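import Mathlib
import Groth.Agent.Lib.Helper19EllIsoA

/-!
# Étale-local isomorphism of Weierstrass curves with equal `j`: the main construction (helper19)
-/

set_option autoImplicit false
universe u
open MvPolynomial Matrix WeierstrassCurve
open Groth.Agent.Lib.Helper19EtaleSys

namespace Groth.Agent.Lib.Helper19EllIso

lemma aeval_sysV {A Ω : Type*} [CommRing A] [CommRing Ω] [Algebra A Ω] (a1 a2 a3 a4 b1 b2 b3 b4 : A)
    (x : Fin 4 → Ω) :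
    (fun i => aeval x (sysV a1 a2 a3 a4 b1 b2 b3 b4 i)) =
    ![algebraMap A Ω b1 * x 0 - (algebraMap A Ω a1 + 2 * x 2),
      algebraMap A Ω b2 * x 0 ^ 2 - (algebraMap A Ω a2 - x 2 * algebraMap A Ω a1 + 3 * x 1 - x 2 ^ 2),
      algebraMap A Ω b3 * x 0 ^ 3 - (algebraMap A Ω a3 + x 1 * algebraMap A Ω a1 + 2 * x 3),
      algebraMap A Ω b4 * x 0 ^ 4 - (algebraMap A Ω a4 - x 2 * algebraMap A Ω a3
        + 2 * x 1 * algebraMap A Ω a2 - (x 3 + x 1 * x 2) * algebraMap A Ω a1 + 3 * x 1 ^ 2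
        - 2 * x 2 * x 3)] := by
  funext i
  fin_cases i <;> simp [sysV] <;> (try simp only [map_ofNat])

lemma aeval_sysH {A Ω : Type*} [CommRing A] [CommRing Ω] [Algebra A Ω] (a1 a2 a3 a4 a6 b6 c6 : A)
    (x : Fin 4 → Ω) :
    aeval x (sysH a1 a2 a3 a4 a6 b6 c6) =
      x 0 * (algebraMap A Ω c6 * x 0 ^ 6 - 432 * ((algebraMap A Ω a6 + x 1 * algebraMap A Ω a4
        + x 1 ^ 2 * algebraMap A Ω a2 + x 1 ^ 3 - x 3 * algebraMap A Ω a3
        - x 3 ^ 2 - x 1 * x 3 * algebraMap A Ω a1) - algebraMap A Ω b6 * x 0 ^ 6)) := by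
  simp [sysH]; (try simp only [map_ofNat])

lemma f1 {K : Type*} [Field K] (a1 u s : K) (hu : u ≠ 0) :
    u⁻¹ * (a1 + 2 * s) * u - (a1 + 2 * s) = 0 := by
  field_simp; ring

lemma f2 {K : Type*} [Field K] (a1 a2 u r s : K) (hu : u ≠ 0) :
    u⁻¹ ^ 2 * (a2 - s * a1 + 3 * r - s ^ 2) * u ^ 2 - (a2 - s * a1 + 3 * r - s ^ 2) = 0 := by
  field_simp; ring

lemma f3 {K : Type*} [Field K] (a1 a3 u r t : K) (hu : u ≠ 0) :
    u⁻¹ ^ 3 * (a3 + r * a1 + 2 * t) * u ^ 3 - (a3 + r * a1 + 2 * t) = 0 := by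
  field_simp; ring

lemma f4 {K : Type*} [Field K] (a1 a2 a3 a4 u r s t : K) (hu : u ≠ 0) :
    u⁻¹ ^ 4 * (a4 - s * a3 + 2 * r * a2 - (t + r * s) * a1 + 3 * r ^ 2 - 2 * s * t) * u ^ 4
      - (a4 - s * a3 + 2 * r * a2 - (t + r * s) * a1 + 3 * r ^ 2 - 2 * s * t) = 0 := by
  field_simp; ring

lemma f6 {K : Type*} [Field K] (c P u : K) (hu : u ≠ 0) :
    u * (c * u ^ 6 - 432 * (P - u⁻¹ ^ 6 * P * u ^ 6)) = u ^ 7 * c := by
  field_simp; ring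

theorem exists_etale_variableChange {A : Type u} [CommRing A] (W₁ W₂ : WeierstrassCurve A)
    [W₁.IsElliptic] [W₂.IsElliptic] (hj : W₁.j = W₂.j) (h0 : IsUnit W₁.j)
    (h1728 : IsUnit (W₁.j - 1728)) (p : Ideal A) [p.IsPrime] :
    ∃ (B : Type u) (_ : CommRing B) (_ : Algebra A B), Algebra.Etale A B ∧
      (∃ q : Ideal B, q.IsPrime ∧ q.comap (algebraMap A B) = p) ∧
      ∃ C : VariableChange B, C • (W₁.map (algebraMap A B)) = W₂.map (algebraMap A B) := by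
  classical
  let Ω := AlgebraicClosure p.ResidueField
  let φ : A →+* Ω := algebraMap A Ω
  have hker : ∀ r, φ r = 0 ↔ r ∈ p := fun r => by
    change algebraMap A Ω r = 0 ↔ _
    rw [IsScalarTower.algebraMap_apply A p.ResidueField Ω, map_eq_zero_iff _
      (algebraMap p.ResidueField Ω).injective, Ideal.algebraMap_residueField_eq_zero]
  have hφu : ∀ {r : A}, IsUnit r → φ r ≠ 0 := fun hr => (hr.map φ).ne_zero
  -- the geometric point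
  have hjΩ : (W₁.map φ).j = (W₂.map φ).j := by rw [map_j, map_j, hj]
  obtain ⟨Cb, hCb⟩ := exists_variableChange_of_j_eq (W₁.map φ) (W₂.map φ) hjΩ
  have hu0 : (Cb.u : Ω) ≠ 0 := Cb.u.ne_zero
  have hinv : ((Cb.u⁻¹ : Ωˣ) : Ω) = (Cb.u : Ω)⁻¹ := Units.val_inv_eq_inv_val _
  have ha₁ : algebraMap A Ω W₂.a₁ = (Cb.u : Ω)⁻¹ * (algebraMap A Ω W₁.a₁ + 2 * Cb.s) := by
    have := congrArg WeierstrassCurve.a₁ hCb
    rw [variableChange_a₁, hinv] at this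
    simpa [φ] using this.symm
  have ha₂ : algebraMap A Ω W₂.a₂ = (Cb.u : Ω)⁻¹ ^ 2 *
      (algebraMap A Ω W₁.a₂ - Cb.s * algebraMap A Ω W₁.a₁ + 3 * Cb.r - Cb.s ^ 2) := by
    have := congrArg WeierstrassCurve.a₂ hCb
    rw [variableChange_a₂, hinv] at this
    simpa [φ] using this.symm
  have ha₃ : algebraMap A Ω W₂.a₃ = (Cb.u : Ω)⁻¹ ^ 3 *
      (algebraMap A Ω W₁.a₃ + Cb.r * algebraMap A Ω W₁.a₁ + 2 * Cb.t) := by
    have := congrArg WeierstrassCurve.a₃ hCb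
    rw [variableChange_a₃, hinv] at this
    simpa [φ] using this.symm
  have ha₄ : algebraMap A Ω W₂.a₄ = (Cb.u : Ω)⁻¹ ^ 4 * (algebraMap A Ω W₁.a₄
      - Cb.s * algebraMap A Ω W₁.a₃ + 2 * Cb.r * algebraMap A Ω W₁.a₂
      - (Cb.t + Cb.r * Cb.s) * algebraMap A Ω W₁.a₁ + 3 * Cb.r ^ 2 - 2 * Cb.s * Cb.t) := by
    have := congrArg WeierstrassCurve.a₄ hCb
    rw [variableChange_a₄, hinv] at this
    simpa [φ] using this.symm
  have ha₆ : algebraMap A Ω W₂.a₆ = (Cb.u : Ω)⁻¹ ^ 6 * (algebraMap A Ω W₁.a₆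
      + Cb.r * algebraMap A Ω W₁.a₄ + Cb.r ^ 2 * algebraMap A Ω W₁.a₂ + Cb.r ^ 3
      - Cb.t * algebraMap A Ω W₁.a₃ - Cb.t ^ 2 - Cb.r * Cb.t * algebraMap A Ω W₁.a₁) := by
    have := congrArg WeierstrassCurve.a₆ hCb
    rw [variableChange_a₆, hinv] at this
    simpa [φ] using this.symm
  let x : Fin 4 → Ω := ![(Cb.u : Ω), Cb.r, Cb.s, Cb.t]
  have hx0 : x 0 = (Cb.u : Ω) := rfl
  have hx1 : x 1 = Cb.r := rfl
  have hx2 : x 2 = Cb.s := rfl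
  have hx3 : x 3 = Cb.t := rfl
  let v := sysV W₁.a₁ W₁.a₂ W₁.a₃ W₁.a₄ W₂.a₁ W₂.a₂ W₂.a₃ W₂.a₄
  let h := sysH W₁.a₁ W₁.a₂ W₁.a₃ W₁.a₄ W₁.a₆ W₂.a₆ W₂.c₆
  have hx : ∀ i, aeval x (v i) = 0 := by
    intro i
    have := congrFun (aeval_sysV W₁.a₁ W₁.a₂ W₁.a₃ W₁.a₄ W₂.a₁ W₂.a₂ W₂.a₃ W₂.a₄ x) i
    change aeval x (v i) = _ at this
    rw [this, hx0, hx1, hx2, hx3, ha₁, ha₂, ha₃, ha₄]
    fin_cases i
    · exact f1 _ _ _ hu0
    · exact f2 _ _ _ _ _ hu0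
    · exact f3 _ _ _ _ _ hu0
    · exact f4 _ _ _ _ _ _ _ _ hu0
  have hjac : (Matrix.of fun i j : Fin 4 => aeval x (pderiv i (v j))).det ≠ 0 := by
    change (Matrix.of fun i j : Fin 4 => aeval x (pderiv i
      (sysV W₁.a₁ W₁.a₂ W₁.a₃ W₁.a₄ W₂.a₁ W₂.a₂ W₂.a₃ W₂.a₄ j))).det ≠ 0
    rw [jacobi_eq, hx0, hx1, hx2, hx3, ha₁, ha₂, ha₃, ha₄, det_explicit _ _ _ _ _ _ _ _ hu0]
    refine mul_ne_zero (inv_ne_zero hu0) ?_
    have hc4 : φ W₁.c₄ ≠ 0 := hφu (isUnit_c₄ W₁ h0)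
    convert hc4 using 1
    simp only [WeierstrassCurve.c₄, WeierstrassCurve.b₂, WeierstrassCurve.b₄, φ, map_sub, map_mul,
      map_pow, map_add, map_ofNat]
  have hh : aeval x h ≠ 0 := by
    change aeval x (sysH W₁.a₁ W₁.a₂ W₁.a₃ W₁.a₄ W₁.a₆ W₂.a₆ W₂.c₆) ≠ 0
    rw [aeval_sysH, hx0, hx1, hx3, ha₆]
    have hc6 : φ W₂.c₆ ≠ 0 := hφu (isUnit_c₆ W₂ (hj ▸ h1728))
    have : (Cb.u : Ω) * (algebraMap A Ω W₂.c₆ * (Cb.u : Ω) ^ 6 - 432 * ((algebraMap A Ω W₁.a₆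
      + Cb.r * algebraMap A Ω W₁.a₄ + Cb.r ^ 2 * algebraMap A Ω W₁.a₂ + Cb.r ^ 3
      - Cb.t * algebraMap A Ω W₁.a₃ - Cb.t ^ 2 - Cb.r * Cb.t * algebraMap A Ω W₁.a₁)
      - (Cb.u : Ω)⁻¹ ^ 6 * (algebraMap A Ω W₁.a₆
      + Cb.r * algebraMap A Ω W₁.a₄ + Cb.r ^ 2 * algebraMap A Ω W₁.a₂ + Cb.r ^ 3
      - Cb.t * algebraMap A Ω W₁.a₃ - Cb.t ^ 2 - Cb.r * Cb.t * algebraMap A Ω W₁.a₁)
        * (Cb.u : Ω) ^ 6)) = (Cb.u : Ω) ^ 7 * φ W₂.c₆ := by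
      exact f6 _ _ _ hu0
    rw [this]
    exact mul_ne_zero (pow_ne_zero _ hu0) hc6
  obtain ⟨B, _, _, hEt, ψ, y, hψy, hy, hyh⟩ := exists_etale_root_system 4 v h Ω x hx hjac hh
  refine ⟨B, inferInstance, inferInstance, hEt, ?_, ?_⟩
  · refine ⟨RingHom.ker ψ.toRingHom, RingHom.ker_isPrime _, ?_⟩
    ext r
    rw [Ideal.mem_comap, RingHom.mem_ker, ← hker]
    change ψ (algebraMap A B r) = 0 ↔ _
    rw [ψ.commutes]
  · have hyV := aeval_sysV W₁.a₁ W₁.a₂ W₁.a₃ W₁.a₄ W₂.a₁ W₂.a₂ W₂.a₃ W₂.a₄ y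
    have e1 : algebraMap A B W₂.a₁ * y 0 - (algebraMap A B W₁.a₁ + 2 * y 2) = 0 := by
      have := congrFun hyV 0
      change aeval y (v 0) = _ at this
      rw [hy 0] at this
      exact this.symm
    have e2 : algebraMap A B W₂.a₂ * y 0 ^ 2 - (algebraMap A B W₁.a₂ - y 2 * algebraMap A B W₁.a₁
        + 3 * y 1 - y 2 ^ 2) = 0 := by
      have := congrFun hyV 1
      change aeval y (v 1) = _ at this
      rw [hy 1] at this
      exact this.symm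
    have e3 : algebraMap A B W₂.a₃ * y 0 ^ 3 - (algebraMap A B W₁.a₃ + y 1 * algebraMap A B W₁.a₁
        + 2 * y 3) = 0 := by
      have := congrFun hyV 2
      change aeval y (v 2) = _ at this
      rw [hy 2] at this
      exact this.symm
    have e4 : algebraMap A B W₂.a₄ * y 0 ^ 4 - (algebraMap A B W₁.a₄ - y 2 * algebraMap A B W₁.a₃
        + 2 * y 1 * algebraMap A B W₁.a₂ - (y 3 + y 1 * y 2) * algebraMap A B W₁.a₁ + 3 * y 1 ^ 2
        - 2 * y 2 * y 3) = 0 := by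
      have := congrFun hyV 3
      change aeval y (v 3) = _ at this
      rw [hy 3] at this
      exact this.symm
    change IsUnit (aeval y (sysH W₁.a₁ W₁.a₂ W₁.a₃ W₁.a₄ W₁.a₆ W₂.a₆ W₂.c₆)) at hyh
    rw [aeval_sysH] at hyh
    have hu : IsUnit (y 0) := isUnit_of_mul_isUnit_left hyh
    have hE' := isUnit_of_mul_isUnit_right hyh
    obtain ⟨uu, huu⟩ := hu
    have hui : ((uu⁻¹ : Bˣ) : B) * y 0 = 1 := by rw [← huu]; exact Units.inv_mul uu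
    have hpow : ∀ k : ℕ, ((uu⁻¹ : Bˣ) : B) ^ k * y 0 ^ k = 1 := fun k => by
      rw [← mul_pow, hui, one_pow]
    let C : VariableChange B := ⟨uu, y 1, y 2, y 3⟩
    refine ⟨C, ?_⟩
    have hΔ : (C • W₁.map (algebraMap A B)).Δ = (W₂.map (algebraMap A B)).Δ := by
      apply Δ_eq_of_j_eq
      · rw [variableChange_a₁]
        simp only [map_a₁, C]
        linear_combination (-((uu⁻¹ : Bˣ) : B)) * e1 + algebraMap A B W₂.a₁ * hui
      · rw [variableChange_a₂]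
        simp only [map_a₁, map_a₂, C]
        linear_combination (-((uu⁻¹ : Bˣ) : B) ^ 2) * e2 + algebraMap A B W₂.a₂ * hpow 2
      · rw [variableChange_a₃]
        simp only [map_a₁, map_a₃, C]
        linear_combination (-((uu⁻¹ : Bˣ) : B) ^ 3) * e3 + algebraMap A B W₂.a₃ * hpow 3
      · rw [variableChange_a₄]
        simp only [map_a₁, map_a₂, map_a₃, map_a₄, C]
        linear_combination (-((uu⁻¹ : Bˣ) : B) ^ 4) * e4 + algebraMap A B W₂.a₄ * hpow 4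
      · rw [variableChange_j, map_j, map_j, hj]
      · rw [map_j, ← hj]; exact h0.map _
    apply eq_of_Δ_eq _ _ _ _ _ _ hΔ
    · rw [variableChange_a₆, map_c₆]
      simp only [map_a₁, map_a₂, map_a₃, map_a₄, map_a₆, C]
      have : algebraMap A B W₂.c₆ - 432 * (((uu⁻¹ : Bˣ) : B) ^ 6 * (algebraMap A B W₁.a₆
          + y 1 * algebraMap A B W₁.a₄ + y 1 ^ 2 * algebraMap A B W₁.a₂ + y 1 ^ 3
          - y 3 * algebraMap A B W₁.a₃ - y 3 ^ 2 - y 1 * y 3 * algebraMap A B W₁.a₁)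
          - algebraMap A B W₂.a₆) = ((uu⁻¹ : Bˣ) : B) ^ 6 * (algebraMap A B W₂.c₆ * y 0 ^ 6
          - 432 * ((algebraMap A B W₁.a₆ + y 1 * algebraMap A B W₁.a₄
          + y 1 ^ 2 * algebraMap A B W₁.a₂ + y 1 ^ 3 - y 3 * algebraMap A B W₁.a₃
          - y 3 ^ 2 - y 1 * y 3 * algebraMap A B W₁.a₁) - algebraMap A B W₂.a₆ * y 0 ^ 6)) := by
        linear_combination (-(algebraMap A B W₂.c₆) - 432 * algebraMap A B W₂.a₆) * hpow 6
      rw [this]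
      exact ((uu⁻¹).isUnit.pow 6).mul hE'
    · rw [variableChange_a₁]
      simp only [map_a₁, C]
      linear_combination (-((uu⁻¹ : Bˣ) : B)) * e1 + algebraMap A B W₂.a₁ * hui
    · rw [variableChange_a₂]
      simp only [map_a₁, map_a₂, C]
      linear_combination (-((uu⁻¹ : Bˣ) : B) ^ 2) * e2 + algebraMap A B W₂.a₂ * hpow 2
    · rw [variableChange_a₃]
      simp only [map_a₁, map_a₃, C]
      linear_combination (-((uu⁻¹ : Bˣ) : B) ^ 3) * e3 + algebraMap A B W₂.a₃ * hpow 3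
    · rw [variableChange_a₄]
      simp only [map_a₁, map_a₂, map_a₃, map_a₄, C]
      linear_combination (-((uu⁻¹ : Bˣ) : B) ^ 4) * e4 + algebraMap A B W₂.a₄ * hpow 4

end Groth.Agent.Lib.Helper19EllIso
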