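import Mathlib
import Groth.Prelude.Def_CotT

/-!
# The second cotangent module of a surjection `S → B` with chosen generators of the kernel

Abstract version (no polynomial ring, no base ring) of the Prelude's `CotT.L1`, `CotT.L2`,
`CotT.d2`, `CotT.T2`, together with an API describing `B`-linear maps out of `L1`, `L2` through
`S`-linear maps out of the free module `F = σ →₀ S` and the relation module `Q`.
-/

set_option autoImplicit false
set_option linter.unusedSectionVars false
universe u v w t m

open TensorProduct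

namespace Groth.Agent.Lib.Helper19.Kos

section defs

variable (S : Type u) (B : Type v) [CommRing S] [CommRing B] [Algebra S B] {σ : Type t}
  (f : σ → S)

/-- `j : F → S`, `e_s ↦ f s`. -/
noncomputable def jm : (σ →₀ S) →ₗ[S] S := Finsupp.linearCombination S f

@[simp] lemma jm_single (s : σ) (r : S) : jm S f (Finsupp.single s r) = r * f s := by
  simp [jm, Finsupp.linearCombination_single]

/-- the relation module -/
noncomputable def Q : Submodule S (σ →₀ S) := LinearMap.ker (jm S f)

lemma mem_Q (x : σ →₀ S) : x ∈ Q S f ↔ jm S f x = 0 := LinearMap.mem_ker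

/-- the trivial (Koszul) relations -/
noncomputable def F0 : Submodule S (σ →₀ S) :=
  Submodule.span S {y | ∃ a b : σ →₀ S, y = jm S f a • b - jm S f b • a}

lemma F0_le_Q : F0 S f ≤ Q S f := by
  refine Submodule.span_le.mpr ?_
  rintro _ ⟨a, b, rfl⟩
  simp [Q, jm, mul_comm]

lemma kos_mem_F0 (a b : σ →₀ S) : jm S f a • b - jm S f b • a ∈ F0 S f :=
  Submodule.subset_span ⟨a, b, rfl⟩

/-- the trivial relations inside the relation module -/
noncomputable def F0Q : Submodule S (Q S f) := (F0 S f).comap (Q S f).subtype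

lemma mem_F0Q (q : Q S f) : q ∈ F0Q S f ↔ (q : σ →₀ S) ∈ F0 S f := Iff.rfl

/-- `L₁ = B ⊗ F` -/
abbrev L1 : Type _ := B ⊗[S] (σ →₀ S)

/-- `L₂ = (B ⊗ Q)/(B ⊗ F₀)` -/
abbrev L2 : Type _ :=
  (B ⊗[S] (Q S f)) ⧸ LinearMap.range ((F0Q S f).subtype.baseChange B)

variable {S B f}

lemma algebraMap_jm (hf : ∀ s, algebraMap S B (f s) = 0) (x : σ →₀ S) :
    algebraMap S B (jm S f x) = 0 := by
  induction x using Finsupp.induction_linear with
  | zero => simp
  | add x y hx hy => rw [map_add, map_add, hx, hy, add_zero]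
  | single s r => rw [jm_single, map_mul, hf, mul_zero]

lemma one_tmul_eq_zero_of_mem_F0 (hf : ∀ s, algebraMap S B (f s) = 0) (y : σ →₀ S)
    (hy : y ∈ F0 S f) : (1 : B) ⊗ₜ[S] y = (0 : L1 S B (σ := σ)) := by
  have : F0 S f ≤ LinearMap.ker (TensorProduct.mk S B (σ →₀ S) 1) := by
    refine Submodule.span_le.mpr ?_
    rintro _ ⟨a, b, rfl⟩
    simp only [SetLike.mem_coe, LinearMap.mem_ker, map_sub, map_smul, TensorProduct.mk_apply]
    rw [TensorProduct.smul_tmul', TensorProduct.smul_tmul', Algebra.smul_def, Algebra.smul_def,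
      algebraMap_jm hf, algebraMap_jm hf, zero_mul, TensorProduct.zero_tmul,
      TensorProduct.zero_tmul, sub_zero]
  exact this hy

lemma range_F0Q_baseChange_le (hf : ∀ s, algebraMap S B (f s) = 0) :
    LinearMap.range ((F0Q S f).subtype.baseChange B) ≤
      LinearMap.ker ((Q S f).subtype.baseChange B) := by
  rw [LinearMap.range_le_ker_iff]
  refine TensorProduct.AlgebraTensorModule.ext fun b k => ?_
  simp only [LinearMap.coe_comp, Function.comp_apply, LinearMap.baseChange_tmul,
    Submodule.coe_subtype, LinearMap.zero_apply]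
  have hk : ((k : Q S f) : σ →₀ S) ∈ F0 S f := k.2
  rw [← mul_one b, ← smul_eq_mul, ← TensorProduct.smul_tmul',
    one_tmul_eq_zero_of_mem_F0 hf _ hk, smul_zero]

/-- `d₂ : L₂ → L₁` -/
noncomputable def d2 (hf : ∀ s, algebraMap S B (f s) = 0) : L2 S B f →ₗ[B] L1 S B (σ := σ) :=
  Submodule.liftQ _ ((Q S f).subtype.baseChange B) (range_F0Q_baseChange_le hf)

@[simp] lemma d2_mk_tmul (hf : ∀ s, algebraMap S B (f s) = 0) (b : B) (q : Q S f) :
    d2 hf (Submodule.Quotient.mk (b ⊗ₜ q)) = b ⊗ₜ (q : σ →₀ S) := by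
  simp [d2]

variable (S B f) in
/-- `T² = Hom(L₂, M)/Hom(L₁, M)` -/
abbrev T2 (hf : ∀ s, algebraMap S B (f s) = 0) (M : Type m) [AddCommGroup M] [Module B M] :
    Type _ :=
  (L2 S B f →ₗ[B] M) ⧸ LinearMap.range (LinearMap.lcomp B M (d2 hf))

end defs

section bridge

variable {A : Type u} {B : Type v} {ι : Type w} {σ : Type t}
variable [CommRing A] [CommRing B] [Algebra A B]
variable (P : Algebra.Presentation A B ι σ)

/-- The Prelude's `T²` is the abstract one. -/
noncomputable def bridge (M : Type m) [AddCommGroup M] [Module B M] :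
    CotT.T2 P M ≃ₗ[B] T2 P.toExtension.Ring B (CotT.rel P) (CotT.algebraMap_rel P) M :=
  LinearEquiv.refl B _

end bridge

end Groth.Agent.Lib.Helper19.Kos
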