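import Mathlib
import Groth.Agent.Lib.Helper19DefGlueB
import Groth.Agent.Lib.Helper19RigidA
import Groth.Agent.Lib.Helper19KosDefs
import Groth.Agent.Lib.Helper5FlatKer

/-!
# Equation lifting I: presenting a ring-level deformation by lifted equations (helper19)

For a presentation `P : B₀ = k[X]/(f_s)` and a ring-level deformation `(E, ρ)` of `B₀` over an
augmented ring `(A, res)` with nilpotent augmentation ideal, we construct a surjection
`π : A[X] → E` lifting the presentation, lifts `F_s` of the relations generating `ker π`, and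
show that relations among the `f_s` lift to relations among the `F_s`.
-/

set_option autoImplicit false
set_option linter.unusedSectionVars false
universe u v w

open TensorProduct

namespace Groth.Agent.Lib.Helper19.EqLift

open Groth.Agent.Lib.Helper19.DefGlue Groth.Agent.Lib.Helper19.Kos

section mr

variable {S : Type v} {T : Type w} [CommRing S] [CommRing T] {σ : Type u}

/-- coefficientwise application of a ring homomorphism to a finitely supported family -/
noncomputable def mr (φ : S →+* T) : (σ →₀ S) →+ (σ →₀ T) :=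
  Finsupp.mapRange.addMonoidHom (φ : S →+ T)

@[simp] lemma mr_apply (φ : S →+* T) (c : σ →₀ S) (s : σ) : mr φ c s = φ (c s) := rfl

lemma mr_smul (φ : S →+* T) (g : S) (c : σ →₀ S) : mr φ (g • c) = φ g • mr φ c := by
  ext s
  simp

lemma mr_single (φ : S →+* T) (s : σ) (x : S) :
    mr φ (Finsupp.single s x) = Finsupp.single s (φ x) := by
  classical
  ext s'
  rw [mr_apply, Finsupp.single_apply, Finsupp.single_apply]
  split_ifs
  · rfl
  · exact map_zero φ

lemma mr_surjective (φ : S →+* T) (hφ : Function.Surjective φ) :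
    Function.Surjective (mr φ : (σ →₀ S) → (σ →₀ T)) := by
  intro c
  induction c using Finsupp.induction_linear with
  | zero => exact ⟨0, map_zero _⟩
  | add x y hx hy =>
    obtain ⟨x', rfl⟩ := hx
    obtain ⟨y', rfl⟩ := hy
    exact ⟨x' + y', map_add _ _ _⟩
  | single s t =>
    obtain ⟨x, rfl⟩ := hφ t
    exact ⟨Finsupp.single s x, mr_single φ s x⟩

lemma jm_mr (φ : S →+* T) (F : σ → S) (c : σ →₀ S) :
    φ (jm S F c) = jm T (fun s => φ (F s)) (mr φ c) := by
  induction c using Finsupp.induction_linear with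
  | zero => simp
  | add x y hx hy => rw [map_add, map_add, map_add, map_add, hx, hy]
  | single s t => rw [mr_single, jm_single, jm_single, map_mul]

lemma mr_eq_zero_iff (φ : S →+* T) (c : σ →₀ S) : mr φ c = 0 ↔ ∀ s, c s ∈ RingHom.ker φ := by
  constructor
  · intro h s
    rw [RingHom.mem_ker, ← mr_apply, h]
    rfl
  · intro h
    ext s
    rw [mr_apply]
    exact h s

lemma mr_comp {U : Type*} [CommRing U] (φ : S →+* T) (ψ : T →+* U) (c : σ →₀ S) :
    mr ψ (mr φ c) = mr (ψ.comp φ) c := by
  ext s
  rfl

/-- `jm` lands in the ideal generated by the family -/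
lemma jm_mem_span (F : σ → S) (c : σ →₀ S) : jm S F c ∈ Ideal.span (Set.range F) := by
  induction c using Finsupp.induction_linear with
  | zero => simp
  | add x y hx hy =>
    rw [map_add]
    exact Ideal.add_mem _ hx hy
  | single s t =>
    rw [jm_single]
    exact Ideal.mul_mem_left _ _ (Ideal.subset_span ⟨s, rfl⟩)

/-- every element of the ideal generated by the family is a value of `jm` -/
lemma exists_jm_eq (F : σ → S) (x : S) (hx : x ∈ Ideal.span (Set.range F)) :
    ∃ c : σ →₀ S, jm S F c = x := by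
  obtain ⟨c, hc⟩ := (Finsupp.mem_span_range_iff_exists_finsupp).1 hx
  refine ⟨c, ?_⟩
  rw [← hc, jm, Finsupp.linearCombination_apply]

/-- coefficients in an ideal `𝔞` give a value in `𝔞 * span F` -/
lemma jm_mem_mul (F : σ → S) (𝔞 : Ideal S) (c : σ →₀ S) (hc : ∀ s, c s ∈ 𝔞) :
    jm S F c ∈ 𝔞 * Ideal.span (Set.range F) := by
  rw [jm, Finsupp.linearCombination_apply, Finsupp.sum]
  refine Ideal.sum_mem _ fun s _ => ?_
  rw [smul_eq_mul]
  exact Ideal.mul_mem_mul (hc s) (Ideal.subset_span ⟨s, rfl⟩)

/-- elements of `𝔞 * span F` are values of `jm` on families with coefficients in `𝔞` -/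
lemma exists_jm_eq_of_mem_mul (F : σ → S) (𝔞 : Ideal S) (x : S)
    (hx : x ∈ 𝔞 * Ideal.span (Set.range F)) :
    ∃ c : σ →₀ S, (∀ s, c s ∈ 𝔞) ∧ jm S F c = x := by
  refine Submodule.mul_induction_on hx ?_ ?_
  · intro a ha y hy
    obtain ⟨c, rfl⟩ := exists_jm_eq F y hy
    refine ⟨a • c, fun s => ?_, ?_⟩
    · rw [Finsupp.smul_apply, smul_eq_mul]
      exact Ideal.mul_mem_right _ _ ha
    · rw [map_smul, smul_eq_mul]
  · rintro x y ⟨c, hc, rfl⟩ ⟨d, hd, rfl⟩
    exact ⟨c + d, fun s => by rw [Finsupp.add_apply]; exact Ideal.add_mem _ (hc s) (hd s),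
      map_add _ _ _⟩

end mr

section nak

variable {R M : Type*} [CommRing R] [AddCommGroup M] [Module R M]

/-- Nakayama for nilpotent ideals, submodule form -/
lemma le_of_le_sup_smul_of_nilpotent (I : Ideal R) (hI : IsNilpotent I) (N K : Submodule R M)
    (h : K ≤ N ⊔ I • K) : K ≤ N := by
  obtain ⟨n, hn⟩ := hI
  have key : ∀ n : ℕ, K ≤ N ⊔ I ^ n • K := by
    intro n
    induction n with
    | zero =>
      rw [pow_zero, Ideal.one_eq_top, Submodule.top_smul]
      exact le_sup_right
    | succ n ih =>
      calc K ≤ N ⊔ I • K := h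
        _ ≤ N ⊔ I • (N ⊔ I ^ n • K) := sup_le_sup le_rfl (Submodule.smul_mono le_rfl ih)
        _ = N ⊔ (I • N ⊔ I • (I ^ n • K)) := by rw [Submodule.smul_sup]
        _ ≤ N ⊔ I ^ (n + 1) • K := by
            refine sup_le le_sup_left (sup_le ?_ ?_)
            · exact le_trans Submodule.smul_le_right le_sup_left
            · rw [← Submodule.mul_smul, ← pow_succ']
              exact le_sup_right
  have h1 := key n
  rwa [hn, Ideal.zero_eq_bot, Submodule.bot_smul, sup_bot_eq] at h1

end nak

section presentA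

variable {k B₀ : Type u} [Field k] [CommRing B₀] [Algebra k B₀] {ι σ : Type u}
  (P : Algebra.Presentation k B₀ ι σ)
  {A : Type u} [CommRing A] (res : A →+* k)
  {E : Type u} [CommRing E] [Algebra A E] {ρ : E →+* B₀}

/-- reduction of polynomials along the augmentation -/
noncomputable def rd : MvPolynomial ι A →+* P.toExtension.Ring := MvPolynomial.map res

lemma ker_rd : RingHom.ker (rd P res) = (RingHom.ker res).map MvPolynomial.C :=
  MvPolynomial.ker_map res

lemma rd_surjective (hres : Function.Surjective res) : Function.Surjective (rd P res) :=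
  MvPolynomial.map_surjective res hres

lemma rd_C (a : A) : rd P res (MvPolynomial.C a) = (MvPolynomial.C (res a) : MvPolynomial ι k) :=
  MvPolynomial.map_C res a

lemma rd_X (i : ι) : rd P res (MvPolynomial.X i) = (MvPolynomial.X i : MvPolynomial ι k) :=
  MvPolynomial.map_X res i

/-- the structure map `k[X] → B₀` of the presentation -/
noncomputable abbrev pi0 : P.toExtension.Ring →+* B₀ := algebraMap P.toExtension.Ring B₀

lemma pi0_C (c : k) : pi0 P (MvPolynomial.C c : MvPolynomial ι k) = algebraMap k B₀ c := by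
  change algebraMap P.toExtension.Ring B₀ _ = _
  rw [CotT.algebraMap_toExtension]
  exact MvPolynomial.aeval_C _ c

lemma pi0_X (i : ι) : pi0 P (MvPolynomial.X i : MvPolynomial ι k) = P.val i := by
  change algebraMap P.toExtension.Ring B₀ _ = _
  rw [CotT.algebraMap_toExtension]
  exact MvPolynomial.aeval_X _ i

lemma pi0_surjective : Function.Surjective (pi0 P) := P.algebraMap_surjective

lemma ker_pi0 : RingHom.ker (pi0 P) = Ideal.span (Set.range (CotT.rel P)) :=
  P.span_range_relation_eq_ker.symm

/-- a presentation of a ring-level deformation lifting `P` -/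
structure Pres (ρ : E →+* B₀) where
  π : MvPolynomial ι A →ₐ[A] E
  surj : Function.Surjective π
  compat : ∀ x, ρ (π x) = pi0 P (rd P res x)

variable {P res}

theorem exists_pres (hres : Function.Surjective res) (hnil : IsNilpotent (RingHom.ker res))
    (hD : IsDefo res ρ) : Nonempty (Pres P res ρ) := by
  choose e he using fun i => hD.hs (P.val i)
  let π : MvPolynomial ι A →ₐ[A] E := MvPolynomial.aeval e
  have hcompat : ρ.comp (π : MvPolynomial ι A →+* E) = (pi0 P).comp (rd P res) := by
    apply MvPolynomial.ringHom_ext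
    · intro a
      rw [RingHom.comp_apply, RingHom.comp_apply, rd_C, pi0_C]
      change ρ (MvPolynomial.aeval e (MvPolynomial.C a)) = _
      rw [MvPolynomial.aeval_C, hD.hc]
    · intro i
      rw [RingHom.comp_apply, RingHom.comp_apply, rd_X, pi0_X]
      change ρ (MvPolynomial.aeval e (MvPolynomial.X i)) = _
      rw [MvPolynomial.aeval_X, he]
  have hc : ∀ x, ρ (π x) = pi0 P (rd P res x) := fun x => RingHom.congr_fun hcompat x
  refine ⟨⟨π, ?_, hc⟩⟩
  refine Rigid.surjective_of_nilpotent (RingHom.ker res) hnil π.toLinearMap ?_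
  intro y
  obtain ⟨g, hg⟩ := pi0_surjective P (ρ y)
  obtain ⟨G, rfl⟩ := rd_surjective P res hres g
  refine ⟨G, ?_⟩
  have h1 : y - π G ∈ RingHom.ker ρ := by
    rw [RingHom.mem_ker, map_sub, hc, hg, sub_self]
  rw [hD.hk] at h1
  rw [Ideal.smul_top_eq_map]
  exact h1

variable (p : Pres P res ρ)

/-- the kernel of the augmentation, extended to `E`, is the image of its extension to `A[X]` -/
lemma map_ker_res_eq (p : Pres P res ρ) : (RingHom.ker res).map (algebraMap A E) =
    ((RingHom.ker (rd P res)).map (p.π : MvPolynomial ι A →+* E)) := by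
  rw [ker_rd, Ideal.map_map]
  congr 1
  ext a
  exact (p.π.commutes a).symm

theorem exists_rel_lift (hres : Function.Surjective res) (hD : IsDefo res ρ) (p : Pres P res ρ) :
    ∃ F : σ → MvPolynomial ι A, (∀ s, p.π (F s) = 0) ∧ ∀ s, rd P res (F s) = CotT.rel P s := by
  have key : ∀ s, ∃ F : MvPolynomial ι A, p.π F = 0 ∧ rd P res F = CotT.rel P s := by
    intro s
    obtain ⟨G, hG⟩ := rd_surjective P res hres (CotT.rel P s)
    have h1 : p.π G ∈ RingHom.ker ρ := by
      rw [RingHom.mem_ker, p.compat, hG]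
      exact CotT.algebraMap_rel P s
    rw [hD.hk, map_ker_res_eq p] at h1
    obtain ⟨G₁, hG₁, hG₁'⟩ := (Ideal.mem_map_iff_of_surjective (p.π : MvPolynomial ι A →+* E)
      p.surj).1 h1
    refine ⟨G - G₁, ?_, ?_⟩
    · rw [map_sub]
      exact sub_eq_zero.2 hG₁'.symm
    · rw [map_sub, hG, (RingHom.mem_ker).1 hG₁, sub_zero]
  choose F hF1 hF2 using key
  exact ⟨F, hF1, hF2⟩

/-- elements of `ker π` reducing to zero lie in `𝔪 • ker π` -/
theorem mem_smul_ker (hD : IsDefo res ρ) (p : Pres P res ρ)
    (x : MvPolynomial ι A) (h1 : p.π x = 0) (h2 : rd P res x = 0) :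
    x ∈ (RingHom.ker res) • LinearMap.ker p.π.toLinearMap := by
  haveI := hD.flat
  have hx : x ∈ LinearMap.ker p.π.toLinearMap ⊓
      ((RingHom.ker res) • ⊤ : Submodule A (MvPolynomial ι A)) := by
    refine ⟨h1, ?_⟩
    rw [Ideal.smul_top_eq_map]
    change x ∈ Ideal.map (algebraMap A (MvPolynomial ι A)) (RingHom.ker res)
    rw [MvPolynomial.algebraMap_eq, ← ker_rd P res]
    exact h2
  rwa [LinearMap.ker_inf_smul_top_eq_smul_of_flat (RingHom.ker res) p.π.toLinearMap p.surj] at hx

/-- elements of `ker π` reducing to zero lie in `(ker rd) * ker π` -/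
theorem mem_mul_of_pi_eq_zero_of_rd_eq_zero (hD : IsDefo res ρ) (p : Pres P res ρ)
    (x : MvPolynomial ι A) (h1 : p.π x = 0) (h2 : rd P res x = 0) :
    x ∈ RingHom.ker (rd P res) * RingHom.ker (p.π : MvPolynomial ι A →+* E) := by
  refine Submodule.smul_induction_on (mem_smul_ker hD p x h1 h2) ?_ ?_
  · intro a ha y hy
    rw [Algebra.smul_def, MvPolynomial.algebraMap_eq]
    refine Ideal.mul_mem_mul ?_ hy
    rw [RingHom.mem_ker, rd_C, (RingHom.mem_ker).1 ha]
    exact map_zero _
  · intro y z hy hz
    exact Ideal.add_mem _ hy hz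

theorem ker_eq_span (hres : Function.Surjective res) (hnil : IsNilpotent (RingHom.ker res))
    (hD : IsDefo res ρ) (p : Pres P res ρ) (F : σ → MvPolynomial ι A) (hF1 : ∀ s, p.π (F s) = 0)
    (hF2 : ∀ s, rd P res (F s) = CotT.rel P s) :
    RingHom.ker (p.π : MvPolynomial ι A →+* E) = Ideal.span (Set.range F) := by
  apply le_antisymm
  · have key : LinearMap.ker p.π.toLinearMap ≤ (Ideal.span (Set.range F)).restrictScalars A := by
      apply le_of_le_sup_smul_of_nilpotent (RingHom.ker res) hnil
      intro x hx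
      have hx0 : p.π x = 0 := hx
      have h1 : rd P res x ∈ RingHom.ker (pi0 P) := by
        rw [RingHom.mem_ker, ← p.compat, hx0, map_zero]
      rw [ker_pi0] at h1
      obtain ⟨c₀, hc₀⟩ := exists_jm_eq (CotT.rel P) _ h1
      obtain ⟨c, rfl⟩ := mr_surjective (rd P res) (rd_surjective P res hres) c₀
      have hy : jm (MvPolynomial ι A) F c ∈ Ideal.span (Set.range F) := jm_mem_span F c
      have hy0 : p.π (jm (MvPolynomial ι A) F c) = 0 := by
        have : Ideal.span (Set.range F) ≤ RingHom.ker (p.π : MvPolynomial ι A →+* E) := by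
          rw [Ideal.span_le]
          rintro _ ⟨s, rfl⟩
          exact hF1 s
        exact this hy
      have hrd : rd P res (x - jm (MvPolynomial ι A) F c) = 0 := by
        rw [map_sub, jm_mr, ← hc₀]
        have : (fun s => rd P res (F s)) = CotT.rel P := funext hF2
        rw [this, sub_self]
      have h3 : x - jm (MvPolynomial ι A) F c ∈
          (RingHom.ker res) • LinearMap.ker p.π.toLinearMap :=
        mem_smul_ker hD p _ (by rw [map_sub, hx0, hy0, sub_zero]) hrd
      have : x = jm (MvPolynomial ι A) F c + (x - jm (MvPolynomial ι A) F c) := by ring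
      rw [this]
      exact Submodule.add_mem _ (Submodule.mem_sup_left hy) (Submodule.mem_sup_right h3)
    intro x hx
    exact key hx
  · rw [Ideal.span_le]
    rintro _ ⟨s, rfl⟩
    exact hF1 s

/-- relations among the `f_s` lift to relations among the `F_s` -/
theorem exists_relation_lift (hres : Function.Surjective res)
    (hnil : IsNilpotent (RingHom.ker res)) (hD : IsDefo res ρ) (p : Pres P res ρ)
    (F : σ → MvPolynomial ι A) (hF1 : ∀ s, p.π (F s) = 0)
    (hF2 : ∀ s, rd P res (F s) = CotT.rel P s)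
    (c₀ : σ →₀ P.toExtension.Ring) (hc₀ : jm P.toExtension.Ring (CotT.rel P) c₀ = 0) :
    ∃ c : σ →₀ MvPolynomial ι A, mr (rd P res) c = c₀ ∧ jm (MvPolynomial ι A) F c = 0 := by
  obtain ⟨c', rfl⟩ := mr_surjective (rd P res) (rd_surjective P res hres) c₀
  have hker := ker_eq_span hres hnil hD p F hF1 hF2
  have hF : (fun s => rd P res (F s)) = CotT.rel P := funext hF2
  have h1 : p.π (jm (MvPolynomial ι A) F c') = 0 := by
    have : jm (MvPolynomial ι A) F c' ∈ RingHom.ker (p.π : MvPolynomial ι A →+* E) := by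
      rw [hker]
      exact jm_mem_span F c'
    exact this
  have h2 : rd P res (jm (MvPolynomial ι A) F c') = 0 := by
    rw [jm_mr, hF]
    exact hc₀
  have h3 := mem_mul_of_pi_eq_zero_of_rd_eq_zero hD p _ h1 h2
  rw [hker] at h3
  obtain ⟨μ, hμ1, hμ2⟩ := exists_jm_eq_of_mem_mul F _ _ h3
  refine ⟨c' - μ, ?_, ?_⟩
  · rw [map_sub, (mr_eq_zero_iff (rd P res) μ).2 hμ1, sub_zero]
  · rw [map_sub, hμ2, sub_self]

/-- the kernel of the presentation is flat over the base -/
theorem flat_ker (hD : IsDefo res ρ) (p : Pres P res ρ) :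
    Module.Flat A (LinearMap.ker p.π.toLinearMap) := by
  haveI := hD.flat
  exact Groth.Agent.Lib.Helper5.flat_of_exact_of_flat_of_flat
    (LinearMap.ker p.π.toLinearMap).subtype p.π.toLinearMap
    (Submodule.subtype_injective _) p.surj (LinearMap.exact_subtype_ker_map _)

end presentA

end Groth.Agent.Lib.Helper19.EqLift
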