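import Groth.Agent.Lib.Helper19EqLiftA

/-!
# Equation lifting II: the obstruction map of a small extension (helper19)

Given a small extension `A' → A` with kernel `(t)`, a presented deformation `A[X]/(F_s)` over `A`
and arbitrary lifts `F'_s` of the equations to `A'[X]`, every relation `c₀` among the `f_s` lifts to
a family `c'` with `∑ c'_s F'_s = t · y`; the class of `y` in `B₀` only depends on `c₀`.
-/

set_option autoImplicit false
set_option linter.unusedSectionVars false
universe u

open TensorProduct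

namespace Groth.Agent.Lib.Helper19.EqLift

open Groth.Agent.Lib.Helper19.DefGlue Groth.Agent.Lib.Helper19.Kos

variable {k B₀ : Type u} [Field k] [CommRing B₀] [Algebra k B₀] {ι σ : Type u}
  {P : Algebra.Presentation k B₀ ι σ}
  {A' A : Type u} [CommRing A'] [CommRing A] {res' : A' →+* k} {res : A →+* k} {pr : A' →+* A}
  {t : A'} {E : Type u} [CommRing E] [Algebra A E] {ρ : E →+* B₀}

/-- the data of a presented deformation over the target of a small extension -/
structure Data (P : Algebra.Presentation k B₀ ι σ) (res' : A' →+* k) (res : A →+* k)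
    (pr : A' →+* A) (t : A') (ρ : E →+* B₀) where
  hpr : Function.Surjective pr
  hres : ∀ a, res (pr a) = res' a
  hres' : Function.Surjective res'
  hker : RingHom.ker pr = Ideal.span {t}
  hann : ∀ a : A', a * t = 0 ↔ a ∈ RingHom.ker res'
  hnil : IsNilpotent (RingHom.ker res)
  hD : IsDefo res ρ
  p : Pres P res ρ
  F : σ → MvPolynomial ι A
  hF1 : ∀ s, p.π (F s) = 0
  hF2 : ∀ s, rd P res (F s) = CotT.rel P s

namespace Data

variable (D : Data P res' res pr t ρ)

/-- reduction of polynomials along the small extension -/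
noncomputable def qd (_ : Data P res' res pr t ρ) : MvPolynomial ι A' →+* MvPolynomial ι A :=
  MvPolynomial.map pr

include D in
lemma hsurj : Function.Surjective res := by
  intro c
  obtain ⟨a, rfl⟩ := D.hres' c
  exact ⟨pr a, D.hres a⟩

lemma qd_surjective : Function.Surjective D.qd := MvPolynomial.map_surjective pr D.hpr

lemma qd_C (a : A') : D.qd (MvPolynomial.C a) = MvPolynomial.C (pr a) := MvPolynomial.map_C pr a

lemma rd_qd (x : MvPolynomial ι A') : rd P res (D.qd x) = rd P res' x := by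
  change MvPolynomial.map res (MvPolynomial.map pr x) = MvPolynomial.map res' x
  rw [MvPolynomial.map_map]
  have : res.comp pr = res' := RingHom.ext D.hres
  rw [this]

include D in
lemma ht : t ∈ RingHom.ker res' := by
  rw [RingHom.mem_ker, ← D.hres]
  have : t ∈ RingHom.ker pr := by
    rw [D.hker]
    exact Ideal.mem_span_singleton_self t
  rw [(RingHom.mem_ker).1 this, map_zero]

lemma ker_qd : RingHom.ker D.qd = Ideal.span {(MvPolynomial.C t : MvPolynomial ι A')} := by
  change RingHom.ker (MvPolynomial.map pr : MvPolynomial ι A' →+* MvPolynomial ι A) = _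
  rw [MvPolynomial.ker_map, D.hker, Ideal.map_span, Set.image_singleton]

include D in
lemma C_t_mul_eq_zero_iff (y : MvPolynomial ι A') :
    (MvPolynomial.C t : MvPolynomial ι A') * y = 0 ↔ rd P res' y = 0 := by
  change _ ↔ MvPolynomial.map res' y = 0
  rw [MvPolynomial.ext_iff, MvPolynomial.ext_iff]
  refine forall_congr' fun m => ?_
  rw [MvPolynomial.coeff_C_mul, MvPolynomial.coeff_map, MvPolynomial.coeff_zero,
    MvPolynomial.coeff_zero, mul_comm, D.hann]
  rfl

include D in
lemma rd_C_t : rd P res' (MvPolynomial.C t : MvPolynomial ι A') = 0 := by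
  rw [rd_C, (RingHom.mem_ker).1 D.ht]
  exact map_zero _

include D in
lemma mul_t_eq_zero (a : A') (ha : a ∈ RingHom.ker res') : a * t = 0 := (D.hann a).2 ha

section lifts

variable (F' : σ → MvPolynomial ι A') (hF' : ∀ s, D.qd (F' s) = D.F s)

include hF' in
lemma rd_F' (s : σ) : rd P res' (F' s) = CotT.rel P s := by
  rw [← D.rd_qd, hF', D.hF2]

include hF' in
lemma pi_qd_eq_zero (y : MvPolynomial ι A') (hy : y ∈ Ideal.span (Set.range F')) :
    D.p.π (D.qd y) = 0 := by
  have h : Ideal.span (Set.range F') ≤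
      RingHom.ker ((D.p.π : MvPolynomial ι A →+* E).comp D.qd) := by
    rw [Ideal.span_le]
    rintro _ ⟨s, rfl⟩
    rw [SetLike.mem_coe, RingHom.mem_ker, RingHom.comp_apply, hF']
    exact D.hF1 s
  exact h hy

include hF' in
lemma pi0_rd_eq_zero (y : MvPolynomial ι A') (hy : y ∈ Ideal.span (Set.range F')) :
    pi0 P (rd P res' y) = 0 := by
  rw [← D.rd_qd, ← D.p.compat, pi_qd_eq_zero D F' hF' y hy, map_zero]

include hF' in
/-- `qd` maps the ideal of the lifted equations onto the kernel of the presentation -/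
lemma exists_lift_of_mem_ker (y : MvPolynomial ι A) (hy : D.p.π y = 0) :
    ∃ y' ∈ Ideal.span (Set.range F'), D.qd y' = y := by
  have hker := ker_eq_span D.hsurj D.hnil D.hD D.p D.F D.hF1 D.hF2
  have hy' : y ∈ Ideal.span (Set.range D.F) := by
    rw [← hker]
    exact hy
  obtain ⟨c, rfl⟩ := exists_jm_eq D.F y hy'
  obtain ⟨c', rfl⟩ := mr_surjective D.qd D.qd_surjective c
  refine ⟨jm (MvPolynomial ι A') F' c', jm_mem_span F' c', ?_⟩
  rw [jm_mr]
  have : (fun s => D.qd (F' s)) = D.F := funext hF'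
  rw [this]

lemma qd_smul (a : A') (h : MvPolynomial ι A') : D.qd (a • h) = pr a • D.qd h := by
  rw [Algebra.smul_def, Algebra.smul_def, map_mul, MvPolynomial.algebraMap_eq,
    MvPolynomial.algebraMap_eq, D.qd_C]

/-- elements of `(ker rd') * I'` are `𝔪'`-combinations of elements of `I'` -/
lemma mem_smul_of_mem_mul (I' : Ideal (MvPolynomial ι A')) (x : MvPolynomial ι A')
    (hx : x ∈ RingHom.ker (rd P res') * I') :
    x ∈ (RingHom.ker res') • (I'.restrictScalars A') := by
  refine Submodule.mul_induction_on hx ?_ ?_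
  · intro u hu h hh
    rw [ker_rd] at hu
    revert h
    refine Submodule.span_induction ?_ ?_ ?_ ?_ hu
    · rintro _ ⟨a, ha, rfl⟩ h hh
      have : (MvPolynomial.C a : MvPolynomial ι A') * h = a • h := by
        rw [Algebra.smul_def, MvPolynomial.algebraMap_eq]
      rw [this]
      exact Submodule.smul_mem_smul ha hh
    · intro h _
      rw [zero_mul]
      exact Submodule.zero_mem _
    · intro u v _ _ hu hv h hh
      rw [add_mul]
      exact Submodule.add_mem _ (hu h hh) (hv h hh)
    · intro g u _ hu h hh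
      rw [smul_eq_mul, mul_comm g u, mul_assoc]
      exact hu (g * h) (I'.mul_mem_left g hh)
  · intro y z hy hz
    exact Submodule.add_mem _ hy hz

include hF' in
/-- **Key lemma**: `𝔪' I' ∩ t A'[X] ⊆ t I'` for the ideal `I'` of any lifts of the equations. -/
theorem mul_inf_ker_le (x : MvPolynomial ι A')
    (hx : x ∈ RingHom.ker (rd P res') * Ideal.span (Set.range F')) (hx0 : D.qd x = 0) :
    x ∈ Ideal.span {(MvPolynomial.C t : MvPolynomial ι A')} * Ideal.span (Set.range F') := by
  classical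
  set I' := Ideal.span (Set.range F') with hI'
  set N := I'.restrictScalars A' with hN
  have h1 : x ∈ (RingHom.ker res') • N := mem_smul_of_mem_mul I' x hx
  have hxN : x ∈ N := Submodule.smul_le_right h1
  have h2 : (⟨x, hxN⟩ : N) ∈ (RingHom.ker res') • (⊤ : Submodule A' N) :=
    (Submodule.mem_smul_top_iff _ N ⟨x, hxN⟩).2 h1
  obtain ⟨s, a, ha, hsum⟩ := Rigid.exists_sum_of_mem_smul_top _ _ h2
  have hsum' : x = ∑ i ∈ s, a i • (i : MvPolynomial ι A') := by
    have h3 := congrArg (Subtype.val) hsum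
    rw [Submodule.coe_sum] at h3
    simpa using h3
  haveI := flat_ker D.hD D.p
  let xx : s → LinearMap.ker D.p.π.toLinearMap := fun i =>
    ⟨D.qd ((i : N) : MvPolynomial ι A'), pi_qd_eq_zero D F' hF' _ (i : N).2⟩
  have hrel : ∑ i : s, pr (a i) • xx i = 0 := by
    apply Subtype.ext
    rw [Submodule.coe_sum]
    simp only [Submodule.coe_smul, Submodule.coe_zero]
    rw [← hx0, hsum', map_sum, ← Finset.sum_coe_sort s]
    refine Finset.sum_congr rfl fun i _ => ?_
    rw [qd_smul]
  obtain ⟨n, b, Y, hxY, hfb⟩ := Module.Flat.isTrivialRelation_of_sum_smul_eq_zero hrel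
  choose Y' hY'1 hY'2 using fun j => exists_lift_of_mem_ker D F' hF' (Y j).1 (Y j).2
  choose b' hb' using fun (i : s) j => D.hpr (b i j)
  have hT1 : ∀ i : s, ((i : N) : MvPolynomial ι A') - ∑ j, b' i j • Y' j ∈ I' := by
    intro i
    refine I'.sub_mem (i : N).2 (I'.sum_mem fun j _ => ?_)
    rw [Algebra.smul_def]
    exact I'.mul_mem_left _ (hY'1 j)
  have hT2 : ∀ i : s, D.qd (((i : N) : MvPolynomial ι A') - ∑ j, b' i j • Y' j) = 0 := by
    intro i
    rw [map_sub, map_sum]
    have h3 := congrArg Subtype.val (hxY i)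
    rw [Submodule.coe_sum] at h3
    simp only [Submodule.coe_smul] at h3
    change D.qd ((i : N) : MvPolynomial ι A') = _ at h3
    rw [h3, sub_eq_zero]
    refine Finset.sum_congr rfl fun j _ => ?_
    rw [qd_smul, hb', hY'2]
  have hz : ∀ i : s, ∃ z, ((i : N) : MvPolynomial ι A') - ∑ j, b' i j • Y' j =
      z * MvPolynomial.C t := by
    intro i
    have h3 : ((i : N) : MvPolynomial ι A') - ∑ j, b' i j • Y' j ∈ RingHom.ker D.qd := hT2 i
    rw [D.ker_qd, Ideal.mem_span_singleton'] at h3
    obtain ⟨z, hz⟩ := h3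
    exact ⟨z, hz.symm⟩
  choose z hz using hz
  have hd : ∀ j, ∃ e : A', ∑ i : s, a i * b' i j = e * t := by
    intro j
    have h3 : ∑ i : s, a i * b' i j ∈ RingHom.ker pr := by
      rw [RingHom.mem_ker, map_sum, ← hfb j]
      refine Finset.sum_congr rfl fun i _ => ?_
      rw [map_mul, hb']
    rw [D.hker, Ideal.mem_span_singleton'] at h3
    obtain ⟨e, he⟩ := h3
    exact ⟨e, he.symm⟩
  choose e he using hd
  have hx2 : x = ∑ j, MvPolynomial.C t * (MvPolynomial.C (e j) * Y' j) := by
    rw [hsum', ← Finset.sum_coe_sort s]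
    have h4 : ∀ i : s, a i • ((i : N) : MvPolynomial ι A') = ∑ j, (a i * b' i j) • Y' j := by
      intro i
      have h5 : ((i : N) : MvPolynomial ι A') = z i * MvPolynomial.C t + ∑ j, b' i j • Y' j := by
        rw [← hz i]
        ring
      rw [h5, smul_add, Finset.smul_sum]
      have h6 : a i • (z i * MvPolynomial.C t) = 0 := by
        rw [Algebra.smul_def, MvPolynomial.algebraMap_eq, mul_comm (z i), ← mul_assoc, ← map_mul,
          D.mul_t_eq_zero _ (ha i), map_zero, zero_mul]
      rw [h6, zero_add]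
      refine Finset.sum_congr rfl fun j _ => ?_
      rw [smul_smul]
    rw [Finset.sum_congr rfl fun i _ => h4 i, Finset.sum_comm]
    refine Finset.sum_congr rfl fun j _ => ?_
    rw [← Finset.sum_smul, he j, Algebra.smul_def, MvPolynomial.algebraMap_eq, map_mul]
    ring
  rw [hx2]
  refine Ideal.sum_mem _ fun j _ => ?_
  exact Ideal.mul_mem_mul (Ideal.mem_span_singleton_self _) (I'.mul_mem_left _ (hY'1 j))

include D in
lemma pr_t : pr t = 0 := by
  have : t ∈ RingHom.ker pr := by
    rw [D.hker]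
    exact Ideal.mem_span_singleton_self t
  exact this

include hF' in
/-- **Lemma W**: a lifted family reducing to zero has obstruction zero. -/
theorem pi0_rd_eq_zero_of_mr_eq_zero (c' : σ →₀ MvPolynomial ι A') (y : MvPolynomial ι A')
    (h1 : jm (MvPolynomial ι A') F' c' = MvPolynomial.C t * y) (h2 : mr (rd P res') c' = 0) :
    pi0 P (rd P res' y) = 0 := by
  have h3 : jm (MvPolynomial ι A') F' c' ∈
      RingHom.ker (rd P res') * Ideal.span (Set.range F') :=
    jm_mem_mul F' _ c' ((mr_eq_zero_iff _ c').1 h2)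
  have h4 : D.qd (jm (MvPolynomial ι A') F' c') = 0 := by
    rw [h1, map_mul, D.qd_C, D.pr_t, map_zero, zero_mul]
  have h5 := mul_inf_ker_le D F' hF' _ h3 h4
  rw [Ideal.mem_span_singleton_mul] at h5
  obtain ⟨y', hy', hyy'⟩ := h5
  have h6 : (MvPolynomial.C t : MvPolynomial ι A') * (y - y') = 0 := by
    rw [mul_sub, ← h1, hyy', sub_self]
  rw [D.C_t_mul_eq_zero_iff, map_sub, sub_eq_zero] at h6
  rw [h6]
  exact pi0_rd_eq_zero D F' hF' y' hy'

include hF' in
/-- every relation lifts to a family whose value is a multiple of `t` -/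
theorem exists_W (c₀ : σ →₀ P.toExtension.Ring)
    (hc₀ : jm P.toExtension.Ring (CotT.rel P) c₀ = 0) :
    ∃ (c' : σ →₀ MvPolynomial ι A') (y : MvPolynomial ι A'),
      mr (rd P res') c' = c₀ ∧ jm (MvPolynomial ι A') F' c' = MvPolynomial.C t * y := by
  obtain ⟨c, hc1, hc2⟩ := exists_relation_lift D.hsurj D.hnil D.hD D.p D.F D.hF1 D.hF2 c₀ hc₀
  obtain ⟨c', rfl⟩ := mr_surjective D.qd D.qd_surjective c
  have hF : (fun s => D.qd (F' s)) = D.F := funext hF'
  have h1 : D.qd (jm (MvPolynomial ι A') F' c') = 0 := by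
    rw [jm_mr, hF, hc2]
  have h2 : jm (MvPolynomial ι A') F' c' ∈ RingHom.ker D.qd := h1
  rw [D.ker_qd, Ideal.mem_span_singleton'] at h2
  obtain ⟨y, hy⟩ := h2
  refine ⟨c', y, ?_, by rw [← hy, mul_comm]⟩
  have h3 : (rd P res).comp D.qd = rd P res' := RingHom.ext fun x => D.rd_qd x
  rw [← hc1, mr_comp, h3]

/-- the obstruction of a relation (depends on the choice of the lifts `F'`) -/
noncomputable def obs (c₀ : Q P.toExtension.Ring (CotT.rel P)) : B₀ :=
  pi0 P (rd P res' (Classical.choose (Classical.choose_spec (exists_W D F' hF' c₀.1 c₀.2))))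

theorem obs_eq (c₀ : Q P.toExtension.Ring (CotT.rel P))
    (c' : σ →₀ MvPolynomial ι A') (y : MvPolynomial ι A')
    (h1 : mr (rd P res') c' = c₀.1)
    (h2 : jm (MvPolynomial ι A') F' c' = MvPolynomial.C t * y) :
    obs D F' hF' c₀ = pi0 P (rd P res' y) := by
  obtain ⟨h3, h4⟩ := Classical.choose_spec (Classical.choose_spec (exists_W D F' hF' c₀.1 c₀.2))
  set c'₀ := Classical.choose (exists_W D F' hF' c₀.1 c₀.2) with hc'₀
  set y₀ := Classical.choose (Classical.choose_spec (exists_W D F' hF' c₀.1 c₀.2)) with hy₀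
  have h5 := pi0_rd_eq_zero_of_mr_eq_zero D F' hF' (c'₀ - c') (y₀ - y)
    (by rw [map_sub, h4, h2, mul_sub]) (by rw [map_sub, h3, h1, sub_self])
  rw [map_sub, map_sub, sub_eq_zero] at h5
  exact h5

/-- the obstruction map `Q → B₀` -/
noncomputable def obsₗ : Q P.toExtension.Ring (CotT.rel P) →ₗ[P.toExtension.Ring] B₀ where
  toFun := obs D F' hF'
  map_add' a b := by
    obtain ⟨ca, ya, ha1, ha2⟩ := exists_W D F' hF' a.1 a.2
    obtain ⟨cb, yb, hb1, hb2⟩ := exists_W D F' hF' b.1 b.2
    rw [obs_eq D F' hF' a ca ya ha1 ha2, obs_eq D F' hF' b cb yb hb1 hb2,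
      obs_eq D F' hF' (a + b) (ca + cb) (ya + yb) (by rw [map_add, ha1, hb1]; rfl)
        (by rw [map_add, ha2, hb2, mul_add]), map_add, map_add]
  map_smul' g a := by
    obtain ⟨ca, ya, ha1, ha2⟩ := exists_W D F' hF' a.1 a.2
    obtain ⟨G, rfl⟩ := rd_surjective P res' D.hres' g
    rw [RingHom.id_apply, obs_eq D F' hF' a ca ya ha1 ha2,
      obs_eq D F' hF' (rd P res' G • a) (G • ca) (G * ya) (by rw [mr_smul, ha1]; rfl)
        (by rw [map_smul, ha2, smul_eq_mul]; ring), map_mul, map_mul, Algebra.smul_def]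

lemma obsₗ_apply (c₀ : Q P.toExtension.Ring (CotT.rel P)) :
    obsₗ D F' hF' c₀ = obs D F' hF' c₀ := rfl

/-- the obstruction map kills the trivial relations -/
theorem obsₗ_eq_zero_of_mem_F0 (q : Q P.toExtension.Ring (CotT.rel P))
    (hq : (q : σ →₀ P.toExtension.Ring) ∈ F0 P.toExtension.Ring (CotT.rel P)) :
    obsₗ D F' hF' q = 0 := by
  have key : F0 P.toExtension.Ring (CotT.rel P) ≤
      Submodule.map (Q P.toExtension.Ring (CotT.rel P)).subtype
        (LinearMap.ker (obsₗ D F' hF')) := by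
    refine Submodule.span_le.mpr ?_
    rintro _ ⟨a, b, rfl⟩
    have hyQ : jm P.toExtension.Ring (CotT.rel P) a • b - jm P.toExtension.Ring (CotT.rel P) b • a ∈
        Q P.toExtension.Ring (CotT.rel P) :=
      F0_le_Q _ _ (kos_mem_F0 _ _ a b)
    refine ⟨⟨_, hyQ⟩, ?_, rfl⟩
    rw [SetLike.mem_coe, LinearMap.mem_ker, obsₗ_apply]
    obtain ⟨a', rfl⟩ := mr_surjective (rd P res') (rd_surjective P res' D.hres') a
    obtain ⟨b', rfl⟩ := mr_surjective (rd P res') (rd_surjective P res' D.hres') b
    have hF : (fun s => rd P res' (F' s)) = CotT.rel P := funext (rd_F' D F' hF')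
    rw [obs_eq D F' hF' _
      (jm (MvPolynomial ι A') F' a' • b' - jm (MvPolynomial ι A') F' b' • a') 0 ?_ ?_,
      map_zero, map_zero]
    · rw [map_sub, mr_smul, mr_smul, jm_mr, jm_mr, hF]
    · rw [map_sub, map_smul, map_smul, smul_eq_mul, smul_eq_mul, mul_zero, mul_comm, sub_self]
  obtain ⟨q', hq', hqq'⟩ := key hq
  have : q' = q := Subtype.ext hqq'
  rw [← this]
  exact hq'

end lifts

end Data

end Groth.Agent.Lib.Helper19.EqLift
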