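import Groth.Agent.Lib.Helper19EqLiftB

/-!
# Equation lifting III: killing the obstruction (helper19)

If every linear map on the relation module that kills the trivial relations extends to the free
module (`T² = 0`), the lifts of the equations can be corrected so that all obstructions vanish.
-/

set_option autoImplicit false
set_option linter.unusedSectionVars false
universe u

open TensorProduct

namespace Groth.Agent.Lib.Helper19.EqLift

open Groth.Agent.Lib.Helper19.DefGlue Groth.Agent.Lib.Helper19.Kos

section family

variable {S : Type*} [CommRing S] {σ : Type*}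

lemma jm_sub_family (F H : σ → S) (c : σ →₀ S) :
    jm S (fun s => F s - H s) c = jm S F c - jm S H c := by
  induction c using Finsupp.induction_linear with
  | zero => simp
  | add x y hx hy => rw [map_add, map_add, map_add, hx, hy]; ring
  | single s t => rw [jm_single, jm_single, jm_single, mul_sub]

lemma jm_mul_family (a : S) (H : σ → S) (c : σ →₀ S) :
    jm S (fun s => a * H s) c = a * jm S H c := by
  induction c using Finsupp.induction_linear with
  | zero => simp
  | add x y hx hy => rw [map_add, map_add, hx, hy, mul_add]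
  | single s t => rw [jm_single, jm_single]; ring

end family

variable {k B₀ : Type u} [Field k] [CommRing B₀] [Algebra k B₀] {ι σ : Type u}
  {P : Algebra.Presentation k B₀ ι σ}
  {A' A : Type u} [CommRing A'] [CommRing A] {res' : A' →+* k} {res : A →+* k} {pr : A' →+* A}
  {t : A'} {E : Type u} [CommRing E] [Algebra A E] {ρ : E →+* B₀}

/-- the elementary form of `T²(P, B₀) = 0` -/
def T2Vanishes (P : Algebra.Presentation k B₀ ι σ) : Prop :=
  ∀ g : Q P.toExtension.Ring (CotT.rel P) →ₗ[P.toExtension.Ring] B₀,
    (∀ q : Q P.toExtension.Ring (CotT.rel P),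
      (q : σ →₀ P.toExtension.Ring) ∈ F0 P.toExtension.Ring (CotT.rel P) → g q = 0) →
    ∃ G : (σ →₀ P.toExtension.Ring) →ₗ[P.toExtension.Ring] B₀,
      ∀ q : Q P.toExtension.Ring (CotT.rel P), G q = g q

namespace Data

variable (D : Data P res' res pr t ρ)

/-- lifts of the equations all of whose obstructions vanish -/
theorem exists_good_lifts (hT : T2Vanishes P) :
    ∃ F'' : σ → MvPolynomial ι A', (∀ s, D.qd (F'' s) = D.F s) ∧
      ∀ (c' : σ →₀ MvPolynomial ι A') (y : MvPolynomial ι A'),
        jm (MvPolynomial ι A') F'' c' = MvPolynomial.C t * y → pi0 P (rd P res' y) = 0 := by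
  choose F' hF' using fun s => D.qd_surjective (D.F s)
  obtain ⟨G, hG⟩ := hT (obsₗ D F' hF') (obsₗ_eq_zero_of_mem_F0 D F' hF')
  have hh : ∀ s, ∃ h' : MvPolynomial ι A',
      pi0 P (rd P res' h') = G (Finsupp.single s 1) := by
    intro s
    obtain ⟨h₀, hh₀⟩ := pi0_surjective P (G (Finsupp.single s 1))
    obtain ⟨h', rfl⟩ := rd_surjective P res' D.hres' h₀
    exact ⟨h', hh₀⟩
  choose h' hh' using hh
  have hF'' : ∀ s, D.qd (F' s - MvPolynomial.C t * h' s) = D.F s := by
    intro s
    rw [map_sub, map_mul, D.qd_C, D.pr_t, map_zero, zero_mul, sub_zero, hF']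
  refine ⟨fun s => F' s - MvPolynomial.C t * h' s, hF'', ?_⟩
  intro c' y hy
  have hrel : (fun s => rd P res' (F' s - MvPolynomial.C t * h' s)) = CotT.rel P :=
    funext (rd_F' D _ hF'')
  have hc₀ : mr (rd P res') c' ∈ Q P.toExtension.Ring (CotT.rel P) := by
    rw [mem_Q, ← hrel, ← jm_mr, hy, map_mul, D.rd_C_t, zero_mul]
  have h1 : jm (MvPolynomial ι A') F' c' =
      MvPolynomial.C t * (y + jm (MvPolynomial ι A') h' c') := by
    have := jm_sub_family F' (fun s => MvPolynomial.C t * h' s) c'
    rw [jm_mul_family] at this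
    rw [mul_add, ← hy, this]
    ring
  have h2 := obs_eq D F' hF' ⟨_, hc₀⟩ c' _ rfl h1
  rw [← obsₗ_apply, ← hG, map_add, map_add] at h2
  have h3 : ∀ c₀ : σ →₀ P.toExtension.Ring,
      G c₀ = pi0 P (jm P.toExtension.Ring (fun s => rd P res' (h' s)) c₀) := by
    intro c₀
    induction c₀ using Finsupp.induction_linear with
    | zero => simp
    | add x y hx hy => rw [map_add, map_add, map_add, hx, hy]
    | single s x =>
      have : (Finsupp.single s x : σ →₀ P.toExtension.Ring) = x • Finsupp.single s 1 := by
        rw [Finsupp.smul_single, smul_eq_mul, mul_one]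
      rw [this, map_smul, ← hh', map_smul, jm_single, smul_eq_mul, map_mul, map_mul, map_one,
        one_mul, Algebra.smul_def]
  rw [jm_mr] at h2
  have h4 := h3 (mr (rd P res') c')
  change G (mr (rd P res') c') = _ at h2
  rw [h4] at h2
  exact (add_eq_right.mp h2.symm)

end Data

end Groth.Agent.Lib.Helper19.EqLift
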