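import Mathlib
import Groth.Prelude.Def_ega3
import Groth.Agent.Lib.Helper3FlatCxBT
import Groth.Agent.S4492

set_option autoImplicit false
universe u

namespace Groth.Agent.Lib.Helper3

open CategoryTheory CategoryTheory.Limits MonoidalCategory TensorProduct

section Len

variable {A : Type u} [CommRing A] [IsLocalRing A]

/-- length over `A` of `k ⊗ M` is its dimension over the residue field -/
theorem length_residue_tensor (M : Type u) [AddCommGroup M] [Module A M] [Module.Finite A M] :
    Module.length A (IsLocalRing.ResidueField A ⊗[A] M) =
      (Module.finrank (IsLocalRing.ResidueField A) (IsLocalRing.ResidueField A ⊗[A] M) : ℕ∞) := by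
  rw [Module.length_eq_of_surjective (S := A) (R := IsLocalRing.ResidueField A)
    IsLocalRing.residue_surjective]
  exact Module.length_eq_finrank _ _

/-- a generating family lifting a basis of the fibre -/
theorem exists_surjective_of_residue (M : Type u) [AddCommGroup M] [Module A M]
    [Module.Finite A M] :
    ∃ (n : ℕ) (φ : (Fin n → A) →ₗ[A] M),
      n = Module.finrank (IsLocalRing.ResidueField A) (IsLocalRing.ResidueField A ⊗[A] M) ∧
        Function.Surjective φ := by
  let k := IsLocalRing.ResidueField A
  let b := Module.finBasis k (k ⊗[A] M)
  have hs := TensorProduct.mk_surjective A M k IsLocalRing.residue_surjective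
  choose f hf using fun i => hs (b i)
  have hspan := IsLocalRing.span_eq_top_of_tmul_eq_basis f b hf
  refine ⟨_, Fintype.linearCombination A f, rfl, ?_⟩
  rw [← LinearMap.range_eq_top, Fintype.range_linearCombination]
  exact hspan

/-- over an artinian local ring, a finite module whose length is the expected one is free -/
theorem free_of_length_eq [IsArtinianRing A] (M : Type u) [AddCommGroup M] [Module A M]
    [Module.Finite A M]
    (h : Module.length A M =
      Module.length A (IsLocalRing.ResidueField A ⊗[A] M) * Module.length A A) :
    Module.Free A M := by
  obtain ⟨n, φ, hn, hφ⟩ := exists_surjective_of_residue (A := A) M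
  have hA : Module.length A A ≠ ⊤ := Module.length_ne_top
  have e1 := Groth.Agent.S4492.length_eq_ker_add_range φ
  have hr : LinearMap.range φ = ⊤ := LinearMap.range_eq_top.mpr hφ
  have e2 : Module.length A (LinearMap.range φ) = Module.length A M := by
    rw [hr]
    exact Module.length_top
  have e3 : Module.length A (Fin n → A) = n * Module.length A A := by
    rw [Module.length_pi_of_fintype]
    simp
  rw [e2, e3, h, length_residue_tensor, ← hn] at e1
  have hk : Module.length A (LinearMap.ker φ) = 0 := by
    generalize Module.length A (LinearMap.ker φ) = a at e1
    generalize Module.length A A = l at e1 hA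
    lift l to ℕ using hA
    cases a with
    | top => simp at e1; exact absurd e1 (by exact_mod_cast ENat.natCast_ne_top _)
    | coe a =>
      have e1' : n * l = a + n * l := by exact_mod_cast e1
      have : a = 0 := by omega
      rw [this]
      rfl
  rw [Module.length_eq_zero_iff, Submodule.subsingleton_iff_eq_bot, LinearMap.ker_eq_bot] at hk
  exact Module.Free.of_equiv (LinearEquiv.ofBijective φ ⟨hk, hφ⟩)

end Len

end Groth.Agent.Lib.Helper3
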