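import Mathlib
import Groth.Prelude.Def_ega3
import Groth.Agent.Lib.Helper3FlatCxLen

set_option autoImplicit false
universe u

namespace Groth.Agent.Lib.Helper3

open TensorProduct

section ALC

variable {R : Type u} [CommRing R] {B F W : Type u} [AddCommGroup B] [AddCommGroup F]
  [AddCommGroup W] [Module R B] [Module R F] [Module R W] (i : B →ₗ[R] F) (π : F →ₗ[R] W)

/-- transport of injectivity of `i ⊗ N` along an isomorphism of `N` -/
theorem rTensor_injective_congr {N₁ N₂ : Type u} [AddCommGroup N₁] [AddCommGroup N₂]
    [Module R N₁] [Module R N₂] (e : N₁ ≃ₗ[R] N₂) (h : Function.Injective (i.rTensor N₁)) :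
    Function.Injective (i.rTensor N₂) := by
  have hcomm : (i.rTensor N₂) ∘ₗ (e.toLinearMap.lTensor B) =
      (e.toLinearMap.lTensor F) ∘ₗ (i.rTensor N₁) := by
    rw [LinearMap.rTensor_comp_lTensor, LinearMap.lTensor_comp_rTensor]
  have hB : Function.Surjective (e.toLinearMap.lTensor B) :=
    LinearMap.lTensor_surjective B e.surjective
  have hF : Function.Injective (e.toLinearMap.lTensor F) :=
    (TensorProduct.congr (LinearEquiv.refl R F) e).injective
  intro x y hxy
  obtain ⟨x', rfl⟩ := hB x
  obtain ⟨y', rfl⟩ := hB y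
  have h1 := LinearMap.congr_fun hcomm x'
  have h2 := LinearMap.congr_fun hcomm y'
  simp only [LinearMap.comp_apply] at h1 h2
  rw [h1, h2] at hxy
  rw [h (hF hxy)]

/-- extension step -/
theorem rTensor_injective_of_ext [Module.Flat R F] {N' N N'' : Type u} [AddCommGroup N']
    [AddCommGroup N] [AddCommGroup N''] [Module R N'] [Module R N] [Module R N'']
    (a : N' →ₗ[R] N) (b : N →ₗ[R] N'') (ha : Function.Injective a) (hb : Function.Surjective b)
    (hab : Function.Exact a b) (h' : Function.Injective (i.rTensor N'))
    (h'' : Function.Injective (i.rTensor N'')) : Function.Injective (i.rTensor N) := by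
  rw [injective_iff_map_eq_zero]
  intro x hx
  have hBex := lTensor_exact B hab hb
  have hFa : Function.Injective (a.lTensor F) :=
    Module.Flat.lTensor_preserves_injective_linearMap a ha
  have c1 : (i.rTensor N'') ((b.lTensor B) x) = (b.lTensor F) ((i.rTensor N) x) := by
    rw [← LinearMap.comp_apply, ← LinearMap.comp_apply, LinearMap.rTensor_comp_lTensor,
      LinearMap.lTensor_comp_rTensor]
  have hbx : (b.lTensor B) x = 0 := by
    apply h''
    rw [c1, hx, map_zero, map_zero]
  obtain ⟨x', rfl⟩ := (hBex x).mp hbx
  have c2 : (a.lTensor F) ((i.rTensor N') x') = (i.rTensor N) ((a.lTensor B) x') := by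
    rw [← LinearMap.comp_apply, ← LinearMap.comp_apply, LinearMap.rTensor_comp_lTensor,
      LinearMap.lTensor_comp_rTensor]
  have hx' : (i.rTensor N') x' = 0 := by
    apply hFa
    rw [c2, hx, map_zero]
  have : x' = 0 := h' (hx'.trans (map_zero _).symm)
  rw [this, map_zero]

/-- finite length modules over a local ring -/
theorem rTensor_injective_of_isFiniteLength [IsLocalRing R] [Module.Flat R F]
    (hk : Function.Injective (i.rTensor (IsLocalRing.ResidueField R)))
    (N : Type u) [AddCommGroup N] [Module R N] (h : IsFiniteLength R N) :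
    Function.Injective (i.rTensor N) := by
  induction h with
  | of_subsingleton =>
    rename_i N _ _ _
    intro x y _
    exact Subsingleton.elim x y
  | of_simple_quotient hN ih =>
    rename_i N _ _ N' hsimple
    obtain ⟨I, hI, ⟨e⟩⟩ := isSimpleModule_iff_quot_maximal.mp hsimple
    have hIm : I = IsLocalRing.maximalIdeal R := IsLocalRing.eq_maximalIdeal hI
    subst hIm
    have h'' : Function.Injective (i.rTensor (N ⧸ N')) :=
      rTensor_injective_congr i e.symm hk
    exact rTensor_injective_of_ext i N'.subtype N'.mkQ (Submodule.subtype_injective N')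
      (Submodule.mkQ_surjective N') (LinearMap.exact_subtype_mkQ N') ih h''

/-- flatness of the cokernel from injectivity on all cyclic modules -/
theorem flat_of_rTensor_injective_quot [Module.Flat R F] (hπ : Function.Surjective π)
    (hex : Function.Exact i π)
    (hQ : ∀ I : Ideal R, Function.Injective (i.rTensor (R ⧸ I))) : Module.Flat R W := by
  rw [Module.Flat.iff_lTensor_injective']
  intro I
  rw [injective_iff_map_eq_zero]
  intro x hx
  obtain ⟨y, rfl⟩ := LinearMap.rTensor_surjective I hπ x
  set z := (I.subtype.lTensor F) y with hz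
  have hz0 : (π.rTensor R) z = 0 := by
    rw [hz, ← LinearMap.comp_apply, LinearMap.rTensor_comp_lTensor,
      ← LinearMap.lTensor_comp_rTensor, LinearMap.comp_apply, hx]
  obtain ⟨b, hb⟩ := (rTensor_exact R hex hπ z).mp hz0
  let mk : R →ₗ[R] R ⧸ I := I.mkQ
  have hmk : mk ∘ₗ I.subtype = 0 := by
    ext r
    exact (Submodule.Quotient.mk_eq_zero I).mpr r.2
  have hc : (mk.lTensor B) b = 0 := by
    apply hQ I
    rw [map_zero, ← LinearMap.comp_apply, LinearMap.rTensor_comp_lTensor,
      ← LinearMap.lTensor_comp_rTensor, LinearMap.comp_apply, hb, hz, ← LinearMap.comp_apply,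
      ← LinearMap.lTensor_comp, hmk, LinearMap.lTensor_zero, LinearMap.zero_apply]
  obtain ⟨b', rfl⟩ := (lTensor_exact B (LinearMap.exact_subtype_mkQ I)
    (Submodule.mkQ_surjective I) b).mp hc
  have hFI : Function.Injective (I.subtype.lTensor F) :=
    Module.Flat.lTensor_preserves_injective_linearMap _ (Submodule.subtype_injective I)
  have hy : y = (i.rTensor I) b' := by
    apply hFI
    rw [← hz, ← hb, ← LinearMap.comp_apply, ← LinearMap.comp_apply,
      LinearMap.rTensor_comp_lTensor, LinearMap.lTensor_comp_rTensor]
  have hπi : π ∘ₗ i = 0 := by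
    ext t
    exact (hex (i t)).mpr ⟨t, rfl⟩
  rw [hy, ← LinearMap.comp_apply, ← LinearMap.rTensor_comp, hπi, LinearMap.rTensor_zero,
    LinearMap.zero_apply]

/-- local criterion over an artinian local ring, relative to a flat presentation -/
theorem flat_of_rTensor_residue_injective [IsLocalRing R] [IsArtinianRing R] [Module.Flat R F]
    (hπ : Function.Surjective π) (hex : Function.Exact i π)
    (hk : Function.Injective (i.rTensor (IsLocalRing.ResidueField R))) : Module.Flat R W := by
  apply flat_of_rTensor_injective_quot i π hπ hex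
  intro I
  exact rTensor_injective_of_isFiniteLength i hk _
    (Module.length_ne_top_iff.mp Module.length_ne_top)

end ALC

section ALCcx

open CategoryTheory CategoryTheory.Limits MonoidalCategory

variable {A : Type u} [CommRing A] {ι : Type} {c : ComplexShape ι}

/-- over an artinian local ring, for a complex of flat modules (not necessarily finite):
if `T_p(A) → T_p(k)` is surjective then `opcycles_q(P)` is flat, `c.Rel p q`. -/
theorem flat_opcycles_of_surjective_artinian [IsLocalRing A] [IsArtinianRing A]
    (P : HomologicalComplex (ModuleCat.{u} A) c) (hP : ∀ i, Module.Flat A (P.X i)) (p q : ι)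
    (hrel : c.Rel p q)
    (h : Function.Surjective ((CohIII.TFun P p).map
      (ModuleCat.ofHom (Algebra.linearMap A (IsLocalRing.ResidueField A)))).hom) :
    Module.Flat A (P.opcycles q) := by
  obtain rfl := c.next_eq' hrel
  have := hP (c.next p)
  let k := IsLocalRing.ResidueField A
  let res : ModuleCat.of A A ⟶ ModuleCat.of A k := ModuleCat.ofHom (Algebra.linearMap A k)
  let g : P.opcycles p →ₗ[A] P.X (c.next p) := (P.fromOpcycles p (c.next p)).hom
  let π : P.X (c.next p) →ₗ[A] P.opcycles (c.next p) := (P.pOpcycles (c.next p)).hom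
  let i : LinearMap.range g →ₗ[A] P.X (c.next p) := (LinearMap.range g).subtype
  let g' : P.opcycles p →ₗ[A] LinearMap.range g := g.rangeRestrict
  have hgi : g = i ∘ₗ g' := rfl
  have hπ : Function.Surjective π := (ModuleCat.epi_iff_surjective _).mp inferInstance
  have hgπ : Function.Exact g π := exact_fromOpcycles_pOpcycles P p (c.next p) (c.prev_eq' hrel)
  have hex : Function.Exact i π := by
    intro x
    rw [hgπ x]
    constructor
    · rintro ⟨w, rfl⟩
      exact ⟨⟨g w, w, rfl⟩, rfl⟩
    · rintro ⟨⟨_, w, rfl⟩, rfl⟩
      exact ⟨w, rfl⟩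
  refine flat_of_rTensor_residue_injective i π hπ hex ?_
  rw [injective_iff_map_eq_zero]
  intro y hy
  obtain ⟨x, rfl⟩ := LinearMap.rTensor_surjective k g.surjective_rangeRestrict y
  have hx : (P.fromOpcycles p (c.next p) ▷ ModuleCat.of A k).hom x = 0 := by
    show (g.rTensor k) x = 0
    rw [hgi, LinearMap.rTensor_comp, LinearMap.comp_apply]
    exact hy
  obtain ⟨t, ht⟩ := exists_jT_eq P p (ModuleCat.of A k) x hx
  obtain ⟨t', rfl⟩ := h t
  have hnat : (jT P p (ModuleCat.of A k)).hom (((CohIII.TFun P p).map res).hom t') =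
      (P.opcycles p ◁ res).hom ((jT P p (ModuleCat.of A A)).hom t') :=
    LinearMap.congr_fun (congrArg ModuleCat.Hom.hom (jT_naturality P p res)) t'
  set x' := (jT P p (ModuleCat.of A A)).hom t' with hx'
  have hx'0 : (g.rTensor A) x' = 0 :=
    LinearMap.congr_fun (congrArg ModuleCat.Hom.hom
      (jT_comp_fromOpcycles P p (ModuleCat.of A A) (c.next p))) t'
  have hiA : Function.Injective (i.rTensor A) :=
    Module.Flat.rTensor_preserves_injective_linearMap i (Submodule.subtype_injective _)
  have hg'0 : (g'.rTensor A) x' = 0 := by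
    apply hiA
    rw [map_zero, ← LinearMap.comp_apply, ← LinearMap.rTensor_comp, ← hgi]
    exact hx'0
  have hxe : x = ((Algebra.linearMap A k).lTensor (P.opcycles p)) x' := ht.symm.trans hnat
  rw [hxe, ← LinearMap.comp_apply, LinearMap.rTensor_comp_lTensor,
    ← LinearMap.lTensor_comp_rTensor, LinearMap.comp_apply, hg'0, map_zero]

end ALCcx

end Groth.Agent.Lib.Helper3
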