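import Groth.Agent.Lib.Helper19EqLiftC
import Groth.Agent.Lib.Helper3FlatCxArt

/-!
# Equation lifting IV: the lifted deformation (helper19)

With unobstructed lifts `F''` of the equations, `A'[X]/(F'')` is a deformation over `A'` lifting
the given one.
-/

set_option autoImplicit false
set_option linter.unusedSectionVars false
universe u

open TensorProduct

namespace Groth.Agent.Lib.Helper19.EqLift

open Groth.Agent.Lib.Helper19.DefGlue Groth.Agent.Lib.Helper19.Kos

section general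

variable {R M : Type*} [CommRing R] [AddCommGroup M] [Module R M]

/-- `N ⊗ R/𝔞 → M ⊗ R/𝔞` is injective when `N ∩ 𝔞 M ⊆ 𝔞 N` -/
theorem rTensor_quotient_injective_of_inf_le (N : Submodule R M) (𝔞 : Ideal R)
    (h : N ⊓ 𝔞 • (⊤ : Submodule R M) ≤ 𝔞 • N) :
    Function.Injective (N.subtype.rTensor (R ⧸ 𝔞)) := by
  rw [injective_iff_map_eq_zero]
  intro z hz
  obtain ⟨n, hn⟩ := Submodule.Quotient.mk_surjective _ (tensorQuotEquivQuotSMul N 𝔞 z)
  have hz' : z = n ⊗ₜ[R] (1 : R ⧸ 𝔞) := by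
    rw [← tensorQuotEquivQuotSMul_symm_mk, hn, LinearEquiv.symm_apply_apply]
  rw [hz', LinearMap.rTensor_tmul, Submodule.subtype_apply] at hz
  have h1 := congrArg (tensorQuotEquivQuotSMul M 𝔞) hz
  rw [← map_one (Ideal.Quotient.mk 𝔞), tensorQuotEquivQuotSMul_tmul_mk, one_smul, map_zero,
    Submodule.Quotient.mk_eq_zero] at h1
  have h2 : (n : M) ∈ 𝔞 • N := h ⟨n.2, h1⟩
  have h3 : n ∈ 𝔞 • (⊤ : Submodule R N) := (Submodule.mem_smul_top_iff 𝔞 N n).2 h2
  rw [hz', ← tensorQuotEquivQuotSMul_symm_mk, (Submodule.Quotient.mk_eq_zero _).2 h3, map_zero]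

end general

variable {k B₀ : Type u} [Field k] [CommRing B₀] [Algebra k B₀] {ι σ : Type u}
  {P : Algebra.Presentation k B₀ ι σ}
  {A' A : Type u} [CommRing A'] [CommRing A] {res' : A' →+* k} {res : A →+* k} {pr : A' →+* A}
  {t : A'} {E : Type u} [CommRing E] [Algebra A E] {ρ : E →+* B₀}

namespace Data

variable (D : Data P res' res pr t ρ)
  (F'' : σ → MvPolynomial ι A') (hF'' : ∀ s, D.qd (F'' s) = D.F s)
  (hstar : ∀ (c' : σ →₀ MvPolynomial ι A') (y : MvPolynomial ι A'),
    jm (MvPolynomial ι A') F'' c' = MvPolynomial.C t * y → pi0 P (rd P res' y) = 0)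

include hF'' in
/-- elements reducing into the kernel of `k[X] → B₀` are congruent to elements of `I''` -/
lemma exists_sub_mem_ker_rd (G' : MvPolynomial ι A') (hG : pi0 P (rd P res' G') = 0) :
    ∃ g' : σ →₀ MvPolynomial ι A', rd P res' (G' - jm (MvPolynomial ι A') F'' g') = 0 := by
  have h1 : rd P res' G' ∈ RingHom.ker (pi0 P) := hG
  rw [ker_pi0] at h1
  obtain ⟨g₀, hg₀⟩ := exists_jm_eq (CotT.rel P) _ h1
  obtain ⟨g', rfl⟩ := mr_surjective (rd P res') (rd_surjective P res' D.hres') g₀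
  refine ⟨g', ?_⟩
  have hrel : (fun s => rd P res' (F'' s)) = CotT.rel P := funext (rd_F' D F'' hF'')
  rw [map_sub, jm_mr, hrel, hg₀, sub_self]

include hF'' hstar in
/-- `I'' ∩ 𝔪' A'[X] ⊆ 𝔪' I''` -/
theorem mem_mul_of_mem_span_of_rd_eq_zero (x : MvPolynomial ι A')
    (hx : x ∈ Ideal.span (Set.range F'')) (hx0 : rd P res' x = 0) :
    x ∈ RingHom.ker (rd P res') * Ideal.span (Set.range F'') := by
  have hker := ker_eq_span D.hsurj D.hnil D.hD D.p D.F D.hF1 D.hF2
  have h1 : D.p.π (D.qd x) = 0 := pi_qd_eq_zero D F'' hF'' x hx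
  have h2 : rd P res (D.qd x) = 0 := by rw [D.rd_qd, hx0]
  have h3 := mem_mul_of_pi_eq_zero_of_rd_eq_zero D.hD D.p _ h1 h2
  rw [hker] at h3
  obtain ⟨μ, hμ1, hμ2⟩ := exists_jm_eq_of_mem_mul D.F _ _ h3
  obtain ⟨μ', rfl⟩ := mr_surjective D.qd D.qd_surjective μ
  have hμ' : ∀ s, μ' s ∈ RingHom.ker (rd P res') := by
    intro s
    rw [RingHom.mem_ker, ← D.rd_qd]
    exact hμ1 s
  obtain ⟨c', rfl⟩ := exists_jm_eq F'' x hx
  have hF : (fun s => D.qd (F'' s)) = D.F := funext hF''
  have h4 : jm (MvPolynomial ι A') F'' (c' - μ') ∈ RingHom.ker D.qd := by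
    rw [RingHom.mem_ker, map_sub, map_sub, jm_mr D.qd F'' μ', hF, hμ2, sub_self]
  rw [D.ker_qd, Ideal.mem_span_singleton'] at h4
  obtain ⟨y, hy⟩ := h4
  have hy' : jm (MvPolynomial ι A') F'' (c' - μ') = MvPolynomial.C t * y := by
    rw [← hy, mul_comm]
  have h5 := hstar _ y hy'
  obtain ⟨g', hg'⟩ := exists_sub_mem_ker_rd D F'' hF'' y h5
  rw [← D.C_t_mul_eq_zero_iff, mul_sub, sub_eq_zero] at hg'
  have h6 : jm (MvPolynomial ι A') F'' c' = jm (MvPolynomial ι A') F'' μ' +
      MvPolynomial.C t * jm (MvPolynomial ι A') F'' g' := by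
    rw [← hg', ← hy', map_sub]
    ring
  rw [h6]
  refine Ideal.add_mem _ (jm_mem_mul F'' _ μ' hμ') ?_
  exact Ideal.mul_mem_mul ((RingHom.mem_ker).2 D.rd_C_t) (jm_mem_span F'' g')

/-- the lifted algebra -/
abbrev LiftAlg (_ : Data P res' res pr t ρ) (F'' : σ → MvPolynomial ι A') : Type u :=
  MvPolynomial ι A' ⧸ Ideal.span (Set.range F'')

/-- the comparison map to the given deformation -/
noncomputable def theta : LiftAlg D F'' →+* E :=
  Ideal.Quotient.lift (Ideal.span (Set.range F''))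
    ((D.p.π : MvPolynomial ι A →+* E).comp D.qd) (fun x hx => pi_qd_eq_zero D F'' hF'' x hx)

lemma theta_mk (x : MvPolynomial ι A') :
    theta D F'' hF'' (Ideal.Quotient.mk _ x) = D.p.π (D.qd x) := rfl

lemma theta_algebraMap (a : A') :
    theta D F'' hF'' (algebraMap A' (LiftAlg D F'') a) = algebraMap A E (pr a) := by
  change theta D F'' hF'' (Ideal.Quotient.mk _ (algebraMap A' (MvPolynomial ι A') a)) = _
  rw [theta_mk, MvPolynomial.algebraMap_eq, D.qd_C, ← MvPolynomial.algebraMap_eq,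
    AlgHom.commutes]

lemma theta_surjective : Function.Surjective (theta D F'' hF'') := by
  intro e
  obtain ⟨x, rfl⟩ := D.p.surj e
  obtain ⟨x', rfl⟩ := D.qd_surjective x
  exact ⟨Ideal.Quotient.mk _ x', rfl⟩

include hF'' hstar in
theorem flat_liftAlg [IsLocalRing A'] [IsArtinianRing A']
    (hm : RingHom.ker res' = IsLocalRing.maximalIdeal A') :
    Module.Flat A' (LiftAlg D F'') := by
  set I'' := Ideal.span (Set.range F'') with hI''
  let N : Submodule A' (MvPolynomial ι A') := I''.restrictScalars A'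
  let π' : MvPolynomial ι A' →ₗ[A'] LiftAlg D F'' := (Ideal.Quotient.mkₐ A' I'').toLinearMap
  have hπ' : Function.Surjective π' := Ideal.Quotient.mk_surjective
  have hex : Function.Exact N.subtype π' := by
    intro x
    constructor
    · intro hx
      have : x ∈ I'' := Ideal.Quotient.eq_zero_iff_mem.1 hx
      exact ⟨⟨x, this⟩, rfl⟩
    · rintro ⟨y, rfl⟩
      exact Ideal.Quotient.eq_zero_iff_mem.2 y.2
  have hinf : N ⊓ (IsLocalRing.maximalIdeal A') • (⊤ : Submodule A' (MvPolynomial ι A')) ≤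
      (IsLocalRing.maximalIdeal A') • N := by
    rintro x ⟨hx1, hx2⟩
    rw [← hm] at hx2 ⊢
    rw [SetLike.mem_coe, Ideal.smul_top_eq_map] at hx2
    change x ∈ Ideal.map (algebraMap A' (MvPolynomial ι A')) (RingHom.ker res') at hx2
    rw [MvPolynomial.algebraMap_eq, ← ker_rd P res'] at hx2
    exact mem_smul_of_mem_mul I'' x
      (mem_mul_of_mem_span_of_rd_eq_zero D F'' hF'' hstar x hx1 hx2)
  have hk := rTensor_quotient_injective_of_inf_le N (IsLocalRing.maximalIdeal A') hinf
  exact Groth.Agent.Lib.Helper3.flat_of_rTensor_residue_injective N.subtype π' hπ' hex hk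

include hstar in
theorem isDefo_liftAlg [IsLocalRing A'] [IsArtinianRing A']
    (hm : RingHom.ker res' = IsLocalRing.maximalIdeal A') :
    IsDefo res' (ρ.comp (theta D F'' hF'')) where
  flat := flat_liftAlg D F'' hF'' hstar hm
  hc := by
    intro a
    rw [RingHom.comp_apply, theta_algebraMap, D.hD.hc, D.hres]
  hs := D.hD.hs.comp (theta_surjective D F'' hF'')
  hk := by
    apply le_antisymm
    · intro x hx
      obtain ⟨G', rfl⟩ := Ideal.Quotient.mk_surjective x
      have h1 : pi0 P (rd P res' G') = 0 := by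
        rw [← D.rd_qd, ← D.p.compat]
        exact hx
      obtain ⟨g', hg'⟩ := exists_sub_mem_ker_rd D F'' hF'' G' h1
      have h2 : G' - jm (MvPolynomial ι A') F'' g' ∈ RingHom.ker (rd P res') := hg'
      rw [ker_rd] at h2
      have h3 : (Ideal.Quotient.mk (Ideal.span (Set.range F'')) G' : LiftAlg D F'') =
          Ideal.Quotient.mk _ (G' - jm (MvPolynomial ι A') F'' g') := by
        rw [map_sub, Ideal.Quotient.eq_zero_iff_mem.2 (jm_mem_span F'' g'), sub_zero]
      rw [h3]
      have h4 := Ideal.mem_map_of_mem (Ideal.Quotient.mk (Ideal.span (Set.range F''))) h2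
      rw [Ideal.map_map] at h4
      exact h4
    · rw [Ideal.map_le_iff_le_comap]
      intro a ha
      rw [Ideal.mem_comap, RingHom.mem_ker, RingHom.comp_apply, theta_algebraMap, D.hD.hc, D.hres,
        (RingHom.mem_ker).1 ha, map_zero]

end Data

/-- **Equation lifting.** A ring-level deformation of `B₀` lifts along a small extension when
`T²(P, B₀) = 0`. -/
theorem exists_lift (D : Data P res' res pr t ρ) (hT : T2Vanishes P)
    [IsLocalRing A'] [IsArtinianRing A']
    (hm : RingHom.ker res' = IsLocalRing.maximalIdeal A') :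
    ∃ (E' : Type u) (_ : CommRing E') (_ : Algebra A' E') (ρ' : E' →+* B₀) (θ : E' →+* E),
      IsDefo res' ρ' ∧ (∀ a, θ (algebraMap A' E' a) = algebraMap A E (pr a)) ∧
        ∀ b, ρ (θ b) = ρ' b := by
  obtain ⟨F'', hF'', hstar⟩ := D.exists_good_lifts hT
  exact ⟨D.LiftAlg F'', inferInstance, inferInstance, ρ.comp (D.theta F'' hF''),
    D.theta F'' hF'', D.isDefo_liftAlg F'' hF'' hstar hm, D.theta_algebraMap F'' hF'',
    fun b => rfl⟩

end Groth.Agent.Lib.Helper19.EqLift
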