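import Groth.Agent.Lib.Helper19EqLiftD
import Groth.Agent.Lib.Helper19DefGlueG
import Groth.Agent.Lib.Helper19CotTwo
import Groth.Agent.Lib.Helper19Deform

/-!
# Equation lifting V: unobstructedness of `Spec B₀` when `T² = 0` (helper19)
-/

set_option autoImplicit false
set_option linter.unusedSectionVars false
set_option linter.style.haveILetI false
universe u

open CategoryTheory CategoryTheory.Limits AlgebraicGeometry ArtFun ArtFun.Art TensorProduct

namespace Groth.Agent.Lib.Helper19.EqLift

open Groth.Agent.Lib.Helper19 Groth.Agent.Lib.Helper19.DefAff Groth.Agent.Lib.Helper19.DefGlue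
  Groth.Agent.Lib.Helper19.Kos Groth.Agent.Lib.Helper19.CotTwo

variable {k B₀ : Type u} [Field k] [CommRing B₀] [Algebra k B₀] {ι σ : Type u}

/-- the elementary form of the vanishing of `T²` -/
theorem t2Vanishes_of_subsingleton (P : Algebra.Presentation k B₀ ι σ)
    (h : Subsingleton (CotT.T2 P B₀)) : T2Vanishes P := by
  intro g hg
  have e := (bridge P B₀).toEquiv.trans
    (T2equivT2' (S := P.toExtension.Ring) (B := B₀) (f := CotT.rel P)
      (CotT.algebraMap_rel P) B₀).toEquiv
  haveI : Subsingleton (T2' (jm P.toExtension.Ring (CotT.rel P)) B₀) := e.symm.subsingleton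
  have hgk : g ∈ killing (jm P.toExtension.Ring (CotT.rel P)) B₀ :=
    (mem_killing g).2 fun q hq => hg q hq
  have h0 : (⟨(restr (jm P.toExtension.Ring (CotT.rel P)) B₀).mkQ g, ⟨g, hgk, rfl⟩⟩ :
      T2' (jm P.toExtension.Ring (CotT.rel P)) B₀) = 0 := Subsingleton.elim _ _
  have h1 : (restr (jm P.toExtension.Ring (CotT.rel P)) B₀).mkQ g = 0 :=
    congrArg Subtype.val h0
  rw [Submodule.mkQ_apply, Submodule.Quotient.mk_eq_zero] at h1
  exact (mem_restr g).1 h1

variable {Λ : Type u} [CommRing Λ] [Algebra Λ k]

/-- **Unobstructedness.** If `T²(P, B₀) = 0` then deformations of `Spec B₀` lift along small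
extensions. -/
theorem surjective_map_of_isSmallExt (P : Algebra.Presentation k B₀ ι σ) (hT : T2Vanishes P)
    {A' A : Art Λ k} (p : A' ⟶ A) (hp : IsSmallExt p) :
    Function.Surjective ((G Λ k B₀).map p) := by
  intro x
  induction x using Quotient.inductionOn with
  | h ξ =>
    obtain ⟨i⟩ := nonempty_iso_ofDefo ξ
    obtain ⟨t, htk, ht0, hts, htm⟩ := exists_gen_of_isSmallExt hp
    have hnil : IsNilpotent (RingHom.ker A.res.toRingHom) := by
      rw [ker_res_toRingHom]
      exact isNilpotent_maximalIdeal A
    have hD := isDefo_GRing ξ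
    obtain ⟨pp⟩ := exists_pres (P := P) A.res_surjective hnil hD
    obtain ⟨F, hF1, hF2⟩ := exists_rel_lift A.res_surjective hD pp
    have hann : ∀ a : A', a * t = 0 ↔ a ∈ RingHom.ker A'.res.toRingHom := by
      intro a
      rw [ker_res_toRingHom]
      constructor
      · intro ha
        by_contra hna
        have hu : IsUnit a := by
          by_contra hnu
          exact hna ((IsLocalRing.mem_maximalIdeal a).2 hnu)
        exact ht0 ((hu.mul_right_eq_zero).1 ha)
      · intro ha
        exact hts a ha
    let D : Data P A'.res.toRingHom A.res.toRingHom (p.toAlgHom : A' →+* A) t (rhoG ξ) :=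
      { hpr := hp.1
        hres := fun a => res_app p a
        hres' := A'.res_surjective
        hker := htk
        hann := hann
        hnil := hnil
        hD := hD
        p := pp
        F := F
        hF1 := hF1
        hF2 := hF2 }
    obtain ⟨E', _, _, ρ', θ, hD', hθa, hθρ⟩ := exists_lift D hT (ker_res_toRingHom A')
    obtain ⟨j⟩ := baseChange_ofDefo_iso p hD' hD θ hθa hθρ
    exact ⟨(ofDefo hD').cl, Quotient.sound ⟨j.trans i.symm⟩⟩

end Groth.Agent.Lib.Helper19.EqLift
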