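import Groth.Agent.Lib.Helper19KosLoc
import Groth.Agent.Lib.Helper19EqLiftA

/-!
# Vanishing of `T²` for ideals which are locally generated by `H₁`-regular families (helper19)

A "conductor ideal" argument: for an ideal `I = (f_s)` of a Noetherian ring which, locally at every
maximal ideal, is generated by a family with only trivial relations, every linear map on the
relation module of the `f_s` that kills the trivial relations extends to the free module.
-/

set_option autoImplicit false
set_option linter.unusedSectionVars false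
set_option linter.style.haveILetI false
universe u t m

open TensorProduct

namespace Groth.Agent.Lib.Helper19.EqLift

open Groth.Agent.Lib.Helper19.Kos

section units

variable {S : Type u} [CommRing S] {c : ℕ}

/-- rescaling an `H₁`-regular family by units gives an `H₁`-regular family -/
theorem Q_le_F0_mul_units (g v : Fin c → S) (hv : ∀ i, IsUnit (v i)) (h : Q S g ≤ F0 S g) :
    Q S (fun i => g i * v i) ≤ F0 S (fun i => g i * v i) := by
  choose v' hv' using fun i => (hv i).exists_right_inv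
  -- `D' : e_i ↦ v_i e_i` from the family `g v` to `g`
  have hD' : ∀ i, jm S g (Finsupp.single i (v i)) = (RingHom.id S) (g i * v i) := by
    intro i
    rw [jm_single, RingHom.id_apply, mul_comm]
  have hD : ∀ i, jm S (fun i => g i * v i) (Finsupp.single i (v' i)) = (RingHom.id S) (g i) := by
    intro i
    rw [jm_single, RingHom.id_apply, mul_comm (v' i), mul_assoc, hv', mul_one]
  have h3 : ∀ x : Fin c →₀ S, τF (RingHom.id S) (fun i => Finsupp.single i (v' i))
      (τF (RingHom.id S) (fun i => Finsupp.single i (v i)) x) = x := by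
    intro x
    induction x using Finsupp.induction_linear with
    | zero => simp
    | add a b ha hb => rw [map_add, map_add, ha, hb]
    | single i r =>
      rw [τF_single, RingHom.id_apply, LinearMap.map_smulₛₗ, τF_single, RingHom.id_apply,
        RingHom.id_apply, Finsupp.smul_single, Finsupp.smul_single, smul_eq_mul, smul_eq_mul,
        hv', mul_one]
  intro x hx
  have h1 : τF (RingHom.id S) (fun i => Finsupp.single i (v i)) x ∈ F0 S g :=
    h (τF_mem_Q hD' hx)
  have h2 := τF_mem_F0 hD h1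
  rwa [h3] at h2

end units

section conductor

variable {R : Type u} [CommRing R] {σ : Type t} (f : σ → R)

/-- a local chart at a prime: elements of `I` which, in the local ring, generate `I` and have only
trivial relations -/
def HasLocalChart (𝔫 : Ideal R) [𝔫.IsPrime] : Prop :=
  ∃ (c : ℕ) (z : Fin c → R), (∀ i, z i ∈ Ideal.span (Set.range f)) ∧
    (Ideal.span (Set.range f)).map (algebraMap R (Localization.AtPrime 𝔫)) ≤
      Ideal.span (Set.range (locf (Localization.AtPrime 𝔫) z)) ∧
    Q (Localization.AtPrime 𝔫) (locf (Localization.AtPrime 𝔫) z) ≤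
      F0 (Localization.AtPrime 𝔫) (locf (Localization.AtPrime 𝔫) z)

variable {f}

lemma jm_mul_family' (a : R) (c : σ →₀ R) :
    jm R (fun s => a * f s) c = a * jm R f c := by
  induction c using Finsupp.induction_linear with
  | zero => simp
  | add x y hx hy => rw [map_add, map_add, hx, hy, mul_add]
  | single s t => rw [jm_single, jm_single]; ring

/-- clearing denominators: a generator of `I` is, up to an element outside `𝔫`, a combination of
the chart elements -/
lemma exists_smul_eq_jm (𝔫 : Ideal R) [𝔫.IsPrime] {c : ℕ} (z : Fin c → R)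
    (hz : (Ideal.span (Set.range f)).map (algebraMap R (Localization.AtPrime 𝔫)) ≤
      Ideal.span (Set.range (locf (Localization.AtPrime 𝔫) z))) (s : σ) :
    ∃ w ∈ 𝔫.primeCompl, ∃ n : Fin c →₀ R, jm R z n = w * f s := by
  have h1 : algebraMap R (Localization.AtPrime 𝔫) (f s) ∈
      Ideal.span (Set.range (locf (Localization.AtPrime 𝔫) z)) :=
    hz (Ideal.mem_map_of_mem _ (Ideal.subset_span ⟨s, rfl⟩))
  obtain ⟨a, ha⟩ := exists_jm_eq _ _ h1
  obtain ⟨u, hu, y0, hy0⟩ := exists_locF_eq 𝔫.primeCompl (Localization.AtPrime 𝔫) a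
  have h2 : algebraMap R (Localization.AtPrime 𝔫) (jm R z y0) =
      algebraMap R (Localization.AtPrime 𝔫) (u * f s) := by
    rw [← jm_τF (f' := locf (Localization.AtPrime 𝔫) z) (locF_hv _ z), ← hy0, map_smul, ha,
      smul_eq_mul, map_mul]
  obtain ⟨u', hu'⟩ := (IsLocalization.eq_iff_exists 𝔫.primeCompl (Localization.AtPrime 𝔫)).1 h2
  refine ⟨u' * u, 𝔫.primeCompl.mul_mem u'.2 hu, (u' : R) • y0, ?_⟩
  rw [map_smul, smul_eq_mul, hu', mul_assoc]

variable [IsNoetherianRing R] [Finite σ]
  {M : Type m} [AddCommGroup M] [Module R M]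

/-- **Extension of obstruction maps.** -/
theorem exists_extension (hM : ∀ (s : σ) (x : M), f s • x = 0)
    (hloc : ∀ (𝔫 : Ideal R) [𝔫.IsMaximal], Ideal.span (Set.range f) ≤ 𝔫 → HasLocalChart f 𝔫)
    (g : Q R f →ₗ[R] M) (hg : ∀ q : Q R f, (q : σ →₀ R) ∈ F0 R f → g q = 0) :
    ∃ G : (σ →₀ R) →ₗ[R] M, ∀ q : Q R f, G q = g q := by
  classical
  haveI : Fintype σ := Fintype.ofFinite σ
  let 𝔠 : Ideal R :=
    { carrier := {h | ∃ G : (σ →₀ R) →ₗ[R] M, ∀ q : Q R f, G q = h • g q}
      add_mem' := by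
        rintro a b ⟨G₁, h₁⟩ ⟨G₂, h₂⟩
        exact ⟨G₁ + G₂, fun q => by rw [LinearMap.add_apply, h₁, h₂, add_smul]⟩
      zero_mem' := ⟨0, fun q => by rw [LinearMap.zero_apply, zero_smul]⟩
      smul_mem' := by
        rintro c a ⟨G, hG⟩
        exact ⟨c • G, fun q => by rw [LinearMap.smul_apply, hG, smul_eq_mul, mul_smul]⟩ }
  have hI : ∀ h ∈ Ideal.span (Set.range f), ∀ x : M, h • x = 0 := by
    intro h hh x
    refine Submodule.span_induction ?_ ?_ ?_ ?_ hh
    · rintro _ ⟨s, rfl⟩
      exact hM s x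
    · exact zero_smul _ _
    · intro a b _ _ ha hb
      rw [add_smul, ha, hb, add_zero]
    · intro a b _ hb
      rw [smul_eq_mul, mul_smul, hb, smul_zero]
  suffices h𝔠 : 𝔠 = ⊤ by
    have h1 : (1 : R) ∈ 𝔠 := by rw [h𝔠]; trivial
    obtain ⟨G, hG⟩ := h1
    exact ⟨G, fun q => by rw [hG, one_smul]⟩
  by_contra hne
  obtain ⟨𝔫, h𝔫, hle⟩ := Ideal.exists_le_maximal 𝔠 hne
  haveI := h𝔫
  haveI := h𝔫.isPrime
  by_cases hI𝔫 : Ideal.span (Set.range f) ≤ 𝔫
  · obtain ⟨c, z, hzI, hzspan, hzreg⟩ := hloc 𝔫 hI𝔫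
    -- `β : R^c → F`
    choose mm hmm using fun i => exists_jm_eq f (z i) (hzI i)
    have hvβ : ∀ i, jm R f (mm i) = (RingHom.id R) (z i) := hmm
    -- `α : F → R^c`
    choose ws hws ns hns using fun s => exists_smul_eq_jm 𝔫 z hzspan s
    obtain ⟨w, hw, n', hvα⟩ : ∃ w ∈ 𝔫.primeCompl, ∃ n' : σ → (Fin c →₀ R),
        ∀ s, jm R z (n' s) = (RingHom.id R) (w * f s) := by
      refine ⟨∏ s, ws s, Submonoid.prod_mem _ fun s _ => hws s,
        fun s => (∏ s' ∈ Finset.univ.erase s, ws s') • ns s, fun s => ?_⟩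
      rw [map_smul, hns, RingHom.id_apply, smul_eq_mul, ← mul_assoc,
        mul_comm _ (ws s), Finset.mul_prod_erase _ _ (Finset.mem_univ s)]
    have hQw : ∀ q : σ →₀ R, q ∈ Q R f → q ∈ Q R (fun s => w * f s) := by
      intro q hq
      rw [mem_Q] at hq ⊢
      rw [jm_mul_family', hq, mul_zero]
    obtain ⟨α, hαQ, hjα⟩ : ∃ α : (σ →₀ R) →ₗ[R] (Fin c →₀ R),
        (∀ q ∈ Q R f, α q ∈ Q R z) ∧ ∀ x, jm R z (α x) = w * jm R f x := by
      refine ⟨τF (RingHom.id R) n', fun q hq => τF_mem_Q hvα (hQw q hq), fun x => ?_⟩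
      have := jm_τF (f := fun s => w * f s) hvα x
      rw [RingHom.id_apply, jm_mul_family'] at this
      exact this
    obtain ⟨β, hβF0, hjβ⟩ : ∃ β : (Fin c →₀ R) →ₗ[R] (σ →₀ R),
        (∀ y ∈ F0 R z, β y ∈ F0 R f) ∧ ∀ y, jm R f (β y) = jm R z y :=
      ⟨τF (RingHom.id R) mm, fun y hy => τF_mem_F0 hvβ hy, fun y => jm_τF hvβ y⟩
    have hβαQ : ∀ q : σ →₀ R, q ∈ Q R f → β (α q) ∈ Q R f := by
      intro q hq
      rw [mem_Q, hjβ, hjα, (mem_Q R f q).1 hq, mul_zero]
    have hφ : ∀ x : σ →₀ R, w • x - β (α x) ∈ Q R f := by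
      intro x
      rw [mem_Q, map_sub, map_smul, hjβ, hjα, smul_eq_mul, sub_self]
    obtain ⟨φQ, hφQ⟩ : ∃ φQ : (σ →₀ R) →ₗ[R] Q R f,
        ∀ x, (φQ x : σ →₀ R) = w • x - β (α x) := by
      refine ⟨{ toFun := fun x => ⟨w • x - β (α x), hφ x⟩
                map_add' := fun x y => ?_
                map_smul' := fun r x => ?_ }, fun x => rfl⟩
      · apply Subtype.ext
        change w • (x + y) - β (α (x + y)) = (w • x - β (α x)) + (w • y - β (α y))
        rw [map_add, map_add, smul_add]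
        abel
      · apply Subtype.ext
        change w • (r • x) - β (α (r • x)) = r • (w • x - β (α x))
        rw [map_smul, map_smul, smul_sub, smul_comm]
    obtain ⟨βαQ, hβαQ'⟩ : ∃ βαQ : Q R f →ₗ[R] Q R f, ∀ q, (βαQ q : σ →₀ R) = β (α q) := by
      refine ⟨{ toFun := fun q => ⟨β (α q), hβαQ q q.2⟩
                map_add' := fun x y => ?_
                map_smul' := fun r x => ?_ }, fun q => rfl⟩
      · apply Subtype.ext
        change β (α ((x + y : Q R f) : σ →₀ R)) = β (α x) + β (α y)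
        rw [Submodule.coe_add, map_add, map_add]
      · apply Subtype.ext
        change β (α ((r • x : Q R f) : σ →₀ R)) = r • β (α x)
        rw [Submodule.coe_smul, map_smul, map_smul]
    obtain ⟨ψ, hψ⟩ : ∃ ψ : Q R f →ₗ[R] M, ∀ q, ψ q = g (βαQ q) := ⟨g ∘ₗ βαQ, fun q => rfl⟩
    -- pointwise annihilation
    have hpt : ∀ q : Q R f, ∃ u ∈ 𝔫.primeCompl, u • ψ q = 0 := by
      intro q
      have h1 : α q ∈ Q R z := hαQ q q.2
      have h2 : locF (Localization.AtPrime 𝔫) (α q) ∈
          F0 (Localization.AtPrime 𝔫) (locf (Localization.AtPrime 𝔫) z) :=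
        hzreg (τF_mem_Q (locF_hv _ z) h1)
      obtain ⟨u, hu, hu'⟩ := exists_smul_mem_F0 𝔫.primeCompl (Localization.AtPrime 𝔫) z _ h2
      refine ⟨u, hu, ?_⟩
      have h3 : β (u • α q) ∈ F0 R f := hβF0 _ hu'
      have h4 : ((u • βαQ q : Q R f) : σ →₀ R) ∈ F0 R f := by
        have : ((u • βαQ q : Q R f) : σ →₀ R) = β (u • α q) := by
          rw [map_smul, Submodule.coe_smul, hβαQ']
        rw [this]
        exact h3
      rw [hψ, ← map_smul]
      exact hg _ h4
    -- uniform annihilation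
    haveI : IsNoetherian R (σ →₀ R) := isNoetherian_of_isNoetherianRing_of_finite R _
    have hfg : (⊤ : Submodule R (Q R f)).FG := IsNoetherian.noetherian _
    obtain ⟨T, hT⟩ := hfg
    choose us hus hus' using hpt
    obtain ⟨u, hu, hann⟩ : ∃ u ∈ 𝔫.primeCompl, ∀ q : Q R f, u • ψ q = 0 := by
      refine ⟨∏ q ∈ T, us q, Submonoid.prod_mem _ fun q _ => hus q, ?_⟩
      have hle' : (⊤ : Submodule R (Q R f)) ≤ LinearMap.ker ((∏ q ∈ T, us q) • ψ) := by
        rw [← hT, Submodule.span_le]
        intro q hq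
        rw [SetLike.mem_coe, LinearMap.mem_ker, LinearMap.smul_apply]
        obtain ⟨d, hd⟩ := Finset.dvd_prod_of_mem us hq
        rw [hd, mul_comm, mul_smul, hus', smul_zero]
      intro q
      have := hle' (Submodule.mem_top : q ∈ ⊤)
      rwa [LinearMap.mem_ker, LinearMap.smul_apply] at this
    -- the extension
    have hmem : u * w ∈ 𝔠 := by
      refine ⟨(u • g) ∘ₗ φQ, fun q => ?_⟩
      have h5 : φQ (q : σ →₀ R) + βαQ q = w • q := by
        apply Subtype.ext
        rw [Submodule.coe_add, hφQ, Submodule.coe_smul, hβαQ', sub_add_cancel]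
      have h6 : g (φQ (q : σ →₀ R)) = w • g q - ψ q := by
        rw [hψ, eq_sub_iff_add_eq, ← map_add, h5, map_smul]
      rw [LinearMap.comp_apply, LinearMap.smul_apply, h6, smul_sub, hann, sub_zero, mul_smul]
    rcases h𝔫.isPrime.mem_or_mem (hle hmem) with h | h
    · exact hu h
    · exact hw h
  · obtain ⟨h, hhI, hh𝔫⟩ := SetLike.not_le_iff_exists.1 hI𝔫
    have : h ∈ 𝔠 := ⟨0, fun q => by rw [LinearMap.zero_apply, hI h hhI]⟩
    exact hh𝔫 (hle this)

end conductor

end Groth.Agent.Lib.Helper19.EqLift
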