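import Groth.Agent.Lib.Helper19EqLiftE
import Groth.Agent.Lib.Helper19EqLiftF
import Groth.Agent.Lib.Helper19LciH1B
import Groth.Agent.Lib.Helper19CotTReg
import Groth.Agent.Lib.Helper19SmallExt

/-!
# Local complete intersections are unobstructed (helper19)
-/

set_option autoImplicit false
set_option linter.unusedSectionVars false
set_option linter.style.haveILetI false
universe u t m

open CategoryTheory CategoryTheory.Limits AlgebraicGeometry ArtFun ArtFun.Art TensorProduct

namespace Groth.Agent.Lib.Helper19.EqLift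

open Groth.Agent.Lib.Helper19 Groth.Agent.Lib.Helper19.DefAff Groth.Agent.Lib.Helper19.DefGlue
  Groth.Agent.Lib.Helper19.Kos Groth.Agent.Lib.Helper19.CotTwo

section charts

variable {R : Type u} [CommRing R] [IsNoetherianRing R] {σ : Type t} (f : σ → R)

/-- Koszul-regular ideals have local charts -/
theorem hasLocalChart_of_koszulRegular
    (hK : LCI.IsKoszulRegularIdeal (Ideal.span (Set.range f))) (𝔫 : Ideal R) [𝔫.IsPrime]
    (hle : Ideal.span (Set.range f) ≤ 𝔫) : HasLocalChart f 𝔫 := by
  obtain ⟨c, g, hreg, hspan⟩ := LciH1.exists_local_regular _ hK 𝔫 hle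
  have hmem : ∀ i, g i ∈ (Ideal.span (Set.range f)).map
      (algebraMap R (Localization.AtPrime 𝔫)) := by
    intro i
    rw [← hspan]
    exact Ideal.subset_span ⟨i, rfl⟩
  choose x hx using fun i =>
    (IsLocalization.mem_map_algebraMap_iff 𝔫.primeCompl (Localization.AtPrime 𝔫)).1 (hmem i)
  have hunit : ∀ i, IsUnit (algebraMap R (Localization.AtPrime 𝔫) ((x i).2 : R)) := fun i =>
    IsLocalization.map_units (Localization.AtPrime 𝔫) (x i).2
  have hfam : locf (Localization.AtPrime 𝔫) (fun i => ((x i).1 : R)) =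
      fun i => g i * algebraMap R (Localization.AtPrime 𝔫) ((x i).2 : R) := by
    funext i
    exact (hx i).symm
  refine ⟨c, fun i => ((x i).1 : R), fun i => (x i).1.2, ?_, ?_⟩
  · rw [← hspan, Ideal.span_le]
    rintro _ ⟨i, rfl⟩
    obtain ⟨v', hv'⟩ := (hunit i).exists_right_inv
    have : g i = locf (Localization.AtPrime 𝔫) (fun i => ((x i).1 : R)) i * v' := by
      rw [hfam, mul_assoc, hv', mul_one]
    rw [SetLike.mem_coe, this]
    exact Ideal.mul_mem_right _ _ (Ideal.subset_span ⟨i, rfl⟩)
  · rw [hfam]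
    exact Q_le_F0_mul_units g _ hunit
      (Groth.Agent.Lib.Helper19.CotTVanish.Q_le_F0_of_isWeaklyRegular g hreg)

end charts

section vanishing

variable {k B₀ : Type u} [Field k] [CommRing B₀] [Algebra k B₀]

/-- `T²(P, B₀) = 0` for a finite presentation with Koszul-regular kernel -/
theorem t2_subsingleton_of_koszulRegular {n : ℕ} {σ : Type t} [Finite σ]
    (P0 : Algebra.Presentation k B₀ (Fin n) σ)
    (hK : LCI.IsKoszulRegularIdeal P0.toExtension.ker) :
    Subsingleton (CotT.T2 P0 B₀) := by
  haveI : IsNoetherianRing P0.toExtension.Ring :=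
    inferInstanceAs (IsNoetherianRing (MvPolynomial (Fin n) k))
  have hker : Ideal.span (Set.range (CotT.rel P0)) = P0.toExtension.ker :=
    P0.span_range_relation_eq_ker
  have hK' : LCI.IsKoszulRegularIdeal (Ideal.span (Set.range (CotT.rel P0))) := by
    rw [hker]
    exact hK
  have hM : ∀ (s : σ) (x : B₀), CotT.rel P0 s • x = 0 := by
    intro s x
    rw [Algebra.smul_def, CotT.algebraMap_rel, zero_mul]
  have hext := fun g hg => exists_extension (f := CotT.rel P0) (M := B₀) hM
    (fun 𝔫 _ hle => hasLocalChart_of_koszulRegular (CotT.rel P0) hK' 𝔫 hle) g hg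
  have e := (bridge P0 B₀).toEquiv.trans
    (T2equivT2' (S := P0.toExtension.Ring) (B := B₀) (f := CotT.rel P0)
      (CotT.algebraMap_rel P0) B₀).toEquiv
  refine e.subsingleton_congr.mpr ⟨fun a b => ?_⟩
  have key : ∀ a : T2' (jm P0.toExtension.Ring (CotT.rel P0)) B₀, a = 0 := by
    rintro ⟨_, g, hg, rfl⟩
    apply Subtype.ext
    rw [SetLike.mem_coe, mem_killing] at hg
    obtain ⟨G, hG⟩ := hext g hg
    change (restr (jm P0.toExtension.Ring (CotT.rel P0)) B₀).mkQ g = 0
    rw [Submodule.mkQ_apply, Submodule.Quotient.mk_eq_zero, mem_restr]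
    exact ⟨G, hG⟩
  rw [key a, key b]

end vanishing

section main

variable {Λ k : Type u} [CommRing Λ] [Field k] [Algebra Λ k]
  {A₀ : Type u} [CommRing A₀] [Algebra k A₀]

/-- a finite presentation with Koszul-regular kernel -/
theorem exists_presentation_of_isLCI (hA : LCI.IsLCI k A₀) :
    ∃ (n : ℕ) (σ : Type u) (_ : Finite σ) (P0 : Algebra.Presentation k A₀ (Fin n) σ),
      LCI.IsKoszulRegularIdeal P0.toExtension.ker := by
  obtain ⟨hft, n, f, hf, hK⟩ := hA
  have hval : (MvPolynomial.aeval (R := k) (fun i : Fin n => f (MvPolynomial.X i))) = f := by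
    refine MvPolynomial.algHom_ext fun i => ?_
    rw [MvPolynomial.aeval_X]
  obtain ⟨Pg, hPg⟩ : ∃ Pg : Algebra.Generators k A₀ (Fin n),
      ∀ x : Pg.toExtension.Ring, algebraMap Pg.toExtension.Ring A₀ x = f x := by
    refine ⟨Algebra.Generators.ofSurjective (fun i => f (MvPolynomial.X i))
      (by rw [hval]; exact hf), fun x => ?_⟩
    have h1 : algebraMap (Algebra.Generators.ofSurjective (fun i => f (MvPolynomial.X i))
        (by rw [hval]; exact hf)).toExtension.Ring A₀ x =
        MvPolynomial.aeval (R := k) (fun i : Fin n => f (MvPolynomial.X i)) x := rfl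
    rw [h1, hval]
  have hker : Pg.toExtension.ker = RingHom.ker f.toRingHom := by
    ext x
    show algebraMap Pg.toExtension.Ring A₀ x = 0 ↔ f x = 0
    rw [hPg]
  haveI : IsNoetherianRing Pg.toExtension.Ring :=
    inferInstanceAs (IsNoetherianRing (MvPolynomial (Fin n) k))
  obtain ⟨T, hT⟩ := (isNoetherianRing_iff_ideal_fg _).1 inferInstance Pg.toExtension.ker
  have hrange : (Set.range fun x : (T : Set Pg.toExtension.Ring) => (x : Pg.toExtension.Ring)) =
      (T : Set Pg.toExtension.Ring) := Subtype.range_coe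
  refine ⟨n, (T : Set Pg.toExtension.Ring), T.finite_toSet.to_subtype,
    { toGenerators := Pg
      relation := fun x => (x : Pg.toExtension.Ring)
      span_range_relation_eq_ker := (congrArg Ideal.span hrange).trans hT }, ?_⟩
  change LCI.IsKoszulRegularIdeal Pg.toExtension.ker
  rw [hker]
  exact hK

/-- **Local complete intersections are unobstructed.** -/
theorem isSmoothFunctor_of_isLCI (hA : LCI.IsLCI k A₀) : IsSmoothFunctor (G Λ k A₀) := by
  obtain ⟨n, σ, _, P0, hK0⟩ := exists_presentation_of_isLCI hA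
  have h0 : Subsingleton (CotT.T2 P0 A₀) := t2_subsingleton_of_koszulRegular P0 hK0
  obtain ⟨e⟩ := Groth.Agent.Lib.Helper19.CotTReg.nonempty_T2_equiv_presentations' P0
    (CotT.canon k A₀) A₀
  have h1 : Subsingleton (CotT.T2 (CotT.canon k A₀) A₀) := e.symm.toEquiv.subsingleton
  have hT2 := t2Vanishes_of_subsingleton (CotT.canon k A₀) h1
  intro B A μ hμ
  refine surjective_induction (fun A B μ => Function.Surjective ((G Λ k A₀).map μ)) ?_ ?_ ?_ μ hμ
  · intro A B e he y
    exact ⟨(G Λ k A₀).map (inv e) y, map_map_inv (G Λ k A₀) e y⟩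
  · intro A B p hp
    exact surjective_map_of_isSmallExt (CotT.canon k A₀) hT2 p hp
  · intro A B C p q hp hq
    rw [Functor.map_comp]
    exact hq.comp hp

end main

end Groth.Agent.Lib.Helper19.EqLift
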