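import Mathlib.RingTheory.Kaehler.Basic
import Mathlib.RingTheory.TensorProduct.Basic
import Groth.Agent.Lib.Helper19Der

set_option autoImplicit false
universe u v w

open TensorProduct

namespace Groth.Agent.Lib.Helper19

section Kaehler

variable {Λ : Type u} {k : Type v} [CommRing Λ] [Field k] [Algebra Λ k]
variable {B A : Type w} [CommRing B] [CommRing A] [Algebra Λ B] [Algebra Λ A]
  [IsLocalRing B] [IsLocalRing A] [Algebra B A] [IsScalarTower Λ B A] [Algebra A k]
  [IsScalarTower Λ A k]

/-- A `k`-valued derivation of `A` which is `B`-linear vanishes when `k ⊗_A Ω_{A/B} = 0`. -/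
lemma derivation_eq_zero_of_subsingleton_tensor [Algebra B k] [IsScalarTower B A k]
    (h : Subsingleton (k ⊗[A] Ω[A⁄B])) (D : Derivation B A k) : D = 0 := by
  ext a
  have h1 : D a = D.liftKaehlerDifferential (KaehlerDifferential.D B A a) :=
    (Derivation.liftKaehlerDifferential_comp_D D a).symm
  have h2 : D.liftKaehlerDifferential (KaehlerDifferential.D B A a) =
      (D.liftKaehlerDifferential).liftBaseChange k ((1 : k) ⊗ₜ[A] KaehlerDifferential.D B A a) := by
    rw [LinearMap.liftBaseChange_tmul, one_smul]
  rw [h1, h2, Subsingleton.elim ((1 : k) ⊗ₜ[A] KaehlerDifferential.D B A a) 0, map_zero]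
  rfl

variable (Λ) in
include Λ in
/-- `B → A` is surjective iff `k ⊗_A Ω_{A/B} = 0` (local rings with the same residue field `k`,
`B` precomplete and `A` Noetherian). -/
theorem surjective_iff_subsingleton_tensor_kaehler
    [IsPrecomplete (IsLocalRing.maximalIdeal B) B] [IsNoetherianRing A]
    (hA : Function.Surjective (algebraMap A k))
    (hB : Function.Surjective ((algebraMap A k).comp (algebraMap B A))) :
    Function.Surjective (algebraMap B A) ↔ Subsingleton (k ⊗[A] Ω[A⁄B]) := by
  constructor
  · intro hs
    haveI := KaehlerDifferential.subsingleton_of_surjective B A hs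
    refine ⟨fun x y => ?_⟩
    have : ∀ z : k ⊗[A] Ω[A⁄B], z = 0 := by
      intro z
      induction z using TensorProduct.induction_on with
      | zero => rfl
      | tmul c ω => rw [Subsingleton.elim ω 0, tmul_zero]
      | add a b ha hb => rw [ha, hb, add_zero]
    rw [this x, this y]
  · intro h
    letI : Algebra B k := ((algebraMap A k).comp (algebraMap B A)).toAlgebra
    haveI : IsScalarTower B A k := IsScalarTower.of_algebraMap_eq (fun _ => rfl)
    let f : B →ₐ[Λ] A := IsScalarTower.toAlgHom Λ B A
    let resB : B →ₐ[Λ] k := (IsScalarTower.toAlgHom Λ A k).comp f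
    have hsurj : Function.Surjective f := by
      apply surjective_of_derivation_injective (Λ := Λ) resB hB hA f rfl
      intro D₁ D₂ hD
      have hsub : ∀ b : B, (D₁ - D₂) (algebraMap B A b) = 0 := by
        intro b
        have := hD b
        show D₁ (algebraMap B A b) - D₂ (algebraMap B A b) = 0
        rw [sub_eq_zero]
        exact this
      let D' : Derivation B A k :=
        { toLinearMap :=
            { toFun := fun a => (D₁ - D₂) a
              map_add' := fun a b => map_add _ a b
              map_smul' := fun b a => by
                rw [Algebra.smul_def, (D₁ - D₂).leibniz, hsub, smul_zero, add_zero,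
                  RingHom.id_apply, algebraMap_smul] }
          map_one_eq_zero' := (D₁ - D₂).map_one_eq_zero
          leibniz' := fun a b => (D₁ - D₂).leibniz a b }
      have hD' : D' = 0 := derivation_eq_zero_of_subsingleton_tensor h D'
      have : D₁ - D₂ = 0 := by
        ext a
        have := congrArg (fun E : Derivation B A k => E a) hD'
        exact this
      exact sub_eq_zero.1 this
    exact hsurj

end Kaehler

end Groth.Agent.Lib.Helper19
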