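import Mathlib.LinearAlgebra.Dual.Lemmas
import Mathlib.LinearAlgebra.FiniteDimensional.Lemmas
import Groth.Agent.Lib.Helper19Kaehler

set_option autoImplicit false
universe u v w

open TensorProduct

namespace Groth.Agent.Lib.Helper19

section KaehlerDim

variable {Λ : Type u} {k : Type v} [CommRing Λ] [Field k] [Algebra Λ k]
variable {A : Type w} [CommRing A] [Algebra Λ A] [Algebra A k] [IsScalarTower Λ A k]

/-- The `k`-linear map from derivations to the dual of `k ⊗ Ω`. -/
noncomputable def derToDual : Derivation Λ A k →ₗ[k] Module.Dual k (k ⊗[A] Ω[A⁄Λ]) where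
  toFun D := LinearMap.liftBaseChange k D.liftKaehlerDifferential
  map_add' D₁ D₂ := by
    have h : (D₁ + D₂).liftKaehlerDifferential =
        D₁.liftKaehlerDifferential + D₂.liftKaehlerDifferential := by
      apply Derivation.liftKaehlerDifferential_unique
      ext a
      simp
    rw [h]
    exact map_add (LinearMap.liftBaseChangeEquiv k) _ _
  map_smul' c D := by
    have h : (c • D).liftKaehlerDifferential = c • D.liftKaehlerDifferential := by
      apply Derivation.liftKaehlerDifferential_unique
      ext a
      simp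
    rw [h]
    exact map_smul (LinearMap.liftBaseChangeEquiv k) c _

lemma derToDual_apply (D : Derivation Λ A k) (c : k) (a : A) :
    derToDual D (c ⊗ₜ[A] KaehlerDifferential.D Λ A a) = c * D a := by
  show LinearMap.liftBaseChange k D.liftKaehlerDifferential (c ⊗ₜ[A] KaehlerDifferential.D Λ A a) = _
  rw [LinearMap.liftBaseChange_tmul, Derivation.liftKaehlerDifferential_comp_D, smul_eq_mul]

lemma derToDual_bijective : Function.Bijective (derToDual (Λ := Λ) (k := k) (A := A)) := by
  constructor
  · rw [← LinearMap.ker_eq_bot, LinearMap.ker_eq_bot']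
    intro D hD
    ext a
    have := derToDual_apply D 1 a
    rw [hD, one_mul] at this
    exact this.symm
  · intro φ
    let ℓ : Ω[A⁄Λ] →ₗ[A] k := (LinearMap.liftBaseChangeEquiv k).symm φ
    refine ⟨ℓ.compDer (KaehlerDifferential.D Λ A), ?_⟩
    show LinearMap.liftBaseChange k (ℓ.compDer (KaehlerDifferential.D Λ A)).liftKaehlerDifferential = φ
    have h : (ℓ.compDer (KaehlerDifferential.D Λ A)).liftKaehlerDifferential = ℓ :=
      (KaehlerDifferential.linearMapEquivDerivation Λ A).symm_apply_apply ℓ
    rw [h]
    exact (LinearMap.liftBaseChangeEquiv k).apply_symm_apply φ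

lemma finrank_derivation_eq :
    Module.finrank k (Derivation Λ A k) = Module.finrank k (k ⊗[A] Ω[A⁄Λ]) := by
  rw [← Subspace.dual_finrank_eq (K := k) (V := k ⊗[A] Ω[A⁄Λ])]
  exact LinearEquiv.finrank_eq (LinearEquiv.ofBijective derToDual derToDual_bijective)

end KaehlerDim

end Groth.Agent.Lib.Helper19
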