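import Groth.Agent.Lib.Helper19Sub
import Groth.Agent.Lib.Helper19KaehlerDim

set_option autoImplicit false
universe u v w

open CategoryTheory ArtFun ArtFun.Art TensorProduct

namespace Groth.Agent.Lib.Helper19

section EssKaehler

variable {Λ : Type u} {k : Type u} [CommRing Λ] [Field k] [Algebra Λ k]

/-- The derivation attached to a tangent vector `A ⟶ k[ε]` (for the `A`-module structure on `k` given by the
augmentation). -/
def tanToDer (A : Art Λ k) [Algebra A k] [IsScalarTower Λ A k]
    (hres : ∀ a, algebraMap A k a = A.res a) (t : A ⟶ dual Λ k) : Derivation Λ A k :=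
  Derivation.mk'
    { toFun := fun a => tder t a
      map_add' := fun a b => tder_add t a b
      map_smul' := fun c a => by
        have h0 : tder t (algebraMap Λ A c) = 0 := by
          show dsnd (t.toAlgHom (algebraMap Λ A c)) = 0
          rw [t.toAlgHom.commutes, dsnd_algebraMap]
        rw [Algebra.smul_def, tder_mul, h0, mul_zero, add_zero, RingHom.id_apply,
          AlgHom.commutes, Algebra.smul_def] }
    (fun a b => by
      show tder t (a * b) = a • tder t b + b • tder t a
      rw [tder_mul, Algebra.smul_def, Algebra.smul_def, hres, hres])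

lemma tanToDer_apply (A : Art Λ k) [Algebra A k] [IsScalarTower Λ A k]
    (hres : ∀ a, algebraMap A k a = A.res a) (t : A ⟶ dual Λ k) (a : A) :
    tanToDer A hres t a = tder t a := rfl

lemma tanToDer_bijective (A : Art Λ k) [Algebra A k] [IsScalarTower Λ A k]
    (hres : ∀ a, algebraMap A k a = A.res a) : Function.Bijective (tanToDer A hres) := by
  constructor
  · intro t₁ t₂ h
    apply tangent_ext
    intro a
    exact congrArg (fun D : Derivation Λ A k => D a) h
  · intro D
    refine ⟨⟨derHom D, AlgHom.ext fun a => hres a⟩, ?_⟩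
    ext a
    rfl

variable [Module.Finite Λ k]

/-- Essential surjections in terms of Kähler differentials. -/
theorem essSurj_iff_kaehler {A B : Art Λ k} (f : B ⟶ A) :
    letI : Algebra B A := f.toAlgHom.toRingHom.toAlgebra
    letI : Algebra A k := A.res.toRingHom.toAlgebra
    letI : Algebra B k := B.res.toRingHom.toAlgebra
    (Function.Surjective f ∧ ∀ (C : Art Λ k) (g : C ⟶ B), Function.Surjective (g ≫ f) →
        Function.Surjective g) ↔
      (Subsingleton (k ⊗[A] Ω[A⁄B]) ∧
        Module.finrank k (k ⊗[B] Ω[B⁄Λ]) = Module.finrank k (k ⊗[A] Ω[A⁄Λ])) := by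
  letI : Algebra B A := f.toAlgHom.toRingHom.toAlgebra
  letI : Algebra A k := A.res.toRingHom.toAlgebra
  letI : Algebra B k := B.res.toRingHom.toAlgebra
  haveI : IsScalarTower Λ B A :=
    IsScalarTower.of_algebraMap_eq (fun r => (f.toAlgHom.commutes r).symm)
  haveI : IsScalarTower Λ A k :=
    IsScalarTower.of_algebraMap_eq (fun r => (A.res.commutes r).symm)
  haveI : IsScalarTower Λ B k :=
    IsScalarTower.of_algebraMap_eq (fun r => (B.res.commutes r).symm)
  haveI : IsScalarTower B A k :=
    IsScalarTower.of_algebraMap_eq (fun b => (Art.res_app f b).symm)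
  have hresA : ∀ a, algebraMap A k a = A.res a := fun _ => rfl
  have hresB : ∀ b, algebraMap B k b = B.res b := fun _ => rfl
  have hA : Function.Surjective (algebraMap A k) := A.res_surjective
  have hB : Function.Surjective ((algebraMap A k).comp (algebraMap B A)) := by
    intro c
    obtain ⟨b, hb⟩ := B.res_surjective c
    refine ⟨b, ?_⟩
    rw [← hb]
    exact Art.res_app f b
  haveI finA : Module.Finite k (Derivation Λ A k) := finite_derivation (Λ := Λ) (S := A) hA
  haveI finB : Module.Finite k (Derivation Λ B k) :=
    finite_derivation (Λ := Λ) (S := B) B.res_surjective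
  -- restriction of derivations
  let fsharp : Derivation Λ A k →ₗ[k] Derivation Λ B k :=
    { toFun := fun D => D.compAlgebraMap B
      map_add' := fun _ _ => rfl
      map_smul' := fun _ _ => rfl }
  have hcompat : ∀ t : A ⟶ dual Λ k,
      tanToDer B hresB (f ≫ t) = fsharp (tanToDer A hresA t) := by
    intro t
    ext b
    rfl
  have hbijA := tanToDer_bijective A hresA
  have hbijB := tanToDer_bijective B hresB
  have hinj_iff : Function.Injective (fun t : A ⟶ dual Λ k => f ≫ t) ↔ Function.Injective fsharp := by
    constructor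
    · intro h D₁ D₂ e
      obtain ⟨t₁, rfl⟩ := hbijA.2 D₁
      obtain ⟨t₂, rfl⟩ := hbijA.2 D₂
      rw [← hcompat, ← hcompat] at e
      have := h (hbijB.1 e)
      rw [this]
    · intro h t₁ t₂ e
      apply hbijA.1
      apply h
      rw [← hcompat, ← hcompat]
      exact congrArg (tanToDer B hresB) e
  have hsurj_iff : Function.Surjective (fun t : A ⟶ dual Λ k => f ≫ t) ↔
      Function.Surjective fsharp := by
    constructor
    · intro h D
      obtain ⟨s, rfl⟩ := hbijB.2 D
      obtain ⟨t, rfl⟩ := h s
      exact ⟨tanToDer A hresA t, (hcompat t).symm⟩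
    · intro h s
      obtain ⟨D, hD⟩ := h (tanToDer B hresB s)
      obtain ⟨t, rfl⟩ := hbijA.2 D
      refine ⟨t, hbijB.1 ?_⟩
      rw [← hD]
      exact hcompat t
  have hS := surjective_iff_subsingleton_tensor_kaehler (k := k) (B := B) (A := A) Λ hA hB
  have hfalg : Function.Surjective f ↔ Function.Surjective (algebraMap B A) := Iff.rfl
  rw [essSurj_iff_tangent_bijective, ← finrank_derivation_eq (Λ := Λ) (k := k) (A := B),
    ← finrank_derivation_eq (Λ := Λ) (k := k) (A := A), ← hS, ← hfalg,
    surjective_iff_tangent_injective, hinj_iff]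
  constructor
  · rintro ⟨h1, h2⟩
    have h1' := hinj_iff.1 h1
    have h2' := hsurj_iff.1 h2
    exact ⟨h1', (LinearEquiv.finrank_eq (LinearEquiv.ofBijective fsharp ⟨h1', h2'⟩)).symm⟩
  · rintro ⟨h1, h2⟩
    refine ⟨hinj_iff.2 h1, hsurj_iff.2 ?_⟩
    exact (LinearMap.injective_iff_surjective_of_finrank_eq_finrank h2.symm).1 h1

end EssKaehler

end Groth.Agent.Lib.Helper19
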