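import Groth.Agent.Lib.Helper19Functor
import Groth.Agent.Lib.Helper19Cotangent

set_option autoImplicit false
universe u v w

open CategoryTheory ArtFun ArtFun.Art

namespace Groth.Agent.Lib.Helper19

section Essential

variable {Λ : Type u} {k : Type u} [CommRing Λ] [Field k] [Algebra Λ k]

/-- A morphism into `B` is surjective as soon as its composite with the quotient by `m_Λ B + m_B²` is. -/
lemma surjective_of_comp_relCotangentQuot {C B B' : Art Λ k} (g : C ⟶ B) (qB : B ⟶ B')
    (hkB : RingHom.ker qB.toAlgHom = Ideal.map (algebraMap Λ B) (RingHom.ker (algebraMap Λ k)) ⊔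
      IsLocalRing.maximalIdeal B ^ 2)
    (h : Function.Surjective (g ≫ qB)) : Function.Surjective g := by
  have tf := (surjective_tfae_cotangent C.res C.res_surjective B.res B.res_surjective
    g.toAlgHom g.res_comp).out 0 2
  apply tf.2
  apply le_antisymm
  · exact sup_le (sup_le (map_kerΛ_le_maximalIdeal B.res B.res_surjective)
      (map_maximalIdeal_le C.res C.res_surjective B.res B.res_surjective g.toAlgHom g.res_comp))
      (Ideal.pow_le_self two_ne_zero)
  · intro b hb
    obtain ⟨c, hc⟩ := h (qB b)
    have hker : b - g c ∈ RingHom.ker qB.toAlgHom := by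
      rw [RingHom.mem_ker, map_sub, sub_eq_zero]
      exact hc.symm
    have hres : B.res (b - g c) = 0 := by
      rw [← Art.res_app qB]
      have : qB (b - g c) = 0 := hker
      rw [this, map_zero]
    have hcm : c ∈ IsLocalRing.maximalIdeal C := by
      rw [Art.mem_maximalIdeal_iff, ← Art.res_app g]
      rw [Art.mem_maximalIdeal_iff] at hb
      rw [map_sub, hb, zero_sub, neg_eq_zero] at hres
      exact hres
    rw [hkB] at hker
    have h1 : g.toAlgHom c ∈ Ideal.map g.toAlgHom (IsLocalRing.maximalIdeal C) :=
      Ideal.mem_map_of_mem _ hcm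
    have hb' : b = g.toAlgHom c + (b - g c) := by
      show b = g c + (b - g c)
      ring
    rw [hb']
    rcases Submodule.mem_sup.1 hker with ⟨x, hx, y, hy, hxy⟩
    rw [← hxy]
    have e : g.toAlgHom c + (x + y) = (x + g.toAlgHom c) + y := by ring
    rw [e]
    exact Ideal.add_mem _ (Ideal.mem_sup_left (Ideal.add_mem _ (Ideal.mem_sup_left hx)
      (Ideal.mem_sup_right h1))) (Ideal.mem_sup_right hy)

/-- Essential surjections can be tested after dividing by `m_Λ + m²`. -/
theorem essSurj_iff_quot [Module.Finite Λ k] {A B A' B' : Art Λ k} (f : B ⟶ A)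
    (qB : B ⟶ B') (hqB : Function.Surjective qB)
    (hkB : RingHom.ker qB.toAlgHom = Ideal.map (algebraMap Λ B) (RingHom.ker (algebraMap Λ k)) ⊔
      IsLocalRing.maximalIdeal B ^ 2)
    (qA : A ⟶ A') (hqA : Function.Surjective qA)
    (hkA : RingHom.ker qA.toAlgHom = Ideal.map (algebraMap Λ A) (RingHom.ker (algebraMap Λ k)) ⊔
      IsLocalRing.maximalIdeal A ^ 2)
    (f' : B' ⟶ A') (hf' : qB ≫ f' = f ≫ qA) :
    (Function.Surjective f ∧ ∀ (C : Art Λ k) (g : C ⟶ B), Function.Surjective (g ≫ f) →
        Function.Surjective g) ↔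
      (Function.Surjective f' ∧ ∀ (C : Art Λ k) (g : C ⟶ B'), Function.Surjective (g ≫ f') →
        Function.Surjective g) := by
  have comp_surj : ∀ {X Y Z : Art Λ k} (a : X ⟶ Y) (b : Y ⟶ Z), Function.Surjective a →
      Function.Surjective b → Function.Surjective (a ≫ b) := fun a b ha hb => hb.comp ha
  have of_comp : ∀ {X Y Z : Art Λ k} (a : X ⟶ Y) (b : Y ⟶ Z), Function.Surjective (a ≫ b) →
      Function.Surjective b := fun a b hab => Function.Surjective.of_comp (g := a) hab
  constructor
  · rintro ⟨hfs, hess⟩
    have hf's : Function.Surjective f' := by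
      apply of_comp qB f'
      rw [hf']
      exact comp_surj f qA hfs hqA
    refine ⟨hf's, ?_⟩
    intro C g hg
    have hD := isFibreProd_pullbackObj g qB hqB
    set D := pullbackObj g qB hqB
    set p : D ⟶ C := pullbackObjFst g qB hqB
    set gt : D ⟶ B := pullbackObjSnd g qB hqB
    have hp : Function.Surjective p := fibreProd_fst_surjective hD hqB
    have hw : p ≫ g = gt ≫ qB := hD.w
    have h1 : Function.Surjective ((gt ≫ f) ≫ qA) := by
      rw [Category.assoc, ← hf', ← Category.assoc, ← hw, Category.assoc]
      exact comp_surj p (g ≫ f') hp hg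
    have h2 : Function.Surjective (gt ≫ f) := surjective_of_comp_relCotangentQuot _ qA hkA h1
    have h3 : Function.Surjective gt := hess D gt h2
    have h4 : Function.Surjective (p ≫ g) := by
      rw [hw]
      exact comp_surj gt qB h3 hqB
    exact of_comp p g h4
  · rintro ⟨hf's, hess⟩
    have hfs : Function.Surjective f := by
      apply surjective_of_comp_relCotangentQuot f qA hkA
      rw [← hf']
      exact comp_surj qB f' hqB hf's
    refine ⟨hfs, ?_⟩
    intro C g hg
    apply surjective_of_comp_relCotangentQuot g qB hkB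
    apply hess C (g ≫ qB)
    rw [Category.assoc, hf', ← Category.assoc]
    exact comp_surj (g ≫ f) qA hg hqA

end Essential

end Groth.Agent.Lib.Helper19
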