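import Mathlib
import Groth.Agent.Lib.Helper19AzSplitF
import Groth.Agent.Lib.Helper19AzSplitH
import Groth.Agent.Lib.Helper19ZarGlue
import Groth.Agent.Lib.Helper25SprA

/-!
# Étale-local solvability (helper19), part A: natural finite systems of equations

A *natural system* over `S` with values in `- ⊗[S] A` consists of finitely many unknowns
`v : ι → X ⊗[S] A` and finitely many expressions `D X v k ∈ X ⊗[S] A`, natural in the commutative
`S`-algebra `X`.  A solution over `X` is a `v` with all `D X v k = 0`.  Solutions are functorial,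
descend along localisations to a principal localisation, descend from the strict henselisation
`Rsh` of a local ring to a stage, and glue over finite products.
-/

set_option autoImplicit false
set_option linter.style.haveILetI false
set_option linter.unusedSectionVars false

open TensorProduct

namespace Groth.Agent.Lib.Helper19EtLoc

open Groth.Agent.Lib.Helper19AzSplit

universe u w

/-- a natural finite system of equations with values in `- ⊗[S] A` -/
structure NatSys (S : Type u) [CommRing S] (A : Type w) [Ring A] [Algebra S A] (ι κ : Type) where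
  /-- the expressions -/
  D : ∀ (X : Type u) [CommRing X] [Algebra S X], (ι → X ⊗[S] A) → κ → X ⊗[S] A
  /-- naturality -/
  nat : ∀ (X Y : Type u) [CommRing X] [Algebra S X] [CommRing Y] [Algebra S Y] (σ : X →ₐ[S] Y)
    (v : ι → X ⊗[S] A) (k : κ),
    Algebra.TensorProduct.map σ (AlgHom.id S A) (D X v k) =
      D Y (fun i => Algebra.TensorProduct.map σ (AlgHom.id S A) (v i)) k

variable {S : Type u} [CommRing S] {A : Type w} [Ring A] [Algebra S A] {ι κ : Type}

/-- the system has a solution over `X` -/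
def NatSys.Sol (𝒟 : NatSys S A ι κ) (X : Type u) [CommRing X] [Algebra S X] : Prop :=
  ∃ v : ι → X ⊗[S] A, ∀ k, 𝒟.D X v k = 0

theorem NatSys.Sol.map (𝒟 : NatSys S A ι κ) {X Y : Type u} [CommRing X] [Algebra S X] [CommRing Y]
    [Algebra S Y] (σ : X →ₐ[S] Y) (h : 𝒟.Sol X) : 𝒟.Sol Y := by
  obtain ⟨v, hv⟩ := h
  refine ⟨fun i => Algebra.TensorProduct.map σ (AlgHom.id S A) (v i), fun k => ?_⟩
  rw [← 𝒟.nat X Y σ v k, hv k, map_zero]

section Loc

variable [Finite ι] [Finite κ] (𝒟 : NatSys S A ι κ)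

/-- solutions descend along a localisation -/
theorem NatSys.Sol.loc (B : Type u) [CommRing B] [Algebra S B] (M₀ : Submonoid B)
    (T : Type u) [CommRing T] [Algebra B T] [Algebra S T] [IsScalarTower S B T]
    [IsLocalization M₀ T] (h : 𝒟.Sol T) : ∃ s ∈ M₀, 𝒟.Sol (Localization.Away s) := by
  classical
  haveI := Fintype.ofFinite ι
  haveI := Fintype.ofFinite κ
  obtain ⟨e, he⟩ := h
  obtain ⟨s₁, hs₁, H₁⟩ := Groth.Agent.Lib.Helper25.Spr.exists_forall_finset M₀
    (Finset.univ : Finset ι)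
    (fun i s' => ∀ σ : Localization.Away s' →ₐ[B] T,
      ∃ v : Localization.Away s' ⊗[S] A, tmap A σ v = e i)
    (fun i _ => exists_away_mem_range M₀ T A (e i))
  obtain ⟨σ₁⟩ := exists_awayHom s₁ T (IsLocalization.map_units T ⟨s₁, hs₁⟩)
  have H₁' : ∀ i : ι, ∃ v : Localization.Away s₁ ⊗[S] A, tmap A σ₁ v = e i :=
    fun i => H₁ s₁ hs₁ dvd_rfl i (Finset.mem_univ _) σ₁
  choose v hv using H₁'
  have hd : ∀ k, tmap A σ₁ (𝒟.D (Localization.Away s₁) v k) = 0 := by
    intro k
    have := 𝒟.nat (Localization.Away s₁) T (σ₁.restrictScalars S) v k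
    change tmap A σ₁ _ = 𝒟.D T (fun i => tmap A σ₁ (v i)) k at this
    rw [this]
    have hve : (fun i => tmap A σ₁ (v i)) = e := funext hv
    rw [hve, he k]
  obtain ⟨t, ht, H₂⟩ := Groth.Agent.Lib.Helper25.Spr.exists_forall_finset M₀
    (Finset.univ : Finset κ)
    (fun k s' => ∀ τ : Localization.Away s₁ →ₐ[B] Localization.Away s',
      tmap A τ (𝒟.D (Localization.Away s₁) v k) = 0)
    (fun k _ => exists_away_eq_zero M₀ T A σ₁ _ (hd k))
  have hs' : s₁ * t ∈ M₀ := M₀.mul_mem hs₁ ht
  obtain ⟨τ⟩ := exists_awayHom s₁ (Localization.Away (s₁ * t))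
    (isUnit_algebraMap_of_dvd (dvd_mul_right s₁ t))
  refine ⟨s₁ * t, hs', fun i => tmap A τ (v i), fun k => ?_⟩
  have := 𝒟.nat (Localization.Away s₁) (Localization.Away (s₁ * t)) (τ.restrictScalars S) v k
  change tmap A τ _ = 𝒟.D _ (fun i => tmap A τ (v i)) k at this
  rw [← this]
  exact H₂ (s₁ * t) hs' (dvd_mul_left t s₁) k (Finset.mem_univ _) τ

/-- solutions over a finite product from solutions over the factors -/
theorem NatSys.Sol.pi (m : ℕ) (E : Fin m → Type u) [∀ k, CommRing (E k)] [∀ k, Algebra S (E k)]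
    (h : ∀ k, 𝒟.Sol (E k)) : 𝒟.Sol (∀ k, E k) := by
  classical
  choose v hv using h
  let Ψ := Groth.Agent.Lib.Helper19ZarGlue.PhiEquiv (S := S) E A
  refine ⟨fun i => Ψ.symm (fun k => v k i), fun j => ?_⟩
  apply Groth.Agent.Lib.Helper19ZarGlue.proj_injective
  intro k
  rw [map_zero]
  have h1 := 𝒟.nat (∀ k, E k) (E k) (Pi.evalAlgHom S E k) (fun i => Ψ.symm (fun k => v k i)) j
  change Groth.Agent.Lib.Helper19ZarGlue.proj E A k _ = _ at h1
  rw [h1]
  have h2 : (fun i => Algebra.TensorProduct.map (Pi.evalAlgHom S E k) (AlgHom.id S A)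
      (Ψ.symm (fun k => v k i))) = v k := by
    funext i
    change Groth.Agent.Lib.Helper19ZarGlue.proj E A k (Ψ.symm (fun k => v k i)) = v k i
    rw [← Groth.Agent.Lib.Helper19ZarGlue.PhiEquiv_apply, AlgEquiv.apply_symm_apply]
  rw [h2, hv k j]

end Loc

section Sh

open IsLocalRing Groth.Agent.Lib.Helper3.Sh

variable [Finite ι] (𝒟 : NatSys S A ι κ)
  (R : Type u) [CommRing R] [IsLocalRing R] [Algebra S R]
  (Ω : Type u) [Field Ω] [Algebra R Ω] [Algebra (ResidueField R) Ω]
  [IsScalarTower R (ResidueField R) Ω] [IsSepClosure (ResidueField R) Ω]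

attribute [local instance 10] algSsh algSL

/-- solutions over the strict henselisation come from a stage -/
theorem NatSys.Sol.sh (h : 𝒟.Sol (Rsh R Ω)) : ∃ i : Idx R Ω, 𝒟.Sol i.L := by
  obtain ⟨e, he⟩ := h
  have h1 : ∀ a : ι, ∃ i : Idx R Ω, ∀ j, i ≤ j →
      e a ∈ Set.range (ofLA S R Ω A j) := fun a => exists_mem_range S R Ω A _
  choose idx hidx using h1
  obtain ⟨i, hi⟩ := Finite.exists_le idx
  have h2 : ∀ a : ι, ∃ v : i.L ⊗[S] A, ofLA S R Ω A i v = e a := fun a => hidx a i (hi a)
  choose v hv using h2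
  refine ⟨i, v, fun k => ?_⟩
  apply ofLA_injective S R Ω A i
  rw [map_zero]
  have := 𝒟.nat i.L (Rsh R Ω) (ofLS S R Ω i) v k
  change ofLA S R Ω A i _ = 𝒟.D _ (fun a => ofLA S R Ω A i (v a)) k at this
  rw [this]
  have hve : (fun a => ofLA S R Ω A i (v a)) = e := funext hv
  rw [hve, he k]

end Sh

end Groth.Agent.Lib.Helper19EtLoc
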