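import Mathlib
import Groth.Agent.Lib.Helper19EtLocA
import Groth.Agent.Lib.Helper19AzSplitK

/-!
# Étale-local solvability (helper19), part B: from strict henselisations to an étale cover

If a natural finite system is solvable over the strict henselisation of `S_p` for every prime `p`
of `S`, then it is solvable over some étale faithfully flat `S`-algebra.
-/

set_option autoImplicit false
set_option linter.style.haveILetI false
set_option linter.unusedSectionVars false

open TensorProduct

namespace Groth.Agent.Lib.Helper19EtLoc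

open Groth.Agent.Lib.Helper19AzSplit IsLocalRing Groth.Agent.Lib.Helper3.Sh

universe u w

variable {S : Type u} [CommRing S] {A : Type w} [Ring A] [Algebra S A] {ι κ : Type}
  [Finite ι] [Finite κ] (𝒟 : NatSys S A ι κ)

/-- there is an étale `S`-algebra with a prime over `p` over which the system is solvable -/
def NatSys.Good (p : Ideal S) : Prop :=
  ∃ (E : Type u) (_ : CommRing E) (_ : Algebra S E), Algebra.Etale S E ∧
    (∃ Q : Ideal E, Q.IsPrime ∧ Q.comap (algebraMap S E) = p) ∧ 𝒟.Sol E

section T2

variable (p : Ideal S)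

theorem NatSys.good_of_localization
    (B₀ : Type u) [CommRing B₀] [Algebra S B₀] [Algebra.Etale S B₀] (M₀ : Submonoid B₀)
    (T : Type u) [CommRing T] [Algebra B₀ T] [Algebra S T] [IsScalarTower S B₀ T]
    [IsLocalization M₀ T]
    (Q : Ideal T) [hQ : Q.IsPrime] (hQp : Q.comap (algebraMap S T) = p)
    (h : 𝒟.Sol T) : 𝒟.Good p := by
  obtain ⟨s, hs, hsol⟩ := NatSys.Sol.loc 𝒟 B₀ M₀ T h
  obtain ⟨j⟩ := exists_awayHom s T (IsLocalization.map_units T ⟨s, hs⟩)
  haveI : Algebra.Etale S (Localization.Away s) := Algebra.Etale.comp S B₀ (Localization.Away s)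
  refine ⟨Localization.Away s, inferInstance, inferInstance, inferInstance,
    ⟨Q.comap j.toRingHom, Ideal.comap_isPrime _ _, ?_⟩, hsol⟩
  rw [Ideal.comap_comap, ← hQp]
  congr 1
  ext r
  change j (algebraMap S (Localization.Away s) r) = algebraMap S T r
  rw [IsScalarTower.algebraMap_apply S B₀ (Localization.Away s), j.commutes,
    ← IsScalarTower.algebraMap_apply]

theorem NatSys.good_of_tensor
    (R' : Type u) [CommRing R'] [Algebra S R'] [Algebra.Etale S R']
    (A' : Type u) [CommRing A'] [Algebra S A'] [Algebra R' A'] [IsScalarTower S R' A']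
    (S' : Submonoid R') [IsLocalization S' A']
    (B₀ : Type u) [CommRing B₀] [Algebra R' B₀] [Algebra.Etale R' B₀]
    (Q : Ideal (A' ⊗[R'] B₀)) [hQ : Q.IsPrime]
    (hQp : Q.comap (algebraMap S (A' ⊗[R'] B₀)) = p)
    (h : 𝒟.Sol (A' ⊗[R'] B₀)) : 𝒟.Good p := by
  letI : Algebra S B₀ := ((algebraMap R' B₀).comp (algebraMap S R')).toAlgebra
  haveI : IsScalarTower S R' B₀ := IsScalarTower.of_algebraMap_eq (fun _ => rfl)
  haveI : Algebra.Etale S B₀ := Algebra.Etale.comp S R' B₀
  letI : Algebra B₀ (A' ⊗[R'] B₀) := Algebra.TensorProduct.rightAlgebra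
  haveI : IsScalarTower S B₀ (A' ⊗[R'] B₀) := by
    apply IsScalarTower.of_algebraMap_eq
    intro r
    change algebraMap S A' r ⊗ₜ[R'] (1 : B₀) =
      (1 : A') ⊗ₜ[R'] (algebraMap R' B₀ (algebraMap S R' r))
    rw [Algebra.algebraMap_eq_smul_one (algebraMap S R' r), ← TensorProduct.smul_tmul,
      ← Algebra.algebraMap_eq_smul_one, ← IsScalarTower.algebraMap_apply]
  haveI : IsLocalization (Algebra.algebraMapSubmonoid B₀ S') (A' ⊗[R'] B₀) :=
    IsLocalization.tensorRight A' S'
  exact NatSys.good_of_localization 𝒟 p B₀ (Algebra.algebraMapSubmonoid B₀ S') (A' ⊗[R'] B₀) Q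
    hQp h

end T2

section T4

variable (p : Ideal S) [p.IsPrime]

theorem NatSys.good_of_standardEtale
    (C₂ : Type u) [CommRing C₂] [Algebra (Localization.AtPrime p) C₂] [Algebra S C₂]
    [IsScalarTower S (Localization.AtPrime p) C₂]
    (hstd : Algebra.IsStandardEtale (Localization.AtPrime p) C₂)
    (Q : Ideal C₂) [hQ : Q.IsPrime] (hQp : Q.comap (algebraMap S C₂) = p)
    (h : 𝒟.Sol C₂) : 𝒟.Good p := by
  obtain ⟨⟨P, x, hx, hbij⟩⟩ := hstd.nonempty_standardEtalePresentation
  obtain ⟨g, hg, ι', P₀, rfl⟩ :=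
    Groth.Agent.Lib.Helper25.Spr.exists_away_pair p.primeCompl (Localization.AtPrime p) P
  letI : Algebra (Localization.Away g) (Localization.AtPrime p) := ι'.toRingHom.toAlgebra
  haveI : IsScalarTower S (Localization.Away g) (Localization.AtPrime p) :=
    IsScalarTower.of_algebraMap_eq (fun r => (ι'.commutes r).symm)
  have hle : Submonoid.powers g ≤ p.primeCompl := by
    rintro _ ⟨k, rfl⟩
    exact p.primeCompl.pow_mem hg k
  haveI : IsLocalization (p.primeCompl.map (algebraMap S (Localization.Away g)))
      (Localization.AtPrime p) :=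
    IsLocalization.isLocalization_of_submonoid_le (Localization.Away g) (Localization.AtPrime p)
      (Submonoid.powers g) p.primeCompl hle
  let pres : StandardEtalePresentation (Localization.AtPrime p)
      (Localization.AtPrime p ⊗[Localization.Away g] P₀.Ring) := (tautPres P₀).baseChange
  let e₂ : (P₀.map ι'.toRingHom).Ring ≃ₐ[Localization.AtPrime p] C₂ := AlgEquiv.ofBijective _ hbij
  let eT : (Localization.AtPrime p ⊗[Localization.Away g] P₀.Ring) ≃ₐ[Localization.AtPrime p] C₂ :=
    pres.equivRing.trans e₂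
  have h' : 𝒟.Sol (Localization.AtPrime p ⊗[Localization.Away g] P₀.Ring) :=
    NatSys.Sol.map 𝒟 ((eT.symm : C₂ →ₐ[Localization.AtPrime p] _).restrictScalars S) h
  refine NatSys.good_of_tensor 𝒟 p (Localization.Away g) (Localization.AtPrime p)
    (p.primeCompl.map (algebraMap S (Localization.Away g))) P₀.Ring
    (Q.comap eT.toRingEquiv.toRingHom) ?_ h'
  haveI := hQ
  rw [Ideal.comap_comap]
  refine Eq.trans ?_ hQp
  congr 1
  ext r
  change eT (algebraMap S _ r) = algebraMap S C₂ r
  rw [IsScalarTower.algebraMap_apply S (Localization.AtPrime p)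
    (Localization.AtPrime p ⊗[Localization.Away g] P₀.Ring), eT.commutes,
    ← IsScalarTower.algebraMap_apply]

end T4

section T5

variable (p : Ideal S) [p.IsPrime]
  (Ω : Type u) [Field Ω] [Algebra (Localization.AtPrime p) Ω]
  [Algebra (ResidueField (Localization.AtPrime p)) Ω]
  [IsScalarTower (Localization.AtPrime p) (ResidueField (Localization.AtPrime p)) Ω]
  [IsSepClosure (ResidueField (Localization.AtPrime p)) Ω]

attribute [local instance 10] algSsh algSL algSC

theorem NatSys.good_of_stage (i : Idx (Localization.AtPrime p) Ω) (h : 𝒟.Sol i.L) :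
    𝒟.Good p := by
  obtain ⟨s, hs, h₁⟩ := NatSys.Sol.loc 𝒟 i.C i.Q.primeCompl i.L h
  obtain ⟨σ₁⟩ := exists_awayHom s i.L (IsLocalization.map_units i.L ⟨s, hs⟩)
  let C₁ := Localization.Away s
  haveI : IsScalarTower S (Localization.AtPrime p) C₁ := by
    apply IsScalarTower.of_algebraMap_eq
    intro r
    rw [IsScalarTower.algebraMap_apply S i.C C₁,
      IsScalarTower.algebraMap_apply (Localization.AtPrime p) i.C C₁,
      ← IsScalarTower.algebraMap_apply S (Localization.AtPrime p) i.C]
  haveI : Algebra.Etale (Localization.AtPrime p) C₁ :=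
    Algebra.Etale.comp (Localization.AtPrime p) i.C C₁
  let Q₁ : Ideal C₁ := (maximalIdeal i.L).comap σ₁.toRingHom
  haveI hQ₁ : Q₁.IsPrime := Ideal.comap_isPrime _ _
  have hQ₁p : Q₁.comap (algebraMap S C₁) = p := by
    rw [Ideal.comap_comap]
    refine Eq.trans ?_ (comap_maximalIdeal_L p Ω i)
    congr 1
    ext r
    change σ₁ (algebraMap S C₁ r) = algebraMap S i.L r
    rw [IsScalarTower.algebraMap_apply S i.C C₁, σ₁.commutes, ← IsScalarTower.algebraMap_apply]
  haveI : Algebra.IsEtaleAt (Localization.AtPrime p) Q₁ := by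
    change Algebra.FormallyEtale (Localization.AtPrime p) (Localization.AtPrime Q₁)
    haveI : Algebra.FormallyEtale C₁ (Localization.AtPrime Q₁) :=
      Algebra.FormallyEtale.of_isLocalization Q₁.primeCompl
    exact Algebra.FormallyEtale.comp (Localization.AtPrime p) C₁ (Localization.AtPrime Q₁)
  obtain ⟨f, hfq, hstd⟩ :=
    Algebra.IsEtaleAt.exists_isStandardEtale (R := Localization.AtPrime p) Q₁
  let C₂ := Localization.Away f
  haveI : @IsScalarTower S (Localization.AtPrime p) C₂ Algebra.toSMul Algebra.toSMul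
      Algebra.toSMul := by
    apply IsScalarTower.of_algebraMap_eq
    intro r
    rw [IsScalarTower.algebraMap_apply S C₁ C₂,
      IsScalarTower.algebraMap_apply (Localization.AtPrime p) C₁ C₂,
      ← IsScalarTower.algebraMap_apply S (Localization.AtPrime p) C₁]
  have hdisj : Disjoint (Submonoid.powers f : Set C₁) (Q₁ : Set C₁) := by
    rw [Set.disjoint_left]
    rintro _ ⟨k, rfl⟩ hk
    exact hfq (hQ₁.mem_of_pow_mem k hk)
  have hp₂ : (Q₁.map (algebraMap C₁ C₂)).IsPrime :=
    IsLocalization.isPrime_of_isPrime_disjoint (Submonoid.powers f) C₂ Q₁ hQ₁ hdisj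
  have hpp : (Q₁.map (algebraMap C₁ C₂)).comap (algebraMap C₁ C₂) = Q₁ :=
    IsLocalization.comap_map_of_isPrime_disjoint (Submonoid.powers f) C₂ hQ₁ hdisj
  have h₂ : 𝒟.Sol C₂ := NatSys.Sol.map 𝒟 (IsScalarTower.toAlgHom S C₁ C₂) h₁
  refine NatSys.good_of_standardEtale 𝒟 p C₂ hstd (Q₁.map (algebraMap C₁ C₂)) ?_ h₂
  rw [IsScalarTower.algebraMap_eq S C₁ C₂, ← Ideal.comap_comap, hpp, hQ₁p]

end T5

section Glue

theorem NatSys.exists_cover_of_good (H : ∀ (p : Ideal S) [p.IsPrime], 𝒟.Good p) :
    ∃ (S' : Type u) (_ : CommRing S') (_ : Algebra S S'), Algebra.Etale S S' ∧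
      Module.FaithfullyFlat S S' ∧ 𝒟.Sol S' := by
  classical
  have H' : ∀ x : PrimeSpectrum S, 𝒟.Good x.asIdeal := fun x => H x.asIdeal
  choose E instCR instAlg hEt hQ hSol using H'
  letI : ∀ x, CommRing (E x) := instCR
  letI : ∀ x, Algebra S (E x) := instAlg
  haveI : ∀ x, Algebra.Etale S (E x) := hEt
  let U : PrimeSpectrum S → Set (PrimeSpectrum S) := fun x =>
    Set.range (PrimeSpectrum.comap (algebraMap S (E x)))
  have hopen : ∀ x, IsOpen (U x) := fun x =>
    (PrimeSpectrum.isOpenMap_comap_of_hasGoingDown_of_finitePresentation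
      (R := S) (S := E x)).isOpen_range
  have hmem : ∀ x, x ∈ U x := by
    intro x
    obtain ⟨Q, hQp, hQx⟩ := hQ x
    exact ⟨⟨Q, hQp⟩, PrimeSpectrum.ext hQx⟩
  obtain ⟨t, ht⟩ := isCompact_univ.elim_finite_subcover U hopen
    (fun x _ => Set.mem_iUnion.mpr ⟨x, hmem x⟩)
  let m := t.card
  let idx : Fin m → PrimeSpectrum S := fun k => (t.equivFin.symm k).1
  have hidx : ∀ x ∈ t, ∃ k, idx k = x := by
    intro x hx
    refine ⟨t.equivFin ⟨x, hx⟩, ?_⟩
    simp [idx]
  let S' := ∀ k : Fin m, E (idx k)
  haveI hflat : Module.Flat S S' :=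
    Module.Flat.of_linearEquiv
      (DirectSum.linearEquivFunOnFintype S (Fin m) (fun k => E (idx k))).symm
  have hsurj : Function.Surjective (PrimeSpectrum.comap (algebraMap S S')) := by
    intro y
    have hy := ht (Set.mem_univ y)
    simp only [Set.mem_iUnion] at hy
    obtain ⟨x, hx, q, hq⟩ := hy
    obtain ⟨k, hk⟩ := hidx x hx
    subst hk
    refine ⟨PrimeSpectrum.comap (Pi.evalRingHom (fun k => E (idx k)) k) q, ?_⟩
    rw [← hq, ← PrimeSpectrum.comap_comp_apply]
    rfl
  exact ⟨S', inferInstance, inferInstance, inferInstance,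
    Module.FaithfullyFlat.of_comap_surjective hsurj,
    NatSys.Sol.pi 𝒟 m (fun k => E (idx k)) (fun k => hSol (idx k))⟩

end Glue

section Main

attribute [local instance 10] algSsh algSL

/-- **Étale-local solvability.** A natural finite system which is solvable over the strict
henselisation of every local ring `S_p` is solvable over an étale faithfully flat `S`-algebra. -/
theorem NatSys.exists_etale_cover
    (H : ∀ (p : Ideal S) [p.IsPrime],
      letI : Algebra (Localization.AtPrime p)
          (SeparableClosure (ResidueField (Localization.AtPrime p))) :=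
        ((algebraMap (ResidueField (Localization.AtPrime p)) _).comp
          (algebraMap (Localization.AtPrime p) (ResidueField (Localization.AtPrime p)))).toAlgebra
      haveI : IsScalarTower (Localization.AtPrime p) (ResidueField (Localization.AtPrime p))
          (SeparableClosure (ResidueField (Localization.AtPrime p))) :=
        IsScalarTower.of_algebraMap_eq (fun _ => rfl)
      𝒟.Sol (Rsh (Localization.AtPrime p)
        (SeparableClosure (ResidueField (Localization.AtPrime p))))) :
    ∃ (S' : Type u) (_ : CommRing S') (_ : Algebra S S'), Algebra.Etale S S' ∧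
      Module.FaithfullyFlat S S' ∧ 𝒟.Sol S' := by
  apply NatSys.exists_cover_of_good
  intro p _
  letI : Algebra (Localization.AtPrime p)
      (SeparableClosure (ResidueField (Localization.AtPrime p))) :=
    ((algebraMap (ResidueField (Localization.AtPrime p)) _).comp
      (algebraMap (Localization.AtPrime p) (ResidueField (Localization.AtPrime p)))).toAlgebra
  haveI : IsScalarTower (Localization.AtPrime p) (ResidueField (Localization.AtPrime p))
      (SeparableClosure (ResidueField (Localization.AtPrime p))) :=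
    IsScalarTower.of_algebraMap_eq (fun _ => rfl)
  obtain ⟨i, hi⟩ := NatSys.Sol.sh 𝒟 (Localization.AtPrime p)
    (SeparableClosure (ResidueField (Localization.AtPrime p))) (H p)
  exact NatSys.good_of_stage 𝒟 p _ i hi

end Main

end Groth.Agent.Lib.Helper19EtLoc
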