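import Mathlib
import Groth.Prelude.Def_AzInv
import Groth.Agent.Lib.Helper19EtLocB
import Groth.Agent.Lib.Helper19AzSplitM

/-!
# Étale-local solvability (helper19), part C: involution-symmetric matrix units

Base change of a `lam`-involution, its naturality, and the natural system whose solutions are the
full systems of `n × n` matrix units `e` in `X ⊗[S] A` with `t (e a b) = e b a`.
-/

set_option autoImplicit false
set_option linter.style.haveILetI false
set_option linter.unusedSectionVars false

open TensorProduct

namespace Groth.Agent.Lib.Helper19EtLoc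

open Groth.Agent.Lib.Helper19AzSplit Groth.Agent.Lib.Helper19SemiSN AzInv

universe u v w

section BC

variable {S : Type u} {R : Type v} [CommRing S] [CommRing R] [Algebra S R]
  (lam : R ≃ₐ[S] R)
  {A : Type w} [Ring A] [Algebra S A] [Algebra R A] [IsScalarTower S R A]
  (t : LamInv R A lam)

/-- the base change of a `lam`-involution is natural in the base -/
theorem bc_nat (X Y : Type u) [CommRing X] [Algebra S X] [CommRing Y] [Algebra S Y]
    (σ : X →ₐ[S] Y) (x : X ⊗[S] A) :
    Algebra.TensorProduct.map σ (AlgHom.id S A) (t.bc S lam X x) =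
      t.bc S lam Y (Algebra.TensorProduct.map σ (AlgHom.id S A) x) := by
  induction x using TensorProduct.induction_on with
  | zero => simp
  | tmul s a =>
    rw [LamInv.bc_tmul, Algebra.TensorProduct.map_tmul, Algebra.TensorProduct.map_tmul,
      LamInv.bc_tmul]
    rfl
  | add x y hx hy => rw [map_add, map_add, hx, hy, map_add, map_add]

variable (X : Type u) [CommRing X] [Algebra S X]

/-- the base change reverses products -/
theorem bc_mul (x y : X ⊗[S] A) :
    t.bc S lam X (x * y) = t.bc S lam X y * t.bc S lam X x := by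
  induction x using TensorProduct.induction_on with
  | zero => simp
  | tmul s a =>
    induction y using TensorProduct.induction_on with
    | zero => simp
    | tmul s' a' =>
      rw [Algebra.TensorProduct.tmul_mul_tmul, LamInv.bc_tmul, LamInv.bc_tmul, LamInv.bc_tmul,
        Algebra.TensorProduct.tmul_mul_tmul, t.map_mul, mul_comm]
    | add y y' hy hy' => rw [mul_add, map_add, hy, hy', map_add, add_mul]
  | add x x' hx hx' => rw [add_mul, map_add, hx, hx', map_add, mul_add]

theorem bc_one : t.bc S lam X 1 = 1 := by
  rw [Algebra.TensorProduct.one_def, LamInv.bc_tmul, t.map_one]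

theorem bc_bc (x : X ⊗[S] A) : t.bc S lam X (t.bc S lam X x) = x := by
  induction x using TensorProduct.induction_on with
  | zero => simp
  | tmul s a => rw [LamInv.bc_tmul, LamInv.bc_tmul, t.invol]
  | add x y hx hy => rw [map_add, map_add, hx, hy]

/-- semilinearity of the base change for scalars from `X ⊗[S] R` -/
theorem bc_scalar_mul (s : X) (r : R) (y : X ⊗[S] A) :
    t.bc S lam X ((s ⊗ₜ[S] algebraMap R A r) * y) =
      (s ⊗ₜ[S] algebraMap R A (lam r)) * t.bc S lam X y := by
  induction y using TensorProduct.induction_on with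
  | zero => simp
  | tmul s' a =>
    rw [Algebra.TensorProduct.tmul_mul_tmul, LamInv.bc_tmul, LamInv.bc_tmul,
      Algebra.TensorProduct.tmul_mul_tmul, t.map_mul, t.map_algebraMap]
    congr 1
    exact (Algebra.commutes _ _).symm
  | add y y' hy hy' => rw [mul_add, map_add, hy, hy', map_add, mul_add]

end BC

section Sys

variable {S : Type u} {R : Type v} [CommRing S] [CommRing R] [Algebra S R]
  (lam : R ≃ₐ[S] R)
  {A : Type w} [Ring A] [Algebra S A] [Algebra R A] [IsScalarTower S R A]
  (t : LamInv R A lam) (n : ℕ) (π : Fin n → Fin n) (c : Fin n → Fin n → ℤ)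

/-- the natural system: `v` is a full system of matrix units with
`t (v a b) = c a b • v (π b) (π a)` -/
noncomputable def symSys : NatSys S A (Fin n × Fin n)
    ((Fin n × Fin n × Fin n × Fin n) ⊕ (Unit ⊕ (Fin n × Fin n))) where
  D X _ _ v k :=
    match k with
    | Sum.inl (a, b, c', d) => v (a, b) * v (c', d) - (if b = c' then v (a, d) else 0)
    | Sum.inr (Sum.inl _) => ∑ a, v (a, a) - 1
    | Sum.inr (Sum.inr (a, b)) => t.bc S lam X (v (a, b)) - c a b • v (π b, π a)
  nat X Y _ _ _ _ σ v k := by
    match k with
    | Sum.inl (a, b, c', d) =>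
      simp only [map_sub, map_mul]
      split_ifs <;> simp
    | Sum.inr (Sum.inl _) =>
      simp only [map_sub, map_sum, map_one]
    | Sum.inr (Sum.inr (a, b)) =>
      simp only [map_sub, map_zsmul, bc_nat]

theorem symSys_sol_iff (X : Type u) [CommRing X] [Algebra S X] :
    (symSys lam t n π c).Sol X ↔ ∃ e : Fin n → Fin n → X ⊗[S] A, IsMatUnits e ∧
      ∀ a b, t.bc S lam X (e a b) = c a b • e (π b) (π a) := by
  constructor
  · rintro ⟨v, hv⟩
    refine ⟨fun a b => v (a, b), ⟨fun a b c' d => ?_, ?_⟩, fun a b => ?_⟩
    · exact sub_eq_zero.mp (hv (Sum.inl (a, b, c', d)))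
    · exact sub_eq_zero.mp (hv (Sum.inr (Sum.inl ())))
    · exact sub_eq_zero.mp (hv (Sum.inr (Sum.inr (a, b))))
  · rintro ⟨e, he, hsym⟩
    refine ⟨fun i => e i.1 i.2, fun k => ?_⟩
    match k with
    | Sum.inl (a, b, c', d) => exact sub_eq_zero.mpr (he.mul a b c' d)
    | Sum.inr (Sum.inl _) => exact sub_eq_zero.mpr he.sum
    | Sum.inr (Sum.inr (a, b)) => exact sub_eq_zero.mpr (hsym a b)

end Sys

end Groth.Agent.Lib.Helper19EtLoc
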