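import Mathlib
import Groth.Agent.Lib.Helper19EtLocC

/-!
# Étale-local solvability (helper19), part D: from symmetric matrix units to an isomorphism
with the matrix algebra carrying the `lam`-transpose
-/

set_option autoImplicit false
set_option linter.style.haveILetI false
set_option linter.unusedSectionVars false

open TensorProduct

namespace Groth.Agent.Lib.Helper19EtLoc

open Groth.Agent.Lib.Helper19AzSplit Groth.Agent.Lib.Helper19SemiSN AzInv
  Groth.Agent.Lib.LeadAzumaya

universe u v w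

section Conv

variable {S : Type u} {R : Type v} [CommRing S] [CommRing R] [Algebra S R]
  {A : Type w} [Ring A] [Algebra S A] [Algebra R A] [IsScalarTower S R A] [IsAzumaya R A]
  (n : ℕ) (S' : Type u) [CommRing S'] [Algebra S S']

attribute [local instance] Algebra.TensorProduct.rightAlgebra
attribute [local instance 10] algRA

theorem Xi_tmul_tmul (s : S') (r : R) (a : A) :
    Xi (S := S) (R := R) S' ((s ⊗ₜ[S] r) ⊗ₜ[R] a) = (s ⊗ₜ[S] algebraMap R A r) * (1 ⊗ₜ[S] a) := by
  unfold Xi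
  rw [Algebra.TensorProduct.lift_tmul, Xi1_apply, Xi2_apply, Algebra.TensorProduct.map_tmul]
  rfl

/-- a full system of matrix units gives a ring isomorphism from the base-changed matrix algebra -/
theorem exists_ringEquiv_of_matUnits (hn : 0 < n)
    (hrank : ∀ p : PrimeSpectrum R, Module.rankAtStalk (R := R) A p = n ^ 2)
    (e : Fin n → Fin n → S' ⊗[S] A) (he : IsMatUnits e) :
    ∃ G : S' ⊗[S] Matrix (Fin n) (Fin n) R ≃+* S' ⊗[S] A,
      ∀ (s : S') (M : Matrix (Fin n) (Fin n) R),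
        G (s ⊗ₜ[S] M) = ∑ a, ∑ b, (s ⊗ₜ[S] algebraMap R A (M a b)) * e a b := by
  classical
  haveI : IsAzumaya (S' ⊗[S] R) ((S' ⊗[S] R) ⊗[R] A) := isAzumaya_baseChange (S' ⊗[S] R) A
  have hrank' : ∀ p : PrimeSpectrum (S' ⊗[S] R),
      Module.rankAtStalk (R := S' ⊗[S] R) ((S' ⊗[S] R) ⊗[R] A) p = n ^ 2 := by
    intro p
    rw [Module.rankAtStalk_baseChange, hrank]
  let φX : S' ⊗[S] A →+* (S' ⊗[S] R) ⊗[R] A :=
    (XiEquiv (S := S) (R := R) (A := A) S').toRingHom
  let ē : Fin n → Fin n → (S' ⊗[S] R) ⊗[R] A := fun a b => φX (e a b)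
  have hē : IsMatUnits ē := he.map φX
  let g : Matrix (Fin n) (Fin n) (S' ⊗[S] R) ≃ₐ[S' ⊗[S] R] (S' ⊗[S] R) ⊗[R] A :=
    AlgEquiv.ofBijective (matHom (R := S' ⊗[S] R) ē hē) (bijective_matHom hn hrank' ē hē)
  let G : S' ⊗[S] Matrix (Fin n) (Fin n) R ≃+* S' ⊗[S] A :=
    ((XiEquiv (S := S) (R := R) (A := Matrix (Fin n) (Fin n) R) S').trans
      ((matrixEquivTensor (Fin n) R (S' ⊗[S] R)).symm.toRingEquiv.trans g.toRingEquiv)).trans
      (XiEquiv (S := S) (R := R) (A := A) S').symm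
  refine ⟨G, fun s M => ?_⟩
  have h1 : G (s ⊗ₜ[S] M) = Xi (S := S) (R := R) (A := A) S'
      (matHom (R := S' ⊗[S] R) ē hē ((matrixEquivTensor (Fin n) R (S' ⊗[S] R)).symm
        (XiInv (R := R) S' (s ⊗ₜ[S] M)))) := rfl
  rw [h1, XiInv_tmul, matrixEquivTensor_apply_symm, matHom_apply, map_sum]
  refine Finset.sum_congr rfl fun a _ => ?_
  rw [map_sum]
  refine Finset.sum_congr rfl fun b _ => ?_
  have h2 : ((s ⊗ₜ[S] (1 : R) : S' ⊗[S] R) • (M.map (algebraMap R (S' ⊗[S] R)))) a b =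
      s ⊗ₜ[S] (M a b) := by
    rw [Matrix.smul_apply, Matrix.map_apply, smul_eq_mul]
    change (s ⊗ₜ[S] (1 : R)) * ((1 : S') ⊗ₜ[S] (M a b)) = _
    rw [Algebra.TensorProduct.tmul_mul_tmul, mul_one, one_mul]
  rw [h2]
  have h3 : (s ⊗ₜ[S] (M a b) : S' ⊗[S] R) • ē a b =
      ((s ⊗ₜ[S] (M a b) : S' ⊗[S] R) ⊗ₜ[R] (1 : A)) * ē a b :=
    Algebra.smul_def (R := S' ⊗[S] R) (A := (S' ⊗[S] R) ⊗[R] A) (s ⊗ₜ[S] (M a b)) (ē a b)
  rw [h3, map_mul, Xi_tmul_tmul, ← Algebra.TensorProduct.one_def, mul_one]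
  congr 1
  exact Xi_XiInv (R := R) S' (e a b)

end Conv

section Sym

variable {S : Type u} {R : Type v} [CommRing S] [CommRing R] [Algebra S R]
  (lam : R ≃ₐ[S] R) (hlam : ∀ r, lam (lam r) = r)
  {A : Type w} [Ring A] [Algebra S A] [Algebra R A] [IsScalarTower S R A] [IsAzumaya R A]
  (t : LamInv R A lam) (n : ℕ) (S' : Type u) [CommRing S'] [Algebra S S']

/-- symmetric matrix units give an isomorphism of algebras with involution with the matrix algebra
carrying the `lam`-transpose -/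
theorem exists_algEquiv_of_symMatUnits (hn : 0 < n)
    (hrank : ∀ p : PrimeSpectrum R, Module.rankAtStalk (R := R) A p = n ^ 2)
    (e : Fin n → Fin n → S' ⊗[S] A) (he : IsMatUnits e)
    (hsym : ∀ a b, t.bc S lam S' (e a b) = e b a) :
    ∃ G : S' ⊗[S] Matrix (Fin n) (Fin n) R ≃ₐ[S'] S' ⊗[S] A,
      (∀ (r : R) (x : S' ⊗[S] Matrix (Fin n) (Fin n) R),
        G (((1 : S') ⊗ₜ[S] algebraMap R (Matrix (Fin n) (Fin n) R) r) * x) =
          ((1 : S') ⊗ₜ[S] algebraMap R A r) * G x) ∧
      ∀ x : S' ⊗[S] Matrix (Fin n) (Fin n) R,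
        G (((LamInv.self lam hlam).matrix (Fin n)).bc S lam S' x) = t.bc S lam S' (G x) := by
  classical
  obtain ⟨G, hG⟩ := exists_ringEquiv_of_matUnits (S := S) (R := R) (A := A) n S' hn hrank e he
  have hcomm : ∀ s : S', G (algebraMap S' (S' ⊗[S] Matrix (Fin n) (Fin n) R) s) =
      algebraMap S' (S' ⊗[S] A) s := by
    intro s
    rw [Algebra.TensorProduct.algebraMap_apply, Algebra.algebraMap_self_apply, hG]
    have h1 : ∀ a : Fin n, ∑ b, (s ⊗ₜ[S] algebraMap R A ((1 : Matrix (Fin n) (Fin n) R) a b)) * e a b =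
        (s ⊗ₜ[S] (1 : A)) * e a a := by
      intro a
      rw [Finset.sum_eq_single a]
      · rw [Matrix.one_apply_eq, map_one]
      · intro b _ hb
        rw [Matrix.one_apply_ne (Ne.symm hb), map_zero, TensorProduct.tmul_zero, zero_mul]
      · intro h
        exact absurd (Finset.mem_univ a) h
    simp only [h1]
    rw [← Finset.mul_sum, he.sum, mul_one, Algebra.TensorProduct.algebraMap_apply,
      Algebra.algebraMap_self_apply]
  refine ⟨AlgEquiv.ofRingEquiv (f := G) hcomm, ?_, ?_⟩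
  · intro r x
    change G (((1 : S') ⊗ₜ[S] algebraMap R (Matrix (Fin n) (Fin n) R) r) * x) =
      ((1 : S') ⊗ₜ[S] algebraMap R A r) * G x
    rw [map_mul]
    congr 1
    rw [hG]
    have h1 : ∀ a : Fin n,
        ∑ b, ((1 : S') ⊗ₜ[S] algebraMap R A (algebraMap R (Matrix (Fin n) (Fin n) R) r a b)) * e a b =
        ((1 : S') ⊗ₜ[S] algebraMap R A r) * e a a := by
      intro a
      rw [Finset.sum_eq_single a]
      · rw [Matrix.algebraMap_matrix_apply, if_pos rfl, Algebra.algebraMap_self_apply]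
      · intro b _ hb
        rw [Matrix.algebraMap_matrix_apply, if_neg (Ne.symm hb), map_zero, TensorProduct.tmul_zero,
          zero_mul]
      · intro h
        exact absurd (Finset.mem_univ a) h
    simp only [h1]
    rw [← Finset.mul_sum, he.sum, mul_one]
  · intro x
    change G (((LamInv.self lam hlam).matrix (Fin n)).bc S lam S' x) = t.bc S lam S' (G x)
    induction x using TensorProduct.induction_on with
    | zero => simp
    | tmul s M =>
      rw [LamInv.bc_tmul, hG, hG, map_sum, Finset.sum_comm]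
      refine Finset.sum_congr rfl fun a _ => ?_
      rw [map_sum]
      refine Finset.sum_congr rfl fun b _ => ?_
      rw [bc_scalar_mul, hsym]
      rfl
    | add x y hx hy => rw [map_add, map_add, hx, hy, map_add, map_add]

/-- `1 × 1` matrices -/
noncomputable def mat1 (S : Type u) [CommRing S] (A : Type w) [Ring A] [Algebra S A] :
    Matrix (Fin 1) (Fin 1) A ≃ₐ[S] A where
  toFun M := M 0 0
  invFun a := Matrix.of fun _ _ => a
  left_inv M := by
    ext i j
    fin_cases i
    fin_cases j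
    rfl
  right_inv a := rfl
  map_mul' M N := by simp [Matrix.mul_apply]
  map_add' M N := rfl
  commutes' s := by simp [Matrix.algebraMap_matrix_apply]

/-- symmetric matrix units over an étale cover: `t` has the neutral type -/
theorem sameType_of_symMatUnits (hn : 0 < n)
    (hrank : ∀ p : PrimeSpectrum R, Module.rankAtStalk (R := R) A p = n ^ 2)
    [Algebra.Etale S S'] [Module.FaithfullyFlat S S']
    (e : Fin n → Fin n → S' ⊗[S] A) (he : IsMatUnits e)
    (hsym : ∀ a b, t.bc S lam S' (e a b) = e b a) :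
    SameType S lam t (LamInv.self lam hlam) := by
  classical
  obtain ⟨G, hG1, hG2⟩ := exists_algEquiv_of_symMatUnits lam hlam t n S' hn hrank e he hsym
  let α : S' ⊗[S] Matrix (Fin 1) (Fin 1) A ≃ₐ[S'] S' ⊗[S] A :=
    Algebra.TensorProduct.congr (AlgEquiv.refl : S' ≃ₐ[S'] S')
      (mat1 S A)
  have hα : ∀ (s : S') (M : Matrix (Fin 1) (Fin 1) A), α (s ⊗ₜ[S] M) = s ⊗ₜ[S] M 0 0 := by
    intro s M
    rfl
  have hα1 : ∀ (r : R) (x : S' ⊗[S] Matrix (Fin 1) (Fin 1) A),
      α (((1 : S') ⊗ₜ[S] algebraMap R (Matrix (Fin 1) (Fin 1) A) r) * x) =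
        ((1 : S') ⊗ₜ[S] algebraMap R A r) * α x := by
    intro r x
    rw [map_mul, hα]
    congr 2
  have hα2 : ∀ x : S' ⊗[S] Matrix (Fin 1) (Fin 1) A,
      α ((t.matrix (Fin 1)).bc S lam S' x) = t.bc S lam S' (α x) := by
    intro x
    induction x using TensorProduct.induction_on with
    | zero => simp
    | tmul s M =>
      rw [LamInv.bc_tmul, hα, hα, LamInv.bc_tmul]
      rfl
    | add x y hx hy => rw [map_add, map_add, hx, hy, map_add, map_add]
  refine ⟨1, n, one_pos, hn, S', inferInstance, inferInstance, inferInstance, inferInstance,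
    α.trans G.symm, ?_, ?_⟩
  · intro r x
    change G.symm (α (((1 : S') ⊗ₜ[S] algebraMap R (Matrix (Fin 1) (Fin 1) A) r) * x)) =
      ((1 : S') ⊗ₜ[S] algebraMap R (Matrix (Fin n) (Fin n) R) r) * G.symm (α x)
    apply G.injective
    rw [AlgEquiv.apply_symm_apply, hG1, AlgEquiv.apply_symm_apply, hα1]
  · intro x
    change G.symm (α ((t.matrix (Fin 1)).bc S lam S' x)) =
      ((LamInv.self lam hlam).matrix (Fin n)).bc S lam S' (G.symm (α x))
    apply G.injective
    rw [AlgEquiv.apply_symm_apply, hG2, AlgEquiv.apply_symm_apply, hα2]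

end Sym

end Groth.Agent.Lib.Helper19EtLoc
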