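import Mathlib
import Groth.Agent.Lib.Helper19EtLocD
import Groth.Agent.S15574

/-!
# Étale-local solvability (helper19), part E: the quadratic étale case over a strictly henselian
base

Roots of quadratic polynomials with invertible discriminant over a strictly henselian local ring,
the idempotent swapped by the involution of a quadratic étale algebra, and symmetric matrix units.
-/

set_option autoImplicit false
set_option linter.style.haveILetI false
set_option linter.unusedSectionVars false

open TensorProduct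

namespace Groth.Agent.Lib.Helper19EtLoc

open Groth.Agent.Lib.Helper19AzSplit Groth.Agent.Lib.Helper19SemiSN AzInv
  Groth.Agent.Lib.LeadAzumaya IsLocalRing

universe u v w

section Quad

open Polynomial

theorem deriv_quad (k : Type u) [CommRing k] (t n : k) :
    derivative (X ^ 2 - C t * X + C n : k[X]) = 2 * X - C t := by
  rw [derivative_add, derivative_sub, derivative_X_sq, derivative_C_mul, derivative_X, derivative_C,
    C_ofNat, mul_one, add_zero]

theorem separable_quad (k : Type u) [Field k] (t n : k) (hD : t ^ 2 - 4 * n ≠ 0) :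
    (X ^ 2 - C t * X + C n : k[X]).Separable := by
  rw [Polynomial.separable_def, deriv_quad]
  refine ⟨C (t ^ 2 - 4 * n)⁻¹ * (-4), C (t ^ 2 - 4 * n)⁻¹ * (2 * X - C t), ?_⟩
  have h1 : C (t ^ 2 - 4 * n)⁻¹ * (-4) * (X ^ 2 - C t * X + C n) +
      C (t ^ 2 - 4 * n)⁻¹ * (2 * X - C t) * (2 * X - C t) =
      C (t ^ 2 - 4 * n)⁻¹ * (C t ^ 2 - 4 * C n) := by ring
  have h2 : (C t ^ 2 - 4 * C n : k[X]) = C (t ^ 2 - 4 * n) := by
    rw [C_sub, C_mul, C_pow, C_ofNat]
  rw [h1, h2, ← C_mul, inv_mul_cancel₀ hD, C_1]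

/-- a monic quadratic polynomial with invertible discriminant over a strictly henselian local ring
has a root -/
theorem exists_root_quadratic (Λ : Type u) [CommRing Λ] [HenselianLocalRing Λ]
    [IsSepClosed (ResidueField Λ)] (t₀ n₀ : Λ) (hD : IsUnit (t₀ ^ 2 - 4 * n₀)) :
    ∃ ρ : Λ, ρ ^ 2 - t₀ * ρ + n₀ = 0 := by
  classical
  let f : Λ[X] := X ^ 2 - C t₀ * X + C n₀
  have hf' : f = X ^ 2 + (- C t₀ * X + C n₀) := by simp only [f]; ring
  have hlt : (- C t₀ * X + C n₀ : Λ[X]).degree < ((2 : ℕ) : WithBot ℕ) := by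
    compute_degree!
  have hmonic : f.Monic := by
    rw [hf']
    exact Polynomial.monic_X_pow_add hlt
  have hfdeg : f.degree = 2 := by
    rw [hf', Polynomial.degree_add_eq_left_of_degree_lt, degree_X_pow]
    · rfl
    · rw [degree_X_pow]
      exact hlt
  have hfb : f.map (residue Λ) = X ^ 2 - C (residue Λ t₀) * X + C (residue Λ n₀) := by
    simp [f, Polynomial.map_add, Polynomial.map_sub, Polynomial.map_mul]
  have hDb : (residue Λ t₀) ^ 2 - 4 * (residue Λ n₀) ≠ 0 := by
    intro h
    apply (residue_ne_zero_iff_isUnit _).mpr hD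
    rw [map_sub, map_mul, map_pow, map_ofNat]
    exact h
  have hsep : (f.map (residue Λ)).Separable := by
    rw [hfb]
    exact separable_quad _ _ _ hDb
  have hdeg : (f.map (residue Λ)).degree ≠ 0 := by
    rw [hmonic.degree_map, hfdeg]
    norm_num
  obtain ⟨x, hx⟩ := IsSepClosed.exists_root _ hdeg hsep
  obtain ⟨a₀, rfl⟩ := residue_surjective x
  have hev : ∀ a : Λ, f.eval a = a ^ 2 - t₀ * a + n₀ := by
    intro a
    simp [f]
  have h1 : f.eval a₀ ∈ maximalIdeal Λ := by
    rw [← residue_eq_zero_iff, ← Polynomial.eval₂_hom, ← Polynomial.eval_map]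
    exact hx
  have h2 : IsUnit ((derivative f).eval a₀) := by
    rw [deriv_quad]
    have h3 : (eval a₀ (2 * X - C t₀)) ^ 2 = 4 * f.eval a₀ + (t₀ ^ 2 - 4 * n₀) := by
      rw [hev]
      simp
      ring
    have h4 : IsUnit ((eval a₀ (2 * X - C t₀)) ^ 2) := by
      rw [h3, ← residue_ne_zero_iff_isUnit, map_add, map_mul,
        (residue_eq_zero_iff _).mpr h1, mul_zero, zero_add]
      exact (residue_ne_zero_iff_isUnit _).mpr hD
    exact (isUnit_pow_iff two_ne_zero).mp h4
  obtain ⟨a, ha, -⟩ := HenselianLocalRing.is_henselian f hmonic a₀ h1 h2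
  exact ⟨a, by rw [← hev]; exact ha⟩

end Quad

section Idem

open Groth.Agent.Lib.Helper15.QuadEtale

/-- over a strictly henselian fixed ring, a quadratic étale algebra with involution contains an
idempotent which the involution sends to its complement -/
theorem exists_idem_swap (Λ : Type u) [CommRing Λ] [HenselianLocalRing Λ]
    [IsSepClosed (ResidueField Λ)] (R' : Type v) [CommRing R'] [Algebra Λ R']
    (lam' : R' ≃+* R') (hlam' : Function.Involutive lam') (hfix' : RInv.IsFixedRing Λ R' lam')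
    (hq : RInv.IsQuadEtale Λ R') : ∃ ε : R', ε * ε = ε ∧ lam' ε = 1 - ε := by
  obtain ⟨r, hr⟩ := Groth.Agent.S15574.result Λ R' lam' hlam' hfix' hq
  obtain ⟨t₀, ht₀⟩ := exists_trace lam' hlam' hfix' r
  obtain ⟨n₀, hn₀⟩ := exists_norm lam' hlam' hfix' r
  have hD : IsUnit (t₀ ^ 2 - 4 * n₀) := by
    apply isUnit_of_isUnit_algebraMap lam' hfix'
    have : algebraMap Λ R' (t₀ ^ 2 - 4 * n₀) = (r - lam' r) ^ 2 := by
      rw [map_sub, map_mul, map_pow, ht₀, hn₀, map_ofNat]
      ring
    rw [this]
    exact hr.pow 2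
  obtain ⟨ρ, hρ⟩ := exists_root_quadratic Λ t₀ n₀ hD
  obtain ⟨w, hw⟩ := hr.exists_right_inv
  have hlρ : lam' (algebraMap Λ R' ρ) = algebraMap Λ R' ρ := lam_algebraMap lam' hfix' ρ
  have h2 : (algebraMap Λ R' ρ - r) * (algebraMap Λ R' ρ - lam' r) = 0 := by
    have := congrArg (algebraMap Λ R') hρ
    rw [map_add, map_sub, map_pow, map_mul, ht₀, hn₀, map_zero] at this
    linear_combination this
  have hlw : lam' w = -w := by
    have h3 : (lam' r - r) * lam' w = 1 := by
      have := congrArg lam' hw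
      rw [map_mul, map_sub, hlam' r, map_one] at this
      exact this
    linear_combination (-(lam' w)) * hw + (-w) * h3
  refine ⟨(algebraMap Λ R' ρ - lam' r) * w, ?_, ?_⟩
  · linear_combination (w ^ 2) * h2 + ((algebraMap Λ R' ρ - lam' r) * w) * hw
  · rw [map_mul, map_sub, hlρ, hlam' r, hlw]
    linear_combination hw

end Idem

section Glue

variable {B : Type*} [Ring B] (τ : B → B) (hadd : ∀ x y, τ (x + y) = τ x + τ y)
  (hmul : ∀ x y, τ (x * y) = τ y * τ x) (hone : τ 1 = 1) (hinv : ∀ x, τ (τ x) = x)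
  (ε : B) (hε : ε * ε = ε) (hc : ∀ x, ε * x = x * ε) (hτε : τ ε = 1 - ε)
  {n : ℕ} (e : Fin n → Fin n → B) (he : IsMatUnits e)

include hadd hmul hone hinv hε hc hτε he in
/-- symmetrising matrix units with a central idempotent swapped by the involution -/
theorem isMatUnits_symmetrise :
    IsMatUnits (fun a b => ε * e a b + τ (ε * e b a)) ∧
      ∀ a b, τ (ε * e a b + τ (ε * e b a)) = ε * e b a + τ (ε * e a b) := by
  have hzero : τ 0 = 0 := by
    have := hadd 0 0
    rw [add_zero] at this
    exact left_eq_add.mp this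
  have hsum : ∀ (s : Finset (Fin n)) (f : Fin n → B), τ (∑ a ∈ s, f a) = ∑ a ∈ s, τ (f a) := by
    intro s f
    induction s using Finset.induction_on with
    | empty => simpa using hzero
    | insert a s ha ih => rw [Finset.sum_insert ha, Finset.sum_insert ha, hadd, ih]
  have h0 : ε * (1 - ε) = 0 := by rw [mul_sub, mul_one, hε, sub_self]
  have h0' : (1 - ε) * ε = 0 := by rw [sub_mul, one_mul, hε, sub_self]
  have hc' : ∀ x, (1 - ε) * x = x * (1 - ε) := by
    intro x
    rw [sub_mul, mul_sub, one_mul, mul_one, hc]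
  have hτ : ∀ a b, τ (ε * e b a) = (1 - ε) * τ (e b a) := by
    intro a b
    rw [hmul, hτε, hc']
  have hf : ∀ a b c d, τ (e b a) * τ (e d c) = if b = c then τ (e d a) else 0 := by
    intro a b c d
    rw [← hmul, he.mul]
    by_cases h : c = b
    · subst h
      rw [if_pos rfl, if_pos rfl]
    · rw [if_neg h, if_neg (Ne.symm h), hzero]
  have hprod : ∀ x x' y y' : B, (ε * x + (1 - ε) * y) * (ε * x' + (1 - ε) * y') =
      ε * (x * x') + (1 - ε) * (y * y') := by
    intro x x' y y'
    have e1 : ε * x * (ε * x') = ε * (x * x') := by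
      rw [mul_assoc, ← mul_assoc x, ← hc x, mul_assoc, ← mul_assoc, hε]
    have e2 : ε * x * ((1 - ε) * y') = 0 := by
      rw [mul_assoc, ← mul_assoc x, ← hc' x, mul_assoc, ← mul_assoc, h0, zero_mul]
    have e3 : (1 - ε) * y * (ε * x') = 0 := by
      rw [mul_assoc, ← mul_assoc y, ← hc y, mul_assoc, ← mul_assoc, h0', zero_mul]
    have e4 : (1 - ε) * y * ((1 - ε) * y') = (1 - ε) * (y * y') := by
      have h1 : (1 - ε) * (1 - ε) = 1 - ε := by rw [mul_sub, mul_one, h0', sub_zero]
      rw [mul_assoc, ← mul_assoc y, ← hc' y, mul_assoc, ← mul_assoc, h1]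
    rw [add_mul, mul_add, mul_add, e1, e2, e3, e4, add_zero, zero_add]
  refine ⟨⟨fun a b c d => ?_, ?_⟩, fun a b => ?_⟩
  · change (ε * e a b + τ (ε * e b a)) * (ε * e c d + τ (ε * e d c)) =
      if b = c then ε * e a d + τ (ε * e d a) else 0
    rw [hτ, hτ, hprod, he.mul, hf]
    by_cases h : b = c
    · rw [if_pos h, if_pos h, if_pos h, hτ]
    · rw [if_neg h, if_neg h, if_neg h, mul_zero, mul_zero, add_zero]
  · change ∑ a, (ε * e a a + τ (ε * e a a)) = 1
    rw [Finset.sum_add_distrib, ← hsum, ← Finset.mul_sum, he.sum, mul_one, hτε]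
    abel
  · rw [hadd, hinv, add_comm]

end Glue

end Groth.Agent.Lib.Helper19EtLoc
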