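import Mathlib
import Groth.Agent.Lib.Helper19EtLocE
import Groth.Agent.Lib.Helper19AzSplitE

/-!
# Étale-local solvability (helper19), part F: symmetric matrix units over a strictly henselian
flat algebra in the quadratic étale case
-/

set_option autoImplicit false
set_option linter.style.haveILetI false
set_option linter.unusedSectionVars false

open TensorProduct

namespace Groth.Agent.Lib.Helper19EtLoc

open Groth.Agent.Lib.Helper19AzSplit Groth.Agent.Lib.Helper19SemiSN AzInv
  Groth.Agent.Lib.LeadAzumaya IsLocalRing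

universe u v w

section Xi1

variable {S : Type u} {R : Type v} [CommRing S] [CommRing R] [Algebra S R]
  (lam : R ≃ₐ[S] R)
  {A : Type w} [Ring A] [Algebra S A] [Algebra R A] [IsScalarTower S R A]
  (t : LamInv R A lam) (X : Type u) [CommRing X] [Algebra S X]

attribute [local instance] Algebra.TensorProduct.rightAlgebra
attribute [local instance 10] algRA

theorem Xi1_tmul (s : X) (r : R) : Xi1 (A := A) X (s ⊗ₜ[S] r) = s ⊗ₜ[S] algebraMap R A r := by
  rw [Xi1_apply, Algebra.TensorProduct.map_tmul]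
  rfl

/-- the image of `X ⊗[S] R` in `X ⊗[S] A` is central -/
theorem Xi1_central (ρ : X ⊗[S] R) (y : X ⊗[S] A) :
    Xi1 (A := A) X ρ * y = y * Xi1 (A := A) X ρ := by
  induction ρ using TensorProduct.induction_on with
  | zero => simp
  | tmul s r =>
    rw [Xi1_tmul]
    induction y using TensorProduct.induction_on with
    | zero => simp
    | tmul s' a =>
      rw [Algebra.TensorProduct.tmul_mul_tmul, Algebra.TensorProduct.tmul_mul_tmul, mul_comm,
        Algebra.commutes]
    | add y y' hy hy' => rw [mul_add, add_mul, hy, hy']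
  | add ρ ρ' h h' => rw [map_add, add_mul, mul_add, h, h']

/-- semilinearity of the base-changed involution -/
theorem bc_Xi1_mul (ρ : X ⊗[S] R) (y : X ⊗[S] A) :
    t.bc S lam X (Xi1 (A := A) X ρ * y) =
      Xi1 (A := A) X (Algebra.TensorProduct.congr (AlgEquiv.refl : X ≃ₐ[S] X) lam ρ) *
        t.bc S lam X y := by
  induction ρ using TensorProduct.induction_on with
  | zero => simp
  | tmul s r =>
    rw [Xi1_tmul, bc_scalar_mul, Algebra.TensorProduct.congr_apply,
      Algebra.TensorProduct.map_tmul, Xi1_tmul]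
    rfl
  | add ρ ρ' h h' => rw [map_add, add_mul, map_add, h, h', map_add, map_add, add_mul]

end Xi1

section Main

variable {S : Type u} {R : Type v} [CommRing S] [CommRing R] [Algebra S R]
  (lam : R ≃ₐ[S] R) (hlam : ∀ r, lam (lam r) = r) (hfix : RInv.IsFixedRing S R lam.toRingEquiv)
  {A : Type w} [Ring A] [Algebra S A] [Algebra R A] [IsScalarTower S R A] [IsAzumaya R A]
  (t : LamInv R A lam) (n : ℕ)
  (Λ : Type u) [CommRing Λ] [Algebra S Λ] [HenselianLocalRing Λ] [IsSepClosed (ResidueField Λ)]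
  [Module.Flat S Λ]

attribute [local instance] Algebra.TensorProduct.rightAlgebra
attribute [local instance 10] algRA

/-- base change of a quadratic étale algebra -/
theorem isQuadEtale_baseChange (hq : RInv.IsQuadEtale S R) (X : Type u) [CommRing X]
    [Algebra S X] : RInv.IsQuadEtale X (X ⊗[S] R) := by
  obtain ⟨h1, h2, h3, h4⟩ := hq
  haveI := h1
  haveI := h2
  haveI := h3
  refine ⟨inferInstance, inferInstance, inferInstance, fun p => ?_⟩
  rw [Module.rankAtStalk_baseChange, h4]

include hlam hfix in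
theorem exists_symMatUnits_quadEtale (hq : RInv.IsQuadEtale S R) (hn : 0 < n)
    (hrank : ∀ p : PrimeSpectrum R, Module.rankAtStalk (R := R) A p = n ^ 2) :
    ∃ e : Fin n → Fin n → (Λ ⊗[S] A), IsMatUnits e ∧ ∀ a b, t.bc S lam Λ (e a b) = e b a := by
  have hfix' := Groth.Agent.S15586.result S R Λ lam hlam hfix (Or.inl inferInstance)
  have hinv : Function.Involutive
      (Algebra.TensorProduct.congr (AlgEquiv.refl : Λ ≃ₐ[S] Λ) lam).toRingEquiv := by
    intro z
    change Algebra.TensorProduct.congr (AlgEquiv.refl : Λ ≃ₐ[S] Λ) lam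
      (Algebra.TensorProduct.congr (AlgEquiv.refl : Λ ≃ₐ[S] Λ) lam z) = z
    induction z using TensorProduct.induction_on with
    | zero => simp
    | tmul s r => simp [hlam]
    | add x y hx hy => rw [map_add, map_add, hx, hy]
  obtain ⟨ε, hε, hlε⟩ := exists_idem_swap Λ (Λ ⊗[S] R) _ hinv hfix' (isQuadEtale_baseChange hq Λ)
  obtain ⟨e₀, he₀⟩ := exists_matUnits_strictHensel lam hlam hfix (A := A) n Λ hn hrank
  let εA : Λ ⊗[S] A := Xi1 (A := A) Λ ε
  have hεA : εA * εA = εA := by
    change Xi1 (A := A) Λ ε * Xi1 (A := A) Λ ε = Xi1 (A := A) Λ ε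
    rw [← map_mul, hε]
  have hτε : t.bc S lam Λ εA = 1 - εA := by
    have := bc_Xi1_mul lam t Λ ε 1
    rw [mul_one, bc_one, mul_one] at this
    rw [this]
    change Xi1 (A := A) Λ ((Algebra.TensorProduct.congr (AlgEquiv.refl : Λ ≃ₐ[S] Λ) lam).toRingEquiv ε)
      = 1 - Xi1 (A := A) Λ ε
    rw [hlε, map_sub, map_one]
  obtain ⟨h1, h2⟩ := isMatUnits_symmetrise (t.bc S lam Λ) (fun x y => map_add _ x y)
    (bc_mul lam t Λ) (bc_one lam t Λ) (bc_bc lam t Λ) εA hεA (Xi1_central Λ ε) hτε e₀ he₀
  exact ⟨_, h1, h2⟩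

end Main

end Groth.Agent.Lib.Helper19EtLoc
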