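import Mathlib
import Groth.Prelude.Def_AzInv
import Groth.Agent.Lib.Helper19SemiSNE
import Groth.Agent.Lib.Helper19AzSplitA
import Groth.Agent.S15583

/-!
# Étale-local solvability (helper19), part H: involutions of odd-degree matrix algebras over a
semilocal ring with involution are adjoint to hermitian matrices
-/

set_option autoImplicit false
set_option linter.style.haveILetI false
set_option linter.unusedSectionVars false

namespace Groth.Agent.Lib.Helper19EtLoc

open Groth.Agent.Lib.Helper19AzSplit Groth.Agent.Lib.Helper19SemiSN AzInv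

universe u v

section Herm

variable {Λ : Type u} {R' : Type v} [CommRing Λ] [IsLocalRing Λ] [CommRing R'] [Algebra Λ R']
  (lam' : R' ≃+* R') (hlam' : Function.Involutive lam') (hfix' : RInv.IsFixedRing Λ R' lam')
  (n : ℕ) (T : LamInv R' (Matrix (Fin n) (Fin n) R') lam')

local notation "τ" => LamInv.transpose lam' (Fin n) hlam'

include hfix' in
/-- an involution of a matrix algebra is adjoint to an `ε`-hermitian matrix -/
theorem exists_eps_hermitian_conj (hn : 0 < n) :
    ∃ (h h' : Matrix (Fin n) (Fin n) R') (ε : R'), h * h' = 1 ∧ h' * h = 1 ∧ h = ε • τ h ∧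
      τ h = lam' ε • h ∧ ε * lam' ε = 1 ∧ ∀ m, T m = h * τ m * h' := by
  classical
  haveI : Nonempty (Fin n) := Fin.pos_iff_nonempty.mp hn
  haveI : Finite (MaximalSpectrum R') := finite_maximalSpectrum lam' hlam' hfix'
  haveI : IsAzumaya R' (Matrix (Fin n) (Fin n) R') := IsAzumaya.matrix R' (Fin n)
  let φ : Matrix (Fin n) (Fin n) R' ≃ₐ[R'] Matrix (Fin n) (Fin n) R' :=
    { toFun := fun m => T (τ m)
      invFun := fun m => τ (T m)
      left_inv := fun m => by simp
      right_inv := fun m => by simp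
      map_mul' := fun m m' => by rw [LamInv.map_mul, LamInv.map_mul]
      map_add' := fun m m' => by rw [LamInv.map_add, LamInv.map_add]
      commutes' := fun ρ => by
        rw [LamInv.map_algebraMap, LamInv.map_algebraMap, hlam' ρ] }
  obtain ⟨u, hu⟩ := exists_unit_conj φ
  have hT : ∀ m, T m = (u : Matrix (Fin n) (Fin n) R') * τ m * ((u⁻¹ : (Matrix (Fin n) (Fin n) R')ˣ) :
      Matrix (Fin n) (Fin n) R') := by
    intro m
    have := hu (τ m)
    change T (τ (τ m)) = _ at this
    rwa [LamInv.invol] at this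
  set u₁ : Matrix (Fin n) (Fin n) R' := (u : Matrix (Fin n) (Fin n) R') with hu₁
  set u₂ : Matrix (Fin n) (Fin n) R' := ((u⁻¹ : (Matrix (Fin n) (Fin n) R')ˣ) :
      Matrix (Fin n) (Fin n) R') with hu₂
  have h12 : u₁ * u₂ = 1 := Units.mul_inv u
  have h21 : u₂ * u₁ = 1 := Units.inv_mul u
  have hτ12 : τ u₂ * τ u₁ = 1 := by rw [← LamInv.map_mul, h12, LamInv.map_one]
  have hτ21 : τ u₁ * τ u₂ = 1 := by rw [← LamInv.map_mul, h21, LamInv.map_one]
  have hTT : ∀ m, u₁ * τ u₂ * m * (τ u₁ * u₂) = m := by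
    intro m
    have := T.invol m
    rw [hT (T m), hT m, LamInv.map_mul, LamInv.map_mul, LamInv.invol] at this
    rw [show u₁ * τ u₂ * m * (τ u₁ * u₂) = u₁ * (τ u₂ * (m * τ u₁)) * u₂ by
      simp only [mul_assoc]]
    exact this
  have hz'z : τ u₁ * u₂ * (u₁ * τ u₂) = 1 := by
    rw [mul_assoc, ← mul_assoc u₂, h21, one_mul, hτ21]
  have hz : ∀ x, u₁ * τ u₂ * x = x * (u₁ * τ u₂) := by
    intro x
    calc u₁ * τ u₂ * x = u₁ * τ u₂ * x * (τ u₁ * u₂ * (u₁ * τ u₂)) := by rw [hz'z, mul_one]
      _ = (u₁ * τ u₂ * x * (τ u₁ * u₂)) * (u₁ * τ u₂) := by simp only [mul_assoc]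
      _ = x * (u₁ * τ u₂) := by rw [hTT]
  obtain ⟨ε, hε⟩ := exists_algebraMap_eq_of_central (T := R') (u₁ * τ u₂) hz
  have hu1 : u₁ = ε • τ u₁ := by
    calc u₁ = u₁ * (τ u₂ * τ u₁) := by rw [hτ12, mul_one]
      _ = (u₁ * τ u₂) * τ u₁ := by rw [mul_assoc]
      _ = ε • τ u₁ := by rw [hε, ← Algebra.smul_def]
  have hτu1 : τ u₁ = lam' ε • u₁ := by
    conv_lhs => rw [hu1]
    rw [LamInv.map_smul, LamInv.invol]
  have hεε : ε * lam' ε = 1 := by
    have h1 : u₁ = (ε * lam' ε) • u₁ := by
      conv_lhs => rw [hu1, hτu1]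
      rw [smul_smul]
    have h2 : (1 : Matrix (Fin n) (Fin n) R') = (ε * lam' ε) • 1 := by
      rw [← h12]
      conv_lhs => rw [h1]
      rw [Matrix.smul_mul]
    have h3 := congrFun (congrFun h2 ⟨0, hn⟩) ⟨0, hn⟩
    rw [Matrix.smul_apply, Matrix.one_apply_eq, smul_eq_mul, mul_one] at h3
    exact h3.symm
  exact ⟨u₁, u₂, ε, h12, h21, hu1, hτu1, hεε, hT⟩

include hfix' in
/-- an involution of an odd-degree matrix algebra is adjoint to a hermitian matrix -/
theorem exists_hermitian_conj (hodd : Odd n) :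
    ∃ h h' : Matrix (Fin n) (Fin n) R', h * h' = 1 ∧ h' * h = 1 ∧ τ h = h ∧
      ∀ m, T m = h * τ m * h' := by
  classical
  have hn : 0 < n := hodd.pos
  obtain ⟨u₁, u₂, ε, h12, h21, hu1, hτu1, hεε, hT⟩ :=
    exists_eps_hermitian_conj lam' hlam' hfix' n T hn
  have huu : IsUnit u₁ := ⟨⟨u₁, u₂, h12, h21⟩, rfl⟩
  set d : R' := u₁.det with hd
  have hdu : IsUnit d := (Matrix.isUnit_iff_isUnit_det u₁).mp huu
  have hτdet : (τ u₁).det = lam' d := by
    change ((u₁.map lam').transpose).det = lam' u₁.det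
    rw [Matrix.det_transpose]
    exact (RingHom.map_det (lam' : R' →+* R') u₁).symm
  have hdet : d = ε ^ n * lam' d := by
    conv_lhs => rw [hd, hu1]
    rw [Matrix.det_smul, hτdet, Fintype.card_fin]
  obtain ⟨m, hm⟩ := hodd
  set β : R' := d * (lam' ε) ^ m with hβdef
  have hβ : β = ε * lam' β := by
    have h1 : ε ^ n * (lam' ε) ^ m = ε ^ (m + 1) := by
      rw [hm, show 2 * m + 1 = (m + 1) + m by ring, pow_add, mul_assoc, ← mul_pow, hεε, one_pow,
        mul_one]
    rw [hβdef, map_mul, map_pow, hlam' ε]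
    calc d * (lam' ε) ^ m = ε ^ n * lam' d * (lam' ε) ^ m := by rw [← hdet]
      _ = (ε ^ n * (lam' ε) ^ m) * lam' d := by ring
      _ = ε * (lam' d * ε ^ m) := by rw [h1]; ring
  have hlεu : IsUnit (lam' ε) := IsUnit.of_mul_eq_one ε (by rw [mul_comm]; exact hεε)
  have hβu : IsUnit β := hdu.mul (hlεu.pow m)
  obtain ⟨β', hββ'⟩ := hβu.exists_right_inv
  have hlbb : lam' β * lam' β' = 1 := by rw [← map_mul, hββ', map_one]
  have hβ2 : lam' β = lam' ε * β := by
    conv_lhs => rw [hβ]
    rw [map_mul, hlam' β]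
  have hkey : lam' β' * lam' ε = β' := by
    linear_combination (β') * hlbb - (β' * lam' β') * hβ2 - (lam' ε * lam' β') * hββ'
  refine ⟨β' • u₁, β • u₂, ?_, ?_, ?_, ?_⟩
  · rw [Matrix.smul_mul, Matrix.mul_smul, smul_smul, h12, mul_comm, hββ', one_smul]
  · rw [Matrix.smul_mul, Matrix.mul_smul, smul_smul, h21, hββ', one_smul]
  · rw [LamInv.map_smul, hτu1, smul_smul, hkey]
  · intro x
    rw [hT, Matrix.smul_mul, Matrix.smul_mul, Matrix.mul_smul, smul_smul, mul_comm β' β, hββ',
      one_smul]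

theorem transpose_single (a b : Fin n) :
    τ (Matrix.single a b (1 : R')) = Matrix.single b a (1 : R') := by
  ext i j
  rw [LamInv.transpose_apply, Matrix.single_apply, Matrix.single_apply]
  by_cases h : a = j ∧ b = i
  · rw [if_pos h, if_pos ⟨h.2, h.1⟩, map_one]
  · rw [if_neg h, if_neg (fun h' => h ⟨h'.2, h'.1⟩), map_zero]

include hfix' in
/-- matrix units adapted to an involution adjoint to a diagonalisable hermitian matrix -/
theorem exists_matUnits_of_hermitian' (h h' : Matrix (Fin n) (Fin n) R')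
    (hcase : (∃ a : R', lam' a - a ∉ Ring.jacobson R') ∨ (1 : R') + 1 ∉ Ring.jacobson R' ∨ Odd n)
    (h1 : h * h' = 1) (h2 : h' * h = 1) (hh : τ h = h) (hT : ∀ m, T m = h * τ m * h') :
    ∃ (f : Fin n → Fin n → Matrix (Fin n) (Fin n) R') (δ δ' : Fin n → Λ), IsMatUnits f ∧
      (∀ a, δ a * δ' a = 1) ∧
      ∀ a b, T (f a b) = algebraMap Λ R' (δ b * δ' a) • f b a := by
  classical
  obtain ⟨v, hv, d, hvd⟩ := Groth.Agent.S15583.result Λ R' lam' hlam' hfix' n 1 (Or.inl rfl) h
    ⟨⟨h, h', h1, h2⟩, rfl⟩ (by rw [one_smul]; exact hh) hcase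
  obtain ⟨v', hvv'⟩ := hv.exists_right_inv
  have hv'v : v' * v = 1 := by
    obtain ⟨v'', hv''⟩ := hv.exists_left_inv
    have : v'' = v' := by
      calc v'' = v'' * (v * v') := by rw [hvv', mul_one]
        _ = v' := by rw [← mul_assoc, hv'', one_mul]
    rw [← this]
    exact hv''
  set w : Matrix (Fin n) (Fin n) R' := τ v with hw
  set w' : Matrix (Fin n) (Fin n) R' := τ v' with hw'
  have hw'w : w' * w = 1 := by rw [hw, hw', ← LamInv.map_mul, hvv', LamInv.map_one]
  have hww' : w * w' = 1 := by rw [hw, hw', ← LamInv.map_mul, hv'v, LamInv.map_one]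
  have hτw : τ w = v := by rw [hw, LamInv.invol]
  have hτw' : τ w' = v' := by rw [hw', LamInv.invol]
  have hvd' : w * h * v = Matrix.diagonal d := hvd
  have hfixd : ∀ a, lam' (d a) = d a := by
    intro a
    have h3 : τ (Matrix.diagonal d) = Matrix.diagonal d := by
      rw [← hvd', LamInv.map_mul, LamInv.map_mul, hτw, hh, ← hw, mul_assoc]
    have := congrFun (congrFun h3 a) a
    rwa [LamInv.transpose_apply, Matrix.diagonal_apply_eq] at this
  have hδ : ∀ a, ∃ δ : Λ, algebraMap Λ R' δ = d a := fun a => (hfix'.2 (d a)).mp (hfixd a)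
  choose δ hδ using hδ
  set N : Matrix (Fin n) (Fin n) R' := v' * h' * w' with hN
  have hdN : Matrix.diagonal d * N = 1 := by
    rw [← hvd', hN]
    calc w * h * v * (v' * h' * w') = w * (h * ((v * v') * h')) * w' := by simp only [mul_assoc]
      _ = 1 := by rw [hvv', one_mul, h1, mul_one, hww']
  have hdu : ∀ a, IsUnit (δ a) := by
    intro a
    apply Groth.Agent.Lib.Helper15.QuadEtale.isUnit_of_isUnit_algebraMap lam' hfix'
    rw [hδ]
    have := congrFun (congrFun hdN a) a
    rw [Matrix.diagonal_mul, Matrix.one_apply_eq] at this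
    exact IsUnit.of_mul_eq_one _ this
  have hδ' : ∀ a, ∃ δ' : Λ, δ a * δ' = 1 := fun a => (hdu a).exists_right_inv
  choose δ' hδ' using hδ'
  have hNd : N = Matrix.diagonal (fun a => algebraMap Λ R' (δ' a)) := by
    have h3 : Matrix.diagonal (fun a => algebraMap Λ R' (δ' a)) * Matrix.diagonal d = 1 := by
      rw [Matrix.diagonal_mul_diagonal, ← Matrix.diagonal_one]
      congr 1
      funext a
      rw [← hδ, ← map_mul, mul_comm, hδ', map_one]
    calc N = (Matrix.diagonal (fun a => algebraMap Λ R' (δ' a)) * Matrix.diagonal d) * N := by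
          rw [h3, one_mul]
      _ = Matrix.diagonal (fun a => algebraMap Λ R' (δ' a)) := by rw [mul_assoc, hdN, mul_one]
  have hhv : h * v = w' * Matrix.diagonal d := by
    rw [← hvd', ← mul_assoc, ← mul_assoc, hw'w, one_mul]
  have hv'h' : v' * h' = N * w := by
    rw [hN, mul_assoc, mul_assoc, hw'w, mul_one]
  refine ⟨fun a b => w' * Matrix.single a b 1 * w, δ, δ', ⟨fun a b c e => ?_, ?_⟩, hδ', fun a b => ?_⟩
  · calc w' * Matrix.single a b 1 * w * (w' * Matrix.single c e 1 * w)
        = w' * (Matrix.single a b 1 * ((w * w') * Matrix.single c e 1)) * w := by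
          simp only [mul_assoc]
      _ = w' * (if b = c then Matrix.single a e 1 else 0) * w := by
          rw [hww', one_mul, (isMatUnits_single R' n).mul]
      _ = _ := by split_ifs <;> simp
  · change ∑ a, w' * Matrix.single a a 1 * w = 1
    rw [← Finset.sum_mul, ← Finset.mul_sum, (isMatUnits_single R' n).sum, mul_one, hw'w]
  · change T (w' * Matrix.single a b 1 * w) = algebraMap Λ R' (δ b * δ' a) • (w' * Matrix.single b a 1 * w)
    rw [hT, LamInv.map_mul, LamInv.map_mul, hτw, hτw', transpose_single]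
    calc h * (v * (Matrix.single b a 1 * v')) * h'
        = (h * v) * Matrix.single b a 1 * (v' * h') := by simp only [mul_assoc]
      _ = w' * (Matrix.diagonal d * Matrix.single b a 1 *
            Matrix.diagonal (fun a => algebraMap Λ R' (δ' a))) * w := by
          rw [hhv, hv'h', hNd]
          simp only [mul_assoc]
      _ = _ := by
          have h4 : Matrix.diagonal d * Matrix.single b a 1 *
              Matrix.diagonal (fun a => algebraMap Λ R' (δ' a)) =
              algebraMap Λ R' (δ b * δ' a) • Matrix.single b a (1 : R') := by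
            ext i j
            rw [Matrix.mul_diagonal, Matrix.diagonal_mul, Matrix.smul_apply, Matrix.single_apply]
            by_cases hij : b = i ∧ a = j
            · obtain ⟨rfl, rfl⟩ := hij
              rw [if_pos ⟨rfl, rfl⟩, mul_one, smul_eq_mul, mul_one, map_mul, hδ]
            · rw [if_neg hij, mul_zero, zero_mul, smul_zero]
          rw [h4, Matrix.mul_smul, Matrix.smul_mul]

include hfix' in
/-- matrix units adapted to an involution adjoint to a hermitian matrix of odd size -/
theorem exists_matUnits_of_hermitian (hodd : Odd n) (h h' : Matrix (Fin n) (Fin n) R')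
    (h1 : h * h' = 1) (h2 : h' * h = 1) (hh : τ h = h) (hT : ∀ m, T m = h * τ m * h') :
    ∃ (f : Fin n → Fin n → Matrix (Fin n) (Fin n) R') (δ δ' : Fin n → Λ), IsMatUnits f ∧
      (∀ a, δ a * δ' a = 1) ∧
      ∀ a b, T (f a b) = algebraMap Λ R' (δ b * δ' a) • f b a :=
  exists_matUnits_of_hermitian' lam' hlam' hfix' n T h h' (Or.inr (Or.inr hodd)) h1 h2 hh hT

end Herm

end Groth.Agent.Lib.Helper19EtLoc
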