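import Mathlib
import Groth.Agent.Lib.Helper19EtLocD

/-!
# Étale-local solvability (helper19), part I: the natural system "matrix units diagonalising the
involution up to invertible fixed central scalars"
-/

set_option autoImplicit false
set_option linter.style.haveILetI false
set_option linter.unusedSectionVars false

open TensorProduct

namespace Groth.Agent.Lib.Helper19EtLoc

open Groth.Agent.Lib.Helper19AzSplit Groth.Agent.Lib.Helper19SemiSN AzInv

universe u v w

section Sys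

variable {S : Type u} {R : Type v} [CommRing S] [CommRing R] [Algebra S R]
  (lam : R ≃ₐ[S] R)
  {A : Type w} [Ring A] [Algebra S A] [Algebra R A] [IsScalarTower S R A]
  (t : LamInv R A lam) (n : ℕ)

/-- the natural system: `f` is a full system of matrix units, the `E j` commute with the `f c d`
and are fixed by `t`, `E (inl a) * E (inr a) = 1`, and
`t (f a b) = E (inl b) * E (inr a) * f b a` -/
noncomputable def diagSys : NatSys S A ((Fin n × Fin n) ⊕ (Fin n ⊕ Fin n))
    ((Fin n × Fin n × Fin n × Fin n) ⊕ (Unit ⊕ (((Fin n ⊕ Fin n) × Fin n × Fin n) ⊕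
      ((Fin n ⊕ Fin n) ⊕ (Fin n ⊕ (Fin n × Fin n)))))) where
  D X _ _ v k :=
    match k with
    | Sum.inl (a, b, c', d) =>
        v (Sum.inl (a, b)) * v (Sum.inl (c', d)) - (if b = c' then v (Sum.inl (a, d)) else 0)
    | Sum.inr (Sum.inl _) => ∑ a, v (Sum.inl (a, a)) - 1
    | Sum.inr (Sum.inr (Sum.inl (j, c', d))) =>
        v (Sum.inr j) * v (Sum.inl (c', d)) - v (Sum.inl (c', d)) * v (Sum.inr j)
    | Sum.inr (Sum.inr (Sum.inr (Sum.inl j))) => t.bc S lam X (v (Sum.inr j)) - v (Sum.inr j)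
    | Sum.inr (Sum.inr (Sum.inr (Sum.inr (Sum.inl a)))) =>
        v (Sum.inr (Sum.inl a)) * v (Sum.inr (Sum.inr a)) - 1
    | Sum.inr (Sum.inr (Sum.inr (Sum.inr (Sum.inr (a, b))))) =>
        t.bc S lam X (v (Sum.inl (a, b))) -
          v (Sum.inr (Sum.inl b)) * v (Sum.inr (Sum.inr a)) * v (Sum.inl (b, a))
  nat X Y _ _ _ _ σ v k := by
    match k with
    | Sum.inl (a, b, c', d) =>
      simp only [map_sub, map_mul]
      split_ifs <;> simp
    | Sum.inr (Sum.inl _) => simp only [map_sub, map_sum, map_one]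
    | Sum.inr (Sum.inr (Sum.inl (j, c', d))) => simp only [map_sub, map_mul]
    | Sum.inr (Sum.inr (Sum.inr (Sum.inl j))) => simp only [map_sub, bc_nat]
    | Sum.inr (Sum.inr (Sum.inr (Sum.inr (Sum.inl a)))) => simp only [map_sub, map_mul, map_one]
    | Sum.inr (Sum.inr (Sum.inr (Sum.inr (Sum.inr (a, b))))) => simp only [map_sub, map_mul, bc_nat]

theorem diagSys_sol_iff (X : Type u) [CommRing X] [Algebra S X] :
    (diagSys lam t n).Sol X ↔ ∃ (f : Fin n → Fin n → X ⊗[S] A) (E : Fin n ⊕ Fin n → X ⊗[S] A),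
      IsMatUnits f ∧ (∀ j c d, E j * f c d = f c d * E j) ∧ (∀ j, t.bc S lam X (E j) = E j) ∧
      (∀ a, E (Sum.inl a) * E (Sum.inr a) = 1) ∧
      ∀ a b, t.bc S lam X (f a b) = E (Sum.inl b) * E (Sum.inr a) * f b a := by
  constructor
  · rintro ⟨v, hv⟩
    refine ⟨fun a b => v (Sum.inl (a, b)), fun j => v (Sum.inr j),
      ⟨fun a b c' d => ?_, ?_⟩, fun j c d => ?_, fun j => ?_, fun a => ?_, fun a b => ?_⟩
    · exact sub_eq_zero.mp (hv (Sum.inl (a, b, c', d)))
    · exact sub_eq_zero.mp (hv (Sum.inr (Sum.inl ())))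
    · exact sub_eq_zero.mp (hv (Sum.inr (Sum.inr (Sum.inl (j, c, d)))))
    · exact sub_eq_zero.mp (hv (Sum.inr (Sum.inr (Sum.inr (Sum.inl j)))))
    · exact sub_eq_zero.mp (hv (Sum.inr (Sum.inr (Sum.inr (Sum.inr (Sum.inl a))))))
    · exact sub_eq_zero.mp (hv (Sum.inr (Sum.inr (Sum.inr (Sum.inr (Sum.inr (a, b)))))))
  · rintro ⟨f, E, hf, h1, h2, h3, h4⟩
    refine ⟨fun i => Sum.elim (fun p => f p.1 p.2) E i, fun k => ?_⟩
    match k with
    | Sum.inl (a, b, c', d) => exact sub_eq_zero.mpr (hf.mul a b c' d)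
    | Sum.inr (Sum.inl _) => exact sub_eq_zero.mpr hf.sum
    | Sum.inr (Sum.inr (Sum.inl (j, c', d))) => exact sub_eq_zero.mpr (h1 j c' d)
    | Sum.inr (Sum.inr (Sum.inr (Sum.inl j))) => exact sub_eq_zero.mpr (h2 j)
    | Sum.inr (Sum.inr (Sum.inr (Sum.inr (Sum.inl a)))) => exact sub_eq_zero.mpr (h3 a)
    | Sum.inr (Sum.inr (Sum.inr (Sum.inr (Sum.inr (a, b))))) => exact sub_eq_zero.mpr (h4 a b)

end Sys

end Groth.Agent.Lib.Helper19EtLoc
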