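import Mathlib
import Groth.Agent.Lib.Helper19EtLocF
import Groth.Agent.Lib.Helper19EtLocH
import Groth.Agent.Lib.Helper19EtLocI

/-!
# Étale-local solvability (helper19), part J: odd degree over a strictly henselian flat algebra
-/

set_option autoImplicit false
set_option linter.style.haveILetI false
set_option linter.unusedSectionVars false

open TensorProduct

namespace Groth.Agent.Lib.Helper19EtLoc

open Groth.Agent.Lib.Helper19AzSplit Groth.Agent.Lib.Helper19SemiSN AzInv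
  Groth.Agent.Lib.LeadAzumaya IsLocalRing

universe u v w

section Main

variable {S : Type u} {R : Type v} [CommRing S] [CommRing R] [Algebra S R]
  (lam : R ≃ₐ[S] R) (hlam : ∀ r, lam (lam r) = r) (hfix : RInv.IsFixedRing S R lam.toRingEquiv)
  {A : Type w} [Ring A] [Algebra S A] [Algebra R A] [IsScalarTower S R A] [IsAzumaya R A]
  (t : LamInv R A lam) (n : ℕ)
  (Λ : Type u) [CommRing Λ] [Algebra S Λ] [HenselianLocalRing Λ] [IsSepClosed (ResidueField Λ)]
  [Module.Flat S Λ]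

attribute [local instance] Algebra.TensorProduct.rightAlgebra
attribute [local instance 10] algRA

/-- `R'`-linearity of an isomorphism compatible with the `R`-action -/
theorem smul_of_compat (X : Type u) [CommRing X] [Algebra S X]
    (F : X ⊗[S] A ≃ₐ[X] Matrix (Fin n) (Fin n) (X ⊗[S] R))
    (hF : ∀ (r : R) (x : X ⊗[S] A),
      F (((1 : X) ⊗ₜ[S] algebraMap R A r) * x) = Matrix.scalar (Fin n) ((1 : X) ⊗ₜ[S] r) * F x)
    (ρ : X ⊗[S] R) (x : X ⊗[S] A) : F (Xi1 (A := A) X ρ * x) = ρ • F x := by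
  induction ρ using TensorProduct.induction_on with
  | zero => simp
  | tmul s r =>
    have h1 : Xi1 (A := A) X (s ⊗ₜ[S] r) = s • ((1 : X) ⊗ₜ[S] algebraMap R A r) := by
      rw [Xi1_tmul, TensorProduct.smul_tmul', smul_eq_mul, mul_one]
    have h2 : (s ⊗ₜ[S] r : X ⊗[S] R) = s • ((1 : X) ⊗ₜ[S] r) := by
      rw [TensorProduct.smul_tmul', smul_eq_mul, mul_one]
    rw [h1, smul_mul_assoc, map_smul, hF, h2, smul_assoc, Matrix.scalar_apply,
      Matrix.smul_eq_diagonal_mul]
  | add ρ ρ' h h' => rw [map_add, add_mul, map_add, h, h', add_smul]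

include hlam hfix in
theorem exists_diag_odd (hodd : Odd n)
    (hrank : ∀ p : PrimeSpectrum R, Module.rankAtStalk (R := R) A p = n ^ 2) :
    ∃ (f : Fin n → Fin n → Λ ⊗[S] A) (E : Fin n ⊕ Fin n → Λ ⊗[S] A),
      IsMatUnits f ∧ (∀ j c d, E j * f c d = f c d * E j) ∧ (∀ j, t.bc S lam Λ (E j) = E j) ∧
      (∀ a, E (Sum.inl a) * E (Sum.inr a) = 1) ∧
      ∀ a b, t.bc S lam Λ (f a b) = E (Sum.inl b) * E (Sum.inr a) * f b a := by
  have hn : 0 < n := hodd.pos
  have hfix' := Groth.Agent.S15586.result S R Λ lam hlam hfix (Or.inl inferInstance)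
  have hinv : Function.Involutive
      (Algebra.TensorProduct.congr (AlgEquiv.refl : Λ ≃ₐ[S] Λ) lam).toRingEquiv := by
    intro z
    change Algebra.TensorProduct.congr (AlgEquiv.refl : Λ ≃ₐ[S] Λ) lam
      (Algebra.TensorProduct.congr (AlgEquiv.refl : Λ ≃ₐ[S] Λ) lam z) = z
    induction z using TensorProduct.induction_on with
    | zero => simp
    | tmul s r => simp [hlam]
    | add x y hx hy => rw [map_add, map_add, hx, hy]
  obtain ⟨e₀, he₀⟩ := exists_matUnits_strictHensel lam hlam hfix (A := A) n Λ hn hrank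
  obtain ⟨F, hF⟩ := exists_algEquiv_of_matUnits (S := S) (R := R) (A := A) n Λ hn hrank e₀ he₀
  have hFs := smul_of_compat (S := S) (R := R) (A := A) n Λ F hF
  have hFsymm : ∀ (ρ : Λ ⊗[S] R) (m : Matrix (Fin n) (Fin n) (Λ ⊗[S] R)),
      F.symm (ρ • m) = Xi1 (A := A) Λ ρ * F.symm m := by
    intro ρ m
    apply F.injective
    rw [AlgEquiv.apply_symm_apply, hFs, AlgEquiv.apply_symm_apply]
  let lam' : (Λ ⊗[S] R) ≃+* (Λ ⊗[S] R) :=
    (Algebra.TensorProduct.congr (AlgEquiv.refl : Λ ≃ₐ[S] Λ) lam).toRingEquiv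
  let T : LamInv (Λ ⊗[S] R) (Matrix (Fin n) (Fin n) (Λ ⊗[S] R)) lam' :=
    { toFun := fun m => F (t.bc S lam Λ (F.symm m))
      map_add' := fun m m' => by rw [map_add, map_add, map_add]
      map_mul' := fun m m' => by rw [map_mul, bc_mul, map_mul]
      map_smul' := fun ρ m => by
        rw [hFsymm, bc_Xi1_mul, hFs]
        rfl
      invol' := fun m => by rw [AlgEquiv.symm_apply_apply, bc_bc, AlgEquiv.apply_symm_apply] }
  have hTdef : ∀ m, F.symm (T m) = t.bc S lam Λ (F.symm m) := by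
    intro m
    change F.symm (F (t.bc S lam Λ (F.symm m))) = _
    rw [AlgEquiv.symm_apply_apply]
  obtain ⟨h, h', h1, h2, hh, hT⟩ := exists_hermitian_conj lam' hinv hfix' n T hodd
  obtain ⟨fM, δ, δ', hfM, hδ, hTf⟩ :=
    exists_matUnits_of_hermitian lam' hinv hfix' n T hodd h h' h1 h2 hh hT
  refine ⟨fun a b => F.symm (fM a b),
    Sum.elim (fun a => algebraMap Λ (Λ ⊗[S] A) (δ a)) (fun a => algebraMap Λ (Λ ⊗[S] A) (δ' a)),
    hfM.map (F.symm : Matrix (Fin n) (Fin n) (Λ ⊗[S] R) →+* Λ ⊗[S] A), ?_, ?_, ?_, ?_⟩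
  · intro j c d
    cases j with
    | inl a => exact Algebra.commutes _ _
    | inr a => exact Algebra.commutes _ _
  · intro j
    cases j with
    | inl a =>
      change t.bc S lam Λ (algebraMap Λ (Λ ⊗[S] A) (δ a)) = algebraMap Λ (Λ ⊗[S] A) (δ a)
      rw [Algebra.TensorProduct.algebraMap_apply, LamInv.bc_tmul, t.map_one]
    | inr a =>
      change t.bc S lam Λ (algebraMap Λ (Λ ⊗[S] A) (δ' a)) = algebraMap Λ (Λ ⊗[S] A) (δ' a)
      rw [Algebra.TensorProduct.algebraMap_apply, LamInv.bc_tmul, t.map_one]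
  · intro a
    change algebraMap Λ (Λ ⊗[S] A) (δ a) * algebraMap Λ (Λ ⊗[S] A) (δ' a) = 1
    rw [← map_mul, hδ, map_one]
  · intro a b
    change t.bc S lam Λ (F.symm (fM a b)) =
      algebraMap Λ (Λ ⊗[S] A) (δ b) * algebraMap Λ (Λ ⊗[S] A) (δ' a) * F.symm (fM b a)
    rw [← hTdef, hTf, algebraMap_smul, map_smul, ← map_mul, Algebra.smul_def]

end Main

end Groth.Agent.Lib.Helper19EtLoc
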