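import Mathlib
import Groth.Agent.Lib.Helper19EtLocJ

/-!
# Étale-local solvability (helper19), part K: central fixed elements of `X ⊗[S] A` are scalars of
`X` (for `X` flat over the fixed ring `S`), and the odd-degree diagonalisation over an étale cover
-/

set_option autoImplicit false
set_option linter.style.haveILetI false
set_option linter.unusedSectionVars false

open TensorProduct

namespace Groth.Agent.Lib.Helper19EtLoc

open Groth.Agent.Lib.Helper19AzSplit Groth.Agent.Lib.Helper19SemiSN AzInv
  Groth.Agent.Lib.LeadAzumaya IsLocalRing Groth.Agent.Lib.Helper3.Sh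

universe u v w

section Scalar

variable {S : Type u} {R : Type v} [CommRing S] [CommRing R] [Algebra S R]
  (lam : R ≃ₐ[S] R) (hlam : ∀ r, lam (lam r) = r) (hfix : RInv.IsFixedRing S R lam.toRingEquiv)
  {A : Type w} [Ring A] [Algebra S A] [Algebra R A] [IsScalarTower S R A] [IsAzumaya R A]
  (t : LamInv R A lam) (n : ℕ)
  (X : Type u) [CommRing X] [Algebra S X]

attribute [local instance] Algebra.TensorProduct.rightAlgebra
attribute [local instance 10] algRA

theorem Xi1_injective : Function.Injective (Xi1 (S := S) (R := R) (A := A) X) := by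
  haveI : IsAzumaya (X ⊗[S] R) ((X ⊗[S] R) ⊗[R] A) := isAzumaya_baseChange (X ⊗[S] R) A
  intro ρ ρ' h
  apply FaithfulSMul.algebraMap_injective (X ⊗[S] R) ((X ⊗[S] R) ⊗[R] A)
  have h1 : ∀ ρ : X ⊗[S] R, algebraMap (X ⊗[S] R) ((X ⊗[S] R) ⊗[R] A) ρ =
      XiInv (R := R) X (Xi1 (A := A) X ρ) := by
    intro ρ
    have : Xi1 (A := A) X ρ = Xi (S := S) (R := R) X (ρ ⊗ₜ[R] (1 : A)) := by
      unfold Xi
      rw [Algebra.TensorProduct.lift_tmul, map_one, mul_one]
    rw [this, XiInv_Xi]
    rfl
  rw [h1, h1, h]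

/-- an element commuting with a full system of matrix units is central -/
theorem central_of_commute_matUnits (hn : 0 < n)
    (hrank : ∀ p : PrimeSpectrum R, Module.rankAtStalk (R := R) A p = n ^ 2)
    (f : Fin n → Fin n → X ⊗[S] A) (hf : IsMatUnits f) (z : X ⊗[S] A)
    (hz : ∀ c d, z * f c d = f c d * z) (x : X ⊗[S] A) : z * x = x * z := by
  obtain ⟨G, hG⟩ := exists_ringEquiv_of_matUnits (S := S) (R := R) (A := A) n X hn hrank f hf
  obtain ⟨y, rfl⟩ := G.surjective x
  induction y using TensorProduct.induction_on with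
  | zero => simp
  | tmul s M =>
    rw [hG, Finset.mul_sum, Finset.sum_mul]
    refine Finset.sum_congr rfl fun a _ => ?_
    rw [Finset.mul_sum, Finset.sum_mul]
    refine Finset.sum_congr rfl fun b _ => ?_
    have h1 : (s ⊗ₜ[S] algebraMap R A (M a b) : X ⊗[S] A) = Xi1 (A := A) X (s ⊗ₜ[S] M a b) :=
      (Xi1_tmul X s (M a b)).symm
    rw [h1, ← mul_assoc, ← Xi1_central, mul_assoc, hz, mul_assoc]
  | add y y' h h' => rw [map_add, mul_add, add_mul, h, h']

include hlam hfix in
/-- central elements fixed by the involution are scalars from `X`, for `X` flat over `S` -/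
theorem exists_scalar_of_central_fixed [Module.Flat S X] (z : X ⊗[S] A)
    (hz : ∀ x, z * x = x * z) (ht : t.bc S lam X z = z) :
    ∃ d : X, z = algebraMap X (X ⊗[S] A) d := by
  haveI : IsAzumaya (X ⊗[S] R) ((X ⊗[S] R) ⊗[R] A) := isAzumaya_baseChange (X ⊗[S] R) A
  have hfix' := Groth.Agent.S15586.result S R X lam hlam hfix (Or.inl inferInstance)
  have hc : ∀ b : (X ⊗[S] R) ⊗[R] A, XiInv (R := R) X z * b = b * XiInv (R := R) X z := by
    intro b
    rw [← XiInv_Xi (R := R) X b, ← map_mul, ← map_mul, hz]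
  obtain ⟨ρ, hρ⟩ := exists_algebraMap_eq_of_central (T := X ⊗[S] R) _ hc
  have hzρ : z = Xi1 (A := A) X ρ := by
    rw [← Xi_XiInv (R := R) X z, hρ]
    change Xi (S := S) (R := R) X (ρ ⊗ₜ[R] (1 : A)) = _
    unfold Xi
    rw [Algebra.TensorProduct.lift_tmul, map_one, mul_one]
  have hfixρ : (Algebra.TensorProduct.congr (AlgEquiv.refl : X ≃ₐ[S] X) lam).toRingEquiv ρ = ρ := by
    apply Xi1_injective (S := S) (R := R) (A := A) X
    have := bc_Xi1_mul lam t X ρ 1
    rw [mul_one, bc_one, mul_one, ← hzρ, ht] at this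
    rw [← hzρ]
    exact this.symm
  obtain ⟨d, hd⟩ := (hfix'.2 ρ).mp hfixρ
  refine ⟨d, ?_⟩
  rw [hzρ, ← hd, Algebra.TensorProduct.algebraMap_apply, Algebra.algebraMap_self_apply,
    Algebra.TensorProduct.algebraMap_apply, Algebra.algebraMap_self_apply, Xi1_tmul, map_one]

include hlam hfix in
theorem algebraMap_injective_of_flat [Module.Flat S X] :
    Function.Injective (algebraMap X (X ⊗[S] A)) := by
  have hfix' := Groth.Agent.S15586.result S R X lam hlam hfix (Or.inl inferInstance)
  intro x y h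
  apply hfix'.1
  apply Xi1_injective (S := S) (R := R) (A := A) X
  rw [Algebra.TensorProduct.algebraMap_apply, Algebra.algebraMap_self_apply,
    Algebra.TensorProduct.algebraMap_apply, Algebra.algebraMap_self_apply, Xi1_tmul, Xi1_tmul,
    map_one]
  rw [Algebra.TensorProduct.algebraMap_apply, Algebra.algebraMap_self_apply,
    Algebra.TensorProduct.algebraMap_apply, Algebra.algebraMap_self_apply] at h
  exact h

end Scalar

end Groth.Agent.Lib.Helper19EtLoc
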