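import Mathlib
import Groth.Agent.Lib.Helper19EtLocK

/-!
# Étale-local solvability (helper19), part L: odd degree — diagonalisation over an étale cover,
extraction of square roots, and the neutral type
-/

set_option autoImplicit false
set_option linter.style.haveILetI false
set_option linter.unusedSectionVars false

open TensorProduct

namespace Groth.Agent.Lib.Helper19EtLoc

open Groth.Agent.Lib.Helper19AzSplit Groth.Agent.Lib.Helper19SemiSN AzInv
  Groth.Agent.Lib.LeadAzumaya IsLocalRing Groth.Agent.Lib.Helper3.Sh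

universe u v w

section Cover

variable {S : Type u} {R : Type v} [CommRing S] [CommRing R] [Algebra S R]
  (lam : R ≃ₐ[S] R) (hlam : ∀ r, lam (lam r) = r) (hfix : RInv.IsFixedRing S R lam.toRingEquiv)
  {A : Type w} [Ring A] [Algebra S A] [Algebra R A] [IsScalarTower S R A] [IsAzumaya R A]
  (t : LamInv R A lam) (n : ℕ)

attribute [local instance 10] algSsh algSL

include hlam hfix in
theorem exists_cover_diag_odd (hodd : Odd n)
    (hrank : ∀ p : PrimeSpectrum R, Module.rankAtStalk (R := R) A p = n ^ 2) :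
    ∃ (S₁ : Type u) (_ : CommRing S₁) (_ : Algebra S S₁), Algebra.Etale S S₁ ∧
      Module.FaithfullyFlat S S₁ ∧
      ∃ (f : Fin n → Fin n → S₁ ⊗[S] A) (δ δ' : Fin n → S₁), IsMatUnits f ∧
        (∀ a, δ a * δ' a = 1) ∧
        ∀ a b, t.bc S lam S₁ (f a b) = algebraMap S₁ (S₁ ⊗[S] A) (δ b * δ' a) * f b a := by
  have hn : 0 < n := hodd.pos
  obtain ⟨S₁, i1, i2, hEt, hFF, hsol⟩ := NatSys.exists_etale_cover (diagSys lam t n) (by
    intro p _
    let Sp := Localization.AtPrime p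
    let Ω := SeparableClosure (ResidueField Sp)
    letI : Algebra Sp Ω :=
      ((algebraMap (ResidueField Sp) Ω).comp (algebraMap Sp (ResidueField Sp))).toAlgebra
    haveI : IsScalarTower Sp (ResidueField Sp) Ω := IsScalarTower.of_algebraMap_eq (fun _ => rfl)
    let Λ := Rsh Sp Ω
    haveI : Module.Flat S Λ := Module.Flat.trans S Sp Λ
    haveI : IsSepClosed (ResidueField Λ) :=
      (inferInstance : IsSepClosure (ResidueField Sp) (ResidueField Λ)).sep_closed
    exact (diagSys_sol_iff lam t n Λ).mpr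
      (exists_diag_odd lam hlam hfix (A := A) t n Λ hodd hrank))
  haveI := hFF
  obtain ⟨f, E, hf, h1, h2, h3, h4⟩ := (diagSys_sol_iff lam t n S₁).mp hsol
  have hE : ∀ j, ∃ d : S₁, E j = algebraMap S₁ (S₁ ⊗[S] A) d := fun j =>
    exists_scalar_of_central_fixed lam hlam hfix t S₁ (E j)
      (central_of_commute_matUnits n S₁ hn hrank f hf (E j) (h1 j)) (h2 j)
  choose d hd using hE
  refine ⟨S₁, i1, i2, hEt, hFF, f, fun a => d (Sum.inl a), fun a => d (Sum.inr a), hf, ?_, ?_⟩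
  · intro a
    apply algebraMap_injective_of_flat lam hlam hfix (A := A) S₁
    rw [map_mul, ← hd, ← hd, h3, map_one]
  · intro a b
    rw [h4, hd, hd, ← map_mul]

end Cover

section Sqrt

variable {S : Type u} [CommRing S]
  (hsq : ∀ (S₁ : Type u) [CommRing S₁] [Algebra S S₁] [Algebra.Etale S S₁] (x : S₁ˣ),
      ∃ (S₂ : Type u) (_ : CommRing S₂) (_ : Algebra S₁ S₂) (_ : Algebra.Etale S₁ S₂)
        (_ : Module.FaithfullyFlat S₁ S₂) (y : S₂), y * y = algebraMap S₁ S₂ ↑x)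

include hsq in
/-- finitely many units become squares over an étale faithfully flat extension -/
theorem exists_cover_sqrt (k : ℕ) :
    ∀ (S₁ : Type u) [CommRing S₁] [Algebra S S₁] [Algebra.Etale S S₁] (x : Fin k → S₁ˣ),
    ∃ (S₂ : Type u) (_ : CommRing S₂) (_ : Algebra S₁ S₂) (_ : Algebra.Etale S₁ S₂)
      (_ : Module.FaithfullyFlat S₁ S₂), ∀ i, ∃ y : S₂, y * y = algebraMap S₁ S₂ ↑(x i) := by
  induction k with
  | zero =>
    intro S₁ _ _ _ x
    exact ⟨S₁, inferInstance, inferInstance, inferInstance, inferInstance, fun i => i.elim0⟩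
  | succ k ih =>
    intro S₁ _ _ _ x
    obtain ⟨S₂, _, _, hEt₂, hFF₂, hy⟩ := ih S₁ (fun i => x i.castSucc)
    letI : Algebra S S₂ := ((algebraMap S₁ S₂).comp (algebraMap S S₁)).toAlgebra
    haveI : IsScalarTower S S₁ S₂ := IsScalarTower.of_algebraMap_eq (fun _ => rfl)
    haveI : Algebra.Etale S S₂ := Algebra.Etale.comp S S₁ S₂
    obtain ⟨S₃, _, _, hEt₃, hFF₃, y, hy'⟩ :=
      hsq S₂ (Units.map (algebraMap S₁ S₂ : S₁ →* S₂) (x (Fin.last k)))
    letI : Algebra S₁ S₃ := ((algebraMap S₂ S₃).comp (algebraMap S₁ S₂)).toAlgebra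
    haveI : IsScalarTower S₁ S₂ S₃ := IsScalarTower.of_algebraMap_eq (fun _ => rfl)
    refine ⟨S₃, inferInstance, inferInstance, Algebra.Etale.comp S₁ S₂ S₃,
      Module.FaithfullyFlat.trans S₁ S₂ S₃, fun i => ?_⟩
    induction i using Fin.lastCases with
    | last => exact ⟨y, hy'⟩
    | cast i =>
      obtain ⟨y₀, hy₀⟩ := hy i
      refine ⟨algebraMap S₂ S₃ y₀, ?_⟩
      rw [← map_mul, hy₀]
      rfl

end Sqrt

section Final

variable {S : Type u} {R : Type v} [CommRing S] [CommRing R] [Algebra S R]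
  (lam : R ≃ₐ[S] R) (hlam : ∀ r, lam (lam r) = r) (hfix : RInv.IsFixedRing S R lam.toRingEquiv)
  {A : Type w} [Ring A] [Algebra S A] [Algebra R A] [IsScalarTower S R A] [IsAzumaya R A]
  (t : LamInv R A lam) (n : ℕ)

theorem bc_algebraMap_mul (X : Type u) [CommRing X] [Algebra S X] (s : X) (y : X ⊗[S] A) :
    t.bc S lam X (algebraMap X (X ⊗[S] A) s * y) = algebraMap X (X ⊗[S] A) s * t.bc S lam X y := by
  rw [← Algebra.smul_def, map_smul, Algebra.smul_def]

include hfix in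
theorem sameType_of_odd
    (hsq : ∀ (S₁ : Type u) [CommRing S₁] [Algebra S S₁] [Algebra.Etale S S₁] (x : S₁ˣ),
      ∃ (S₂ : Type u) (_ : CommRing S₂) (_ : Algebra S₁ S₂) (_ : Algebra.Etale S₁ S₂)
        (_ : Module.FaithfullyFlat S₁ S₂) (y : S₂), y * y = algebraMap S₁ S₂ ↑x)
    (hodd : Odd n)
    (hrank : ∀ p : PrimeSpectrum R, Module.rankAtStalk (R := R) A p = n ^ 2) :
    SameType S lam t (LamInv.self lam hlam) := by
  classical
  have hn : 0 < n := hodd.pos
  obtain ⟨S₁, _, _, hEt₁, hFF₁, f, δ, δ', hf, hδ, hsym⟩ :=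
    exists_cover_diag_odd lam hlam hfix (A := A) t n hodd hrank
  haveI := hEt₁
  haveI := hFF₁
  obtain ⟨S₂, _, _, hEt₂, hFF₂, hy⟩ := exists_cover_sqrt hsq n S₁
    (fun a => ⟨δ a, δ' a, hδ a, by rw [mul_comm]; exact hδ a⟩)
  haveI := hEt₂
  haveI := hFF₂
  letI : Algebra S S₂ := ((algebraMap S₁ S₂).comp (algebraMap S S₁)).toAlgebra
  haveI : IsScalarTower S S₁ S₂ := IsScalarTower.of_algebraMap_eq (fun _ => rfl)
  haveI : Algebra.Etale S S₂ := Algebra.Etale.comp S S₁ S₂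
  haveI : Module.FaithfullyFlat S S₂ := Module.FaithfullyFlat.trans S S₁ S₂
  choose y hy using hy
  let σ : S₁ →ₐ[S] S₂ := IsScalarTower.toAlgHom S S₁ S₂
  let Φ : S₁ ⊗[S] A →ₐ[S] S₂ ⊗[S] A := Algebra.TensorProduct.map σ (AlgHom.id S A)
  have hΦalg : ∀ s : S₁, Φ (algebraMap S₁ (S₁ ⊗[S] A) s) =
      algebraMap S₂ (S₂ ⊗[S] A) (algebraMap S₁ S₂ s) := by
    intro s
    rw [Algebra.TensorProduct.algebraMap_apply, Algebra.algebraMap_self_apply,
      Algebra.TensorProduct.algebraMap_apply, Algebra.algebraMap_self_apply]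
    exact Algebra.TensorProduct.map_tmul _ _ _ _
  let f₂ : Fin n → Fin n → S₂ ⊗[S] A := fun a b => Φ (f a b)
  have hf₂ : IsMatUnits f₂ := hf.map (Φ : S₁ ⊗[S] A →+* S₂ ⊗[S] A)
  have hsym₂ : ∀ a b, t.bc S lam S₂ (f₂ a b) =
      algebraMap S₂ (S₂ ⊗[S] A) (algebraMap S₁ S₂ (δ b) * algebraMap S₁ S₂ (δ' a)) * f₂ b a := by
    intro a b
    change t.bc S lam S₂ (Φ (f a b)) = _
    rw [← bc_nat, hsym, map_mul, hΦalg, map_mul]
  have hyy : ∀ a, y a * y a = algebraMap S₁ S₂ (δ a) := hy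
  have hδ₂ : ∀ a, algebraMap S₁ S₂ (δ a) * algebraMap S₁ S₂ (δ' a) = 1 := by
    intro a
    rw [← map_mul, hδ, map_one]
  let y' : Fin n → S₂ := fun a => y a * algebraMap S₁ S₂ (δ' a)
  have hyy' : ∀ a, y a * y' a = 1 := by
    intro a
    change y a * (y a * algebraMap S₁ S₂ (δ' a)) = 1
    rw [← mul_assoc, hyy, hδ₂]
  let f' : Fin n → Fin n → S₂ ⊗[S] A := fun a b =>
    algebraMap S₂ (S₂ ⊗[S] A) (y a * y' b) * f₂ a b
  have hf' : IsMatUnits f' := by
    refine ⟨fun a b c d => ?_, ?_⟩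
    · change algebraMap S₂ (S₂ ⊗[S] A) (y a * y' b) * f₂ a b *
        (algebraMap S₂ (S₂ ⊗[S] A) (y c * y' d) * f₂ c d) =
        if b = c then algebraMap S₂ (S₂ ⊗[S] A) (y a * y' d) * f₂ a d else 0
      rw [mul_assoc, ← mul_assoc (f₂ a b), ← Algebra.commutes, mul_assoc, ← mul_assoc, ← map_mul,
        hf₂.mul]
      by_cases hbc : b = c
      · subst hbc
        rw [if_pos rfl, if_pos rfl]
        congr 2
        calc y a * y' b * (y b * y' d) = y a * (y b * y' b) * y' d := by ring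
          _ = y a * y' d := by rw [hyy', mul_one]
      · rw [if_neg hbc, if_neg hbc, mul_zero]
    · change ∑ a, algebraMap S₂ (S₂ ⊗[S] A) (y a * y' a) * f₂ a a = 1
      simp only [hyy', map_one, one_mul]
      exact hf₂.sum
  have hsym' : ∀ a b, t.bc S lam S₂ (f' a b) = f' b a := by
    intro a b
    change t.bc S lam S₂ (algebraMap S₂ (S₂ ⊗[S] A) (y a * y' b) * f₂ a b) =
      algebraMap S₂ (S₂ ⊗[S] A) (y b * y' a) * f₂ b a
    rw [bc_algebraMap_mul, hsym₂, ← mul_assoc, ← map_mul]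
    congr 2
    change y a * (y b * algebraMap S₁ S₂ (δ' b)) *
      (algebraMap S₁ S₂ (δ b) * algebraMap S₁ S₂ (δ' a)) = y b * (y a * algebraMap S₁ S₂ (δ' a))
    calc y a * (y b * algebraMap S₁ S₂ (δ' b)) * (algebraMap S₁ S₂ (δ b) * algebraMap S₁ S₂ (δ' a))
        = y a * y b * algebraMap S₁ S₂ (δ' a) *
            (algebraMap S₁ S₂ (δ b) * algebraMap S₁ S₂ (δ' b)) := by ring
      _ = y b * (y a * algebraMap S₁ S₂ (δ' a)) := by rw [hδ₂]; ring
  exact sameType_of_symMatUnits lam hlam t n S₂ hn hrank f' hf' hsym'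

end Final

end Groth.Agent.Lib.Helper19EtLoc
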