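import Mathlib
import Groth.Prelude.Def_AzInv

/-!
# Étale-local solvability (helper19), part N: the standard symplectic model
`M_m(M_2(R))` with the involution induced by `x ↦ J xᵀ J⁻¹`, written on `2m × 2m` matrices
-/

set_option autoImplicit false
set_option linter.style.haveILetI false
set_option linter.unusedSectionVars false

namespace Groth.Agent.Lib.Helper19EtLoc

open AzInv

universe u

section Model

variable (m : ℕ)

/-- the partner index: swap the `Fin 2` coordinate -/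
def sympπ (a : Fin (m * 2)) : Fin (m * 2) :=
  finProdFinEquiv ((finProdFinEquiv.symm a).1, 1 - (finProdFinEquiv.symm a).2)

/-- the sign of an index: `+1` on the first coordinate of each pair, `-1` on the second -/
def sympμ (a : Fin (m * 2)) : ℤ := if (finProdFinEquiv.symm a).2 = 0 then 1 else -1

theorem sympπ_sympπ (a : Fin (m * 2)) : sympπ m (sympπ m a) = a := by
  unfold sympπ
  rw [Equiv.symm_apply_apply]
  have : (1 : Fin 2) - (1 - (finProdFinEquiv.symm a).2) = (finProdFinEquiv.symm a).2 := by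
    generalize (finProdFinEquiv.symm a).2 = k
    fin_cases k <;> rfl
  simp only [this]
  exact Equiv.apply_symm_apply _ _

theorem sympμ_sympπ (a : Fin (m * 2)) : sympμ m (sympπ m a) = - sympμ m a := by
  unfold sympμ sympπ
  rw [Equiv.symm_apply_apply]
  generalize (finProdFinEquiv.symm a).2 = k
  fin_cases k <;> simp

theorem sympμ_mul_self (a : Fin (m * 2)) : sympμ m a * sympμ m a = 1 := by
  unfold sympμ
  split_ifs <;> simp

variable (R : Type u) [CommRing R]

/-- `M_m(M_2(R)) ≃ M_{2m}(R)` -/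
noncomputable def sympΘ :
    Matrix (Fin m) (Fin m) (Matrix (Fin 2) (Fin 2) R) ≃ₐ[R] Matrix (Fin (m * 2)) (Fin (m * 2)) R :=
  (Matrix.compAlgEquiv (Fin m) (Fin 2) R R).trans (Matrix.reindexAlgEquiv R R finProdFinEquiv)

theorem sympΘ_apply (X : Matrix (Fin m) (Fin m) (Matrix (Fin 2) (Fin 2) R)) (a b : Fin (m * 2)) :
    sympΘ m R X a b = X (finProdFinEquiv.symm a).1 (finProdFinEquiv.symm b).1
      (finProdFinEquiv.symm a).2 (finProdFinEquiv.symm b).2 := rfl

/-- the symplectic involution of `M_2` in coordinates -/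
theorem symp_apply (J : (Matrix (Fin 2) (Fin 2) R)ˣ)
    (hJ : (↑J : Matrix (Fin 2) (Fin 2) R) = Matrix.of ![![0, -1], ![1, 0]])
    (Y : Matrix (Fin 2) (Fin 2) R) (k l : Fin 2) :
    ((↑J : Matrix (Fin 2) (Fin 2) R) * Y.transpose *
        ((↑J⁻¹ : (Matrix (Fin 2) (Fin 2) R)ˣ) : Matrix (Fin 2) (Fin 2) R)) k l =
      ((if (1 - l) = 0 then (1 : ℤ) else -1) * (if (1 - k) = 0 then (1 : ℤ) else -1)) •
        Y (1 - l) (1 - k) := by
  have hJinv : (↑J⁻¹ : Matrix (Fin 2) (Fin 2) R) = Matrix.of ![![0, 1], ![-1, 0]] := by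
    apply Units.inv_eq_of_mul_eq_one_right
    rw [hJ]
    ext i j
    fin_cases i <;> fin_cases j <;> simp [Matrix.mul_apply, Fin.sum_univ_two, Matrix.one_apply]
  rw [hJinv, hJ]
  fin_cases k <;> fin_cases l <;>
    simp [Matrix.mul_apply, Fin.sum_univ_two, Matrix.transpose_apply, Matrix.vecMul, dotProduct]

variable (hlam : ∀ r : R, (AlgEquiv.refl : R ≃ₐ[R] R) ((AlgEquiv.refl : R ≃ₐ[R] R) r) = r)
  (J : (Matrix (Fin 2) (Fin 2) R)ˣ)
  (hJ : (↑J : Matrix (Fin 2) (Fin 2) R) = Matrix.of ![![0, -1], ![1, 0]])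
  (hJt : AzInv.LamInv.transpose (AlgEquiv.refl : R ≃ₐ[R] R) (Fin 2) hlam
    (↑J : Matrix (Fin 2) (Fin 2) R) = (-1 : R) • (↑J : Matrix (Fin 2) (Fin 2) R))
  (hneg : (AlgEquiv.refl : R ≃ₐ[R] R) (-1) * (-1) = 1)

include hJ in
/-- the shape of the standard symplectic involution on matrix entries -/
theorem sympΘ_inv (X : Matrix (Fin m) (Fin m) (Matrix (Fin 2) (Fin 2) R)) (a b : Fin (m * 2)) :
    sympΘ m R ((((AzInv.LamInv.transpose (AlgEquiv.refl : R ≃ₐ[R] R) (Fin 2) hlam).conj J (-1) hJt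
        hneg).matrix (Fin m)) X) a b =
      (sympμ m (sympπ m b) * sympμ m (sympπ m a)) •
        (AlgEquiv.refl : R ≃ₐ[R] R) (sympΘ m R X (sympπ m b) (sympπ m a)) := by
  rw [sympΘ_apply, LamInv.matrix_apply, LamInv.conj_apply, sympΘ_apply]
  have h1 : ∀ Y : Matrix (Fin 2) (Fin 2) R,
      (AzInv.LamInv.transpose (AlgEquiv.refl : R ≃ₐ[R] R) (Fin 2) hlam) Y = Y.transpose := by
    intro Y
    ext i j
    rfl
  rw [h1, symp_apply R J hJ]
  unfold sympμ sympπ
  simp only [Equiv.symm_apply_apply]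
  rfl

end Model

end Groth.Agent.Lib.Helper19EtLoc
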