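import Mathlib
import Groth.Agent.Lib.Helper19EtLocH
import Groth.Agent.Lib.Helper19EtLocN
import Groth.Agent.S15584

/-!
# Étale-local solvability (helper19), part O: involutions adjoint to alternating matrices —
matrix units permuted with the symplectic sign pattern
-/

set_option autoImplicit false
set_option linter.style.haveILetI false
set_option linter.unusedSectionVars false

namespace Groth.Agent.Lib.Helper19EtLoc

open Groth.Agent.Lib.Helper19AzSplit Groth.Agent.Lib.Helper19SemiSN AzInv

universe u v

section Arith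

theorem sympπ_val (m : ℕ) (a : Fin (m * 2)) :
    (sympπ m a).val = if a.val % 2 = 0 then a.val + 1 else a.val - 1 := by
  unfold sympπ
  rw [finProdFinEquiv_apply_val, finProdFinEquiv_symm_apply]
  simp only [Fin.coe_divNat]
  have h : ((1 : Fin 2) - a.modNat).val = if a.val % 2 = 0 then 1 else 0 := by
    have h1 : a.modNat.val = a.val % 2 := Fin.coe_modNat a
    have h2 : a.modNat.val < 2 := a.modNat.isLt
    by_cases h0 : a.val % 2 = 0
    · rw [if_pos h0]
      have : a.modNat = 0 := Fin.ext (by rw [h1, h0]; rfl)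
      rw [this]; rfl
    · rw [if_neg h0]
      have : a.modNat = 1 := Fin.ext (by rw [h1]; change a.val % 2 = 1; omega)
      rw [this]; rfl
  rw [h]
  split_ifs <;> omega

theorem sympμ_eq (m : ℕ) (a : Fin (m * 2)) : sympμ m a = if a.val % 2 = 0 then 1 else -1 := by
  unfold sympμ
  rw [finProdFinEquiv_symm_apply]
  have h1 : a.modNat.val = a.val % 2 := Fin.coe_modNat a
  by_cases h0 : a.val % 2 = 0
  · rw [if_pos h0, if_pos]
    exact Fin.ext (by rw [h1, h0]; rfl)
  · rw [if_neg h0, if_neg]
    intro h
    apply h0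
    rw [← h1]
    change a.modNat = 0 at h
    rw [h]
    rfl

theorem eq_or_eq_sympπ_of_div (m : ℕ) (a j : Fin (m * 2)) (h : j.val / 2 = a.val / 2) :
    j = a ∨ j = sympπ m a := by
  by_cases hja : j = a
  · exact Or.inl hja
  · right
    apply Fin.ext
    rw [sympπ_val]
    have : j.val ≠ a.val := fun h' => hja (Fin.ext h')
    split_ifs <;> omega

theorem sympπ_div (m : ℕ) (a : Fin (m * 2)) : (sympπ m a).val / 2 = a.val / 2 := by
  rw [sympπ_val]
  split_ifs <;> omega

theorem sympπ_ne (m : ℕ) (a : Fin (m * 2)) : sympπ m a ≠ a := by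
  intro h
  have := congrArg Fin.val h
  rw [sympπ_val] at this
  split_ifs at this <;> omega

theorem sympπ_mod (m : ℕ) (a : Fin (m * 2)) :
    (sympπ m a).val % 2 = 0 ↔ ¬ a.val % 2 = 0 := by
  rw [sympπ_val]
  split_ifs <;> omega

end Arith

section Alt

variable {Λ : Type u} {R' : Type v} [CommRing Λ] [IsLocalRing Λ] [CommRing R'] [Algebra Λ R']
  (lam' : R' ≃+* R') (hlam' : Function.Involutive lam') (hfix' : RInv.IsFixedRing Λ R' lam')
  (m : ℕ) (T : LamInv R' (Matrix (Fin (m * 2)) (Fin (m * 2)) R') lam')

local notation "τ" => LamInv.transpose lam' (Fin (m * 2)) hlam'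

include hfix' in
/-- matrix units adapted to an involution adjoint to an alternating matrix -/
theorem exists_matUnits_of_alternating (hid : ∀ a, lam' a = a) (h2 : IsUnit (2 : R'))
    (h h' : Matrix (Fin (m * 2)) (Fin (m * 2)) R') (h1 : h * h' = 1) (h1' : h' * h = 1)
    (hh : τ h = -h) (hT : ∀ x, T x = h * τ x * h') :
    ∃ g : Fin (m * 2) → Fin (m * 2) → Matrix (Fin (m * 2)) (Fin (m * 2)) R', IsMatUnits g ∧
      ∀ a b, T (g a b) = (sympμ m a * sympμ m b) • g (sympπ m b) (sympπ m a) := by
  classical
  obtain ⟨-, v, hv, hB⟩ := Groth.Agent.S15584.result Λ R' lam' hlam' hfix' (m * 2)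
    (fun a => by rw [hid, sub_self]; exact Submodule.zero_mem _) h2 h ⟨⟨h, h', h1, h1'⟩, rfl⟩
    (by change -(τ h) = h; rw [hh, neg_neg])
  obtain ⟨v', hvv'⟩ := hv.exists_right_inv
  have hv'v : v' * v = 1 := by
    obtain ⟨v'', hv''⟩ := hv.exists_left_inv
    have : v'' = v' := by
      calc v'' = v'' * (v * v') := by rw [hvv', mul_one]
        _ = v' := by rw [← mul_assoc, hv'', one_mul]
    rw [← this]
    exact hv''
  set w : Matrix (Fin (m * 2)) (Fin (m * 2)) R' := τ v with hw
  set w' : Matrix (Fin (m * 2)) (Fin (m * 2)) R' := τ v' with hw'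
  have hw'w : w' * w = 1 := by rw [hw, hw', ← LamInv.map_mul, hvv', LamInv.map_one]
  have hww' : w * w' = 1 := by rw [hw, hw', ← LamInv.map_mul, hv'v, LamInv.map_one]
  have hτw : τ w = v := by rw [hw, LamInv.invol]
  have hτw' : τ w' = v' := by rw [hw', LamInv.invol]
  set Bm : Matrix (Fin (m * 2)) (Fin (m * 2)) R' := w * h * v with hBm
  have hB' : ∀ i j : Fin (m * 2),
      (i.val / 2 ≠ j.val / 2 → Bm i j = 0) ∧
      (i.val / 2 = j.val / 2 → Even i.val → ¬ Even j.val → Bm i j - 1 ∈ Ring.jacobson R') :=
    fun i j => ⟨(hB i j).1, (hB i j).2.2.1⟩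
  have hskew : ∀ i j, Bm j i = - Bm i j := by
    intro i j
    have h3 : τ Bm = - Bm := by
      rw [hBm, LamInv.map_mul, LamInv.map_mul, hτw, hh, ← hw, neg_mul, mul_neg, mul_assoc]
    have := congrFun (congrFun h3 i) j
    rwa [LamInv.transpose_apply, hid, Matrix.neg_apply] at this
  have hdiag : ∀ a, Bm a a = 0 := by
    intro a
    have h3 := hskew a a
    have h4 : (2 : R') * Bm a a = 0 := by linear_combination h3
    exact (h2.mul_right_eq_zero).mp h4
  have hzero : ∀ i j, j ≠ sympπ m i → Bm i j = 0 := by
    intro i j hj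
    by_cases hij : i.val / 2 = j.val / 2
    · rcases eq_or_eq_sympπ_of_div m i j hij.symm with h3 | h3
      · rw [h3]
        exact hdiag i
      · exact absurd h3 hj
    · exact (hB' i j).1 hij
  set β : Fin (m * 2) → R' := fun a => Bm a (sympπ m a) with hβ
  have hβneg : ∀ a, β (sympπ m a) = - β a := by
    intro a
    change Bm (sympπ m a) (sympπ m (sympπ m a)) = - Bm a (sympπ m a)
    rw [sympπ_sympπ, hskew]
  have hβu : ∀ a, IsUnit (β a) := by
    have heven : ∀ a : Fin (m * 2), a.val % 2 = 0 → IsUnit (β a) := by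
      intro a ha
      have h3 := (hB' a (sympπ m a)).2 (sympπ_div m a).symm (Nat.even_iff.mpr ha)
        (by rw [Nat.even_iff, sympπ_mod]; exact fun h => h ha)
      have h4 : β a = 1 + (Bm a (sympπ m a) - 1) := by simp only [hβ]; ring
      rw [h4]
      exact Groth.Agent.Lib.Helper15.QuadEtale.isUnit_add_of_mem_jacobson isUnit_one h3
    intro a
    by_cases ha : a.val % 2 = 0
    · exact heven a ha
    · have h3 := heven (sympπ m a) ((sympπ_mod m a).mpr ha)
      rw [hβneg] at h3
      exact (IsUnit.neg_iff _).mp h3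
  have hβi : ∀ a, ∃ b : R', β a * b = 1 := fun a => (hβu a).exists_right_inv
  choose βi hβi using hβi
  have hβineg : ∀ a, βi (sympπ m a) = - βi a := by
    intro a
    have h3 := hβi (sympπ m a)
    rw [hβneg] at h3
    have h4 := hβi a
    calc βi (sympπ m a) = (β a * βi a) * βi (sympπ m a) := by rw [h4, one_mul]
      _ = - βi a * (- β a * βi (sympπ m a)) := by ring
      _ = - βi a := by rw [h3, mul_one]
  have hBm_apply : ∀ i j, Bm i j = if j = sympπ m i then β i else 0 := by
    intro i j
    by_cases hj : j = sympπ m i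
    · rw [if_pos hj, hj]
    · rw [if_neg hj, hzero i j hj]
  set N : Matrix (Fin (m * 2)) (Fin (m * 2)) R' := v' * h' * w' with hN
  have hNB : N * Bm = 1 := by
    rw [hN, hBm]
    calc v' * h' * w' * (w * h * v) = v' * (h' * ((w' * w) * h)) * v := by simp only [mul_assoc]
      _ = 1 := by rw [hw'w, one_mul, h1', mul_one, hv'v]
  have hN_apply : ∀ a j, N a j = if j = sympπ m a then βi (sympπ m a) else 0 := by
    intro a j
    have h3 := congrFun (congrFun hNB a) (sympπ m j)
    rw [Matrix.mul_apply, Finset.sum_eq_single j] at h3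
    · rw [hBm_apply, if_pos rfl] at h3
      by_cases hj : j = sympπ m a
      · rw [if_pos hj]
        have h4 : a = sympπ m j := by rw [hj, sympπ_sympπ]
        rw [← h4, Matrix.one_apply_eq] at h3
        rw [← hj]
        calc N a j = N a j * (β j * βi j) := by rw [hβi, mul_one]
          _ = (N a j * β j) * βi j := by ring
          _ = βi j := by rw [h3, one_mul]
      · rw [if_neg hj]
        have h4 : a ≠ sympπ m j := by
          intro h5
          apply hj
          rw [h5, sympπ_sympπ]
        rw [Matrix.one_apply_ne h4] at h3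
        calc N a j = N a j * (β j * βi j) := by rw [hβi, mul_one]
          _ = (N a j * β j) * βi j := by ring
          _ = 0 := by rw [h3, zero_mul]
    · intro i _ hi
      rw [hBm_apply, if_neg, mul_zero]
      intro h5
      apply hi
      have := congrArg (sympπ m) h5
      rw [sympπ_sympπ, sympπ_sympπ] at this
      exact this.symm
    · intro h5
      exact absurd (Finset.mem_univ j) h5
  have hhv : h * v = w' * Bm := by
    rw [hBm, ← mul_assoc, ← mul_assoc, hw'w, one_mul]
  have hv'h' : v' * h' = N * w := by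
    rw [hN, mul_assoc, mul_assoc, hw'w, mul_one]
  have hconj : ∀ a b, Bm * Matrix.single b a (1 : R') * N =
      (β (sympπ m b) * βi (sympπ m a)) • Matrix.single (sympπ m b) (sympπ m a) (1 : R') := by
    intro a b
    ext i j
    rw [Matrix.mul_apply, Finset.sum_eq_single a]
    · rw [Matrix.mul_apply, Finset.sum_eq_single b]
      · rw [Matrix.single_apply_same, mul_one, hBm_apply, hN_apply, Matrix.smul_apply,
          Matrix.single_apply]
        by_cases hi : i = sympπ m b
        · have hb : b = sympπ m i := by rw [hi, sympπ_sympπ]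
          rw [if_pos hb]
          by_cases hj : j = sympπ m a
          · rw [if_pos hj, if_pos ⟨hi.symm, hj.symm⟩, smul_eq_mul, mul_one, hi]
          · rw [if_neg hj, mul_zero, if_neg (fun h5 => hj h5.2.symm), smul_zero]
        · have hb : b ≠ sympπ m i := by
            intro h5
            apply hi
            rw [h5, sympπ_sympπ]
          rw [if_neg hb, zero_mul, if_neg (fun h5 => hi h5.1.symm), smul_zero]
      · intro k _ hk
        rw [Matrix.single_apply_of_ne, mul_zero]
        exact fun h5 => hk h5.1.symm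
      · intro h5
        exact absurd (Finset.mem_univ b) h5
    · intro k _ hk
      have : (Bm * Matrix.single b a (1 : R')) i k = 0 := by
        rw [Matrix.mul_apply]
        apply Finset.sum_eq_zero
        intro l _
        rw [Matrix.single_apply_of_ne, mul_zero]
        exact fun h5 => hk h5.2.symm
      rw [this, zero_mul]
    · intro h5
      exact absurd (Finset.mem_univ a) h5
  set G : Fin (m * 2) → Fin (m * 2) → Matrix (Fin (m * 2)) (Fin (m * 2)) R' :=
    fun a b => w' * Matrix.single a b 1 * w with hG
  have hGmul : ∀ a b c e, G a b * G c e = if b = c then G a e else 0 := by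
    intro a b c e
    calc w' * Matrix.single a b 1 * w * (w' * Matrix.single c e 1 * w)
        = w' * (Matrix.single a b 1 * ((w * w') * Matrix.single c e 1)) * w := by
          simp only [mul_assoc]
      _ = w' * (if b = c then Matrix.single a e 1 else 0) * w := by
          rw [hww', one_mul, (isMatUnits_single R' (m * 2)).mul]
      _ = _ := by split_ifs <;> simp [hG]
  have hGsum : ∑ a, G a a = 1 := by
    change ∑ a, w' * Matrix.single a a 1 * w = 1
    rw [← Finset.sum_mul, ← Finset.mul_sum, (isMatUnits_single R' (m * 2)).sum, mul_one, hw'w]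
  have hTG : ∀ a b, T (G a b) = (β (sympπ m b) * βi (sympπ m a)) • G (sympπ m b) (sympπ m a) := by
    intro a b
    change T (w' * Matrix.single a b 1 * w) = _ • (w' * Matrix.single (sympπ m b) (sympπ m a) 1 * w)
    rw [hT, LamInv.map_mul, LamInv.map_mul, hτw, hτw', transpose_single]
    calc h * (v * (Matrix.single b a 1 * v')) * h'
        = (h * v) * Matrix.single b a 1 * (v' * h') := by simp only [mul_assoc]
      _ = w' * (Bm * Matrix.single b a 1 * N) * w := by
          rw [hhv, hv'h']
          simp only [mul_assoc]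
      _ = _ := by rw [hconj, Matrix.mul_smul, Matrix.smul_mul]
  -- rescaling
  set c : Fin (m * 2) → R' := fun a => if a.val % 2 = 0 then β (sympπ m a) else 1 with hc
  set ci : Fin (m * 2) → R' := fun a => if a.val % 2 = 0 then βi (sympπ m a) else 1 with hci
  have hcci : ∀ a, c a * ci a = 1 := by
    intro a
    simp only [hc, hci]
    split_ifs
    · exact hβi _
    · exact one_mul 1
  have hK : ∀ a, c a * βi (sympπ m a) = (sympμ m a : R') * ci (sympπ m a) := by
    intro a
    simp only [hc, hci]
    rw [sympμ_eq]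
    by_cases ha : a.val % 2 = 0
    · rw [if_pos ha, if_pos ha, if_neg ((sympπ_mod m a).not.mpr (not_not.mpr ha)), hβi]
      simp
    · rw [if_neg ha, if_neg ha, if_pos ((sympπ_mod m a).mpr ha), sympπ_sympπ, hβineg]
      simp
  have hL : ∀ b, ci b * β (sympπ m b) = (sympμ m b : R') * c (sympπ m b) := by
    intro b
    simp only [hc, hci]
    rw [sympμ_eq]
    by_cases hb : b.val % 2 = 0
    · rw [if_pos hb, if_pos hb, if_neg ((sympπ_mod m b).not.mpr (not_not.mpr hb)), mul_comm, hβi]
      simp
    · rw [if_neg hb, if_neg hb, if_pos ((sympπ_mod m b).mpr hb), sympπ_sympπ, hβneg]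
      simp
  refine ⟨fun a b => (c a * ci b) • G a b, ⟨fun a b c' e => ?_, ?_⟩, fun a b => ?_⟩
  · change (c a * ci b) • G a b * ((c c' * ci e) • G c' e) = if b = c' then (c a * ci e) • G a e else 0
    rw [smul_mul_smul_comm, hGmul]
    by_cases hbc : b = c'
    · subst hbc
      rw [if_pos rfl, if_pos rfl]
      congr 1
      calc c a * ci b * (c b * ci e) = c a * (c b * ci b) * ci e := by ring
        _ = c a * ci e := by rw [hcci, mul_one]
    · rw [if_neg hbc, if_neg hbc, smul_zero]
  · change ∑ a, (c a * ci a) • G a a = 1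
    simp only [hcci, one_smul]
    exact hGsum
  · change T ((c a * ci b) • G a b) =
      (sympμ m a * sympμ m b) • ((c (sympπ m b) * ci (sympπ m a)) • G (sympπ m b) (sympπ m a))
    rw [LamInv.map_smul, hid, hTG, smul_smul, ← Int.cast_smul_eq_zsmul R', smul_smul]
    congr 1
    push_cast
    calc c a * ci b * (β (sympπ m b) * βi (sympπ m a))
        = (c a * βi (sympπ m a)) * (ci b * β (sympπ m b)) := by ring
      _ = _ := by rw [hK, hL]; ring

end Alt

end Groth.Agent.Lib.Helper19EtLoc
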