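import Mathlib
import Groth.Agent.Lib.Helper19EtLocJ
import Groth.Agent.Lib.Helper19EtLocL
import Groth.Agent.Lib.Helper19EtLocO

/-!
# Étale-local solvability (helper19), part P: involutions of the first kind over a strictly
henselian flat algebra with `2` invertible are orthogonal or symplectic
-/

set_option autoImplicit false
set_option linter.style.haveILetI false
set_option linter.unusedSectionVars false

open TensorProduct

namespace Groth.Agent.Lib.Helper19EtLoc

open Groth.Agent.Lib.Helper19AzSplit Groth.Agent.Lib.Helper19SemiSN AzInv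
  Groth.Agent.Lib.LeadAzumaya IsLocalRing

universe u v w

section Rescale

variable {S : Type u} {R : Type v} [CommRing S] [CommRing R] [Algebra S R]
  (lam : R ≃ₐ[S] R)
  {A : Type w} [Ring A] [Algebra S A] [Algebra R A] [IsScalarTower S R A]
  (t : LamInv R A lam) (n : ℕ) (X : Type u) [CommRing X] [Algebra S X]

/-- rescaling matrix units which the involution transposes up to squares -/
theorem exists_symMatUnits_of_diag (f₂ : Fin n → Fin n → X ⊗[S] A) (hf₂ : IsMatUnits f₂)
    (d d' y : Fin n → X) (hdd' : ∀ a, d a * d' a = 1) (hyy : ∀ a, y a * y a = d a)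
    (hsym₂ : ∀ a b, t.bc S lam X (f₂ a b) = algebraMap X (X ⊗[S] A) (d b * d' a) * f₂ b a) :
    ∃ f' : Fin n → Fin n → X ⊗[S] A, IsMatUnits f' ∧ ∀ a b, t.bc S lam X (f' a b) = f' b a := by
  classical
  let y' : Fin n → X := fun a => y a * d' a
  have hyy' : ∀ a, y a * y' a = 1 := by
    intro a
    change y a * (y a * d' a) = 1
    rw [← mul_assoc, hyy, hdd']
  let f' : Fin n → Fin n → X ⊗[S] A := fun a b => algebraMap X (X ⊗[S] A) (y a * y' b) * f₂ a b
  refine ⟨f', ⟨fun a b c e => ?_, ?_⟩, fun a b => ?_⟩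
  · change algebraMap X (X ⊗[S] A) (y a * y' b) * f₂ a b *
      (algebraMap X (X ⊗[S] A) (y c * y' e) * f₂ c e) =
      if b = c then algebraMap X (X ⊗[S] A) (y a * y' e) * f₂ a e else 0
    rw [mul_assoc, ← mul_assoc (f₂ a b), ← Algebra.commutes, mul_assoc, ← mul_assoc, ← map_mul,
      hf₂.mul]
    by_cases hbc : b = c
    · subst hbc
      rw [if_pos rfl, if_pos rfl]
      congr 2
      calc y a * y' b * (y b * y' e) = y a * (y b * y' b) * y' e := by ring
        _ = y a * y' e := by rw [hyy', mul_one]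
    · rw [if_neg hbc, if_neg hbc, mul_zero]
  · change ∑ a, algebraMap X (X ⊗[S] A) (y a * y' a) * f₂ a a = 1
    simp only [hyy', map_one, one_mul]
    exact hf₂.sum
  · change t.bc S lam X (algebraMap X (X ⊗[S] A) (y a * y' b) * f₂ a b) =
      algebraMap X (X ⊗[S] A) (y b * y' a) * f₂ b a
    rw [← Algebra.smul_def, map_smul, Algebra.smul_def, hsym₂, ← mul_assoc, ← map_mul]
    congr 2
    change y a * (y b * d' b) * (d b * d' a) = y b * (y a * d' a)
    calc y a * (y b * d' b) * (d b * d' a) = y a * y b * d' a * (d b * d' b) := by ring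
      _ = y b * (y a * d' a) := by rw [hdd']; ring

end Rescale

section Main

variable {S : Type u} {R : Type v} [CommRing S] [CommRing R] [Algebra S R]
  (lam : R ≃ₐ[S] R) (hlam : ∀ r, lam (lam r) = r) (hfix : RInv.IsFixedRing S R lam.toRingEquiv)
  {A : Type w} [Ring A] [Algebra S A] [Algebra R A] [IsScalarTower S R A] [IsAzumaya R A]
  (t : LamInv R A lam)
  (Λ : Type u) [CommRing Λ] [Algebra S Λ] [HenselianLocalRing Λ] [IsSepClosed (ResidueField Λ)]
  [Module.Flat S Λ]

attribute [local instance] Algebra.TensorProduct.rightAlgebra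
attribute [local instance 10] algRA

include hlam hfix in
/-- transport of the base-changed involution to the matrix algebra over `Λ ⊗[S] R` -/
theorem exists_transport (n : ℕ) (hn : 0 < n)
    (hrank : ∀ p : PrimeSpectrum R, Module.rankAtStalk (R := R) A p = n ^ 2) :
    ∃ (F : Λ ⊗[S] A ≃ₐ[Λ] Matrix (Fin n) (Fin n) (Λ ⊗[S] R))
      (T : LamInv (Λ ⊗[S] R) (Matrix (Fin n) (Fin n) (Λ ⊗[S] R))
        (Algebra.TensorProduct.congr (AlgEquiv.refl : Λ ≃ₐ[S] Λ) lam).toRingEquiv),
      ∀ m, F.symm (T m) = t.bc S lam Λ (F.symm m) := by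
  obtain ⟨e₀, he₀⟩ := exists_matUnits_strictHensel lam hlam hfix (A := A) n Λ hn hrank
  obtain ⟨F, hF⟩ := exists_algEquiv_of_matUnits (S := S) (R := R) (A := A) n Λ hn hrank e₀ he₀
  have hFs := smul_of_compat (S := S) (R := R) (A := A) n Λ F hF
  have hFsymm : ∀ (ρ : Λ ⊗[S] R) (m : Matrix (Fin n) (Fin n) (Λ ⊗[S] R)),
      F.symm (ρ • m) = Xi1 (A := A) Λ ρ * F.symm m := by
    intro ρ m
    apply F.injective
    rw [AlgEquiv.apply_symm_apply, hFs, AlgEquiv.apply_symm_apply]
  refine ⟨F,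
    { toFun := fun m => F (t.bc S lam Λ (F.symm m))
      map_add' := fun m m' => by rw [map_add, map_add, map_add]
      map_mul' := fun m m' => by rw [map_mul, bc_mul, map_mul]
      map_smul' := fun ρ m => by
        rw [hFsymm, bc_Xi1_mul, hFs]
        rfl
      invol' := fun m => by rw [AlgEquiv.symm_apply_apply, bc_bc, AlgEquiv.apply_symm_apply] }, ?_⟩
  intro m
  change F.symm (F (t.bc S lam Λ (F.symm m))) = _
  rw [AlgEquiv.symm_apply_apply]

include hlam hfix in
theorem exists_sym_or_symp (hlamid : ∀ r, lam r = r) (h2 : IsUnit (2 : S)) (n : ℕ) (hn : 0 < n)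
    (hrank : ∀ p : PrimeSpectrum R, Module.rankAtStalk (R := R) A p = n ^ 2) :
    (∃ f : Fin n → Fin n → Λ ⊗[S] A, IsMatUnits f ∧ ∀ a b, t.bc S lam Λ (f a b) = f b a) ∨
    (∃ (m : ℕ) (_ : n = m * 2) (g : Fin (m * 2) → Fin (m * 2) → Λ ⊗[S] A), IsMatUnits g ∧
      ∀ a b, t.bc S lam Λ (g a b) = (sympμ m a * sympμ m b) • g (sympπ m b) (sympπ m a)) := by
  have hfix' := Groth.Agent.S15586.result S R Λ lam hlam hfix (Or.inl inferInstance)
  have hid : ∀ z : Λ ⊗[S] R,
      (Algebra.TensorProduct.congr (AlgEquiv.refl : Λ ≃ₐ[S] Λ) lam).toRingEquiv z = z := by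
    intro z
    change Algebra.TensorProduct.congr (AlgEquiv.refl : Λ ≃ₐ[S] Λ) lam z = z
    induction z using TensorProduct.induction_on with
    | zero => simp
    | tmul s r => simp [hlamid]
    | add x y hx hy => rw [map_add, hx, hy]
  have hinv : Function.Involutive
      (Algebra.TensorProduct.congr (AlgEquiv.refl : Λ ≃ₐ[S] Λ) lam).toRingEquiv := by
    intro z
    rw [hid, hid]
  obtain ⟨F, T, hFT⟩ := exists_transport lam hlam hfix (A := A) t Λ n hn hrank
  obtain ⟨h, h', ε, h1, h1', hε1, hτh, hεε, hT⟩ :=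
    exists_eps_hermitian_conj _ hinv hfix' n T hn
  rw [hid] at hτh hεε
  have h2Λ : IsUnit (2 : Λ) := by
    have := h2.map (algebraMap S Λ)
    rwa [map_ofNat] at this
  have h2R' : IsUnit (2 : Λ ⊗[S] R) := by
    have := h2Λ.map (algebraMap Λ (Λ ⊗[S] R))
    rwa [map_ofNat] at this
  obtain ⟨ε₀, hε₀⟩ := (hfix'.2 ε).mp (hid ε)
  have hε₀sq : ε₀ * ε₀ = 1 := by
    apply hfix'.1
    rw [map_mul, hε₀, hεε, map_one]
  have hdich : ε₀ = 1 ∨ ε₀ = -1 := by
    have hsum : IsUnit ((ε₀ + 1) + (1 - ε₀)) := by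
      have : (ε₀ + 1) + (1 - ε₀) = 2 := by ring
      rw [this]
      exact h2Λ
    rcases IsLocalRing.isUnit_or_isUnit_of_isUnit_add hsum with hu | hu
    · left
      have : (ε₀ + 1) * (ε₀ - 1) = 0 := by linear_combination hε₀sq
      have := (hu.mul_right_eq_zero).mp this
      linear_combination this
    · right
      have : (1 - ε₀) * (ε₀ + 1) = 0 := by linear_combination -hε₀sq
      have := (hu.mul_right_eq_zero).mp this
      linear_combination this
  haveI : Nontrivial (Λ ⊗[S] R) := hfix'.1.nontrivial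
  rcases hdich with h0 | h0
  · -- orthogonal
    left
    have hε : ε = 1 := by rw [← hε₀, h0, map_one]
    rw [hε, one_smul] at hτh
    have hcase : (∃ a : Λ ⊗[S] R, (Algebra.TensorProduct.congr (AlgEquiv.refl : Λ ≃ₐ[S] Λ)
        lam).toRingEquiv a - a ∉ Ring.jacobson (Λ ⊗[S] R)) ∨
        (1 : Λ ⊗[S] R) + 1 ∉ Ring.jacobson (Λ ⊗[S] R) ∨ Odd n := by
      right
      left
      intro hmem
      apply Groth.Agent.Lib.Helper15.QuadEtale.not_isUnit_of_mem_jacobson hmem
      rw [one_add_one_eq_two]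
      exact h2R'
    obtain ⟨fM, δ, δ', hfM, hδ, hTf⟩ :=
      exists_matUnits_of_hermitian' _ hinv hfix' n T h h' hcase h1 h1' hτh hT
    have hy : ∀ a, ∃ y : Λ, y * y = δ a := by
      intro a
      have hD : IsUnit ((0 : Λ) ^ 2 - 4 * (-δ a)) := by
        have : (0 : Λ) ^ 2 - 4 * (-δ a) = 2 * 2 * δ a := by ring
        rw [this]
        exact (h2Λ.mul h2Λ).mul (IsUnit.of_mul_eq_one _ (hδ a))
      obtain ⟨ρ, hρ⟩ := exists_root_quadratic Λ 0 (-δ a) hD
      exact ⟨ρ, by linear_combination hρ⟩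
    choose y hy using hy
    refine exists_symMatUnits_of_diag lam t n Λ (fun a b => F.symm (fM a b))
      (hfM.map (F.symm : Matrix (Fin n) (Fin n) (Λ ⊗[S] R) →+* Λ ⊗[S] A)) δ δ' y hδ hy ?_
    intro a b
    change t.bc S lam Λ (F.symm (fM a b)) = algebraMap Λ (Λ ⊗[S] A) (δ b * δ' a) * F.symm (fM b a)
    rw [← hFT, hTf, algebraMap_smul, map_smul, Algebra.smul_def]
  · -- symplectic
    right
    have hε : ε = -1 := by rw [← hε₀, h0, map_neg, map_one]
    rw [hε, neg_one_smul] at hτh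
    obtain ⟨heven, -⟩ := Groth.Agent.S15584.result Λ (Λ ⊗[S] R) _ hinv hfix' n
      (fun a => by rw [hid, sub_self]; exact Submodule.zero_mem _) h2R' h ⟨⟨h, h', h1, h1'⟩, rfl⟩
      (by
        change -((LamInv.transpose _ (Fin n) hinv) h) = h
        rw [hτh, neg_neg])
    obtain ⟨m, hm⟩ := heven
    have hm' : n = m * 2 := by omega
    subst hm'
    obtain ⟨gM, hgM, hTg⟩ :=
      exists_matUnits_of_alternating _ hinv hfix' m T hid h2R' h h' h1 h1' hτh hT
    refine ⟨m, rfl, fun a b => F.symm (gM a b),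
      hgM.map (F.symm : Matrix (Fin (m * 2)) (Fin (m * 2)) (Λ ⊗[S] R) →+* Λ ⊗[S] A), ?_⟩
    intro a b
    change t.bc S lam Λ (F.symm (gM a b)) = _ • F.symm (gM (sympπ m b) (sympπ m a))
    rw [← hFT, hTg, map_zsmul]

end Main

end Groth.Agent.Lib.Helper19EtLoc
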