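import Mathlib

/-!
# Skew-hermitian `2 × 2` forms over a ring with involution (helper19)

After adjoining a square root `X` of `1 + ad/N(b)` and inverting `1 + X`, the skew-hermitian form
with Gram matrix `[[a, b], [-σ b, d]]` becomes congruent to the standard alternating form.
-/

set_option autoImplicit false
universe u v

open Matrix TensorProduct

namespace Groth.Agent.Lib.Helper19SkewCongr

/-- the explicit congruence over a ring with involution -/
theorem skew_congr {C : Type*} [CommRing C] (σ : C →+* C)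
    (a b bs d X γ y : C) (hσa : σ a = -a) (hσb : σ b = bs)
    (hσX : σ X = X) (hσγ : σ γ = γ) (hσy : σ y = -y)
    (hX : X ^ 2 * (b * bs) = b * bs + a * d) (hγ : b * bs * X * (1 + X) * γ = 1)
    (hy : 2 * y = d * γ ^ 2) :
    ∃ v : Matrix (Fin 2) (Fin 2) C, IsUnit v ∧
      (v.map σ).transpose * !![a, b; -bs, d] * v = !![0, 1; -1, 0] := by
  refine ⟨!![b * (1 + X), b * (1 + X) * y; -a, γ - a * y], ?_, ?_⟩
  · rw [Matrix.isUnit_iff_isUnit_det, Matrix.det_fin_two_of]
    have h1 : b * (1 + X) * (γ - a * y) - b * (1 + X) * y * -a = b * (1 + X) * γ := by ring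
    rw [h1]
    refine IsUnit.of_mul_eq_one (bs * X) ?_
    linear_combination hγ
  · ext i j
    fin_cases i <;> fin_cases j
    · simp [Matrix.mul_apply, Fin.sum_univ_two, hσa, hσb, hσX]
      linear_combination a * hX
    · simp [Matrix.mul_apply, Fin.sum_univ_two, hσa, hσb, hσX]
      linear_combination (a * y - γ) * hX + hγ
    · simp [Matrix.mul_apply, Fin.sum_univ_two, hσa, hσb, hσX, hσγ, hσy]
      linear_combination (γ - a * y) * hX - hγ
    · simp [Matrix.mul_apply, Fin.sum_univ_two, hσa, hσb, hσX, hσγ, hσy]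
      linear_combination (2 * y * γ - a * y ^ 2) * hX - 2 * y * hγ - hy

section Chart

variable {B : Type u} {A : Type v} [CommRing B] [CommRing A] [Algebra B A] (lam : A ≃ₐ[B] A)
  (B' : Type u) [CommRing B'] [Algebra B B']

theorem move_scalar {L : Type*} [CommRing L] [Algebra B L] (x : B) (l : L) (m : A) :
    (algebraMap B L x * l) ⊗ₜ[B] m = l ⊗ₜ[B] (algebraMap B A x * m) := by
  rw [← Algebra.smul_def, ← Algebra.smul_def, TensorProduct.smul_tmul]

/-- one chart of the square-root cover -/
theorem chart (fi ξ : B') (s nB adB halfB nBi si : B) (hn : nB * nBi = 1) (hs : s * si = 1)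
    (hhalf : 2 * halfB = 1) (hξ : ξ ^ 2 = algebraMap B B' s) (hfi : fi = 1 + ξ)
    (a b d : A) (ha : lam a = -a) (hd : lam d = -d) (hN : algebraMap B A nB = b * lam b)
    (had : algebraMap B A adB = a * d) (hsrel : s * nB = nB + adB) :
    ∃ v : Matrix (Fin 2) (Fin 2) (Localization.Away fi ⊗[B] A), IsUnit v ∧
      (v.map (Algebra.TensorProduct.congr
        (AlgEquiv.refl : Localization.Away fi ≃ₐ[Localization.Away fi] Localization.Away fi)
        lam)).transpose *
        !![(1 : Localization.Away fi) ⊗ₜ[B] a, 1 ⊗ₜ[B] b; -(1 ⊗ₜ[B] lam b), 1 ⊗ₜ[B] d] * v =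
        !![0, 1; -1, 0] := by
  subst hfi
  set L := Localization.Away (1 + ξ) with hL
  set ξL : L := algebraMap B' L ξ with hξL
  set pinv : L := IsLocalization.Away.invSelf (1 + ξ) with hpinv
  have hp : (1 + ξL) * pinv = 1 := by
    have := IsLocalization.Away.mul_invSelf (S := L) (1 + ξ)
    rw [map_add, map_one] at this
    exact this
  have hξL2 : ξL ^ 2 = algebraMap B L s := by
    rw [hξL, ← map_pow, hξ, ← IsScalarTower.algebraMap_apply]
  set g : L := algebraMap B L (nBi * si) * ξL * pinv with hg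
  let σ : (L ⊗[B] A) ≃ₐ[L] (L ⊗[B] A) :=
    Algebra.TensorProduct.congr (AlgEquiv.refl : L ≃ₐ[L] L) lam
  have hσ : ∀ (l : L) (m : A), σ (l ⊗ₜ[B] m) = l ⊗ₜ[B] lam m := by
    intro l m
    simp [σ]
  have key := skew_congr (σ : (L ⊗[B] A) →+* (L ⊗[B] A))
    ((1 : L) ⊗ₜ[B] a) (1 ⊗ₜ[B] b) (1 ⊗ₜ[B] lam b) (1 ⊗ₜ[B] d) (ξL ⊗ₜ[B] 1) (g ⊗ₜ[B] 1)
    ((algebraMap B L halfB * g ^ 2) ⊗ₜ[B] d)
    (by rw [RingHom.coe_coe, hσ, ha, TensorProduct.tmul_neg])
    (by rw [RingHom.coe_coe, hσ])
    (by rw [RingHom.coe_coe, hσ, map_one])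
    (by rw [RingHom.coe_coe, hσ, map_one])
    (by rw [RingHom.coe_coe, hσ, hd, TensorProduct.tmul_neg])
    (by
      rw [Algebra.TensorProduct.tmul_pow, one_pow]
      simp only [Algebra.TensorProduct.tmul_mul_tmul, one_mul, mul_one]
      rw [← TensorProduct.tmul_add, hξL2, ← hN, ← had, ← map_add, ← hsrel, map_mul]
      have := move_scalar (A := A) s (1 : L) (algebraMap B A nB)
      rw [mul_one] at this
      exact this)
    (by
      have h1 : (1 : L ⊗[B] A) + ξL ⊗ₜ[B] (1 : A) = (1 + ξL) ⊗ₜ[B] (1 : A) := by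
        rw [TensorProduct.add_tmul]; rfl
      rw [h1]
      simp only [Algebra.TensorProduct.tmul_mul_tmul, one_mul, mul_one]
      rw [← hN]
      have h2 : ξL * (1 + ξL) * g = algebraMap B L nBi := by
        rw [hg]
        calc ξL * (1 + ξL) * (algebraMap B L (nBi * si) * ξL * pinv)
            = ξL ^ 2 * ((1 + ξL) * pinv) * algebraMap B L (nBi * si) := by ring
          _ = algebraMap B L nBi := by
              rw [hξL2, hp, mul_one, ← map_mul]
              congr 1
              linear_combination nBi * hs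
      rw [h2]
      have := move_scalar (A := A) nBi (1 : L) (algebraMap B A nB)
      rw [mul_one] at this
      rw [this, ← map_mul, mul_comm nBi nB, hn, map_one]
      rfl)
    (by
      rw [two_mul, ← TensorProduct.add_tmul, Algebra.TensorProduct.tmul_pow, one_pow]
      simp only [Algebra.TensorProduct.tmul_mul_tmul, one_mul, mul_one]
      congr 1
      rw [← two_mul, ← mul_assoc]
      have : (2 : L) * algebraMap B L halfB = 1 := by
        rw [← map_ofNat (algebraMap B L) 2, ← map_mul, hhalf, map_one]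
      rw [this, one_mul])
  exact key

end Chart

end Groth.Agent.Lib.Helper19SkewCongr
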