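import Mathlib
import Groth.Agent.Lib.Helper19EtLocP
import Groth.Agent.Lib.Helper19SkewCongr

/-!
# Étale-local solvability (helper19), part T: skew-hermitian forms over a ramified ring with
involution whose fixed ring is strictly henselian — congruence to the standard alternating form
and the matrix units with the symplectic sign pattern
-/

set_option autoImplicit false
set_option linter.style.haveILetI false
set_option linter.unusedSectionVars false

namespace Groth.Agent.Lib.Helper19EtLoc

open Groth.Agent.Lib.Helper19AzSplit Groth.Agent.Lib.Helper19SemiSN AzInv IsLocalRing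

universe u v

section Block

variable {R' : Type v} [CommRing R'] (lam' : R' ≃+* R') (m : ℕ)

/-- the index equivalence `Fin 2 × Fin m ≃ Fin (m * 2)` (inner index first) -/
def blockEquiv : Fin 2 × Fin m ≃ Fin (m * 2) := (Equiv.prodComm _ _).trans finProdFinEquiv

theorem blockEquiv_apply (r : Fin 2) (k : Fin m) : blockEquiv m (r, k) = finProdFinEquiv (k, r) := rfl

theorem blockEquiv_symm_apply (i : Fin (m * 2)) :
    (blockEquiv m).symm i = ((finProdFinEquiv.symm i).2, (finProdFinEquiv.symm i).1) := rfl

theorem blockEquiv_val (r : Fin 2) (k : Fin m) : (blockEquiv m (r, k)).val = r.val + 2 * k.val := by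
  rw [blockEquiv_apply, finProdFinEquiv_apply_val]

/-- the standard `2 × 2` alternating matrix -/
def J₀ : Matrix (Fin 2) (Fin 2) R' := !![0, 1; -1, 0]

theorem J₀_apply (r r' : Fin 2) :
    (J₀ : Matrix (Fin 2) (Fin 2) R') r r' =
      if r' = 1 - r then (if r = 0 then (1 : R') else -1) else 0 := by
  fin_cases r <;> fin_cases r' <;> simp [J₀]

theorem blockJ_apply (i j : Fin (m * 2)) :
    ((Matrix.blockDiagonal (fun _ : Fin m => (J₀ : Matrix (Fin 2) (Fin 2) R'))).submatrix
      (blockEquiv m).symm (blockEquiv m).symm) i j =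
      if j = sympπ m i then ((sympμ m i : ℤ) : R') else 0 := by
  rw [Matrix.submatrix_apply, Matrix.blockDiagonal_apply, blockEquiv_symm_apply,
    blockEquiv_symm_apply, J₀_apply]
  simp only
  have hj : j = sympπ m i ↔ (finProdFinEquiv.symm i).1 = (finProdFinEquiv.symm j).1 ∧
      (finProdFinEquiv.symm j).2 = 1 - (finProdFinEquiv.symm i).2 := by
    unfold sympπ
    constructor
    · intro h
      rw [h, Equiv.symm_apply_apply]
      exact ⟨rfl, rfl⟩
    · rintro ⟨h1, h2⟩
      apply finProdFinEquiv.symm.injective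
      rw [Equiv.symm_apply_apply]
      exact Prod.ext h1.symm h2
  by_cases h1 : (finProdFinEquiv.symm i).1 = (finProdFinEquiv.symm j).1
  · rw [if_pos h1]
    by_cases h2 : (finProdFinEquiv.symm j).2 = 1 - (finProdFinEquiv.symm i).2
    · rw [if_pos h2, if_pos (hj.mpr ⟨h1, h2⟩)]
      unfold sympμ
      split_ifs <;> simp
    · rw [if_neg h2, if_neg (fun h => h2 (hj.mp h).2)]
  · rw [if_neg h1, if_neg (fun h => h1 (hj.mp h).1)]

/-- assembling congruences of the diagonal `2 × 2` blocks -/
theorem exists_blockdiag_congr (Bm : Matrix (Fin (m * 2)) (Fin (m * 2)) R')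
    (hoff : ∀ i j : Fin (m * 2), i.val / 2 ≠ j.val / 2 → Bm i j = 0)
    (hblock : ∀ k : Fin m, ∃ w w' : Matrix (Fin 2) (Fin 2) R', w * w' = 1 ∧ w' * w = 1 ∧
      (w.map lam').transpose *
        (Matrix.of fun r r' => Bm (blockEquiv m (r, k)) (blockEquiv m (r', k))) * w = J₀) :
    ∃ W W' : Matrix (Fin (m * 2)) (Fin (m * 2)) R', W * W' = 1 ∧ W' * W = 1 ∧
      ∀ i j, ((W.map lam').transpose * Bm * W) i j =
        if j = sympπ m i then ((sympμ m i : ℤ) : R') else 0 := by
  classical
  choose w w' hww' hw'w hcong using hblock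
  let e := blockEquiv m
  let B : Fin m → Matrix (Fin 2) (Fin 2) R' := fun k =>
    Matrix.of fun r r' => Bm (e (r, k)) (e (r', k))
  have hval : ∀ i : Fin (m * 2), i.val = (e.symm i).1.val + 2 * (e.symm i).2.val := by
    intro i
    have hi : e ((e.symm i).1, (e.symm i).2) = i := by simp
    have := congrArg Fin.val hi
    rw [blockEquiv_val] at this
    exact this.symm
  have hBm : Bm = (Matrix.blockDiagonal B).submatrix e.symm e.symm := by
    ext i j
    rw [Matrix.submatrix_apply, Matrix.blockDiagonal_apply]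
    by_cases h : (e.symm i).2 = (e.symm j).2
    · rw [if_pos h]
      change Bm i j = Bm (e ((e.symm i).1, (e.symm i).2)) (e ((e.symm j).1, (e.symm i).2))
      have hi : e ((e.symm i).1, (e.symm i).2) = i := by simp
      have hj : e ((e.symm j).1, (e.symm i).2) = j := by rw [h]; simp
      rw [hi, hj]
    · rw [if_neg h]
      apply hoff
      intro hij
      apply h
      have hi' := hval i
      have hj' := hval j
      have h1 := (e.symm i).1.isLt
      have h2 := (e.symm j).1.isLt
      apply Fin.ext
      omega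
  refine ⟨(Matrix.blockDiagonal w).submatrix e.symm e.symm,
    (Matrix.blockDiagonal w').submatrix e.symm e.symm, ?_, ?_, ?_⟩
  · rw [Matrix.submatrix_mul_equiv, ← Matrix.blockDiagonal_mul]
    have : (fun k => w k * w' k) = (1 : Fin m → Matrix (Fin 2) (Fin 2) R') := funext hww'
    rw [this, Matrix.blockDiagonal_one, Matrix.submatrix_one_equiv]
  · rw [Matrix.submatrix_mul_equiv, ← Matrix.blockDiagonal_mul]
    have : (fun k => w' k * w k) = (1 : Fin m → Matrix (Fin 2) (Fin 2) R') := funext hw'w
    rw [this, Matrix.blockDiagonal_one, Matrix.submatrix_one_equiv]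
  · intro i j
    have h1 : (((Matrix.blockDiagonal w).submatrix e.symm e.symm).map lam').transpose * Bm *
        (Matrix.blockDiagonal w).submatrix e.symm e.symm =
        (Matrix.blockDiagonal (fun _ : Fin m => (J₀ : Matrix (Fin 2) (Fin 2) R'))).submatrix
          e.symm e.symm := by
      rw [hBm, ← Matrix.submatrix_map, Matrix.transpose_submatrix,
        Matrix.blockDiagonal_map _ _ (map_zero lam'), Matrix.blockDiagonal_transpose,
        Matrix.submatrix_mul_equiv, Matrix.submatrix_mul_equiv, ← Matrix.blockDiagonal_mul,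
        ← Matrix.blockDiagonal_mul]
      congr 2
      funext k
      exact hcong k
    rw [h1]
    exact blockJ_apply m i j

end Block

section OneBlock

open Groth.Agent.Lib.Helper15.QuadEtale

variable {Λ : Type u} {R' : Type v} [CommRing Λ] [HenselianLocalRing Λ]
  [IsSepClosed (ResidueField Λ)] [CommRing R'] [Nontrivial R'] [Algebra Λ R']
  (lam' : R' ≃+* R') (hlam' : Function.Involutive lam') (hfix' : RInv.IsFixedRing Λ R' lam')

include hlam' hfix' in
/-- a `2 × 2` skew-hermitian block which is congruent to the standard alternating matrix modulo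
the Jacobson radical is congruent to it -/
theorem exists_block_congr (h2 : IsUnit (2 : Λ)) (a b d : R') (ha : lam' a = -a)
    (hd : lam' d = -d) (haJ : a ∈ Ring.jacobson R') (hb : b - 1 ∈ Ring.jacobson R') :
    ∃ w w' : Matrix (Fin 2) (Fin 2) R', w * w' = 1 ∧ w' * w = 1 ∧
      (w.map lam').transpose * !![a, b; -lam' b, d] * w = J₀ := by
  have hbu : IsUnit b := by
    have : b = 1 + (b - 1) := by ring
    rw [this]
    exact isUnit_add_of_mem_jacobson isUnit_one hb
  obtain ⟨nb, hnb⟩ := exists_norm lam' hlam' hfix' b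
  have hnbu : IsUnit nb := by
    apply isUnit_of_isUnit_algebraMap lam' hfix'
    rw [hnb]
    exact hbu.mul (hbu.map lam')
  obtain ⟨nbi, hnbi⟩ := hnbu.exists_right_inv
  have hfixad : lam' (a * d) = a * d := by rw [map_mul, ha, hd]; ring
  obtain ⟨c, hc⟩ := (hfix'.2 (a * d)).mp hfixad
  have hcm : c ∈ maximalIdeal Λ := by
    apply mem_maximalIdeal_of_algebraMap_mem_jacobson (R := R')
    rw [hc]
    exact Ideal.mul_mem_right _ _ haJ
  set s : Λ := 1 + c * nbi with hs
  have hsu : IsUnit s := by
    have hsum : IsUnit (s + (-(c * nbi))) := by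
      have : s + (-(c * nbi)) = 1 := by rw [hs]; ring
      rw [this]
      exact isUnit_one
    rcases IsLocalRing.isUnit_or_isUnit_of_isUnit_add hsum with h | h
    · exact h
    · exfalso
      have hmem : -(c * nbi) ∈ maximalIdeal Λ :=
        (Ideal.neg_mem_iff _).mpr (Ideal.mul_mem_right _ _ hcm)
      exact (IsLocalRing.mem_maximalIdeal _).mp hmem h
  have hD : IsUnit ((0 : Λ) ^ 2 - 4 * (-s)) := by
    have : (0 : Λ) ^ 2 - 4 * (-s) = 2 * 2 * s := by ring
    rw [this]
    exact (h2.mul h2).mul hsu
  obtain ⟨ρ, hρ⟩ := exists_root_quadratic Λ 0 (-s) hD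
  have hρs : ρ * ρ = s := by linear_combination hρ
  have hX : ∃ X : Λ, X * X = s ∧ IsUnit (1 + X) := by
    have hsum : IsUnit ((1 + ρ) + (1 - ρ)) := by
      have : (1 + ρ) + (1 - ρ) = 2 := by ring
      rw [this]
      exact h2
    rcases IsLocalRing.isUnit_or_isUnit_of_isUnit_add hsum with h | h
    · exact ⟨ρ, hρs, h⟩
    · refine ⟨-ρ, by rw [neg_mul_neg, hρs], ?_⟩
      have : 1 + -ρ = 1 - ρ := by ring
      rw [this]
      exact h
  obtain ⟨X, hXs, hXu⟩ := hX
  have hXunit : IsUnit X := by
    have : IsUnit (X * X) := by rw [hXs]; exact hsu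
    exact isUnit_of_mul_isUnit_left this
  obtain ⟨γ, hγ⟩ := ((hnbu.mul hXunit).mul hXu).exists_right_inv
  obtain ⟨half, hhalf⟩ := h2.exists_right_inv
  have hlamalg : ∀ x : Λ, lam' (algebraMap Λ R' x) = algebraMap Λ R' x :=
    fun x => lam_algebraMap lam' hfix' x
  obtain ⟨v, hv, hvcong⟩ := Groth.Agent.Lib.Helper19SkewCongr.skew_congr (lam' : R' →+* R')
    a b (lam' b) d (algebraMap Λ R' X) (algebraMap Λ R' γ) (algebraMap Λ R' (half * γ ^ 2) * d)
    ha rfl (hlamalg X) (hlamalg γ)
    (by
      change lam' (algebraMap Λ R' (half * γ ^ 2) * d) = _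
      rw [map_mul, hlamalg, hd]
      ring)
    (by
      rw [← hnb, ← hc, ← map_pow, ← map_mul, ← map_add]
      congr 1
      have : X ^ 2 = s := by rw [pow_two, hXs]
      rw [this, hs]
      linear_combination c * hnbi)
    (by
      have h := congrArg (algebraMap Λ R') hγ
      simp only [map_mul, map_add, map_one] at h
      rw [← hnb]
      exact h)
    (by
      have : (2 : R') * algebraMap Λ R' half = 1 := by
        rw [← map_ofNat (algebraMap Λ R') 2, ← map_mul, hhalf, map_one]
      rw [map_mul, map_pow]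
      linear_combination (algebraMap Λ R' γ ^ 2 * d) * this)
  obtain ⟨v', hvv'⟩ := hv.exists_right_inv
  have hv'v : v' * v = 1 := by
    obtain ⟨v'', hv''⟩ := hv.exists_left_inv
    have : v'' = v' := by
      calc v'' = v'' * (v * v') := by rw [hvv', mul_one]
        _ = v' := by rw [← mul_assoc, hv'', one_mul]
    rw [← this]
    exact hv''
  exact ⟨v, v', hvv', hv'v, hvcong⟩

end OneBlock

section Skew

open Groth.Agent.Lib.Helper15.QuadEtale

variable {Λ : Type u} {R' : Type v} [CommRing Λ] [IsLocalRing Λ] [CommRing R'] [Algebra Λ R']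
  (lam' : R' ≃+* R') (hlam' : Function.Involutive lam') (hfix' : RInv.IsFixedRing Λ R' lam')
  (m : ℕ) (T : LamInv R' (Matrix (Fin (m * 2)) (Fin (m * 2)) R') lam')

local notation "τ" => LamInv.transpose lam' (Fin (m * 2)) hlam'

/-- matrix units with the symplectic sign pattern from a congruence to the standard alternating
matrix -/
theorem exists_matUnits_of_congr_J
    (h h' : Matrix (Fin (m * 2)) (Fin (m * 2)) R') (h1 : h * h' = 1) (h1' : h' * h = 1)
    (hT : ∀ x, T x = h * τ x * h')
    (v v' : Matrix (Fin (m * 2)) (Fin (m * 2)) R') (hvv' : v * v' = 1) (hv'v : v' * v = 1)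
    (hJ : ∀ i j, (τ v * h * v) i j = if j = sympπ m i then ((sympμ m i : ℤ) : R') else 0) :
    ∃ g : Fin (m * 2) → Fin (m * 2) → Matrix (Fin (m * 2)) (Fin (m * 2)) R', IsMatUnits g ∧
      ∀ a b, T (g a b) = (sympμ m a * sympμ m b) • g (sympπ m b) (sympπ m a) := by
  classical
  set w : Matrix (Fin (m * 2)) (Fin (m * 2)) R' := τ v with hw
  set w' : Matrix (Fin (m * 2)) (Fin (m * 2)) R' := τ v' with hw'
  have hw'w : w' * w = 1 := by rw [hw, hw', ← LamInv.map_mul, hvv', LamInv.map_one]
  have hww' : w * w' = 1 := by rw [hw, hw', ← LamInv.map_mul, hv'v, LamInv.map_one]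
  have hτw : τ w = v := by rw [hw, LamInv.invol]
  have hτw' : τ w' = v' := by rw [hw', LamInv.invol]
  set Bm : Matrix (Fin (m * 2)) (Fin (m * 2)) R' := w * h * v with hBm
  set β : Fin (m * 2) → R' := fun a => ((sympμ m a : ℤ) : R') with hβ
  have hβi : ∀ a, β a * β a = 1 := by
    intro a
    change ((sympμ m a : ℤ) : R') * ((sympμ m a : ℤ) : R') = 1
    rw [← Int.cast_mul, sympμ_mul_self, Int.cast_one]
  have hβneg : ∀ a, β (sympπ m a) = - β a := by
    intro a
    change ((sympμ m (sympπ m a) : ℤ) : R') = - ((sympμ m a : ℤ) : R')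
    rw [sympμ_sympπ, Int.cast_neg]
  have hBm_apply : ∀ i j, Bm i j = if j = sympπ m i then β i else 0 := hJ
  set N : Matrix (Fin (m * 2)) (Fin (m * 2)) R' := v' * h' * w' with hN
  have hNB : N * Bm = 1 := by
    rw [hN, hBm]
    calc v' * h' * w' * (w * h * v) = v' * (h' * ((w' * w) * h)) * v := by simp only [mul_assoc]
      _ = 1 := by rw [hw'w, one_mul, h1', mul_one, hv'v]
  have hN_apply : ∀ a j, N a j = if j = sympπ m a then β (sympπ m a) else 0 := by
    intro a j
    have h3 := congrFun (congrFun hNB a) (sympπ m j)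
    rw [Matrix.mul_apply, Finset.sum_eq_single j] at h3
    · rw [hBm_apply, if_pos rfl] at h3
      by_cases hj : j = sympπ m a
      · rw [if_pos hj]
        have h4 : a = sympπ m j := by rw [hj, sympπ_sympπ]
        rw [← h4, Matrix.one_apply_eq] at h3
        rw [← hj]
        calc N a j = N a j * (β j * β j) := by rw [hβi, mul_one]
          _ = (N a j * β j) * β j := by ring
          _ = β j := by rw [h3, one_mul]
      · rw [if_neg hj]
        have h4 : a ≠ sympπ m j := by
          intro h5
          apply hj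
          rw [h5, sympπ_sympπ]
        rw [Matrix.one_apply_ne h4] at h3
        calc N a j = N a j * (β j * β j) := by rw [hβi, mul_one]
          _ = (N a j * β j) * β j := by ring
          _ = 0 := by rw [h3, zero_mul]
    · intro i _ hi
      rw [hBm_apply, if_neg, mul_zero]
      intro h5
      apply hi
      have := congrArg (sympπ m) h5
      rw [sympπ_sympπ, sympπ_sympπ] at this
      exact this.symm
    · intro h5
      exact absurd (Finset.mem_univ j) h5
  have hhv : h * v = w' * Bm := by
    rw [hBm, ← mul_assoc, ← mul_assoc, hw'w, one_mul]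
  have hv'h' : v' * h' = N * w := by
    rw [hN, mul_assoc, mul_assoc, hw'w, mul_one]
  have hconj : ∀ a b, Bm * Matrix.single b a (1 : R') * N =
      (β (sympπ m b) * β (sympπ m a)) • Matrix.single (sympπ m b) (sympπ m a) (1 : R') := by
    intro a b
    ext i j
    rw [Matrix.mul_apply, Finset.sum_eq_single a]
    · rw [Matrix.mul_apply, Finset.sum_eq_single b]
      · rw [Matrix.single_apply_same, mul_one, hBm_apply, hN_apply, Matrix.smul_apply,
          Matrix.single_apply]
        by_cases hi : i = sympπ m b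
        · have hb : b = sympπ m i := by rw [hi, sympπ_sympπ]
          rw [if_pos hb]
          by_cases hj : j = sympπ m a
          · rw [if_pos hj, if_pos ⟨hi.symm, hj.symm⟩, smul_eq_mul, mul_one, hi]
          · rw [if_neg hj, mul_zero, if_neg (fun h5 => hj h5.2.symm), smul_zero]
        · have hb : b ≠ sympπ m i := by
            intro h5
            apply hi
            rw [h5, sympπ_sympπ]
          rw [if_neg hb, zero_mul, if_neg (fun h5 => hi h5.1.symm), smul_zero]
      · intro k _ hk
        rw [Matrix.single_apply_of_ne, mul_zero]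
        exact fun h5 => hk h5.1.symm
      · intro h5
        exact absurd (Finset.mem_univ b) h5
    · intro k _ hk
      have : (Bm * Matrix.single b a (1 : R')) i k = 0 := by
        rw [Matrix.mul_apply]
        apply Finset.sum_eq_zero
        intro l _
        rw [Matrix.single_apply_of_ne, mul_zero]
        exact fun h5 => hk h5.2.symm
      rw [this, zero_mul]
    · intro h5
      exact absurd (Finset.mem_univ a) h5
  set G : Fin (m * 2) → Fin (m * 2) → Matrix (Fin (m * 2)) (Fin (m * 2)) R' :=
    fun a b => w' * Matrix.single a b 1 * w with hG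
  have hGmul : ∀ a b c e, G a b * G c e = if b = c then G a e else 0 := by
    intro a b c e
    calc w' * Matrix.single a b 1 * w * (w' * Matrix.single c e 1 * w)
        = w' * (Matrix.single a b 1 * ((w * w') * Matrix.single c e 1)) * w := by
          simp only [mul_assoc]
      _ = w' * (if b = c then Matrix.single a e 1 else 0) * w := by
          rw [hww', one_mul, (isMatUnits_single R' (m * 2)).mul]
      _ = _ := by split_ifs <;> simp [hG]
  have hGsum : ∑ a, G a a = 1 := by
    change ∑ a, w' * Matrix.single a a 1 * w = 1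
    rw [← Finset.sum_mul, ← Finset.mul_sum, (isMatUnits_single R' (m * 2)).sum, mul_one, hw'w]
  have hTG : ∀ a b, T (G a b) = (β (sympπ m b) * β (sympπ m a)) • G (sympπ m b) (sympπ m a) := by
    intro a b
    change T (w' * Matrix.single a b 1 * w) = _ • (w' * Matrix.single (sympπ m b) (sympπ m a) 1 * w)
    rw [hT, LamInv.map_mul, LamInv.map_mul, hτw, hτw', transpose_single]
    calc h * (v * (Matrix.single b a 1 * v')) * h'
        = (h * v) * Matrix.single b a 1 * (v' * h') := by simp only [mul_assoc]
      _ = w' * (Bm * Matrix.single b a 1 * N) * w := by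
          rw [hhv, hv'h']
          simp only [mul_assoc]
      _ = _ := by rw [hconj, Matrix.mul_smul, Matrix.smul_mul]
  refine ⟨G, ⟨hGmul, hGsum⟩, fun a b => ?_⟩
  rw [hTG, hβneg, hβneg, ← Int.cast_smul_eq_zsmul R']
  congr 1
  change -((sympμ m b : ℤ) : R') * -((sympμ m a : ℤ) : R') = _
  push_cast
  ring

end Skew

section SkewMain

open Groth.Agent.Lib.Helper15.QuadEtale

variable {Λ : Type u} {R' : Type v} [CommRing Λ] [HenselianLocalRing Λ]
  [IsSepClosed (ResidueField Λ)] [CommRing R'] [Nontrivial R'] [Algebra Λ R']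
  (lam' : R' ≃+* R') (hlam' : Function.Involutive lam') (hfix' : RInv.IsFixedRing Λ R' lam')
  (m : ℕ) (T : LamInv R' (Matrix (Fin (m * 2)) (Fin (m * 2)) R') lam')

local notation "τ" => LamInv.transpose lam' (Fin (m * 2)) hlam'

include hfix' in
/-- matrix units adapted to an involution adjoint to a skew-hermitian matrix, when the involution
of the base is the identity modulo the Jacobson radical -/
theorem exists_matUnits_of_skew (h2 : IsUnit (2 : Λ))
    (hJ : ∀ a, lam' a - a ∈ Ring.jacobson R')
    (h h' : Matrix (Fin (m * 2)) (Fin (m * 2)) R') (h1 : h * h' = 1) (h1' : h' * h = 1)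
    (hh : τ h = -h) (hT : ∀ x, T x = h * τ x * h') :
    ∃ g : Fin (m * 2) → Fin (m * 2) → Matrix (Fin (m * 2)) (Fin (m * 2)) R', IsMatUnits g ∧
      ∀ a b, T (g a b) = (sympμ m a * sympμ m b) • g (sympπ m b) (sympπ m a) := by
  classical
  have h2R' : IsUnit (2 : R') := by
    have := h2.map (algebraMap Λ R')
    rwa [map_ofNat] at this
  obtain ⟨-, v, hv, hB⟩ := Groth.Agent.S15584.result Λ R' lam' hlam' hfix' (m * 2) hJ h2R' h
    ⟨⟨h, h', h1, h1'⟩, rfl⟩ (by change -(τ h) = h; rw [hh, neg_neg])
  obtain ⟨v', hvv'⟩ := hv.exists_right_inv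
  have hv'v : v' * v = 1 := by
    obtain ⟨v'', hv''⟩ := hv.exists_left_inv
    have : v'' = v' := by
      calc v'' = v'' * (v * v') := by rw [hvv', mul_one]
        _ = v' := by rw [← mul_assoc, hv'', one_mul]
    rw [← this]
    exact hv''
  set Bm : Matrix (Fin (m * 2)) (Fin (m * 2)) R' := τ v * h * v with hBm
  have hskew : ∀ i j, lam' (Bm j i) = - Bm i j := by
    intro i j
    have h3 : τ Bm = - Bm := by
      rw [hBm, LamInv.map_mul, LamInv.map_mul, LamInv.invol, hh, neg_mul, mul_neg, mul_assoc]
    have := congrFun (congrFun h3 i) j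
    rwa [LamInv.transpose_apply, Matrix.neg_apply] at this
  have hblock : ∀ k : Fin m, ∃ w w' : Matrix (Fin 2) (Fin 2) R', w * w' = 1 ∧ w' * w = 1 ∧
      (w.map lam').transpose *
        (Matrix.of fun r r' => Bm (blockEquiv m (r, k)) (blockEquiv m (r', k))) * w = J₀ := by
    intro k
    set i₀ := blockEquiv m (0, k) with hi₀
    set i₁ := blockEquiv m (1, k) with hi₁
    have hv₀ : i₀.val = 2 * k.val := by rw [hi₀, blockEquiv_val]; simp
    have hv₁ : i₁.val = 2 * k.val + 1 := by rw [hi₁, blockEquiv_val]; simp; ring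
    have ha : lam' (Bm i₀ i₀) = - Bm i₀ i₀ := hskew i₀ i₀
    have hd : lam' (Bm i₁ i₁) = - Bm i₁ i₁ := hskew i₁ i₁
    have h10 : Bm i₁ i₀ = - lam' (Bm i₀ i₁) := by
      have := hskew i₁ i₀
      rw [this, neg_neg]
    have haJ : Bm i₀ i₀ ∈ Ring.jacobson R' := (hB i₀ i₀).2.1 rfl Iff.rfl
    have hb : Bm i₀ i₁ - 1 ∈ Ring.jacobson R' := by
      refine (hB i₀ i₁).2.2.1 ?_ ?_ ?_
      · rw [hv₀, hv₁]; omega
      · rw [hv₀]; exact even_two_mul _
      · rw [hv₁, Nat.not_even_iff_odd]; exact odd_two_mul_add_one _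
    obtain ⟨w, w', hww', hw'w, hc⟩ := exists_block_congr lam' hlam' hfix' h2 (Bm i₀ i₀)
      (Bm i₀ i₁) (Bm i₁ i₁) ha hd haJ hb
    refine ⟨w, w', hww', hw'w, ?_⟩
    rw [← hc]
    congr 2
    ext r r'
    fin_cases r <;> fin_cases r'
    · rfl
    · rfl
    · exact h10
    · rfl
  obtain ⟨W, W', hWW', hW'W, hWJ⟩ := exists_blockdiag_congr lam' m Bm
    (fun i j hij => (hB i j).1 hij) hblock
  refine exists_matUnits_of_congr_J lam' hlam' m T h h' h1 h1' hT (v * W) (W' * v') ?_ ?_ ?_
  · calc v * W * (W' * v') = v * ((W * W') * v') := by simp only [mul_assoc]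
      _ = 1 := by rw [hWW', one_mul, hvv']
  · calc W' * v' * (v * W) = W' * ((v' * v) * W) := by simp only [mul_assoc]
      _ = 1 := by rw [hv'v, one_mul, hW'W]
  · intro i j
    rw [← hWJ i j]
    have : τ (v * W) * h * (v * W) = (W.map lam').transpose * Bm * W := by
      rw [LamInv.map_mul, hBm]
      have hτW : τ W = (W.map lam').transpose := by
        ext i j
        rw [LamInv.transpose_apply]
        rfl
      rw [hτW]
      simp only [mul_assoc]
    rw [this]

end SkewMain

end Groth.Agent.Lib.Helper19EtLoc
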