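import Mathlib
import Groth.Agent.Lib.Helper19EtLocT

/-!
# Étale-local solvability (helper19), part U: over a strictly henselian flat algebra with `2`
invertible, every `lam`-involution of an Azumaya algebra is orthogonal, or the base change of
`(R, lam)` is ramified and the involution is symplectic
-/

set_option autoImplicit false
set_option linter.style.haveILetI false
set_option linter.unusedSectionVars false

open TensorProduct

namespace Groth.Agent.Lib.Helper19EtLoc

open Groth.Agent.Lib.Helper19AzSplit Groth.Agent.Lib.Helper19SemiSN AzInv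
  Groth.Agent.Lib.LeadAzumaya IsLocalRing

universe u v w

section Abstract

open Groth.Agent.Lib.Helper15.QuadEtale

variable {Λ : Type u} {R' : Type v} [CommRing Λ] [IsLocalRing Λ] [CommRing R'] [Algebra Λ R']
  (lam' : R' ≃+* R') (hlam' : Function.Involutive lam') (hfix' : RInv.IsFixedRing Λ R' lam')

include hlam' hfix' in
/-- if no anti-invariant element is a unit, the anti-invariant elements lie in the radical -/
theorem anti_mem_jacobson (hno : ∀ w : R', lam' w = -w → ¬ IsUnit w) (w : R')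
    (hw : lam' w = -w) : w ∈ Ring.jacobson R' := by
  rw [← Ideal.jacobson_bot]
  refine Ideal.mem_sInf.mpr ?_
  rintro M ⟨-, hM⟩
  by_contra hwM
  haveI := hM
  exact hno w hw (isUnit_of_anti_of_notMem lam' hlam' hfix' w hw M hwM)

include hlam' hfix' in
theorem sub_mem_jacobson (hno : ∀ w : R', lam' w = -w → ¬ IsUnit w) (x : R') :
    lam' x - x ∈ Ring.jacobson R' := by
  apply anti_mem_jacobson lam' hlam' hfix' hno
  rw [map_sub, hlam' x]
  ring

include hlam' hfix' in
/-- an element of norm one is congruent to `1` or to `-1` -/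
theorem isUnit_one_add_or_sub (h2 : IsUnit (2 : Λ)) (hJ : ∀ x : R', lam' x - x ∈ Ring.jacobson R')
    (ε : R') : IsUnit (1 + ε) ∨ IsUnit (1 - ε) := by
  obtain ⟨s, hs⟩ := exists_trace lam' hlam' hfix' ε
  have h2R' : IsUnit (2 : R') := by
    have := h2.map (algebraMap Λ R')
    rwa [map_ofNat] at this
  have hsum : IsUnit ((2 + s) + (2 - s)) := by
    have : (2 + s) + (2 - s) = 2 * 2 := by ring
    rw [this]
    exact h2.mul h2
  rcases IsLocalRing.isUnit_or_isUnit_of_isUnit_add hsum with hu | hu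
  · left
    have h3 : IsUnit (algebraMap Λ R' (2 + s) + -(lam' ε - ε)) :=
      isUnit_add_of_mem_jacobson (hu.map (algebraMap Λ R'))
        ((Ideal.neg_mem_iff _).mpr (hJ ε))
    have h4 : algebraMap Λ R' (2 + s) + -(lam' ε - ε) = 2 * (1 + ε) := by
      rw [map_add, hs, map_ofNat]
      ring
    rw [h4] at h3
    exact isUnit_of_mul_isUnit_right h3
  · right
    have h3 : IsUnit (algebraMap Λ R' (2 - s) + (lam' ε - ε)) :=
      isUnit_add_of_mem_jacobson (hu.map (algebraMap Λ R')) (hJ ε)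
    have h4 : algebraMap Λ R' (2 - s) + (lam' ε - ε) = 2 * (1 - ε) := by
      rw [map_sub, hs, map_ofNat]
      ring
    rw [h4] at h3
    exact isUnit_of_mul_isUnit_right h3

end Abstract

section Idem

open Groth.Agent.Lib.Helper15.QuadEtale

/-- an element moved by a unit gives an idempotent which the involution sends to its complement -/
theorem exists_idem_swap_of_unit (Λ : Type u) [CommRing Λ] [HenselianLocalRing Λ]
    [IsSepClosed (ResidueField Λ)] (R' : Type v) [CommRing R'] [Algebra Λ R']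
    (lam' : R' ≃+* R') (hlam' : Function.Involutive lam') (hfix' : RInv.IsFixedRing Λ R' lam')
    (r : R') (hr : IsUnit (r - lam' r)) : ∃ ε : R', ε * ε = ε ∧ lam' ε = 1 - ε := by
  obtain ⟨t₀, ht₀⟩ := exists_trace lam' hlam' hfix' r
  obtain ⟨n₀, hn₀⟩ := exists_norm lam' hlam' hfix' r
  have hD : IsUnit (t₀ ^ 2 - 4 * n₀) := by
    apply isUnit_of_isUnit_algebraMap lam' hfix'
    have : algebraMap Λ R' (t₀ ^ 2 - 4 * n₀) = (r - lam' r) ^ 2 := by
      rw [map_sub, map_mul, map_pow, ht₀, hn₀, map_ofNat]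
      ring
    rw [this]
    exact hr.pow 2
  obtain ⟨ρ, hρ⟩ := exists_root_quadratic Λ t₀ n₀ hD
  obtain ⟨w, hw⟩ := hr.exists_right_inv
  have hlρ : lam' (algebraMap Λ R' ρ) = algebraMap Λ R' ρ := lam_algebraMap lam' hfix' ρ
  have h2 : (algebraMap Λ R' ρ - r) * (algebraMap Λ R' ρ - lam' r) = 0 := by
    have := congrArg (algebraMap Λ R') hρ
    rw [map_add, map_sub, map_pow, map_mul, ht₀, hn₀, map_zero] at this
    linear_combination this
  have hlw : lam' w = -w := by
    have h3 : (lam' r - r) * lam' w = 1 := by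
      have := congrArg lam' hw
      rw [map_mul, map_sub, hlam' r, map_one] at this
      exact this
    linear_combination (-(lam' w)) * hw + (-w) * h3
  refine ⟨(algebraMap Λ R' ρ - lam' r) * w, ?_, ?_⟩
  · linear_combination (w ^ 2) * h2 + ((algebraMap Λ R' ρ - lam' r) * w) * hw
  · rw [map_mul, map_sub, hlρ, hlam' r, hlw]
    linear_combination hw

end Idem

section Main

variable {S : Type u} {R : Type v} [CommRing S] [CommRing R] [Algebra S R]
  (lam : R ≃ₐ[S] R) (hlam : ∀ r, lam (lam r) = r) (hfix : RInv.IsFixedRing S R lam.toRingEquiv)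
  {A : Type w} [Ring A] [Algebra S A] [Algebra R A] [IsScalarTower S R A] [IsAzumaya R A]
  (t : LamInv R A lam)
  (Λ : Type u) [CommRing Λ] [Algebra S Λ] [HenselianLocalRing Λ] [IsSepClosed (ResidueField Λ)]
  [Module.Flat S Λ]

attribute [local instance] Algebra.TensorProduct.rightAlgebra
attribute [local instance 10] algRA

include hlam hfix in
/-- symmetric matrix units from an idempotent swapped by the involution -/
theorem exists_symMatUnits_of_idem (n : ℕ) (hn : 0 < n)
    (hrank : ∀ p : PrimeSpectrum R, Module.rankAtStalk (R := R) A p = n ^ 2)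
    (ε : Λ ⊗[S] R) (hε : ε * ε = ε)
    (hlε : (Algebra.TensorProduct.congr (AlgEquiv.refl : Λ ≃ₐ[S] Λ) lam).toRingEquiv ε = 1 - ε) :
    ∃ e : Fin n → Fin n → (Λ ⊗[S] A), IsMatUnits e ∧ ∀ a b, t.bc S lam Λ (e a b) = e b a := by
  obtain ⟨e₀, he₀⟩ := exists_matUnits_strictHensel lam hlam hfix (A := A) n Λ hn hrank
  let εA : Λ ⊗[S] A := Xi1 (A := A) Λ ε
  have hεA : εA * εA = εA := by
    change Xi1 (A := A) Λ ε * Xi1 (A := A) Λ ε = Xi1 (A := A) Λ ε
    rw [← map_mul, hε]
  have hτε : t.bc S lam Λ εA = 1 - εA := by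
    have := bc_Xi1_mul lam t Λ ε 1
    rw [mul_one, bc_one, mul_one] at this
    rw [this]
    change Xi1 (A := A) Λ ((Algebra.TensorProduct.congr (AlgEquiv.refl : Λ ≃ₐ[S] Λ) lam).toRingEquiv ε)
      = 1 - Xi1 (A := A) Λ ε
    rw [hlε, map_sub, map_one]
  obtain ⟨h1, h2⟩ := isMatUnits_symmetrise (t.bc S lam Λ) (fun x y => map_add _ x y)
    (bc_mul lam t Λ) (bc_one lam t Λ) (bc_bc lam t Λ) εA hεA (Xi1_central Λ ε) hτε e₀ he₀
  exact ⟨_, h1, h2⟩

include hlam hfix in
/-- the dichotomy: orthogonal, or ramified and symplectic -/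
theorem exists_sym_or_symp_gen (h2 : IsUnit (2 : S)) (n : ℕ) (hn : 0 < n)
    (hrank : ∀ p : PrimeSpectrum R, Module.rankAtStalk (R := R) A p = n ^ 2) :
    (∃ f : Fin n → Fin n → Λ ⊗[S] A, IsMatUnits f ∧ ∀ a b, t.bc S lam Λ (f a b) = f b a) ∨
    ((∀ z : Λ ⊗[S] R,
        (Algebra.TensorProduct.congr (AlgEquiv.refl : Λ ≃ₐ[S] Λ) lam).toRingEquiv z - z ∈
          Ring.jacobson (Λ ⊗[S] R)) ∧
      ∃ (m : ℕ) (_ : n = m * 2) (g : Fin (m * 2) → Fin (m * 2) → Λ ⊗[S] A), IsMatUnits g ∧
        ∀ a b, t.bc S lam Λ (g a b) = (sympμ m a * sympμ m b) • g (sympπ m b) (sympπ m a)) := by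
  have hfix' := Groth.Agent.S15586.result S R Λ lam hlam hfix (Or.inl inferInstance)
  have hinv : Function.Involutive
      (Algebra.TensorProduct.congr (AlgEquiv.refl : Λ ≃ₐ[S] Λ) lam).toRingEquiv := by
    intro z
    change Algebra.TensorProduct.congr (AlgEquiv.refl : Λ ≃ₐ[S] Λ) lam
      (Algebra.TensorProduct.congr (AlgEquiv.refl : Λ ≃ₐ[S] Λ) lam z) = z
    induction z using TensorProduct.induction_on with
    | zero => simp
    | tmul s r => simp [hlam]
    | add x y hx hy => rw [map_add, map_add, hx, hy]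
  set lam' : (Λ ⊗[S] R) ≃+* (Λ ⊗[S] R) :=
    (Algebra.TensorProduct.congr (AlgEquiv.refl : Λ ≃ₐ[S] Λ) lam).toRingEquiv with hlam'def
  have h2Λ : IsUnit (2 : Λ) := by
    have := h2.map (algebraMap S Λ)
    rwa [map_ofNat] at this
  have h2R' : IsUnit (2 : Λ ⊗[S] R) := by
    have := h2Λ.map (algebraMap Λ (Λ ⊗[S] R))
    rwa [map_ofNat] at this
  haveI : Nontrivial (Λ ⊗[S] R) := hfix'.1.nontrivial
  by_cases hsplit : ∃ w : Λ ⊗[S] R, lam' w = -w ∧ IsUnit w
  · -- split case
    left
    obtain ⟨w, hw, hwu⟩ := hsplit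
    have hr : IsUnit (w - lam' w) := by
      have : w - lam' w = 2 * w := by rw [hw]; ring
      rw [this]
      exact h2R'.mul hwu
    obtain ⟨ε, hε, hlε⟩ := exists_idem_swap_of_unit Λ (Λ ⊗[S] R) lam' hinv hfix' w hr
    exact exists_symMatUnits_of_idem lam hlam hfix t Λ n hn hrank ε hε hlε
  · -- ramified case
    have hno : ∀ w : Λ ⊗[S] R, lam' w = -w → ¬ IsUnit w := fun w hw hu => hsplit ⟨w, hw, hu⟩
    have hJ : ∀ z : Λ ⊗[S] R, lam' z - z ∈ Ring.jacobson (Λ ⊗[S] R) :=
      sub_mem_jacobson lam' hinv hfix' hno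
    obtain ⟨F, T, hFT⟩ := exists_transport lam hlam hfix (A := A) t Λ n hn hrank
    obtain ⟨h, h', ε, h1, h1', hε1, hτh, hεε, hT⟩ :=
      exists_eps_hermitian_conj lam' hinv hfix' n T hn
    have hεε' : lam' ε * ε = 1 := by rw [mul_comm]; exact hεε
    rcases isUnit_one_add_or_sub lam' hinv hfix' h2Λ hJ ε with hu | hu
    · -- orthogonal
      left
      set β : Λ ⊗[S] R := 1 + ε with hβ
      have hlβu : IsUnit (lam' β) := hu.map lam'
      obtain ⟨βi, hβi⟩ := hlβu.exists_right_inv
      have hβrel : β * lam' ε = lam' β := by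
        rw [hβ, map_add, map_one]
        linear_combination hεε
      set g : Matrix (Fin n) (Fin n) (Λ ⊗[S] R) := lam' β • h with hg
      set g' : Matrix (Fin n) (Fin n) (Λ ⊗[S] R) := βi • h' with hg'
      have hβi' : βi * lam' β = 1 := by rw [mul_comm]; exact hβi
      have hgg' : g * g' = 1 := by
        rw [hg, hg', Matrix.smul_mul, Matrix.mul_smul, smul_smul, h1, hβi, one_smul]
      have hg'g : g' * g = 1 := by
        rw [hg, hg', Matrix.smul_mul, Matrix.mul_smul, smul_smul, h1', hβi', one_smul]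
      have hτg : LamInv.transpose lam' (Fin n) hinv g = g := by
        rw [hg, LamInv.map_smul, hinv β, hτh, smul_smul, hβrel]
      have hTg : ∀ x, T x = g * LamInv.transpose lam' (Fin n) hinv x * g' := by
        intro x
        rw [hT, hg, hg', Matrix.smul_mul, Matrix.smul_mul, Matrix.mul_smul, smul_smul, hβi,
          one_smul]
      have hcase : (∃ a : Λ ⊗[S] R, lam' a - a ∉ Ring.jacobson (Λ ⊗[S] R)) ∨
          (1 : Λ ⊗[S] R) + 1 ∉ Ring.jacobson (Λ ⊗[S] R) ∨ Odd n := by
        right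
        left
        intro hmem
        apply Groth.Agent.Lib.Helper15.QuadEtale.not_isUnit_of_mem_jacobson hmem
        rw [one_add_one_eq_two]
        exact h2R'
      obtain ⟨fM, δ, δ', hfM, hδ, hTf⟩ :=
        exists_matUnits_of_hermitian' lam' hinv hfix' n T g g' hcase hgg' hg'g hτg hTg
      have hy : ∀ a, ∃ y : Λ, y * y = δ a := by
        intro a
        have hD : IsUnit ((0 : Λ) ^ 2 - 4 * (-δ a)) := by
          have : (0 : Λ) ^ 2 - 4 * (-δ a) = 2 * 2 * δ a := by ring
          rw [this]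
          exact (h2Λ.mul h2Λ).mul (IsUnit.of_mul_eq_one _ (hδ a))
        obtain ⟨ρ, hρ⟩ := exists_root_quadratic Λ 0 (-δ a) hD
        exact ⟨ρ, by linear_combination hρ⟩
      choose y hy using hy
      refine exists_symMatUnits_of_diag lam t n Λ (fun a b => F.symm (fM a b))
        (hfM.map (F.symm : Matrix (Fin n) (Fin n) (Λ ⊗[S] R) →+* Λ ⊗[S] A)) δ δ' y hδ hy ?_
      intro a b
      change t.bc S lam Λ (F.symm (fM a b)) =
        algebraMap Λ (Λ ⊗[S] A) (δ b * δ' a) * F.symm (fM b a)
      rw [← hFT, hTf, algebraMap_smul, map_smul, Algebra.smul_def]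
    · -- symplectic
      right
      refine ⟨hJ, ?_⟩
      set β : Λ ⊗[S] R := 1 - ε with hβ
      have hlβu : IsUnit (lam' β) := hu.map lam'
      obtain ⟨βi, hβi⟩ := hlβu.exists_right_inv
      have hβrel : β * lam' ε = - lam' β := by
        rw [hβ, map_sub, map_one]
        linear_combination (-1 : Λ ⊗[S] R) * hεε
      set g : Matrix (Fin n) (Fin n) (Λ ⊗[S] R) := lam' β • h with hg
      set g' : Matrix (Fin n) (Fin n) (Λ ⊗[S] R) := βi • h' with hg'
      have hβi' : βi * lam' β = 1 := by rw [mul_comm]; exact hβi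
      have hgg' : g * g' = 1 := by
        rw [hg, hg', Matrix.smul_mul, Matrix.mul_smul, smul_smul, h1, hβi, one_smul]
      have hg'g : g' * g = 1 := by
        rw [hg, hg', Matrix.smul_mul, Matrix.mul_smul, smul_smul, h1', hβi', one_smul]
      have hτg : LamInv.transpose lam' (Fin n) hinv g = -g := by
        rw [hg, LamInv.map_smul, hinv β, hτh, smul_smul, hβrel, neg_smul]
      have hTg : ∀ x, T x = g * LamInv.transpose lam' (Fin n) hinv x * g' := by
        intro x
        rw [hT, hg, hg', Matrix.smul_mul, Matrix.smul_mul, Matrix.mul_smul, smul_smul, hβi,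
          one_smul]
      obtain ⟨heven, -⟩ := Groth.Agent.S15584.result Λ (Λ ⊗[S] R) lam' hinv hfix' n
        hJ h2R' g ⟨⟨g, g', hgg', hg'g⟩, rfl⟩
        (by
          change -((LamInv.transpose lam' (Fin n) hinv) g) = g
          rw [hτg, neg_neg])
      obtain ⟨m, hm⟩ := heven
      have hm' : n = m * 2 := by omega
      clear_value g g'
      subst hm'
      obtain ⟨gM, hgM, hTgM⟩ :=
        exists_matUnits_of_skew lam' hinv hfix' m T h2Λ hJ g g' hgg' hg'g hτg hTg
      refine ⟨m, rfl, fun a b => F.symm (gM a b),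
        hgM.map (F.symm : Matrix (Fin (m * 2)) (Fin (m * 2)) (Λ ⊗[S] R) →+* Λ ⊗[S] A), ?_⟩
      intro a b
      change t.bc S lam Λ (F.symm (gM a b)) = _ • F.symm (gM (sympπ m b) (sympπ m a))
      rw [← hFT, hTgM, map_zsmul]

end Main

end Groth.Agent.Lib.Helper19EtLoc
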