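import Mathlib
import Groth.Agent.Lib.Helper15QuadEtale
import Groth.Agent.Lib.Helper19EtLocU

/-!
# Étale-local solvability (helper19), part AA: ramification — an anti-invariant unit makes the
algebra quadratic étale; a non-quadratic-étale localisation has a ramified prime above it
-/

set_option autoImplicit false
set_option linter.style.haveILetI false
set_option linter.unusedSectionVars false

open TensorProduct

namespace Groth.Agent.Lib.Helper19EtLoc

open Groth.Agent.Lib.Helper15.QuadEtale IsLocalRing

universe u v

section QuadEtale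

variable {B : Type u} {R₁ : Type v} [CommRing B] [CommRing R₁] [Algebra B R₁]
  (lam₁ : R₁ ≃+* R₁) (hlam₁ : Function.Involutive lam₁) (hfix₁ : RInv.IsFixedRing B R₁ lam₁)

include hlam₁ hfix₁ in
/-- an anti-invariant unit (with `2` invertible) makes `R₁` quadratic étale over its fixed ring -/
theorem isQuadEtale_of_anti_unit (h2 : IsUnit (2 : B)) (u : R₁) (hu : IsUnit u)
    (hlu : lam₁ u = -u) : RInv.IsQuadEtale B R₁ := by
  classical
  have h2R : IsUnit (2 : R₁) := by
    have := h2.map (algebraMap B R₁)
    rwa [map_ofNat] at this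
  obtain ⟨half, hhalf⟩ := h2.exists_right_inv
  obtain ⟨ui, hui⟩ := hu.exists_right_inv
  have hlui : lam₁ ui = -ui := by
    have h1 : -u * lam₁ ui = 1 := by
      rw [← hlu, ← map_mul, hui, map_one]
    calc lam₁ ui = (ui * u) * lam₁ ui := by rw [mul_comm ui u, hui, one_mul]
      _ = -ui * (-u * lam₁ ui) := by ring
      _ = -ui := by rw [h1, mul_one]
  have hlalg : ∀ s : B, lam₁ (algebraMap B R₁ s) = algebraMap B R₁ s :=
    fun s => lam_algebraMap lam₁ hfix₁ s
  have hhalfR : (2 : R₁) * algebraMap B R₁ half = 1 := by
    rw [← map_ofNat (algebraMap B R₁) 2, ← map_mul, hhalf, map_one]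
  -- coordinates
  have hcoord : ∀ x : R₁, ∃ a b : B, x = a • (1 : R₁) + b • u := by
    intro x
    obtain ⟨a, ha⟩ := exists_trace lam₁ hlam₁ hfix₁ x
    have hfixb : lam₁ ((x - lam₁ x) * ui) = (x - lam₁ x) * ui := by
      rw [map_mul, map_sub, hlam₁ x, hlui]
      ring
    obtain ⟨b, hb⟩ := (hfix₁.2 _).mp hfixb
    refine ⟨half * a, half * b, ?_⟩
    rw [Algebra.smul_def, Algebra.smul_def, mul_one, map_mul, map_mul, ha, hb]
    have h3 : (x - lam₁ x) * ui * u = x - lam₁ x := by rw [mul_assoc, mul_comm ui u, hui, mul_one]
    linear_combination (-x) * hhalfR + (-(algebraMap B R₁ half)) * h3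
  have hli : LinearIndependent B ![(1 : R₁), u] := by
    rw [LinearIndependent.pair_iff]
    intro s t hst
    rw [Algebra.smul_def, Algebra.smul_def, mul_one] at hst
    have hst' : algebraMap B R₁ s - algebraMap B R₁ t * u = 0 := by
      have := congrArg lam₁ hst
      rw [map_add, map_mul, hlalg, hlalg, hlu, map_zero] at this
      linear_combination this
    have hs : algebraMap B R₁ s = 0 := by
      have h4 : (2 : R₁) * algebraMap B R₁ s = 0 := by linear_combination hst + hst'
      exact (h2R.mul_right_eq_zero).mp h4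
    have ht : algebraMap B R₁ t = 0 := by
      have h4 : algebraMap B R₁ t * u = 0 := by linear_combination hst - hs
      exact (hu.mul_left_eq_zero).mp h4
    exact ⟨hfix₁.1 (by rw [hs, map_zero]), hfix₁.1 (by rw [ht, map_zero])⟩
  have hsp : ⊤ ≤ Submodule.span B (Set.range ![(1 : R₁), u]) := by
    intro x _
    obtain ⟨a, b, hx⟩ := hcoord x
    rw [hx]
    refine Submodule.add_mem _ (Submodule.smul_mem _ _ (Submodule.subset_span ⟨0, rfl⟩))
      (Submodule.smul_mem _ _ (Submodule.subset_span ⟨1, rfl⟩))
  let bas : Module.Basis (Fin 2) B R₁ := Module.Basis.mk hli hsp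
  haveI : Module.Finite B R₁ := Module.Finite.of_basis bas
  haveI : Module.Free B R₁ := Module.Free.of_basis bas
  refine ⟨inferInstance, inferInstance, ?_, ?_⟩
  · -- formally unramified
    rw [Algebra.formallyUnramified_iff]
    have hDu : KaehlerDifferential.D B R₁ u = 0 := by
      have hfixuu : lam₁ (u * u) = u * u := by rw [map_mul, hlu]; ring
      obtain ⟨c, hc⟩ := (hfix₁.2 _).mp hfixuu
      have h1 : KaehlerDifferential.D B R₁ (u * u) = 0 := by
        rw [← hc]
        exact (KaehlerDifferential.D B R₁).map_algebraMap c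
      rw [Derivation.leibniz, ← add_smul] at h1
      have h5 : IsUnit (u + u) := by
        have : u + u = 2 * u := by ring
        rw [this]
        exact h2R.mul hu
      obtain ⟨v, hv⟩ := h5.exists_left_inv
      calc KaehlerDifferential.D B R₁ u = (v * (u + u)) • KaehlerDifferential.D B R₁ u := by
            rw [hv, one_smul]
        _ = 0 := by rw [mul_smul, h1, smul_zero]
    have hD : ∀ x : R₁, KaehlerDifferential.D B R₁ x = 0 := by
      intro x
      obtain ⟨a, b, hx⟩ := hcoord x
      rw [hx, map_add, Derivation.map_smul, Derivation.map_smul, hDu, smul_zero, add_zero,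
        Derivation.map_one_eq_zero, smul_zero]
    have htop : (⊤ : Submodule R₁ (Ω[R₁⁄B])) = ⊥ := by
      rw [← KaehlerDifferential.span_range_derivation, Submodule.span_eq_bot]
      rintro _ ⟨x, rfl⟩
      exact hD x
    exact subsingleton_of_forall_eq 0 fun y => by
      have : y ∈ (⊤ : Submodule R₁ (Ω[R₁⁄B])) := Submodule.mem_top
      rw [htop] at this
      exact this
  · intro p
    haveI : Nontrivial B := p.nontrivial
    rw [Module.rankAtStalk_eq_finrank_of_free, Module.finrank_eq_card_basis bas]
    simp

end QuadEtale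

end Groth.Agent.Lib.Helper19EtLoc
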