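import Mathlib
import Groth.Agent.Lib.Helper19EtLocD

/-!
# Étale-local solvability (helper19), part M: from matrix units permuted up to sign by the
involution to an isomorphism of algebras with involution
-/

set_option autoImplicit false
set_option linter.style.haveILetI false
set_option linter.unusedSectionVars false

open TensorProduct

namespace Groth.Agent.Lib.Helper19EtLoc

open Groth.Agent.Lib.Helper19AzSplit Groth.Agent.Lib.Helper19SemiSN AzInv
  Groth.Agent.Lib.LeadAzumaya

universe u v w w'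

section Pat

variable {S : Type u} {R : Type v} [CommRing S] [CommRing R] [Algebra S R]
  (lam : R ≃ₐ[S] R)
  {A : Type w} [Ring A] [Algebra S A] [Algebra R A] [IsScalarTower S R A] [IsAzumaya R A]
  (t : LamInv R A lam) (n : ℕ) (S' : Type u) [CommRing S'] [Algebra S S']

/-- a full system of matrix units gives an `S'`-algebra isomorphism from the base-changed matrix
algebra, with an explicit formula on pure tensors -/
theorem exists_algEquiv_of_matUnits' (hn : 0 < n)
    (hrank : ∀ p : PrimeSpectrum R, Module.rankAtStalk (R := R) A p = n ^ 2)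
    (e : Fin n → Fin n → S' ⊗[S] A) (he : IsMatUnits e) :
    ∃ G : S' ⊗[S] Matrix (Fin n) (Fin n) R ≃ₐ[S'] S' ⊗[S] A,
      ∀ (s : S') (M : Matrix (Fin n) (Fin n) R),
        G (s ⊗ₜ[S] M) = ∑ a, ∑ b, (s ⊗ₜ[S] algebraMap R A (M a b)) * e a b := by
  classical
  obtain ⟨G, hG⟩ := exists_ringEquiv_of_matUnits (S := S) (R := R) (A := A) n S' hn hrank e he
  have hcomm : ∀ s : S', G (algebraMap S' (S' ⊗[S] Matrix (Fin n) (Fin n) R) s) =
      algebraMap S' (S' ⊗[S] A) s := by
    intro s
    rw [Algebra.TensorProduct.algebraMap_apply, Algebra.algebraMap_self_apply, hG]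
    have h1 : ∀ a : Fin n, ∑ b, (s ⊗ₜ[S] algebraMap R A ((1 : Matrix (Fin n) (Fin n) R) a b)) * e a b =
        (s ⊗ₜ[S] (1 : A)) * e a a := by
      intro a
      rw [Finset.sum_eq_single a]
      · rw [Matrix.one_apply_eq, map_one]
      · intro b _ hb
        rw [Matrix.one_apply_ne (Ne.symm hb), map_zero, TensorProduct.tmul_zero, zero_mul]
      · intro h
        exact absurd (Finset.mem_univ a) h
    simp only [h1]
    rw [← Finset.mul_sum, he.sum, mul_one, Algebra.TensorProduct.algebraMap_apply,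
      Algebra.algebraMap_self_apply]
  exact ⟨AlgEquiv.ofRingEquiv (f := G) hcomm, hG⟩

variable (π : Fin n → Fin n) (c : Fin n → Fin n → ℤ)
  {N' : Type w'} [Ring N'] [Algebra S N'] [Algebra R N'] [IsScalarTower S R N']
  (θ : LamInv R N' lam) (Θ : N' ≃ₐ[R] Matrix (Fin n) (Fin n) R)

/-- matrix units permuted up to sign by the involution give an isomorphism of algebras with
involution with any model `(N', θ)` whose involution has the same shape on matrix entries -/
theorem exists_algEquiv_of_patMatUnits (hn : 0 < n) (hπ : ∀ a, π (π a) = a)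
    (hΘ : ∀ (X : N') (a b : Fin n), Θ (θ X) a b = c (π b) (π a) • lam (Θ X (π b) (π a)))
    (hrank : ∀ p : PrimeSpectrum R, Module.rankAtStalk (R := R) A p = n ^ 2)
    (e : Fin n → Fin n → S' ⊗[S] A) (he : IsMatUnits e)
    (hsym : ∀ a b, t.bc S lam S' (e a b) = c a b • e (π b) (π a)) :
    ∃ G : S' ⊗[S] N' ≃ₐ[S'] S' ⊗[S] A,
      (∀ (r : R) (x : S' ⊗[S] N'),
        G (((1 : S') ⊗ₜ[S] algebraMap R N' r) * x) = ((1 : S') ⊗ₜ[S] algebraMap R A r) * G x) ∧
      ∀ x : S' ⊗[S] N', G (θ.bc S lam S' x) = t.bc S lam S' (G x) := by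
  classical
  obtain ⟨G₀, hG₀⟩ := exists_algEquiv_of_matUnits' (S := S) (R := R) (A := A) n S' hn hrank e he
  let Θ' : S' ⊗[S] N' ≃ₐ[S'] S' ⊗[S] Matrix (Fin n) (Fin n) R :=
    Algebra.TensorProduct.congr (AlgEquiv.refl : S' ≃ₐ[S'] S') (Θ.restrictScalars S)
  have hΘ' : ∀ (s : S') (X : N'), Θ' (s ⊗ₜ[S] X) = s ⊗ₜ[S] Θ X := fun s X => rfl
  let πe : Fin n ≃ Fin n := ⟨π, π, hπ, hπ⟩
  refine ⟨Θ'.trans G₀, ?_, ?_⟩
  · intro r x
    change G₀ (Θ' (((1 : S') ⊗ₜ[S] algebraMap R N' r) * x)) =
      ((1 : S') ⊗ₜ[S] algebraMap R A r) * G₀ (Θ' x)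
    rw [map_mul, map_mul, hΘ', AlgEquiv.commutes]
    congr 1
    rw [hG₀]
    have h1 : ∀ a : Fin n,
        ∑ b, ((1 : S') ⊗ₜ[S] algebraMap R A (algebraMap R (Matrix (Fin n) (Fin n) R) r a b)) * e a b =
        ((1 : S') ⊗ₜ[S] algebraMap R A r) * e a a := by
      intro a
      rw [Finset.sum_eq_single a]
      · rw [Matrix.algebraMap_matrix_apply, if_pos rfl, Algebra.algebraMap_self_apply]
      · intro b _ hb
        rw [Matrix.algebraMap_matrix_apply, if_neg (Ne.symm hb), map_zero, TensorProduct.tmul_zero,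
          zero_mul]
      · intro h
        exact absurd (Finset.mem_univ a) h
    simp only [h1]
    rw [← Finset.mul_sum, he.sum, mul_one]
  · intro x
    change G₀ (Θ' (θ.bc S lam S' x)) = t.bc S lam S' (G₀ (Θ' x))
    induction x using TensorProduct.induction_on with
    | zero => simp
    | tmul s X =>
      rw [LamInv.bc_tmul, hΘ', hΘ', hG₀, hG₀, map_sum]
      -- right side: reindex by `π`
      have hR : ∀ a, t.bc S lam S' (∑ b, (s ⊗ₜ[S] algebraMap R A (Θ X a b)) * e a b) =
          ∑ b, (s ⊗ₜ[S] algebraMap R A (c a b • lam (Θ X a b))) * e (π b) (π a) := by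
        intro a
        rw [map_sum]
        refine Finset.sum_congr rfl fun b _ => ?_
        rw [bc_scalar_mul, hsym, map_zsmul, TensorProduct.tmul_smul, smul_mul_assoc,
          mul_smul_comm]
      simp only [hR]
      symm
      rw [Finset.sum_comm]
      refine Fintype.sum_equiv πe _ _ (fun b => ?_)
      refine Fintype.sum_equiv πe _ _ (fun a => ?_)
      change (s ⊗ₜ[S] algebraMap R A (c a b • lam (Θ X a b))) * e (π b) (π a) =
        (s ⊗ₜ[S] algebraMap R A (Θ (θ X) (π b) (π a))) * e (π b) (π a)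
      rw [hΘ, hπ, hπ]
    | add x y hx hy => rw [map_add, map_add, map_add, hx, hy, map_add, map_add, map_add]

end Pat

end Groth.Agent.Lib.Helper19EtLoc
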