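import Mathlib
import Groth.Agent.Lib.Helper19EtLocM
import Groth.Agent.Lib.Helper19EtLocP
import Groth.Agent.S17360

/-!
# Étale-local solvability (helper19), part Q: goodness at a prime is an open condition; the
orthogonal and symplectic systems are never simultaneously solvable over a nontrivial ring
-/

set_option autoImplicit false
set_option linter.style.haveILetI false
set_option linter.unusedSectionVars false

open TensorProduct

namespace Groth.Agent.Lib.Helper19EtLoc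

open Groth.Agent.Lib.Helper19AzSplit Groth.Agent.Lib.Helper19SemiSN AzInv
  Groth.Agent.Lib.LeadAzumaya IsLocalRing Groth.Agent.Lib.Helper3.Sh

universe u v w

section Good

variable {S : Type u} [CommRing S] {A : Type w} [Ring A] [Algebra S A] {ι κ : Type}
  [Finite ι] [Finite κ] (𝒟 : NatSys S A ι κ)

section Sh

variable (p : Ideal S) [p.IsPrime]
  (Ω : Type u) [Field Ω] [Algebra (Localization.AtPrime p) Ω]
  [Algebra (ResidueField (Localization.AtPrime p)) Ω]
  [IsScalarTower (Localization.AtPrime p) (ResidueField (Localization.AtPrime p)) Ω]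
  [IsSepClosure (ResidueField (Localization.AtPrime p)) Ω]

attribute [local instance 10] algSsh algSL

theorem NatSys.good_of_sh (h : 𝒟.Sol (Rsh (Localization.AtPrime p) Ω)) : 𝒟.Good p := by
  obtain ⟨i, hi⟩ := NatSys.Sol.sh 𝒟 (Localization.AtPrime p) Ω h
  exact NatSys.good_of_stage 𝒟 p Ω i hi

end Sh

/-- goodness is an open condition on the prime spectrum -/
theorem NatSys.isOpen_good : IsOpen {x : PrimeSpectrum S | 𝒟.Good x.asIdeal} := by
  rw [isOpen_iff_forall_mem_open]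
  rintro x ⟨E, _, _, hEt, ⟨Q, hQ, hQx⟩, hsol⟩
  haveI := hEt
  refine ⟨Set.range (PrimeSpectrum.comap (algebraMap S E)), ?_,
    (PrimeSpectrum.isOpenMap_comap_of_hasGoingDown_of_finitePresentation
      (R := S) (S := E)).isOpen_range, ⟨⟨Q, hQ⟩, PrimeSpectrum.ext hQx⟩⟩
  rintro _ ⟨q, rfl⟩
  exact ⟨E, inferInstance, inferInstance, hEt, ⟨q.asIdeal, q.isPrime, rfl⟩, hsol⟩

end Good

section Nontriv

theorem nontrivial_tensor_of_mem_range {R : Type u} [CommRing R] (E₁ E₂ : Type u) [CommRing E₁]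
    [CommRing E₂] [Algebra R E₁] [Algebra R E₂] (p : PrimeSpectrum R)
    (h₁ : p ∈ Set.range (PrimeSpectrum.comap (algebraMap R E₁)))
    (h₂ : p ∈ Set.range (PrimeSpectrum.comap (algebraMap R E₂))) :
    Nontrivial (E₁ ⊗[R] E₂) := by
  let K := p.asIdeal.ResidueField
  haveI : Nontrivial (K ⊗[R] E₁) := (PrimeSpectrum.nontrivial_iff_mem_rangeComap p).mpr h₁
  haveI : Nontrivial (K ⊗[R] E₂) := (PrimeSpectrum.nontrivial_iff_mem_rangeComap p).mpr h₂
  haveI : Module.FaithfullyFlat K (K ⊗[R] E₁) := inferInstance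
  haveI : Nontrivial ((K ⊗[R] E₁) ⊗[K] (K ⊗[R] E₂)) :=
    Module.FaithfullyFlat.lTensor_nontrivial K (K ⊗[R] E₁) (K ⊗[R] E₂)
  let e1 : (K ⊗[R] E₁) ⊗[K] (K ⊗[R] E₂) ≃ₗ[K] (K ⊗[R] E₁) ⊗[R] E₂ :=
    TensorProduct.AlgebraTensorModule.cancelBaseChange R K K (K ⊗[R] E₁) E₂
  let e2 : (K ⊗[R] E₁) ⊗[R] E₂ ≃ₗ[R] K ⊗[R] (E₁ ⊗[R] E₂) := TensorProduct.assoc R K E₁ E₂
  by_contra hne
  rw [not_nontrivial_iff_subsingleton] at hne
  haveI := hne
  haveI : Subsingleton (K ⊗[R] (E₁ ⊗[R] E₂)) := inferInstance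
  haveI : Subsingleton ((K ⊗[R] E₁) ⊗[R] E₂) := e2.toEquiv.subsingleton
  haveI : Subsingleton ((K ⊗[R] E₁) ⊗[K] (K ⊗[R] E₂)) := e1.toEquiv.subsingleton
  exact not_subsingleton _ ‹_›

end Nontriv

section Disjoint

variable {R : Type u} [CommRing R] {A : Type w} [Ring A] [Algebra R A] [IsAzumaya R A]
  (t : LamInv R A (AlgEquiv.refl : R ≃ₐ[R] R)) (n : ℕ)
  (E : Type u) [CommRing E] [Algebra R E]

/-- matrix units form a basis of `E ⊗[R] A` over `E` -/
theorem exists_basis_of_matUnits (hn : 0 < n)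
    (hrank : ∀ p : PrimeSpectrum R, Module.rankAtStalk (R := R) A p = n ^ 2)
    (f : Fin n → Fin n → E ⊗[R] A) (hf : IsMatUnits f) :
    ∃ b : Module.Basis (Fin n × Fin n) E (E ⊗[R] A), ∀ i, b i = f i.1 i.2 := by
  classical
  obtain ⟨G, hG⟩ := exists_algEquiv_of_matUnits' (S := R) (R := R) (A := A) n E hn hrank f hf
  let b₀ : Module.Basis (Fin n × Fin n) E (E ⊗[R] Matrix (Fin n) (Fin n) R) :=
    (Matrix.stdBasis R (Fin n) (Fin n)).baseChange E
  refine ⟨b₀.map G.toLinearEquiv, ?_⟩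
  rintro ⟨a, c⟩
  change G (b₀ (a, c)) = f a c
  have h1 : b₀ (a, c) = (1 : E) ⊗ₜ[R] Matrix.single a c (1 : R) := by
    change ((Matrix.stdBasis R (Fin n) (Fin n)).baseChange E) (a, c) = _
    rw [Module.Basis.baseChange_apply, Matrix.stdBasis_eq_single]
  rw [h1, hG, Finset.sum_eq_single a, Finset.sum_eq_single c]
  · rw [Matrix.single_apply_same, map_one, ← Algebra.TensorProduct.one_def, one_mul]
  · intro c' _ hc'
    rw [Matrix.single_apply_of_ne, map_zero, TensorProduct.tmul_zero, zero_mul]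
    exact fun h => hc' h.2.symm
  · intro h
    exact absurd (Finset.mem_univ c) h
  · intro a' _ ha'
    apply Finset.sum_eq_zero
    intro c' _
    rw [Matrix.single_apply_of_ne, map_zero, TensorProduct.tmul_zero, zero_mul]
    exact fun h => ha' h.1.symm
  · intro h
    exact absurd (Finset.mem_univ a) h

/-- the orthogonal and the symplectic systems are not both solvable over a nontrivial ring in
which `2` is invertible -/
theorem not_sym_and_symp [Nontrivial E] (h2 : IsUnit (2 : E)) (m : ℕ) (hm : 0 < m * 2)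
    (hrank : ∀ p : PrimeSpectrum R, Module.rankAtStalk (R := R) A p = (m * 2) ^ 2)
    (f : Fin (m * 2) → Fin (m * 2) → E ⊗[R] A) (hf : IsMatUnits f)
    (hfsym : ∀ a b, t.bc R (AlgEquiv.refl : R ≃ₐ[R] R) E (f a b) = f b a)
    (g : Fin (m * 2) → Fin (m * 2) → E ⊗[R] A) (hg : IsMatUnits g)
    (hgsym : ∀ a b, t.bc R (AlgEquiv.refl : R ≃ₐ[R] R) E (g a b) =
      (sympμ m a * sympμ m b) • g (sympπ m b) (sympπ m a)) : False := by
  classical
  obtain ⟨b₁, hb₁⟩ := exists_basis_of_matUnits (m * 2) E hm hrank f hf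
  obtain ⟨b₂, hb₂⟩ := exists_basis_of_matUnits (m * 2) E hm hrank g hg
  have hne : (1 : E) ≠ -1 := by
    intro h
    have h0 : (2 : E) = 0 := by linear_combination h
    rw [h0] at h2
    exact not_isUnit_zero h2
  have hμ : ∀ a : Fin (m * 2), (sympμ m a : E) = 1 ∨ (sympμ m a : E) = -1 := by
    intro a
    unfold sympμ
    split_ifs <;> simp
  have key := Groth.Agent.S17360.sig_le h2 (t.bc R (AlgEquiv.refl : R ≃ₐ[R] R) E)
    (bc_bc (AlgEquiv.refl : R ≃ₐ[R] R) t E)
    b₁ (fun i => (i.2, i.1)) (fun _ => 1) (fun i => rfl) (fun _ => Or.inl rfl)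
    (fun i => by rw [hb₁, hb₁, hfsym, one_smul])
    b₂ (fun i => (sympπ m i.2, sympπ m i.1)) (fun i => (sympμ m i.1 : E) * (sympμ m i.2 : E))
    (fun i => by simp only [sympπ_sympπ])
    (fun i => by
      rcases hμ i.1 with h | h <;> rcases hμ i.2 with h' | h' <;> rw [h, h'] <;> simp)
    (fun i => by
      rw [hb₂, hb₂, hgsym, ← Int.cast_smul_eq_zsmul E]
      push_cast
      rfl)
  have hN1 : 0 < Nat.card {i : Fin (m * 2) × Fin (m * 2) // (i.2, i.1) = i ∧ (1 : E) = 1} :=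
    Nat.card_pos_iff.mpr ⟨⟨⟨(⟨0, hm⟩, ⟨0, hm⟩), rfl, rfl⟩⟩, inferInstance⟩
  have hN2 : Nat.card {i : Fin (m * 2) × Fin (m * 2) // (i.2, i.1) = i ∧ (1 : E) = -1} = 0 := by
    haveI : IsEmpty {i : Fin (m * 2) × Fin (m * 2) // (i.2, i.1) = i ∧ (1 : E) = -1} :=
      ⟨fun x => hne x.2.2⟩
    exact Nat.card_of_isEmpty
  have hN3 : Nat.card {i : Fin (m * 2) × Fin (m * 2) //
      (sympπ m i.2, sympπ m i.1) = i ∧ (sympμ m i.1 : E) * (sympμ m i.2 : E) = 1} = 0 := by
    haveI : IsEmpty {i : Fin (m * 2) × Fin (m * 2) //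
        (sympπ m i.2, sympπ m i.1) = i ∧ (sympμ m i.1 : E) * (sympμ m i.2 : E) = 1} := by
      refine ⟨fun x => ?_⟩
      obtain ⟨⟨a, c⟩, h1, h3⟩ := x
      have h4 : sympπ m c = a := congrArg Prod.fst h1
      have h5 : (sympμ m a : E) * (sympμ m c : E) = -1 := by
        rw [← h4, sympμ_sympπ]
        have := sympμ_mul_self m c
        push_cast
        rw [neg_mul, ← Int.cast_mul, this, Int.cast_one]
      exact hne (h3.symm.trans h5)
    exact Nat.card_of_isEmpty
  rw [hN2, hN3] at key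
  omega

end Disjoint

end Groth.Agent.Lib.Helper19EtLoc
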