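import Mathlib
import Groth.Agent.Lib.Helper19EtLocC

/-!
# Étale-local solvability (helper19), part V: matrix units of `X ⊗ M_k(A)` from matrix units of
`X ⊗ A`, with the pattern of the induced involution
-/

set_option autoImplicit false
set_option linter.style.haveILetI false
set_option linter.unusedSectionVars false

open TensorProduct

namespace Groth.Agent.Lib.Helper19EtLoc

open Groth.Agent.Lib.Helper19AzSplit AzInv

universe u v w

section Entry

variable {S : Type u} {R : Type v} [CommRing S] [CommRing R] [Algebra S R] (lam : R ≃ₐ[S] R)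
  {A : Type w} [Ring A] [Algebra S A] [Algebra R A] [IsScalarTower S R A] (t : LamInv R A lam)
  (X : Type u) [CommRing X] [Algebra S X] (k : ℕ)

/-- place an element of `X ⊗ A` in the `(i, j)` entry -/
noncomputable def entryMap (i j : Fin k) : X ⊗[S] A →ₗ[X] X ⊗[S] Matrix (Fin k) (Fin k) A :=
  LinearMap.baseChange X (Matrix.singleLinearMap S i j)

theorem entryMap_tmul (i j : Fin k) (s : X) (a : A) :
    entryMap (S := S) (A := A) X k i j (s ⊗ₜ[S] a) = s ⊗ₜ[S] Matrix.single i j a := rfl

theorem entryMap_mul (i j j' l : Fin k) (x y : X ⊗[S] A) :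
    entryMap (S := S) X k i j x * entryMap (S := S) X k j' l y =
      if j = j' then entryMap (S := S) X k i l (x * y) else 0 := by
  induction x using TensorProduct.induction_on with
  | zero => simp
  | tmul s a =>
    induction y using TensorProduct.induction_on with
    | zero => simp
    | tmul s' a' =>
      rw [entryMap_tmul, entryMap_tmul, Algebra.TensorProduct.tmul_mul_tmul,
        Algebra.TensorProduct.tmul_mul_tmul, entryMap_tmul]
      by_cases h : j = j'
      · subst h
        rw [if_pos rfl, Matrix.single_mul_single_same]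
      · rw [if_neg h, Matrix.single_mul_single_of_ne _ _ _ _ h, TensorProduct.tmul_zero]
    | add y y' hy hy' =>
      rw [map_add, mul_add, hy, hy', mul_add, map_add]
      split_ifs <;> simp
  | add x x' hx hx' =>
    rw [map_add, add_mul, hx, hx', add_mul, map_add]
    split_ifs <;> simp

theorem entryMap_sum_one : ∑ i, entryMap (S := S) (A := A) X k i i 1 = 1 := by
  simp only [Algebra.TensorProduct.one_def, entryMap_tmul]
  rw [← TensorProduct.tmul_sum]
  congr 1
  ext a b
  rw [Matrix.sum_apply]
  simp only [Matrix.single_apply]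
  by_cases h : a = b
  · subst h
    simp
  · rw [Matrix.one_apply_ne h]
    apply Finset.sum_eq_zero
    intro i _
    rw [if_neg]
    rintro ⟨rfl, rfl⟩
    exact h rfl

theorem bc_entryMap (i j : Fin k) (x : X ⊗[S] A) :
    (t.matrix (Fin k)).bc S lam X (entryMap (S := S) X k i j x) =
      entryMap (S := S) X k j i (t.bc S lam X x) := by
  induction x using TensorProduct.induction_on with
  | zero => simp
  | tmul s a =>
    rw [entryMap_tmul, LamInv.bc_tmul, LamInv.bc_tmul, entryMap_tmul]
    congr 1
    ext p q
    rw [LamInv.matrix_apply, Matrix.single_apply, Matrix.single_apply]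
    by_cases h : i = q ∧ j = p
    · rw [if_pos h, if_pos ⟨h.2, h.1⟩]
    · rw [if_neg h, if_neg (fun h' => h ⟨h'.2, h'.1⟩), LamInv.map_zero]
  | add x y hx hy => rw [map_add, map_add, hx, hy, map_add, map_add]

end Entry

section Lift

variable (k n : ℕ)

/-- the lifted permutation on `Fin (k * n)` -/
def liftπ (π : Fin n → Fin n) (p : Fin (k * n)) : Fin (k * n) :=
  finProdFinEquiv ((finProdFinEquiv.symm p).1, π (finProdFinEquiv.symm p).2)

/-- the lifted sign pattern -/
def liftc (c : Fin n → Fin n → ℤ) (p q : Fin (k * n)) : ℤ :=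
  c (finProdFinEquiv.symm p).2 (finProdFinEquiv.symm q).2

theorem liftπ_liftπ (π : Fin n → Fin n) (hπ : ∀ a, π (π a) = a) (p : Fin (k * n)) :
    liftπ k n π (liftπ k n π p) = p := by
  unfold liftπ
  rw [Equiv.symm_apply_apply]
  simp only [hπ]
  exact Equiv.apply_symm_apply _ _

theorem liftπ_id (p : Fin (k * n)) : liftπ k n id p = p := by
  unfold liftπ
  exact Equiv.apply_symm_apply _ _

theorem liftc_liftπ (π : Fin n → Fin n) (c : Fin n → Fin n → ℤ) (p : Fin (k * n)) :
    liftc k n c p (liftπ k n π p) =
      c (finProdFinEquiv.symm p).2 (π (finProdFinEquiv.symm p).2) := by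
  unfold liftc liftπ
  rw [Equiv.symm_apply_apply]

variable {S : Type u} {R : Type v} [CommRing S] [CommRing R] [Algebra S R] (lam : R ≃ₐ[S] R)
  {A : Type w} [Ring A] [Algebra S A] [Algebra R A] [IsScalarTower S R A] (t : LamInv R A lam)
  (X : Type u) [CommRing X] [Algebra S X]

/-- matrix units of `X ⊗ M_k(A)` from matrix units of `X ⊗ A` -/
theorem exists_matUnits_matrix (π : Fin n → Fin n) (c : Fin n → Fin n → ℤ)
    (e : Fin n → Fin n → X ⊗[S] A) (he : IsMatUnits e)
    (hsym : ∀ a b, t.bc S lam X (e a b) = c a b • e (π b) (π a)) :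
    ∃ E : Fin (k * n) → Fin (k * n) → X ⊗[S] Matrix (Fin k) (Fin k) A, IsMatUnits E ∧
      ∀ p q, (t.matrix (Fin k)).bc S lam X (E p q) =
        liftc k n c p q • E (liftπ k n π q) (liftπ k n π p) := by
  classical
  let E : Fin (k * n) → Fin (k * n) → X ⊗[S] Matrix (Fin k) (Fin k) A := fun p q =>
    entryMap (S := S) X k (finProdFinEquiv.symm p).1 (finProdFinEquiv.symm q).1
      (e (finProdFinEquiv.symm p).2 (finProdFinEquiv.symm q).2)
  refine ⟨E, ⟨fun p q r s => ?_, ?_⟩, fun p q => ?_⟩
  · change entryMap (S := S) X k _ _ _ * entryMap (S := S) X k _ _ _ = _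
    rw [entryMap_mul, he.mul]
    by_cases hqr : q = r
    · subst hqr
      rw [if_pos rfl, if_pos rfl, if_pos rfl]
    · rw [if_neg hqr]
      by_cases h1 : (finProdFinEquiv.symm q).1 = (finProdFinEquiv.symm r).1
      · rw [if_pos h1]
        have h2 : (finProdFinEquiv.symm q).2 ≠ (finProdFinEquiv.symm r).2 := by
          intro h2
          exact hqr (finProdFinEquiv.symm.injective (Prod.ext h1 h2))
        rw [if_neg h2, map_zero]
      · rw [if_neg h1]
  · change ∑ p, entryMap (S := S) X k (finProdFinEquiv.symm p).1 (finProdFinEquiv.symm p).1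
      (e (finProdFinEquiv.symm p).2 (finProdFinEquiv.symm p).2) = 1
    rw [← Equiv.sum_comp finProdFinEquiv]
    simp only [Equiv.symm_apply_apply]
    rw [Fintype.sum_prod_type]
    simp only [← map_sum, he.sum]
    exact entryMap_sum_one X k
  · change (t.matrix (Fin k)).bc S lam X (entryMap (S := S) X k _ _ _) = _
    rw [bc_entryMap, hsym, map_zsmul]
    unfold liftc liftπ
    simp only [E, Equiv.symm_apply_apply]

end Lift

end Groth.Agent.Lib.Helper19EtLoc
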