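import Mathlib
import Groth.Agent.Lib.Helper19EtLocJ
import Groth.Agent.S17360

/-!
# Étale-local solvability (helper19), part W: an orthogonal and a symplectic-like involution are
not isomorphic at a ramified point (count of symmetric basis elements modulo an ideal on which the
involution of the base is trivial)
-/

set_option autoImplicit false
set_option linter.style.haveILetI false
set_option linter.unusedSectionVars false

open TensorProduct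

namespace Groth.Agent.Lib.Helper19EtLoc

open Groth.Agent.Lib.Helper19AzSplit Groth.Agent.Lib.Helper19SemiSN AzInv
  Groth.Agent.Lib.LeadAzumaya

universe u v w w'

section ModXR

variable {S : Type u} {R : Type v} [CommRing S] [CommRing R] [Algebra S R]
  {A : Type w} [Ring A] [Algebra S A] [Algebra R A] [IsScalarTower S R A]
  (X : Type u) [CommRing X] [Algebra S X]

attribute [local instance] Algebra.TensorProduct.rightAlgebra
attribute [local instance 10] algRA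

/-- the `X ⊗ R`-module structure on `X ⊗ A` -/
noncomputable def modXR : Module (X ⊗[S] R) (X ⊗[S] A) :=
  Module.compHom (X ⊗[S] A)
    ((Xi1 (A := A) X : X ⊗[S] R →ₐ[R] X ⊗[S] A) : X ⊗[S] R →+* X ⊗[S] A)

attribute [local instance 10] modXR

theorem modXR_smul (ρ : X ⊗[S] R) (x : X ⊗[S] A) : ρ • x = Xi1 (A := A) X ρ * x := rfl

variable [IsAzumaya R A]

/-- matrix units form a basis over `X ⊗ R` -/
theorem exists_basis_modXR (n : ℕ) (hn : 0 < n)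
    (hrank : ∀ p : PrimeSpectrum R, Module.rankAtStalk (R := R) A p = n ^ 2)
    (f : Fin n → Fin n → X ⊗[S] A) (hf : IsMatUnits f) :
    ∃ b : Module.Basis (Fin n × Fin n) (X ⊗[S] R) (X ⊗[S] A), ∀ i, b i = f i.1 i.2 := by
  classical
  obtain ⟨F, hF⟩ := exists_algEquiv_of_matUnits (S := S) (R := R) (A := A) n X hn hrank f hf
  have hFs := smul_of_compat (S := S) (R := R) (A := A) n X F hF
  let u : Fin n → Fin n → Matrix (Fin n) (Fin n) (X ⊗[S] R) := fun a b => F (f a b)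
  have hu : IsMatUnits u := hf.map (F : X ⊗[S] A →+* Matrix (Fin n) (Fin n) (X ⊗[S] R))
  haveI : Nonempty (Fin n) := Fin.pos_iff_nonempty.mp hn
  haveI : IsAzumaya (X ⊗[S] R) (Matrix (Fin n) (Fin n) (X ⊗[S] R)) :=
    IsAzumaya.matrix (X ⊗[S] R) (Fin n)
  have hrankM : ∀ p : PrimeSpectrum (X ⊗[S] R),
      Module.rankAtStalk (R := X ⊗[S] R) (Matrix (Fin n) (Fin n) (X ⊗[S] R)) p = n ^ 2 := by
    intro p
    haveI : Nontrivial (X ⊗[S] R) := p.nontrivial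
    rw [Module.rankAtStalk_eq_finrank_of_free]
    simp [Module.finrank_matrix, pow_two]
  let gM : Matrix (Fin n) (Fin n) (X ⊗[S] R) ≃ₐ[X ⊗[S] R] Matrix (Fin n) (Fin n) (X ⊗[S] R) :=
    AlgEquiv.ofBijective (matHom (R := X ⊗[S] R) u hu) (bijective_matHom hn hrankM u hu)
  let Fl : X ⊗[S] A ≃ₗ[X ⊗[S] R] Matrix (Fin n) (Fin n) (X ⊗[S] R) :=
    { toFun := F
      invFun := F.symm
      left_inv := F.symm_apply_apply
      right_inv := F.apply_symm_apply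
      map_add' := map_add F
      map_smul' := fun ρ x => by
        rw [modXR_smul, hFs]
        rfl }
  refine ⟨((Matrix.stdBasis (X ⊗[S] R) (Fin n) (Fin n)).map gM.toLinearEquiv).map Fl.symm, ?_⟩
  rintro ⟨a, c⟩
  change F.symm (gM (Matrix.stdBasis (X ⊗[S] R) (Fin n) (Fin n) (a, c))) = f a c
  rw [Matrix.stdBasis_eq_single]
  change F.symm (matHom (R := X ⊗[S] R) u hu (Matrix.single a c 1)) = f a c
  rw [matHom_single]
  exact F.symm_apply_apply _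

end ModXR

section Kind

variable {S : Type u} {R : Type v} [CommRing S] [CommRing R] [Algebra S R] (lam : R ≃ₐ[S] R)
  {C : Type w} [Ring C] [Algebra S C] [Algebra R C] [IsScalarTower S R C] [IsAzumaya R C]
  (T : LamInv R C lam)
  {C' : Type w'} [Ring C'] [Algebra S C'] [Algebra R C'] [IsScalarTower S R C'] [IsAzumaya R C']
  (T' : LamInv R C' lam)
  (Λ : Type u) [CommRing Λ] [Algebra S Λ]

attribute [local instance] Algebra.TensorProduct.rightAlgebra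
attribute [local instance 10] algRA
attribute [local instance 10] modXR

/-- an isomorphism compatible with the `R`-action is linear over `Λ ⊗ R` -/
theorem map_Xi1_mul (φ : Λ ⊗[S] C ≃ₐ[Λ] Λ ⊗[S] C')
    (hφ1 : ∀ (r : R) (x : Λ ⊗[S] C),
      φ (((1 : Λ) ⊗ₜ[S] algebraMap R C r) * x) = ((1 : Λ) ⊗ₜ[S] algebraMap R C' r) * φ x)
    (ρ : Λ ⊗[S] R) (x : Λ ⊗[S] C) :
    φ (Xi1 (A := C) Λ ρ * x) = Xi1 (A := C') Λ ρ * φ x := by
  induction ρ using TensorProduct.induction_on with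
  | zero => simp
  | tmul s r =>
    have h1 : Xi1 (A := C) Λ (s ⊗ₜ[S] r) = s • ((1 : Λ) ⊗ₜ[S] algebraMap R C r) := by
      rw [Xi1_tmul, TensorProduct.smul_tmul', smul_eq_mul, mul_one]
    have h2 : Xi1 (A := C') Λ (s ⊗ₜ[S] r) = s • ((1 : Λ) ⊗ₜ[S] algebraMap R C' r) := by
      rw [Xi1_tmul, TensorProduct.smul_tmul', smul_eq_mul, mul_one]
    rw [h1, h2, smul_mul_assoc, map_smul, hφ1, smul_mul_assoc]
  | add ρ ρ' h h' => rw [map_add, add_mul, map_add, h, h', map_add, add_mul]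

/-- **Kind consistency.** Over a base on which the involution of `Λ ⊗ R` is trivial modulo a
proper ideal, an involution with symmetric matrix units is not isomorphic to one whose matrix
units are permuted without symmetric fixed points. -/
theorem not_sym_and_neg (h2 : IsUnit (2 : Λ)) (I : Ideal (Λ ⊗[S] R)) (hI : I ≠ ⊤)
    (hlamI : ∀ z : Λ ⊗[S] R,
      Algebra.TensorProduct.congr (AlgEquiv.refl : Λ ≃ₐ[S] Λ) lam z - z ∈ I)
    (φ : Λ ⊗[S] C ≃ₐ[Λ] Λ ⊗[S] C')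
    (hφ1 : ∀ (r : R) (x : Λ ⊗[S] C),
      φ (((1 : Λ) ⊗ₜ[S] algebraMap R C r) * x) = ((1 : Λ) ⊗ₜ[S] algebraMap R C' r) * φ x)
    (hφ2 : ∀ x, φ (T.bc S lam Λ x) = T'.bc S lam Λ (φ x))
    (N N' : ℕ) (hN : 0 < N) (hN' : 0 < N')
    (hrank : ∀ p : PrimeSpectrum R, Module.rankAtStalk (R := R) C p = N ^ 2)
    (hrank' : ∀ p : PrimeSpectrum R, Module.rankAtStalk (R := R) C' p = N' ^ 2)
    (f : Fin N → Fin N → Λ ⊗[S] C) (hf : IsMatUnits f)
    (hfsym : ∀ a b, T.bc S lam Λ (f a b) = f b a)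
    (g : Fin N' → Fin N' → Λ ⊗[S] C') (hg : IsMatUnits g)
    (π : Fin N' → Fin N') (hπ : ∀ a, π (π a) = a) (c : Fin N' → Fin N' → ℤ)
    (hc : ∀ a b, c a b = 1 ∨ c a b = -1) (hneg : ∀ a, c a (π a) = -1)
    (hgsym : ∀ a b, T'.bc S lam Λ (g a b) = c a b • g (π b) (π a)) : False := by
  classical
  haveI : Nontrivial ((Λ ⊗[S] R) ⧸ I) := Ideal.Quotient.nontrivial_iff.mpr hI
  have h2K : IsUnit (2 : (Λ ⊗[S] R) ⧸ I) := by
    have := (h2.map (algebraMap Λ (Λ ⊗[S] R))).map (Ideal.Quotient.mk I)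
    rwa [map_ofNat, map_ofNat] at this
  obtain ⟨b₁, hb₁⟩ := exists_basis_modXR (S := S) (R := R) (A := C) Λ N hN hrank f hf
  obtain ⟨b₂, hb₂⟩ := exists_basis_modXR (S := S) (R := R) (A := C') Λ N' hN' hrank' g hg
  let φl : Λ ⊗[S] C ≃ₗ[Λ ⊗[S] R] Λ ⊗[S] C' :=
    { toFun := φ
      invFun := φ.symm
      left_inv := φ.symm_apply_apply
      right_inv := φ.apply_symm_apply
      map_add' := map_add φ
      map_smul' := fun ρ x => by
        rw [modXR_smul, map_Xi1_mul Λ φ hφ1]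
        rfl }
  let φK := LinearEquiv.baseChange (Λ ⊗[S] R) ((Λ ⊗[S] R) ⧸ I) (Λ ⊗[S] C) (Λ ⊗[S] C') φl
  have hmk : ∀ ρ : Λ ⊗[S] R,
      (Algebra.TensorProduct.congr (AlgEquiv.refl : Λ ≃ₐ[S] Λ) lam ρ) • (1 : (Λ ⊗[S] R) ⧸ I) =
        ρ • (1 : (Λ ⊗[S] R) ⧸ I) := by
    intro ρ
    change Ideal.Quotient.mk I (Algebra.TensorProduct.congr (AlgEquiv.refl : Λ ≃ₐ[S] Λ) lam ρ • 1) =
      Ideal.Quotient.mk I (ρ • 1)
    rw [smul_eq_mul, smul_eq_mul, mul_one, mul_one]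
    exact Ideal.Quotient.eq.mpr (hlamI ρ)
  -- the induced involutions
  let ℓ : Λ ⊗[S] C →ₗ[Λ ⊗[S] R] ((Λ ⊗[S] R) ⧸ I) ⊗[Λ ⊗[S] R] (Λ ⊗[S] C) :=
    { toFun := fun x => (1 : (Λ ⊗[S] R) ⧸ I) ⊗ₜ[Λ ⊗[S] R] T.bc S lam Λ x
      map_add' := fun x y => by rw [map_add, TensorProduct.tmul_add]
      map_smul' := fun ρ x => by
        rw [modXR_smul, bc_Xi1_mul, ← modXR_smul, ← TensorProduct.smul_tmul, hmk,
          TensorProduct.smul_tmul']
        rfl }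
  let ℓ' : Λ ⊗[S] C' →ₗ[Λ ⊗[S] R] ((Λ ⊗[S] R) ⧸ I) ⊗[Λ ⊗[S] R] (Λ ⊗[S] C') :=
    { toFun := fun x => (1 : (Λ ⊗[S] R) ⧸ I) ⊗ₜ[Λ ⊗[S] R] T'.bc S lam Λ x
      map_add' := fun x y => by rw [map_add, TensorProduct.tmul_add]
      map_smul' := fun ρ x => by
        rw [modXR_smul, bc_Xi1_mul, ← modXR_smul, ← TensorProduct.smul_tmul, hmk,
          TensorProduct.smul_tmul']
        rfl }
  let TK := LinearMap.liftBaseChange ((Λ ⊗[S] R) ⧸ I) ℓ
  let TK' := LinearMap.liftBaseChange ((Λ ⊗[S] R) ⧸ I) ℓ'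
  have hTK : ∀ (κ : (Λ ⊗[S] R) ⧸ I) (x : Λ ⊗[S] C),
      TK (κ ⊗ₜ[Λ ⊗[S] R] x) = κ ⊗ₜ[Λ ⊗[S] R] T.bc S lam Λ x := by
    intro κ x
    change κ • ((1 : (Λ ⊗[S] R) ⧸ I) ⊗ₜ[Λ ⊗[S] R] T.bc S lam Λ x) = _
    rw [TensorProduct.smul_tmul', smul_eq_mul, mul_one]
  have hTK' : ∀ (κ : (Λ ⊗[S] R) ⧸ I) (x : Λ ⊗[S] C'),
      TK' (κ ⊗ₜ[Λ ⊗[S] R] x) = κ ⊗ₜ[Λ ⊗[S] R] T'.bc S lam Λ x := by
    intro κ x
    change κ • ((1 : (Λ ⊗[S] R) ⧸ I) ⊗ₜ[Λ ⊗[S] R] T'.bc S lam Λ x) = _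
    rw [TensorProduct.smul_tmul', smul_eq_mul, mul_one]
  have hTK2 : ∀ y, TK (TK y) = y := by
    intro y
    induction y using TensorProduct.induction_on with
    | zero => simp
    | tmul κ x => rw [hTK, hTK, bc_bc]
    | add y y' hy hy' => rw [map_add, map_add, hy, hy']
  have hφKsymm : ∀ (κ : (Λ ⊗[S] R) ⧸ I) (x : Λ ⊗[S] C'),
      φK.symm (κ ⊗ₜ[Λ ⊗[S] R] x) = κ ⊗ₜ[Λ ⊗[S] R] φ.symm x := by
    intro κ x
    rw [LinearEquiv.symm_apply_eq]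
    change _ = κ ⊗ₜ[Λ ⊗[S] R] φ (φ.symm x)
    rw [AlgEquiv.apply_symm_apply]
  have hcompat : ∀ y, TK (φK.symm y) = φK.symm (TK' y) := by
    intro y
    induction y using TensorProduct.induction_on with
    | zero => simp
    | tmul κ x =>
      rw [hφKsymm, hTK, hTK', hφKsymm]
      congr 1
      apply φ.injective
      rw [hφ2, AlgEquiv.apply_symm_apply, AlgEquiv.apply_symm_apply]
    | add y y' hy hy' => rw [map_add, map_add, map_add, map_add, hy, hy']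
  let B₁ := b₁.baseChange ((Λ ⊗[S] R) ⧸ I)
  let B₂ := (b₂.baseChange ((Λ ⊗[S] R) ⧸ I)).map φK.symm
  have hB₁ : ∀ i, B₁ i = (1 : (Λ ⊗[S] R) ⧸ I) ⊗ₜ[Λ ⊗[S] R] f i.1 i.2 := by
    intro i
    change (b₁.baseChange ((Λ ⊗[S] R) ⧸ I)) i = _
    rw [Module.Basis.baseChange_apply, hb₁]
  have hB₂ : ∀ i, B₂ i = (1 : (Λ ⊗[S] R) ⧸ I) ⊗ₜ[Λ ⊗[S] R] φ.symm (g i.1 i.2) := by
    intro i
    change φK.symm ((b₂.baseChange ((Λ ⊗[S] R) ⧸ I)) i) = _
    rw [Module.Basis.baseChange_apply, hb₂, hφKsymm]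
  have hne : (1 : (Λ ⊗[S] R) ⧸ I) ≠ -1 := by
    intro h
    have h0 : (2 : (Λ ⊗[S] R) ⧸ I) = 0 := by linear_combination h
    rw [h0] at h2K
    exact not_isUnit_zero h2K
  have hcK : ∀ a b, ((c a b : ℤ) : (Λ ⊗[S] R) ⧸ I) = 1 ∨ ((c a b : ℤ) : (Λ ⊗[S] R) ⧸ I) = -1 := by
    intro a b
    rcases hc a b with h | h <;> rw [h] <;> simp
  have key := Groth.Agent.S17360.sig_le h2K TK hTK2
    B₁ (fun i => (i.2, i.1)) (fun _ => 1) (fun i => rfl) (fun _ => Or.inl rfl)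
    (fun i => by rw [hB₁, hB₁, hTK, hfsym, one_smul])
    B₂ (fun i => (π i.2, π i.1)) (fun i => ((c i.1 i.2 : ℤ) : (Λ ⊗[S] R) ⧸ I))
    (fun i => by simp only [hπ])
    (fun i => hcK i.1 i.2)
    (fun i => by
      rw [hB₂, hB₂, hTK]
      have h3 : T.bc S lam Λ (φ.symm (g i.1 i.2)) = φ.symm (T'.bc S lam Λ (g i.1 i.2)) := by
        apply φ.injective
        rw [hφ2, AlgEquiv.apply_symm_apply, AlgEquiv.apply_symm_apply]
      rw [h3, hgsym, map_zsmul, Int.cast_smul_eq_zsmul]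
      exact map_zsmul (TensorProduct.mk (Λ ⊗[S] R) ((Λ ⊗[S] R) ⧸ I) (Λ ⊗[S] C) 1) _ _)
  have hN1 : 0 < Nat.card {i : Fin N × Fin N // (i.2, i.1) = i ∧ (1 : (Λ ⊗[S] R) ⧸ I) = 1} :=
    Nat.card_pos_iff.mpr ⟨⟨⟨(⟨0, hN⟩, ⟨0, hN⟩), rfl, rfl⟩⟩, inferInstance⟩
  have hN2 : Nat.card {i : Fin N × Fin N // (i.2, i.1) = i ∧ (1 : (Λ ⊗[S] R) ⧸ I) = -1} = 0 := by
    haveI : IsEmpty {i : Fin N × Fin N // (i.2, i.1) = i ∧ (1 : (Λ ⊗[S] R) ⧸ I) = -1} :=
      ⟨fun x => hne x.2.2⟩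
    exact Nat.card_of_isEmpty
  have hN3 : Nat.card {i : Fin N' × Fin N' //
      (π i.2, π i.1) = i ∧ ((c i.1 i.2 : ℤ) : (Λ ⊗[S] R) ⧸ I) = 1} = 0 := by
    haveI : IsEmpty {i : Fin N' × Fin N' //
        (π i.2, π i.1) = i ∧ ((c i.1 i.2 : ℤ) : (Λ ⊗[S] R) ⧸ I) = 1} := by
      refine ⟨fun x => ?_⟩
      obtain ⟨⟨a, d⟩, h1, h3⟩ := x
      have h4 : π a = d := congrArg Prod.snd h1
      have h5 : ((c a d : ℤ) : (Λ ⊗[S] R) ⧸ I) = -1 := by
        rw [← h4, hneg]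
        simp
      exact hne (h3.symm.trans h5)
    exact Nat.card_of_isEmpty
  rw [hN2, hN3] at key
  omega

end Kind

end Groth.Agent.Lib.Helper19EtLoc
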