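import Mathlib
import Groth.Prelude.Def_FEt
import Groth.Agent.Lib.Helper20EtHom

set_option autoImplicit false
universe u

open CategoryTheory CategoryTheory.Limits AlgebraicGeometry

namespace Groth.Agent.Lib.Helper20.FEtFaith

/-- The locus where two `S`-morphisms into a separated unramified `S`-scheme agree is clopen. -/
theorem exists_isClopen_agree {S A B : Scheme.{u}} (a : A ⟶ S) (b : B ⟶ S)
    [FormallyUnramified b] [LocallyOfFiniteType b] [IsSeparated b]
    (φ ψ : A ⟶ B) (hφ : φ ≫ b = a) (hψ : ψ ≫ b = a) :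
    ∃ C : Set A, IsClopen C ∧
      (∀ {T : Scheme.{u}} (t : T ⟶ A), t ≫ φ = t ≫ ψ → Set.range t ⊆ C) ∧
      (C = Set.univ → φ = ψ) := by
  let X' : Over S := Over.mk b
  let Y' : Over S := Over.mk a
  let φ' : Y' ⟶ X' := Over.homMk φ hφ
  let ψ' : Y' ⟶ X' := Over.homMk ψ hψ
  have hsep : IsSeparated X'.hom := ‹_›
  have hunr : FormallyUnramified X'.hom := ‹_›
  have hlft : LocallyOfFiniteType X'.hom := ‹_›
  have hclosed : IsClosedImmersion (equalizer.ι φ' ψ').left := inferInstance
  have hopen : IsOpenImmersion (equalizer.ι φ' ψ').left :=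
    Groth.Agent.Lib.Helper20.EtHom.isOpenImmersion_equalizer_ι_left φ' ψ'
  refine ⟨Set.range (equalizer.ι φ' ψ').left,
    ⟨(equalizer.ι φ' ψ').left.isClosedEmbedding.isClosed_range,
      (equalizer.ι φ' ψ').left.isOpenEmbedding.isOpen_range⟩, ?_, ?_⟩
  · intro T t ht
    let T' : Over S := Over.mk (t ≫ a)
    let t' : T' ⟶ Y' := Over.homMk t rfl
    have hι : t' ≫ φ' = t' ≫ ψ' := by ext1; exact ht
    rintro _ ⟨x, rfl⟩
    refine ⟨(equalizer.lift t' hι).left x, ?_⟩
    rw [← Scheme.Hom.comp_apply, ← Over.comp_left, equalizer.lift_ι]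
    rfl
  · intro hrange
    have hsurj : Surjective (equalizer.ι φ' ψ').left := ⟨Set.range_eq_univ.mp hrange⟩
    have hiso : IsIso (equalizer.ι φ' ψ').left :=
      (isIso_iff_isOpenImmersion_and_surjective _).2 ⟨hopen, hsurj⟩
    rw [← cancel_epi (equalizer.ι φ' ψ').left]
    exact congr($(equalizer.condition φ' ψ').left)

/-- Generic faithfulness criterion for restriction of finite étale covers. -/
theorem faithful_of_forall_clopen {X Y : Scheme.{u}} (f : X ⟶ Y)
    (H : ∀ (A : FEt.Cat Y) (C : Set A.left), IsClopen C → A.hom ⁻¹' Set.range f ⊆ C →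
      C = Set.univ) :
    (FEt.restrict f).Faithful := by
  constructor
  intro A B φ ψ h
  have hB : IsFinite B.hom ∧ Etale B.hom := B.prop
  have hB1 : IsFinite B.hom := hB.1
  have hB2 : Etale B.hom := hB.2
  obtain ⟨C, hC, hC1, hC2⟩ := exists_isClopen_agree A.hom B.hom φ.left ψ.left
    (MorphismProperty.Over.w φ) (MorphismProperty.Over.w ψ)
  apply MorphismProperty.Over.Hom.ext
  apply hC2
  apply H A C hC
  have hfst : pullback.fst A.hom f ≫ φ.left = pullback.fst A.hom f ≫ ψ.left := by
    have h1 : ((FEt.restrict f).map φ).left ≫ pullback.fst B.hom f =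
        pullback.fst A.hom f ≫ φ.left := by
      dsimp [FEt.restrict, MorphismProperty.Over.pullback]
      exact pullback.lift_fst _ _ _
    have h2 : ((FEt.restrict f).map ψ).left ≫ pullback.fst B.hom f =
        pullback.fst A.hom f ≫ ψ.left := by
      dsimp [FEt.restrict, MorphismProperty.Over.pullback]
      exact pullback.lift_fst _ _ _
    rw [← h1, ← h2, h]
  have := hC1 (pullback.fst A.hom f) hfst
  rwa [Scheme.Pullback.range_fst] at this

end Groth.Agent.Lib.Helper20.FEtFaith
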