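import Mathlib
import Groth.Agent.Lib.Helper19EtLocM
import Groth.Agent.Lib.Helper19ZarGlue
import Groth.Agent.S5062

/-!
# Étale-local solvability (helper19), part X: isomorphisms of algebras with involution over a
varying base — base change, finite products, and covers from local data
-/

set_option autoImplicit false
set_option linter.style.haveILetI false
set_option linter.unusedSectionVars false

open TensorProduct

namespace Groth.Agent.Lib.Helper19EtLoc

open Groth.Agent.Lib.Helper19AzSplit Groth.Agent.Lib.Helper19SemiSN AzInv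
  Groth.Agent.Lib.LeadAzumaya

universe u v w w'

section IsoOver

variable {S : Type u} {R : Type v} [CommRing S] [CommRing R] [Algebra S R] (lam : R ≃ₐ[S] R)
  {A : Type w} [Ring A] [Algebra S A] [Algebra R A] [IsScalarTower S R A] (t : LamInv R A lam)
  {A' : Type w'} [Ring A'] [Algebra S A'] [Algebra R A'] [IsScalarTower S R A']
  (t' : LamInv R A' lam)

/-- `(A, t)` and `(A', t')` become isomorphic over `X` -/
def IsoOver (X : Type u) [CommRing X] [Algebra S X] : Prop :=
  ∃ f : X ⊗[S] A ≃ₐ[X] X ⊗[S] A',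
    (∀ (r : R) (x : X ⊗[S] A),
      f (((1 : X) ⊗ₜ[S] algebraMap R A r) * x) = ((1 : X) ⊗ₜ[S] algebraMap R A' r) * f x) ∧
    ∀ x : X ⊗[S] A, f (t.bc S lam X x) = t'.bc S lam X (f x)

variable {lam t t'}

theorem IsoOver.symm {X : Type u} [CommRing X] [Algebra S X] (h : IsoOver lam t t' X) :
    IsoOver lam t' t X := by
  obtain ⟨f, h1, h2⟩ := h
  refine ⟨f.symm, fun r x => ?_, fun x => ?_⟩
  · apply f.injective
    rw [h1, AlgEquiv.apply_symm_apply, AlgEquiv.apply_symm_apply]
  · apply f.injective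
    rw [h2, AlgEquiv.apply_symm_apply, AlgEquiv.apply_symm_apply]

section BaseChange

variable {X Y : Type u} [CommRing X] [Algebra S X] [CommRing Y] [Algebra S Y] (σ : X →ₐ[S] Y)

theorem tmul_one_comm (y : Y) (z : Y ⊗[S] A') :
    (y ⊗ₜ[S] (1 : A')) * z = z * (y ⊗ₜ[S] (1 : A')) := by
  induction z using TensorProduct.induction_on with
  | zero => simp
  | tmul y' a' =>
    rw [Algebra.TensorProduct.tmul_mul_tmul, Algebra.TensorProduct.tmul_mul_tmul, mul_comm,
      one_mul, mul_one]
  | add z z' hz hz' => rw [mul_add, add_mul, hz, hz']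

/-- base change of an `X`-algebra homomorphism `X ⊗ A → X ⊗ A'` along `σ : X → Y` -/
noncomputable def bcHom (f : X ⊗[S] A →ₐ[X] X ⊗[S] A') : Y ⊗[S] A →ₐ[Y] Y ⊗[S] A' :=
  Algebra.TensorProduct.lift (Algebra.TensorProduct.includeLeft : Y →ₐ[Y] Y ⊗[S] A')
    ((Algebra.TensorProduct.map σ (AlgHom.id S A')).comp
      ((f.restrictScalars S).comp (Algebra.TensorProduct.includeRight : A →ₐ[S] X ⊗[S] A)))
    (fun y a => tmul_one_comm y _)

theorem bcHom_tmul (f : X ⊗[S] A →ₐ[X] X ⊗[S] A') (y : Y) (a : A) :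
    bcHom σ f (y ⊗ₜ[S] a) =
      (y ⊗ₜ[S] (1 : A')) * Algebra.TensorProduct.map σ (AlgHom.id S A') (f ((1 : X) ⊗ₜ[S] a)) := by
  unfold bcHom
  rw [Algebra.TensorProduct.lift_tmul]
  rfl

theorem bcHom_nat (f : X ⊗[S] A →ₐ[X] X ⊗[S] A') (z : X ⊗[S] A) :
    bcHom σ f (Algebra.TensorProduct.map σ (AlgHom.id S A) z) =
      Algebra.TensorProduct.map σ (AlgHom.id S A') (f z) := by
  induction z using TensorProduct.induction_on with
  | zero => simp
  | tmul x a =>
    rw [Algebra.TensorProduct.map_tmul, bcHom_tmul]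
    have h1 : (x ⊗ₜ[S] a : X ⊗[S] A) = x • ((1 : X) ⊗ₜ[S] a) := by
      rw [TensorProduct.smul_tmul', smul_eq_mul, mul_one]
    rw [h1, map_smul, Algebra.smul_def, map_mul]
    congr 1
  | add z z' hz hz' => rw [map_add, map_add, hz, hz', map_add, map_add]

theorem bcHom_comp {A'' : Type*} [Ring A''] [Algebra S A'']
    (f : X ⊗[S] A →ₐ[X] X ⊗[S] A') (g : X ⊗[S] A' →ₐ[X] X ⊗[S] A'') (w : Y ⊗[S] A) :
    bcHom σ g (bcHom σ f w) = bcHom σ (g.comp f) w := by
  induction w using TensorProduct.induction_on with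
  | zero => simp
  | tmul y a =>
    rw [bcHom_tmul, map_mul, bcHom_nat, bcHom_tmul, bcHom_tmul]
    congr 1
    rw [← Algebra.TensorProduct.one_def, map_one, map_one, mul_one]
  | add z z' hz hz' => rw [map_add, map_add, hz, hz', map_add]

theorem bcHom_id (w : Y ⊗[S] A) : bcHom σ (AlgHom.id X (X ⊗[S] A)) w = w := by
  induction w using TensorProduct.induction_on with
  | zero => simp
  | tmul y a =>
    rw [bcHom_tmul]
    simp
  | add z z' hz hz' => rw [map_add, hz, hz']

include σ in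
/-- isomorphisms of algebras with involution pull back along a change of base -/
theorem IsoOver.map (h : IsoOver lam t t' X) : IsoOver lam t t' Y := by
  obtain ⟨f, h1, h2⟩ := h
  let F : Y ⊗[S] A ≃ₐ[Y] Y ⊗[S] A' :=
    AlgEquiv.ofAlgHom (bcHom σ (f : X ⊗[S] A →ₐ[X] X ⊗[S] A'))
      (bcHom σ (f.symm : X ⊗[S] A' →ₐ[X] X ⊗[S] A))
      (by
        refine AlgHom.ext fun w => ?_
        change bcHom σ _ (bcHom σ _ w) = w
        rw [bcHom_comp]
        have : (f : X ⊗[S] A →ₐ[X] X ⊗[S] A').comp (f.symm : X ⊗[S] A' →ₐ[X] X ⊗[S] A) =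
            AlgHom.id X _ := AlgHom.ext fun z => f.apply_symm_apply z
        rw [this, bcHom_id])
      (by
        refine AlgHom.ext fun w => ?_
        change bcHom σ _ (bcHom σ _ w) = w
        rw [bcHom_comp]
        have : (f.symm : X ⊗[S] A' →ₐ[X] X ⊗[S] A).comp (f : X ⊗[S] A →ₐ[X] X ⊗[S] A') =
            AlgHom.id X _ := AlgHom.ext fun z => f.symm_apply_apply z
        rw [this, bcHom_id])
  have hF : ∀ w, F w = bcHom σ (f : X ⊗[S] A →ₐ[X] X ⊗[S] A') w := fun w => rfl
  refine ⟨F, fun r x => ?_, fun x => ?_⟩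
  · rw [map_mul]
    congr 1
    rw [hF, bcHom_tmul]
    have h3 := h1 r 1
    rw [mul_one, map_one, mul_one] at h3
    change (1 : Y) ⊗ₜ[S] (1 : A') * Algebra.TensorProduct.map σ (AlgHom.id S A')
      (f ((1 : X) ⊗ₜ[S] algebraMap R A r)) = _
    rw [h3, Algebra.TensorProduct.map_tmul, map_one, ← Algebra.TensorProduct.one_def, one_mul]
    rfl
  · induction x using TensorProduct.induction_on with
    | zero => simp
    | tmul y a =>
      rw [LamInv.bc_tmul, hF, hF, bcHom_tmul, bcHom_tmul, bc_mul]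
      have h3 : (1 : X) ⊗ₜ[S] t a = t.bc S lam X ((1 : X) ⊗ₜ[S] a) := by rw [LamInv.bc_tmul]
      change _ * Algebra.TensorProduct.map σ (AlgHom.id S A') (f ((1 : X) ⊗ₜ[S] t a)) = _
      rw [h3, h2, bc_nat, LamInv.bc_tmul, t'.map_one]
      exact tmul_one_comm y _
    | add x x' hx hx' => rw [map_add, map_add, hx, hx', map_add, map_add]

end BaseChange

end IsoOver

section Pi

open Groth.Agent.Lib.Helper19ZarGlue

variable {S : Type u} {R : Type v} [CommRing S] [CommRing R] [Algebra S R] {lam : R ≃ₐ[S] R}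
  {A : Type w} [Ring A] [Algebra S A] [Algebra R A] [IsScalarTower S R A] {t : LamInv R A lam}
  {A' : Type w'} [Ring A'] [Algebra S A'] [Algebra R A'] [IsScalarTower S R A']
  {t' : LamInv R A' lam}

/-- isomorphisms over the factors glue to an isomorphism over a finite product -/
theorem IsoOver.pi (m : ℕ) (E : Fin m → Type u) [∀ k, CommRing (E k)] [∀ k, Algebra S (E k)]
    (h : ∀ k, IsoOver lam t t' (E k)) : IsoOver lam t t' (∀ k, E k) := by
  classical
  choose f h1 h2 using h
  let F₀ : (∀ k, E k) ⊗[S] A ≃ₐ[S] (∀ k, E k) ⊗[S] A' :=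
    (PhiEquiv E A).trans
      ((AlgEquiv.piCongrRight fun k => (f k).restrictScalars S).trans (PhiEquiv E A').symm)
  have hproj : ∀ (k : Fin m) (x : (∀ k, E k) ⊗[S] A), proj E A' k (F₀ x) = f k (proj E A k x) := by
    intro k x
    rw [← PhiEquiv_apply]
    change PhiEquiv E A' ((PhiEquiv E A').symm
      ((AlgEquiv.piCongrRight fun k => (f k).restrictScalars S) (PhiEquiv E A x))) k = _
    rw [AlgEquiv.apply_symm_apply]
    change f k (PhiEquiv E A x k) = _
    rw [PhiEquiv_apply]
  have hcomm : ∀ s : (∀ k, E k), F₀ (algebraMap (∀ k, E k) ((∀ k, E k) ⊗[S] A) s) =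
      algebraMap (∀ k, E k) ((∀ k, E k) ⊗[S] A') s := by
    intro s
    apply proj_injective
    intro k
    rw [hproj, Algebra.TensorProduct.algebraMap_apply, Algebra.TensorProduct.algebraMap_apply,
      Algebra.algebraMap_self_apply, proj_tmul, proj_tmul]
    have := (f k).commutes (s k)
    rwa [Algebra.TensorProduct.algebraMap_apply, Algebra.TensorProduct.algebraMap_apply,
      Algebra.algebraMap_self_apply] at this
  refine ⟨AlgEquiv.ofRingEquiv (f := F₀.toRingEquiv) hcomm, fun r x => ?_, fun x => ?_⟩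
  · change F₀ (((1 : ∀ k, E k) ⊗ₜ[S] algebraMap R A r) * x) =
      ((1 : ∀ k, E k) ⊗ₜ[S] algebraMap R A' r) * F₀ x
    apply proj_injective
    intro k
    rw [hproj, map_mul, map_mul (proj E A' k), hproj, proj_tmul, proj_tmul]
    exact h1 k r _
  · change F₀ (t.bc S lam (∀ k, E k) x) = t'.bc S lam (∀ k, E k) (F₀ x)
    apply proj_injective
    intro k
    rw [hproj]
    change f k (Algebra.TensorProduct.map (Pi.evalAlgHom S E k) (AlgHom.id S A)
      (t.bc S lam (∀ k, E k) x)) =
      Algebra.TensorProduct.map (Pi.evalAlgHom S E k) (AlgHom.id S A')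
        (t'.bc S lam (∀ k, E k) (F₀ x))
    rw [bc_nat, bc_nat, h2]
    congr 1
    exact (hproj k x).symm

end Pi

section Cover

variable {S : Type u} [CommRing S]

/-- a property of `S`-algebras which holds étale-locally at every prime and passes to finite
products holds over an étale faithfully flat `S`-algebra -/
theorem exists_cover_of_local (P : ∀ (E : Type u) [CommRing E] [Algebra S E], Prop)
    (hpi : ∀ (m : ℕ) (E : Fin m → Type u) [∀ k, CommRing (E k)] [∀ k, Algebra S (E k)],
      (∀ k, P (E k)) → P (∀ k, E k))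
    (H : ∀ (p : Ideal S) [p.IsPrime], ∃ (E : Type u) (_ : CommRing E) (_ : Algebra S E),
      Algebra.Etale S E ∧ (∃ Q : Ideal E, Q.IsPrime ∧ Q.comap (algebraMap S E) = p) ∧ P E) :
    ∃ (S' : Type u) (_ : CommRing S') (_ : Algebra S S'), Algebra.Etale S S' ∧
      Module.FaithfullyFlat S S' ∧ P S' := by
  classical
  have H' : ∀ x : PrimeSpectrum S, ∃ (E : Type u) (_ : CommRing E) (_ : Algebra S E),
      Algebra.Etale S E ∧ (∃ Q : Ideal E, Q.IsPrime ∧ Q.comap (algebraMap S E) = x.asIdeal) ∧ P E :=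
    fun x => H x.asIdeal
  choose E instCR instAlg hEt hQ hSol using H'
  letI : ∀ x, CommRing (E x) := instCR
  letI : ∀ x, Algebra S (E x) := instAlg
  haveI : ∀ x, Algebra.Etale S (E x) := hEt
  let U : PrimeSpectrum S → Set (PrimeSpectrum S) := fun x =>
    Set.range (PrimeSpectrum.comap (algebraMap S (E x)))
  have hopen : ∀ x, IsOpen (U x) := fun x =>
    (PrimeSpectrum.isOpenMap_comap_of_hasGoingDown_of_finitePresentation
      (R := S) (S := E x)).isOpen_range
  have hmem : ∀ x, x ∈ U x := by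
    intro x
    obtain ⟨Q, hQp, hQx⟩ := hQ x
    exact ⟨⟨Q, hQp⟩, PrimeSpectrum.ext hQx⟩
  obtain ⟨t, ht⟩ := isCompact_univ.elim_finite_subcover U hopen
    (fun x _ => Set.mem_iUnion.mpr ⟨x, hmem x⟩)
  let m := t.card
  let idx : Fin m → PrimeSpectrum S := fun k => (t.equivFin.symm k).1
  have hidx : ∀ x ∈ t, ∃ k, idx k = x := by
    intro x hx
    refine ⟨t.equivFin ⟨x, hx⟩, ?_⟩
    simp [idx]
  let S' := ∀ k : Fin m, E (idx k)
  haveI hflat : Module.Flat S S' :=
    Module.Flat.of_linearEquiv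
      (DirectSum.linearEquivFunOnFintype S (Fin m) (fun k => E (idx k))).symm
  have hsurj : Function.Surjective (PrimeSpectrum.comap (algebraMap S S')) := by
    intro y
    have hy := ht (Set.mem_univ y)
    simp only [Set.mem_iUnion] at hy
    obtain ⟨x, hx, q, hq⟩ := hy
    obtain ⟨k, hk⟩ := hidx x hx
    subst hk
    refine ⟨PrimeSpectrum.comap (Pi.evalRingHom (fun k => E (idx k)) k) q, ?_⟩
    rw [← hq, ← PrimeSpectrum.comap_comp_apply]
    rfl
  exact ⟨S', inferInstance, inferInstance, inferInstance,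
    Module.FaithfullyFlat.of_comap_surjective hsurj,
    hpi m (fun k => E (idx k)) (fun k => hSol (idx k))⟩

end Cover

section SamePattern

variable {S : Type u} {R : Type v} [CommRing S] [CommRing R] [Algebra S R] (lam : R ≃ₐ[S] R)
  (n : ℕ) (π : Fin n → Fin n) (c : Fin n → Fin n → ℤ)

/-- the shape of an involution on matrix entries with respect to permuted matrix units -/
noncomputable def patMap : Matrix (Fin n) (Fin n) R →ₗ[S] Matrix (Fin n) (Fin n) R where
  toFun M := Matrix.of fun a b => c (π b) (π a) • lam (M (π b) (π a))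
  map_add' M M' := by
    ext a b
    simp [smul_add]
  map_smul' s M := by
    ext a b
    simp only [Matrix.of_apply, Matrix.smul_apply, RingHom.id_apply, map_smul]
    rw [smul_comm]

theorem patMap_apply (M : Matrix (Fin n) (Fin n) R) (a b : Fin n) :
    patMap lam n π c M a b = c (π b) (π a) • lam (M (π b) (π a)) := rfl

variable {A : Type w} [Ring A] [Algebra S A] [Algebra R A] [IsScalarTower S R A] [IsAzumaya R A]
  (t : LamInv R A lam) (X : Type u) [CommRing X] [Algebra S X]

/-- the base-changed involution in terms of the isomorphism given by permuted matrix units -/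
theorem bc_eq_of_patMatUnits (hπ : ∀ a, π (π a) = a)
    (e : Fin n → Fin n → X ⊗[S] A)
    (hsym : ∀ a b, t.bc S lam X (e a b) = c a b • e (π b) (π a))
    (G : X ⊗[S] Matrix (Fin n) (Fin n) R ≃ₐ[X] X ⊗[S] A)
    (hG : ∀ (s : X) (M : Matrix (Fin n) (Fin n) R),
      G (s ⊗ₜ[S] M) = ∑ a, ∑ b, (s ⊗ₜ[S] algebraMap R A (M a b)) * e a b)
    (y : X ⊗[S] Matrix (Fin n) (Fin n) R) :
    t.bc S lam X (G y) = G (LinearMap.baseChange X (patMap lam n π c) y) := by
  classical
  let πe : Fin n ≃ Fin n := ⟨π, π, hπ, hπ⟩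
  induction y using TensorProduct.induction_on with
  | zero => simp
  | tmul s M =>
    rw [LinearMap.baseChange_tmul, hG, hG, map_sum]
    have hR : ∀ a, t.bc S lam X (∑ b, (s ⊗ₜ[S] algebraMap R A (M a b)) * e a b) =
        ∑ b, (s ⊗ₜ[S] algebraMap R A (c a b • lam (M a b))) * e (π b) (π a) := by
      intro a
      rw [map_sum]
      refine Finset.sum_congr rfl fun b _ => ?_
      rw [bc_scalar_mul, hsym, map_zsmul, TensorProduct.tmul_smul, smul_mul_assoc,
        mul_smul_comm]
    simp only [hR]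
    rw [Finset.sum_comm]
    refine Fintype.sum_equiv πe _ _ (fun b => ?_)
    refine Fintype.sum_equiv πe _ _ (fun a => ?_)
    change (s ⊗ₜ[S] algebraMap R A (c a b • lam (M a b))) * e (π b) (π a) =
      (s ⊗ₜ[S] algebraMap R A (patMap lam n π c M (π b) (π a))) * e (π b) (π a)
    rw [patMap_apply, hπ, hπ]
  | add y y' hy hy' => rw [map_add, map_add, map_add, hy, hy', map_add]

variable {A' : Type w'} [Ring A'] [Algebra S A'] [Algebra R A'] [IsScalarTower S R A']
  [IsAzumaya R A'] (t' : LamInv R A' lam)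

/-- two algebras with involution carrying matrix units with the same pattern are isomorphic -/
theorem isoOver_of_patMatUnits (hn : 0 < n) (hπ : ∀ a, π (π a) = a)
    (hrank : ∀ p : PrimeSpectrum R, Module.rankAtStalk (R := R) A p = n ^ 2)
    (hrank' : ∀ p : PrimeSpectrum R, Module.rankAtStalk (R := R) A' p = n ^ 2)
    (e : Fin n → Fin n → X ⊗[S] A) (he : IsMatUnits e)
    (hsym : ∀ a b, t.bc S lam X (e a b) = c a b • e (π b) (π a))
    (e' : Fin n → Fin n → X ⊗[S] A') (he' : IsMatUnits e')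
    (hsym' : ∀ a b, t'.bc S lam X (e' a b) = c a b • e' (π b) (π a)) :
    IsoOver lam t t' X := by
  classical
  obtain ⟨G, hG⟩ := exists_algEquiv_of_matUnits' (S := S) (R := R) (A := A) n X hn hrank e he
  obtain ⟨G', hG'⟩ := exists_algEquiv_of_matUnits' (S := S) (R := R) (A := A') n X hn hrank' e' he'
  have hGR : ∀ (r : R) (y : X ⊗[S] Matrix (Fin n) (Fin n) R),
      G (((1 : X) ⊗ₜ[S] algebraMap R (Matrix (Fin n) (Fin n) R) r) * y) =
        ((1 : X) ⊗ₜ[S] algebraMap R A r) * G y := by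
    intro r y
    rw [map_mul]
    congr 1
    rw [hG]
    have h1 : ∀ a : Fin n,
        ∑ b, ((1 : X) ⊗ₜ[S] algebraMap R A (algebraMap R (Matrix (Fin n) (Fin n) R) r a b)) * e a b =
        ((1 : X) ⊗ₜ[S] algebraMap R A r) * e a a := by
      intro a
      rw [Finset.sum_eq_single a]
      · rw [Matrix.algebraMap_matrix_apply, if_pos rfl, Algebra.algebraMap_self_apply]
      · intro b _ hb
        rw [Matrix.algebraMap_matrix_apply, if_neg (Ne.symm hb), map_zero, TensorProduct.tmul_zero,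
          zero_mul]
      · intro h
        exact absurd (Finset.mem_univ a) h
    simp only [h1]
    rw [← Finset.mul_sum, he.sum, mul_one]
  have hGR' : ∀ (r : R) (y : X ⊗[S] Matrix (Fin n) (Fin n) R),
      G' (((1 : X) ⊗ₜ[S] algebraMap R (Matrix (Fin n) (Fin n) R) r) * y) =
        ((1 : X) ⊗ₜ[S] algebraMap R A' r) * G' y := by
    intro r y
    rw [map_mul]
    congr 1
    rw [hG']
    have h1 : ∀ a : Fin n,
        ∑ b, ((1 : X) ⊗ₜ[S] algebraMap R A' (algebraMap R (Matrix (Fin n) (Fin n) R) r a b)) *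
          e' a b = ((1 : X) ⊗ₜ[S] algebraMap R A' r) * e' a a := by
      intro a
      rw [Finset.sum_eq_single a]
      · rw [Matrix.algebraMap_matrix_apply, if_pos rfl, Algebra.algebraMap_self_apply]
      · intro b _ hb
        rw [Matrix.algebraMap_matrix_apply, if_neg (Ne.symm hb), map_zero, TensorProduct.tmul_zero,
          zero_mul]
      · intro h
        exact absurd (Finset.mem_univ a) h
    simp only [h1]
    rw [← Finset.mul_sum, he'.sum, mul_one]
  refine ⟨G.symm.trans G', fun r x => ?_, fun x => ?_⟩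
  · change G' (G.symm (((1 : X) ⊗ₜ[S] algebraMap R A r) * x)) =
      ((1 : X) ⊗ₜ[S] algebraMap R A' r) * G' (G.symm x)
    rw [← hGR']
    congr 1
    apply G.injective
    rw [AlgEquiv.apply_symm_apply, hGR, AlgEquiv.apply_symm_apply]
  · change G' (G.symm (t.bc S lam X x)) = t'.bc S lam X (G' (G.symm x))
    rw [bc_eq_of_patMatUnits lam n π c t' X hπ e' hsym' G' hG']
    congr 1
    apply G.injective
    rw [AlgEquiv.apply_symm_apply, ← bc_eq_of_patMatUnits lam n π c t X hπ e hsym G hG,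
      AlgEquiv.apply_symm_apply]

end SamePattern

section Nbhd

/-- a prime in the image of two spectra is in the image of the spectrum of the tensor product -/
theorem mem_range_tensor {R : Type u} [CommRing R] (E₁ E₂ : Type u) [CommRing E₁]
    [CommRing E₂] [Algebra R E₁] [Algebra R E₂] (p : PrimeSpectrum R)
    (h₁ : p ∈ Set.range (PrimeSpectrum.comap (algebraMap R E₁)))
    (h₂ : p ∈ Set.range (PrimeSpectrum.comap (algebraMap R E₂))) :
    p ∈ Set.range (PrimeSpectrum.comap (algebraMap R (E₁ ⊗[R] E₂))) := by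
  let K := p.asIdeal.ResidueField
  haveI : Nontrivial (K ⊗[R] E₁) := (PrimeSpectrum.nontrivial_iff_mem_rangeComap p).mpr h₁
  haveI : Nontrivial (K ⊗[R] E₂) := (PrimeSpectrum.nontrivial_iff_mem_rangeComap p).mpr h₂
  haveI : Module.FaithfullyFlat K (K ⊗[R] E₁) := inferInstance
  haveI : Nontrivial ((K ⊗[R] E₁) ⊗[K] (K ⊗[R] E₂)) :=
    Module.FaithfullyFlat.lTensor_nontrivial K (K ⊗[R] E₁) (K ⊗[R] E₂)
  let e1 : (K ⊗[R] E₁) ⊗[K] (K ⊗[R] E₂) ≃ₗ[K] (K ⊗[R] E₁) ⊗[R] E₂ :=
    TensorProduct.AlgebraTensorModule.cancelBaseChange R K K (K ⊗[R] E₁) E₂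
  let e2 : (K ⊗[R] E₁) ⊗[R] E₂ ≃ₗ[R] K ⊗[R] (E₁ ⊗[R] E₂) := TensorProduct.assoc R K E₁ E₂
  apply (PrimeSpectrum.nontrivial_iff_mem_rangeComap p).mp
  by_contra hne
  rw [not_nontrivial_iff_subsingleton] at hne
  haveI := hne
  haveI : Subsingleton ((K ⊗[R] E₁) ⊗[R] E₂) := e2.toEquiv.subsingleton
  haveI : Subsingleton ((K ⊗[R] E₁) ⊗[K] (K ⊗[R] E₂)) := e1.toEquiv.subsingleton
  exact not_subsingleton _ ‹_›

open IsLocalRing in
/-- an étale faithfully flat algebra maps to every strictly henselian local algebra -/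
theorem exists_algHom_of_etale_ff {S : Type u} [CommRing S] (S₁ : Type u) [CommRing S₁]
    [Algebra S S₁] [Algebra.Etale S S₁] [Module.FaithfullyFlat S S₁]
    (Λ : Type u) [CommRing Λ] [Algebra S Λ] [HenselianLocalRing Λ]
    [IsSepClosed (ResidueField Λ)] : Nonempty (S₁ →ₐ[S] Λ) := by
  haveI : Module.FaithfullyFlat Λ (Λ ⊗[S] S₁) := inferInstance
  haveI : Algebra.Etale Λ (Λ ⊗[S] S₁) := inferInstance
  obtain ⟨q, hq⟩ := PrimeSpectrum.comap_surjective_of_faithfullyFlat (A := Λ) (B := Λ ⊗[S] S₁)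
    (IsLocalRing.closedPoint Λ)
  haveI := q.isPrime
  obtain ⟨τ, -⟩ := Groth.Agent.S5062.exists_retraction_through_prime Λ (Λ ⊗[S] S₁) q.asIdeal
    (congrArg PrimeSpectrum.asIdeal hq)
  exact ⟨(τ.restrictScalars S).comp (Algebra.TensorProduct.includeRight : S₁ →ₐ[S] Λ ⊗[S] S₁)⟩

end Nbhd

end Groth.Agent.Lib.Helper19EtLoc
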