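import Mathlib
import Groth.Prelude.Def_W4c4lgringredgrpLG
import Groth.Agent.S16597

set_option autoImplicit false
universe u v

namespace Groth.Agent.Lib.Helper22.LGProj
open MvPolynomial TensorProduct

section Mat
variable {k : Type*} [CommRing k]

/-- "matrix" of a linear map with respect to generators `g` of the source and coordinate
functionals `lam'` of the target -/
def Mat {V V' : Type*} [AddCommGroup V] [Module k V] [AddCommGroup V'] [Module k V']
    {a b : ℕ} (g : Fin a → V) (lam' : Fin b → (V' →ₗ[k] k)) (w : V →ₗ[k] V') :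
    Matrix (Fin b) (Fin a) k := Matrix.of fun j l => lam' j (w (g l))

lemma Mat_comp {V V' V'' : Type*} [AddCommGroup V] [Module k V] [AddCommGroup V'] [Module k V']
    [AddCommGroup V''] [Module k V'']
    {a b c : ℕ} (g : Fin a → V) (g' : Fin b → V') (lam' : Fin b → (V' →ₗ[k] k))
    (hrec' : ∀ v, v = ∑ j, lam' j v • g' j) (lam'' : Fin c → (V'' →ₗ[k] k))
    (w : V →ₗ[k] V') (w' : V' →ₗ[k] V'') :
    Mat g lam'' (w' ∘ₗ w) = Mat g' lam'' w' * Mat g lam' w := by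
  ext j l
  simp only [Mat, Matrix.of_apply, Matrix.mul_apply, LinearMap.comp_apply]
  conv_lhs => rw [hrec' (w (g l))]
  rw [map_sum, map_sum]
  refine Finset.sum_congr rfl fun x _ => ?_
  rw [map_smul, map_smul, smul_eq_mul, mul_comm]

/-- the test matrix -/
def Tmat {a b : ℕ} (E₁ : Matrix (Fin a) (Fin a) k) (E₂ : Matrix (Fin b) (Fin b) k)
    (X : Matrix (Fin b) (Fin a) k) (Y : Matrix (Fin a) (Fin b) k) : Matrix (Fin a) (Fin a) k :=
  E₁ * Y * E₂ * X * E₁ + 1 - E₁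

lemma Tmat_map {k' : Type*} [CommRing k'] (f : k →+* k') {a b : ℕ}
    (E₁ : Matrix (Fin a) (Fin a) k) (E₂ : Matrix (Fin b) (Fin b) k)
    (X : Matrix (Fin b) (Fin a) k) (Y : Matrix (Fin a) (Fin b) k) :
    (Tmat E₁ E₂ X Y).map f = Tmat (E₁.map f) (E₂.map f) (X.map f) (Y.map f) := by
  rw [Tmat, Matrix.map_sub _ (map_sub f), Matrix.map_add _ (map_add f), Matrix.map_mul,
    Matrix.map_mul, Matrix.map_mul, Matrix.map_mul, Matrix.map_one _ (map_zero f) (map_one f)]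
  rfl

end Mat

lemma field_step2 {k : Type*} [Field k] {V₁ V₂ : Type*} [AddCommGroup V₁] [Module k V₁]
    [AddCommGroup V₂] [Module k V₂] [Module.Finite k V₁] [Module.Finite k V₂]
    (hfr : Module.finrank k V₁ = Module.finrank k V₂) {a b : ℕ}
    (g₁ : Fin a → V₁) (lam₁ : Fin a → (V₁ →ₗ[k] k)) (h₁ : ∀ v, v = ∑ l, lam₁ l v • g₁ l)
    (g₂ : Fin b → V₂) (lam₂ : Fin b → (V₂ →ₗ[k] k)) (h₂ : ∀ v, v = ∑ l, lam₂ l v • g₂ l) :
    ∃ (X : Matrix (Fin b) (Fin a) k) (Y : Matrix (Fin a) (Fin b) k),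
      (Tmat (Mat g₁ lam₁ LinearMap.id) (Mat g₂ lam₂ LinearMap.id) X Y).det ≠ 0 := by
  let u : V₁ ≃ₗ[k] V₂ := LinearEquiv.ofFinrankEq V₁ V₂ hfr
  refine ⟨Mat g₁ lam₂ u.toLinearMap, Mat g₂ lam₁ u.symm.toLinearMap, ?_⟩
  have h : Mat g₁ lam₁ LinearMap.id * Mat g₂ lam₁ u.symm.toLinearMap * Mat g₂ lam₂ LinearMap.id *
      Mat g₁ lam₂ u.toLinearMap * Mat g₁ lam₁ LinearMap.id = Mat g₁ lam₁ LinearMap.id := by
    rw [← Mat_comp g₂ g₁ lam₁ h₁ lam₁, ← Mat_comp g₂ g₂ lam₂ h₂ lam₁,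
      ← Mat_comp g₁ g₂ lam₂ h₂ lam₁, ← Mat_comp g₁ g₁ lam₁ h₁ lam₁]
    congr 1
    ext v
    simp
  rw [Tmat, h]
  simp


section BC
variable {R : Type u} [CommRing R] {M : Type v} [AddCommGroup M] [Module R M] {n : ℕ}
  (S : Type u) [CommRing S] [Algebra R S]

/-- base-changed generators -/
noncomputable def gS (g : Fin n → M) : Fin n → S ⊗[R] M := fun l => (1 : S) ⊗ₜ[R] g l

/-- base-changed coordinate functionals -/
noncomputable def lamS (i : M →ₗ[R] (Fin n → R)) : Fin n → (S ⊗[R] M →ₗ[S] S) := fun l =>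
  (TensorProduct.AlgebraTensorModule.rid R S S).toLinearMap ∘ₗ
    (LinearMap.baseChange S ((LinearMap.proj l : (Fin n → R) →ₗ[R] R) ∘ₗ i))

lemma lamS_tmul (i : M →ₗ[R] (Fin n → R)) (l : Fin n) (s : S) (x : M) :
    lamS S i l (s ⊗ₜ[R] x) = (i x l) • s := by
  show (TensorProduct.AlgebraTensorModule.rid R S S)
    ((LinearMap.baseChange S ((LinearMap.proj l : (Fin n → R) →ₗ[R] R) ∘ₗ i))
      (s ⊗ₜ[R] x)) = _
  rw [LinearMap.baseChange_tmul, TensorProduct.AlgebraTensorModule.rid_tmul]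
  rfl

lemma hrecS (i : M →ₗ[R] (Fin n → R)) (g : Fin n → M) (hrec : ∀ m : M, m = ∑ l, i m l • g l)
    (v : S ⊗[R] M) : v = ∑ l, lamS S i l v • gS S g l := by
  induction v using TensorProduct.induction_on with
  | zero => simp
  | tmul s x =>
    simp_rw [lamS_tmul, gS, TensorProduct.smul_tmul', smul_eq_mul, mul_one]
    conv_lhs => rw [hrec x, TensorProduct.tmul_sum]
    refine Finset.sum_congr rfl fun l _ => ?_
    rw [TensorProduct.tmul_smul, TensorProduct.smul_tmul']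
  | add a b ha hb =>
    conv_lhs => rw [ha, hb]
    rw [← Finset.sum_add_distrib]
    refine Finset.sum_congr rfl fun l _ => ?_
    rw [map_add, add_smul]

lemma Mat_id_eq (i : M →ₗ[R] (Fin n → R)) (g : Fin n → M) :
    Mat (gS S g) (lamS S i) LinearMap.id =
      (Matrix.of fun l l' => i (g l') l).map (algebraMap R S) := by
  ext l l'
  simp only [Mat, Matrix.of_apply, Matrix.map_apply, LinearMap.id_apply, gS]
  rw [lamS_tmul, Algebra.smul_def, mul_one]

end BC

lemma res_step2 {R : Type u} [CommRing R] {M₁ M₂ : Type v} [AddCommGroup M₁] [Module R M₁]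
    [AddCommGroup M₂] [Module R M₂] [Module.Finite R M₁] [Module.Finite R M₂] {a b : ℕ}
    (i₁ : M₁ →ₗ[R] (Fin a → R)) (g₁ : Fin a → M₁) (hrec₁ : ∀ m : M₁, m = ∑ l, i₁ m l • g₁ l)
    (i₂ : M₂ →ₗ[R] (Fin b → R)) (g₂ : Fin b → M₂) (hrec₂ : ∀ m : M₂, m = ∑ l, i₂ m l • g₂ l)
    (S : Type u) [Field S] [Algebra R S]
    (hfr : Module.finrank S (S ⊗[R] M₁) = Module.finrank S (S ⊗[R] M₂)) :
    ∃ (X : Matrix (Fin b) (Fin a) S) (Y : Matrix (Fin a) (Fin b) S),
      (Tmat ((Matrix.of fun l l' => i₁ (g₁ l') l).map (algebraMap R S))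
        ((Matrix.of fun l l' => i₂ (g₂ l') l).map (algebraMap R S)) X Y).det ≠ 0 := by
  obtain ⟨X, Y, h⟩ := field_step2 hfr (gS S g₁) (lamS S i₁) (hrecS S i₁ g₁ hrec₁)
    (gS S g₂) (lamS S i₂) (hrecS S i₂ g₂ hrec₂)
  rw [Mat_id_eq, Mat_id_eq] at h
  exact ⟨X, Y, h⟩


lemma bijective_of_isUnit_det {R : Type u} [CommRing R] {M₁ M₂ : Type v} [AddCommGroup M₁]
    [Module R M₁] [AddCommGroup M₂] [Module R M₂] {a b : ℕ}
    (p₁ : (Fin a → R) →ₗ[R] M₁) (i₁ : M₁ →ₗ[R] (Fin a → R)) (hpi₁ : p₁ ∘ₗ i₁ = LinearMap.id)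
    (p₂ : (Fin b → R) →ₗ[R] M₂) (i₂ : M₂ →ₗ[R] (Fin b → R))
    (X : Matrix (Fin b) (Fin a) R) (Y : Matrix (Fin a) (Fin b) R)
    (hdet : IsUnit (Tmat (LinearMap.toMatrix' (i₁ ∘ₗ p₁)) (LinearMap.toMatrix' (i₂ ∘ₗ p₂)) X Y).det) :
    Function.Bijective ((p₁ ∘ₗ Y.mulVecLin ∘ₗ i₂) ∘ₗ (p₂ ∘ₗ X.mulVecLin ∘ₗ i₁)) := by
  set θ : M₁ →ₗ[R] M₁ := (p₁ ∘ₗ Y.mulVecLin ∘ₗ i₂) ∘ₗ (p₂ ∘ₗ X.mulVecLin ∘ₗ i₁) with hθ
  set T := Tmat (LinearMap.toMatrix' (i₁ ∘ₗ p₁)) (LinearMap.toMatrix' (i₂ ∘ₗ p₂)) X Y with hT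
  have hpi : ∀ x, p₁ (i₁ x) = x := fun x => by
    have := congrArg (fun f => f x) hpi₁
    simpa using this
  have hTlin : ∀ v, T.mulVec v = i₁ (θ (p₁ v)) + (v - i₁ (p₁ v)) := by
    intro v
    have h1 : Matrix.toLin' T = i₁ ∘ₗ θ ∘ₗ p₁ + (LinearMap.id - i₁ ∘ₗ p₁) := by
      rw [hT, Tmat, sub_eq_add_neg, add_assoc, map_add, map_add, map_neg, Matrix.toLin'_mul,
        Matrix.toLin'_mul, Matrix.toLin'_mul, Matrix.toLin'_mul, Matrix.toLin'_toMatrix',
        Matrix.toLin'_toMatrix', Matrix.toLin'_one, ← sub_eq_add_neg]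
      congr 1
    have := congrArg (fun f => f v) h1
    simpa using this
  have hTinj : ∀ v, T.mulVec v = 0 → v = 0 := by
    intro v hv
    have := congrArg (fun w => (T⁻¹).mulVec w) hv
    simp only [Matrix.mulVec_mulVec, Matrix.nonsing_inv_mul T hdet, Matrix.one_mulVec,
      Matrix.mulVec_zero] at this
    exact this
  constructor
  · rw [injective_iff_map_eq_zero]
    intro x hx
    have h1 : T.mulVec (i₁ x) = 0 := by
      rw [hTlin, hpi, hx, map_zero, sub_self, add_zero]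
    have h2 := hTinj _ h1
    rw [← hpi x, h2, map_zero]
  · intro y
    refine ⟨p₁ ((T⁻¹).mulVec (i₁ y)), ?_⟩
    have h1 : T.mulVec ((T⁻¹).mulVec (i₁ y)) = i₁ y := by
      rw [Matrix.mulVec_mulVec, Matrix.mul_nonsing_inv T hdet, Matrix.one_mulVec]
    rw [hTlin] at h1
    have h2 := congrArg p₁ h1
    rw [map_add, map_sub, hpi, hpi, sub_self, add_zero, hpi] at h2
    exact h2

/-- a split injection between f.g. projective modules of the same rank function is bijective -/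
lemma bijective_of_split_of_rank {R : Type u} [CommRing R] {P M : Type v} [AddCommGroup P]
    [Module R P] [AddCommGroup M] [Module R M] [Module.Finite R P] [Module.Projective R P]
    [Module.Finite R M] [Module.Projective R M]
    (aM : P →ₗ[R] M) (cM : M →ₗ[R] P) (hca : ∀ c, cM (aM c) = c)
    (hrk : ∀ q : PrimeSpectrum R, Module.rankAtStalk P q = Module.rankAtStalk M q) :
    Function.Bijective aM := by
  let K := LinearMap.ker cM
  let π : M →ₗ[R] K := (LinearMap.id - aM ∘ₗ cM).codRestrict K (by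
    intro m
    rw [LinearMap.mem_ker, LinearMap.sub_apply, map_sub, LinearMap.comp_apply, hca]
    simp)
  have hπK : ∀ k : K, π k = k := by
    intro k
    apply Subtype.ext
    have hk : cM (k : M) = 0 := k.2
    simp [π, hk]
  have hπsurj : Function.Surjective π := fun k => ⟨k, hπK k⟩
  have : Module.Finite R K := Module.Finite.of_surjective π hπsurj
  have : Module.Projective R K :=
    Module.Projective.of_split K.subtype π (LinearMap.ext fun k => hπK k)
  let e : M ≃ₗ[R] P × K :=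
    LinearEquiv.ofLinearMap (cM.prod π) (aM.coprod K.subtype)
      (by
        apply LinearMap.ext
        rintro ⟨c, k⟩
        have hk : cM (k : M) = 0 := k.2
        apply Prod.ext
        · simp [hca, hk]
        · apply Subtype.ext
          simp [π, hca, hk])
      (by
        apply LinearMap.ext
        intro m
        simp [π])
  have hK0 : Module.rankAtStalk (R := R) K = 0 := by
    funext q
    have h1 := congrFun (Module.rankAtStalk_eq_of_equiv e) q
    rw [Module.rankAtStalk_prod, Pi.add_apply, hrk q] at h1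
    simpa using h1
  have : Subsingleton K := Module.rankAtStalk_eq_zero_iff_subsingleton.mp hK0
  constructor
  · intro c c' h
    rw [← hca c, ← hca c', h]
  · intro m
    refine ⟨cM m, ?_⟩
    have h0 : π m = 0 := Subsingleton.elim _ _
    have h1 : ((π m : K) : M) = m - aM (cM m) := by simp [π]
    rw [h0] at h1
    have h2 : m - aM (cM m) = 0 := h1.symm
    exact (sub_eq_zero.mp h2).symm


lemma coords {R : Type u} [CommRing R] (M : Type v) [AddCommGroup M] [Module R M]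
    [Module.Finite R M] [Module.Projective R M] :
    ∃ (n : ℕ) (p : (Fin n → R) →ₗ[R] M) (i : M →ₗ[R] (Fin n → R)),
      p ∘ₗ i = LinearMap.id ∧ (∀ m : M, m = ∑ l, i m l • p (Pi.single l 1)) := by
  classical
  obtain ⟨n, p, i, hp, hi, hpi⟩ := Module.Finite.exists_comp_eq_id_of_projective R M
  refine ⟨n, p, i, hpi, ?_⟩
  intro m
  have h1 : p (i m) = m := by
    have := congrArg (fun f => f m) hpi
    simpa using this
  calc m = p (i m) := h1.symm
    _ = _ := LinearMap.pi_apply_eq_sum_univ p (i m)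
    _ = ∑ l, i m l • p (Pi.single l 1) := by
      refine Finset.sum_congr rfl fun l _ => ?_
      congr 2
      ext j
      simp [Pi.single_apply, eq_comm]

/-- Over an LG-ring, finite projective modules with the same rank function are isomorphic. -/
theorem nonempty_equiv_of_rank_eq {R : Type u} [CommRing R] (hR : LGRing.IsLGRing R)
    (M₁ M₂ : Type v) [AddCommGroup M₁] [Module R M₁] [Module.Finite R M₁] [Module.Projective R M₁]
    [AddCommGroup M₂] [Module R M₂] [Module.Finite R M₂] [Module.Projective R M₂]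
    (hrk : ∀ q : PrimeSpectrum R, Module.rankAtStalk M₁ q = Module.rankAtStalk M₂ q) :
    Nonempty (M₁ ≃ₗ[R] M₂) := by
  classical
  obtain ⟨a, p₁, i₁, hpi₁, hrec₁⟩ := coords (R := R) M₁
  obtain ⟨b, p₂, i₂, hpi₂, hrec₂⟩ := coords (R := R) M₂
  set g₁ : Fin a → M₁ := fun l => p₁ (Pi.single l 1) with hg₁
  set g₂ : Fin b → M₂ := fun l => p₂ (Pi.single l 1) with hg₂
  let E₁ : Matrix (Fin a) (Fin a) R := Matrix.of fun l l' => i₁ (g₁ l') l
  let E₂ : Matrix (Fin b) (Fin b) R := Matrix.of fun l l' => i₂ (g₂ l') l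
  have hE₁ : E₁ = LinearMap.toMatrix' (i₁ ∘ₗ p₁) := by
    ext l l'
    simp [E₁, LinearMap.toMatrix'_apply, g₁]
  have hE₂ : E₂ = LinearMap.toMatrix' (i₂ ∘ₗ p₂) := by
    ext l l'
    simp [E₂, LinearMap.toMatrix'_apply, g₂]
  let σ := (Fin b × Fin a) ⊕ (Fin a × Fin b)
  let Xp : Matrix (Fin b) (Fin a) (MvPolynomial σ R) := Matrix.of fun k l => X (Sum.inl (k, l))
  let Yp : Matrix (Fin a) (Fin b) (MvPolynomial σ R) := Matrix.of fun l k => X (Sum.inr (l, k))
  let F : MvPolynomial σ R := (Tmat (E₁.map C) (E₂.map C) Xp Yp).det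
  have haeval : ∀ {S : Type u} [CommRing S] [Algebra R S] (s : σ → S), aeval s F =
      (Tmat (E₁.map (algebraMap R S)) (E₂.map (algebraMap R S))
        (Matrix.of fun k l => s (Sum.inl (k, l))) (Matrix.of fun l k => s (Sum.inr (l, k)))).det := by
    intro S _ _ s
    have h1 : aeval s F = (aeval s).toRingHom F := rfl
    rw [h1]
    simp only [F]
    rw [RingHom.map_det, RingHom.mapMatrix_apply, Tmat_map]
    congr 2
    · ext l l'; simp
    · ext l l'; simp
    · ext k l; simp [Xp]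
    · ext l k; simp [Yp]
  have hres : ∀ (m : Ideal R) [m.IsMaximal], LGRing.RepresentsUnit F (R ⧸ m) := by
    intro m hm
    let _ := Ideal.Quotient.field m
    have hfr : ∀ (N : Type v) [AddCommGroup N] [Module R N] [Module.Finite R N]
        [Module.Projective R N], Module.finrank (R ⧸ m) ((R ⧸ m) ⊗[R] N) =
          Module.rankAtStalk N ⟨m, hm.isPrime⟩ := by
      intro N _ _ _ _
      have h1 := Module.rankAtStalk_baseChange (R := R) (M := N) (S := R ⧸ m)
        (⊥ : PrimeSpectrum (R ⧸ m))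
      have h2 := congrFun (Module.rankAtStalk_eq_finrank_of_free (R := R ⧸ m)
        (M := (R ⧸ m) ⊗[R] N)) (⊥ : PrimeSpectrum (R ⧸ m))
      rw [h1] at h2
      rw [Pi.natCast_apply, Nat.cast_id] at h2
      rw [← h2]
      congr 1
      apply PrimeSpectrum.ext
      show Ideal.comap (algebraMap R (R ⧸ m)) ⊥ = m
      rw [← RingHom.ker_eq_comap_bot]
      exact Ideal.mk_ker
    obtain ⟨X, Y, hXY⟩ := res_step2 i₁ g₁ hrec₁ i₂ g₂ hrec₂ (R ⧸ m)
      (by rw [hfr M₁, hfr M₂, hrk])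
    refine ⟨Sum.elim (fun kl => X kl.1 kl.2) (fun lk => Y lk.1 lk.2), ?_⟩
    rw [haeval]
    exact IsUnit.mk0 _ hXY
  obtain ⟨s, hs⟩ := Groth.Agent.S16597.of_fintype hR F hres
  rw [haeval] at hs
  set Xm : Matrix (Fin b) (Fin a) R := Matrix.of fun k l => s (Sum.inl (k, l)) with hXm
  set Ym : Matrix (Fin a) (Fin b) R := Matrix.of fun l k => s (Sum.inr (l, k)) with hYm
  have hE₁' : E₁.map (algebraMap R R) = LinearMap.toMatrix' (i₁ ∘ₗ p₁) := by
    rw [← hE₁]; ext; simp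
  have hE₂' : E₂.map (algebraMap R R) = LinearMap.toMatrix' (i₂ ∘ₗ p₂) := by
    rw [← hE₂]; ext; simp
  rw [hE₁', hE₂'] at hs
  have hbij := bijective_of_isUnit_det p₁ i₁ hpi₁ p₂ i₂ Xm Ym hs
  let θ : M₁ ≃ₗ[R] M₁ := LinearEquiv.ofBijective _ hbij
  let h : M₁ →ₗ[R] M₂ := p₂ ∘ₗ Xm.mulVecLin ∘ₗ i₁
  let c : M₂ →ₗ[R] M₁ := θ.symm.toLinearMap ∘ₗ (p₁ ∘ₗ Ym.mulVecLin ∘ₗ i₂)
  have hch : ∀ x, c (h x) = x := by
    intro x
    show θ.symm ((p₁ ∘ₗ Ym.mulVecLin ∘ₗ i₂) ((p₂ ∘ₗ Xm.mulVecLin ∘ₗ i₁) x)) = x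
    rw [LinearEquiv.symm_apply_eq]
    rfl
  exact ⟨LinearEquiv.ofBijective h (bijective_of_split_of_rank h c hch hrk)⟩

end Groth.Agent.Lib.Helper22.LGProj
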