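import Mathlib
import Groth.Prelude.Def_W4c4lgringredgrpLG
import Groth.Agent.S16597

set_option autoImplicit false
set_option linter.style.haveILetI false

universe u

namespace Groth.Agent.Lib.LeadLGA

open MvPolynomial TensorProduct

section Abstract

variable {R : Type*} [Ring R] {V N : Type*} [AddCommGroup V] [Module R V] [AddCommGroup N]
  [Module R N] (p : V →ₗ[R] N) (i : N →ₗ[R] V) (hpi : ∀ n, p (i n) = n) (θ : N →ₗ[R] N)

include hpi in
theorem bijective_of_bijective_T (T : V → V) (hTv : ∀ v, T v = i (θ (p v)) + (v - i (p v)))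
    (hT : Function.Bijective T) : Function.Bijective θ := by
  have hT0 : T 0 = 0 := by rw [hTv]; simp
  constructor
  · rw [injective_iff_map_eq_zero]
    intro n hn
    have h1 : T (i n) = 0 := by
      rw [hTv, hpi, hn, map_zero, sub_self, add_zero]
    have h2 : i n = 0 := hT.1 (by rw [h1, hT0])
    rw [← hpi n, h2, map_zero]
  · intro n
    obtain ⟨v, hv⟩ := hT.2 (i n)
    refine ⟨p v, ?_⟩
    rw [hTv] at hv
    have h2 := congrArg p hv
    simp only [map_add, map_sub, hpi, sub_self, add_zero] at h2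
    exact h2

include hpi in
theorem bijective_T_of_bijective (T : V → V) (hTv : ∀ v, T v = i (θ (p v)) + (v - i (p v)))
    (hθ : Function.Bijective θ) : Function.Bijective T := by
  constructor
  · have key : ∀ z : V, i (θ (p z)) + (z - i (p z)) = 0 → z = 0 := by
      intro z hz
      have h2 := congrArg p hz
      simp only [map_add, map_sub, hpi, sub_self, add_zero, map_zero] at h2
      have h3 : p z = 0 := hθ.1 (by rw [h2, map_zero])
      rw [h3, map_zero, map_zero, zero_add, sub_zero] at hz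
      exact hz
    intro v w hvw
    have hd : i (θ (p (v - w))) + ((v - w) - i (p (v - w))) = 0 := by
      have h1 := hTv v
      have h2 := hTv w
      rw [hvw] at h1
      have h3 : i (θ (p v)) + (v - i (p v)) = i (θ (p w)) + (w - i (p w)) := by rw [← h1, ← h2]
      simp only [map_sub]
      have : i (θ (p v)) - i (θ (p w)) + (v - w - (i (p v) - i (p w))) =
          (i (θ (p v)) + (v - i (p v))) - (i (θ (p w)) + (w - i (p w))) := by abel
      rw [this, h3, sub_self]
    exact sub_eq_zero.mp (key _ hd)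
  · intro w
    obtain ⟨n, hn⟩ := hθ.2 (p w)
    refine ⟨i n + (w - i (p w)), ?_⟩
    rw [hTv]
    have h1 : p (i n + (w - i (p w))) = n := by
      rw [map_add, map_sub, hpi, hpi, sub_self, add_zero]
    rw [h1, hn]
    abel

end Abstract

section ALG

variable {R : Type u} [CommRing R]

/-- Abstract local-global principle: bilinear family of endomorphisms of a finite projective
module; fibrewise bijective somewhere implies bijective somewhere. -/
theorem exists_comp_bijective (hR : LGRing.IsLGRing R) {M N : Type*} [AddCommGroup M] [Module R M]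
    [AddCommGroup N] [Module R N] [Module.Finite R N] [Module.Projective R N] {ι κ : Type}
    [Fintype ι] [Fintype κ]
    (h : ι → M →ₗ[R] N) (h' : κ → N →ₗ[R] M)
    (hfib : ∀ (m : Ideal R) [m.IsMaximal], ∃ (x : ι → R) (y : κ → R),
      Function.Bijective (((∑ α, x α • h α) ∘ₗ (∑ β, y β • h' β)).baseChange (R ⧸ m))) :
    ∃ (x : ι → R) (y : κ → R),
      Function.Bijective ((∑ α, x α • h α) ∘ₗ (∑ β, y β • h' β)) := by
  classical
  obtain ⟨d, p, i, hp, hi, hpi⟩ := Module.Finite.exists_comp_eq_id_of_projective R N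
  have hpi' : ∀ n, p (i n) = n := fun n => by
    have := congrArg (fun f => f n) hpi
    simpa using this
  let θ : (ι → R) → (κ → R) → (N →ₗ[R] N) := fun x y =>
    (∑ α, x α • h α) ∘ₗ (∑ β, y β • h' β)
  let T : (ι → R) → (κ → R) → ((Fin d → R) →ₗ[R] (Fin d → R)) := fun x y =>
    i ∘ₗ θ x y ∘ₗ p + (LinearMap.id - i ∘ₗ p)
  let σ := ι ⊕ κ
  let B : ι → κ → Matrix (Fin d) (Fin d) R := fun α β =>
    LinearMap.toMatrix' (i ∘ₗ (h α ∘ₗ h' β) ∘ₗ p)
  let B₀ : Matrix (Fin d) (Fin d) R := LinearMap.toMatrix' (LinearMap.id - i ∘ₗ p)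
  let 𝕋 : Matrix (Fin d) (Fin d) (MvPolynomial σ R) :=
    ∑ α, ∑ β, (X (Sum.inl α) * X (Sum.inr β) : MvPolynomial σ R) • (B α β).map C + B₀.map C
  let G : MvPolynomial σ R := 𝕋.det
  have hTeq : ∀ x y, T x y = ∑ α, ∑ β, (x α * y β) • (i ∘ₗ (h α ∘ₗ h' β) ∘ₗ p) +
      (LinearMap.id - i ∘ₗ p) := by
    intro x y
    refine LinearMap.ext fun v => ?_
    simp only [T, θ, LinearMap.add_apply, LinearMap.comp_apply, LinearMap.sum_apply,
      LinearMap.smul_apply, map_sum, map_smul, Finset.smul_sum, smul_smul]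
    congr 1
    rw [Finset.sum_comm]
    refine Finset.sum_congr rfl fun α _ => Finset.sum_congr rfl fun β _ => ?_
    rw [mul_comm]
  have hTmat : ∀ x y, LinearMap.toMatrix' (T x y) = ∑ α, ∑ β, (x α * y β) • B α β + B₀ := by
    intro x y
    rw [hTeq]
    simp only [map_add, map_sum, map_smul, B, B₀]
  have heval : ∀ s' : σ → R, MvPolynomial.eval s' G =
      LinearMap.det (T (fun α => s' (Sum.inl α)) (fun β => s' (Sum.inr β))) := by
    intro s'
    rw [← LinearMap.det_toMatrix', hTmat]
    simp only [G]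
    rw [RingHom.map_det]
    congr 1
    ext a b
    simp [𝕋, Matrix.add_apply, Matrix.sum_apply, Matrix.smul_apply]
  have hres : ∀ (m : Ideal R) [m.IsMaximal], LGRing.RepresentsUnit G (R ⧸ m) := by
    intro m hm
    let _ := Ideal.Quotient.field m
    obtain ⟨x, y, hxy⟩ := hfib m
    refine ⟨(algebraMap R (R ⧸ m)) ∘ (Sum.elim x y), ?_⟩
    rw [MvPolynomial.aeval_algebraMap_apply]
    have h1 : MvPolynomial.aeval (Sum.elim x y) G = MvPolynomial.eval (Sum.elim x y) G := rfl
    rw [h1, heval]
    simp only [Sum.elim_inl, Sum.elim_inr]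
    rw [← LinearMap.det_baseChange]
    have hbc : (T x y).baseChange (R ⧸ m) =
        (i.baseChange (R ⧸ m)) ∘ₗ ((θ x y).baseChange (R ⧸ m)) ∘ₗ (p.baseChange (R ⧸ m)) +
          (LinearMap.id - (i.baseChange (R ⧸ m)) ∘ₗ (p.baseChange (R ⧸ m))) := by
      simp only [T, LinearMap.baseChange_add, LinearMap.baseChange_sub, LinearMap.baseChange_comp,
        LinearMap.baseChange_id]
    have hpibc : ∀ n, (p.baseChange (R ⧸ m)) ((i.baseChange (R ⧸ m)) n) = n := by
      intro n
      rw [← LinearMap.comp_apply, ← LinearMap.baseChange_comp, hpi, LinearMap.baseChange_id,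
        LinearMap.id_apply]
    have hbij := bijective_T_of_bijective (p.baseChange (R ⧸ m)) (i.baseChange (R ⧸ m)) hpibc
      ((θ x y).baseChange (R ⧸ m)) ((T x y).baseChange (R ⧸ m)) (fun v => by rw [hbc]; simp) hxy
    exact (LinearMap.isUnit_iff_isUnit_det _).mp ((Module.End.isUnit_iff _).mpr hbij)
  obtain ⟨s', hs'⟩ := Groth.Agent.S16597.of_fintype hR G hres
  have h1 : MvPolynomial.aeval s' G = MvPolynomial.eval s' G := rfl
  rw [h1, heval] at hs'
  refine ⟨fun α => s' (Sum.inl α), fun β => s' (Sum.inr β), ?_⟩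
  have hT : Function.Bijective (T (fun α => s' (Sum.inl α)) (fun β => s' (Sum.inr β))) :=
    (Module.End.isUnit_iff _).mp ((LinearMap.isUnit_iff_isUnit_det _).mpr hs')
  exact bijective_of_bijective_T p i hpi' _ _ (fun v => by simp [T, θ]) hT

end ALG

end Groth.Agent.Lib.LeadLGA
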