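import Mathlib
import Groth.Agent.Lib.LeadLGA1

set_option autoImplicit false
set_option linter.style.haveILetI false

universe u v w

namespace Groth.Agent.Lib.LeadLGA

open TensorProduct

section GenLemma

variable {R : Type u} [CommRing R] {A : Type v} [Ring A] [Algebra R A]
  {M : Type w} [AddCommGroup M] [Module A M] [Module R M] [IsScalarTower R A M]
  {N : Type w} [AddCommGroup N] [Module A N] [Module R N] [IsScalarTower R A N]

/-- `Hom_A(M, N)` is finitely generated over `R`. -/
theorem exists_hom_generators [Module.Finite R A] [Module.Finite A M] [Module.Projective A M]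
    [Module.Finite A N] :
    ∃ (a d : ℕ) (h : Fin a × Fin d → M →ₗ[A] N), ∀ f : M →ₗ[A] N,
      ∃ x : Fin a × Fin d → R, ∀ m, f m = ∑ α, x α • h α m := by
  classical
  obtain ⟨a, pM, iM, -, -, hpi⟩ := Module.Finite.exists_comp_eq_id_of_projective A M
  have hpi' : ∀ m, pM (iM m) = m := fun m => by
    have := congrArg (fun f => f m) hpi
    simpa using this
  haveI : Module.Finite R N := Module.Finite.trans A N
  obtain ⟨d, q, hq⟩ := Module.Finite.exists_fin' R N
  let nn : Fin d → N := fun l => q (fun j => if l = j then 1 else 0)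
  refine ⟨a, d, fun α => (LinearMap.toSpanSingleton A N (nn α.2)) ∘ₗ
    (LinearMap.proj α.1 : (Fin a → A) →ₗ[A] A) ∘ₗ iM, ?_⟩
  intro f
  have hc : ∀ j : Fin a, ∃ c : Fin d → R, f (pM (fun j' => if j = j' then 1 else 0)) = q c :=
    fun j => (hq _).imp fun c hc => hc.symm
  choose c hc using hc
  refine ⟨fun α => c α.1 α.2, fun m => ?_⟩
  have h1 : f m = (f ∘ₗ pM) (iM m) := by rw [LinearMap.comp_apply, hpi']
  rw [h1, LinearMap.pi_apply_eq_sum_univ (f ∘ₗ pM) (iM m), Fintype.sum_prod_type]
  refine Finset.sum_congr rfl fun j _ => ?_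
  rw [LinearMap.comp_apply, hc j, LinearMap.pi_apply_eq_sum_univ q (c j), Finset.smul_sum]
  refine Finset.sum_congr rfl fun l _ => ?_
  simp only [LinearMap.comp_apply, LinearMap.proj_apply, LinearMap.toSpanSingleton_apply, nn]
  rw [smul_comm]

theorem projective_of_tower [Module.Finite R A] [Module.Projective R A] [Module.Finite A N]
    [Module.Projective A N] : Module.Projective R N := by
  classical
  obtain ⟨b, pN, iN, -, -, hpi⟩ := Module.Finite.exists_comp_eq_id_of_projective A N
  haveI : Module.Projective R (Fin b → A) :=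
    Module.Projective.of_equiv (DFinsupp.linearEquivFunOnFintype (R := R) (ι := Fin b)
      (M := fun _ => A))
  refine Module.Projective.of_split (iN.restrictScalars R) (pN.restrictScalars R) ?_
  ext n
  have := congrArg (fun f => f n) hpi
  simpa using this

theorem exists_bijective_comp (hR : LGRing.IsLGRing R) [Module.Finite R A] [Module.Projective R A]
    [Module.Finite A M] [Module.Projective A M] [Module.Finite A N] [Module.Projective A N]
    (hfib : ∀ (m : Ideal R) [m.IsMaximal], ∃ (f : M →ₗ[A] N) (g : N →ₗ[A] M),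
      ∀ n : N, ∃ n' : N, f (g n') - n ∈ (m • ⊤ : Submodule R N)) :
    ∃ (f : M →ₗ[A] N) (g : N →ₗ[A] M), Function.Bijective (f ∘ₗ g) := by
  classical
  haveI : Module.Finite R N := Module.Finite.trans A N
  haveI : Module.Projective R N := projective_of_tower (R := R) (A := A)
  obtain ⟨a, d, h, hh⟩ := exists_hom_generators (R := R) (A := A) (M := M) (N := N)
  obtain ⟨a', d', h', hh'⟩ := exists_hom_generators (R := R) (A := A) (M := N) (N := M)
  have key := exists_comp_bijective hR (fun α => (h α).restrictScalars R)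
    (fun β => (h' β).restrictScalars R) ?_
  · obtain ⟨x, y, hxy⟩ := key
    refine ⟨∑ α, x α • h α, ∑ β, y β • h' β, ?_⟩
    convert hxy using 1
    ext n
    simp [LinearMap.sum_apply]
  · intro m hm
    let _ := Ideal.Quotient.field m
    obtain ⟨f, g, hfg⟩ := hfib m
    obtain ⟨x, hx⟩ := hh f
    obtain ⟨y, hy⟩ := hh' g
    refine ⟨x, y, ?_⟩
    set φ := ((∑ α, x α • (h α).restrictScalars R) ∘ₗ
      (∑ β, y β • (h' β).restrictScalars R)).baseChange (R ⧸ m) with hφ
    have hφ1 : ∀ n : N, φ (1 ⊗ₜ n) = 1 ⊗ₜ f (g n) := by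
      intro n
      rw [hφ, LinearMap.baseChange_tmul]
      congr 1
      simp only [LinearMap.comp_apply, LinearMap.sum_apply, LinearMap.smul_apply,
        LinearMap.restrictScalars_apply]
      rw [hx, ← hy]
    have hzero : ∀ n ∈ (m • ⊤ : Submodule R N), (1 : R ⧸ m) ⊗ₜ[R] n = 0 := by
      intro n hn
      refine Submodule.smul_induction_on hn ?_ ?_
      · intro r hr n' _
        rw [← TensorProduct.smul_tmul, Algebra.smul_def, mul_one]
        have : algebraMap R (R ⧸ m) r = 0 := Ideal.Quotient.eq_zero_iff_mem.mpr hr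
        rw [this, TensorProduct.zero_tmul]
      · intro x y hx hy
        rw [TensorProduct.tmul_add, hx, hy, add_zero]
    have hsurj : Function.Surjective φ := by
      rw [← LinearMap.range_eq_top, eq_top_iff]
      intro z _
      induction z using TensorProduct.induction_on with
      | zero => exact zero_mem _
      | add z w hz hw => exact add_mem (hz trivial) (hw trivial)
      | tmul c n =>
        obtain ⟨n', hn'⟩ := hfg n
        have h1 : (1 : R ⧸ m) ⊗ₜ[R] n = φ (1 ⊗ₜ n') := by
          rw [hφ1]
          have := hzero _ hn'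
          rw [TensorProduct.tmul_sub, sub_eq_zero] at this
          exact this.symm
        have h2 : c ⊗ₜ[R] n = c • ((1 : R ⧸ m) ⊗ₜ[R] n) := by
          rw [TensorProduct.smul_tmul', smul_eq_mul, mul_one]
        rw [h2, h1, ← map_smul]
        exact LinearMap.mem_range_self _ _
    exact ⟨LinearMap.injective_iff_surjective.mpr hsurj, hsurj⟩

end GenLemma

end Groth.Agent.Lib.LeadLGA
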