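import Mathlib
import Groth.Agent.Lib.LeadLGA2
import Groth.Agent.Lib.LeadAzumayaLocal
import Groth.Agent.Lib.LeadCSA

set_option autoImplicit false
set_option linter.style.haveILetI false

universe u v w

namespace Groth.Agent.Lib.LeadLGA

open TensorProduct

section SplitSurj

variable {k : Type*} [Field k] {A' : Type*} [Ring A'] [Algebra k A'] [IsSimpleRing A']
  [IsArtinianRing A']

/-- over a simple artinian algebra, a module of smaller dimension is a retract -/
theorem exists_split_surj {X Y : Type*} [AddCommGroup X] [Module A' X] [Module k X]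
    [IsScalarTower k A' X] [Module.Finite k X] [AddCommGroup Y] [Module A' Y] [Module k Y]
    [IsScalarTower k A' Y] [Module.Finite k Y]
    (h : Module.finrank k Y ≤ Module.finrank k X) :
    ∃ (F : X →ₗ[A'] Y) (G : Y →ₗ[A'] X), ∀ y, F (G y) = y := by
  classical
  by_cases hY : Subsingleton Y
  · exact ⟨0, 0, fun y => Subsingleton.elim _ _⟩
  rw [not_subsingleton_iff_nontrivial] at hY
  have hYpos : 0 < Module.finrank k Y := Module.finrank_pos
  have hX : Nontrivial X := by
    by_contra hn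
    rw [not_nontrivial_iff_subsingleton] at hn
    have : Module.finrank k X = 0 := Module.finrank_zero_of_subsingleton
    omega
  obtain ⟨n, S, hn, hS, ⟨e⟩, hdim, hpos⟩ :=
    Groth.Agent.Lib.LeadCSA.exists_equiv_fun (k := k) (R := A') (M := X)
  obtain ⟨n', S', hn', hS', ⟨e'⟩, hdim', hpos'⟩ :=
    Groth.Agent.Lib.LeadCSA.exists_equiv_fun (k := k) (R := A') (M := Y)
  obtain ⟨f⟩ := Groth.Agent.Lib.LeadCSA.simple_iso S' S
  have hf : Module.finrank k S' = Module.finrank k S := (f.restrictScalars k).finrank_eq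
  have hnn : n' ≤ n := by
    rw [hdim, hdim', hf] at h
    exact Nat.le_of_mul_le_mul_right h hpos
  let F0 : (Fin n → S) →ₗ[A'] (Fin n' → S') :=
    LinearMap.pi fun j => f.symm.toLinearMap ∘ₗ LinearMap.proj (Fin.castLE hnn j)
  let G0 : (Fin n' → S') →ₗ[A'] (Fin n → S) :=
    ∑ j, (LinearMap.single A' (fun _ => S) (Fin.castLE hnn j)) ∘ₗ f.toLinearMap ∘ₗ
      LinearMap.proj j
  refine ⟨e'.symm.toLinearMap ∘ₗ F0 ∘ₗ e.toLinearMap,
    e.symm.toLinearMap ∘ₗ G0 ∘ₗ e'.toLinearMap, fun y => ?_⟩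
  simp only [LinearMap.comp_apply, LinearEquiv.coe_coe, LinearEquiv.apply_symm_apply]
  rw [LinearEquiv.symm_apply_eq]
  ext j
  simp only [F0, G0, LinearMap.pi_apply, LinearMap.comp_apply, LinearMap.proj_apply,
    LinearMap.sum_apply, LinearEquiv.coe_coe, LinearMap.single_apply, Finset.sum_apply]
  rw [Finset.sum_eq_single j]
  · simp
  · intro j' _ hj'
    rw [Pi.single_eq_of_ne]
    intro hjj
    exact hj' (Fin.castLE_injective hnn hjj).symm
  · intro hj
    exact absurd (Finset.mem_univ j) hj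

end SplitSurj

section Lift

/-- lifting a semilinear map through a surjection, from a finite projective source -/
theorem exists_lift {A : Type*} [Ring A] {A' : Type*} [Ring A'] (ι : A →+* A')
    {M N : Type*} [AddCommGroup M] [Module A M] [Module.Finite A M] [Module.Projective A M]
    [AddCommGroup N] [Module A N]
    {X Y : Type*} [AddCommGroup X] [Module A' X] [AddCommGroup Y] [Module A' Y]
    (φ : M →+ X) (hφ : ∀ a v, φ (a • v) = ι a • φ v)
    (ψ : N →+ Y) (hψ : ∀ a v, ψ (a • v) = ι a • ψ v) (hψs : Function.Surjective ψ)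
    (F : X →ₗ[A'] Y) : ∃ f : M →ₗ[A] N, ∀ v, ψ (f v) = F (φ v) := by
  classical
  obtain ⟨a, pM, iM, -, -, hpi⟩ := Module.Finite.exists_comp_eq_id_of_projective A M
  have hpi' : ∀ m, pM (iM m) = m := fun m => by
    have := congrArg (fun f => f m) hpi
    simpa using this
  have hc : ∀ j : Fin a, ∃ n : N, ψ n = F (φ (pM (fun j' => if j = j' then 1 else 0))) :=
    fun j => hψs _
  choose n hn using hc
  refine ⟨(∑ j, (LinearMap.toSpanSingleton A N (n j)) ∘ₗ
    (LinearMap.proj j : (Fin a → A) →ₗ[A] A)) ∘ₗ iM, fun v => ?_⟩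
  have h1 : φ v = φ (pM (iM v)) := by rw [hpi']
  rw [h1, LinearMap.pi_apply_eq_sum_univ pM (iM v), map_sum, map_sum]
  simp only [LinearMap.comp_apply, LinearMap.sum_apply, LinearMap.proj_apply,
    LinearMap.toSpanSingleton_apply, map_sum]
  refine Finset.sum_congr rfl fun j _ => ?_
  rw [hψ, hφ, map_smul, hn]

end Lift

section Fibre

variable (R : Type u) [CommRing R] (A : Type v) [Ring A] [Algebra R A]
  (k : Type*) [CommRing k] [Algebra R k]
  (M : Type w) [AddCommGroup M] [Module A M] [Module R M] [IsScalarTower R A M]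

/-- the action of `A` on `k ⊗[R] M` -/
noncomputable def actA : A →+* Module.End k (k ⊗[R] M) :=
  ((Module.End.baseChangeHom R k M).toRingHom).comp
    (Algebra.lsmul R R M : A →ₐ[R] Module.End R M).toRingHom

theorem actA_tmul (a : A) (c : k) (v : M) : actA R A k M a (c ⊗ₜ v) = c ⊗ₜ (a • v) := by
  show (LinearMap.baseChange k (Algebra.lsmul R R M a)) (c ⊗ₜ v) = _
  rw [LinearMap.baseChange_tmul]
  rfl

/-- the fibre `k ⊗[R] M`, as a type synonym carrying a `k ⊗[R] A`-module structure -/
def Fib (R : Type u) [CommRing R] (A : Type v) [Ring A] [Algebra R A]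
    (k : Type*) [CommRing k] [Algebra R k] (M : Type w) [AddCommGroup M] [Module R M] : Type _ :=
  k ⊗[R] M

noncomputable instance : AddCommGroup (Fib R A k M) := inferInstanceAs (AddCommGroup (k ⊗[R] M))
noncomputable instance : Module k (Fib R A k M) := inferInstanceAs (Module k (k ⊗[R] M))
noncomputable instance : Module R (Fib R A k M) := inferInstanceAs (Module R (k ⊗[R] M))
instance : IsScalarTower R k (Fib R A k M) := inferInstanceAs (IsScalarTower R k (k ⊗[R] M))
noncomputable instance : Module A (Fib R A k M) := Module.compHom (k ⊗[R] M) (actA R A k M)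

theorem Fib.smul_def (a : A) (x : Fib R A k M) : a • x = actA R A k M a x := rfl

instance : IsScalarTower R A (Fib R A k M) where
  smul_assoc r a x := by
    rw [Fib.smul_def, Fib.smul_def]
    have : actA R A k M (r • a) = r • actA R A k M a := by
      simp only [actA, RingHom.comp_apply, AlgHom.toRingHom_eq_coe, RingHom.coe_coe, map_smul]
    rw [this]
    rfl

instance : SMulCommClass k A (Fib R A k M) where
  smul_comm c a x := by
    rw [Fib.smul_def, Fib.smul_def]
    exact ((actA R A k M a).map_smul c x).symm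

noncomputable instance : Module (k ⊗[R] A) (Fib R A k M) := TensorProduct.Algebra.module

theorem Fib.tmul_smul (c : k) (a : A) (x : Fib R A k M) :
    (c ⊗ₜ[R] a : k ⊗[R] A) • x = c • a • x := rfl

instance : IsScalarTower k (k ⊗[R] A) (Fib R A k M) where
  smul_assoc c z x := by
    induction z using TensorProduct.induction_on with
    | zero => simp
    | add z w hz hw => rw [smul_add, add_smul, add_smul, hz, hw, smul_add]
    | tmul c' a =>
      rw [TensorProduct.smul_tmul', Fib.tmul_smul, Fib.tmul_smul, smul_assoc]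

instance [Module.Finite R M] : Module.Finite k (Fib R A k M) :=
  inferInstanceAs (Module.Finite k (k ⊗[R] M))

/-- the canonical map to the fibre -/
noncomputable def Fib.mk : M →+ Fib R A k M where
  toFun v := ((1 : k) ⊗ₜ[R] v : k ⊗[R] M)
  map_zero' := TensorProduct.tmul_zero _ _
  map_add' := TensorProduct.tmul_add _

theorem Fib.mk_smul (a : A) (v : M) :
    Fib.mk R A k M (a • v) =
      (Algebra.TensorProduct.includeRight (R := R) (A := k) (B := A)).toRingHom a •
        Fib.mk R A k M v := by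
  show ((1 : k) ⊗ₜ[R] (a • v) : k ⊗[R] M) = ((1 : k) ⊗ₜ[R] a : k ⊗[R] A) • Fib.mk R A k M v
  rw [Fib.tmul_smul, one_smul, Fib.smul_def]
  show _ = actA R A k M a ((1 : k) ⊗ₜ[R] v)
  rw [actA_tmul]

end Fibre

section FibreLemma

variable {R : Type u} [CommRing R] {A : Type v} [Ring A] [Algebra R A]

theorem Fib.mk_surjective (m : Ideal R) (M : Type w) [AddCommGroup M] [Module A M] [Module R M]
    [IsScalarTower R A M] : Function.Surjective (Fib.mk R A (R ⧸ m) M) := by
  intro x
  change (R ⧸ m) ⊗[R] M at x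
  induction x using TensorProduct.induction_on with
  | zero => exact ⟨0, map_zero _⟩
  | add x y hx hy =>
    obtain ⟨a, ha⟩ := hx
    obtain ⟨b, hb⟩ := hy
    exact ⟨a + b, by rw [map_add, ha, hb]; rfl⟩
  | tmul c v =>
    obtain ⟨r, rfl⟩ := Ideal.Quotient.mk_surjective c
    refine ⟨r • v, ?_⟩
    show ((1 : R ⧸ m) ⊗ₜ[R] (r • v) : (R ⧸ m) ⊗[R] M) = _
    rw [← TensorProduct.smul_tmul, Algebra.smul_def, mul_one]
    rfl

theorem finrank_fibre_eq_rankAtStalk (m : Ideal R) [hm : m.IsMaximal] (N : Type w)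
    [AddCommGroup N] [Module R N] [Module.Finite R N] [Module.Projective R N] :
    letI := Ideal.Quotient.field m
    Module.finrank (R ⧸ m) ((R ⧸ m) ⊗[R] N) = Module.rankAtStalk N ⟨m, hm.isPrime⟩ := by
  let _ := Ideal.Quotient.field m
  have h1 := Module.rankAtStalk_baseChange (R := R) (M := N) (S := R ⧸ m)
    (⊥ : PrimeSpectrum (R ⧸ m))
  have h2 := congrFun (Module.rankAtStalk_eq_finrank_of_free (R := R ⧸ m)
    (M := (R ⧸ m) ⊗[R] N)) (⊥ : PrimeSpectrum (R ⧸ m))
  rw [h1] at h2
  rw [Pi.natCast_apply, Nat.cast_id] at h2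
  rw [← h2]
  congr 1
  apply PrimeSpectrum.ext
  show Ideal.comap (algebraMap R (R ⧸ m)) ⊥ = m
  rw [← RingHom.ker_eq_comap_bot]
  exact Ideal.mk_ker

/-- The fibre lemma: over an Azumaya algebra, at a maximal ideal `m` where `N` has smaller rank
than `M`, there are `A`-linear maps `f : M → N` and `g : N → M` with `f ∘ g ≡ id` modulo `m`. -/
theorem fibre_lemma [IsAzumaya R A]
    {M : Type w} [AddCommGroup M] [Module A M] [Module R M] [IsScalarTower R A M]
    [Module.Finite A M] [Module.Projective A M]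
    {N : Type w} [AddCommGroup N] [Module A N] [Module R N] [IsScalarTower R A N]
    [Module.Finite A N] [Module.Projective A N]
    (m : Ideal R) [hm : m.IsMaximal]
    (h : Module.rankAtStalk N ⟨m, hm.isPrime⟩ ≤ Module.rankAtStalk M ⟨m, hm.isPrime⟩) :
    ∃ (f : M →ₗ[A] N) (g : N →ₗ[A] M), ∀ n : N, f (g n) - n ∈ (m • ⊤ : Submodule R N) := by
  classical
  let _ := Ideal.Quotient.field m
  haveI : Module.Finite R M := Module.Finite.trans A M
  haveI : Module.Finite R N := Module.Finite.trans A N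
  haveI : Module.Projective R M := projective_of_tower (R := R) (A := A)
  haveI : Module.Projective R N := projective_of_tower (R := R) (A := A)
  haveI : IsAzumaya (R ⧸ m) ((R ⧸ m) ⊗[R] A) :=
    Groth.Agent.Lib.LeadAzumaya.isAzumaya_baseChange (R ⧸ m) A
  haveI : IsSimpleRing ((R ⧸ m) ⊗[R] A) :=
    Groth.Agent.Lib.LeadAzumaya.isSimpleRing_of_isAzumaya_field (k := R ⧸ m)
  haveI : IsArtinianRing ((R ⧸ m) ⊗[R] A) := IsArtinianRing.of_finite (R ⧸ m) _
  have hfr : Module.finrank (R ⧸ m) (Fib R A (R ⧸ m) N) ≤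
      Module.finrank (R ⧸ m) (Fib R A (R ⧸ m) M) := by
    have h1 := finrank_fibre_eq_rankAtStalk m N
    have h2 := finrank_fibre_eq_rankAtStalk m M
    show Module.finrank (R ⧸ m) ((R ⧸ m) ⊗[R] N) ≤ Module.finrank (R ⧸ m) ((R ⧸ m) ⊗[R] M)
    rw [h1, h2]
    exact h
  obtain ⟨F, G, hFG⟩ := exists_split_surj (k := R ⧸ m) (A' := (R ⧸ m) ⊗[R] A) hfr
  obtain ⟨f, hf⟩ := exists_lift
    (Algebra.TensorProduct.includeRight (R := R) (A := R ⧸ m) (B := A)).toRingHom
    (Fib.mk R A (R ⧸ m) M) (Fib.mk_smul R A (R ⧸ m) M)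
    (Fib.mk R A (R ⧸ m) N) (Fib.mk_smul R A (R ⧸ m) N) (Fib.mk_surjective m N) F
  obtain ⟨g, hg⟩ := exists_lift
    (Algebra.TensorProduct.includeRight (R := R) (A := R ⧸ m) (B := A)).toRingHom
    (Fib.mk R A (R ⧸ m) N) (Fib.mk_smul R A (R ⧸ m) N)
    (Fib.mk R A (R ⧸ m) M) (Fib.mk_smul R A (R ⧸ m) M) (Fib.mk_surjective m M) G
  refine ⟨f, g, fun n => ?_⟩
  have h0 : Fib.mk R A (R ⧸ m) N (f (g n) - n) = 0 := by
    rw [map_sub, hf, hg, hFG, sub_self]
  have h1 : ((1 : R ⧸ m) ⊗ₜ[R] (f (g n) - n) : (R ⧸ m) ⊗[R] N) = 0 := h0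
  have h2 := TensorProduct.quotTensorEquivQuotSMul_mk_one_tmul (M := N) m (f (g n) - n)
  rw [h1, map_zero] at h2
  exact (Submodule.Quotient.mk_eq_zero _).mp h2.symm

end FibreLemma

end Groth.Agent.Lib.LeadLGA
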