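import Mathlib
import Groth.Agent.Lib.LeadLGA3

set_option autoImplicit false
set_option linter.style.haveILetI false

universe u v w

namespace Groth.Agent.Lib.LeadLGA

open TensorProduct

section Indec

variable {R : Type u} [CommRing R] {A : Type v} [Ring A] [Algebra R A] [IsAzumaya R A]

/-- over an Azumaya algebra over an LG ring: if `rank N ≤ rank M` then `N` is a retract of `M` -/
theorem exists_retract (hR : LGRing.IsLGRing R)
    {M : Type w} [AddCommGroup M] [Module A M] [Module R M] [IsScalarTower R A M]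
    [Module.Finite A M] [Module.Projective A M]
    {N : Type w} [AddCommGroup N] [Module A N] [Module R N] [IsScalarTower R A N]
    [Module.Finite A N] [Module.Projective A N]
    (h : ∀ p : PrimeSpectrum R, Module.rankAtStalk N p ≤ Module.rankAtStalk M p) :
    ∃ (f : M →ₗ[A] N) (g : N →ₗ[A] M), ∀ n, f (g n) = n := by
  obtain ⟨f, g, hfg⟩ := exists_bijective_comp (R := R) (A := A) (M := M) (N := N) hR
    (fun m hm => by
      obtain ⟨f, g, h'⟩ := fibre_lemma (R := R) (A := A) (M := M) (N := N) m (h ⟨m, hm.isPrime⟩)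
      exact ⟨f, g, fun n => ⟨n, h' n⟩⟩)
  let θ : N ≃ₗ[A] N := LinearEquiv.ofBijective (f ∘ₗ g) hfg
  refine ⟨f, g ∘ₗ θ.symm.toLinearMap, fun n => ?_⟩
  have : f (g (θ.symm n)) = θ (θ.symm n) := rfl
  rw [LinearMap.comp_apply, LinearEquiv.coe_coe, this, LinearEquiv.apply_symm_apply]

/-- an indecomposable module with a nontrivial retract is isomorphic to it -/
theorem nonempty_equiv_of_retract_of_indec {P Q : Type*} [AddCommGroup P] [Module A P]
    [AddCommGroup Q] [Module A Q] [Nontrivial Q]
    (hP : ∀ e : Module.End A P, IsIdempotentElem e → e = 0 ∨ e = 1)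
    (f : P →ₗ[A] Q) (g : Q →ₗ[A] P) (hfg : ∀ n, f (g n) = n) : Nonempty (P ≃ₗ[A] Q) := by
  have hid : IsIdempotentElem (g ∘ₗ f : Module.End A P) := by
    ext x
    simp [Module.End.mul_apply, hfg]
  rcases hP _ hid with h0 | h1
  · exfalso
    obtain ⟨q, hq⟩ := exists_ne (0 : Q)
    apply hq
    have := congrArg (fun e : Module.End A P => f (e (g q))) h0
    simpa [hfg] using this
  · refine ⟨LinearEquiv.ofLinear f g ?_ ?_⟩
    · ext n; simp [hfg]
    · exact h1

end Indec

end Groth.Agent.Lib.LeadLGA
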