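import Mathlib
import Groth.Agent.Lib.LeadLGA4
import Groth.Agent.Lib.Helper22LGProj
import Groth.Agent.S19587

set_option autoImplicit false
set_option linter.style.haveILetI false

universe u v w

namespace Groth.Agent.Lib.LeadLGA

open TensorProduct

section Core

variable {R : Type u} [CommRing R] {A : Type v} [Ring A] [Algebra R A] [IsAzumaya R A]

/-- over an Azumaya algebra over an LG ring, f.g. projective modules of the same rank function
are isomorphic -/
theorem nonempty_equiv_of_rank_eq (hR : LGRing.IsLGRing R)
    {M : Type w} [AddCommGroup M] [Module A M] [Module R M] [IsScalarTower R A M]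
    [Module.Finite A M] [Module.Projective A M]
    {N : Type w} [AddCommGroup N] [Module A N] [Module R N] [IsScalarTower R A N]
    [Module.Finite A N] [Module.Projective A N]
    (h : ∀ p : PrimeSpectrum R, Module.rankAtStalk N p = Module.rankAtStalk M p) :
    Nonempty (N ≃ₗ[A] M) := by
  obtain ⟨f, g, hfg⟩ := exists_retract (R := R) (A := A) (M := M) (N := N) hR (fun p => (h p).le)
  haveI : Module.Finite R M := Module.Finite.trans A M
  haveI : Module.Finite R N := Module.Finite.trans A N
  haveI : Module.Projective R M := projective_of_tower (R := R) (A := A)
  haveI : Module.Projective R N := projective_of_tower (R := R) (A := A)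
  have hb := Groth.Agent.Lib.Helper22.LGProj.bijective_of_split_of_rank
    (g.restrictScalars R) (f.restrictScalars R) hfg h
  exact ⟨LinearEquiv.ofBijective g hb⟩

end Core

section MatrixModule

variable {R : Type*} [CommRing R] {D : Type*} [Ring D] [Algebra R D] {n : ℕ} [NeZero n]

/-- the endomorphism algebra of the column module is `Dᵐᵒᵖ` -/
noncomputable def endMatrixVecRing :
    Dᵐᵒᵖ ≃ₐ[R] Module.End (Matrix (Fin n) (Fin n) D) (Fin n → D) :=
  AlgEquiv.ofBijective
    { toFun := fun d =>
        { toFun := fun v i => v i * d.unop
          map_add' := fun v w => by ext i; simp [add_mul]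
          map_smul' := fun A v => by
            ext i
            simp [Matrix.mulVec, dotProduct, Finset.sum_mul, mul_assoc] }
      map_one' := by ext v i; simp
      map_mul' := fun d d' => by ext v i; simp [mul_assoc]
      map_zero' := by ext v i; simp
      map_add' := fun d d' => by ext v i; simp [mul_add]
      commutes' := fun c => by
        ext v i
        simp [Algebra.smul_def, Algebra.commutes] }
    (by
      constructor
      · intro d d' h
        have := congrFun (LinearMap.congr_fun h (Pi.single 0 1)) 0
        simpa using this
      · intro T
        refine ⟨MulOpposite.op (T (Pi.single 0 1) 0), ?_⟩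
        ext v i
        have hv : v = (Matrix.of fun i j => if j = (0 : Fin n) then v i else 0 :
            Matrix (Fin n) (Fin n) D) • (Pi.single 0 1 : Fin n → D) := by
          ext i
          simp [Matrix.mulVec, dotProduct]
        conv_rhs => rw [hv, T.map_smul]
        simp [Matrix.mulVec, dotProduct])

/-- the column module is a retract of the matrix ring -/
theorem retract_matrix_vec :
    ∃ (i : (Fin n → D) →ₗ[Matrix (Fin n) (Fin n) D] Matrix (Fin n) (Fin n) D)
      (p : Matrix (Fin n) (Fin n) D →ₗ[Matrix (Fin n) (Fin n) D] (Fin n → D)),
      ∀ v, p (i v) = v := by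
  classical
  refine ⟨{ toFun := fun v => Matrix.of fun i j => if j = (0 : Fin n) then v i else 0
            map_add' := fun v w => by
              ext i j
              by_cases hj : j = 0 <;> simp [hj]
            map_smul' := fun X v => by
              ext i j
              by_cases hj : j = 0 <;> simp [hj, Matrix.mul_apply, Matrix.mulVec, dotProduct] },
    LinearMap.toSpanSingleton _ _ (Pi.single 0 1), fun v => ?_⟩
  ext i
  simp [LinearMap.toSpanSingleton_apply, Matrix.mulVec, dotProduct]

theorem rankAtStalk_fun (m : ℕ) (M : Type*) [AddCommGroup M] [Module R M] [Module.Finite R M]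
    [Module.Flat R M] (p : PrimeSpectrum R) :
    Module.rankAtStalk (Fin m → M) p = m * Module.rankAtStalk M p := by
  rw [Module.rankAtStalk_pi (fun _ : Fin m => M) p, finsum_eq_sum_of_fintype]
  simp

end MatrixModule

end Groth.Agent.Lib.LeadLGA
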