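import Mathlib
import Groth.Agent.Lib.LeadLGA5

set_option autoImplicit false
set_option linter.style.haveILetI false

universe u v w

namespace Groth.Agent.Lib.LeadLGA

open TensorProduct

section Cancel

variable {R : Type u} [CommRing R]

theorem isAzumaya_matrix (A : Type v) [Ring A] [Algebra R A] [IsAzumaya R A] (n : ℕ) [NeZero n] :
    IsAzumaya R (Matrix (Fin n) (Fin n) A) := by
  haveI : IsAzumaya R (Matrix (Fin n) (Fin n) R) := IsAzumaya.matrix R (Fin n)
  haveI : IsAzumaya R (A ⊗[R] Matrix (Fin n) (Fin n) R) :=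
    Groth.Agent.S19587.result R A (Matrix (Fin n) (Fin n) R)
  exact IsAzumaya.of_AlgEquiv _ _ _ (matrixEquivTensor (Fin n) R A).symm

theorem rankAtStalk_matrix (A : Type v) [Ring A] [Algebra R A] [Module.Finite R A]
    [Module.Projective R A] (n : ℕ) (p : PrimeSpectrum R) :
    Module.rankAtStalk (Matrix (Fin n) (Fin n) A) p = n * (n * Module.rankAtStalk A p) := by
  haveI : Module.Projective R (Fin n → A) :=
    Module.Projective.of_equiv (DFinsupp.linearEquivFunOnFintype (R := R) (ι := Fin n)
      (M := fun _ => A))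
  have h1 := congrFun (Module.rankAtStalk_eq_of_equiv
    (Matrix.ofLinearEquiv R : (Fin n → Fin n → A) ≃ₗ[R] Matrix (Fin n) (Fin n) A)) p
  rw [← h1, rankAtStalk_fun n (Fin n → A) p, rankAtStalk_fun n A p]

/-- cancellation of matrix algebras over Azumaya algebras over an LG ring -/
theorem cancel_matrix (hR : LGRing.IsLGRing R) (A B : Type v) [Ring A] [Algebra R A]
    [IsAzumaya R A] [Ring B] [Algebra R B] [IsAzumaya R B] (n : ℕ) (hn : 0 < n)
    (e : Matrix (Fin n) (Fin n) A ≃ₐ[R] Matrix (Fin n) (Fin n) B) : Nonempty (A ≃ₐ[R] B) := by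
  classical
  haveI : NeZero n := ⟨hn.ne'⟩
  haveI : IsAzumaya R (Matrix (Fin n) (Fin n) A) := isAzumaya_matrix A n
  let Λ := Matrix (Fin n) (Fin n) A
  let Λ' := Matrix (Fin n) (Fin n) B
  let V := Fin n → A
  let W := Fin n → B
  letI modW : Module Λ W := Module.compHom W e.toRingHom
  have hsm : ∀ (r : Λ) (v : W), r • v = e r • v := fun r v => rfl
  haveI : IsScalarTower R Λ W := ⟨fun c r v => by
    rw [hsm, hsm, map_smul, smul_assoc]⟩
  haveI : SMulCommClass Λ R W := ⟨fun r c v => by
    rw [hsm, hsm, smul_comm]⟩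
  -- finiteness and projectivity
  obtain ⟨iV, pV, hV⟩ := retract_matrix_vec (D := A) (n := n)
  obtain ⟨iW', pW', hW'⟩ := retract_matrix_vec (D := B) (n := n)
  haveI : Module.Finite Λ V := Module.Finite.of_surjective pV (fun v => ⟨iV v, hV v⟩)
  haveI : Module.Projective Λ V := Module.Projective.of_split iV pV (LinearMap.ext hV)
  let iW : W →ₗ[Λ] Λ :=
    { toFun := fun w => e.symm (iW' w)
      map_add' := fun w w' => by rw [map_add, map_add]
      map_smul' := fun X w => by
        rw [hsm, map_smul, smul_eq_mul, map_mul, AlgEquiv.symm_apply_apply]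
        rfl }
  let pW : Λ →ₗ[Λ] W :=
    { toFun := fun X => pW' (e X)
      map_add' := fun X Y => by rw [map_add, map_add]
      map_smul' := fun X Y => by
        rw [smul_eq_mul, map_mul, ← smul_eq_mul, map_smul]
        rfl }
  have hW : ∀ w, pW (iW w) = w := fun w => by
    show pW' (e (e.symm (iW' w))) = w
    rw [AlgEquiv.apply_symm_apply, hW']
  haveI : Module.Finite Λ W := Module.Finite.of_surjective pW (fun v => ⟨iW v, hW v⟩)
  haveI : Module.Projective Λ W := Module.Projective.of_split iW pW (LinearMap.ext hW)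
  -- ranks
  have hrk : ∀ p : PrimeSpectrum R, Module.rankAtStalk W p = Module.rankAtStalk V p := by
    intro p
    have h1 := congrFun (Module.rankAtStalk_eq_of_equiv e.toLinearEquiv) p
    rw [rankAtStalk_matrix A n p, rankAtStalk_matrix B n p] at h1
    show Module.rankAtStalk (Fin n → B) p = Module.rankAtStalk (Fin n → A) p
    rw [rankAtStalk_fun n B p, rankAtStalk_fun n A p]
    exact (Nat.eq_of_mul_eq_mul_left hn h1).symm
  obtain ⟨f⟩ := nonempty_equiv_of_rank_eq (R := R) (A := Λ) (M := V) (N := W) hR hrk
  -- endomorphism algebras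
  let E1 : Module.End Λ W ≃ₐ[R] Module.End Λ V := f.conjAlgEquiv R
  let E2 : Module.End Λ W ≃ₐ[R] Module.End Λ' W :=
    { toFun := fun S =>
        { toFun := S
          map_add' := S.map_add
          map_smul' := fun r' v => by
            have := S.map_smul (e.symm r') v
            rw [hsm, hsm, AlgEquiv.apply_symm_apply] at this
            exact this }
      invFun := fun S =>
        { toFun := S
          map_add' := S.map_add
          map_smul' := fun r v => by
            rw [hsm, hsm]
            exact S.map_smul (e r) v }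
      left_inv := fun S => rfl
      right_inv := fun S => rfl
      map_mul' := fun S S' => rfl
      map_add' := fun S S' => rfl
      commutes' := fun c => rfl }
  let E : Aᵐᵒᵖ ≃ₐ[R] Bᵐᵒᵖ :=
    (endMatrixVecRing (R := R) (D := A) (n := n)).trans (E1.symm.trans (E2.trans
      (endMatrixVecRing (R := R) (D := B) (n := n)).symm))
  exact ⟨AlgEquiv.op.symm E⟩

end Cancel

end Groth.Agent.Lib.LeadLGA
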