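import Mathlib
import Groth.Agent.Lib.Helper19EtLocQ
import Groth.Agent.Lib.Helper19EtLocU
import Groth.Agent.Lib.Helper19EtLocV
import Groth.Agent.Lib.Helper19EtLocW
import Groth.Agent.Lib.Helper19EtLocX
import Groth.Agent.Lib.LeadLGA6

/-!
# Étale-local solvability (helper19), part Y: two `lam`-involutions of the same type on Azumaya
algebras of the same degree are étale-locally isomorphic
-/

set_option autoImplicit false
set_option linter.style.haveILetI false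
set_option linter.unusedSectionVars false

open TensorProduct

namespace Groth.Agent.Lib.Helper19EtLoc

open Groth.Agent.Lib.Helper19AzSplit Groth.Agent.Lib.Helper19SemiSN AzInv
  Groth.Agent.Lib.LeadAzumaya IsLocalRing Groth.Agent.Lib.Helper3.Sh

universe u v w w'

section Odd

variable {S : Type u} {R : Type v} [CommRing S] [CommRing R] [Algebra S R]
  (lam : R ≃ₐ[S] R) (hlam : ∀ r, lam (lam r) = r) (hfix : RInv.IsFixedRing S R lam.toRingEquiv)
  {A : Type w} [Ring A] [Algebra S A] [Algebra R A] [IsScalarTower S R A] [IsAzumaya R A]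
  (t : LamInv R A lam) (n : ℕ)

include hlam hfix in
/-- symmetric matrix units over an étale cover in odd degree -/
theorem exists_cover_symMatUnits_odd
    (hsq : ∀ (S₁ : Type u) [CommRing S₁] [Algebra S S₁] [Algebra.Etale S S₁] (x : S₁ˣ),
      ∃ (S₂ : Type u) (_ : CommRing S₂) (_ : Algebra S₁ S₂) (_ : Algebra.Etale S₁ S₂)
        (_ : Module.FaithfullyFlat S₁ S₂) (y : S₂), y * y = algebraMap S₁ S₂ ↑x)
    (hodd : Odd n)
    (hrank : ∀ p : PrimeSpectrum R, Module.rankAtStalk (R := R) A p = n ^ 2) :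
    ∃ (S' : Type u) (_ : CommRing S') (_ : Algebra S S'), Algebra.Etale S S' ∧
      Module.FaithfullyFlat S S' ∧
      ∃ e : Fin n → Fin n → S' ⊗[S] A, IsMatUnits e ∧ ∀ a b, t.bc S lam S' (e a b) = e b a := by
  classical
  obtain ⟨S₁, _, _, hEt₁, hFF₁, f, δ, δ', hf, hδ, hsym⟩ :=
    exists_cover_diag_odd lam hlam hfix (A := A) t n hodd hrank
  haveI := hEt₁
  haveI := hFF₁
  obtain ⟨S₂, _, _, hEt₂, hFF₂, hy⟩ := exists_cover_sqrt hsq n S₁
    (fun a => ⟨δ a, δ' a, hδ a, by rw [mul_comm]; exact hδ a⟩)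
  haveI := hEt₂
  haveI := hFF₂
  letI : Algebra S S₂ := ((algebraMap S₁ S₂).comp (algebraMap S S₁)).toAlgebra
  haveI : IsScalarTower S S₁ S₂ := IsScalarTower.of_algebraMap_eq (fun _ => rfl)
  haveI : Algebra.Etale S S₂ := Algebra.Etale.comp S S₁ S₂
  haveI : Module.FaithfullyFlat S S₂ := Module.FaithfullyFlat.trans S S₁ S₂
  choose y hy using hy
  let σ : S₁ →ₐ[S] S₂ := IsScalarTower.toAlgHom S S₁ S₂
  let Φ : S₁ ⊗[S] A →ₐ[S] S₂ ⊗[S] A := Algebra.TensorProduct.map σ (AlgHom.id S A)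
  have hΦalg : ∀ s : S₁, Φ (algebraMap S₁ (S₁ ⊗[S] A) s) =
      algebraMap S₂ (S₂ ⊗[S] A) (algebraMap S₁ S₂ s) := by
    intro s
    rw [Algebra.TensorProduct.algebraMap_apply, Algebra.algebraMap_self_apply,
      Algebra.TensorProduct.algebraMap_apply, Algebra.algebraMap_self_apply]
    exact Algebra.TensorProduct.map_tmul _ _ _ _
  let f₂ : Fin n → Fin n → S₂ ⊗[S] A := fun a b => Φ (f a b)
  have hf₂ : IsMatUnits f₂ := hf.map (Φ : S₁ ⊗[S] A →+* S₂ ⊗[S] A)
  have hsym₂ : ∀ a b, t.bc S lam S₂ (f₂ a b) =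
      algebraMap S₂ (S₂ ⊗[S] A) (algebraMap S₁ S₂ (δ b) * algebraMap S₁ S₂ (δ' a)) * f₂ b a := by
    intro a b
    change t.bc S lam S₂ (Φ (f a b)) = _
    rw [← bc_nat, hsym, map_mul, hΦalg, map_mul]
  obtain ⟨f', hf', hsym'⟩ := exists_symMatUnits_of_diag lam t n S₂ f₂ hf₂
    (fun a => algebraMap S₁ S₂ (δ a)) (fun a => algebraMap S₁ S₂ (δ' a)) y
    (fun a => by rw [← map_mul, hδ, map_one]) hy hsym₂
  exact ⟨S₂, inferInstance, inferInstance, inferInstance, inferInstance, f', hf', hsym'⟩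

end Odd

section Local

variable {S : Type u} {R : Type v} [CommRing S] [CommRing R] [Algebra S R]
  (lam : R ≃ₐ[S] R) (hlam : ∀ r, lam (lam r) = r) (hfix : RInv.IsFixedRing S R lam.toRingEquiv)
  {A : Type w} [Ring A] [Algebra S A] [Algebra R A] [IsScalarTower S R A] [IsAzumaya R A]
  (t : LamInv R A lam)
  {A' : Type w'} [Ring A'] [Algebra S A'] [Algebra R A'] [IsScalarTower S R A'] [IsAzumaya R A']
  (t' : LamInv R A' lam) (n : ℕ)

/-- if the same pattern of matrix units exists étale-locally at `p` for both algebras, they are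
isomorphic over an étale neighbourhood of `p` -/
theorem exists_local_iso_of_good (hn : 0 < n)
    (hrank : ∀ p : PrimeSpectrum R, Module.rankAtStalk (R := R) A p = n ^ 2)
    (hrank' : ∀ p : PrimeSpectrum R, Module.rankAtStalk (R := R) A' p = n ^ 2)
    (π : Fin n → Fin n) (hπ : ∀ a, π (π a) = a) (c : Fin n → Fin n → ℤ)
    (p : Ideal S) [p.IsPrime]
    (h1 : (symSys lam t n π c).Good p) (h2 : (symSys lam t' n π c).Good p) :
    ∃ (E : Type u) (_ : CommRing E) (_ : Algebra S E),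
      Algebra.Etale S E ∧ (∃ Q : Ideal E, Q.IsPrime ∧ Q.comap (algebraMap S E) = p) ∧
        IsoOver lam t t' E := by
  obtain ⟨E₁, _, _, hEt₁, ⟨Q₁, hQ₁, hQ₁p⟩, hsol₁⟩ := h1
  obtain ⟨E₂, _, _, hEt₂, ⟨Q₂, hQ₂, hQ₂p⟩, hsol₂⟩ := h2
  haveI := hEt₁
  haveI := hEt₂
  haveI : Algebra.Etale S (E₁ ⊗[S] E₂) := Algebra.Etale.comp S E₁ (E₁ ⊗[S] E₂)
  obtain ⟨q, hq⟩ := mem_range_tensor E₁ E₂ ⟨p, inferInstance⟩
    ⟨⟨Q₁, hQ₁⟩, PrimeSpectrum.ext hQ₁p⟩ ⟨⟨Q₂, hQ₂⟩, PrimeSpectrum.ext hQ₂p⟩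
  have hsol₁' : (symSys lam t n π c).Sol (E₁ ⊗[S] E₂) :=
    NatSys.Sol.map _ (Algebra.TensorProduct.includeLeft : E₁ →ₐ[S] E₁ ⊗[S] E₂) hsol₁
  have hsol₂' : (symSys lam t' n π c).Sol (E₁ ⊗[S] E₂) :=
    NatSys.Sol.map _ (Algebra.TensorProduct.includeRight : E₂ →ₐ[S] E₁ ⊗[S] E₂) hsol₂
  obtain ⟨e, he, hsym⟩ := (symSys_sol_iff lam t n π c (E₁ ⊗[S] E₂)).mp hsol₁'
  obtain ⟨e', he', hsym'⟩ := (symSys_sol_iff lam t' n π c (E₁ ⊗[S] E₂)).mp hsol₂'
  refine ⟨E₁ ⊗[S] E₂, inferInstance, inferInstance, inferInstance,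
    ⟨q.asIdeal, q.isPrime, congrArg PrimeSpectrum.asIdeal hq⟩, ?_⟩
  exact isoOver_of_patMatUnits lam n π c t (E₁ ⊗[S] E₂) t' hn hπ hrank hrank' e he hsym e' he' hsym'

/-- symmetric matrix units for both algebras over étale covers give a local isomorphism -/
theorem locIsoEt_of_symMatUnits (hn : 0 < n)
    (hrank : ∀ p : PrimeSpectrum R, Module.rankAtStalk (R := R) A p = n ^ 2)
    (hrank' : ∀ p : PrimeSpectrum R, Module.rankAtStalk (R := R) A' p = n ^ 2)
    (h1 : ∃ (S' : Type u) (_ : CommRing S') (_ : Algebra S S'), Algebra.Etale S S' ∧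
      Module.FaithfullyFlat S S' ∧
      ∃ e : Fin n → Fin n → S' ⊗[S] A, IsMatUnits e ∧ ∀ a b, t.bc S lam S' (e a b) = e b a)
    (h2 : ∃ (S' : Type u) (_ : CommRing S') (_ : Algebra S S'), Algebra.Etale S S' ∧
      Module.FaithfullyFlat S S' ∧
      ∃ e : Fin n → Fin n → S' ⊗[S] A', IsMatUnits e ∧ ∀ a b, t'.bc S lam S' (e a b) = e b a) :
    LocIsoEt S lam t t' := by
  obtain ⟨E₁, _, _, hEt₁, hFF₁, e₁, he₁, hs₁⟩ := h1
  obtain ⟨E₂, _, _, hEt₂, hFF₂, e₂, he₂, hs₂⟩ := h2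
  haveI := hEt₁
  haveI := hEt₂
  haveI := hFF₁
  haveI := hFF₂
  haveI : Algebra.Etale S (E₁ ⊗[S] E₂) := Algebra.Etale.comp S E₁ (E₁ ⊗[S] E₂)
  haveI : Module.FaithfullyFlat S (E₁ ⊗[S] E₂) := Module.FaithfullyFlat.trans S E₁ (E₁ ⊗[S] E₂)
  have hsol₁ : (symSys lam t n id (fun _ _ => 1)).Sol E₁ :=
    (symSys_sol_iff lam t n id (fun _ _ => 1) E₁).mpr
      ⟨e₁, he₁, fun a b => by rw [hs₁, one_smul]; rfl⟩
  have hsol₂ : (symSys lam t' n id (fun _ _ => 1)).Sol E₂ :=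
    (symSys_sol_iff lam t' n id (fun _ _ => 1) E₂).mpr
      ⟨e₂, he₂, fun a b => by rw [hs₂, one_smul]; rfl⟩
  have hsol₁' := NatSys.Sol.map _ (Algebra.TensorProduct.includeLeft : E₁ →ₐ[S] E₁ ⊗[S] E₂) hsol₁
  have hsol₂' := NatSys.Sol.map _ (Algebra.TensorProduct.includeRight : E₂ →ₐ[S] E₁ ⊗[S] E₂) hsol₂
  obtain ⟨e, he, hsym⟩ := (symSys_sol_iff lam t n id (fun _ _ => 1) (E₁ ⊗[S] E₂)).mp hsol₁'
  obtain ⟨e', he', hsym'⟩ := (symSys_sol_iff lam t' n id (fun _ _ => 1) (E₁ ⊗[S] E₂)).mp hsol₂'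
  obtain ⟨f, hf1, hf2⟩ := isoOver_of_patMatUnits lam n id (fun _ _ => 1) t (E₁ ⊗[S] E₂) t' hn
    (fun _ => rfl) hrank hrank' e he hsym e' he' hsym'
  exact ⟨E₁ ⊗[S] E₂, inferInstance, inferInstance, inferInstance, inferInstance, f, hf1, hf2⟩

end Local

section Two

variable {S : Type u} {R : Type v} [CommRing S] [CommRing R] [Algebra S R]
  (lam : R ≃ₐ[S] R) (hlam : ∀ r, lam (lam r) = r) (hfix : RInv.IsFixedRing S R lam.toRingEquiv)
  {A : Type w} [Ring A] [Algebra S A] [Algebra R A] [IsScalarTower S R A] [IsAzumaya R A]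
  (t : LamInv R A lam)
  {A' : Type w'} [Ring A'] [Algebra S A'] [Algebra R A'] [IsScalarTower S R A'] [IsAzumaya R A']
  (t' : LamInv R A' lam)

/-- an orthogonal and a symplectic involution do not have the same type at a ramified point -/
theorem false_of_sym_symp (Λ : Type u) [CommRing Λ] [Algebra S Λ] (h2Λ : IsUnit (2 : Λ))
    [Nontrivial (Λ ⊗[S] R)]
    (hJ : ∀ z : Λ ⊗[S] R,
      (Algebra.TensorProduct.congr (AlgEquiv.refl : Λ ≃ₐ[S] Λ) lam).toRingEquiv z - z ∈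
        Ring.jacobson (Λ ⊗[S] R))
    (k k' : ℕ) (hk : 0 < k) (hk' : 0 < k')
    (hφ : IsoOver lam (t.matrix (Fin k)) (t'.matrix (Fin k')) Λ)
    (n m : ℕ) (hn : 0 < n) (hm : 0 < m * 2)
    (hrank : ∀ p : PrimeSpectrum R, Module.rankAtStalk (R := R) A p = n ^ 2)
    (hrank' : ∀ p : PrimeSpectrum R, Module.rankAtStalk (R := R) A' p = (m * 2) ^ 2)
    (e : Fin n → Fin n → Λ ⊗[S] A) (he : IsMatUnits e)
    (hes : ∀ a b, t.bc S lam Λ (e a b) = e b a)
    (g : Fin (m * 2) → Fin (m * 2) → Λ ⊗[S] A') (hg : IsMatUnits g)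
    (hgs : ∀ a b, t'.bc S lam Λ (g a b) =
      (sympμ m a * sympμ m b) • g (sympπ m b) (sympπ m a)) : False := by
  classical
  haveI : NeZero k := ⟨hk.ne'⟩
  haveI : NeZero k' := ⟨hk'.ne'⟩
  haveI : IsAzumaya R (Matrix (Fin k) (Fin k) A) := Groth.Agent.Lib.LeadLGA.isAzumaya_matrix A k
  haveI : IsAzumaya R (Matrix (Fin k') (Fin k') A') :=
    Groth.Agent.Lib.LeadLGA.isAzumaya_matrix A' k'
  have hrankC : ∀ p : PrimeSpectrum R,
      Module.rankAtStalk (R := R) (Matrix (Fin k) (Fin k) A) p = (k * n) ^ 2 := by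
    intro p
    rw [Groth.Agent.Lib.LeadLGA.rankAtStalk_matrix A k p, hrank]
    ring
  have hrankC' : ∀ p : PrimeSpectrum R,
      Module.rankAtStalk (R := R) (Matrix (Fin k') (Fin k') A') p = (k' * (m * 2)) ^ 2 := by
    intro p
    rw [Groth.Agent.Lib.LeadLGA.rankAtStalk_matrix A' k' p, hrank']
    ring
  obtain ⟨E, hE, hEs⟩ := exists_matUnits_matrix k n lam t Λ id (fun _ _ => 1) e he
    (fun a b => by rw [hes, one_smul]; rfl)
  obtain ⟨E', hE', hEs'⟩ := exists_matUnits_matrix k' (m * 2) lam t' Λ (sympπ m)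
    (fun a b => sympμ m a * sympμ m b) g hg hgs
  obtain ⟨φ, hφ1, hφ2⟩ := hφ
  have hne : Ring.jacobson (Λ ⊗[S] R) ≠ ⊤ := by
    intro htop
    have h1 : (1 : Λ ⊗[S] R) ∈ Ring.jacobson (Λ ⊗[S] R) := by rw [htop]; trivial
    exact Groth.Agent.Lib.Helper15.QuadEtale.not_isUnit_of_mem_jacobson h1 isUnit_one
  refine not_sym_and_neg lam (t.matrix (Fin k)) (t'.matrix (Fin k')) Λ h2Λ
    (Ring.jacobson (Λ ⊗[S] R)) hne (fun z => hJ z) φ hφ1 hφ2 (k * n) (k' * (m * 2))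
    (Nat.mul_pos hk hn) (Nat.mul_pos hk' hm) hrankC hrankC' E hE ?_ E' hE'
    (liftπ k' (m * 2) (sympπ m)) (liftπ_liftπ k' (m * 2) (sympπ m) (sympπ_sympπ m))
    (liftc k' (m * 2) (fun a b => sympμ m a * sympμ m b)) ?_ ?_ hEs'
  · intro a b
    rw [hEs, liftπ_id, liftπ_id]
    change (1 : ℤ) • E b a = E b a
    rw [one_smul]
  · intro a b
    have hμ : ∀ x : Fin (m * 2), sympμ m x = 1 ∨ sympμ m x = -1 := by
      intro x
      unfold sympμ
      split_ifs <;> simp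
    unfold liftc
    beta_reduce
    rcases hμ (finProdFinEquiv.symm a).2 with h | h <;>
      rcases hμ (finProdFinEquiv.symm b).2 with h' | h' <;> rw [h, h'] <;> simp
  · intro a
    rw [liftc_liftπ, sympμ_sympπ, mul_neg, sympμ_mul_self]

attribute [local instance 10] algSsh algSL

include hlam hfix in
/-- two involutions of the same type on Azumaya algebras of the same degree are isomorphic
étale-locally at every prime, when `2` is invertible -/
theorem exists_local_iso_of_sameType (h2 : IsUnit (2 : S)) (n : ℕ) (hn : 0 < n)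
    (hrank : ∀ p : PrimeSpectrum R, Module.rankAtStalk (R := R) A p = n ^ 2)
    (hrank' : ∀ p : PrimeSpectrum R, Module.rankAtStalk (R := R) A' p = n ^ 2)
    (h : SameType S lam t t') (p : Ideal S) [p.IsPrime] :
    ∃ (E : Type u) (_ : CommRing E) (_ : Algebra S E),
      Algebra.Etale S E ∧ (∃ Q : Ideal E, Q.IsPrime ∧ Q.comap (algebraMap S E) = p) ∧
        IsoOver lam t t' E := by
  classical
  let Sp := Localization.AtPrime p
  let Ω := SeparableClosure (ResidueField Sp)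
  letI : Algebra Sp Ω :=
    ((algebraMap (ResidueField Sp) Ω).comp (algebraMap Sp (ResidueField Sp))).toAlgebra
  haveI : IsScalarTower Sp (ResidueField Sp) Ω := IsScalarTower.of_algebraMap_eq (fun _ => rfl)
  let Λ := Rsh Sp Ω
  haveI : Module.Flat S Λ := Module.Flat.trans S Sp Λ
  haveI : IsSepClosed (ResidueField Λ) :=
    (inferInstance : IsSepClosure (ResidueField Sp) (ResidueField Λ)).sep_closed
  obtain ⟨k, k', hk, hk', S₁, _, _, hEt, hFF, f, hf1, hf2⟩ := h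
  haveI := hEt
  haveI := hFF
  obtain ⟨σ⟩ := exists_algHom_of_etale_ff (S := S) S₁ Λ
  have hφ : IsoOver lam (t.matrix (Fin k)) (t'.matrix (Fin k')) Λ :=
    IsoOver.map σ ⟨f, hf1, hf2⟩
  have h2Λ : IsUnit (2 : Λ) := by
    have := h2.map (algebraMap S Λ)
    rwa [map_ofNat] at this
  have hfix' := Groth.Agent.S15586.result S R Λ lam hlam hfix (Or.inl inferInstance)
  haveI : Nontrivial (Λ ⊗[S] R) := hfix'.1.nontrivial
  rcases exists_sym_or_symp_gen lam hlam hfix t Λ h2 n hn hrank with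
    ⟨e, he, hes⟩ | ⟨hJ, m, hm, g, hg, hgs⟩
  · rcases exists_sym_or_symp_gen lam hlam hfix t' Λ h2 n hn hrank' with
      ⟨e', he', hes'⟩ | ⟨hJ', m', hm', g', hg', hgs'⟩
    · -- both orthogonal
      refine exists_local_iso_of_good lam t t' n hn hrank hrank' id (fun _ => rfl)
        (fun _ _ => 1) p ?_ ?_
      · apply NatSys.good_of_sh _ p Ω
        exact (symSys_sol_iff _ t n id (fun _ _ => 1) Λ).mpr
          ⟨e, he, fun a b => by rw [hes, one_smul]; rfl⟩
      · apply NatSys.good_of_sh _ p Ω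
        exact (symSys_sol_iff _ t' n id (fun _ _ => 1) Λ).mpr
          ⟨e', he', fun a b => by rw [hes', one_smul]; rfl⟩
    · exfalso
      subst hm'
      exact false_of_sym_symp lam t t' Λ h2Λ hJ' k k' hk hk' hφ (m' * 2) m' hn hn hrank hrank'
        e he hes g' hg' hgs'
  · rcases exists_sym_or_symp_gen lam hlam hfix t' Λ h2 n hn hrank' with
      ⟨e', he', hes'⟩ | ⟨hJ', m', hm', g', hg', hgs'⟩
    · exfalso
      subst hm
      exact false_of_sym_symp lam t' t Λ h2Λ hJ k' k hk' hk hφ.symm (m * 2) m hn hn hrank' hrank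
        e' he' hes' g hg hgs
    · -- both symplectic
      have hmm : m = m' := by omega
      subst hmm
      subst hm
      refine exists_local_iso_of_good lam t t' (m * 2) hn hrank hrank' (sympπ m)
        (sympπ_sympπ m) (fun a b => sympμ m a * sympμ m b) p ?_ ?_
      · apply NatSys.good_of_sh _ p Ω
        exact (symSys_sol_iff _ t _ _ _ Λ).mpr ⟨g, hg, hgs⟩
      · apply NatSys.good_of_sh _ p Ω
        exact (symSys_sol_iff _ t' _ _ _ Λ).mpr ⟨g', hg', hgs'⟩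

include hlam hfix in
/-- the case where `2` is invertible -/
theorem locIsoEt_of_sameType_two (h2 : IsUnit (2 : S)) (n : ℕ) (hn : 0 < n)
    (hrank : ∀ p : PrimeSpectrum R, Module.rankAtStalk (R := R) A p = n ^ 2)
    (hrank' : ∀ p : PrimeSpectrum R, Module.rankAtStalk (R := R) A' p = n ^ 2)
    (h : SameType S lam t t') : LocIsoEt S lam t t' := by
  obtain ⟨S', _, _, hEt, hFF, f, hf1, hf2⟩ := exists_cover_of_local
    (fun E _ _ => IsoOver lam t t' E) (fun m E _ _ hE => IsoOver.pi m E hE)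
    (fun p _ => exists_local_iso_of_sameType lam hlam hfix t t' h2 n hn hrank hrank' h p)
  exact ⟨S', inferInstance, inferInstance, hEt, hFF, f, hf1, hf2⟩

end Two

end Groth.Agent.Lib.Helper19EtLoc
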