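import Mathlib
import Groth.Agent.Lib.Helper19EtLocAA
import Groth.Agent.Lib.Helper19EtLocY

/-!
# Étale-local solvability (helper19), part AB: over an everywhere ramified base with `2`
invertible, every `lam`-involution is étale-locally orthogonal or symplectic, exclusively
-/

set_option autoImplicit false
set_option linter.style.haveILetI false
set_option linter.unusedSectionVars false

open TensorProduct

namespace Groth.Agent.Lib.Helper19EtLoc

open Groth.Agent.Lib.Helper19AzSplit Groth.Agent.Lib.Helper19SemiSN AzInv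
  Groth.Agent.Lib.LeadAzumaya IsLocalRing Groth.Agent.Lib.Helper3.Sh
  Groth.Agent.Lib.Helper15.QuadEtale

universe u v w

section Nontriv

theorem nontrivial_tensor_of_mem_range' {R : Type u} [CommRing R] (E₁ : Type u) (E₂ : Type v)
    [CommRing E₁] [CommRing E₂] [Algebra R E₁] [Algebra R E₂] (p : PrimeSpectrum R)
    (h₁ : p ∈ Set.range (PrimeSpectrum.comap (algebraMap R E₁)))
    (h₂ : p ∈ Set.range (PrimeSpectrum.comap (algebraMap R E₂))) :
    Nontrivial (E₁ ⊗[R] E₂) := by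
  let K := p.asIdeal.ResidueField
  haveI : Nontrivial (K ⊗[R] E₁) := (PrimeSpectrum.nontrivial_iff_mem_rangeComap p).mpr h₁
  haveI : Nontrivial (K ⊗[R] E₂) := (PrimeSpectrum.nontrivial_iff_mem_rangeComap p).mpr h₂
  haveI : Module.FaithfullyFlat K (K ⊗[R] E₁) := inferInstance
  haveI : Nontrivial ((K ⊗[R] E₁) ⊗[K] (K ⊗[R] E₂)) :=
    Module.FaithfullyFlat.lTensor_nontrivial K (K ⊗[R] E₁) (K ⊗[R] E₂)
  let e1 : (K ⊗[R] E₁) ⊗[K] (K ⊗[R] E₂) ≃ₗ[K] (K ⊗[R] E₁) ⊗[R] E₂ :=
    TensorProduct.AlgebraTensorModule.cancelBaseChange R K K (K ⊗[R] E₁) E₂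
  let e2 : (K ⊗[R] E₁) ⊗[R] E₂ ≃ₗ[R] K ⊗[R] (E₁ ⊗[R] E₂) := TensorProduct.assoc R K E₁ E₂
  by_contra hne
  rw [not_nontrivial_iff_subsingleton] at hne
  haveI := hne
  haveI : Subsingleton (K ⊗[R] (E₁ ⊗[R] E₂)) := inferInstance
  haveI : Subsingleton ((K ⊗[R] E₁) ⊗[R] E₂) := e2.toEquiv.subsingleton
  haveI : Subsingleton ((K ⊗[R] E₁) ⊗[K] (K ⊗[R] E₂)) := e1.toEquiv.subsingleton
  exact not_subsingleton _ ‹_›

end Nontriv

section Ram

variable {S : Type u} {R : Type v} [CommRing S] [CommRing R] [Algebra S R]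
  (lam : R ≃ₐ[S] R) (hlam : ∀ r, lam (lam r) = r) (hfix : RInv.IsFixedRing S R lam.toRingEquiv)

include hlam hfix in
/-- above a prime where the localisation is not quadratic étale there is a ramified prime -/
theorem exists_ramified_prime (h2 : IsUnit (2 : S)) (p : Ideal S) [p.IsPrime]
    (hnq : ¬ RInv.IsQuadEtale (Localization.AtPrime p) (Localization.AtPrime p ⊗[S] R)) :
    ∃ q : Ideal R, q.IsPrime ∧ (∀ r, lam r - r ∈ q) ∧ q.comap (algebraMap S R) = p := by
  let Sp := Localization.AtPrime p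
  have hfixp := Groth.Agent.S15586.result S R Sp lam hlam hfix (Or.inl inferInstance)
  set lamp : (Sp ⊗[S] R) ≃+* (Sp ⊗[S] R) :=
    (Algebra.TensorProduct.congr (AlgEquiv.refl : Sp ≃ₐ[S] Sp) lam).toRingEquiv with hlamp
  have hinv : Function.Involutive lamp := by
    intro z
    change Algebra.TensorProduct.congr (AlgEquiv.refl : Sp ≃ₐ[S] Sp) lam
      (Algebra.TensorProduct.congr (AlgEquiv.refl : Sp ≃ₐ[S] Sp) lam z) = z
    induction z using TensorProduct.induction_on with
    | zero => simp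
    | tmul s r => simp [hlam]
    | add x y hx hy => rw [map_add, map_add, hx, hy]
  have h2p : IsUnit (2 : Sp) := by
    have := h2.map (algebraMap S Sp)
    rwa [map_ofNat] at this
  have hno : ∀ w : Sp ⊗[S] R, lamp w = -w → ¬ IsUnit w := by
    intro w hw hu
    exact hnq (isQuadEtale_of_anti_unit lamp hinv hfixp h2p w hu hw)
  have hJ := sub_mem_jacobson lamp hinv hfixp hno
  haveI : Nontrivial (Sp ⊗[S] R) := hfixp.1.nontrivial
  obtain ⟨M, hM⟩ := Ideal.exists_maximal (Sp ⊗[S] R)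
  have hJM : Ring.jacobson (Sp ⊗[S] R) ≤ M := by
    rw [← Ideal.jacobson_bot]
    exact sInf_le ⟨bot_le, hM⟩
  let ι : R →+* Sp ⊗[S] R :=
    (Algebra.TensorProduct.includeRight : R →ₐ[S] Sp ⊗[S] R).toRingHom
  refine ⟨M.comap ι, Ideal.comap_isPrime _ _, fun r => ?_, ?_⟩
  · rw [Ideal.mem_comap]
    apply hJM
    have : ι (lam r - r) = lamp ((1 : Sp) ⊗ₜ[S] r) - (1 : Sp) ⊗ₜ[S] r := by
      rw [map_sub]
      rfl
    rw [this]
    exact hJ _
  · ext s
    rw [Ideal.mem_comap, Ideal.mem_comap]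
    have h1 : ι (algebraMap S R s) = algebraMap Sp (Sp ⊗[S] R) (algebraMap S Sp s) := by
      change (1 : Sp) ⊗ₜ[S] algebraMap S R s = _
      rw [Algebra.TensorProduct.algebraMap_apply, Algebra.algebraMap_self_apply,
        Algebra.algebraMap_eq_smul_one s, Algebra.algebraMap_eq_smul_one (A := Sp) s,
        TensorProduct.smul_tmul]
    rw [h1]
    constructor
    · intro hs
      by_contra hsp
      have hu : IsUnit (algebraMap S Sp s) :=
        IsLocalization.map_units Sp (⟨s, hsp⟩ : p.primeCompl)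
      exact hM.ne_top (Ideal.eq_top_of_isUnit_mem _ hs (hu.map (algebraMap Sp (Sp ⊗[S] R))))
    · intro hs
      apply hJM
      apply algebraMap_mem_jacobson lamp hinv hfixp
      rw [← Localization.AtPrime.comap_maximalIdeal (I := p)] at hs
      exact hs

/-- over an `S`-algebra whose spectrum meets the fibre of a prime below a ramified prime, the
base-changed involution is trivial modulo a proper ideal -/
theorem exists_proper_ideal_of_ramified (q : Ideal R) [q.IsPrime] (hq : ∀ r, lam r - r ∈ q)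
    (E : Type u) [CommRing E] [Algebra S E]
    (hE : (⟨q.comap (algebraMap S R), inferInstance⟩ : PrimeSpectrum S) ∈
      Set.range (PrimeSpectrum.comap (algebraMap S E))) :
    ∃ I : Ideal (E ⊗[S] R), I ≠ ⊤ ∧
      ∀ z : E ⊗[S] R, Algebra.TensorProduct.congr (AlgEquiv.refl : E ≃ₐ[S] E) lam z - z ∈ I := by
  haveI : Nontrivial (E ⊗[S] (R ⧸ q)) := by
    refine nontrivial_tensor_of_mem_range' E (R ⧸ q) ⟨q.comap (algebraMap S R), inferInstance⟩
      hE ⟨⟨⊥, Ideal.bot_prime⟩, ?_⟩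
    apply PrimeSpectrum.ext
    change (⊥ : Ideal (R ⧸ q)).comap (algebraMap S (R ⧸ q)) = q.comap (algebraMap S R)
    rw [IsScalarTower.algebraMap_eq S R (R ⧸ q), ← Ideal.comap_comap]
    congr 1
    rw [← RingHom.ker_eq_comap_bot]
    exact Ideal.mk_ker
  let ψ : E ⊗[S] R →ₐ[S] E ⊗[S] (R ⧸ q) :=
    Algebra.TensorProduct.map (AlgHom.id S E) ((Ideal.Quotient.mkₐ S q))
  refine ⟨RingHom.ker ψ.toRingHom, ?_, fun z => ?_⟩
  · intro htop
    have : (1 : E ⊗[S] R) ∈ RingHom.ker ψ.toRingHom := by rw [htop]; trivial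
    rw [RingHom.mem_ker, map_one] at this
    exact one_ne_zero this
  · rw [RingHom.mem_ker]
    change ψ _ = 0
    induction z using TensorProduct.induction_on with
    | zero => simp
    | tmul s r =>
      rw [Algebra.TensorProduct.congr_apply, Algebra.TensorProduct.map_tmul, map_sub,
        Algebra.TensorProduct.map_tmul, Algebra.TensorProduct.map_tmul]
      change s ⊗ₜ[S] (Ideal.Quotient.mkₐ S q) (lam r) - s ⊗ₜ[S] (Ideal.Quotient.mkₐ S q) r = 0
      rw [← TensorProduct.tmul_sub]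
      have : (Ideal.Quotient.mkₐ S q) (lam r) - (Ideal.Quotient.mkₐ S q) r = 0 := by
        rw [← map_sub]
        exact Ideal.Quotient.eq_zero_iff_mem.mpr (hq r)
      rw [this, TensorProduct.tmul_zero]
    | add x y hx hy =>
      have : Algebra.TensorProduct.congr (AlgEquiv.refl : E ≃ₐ[S] E) lam (x + y) - (x + y) =
          (Algebra.TensorProduct.congr (AlgEquiv.refl : E ≃ₐ[S] E) lam x - x) +
            (Algebra.TensorProduct.congr (AlgEquiv.refl : E ≃ₐ[S] E) lam y - y) := by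
        rw [map_add]
        ring
      rw [this, map_add, hx, hy, add_zero]

end Ram

section Dich

variable {S : Type u} {R : Type v} [CommRing S] [CommRing R] [Algebra S R]
  (lam : R ≃ₐ[S] R) (hlam : ∀ r, lam (lam r) = r) (hfix : RInv.IsFixedRing S R lam.toRingEquiv)
  {A : Type w} [Ring A] [Algebra S A] [Algebra R A] [IsScalarTower S R A] [IsAzumaya R A]
  (t : LamInv R A lam) (n : ℕ)

attribute [local instance 10] algSsh algSL

include hlam hfix in
/-- at every prime, the orthogonal or the symplectic system is solvable étale-locally -/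
theorem good_sym_or_symp_gen (h2 : IsUnit (2 : S)) (hn : 0 < n)
    (hrank : ∀ p : PrimeSpectrum R, Module.rankAtStalk (R := R) A p = n ^ 2)
    (p : Ideal S) [p.IsPrime] :
    (symSys lam t n id (fun _ _ => 1)).Good p ∨
    (n = (n / 2) * 2 ∧ (symSys lam t ((n / 2) * 2) (sympπ (n / 2))
      (fun a b => sympμ (n / 2) a * sympμ (n / 2) b)).Good p) := by
  let Sp := Localization.AtPrime p
  let Ω := SeparableClosure (ResidueField Sp)
  letI : Algebra Sp Ω :=
    ((algebraMap (ResidueField Sp) Ω).comp (algebraMap Sp (ResidueField Sp))).toAlgebra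
  haveI : IsScalarTower Sp (ResidueField Sp) Ω := IsScalarTower.of_algebraMap_eq (fun _ => rfl)
  let Λ := Rsh Sp Ω
  haveI : Module.Flat S Λ := Module.Flat.trans S Sp Λ
  haveI : IsSepClosed (ResidueField Λ) :=
    (inferInstance : IsSepClosure (ResidueField Sp) (ResidueField Λ)).sep_closed
  rcases exists_sym_or_symp_gen lam hlam hfix t Λ h2 n hn hrank with
    ⟨f, hf, hsym⟩ | ⟨-, m, hm, g, hg, hsym⟩
  · left
    apply NatSys.good_of_sh _ p Ω
    exact (symSys_sol_iff _ t n id (fun _ _ => 1) Λ).mpr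
      ⟨f, hf, fun a b => by rw [hsym, one_smul]; rfl⟩
  · right
    have hm' : m = n / 2 := by omega
    subst hm'
    refine ⟨hm, ?_⟩
    apply NatSys.good_of_sh _ p Ω
    exact (symSys_sol_iff _ t _ _ _ Λ).mpr ⟨g, hg, hsym⟩

include hlam hfix in
/-- at a ramified prime the two systems are not both solvable étale-locally -/
theorem not_good_sym_and_symp (h2 : IsUnit (2 : S)) (m : ℕ) (hm : 0 < m * 2)
    (hrank : ∀ p : PrimeSpectrum R, Module.rankAtStalk (R := R) A p = (m * 2) ^ 2)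
    (p : Ideal S) [p.IsPrime]
    (hnq : ¬ RInv.IsQuadEtale (Localization.AtPrime p) (Localization.AtPrime p ⊗[S] R))
    (ho : (symSys lam t (m * 2) id (fun _ _ => 1)).Good p)
    (hs : (symSys lam t (m * 2) (sympπ m) (fun a b => sympμ m a * sympμ m b)).Good p) :
    False := by
  obtain ⟨Eo, _, _, hEto, ⟨Qo, hQo, hQop⟩, hsolo⟩ := ho
  obtain ⟨Es, _, _, hEts, ⟨Qs, hQs, hQsp⟩, hsols⟩ := hs
  obtain ⟨q, hqprime, hq, hqp⟩ := exists_ramified_prime lam hlam hfix h2 p hnq
  haveI := hqprime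
  have hmem : (⟨p, inferInstance⟩ : PrimeSpectrum S) ∈
      Set.range (PrimeSpectrum.comap (algebraMap S (Eo ⊗[S] Es))) :=
    mem_range_tensor Eo Es ⟨p, inferInstance⟩
      ⟨⟨Qo, hQo⟩, PrimeSpectrum.ext hQop⟩ ⟨⟨Qs, hQs⟩, PrimeSpectrum.ext hQsp⟩
  have hmem' : (⟨q.comap (algebraMap S R), inferInstance⟩ : PrimeSpectrum S) ∈
      Set.range (PrimeSpectrum.comap (algebraMap S (Eo ⊗[S] Es))) := by
    convert hmem using 2
  obtain ⟨I, hI, hlamI⟩ := exists_proper_ideal_of_ramified lam q hq (Eo ⊗[S] Es) hmem'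
  have h2E : IsUnit (2 : Eo ⊗[S] Es) := by
    have := h2.map (algebraMap S (Eo ⊗[S] Es))
    rwa [map_ofNat] at this
  have hsolo' := NatSys.Sol.map _ (Algebra.TensorProduct.includeLeft : Eo →ₐ[S] Eo ⊗[S] Es) hsolo
  have hsols' := NatSys.Sol.map _ (Algebra.TensorProduct.includeRight : Es →ₐ[S] Eo ⊗[S] Es) hsols
  obtain ⟨f, hf, hfsym⟩ := (symSys_sol_iff lam t (m * 2) id (fun _ _ => 1) (Eo ⊗[S] Es)).mp hsolo'
  obtain ⟨g, hg, hgsym⟩ := (symSys_sol_iff lam t _ _ _ (Eo ⊗[S] Es)).mp hsols'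
  have hμ : ∀ x : Fin (m * 2), sympμ m x = 1 ∨ sympμ m x = -1 := by
    intro x
    unfold sympμ
    split_ifs <;> simp
  refine not_sym_and_neg lam t t (Eo ⊗[S] Es) h2E I hI hlamI AlgEquiv.refl
    (fun _ _ => rfl) (fun _ => rfl) (m * 2) (m * 2) hm hm hrank hrank f hf
    (fun a b => by rw [hfsym, one_smul]; rfl) g hg (sympπ m) (sympπ_sympπ m)
    (fun a b => sympμ m a * sympμ m b) ?_ ?_ hgsym
  · intro a b
    rcases hμ a with h | h <;> rcases hμ b with h' | h' <;> rw [h, h'] <;> simp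
  · intro a
    rw [sympμ_sympπ, mul_neg, sympμ_mul_self]

end Dich

end Groth.Agent.Lib.Helper19EtLoc
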