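import Mathlib
import Groth.Agent.Lib.Helper19EtLocF

/-!
# Étale-local solvability (helper19), part G: the quadratic étale case — symmetric matrix units
over an étale cover, and the neutral type
-/

set_option autoImplicit false
set_option linter.style.haveILetI false
set_option linter.unusedSectionVars false

open TensorProduct

namespace Groth.Agent.Lib.Helper19EtLoc

open Groth.Agent.Lib.Helper19AzSplit Groth.Agent.Lib.Helper19SemiSN AzInv
  Groth.Agent.Lib.LeadAzumaya IsLocalRing Groth.Agent.Lib.Helper3.Sh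

universe u v w

section Main

variable {S : Type u} {R : Type v} [CommRing S] [CommRing R] [Algebra S R]
  (lam : R ≃ₐ[S] R) (hlam : ∀ r, lam (lam r) = r) (hfix : RInv.IsFixedRing S R lam.toRingEquiv)
  {A : Type w} [Ring A] [Algebra S A] [Algebra R A] [IsScalarTower S R A] [IsAzumaya R A]
  (t : LamInv R A lam) (n : ℕ)

attribute [local instance 10] algSsh algSL

include hlam hfix in
theorem exists_cover_symMatUnits_quadEtale (hq : RInv.IsQuadEtale S R) (hn : 0 < n)
    (hrank : ∀ p : PrimeSpectrum R, Module.rankAtStalk (R := R) A p = n ^ 2) :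
    ∃ (S' : Type u) (_ : CommRing S') (_ : Algebra S S'), Algebra.Etale S S' ∧
      Module.FaithfullyFlat S S' ∧
      ∃ e : Fin n → Fin n → S' ⊗[S] A, IsMatUnits e ∧ ∀ a b, t.bc S lam S' (e a b) = e b a := by
  let 𝒟 := symSys lam t n id (fun _ _ => 1)
  obtain ⟨S', i1, i2, hEt, hFF, hsol⟩ := NatSys.exists_etale_cover 𝒟 (by
    intro p _
    let Sp := Localization.AtPrime p
    let Ω := SeparableClosure (ResidueField Sp)
    letI : Algebra Sp Ω :=
      ((algebraMap (ResidueField Sp) Ω).comp (algebraMap Sp (ResidueField Sp))).toAlgebra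
    haveI : IsScalarTower Sp (ResidueField Sp) Ω := IsScalarTower.of_algebraMap_eq (fun _ => rfl)
    let Λ := Rsh Sp Ω
    haveI : Module.Flat S Λ := Module.Flat.trans S Sp Λ
    haveI : IsSepClosed (ResidueField Λ) :=
      (inferInstance : IsSepClosure (ResidueField Sp) (ResidueField Λ)).sep_closed
    obtain ⟨e, he, hsym⟩ :=
      exists_symMatUnits_quadEtale lam hlam hfix (A := A) t n Λ hq hn hrank
    exact (symSys_sol_iff lam t n id (fun _ _ => 1) Λ).mpr
      ⟨e, he, fun a b => by rw [hsym, one_smul]; rfl⟩)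
  obtain ⟨e, he, hsym⟩ := (symSys_sol_iff lam t n id (fun _ _ => 1) S').mp hsol
  exact ⟨S', i1, i2, hEt, hFF, e, he, fun a b => by rw [hsym, one_smul]; rfl⟩

include hfix in
theorem sameType_of_isQuadEtale (hq : RInv.IsQuadEtale S R) (hn : 0 < n)
    (hrank : ∀ p : PrimeSpectrum R, Module.rankAtStalk (R := R) A p = n ^ 2) :
    SameType S lam t (LamInv.self lam hlam) := by
  obtain ⟨S', _, _, hEt, hFF, e, he, hsym⟩ :=
    exists_cover_symMatUnits_quadEtale lam hlam hfix (A := A) t n hq hn hrank
  haveI := hEt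
  haveI := hFF
  exact sameType_of_symMatUnits lam hlam t n S' hn hrank e he hsym

end Main

end Groth.Agent.Lib.Helper19EtLoc
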