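import Mathlib
import Groth.Agent.Lib.Helper19EtLocN
import Groth.Agent.Lib.Helper19EtLocC

/-!
# Étale-local solvability (helper19), part Z: the global model `(M_{2m}(R), Int(w) ∘ lam-transpose)`
with `w = ε + (1 - ε) J` for an idempotent `ε` of the fixed ring
-/

set_option autoImplicit false
set_option linter.style.haveILetI false
set_option linter.unusedSectionVars false

open TensorProduct

namespace Groth.Agent.Lib.Helper19EtLoc

open Groth.Agent.Lib.Helper19AzSplit AzInv

universe u v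

section Model

variable {S : Type u} {R : Type v} [CommRing S] [CommRing R] [Algebra S R]
  (lam : R ≃ₐ[S] R) (hlam : ∀ r, lam (lam r) = r) (m : ℕ)

/-- the standard alternating matrix of size `2m` -/
def stdJ : Matrix (Fin (m * 2)) (Fin (m * 2)) R :=
  Matrix.of fun i j => if j = sympπ m i then ((sympμ m i : ℤ) : R) else 0

theorem stdJ_apply (i j : Fin (m * 2)) :
    (stdJ m : Matrix (Fin (m * 2)) (Fin (m * 2)) R) i j =
      if j = sympπ m i then ((sympμ m i : ℤ) : R) else 0 := rfl

theorem stdJ_mul_stdJ : (stdJ m : Matrix (Fin (m * 2)) (Fin (m * 2)) R) * stdJ m = -1 := by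
  classical
  ext i k
  rw [Matrix.mul_apply, Finset.sum_eq_single (sympπ m i)]
  · rw [stdJ_apply, if_pos rfl, stdJ_apply, sympπ_sympπ, sympμ_sympπ, Matrix.neg_apply,
      Matrix.one_apply]
    by_cases h : k = i
    · rw [if_pos h, if_pos h.symm]
      push_cast
      have := sympμ_mul_self m i
      have h' : ((sympμ m i : ℤ) : R) * ((sympμ m i : ℤ) : R) = 1 := by
        rw [← Int.cast_mul, this, Int.cast_one]
      linear_combination -h'
    · rw [if_neg h, if_neg (Ne.symm h), mul_zero, neg_zero]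
  · intro j _ hj
    rw [stdJ_apply, if_neg hj, zero_mul]
  · intro h
    exact absurd (Finset.mem_univ _) h

theorem transpose_stdJ :
    LamInv.transpose lam (Fin (m * 2)) hlam (stdJ m) = -(stdJ m : Matrix _ _ R) := by
  ext i j
  rw [LamInv.transpose_apply, Matrix.neg_apply, stdJ_apply, stdJ_apply]
  by_cases h : j = sympπ m i
  · have h' : i = sympπ m j := by rw [h, sympπ_sympπ]
    rw [if_pos h, if_pos h', map_intCast, h, sympμ_sympπ, Int.cast_neg]
  · have h' : ¬ i = sympπ m j := by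
      intro h'
      apply h
      rw [h', sympπ_sympπ]
    rw [if_neg h, if_neg h', map_zero, neg_zero]

/-- `J E_{ba} J = -μ_a μ_b E_{π b, π a}` -/
theorem stdJ_single_stdJ (a b : Fin (m * 2)) :
    (stdJ m : Matrix _ _ R) * Matrix.single b a 1 * stdJ m =
      -(((sympμ m a * sympμ m b : ℤ) : R) • Matrix.single (sympπ m b) (sympπ m a) (1 : R)) := by
  classical
  ext i j
  rw [Matrix.mul_apply, Finset.sum_eq_single a]
  · rw [Matrix.mul_apply, Finset.sum_eq_single b]
    · rw [Matrix.single_apply_same, mul_one, stdJ_apply, stdJ_apply, Matrix.neg_apply,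
        Matrix.smul_apply, Matrix.single_apply]
      by_cases hi : b = sympπ m i
      · have hi' : sympπ m b = i := by rw [hi, sympπ_sympπ]
        rw [if_pos hi]
        by_cases hj : j = sympπ m a
        · rw [if_pos hj, if_pos ⟨hi', hj.symm⟩, smul_eq_mul, mul_one, ← hi', sympμ_sympπ]
          push_cast
          ring
        · rw [if_neg hj, mul_zero, if_neg (fun h => hj h.2.symm), smul_zero, neg_zero]
      · have hi' : ¬ sympπ m b = i := by
          intro h
          apply hi
          rw [← h, sympπ_sympπ]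
        rw [if_neg hi, zero_mul, if_neg (fun h => hi' h.1), smul_zero, neg_zero]
    · intro k _ hk
      rw [Matrix.single_apply_of_ne, mul_zero]
      exact fun h => hk h.1.symm
    · intro h
      exact absurd (Finset.mem_univ b) h
  · intro k _ hk
    have : ((stdJ m : Matrix _ _ R) * Matrix.single b a (1 : R)) i k = 0 := by
      rw [Matrix.mul_apply]
      apply Finset.sum_eq_zero
      intro l _
      rw [Matrix.single_apply_of_ne, mul_zero]
      exact fun h => hk h.2.symm
    rw [this, zero_mul]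
  · intro h
    exact absurd (Finset.mem_univ a) h

variable (ε₀ : S) (hε₀ : ε₀ * ε₀ = ε₀)

/-- the matrix `w = ε + (1 - ε) J` -/
def modelW : Matrix (Fin (m * 2)) (Fin (m * 2)) R :=
  algebraMap S R ε₀ • 1 + (1 - algebraMap S R ε₀) • stdJ m

/-- its inverse `ε - (1 - ε) J` -/
def modelWi : Matrix (Fin (m * 2)) (Fin (m * 2)) R :=
  algebraMap S R ε₀ • 1 - (1 - algebraMap S R ε₀) • stdJ m

include hε₀ in
theorem modelW_mul_modelWi : (modelW m ε₀ : Matrix _ _ R) * modelWi m ε₀ = 1 := by
  have hε : algebraMap S R ε₀ * algebraMap S R ε₀ = algebraMap S R ε₀ := by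
    rw [← map_mul, hε₀]
  set ε := algebraMap S R ε₀ with hεdef
  unfold modelW modelWi
  rw [add_mul, mul_sub, mul_sub]
  simp only [Matrix.smul_mul, Matrix.mul_smul, Matrix.one_mul, Matrix.mul_one, smul_smul,
    stdJ_mul_stdJ]
  have h1 : ε * (1 - ε) = 0 := by rw [mul_sub, mul_one, hε, sub_self]
  have h2 : (1 - ε) * ε = 0 := by rw [mul_comm, h1]
  have h3 : (1 - ε) * (1 - ε) = 1 - ε := by ring_nf; rw [pow_two, hε]; ring
  rw [hε, h1, h2, h3]
  simp only [zero_smul, sub_zero, zero_sub, add_zero, zero_add, smul_neg, neg_neg,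
    sub_neg_eq_add]
  rw [← add_smul]
  have : ε + (1 - ε) = 1 := by ring
  rw [this, one_smul]

include hε₀ in
theorem modelWi_mul_modelW : (modelWi m ε₀ : Matrix _ _ R) * modelW m ε₀ = 1 := by
  have hε : algebraMap S R ε₀ * algebraMap S R ε₀ = algebraMap S R ε₀ := by
    rw [← map_mul, hε₀]
  set ε := algebraMap S R ε₀ with hεdef
  unfold modelW modelWi
  rw [sub_mul, mul_add, mul_add]
  simp only [Matrix.smul_mul, Matrix.mul_smul, Matrix.one_mul, Matrix.mul_one, smul_smul,
    stdJ_mul_stdJ]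
  have h1 : ε * (1 - ε) = 0 := by rw [mul_sub, mul_one, hε, sub_self]
  have h2 : (1 - ε) * ε = 0 := by rw [mul_comm, h1]
  have h3 : (1 - ε) * (1 - ε) = 1 - ε := by ring_nf; rw [pow_two, hε]; ring
  rw [hε, h1, h2, h3]
  simp only [zero_smul, sub_zero, zero_sub, add_zero, zero_add, smul_neg, neg_neg,
    sub_neg_eq_add]
  rw [← add_smul]
  have : ε + (1 - ε) = 1 := by ring
  rw [this, one_smul]

/-- the unit `w` -/
noncomputable def modelUnit : (Matrix (Fin (m * 2)) (Fin (m * 2)) R)ˣ :=
  ⟨modelW m ε₀, modelWi m ε₀, modelW_mul_modelWi m ε₀ hε₀, modelWi_mul_modelW m ε₀ hε₀⟩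

include hε₀ in
theorem transpose_modelW :
    LamInv.transpose lam (Fin (m * 2)) hlam (modelW m ε₀) =
      algebraMap S R (2 * ε₀ - 1) • (modelW m ε₀ : Matrix _ _ R) := by
  have hε : algebraMap S R ε₀ * algebraMap S R ε₀ = algebraMap S R ε₀ := by
    rw [← map_mul, hε₀]
  unfold modelW
  rw [LamInv.map_add, LamInv.map_smul, LamInv.map_smul, LamInv.map_one, transpose_stdJ,
    map_sub, map_one, lam.commutes, smul_add, smul_smul, smul_smul, map_sub, map_mul, map_ofNat,
    map_one]
  set ε := algebraMap S R ε₀ with hεdef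
  have h1 : (2 * ε - 1) * ε = ε := by
    calc (2 * ε - 1) * ε = 2 * (ε * ε) - ε := by ring
      _ = ε := by rw [hε]; ring
  have h2 : (2 * ε - 1) * (1 - ε) = -(1 - ε) := by
    calc (2 * ε - 1) * (1 - ε) = 3 * ε - 2 * (ε * ε) - 1 := by ring
      _ = -(1 - ε) := by rw [hε]; ring
  rw [h1, h2, neg_smul, smul_neg]

include hε₀ in
theorem lam_e_mul_e : lam (algebraMap S R (2 * ε₀ - 1)) * algebraMap S R (2 * ε₀ - 1) = 1 := by
  rw [lam.commutes, ← map_mul]
  have : (2 * ε₀ - 1) * (2 * ε₀ - 1) = 1 := by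
    calc (2 * ε₀ - 1) * (2 * ε₀ - 1) = 4 * (ε₀ * ε₀) - 4 * ε₀ + 1 := by ring
      _ = 1 := by rw [hε₀]; ring
  rw [this, map_one]

end Model

section ModelInv

variable {S : Type u} {R : Type v} [CommRing S] [CommRing R] [Algebra S R]
  (lam : R ≃ₐ[S] R) (hlam : ∀ r, lam (lam r) = r) (m : ℕ) (ε₀ : S) (hε₀ : ε₀ * ε₀ = ε₀)

/-- the model involution `x ↦ w (lam-transpose x) w⁻¹` -/
noncomputable def modelInv : LamInv R (Matrix (Fin (m * 2)) (Fin (m * 2)) R) lam :=
  (LamInv.transpose lam (Fin (m * 2)) hlam).conj (modelUnit m ε₀ hε₀)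
    (algebraMap S R (2 * ε₀ - 1)) (transpose_modelW lam hlam m ε₀ hε₀) (lam_e_mul_e lam ε₀ hε₀)

theorem transpose_single' (n : ℕ) (a b : Fin n) :
    LamInv.transpose lam (Fin n) hlam (Matrix.single a b (1 : R)) =
      Matrix.single b a (1 : R) := by
  ext i j
  rw [LamInv.transpose_apply, Matrix.single_apply, Matrix.single_apply]
  by_cases h : a = j ∧ b = i
  · rw [if_pos h, if_pos ⟨h.2, h.1⟩, map_one]
  · rw [if_neg h, if_neg (fun h' => h ⟨h'.2, h'.1⟩), map_zero]

theorem modelInv_single (a b : Fin (m * 2)) :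
    modelInv lam hlam m ε₀ hε₀ (Matrix.single a b (1 : R)) =
      algebraMap S R ε₀ • Matrix.single b a (1 : R) +
        (1 - algebraMap S R ε₀) •
          (((sympμ m a * sympμ m b : ℤ) : R) • Matrix.single (sympπ m b) (sympπ m a) (1 : R)) := by
  have hε : algebraMap S R ε₀ * algebraMap S R ε₀ = algebraMap S R ε₀ := by
    rw [← map_mul, hε₀]
  change (modelW m ε₀ : Matrix _ _ R) * LamInv.transpose lam (Fin (m * 2)) hlam
    (Matrix.single a b (1 : R)) * modelWi m ε₀ = _
  rw [transpose_single']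
  set ε := algebraMap S R ε₀ with hεdef
  have h1 : ε * (1 - ε) = 0 := by rw [mul_sub, mul_one, hε, sub_self]
  have h2 : (1 - ε) * ε = 0 := by rw [mul_comm, h1]
  have h3 : (1 - ε) * (1 - ε) = 1 - ε := by ring_nf; rw [pow_two, hε]; ring
  unfold modelW modelWi
  rw [add_mul, add_mul, mul_sub, mul_sub]
  simp only [Matrix.smul_mul, Matrix.mul_smul, Matrix.one_mul, Matrix.mul_one, smul_smul]
  rw [hε, h1, h2, h3, stdJ_single_stdJ]
  simp only [zero_smul, sub_zero, zero_add, smul_neg, neg_neg, sub_neg_eq_add]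
  rw [smul_smul]

variable (X : Type u) [CommRing X] [Algebra S X]

/-- the standard matrix units of the base change -/
theorem isMatUnits_tmul_single (n : ℕ) :
    IsMatUnits (fun a b : Fin n =>
      ((1 : X) ⊗ₜ[S] Matrix.single a b (1 : R) : X ⊗[S] Matrix (Fin n) (Fin n) R)) :=
  (isMatUnits_single R n).map
    ((Algebra.TensorProduct.includeRight :
      Matrix (Fin n) (Fin n) R →ₐ[S] X ⊗[S] Matrix (Fin n) (Fin n) R) :
      Matrix (Fin n) (Fin n) R →+* X ⊗[S] Matrix (Fin n) (Fin n) R)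

theorem tmul_algebraMap_smul (s : S) (M : Matrix (Fin (m * 2)) (Fin (m * 2)) R) :
    ((1 : X) ⊗ₜ[S] (algebraMap S R s • M) : X ⊗[S] Matrix (Fin (m * 2)) (Fin (m * 2)) R) =
      algebraMap S X s ⊗ₜ[S] M := by
  rw [algebraMap_smul, ← TensorProduct.smul_tmul, Algebra.smul_def, mul_one]

/-- where `ε₀` becomes `1` the model is orthogonal -/
theorem modelInv_bc_of_one (h1 : algebraMap S X ε₀ = 1) (a b : Fin (m * 2)) :
    (modelInv lam hlam m ε₀ hε₀).bc S lam X ((1 : X) ⊗ₜ[S] Matrix.single a b (1 : R)) =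
      (1 : X) ⊗ₜ[S] Matrix.single b a (1 : R) := by
  rw [LamInv.bc_tmul, modelInv_single, TensorProduct.tmul_add, tmul_algebraMap_smul, h1]
  have : (1 - algebraMap S R ε₀) = algebraMap S R (1 - ε₀) := by rw [map_sub, map_one]
  rw [this, tmul_algebraMap_smul, map_sub, h1, map_one, sub_self, TensorProduct.zero_tmul,
    add_zero]

/-- where `ε₀` becomes `0` the model is symplectic -/
theorem modelInv_bc_of_zero (h0 : algebraMap S X ε₀ = 0) (a b : Fin (m * 2)) :
    (modelInv lam hlam m ε₀ hε₀).bc S lam X ((1 : X) ⊗ₜ[S] Matrix.single a b (1 : R)) =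
      (sympμ m a * sympμ m b) •
        ((1 : X) ⊗ₜ[S] Matrix.single (sympπ m b) (sympπ m a) (1 : R)) := by
  rw [LamInv.bc_tmul, modelInv_single, TensorProduct.tmul_add, tmul_algebraMap_smul, h0,
    TensorProduct.zero_tmul, zero_add]
  have : (1 - algebraMap S R ε₀) = algebraMap S R (1 - ε₀) := by rw [map_sub, map_one]
  rw [this, tmul_algebraMap_smul, map_sub, h0, map_one, sub_zero, Int.cast_smul_eq_zsmul]
  exact map_zsmul (TensorProduct.mk S X (Matrix (Fin (m * 2)) (Fin (m * 2)) R) 1) _ _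

end ModelInv

end Groth.Agent.Lib.Helper19EtLoc
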