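import Mathlib
import Groth.Agent.Lib.Helper19EtLocAB
import Groth.Agent.Lib.Helper19EtLocZ
import Groth.Agent.Lib.Helper19EtLocG

/-!
# Étale-local solvability (helper19), part AC: every `lam`-involution is ordinary (quadratic étale
case, and everywhere ramified case with `2` invertible)
-/

set_option autoImplicit false
set_option linter.style.haveILetI false
set_option linter.unusedSectionVars false

open TensorProduct

namespace Groth.Agent.Lib.Helper19EtLoc

open Groth.Agent.Lib.Helper19AzSplit Groth.Agent.Lib.Helper19SemiSN AzInv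
  Groth.Agent.Lib.LeadAzumaya IsLocalRing Groth.Agent.Lib.Helper3.Sh
  Groth.Agent.Lib.Helper15.QuadEtale

universe u v w

section Ordinary

variable {S : Type u} {R : Type v} [CommRing S] [CommRing R] [Algebra S R]
  (lam : R ≃ₐ[S] R) (hlam : ∀ r, lam (lam r) = r) (hfix : RInv.IsFixedRing S R lam.toRingEquiv)
  {A : Type w} [Ring A] [Algebra S A] [Algebra R A] [IsScalarTower S R A] [IsAzumaya R A]
  (t : LamInv R A lam) (n : ℕ)

theorem rankAtStalk_matrix_self (hn : 0 < n) (p : PrimeSpectrum R) :
    Module.rankAtStalk (R := R) (Matrix (Fin n) (Fin n) R) p = n ^ 2 := by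
  haveI : Nontrivial R := p.nontrivial
  rw [Module.rankAtStalk_eq_finrank_of_free]
  simp [Module.finrank_matrix, pow_two]

/-- symmetric matrix units over an étale cover: the involution is ordinary with `w = 1` -/
theorem exists_ordinary_of_symMatUnits (hn : 0 < n)
    (hrank : ∀ p : PrimeSpectrum R, Module.rankAtStalk (R := R) A p = n ^ 2)
    (h1 : ∃ (S' : Type u) (_ : CommRing S') (_ : Algebra S S'), Algebra.Etale S S' ∧
      Module.FaithfullyFlat S S' ∧
      ∃ e : Fin n → Fin n → S' ⊗[S] A, IsMatUnits e ∧ ∀ a b, t.bc S lam S' (e a b) = e b a) :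
    ∃ (w : (Matrix (Fin n) (Fin n) R)ˣ) (e : R)
      (hw : LamInv.transpose lam (Fin n) hlam (↑w : Matrix (Fin n) (Fin n) R) =
        e • (↑w : Matrix (Fin n) (Fin n) R))
      (he : lam e * e = 1),
      LocIsoEt S lam t ((LamInv.transpose lam (Fin n) hlam).conj w e hw he) := by
  haveI : Nonempty (Fin n) := Fin.pos_iff_nonempty.mp hn
  haveI : IsAzumaya R (Matrix (Fin n) (Fin n) R) := IsAzumaya.matrix R (Fin n)
  refine ⟨1, 1, by rw [Units.val_one, LamInv.map_one, one_smul], by rw [map_one, mul_one], ?_⟩
  refine locIsoEt_of_symMatUnits lam t _ n hn hrank (rankAtStalk_matrix_self n hn) h1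
    ⟨S, inferInstance, inferInstance, inferInstance, inferInstance,
      fun a b => (1 : S) ⊗ₜ[S] Matrix.single a b (1 : R), isMatUnits_tmul_single S n,
      fun a b => ?_⟩
  rw [LamInv.bc_tmul, LamInv.conj_apply, transpose_single', Units.val_one, inv_one,
    Units.val_one, one_mul, mul_one]

attribute [local instance 10] algSsh algSL

include hfix in
/-- the everywhere ramified case -/
theorem exists_ordinary_of_ramified (h2 : IsUnit (2 : S))
    (hram : ∀ p : PrimeSpectrum S, ¬ RInv.IsQuadEtale (Localization.AtPrime p.asIdeal)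
      (Localization.AtPrime p.asIdeal ⊗[S] R))
    (hn : 0 < n)
    (hrank : ∀ p : PrimeSpectrum R, Module.rankAtStalk (R := R) A p = n ^ 2) :
    ∃ (w : (Matrix (Fin n) (Fin n) R)ˣ) (e : R)
      (hw : LamInv.transpose lam (Fin n) hlam (↑w : Matrix (Fin n) (Fin n) R) =
        e • (↑w : Matrix (Fin n) (Fin n) R))
      (he : lam e * e = 1),
      LocIsoEt S lam t ((LamInv.transpose lam (Fin n) hlam).conj w e hw he) := by
  classical
  set 𝒟o := symSys lam t n id (fun _ _ => 1) with h𝒟o
  by_cases hall : ∀ x : PrimeSpectrum S, 𝒟o.Good x.asIdeal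
  · obtain ⟨S', i1, i2, hEt, hFF, hsol⟩ :=
      NatSys.exists_cover_of_good 𝒟o (fun p _ => hall ⟨p, inferInstance⟩)
    obtain ⟨e, he, hsym⟩ := (symSys_sol_iff _ t n id (fun _ _ => 1) S').mp hsol
    exact exists_ordinary_of_symMatUnits lam hlam t n hn hrank
      ⟨S', i1, i2, hEt, hFF, e, he, fun a b => by rw [hsym, one_smul]; rfl⟩
  · push Not at hall
    obtain ⟨x₀, hx₀⟩ := hall
    have hdich := fun x : PrimeSpectrum S =>
      good_sym_or_symp_gen lam hlam hfix t n h2 hn hrank x.asIdeal
    obtain ⟨hn2, -⟩ := (hdich x₀).resolve_left hx₀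
    clear hx₀ x₀
    clear_value 𝒟o
    revert 𝒟o hdich hrank
    rw [hn2] at hn
    generalize n / 2 = m at *
    subst hn2
    intro hrank 𝒟o h𝒟o hdich
    set 𝒟s := symSys lam t (m * 2) (sympπ m) (fun a b => sympμ m a * sympμ m b) with h𝒟s
    have hdich' : ∀ x : PrimeSpectrum S, 𝒟o.Good x.asIdeal ∨ 𝒟s.Good x.asIdeal := by
      intro x
      rcases hdich x with h | ⟨-, h⟩
      · left
        rw [h𝒟o]
        exact h
      · exact Or.inr h
    have hdisj : ∀ x : PrimeSpectrum S, 𝒟o.Good x.asIdeal → 𝒟s.Good x.asIdeal → False := by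
      intro x ho hs
      rw [h𝒟o] at ho
      exact not_good_sym_and_symp lam hlam hfix t h2 m hn hrank x.asIdeal (hram x) ho hs
    -- the clopen decomposition
    have hclopen : IsClopen {x : PrimeSpectrum S | 𝒟o.Good x.asIdeal} := by
      refine ⟨?_, NatSys.isOpen_good 𝒟o⟩
      have : {x : PrimeSpectrum S | 𝒟o.Good x.asIdeal}ᶜ =
          {x : PrimeSpectrum S | 𝒟s.Good x.asIdeal} := by
        ext x
        simp only [Set.mem_compl_iff, Set.mem_setOf_eq]
        constructor
        · intro h
          exact (hdich' x).resolve_left h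
        · intro hs ho
          exact hdisj x ho hs
      rw [← isOpen_compl_iff, this]
      exact NatSys.isOpen_good 𝒟s
    obtain ⟨ε₀, hε₀, hU⟩ := PrimeSpectrum.exists_idempotent_basicOpen_eq_of_isClopen hclopen
    have hε₀' : ε₀ * ε₀ = ε₀ := hε₀
    haveI : Nonempty (Fin (m * 2)) := Fin.pos_iff_nonempty.mp hn
    haveI : IsAzumaya R (Matrix (Fin (m * 2)) (Fin (m * 2)) R) :=
      IsAzumaya.matrix R (Fin (m * 2))
    refine ⟨modelUnit m ε₀ hε₀', algebraMap S R (2 * ε₀ - 1),
      transpose_modelW lam hlam m ε₀ hε₀', lam_e_mul_e lam ε₀ hε₀', ?_⟩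
    change LocIsoEt S lam t (modelInv lam hlam m ε₀ hε₀')
    have hmemU : ∀ x : PrimeSpectrum S, 𝒟o.Good x.asIdeal ↔ ε₀ ∉ x.asIdeal := by
      intro x
      have : x ∈ {x : PrimeSpectrum S | 𝒟o.Good x.asIdeal} ↔
          x ∈ (PrimeSpectrum.basicOpen ε₀ : Set (PrimeSpectrum S)) := by rw [hU]
      exact this
    obtain ⟨S', _, _, hEt, hFF, f, hf1, hf2⟩ := exists_cover_of_local
      (fun E _ _ => IsoOver lam t (modelInv lam hlam m ε₀ hε₀') E)
      (fun k E _ _ hE => IsoOver.pi k E hE)
      (fun p _ => by
        rcases hdich' ⟨p, inferInstance⟩ with ho | hs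
        · -- orthogonal neighbourhood
          obtain ⟨E, iCR, iAlg, hEtE, ⟨Q, hQ, hQp⟩, hsol⟩ := ho
          refine ⟨E, iCR, iAlg, hEtE, ⟨Q, hQ, hQp⟩, ?_⟩
          have hunit : IsUnit (algebraMap S E ε₀) := by
            by_contra hnu
            obtain ⟨M, hM, hmem⟩ := exists_max_ideal_of_mem_nonunits hnu
            haveI := hM
            have hgood : 𝒟o.Good (M.comap (algebraMap S E)) :=
              ⟨E, inferInstance, inferInstance, hEtE, ⟨M, hM.isPrime, rfl⟩, hsol⟩
            exact (hmemU ⟨M.comap (algebraMap S E), inferInstance⟩).mp hgood hmem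
          have hone : algebraMap S E ε₀ = 1 := by
            have hidem : algebraMap S E ε₀ * algebraMap S E ε₀ = algebraMap S E ε₀ := by
              rw [← map_mul, hε₀']
            obtain ⟨v, hv⟩ := hunit.exists_right_inv
            calc algebraMap S E ε₀ = algebraMap S E ε₀ * algebraMap S E ε₀ * v := by
                  rw [mul_assoc, hv, mul_one]
              _ = 1 := by rw [hidem, hv]
          obtain ⟨e, he, hsym⟩ := (symSys_sol_iff _ t (m * 2) id (fun _ _ => 1) E).mp
            (by rw [← h𝒟o]; exact hsol)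
          exact isoOver_of_patMatUnits lam (m * 2) id (fun _ _ => 1) t E
            (modelInv lam hlam m ε₀ hε₀') hn (fun _ => rfl) hrank
            (rankAtStalk_matrix_self (m * 2) hn) e he hsym
            (fun a b => (1 : E) ⊗ₜ[S] Matrix.single a b (1 : R)) (isMatUnits_tmul_single E (m * 2))
            (fun a b => by
              rw [modelInv_bc_of_one lam hlam m ε₀ hε₀' E hone, one_smul]
              rfl)
        · -- symplectic neighbourhood
          obtain ⟨E, iCR, iAlg, hEtE, ⟨Q, hQ, hQp⟩, hsol⟩ := hs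
          refine ⟨E, iCR, iAlg, hEtE, ⟨Q, hQ, hQp⟩, ?_⟩
          have hnil : algebraMap S E ε₀ ∈ nilradical E := by
            rw [nilradical_eq_sInf, Ideal.mem_sInf]
            intro P hP
            haveI : P.IsPrime := hP
            have hgood : 𝒟s.Good (P.comap (algebraMap S E)) :=
              ⟨E, inferInstance, inferInstance, hEtE, ⟨P, hP, rfl⟩, hsol⟩
            by_contra hmem
            have hgo : 𝒟o.Good (P.comap (algebraMap S E)) :=
              (hmemU ⟨P.comap (algebraMap S E), inferInstance⟩).mpr hmem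
            exact hdisj ⟨P.comap (algebraMap S E), inferInstance⟩ hgo hgood
          have hzero : algebraMap S E ε₀ = 0 := by
            have hidem : IsIdempotentElem (algebraMap S E ε₀) := by
              change algebraMap S E ε₀ * algebraMap S E ε₀ = algebraMap S E ε₀
              rw [← map_mul, hε₀']
            obtain ⟨k, hk⟩ := hnil
            rcases Nat.eq_zero_or_pos k with hk0 | hkpos
            · subst hk0
              rw [pow_zero] at hk
              haveI : Subsingleton E := subsingleton_of_zero_eq_one hk.symm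
              exact Subsingleton.elim _ _
            · have hk' : k = (k - 1) + 1 := by omega
              rw [hk', hidem.pow_succ_eq] at hk
              exact hk
          obtain ⟨e, he, hsym⟩ := (symSys_sol_iff _ t (m * 2) (sympπ m)
            (fun a b => sympμ m a * sympμ m b) E).mp hsol
          exact isoOver_of_patMatUnits lam (m * 2) (sympπ m)
            (fun a b => sympμ m a * sympμ m b) t E
            (modelInv lam hlam m ε₀ hε₀') hn (sympπ_sympπ m) hrank
            (rankAtStalk_matrix_self (m * 2) hn) e he hsym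
            (fun a b => (1 : E) ⊗ₜ[S] Matrix.single a b (1 : R)) (isMatUnits_tmul_single E (m * 2))
            (fun a b => modelInv_bc_of_zero lam hlam m ε₀ hε₀' E hzero a b))
    exact ⟨S', inferInstance, inferInstance, hEt, hFF, f, hf1, hf2⟩

end Ordinary

end Groth.Agent.Lib.Helper19EtLoc
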