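import Mathlib
import Groth.Agent.S17360

/-!
# Étale-local solvability (helper19), part AD: the dimension of the symmetric elements of a
linear involution with a signed permutation basis
-/

set_option autoImplicit false
set_option linter.style.haveILetI false
set_option linter.unusedSectionVars false

namespace Groth.Agent.Lib.Helper19EtLoc

open Module

/-- the dimension of the `+1`-eigenspace of an involution permuting a basis up to signs -/
theorem two_mul_finrank_sym {K : Type*} [Field K] (h2 : (2 : K) ≠ 0) {M : Type*} [AddCommGroup M]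
    [Module K M] (τ : M →ₗ[K] M) (hτ2 : ∀ x, τ (τ x) = x) {ι : Type*} [Fintype ι]
    (b : Basis ι K M) (σ : ι → ι) (ε : ι → K) (hσ : ∀ i, σ (σ i) = i)
    (hε : ∀ i, ε i = 1 ∨ ε i = -1) (hτ : ∀ i, τ (b i) = ε i • b (σ i))
    (P Q : Submodule K M) (hP : ∀ x, τ x = x → x ∈ P) (hQ : ∀ x, τ x = -x → x ∈ Q)
    (hPQ : finrank K P + finrank K Q = finrank K M) :
    2 * finrank K P + Nat.card {i // σ i = i ∧ ε i = -1} =
      Fintype.card ι + Nat.card {i // σ i = i ∧ ε i = 1} := by
  classical
  letI : LinearOrder ι := LinearOrder.lift' (Fintype.equivFin ι) (Equiv.injective _)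
  have h2u : IsUnit (2 : K) := isUnit_iff_ne_zero.mpr h2
  haveI : Module.Finite K M := Module.Finite.of_basis b
  have hu := Groth.Agent.S17360.linearIndependent_eigen h2u τ b σ ε hσ hε hτ 1 (Or.inl rfl)
  have hv := Groth.Agent.S17360.linearIndependent_eigen h2u τ b σ ε hσ hε hτ (-1) (Or.inr rfl)
  have hu' : ∀ i : {i : ι // i < σ i ∨ (σ i = i ∧ ε i = 1)},
      b i.1 + (1 : K) • τ (b i.1) ∈ P := by
    intro i
    apply hP
    have := Groth.Agent.S17360.eigen_apply τ hτ2 1 (Or.inl rfl) (b i.1)
    rw [this, one_smul]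
  have hv' : ∀ i : {i : ι // i < σ i ∨ (σ i = i ∧ ε i = -1)},
      b i.1 + (-1 : K) • τ (b i.1) ∈ Q := by
    intro i
    apply hQ
    have := Groth.Agent.S17360.eigen_apply τ hτ2 (-1) (Or.inr rfl) (b i.1)
    rw [this, neg_one_smul]
  have hcu : Fintype.card {i : ι // i < σ i ∨ (σ i = i ∧ ε i = 1)} ≤ finrank K P := by
    have hli : LinearIndependent K
        (fun i : {i : ι // i < σ i ∨ (σ i = i ∧ ε i = 1)} =>
          (⟨b i.1 + (1 : K) • τ (b i.1), hu' i⟩ : P)) := by
      refine LinearIndependent.of_comp P.subtype ?_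
      exact hu
    exact hli.fintype_card_le_finrank
  have hcv : Fintype.card {i : ι // i < σ i ∨ (σ i = i ∧ ε i = -1)} ≤ finrank K Q := by
    have hli : LinearIndependent K
        (fun i : {i : ι // i < σ i ∨ (σ i = i ∧ ε i = -1)} =>
          (⟨b i.1 + (-1 : K) • τ (b i.1), hv' i⟩ : Q)) := by
      refine LinearIndependent.of_comp Q.subtype ?_
      exact hv
    exact hli.fintype_card_le_finrank
  have c1 := Groth.Agent.S17360.count_eigen h2u σ ε hσ hε 1 (Or.inl rfl)
  have c2 := Groth.Agent.S17360.count_eigen h2u σ ε hσ hε (-1) (Or.inr rfl)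
  rw [neg_neg] at c2
  have hM : finrank K M = Fintype.card ι := Module.finrank_eq_card_basis b
  simp only [Nat.card_eq_fintype_card] at c1 c2 ⊢
  omega

end Groth.Agent.Lib.Helper19EtLoc
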