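import Mathlib
import Groth.Agent.Lib.Helper19EtLocAD
import Groth.Agent.Lib.Helper19EtLocY
import Groth.Agent.Lib.Helper10AzSign

/-!
# Étale-local solvability (helper19), part AE: matrix units over an `S`-algebra `X` with a given
symmetry pattern determine the dimension of the symmetric elements in the fibre over a field `K`
receiving `X`, at a point where the involution of the base is trivial
-/

set_option autoImplicit false
set_option linter.style.haveILetI false
set_option linter.unusedSectionVars false

open TensorProduct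

namespace Groth.Agent.Lib.Helper19EtLoc

open Groth.Agent.Lib.Helper19AzSplit AzInv Groth.Agent.Lib.LeadAzumaya
  Groth.Agent.Lib.Helper10.AzSign Module

universe u v w

section Chi

variable {S : Type u} {R : Type v} [CommRing S] [CommRing R] [Algebra S R] (lam : R ≃ₐ[S] R)
  {A : Type w} [Ring A] [Algebra S A] [Algebra R A] [IsScalarTower S R A] (t : LamInv R A lam)
  (X : Type*) [CommRing X] [Algebra S X]
  (K : Type*) [Field K] [Algebra R K] [Algebra S K] [IsScalarTower S R K]
  (ψ : X →ₐ[S] K)

/-- the specialisation map `X ⊗[S] A → K ⊗[R] A` -/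
noncomputable def chi : X ⊗[S] A →ₐ[S] K ⊗[R] A :=
  (Algebra.TensorProduct.mapOfCompatibleSMul R S S K A).comp
    (Algebra.TensorProduct.map ψ (AlgHom.id S A))

theorem chi_tmul (x : X) (a : A) : chi (R := R) X K ψ (x ⊗ₜ[S] a) = ψ x ⊗ₜ[R] a := rfl

variable (hram : ∀ r : R, algebraMap R K (lam r) = algebraMap R K r)

theorem chi_bc (x : X ⊗[S] A) :
    chi (R := R) X K ψ (t.bc S lam X x) = fibreInv t K hram (chi (R := R) X K ψ x) := by
  induction x using TensorProduct.induction_on with
  | zero => simp
  | tmul x a => rw [LamInv.bc_tmul, chi_tmul, chi_tmul, fibreInv_tmul]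
  | add x y hx hy => rw [map_add, map_add, hx, map_add, hy, map_add]

end Chi

section Basis

variable {R : Type v} [CommRing R] {A : Type w} [Ring A] [Algebra R A] [IsAzumaya R A]
  (K : Type*) [Field K] [Algebra R K]

/-- matrix units in the fibre form a basis -/
theorem exists_basis_fibre (n : ℕ) (hn : 0 < n)
    (hrank : ∀ p : PrimeSpectrum R, Module.rankAtStalk (R := R) A p = n ^ 2)
    (f : Fin n → Fin n → K ⊗[R] A) (hf : IsMatUnits f) :
    ∃ b : Module.Basis (Fin n × Fin n) K (K ⊗[R] A), ∀ i, b i = f i.1 i.2 := by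
  classical
  haveI : IsAzumaya K (K ⊗[R] A) := isAzumaya_baseChange K A
  have hrankK : ∀ p : PrimeSpectrum K, Module.rankAtStalk (R := K) (K ⊗[R] A) p = n ^ 2 := by
    intro p
    rw [Module.rankAtStalk_baseChange, hrank]
  let g : Matrix (Fin n) (Fin n) K ≃ₐ[K] K ⊗[R] A :=
    AlgEquiv.ofBijective (matHom (R := K) f hf) (bijective_matHom hn hrankK f hf)
  refine ⟨(Matrix.stdBasis K (Fin n) (Fin n)).map g.toLinearEquiv, ?_⟩
  rintro ⟨a, c⟩
  change g (Matrix.stdBasis K (Fin n) (Fin n) (a, c)) = f a c
  rw [Matrix.stdBasis_eq_single]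
  exact matHom_single f hf a c

end Basis

section Key

variable {S : Type u} {R : Type v} [CommRing S] [CommRing R] [Algebra S R] (lam : R ≃ₐ[S] R)
  {A : Type w} [Ring A] [Algebra S A] [Algebra R A] [IsScalarTower S R A] [IsAzumaya R A]
  (t : LamInv R A lam)
  (X : Type*) [CommRing X] [Algebra S X]
  (K : Type*) [Field K] [Algebra R K] [Algebra S K] [IsScalarTower S R K]
  (ψ : X →ₐ[S] K) (hram : ∀ r : R, algebraMap R K (lam r) = algebraMap R K r)

include hram in
theorem mem_symSpan_of_fixed (u : R) (hu : 2 * u = 1) (hlu : lam u = u) (h2 : (2 : K) ≠ 0)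
    (x : K ⊗[R] A) (hx : fibreInv t K hram x = x) : x ∈ symSpan t K := by
  have htop : x ∈ symSpan t K ⊔ skewSpan t K := by
    rw [symSpan_sup_skewSpan t K u hu hlu]; trivial
  obtain ⟨s, hs, k, hk, rfl⟩ := Submodule.mem_sup.mp htop
  have h1 : fibreInv t K hram s = s := by
    have : symSpan t K ≤ LinearMap.ker (fibreInv t K hram - LinearMap.id) := by
      apply Submodule.span_le.mpr
      rintro _ ⟨a, rfl⟩
      simp [a.2]
    have := this hs
    rwa [LinearMap.mem_ker, LinearMap.sub_apply, LinearMap.id_apply, sub_eq_zero] at this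
  have h2' : fibreInv t K hram k = -k := by
    have : skewSpan t K ≤ LinearMap.ker (fibreInv t K hram + LinearMap.id) := by
      apply Submodule.span_le.mpr
      rintro _ ⟨a, rfl⟩
      simp [a.2, TensorProduct.tmul_neg]
    have := this hk
    rwa [LinearMap.mem_ker, LinearMap.add_apply, LinearMap.id_apply,
      add_eq_zero_iff_eq_neg] at this
  rw [map_add, h1, h2'] at hx
  have h3 : (2 : K) • k = 0 := by
    rw [two_smul]
    have : -k = k := by
      have := congrArg (fun z => z - s) hx
      simpa using this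
    nth_rewrite 1 [← this]
    rw [neg_add_cancel]
  rcases smul_eq_zero.mp h3 with h | h
  · exact absurd h h2
  · rw [h, add_zero]; exact hs

include hram in
theorem mem_skewSpan_of_anti (u : R) (hu : 2 * u = 1) (hlu : lam u = u) (h2 : (2 : K) ≠ 0)
    (x : K ⊗[R] A) (hx : fibreInv t K hram x = -x) : x ∈ skewSpan t K := by
  have htop : x ∈ symSpan t K ⊔ skewSpan t K := by
    rw [symSpan_sup_skewSpan t K u hu hlu]; trivial
  obtain ⟨s, hs, k, hk, rfl⟩ := Submodule.mem_sup.mp htop
  have h1 : fibreInv t K hram s = s := by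
    have : symSpan t K ≤ LinearMap.ker (fibreInv t K hram - LinearMap.id) := by
      apply Submodule.span_le.mpr
      rintro _ ⟨a, rfl⟩
      simp [a.2]
    have := this hs
    rwa [LinearMap.mem_ker, LinearMap.sub_apply, LinearMap.id_apply, sub_eq_zero] at this
  have h2' : fibreInv t K hram k = -k := by
    have : skewSpan t K ≤ LinearMap.ker (fibreInv t K hram + LinearMap.id) := by
      apply Submodule.span_le.mpr
      rintro _ ⟨a, rfl⟩
      simp [a.2, TensorProduct.tmul_neg]
    have := this hk
    rwa [LinearMap.mem_ker, LinearMap.add_apply, LinearMap.id_apply,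
      add_eq_zero_iff_eq_neg] at this
  rw [map_add, h1, h2', neg_add] at hx
  have h3 : (2 : K) • s = 0 := by
    rw [two_smul]
    have : s = -s := by
      have := congrArg (fun z => z + k) hx
      simpa using this
    nth_rewrite 1 [this]
    rw [neg_add_cancel]
  rcases smul_eq_zero.mp h3 with h | h
  · exact absurd h h2
  · rw [h, zero_add]; exact hk

include hram in
theorem fibreInv_fibreInv (x : K ⊗[R] A) : fibreInv t K hram (fibreInv t K hram x) = x := by
  induction x using TensorProduct.induction_on with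
  | zero => simp
  | tmul c a => rw [fibreInv_tmul, fibreInv_tmul, t.invol]
  | add x y hx hy => rw [map_add, map_add, hx, hy]

include hram ψ in
/-- **Key lemma.** Matrix units over `X` with symmetry pattern `(π, c)` compute the dimension of
the span of the symmetric elements in the fibre over `K`. -/
theorem two_mul_finrank_symSpan (h2 : IsUnit (2 : S)) (n : ℕ) (hn : 0 < n)
    (hrank : ∀ p : PrimeSpectrum R, Module.rankAtStalk (R := R) A p = n ^ 2)
    (π : Fin n → Fin n) (hπ : ∀ a, π (π a) = a) (c : Fin n → Fin n → ℤ)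
    (hc : ∀ a b, c a b = 1 ∨ c a b = -1)
    (e : Fin n → Fin n → X ⊗[S] A) (he : IsMatUnits e)
    (hes : ∀ a b, t.bc S lam X (e a b) = c a b • e (π b) (π a)) :
    2 * finrank K (symSpan t K) +
        Nat.card {i : Fin n × Fin n // (π i.2, π i.1) = i ∧ ((c i.1 i.2 : ℤ) : K) = -1} =
      n ^ 2 + Nat.card {i : Fin n × Fin n // (π i.2, π i.1) = i ∧ ((c i.1 i.2 : ℤ) : K) = 1} := by
  classical
  obtain ⟨v, hv⟩ := h2.exists_right_inv
  have h2K : (2 : K) ≠ 0 := by
    have := h2.map (algebraMap S K)
    rw [map_ofNat] at this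
    exact this.ne_zero
  set u : R := algebraMap S R v with hu
  have hu2 : 2 * u = 1 := by
    rw [hu, ← map_ofNat (algebraMap S R) 2, ← map_mul, hv, map_one]
  have hlu : lam u = u := by rw [hu, AlgEquiv.commutes]
  let f : Fin n → Fin n → K ⊗[R] A := fun a b => chi (R := R) X K ψ (e a b)
  have hf : IsMatUnits f :=
    he.map ((chi (R := R) (A := A) X K ψ : X ⊗[S] A →ₐ[S] K ⊗[R] A) : X ⊗[S] A →+* K ⊗[R] A)
  obtain ⟨b, hb⟩ := exists_basis_fibre (R := R) (A := A) K n hn hrank f hf
  haveI : Module.Finite R A := IsAzumaya.toFinite   -- may be automatic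
  have key := two_mul_finrank_sym h2K (fibreInv t K hram) (fibreInv_fibreInv lam t K hram) b
    (fun i => (π i.2, π i.1)) (fun i => ((c i.1 i.2 : ℤ) : K)) (fun i => by simp only [hπ])
    (fun i => by rcases hc i.1 i.2 with h | h <;> rw [h] <;> simp)
    (fun i => by
      rw [hb, hb]
      change fibreInv t K hram (chi (R := R) X K ψ (e i.1 i.2)) = _
      rw [← chi_bc, hes, map_zsmul, Int.cast_smul_eq_zsmul])
    (symSpan t K) (skewSpan t K)
    (mem_symSpan_of_fixed lam t K hram u hu2 hlu h2K)
    (mem_skewSpan_of_anti lam t K hram u hu2 hlu h2K)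
    (finrank_symSpan_add_finrank_skewSpan t K hram h2K u hu2 hlu)
  rw [Fintype.card_prod, Fintype.card_fin] at key
  rw [pow_two]
  exact key

open Classical in
omit [IsAzumaya R A] [Algebra S K] [IsScalarTower S R K] in
theorem card_fix_eq (n : ℕ) (π : Fin n → Fin n) (hπ : ∀ a, π (π a) = a) (c : Fin n → Fin n → ℤ)
    (s : ℤ) (hs : ∀ a, c a (π a) = s) (z : K) :
    Nat.card {i : Fin n × Fin n // (π i.2, π i.1) = i ∧ ((c i.1 i.2 : ℤ) : K) = z} =
      if ((s : ℤ) : K) = z then n else 0 := by
  classical
  split_ifs with h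
  · have e : {i : Fin n × Fin n // (π i.2, π i.1) = i ∧ ((c i.1 i.2 : ℤ) : K) = z} ≃ Fin n :=
      { toFun := fun i => i.1.1
        invFun := fun a => ⟨(a, π a), by simp only [hπ], by rw [hs]; exact h⟩
        left_inv := by
          rintro ⟨⟨a, b⟩, h1, h3⟩
          have h4 : π a = b := congrArg Prod.snd h1
          simp only [Subtype.mk.injEq, Prod.mk.injEq, true_and]
          exact h4
        right_inv := fun a => rfl }
    rw [Nat.card_congr e, Nat.card_eq_fintype_card, Fintype.card_fin]
  · haveI : IsEmpty {i : Fin n × Fin n // (π i.2, π i.1) = i ∧ ((c i.1 i.2 : ℤ) : K) = z} := by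
      refine ⟨fun x => ?_⟩
      obtain ⟨⟨a, b⟩, h1, h3⟩ := x
      have h4 : π a = b := congrArg Prod.snd h1
      apply h
      rw [← h3]
      change _ = ((c a b : ℤ) : K)
      rw [← h4, hs]
    exact Nat.card_of_isEmpty

theorem two_mul_choose_succ_two (n : ℕ) : 2 * Nat.choose (n + 1) 2 = n ^ 2 + n := by
  induction n with
  | zero => simp
  | succ n ih =>
    rw [Nat.choose_succ_succ' (n + 1) 1, Nat.choose_one_right, mul_add, ih]
    ring

include hram ψ in
/-- symmetric matrix units: the symmetric elements have dimension `n (n + 1) / 2` -/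
theorem finrank_symSpan_of_sym (h2 : IsUnit (2 : S)) (n : ℕ) (hn : 0 < n)
    (hrank : ∀ p : PrimeSpectrum R, Module.rankAtStalk (R := R) A p = n ^ 2)
    (e : Fin n → Fin n → X ⊗[S] A) (he : IsMatUnits e)
    (hes : ∀ a b, t.bc S lam X (e a b) = e b a) :
    finrank K (symSpan t K) = Nat.choose (n + 1) 2 := by
  have h2K : (2 : K) ≠ 0 := by
    have := h2.map (algebraMap S K)
    rw [map_ofNat] at this
    exact this.ne_zero
  have hne : ((1 : ℤ) : K) ≠ -1 := by
    intro h
    apply h2K
    have : (1 : K) = -1 := by simpa using h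
    linear_combination this
  have key := two_mul_finrank_symSpan lam t X K ψ hram h2 n hn hrank id (fun _ => rfl)
    (fun _ _ => 1) (fun _ _ => Or.inl rfl) e he (fun a b => by rw [hes, one_smul]; rfl)
  rw [card_fix_eq K n id (fun _ => rfl) (fun _ _ => 1) 1 (fun _ => rfl) (-1),
    card_fix_eq K n id (fun _ => rfl) (fun _ _ => 1) 1 (fun _ => rfl) 1, if_neg hne,
    if_pos (by simp)] at key
  have := two_mul_choose_succ_two n
  omega

include hram ψ in
/-- matrix units with a pattern without symmetric fixed points: the symmetric elements have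
dimension `n (n - 1) / 2` -/
theorem finrank_symSpan_of_neg (h2 : IsUnit (2 : S)) (n : ℕ) (hn : 0 < n)
    (hrank : ∀ p : PrimeSpectrum R, Module.rankAtStalk (R := R) A p = n ^ 2)
    (π : Fin n → Fin n) (hπ : ∀ a, π (π a) = a) (c : Fin n → Fin n → ℤ)
    (hc : ∀ a b, c a b = 1 ∨ c a b = -1) (hneg : ∀ a, c a (π a) = -1)
    (e : Fin n → Fin n → X ⊗[S] A) (he : IsMatUnits e)
    (hes : ∀ a b, t.bc S lam X (e a b) = c a b • e (π b) (π a)) :
    finrank K (symSpan t K) ≠ Nat.choose (n + 1) 2 := by
  have h2K : (2 : K) ≠ 0 := by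
    have := h2.map (algebraMap S K)
    rw [map_ofNat] at this
    exact this.ne_zero
  have hne : ((-1 : ℤ) : K) ≠ 1 := by
    intro h
    apply h2K
    have : (-1 : K) = 1 := by simpa using h
    linear_combination -this
  have key := two_mul_finrank_symSpan lam t X K ψ hram h2 n hn hrank π hπ c hc e he hes
  rw [card_fix_eq K n π hπ c (-1) hneg (-1), card_fix_eq K n π hπ c (-1) hneg 1, if_neg hne,
    if_pos (by simp)] at key
  have := two_mul_choose_succ_two n
  omega

end Key

end Groth.Agent.Lib.Helper19EtLoc
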