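import Mathlib
import Groth.Agent.Lib.Helper19EtLocAE
import Groth.Agent.Lib.Helper19EtLocAB

/-!
# Étale-local solvability (helper19), part AF: the sign of an involution at a ramified prime is
determined by the kind of matrix units over any `S`-algebra hitting the prime below
-/

set_option autoImplicit false
set_option linter.style.haveILetI false
set_option linter.unusedSectionVars false

open TensorProduct

namespace Groth.Agent.Lib.Helper19EtLoc

open Groth.Agent.Lib.Helper19AzSplit AzInv Groth.Agent.Lib.LeadAzumaya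
  Groth.Agent.Lib.Helper10.AzSign Module

universe u v w

section FieldExt

variable {R : Type v} [CommRing R] {A : Type w} [Ring A] [Algebra R A] {lam : R → R}
  (t : LamInv R A lam)
  (κ : Type*) [Field κ] [Algebra R κ] (K : Type*) [Field K] [Algebra R K] [Algebra κ K]
  [IsScalarTower R κ K]

omit [Ring A] [Algebra R A] in
theorem finrank_tensor_fieldExt (Q : Type*) [AddCommGroup Q] [Module R Q] :
    finrank K (K ⊗[R] Q) = finrank κ (κ ⊗[R] Q) := by
  have e : K ⊗[κ] (κ ⊗[R] Q) ≃ₗ[K] K ⊗[R] Q :=
    TensorProduct.AlgebraTensorModule.cancelBaseChange R κ K K Q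
  rw [← e.finrank_eq, Module.finrank_baseChange]

/-- the dimension of the span of the symmetric elements is invariant under field extension -/
theorem finrank_symSpan_fieldExt [Module.Finite R A] :
    finrank K (symSpan t K) = finrank κ (symSpan t κ) := by
  rw [symSpan_eq_range, symSpan_eq_range]
  set φ := (Submodule.span R {a : A | t a = a}).subtype with hφ
  have h1 := Groth.Agent.Lib.Helper10.FibreRank.finrank_range_baseChange_add φ κ
  have h2 := Groth.Agent.Lib.Helper10.FibreRank.finrank_range_baseChange_add φ K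
  have h3 := finrank_tensor_fieldExt (R := R) κ K (A ⧸ LinearMap.range φ)
  have h4 := finrank_tensor_fieldExt (R := R) κ K A
  omega

end FieldExt

section Exist

theorem exists_field_over {S : Type u} [CommRing S] (κ : Type v) [Field κ] [Algebra S κ]
    (X : Type u) [CommRing X] [Algebra S X] (hnt : Nontrivial (X ⊗[S] κ)) :
    ∃ (K : Type (max u v)) (_ : Field K) (f : κ →+* K) (g : X →+* K),
      ∀ s : S, f (algebraMap S κ s) = g (algebraMap S X s) := by
  obtain ⟨M, hM⟩ := Ideal.exists_maximal (X ⊗[S] κ)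
  letI : Field ((X ⊗[S] κ) ⧸ M) := Ideal.Quotient.field M
  refine ⟨(X ⊗[S] κ) ⧸ M, inferInstance,
    (Ideal.Quotient.mk M).comp
      ((Algebra.TensorProduct.includeRight : κ →ₐ[S] X ⊗[S] κ) : κ →+* X ⊗[S] κ),
    (Ideal.Quotient.mk M).comp
      ((Algebra.TensorProduct.includeLeft : X →ₐ[S] X ⊗[S] κ) : X →+* X ⊗[S] κ), fun s => ?_⟩
  change Ideal.Quotient.mk M ((Algebra.TensorProduct.includeRight : κ →ₐ[S] X ⊗[S] κ) _) =
    Ideal.Quotient.mk M ((Algebra.TensorProduct.includeLeft : X →ₐ[S] X ⊗[S] κ) _)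
  rw [AlgHom.commutes, AlgHom.commutes]

end Exist

section Sign

variable {S : Type u} {R : Type v} [CommRing S] [CommRing R] [Algebra S R] (lam : R ≃ₐ[S] R)
  {A : Type w} [Ring A] [Algebra S A] [Algebra R A] [IsScalarTower S R A] [IsAzumaya R A]
  (t : LamInv R A lam)
  (X : Type u) [CommRing X] [Algebra S X]
  (κ : Type v) [Field κ] [Algebra R κ] [Algebra S κ] [IsScalarTower S R κ]
  (hramκ : ∀ r : R, algebraMap R κ (lam r) = algebraMap R κ r)
  (hnt : Nontrivial (X ⊗[S] κ))

include hramκ hnt in
theorem finrank_symSpan_of_sym' (h2 : IsUnit (2 : S)) (n : ℕ) (hn : 0 < n)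
    (hrank : ∀ p : PrimeSpectrum R, Module.rankAtStalk (R := R) A p = n ^ 2)
    (e : Fin n → Fin n → X ⊗[S] A) (he : IsMatUnits e)
    (hes : ∀ a b, t.bc S lam X (e a b) = e b a) :
    finrank κ (symSpan t κ) = Nat.choose (n + 1) 2 := by
  obtain ⟨K, _, f, g, hfg⟩ := exists_field_over κ X hnt
  letI : Algebra κ K := f.toAlgebra
  letI : Algebra R K := (f.comp (algebraMap R κ)).toAlgebra
  letI : Algebra S K := (f.comp (algebraMap S κ)).toAlgebra
  haveI : IsScalarTower R κ K := IsScalarTower.of_algebraMap_eq (fun _ => rfl)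
  haveI : IsScalarTower S R K := IsScalarTower.of_algebraMap_eq (fun s => by
    change f (algebraMap S κ s) = f (algebraMap R κ (algebraMap S R s))
    rw [← IsScalarTower.algebraMap_apply])
  let ψ : X →ₐ[S] K := { g with commutes' := fun s => (hfg s).symm }
  have hramK : ∀ r : R, algebraMap R K (lam r) = algebraMap R K r := fun r =>
    congrArg f (hramκ r)
  rw [← finrank_symSpan_fieldExt t κ K]
  exact finrank_symSpan_of_sym lam t X K ψ hramK h2 n hn hrank e he hes

include hramκ hnt in
theorem finrank_symSpan_of_neg' (h2 : IsUnit (2 : S)) (n : ℕ) (hn : 0 < n)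
    (hrank : ∀ p : PrimeSpectrum R, Module.rankAtStalk (R := R) A p = n ^ 2)
    (π : Fin n → Fin n) (hπ : ∀ a, π (π a) = a) (c : Fin n → Fin n → ℤ)
    (hc : ∀ a b, c a b = 1 ∨ c a b = -1) (hneg : ∀ a, c a (π a) = -1)
    (e : Fin n → Fin n → X ⊗[S] A) (he : IsMatUnits e)
    (hes : ∀ a b, t.bc S lam X (e a b) = c a b • e (π b) (π a)) :
    finrank κ (symSpan t κ) ≠ Nat.choose (n + 1) 2 := by
  obtain ⟨K, _, f, g, hfg⟩ := exists_field_over κ X hnt
  letI : Algebra κ K := f.toAlgebra
  letI : Algebra R K := (f.comp (algebraMap R κ)).toAlgebra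
  letI : Algebra S K := (f.comp (algebraMap S κ)).toAlgebra
  haveI : IsScalarTower R κ K := IsScalarTower.of_algebraMap_eq (fun _ => rfl)
  haveI : IsScalarTower S R K := IsScalarTower.of_algebraMap_eq (fun s => by
    change f (algebraMap S κ s) = f (algebraMap R κ (algebraMap S R s))
    rw [← IsScalarTower.algebraMap_apply])
  let ψ : X →ₐ[S] K := { g with commutes' := fun s => (hfg s).symm }
  have hramK : ∀ r : R, algebraMap R K (lam r) = algebraMap R K r := fun r =>
    congrArg f (hramκ r)
  rw [← finrank_symSpan_fieldExt t κ K]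
  exact finrank_symSpan_of_neg lam t X K ψ hramK h2 n hn hrank π hπ c hc hneg e he hes

end Sign

section Residue

variable {S : Type u} {R : Type v} [CommRing S] [CommRing R] [Algebra S R] (lam : R ≃ₐ[S] R)
  {A : Type w} [Ring A] [Algebra S A] [Algebra R A] [IsScalarTower S R A] [IsAzumaya R A]
  (t : LamInv R A lam)
  (X : Type u) [CommRing X] [Algebra S X]
  (q : Ideal R) [q.IsPrime] (hq : ∀ r : R, lam r - r ∈ q)
  (hX : (⟨q.comap (algebraMap S R), inferInstance⟩ : PrimeSpectrum S) ∈
    Set.range (PrimeSpectrum.comap (algebraMap S X)))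

include hX in
omit [Ring A] [Algebra S A] [Algebra R A] [IsScalarTower S R A] [IsAzumaya R A] in
theorem nontrivial_tensor_residue : Nontrivial (X ⊗[S] q.ResidueField) := by
  refine nontrivial_tensor_of_mem_range' X q.ResidueField ⟨q.comap (algebraMap S R), inferInstance⟩
    hX ⟨⟨⊥, Ideal.bot_prime⟩, PrimeSpectrum.ext ?_⟩
  change (⊥ : Ideal q.ResidueField).comap (algebraMap S q.ResidueField) =
    q.comap (algebraMap S R)
  rw [IsScalarTower.algebraMap_eq S R q.ResidueField, ← Ideal.comap_comap,
    ← RingHom.ker_eq_comap_bot, Ideal.ker_algebraMap_residueField]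

include hq in
omit [Ring A] [Algebra S A] [Algebra R A] [IsScalarTower S R A] [IsAzumaya R A] in
theorem hram_residue (r : R) :
    algebraMap R q.ResidueField (lam r) = algebraMap R q.ResidueField r := by
  rw [← sub_eq_zero, ← map_sub, Ideal.algebraMap_residueField_eq_zero]
  exact hq r

include hq hX in
theorem finrank_symSpan_residue_of_sym (h2 : IsUnit (2 : S)) (n : ℕ) (hn : 0 < n)
    (hrank : ∀ p : PrimeSpectrum R, Module.rankAtStalk (R := R) A p = n ^ 2)
    (e : Fin n → Fin n → X ⊗[S] A) (he : IsMatUnits e)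
    (hes : ∀ a b, t.bc S lam X (e a b) = e b a) :
    finrank q.ResidueField (symSpan t q.ResidueField) = Nat.choose (n + 1) 2 :=
  finrank_symSpan_of_sym' lam t X q.ResidueField (hram_residue lam q hq)
    (nontrivial_tensor_residue X q hX) h2 n hn hrank e he hes

include hq hX in
theorem finrank_symSpan_residue_of_neg (h2 : IsUnit (2 : S)) (n : ℕ) (hn : 0 < n)
    (hrank : ∀ p : PrimeSpectrum R, Module.rankAtStalk (R := R) A p = n ^ 2)
    (π : Fin n → Fin n) (hπ : ∀ a, π (π a) = a) (c : Fin n → Fin n → ℤ)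
    (hc : ∀ a b, c a b = 1 ∨ c a b = -1) (hneg : ∀ a, c a (π a) = -1)
    (e : Fin n → Fin n → X ⊗[S] A) (he : IsMatUnits e)
    (hes : ∀ a b, t.bc S lam X (e a b) = c a b • e (π b) (π a)) :
    finrank q.ResidueField (symSpan t q.ResidueField) ≠ Nat.choose (n + 1) 2 :=
  finrank_symSpan_of_neg' lam t X q.ResidueField (hram_residue lam q hq)
    (nontrivial_tensor_residue X q hX) h2 n hn hrank π hπ c hc hneg e he hes

end Residue

end Groth.Agent.Lib.Helper19EtLoc
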