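import Mathlib
import Groth.Agent.Lib.Helper19EtLocAF

/-!
# Étale-local solvability (helper19), part AG: the sign at a ramified prime detects the kind of
matrix units over the strict henselisation; the sign of a matrix algebra
-/

set_option autoImplicit false
set_option linter.style.haveILetI false
set_option linter.unusedSectionVars false

open TensorProduct

namespace Groth.Agent.Lib.Helper19EtLoc

open Groth.Agent.Lib.Helper19AzSplit Groth.Agent.Lib.Helper19SemiSN AzInv
  Groth.Agent.Lib.LeadAzumaya IsLocalRing Groth.Agent.Lib.Helper3.Sh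
  Groth.Agent.Lib.Helper10.AzSign Module

universe u v w w'

section Ram

variable {S : Type u} {R : Type v} [CommRing S] [CommRing R] [Algebra S R] (lam : R ≃ₐ[S] R)
  (Λ : Type u) [CommRing Λ] [Algebra S Λ]

/-- if the involution of `Λ ⊗ R` is trivial modulo the radical, there is a ramified prime of `R`
whose trace on `S` is hit by `Spec Λ` -/
theorem exists_ramified_of_hJ [Nontrivial (Λ ⊗[S] R)]
    (hJ : ∀ z : Λ ⊗[S] R,
      (Algebra.TensorProduct.congr (AlgEquiv.refl : Λ ≃ₐ[S] Λ) lam).toRingEquiv z - z ∈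
        Ring.jacobson (Λ ⊗[S] R)) :
    ∃ (q : Ideal R) (hqp : q.IsPrime), (∀ r : R, lam r - r ∈ q) ∧
      (⟨q.comap (algebraMap S R), inferInstance⟩ : PrimeSpectrum S) ∈
        Set.range (PrimeSpectrum.comap (algebraMap S Λ)) := by
  obtain ⟨M, hM⟩ := Ideal.exists_maximal (Λ ⊗[S] R)
  haveI := hM
  have hle : Ring.jacobson (Λ ⊗[S] R) ≤ M := by
    rw [← Ideal.jacobson_bot]
    exact sInf_le ⟨bot_le, hM⟩
  let iR : R →+* Λ ⊗[S] R := (Algebra.TensorProduct.includeRight : R →ₐ[S] Λ ⊗[S] R)
  let iΛ : Λ →+* Λ ⊗[S] R := (Algebra.TensorProduct.includeLeft : Λ →ₐ[S] Λ ⊗[S] R)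
  refine ⟨M.comap iR, inferInstance, fun r => ?_, ⟨⟨M.comap iΛ, inferInstance⟩, ?_⟩⟩
  · change iR (lam r - r) ∈ M
    apply hle
    have := hJ ((1 : Λ) ⊗ₜ[S] r)
    have h1 : iR (lam r - r) =
        (Algebra.TensorProduct.congr (AlgEquiv.refl : Λ ≃ₐ[S] Λ) lam).toRingEquiv
          ((1 : Λ) ⊗ₜ[S] r) - (1 : Λ) ⊗ₜ[S] r := by
      change (1 : Λ) ⊗ₜ[S] (lam r - r) = _
      rw [TensorProduct.tmul_sub]
      rfl
    rw [h1]
    exact this
  · apply PrimeSpectrum.ext
    change (M.comap iΛ).comap (algebraMap S Λ) = (M.comap iR).comap (algebraMap S R)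
    rw [Ideal.comap_comap, Ideal.comap_comap]
    congr 1
    ext s
    change (Algebra.TensorProduct.includeLeft : Λ →ₐ[S] Λ ⊗[S] R) (algebraMap S Λ s) =
      (Algebra.TensorProduct.includeRight : R →ₐ[S] Λ ⊗[S] R) (algebraMap S R s)
    rw [AlgHom.commutes, AlgHom.commutes]

end Ram

section Sh

variable {S : Type u} [CommRing S] (p : Ideal S) [p.IsPrime]
  (Ω : Type u) [Field Ω] [Algebra (Localization.AtPrime p) Ω]
  [Algebra (ResidueField (Localization.AtPrime p)) Ω]
  [IsScalarTower (Localization.AtPrime p) (ResidueField (Localization.AtPrime p)) Ω]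
  [IsSepClosure (ResidueField (Localization.AtPrime p)) Ω]

attribute [local instance 10] algSsh algSL

theorem mem_range_comap_sh :
    (⟨p, inferInstance⟩ : PrimeSpectrum S) ∈
      Set.range (PrimeSpectrum.comap (algebraMap S (Rsh (Localization.AtPrime p) Ω))) := by
  refine ⟨⟨maximalIdeal (Rsh (Localization.AtPrime p) Ω), inferInstance⟩, PrimeSpectrum.ext ?_⟩
  change (maximalIdeal (Rsh (Localization.AtPrime p) Ω)).comap
    (algebraMap S (Rsh (Localization.AtPrime p) Ω)) = p
  rw [IsScalarTower.algebraMap_eq S (Localization.AtPrime p) (Rsh (Localization.AtPrime p) Ω),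
    ← Ideal.comap_comap, IsLocalRing.maximalIdeal_comap]
  exact Localization.AtPrime.comap_maximalIdeal

end Sh

section Kind

variable {S : Type u} {R : Type v} [CommRing S] [CommRing R] [Algebra S R]
  (lam : R ≃ₐ[S] R) (hlam : ∀ r, lam (lam r) = r) (hfix : RInv.IsFixedRing S R lam.toRingEquiv)
  {A : Type w} [Ring A] [Algebra S A] [Algebra R A] [IsScalarTower S R A] [IsAzumaya R A]
  (t : LamInv R A lam)
  (Λ : Type u) [CommRing Λ] [Algebra S Λ] [HenselianLocalRing Λ] [IsSepClosed (ResidueField Λ)]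
  [Module.Flat S Λ]
  (q : Ideal R) [q.IsPrime] (hq : ∀ r : R, lam r - r ∈ q)
  (hX : (⟨q.comap (algebraMap S R), inferInstance⟩ : PrimeSpectrum S) ∈
    Set.range (PrimeSpectrum.comap (algebraMap S Λ)))

theorem sympc_cases (m : ℕ) (a b : Fin (m * 2)) :
    sympμ m a * sympμ m b = 1 ∨ sympμ m a * sympμ m b = -1 := by
  have hμ : ∀ x : Fin (m * 2), sympμ m x = 1 ∨ sympμ m x = -1 := by
    intro x
    unfold sympμ
    split_ifs <;> simp
  rcases hμ a with h | h <;> rcases hμ b with h' | h' <;> rw [h, h'] <;> simp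

theorem sympc_neg (m : ℕ) (a : Fin (m * 2)) : sympμ m a * sympμ m (sympπ m a) = -1 := by
  rw [sympμ_sympπ, mul_neg, sympμ_mul_self]

include hlam hfix hq hX in
/-- the sign at a ramified prime is orthogonal iff there are symmetric matrix units over `Λ` -/
theorem sign_iff_sym (h2 : IsUnit (2 : S)) (n : ℕ) (hn : 0 < n)
    (hrank : ∀ p : PrimeSpectrum R, Module.rankAtStalk (R := R) A p = n ^ 2) :
    finrank q.ResidueField (symSpan t q.ResidueField) = Nat.choose (n + 1) 2 ↔
      ∃ e : Fin n → Fin n → Λ ⊗[S] A, IsMatUnits e ∧ ∀ a b, t.bc S lam Λ (e a b) = e b a := by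
  constructor
  · intro h
    rcases exists_sym_or_symp_gen lam hlam hfix t Λ h2 n hn hrank with
      h1 | ⟨-, m, hm, g, hg, hgs⟩
    · exact h1
    · exfalso
      subst hm
      exact finrank_symSpan_residue_of_neg lam t Λ q hq hX h2 (m * 2) hn hrank (sympπ m)
        (sympπ_sympπ m) (fun a b => sympμ m a * sympμ m b) (sympc_cases m) (sympc_neg m)
        g hg hgs h
  · rintro ⟨e, he, hes⟩
    exact finrank_symSpan_residue_of_sym lam t Λ q hq hX h2 n hn hrank e he hes

include hlam hfix hq hX in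
/-- the sign of a matrix algebra -/
theorem sign_matrix_iff (h2 : IsUnit (2 : S)) (n : ℕ) (hn : 0 < n)
    (hrank : ∀ p : PrimeSpectrum R, Module.rankAtStalk (R := R) A p = n ^ 2)
    (k : ℕ) (hk : 0 < k) :
    finrank q.ResidueField (symSpan (t.matrix (Fin k)) q.ResidueField) =
        Nat.choose (k * n + 1) 2 ↔
      finrank q.ResidueField (symSpan t q.ResidueField) = Nat.choose (n + 1) 2 := by
  classical
  haveI : NeZero k := ⟨hk.ne'⟩
  haveI : IsAzumaya R (Matrix (Fin k) (Fin k) A) := Groth.Agent.Lib.LeadLGA.isAzumaya_matrix A k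
  rcases exists_sym_or_symp_gen lam hlam hfix t Λ h2 n hn hrank with
    ⟨e, he, hes⟩ | ⟨-, m, hm, g, hg, hgs⟩
  · have hrankC : ∀ p : PrimeSpectrum R,
        Module.rankAtStalk (R := R) (Matrix (Fin k) (Fin k) A) p = (k * n) ^ 2 := by
      intro p
      rw [Groth.Agent.Lib.LeadLGA.rankAtStalk_matrix A k p, hrank]
      ring
    obtain ⟨E, hE, hEs⟩ := exists_matUnits_matrix k n lam t Λ id (fun _ _ => 1) e he
      (fun a b => by rw [hes, one_smul]; rfl)
    have hR := finrank_symSpan_residue_of_sym lam t Λ q hq hX h2 n hn hrank e he hes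
    have hL := finrank_symSpan_residue_of_sym lam (t.matrix (Fin k)) Λ q hq hX h2 (k * n)
      (Nat.mul_pos hk hn) hrankC E hE (fun a b => by
        rw [hEs, liftπ_id, liftπ_id]
        change (1 : ℤ) • E b a = E b a
        rw [one_smul])
    exact ⟨fun _ => hR, fun _ => hL⟩
  · subst hm
    have hrankC : ∀ p : PrimeSpectrum R,
        Module.rankAtStalk (R := R) (Matrix (Fin k) (Fin k) A) p = (k * (m * 2)) ^ 2 := by
      intro p
      rw [Groth.Agent.Lib.LeadLGA.rankAtStalk_matrix A k p, hrank]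
      ring
    obtain ⟨E, hE, hEs⟩ := exists_matUnits_matrix k (m * 2) lam t Λ (sympπ m)
      (fun a b => sympμ m a * sympμ m b) g hg hgs
    have hR := finrank_symSpan_residue_of_neg lam t Λ q hq hX h2 (m * 2) hn hrank (sympπ m)
      (sympπ_sympπ m) (fun a b => sympμ m a * sympμ m b) (sympc_cases m) (sympc_neg m)
      g hg hgs
    have hL := finrank_symSpan_residue_of_neg lam (t.matrix (Fin k)) Λ q hq hX h2 (k * (m * 2))
      (Nat.mul_pos hk hn) hrankC (liftπ k (m * 2) (sympπ m))
      (liftπ_liftπ k (m * 2) (sympπ m) (sympπ_sympπ m))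
      (liftc k (m * 2) (fun a b => sympμ m a * sympμ m b))
      (fun a b => by unfold liftc; exact sympc_cases m _ _)
      (fun a => by rw [liftc_liftπ]; exact sympc_neg m _)
      E hE hEs
    exact ⟨fun h => absurd h hL, fun h => absurd h hR⟩

end Kind

end Groth.Agent.Lib.Helper19EtLoc
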