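import Mathlib
import Groth.Agent.Lib.Helper19EtLocAG

/-!
# Étale-local solvability (helper19), part AH: two involutions have the same type iff their signs
agree at every ramified prime
-/

set_option autoImplicit false
set_option linter.style.haveILetI false
set_option linter.unusedSectionVars false

open TensorProduct

namespace Groth.Agent.Lib.Helper19EtLoc

open Groth.Agent.Lib.Helper19AzSplit Groth.Agent.Lib.Helper19SemiSN AzInv
  Groth.Agent.Lib.LeadAzumaya IsLocalRing Groth.Agent.Lib.Helper3.Sh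
  Groth.Agent.Lib.Helper10.AzSign Module

universe u v w w'

section Two

variable {S : Type u} {R : Type v} [CommRing S] [CommRing R] [Algebra S R]
  (lam : R ≃ₐ[S] R) (hlam : ∀ r, lam (lam r) = r) (hfix : RInv.IsFixedRing S R lam.toRingEquiv)
  {A : Type w} [Ring A] [Algebra S A] [Algebra R A] [IsScalarTower S R A] [IsAzumaya R A]
  (t : LamInv R A lam)
  {A' : Type w'} [Ring A'] [Algebra S A'] [Algebra R A'] [IsScalarTower S R A'] [IsAzumaya R A']
  (t' : LamInv R A' lam)

attribute [local instance 10] algSsh algSL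

include hlam hfix in
/-- involutions of the same type have the same sign at every ramified prime -/
theorem signs_agree_of_sameType (h2 : IsUnit (2 : S)) (n n' : ℕ) (hn : 0 < n) (hn' : 0 < n')
    (hrank : ∀ p : PrimeSpectrum R, Module.rankAtStalk (R := R) A p = n ^ 2)
    (hrank' : ∀ p : PrimeSpectrum R, Module.rankAtStalk (R := R) A' p = n' ^ 2)
    (h : SameType S lam t t') (q : Ideal R) [q.IsPrime] (hq : ∀ r : R, lam r - r ∈ q) :
    finrank q.ResidueField (symSpan t q.ResidueField) = Nat.choose (n + 1) 2 ↔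
      finrank q.ResidueField (symSpan t' q.ResidueField) = Nat.choose (n' + 1) 2 := by
  classical
  let p : Ideal S := q.comap (algebraMap S R)
  haveI : p.IsPrime := inferInstanceAs (q.comap (algebraMap S R)).IsPrime
  let Sp := Localization.AtPrime p
  let Ω := SeparableClosure (ResidueField Sp)
  letI : Algebra Sp Ω :=
    ((algebraMap (ResidueField Sp) Ω).comp (algebraMap Sp (ResidueField Sp))).toAlgebra
  haveI : IsScalarTower Sp (ResidueField Sp) Ω := IsScalarTower.of_algebraMap_eq (fun _ => rfl)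
  let Λ := Rsh Sp Ω
  haveI : Module.Flat S Λ := Module.Flat.trans S Sp Λ
  haveI : IsSepClosed (ResidueField Λ) :=
    (inferInstance : IsSepClosure (ResidueField Sp) (ResidueField Λ)).sep_closed
  obtain ⟨k, k', hk, hk', S₁, _, _, hEt, hFF, f, hf1, hf2⟩ := h
  haveI := hEt
  haveI := hFF
  obtain ⟨σ⟩ := exists_algHom_of_etale_ff (S := S) S₁ Λ
  have hφ : IsoOver lam (t.matrix (Fin k)) (t'.matrix (Fin k')) Λ :=
    IsoOver.map σ ⟨f, hf1, hf2⟩
  have h2Λ : IsUnit (2 : Λ) := by
    have := h2.map (algebraMap S Λ)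
    rwa [map_ofNat] at this
  have hfix' := Groth.Agent.S15586.result S R Λ lam hlam hfix (Or.inl inferInstance)
  haveI : Nontrivial (Λ ⊗[S] R) := hfix'.1.nontrivial
  have hX : (⟨q.comap (algebraMap S R), inferInstance⟩ : PrimeSpectrum S) ∈
      Set.range (PrimeSpectrum.comap (algebraMap S Λ)) := mem_range_comap_sh p Ω
  rw [sign_iff_sym lam hlam hfix t Λ q hq hX h2 n hn hrank,
    sign_iff_sym lam hlam hfix t' Λ q hq hX h2 n' hn' hrank']
  constructor
  · rintro ⟨e, he, hes⟩
    rcases exists_sym_or_symp_gen lam hlam hfix t' Λ h2 n' hn' hrank' with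
      h1 | ⟨hJ', m', hm', g', hg', hgs'⟩
    · exact h1
    · exfalso
      subst hm'
      exact false_of_sym_symp lam t t' Λ h2Λ hJ' k k' hk hk' hφ n m' hn hn' hrank hrank'
        e he hes g' hg' hgs'
  · rintro ⟨e', he', hes'⟩
    rcases exists_sym_or_symp_gen lam hlam hfix t Λ h2 n hn hrank with
      h1 | ⟨hJ, m, hm, g, hg, hgs⟩
    · exact h1
    · exfalso
      subst hm
      exact false_of_sym_symp lam t' t Λ h2Λ hJ k' k hk' hk hφ.symm n' m hn' hn hrank' hrank
        e' he' hes' g hg hgs

include hlam hfix in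
/-- if the signs agree at every ramified prime, suitable matrix algebras are isomorphic
étale-locally at every prime of `S` -/
theorem exists_local_iso_matrix_of_signs (h2 : IsUnit (2 : S)) (n n' : ℕ) (hn : 0 < n)
    (hn' : 0 < n')
    (hrank : ∀ p : PrimeSpectrum R, Module.rankAtStalk (R := R) A p = n ^ 2)
    (hrank' : ∀ p : PrimeSpectrum R, Module.rankAtStalk (R := R) A' p = n' ^ 2)
    (hsign : ∀ (q : Ideal R) [q.IsPrime], (∀ r : R, lam r - r ∈ q) →
      (finrank q.ResidueField (symSpan t q.ResidueField) = Nat.choose (n + 1) 2 ↔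
        finrank q.ResidueField (symSpan t' q.ResidueField) = Nat.choose (n' + 1) 2))
    (p : Ideal S) [p.IsPrime] :
    ∃ (E : Type u) (_ : CommRing E) (_ : Algebra S E),
      Algebra.Etale S E ∧ (∃ Q : Ideal E, Q.IsPrime ∧ Q.comap (algebraMap S E) = p) ∧
        IsoOver lam (t.matrix (Fin n')) (t'.matrix (Fin n)) E := by
  classical
  let Sp := Localization.AtPrime p
  let Ω := SeparableClosure (ResidueField Sp)
  letI : Algebra Sp Ω :=
    ((algebraMap (ResidueField Sp) Ω).comp (algebraMap Sp (ResidueField Sp))).toAlgebra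
  haveI : IsScalarTower Sp (ResidueField Sp) Ω := IsScalarTower.of_algebraMap_eq (fun _ => rfl)
  let Λ := Rsh Sp Ω
  haveI : Module.Flat S Λ := Module.Flat.trans S Sp Λ
  haveI : IsSepClosed (ResidueField Λ) :=
    (inferInstance : IsSepClosure (ResidueField Sp) (ResidueField Λ)).sep_closed
  have hfix' := Groth.Agent.S15586.result S R Λ lam hlam hfix (Or.inl inferInstance)
  haveI : Nontrivial (Λ ⊗[S] R) := hfix'.1.nontrivial
  haveI : NeZero n := ⟨hn.ne'⟩
  haveI : NeZero n' := ⟨hn'.ne'⟩
  haveI : IsAzumaya R (Matrix (Fin n') (Fin n') A) :=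
    Groth.Agent.Lib.LeadLGA.isAzumaya_matrix A n'
  haveI : IsAzumaya R (Matrix (Fin n) (Fin n) A') :=
    Groth.Agent.Lib.LeadLGA.isAzumaya_matrix A' n
  obtain ⟨N, hN⟩ : ∃ N : ℕ, N = n' * n := ⟨_, rfl⟩
  have hNpos : 0 < N := by rw [hN]; exact Nat.mul_pos hn' hn
  have hrankC : ∀ p : PrimeSpectrum R,
      Module.rankAtStalk (R := R) (Matrix (Fin n') (Fin n') A) p = N ^ 2 := by
    intro p
    rw [Groth.Agent.Lib.LeadLGA.rankAtStalk_matrix A n' p, hrank, hN]
    ring
  have hrankC' : ∀ p : PrimeSpectrum R,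
      Module.rankAtStalk (R := R) (Matrix (Fin n) (Fin n) A') p = N ^ 2 := by
    intro p
    rw [Groth.Agent.Lib.LeadLGA.rankAtStalk_matrix A' n p, hrank', hN]
    ring
  -- the contradiction in the mixed cases
  have hmixed : ∀ (q : Ideal R) [q.IsPrime], (∀ r : R, lam r - r ∈ q) →
      (⟨q.comap (algebraMap S R), inferInstance⟩ : PrimeSpectrum S) ∈
        Set.range (PrimeSpectrum.comap (algebraMap S Λ)) →
      (finrank q.ResidueField (symSpan (t.matrix (Fin n')) q.ResidueField) =
          Nat.choose (N + 1) 2 ↔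
        finrank q.ResidueField (symSpan (t'.matrix (Fin n)) q.ResidueField) =
          Nat.choose (N + 1) 2) := by
    intro q _ hq hX
    have h1 := sign_matrix_iff lam hlam hfix t Λ q hq hX h2 n hn hrank n' hn'
    have h3 := sign_matrix_iff lam hlam hfix t' Λ q hq hX h2 n' hn' hrank' n hn
    rw [Nat.mul_comm n n'] at h3
    rw [hN]
    exact h1.trans ((hsign q hq).trans h3.symm)
  rcases exists_sym_or_symp_gen lam hlam hfix (t.matrix (Fin n')) Λ h2 N hNpos hrankC with
    ⟨e, he, hes⟩ | ⟨hJ, m, hm, g, hg, hgs⟩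
  · rcases exists_sym_or_symp_gen lam hlam hfix (t'.matrix (Fin n)) Λ h2 N hNpos hrankC' with
      ⟨e', he', hes'⟩ | ⟨hJ', m', hm', g', hg', hgs'⟩
    · -- both orthogonal
      refine exists_local_iso_of_good lam (t.matrix (Fin n')) (t'.matrix (Fin n)) N hNpos
        hrankC hrankC' id (fun _ => rfl) (fun _ _ => 1) p ?_ ?_
      · apply NatSys.good_of_sh _ p Ω
        exact (symSys_sol_iff _ (t.matrix (Fin n')) N id (fun _ _ => 1) Λ).mpr
          ⟨e, he, fun a b => by rw [hes, one_smul]; rfl⟩
      · apply NatSys.good_of_sh _ p Ω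
        exact (symSys_sol_iff _ (t'.matrix (Fin n)) N id (fun _ _ => 1) Λ).mpr
          ⟨e', he', fun a b => by rw [hes', one_smul]; rfl⟩
    · exfalso
      obtain ⟨q, hqp, hq, hX⟩ := exists_ramified_of_hJ lam Λ hJ'
      haveI := hqp
      have hs1 := finrank_symSpan_residue_of_sym lam (t.matrix (Fin n')) Λ q hq hX h2 N hNpos
        hrankC e he hes
      have hs2 := (hmixed q hq hX).mp hs1
      subst hm'
      exact finrank_symSpan_residue_of_neg lam (t'.matrix (Fin n)) Λ q hq hX h2 (m' * 2) hNpos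
        hrankC' (sympπ m') (sympπ_sympπ m') (fun a b => sympμ m' a * sympμ m' b)
        (sympc_cases m') (sympc_neg m') g' hg' hgs' hs2
  · rcases exists_sym_or_symp_gen lam hlam hfix (t'.matrix (Fin n)) Λ h2 N hNpos hrankC' with
      ⟨e', he', hes'⟩ | ⟨hJ', m', hm', g', hg', hgs'⟩
    · exfalso
      obtain ⟨q, hqp, hq, hX⟩ := exists_ramified_of_hJ lam Λ hJ
      haveI := hqp
      have hs1 := finrank_symSpan_residue_of_sym lam (t'.matrix (Fin n)) Λ q hq hX h2 N hNpos
        hrankC' e' he' hes'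
      have hs2 := (hmixed q hq hX).mpr hs1
      subst hm
      exact finrank_symSpan_residue_of_neg lam (t.matrix (Fin n')) Λ q hq hX h2 (m * 2) hNpos
        hrankC (sympπ m) (sympπ_sympπ m) (fun a b => sympμ m a * sympμ m b)
        (sympc_cases m) (sympc_neg m) g hg hgs hs2
    · -- both symplectic
      have hmm : m = m' := by omega
      subst hmm
      subst hm
      refine exists_local_iso_of_good lam (t.matrix (Fin n')) (t'.matrix (Fin n)) (m * 2) hNpos
        hrankC hrankC' (sympπ m) (sympπ_sympπ m) (fun a b => sympμ m a * sympμ m b) p ?_ ?_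
      · apply NatSys.good_of_sh _ p Ω
        exact (symSys_sol_iff _ (t.matrix (Fin n')) _ _ _ Λ).mpr ⟨g, hg, hgs⟩
      · apply NatSys.good_of_sh _ p Ω
        exact (symSys_sol_iff _ (t'.matrix (Fin n)) _ _ _ Λ).mpr ⟨g', hg', hgs'⟩

include hlam hfix in
/-- **Same type iff the signs agree at every ramified prime.** -/
theorem sameType_iff_signs (h2 : IsUnit (2 : S)) (n n' : ℕ) (hn : 0 < n) (hn' : 0 < n')
    (hrank : ∀ p : PrimeSpectrum R, Module.rankAtStalk (R := R) A p = n ^ 2)
    (hrank' : ∀ p : PrimeSpectrum R, Module.rankAtStalk (R := R) A' p = n' ^ 2) :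
    SameType S lam t t' ↔
      ∀ (q : Ideal R) [q.IsPrime], (∀ r : R, lam r - r ∈ q) →
        (finrank q.ResidueField (symSpan t q.ResidueField) = Nat.choose (n + 1) 2 ↔
          finrank q.ResidueField (symSpan t' q.ResidueField) = Nat.choose (n' + 1) 2) := by
  constructor
  · intro h q _ hq
    exact signs_agree_of_sameType lam hlam hfix t t' h2 n n' hn hn' hrank hrank' h q hq
  · intro hsign
    refine ⟨n', n, hn', hn, ?_⟩
    obtain ⟨S', _, _, hEt, hFF, f, hf1, hf2⟩ := exists_cover_of_local
      (fun E _ _ => IsoOver lam (t.matrix (Fin n')) (t'.matrix (Fin n)) E)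
      (fun m E _ _ hE => IsoOver.pi m E hE)
      (fun p _ => exists_local_iso_matrix_of_signs lam hlam hfix t t' h2 n n' hn hn' hrank hrank'
        hsign p)
    exact ⟨S', inferInstance, inferInstance, hEt, hFF, f, hf1, hf2⟩

end Two

end Groth.Agent.Lib.Helper19EtLoc
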