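import Mathlib
import Groth.Agent.Lib.Helper19EtLocQ

/-!
# Étale-local solvability (helper19), part R: involutions of the first kind over a connected base
with `2` invertible are orthogonal or symplectic
-/

set_option autoImplicit false
set_option linter.style.haveILetI false
set_option linter.unusedSectionVars false

open TensorProduct

namespace Groth.Agent.Lib.Helper19EtLoc

open Groth.Agent.Lib.Helper19AzSplit Groth.Agent.Lib.Helper19SemiSN AzInv
  Groth.Agent.Lib.LeadAzumaya IsLocalRing Groth.Agent.Lib.Helper3.Sh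

universe u v w w'

section Mat1

variable {S : Type u} {R : Type v} [CommRing S] [CommRing R] [Algebra S R]
  (lam : R ≃ₐ[S] R)
  {A : Type w} [Ring A] [Algebra S A] [Algebra R A] [IsScalarTower S R A]
  (t : LamInv R A lam) (S' : Type u) [CommRing S'] [Algebra S S']
  {N' : Type w'} [Ring N'] [Algebra S N'] [Algebra R N'] [IsScalarTower S R N']
  (θ : LamInv R N' lam)

/-- pass from `A` to `1 × 1` matrices over `A` -/
theorem exists_algEquiv_mat1 (G : S' ⊗[S] N' ≃ₐ[S'] S' ⊗[S] A)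
    (hG1 : ∀ (r : R) (x : S' ⊗[S] N'),
      G (((1 : S') ⊗ₜ[S] algebraMap R N' r) * x) = ((1 : S') ⊗ₜ[S] algebraMap R A r) * G x)
    (hG2 : ∀ x : S' ⊗[S] N', G (θ.bc S lam S' x) = t.bc S lam S' (G x)) :
    ∃ f : S' ⊗[S] Matrix (Fin 1) (Fin 1) A ≃ₐ[S'] S' ⊗[S] N',
      (∀ (r : R) (x : S' ⊗[S] Matrix (Fin 1) (Fin 1) A),
        f (((1 : S') ⊗ₜ[S] algebraMap R (Matrix (Fin 1) (Fin 1) A) r) * x) =
          ((1 : S') ⊗ₜ[S] algebraMap R N' r) * f x) ∧
      ∀ x : S' ⊗[S] Matrix (Fin 1) (Fin 1) A,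
        f ((t.matrix (Fin 1)).bc S lam S' x) = θ.bc S lam S' (f x) := by
  classical
  let α : S' ⊗[S] Matrix (Fin 1) (Fin 1) A ≃ₐ[S'] S' ⊗[S] A :=
    Algebra.TensorProduct.congr (AlgEquiv.refl : S' ≃ₐ[S'] S') (mat1 S A)
  have hα : ∀ (s : S') (M : Matrix (Fin 1) (Fin 1) A), α (s ⊗ₜ[S] M) = s ⊗ₜ[S] M 0 0 := by
    intro s M
    rfl
  have hα1 : ∀ (r : R) (x : S' ⊗[S] Matrix (Fin 1) (Fin 1) A),
      α (((1 : S') ⊗ₜ[S] algebraMap R (Matrix (Fin 1) (Fin 1) A) r) * x) =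
        ((1 : S') ⊗ₜ[S] algebraMap R A r) * α x := by
    intro r x
    rw [map_mul, hα]
    congr 2
  have hα2 : ∀ x : S' ⊗[S] Matrix (Fin 1) (Fin 1) A,
      α ((t.matrix (Fin 1)).bc S lam S' x) = t.bc S lam S' (α x) := by
    intro x
    induction x using TensorProduct.induction_on with
    | zero => simp
    | tmul s M =>
      rw [LamInv.bc_tmul, hα, hα, LamInv.bc_tmul]
      rfl
    | add x y hx hy => rw [map_add, map_add, hx, hy, map_add, map_add]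
  refine ⟨α.trans G.symm, ?_, ?_⟩
  · intro r x
    change G.symm (α (((1 : S') ⊗ₜ[S] algebraMap R (Matrix (Fin 1) (Fin 1) A) r) * x)) =
      ((1 : S') ⊗ₜ[S] algebraMap R N' r) * G.symm (α x)
    apply G.injective
    rw [AlgEquiv.apply_symm_apply, hG1, AlgEquiv.apply_symm_apply, hα1]
  · intro x
    change G.symm (α ((t.matrix (Fin 1)).bc S lam S' x)) = θ.bc S lam S' (G.symm (α x))
    apply G.injective
    rw [AlgEquiv.apply_symm_apply, hG2, AlgEquiv.apply_symm_apply, hα2]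

end Mat1

section Main

variable {R : Type u} [CommRing R] {A : Type w} [Ring A] [Algebra R A] [IsAzumaya R A]
  (t : LamInv R A (AlgEquiv.refl : R ≃ₐ[R] R)) (n : ℕ)

theorem isFixedRing_refl : RInv.IsFixedRing R R (AlgEquiv.refl : R ≃ₐ[R] R).toRingEquiv :=
  ⟨fun _ _ h => h, fun r => ⟨fun _ => ⟨r, rfl⟩, fun _ => rfl⟩⟩

attribute [local instance 10] algSsh algSL

/-- at every prime, the orthogonal or the symplectic system is solvable étale-locally -/
theorem good_sym_or_symp (h2 : IsUnit (2 : R)) (hn : 0 < n)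
    (hrank : ∀ p : PrimeSpectrum R, Module.rankAtStalk (R := R) A p = n ^ 2)
    (p : Ideal R) [p.IsPrime] :
    (symSys (AlgEquiv.refl : R ≃ₐ[R] R) t n id (fun _ _ => 1)).Good p ∨
    (n = (n / 2) * 2 ∧ (symSys (AlgEquiv.refl : R ≃ₐ[R] R) t ((n / 2) * 2) (sympπ (n / 2))
      (fun a b => sympμ (n / 2) a * sympμ (n / 2) b)).Good p) := by
  let Sp := Localization.AtPrime p
  let Ω := SeparableClosure (ResidueField Sp)
  letI : Algebra Sp Ω :=
    ((algebraMap (ResidueField Sp) Ω).comp (algebraMap Sp (ResidueField Sp))).toAlgebra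
  haveI : IsScalarTower Sp (ResidueField Sp) Ω := IsScalarTower.of_algebraMap_eq (fun _ => rfl)
  let Λ := Rsh Sp Ω
  haveI : Module.Flat R Λ := Module.Flat.trans R Sp Λ
  haveI : IsSepClosed (ResidueField Λ) :=
    (inferInstance : IsSepClosure (ResidueField Sp) (ResidueField Λ)).sep_closed
  rcases exists_sym_or_symp (AlgEquiv.refl : R ≃ₐ[R] R) (fun _ => rfl) isFixedRing_refl t Λ
    (fun _ => rfl) h2 n hn hrank with ⟨f, hf, hsym⟩ | ⟨m, hm, g, hg, hsym⟩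
  · left
    apply NatSys.good_of_sh _ p Ω
    exact (symSys_sol_iff _ t n id (fun _ _ => 1) Λ).mpr
      ⟨f, hf, fun a b => by rw [hsym, one_smul]; rfl⟩
  · right
    have hm' : m = n / 2 := by omega
    subst hm'
    refine ⟨hm, ?_⟩
    apply NatSys.good_of_sh _ p Ω
    exact (symSys_sol_iff _ t _ _ _ Λ).mpr ⟨g, hg, hsym⟩

theorem cover_sym_or_symp [Nontrivial R] [ConnectedSpace (PrimeSpectrum R)] (h2 : IsUnit (2 : R))
    (hn : 0 < n) (hrank : ∀ p : PrimeSpectrum R, Module.rankAtStalk (R := R) A p = n ^ 2) :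
    (∃ (S' : Type u) (_ : CommRing S') (_ : Algebra R S'), Algebra.Etale R S' ∧
      Module.FaithfullyFlat R S' ∧ ∃ f : Fin n → Fin n → S' ⊗[R] A, IsMatUnits f ∧
        ∀ a b, t.bc R (AlgEquiv.refl : R ≃ₐ[R] R) S' (f a b) = f b a) ∨
    (∃ (m : ℕ) (_ : n = m * 2) (S' : Type u) (_ : CommRing S') (_ : Algebra R S'),
      Algebra.Etale R S' ∧ Module.FaithfullyFlat R S' ∧
      ∃ g : Fin (m * 2) → Fin (m * 2) → S' ⊗[R] A, IsMatUnits g ∧
        ∀ a b, t.bc R (AlgEquiv.refl : R ≃ₐ[R] R) S' (g a b) =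
          (sympμ m a * sympμ m b) • g (sympπ m b) (sympπ m a)) := by
  classical
  set 𝒟o := symSys (AlgEquiv.refl : R ≃ₐ[R] R) t n id (fun _ _ => 1) with h𝒟o
  set 𝒟s := symSys (AlgEquiv.refl : R ≃ₐ[R] R) t ((n / 2) * 2) (sympπ (n / 2))
      (fun a b => sympμ (n / 2) a * sympμ (n / 2) b) with h𝒟s
  have hdich : ∀ x : PrimeSpectrum R, 𝒟o.Good x.asIdeal ∨ (n = (n / 2) * 2 ∧ 𝒟s.Good x.asIdeal) :=
    fun x => good_sym_or_symp t n h2 hn hrank x.asIdeal
  by_cases hall : ∀ x : PrimeSpectrum R, 𝒟o.Good x.asIdeal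
  · left
    obtain ⟨S', i1, i2, hEt, hFF, hsol⟩ :=
      NatSys.exists_cover_of_good 𝒟o (fun p _ => hall ⟨p, inferInstance⟩)
    obtain ⟨e, he, hsym⟩ := (symSys_sol_iff _ t n id (fun _ _ => 1) S').mp hsol
    exact ⟨S', i1, i2, hEt, hFF, e, he, fun a b => by rw [hsym, one_smul]; rfl⟩
  · right
    push Not at hall
    obtain ⟨x₀, hx₀⟩ := hall
    obtain ⟨hn2, hx₀s⟩ := (hdich x₀).resolve_left hx₀
    have halls : ∀ x : PrimeSpectrum R, 𝒟s.Good x.asIdeal := by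
      by_contra hcon
      push Not at hcon
      obtain ⟨x₁, hx₁⟩ := hcon
      have hx₁o : 𝒟o.Good x₁.asIdeal := (hdich x₁).resolve_right (fun h => hx₁ h.2)
      have hpre := (isPreconnected_univ (α := PrimeSpectrum R))
      obtain ⟨z, -, hzo, hzs⟩ := hpre _ _ (NatSys.isOpen_good 𝒟o) (NatSys.isOpen_good 𝒟s)
        (fun x _ => (hdich x).elim Or.inl (fun h => Or.inr h.2))
        ⟨x₁, Set.mem_univ _, hx₁o⟩ ⟨x₀, Set.mem_univ _, hx₀s⟩
      obtain ⟨Eo, _, _, hEto, ⟨Qo, hQo, hQoz⟩, hsolo⟩ := hzo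
      obtain ⟨Es, _, _, hEts, ⟨Qs, hQs, hQsz⟩, hsols⟩ := hzs
      haveI : Nontrivial (Eo ⊗[R] Es) := nontrivial_tensor_of_mem_range Eo Es z
        ⟨⟨Qo, hQo⟩, PrimeSpectrum.ext hQoz⟩ ⟨⟨Qs, hQs⟩, PrimeSpectrum.ext hQsz⟩
      have h2E : IsUnit (2 : Eo ⊗[R] Es) := by
        have := h2.map (algebraMap R (Eo ⊗[R] Es))
        rwa [map_ofNat] at this
      have hsolo' : 𝒟o.Sol (Eo ⊗[R] Es) :=
        NatSys.Sol.map 𝒟o (Algebra.TensorProduct.includeLeft : Eo →ₐ[R] Eo ⊗[R] Es) hsolo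
      have hsols' : 𝒟s.Sol (Eo ⊗[R] Es) :=
        NatSys.Sol.map 𝒟s (Algebra.TensorProduct.includeRight : Es →ₐ[R] Eo ⊗[R] Es) hsols
      obtain ⟨g, hg, hgsym⟩ := (symSys_sol_iff _ t _ _ _ (Eo ⊗[R] Es)).mp hsols'
      obtain ⟨f, hf, hfsym⟩ := (symSys_sol_iff _ t n id (fun _ _ => 1) (Eo ⊗[R] Es)).mp hsolo'
      clear_value 𝒟o 𝒟s
      revert f g
      rw [hn2] at hn hrank
      generalize n / 2 = m at *
      subst hn2
      intro g hg hgsym f hf hfsym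
      exact not_sym_and_symp t (Eo ⊗[R] Es) h2E m hn hrank f hf
        (fun a b => by rw [hfsym, one_smul]; rfl) g hg hgsym
    obtain ⟨S', i1, i2, hEt, hFF, hsol⟩ :=
      NatSys.exists_cover_of_good 𝒟s (fun p _ => halls ⟨p, inferInstance⟩)
    obtain ⟨g, hg, hgsym⟩ := (symSys_sol_iff _ t _ _ _ S').mp hsol
    exact ⟨n / 2, hn2, S', i1, i2, hEt, hFF, g, hg, hgsym⟩

end Main

end Groth.Agent.Lib.Helper19EtLoc
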