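import Mathlib
import Groth.Agent.Lib.Helper19EtPolyAt
import Groth.Agent.Lib.Helper14FTDimB

set_option autoImplicit false
set_option linter.style.haveILetI false
set_option linter.unusedSectionVars false
universe u

open IsLocalRing KaehlerDifferential TensorProduct

namespace Groth.Agent.Lib.Helper19.EtPolyPar

open Groth.Agent.Lib.Helper19.EtPolyAt

section Local

variable (k : Type u) [Field k] (B : Type u) [CommRing B] [IsLocalRing B] [Algebra k B]
  {n : ℕ} (g : Fin n → B) (r : ℕ)

/-- if the `d g_i` span `Ω_{B/k}` and `g_i ∈ m` for `i < r`, the `d ḡ_i`, `i ≥ r`, span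
`Ω_{κ/k}` -/
theorem span_residue_D_eq_top (hg : ∀ i : Fin n, (i : ℕ) < r → g i ∈ maximalIdeal B)
    (h : Submodule.span B (Set.range fun i => KaehlerDifferential.D k B (g i)) = ⊤) :
    Submodule.span (ResidueField B) ((fun i : Fin n =>
      KaehlerDifferential.D k (ResidueField B) (residue B (g i))) ''
        {i : Fin n | r ≤ (i : ℕ)}) = ⊤ := by
  rw [eq_top_iff]
  rintro y -
  obtain ⟨x, rfl⟩ := KaehlerDifferential.map_surjective_of_surjective k k B (ResidueField B)
    (residue_surjective (R := B)) y
  have hx : x ∈ Submodule.span B (Set.range fun i => KaehlerDifferential.D k B (g i)) := by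
    rw [h]; trivial
  induction hx using Submodule.span_induction with
  | mem x hx =>
    obtain ⟨i, rfl⟩ := hx
    rw [KaehlerDifferential.map_D]
    by_cases hi : (i : ℕ) < r
    · have : algebraMap B (ResidueField B) (g i) = 0 := (residue_eq_zero_iff _).mpr (hg i hi)
      rw [this, map_zero]
      exact Submodule.zero_mem _
    · exact Submodule.subset_span ⟨i, not_lt.mp hi, rfl⟩
  | zero => rw [map_zero]; exact Submodule.zero_mem _
  | add x y _ _ hx hy => rw [map_add]; exact Submodule.add_mem _ hx hy
  | smul b x _ hx =>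
    rw [map_smul, ← algebraMap_smul (ResidueField B) b]
    exact Submodule.smul_mem _ _ hx

/-- if the `g_i`, `i < r`, generate `m` and the `d ḡ_i`, `i ≥ r`, span `Ω_{κ/k}`, then the
`d g_i` span `Ω_{B/k}` -/
theorem span_D_eq_top_of_parameters [Module.Finite B Ω[B⁄k]]
    (h1 : Ideal.span (g '' {i : Fin n | (i : ℕ) < r}) = maximalIdeal B)
    (h2 : Submodule.span (ResidueField B) ((fun i : Fin n =>
      KaehlerDifferential.D k (ResidueField B) (residue B (g i))) ''
        {i : Fin n | r ≤ (i : ℕ)}) = ⊤) :
    Submodule.span B (Set.range fun i => KaehlerDifferential.D k B (g i)) = ⊤ := by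
  rw [← IsLocalRing.map_tensorProduct_mk_eq_top, eq_top_iff]
  -- Claim A
  have hA : ∀ w : Ω[ResidueField B⁄k], ∃ s ∈ Submodule.span B
      (Set.range fun i => KaehlerDifferential.D k B (g i)),
      KaehlerDifferential.mapBaseChange k B (ResidueField B) (1 ⊗ₜ s) = w := by
    intro w
    have hw : w ∈ Submodule.span (ResidueField B) ((fun i : Fin n =>
      KaehlerDifferential.D k (ResidueField B) (residue B (g i))) ''
        {i : Fin n | r ≤ (i : ℕ)}) := by rw [h2]; trivial
    induction hw using Submodule.span_induction with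
    | mem w hw =>
      obtain ⟨i, -, rfl⟩ := hw
      refine ⟨KaehlerDifferential.D k B (g i), Submodule.subset_span ⟨i, rfl⟩, ?_⟩
      rw [KaehlerDifferential.mapBaseChange_tmul, one_smul, KaehlerDifferential.map_D]
      rfl
    | zero => exact ⟨0, Submodule.zero_mem _, by rw [TensorProduct.tmul_zero, map_zero]⟩
    | add x y _ _ hx hy =>
      obtain ⟨s, hs, rfl⟩ := hx
      obtain ⟨t, ht, rfl⟩ := hy
      exact ⟨s + t, Submodule.add_mem _ hs ht, by rw [TensorProduct.tmul_add, map_add]⟩
    | smul c x _ hx =>
      obtain ⟨s, hs, rfl⟩ := hx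
      obtain ⟨b, rfl⟩ := residue_surjective c
      refine ⟨b • s, Submodule.smul_mem _ _ hs, ?_⟩
      rw [TensorProduct.tmul_smul, ← algebraMap_smul (ResidueField B) b, map_smul]
      rfl
  -- Claim B
  have hB : ∀ x ∈ Ideal.span (g '' {i : Fin n | (i : ℕ) < r}),
      (1 : ResidueField B) ⊗ₜ[B] KaehlerDifferential.D k B x ∈
      (Submodule.span B (Set.range fun i => KaehlerDifferential.D k B (g i))).map
        (TensorProduct.mk B (ResidueField B) Ω[B⁄k] 1) := by
    intro x hx'
    induction hx' using Submodule.span_induction with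
    | mem x hx =>
      obtain ⟨i, -, rfl⟩ := hx
      exact ⟨_, Submodule.subset_span ⟨i, rfl⟩, rfl⟩
    | zero => rw [map_zero, TensorProduct.tmul_zero]; exact Submodule.zero_mem _
    | add x y hxs hys hx hy =>
      rw [map_add, TensorProduct.tmul_add]
      exact Submodule.add_mem _ hx hy
    | smul b x hxs hx =>
      have hxm : x ∈ maximalIdeal B := by rw [← h1]; exact hxs
      rw [smul_eq_mul, Derivation.leibniz, TensorProduct.tmul_add]
      refine Submodule.add_mem _ ?_ ?_
      · rw [TensorProduct.tmul_smul]
        exact Submodule.smul_mem _ _ hx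
      · have : (1 : ResidueField B) ⊗ₜ[B] (x • KaehlerDifferential.D k B b) = 0 := by
          rw [TensorProduct.tmul_smul, TensorProduct.smul_tmul', Algebra.smul_def, mul_one]
          have : algebraMap B (ResidueField B) x = 0 := (residue_eq_zero_iff _).mpr hxm
          rw [this, TensorProduct.zero_tmul]
        rw [this]
        exact Submodule.zero_mem _
  rintro v -
  obtain ⟨s, hs, hsv⟩ := hA (KaehlerDifferential.mapBaseChange k B (ResidueField B) v)
  have hker : v - 1 ⊗ₜ s ∈ LinearMap.ker (KaehlerDifferential.mapBaseChange k B (ResidueField B)) := by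
    rw [LinearMap.mem_ker, map_sub, hsv, sub_self]
  obtain ⟨c, hc⟩ := (KaehlerDifferential.exact_kerCotangentToTensor_mapBaseChange k B
    (ResidueField B) residue_surjective _).mp hker
  obtain ⟨⟨x, hx⟩, rfl⟩ := Ideal.toCotangent_surjective _ c
  rw [KaehlerDifferential.kerCotangentToTensor_toCotangent] at hc
  have hxm : x ∈ maximalIdeal B := by
    rw [← ker_residue]; exact hx
  have h3 := hB x (by rw [h1]; exact hxm)
  have : v = 1 ⊗ₜ KaehlerDifferential.D k B x + 1 ⊗ₜ s := by
    rw [hc]; abel
  rw [this]
  exact Submodule.add_mem _ h3 ⟨s, hs, rfl⟩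

end Local

section Poly

variable (k A : Type u) [Field k] [CommRing A] [Algebra k A] [Algebra.FiniteType k A] (n r : ℕ)
  [Algebra (MvPolynomial (Fin n) k) A] [IsScalarTower k (MvPolynomial (Fin n) k) A]
  (p : Ideal A) [p.IsPrime]

/-- if `A_p` is unramified over `P = k[x]`, of dimension `r`, and `g_i ∈ p` for `i < r`,
then `p ∩ P = (X_i : i < r)` -/
theorem comap_eq_span_of_unramified
    (hn : FlatMor.localDim (PrimeSpectrum A) ⟨p, inferInstance⟩ = (n : WithBot ℕ∞))
    (hr : ringKrullDim (Localization.AtPrime p) = (r : WithBot ℕ∞))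
    (hg : ∀ i : Fin n, (i : ℕ) < r → algebraMap (MvPolynomial (Fin n) k) A (MvPolynomial.X i) ∈ p)
    [Algebra.FormallyUnramified (MvPolynomial (Fin n) k) (Localization.AtPrime p)] :
    p.comap (algebraMap (MvPolynomial (Fin n) k) A) =
      Ideal.span (MvPolynomial.X '' {i : Fin n | (i : ℕ) < r}) := by
  haveI : (p.comap (algebraMap (MvPolynomial (Fin n) k) A)).IsPrime := Ideal.comap_isPrime _ _
  haveI : p.LiesOver (p.comap (algebraMap (MvPolynomial (Fin n) k) A)) := ⟨rfl⟩
  have hdim := ringKrullDim_localization_eq_of_unramified k A n p hn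
    (p.comap (algebraMap (MvPolynomial (Fin n) k) A))
  rw [hr, IsLocalization.AtPrime.ringKrullDim_eq_height
    (p.comap (algebraMap (MvPolynomial (Fin n) k) A))] at hdim
  have hht : (p.comap (algebraMap (MvPolynomial (Fin n) k) A)).height = r := by
    exact_mod_cast hdim.symm
  have h3 := height_add_dim_quotient_mvPolynomial k n
    (p.comap (algebraMap (MvPolynomial (Fin n) k) A))
  have hrn : r ≤ n := by
    rw [hht] at h3
    have h4 : ((r : ℕ∞) : WithBot ℕ∞) ≤ (n : WithBot ℕ∞) := by
      rw [← h3]
      exact le_add_of_nonneg_right ringKrullDim_nonneg_of_nontrivial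
    exact_mod_cast h4
  have hJN : Ideal.span (MvPolynomial.X '' {i : Fin n | (i : ℕ) < r}) ≤
      p.comap (algebraMap (MvPolynomial (Fin n) k) A) := by
    rw [Ideal.span_le]
    rintro _ ⟨i, hi, rfl⟩
    exact hg i hi
  haveI := Groth.Agent.Lib.Helper14.FTDim.isPrime_span (k := k) (n := n) (c := r)
  have hJ := Groth.Agent.Lib.Helper14.FTDim.height_span (k := k) (n := n) (c := r) hrn
  by_contra hne
  have hlt : Ideal.span (MvPolynomial.X '' {i : Fin n | (i : ℕ) < r}) <
      p.comap (algebraMap (MvPolynomial (Fin n) k) A) := lt_of_le_of_ne hJN (Ne.symm hne)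
  have := Ideal.height_strict_mono_of_isPrime_of_isPrime hlt
  rw [hJ, hht] at this
  exact lt_irrefl _ this

/-- forward direction, part 1: the `g_i`, `i < r`, generate the maximal ideal -/
theorem span_eq_maximalIdeal_of_isEtaleAt
    (hn : FlatMor.localDim (PrimeSpectrum A) ⟨p, inferInstance⟩ = (n : WithBot ℕ∞))
    (hr : ringKrullDim (Localization.AtPrime p) = (r : WithBot ℕ∞))
    (hg : ∀ i : Fin n, (i : ℕ) < r → algebraMap (MvPolynomial (Fin n) k) A (MvPolynomial.X i) ∈ p)
    [Algebra.FormallyUnramified (MvPolynomial (Fin n) k) (Localization.AtPrime p)] :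
    Ideal.span ((fun i : Fin n =>
          algebraMap A (Localization.AtPrime p)
            (algebraMap (MvPolynomial (Fin n) k) A (MvPolynomial.X i))) ''
            {i : Fin n | (i : ℕ) < r}) = IsLocalRing.maximalIdeal (Localization.AtPrime p) := by
  haveI : (p.comap (algebraMap (MvPolynomial (Fin n) k) A)).IsPrime := Ideal.comap_isPrime _ _
  haveI : p.LiesOver (p.comap (algebraMap (MvPolynomial (Fin n) k) A)) := ⟨rfl⟩
  have hN := comap_eq_span_of_unramified k A n r p hn hr hg
  letI := Localization.AtPrime.algebraOfLiesOver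
    (p.comap (algebraMap (MvPolynomial (Fin n) k) A)) p
  haveI : IsLocalHom (algebraMap
      (Localization.AtPrime (p.comap (algebraMap (MvPolynomial (Fin n) k) A)))
      (Localization.AtPrime p)) :=
    Localization.isLocalHom_localRingHom _ _ _ Ideal.LiesOver.over
  haveI : Algebra.FiniteType (MvPolynomial (Fin n) k) A :=
    Algebra.FiniteType.of_restrictScalars_finiteType k (MvPolynomial (Fin n) k) A
  haveI : Algebra.EssFiniteType (MvPolynomial (Fin n) k) (Localization.AtPrime p) :=
    Algebra.EssFiniteType.comp (MvPolynomial (Fin n) k) A _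
  haveI : Algebra.EssFiniteType
      (Localization.AtPrime (p.comap (algebraMap (MvPolynomial (Fin n) k) A)))
      (Localization.AtPrime p) :=
    Algebra.EssFiniteType.of_comp (MvPolynomial (Fin n) k) _ _
  haveI : Algebra.FormallyUnramified
      (Localization.AtPrime (p.comap (algebraMap (MvPolynomial (Fin n) k) A)))
      (Localization.AtPrime p) :=
    .of_restrictScalars (MvPolynomial (Fin n) k) _ _
  have h1 : (maximalIdeal (Localization.AtPrime
      (p.comap (algebraMap (MvPolynomial (Fin n) k) A)))).map (algebraMap _ _) =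
      maximalIdeal (Localization.AtPrime p) := Algebra.FormallyUnramified.map_maximalIdeal
  rw [← h1, ← Localization.AtPrime.map_eq_maximalIdeal, Ideal.map_map,
    ← IsScalarTower.algebraMap_eq, hN, Ideal.map_span, Set.image_image]
  rfl

/-- **EGA IV 17.15.x**: étale at `p` iff parameters and residue differentials -/
theorem isEtaleAt_iff_parameters
    (hn : FlatMor.localDim (PrimeSpectrum A) ⟨p, inferInstance⟩ = (n : WithBot ℕ∞))
    (hr : ringKrullDim (Localization.AtPrime p) = (r : WithBot ℕ∞))
    (hg : ∀ i : Fin n, (i : ℕ) < r →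
      algebraMap (MvPolynomial (Fin n) k) A (MvPolynomial.X i) ∈ p) :
    Algebra.IsEtaleAt (MvPolynomial (Fin n) k) p ↔
      Ideal.span ((fun i : Fin n =>
          algebraMap A (Localization.AtPrime p)
            (algebraMap (MvPolynomial (Fin n) k) A (MvPolynomial.X i))) ''
            {i : Fin n | (i : ℕ) < r}) = IsLocalRing.maximalIdeal (Localization.AtPrime p) ∧
        Submodule.span p.ResidueField ((fun i : Fin n =>
          KaehlerDifferential.D k p.ResidueField
            (IsLocalRing.residue (Localization.AtPrime p)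
              (algebraMap A (Localization.AtPrime p)
                (algebraMap (MvPolynomial (Fin n) k) A (MvPolynomial.X i))))) ''
            {i : Fin n | r ≤ (i : ℕ)}) = ⊤ := by
  have hgm : ∀ i : Fin n, (i : ℕ) < r → algebraMap A (Localization.AtPrime p)
      (algebraMap (MvPolynomial (Fin n) k) A (MvPolynomial.X i)) ∈
        maximalIdeal (Localization.AtPrime p) := by
    intro i hi
    rw [← Localization.AtPrime.map_eq_maximalIdeal]
    exact Ideal.mem_map_of_mem _ (hg i hi)
  haveI : Algebra.EssFiniteType k (Localization.AtPrime p) := Algebra.EssFiniteType.comp k A _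
  constructor
  · intro h
    haveI : Algebra.FormallyEtale (MvPolynomial (Fin n) k) (Localization.AtPrime p) := h
    refine ⟨span_eq_maximalIdeal_of_isEtaleAt k A n r p hn hr hg, ?_⟩
    exact span_residue_D_eq_top k (Localization.AtPrime p)
      (fun i => algebraMap A (Localization.AtPrime p)
        (algebraMap (MvPolynomial (Fin n) k) A (MvPolynomial.X i))) r hgm
      ((isEtaleAt_iff_span k A n p hn).mp h)
  · rintro ⟨h1, h2⟩
    rw [isEtaleAt_iff_span k A n p hn]
    exact span_D_eq_top_of_parameters k (Localization.AtPrime p)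
      (fun i => algebraMap A (Localization.AtPrime p)
        (algebraMap (MvPolynomial (Fin n) k) A (MvPolynomial.X i))) r h1 h2

end Poly

end Groth.Agent.Lib.Helper19.EtPolyPar
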