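import Mathlib
import Groth.Agent.Lib.Helper19EtPolyPar
import Groth.Agent.Lib.Helper7SepDer
import Groth.Agent.Lib.Helper7Cartier2

set_option autoImplicit false
set_option linter.style.haveILetI false
set_option linter.unusedSectionVars false
universe u

open IsLocalRing KaehlerDifferential TensorProduct

namespace Groth.Agent.Lib.Helper19.EtPolyPar

section Local2

variable (k : Type u) [Field k] (B : Type u) [CommRing B] [IsLocalRing B] [IsNoetherianRing B]
  [Algebra k B] [Algebra.EssFiniteType k B]

/-- geometric reducedness of an essentially finite type field extension by counting -/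
theorem isGeometricallyReduced_iff_finrank_le (K : Type u) [Field K] [Algebra k K]
    [Algebra.EssFiniteType k K] :
    Algebra.IsGeometricallyReduced k K ↔
      Module.finrank K Ω[K⁄k] ≤ Cardinal.toNat (Algebra.trdeg k K) := by
  obtain ⟨f1, f2, t, heq⟩ :=
    Groth.Agent.Lib.Helper7.ExalLib.cartierEQ_of_essFiniteType (K := k) (L := K)
  rw [Groth.Agent.Lib.Helper7.PPow.isGeometricallyReduced_iff_injective_mapBaseChange]
  rw [← LinearMap.ker_eq_bot]
  change EGA41.imperfection ℤ k K = ⊥ ↔ _
  constructor
  · intro h
    rw [h, finrank_bot] at heq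
    omega
  · intro h
    have h0 : Module.finrank K ↥(EGA41.imperfection ℤ k K) = 0 := by omega
    exact Submodule.finrank_eq_zero.mp h0

theorem toNat_trdeg_le_finrank_kaehler (K : Type u) [Field K] [Algebra k K]
    [Algebra.EssFiniteType k K] :
    Cardinal.toNat (Algebra.trdeg k K) ≤ Module.finrank K Ω[K⁄k] := by
  obtain ⟨f1, f2, t, heq⟩ :=
    Groth.Agent.Lib.Helper7.ExalLib.cartierEQ_of_essFiniteType (K := k) (L := K)
  omega

/-- regular with separable residue field iff there are adapted coordinates -/
theorem regular_and_geomReduced_iff (n r d : ℕ) (hr : ringKrullDim B = (r : WithBot ℕ∞))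
    (hd : Algebra.trdeg k (ResidueField B) = d) (hn : n = r + d) :
    (IsRegularLocalRing B ∧ Algebra.IsGeometricallyReduced k (ResidueField B)) ↔
      ∃ g : Fin n → B,
        Ideal.span (g '' {i : Fin n | (i : ℕ) < r}) = maximalIdeal B ∧
          Submodule.span (ResidueField B) ((fun i : Fin n =>
            KaehlerDifferential.D k (ResidueField B) (residue B (g i))) ''
              {i : Fin n | r ≤ (i : ℕ)}) = ⊤ := by
  haveI : Algebra.EssFiniteType k (ResidueField B) := Algebra.EssFiniteType.comp k B _
  have hge := toNat_trdeg_le_finrank_kaehler k (ResidueField B)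
  rw [isGeometricallyReduced_iff_finrank_le, hd, Cardinal.toNat_natCast]
  rw [hd, Cardinal.toNat_natCast] at hge
  constructor
  · rintro ⟨hreg, hfin⟩
    have hsf : (maximalIdeal B).spanFinrank = r := by
      have := IsRegularLocalRing.spanFinrank_maximalIdeal (R := B)
      rw [hr] at this
      exact_mod_cast this
    obtain ⟨s, hscard, hsspan⟩ := Submodule.FG.exists_span_finset_card_eq_spanFinrank
      (IsNoetherian.noetherian (maximalIdeal B))
    let e : s ≃ Fin r := Finset.equivFinOfCardEq (hscard.trans hsf)
    have hf : Ideal.span (Set.range fun j : Fin r => ((e.symm j : s) : B)) = maximalIdeal B := by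
      rw [← hsspan]
      congr 1
      ext x
      constructor
      · rintro ⟨j, rfl⟩
        exact (e.symm j).2
      · intro hx
        exact ⟨e ⟨x, hx⟩, by simp⟩
    -- basis of the differentials of the residue field
    obtain ⟨κ', a, -, hspan, hli⟩ := exists_linearIndependent' (ResidueField B)
      (fun c : ResidueField B => KaehlerDifferential.D k (ResidueField B) c)
    rw [KaehlerDifferential.span_range_derivation] at hspan
    let bs : Module.Basis κ' (ResidueField B) Ω[ResidueField B⁄k] := Module.Basis.mk hli hspan.ge
    haveI : Module.Finite (ResidueField B) Ω[ResidueField B⁄k] := inferInstance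
    haveI : Fintype κ' := FiniteDimensional.fintypeBasisIndex bs
    have hcard : Fintype.card κ' = d := by
      rw [← Module.finrank_eq_card_basis bs]
      omega
    let e' : κ' ≃ Fin d := Fintype.equivFinOfCardEq hcard
    choose lift hlift using fun c : ResidueField B => residue_surjective c
    refine ⟨fun i => if h : (i : ℕ) < r then ((e.symm ⟨i, h⟩ : s) : B)
      else lift (a (e'.symm ⟨(i : ℕ) - r, by have := i.2; omega⟩)), ?_, ?_⟩
    · rw [← hf]
      congr 1
      ext x
      constructor
      · rintro ⟨i, hi, rfl⟩
        have hi' : (i : ℕ) < r := hi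
        exact ⟨⟨i, hi'⟩, by simp [hi']⟩
      · rintro ⟨j, rfl⟩
        refine ⟨⟨j, by have := j.2; omega⟩, j.2, ?_⟩
        simp [j.2]
    · rw [eq_top_iff, ← hspan, Submodule.span_le]
      rintro _ ⟨c, rfl⟩
      simp only [Function.comp_apply]
      refine Submodule.subset_span ?_
      have hcd := (e' c).2
      refine ⟨⟨r + (e' c : ℕ), by omega⟩, ?_, ?_⟩
      · change r ≤ r + (e' c : ℕ)
        omega
      · have hnot : ¬ (r + (e' c : ℕ) < r) := by omega
        simp only [hnot, dite_false, hlift]
        congr 2
        have : (⟨r + (e' c : ℕ) - r, by omega⟩ : Fin d) = e' c := by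
          apply Fin.ext
          simp
        rw [this, Equiv.symm_apply_apply]
  · rintro ⟨g, h1, h2⟩
    refine ⟨?_, ?_⟩
    · apply IsRegularLocalRing.of_spanFinrank_maximalIdeal_le
      rw [hr, ← h1]
      have hfin : (g '' {i : Fin n | (i : ℕ) < r}).Finite := (Set.toFinite _).image _
      have h3 := Submodule.spanFinrank_span_le_ncard_of_finite (R := B) hfin
      have h4 : (g '' {i : Fin n | (i : ℕ) < r}).ncard ≤ r := by
        refine (Set.ncard_image_le (Set.toFinite _)).trans ?_
        rw [Set.ncard_eq_toFinset_card', Set.toFinset_card]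
        exact (Fintype.card_fin_lt_of_le (by omega)).le
      exact_mod_cast h3.trans h4
    · have hv : Submodule.span (ResidueField B) (Set.range fun j : Fin d =>
          KaehlerDifferential.D k (ResidueField B)
            (residue B (g ⟨r + (j : ℕ), by have := j.2; omega⟩))) = ⊤ := by
        rw [eq_top_iff, ← h2, Submodule.span_le]
        rintro _ ⟨i, hi, rfl⟩
        have hi' : r ≤ (i : ℕ) := hi
        refine Submodule.subset_span ⟨⟨(i : ℕ) - r, by have := i.2; omega⟩, ?_⟩
        simp only
        congr 3
        apply Fin.ext
        simp only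
        omega
      have := finrank_le_of_span_eq_top hv
      simpa using this

end Local2

/-- **EGA IV 17.15.x**: regular with separable residue field iff adapted coordinates exist -/
theorem regular_and_separable_iff (k A : Type u) [Field k]
    [CommRing A] [Algebra k A] [Algebra.FiniteType k A] (n r : ℕ) (p : Ideal A) [p.IsPrime]
    (hn : FlatMor.localDim (PrimeSpectrum A) ⟨p, inferInstance⟩ = (n : WithBot ℕ∞))
    (hr : ringKrullDim (Localization.AtPrime p) = (r : WithBot ℕ∞)) :
    (IsRegularLocalRing (Localization.AtPrime p) ∧
        Algebra.IsGeometricallyReduced k p.ResidueField) ↔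
      ∃ g : Fin n → Localization.AtPrime p,
        Ideal.span (g '' {i : Fin n | (i : ℕ) < r}) =
            IsLocalRing.maximalIdeal (Localization.AtPrime p) ∧
          Submodule.span p.ResidueField ((fun i : Fin n =>
            KaehlerDifferential.D k p.ResidueField
              (IsLocalRing.residue (Localization.AtPrime p) (g i))) ''
              {i : Fin n | r ≤ (i : ℕ)}) = ⊤ := by
  obtain ⟨d, hd1, -⟩ := Groth.Agent.Lib.Helper19.SmVar.trdeg_residueField_eq k A p
  have h2 := Groth.Agent.S2141.result (k := k) p d hd1
  rw [hn, hr] at h2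
  have hnd : n = r + d := by exact_mod_cast h2
  haveI : IsNoetherianRing A := Algebra.FiniteType.isNoetherianRing k A
  haveI : Algebra.EssFiniteType k (Localization.AtPrime p) := Algebra.EssFiniteType.comp k A _
  exact regular_and_geomReduced_iff k (Localization.AtPrime p) n r d hr hd1 hnd

end Groth.Agent.Lib.Helper19.EtPolyPar
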