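import Mathlib
import Groth.Agent.Lib.Helper19EtPolyAt

set_option autoImplicit false
set_option linter.style.haveILetI false
set_option linter.unusedSectionVars false
universe u

open IsLocalRing TensorProduct

namespace Groth.Agent.Lib.Helper19.EtPolyAt

/-- unramified + regular base + Cohen–Macaulay + equal dimensions ⇒ étale -/
theorem isEtaleAt_of_isUnramifiedAt_of_dim_eq (A B : Type u) [CommRing A] [CommRing B]
    [Algebra A B] [IsNoetherianRing A] [IsNoetherianRing B] [Algebra.FiniteType A B]
    (q : Ideal B) [q.IsPrime]
    (hdim : ringKrullDim (Localization.AtPrime (q.under A)) = ringKrullDim (Localization.AtPrime q))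
    [IsRegularLocalRing (Localization.AtPrime (q.under A))]
    [LocCoh.IsCohenMacaulayLocalRing (Localization.AtPrime q)]
    [Algebra.IsUnramifiedAt A q] : Algebra.IsEtaleAt A q := by
  letI := Localization.AtPrime.algebraOfLiesOver (q.under A) q
  haveI : IsLocalHom (algebraMap (Localization.AtPrime (q.under A)) (Localization.AtPrime q)) :=
    Localization.isLocalHom_localRingHom _ _ _ Ideal.LiesOver.over
  haveI : Algebra.EssFiniteType A (Localization.AtPrime q) := Algebra.EssFiniteType.comp A B _
  haveI : Algebra.EssFiniteType (Localization.AtPrime (q.under A)) (Localization.AtPrime q) :=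
    Algebra.EssFiniteType.of_comp A _ _
  haveI : Algebra.FormallyUnramified A (Localization.AtPrime q) := ‹Algebra.IsUnramifiedAt A q›
  haveI : Algebra.FormallyUnramified (Localization.AtPrime (q.under A)) (Localization.AtPrime q) :=
    .of_restrictScalars A _ _
  have hmap : (maximalIdeal (Localization.AtPrime (q.under A))).map (algebraMap _ _) =
      maximalIdeal (Localization.AtPrime q) := Algebra.FormallyUnramified.map_maximalIdeal
  haveI : Module.Flat (Localization.AtPrime (q.under A)) (Localization.AtPrime q) := by
    apply Groth.Agent.S2082.result
    rw [hmap, ← hdim]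
    have h0 : ringKrullDim (Localization.AtPrime q ⧸ maximalIdeal (Localization.AtPrime q)) = 0 :=
      ringKrullDim_eq_zero_of_isField ((Ideal.Quotient.maximal_ideal_iff_isField_quotient _).mp
        inferInstance)
    rw [h0, add_zero]
  haveI : Module.Flat A (Localization.AtPrime q) :=
    Module.Flat.trans A (Localization.AtPrime (q.under A)) (Localization.AtPrime q)
  haveI : Algebra.FinitePresentation A B := Algebra.FinitePresentation.of_finiteType.mp inferInstance
  exact isEtaleAt_of_flat_of_formallyUnramified A B (q.under A) q

end Groth.Agent.Lib.Helper19.EtPolyAt
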