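import Groth.Agent.Lib.Helper19CohenAlg
import Groth.Agent.Lib.Helper19FSArtin
import Groth.Prelude.Def_CAlgX
import Groth.Prelude.Def_EtRam
import Groth.Agent.Lib.Helper19FSField
import Mathlib.RingTheory.DiscreteValuationRing.Basic
import Mathlib.RingTheory.Flat.TorsionFree

/-!
# Formally smooth local homomorphisms: fibre criterion and consequences (helper19)
-/

set_option autoImplicit false
set_option linter.style.haveILetI false
set_option linter.unusedSectionVars false
universe u

namespace Groth.Agent.Lib.Helper19.FlatLift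

open IsLocalRing

variable {A B : Type u} [CommRing A] [IsLocalRing A] [CommRing B] [IsLocalRing B] [Algebra A B]
  [IsLocalHom (algebraMap A B)]

/-- from the two-sided adic notion to the discrete-base, square-zero notion, for a local
homomorphism -/
theorem isAdicFormallySmooth_of_isFormallySmoothAdic
    (h : EGA41.IsFormallySmoothAdic A (maximalIdeal A) B (maximalIdeal B)) :
    CAlgX.IsAdicFormallySmooth A B (maximalIdeal B) := by
  intro C _ _ J hJ ψ hψ
  obtain ⟨k, hk⟩ := hψ
  refine h C J ⟨2, hJ⟩ ⟨2 * k, ?_⟩ ψ ⟨k, hk⟩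
  have h1 : (maximalIdeal A ^ k).map (algebraMap A C) ≤ J := by
    rw [Ideal.map_le_iff_le_comap]
    intro a ha
    rw [Ideal.mem_comap, ← Ideal.Quotient.eq_zero_iff_mem]
    have h2 : algebraMap A B a ∈ maximalIdeal B ^ k := by
      have h3 : (maximalIdeal A).map (algebraMap A B) ≤ maximalIdeal B :=
        map_maximalIdeal_le (algebraMap A B)
      have := Ideal.mem_map_of_mem (algebraMap A B) ha
      rw [Ideal.map_pow] at this
      exact Ideal.pow_right_mono h3 k this
    have h4 := hk _ h2
    rwa [AlgHom.commutes, IsScalarTower.algebraMap_apply A C (C ⧸ J),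
      Ideal.Quotient.algebraMap_eq] at h4
  rw [mul_comm, pow_mul, Ideal.map_pow, eq_bot_iff, ← hJ]
  exact Ideal.pow_right_mono h1 2

/-- fibre criterion, discrete base version -/
theorem isAdicFormallySmooth_of_flat_of_residueField [Module.Flat A B]
    (hm : (maximalIdeal A).map (algebraMap A B) = maximalIdeal B)
    [Algebra.FormallySmooth (ResidueField A) (ResidueField B)] :
    CAlgX.IsAdicFormallySmooth A B (maximalIdeal B) :=
  isAdicFormallySmooth_of_isFormallySmoothAdic (isFormallySmoothAdic_of_flat_of_residueField hm)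

/-- the closed fibre of an adically formally smooth local homomorphism is formally smooth
(discrete), when it is killed by a power of the maximal ideal -/
theorem formallySmooth_fibre_of_isAdicFormallySmooth
    (h : CAlgX.IsAdicFormallySmooth A B (maximalIdeal B)) (e : ℕ)
    (he : maximalIdeal B ^ e ≤ (maximalIdeal A).map (algebraMap A B)) :
    Algebra.FormallySmooth (A ⧸ maximalIdeal A)
      (B ⧸ (maximalIdeal A).map (algebraMap A B)) := by
  refine Algebra.FormallySmooth.of_comp_surjective fun D _ _ J hJ f => ?_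
  letI : Algebra A D :=
    ((algebraMap (A ⧸ maximalIdeal A) D).comp (algebraMap A (A ⧸ maximalIdeal A))).toAlgebra
  haveI : IsScalarTower A (A ⧸ maximalIdeal A) D := IsScalarTower.of_algebraMap_eq fun _ => rfl
  let ψ : B →ₐ[A] D ⧸ J := (f.restrictScalars A).comp (Ideal.Quotient.mkₐ A _)
  have hψ : ∀ b, ψ b = f (Ideal.Quotient.mk _ b) := fun b => rfl
  obtain ⟨χ, hχ⟩ := h D J hJ ψ ⟨e, fun x hx => by
    rw [hψ, Ideal.Quotient.eq_zero_iff_mem.2 (he hx), map_zero]⟩
  have hχ0 : ∀ x ∈ (maximalIdeal A).map (algebraMap A B), χ x = 0 := by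
    intro x hx
    have : (maximalIdeal A).map (algebraMap A B) ≤ RingHom.ker χ := by
      rw [Ideal.map_le_iff_le_comap]
      intro a ha
      rw [Ideal.mem_comap, RingHom.mem_ker, AlgHom.commutes,
        IsScalarTower.algebraMap_apply A (A ⧸ maximalIdeal A) D, Ideal.Quotient.algebraMap_eq,
        Ideal.Quotient.eq_zero_iff_mem.2 ha, map_zero]
    exact this hx
  let χb : B ⧸ (maximalIdeal A).map (algebraMap A B) →ₐ[A] D := Ideal.Quotient.liftₐ _ χ hχ0
  refine ⟨AlgHom.extendScalarsOfSurjective
    (Ideal.Quotient.mk_surjective (I := maximalIdeal A)) χb, AlgHom.ext fun y => ?_⟩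
  obtain ⟨b, rfl⟩ := Ideal.Quotient.mk_surjective y
  have := congrArg (fun g : B →ₐ[A] D ⧸ J => g b) hχ
  exact this

/-- EGA 0_IV 19.7.1 converse for closed fibres: an adically formally smooth local homomorphism
whose closed fibre has nilpotent maximal ideal is weakly unramified with formally smooth residue
field extension. -/
theorem map_maximalIdeal_eq_and_formallySmooth_residueField
    (h : CAlgX.IsAdicFormallySmooth A B (maximalIdeal B)) (e : ℕ)
    (he : maximalIdeal B ^ e ≤ (maximalIdeal A).map (algebraMap A B)) :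
    (maximalIdeal A).map (algebraMap A B) = maximalIdeal B ∧
      Algebra.FormallySmooth (ResidueField A) (ResidueField B) := by
  haveI hfs := formallySmooth_fibre_of_isAdicFormallySmooth h e he
  have hne : (maximalIdeal A).map (algebraMap A B) ≠ ⊤ :=
    (map_maximalIdeal_lt_top (algebraMap A B)).ne
  have hle : (maximalIdeal A).map (algebraMap A B) ≤ maximalIdeal B := le_maximalIdeal hne
  haveI : Nontrivial (B ⧸ (maximalIdeal A).map (algebraMap A B)) :=
    Ideal.Quotient.nontrivial_iff.mpr hne
  haveI : IsLocalRing (B ⧸ (maximalIdeal A).map (algebraMap A B)) :=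
    IsLocalRing.of_surjective' (Ideal.Quotient.mk _) Ideal.Quotient.mk_surjective
  haveI := IsLocalHom.of_surjective
    (Ideal.Quotient.mk ((maximalIdeal A).map (algebraMap A B))) Ideal.Quotient.mk_surjective
  letI : Field (A ⧸ maximalIdeal A) := Ideal.Quotient.field _
  have h1 : (maximalIdeal B).map (Ideal.Quotient.mk ((maximalIdeal A).map (algebraMap A B))) =
      maximalIdeal (B ⧸ (maximalIdeal A).map (algebraMap A B)) := by
    ext x
    obtain ⟨x, rfl⟩ := Ideal.Quotient.mk_surjective x
    simp [sup_eq_left.mpr hle]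
  have hnil : IsNilpotent (maximalIdeal (B ⧸ (maximalIdeal A).map (algebraMap A B))) := by
    refine ⟨e, ?_⟩
    rw [← h1, ← Ideal.map_pow, Ideal.zero_eq_bot, Ideal.map_eq_bot_iff_le_ker, Ideal.mk_ker]
    exact he
  have hbot := FSArtin.maximalIdeal_eq_bot_of_formallySmooth_field
    (κ := A ⧸ maximalIdeal A) hnil
  have hm : (maximalIdeal A).map (algebraMap A B) = maximalIdeal B := by
    refine le_antisymm hle ?_
    rw [← h1, Ideal.map_eq_bot_iff_le_ker, Ideal.mk_ker] at hbot
    exact hbot
  refine ⟨hm, ?_⟩
  -- transport along `B ⧸ 𝔪_A B = B ⧸ 𝔪_B`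
  letI inst : Algebra (ResidueField A) (B ⧸ (maximalIdeal A).map (algebraMap A B)) :=
    (Ideal.Quotient.algebraQuotientMapQuotient (p := maximalIdeal A) (S := B) :
      Algebra (A ⧸ maximalIdeal A) (B ⧸ (maximalIdeal A).map (algebraMap A B)))
  haveI hfs' : Algebra.FormallySmooth (ResidueField A)
      (B ⧸ (maximalIdeal A).map (algebraMap A B)) := hfs
  let e : (B ⧸ (maximalIdeal A).map (algebraMap A B)) ≃ₐ[ResidueField A] ResidueField B :=
    { Ideal.quotEquivOfEq hm with
      commutes' := by
        intro r
        obtain ⟨a, rfl⟩ := Ideal.Quotient.mk_surjective r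
        rfl }
  exact Algebra.FormallySmooth.of_equiv e

/-- EGA 0_IV 19.7.1 for discrete valuation rings (S7134) -/
theorem isAdicFormallySmooth_dvr_iff (A B : Type u) [CommRing A]
    [IsDomain A] [IsDiscreteValuationRing A] [CommRing B] [IsDomain B] [IsDiscreteValuationRing B]
    [Algebra A B]
    (hinj : Function.Injective (algebraMap A B)) [IsLocalHom (algebraMap A B)] :
    CAlgX.IsAdicFormallySmooth A B (IsLocalRing.maximalIdeal B) ↔
      EtRam.IsWeaklyUnramified A B ∧
        Algebra.IsGeometricallyReduced (IsLocalRing.ResidueField A)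
          (IsLocalRing.ResidueField B) := by
  constructor
  · intro h
    have hne : (maximalIdeal A).map (algebraMap A B) ≠ ⊥ := by
      intro h0
      apply IsDiscreteValuationRing.not_a_field A
      rw [eq_bot_iff]
      intro a ha
      have h1 : algebraMap A B a ∈ (maximalIdeal A).map (algebraMap A B) :=
        Ideal.mem_map_of_mem _ ha
      rw [h0, Ideal.mem_bot] at h1
      rw [Ideal.mem_bot]
      exact hinj (by rw [h1, map_zero])
    obtain ⟨ϖ, hϖ⟩ := IsDiscreteValuationRing.exists_irreducible B
    obtain ⟨e, he⟩ := IsDiscreteValuationRing.ideal_eq_span_pow_irreducible hne hϖ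
    have he' : maximalIdeal B ^ e ≤ (maximalIdeal A).map (algebraMap A B) := by
      rw [he, hϖ.maximalIdeal_eq, Ideal.span_singleton_pow]
    obtain ⟨hm, hfs⟩ := map_maximalIdeal_eq_and_formallySmooth_residueField h e he'
    exact ⟨hm, PBasis.formallySmooth_field_iff.1 hfs⟩
  · rintro ⟨hm, hgr⟩
    haveI : Module.IsTorsionFree A B := Module.isTorsionFree_iff_algebraMap_injective.2 hinj
    haveI : Module.Flat A B := inferInstance
    haveI : Algebra.FormallySmooth (ResidueField A) (ResidueField B) :=
      PBasis.formallySmooth_field_iff.2 hgr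
    exact isAdicFormallySmooth_of_flat_of_residueField hm

end Groth.Agent.Lib.Helper19.FlatLift
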