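import Mathlib

/-!
# Local vanishing of kernels and cokernels along an ideal (helper19)

* `exists_smul_eq_zero_of_le_smul`: a finite module `C` with `C = 𝔟 C` is killed locally at every
  prime containing `𝔟` (Nakayama).
* `exists_smul_eq_zero_of_mem_ker`: for `α : M → F` with `M` finite, `F_P` projective,
  `coker α` locally zero at `P` and `ker α ≤ 𝔟 M` with `𝔟 ≤ P`, the kernel of `α` is locally zero
  at `P`.
-/

set_option autoImplicit false
universe u
open LocalizedModule

namespace Groth.Agent.Lib.Helper19.LocKer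

variable {R : Type*} [CommRing R]

theorem exists_smul_eq_zero_of_le_smul {C : Type*} [AddCommGroup C] [Module R C] [Module.Finite R C]
    (𝔟 : Ideal R) (h : (⊤ : Submodule R C) ≤ 𝔟 • ⊤) (P : Ideal R) [P.IsPrime] (h𝔟 : 𝔟 ≤ P)
    (x : C) : ∃ r ∉ P, r • x = 0 := by
  obtain ⟨r, hr1, hr2⟩ := Submodule.exists_sub_one_mem_and_smul_eq_zero_of_fg_of_le_smul 𝔟
    (⊤ : Submodule R C) Module.Finite.fg_top h
  refine ⟨r, ?_, hr2 x Submodule.mem_top⟩
  intro hr
  have h1 : r - 1 ∈ P := h𝔟 hr1
  have : (1 : R) ∈ P := by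
    have := sub_mem hr h1
    rwa [sub_sub_cancel] at this
  exact Ideal.IsPrime.ne_top' ((Ideal.eq_top_iff_one P).mpr this)

section Ker

variable {M F : Type*} [AddCommGroup M] [Module R M] [AddCommGroup F] [Module R F]

theorem mk_mem_map_smul_top (P : Ideal R) [P.IsPrime] (𝔟 : Ideal R) {x : M}
    (hx : x ∈ (𝔟 • ⊤ : Submodule R M)) (s : P.primeCompl) :
    (LocalizedModule.mk x s : LocalizedModule P.primeCompl M) ∈
      ((𝔟.map (algebraMap R (Localization.AtPrime P))) • ⊤ :
        Submodule (Localization.AtPrime P) (LocalizedModule P.primeCompl M)) := by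
  refine Submodule.smul_induction_on hx ?_ ?_
  · intro b hb y _
    have : (LocalizedModule.mk (b • y) s : LocalizedModule P.primeCompl M) =
        (algebraMap R (Localization.AtPrime P) b) • LocalizedModule.mk y s := by
      rw [← Localization.mk_one_eq_algebraMap, LocalizedModule.mk_smul_mk, one_mul]
    rw [this]
    exact Submodule.smul_mem_smul (Ideal.mem_map_of_mem _ hb) Submodule.mem_top
  · intro y z hy hz
    have : (LocalizedModule.mk (y + z) s : LocalizedModule P.primeCompl M) =
        LocalizedModule.mk y s + LocalizedModule.mk z s := by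
      rw [LocalizedModule.mk_add_mk, ← smul_add, ← LocalizedModule.mk_cancel_common_left s s (y + z)]
    rw [this]
    exact add_mem hy hz

theorem exists_smul_eq_zero_of_mem_ker [Module.Finite R M] (α : M →ₗ[R] F) (P : Ideal R)
    [P.IsPrime] (𝔟 : Ideal R) (h𝔟 : 𝔟 ≤ P)
    [Module.Projective (Localization.AtPrime P) (LocalizedModule P.primeCompl F)]
    (hcoker : ∀ x : F, ∃ r ∉ P, r • x ∈ LinearMap.range α)
    (hker : LinearMap.ker α ≤ 𝔟 • ⊤) {m : M} (hm : m ∈ LinearMap.ker α) :
    ∃ r ∉ P, r • m = 0 := by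
  set S := P.primeCompl with hS
  set αp := LocalizedModule.map S α with hαp
  -- surjectivity
  have hsurj : Function.Surjective αp := by
    intro y
    induction y using LocalizedModule.induction_on with
    | h x s =>
      obtain ⟨r, hr, m₀, hm₀⟩ := hcoker x
      refine ⟨LocalizedModule.mk m₀ (⟨r, hr⟩ * s), ?_⟩
      rw [hαp, LocalizedModule.map_mk, hm₀]
      exact LocalizedModule.mk_cancel_common_left (⟨r, hr⟩ : S) s x
  obtain ⟨τ, hτ⟩ := Module.projective_lifting_property αp LinearMap.id hsurj
  set π' : LocalizedModule S M →ₗ[Localization S] LocalizedModule S M := LinearMap.id - τ ∘ₗ αp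
    with hπ'
  have hπ'_ker : ∀ y, π' y ∈ LinearMap.ker αp := by
    intro y
    rw [LinearMap.mem_ker, hπ', LinearMap.sub_apply, map_sub, LinearMap.id_apply,
      LinearMap.comp_apply]
    have := LinearMap.congr_fun hτ (αp y)
    rw [LinearMap.comp_apply, LinearMap.id_apply] at this
    rw [this, sub_self]
  have hπ'_fix : ∀ y ∈ LinearMap.ker αp, π' y = y := by
    intro y hy
    rw [hπ', LinearMap.sub_apply, LinearMap.id_apply, LinearMap.comp_apply,
      LinearMap.mem_ker.mp hy, map_zero, sub_zero]
  have hrange : LinearMap.range π' = LinearMap.ker αp := by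
    apply le_antisymm
    · rintro _ ⟨y, rfl⟩; exact hπ'_ker y
    · intro y hy; exact ⟨y, hπ'_fix y hy⟩
  have hfg : (LinearMap.ker αp).FG := by
    rw [← hrange, LinearMap.range_eq_map]
    exact Module.Finite.fg_top.map π'
  set 𝔟' := 𝔟.map (algebraMap R (Localization.AtPrime P)) with h𝔟'
  have h𝔟'le : 𝔟' ≤ (⊥ : Ideal (Localization.AtPrime P)).jacobson := by
    rw [IsLocalRing.jacobson_eq_maximalIdeal _ bot_ne_top]
    rw [h𝔟', ← Localization.AtPrime.map_eq_maximalIdeal]
    exact Ideal.map_mono h𝔟
  have hle : LinearMap.ker αp ≤ 𝔟' • LinearMap.ker αp := by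
    intro y hy
    have h1 : y ∈ (𝔟' • ⊤ : Submodule (Localization.AtPrime P) (LocalizedModule S M)) := by
      induction y using LocalizedModule.induction_on with
      | h x s =>
        rw [LinearMap.mem_ker, hαp, LocalizedModule.map_mk] at hy
        have hy' : (LocalizedModule.mk (α x) s : LocalizedModule S F) = LocalizedModule.mk 0 s := by
          rw [hy, LocalizedModule.zero_mk]
        rw [LocalizedModule.mk_eq] at hy'
        obtain ⟨t, ht⟩ := hy'
        simp only [smul_zero, Submonoid.smul_def, ← map_smul] at ht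
        have hx : (t : R) • (s : R) • x ∈ (𝔟 • ⊤ : Submodule R M) :=
          hker (LinearMap.mem_ker.mpr ht)
        have := mk_mem_map_smul_top P 𝔟 hx ((t * s) * s)
        have h2 : (LocalizedModule.mk ((t : R) • (s : R) • x) ((t * s) * s) :
            LocalizedModule S M) = LocalizedModule.mk x s := by
          rw [← mul_smul]
          exact LocalizedModule.mk_cancel_common_left (t * s) s x
        rwa [h2] at this
    rw [← hπ'_fix y hy]
    have h3 : π' y ∈ (𝔟' • ⊤ : Submodule _ (LocalizedModule S M)).map π' :=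
      Submodule.mem_map_of_mem h1
    rw [Submodule.map_smul'', Submodule.map_top, hrange] at h3
    exact h3
  have hbot := Submodule.eq_bot_of_le_smul_of_le_jacobson_bot 𝔟' _ hfg hle h𝔟'le
  have h0 : (LocalizedModule.mk m 1 : LocalizedModule S M) ∈ LinearMap.ker αp := by
    rw [LinearMap.mem_ker, hαp, LocalizedModule.map_mk, LinearMap.mem_ker.mp hm,
      LocalizedModule.zero_mk]
  rw [hbot, Submodule.mem_bot] at h0
  have h0' : LocalizedModule.mkLinearMap S M m = 0 := h0
  obtain ⟨s', hs'⟩ := (IsLocalizedModule.eq_zero_iff S (LocalizedModule.mkLinearMap S M)).mp h0'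
  exact ⟨s'.1, s'.2, hs'⟩

end Ker

end Groth.Agent.Lib.Helper19.LocKer
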