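import Mathlib

/-!
# Kernels of surjections between formally smooth algebras (helper19)

* `ker_le_mul_of_retraction`: if `P → B` is a surjection of `A`-algebras with kernel `K`, the
  conormal map `K/K² → B ⊗ Ω_P` has a retraction and `K ≤ J ^ 2`, then `K ≤ J * K`.
* `injective_of_formallySmooth_away`: a surjection `φ : A[σ] → B` (with `A` Noetherian, `σ` finite)
  whose kernel lies in the square of the ideal of variables is injective as soon as some
  localization `B_{φ f'}` with `f'` of constant coefficient `1` is formally smooth over `A`.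
-/

set_option autoImplicit false
universe u v
open TensorProduct KaehlerDifferential

namespace Groth.Agent.Lib.Helper19.SmoothKer

section X

variable {A : Type*} {P : Type*} {B : Type*} [CommRing A] [CommRing P] [CommRing B] [Algebra A P]
  [Algebra A B] [Algebra P B] [IsScalarTower A P B]

local notation "K" => RingHom.ker (algebraMap P B)

theorem D_mem_smul_top (J : Ideal P) {k : P} (hk : k ∈ J ^ 2) :
    D A P k ∈ (J • ⊤ : Submodule P Ω[P⁄A]) := by
  rw [pow_two] at hk
  refine Submodule.mul_induction_on hk ?_ ?_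
  · intro u hu v hv
    rw [Derivation.leibniz]
    exact add_mem (Submodule.smul_mem_smul hu Submodule.mem_top)
      (Submodule.smul_mem_smul hv Submodule.mem_top)
  · intro x y hx hy
    rw [map_add]
    exact add_mem hx hy

theorem map_mem_smul_top {M N : Type*} [AddCommGroup M] [AddCommGroup N] [Module P M] [Module P N]
    (g : M →ₗ[P] N) (J : Ideal P) {m : M} (hm : m ∈ (J • ⊤ : Submodule P M)) :
    g m ∈ (J • ⊤ : Submodule P N) := by
  refine Submodule.smul_induction_on hm ?_ ?_
  · intro r hr n _
    rw [map_smul]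
    exact Submodule.smul_mem_smul hr Submodule.mem_top
  · intro x y hx hy
    rw [map_add]
    exact add_mem hx hy

theorem ker_le_mul_of_retraction
    (h : ∃ l, l ∘ₗ kerCotangentToTensor A P B = LinearMap.id)
    (J : Ideal P) (hK : RingHom.ker (algebraMap P B) ≤ J ^ 2) :
    RingHom.ker (algebraMap P B) ≤ J * RingHom.ker (algebraMap P B) := by
  obtain ⟨l, hl⟩ := h
  intro k hk
  have h1 : (Ideal.toCotangent K) ⟨k, hk⟩ = l ((1 : B) ⊗ₜ[P] D A P k) := by
    have := LinearMap.congr_fun hl ((Ideal.toCotangent K) ⟨k, hk⟩)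
    rw [LinearMap.comp_apply, kerCotangentToTensor_toCotangent, LinearMap.id_apply] at this
    exact this.symm
  have h2 : (Ideal.toCotangent K) ⟨k, hk⟩ ∈ (J • ⊤ : Submodule P (Ideal.Cotangent K)) := by
    rw [h1]
    apply map_mem_smul_top l
    exact map_mem_smul_top (TensorProduct.mk P B Ω[P⁄A] 1) J (D_mem_smul_top J (hK hk))
  -- lift to `K`
  have h3 : (J • ⊤ : Submodule P (Ideal.Cotangent K)) =
      (J • ⊤ : Submodule P K).map (Ideal.toCotangent K) := by
    rw [Submodule.map_smul'', Submodule.map_top, LinearMap.range_eq_top.mpr (Ideal.toCotangent_surjective K)]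
  rw [h3] at h2
  obtain ⟨k₁, hk₁, hk₁'⟩ := h2
  have h4 : ((⟨k, hk⟩ : K) : P) - (k₁ : P) ∈ K ^ 2 := by
    rw [← Ideal.toCotangent_eq, hk₁']
  have h5 : (k₁ : P) ∈ J * K := by
    refine Submodule.smul_induction_on hk₁ ?_ ?_
    · intro r hr n _
      exact Ideal.mul_mem_mul hr n.2
    · intro x y hx hy
      exact add_mem hx hy
  have h6 : K ^ 2 ≤ J * K := by
    rw [pow_two]
    refine Ideal.mul_mono_left ?_
    refine hK.trans ?_
    exact Ideal.pow_le_self two_ne_zero
  have : k = (k - (k₁ : P)) + (k₁ : P) := by ring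
  rw [this]
  exact add_mem (h6 h4) h5

end X

section A

open MvPolynomial

theorem exists_annihilator_aux {A P B P' B' : Type*} [CommRing A] [CommRing P] [CommRing B]
    [CommRing P'] [CommRing B'] [Algebra A P] [Algebra A B] [Algebra A P'] [Algebra A B']
    [Algebra P P'] [Algebra P' B'] [IsScalarTower A P' B']
    [Algebra.FormallySmooth A P'] [Algebra.FormallySmooth A B'] [IsNoetherianRing P']
    (φ : P →ₐ[A] B) (f' : P) [IsLocalization.Away f' P']
    (ε : P →+* A) (ε' : P' →+* A) (hε' : ∀ p, ε' (algebraMap P P' p) = ε p) (hεf : ε f' = 1)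
    (hsurj : Function.Surjective (algebraMap P' B'))
    (hker : RingHom.ker (algebraMap P' B') = (RingHom.ker φ).map (algebraMap P P'))
    (I : Ideal P) (hI : I ≤ RingHom.ker ε) (hK : RingHom.ker φ ≤ I ^ 2) :
    ∀ k ∈ RingHom.ker φ, ∃ u : P, ε u = 1 ∧ u * k = 0 := by
  have hl := (Algebra.FormallySmooth.iff_split_injection (R := A) hsurj).mp inferInstance
  let J : Ideal P' := RingHom.ker ε'
  have hvars : I.map (algebraMap _ P') ≤ J := by
    rw [Ideal.map_le_iff_le_comap]
    intro x hx
    have := hI hx
    simp only [Ideal.mem_comap, J, RingHom.mem_ker, hε'] at this ⊢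
    exact this
  have hKJ : RingHom.ker (algebraMap P' B') ≤ J ^ 2 := by
    rw [hker]
    refine (Ideal.map_mono hK).trans ?_
    rw [Ideal.map_pow]
    exact Ideal.pow_right_mono hvars 2
  have hX := ker_le_mul_of_retraction hl J hKJ
  have hfg : (RingHom.ker (algebraMap P' B')).FG := IsNoetherian.noetherian _
  obtain ⟨r, hr1, hr2⟩ := Submodule.exists_sub_one_mem_and_smul_eq_zero_of_fg_of_le_smul J
    (RingHom.ker (algebraMap P' B')) hfg hX
  have hεr : ε' r = 1 := by
    have : ε' (r - 1) = 0 := hr1
    rw [map_sub, map_one, sub_eq_zero] at this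
    exact this
  intro k hk
  have hk' : algebraMap _ P' k ∈ RingHom.ker (algebraMap P' B') := by
    rw [hker]
    exact Ideal.mem_map_of_mem _ hk
  have h0 := hr2 _ hk'
  obtain ⟨⟨ρ, s⟩, hρ⟩ := IsLocalization.surj (Submonoid.powers f') r
  have h1 : algebraMap _ P' (ρ * k) = 0 := by
    rw [map_mul, ← hρ]
    simp only at h0 ⊢
    rw [smul_eq_mul] at h0
    rw [mul_right_comm, h0, zero_mul]
  obtain ⟨c, hc⟩ := (IsLocalization.map_eq_zero_iff (Submonoid.powers f') P' _).mp h1
  have hcc : ∀ c : Submonoid.powers f', ε (c : P) = 1 := by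
    rintro ⟨_, n, rfl⟩
    simp [hεf]
  have hρ1 : ε ρ = 1 := by
    rw [← hε', ← hρ, map_mul, hεr, hε', hcc, one_mul]
  refine ⟨c * ρ, ?_, ?_⟩
  · rw [map_mul, hcc, hρ1, one_mul]
  · rw [mul_assoc]; exact hc

/-- powers of the ideal of variables: an element fixed by multiplication by `1 - u` -/
theorem eq_zero_of_mul_eq {A : Type*} {σ : Type*} [CommRing A] (k u : MvPolynomial σ A) (hu : constantCoeff u = 1) (huk : u * k = 0) :
    k = 0 := by
  have h1 : (1 - u) ∈ idealOfVars σ A := by
    have : (1 - u) ∈ idealOfVars σ A ^ 1 := by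
      rw [mem_pow_idealOfVars_iff']
      intro x hx
      have hx0 : x = 0 := by
        have : x.degree = 0 := by omega
        exact (Finsupp.degree_eq_zero_iff x).mp this
      subst hx0
      rw [← constantCoeff_eq]
      simp [hu]
    simpa using this
  have h2 : k = (1 - u) * k := by
    rw [sub_mul, huk, one_mul, sub_zero]
  have h3 : ∀ n : ℕ, k ∈ idealOfVars σ A ^ n := by
    intro n
    induction n with
    | zero => simp
    | succ n ih =>
      rw [h2, pow_succ']
      exact Ideal.mul_mem_mul h1 ih
  ext x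
  have := (mem_pow_idealOfVars_iff' (x.degree + 1) k).mp (h3 _) x (Nat.lt_succ_self _)
  simpa using this

theorem injective_of_formallySmooth_away {A : Type u} {σ : Type v} {B : Type u} [CommRing A]
    [CommRing B] [Algebra A B] [IsNoetherianRing A] [Finite σ]
    (φ : MvPolynomial σ A →ₐ[A] B) (hφ : Function.Surjective φ)
    (f' : MvPolynomial σ A) (hf' : constantCoeff f' = 1)
    [Algebra.FormallySmooth A (Localization.Away (φ f'))]
    (hK : RingHom.ker φ ≤ idealOfVars σ A ^ 2) : Function.Injective φ := by
  let φ' : Localization.Away f' →ₐ[A] Localization.Away (φ f') := Localization.awayMapₐ φ f'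
  have hφ' : Function.Surjective φ' := IsLocalization.Away.mapₐ_surjective_of_surjective f' hφ
  let _ : Algebra (Localization.Away f') (Localization.Away (φ f')) := φ'.toRingHom.toAlgebra
  have : IsScalarTower A (Localization.Away f') (Localization.Away (φ f')) :=
    IsScalarTower.of_algebraMap_eq' φ'.comp_algebraMap.symm
  have hunit : IsUnit ((constantCoeff : MvPolynomial σ A →+* A) f') := by
    rw [hf']; exact isUnit_one
  have hker : RingHom.ker (algebraMap (Localization.Away f') (Localization.Away (φ f'))) =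
      (RingHom.ker φ).map (algebraMap _ (Localization.Away f')) := by
    have := IsLocalization.ker_map (S := Localization.Away f') (Localization.Away (φ f'))
      (M := Submonoid.powers f')
      (T := Submonoid.powers (φ f')) (φ : MvPolynomial σ A →+* B) (Submonoid.map_powers _ _)
    exact Eq.trans rfl this
  have hI : idealOfVars σ A ≤ RingHom.ker (constantCoeff : MvPolynomial σ A →+* A) := by
    rw [idealOfVars, Ideal.span_le]
    rintro _ ⟨i, rfl⟩
    simp only [SetLike.mem_coe, RingHom.mem_ker, constantCoeff_X]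
  have key := exists_annihilator_aux (P' := Localization.Away f') (B' := Localization.Away (φ f'))
    φ f' constantCoeff (IsLocalization.Away.lift f' hunit)
    (fun p => IsLocalization.Away.lift_eq f' hunit p) hf' hφ' hker (idealOfVars σ A) hI hK
  rw [injective_iff_map_eq_zero]
  intro k hk
  obtain ⟨u, hu1, hu2⟩ := key k hk
  exact eq_zero_of_mul_eq k u hu1 hu2

end A

section Open

open PrimeSpectrum

theorem exists_formallySmooth_away {A B : Type u} [CommRing A] [CommRing B] [Algebra A B]
    [Algebra.FinitePresentation A B] (I : Ideal B)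
    (hsm : ∀ (P : Ideal B) [P.IsPrime], I ≤ P → Algebra.IsSmoothAt A P) :
    ∃ f : B, f - 1 ∈ I ∧ Algebra.FormallySmooth A (Localization.Away f) := by
  have hopen : IsOpen (Algebra.smoothLocus A B) := Algebra.isOpen_smoothLocus
  obtain ⟨J, hJ⟩ := (isClosed_iff_zeroLocus_ideal _).mp hopen.isClosed_compl
  have hsub : zeroLocus (I : Set B) ⊆ Algebra.smoothLocus A B := by
    intro p hp
    exact hsm p.asIdeal ((mem_zeroLocus _ _).mp hp)
  have htop : J ⊔ I = ⊤ := by
    rw [← zeroLocus_empty_iff_eq_top, zeroLocus_sup, ← hJ]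
    rw [Set.eq_empty_iff_forall_notMem]
    rintro p ⟨hp1, hp2⟩
    exact hp1 (hsub hp2)
  obtain ⟨f, hf, g, hg, hfg⟩ := Submodule.mem_sup.mp (htop ▸ Submodule.mem_top : (1 : B) ∈ J ⊔ I)
  refine ⟨f, ?_, ?_⟩
  · have : f - 1 = -g := by rw [← hfg]; ring
    rw [this]
    exact neg_mem hg
  · rw [← Algebra.basicOpen_subset_smoothLocus_iff]
    intro p hp
    by_contra hcon
    have : p ∈ zeroLocus (J : Set B) := by rw [← hJ]; exact hcon
    rw [mem_zeroLocus] at this
    exact hp (this hf)

end Open

end Groth.Agent.Lib.Helper19.SmoothKer
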