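import Mathlib
import Groth.Agent.Lib.Helper19SmoothKer
import Groth.Agent.Lib.Helper19LocKer

/-!
# Étaleness along a section (helper19)

For `A`-algebras `B₂ → B₁` with compatible augmentations `σᵢ : Bᵢ → A`, `B₁` smooth along
`V(ker σ₁)` and the conormal map `ker σ₂/(ker σ₂)² → ker σ₁/(ker σ₁)²` bijective, the map
`B₂ → B₁` is étale at every prime containing `ker σ₁`.
-/

set_option autoImplicit false
universe u
open TensorProduct KaehlerDifferential

namespace Groth.Agent.Lib.Helper19.EtaleSec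

section Aug

variable {A B : Type u} [CommRing A] [CommRing B] [Algebra A B] (σ : B →ₐ[A] A)

theorem sub_mem_ker (x : B) : x - algebraMap A B (σ x) ∈ RingHom.ker σ := by
  rw [RingHom.mem_ker, map_sub, AlgHom.commutes, Algebra.algebraMap_self_apply, sub_self]

/-- the `A`-linear projection of `B` onto the augmentation ideal -/
noncomputable def toKer : B →ₗ[A] ↥(RingHom.ker σ) where
  toFun x := ⟨x - algebraMap A B (σ x), sub_mem_ker σ x⟩
  map_add' x y := by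
    apply Subtype.ext
    simp only [map_add, Submodule.coe_add]
    ring
  map_smul' a x := by
    apply Subtype.ext
    simp only [map_smul, RingHom.id_apply, Submodule.coe_smul_of_tower, smul_eq_mul, map_mul,
      Algebra.algebraMap_self_apply, smul_sub]
    rw [Algebra.smul_def a (algebraMap A B (σ x))]

@[simp] theorem toKer_coe (x : B) : ((toKer σ x : ↥(RingHom.ker σ)) : B) = x - algebraMap A B (σ x) :=
  rfl

/-- the derivation `B → I/I²`, `x ↦ [x - σ x]` -/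
noncomputable def augDer : Derivation A B (RingHom.ker σ).Cotangent :=
  Derivation.mk' (((RingHom.ker σ).toCotangent.restrictScalars A) ∘ₗ toKer σ) (by
    intro x y
    simp only [LinearMap.comp_apply, LinearMap.restrictScalars_apply]
    rw [← LinearMap.map_smul (RingHom.ker σ).toCotangent x, ← LinearMap.map_smul (RingHom.ker σ).toCotangent y,
      ← map_add, Ideal.toCotangent_eq]
    have : ((toKer σ (x * y) : ↥(RingHom.ker σ)) : B) - ((x • toKer σ y + y • toKer σ x :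
        ↥(RingHom.ker σ)) : B) = - (((toKer σ x : ↥(RingHom.ker σ)) : B) * (toKer σ y : B)) := by
      simp only [toKer_coe, Submodule.coe_add, Submodule.coe_smul, smul_eq_mul, map_mul]
      ring
    rw [this, neg_mem_iff, pow_two]
    exact Ideal.mul_mem_mul (toKer σ x).2 (toKer σ y).2)

theorem augDer_apply (x : B) :
    augDer σ x = (RingHom.ker σ).toCotangent (toKer σ x) := rfl

theorem augDer_of_mem {x : B} (hx : x ∈ RingHom.ker σ) :
    augDer σ x = (RingHom.ker σ).toCotangent ⟨x, hx⟩ := by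
  rw [augDer_apply]
  congr 1
  apply Subtype.ext
  rw [toKer_coe, RingHom.mem_ker.mp hx, map_zero, sub_zero]

end Aug


section Main

variable {A B₁ B₂ : Type u} [CommRing A] [CommRing B₁] [CommRing B₂] [Algebra A B₁] [Algebra A B₂]
  [Algebra B₂ B₁] [IsScalarTower A B₂ B₁]
  (σ₁ : B₁ →ₐ[A] A) (σ₂ : B₂ →ₐ[A] A) (hσ : σ₁.comp (IsScalarTower.toAlgHom A B₂ B₁) = σ₂)
  (hle : RingHom.ker σ₂ ≤ (RingHom.ker σ₁).comap (IsScalarTower.toAlgHom A B₂ B₁))

include hσ in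
theorem σ₁_algebraMap (z : B₂) : σ₁ (algebraMap B₂ B₁ z) = σ₂ z := by
  rw [← hσ]; rfl

include hle in
theorem algebraMap_mem {z : B₂} (hz : z ∈ RingHom.ker σ₂) : algebraMap B₂ B₁ z ∈ RingHom.ker σ₁ :=
  hle hz

/-- `Ω[B₁/B₂] = b₁ Ω[B₁/B₂]` when the conormal map is surjective. -/
theorem kaehler_le_smul_top
    (hcot : Function.Surjective
      (Ideal.mapCotangent (RingHom.ker σ₂) (RingHom.ker σ₁) (IsScalarTower.toAlgHom A B₂ B₁) hle)) :
    (⊤ : Submodule B₁ Ω[B₁⁄B₂]) ≤ RingHom.ker σ₁ • ⊤ := by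
  suffices h : Submodule.span B₁ (Set.range (D B₂ B₁)) ≤ RingHom.ker σ₁ • ⊤ by
    rwa [KaehlerDifferential.span_range_derivation] at h
  rw [Submodule.span_le]
  rintro _ ⟨x, rfl⟩
  rw [SetLike.mem_coe]
  -- x = y + a with y in b₁
  have hx : x = (toKer σ₁ x : B₁) + algebraMap B₂ B₁ (algebraMap A B₂ (σ₁ x)) := by
    rw [toKer_coe, ← IsScalarTower.algebraMap_apply]; ring
  rw [hx, map_add, Derivation.map_algebraMap, add_zero]
  obtain ⟨w, hw⟩ := hcot ((RingHom.ker σ₁).toCotangent (toKer σ₁ x))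
  obtain ⟨z, rfl⟩ := Ideal.toCotangent_surjective _ w
  rw [Ideal.mapCotangent_toCotangent, Ideal.toCotangent_eq] at hw
  have h1 := SmoothKer.D_mem_smul_top (A := B₂) (RingHom.ker σ₁) hw
  rw [map_sub] at h1
  have h2 : D B₂ B₁ ((IsScalarTower.toAlgHom A B₂ B₁) z : B₁) = 0 := by
    exact Derivation.map_algebraMap _ _
  rw [h2, zero_sub, neg_mem_iff] at h1
  exact h1

include hle in
theorem one_tmul_D_mem {z : B₂} (hz : z ∈ RingHom.ker σ₂ ^ 2) :
    (1 : B₁) ⊗ₜ[B₂] D A B₂ z ∈ (RingHom.ker σ₁ • ⊤ : Submodule B₁ (B₁ ⊗[B₂] Ω[B₂⁄A])) := by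
  have h1 := SmoothKer.D_mem_smul_top (A := A) (RingHom.ker σ₂) hz
  refine Submodule.smul_induction_on h1 ?_ ?_
  · intro c hc ω _
    have : (1 : B₁) ⊗ₜ[B₂] (c • ω) = (algebraMap B₂ B₁ c) • ((1 : B₁) ⊗ₜ[B₂] ω) := by
      rw [TensorProduct.tmul_smul, TensorProduct.smul_tmul', TensorProduct.smul_tmul',
        Algebra.smul_def, mul_one, smul_eq_mul, mul_one]
    rw [this]
    exact Submodule.smul_mem_smul (hle hc) Submodule.mem_top
  · intro ω₁ ω₂ h₁ h₂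
    rw [TensorProduct.tmul_add]
    exact add_mem h₁ h₂

include hσ in
/-- every element of `B₁ ⊗ Ω[B₂/A]` is congruent mod `b₁` to `1 ⊗ D z` with `z ∈ b₂` -/
theorem exists_one_tmul_D (m : B₁ ⊗[B₂] Ω[B₂⁄A]) :
    ∃ z ∈ RingHom.ker σ₂, m - (1 : B₁) ⊗ₜ[B₂] D A B₂ z ∈
      (RingHom.ker σ₁ • ⊤ : Submodule B₁ (B₁ ⊗[B₂] Ω[B₂⁄A])) := by
  induction m using TensorProduct.induction_on with
  | zero => exact ⟨0, zero_mem _, by simp⟩
  | add m₁ m₂ h₁ h₂ =>
    obtain ⟨z₁, hz₁, h₁⟩ := h₁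
    obtain ⟨z₂, hz₂, h₂⟩ := h₂
    refine ⟨z₁ + z₂, add_mem hz₁ hz₂, ?_⟩
    have : m₁ + m₂ - (1 : B₁) ⊗ₜ[B₂] D A B₂ (z₁ + z₂) =
        (m₁ - (1 : B₁) ⊗ₜ[B₂] D A B₂ z₁) + (m₂ - (1 : B₁) ⊗ₜ[B₂] D A B₂ z₂) := by
      rw [map_add, TensorProduct.tmul_add]; abel
    rw [this]
    exact add_mem h₁ h₂
  | tmul y ω =>
    have hω : ω ∈ Submodule.span B₂ (Set.range (D A B₂)) := by
      rw [KaehlerDifferential.span_range_derivation]; exact Submodule.mem_top
    revert y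
    refine Submodule.span_induction ?_ ?_ ?_ ?_ hω
    · rintro _ ⟨z₀, rfl⟩ y
      set a := σ₁ y with ha
      refine ⟨toKer σ₂ (a • z₀), (toKer σ₂ (a • z₀)).2, ?_⟩
      have h1 : D A B₂ ((toKer σ₂ (a • z₀) : ↥(RingHom.ker σ₂)) : B₂) = a • D A B₂ z₀ := by
        rw [toKer_coe, map_sub, Derivation.map_algebraMap, sub_zero, Derivation.map_smul]
      have h2 : y ⊗ₜ[B₂] D A B₂ z₀ - (1 : B₁) ⊗ₜ[B₂] (a • D A B₂ z₀) =
          ((toKer σ₁ y : ↥(RingHom.ker σ₁)) : B₁) • ((1 : B₁) ⊗ₜ[B₂] D A B₂ z₀) := by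
        rw [TensorProduct.tmul_smul, TensorProduct.smul_tmul', TensorProduct.smul_tmul', toKer_coe,
          smul_eq_mul, mul_one, Algebra.smul_def, mul_one, TensorProduct.sub_tmul]
      rw [h1, h2]
      exact Submodule.smul_mem_smul (toKer σ₁ y).2 Submodule.mem_top
    · intro y
      exact ⟨0, zero_mem _, by simp⟩
    · intro ω₁ ω₂ _ _ h₁ h₂ y
      obtain ⟨z₁, hz₁, h₁⟩ := h₁ y
      obtain ⟨z₂, hz₂, h₂⟩ := h₂ y
      refine ⟨z₁ + z₂, add_mem hz₁ hz₂, ?_⟩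
      have : y ⊗ₜ[B₂] (ω₁ + ω₂) - (1 : B₁) ⊗ₜ[B₂] D A B₂ (z₁ + z₂) =
          (y ⊗ₜ[B₂] ω₁ - (1 : B₁) ⊗ₜ[B₂] D A B₂ z₁) + (y ⊗ₜ[B₂] ω₂ - (1 : B₁) ⊗ₜ[B₂] D A B₂ z₂) := by
        rw [map_add, TensorProduct.tmul_add, TensorProduct.tmul_add]; abel
      rw [this]
      exact add_mem h₁ h₂
    · intro c ω' _ h y
      obtain ⟨z, hz, h⟩ := h (c • y)
      refine ⟨z, hz, ?_⟩
      rw [TensorProduct.tmul_smul, TensorProduct.smul_tmul']
      exact h


include hσ in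
/-- `ker (B₁ ⊗ Ω[B₂/A] → Ω[B₁/A]) ≤ b₁ (B₁ ⊗ Ω[B₂/A])` when the conormal map is injective. -/
theorem ker_mapBaseChange_le
    (hcot : Function.Injective
      (Ideal.mapCotangent (RingHom.ker σ₂) (RingHom.ker σ₁) (IsScalarTower.toAlgHom A B₂ B₁) hle)) :
    LinearMap.ker (KaehlerDifferential.mapBaseChange A B₂ B₁) ≤ RingHom.ker σ₁ • ⊤ := by
  intro m hm
  obtain ⟨z, hz, hmz⟩ := exists_one_tmul_D σ₁ σ₂ hσ m
  -- image of `1 ⊗ D z`
  have h1 : KaehlerDifferential.mapBaseChange A B₂ B₁ ((1 : B₁) ⊗ₜ[B₂] D A B₂ z) ∈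
      (RingHom.ker σ₁ • ⊤ : Submodule B₁ Ω[B₁⁄A]) := by
    have := SmoothKer.map_mem_smul_top (KaehlerDifferential.mapBaseChange A B₂ B₁) _ hmz
    rw [map_sub, LinearMap.mem_ker.mp hm, zero_sub, neg_mem_iff] at this
    exact this
  rw [KaehlerDifferential.mapBaseChange_tmul, one_smul, KaehlerDifferential.map_D] at h1
  -- apply the augmentation derivation
  have h2 : (augDer σ₁).liftKaehlerDifferential (D A B₁ (algebraMap B₂ B₁ z)) = 0 := by
    refine Submodule.smul_induction_on h1 ?_ ?_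
    · intro c hc ω _
      rw [map_smul]
      exact Ideal.Cotangent.smul_eq_zero_of_mem hc _
    · intro x y hx hy
      rw [map_add, hx, hy, add_zero]
  have hz' : algebraMap B₂ B₁ z ∈ RingHom.ker σ₁ := hle hz
  rw [Derivation.liftKaehlerDifferential_comp_D, augDer_of_mem σ₁ hz'] at h2
  have h3 : (RingHom.ker σ₁).toCotangent ⟨algebraMap B₂ B₁ z, hz'⟩ =
      Ideal.mapCotangent (RingHom.ker σ₂) (RingHom.ker σ₁) (IsScalarTower.toAlgHom A B₂ B₁) hle
        ((RingHom.ker σ₂).toCotangent ⟨z, hz⟩) := by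
    rw [Ideal.mapCotangent_toCotangent]; rfl
  rw [h3] at h2
  have h4 := hcot (h2.trans (map_zero _).symm)
  rw [Ideal.toCotangent_eq_zero] at h4
  have h5 := one_tmul_D_mem σ₁ σ₂ hle h4
  have : m = (m - (1 : B₁) ⊗ₜ[B₂] D A B₂ z) + (1 : B₁) ⊗ₜ[B₂] D A B₂ z := by abel
  rw [this]
  exact add_mem hmz h5

end Main

theorem isEtaleAt_of_bijective_mapCotangent (A B₁ B₂ : Type u)
    [CommRing A] [CommRing B₁] [CommRing B₂] [Algebra A B₁] [Algebra A B₂] [Algebra B₂ B₁]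
    [IsScalarTower A B₂ B₁] [Algebra.FinitePresentation A B₁] [Algebra.FiniteType A B₂]
    (σ₁ : B₁ →ₐ[A] A) (σ₂ : B₂ →ₐ[A] A) (hσ : σ₁.comp (IsScalarTower.toAlgHom A B₂ B₁) = σ₂)
    (hle : RingHom.ker σ₂ ≤ (RingHom.ker σ₁).comap (IsScalarTower.toAlgHom A B₂ B₁))
    (hcot : Function.Bijective
      (Ideal.mapCotangent (RingHom.ker σ₂) (RingHom.ker σ₁) (IsScalarTower.toAlgHom A B₂ B₁) hle))
    (hsm : ∀ (P : Ideal B₁) [P.IsPrime], RingHom.ker σ₁ ≤ P → Algebra.IsSmoothAt A P)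
    (P : Ideal B₁) [P.IsPrime] (hP : RingHom.ker σ₁ ≤ P) : Algebra.IsEtaleAt B₂ P := by
  have hft : Algebra.FiniteType B₂ B₁ := Algebra.FiniteType.of_restrictScalars_finiteType A B₂ B₁
  -- smoothness at P
  have hsmP : (⟨P, inferInstance⟩ : PrimeSpectrum B₁) ∈ Algebra.smoothLocus A B₁ := hsm P hP
  rw [Algebra.smoothLocus_eq_compl_support_inter] at hsmP
  obtain ⟨hH1, hfree⟩ := hsmP
  rw [Set.mem_compl_iff, Module.notMem_support_iff'] at hH1
  rw [Module.mem_freeLocus] at hfree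
  -- the goal
  change (⟨P, inferInstance⟩ : PrimeSpectrum B₁) ∈ Algebra.etaleLocus B₂ B₁
  rw [Algebra.etaleLocus_eq_compl_support]
  -- cokernel
  have hC : ∀ x : Ω[B₁⁄B₂], ∃ r ∉ P, r • x = 0 := fun x =>
    LocKer.exists_smul_eq_zero_of_le_smul (RingHom.ker σ₁)
      (kaehler_le_smul_top σ₁ σ₂ hle hcot.2) P hP x
  have hcoker : ∀ x : Ω[B₁⁄A], ∃ r ∉ P, r • x ∈
      LinearMap.range (KaehlerDifferential.mapBaseChange A B₂ B₁) := by
    intro x
    obtain ⟨r, hr, hrx⟩ := hC (KaehlerDifferential.map A B₂ B₁ B₁ x)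
    refine ⟨r, hr, ?_⟩
    rw [← map_smul] at hrx
    exact (KaehlerDifferential.exact_mapBaseChange_map A B₂ B₁ _).mp hrx
  have hK : ∀ m ∈ LinearMap.ker (KaehlerDifferential.mapBaseChange A B₂ B₁), ∃ r ∉ P, r • m = 0 := by
    intro m hm
    exact LocKer.exists_smul_eq_zero_of_mem_ker (KaehlerDifferential.mapBaseChange A B₂ B₁) P
      (RingHom.ker σ₁) hP hcoker (ker_mapBaseChange_le σ₁ σ₂ hσ hle hcot.1) hm
  refine ⟨?_, ?_⟩
  · rw [Set.mem_compl_iff, Module.notMem_support_iff']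
    exact hC
  · rw [Set.mem_compl_iff, Module.notMem_support_iff']
    intro x
    have h1 : Algebra.H1Cotangent.δ A B₂ B₁ x ∈
        LinearMap.ker (KaehlerDifferential.mapBaseChange A B₂ B₁) := by
      rw [LinearMap.mem_ker]
      exact (Algebra.H1Cotangent.exact_δ_mapBaseChange A B₂ B₁ _).mpr ⟨x, rfl⟩
    obtain ⟨r, hr, hrx⟩ := hK _ h1
    rw [← map_smul] at hrx
    obtain ⟨y, hy⟩ := (Algebra.H1Cotangent.exact_map_δ A B₂ B₁ _).mp hrx
    obtain ⟨r', hr', hr'y⟩ := hH1 y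
    refine ⟨r' * r, ?_, ?_⟩
    · exact fun h => (Ideal.IsPrime.mem_or_mem inferInstance h).elim hr' hr
    · rw [mul_smul, ← hy, ← map_smul, hr'y, map_zero]

end Groth.Agent.Lib.Helper19.EtaleSec
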