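import Groth.Prelude.Def_Exal2
import Mathlib

/-!
# A uniform Artin–Rees bound for extensions of a Noetherian local ring by modules killed by the
maximal ideal
-/

set_option autoImplicit false
set_option linter.unusedSectionVars false
universe u v

open IsLocalRing

namespace Groth.Agent.Lib.Helper19.ExalAR

variable {A : Type u} {R : Type v} [CommRing A] [CommRing R] [Algebra A R]

section basic

variable {L : Type v} [AddCommGroup L] [Module R L] (X : Exal.Ext A R L)
  (m : Ideal R) (hL : ∀ b ∈ m, ∀ z : L, b • z = 0)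

include hL in
lemma mul_eq_zero_of_proj (x k : X.E) (hx : X.proj x ∈ m) (hk : X.proj k = 0) : x * k = 0 := by
  obtain ⟨z, rfl⟩ := (X.isExtension.exact k).1 hk
  rw [X.isExtension.mul_incl, hL _ hx, map_zero]

lemma map_comap_proj (I : Ideal R) : Ideal.map X.proj (Ideal.comap X.proj I) = I :=
  Ideal.map_comap_of_surjective X.proj X.isExtension.proj_surjective I

lemma map_comap_proj_pow (I : Ideal R) (n : ℕ) :
    Ideal.map X.proj ((Ideal.comap X.proj I) ^ n) = I ^ n := by
  rw [Ideal.map_pow, map_comap_proj]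

end basic

/-- **Uniform Artin–Rees.** -/
theorem exists_uniform (A : Type u) (R : Type v) [CommRing A] [CommRing R] [Algebra A R]
    [IsLocalRing R] [IsNoetherianRing R] :
    ∃ c : ℕ, ∀ n, c ≤ n → ∀ (L : Type v) [AddCommGroup L] [Module R L],
      (∀ b ∈ maximalIdeal R, ∀ z : L, b • z = 0) → ∀ (X : Exal.Ext A R L) (x : X.E),
        x ∈ (Ideal.comap X.proj (maximalIdeal R)) ^ (n + 1) → X.proj x = 0 → x = 0 := by
  classical
  obtain ⟨s, y, hy0⟩ := Submodule.fg_iff_exists_fin_generating_family.mp
    (IsNoetherian.noetherian (maximalIdeal R))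
  have hy : Ideal.span (Set.range y) = maximalIdeal R := hy0
  let φ : (Fin s → R) →ₗ[R] R := Fintype.linearCombination R y
  have hφ : ∀ r : Fin s → R, φ r = ∑ i, r i * y i := fun r => by
    simp [φ, Fintype.linearCombination_apply]
  obtain ⟨c, hc⟩ := Ideal.exists_pow_inf_eq_pow_smul (maximalIdeal R) (LinearMap.ker φ)
  refine ⟨c + 1, fun n hn L _ _ hL X x hx hpx => ?_⟩
  set mE : Ideal X.E := Ideal.comap X.proj (maximalIdeal R) with hmE
  -- lifts of the generators
  have hlift : ∀ r : R, ∃ e : X.E, X.proj e = r := X.isExtension.proj_surjective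
  choose σ hσ using hlift
  have hyE : ∀ i, σ (y i) ∈ mE := fun i => by
    show X.proj (σ (y i)) ∈ maximalIdeal R
    rw [hσ, ← hy]
    exact Submodule.subset_span ⟨i, rfl⟩
  have hK : ∀ (e k : X.E), e ∈ mE → X.proj k = 0 → e * k = 0 := fun e k he hk =>
    mul_eq_zero_of_proj X (maximalIdeal R) hL e k he hk
  -- the key property on `m • Z`
  have key : ∀ r ∈ maximalIdeal R • LinearMap.ker φ, ∀ a : Fin s → X.E,
      (∀ i, X.proj (a i) = r i) → ∑ i, a i * σ (y i) = 0 := by
    intro r hr
    refine Submodule.smul_induction_on (p := fun r => ∀ a : Fin s → X.E,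
      (∀ i, X.proj (a i) = r i) → ∑ i, a i * σ (y i) = 0) hr ?_ ?_
    · intro b hb z hz a ha
      have h1 : ∑ i, a i * σ (y i) =
          ∑ i, (a i - σ b * σ (z i)) * σ (y i) + σ b * ∑ i, σ (z i) * σ (y i) := by
        rw [Finset.mul_sum, ← Finset.sum_add_distrib]
        refine Finset.sum_congr rfl fun i _ => ?_
        ring
      rw [h1]
      have h2 : ∀ i, (a i - σ b * σ (z i)) * σ (y i) = 0 := fun i => by
        rw [mul_comm]
        refine hK _ _ (hyE i) ?_
        rw [map_sub, map_mul, hσ, hσ, ha]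
        show b • z i - b * z i = 0
        rw [smul_eq_mul, sub_self]
      have h3 : σ b * ∑ i, σ (z i) * σ (y i) = 0 := by
        refine hK _ _ ?_ ?_
        · show X.proj (σ b) ∈ maximalIdeal R
          rw [hσ]; exact hb
        · rw [map_sum]
          have : φ z = 0 := hz
          rw [hφ] at this
          rw [← this]
          refine Finset.sum_congr rfl fun i _ => ?_
          rw [map_mul, hσ, hσ]
      rw [Finset.sum_eq_zero (fun i _ => h2 i), h3, add_zero]
    · intro r₁ r₂ h₁ h₂ a ha
      have e1 := h₁ (fun i => σ (r₁ i)) (fun i => hσ _)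
      have e2 := h₂ (fun i => a i - σ (r₁ i)) (fun i => by
        rw [map_sub, hσ, ha]
        show r₁ i + r₂ i - r₁ i = r₂ i
        ring)
      have : ∑ i, a i * σ (y i) =
          ∑ i, σ (r₁ i) * σ (y i) + ∑ i, (a i - σ (r₁ i)) * σ (y i) := by
        rw [← Finset.sum_add_distrib]
        refine Finset.sum_congr rfl fun i _ => ?_
        ring
      rw [this, e1, e2, add_zero]
  -- decompose `x`
  have hn1 : n ≠ 0 := by omega
  have hmEle : mE ≤ Ideal.span (Set.range fun i => σ (y i)) ⊔ RingHom.ker X.proj := by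
    intro e he
    have he' : X.proj e ∈ Ideal.span (Set.range y) := by rw [hy]; exact he
    obtain ⟨t, ht⟩ := (Ideal.mem_span_range_iff_exists_fun).mp he'
    have : e = ∑ i, σ (t i) * σ (y i) + (e - ∑ i, σ (t i) * σ (y i)) := by ring
    rw [this]
    refine Submodule.add_mem_sup ?_ ?_
    · refine Ideal.sum_mem _ fun i _ => Ideal.mul_mem_left _ _ (Ideal.subset_span ⟨i, rfl⟩)
    · rw [RingHom.mem_ker, map_sub, map_sum, ← ht, sub_eq_zero]
      refine Finset.sum_congr rfl fun i _ => ?_
      rw [map_mul, hσ, hσ]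
  have hx' : x ∈ mE ^ n • Submodule.span X.E (Set.range fun i => σ (y i)) := by
    have h1 : mE ^ (n + 1) ≤ mE ^ n * (Ideal.span (Set.range fun i => σ (y i)) ⊔
        RingHom.ker X.proj) := by
      rw [pow_succ]
      exact Ideal.mul_mono_right hmEle
    have h2 := h1 hx
    rw [Ideal.mul_sup] at h2
    have h3 : mE ^ n * RingHom.ker X.proj = ⊥ := by
      rw [eq_bot_iff, Ideal.mul_le]
      intro e he k hk
      rw [Ideal.mem_bot]
      exact hK e k (Ideal.pow_le_self hn1 he) hk
    rw [h3, sup_bot_eq] at h2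
    exact h2
  obtain ⟨a, ha, hax⟩ := (Submodule.mem_ideal_smul_span_iff_exists_sum (mE ^ n)
    (fun i => σ (y i)) x).mp hx'
  have hsum : ∑ i, a i * σ (y i) = x := by
    rw [← hax, Finsupp.sum_fintype _ _ (fun i => by rw [zero_smul])]
    rfl
  rw [← hsum]
  refine key (fun i => X.proj (a i)) ?_ (fun i => a i) (fun i => rfl)
  -- the projected coefficients lie in `m • Z`
  have hrm : ∀ i, X.proj (a i) ∈ maximalIdeal R ^ n := fun i => by
    rw [← map_comap_proj_pow X (maximalIdeal R) n]
    exact Ideal.mem_map_of_mem _ (ha i)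
  have hr1 : (fun i => X.proj (a i)) ∈ maximalIdeal R ^ n • (⊤ : Submodule R (Fin s → R)) := by
    have : (fun i => X.proj (a i)) = ∑ i, X.proj (a i) • (Pi.single i (1 : R) : Fin s → R) := by
      funext j
      rw [Finset.sum_apply]
      simp [Pi.single_apply]
    rw [this]
    exact Submodule.sum_mem _ fun i _ => Submodule.smul_mem_smul (hrm i) Submodule.mem_top
  have hr2 : (fun i => X.proj (a i)) ∈ LinearMap.ker φ := by
    rw [LinearMap.mem_ker, hφ]
    have : X.proj (∑ i, a i * σ (y i)) = 0 := by rw [hsum]; exact hpx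
    rw [map_sum] at this
    rw [← this]
    refine Finset.sum_congr rfl fun i _ => ?_
    rw [map_mul, hσ]
  have hr3 : (fun i => X.proj (a i)) ∈
      maximalIdeal R ^ n • (⊤ : Submodule R (Fin s → R)) ⊓ LinearMap.ker φ := ⟨hr1, hr2⟩
  rw [hc n (by omega)] at hr3
  refine Submodule.smul_mono (Ideal.pow_le_self (by omega)) inf_le_right hr3

end Groth.Agent.Lib.Helper19.ExalAR
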