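import Groth.Prelude.Def_Exal2
import Groth.Agent.Lib.Helper19ExalAR
import Groth.Agent.Lib.Helper7ExalBaer
import Mathlib

/-!
# Extensions of a local Noetherian ring and of a "completion-like" overring

`R → R'` a local map of local rings such that `R` is dense in `R'` for the adic topology and the
adic topology of `R` is induced (as for `R' = R̂`).  For a module `L` killed by the maximal ideal
of `R'`, inverse image `Exal(R', L) → Exal(R, L)` is bijective on classes.
-/

set_option autoImplicit false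
set_option linter.unusedSectionVars false
universe u v

open IsLocalRing

namespace Groth.Agent.Lib.Helper19.ExalCompl

open Groth.Agent.Lib.Helper7.ExalLib Groth.Agent.Lib.Helper19.ExalAR

variable {A : Type u} {R R' : Type v} [CommRing A] [CommRing R] [CommRing R'] [Algebra A R]
  [Algebra A R'] [Algebra R R'] [IsScalarTower A R R'] [IsLocalRing R] [IsLocalRing R']
  (hloc : ∀ r ∈ maximalIdeal R, algebraMap R R' r ∈ maximalIdeal R')
  (hdense : ∀ (n : ℕ) (x : R'), ∃ r : R, x - algebraMap R R' r ∈ maximalIdeal R' ^ n)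
  (hcomap : ∀ (n : ℕ) (r : R), algebraMap R R' r ∈ maximalIdeal R' ^ n → r ∈ maximalIdeal R ^ n)
  {L : Type v} [AddCommGroup L] [Module R' L] [Module R L] [IsScalarTower R R' L]
  (hL' : ∀ b ∈ maximalIdeal R', ∀ z : L, b • z = 0)

section Inj

variable [IsNoetherianRing R']

include hloc hdense hcomap hL' in
theorem isTrivial_of_pullback_isTrivial (D : Exal.Ext A R' L) (h : (D.pullback R).IsTrivial) :
    D.IsTrivial := by
  obtain ⟨s, hs⟩ := h
  let t : R →ₐ[A] D.E := (AlgHom.fst A D.E R).comp ((pbVal R D).comp s)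
  have ht : ∀ r, D.proj (t r) = algebraMap R R' r := fun r => by
    have h1 := pbVal_mem R D (s r)
    have h2 : (pbVal R D (s r)).2 = r := hs r
    rw [h2] at h1
    exact h1
  obtain ⟨c, hc⟩ := exists_uniform A R'
  set mD : Ideal D.E := Ideal.comap D.proj (maximalIdeal R') with hmD
  have hmap : Ideal.map D.proj (mD ^ (c + 1)) = maximalIdeal R' ^ (c + 1) :=
    map_comap_proj_pow D _ _
  have htm : ∀ r ∈ maximalIdeal R ^ (c + 1), t r ∈ mD ^ (c + 1) := by
    intro r hr
    have h1 : Ideal.map t (maximalIdeal R) ≤ mD := by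
      rw [Ideal.map_le_iff_le_comap]
      intro r hr
      show D.proj (t r) ∈ maximalIdeal R'
      rw [ht]; exact hloc r hr
    have h2 : Ideal.map t (maximalIdeal R ^ (c + 1)) ≤ mD ^ (c + 1) := by
      rw [Ideal.map_pow]; exact Ideal.pow_right_mono h1 _
    exact h2 (Ideal.mem_map_of_mem _ hr)
  let T : Subalgebra A D.E :=
    { carrier := {e | ∃ r : R, e - t r ∈ mD ^ (c + 1)}
      mul_mem' := by
        rintro e e' ⟨r, hr⟩ ⟨r', hr'⟩
        refine ⟨r * r', ?_⟩
        have : e * e' - t (r * r') = e * (e' - t r') + t r' * (e - t r) := by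
          rw [map_mul]; ring
        rw [this]
        exact Ideal.add_mem _ (Ideal.mul_mem_left _ _ hr') (Ideal.mul_mem_left _ _ hr)
      add_mem' := by
        rintro e e' ⟨r, hr⟩ ⟨r', hr'⟩
        refine ⟨r + r', ?_⟩
        have : e + e' - t (r + r') = (e - t r) + (e' - t r') := by
          rw [map_add]; ring
        rw [this]
        exact Ideal.add_mem _ hr hr'
      algebraMap_mem' := fun a => ⟨algebraMap A R a, by
        rw [AlgHom.commutes, sub_self]; exact Ideal.zero_mem _⟩ }
  have hT : ∀ e : D.E, e ∈ T ↔ ∃ r : R, e - t r ∈ mD ^ (c + 1) := fun e => Iff.rfl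
  let projT : T →ₐ[A] R' := D.proj.comp T.val
  have hinj : Function.Injective projT := by
    rw [injective_iff_map_eq_zero]
    rintro ⟨e, he⟩ h0
    have h0' : D.proj e = 0 := h0
    obtain ⟨r, hr⟩ := (hT e).1 he
    have h1 : D.proj (e - t r) ∈ maximalIdeal R' ^ (c + 1) := by
      rw [← hmap]; exact Ideal.mem_map_of_mem _ hr
    rw [map_sub, h0', zero_sub, ht, neg_mem_iff] at h1
    have h2 := htm r (hcomap _ r h1)
    have h3 : e ∈ mD ^ (c + 1) := by
      have : e = (e - t r) + t r := by ring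
      rw [this]; exact Ideal.add_mem _ hr h2
    have h4 := hc c le_rfl L hL' D e h3 h0'
    exact Subtype.ext h4
  have hsurj : Function.Surjective projT := by
    intro x
    obtain ⟨r, hr⟩ := hdense (c + 1) x
    rw [← hmap] at hr
    obtain ⟨j, hj, hjx⟩ := (Ideal.mem_map_iff_of_surjective D.proj
      D.isExtension.proj_surjective).1 hr
    refine ⟨⟨t r + j, (hT _).2 ⟨r, by rw [add_sub_cancel_left]; exact hj⟩⟩, ?_⟩
    show D.proj (t r + j) = x
    rw [map_add, ht, hjx]; ring
  let eT : T ≃ₐ[A] R' := AlgEquiv.ofBijective projT ⟨hinj, hsurj⟩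
  refine ⟨T.val.comp (eT.symm : R' →ₐ[A] T), fun b => ?_⟩
  have : projT (eT.symm b) = b := eT.apply_symm_apply b
  exact this

include hloc hdense hcomap hL' in
theorem equiv_of_pullback_equiv (X X' : Exal.Ext A R' L)
    (h : Nonempty ((X.pullback R).Equiv (X'.pullback R))) : Nonempty (X.Equiv X') := by
  obtain ⟨θ⟩ := h
  exact equiv_of_diff_isTrivial X X'
    (isTrivial_of_pullback_isTrivial hloc hdense hcomap hL' _ (diff_pullback_isTrivial R X X' θ))

end Inj

section Surj

variable (R') (Y : Exal.Ext A R L) (n : ℕ)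

/-- pairs `(e, x)` with `proj e ≡ x` modulo `m'^n` -/
def pairs : Subalgebra A (Y.E × R') :=
  AlgHom.equalizer
    (((Ideal.Quotient.mkₐ A (maximalIdeal R' ^ n)).comp (IsScalarTower.toAlgHom A R R')).comp
      (Y.proj.comp (AlgHom.fst A Y.E R')))
    ((Ideal.Quotient.mkₐ A (maximalIdeal R' ^ n)).comp (AlgHom.snd A Y.E R'))

lemma mem_pairs (p : Y.E × R') :
    p ∈ pairs R' Y n ↔ algebraMap R R' (Y.proj p.1) - p.2 ∈ maximalIdeal R' ^ n := by
  change p ∈ AlgHom.equalizer _ _ ↔ _
  rw [AlgHom.mem_equalizer]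
  change Ideal.Quotient.mk _ (algebraMap R R' (Y.proj p.1)) = Ideal.Quotient.mk _ p.2 ↔ _
  rw [Ideal.Quotient.eq]

/-- first coordinate -/
def pFst : pairs R' Y n →ₐ[A] Y.E := (AlgHom.fst A Y.E R').comp (pairs R' Y n).val

/-- second coordinate -/
def pSnd : pairs R' Y n →ₐ[A] R' := (AlgHom.snd A Y.E R').comp (pairs R' Y n).val

lemma pFst_apply (p : pairs R' Y n) : pFst R' Y n p = (p : Y.E × R').1 := rfl
lemma pSnd_apply (p : pairs R' Y n) : pSnd R' Y n p = (p : Y.E × R').2 := rfl

lemma pairs_prop (p : pairs R' Y n) :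
    algebraMap R R' (Y.proj (pFst R' Y n p)) - pSnd R' Y n p ∈ maximalIdeal R' ^ n :=
  (mem_pairs R' Y n _).1 p.2

/-- the ideal `{(i, 0) | i ∈ (p⁻¹ m)^n}` -/
def killIdeal : Ideal (pairs R' Y n) :=
  Ideal.comap (pFst R' Y n) ((Ideal.comap Y.proj (maximalIdeal R)) ^ n) ⊓
    Ideal.comap (pSnd R' Y n) ⊥

lemma mem_killIdeal (p : pairs R' Y n) :
    p ∈ killIdeal R' Y n ↔ pFst R' Y n p ∈ (Ideal.comap Y.proj (maximalIdeal R)) ^ n ∧
      pSnd R' Y n p = 0 := by
  unfold killIdeal
  rw [Ideal.mem_inf, Ideal.mem_comap, Ideal.mem_comap, Ideal.mem_bot]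

/-- the middle ring -/
def Mid : Type v := pairs R' Y n ⧸ killIdeal R' Y n

noncomputable instance : CommRing (Mid R' Y n) :=
  inferInstanceAs (CommRing (pairs R' Y n ⧸ killIdeal R' Y n))

noncomputable instance : Algebra A (Mid R' Y n) :=
  inferInstanceAs (Algebra A (pairs R' Y n ⧸ killIdeal R' Y n))

/-- the quotient map -/
noncomputable def mkMid : pairs R' Y n →ₐ[A] Mid R' Y n :=
  Ideal.Quotient.mkₐ A (killIdeal R' Y n)

lemma mkMid_surjective : Function.Surjective (mkMid R' Y n) :=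
  Ideal.Quotient.mk_surjective

lemma mkMid_eq_zero_iff (p : pairs R' Y n) : mkMid R' Y n p = 0 ↔ p ∈ killIdeal R' Y n :=
  Ideal.Quotient.eq_zero_iff_mem

lemma mkMid_eq_iff (p q : pairs R' Y n) :
    mkMid R' Y n p = mkMid R' Y n q ↔ p - q ∈ killIdeal R' Y n :=
  Ideal.Quotient.eq

/-- the projection -/
noncomputable def prj : Mid R' Y n →ₐ[A] R' :=
  Ideal.Quotient.liftₐ (killIdeal R' Y n) (pSnd R' Y n)
    (fun p hp => ((mem_killIdeal R' Y n p).1 hp).2)

lemma prj_mk (p : pairs R' Y n) : prj R' Y n (mkMid R' Y n p) = pSnd R' Y n p := rfl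

/-- `(incl z, 0)` -/
def inc0 (z : L) : pairs R' Y n :=
  ⟨(Y.incl z, 0), by
    rw [mem_pairs]
    show algebraMap R R' (Y.proj (Y.incl z)) - 0 ∈ _
    rw [proj_incl, map_zero, sub_zero]
    exact Ideal.zero_mem _⟩

/-- the inclusion -/
noncomputable def inc : L →+ Mid R' Y n where
  toFun z := mkMid R' Y n (inc0 R' Y n z)
  map_zero' := by
    have : inc0 R' Y n 0 = 0 := by
      apply Subtype.ext
      show (Y.incl 0, (0 : R')) = 0
      rw [map_zero]; rfl
    rw [this, map_zero]
  map_add' z z' := by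
    have : inc0 R' Y n (z + z') = inc0 R' Y n z + inc0 R' Y n z' := by
      apply Subtype.ext
      show (Y.incl (z + z'), (0 : R')) = (Y.incl z, (0 : R')) + (Y.incl z', (0 : R'))
      rw [map_add, Prod.mk_add_mk, add_zero]
    rw [this, map_add]

lemma inc_apply (z : L) : inc R' Y n z = mkMid R' Y n (inc0 R' Y n z) := rfl

include hdense hcomap hL' in
theorem isExtension
    (hn : ∀ x : Y.E, x ∈ (Ideal.comap Y.proj (maximalIdeal R)) ^ n → Y.proj x = 0 → x = 0)
    (hn0 : n ≠ 0) : Exal.IsExtension (prj R' Y n) (inc R' Y n) where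
  proj_surjective := by
    intro x
    obtain ⟨r, hr⟩ := hdense n x
    obtain ⟨e, he⟩ := Y.isExtension.proj_surjective r
    refine ⟨mkMid R' Y n ⟨(e, x), ?_⟩, rfl⟩
    rw [mem_pairs]
    show algebraMap R R' (Y.proj e) - x ∈ _
    rw [he, ← neg_sub]
    exact neg_mem hr
  incl_injective := by
    rw [injective_iff_map_eq_zero]
    intro z hz
    rw [inc_apply, mkMid_eq_zero_iff, mem_killIdeal] at hz
    have h1 : Y.incl z = 0 := hn _ hz.1 (proj_incl Y z)
    exact Y.isExtension.incl_injective (h1.trans (map_zero _).symm)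
  exact := by
    intro ξ
    obtain ⟨p, rfl⟩ := mkMid_surjective R' Y n ξ
    constructor
    · intro h0
      have h0' : pSnd R' Y n p = 0 := h0
      have h1 := pairs_prop R' Y n p
      rw [h0', sub_zero] at h1
      have h2 := hcomap n _ h1
      rw [← map_comap_proj_pow Y (maximalIdeal R) n] at h2
      obtain ⟨i, hi, hip⟩ := (Ideal.mem_map_iff_of_surjective Y.proj
        Y.isExtension.proj_surjective).1 h2
      have h3 : Y.proj (pFst R' Y n p - i) = 0 := by rw [map_sub, hip, sub_self]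
      obtain ⟨z, hz⟩ := (Y.isExtension.exact _).1 h3
      refine ⟨z, ?_⟩
      rw [inc_apply, mkMid_eq_iff, mem_killIdeal]
      constructor
      · rw [map_sub]
        have : pFst R' Y n (inc0 R' Y n z) = Y.incl z := rfl
        rw [this, hz, ← neg_sub, sub_sub_cancel]
        exact neg_mem hi
      · rw [map_sub, h0']
        show (0 : R') - 0 = 0
        rw [sub_zero]
    · rintro ⟨z, hz⟩
      rw [← hz]
      rfl
  mul_incl := by
    intro ξ z
    obtain ⟨p, rfl⟩ := mkMid_surjective R' Y n ξ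
    rw [inc_apply, inc_apply, ← map_mul, prj_mk]
    congr 1
    apply Subtype.ext
    have hle : maximalIdeal R' ^ n ≤ maximalIdeal R' := Ideal.pow_le_self hn0
    have h1 := hL' _ (hle (pairs_prop R' Y n p)) z
    rw [sub_smul, sub_eq_zero, algebraMap_smul] at h1
    apply Prod.ext
    · show pFst R' Y n p * Y.incl z = Y.incl (pSnd R' Y n p • z)
      rw [Y.isExtension.mul_incl, h1]
    · show pSnd R' Y n p * 0 = 0
      rw [mul_zero]

variable [IsNoetherianRing R]

include hloc hdense hcomap hL' in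
theorem exists_ext_pullback_equiv : ∃ X : Exal.Ext A R' L, Nonempty ((X.pullback R).Equiv Y) := by
  obtain ⟨c, hc⟩ := exists_uniform A R
  have hL : ∀ b ∈ maximalIdeal R, ∀ z : L, b • z = 0 := fun b hb z => by
    rw [← algebraMap_smul R' b z]
    exact hL' _ (hloc b hb) z
  let X : Exal.Ext A R' L :=
    { E := Mid R' Y (c + 1)
      proj := prj R' Y (c + 1)
      incl := inc R' Y (c + 1)
      isExtension := isExtension R' hdense hcomap hL' Y (c + 1)
        (fun x hx hpx => hc c le_rfl L hL Y x hx hpx) (Nat.succ_ne_zero c) }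
  let g : Y.E →ₐ[A] pairs R' Y (c + 1) :=
    AlgHom.codRestrict (AlgHom.prod (AlgHom.id A Y.E) ((IsScalarTower.toAlgHom A R R').comp Y.proj))
      (pairs R' Y (c + 1)) (fun e => (mem_pairs R' Y (c + 1) _).2 (by
        show algebraMap R R' (Y.proj e) - algebraMap R R' (Y.proj e) ∈ _
        rw [sub_self]; exact Ideal.zero_mem _))
  let g' : Y.E →ₐ[A] X.E := (mkMid R' Y (c + 1)).comp g
  let f : Y.E →ₐ[A] (X.pullback R).E :=
    AlgHom.codRestrict (AlgHom.prod g' Y.proj) (X.fiberProd R)
      (fun e => (mem_fiberProd R X _).2 rfl)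
  refine ⟨X, ⟨(equivOfHom f (fun e => rfl) (fun z => ?_)).symm⟩⟩
  apply Subtype.ext
  apply Prod.ext
  · show g' (Y.incl z) = X.incl z
    show mkMid R' Y (c + 1) (g (Y.incl z)) = mkMid R' Y (c + 1) (inc0 R' Y (c + 1) z)
    congr 1
    apply Subtype.ext
    show (Y.incl z, algebraMap R R' (Y.proj (Y.incl z))) = (Y.incl z, (0 : R'))
    rw [proj_incl, map_zero]
  · show Y.proj (Y.incl z) = 0
    exact proj_incl Y z

end Surj

end Groth.Agent.Lib.Helper19.ExalCompl
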