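import Groth.Agent.Lib.Helper19ExalT1A

/-!
# Every extension is the one attached to a lift of the cover
-/

set_option autoImplicit false
set_option linter.unusedSectionVars false
set_option linter.style.haveILetI false
universe u v

open Exal

namespace Groth.Agent.Lib.Helper19.ExalT1

attribute [local instance] Exal.opModule Exal.isCentralScalar_opModule

section compare

variable {A : Type u} {R B M : Type v} [CommRing A] [CommRing R] [CommRing B] [Algebra A R]
  [Algebra A B] [Algebra R B] [IsScalarTower A R B] [AddCommGroup M] [Module B M] [Module R M]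
  [IsScalarTower R B M]
variable (hsurj : Function.Surjective (algebraMap R B))
variable (X : Ext A B M) (g : R →ₐ[A] X.E) (hg : ∀ r, X.proj (g r) = algebraMap R B r)

include hg in
lemma proj_g_mem (i : RingHom.ker (algebraMap R B)) : X.proj (g i) = 0 := by
  rw [hg]; exact i.2

lemma incl_mul_incl (m m' : M) : X.incl m * X.incl m' = 0 := by
  rw [X.isExtension.mul_incl, (X.isExtension.exact _).2 ⟨m, rfl⟩, zero_smul, map_zero]

lemma proj_incl (m : M) : X.proj (X.incl m) = 0 := (X.isExtension.exact _).2 ⟨m, rfl⟩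

include hg in
lemma g_mul_incl (r : R) (m : M) : g r * X.incl m = X.incl (r • m) := by
  rw [X.isExtension.mul_incl, hg, algebraMap_smul]

/-- the linear map `I → M` induced by the lift -/
noncomputable def wOf : RingHom.ker (algebraMap R B) →ₗ[R] M where
  toFun i := X.kerLift (g i) (proj_g_mem X g hg i)
  map_add' i i' := X.isExtension.incl_injective (by
    rw [map_add, X.incl_kerLift, X.incl_kerLift, X.incl_kerLift]
    push_cast
    rw [map_add])
  map_smul' r i := X.isExtension.incl_injective (by
    rw [RingHom.id_apply, ← g_mul_incl X g hg, X.incl_kerLift, X.incl_kerLift]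
    push_cast
    rw [smul_eq_mul, map_mul])

lemma incl_wOf (i : RingHom.ker (algebraMap R B)) : X.incl (wOf X g hg i) = g i :=
  X.incl_kerLift (g i) (proj_g_mem X g hg i)

/-- the canonical surjection `R ⊕ M → E` -/
noncomputable def Psi : TrivSqZeroExt R M →+* X.E where
  toFun t := g t.fst + X.incl t.snd
  map_one' := by simp
  map_zero' := by simp
  map_add' s t := by
    simp only [TrivSqZeroExt.fst_add, TrivSqZeroExt.snd_add, map_add]
    abel
  map_mul' s t := by
    simp only [TrivSqZeroExt.fst_mul, TrivSqZeroExt.snd_mul, map_mul, map_add, op_smul_eq_smul]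
    rw [add_mul, mul_add, mul_add, incl_mul_incl, add_zero, g_mul_incl X g hg,
      mul_comm (X.incl s.snd) (g t.fst), g_mul_incl X g hg]
    abel

lemma Psi_apply (t : TrivSqZeroExt R M) : Psi X g hg t = g t.fst + X.incl t.snd := rfl

include hsurj in
lemma Psi_surjective : Function.Surjective (Psi X g hg) := by
  intro e
  obtain ⟨r, hr⟩ := hsurj (X.proj e)
  have h0 : X.proj (e - g r) = 0 := by rw [map_sub, hg, hr, sub_self]
  obtain ⟨m, hm⟩ := (X.isExtension.exact _).1 h0
  refine ⟨TrivSqZeroExt.inl r + TrivSqZeroExt.inr m, ?_⟩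
  rw [Psi_apply]
  simp only [TrivSqZeroExt.fst_add, TrivSqZeroExt.fst_inl, TrivSqZeroExt.fst_inr, add_zero,
    TrivSqZeroExt.snd_add, TrivSqZeroExt.snd_inl, TrivSqZeroExt.snd_inr, zero_add]
  rw [hm]; ring

lemma Psi_eq_zero_iff (t : TrivSqZeroExt R M) :
    Psi X g hg t = 0 ↔ t ∈ graphIdeal (wOf X g hg) := by
  rw [Psi_apply, mem_graphIdeal]
  constructor
  · intro h
    have h1 : X.proj (g t.fst + X.incl t.snd) = 0 := by rw [h, map_zero]
    rw [map_add, proj_incl, add_zero, hg] at h1
    refine ⟨h1, ?_⟩
    apply X.isExtension.incl_injective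
    rw [incl_wOf, map_neg]
    exact eq_neg_of_add_eq_zero_left h
  · rintro ⟨h, h2⟩
    have := incl_wOf X g hg ⟨t.fst, h⟩
    rw [h2, map_neg] at this
    push_cast at this
    rw [← this]; simp

/-- the comparison isomorphism -/
noncomputable def compEquiv : (ext (A := A) hsurj (wOf X g hg)).Equiv X := by
  let θ₀ : E (wOf X g hg) →+* X.E :=
    liftE (wOf X g hg) (Psi X g hg) (fun t ht => (Psi_eq_zero_iff X g hg t).mpr ht)
  have hθ : ∀ t, θ₀ (mkE _ t) = Psi X g hg t := fun t => rfl
  have hbij : Function.Bijective θ₀ := by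
    constructor
    · rw [injective_iff_map_eq_zero]
      intro x hx
      obtain ⟨t, rfl⟩ := mkE_surjective _ x
      rw [hθ, Psi_eq_zero_iff] at hx
      exact (mkE_eq_zero_iff _ t).mpr hx
    · intro e
      obtain ⟨t, rfl⟩ := Psi_surjective hsurj X g hg e
      exact ⟨mkE _ t, hθ t⟩
  let θ : (ext (A := A) hsurj (wOf X g hg)).E ≃ₐ[A] X.E :=
    { RingEquiv.ofBijective θ₀ hbij with
      commutes' := fun a => by
        show θ₀ (mkE _ (TrivSqZeroExt.inl (algebraMap A R a))) = _
        rw [hθ, Psi_apply]
        simp }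
  refine ⟨θ, ?_, ?_⟩
  · intro x
    obtain ⟨t, rfl⟩ := mkE_surjective _ x
    show X.proj (θ₀ (mkE _ t)) = algebraMap R B t.fst
    rw [hθ, Psi_apply, map_add, proj_incl, add_zero, hg]
  · intro z
    show θ₀ (mkE _ (TrivSqZeroExt.inr z)) = X.incl z
    rw [hθ, Psi_apply]
    simp

end compare

end Groth.Agent.Lib.Helper19.ExalT1
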