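import Groth.Agent.Lib.Helper19ExalT1B

/-!
# Lifts differ by derivations
-/

set_option autoImplicit false
set_option linter.unusedSectionVars false
set_option linter.style.haveILetI false
universe u v

open Exal

namespace Groth.Agent.Lib.Helper19.ExalT1

attribute [local instance] Exal.opModule Exal.isCentralScalar_opModule

section lifts

variable {A : Type u} {R B M : Type v} [CommRing A] [CommRing R] [CommRing B] [Algebra A R]
  [Algebra A B] [Algebra R B] [IsScalarTower A R B] [AddCommGroup M] [Module B M] [Module R M]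
  [IsScalarTower R B M] [Module A M] [IsScalarTower A R M]
variable (hsurj : Function.Surjective (algebraMap R B))

section two

variable (X : Ext A B M) (g₁ g₂ : R →ₐ[A] X.E)
  (hg₁ : ∀ r, X.proj (g₁ r) = algebraMap R B r) (hg₂ : ∀ r, X.proj (g₂ r) = algebraMap R B r)

include hg₁ hg₂ in
lemma proj_sub (r : R) : X.proj (g₂ r - g₁ r) = 0 := by
  rw [map_sub, hg₁, hg₂, sub_self]

include hg₁ in
lemma incl_smul_A (a : A) (m : M) : X.incl (a • m) = a • X.incl m := by
  rw [← algebraMap_smul R a m, ← g_mul_incl X g₁ hg₁, AlgHom.commutes, Algebra.smul_def]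

/-- the difference of two lifts, as a linear map -/
noncomputable def diffLin : R →ₗ[A] M where
  toFun r := X.kerLift (g₂ r - g₁ r) (proj_sub X g₁ g₂ hg₁ hg₂ r)
  map_add' r s := X.isExtension.incl_injective (by
    rw [X.incl_kerLift, map_add X.incl, X.incl_kerLift, X.incl_kerLift, map_add, map_add]
    abel)
  map_smul' a r := X.isExtension.incl_injective (by
    rw [X.incl_kerLift, RingHom.id_apply, incl_smul_A X g₁ hg₁, X.incl_kerLift, map_smul,
      map_smul, smul_sub])

lemma incl_diffLin (r : R) : X.incl (diffLin X g₁ g₂ hg₁ hg₂ r) = g₂ r - g₁ r :=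
  X.incl_kerLift _ (proj_sub X g₁ g₂ hg₁ hg₂ r)

/-- the difference of two lifts, a derivation -/
noncomputable def diffDer : Derivation A R M where
  toLinearMap := diffLin X g₁ g₂ hg₁ hg₂
  map_one_eq_zero' := X.isExtension.incl_injective (by
    rw [incl_diffLin, map_one, map_one, sub_self, map_zero])
  leibniz' r s := X.isExtension.incl_injective (by
    rw [incl_diffLin, map_add, ← g_mul_incl X g₂ hg₂, ← g_mul_incl X g₁ hg₁,
      incl_diffLin, incl_diffLin, map_mul, map_mul]
    ring)

lemma incl_diffDer (r : R) : X.incl (diffDer X g₁ g₂ hg₁ hg₂ r) = g₂ r - g₁ r :=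
  incl_diffLin X g₁ g₂ hg₁ hg₂ r

lemma wOf_sub_wOf (i : RingHom.ker (algebraMap R B)) :
    wOf X g₂ hg₂ i - wOf X g₁ hg₁ i = diffDer X g₁ g₂ hg₁ hg₂ i := by
  apply X.isExtension.incl_injective
  rw [map_sub, incl_wOf, incl_wOf, incl_diffDer]

end two

/-- the restriction of a derivation to the kernel is linear -/
noncomputable def derRestr (D : Derivation A R M) : RingHom.ker (algebraMap R B) →ₗ[R] M where
  toFun i := D i
  map_add' i i' := by push_cast; rw [map_add]
  map_smul' r i := by
    push_cast
    rw [smul_eq_mul, Derivation.leibniz, smul_eq_zero_of_mem i.2, add_zero]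
    rfl

lemma derRestr_apply (D : Derivation A R M) (i : RingHom.ker (algebraMap R B)) :
    derRestr (B := B) D i = D i := rfl

section shift

variable (w : RingHom.ker (algebraMap R B) →ₗ[R] M) (D : Derivation A R M)

/-- the lift `r ↦ (r, D r)` -/
noncomputable def shiftLift₀ : R →ₐ[A] E w where
  toFun r := mkE w (TrivSqZeroExt.inl r + TrivSqZeroExt.inr (D r))
  map_one' := by
    rw [D.map_one_eq_zero, TrivSqZeroExt.inr_zero, add_zero]
    exact map_one (mkE w)
  map_zero' := by
    rw [map_zero, TrivSqZeroExt.inr_zero, add_zero, TrivSqZeroExt.inl_zero]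
    exact map_zero (mkE w)
  map_add' r s := by
    rw [← map_add]
    congr 1
    rw [map_add, TrivSqZeroExt.inl_add, TrivSqZeroExt.inr_add]
    abel
  map_mul' r s := by
    rw [← map_mul]
    congr 1
    ext
    · simp
    · simp only [TrivSqZeroExt.snd_add, TrivSqZeroExt.snd_inl, TrivSqZeroExt.snd_inr, zero_add,
        TrivSqZeroExt.snd_mul, TrivSqZeroExt.fst_add, TrivSqZeroExt.fst_inl,
        TrivSqZeroExt.fst_inr, add_zero, op_smul_eq_smul, Derivation.leibniz]
  commutes' a := by
    show mkE w (TrivSqZeroExt.inl (algebraMap A R a) + TrivSqZeroExt.inr (D (algebraMap A R a))) =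
      mkE w (TrivSqZeroExt.inl (algebraMap A R a))
    rw [D.map_algebraMap, TrivSqZeroExt.inr_zero, add_zero]

/-- the lift `r ↦ (r, D r)` into the extension -/
noncomputable def shiftLift : R →ₐ[A] (ext (A := A) hsurj w).E := shiftLift₀ w D

lemma shiftLift_apply (r : R) :
    shiftLift hsurj w D r = mkE w (TrivSqZeroExt.inl r + TrivSqZeroExt.inr (D r)) := rfl

lemma shiftLift_proj (r : R) :
    (ext (A := A) hsurj w).proj (shiftLift hsurj w D r) = algebraMap R B r := by
  rw [shiftLift_apply, ext_proj_mk]
  simp

lemma wOf_shiftLift :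
    wOf (ext (A := A) hsurj w) (shiftLift hsurj w D) (shiftLift_proj hsurj w D) =
      w + derRestr D := by
  apply LinearMap.ext
  intro i
  apply (ext (A := A) hsurj w).isExtension.incl_injective
  rw [incl_wOf, shiftLift_apply, ext_incl]
  refine (mkE_eq_iff w _ _).mpr ?_
  rw [mem_graphIdeal]
  refine ⟨by simpa using i.2, ?_⟩
  have h4 : (⟨((TrivSqZeroExt.inl (i : R) + TrivSqZeroExt.inr (D i)) -
      TrivSqZeroExt.inr ((w + derRestr (B := B) D :
        RingHom.ker (algebraMap R B) →ₗ[R] M) i) : TrivSqZeroExt R M).fst,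
      by simp⟩ :
      RingHom.ker (algebraMap R B)) = i := by
    apply Subtype.ext; simp
  rw [h4]
  simp [derRestr_apply]

/-- shifting by a derivation gives an equivalent extension -/
noncomputable def shiftEquiv :
    (ext (A := A) hsurj (w + derRestr D)).Equiv (ext (A := A) hsurj w) := by
  have h := compEquiv hsurj (ext (A := A) hsurj w) (shiftLift hsurj w D) (shiftLift_proj hsurj w D)
  rw [wOf_shiftLift] at h
  exact h

end shift

section inj

variable (w w' : RingHom.ker (algebraMap R B) →ₗ[R] M)

/-- equivalent extensions come from maps differing by a derivation -/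
theorem exists_der_of_equiv (θ : (ext (A := A) hsurj w).Equiv (ext (A := A) hsurj w')) :
    ∃ D : Derivation A R M, w = w' + derRestr D := by
  -- canonical lift for w'
  have hw' := wOf_shiftLift hsurj w' (0 : Derivation A R M)
  have hz : derRestr (B := B) (0 : Derivation A R M) = 0 := by
    apply LinearMap.ext; intro i; rfl
  rw [hz, add_zero] at hw'
  -- the transported canonical lift for w
  let g₂ : R →ₐ[A] (ext (A := A) hsurj w').E :=
    (θ.toAlgEquiv : (ext (A := A) hsurj w).E →ₐ[A] (ext (A := A) hsurj w').E).comp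
      (shiftLift hsurj w (0 : Derivation A R M))
  have hg₂ : ∀ r, (ext (A := A) hsurj w').proj (g₂ r) = algebraMap R B r := by
    intro r
    show (ext (A := A) hsurj w').proj (θ.toAlgEquiv (shiftLift hsurj w 0 r)) = _
    rw [θ.proj_apply, shiftLift_proj]
  have hw : wOf (ext (A := A) hsurj w') g₂ hg₂ = w := by
    apply LinearMap.ext
    intro i
    apply (ext (A := A) hsurj w').isExtension.incl_injective
    rw [incl_wOf]
    show θ.toAlgEquiv (shiftLift hsurj w 0 i) = _
    have h1 : shiftLift hsurj w (0 : Derivation A R M) i = (ext (A := A) hsurj w).incl (w i) := by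
      have h2 := incl_wOf (ext (A := A) hsurj w) (shiftLift hsurj w 0) (shiftLift_proj hsurj w 0) i
      have h3 := wOf_shiftLift hsurj w (0 : Derivation A R M)
      rw [hz, add_zero] at h3
      rw [h3] at h2
      exact h2.symm
    rw [h1, θ.apply_incl]
  refine ⟨diffDer (ext (A := A) hsurj w') (shiftLift hsurj w' 0) g₂ (shiftLift_proj hsurj w' 0) hg₂,
    ?_⟩
  apply LinearMap.ext
  intro i
  have h := wOf_sub_wOf (ext (A := A) hsurj w') (shiftLift hsurj w' 0) g₂
    (shiftLift_proj hsurj w' 0) hg₂ i
  rw [hw, hw'] at h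
  rw [LinearMap.add_apply, derRestr_apply, ← h]
  abel

end inj

end lifts

end Groth.Agent.Lib.Helper19.ExalT1
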