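import Mathlib

/-!
# The square-zero extension attached to an extension of `Ω_{B/A}` by a module
-/

set_option autoImplicit false
set_option linter.unusedSectionVars false
universe u

namespace Groth.Agent.Lib.Helper19.ExtOfSeq

open TrivSqZeroExt KaehlerDifferential TensorProduct

section
variable {A B : Type u} [CommRing A] [CommRing B] [Algebra A B]
  {N : Type u} [AddCommGroup N] [Module B N] [Module Bᵐᵒᵖ N] [IsCentralScalar B N]
  (q : N →ₗ[B] Ω[B⁄A])

/-- the fibre product ring `B ×_{Ω} N` -/
def E : Subring (TrivSqZeroExt B N) where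
  carrier := {x | D A B x.fst = q x.snd}
  mul_mem' := by
    intro x y hx hy
    simp only [Set.mem_ofPred_eq] at *
    rw [fst_mul, snd_mul, Derivation.leibniz, map_add, map_smul, op_smul_eq_smul, map_smul, hx, hy]
  one_mem' := by simp
  add_mem' := by
    intro x y hx hy
    simp only [Set.mem_ofPred_eq] at *
    rw [fst_add, snd_add, map_add, map_add, hx, hy]
  zero_mem' := by simp
  neg_mem' := by
    intro x hx
    simp only [Set.mem_ofPred_eq] at *
    rw [fst_neg, snd_neg, map_neg, map_neg, hx]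

lemma mem_E (x : TrivSqZeroExt B N) : x ∈ E q ↔ D A B x.fst = q x.snd := Iff.rfl

noncomputable def toB : E q →+* B := (TrivSqZeroExt.fstHom B B N).toRingHom.comp (E q).subtype

lemma toB_apply (e : E q) : toB q e = e.1.fst := rfl

noncomputable def ofA : A →+* E q :=
  RingHom.codRestrict ((TrivSqZeroExt.inlHom B N).comp (algebraMap A B)) (E q) (fun a => by
    rw [mem_E]
    simp)

lemma ofA_apply (a : A) : (ofA q a).1 = inl (algebraMap A B a) := rfl

noncomputable instance algAE : Algebra A (E q) := (ofA q).toAlgebra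
noncomputable instance algEB : Algebra (E q) B := (toB q).toAlgebra

lemma algebraMap_E_B (e : E q) : algebraMap (E q) B e = e.1.fst := rfl
lemma algebraMap_A_E (a : A) : (algebraMap A (E q) a).1 = inl (algebraMap A B a) := rfl

instance : IsScalarTower A (E q) B := IsScalarTower.of_algebraMap_eq (fun a => by
  rw [algebraMap_E_B, algebraMap_A_E, fst_inl])

variable {q} in
noncomputable abbrev P (hq : Function.Surjective q) : Algebra.Extension.{u} A B :=
  { Ring := E q
    σ := fun b => ⟨inl b + inr (Classical.choose (hq (D A B b))), by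
      rw [mem_E]
      simp only [fst_add, fst_inl, fst_inr, add_zero, snd_add, snd_inl, snd_inr, zero_add]
      exact (Classical.choose_spec (hq (D A B b))).symm⟩
    algebraMap_σ := fun b => by
      rw [algebraMap_E_B]
      simp }

end


section
variable {A B : Type u} [CommRing A] [CommRing B] [Algebra A B]
  {N : Type u} [AddCommGroup N] [Module B N] [Module Bᵐᵒᵖ N] [IsCentralScalar B N]
  (q : N →ₗ[B] Ω[B⁄A])

noncomputable instance modEN : Module (E q) N := Module.compHom N (toB q)

lemma smul_E_N (e : E q) (n : N) : e • n = e.1.fst • n := rfl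

instance : IsScalarTower (E q) B N := IsScalarTower.of_algebraMap_smul (fun _ _ => rfl)

variable [Module A N] [IsScalarTower A B N]

instance : IsScalarTower A (E q) N := by
  refine ⟨fun a e n => ?_⟩
  rw [smul_E_N, smul_E_N, Algebra.smul_def, Subring.coe_mul, fst_mul, algebraMap_A_E, fst_inl,
    mul_smul, algebraMap_smul]

noncomputable def d : Derivation A (E q) N where
  toFun e := e.1.snd
  map_add' x y := by rw [Subring.coe_add, snd_add]
  map_smul' a x := by
    rw [RingHom.id_apply, Algebra.smul_def, Subring.coe_mul, snd_mul, algebraMap_A_E, fst_inl, snd_inl,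
      smul_zero, add_zero, algebraMap_smul]
  map_one_eq_zero' := by
    show (1 : E q).1.snd = 0
    rw [Subring.coe_one, snd_one]
  leibniz' x y := by
    show (x * y).1.snd = x • y.1.snd + y • x.1.snd
    rw [Subring.coe_mul, snd_mul, smul_E_N, smul_E_N, op_smul_eq_smul]

lemma d_apply (e : E q) : d q e = e.1.snd := rfl

/-- the comparison map `B ⊗_E Ω_{E/A} → N` -/
noncomputable def ψ : B ⊗[E q] Ω[E q⁄A] →ₗ[B] N :=
  LinearMap.liftBaseChange B (d q).liftKaehlerDifferential

lemma ψ_tmul_D (b : B) (e : E q) : ψ q (b ⊗ₜ[E q] D A (E q) e) = b • e.1.snd := by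
  rw [ψ, LinearMap.liftBaseChange_tmul, Derivation.liftKaehlerDifferential_comp_D, d_apply]

end

section
variable {A B : Type u} [CommRing A] [CommRing B] [Algebra A B]
  {M N : Type u} [AddCommGroup M] [Module B M] [AddCommGroup N] [Module B N]
  [Module Bᵐᵒᵖ N] [IsCentralScalar B N] [Module A N] [IsScalarTower A B N]
  {q : N →ₗ[B] Ω[B⁄A]} (i : M →ₗ[B] N) (hq : Function.Surjective q)
  (hex : Function.Exact i q)

lemma fst_eq_zero_of_mem_ker {x : E q} (hx : x ∈ (P hq).ker) : x.1.fst = 0 := hx

lemma ker_sq : (P hq).ker ^ 2 = ⊥ := by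
  rw [pow_two, eq_bot_iff, Ideal.mul_le]
  intro x hx y hy
  rw [Ideal.mem_bot]
  have hx0 : x.1.fst = 0 := hx
  have hy0 : y.1.fst = 0 := hy
  apply Subtype.ext
  apply TrivSqZeroExt.ext
  · show (x.1 * y.1).fst = 0
    rw [fst_mul, hx0, zero_mul]
  · show (x.1 * y.1).snd = 0
    rw [snd_mul, hx0, hy0, zero_smul, MulOpposite.op_zero, zero_smul, add_zero]

include hex in
lemma inr_mem (m : M) : (inr (i m) : TrivSqZeroExt B N) ∈ E q := by
  rw [mem_E, fst_inr, snd_inr, map_zero, hex.apply_apply_eq_zero]

noncomputable def toKer (m : M) : (P hq).ker :=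
  ⟨⟨inr (i m), inr_mem i hex m⟩, show (inr (i m) : TrivSqZeroExt B N).fst = 0 from fst_inr _ _⟩

lemma toKer_val (m : M) : (toKer i hq hex m).1.1 = inr (i m) := rfl

lemma toKer_add (m m' : M) : toKer i hq hex (m + m') = toKer i hq hex m + toKer i hq hex m' := by
  apply Subtype.ext
  apply Subtype.ext
  show inr (i (m + m')) = (inr (i m) : TrivSqZeroExt B N) + inr (i m')
  rw [map_add, inr_add]

lemma toKer_smul (e : E q) (m : M) :
    toKer i hq hex (algebraMap (E q) B e • m) = e • toKer i hq hex m := by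
  apply Subtype.ext
  apply Subtype.ext
  show inr (i (e.1.fst • m)) = e.1 * (inr (i m) : TrivSqZeroExt B N)
  apply TrivSqZeroExt.ext
  · rw [fst_inr, fst_mul, fst_inr, mul_zero]
  · rw [snd_inr, snd_mul, snd_inr, fst_inr, MulOpposite.op_zero, zero_smul, add_zero, map_smul]

noncomputable def j : M →ₗ[B] (P hq).Cotangent where
  toFun m := Algebra.Extension.Cotangent.mk (toKer i hq hex m)
  map_add' m m' := by rw [toKer_add, map_add]
  map_smul' b m := by
    obtain ⟨e, rfl⟩ := (P hq).algebraMap_surjective b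
    rw [RingHom.id_apply]
    have h1 : algebraMap (P hq).Ring B e • Algebra.Extension.Cotangent.mk (toKer i hq hex m) =
        e • Algebra.Extension.Cotangent.mk (toKer i hq hex m) := algebraMap_smul B e _
    rw [h1, ← map_smul]
    congr 1
    exact toKer_smul i hq hex e m

lemma j_apply (m : M) : j i hq hex m = Algebra.Extension.Cotangent.mk (toKer i hq hex m) := rfl

include hex in
lemma j_injective (hi : Function.Injective i) : Function.Injective (j i hq hex) := by
  rw [injective_iff_map_eq_zero]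
  intro m hm
  rw [j_apply, Algebra.Extension.Cotangent.mk_eq_zero_iff, ker_sq, Ideal.mem_bot] at hm
  have h1 : (inr (i m) : TrivSqZeroExt B N) = 0 := congrArg Subtype.val hm
  have h2 : i m = 0 := by
    have := congrArg TrivSqZeroExt.snd h1
    rwa [snd_inr, snd_zero] at this
  exact hi (h2.trans (map_zero i).symm)

lemma j_surjective : Function.Surjective (j i hq hex) := by
  intro x
  obtain ⟨y, rfl⟩ := Algebra.Extension.Cotangent.mk_surjective x
  have hy0 : y.1.1.fst = 0 := y.2
  have hyE : D A B y.1.1.fst = q y.1.1.snd := y.1.2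
  rw [hy0, map_zero] at hyE
  obtain ⟨m, hm⟩ := (hex _).mp hyE.symm
  refine ⟨m, ?_⟩
  rw [j_apply]
  congr 1
  apply Subtype.ext
  apply Subtype.ext
  apply TrivSqZeroExt.ext
  · rw [toKer_val, fst_inr, hy0]
  · rw [toKer_val, snd_inr, hm]

lemma ψ_cotangentComplex (m : M) :
    ψ q ((P hq).cotangentComplex (j i hq hex m)) = i m := by
  rw [j_apply, Algebra.Extension.cotangentComplex_mk]
  have := ψ_tmul_D q 1 (toKer i hq hex m).1
  rw [one_smul, toKer_val, snd_inr] at this
  exact this

lemma q_ψ (y : (P hq).CotangentSpace) : q (ψ q y) = (P hq).toKaehler y := by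
  induction y using TensorProduct.induction_on with
  | zero => rw [map_zero, map_zero, map_zero]
  | add x y hx hy => rw [map_add, map_add, map_add, hx, hy]
  | tmul b ω =>
    have hω : ω ∈ Submodule.span (E q) (Set.range (D A (E q))) := by
      rw [KaehlerDifferential.span_range_derivation]; trivial
    induction hω using Submodule.span_induction generalizing b with
    | mem x hx =>
      obtain ⟨e, rfl⟩ := hx
      have h1 : ψ q (b ⊗ₜ[E q] D A (E q) e) = b • e.1.snd := ψ_tmul_D q b e
      have h2 : (P hq).toKaehler (b ⊗ₜ[E q] D A (E q) e) = b • D A B (algebraMap (E q) B e) := by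
        show KaehlerDifferential.mapBaseChange A (E q) B (b ⊗ₜ[E q] D A (E q) e) = _
        rw [KaehlerDifferential.mapBaseChange_tmul, KaehlerDifferential.map_D]
      have h3 : D A B e.1.fst = q e.1.snd := e.2
      show q (ψ q (b ⊗ₜ[E q] D A (E q) e)) = (P hq).toKaehler (b ⊗ₜ[E q] D A (E q) e)
      rw [h1, h2, map_smul, algebraMap_E_B, h3]
    | zero =>
      show q (ψ q (b ⊗ₜ[E q] (0 : Ω[E q⁄A]))) = (P hq).toKaehler (b ⊗ₜ[E q] (0 : Ω[E q⁄A]))
      rw [tmul_zero, map_zero, map_zero, map_zero]
    | add x y _ _ hx hy =>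
      show q (ψ q (b ⊗ₜ[E q] (x + y))) = (P hq).toKaehler (b ⊗ₜ[E q] (x + y))
      rw [tmul_add, map_add, map_add, map_add]
      exact congrArg₂ (· + ·) (hx b) (hy b)
    | smul e x _ hx =>
      show q (ψ q (b ⊗ₜ[E q] (e • x))) = (P hq).toKaehler (b ⊗ₜ[E q] (e • x))
      rw [← TensorProduct.smul_tmul]
      exact hx (e • b)

include hex hq in
lemma ψ_bijective (hi : Function.Injective i) : Function.Bijective (ψ q (A := A)) := by
  constructor
  · rw [injective_iff_map_eq_zero]
    intro y hy
    have h1 : (P hq).toKaehler y = 0 := by rw [← q_ψ, hy, map_zero]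
    obtain ⟨x, rfl⟩ := ((P hq).exact_cotangentComplex_toKaehler y).mp h1
    obtain ⟨m, rfl⟩ := j_surjective i hq hex x
    have h2 : ψ q ((P hq).cotangentComplex (j i hq hex m)) = 0 := hy
    rw [ψ_cotangentComplex] at h2
    have : m = 0 := hi (h2.trans (map_zero i).symm)
    rw [this, map_zero, map_zero]
  · intro n
    obtain ⟨y₀, hy₀⟩ := (P hq).toKaehler_surjective (q n)
    have h1 : q (n - ψ q y₀) = 0 := by rw [map_sub, q_ψ, hy₀, sub_self]
    obtain ⟨m, hm⟩ := (hex _).mp h1
    refine ⟨y₀ + (P hq).cotangentComplex (j i hq hex m), ?_⟩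
    rw [map_add]
    have h2 : ψ q ((P hq).cotangentComplex (j i hq hex m)) = i m := ψ_cotangentComplex i hq hex m
    rw [h2, hm]; abel

include hex in
theorem exists_equivs (hi : Function.Injective i) :
    ∃ (e₁ : (P hq).Cotangent ≃ₗ[B] M) (e₂ : (P hq).CotangentSpace ≃ₗ[B] N),
      (∀ x, e₂ ((P hq).cotangentComplex x) = i (e₁ x)) ∧
        (∀ y, q (e₂ y) = (P hq).toKaehler y) := by
  let J : M ≃ₗ[B] (P hq).Cotangent :=
    LinearEquiv.ofBijective (j i hq hex) ⟨j_injective i hq hex hi, j_surjective i hq hex⟩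
  let Ψ : (P hq).CotangentSpace ≃ₗ[B] N := LinearEquiv.ofBijective (ψ q) (ψ_bijective i hq hex hi)
  refine ⟨J.symm, Ψ, ?_, ?_⟩
  · intro x
    obtain ⟨m, rfl⟩ := J.surjective x
    rw [LinearEquiv.symm_apply_apply]
    exact ψ_cotangentComplex i hq hex m
  · intro y
    exact q_ψ hq y

end

theorem exists_extension {A B : Type u} [CommRing A] [CommRing B] [Algebra A B]
    (M N : Type u) [AddCommGroup M] [Module B M] [AddCommGroup N] [Module B N]
    (i : M →ₗ[B] N) (q : N →ₗ[B] Ω[B⁄A]) (hi : Function.Injective i)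
    (hq : Function.Surjective q) (hex : Function.Exact i q) :
    ∃ P : Algebra.Extension.{u} A B, P.ker ^ 2 = ⊥ ∧
      ∃ (e₁ : P.Cotangent ≃ₗ[B] M) (e₂ : P.CotangentSpace ≃ₗ[B] N),
        (∀ x, e₂ (P.cotangentComplex x) = i (e₁ x)) ∧ (∀ y, q (e₂ y) = P.toKaehler y) := by
  letI : Module Bᵐᵒᵖ N := Module.compHom N ((RingHom.id B).fromOpposite mul_comm)
  haveI : IsCentralScalar B N := ⟨fun r m => rfl⟩
  letI : Module A N := Module.compHom N (algebraMap A B)
  haveI : IsScalarTower A B N := IsScalarTower.of_algebraMap_smul (fun _ _ => rfl)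
  exact ⟨P hq, ker_sq hq, exists_equivs i hq hex hi⟩

end Groth.Agent.Lib.Helper19.ExtOfSeq
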