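import Mathlib

/-!
# Exterior powers of a free module with a distinguished basis vector (helper19)

For a basis `b` of `P` with a distinguished index `i₀` and an ideal `𝔞`, the span of the wedges
of elements whose `i₀`-coordinate lies in `𝔞` is `L' ⊔ 𝔞 • T'`, where `T'` (`L'`) is spanned by
the basis wedges (not) containing `i₀`.
-/

set_option autoImplicit false
set_option linter.unusedSectionVars false
universe u v w

namespace Groth.Agent.Lib.Helper19ExtPowBasis

open Module Submodule

section PartA

variable {A : Type u} [CommRing A] {N : Type v} [AddCommGroup N] [Module A N] {J : Type w}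

theorem mem_span_sup_smul_span_iff (B : Basis J A N) (S : Set J) (𝔞 : Ideal A) (x : N) :
    x ∈ span A (B '' Sᶜ) ⊔ 𝔞 • span A (B '' S) ↔ ∀ s ∈ S, B.repr x s ∈ 𝔞 := by
  classical
  constructor
  · intro hx s hs
    obtain ⟨y, hy, z, hz, rfl⟩ := Submodule.mem_sup.1 hx
    have h1 : B.repr y s = 0 := by
      rw [Basis.mem_span_image] at hy
      by_contra h
      exact hy (Finsupp.mem_support_iff.2 h) hs
    have h2 : ∀ z ∈ 𝔞 • span A (B '' S), B.repr z s ∈ 𝔞 := by
      intro z hz
      refine Submodule.smul_induction_on hz ?_ ?_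
      · intro a ha n _
        rw [map_smul, Finsupp.smul_apply, smul_eq_mul]
        exact 𝔞.mul_mem_right _ ha
      · intro u v hu hv
        rw [map_add, Finsupp.add_apply]
        exact 𝔞.add_mem hu hv
    rw [map_add, Finsupp.add_apply, h1, zero_add]
    exact h2 z hz
  · intro h
    rw [← B.linearCombination_repr x, Finsupp.linearCombination_apply, Finsupp.sum]
    refine Submodule.sum_mem _ fun j _ => ?_
    by_cases hj : j ∈ S
    · exact Submodule.mem_sup_right (Submodule.smul_mem_smul (h j hj)
        (Submodule.subset_span ⟨j, hj, rfl⟩))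
    · exact Submodule.mem_sup_left (Submodule.smul_mem _ _
        (Submodule.subset_span ⟨j, hj, rfl⟩))

theorem isCompl_span_image (B : Basis J A N) (S : Set J) :
    IsCompl (span A (B '' Sᶜ)) (span A (B '' S)) := by
  constructor
  · exact B.linearIndependent.disjoint_span_image disjoint_compl_left
  · rw [codisjoint_iff, ← Submodule.span_union, ← Set.image_union, Set.compl_union_self,
      Set.image_univ, B.span_eq]

end PartA

section PartB

open exteriorPower Set.powersetCard

variable {A : Type u} [CommRing A] {P : Type v} [AddCommGroup P] [Module A P]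
  {I : Type w} [LinearOrder I] (b : Basis I A P) (i₀ : I) (𝔞 : Ideal A) (r : ℕ)

theorem exists_index (s : Set.powersetCard I r) (hs : i₀ ∈ s) :
    ∃ j₀ : Fin r, ofFinEmbEquiv.symm s j₀ = i₀ :=
  (mem_range_ofFinEmbEquiv_symm_iff_mem s i₀).2 hs

theorem index_ne (s : Set.powersetCard I r) (hs : i₀ ∉ s) (j : Fin r) :
    ofFinEmbEquiv.symm s j ≠ i₀ := by
  intro h
  exact hs ((mem_range_ofFinEmbEquiv_symm_iff_mem s i₀).1 ⟨j, h⟩)

theorem repr_ιMulti_mem (s : Set.powersetCard I r) (hs : i₀ ∈ s) (q : Fin r → P)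
    (hq : ∀ i, b.repr (q i) i₀ ∈ 𝔞) :
    (b.exteriorPower r).repr (ιMulti A r q) s ∈ 𝔞 := by
  rw [basis_repr_apply, ιMultiDual_apply_ιMulti, Matrix.det_apply']
  obtain ⟨j₀, hj₀⟩ := exists_index i₀ r s hs
  refine Ideal.sum_mem _ fun σ _ => ?_
  refine Ideal.mul_mem_left _ _ ?_
  refine Ideal.prod_mem _ (Finset.mem_univ j₀) ?_
  rw [Matrix.of_apply, hj₀, Basis.coord_apply]
  exact hq _

/-- the set of wedges of elements with `i₀`-coordinate in `𝔞` -/
def wedges : Set (⋀[A]^r P) :=
  {x | ∃ q : Fin r → P, (∀ i, b.repr (q i) i₀ ∈ 𝔞) ∧ ιMulti A r q = x}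

theorem basis_mem_span_wedges (s : Set.powersetCard I r) (hs : i₀ ∉ s) :
    b.exteriorPower r s ∈ span A (wedges b i₀ 𝔞 r) := by
  apply Submodule.subset_span
  refine ⟨b ∘ ofFinEmbEquiv.symm s, fun j => ?_, (basis_apply A r b s).symm⟩
  rw [Function.comp_apply, Basis.repr_self, Finsupp.single_apply, if_neg (index_ne i₀ r s hs j)]
  exact 𝔞.zero_mem

theorem smul_basis_mem_span_wedges (s : Set.powersetCard I r) (hs : i₀ ∈ s) (a : A) (ha : a ∈ 𝔞) :
    a • b.exteriorPower r s ∈ span A (wedges b i₀ 𝔞 r) := by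
  classical
  obtain ⟨j₀, hj₀⟩ := exists_index i₀ r s hs
  apply Submodule.subset_span
  refine ⟨Function.update (b ∘ ofFinEmbEquiv.symm s) j₀ (a • b i₀), fun j => ?_, ?_⟩
  · by_cases hj : j = j₀
    · subst hj
      rw [Function.update_self, map_smul, Finsupp.smul_apply, Basis.repr_self,
        Finsupp.single_eq_same, smul_eq_mul, mul_one]
      exact ha
    · rw [Function.update_of_ne hj, Function.comp_apply, Basis.repr_self,
        Finsupp.single_apply, if_neg]
      · exact 𝔞.zero_mem
      · intro h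
        exact hj ((ofFinEmbEquiv.symm s).injective (h.trans hj₀.symm))
  · rw [AlternatingMap.map_update_smul, basis_apply, ιMulti_family]
    congr 2
    rw [← hj₀]
    exact Function.update_eq_self j₀ (b ∘ ofFinEmbEquiv.symm s)

theorem span_wedges_eq :
    span A (wedges b i₀ 𝔞 r) =
      span A ((b.exteriorPower r) '' {s : Set.powersetCard I r | i₀ ∈ s}ᶜ) ⊔
        𝔞 • span A ((b.exteriorPower r) '' {s : Set.powersetCard I r | i₀ ∈ s}) := by
  apply le_antisymm
  · rw [Submodule.span_le]
    rintro x ⟨q, hq, rfl⟩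
    rw [SetLike.mem_coe, mem_span_sup_smul_span_iff]
    intro s hs
    exact repr_ιMulti_mem b i₀ 𝔞 r s hs q hq
  · rw [sup_le_iff]
    constructor
    · rw [Submodule.span_le]
      rintro _ ⟨s, hs, rfl⟩
      exact basis_mem_span_wedges b i₀ 𝔞 r s hs
    · rw [Submodule.smul_le]
      intro a ha n hn
      induction hn using Submodule.span_induction with
      | mem x hx =>
        obtain ⟨s, hs, rfl⟩ := hx
        exact smul_basis_mem_span_wedges b i₀ 𝔞 r s hs a ha
      | zero => rw [smul_zero]; exact zero_mem _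
      | add x y _ _ hx hy => rw [smul_add]; exact add_mem hx hy
      | smul c x _ hx => rw [smul_comm]; exact Submodule.smul_mem _ _ hx

end PartB

section PartC

variable {I : Type w} [Fintype I] [DecidableEq I]

theorem card_filter_mem (i₀ : I) (r : ℕ) (hr : 1 ≤ r) :
    ((Finset.powersetCard r (Finset.univ : Finset I)).filter (fun t => i₀ ∈ t)).card =
      (Fintype.card I - 1).choose (r - 1) := by
  obtain ⟨n, rfl⟩ : ∃ n, r = n + 1 := ⟨r - 1, by omega⟩
  have huniv : (Finset.univ : Finset I) = insert i₀ (Finset.univ.erase i₀) := by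
    rw [Finset.insert_erase (Finset.mem_univ i₀)]
  have hnot : i₀ ∉ Finset.univ.erase i₀ := Finset.notMem_erase _ _
  rw [huniv, Finset.powersetCard_succ_insert hnot, Finset.filter_union]
  have h1 : (Finset.powersetCard (n + 1) (Finset.univ.erase i₀)).filter (fun t => i₀ ∈ t) = ∅ := by
    rw [Finset.filter_eq_empty_iff]
    intro t ht hi
    rw [Finset.mem_powersetCard] at ht
    exact hnot (ht.1 hi)
  have h2 : ((Finset.powersetCard n (Finset.univ.erase i₀)).image (insert i₀)).filter
      (fun t => i₀ ∈ t) = (Finset.powersetCard n (Finset.univ.erase i₀)).image (insert i₀) := by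
    rw [Finset.filter_eq_self]
    intro t ht
    obtain ⟨t', _, rfl⟩ := Finset.mem_image.1 ht
    exact Finset.mem_insert_self _ _
  rw [h1, h2, Finset.empty_union, Finset.card_image_of_injOn, Finset.card_powersetCard,
    Finset.card_erase_of_mem (Finset.mem_univ i₀), Finset.card_univ, Nat.add_sub_cancel]
  intro t ht t' ht' heq
  rw [Finset.mem_coe, Finset.mem_powersetCard] at ht ht'
  have h3 : i₀ ∉ t := fun h => hnot (ht.1 h)
  have h4 : i₀ ∉ t' := fun h => hnot (ht'.1 h)
  have := congrArg (fun u => Finset.erase u i₀) heq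
  simpa [Finset.erase_insert h3, Finset.erase_insert h4] using this

theorem natCard_subtype_mem (i₀ : I) (r : ℕ) (hr : 1 ≤ r) :
    Nat.card {s : Set.powersetCard I r // i₀ ∈ s} = (Fintype.card I - 1).choose (r - 1) := by
  rw [← card_filter_mem i₀ r hr]
  have e : {s : Set.powersetCard I r // i₀ ∈ s} ≃
      {t : Finset I // t.card = r ∧ i₀ ∈ t} :=
    { toFun := fun s => ⟨s.1.1, s.1.2, s.2⟩
      invFun := fun t => ⟨⟨t.1, t.2.1⟩, t.2.2⟩
      left_inv := fun s => rfl
      right_inv := fun t => rfl }
  rw [Nat.card_congr e]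
  apply Nat.subtype_card
  intro t
  simp [Finset.mem_filter, Finset.mem_powersetCard]

end PartC

end Groth.Agent.Lib.Helper19ExtPowBasis
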