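import Mathlib

/-!
# Semilinear exterior powers, a wedge expansion, and division by an injective additive
"Verschiebung" on `I • N` (helper19)
-/

set_option autoImplicit false
set_option linter.unusedSectionVars false
universe u v w

namespace Groth.Agent.Lib.Helper19SemiExt

open Function

section Expansion

variable {A : Type u} [CommRing A] {P : Type v} [AddCommGroup P] [Module A P]
  {N : Type w} [AddCommGroup N] [Module A N] {ι : Type*} [Fintype ι] [DecidableEq ι]

/-- `f (a + c • u) = f a + ∑ i, c i • f (a with u at i)` for an alternating map. -/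
theorem alt_expand (f : P [⋀^ι]→ₗ[A] N) (c : ι → A) (u : P) (a : ι → P) :
    f (fun i => a i + c i • u) = f a + ∑ i, c i • f (update a i u) := by
  have key : ∀ (s : Finset ι) (a : ι → P),
      f (fun i => a i + (if i ∈ s then c i else 0) • u) =
        f a + ∑ i ∈ s, c i • f (update a i u) := by
    intro s
    induction s using Finset.induction_on with
    | empty =>
      intro a
      simp
    | insert j s hj ih =>
      intro a
      have h1 : (fun i => a i + (if i ∈ insert j s then c i else 0) • u) =
          update (fun i => a i + (if i ∈ s then c i else 0) • u) j (a j + c j • u) := by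
        funext i
        by_cases hi : i = j
        · subst hi
          simp
        · rw [update_of_ne hi]
          simp [Finset.mem_insert, hi]
      have h2 : update (fun i => a i + (if i ∈ s then c i else 0) • u) j (a j) =
          fun i => a i + (if i ∈ s then c i else 0) • u := by
        funext i
        by_cases hi : i = j
        · subst hi
          simp [hj]
        · rw [update_of_ne hi]
      have h3 : update (fun i => a i + (if i ∈ s then c i else 0) • u) j u =
          fun i => (update a j u) i + (if i ∈ s then c i else 0) • u := by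
        funext i
        by_cases hi : i = j
        · subst hi
          simp [hj]
        · rw [update_of_ne hi, update_of_ne hi]
      rw [h1, AlternatingMap.map_update_add, AlternatingMap.map_update_smul, h2, h3, ih a,
        ih (update a j u), Finset.sum_insert hj]
      have h4 : ∑ i ∈ s, c i • f (update (update a j u) i u) = 0 := by
        refine Finset.sum_eq_zero fun i hi => ?_
        have hij : i ≠ j := fun h => hj (h ▸ hi)
        rw [f.map_eq_zero_of_eq (update (update a j u) i u) (i := i) (j := j) ?_ hij, smul_zero]
        rw [update_self, update_of_ne hij.symm, update_self]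
      rw [h4, add_zero]
      abel
  have := key Finset.univ a
  simpa using this

end Expansion

section Twist

variable {A : Type u} [CommRing A] (σ : A →+* A)

/-- `N` with scalars acting through `σ`. -/
def Tw (_σ : A →+* A) (N : Type v) : Type v := N

instance (N : Type v) [AddCommGroup N] : AddCommGroup (Tw σ N) := inferInstanceAs (AddCommGroup N)

instance (N : Type v) [AddCommGroup N] [Module A N] : Module A (Tw σ N) := Module.compHom N σ

theorem Tw.smul_def (N : Type v) [AddCommGroup N] [Module A N] (a : A) (n : Tw σ N) :
    a • n = (show N from σ a • (show N from n)) := rfl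

variable {P : Type v} [AddCommGroup P] [Module A P] {P' : Type w} [AddCommGroup P'] [Module A P']

/-- the alternating map `x ↦ Φ x₁ ∧ ⋯ ∧ Φ xᵣ` into the twisted exterior power -/
noncomputable def semiAlt (Φ : P →ₛₗ[σ] P') (r : ℕ) : P [⋀^Fin r]→ₗ[A] Tw σ (⋀[A]^r P') where
  toFun x := (exteriorPower.ιMulti A r (fun i => Φ (x i)) : ⋀[A]^r P')
  map_update_add' := by
    intro _ m i x y
    have h : ∀ z, (fun j => Φ (update m i z j)) = update (fun j => Φ (m j)) i (Φ z) := by
      intro z
      funext j
      by_cases hj : j = i
      · subst hj; simp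
      · simp [update_of_ne hj]
    rw [h, h, h, map_add]
    exact (exteriorPower.ιMulti A r).map_update_add _ i _ _
  map_update_smul' := by
    intro _ m i c x
    have h : ∀ z, (fun j => Φ (update m i z j)) = update (fun j => Φ (m j)) i (Φ z) := by
      intro z
      funext j
      by_cases hj : j = i
      · subst hj; simp
      · simp [update_of_ne hj]
    rw [h, h, map_smulₛₗ]
    exact (exteriorPower.ιMulti A r).map_update_smul _ i _ _
  map_eq_zero_of_eq' := by
    intro v i j hij hne
    exact (exteriorPower.ιMulti A r).map_eq_zero_of_eq _ (by rw [hij]) hne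

/-- The semilinear exterior power of a semilinear map. -/
noncomputable def semiExt (Φ : P →ₛₗ[σ] P') (r : ℕ) : ⋀[A]^r P →ₛₗ[σ] ⋀[A]^r P' where
  toFun x := (exteriorPower.alternatingMapLinearEquiv (semiAlt σ Φ r) x : Tw σ (⋀[A]^r P'))
  map_add' x y := map_add (exteriorPower.alternatingMapLinearEquiv (semiAlt σ Φ r)) x y
  map_smul' c x := map_smul (exteriorPower.alternatingMapLinearEquiv (semiAlt σ Φ r)) c x

theorem semiExt_ιMulti (Φ : P →ₛₗ[σ] P') (r : ℕ) (x : Fin r → P) :
    semiExt σ Φ r (exteriorPower.ιMulti A r x) = exteriorPower.ιMulti A r (fun i => Φ (x i)) :=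
  exteriorPower.alternatingMapLinearEquiv_apply_ιMulti (semiAlt σ Φ r) x

end Twist

section Divide

variable {A : Type u} [CommRing A] (σ : A →+* A) (V : A →+ A) (hVinj : Function.Injective V)
  (hV : ∀ w c : A, V w * c = V (w * σ c)) (I : Ideal A) (hI : ∀ a, a ∈ I ↔ ∃ w, V w = a)
  {N : Type v} [AddCommGroup N] [Module A N] [Module.Finite A N] [Module.Projective A N]
  {N' : Type w} [AddCommGroup N'] [Module A N']

/-- a set-theoretic inverse of `V` -/
noncomputable def uInv (a : A) : A := by
  classical
  exact if h : ∃ w, V w = a then Classical.choose h else 0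

theorem uInv_V (hVinj : Function.Injective V) (w : A) : uInv V (V w) = w := by
  have h : ∃ w', V w' = V w := ⟨w, rfl⟩
  rw [uInv, dif_pos h]
  exact hVinj (Classical.choose_spec h)

theorem map_mem_smul_top {B : Type u} [CommRing B] {M M' : Type*} [AddCommGroup M] [Module B M]
    [AddCommGroup M'] [Module B M'] (φ : M →ₗ[B] M') (𝔞 : Ideal B) (y : M)
    (hy : y ∈ 𝔞 • (⊤ : Submodule B M)) : φ y ∈ 𝔞 • (⊤ : Submodule B M') := by
  refine Submodule.smul_induction_on hy ?_ ?_
  · intro a ha n _
    rw [map_smul]; exact Submodule.smul_mem_smul ha Submodule.mem_top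
  · intro y z hy hz; rw [map_add]; exact add_mem hy hz

include hVinj hV hI in
/-- Division by `V` on `I • N`: a `σ`-semilinear map `Ψ` with `Ψ (V w • z) = w • g z`. -/
theorem exists_divide (g : N →ₛₗ[σ] N') :
    ∃ Ψ : (I • (⊤ : Submodule A N) : Submodule A N) →ₛₗ[σ] N',
      ∀ (w : A) (z : N) (h : V w • z ∈ I • (⊤ : Submodule A N)), Ψ ⟨V w • z, h⟩ = w • g z := by
  classical
  obtain ⟨n, π, hπ⟩ := Module.Finite.exists_fin' A N
  obtain ⟨i, hi⟩ := Module.projective_lifting_property π LinearMap.id hπ
  have hπi : ∀ x, π (i x) = x := fun x => LinearMap.congr_fun hi x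
  have hcoord : ∀ y ∈ I • (⊤ : Submodule A N), ∀ k, ∃ w, V w = i y k := by
    intro y hy k
    have := map_mem_smul_top ((LinearMap.proj k).comp i) I y hy
    rw [smul_eq_mul, Ideal.mul_top] at this
    exact (hI _).1 this
  have huadd : ∀ a b, (∃ w, V w = a) → (∃ w, V w = b) → uInv V (a + b) = uInv V a + uInv V b := by
    rintro _ _ ⟨w, rfl⟩ ⟨w', rfl⟩
    rw [← map_add, uInv_V V hVinj, uInv_V V hVinj, uInv_V V hVinj]
  have husmul : ∀ c a, (∃ w, V w = a) → uInv V (c * a) = σ c * uInv V a := by
    rintro c _ ⟨w, rfl⟩
    rw [mul_comm c, hV, uInv_V V hVinj, uInv_V V hVinj, mul_comm]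
  refine ⟨{ toFun := fun y => ∑ k, uInv V (i y.1 k) • g (π (Pi.single k 1))
            map_add' := ?_
            map_smul' := ?_ }, ?_⟩
  · intro y z
    rw [← Finset.sum_add_distrib]
    refine Finset.sum_congr rfl fun k _ => ?_
    rw [Submodule.coe_add, map_add, Pi.add_apply, huadd _ _ (hcoord _ y.2 k) (hcoord _ z.2 k),
      add_smul]
  · intro c y
    rw [Finset.smul_sum]
    refine Finset.sum_congr rfl fun k _ => ?_
    rw [Submodule.coe_smul, map_smul, Pi.smul_apply, smul_eq_mul, husmul _ _ (hcoord _ y.2 k),
      mul_smul]
  · intro w z h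
    show ∑ k, uInv V (i (V w • z) k) • g (π (Pi.single k 1)) = w • g z
    have h1 : ∀ k, uInv V (i (V w • z) k) = w * σ (i z k) := by
      intro k
      rw [map_smul, Pi.smul_apply, smul_eq_mul, hV, uInv_V V hVinj]
    simp_rw [h1, mul_smul]
    rw [← Finset.smul_sum]
    congr 1
    have h2 : z = ∑ k, i z k • π (Pi.single k 1) := by
      conv_lhs => rw [← hπi z, ← Finset.univ_sum_single (i z), map_sum]
      refine Finset.sum_congr rfl fun k _ => ?_
      rw [← map_smul]
      congr 1
      ext k'
      by_cases hk : k' = k
      · subst hk; simp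
      · simp [hk]
    conv_rhs => rw [h2, map_sum]
    refine Finset.sum_congr rfl fun k _ => ?_
    rw [map_smulₛₗ]

end Divide

section Proj

variable {A : Type u} [CommRing A] {P : Type v} [AddCommGroup P] [Module A P]
  [Module.Finite A P] [Module.Projective A P]

/-- exterior powers of finite projective modules are projective -/
theorem projective_exteriorPower (r : ℕ) : Module.Projective A (⋀[A]^r P) := by
  obtain ⟨n, π, hπ⟩ := Module.Finite.exists_fin' A P
  obtain ⟨i, hi⟩ := Module.projective_lifting_property π LinearMap.id hπ
  refine Module.Projective.of_split (exteriorPower.map r i) (exteriorPower.map r π) ?_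
  rw [← exteriorPower.map_comp, hi, exteriorPower.map_id]

end Proj

end Groth.Agent.Lib.Helper19SemiExt
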