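import Mathlib
import Groth.Prelude.Def_W4c1extbt610Disp
import Groth.Agent.Lib.Helper19SemiExt

/-!
# The exterior power of a 3n-display with tangent module free of rank one (helper19)
-/

set_option autoImplicit false
set_option linter.unusedSectionVars false
universe u v

namespace Groth.Agent.Lib.Helper19ExtPowDisplay

open WittVector W4c1extbt610 Groth.Agent.Lib.Helper19SemiExt Function

variable {p : ℕ} [hp : Fact p.Prime] {R : Type u} [CommRing R]

theorem mem_IV_iff (a : WittVector p R) : a ∈ IV p R ↔ ∃ w, verschiebung w = a := by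
  constructor
  · intro h
    induction h using Submodule.span_induction with
    | mem x hx => exact hx
    | zero => exact ⟨0, map_zero _⟩
    | add x y _ _ hx hy =>
      obtain ⟨w, rfl⟩ := hx
      obtain ⟨w', rfl⟩ := hy
      exact ⟨w + w', map_add _ _ _⟩
    | smul c x _ hx =>
      obtain ⟨w, rfl⟩ := hx
      exact ⟨w * frobenius c, by rw [verschiebung_mul_frobenius, smul_eq_mul, mul_comm]⟩
  · rintro ⟨w, rfl⟩; exact verschiebung_mem_IV p R w

variable {P : Type v} [AddCommGroup P] [Module (WittVector p R) P]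

/-- A normal decomposition with `T` free of rank one. -/
structure NormalData (D : Display3n p R P) where
  L : Submodule (WittVector p R) P
  T : Submodule (WittVector p R) P
  hLT : IsCompl L T
  hQ : D.Q = L ⊔ IV p R • T
  e : T ≃ₗ[WittVector p R] WittVector p R

namespace NormalData

variable {D : Display3n p R P} (nd : NormalData D)

/-- the generator of `T` -/
noncomputable def tvec : P := (nd.e.symm 1 : nd.T)

/-- projection to `L` -/
noncomputable def lam : P →ₗ[WittVector p R] P := nd.L.subtype ∘ₗ nd.L.projectionOnto nd.T nd.hLT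

/-- the `t`-coefficient -/
noncomputable def cf : P →ₗ[WittVector p R] WittVector p R :=
  (nd.e : nd.T →ₗ[WittVector p R] WittVector p R) ∘ₗ nd.T.projectionOnto nd.L nd.hLT.symm

theorem lam_mem_L (x : P) : nd.lam x ∈ nd.L := Submodule.coe_mem _

theorem lam_of_mem_L {l : P} (hl : l ∈ nd.L) : nd.lam l = l := by
  show ((nd.L.projectionOnto nd.T nd.hLT l : nd.L) : P) = l
  rw [Submodule.projectionOnto_apply_of_mem_left nd.hLT hl]

theorem lam_of_mem_T {y : P} (hy : y ∈ nd.T) : nd.lam y = 0 := by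
  show ((nd.L.projectionOnto nd.T nd.hLT y : nd.L) : P) = 0
  rw [Submodule.projectionOnto_apply_of_mem_right nd.hLT hy]; rfl

theorem cf_of_mem_L {l : P} (hl : l ∈ nd.L) : nd.cf l = 0 := by
  show nd.e (nd.T.projectionOnto nd.L nd.hLT.symm l) = 0
  rw [Submodule.projectionOnto_apply_of_mem_right nd.hLT.symm hl, map_zero]

theorem tvec_mem_T : nd.tvec ∈ nd.T := Submodule.coe_mem _

theorem of_mem_T {y : P} (hy : y ∈ nd.T) : y = nd.cf y • nd.tvec := by
  have h1 : nd.T.projectionOnto nd.L nd.hLT.symm y = ⟨y, hy⟩ :=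
    Submodule.projectionOnto_apply_of_mem_left nd.hLT.symm hy
  have h2 : (⟨y, hy⟩ : nd.T) = nd.cf y • nd.e.symm 1 := by
    show _ = nd.e (nd.T.projectionOnto nd.L nd.hLT.symm y) • nd.e.symm 1
    rw [h1, ← map_smul, smul_eq_mul, mul_one, LinearEquiv.symm_apply_apply]
  exact congrArg Subtype.val h2

theorem decomp (x : P) : x = nd.lam x + nd.cf x • nd.tvec := by
  have h1 := (Submodule.prodEquivOfIsCompl nd.L nd.T nd.hLT).apply_symm_apply x
  rw [Submodule.prodEquivOfIsCompl_symm_apply, Submodule.coe_prodEquivOfIsCompl'] at h1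
  have h2 := nd.of_mem_T (Submodule.coe_mem (nd.T.projectionOnto nd.L nd.hLT.symm x))
  have h3 : nd.cf (nd.T.projectionOnto nd.L nd.hLT.symm x : P) = nd.cf x := by
    show nd.e (nd.T.projectionOnto nd.L nd.hLT.symm _) = nd.e _
    rw [Submodule.projectionOnto_apply_left]
  rw [h3] at h2
  conv_lhs => rw [← h1, h2]
  rfl

theorem lam_tvec : nd.lam nd.tvec = 0 := nd.lam_of_mem_T nd.tvec_mem_T

theorem cf_tvec : nd.cf nd.tvec = 1 := by
  show nd.e (nd.T.projectionOnto nd.L nd.hLT.symm ((nd.e.symm 1 : nd.T) : P)) = 1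
  rw [Submodule.projectionOnto_apply_left, LinearEquiv.apply_symm_apply]

theorem lam_lam (x : P) : nd.lam (nd.lam x) = nd.lam x := nd.lam_of_mem_L (nd.lam_mem_L x)

theorem cf_lam (x : P) : nd.cf (nd.lam x) = 0 := nd.cf_of_mem_L (nd.lam_mem_L x)

theorem lam_comp_lam : nd.lam ∘ₗ nd.lam = nd.lam := LinearMap.ext fun x => nd.lam_lam x

theorem cf_smul_mem (z : P) (hz : z ∈ IV p R • nd.T) : nd.cf z ∈ IV p R := by
  refine Submodule.smul_induction_on hz ?_ ?_
  · intro a ha n _
    rw [map_smul, smul_eq_mul]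
    exact (IV p R).mul_mem_right _ ha
  · intro u v hu hv
    rw [map_add]; exact (IV p R).add_mem hu hv

theorem mem_Q_iff (x : P) : x ∈ D.Q ↔ nd.cf x ∈ IV p R := by
  rw [nd.hQ]
  constructor
  · intro hx
    obtain ⟨l, hl, z, hz, rfl⟩ := Submodule.mem_sup.1 hx
    rw [map_add, nd.cf_of_mem_L hl, zero_add]
    exact nd.cf_smul_mem z hz
  · intro hx
    rw [nd.decomp x]
    exact Submodule.add_mem_sup (nd.lam_mem_L x) (Submodule.smul_mem_smul hx nd.tvec_mem_T)

theorem lam_mem_Q (x : P) : nd.lam x ∈ D.Q := by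
  rw [nd.mem_Q_iff, nd.cf_lam]; exact zero_mem _

theorem smul_tvec_mem_Q {a : WittVector p R} (ha : a ∈ IV p R) : a • nd.tvec ∈ D.Q := by
  rw [nd.mem_Q_iff, map_smul, nd.cf_tvec, smul_eq_mul, mul_one]; exact ha

/-- The Frobenius-semilinear map `Φ = V⁻¹ ⊕ F` of the normal decomposition. -/
noncomputable def Phi : P →ₛₗ[(frobenius : WittVector p R →+* WittVector p R)] P where
  toFun x := D.Vinv ⟨nd.lam x, nd.lam_mem_Q x⟩ + frobenius (nd.cf x) • D.F nd.tvec
  map_add' x y := by
    have : (⟨nd.lam (x + y), nd.lam_mem_Q (x + y)⟩ : D.Q) =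
        ⟨nd.lam x, nd.lam_mem_Q x⟩ + ⟨nd.lam y, nd.lam_mem_Q y⟩ :=
      Subtype.ext (map_add nd.lam x y)
    rw [this, map_add, map_add, map_add, add_smul]; abel
  map_smul' c x := by
    have : (⟨nd.lam (c • x), nd.lam_mem_Q (c • x)⟩ : D.Q) = c • ⟨nd.lam x, nd.lam_mem_Q x⟩ :=
      Subtype.ext (map_smul nd.lam c x)
    rw [this, map_smulₛₗ, map_smul, smul_eq_mul, map_mul, mul_smul, smul_add]

theorem Phi_apply (x : P) :
    nd.Phi x = D.Vinv ⟨nd.lam x, nd.lam_mem_Q x⟩ + frobenius (nd.cf x) • D.F nd.tvec := rfl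

theorem Phi_lam (x : P) : nd.Phi (nd.lam x) = D.Vinv ⟨nd.lam x, nd.lam_mem_Q x⟩ := by
  rw [Phi_apply, nd.cf_lam, map_zero, zero_smul, add_zero]
  congr 1
  exact Subtype.ext (nd.lam_lam x)

theorem Phi_tvec : nd.Phi nd.tvec = D.F nd.tvec := by
  rw [Phi_apply, nd.cf_tvec, map_one, one_smul]
  have : (⟨nd.lam nd.tvec, nd.lam_mem_Q nd.tvec⟩ : D.Q) = 0 := Subtype.ext nd.lam_tvec
  rw [this, map_zero, zero_add]

theorem Vinv_eq (q : D.Q) (w : WittVector p R) (hw : nd.cf q = verschiebung w) :
    D.Vinv q = D.Vinv ⟨nd.lam q, nd.lam_mem_Q q⟩ + w • D.F nd.tvec := by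
  have hmem : verschiebung w • nd.tvec ∈ D.Q := nd.smul_tvec_mem_Q (verschiebung_mem_IV p R w)
  have h1 : q = ⟨nd.lam q, nd.lam_mem_Q q⟩ + ⟨verschiebung w • nd.tvec, hmem⟩ := by
    apply Subtype.ext
    show (q : P) = nd.lam q + verschiebung w • nd.tvec
    rw [← hw]
    exact nd.decomp q
  conv_lhs => rw [h1, map_add]
  congr 1
  exact D.Vinv_verschiebung_smul w nd.tvec

section Ext

variable (r : ℕ)

/-- the idempotent `⋀^r λ` -/
noncomputable def rho : ⋀[WittVector p R]^r P →ₗ[WittVector p R] ⋀[WittVector p R]^r P :=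
  exteriorPower.map r nd.lam

theorem rho_ιMulti (x : Fin r → P) :
    nd.rho r (exteriorPower.ιMulti (WittVector p R) r x) =
      exteriorPower.ιMulti (WittVector p R) r (fun i => nd.lam (x i)) :=
  exteriorPower.map_apply_ιMulti nd.lam x

theorem rho_rho (x : ⋀[WittVector p R]^r P) : nd.rho r (nd.rho r x) = nd.rho r x := by
  have : nd.rho r ∘ₗ nd.rho r = nd.rho r := by
    rw [rho, ← exteriorPower.map_comp, nd.lam_comp_lam]
  exact LinearMap.congr_fun this x

theorem rho_idem : IsIdempotentElem (nd.rho r) :=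
  LinearMap.ext fun x => nd.rho_rho r x

/-- the wedge with `t` in slot `i` and `λ x j` elsewhere -/
noncomputable def zvec (x : Fin r → P) (i : Fin r) : ⋀[WittVector p R]^r P :=
  exteriorPower.ιMulti (WittVector p R) r (update (fun j => nd.lam (x j)) i nd.tvec)

theorem rho_zvec (x : Fin r → P) (i : Fin r) : nd.rho r (nd.zvec r x i) = 0 := by
  rw [zvec, rho_ιMulti]
  apply (exteriorPower.ιMulti (WittVector p R) r).map_coord_zero i
  rw [update_self, nd.lam_tvec]

theorem wedge_expand (x : Fin r → P) :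
    exteriorPower.ιMulti (WittVector p R) r x =
      exteriorPower.ιMulti (WittVector p R) r (fun i => nd.lam (x i)) +
        ∑ i, nd.cf (x i) • nd.zvec r x i := by
  have h := alt_expand (exteriorPower.ιMulti (WittVector p R) r) (fun i => nd.cf (x i)) nd.tvec
    (fun i => nd.lam (x i))
  have h2 : (fun i => nd.lam (x i) + nd.cf (x i) • nd.tvec) = x := by
    funext i; exact (nd.decomp (x i)).symm
  rw [h2] at h
  exact h

theorem sub_rho_wedge (x : Fin r → P) :
    exteriorPower.ιMulti (WittVector p R) r x -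
        nd.rho r (exteriorPower.ιMulti (WittVector p R) r x) =
      ∑ i, nd.cf (x i) • nd.zvec r x i := by
  rw [rho_ιMulti]
  conv_lhs => rw [nd.wedge_expand r x]
  abel

/-- The distinguished submodule of the exterior power. -/
noncomputable def EQ : Submodule (WittVector p R) (⋀[WittVector p R]^r P) :=
  Submodule.span (WittVector p R)
    (Set.range fun q : Fin r → D.Q => exteriorPower.ιMulti (WittVector p R) r (fun i => (q i : P)))

omit nd in
theorem wedge_mem_EQ (x : Fin r → P) (hx : ∀ i, x i ∈ D.Q) :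
    exteriorPower.ιMulti (WittVector p R) r x ∈ EQ (D := D) r :=
  Submodule.subset_span ⟨fun i => ⟨x i, hx i⟩, rfl⟩

theorem smul_zvec_mem_EQ (x : Fin r → P) (i : Fin r) (a : WittVector p R) (ha : a ∈ IV p R) :
    a • nd.zvec r x i ∈ EQ (D := D) r := by
  rw [zvec, ← AlternatingMap.map_update_smul]
  apply wedge_mem_EQ
  intro j
  by_cases hj : j = i
  · subst hj
    rw [update_self]
    exact nd.smul_tvec_mem_Q ha
  · rw [update_of_ne hj]
    exact nd.lam_mem_Q _

theorem rho_mem_EQ (x : ⋀[WittVector p R]^r P) : nd.rho r x ∈ EQ (D := D) r := by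
  have hx : x ∈ Submodule.span (WittVector p R)
      (Set.range (exteriorPower.ιMulti (WittVector p R) r (M := P))) := by
    rw [exteriorPower.ιMulti_span]; trivial
  induction hx using Submodule.span_induction with
  | mem y hy =>
    obtain ⟨v, rfl⟩ := hy
    rw [rho_ιMulti]
    exact wedge_mem_EQ r _ (fun i => nd.lam_mem_Q _)
  | zero => rw [map_zero]; exact zero_mem _
  | add y z _ _ hy hz => rw [map_add]; exact add_mem hy hz
  | smul c y _ hy => rw [map_smul]; exact Submodule.smul_mem _ _ hy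

theorem smul_sub_rho_mem_EQ (a : WittVector p R) (ha : a ∈ IV p R) (x : ⋀[WittVector p R]^r P) :
    a • (x - nd.rho r x) ∈ EQ (D := D) r := by
  have hx : x ∈ Submodule.span (WittVector p R)
      (Set.range (exteriorPower.ιMulti (WittVector p R) r (M := P))) := by
    rw [exteriorPower.ιMulti_span]; trivial
  induction hx using Submodule.span_induction with
  | mem y hy =>
    obtain ⟨v, rfl⟩ := hy
    rw [nd.sub_rho_wedge, Finset.smul_sum]
    refine Submodule.sum_mem _ fun i _ => ?_
    rw [smul_smul]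
    exact nd.smul_zvec_mem_EQ r v i _ ((IV p R).mul_mem_right _ ha)
  | zero => simp
  | add y z _ _ hy hz =>
    have : a • (y + z - nd.rho r (y + z)) = a • (y - nd.rho r y) + a • (z - nd.rho r z) := by
      rw [map_add, ← smul_add]; congr 1; abel
    rw [this]; exact add_mem hy hz
  | smul c y _ hy =>
    have : a • (c • y - nd.rho r (c • y)) = c • (a • (y - nd.rho r y)) := by
      simp only [map_smul, smul_sub]
      rw [smul_comm a c y, smul_comm a c]
    rw [this]; exact Submodule.smul_mem _ _ hy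

theorem EQ_eq : EQ (D := D) r =
    LinearMap.range (nd.rho r) ⊔ IV p R • LinearMap.ker (nd.rho r) := by
  apply le_antisymm
  · rw [EQ, Submodule.span_le]
    rintro _ ⟨q, rfl⟩
    rw [SetLike.mem_coe]
    beta_reduce
    rw [nd.wedge_expand r]
    refine Submodule.add_mem_sup ?_ ?_
    · exact ⟨_, nd.rho_ιMulti r _⟩
    · refine Submodule.sum_mem _ fun i _ => ?_
      exact Submodule.smul_mem_smul ((nd.mem_Q_iff _).1 (q i).2)
        (LinearMap.mem_ker.2 (nd.rho_zvec r _ i))
  · rw [sup_le_iff]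
    constructor
    · rintro _ ⟨x, rfl⟩
      exact nd.rho_mem_EQ r x
    · rw [Submodule.smul_le]
      intro a ha n hn
      have h1 : n = n - nd.rho r n := by rw [LinearMap.mem_ker.1 hn, sub_zero]
      rw [h1]
      exact nd.smul_sub_rho_mem_EQ r a ha n

theorem sub_rho_mem (x : ⋀[WittVector p R]^r P) (hx : x ∈ EQ (D := D) r) :
    x - nd.rho r x ∈ IV p R • (⊤ : Submodule (WittVector p R) (⋀[WittVector p R]^r P)) := by
  have hle : EQ (D := D) r ≤ Submodule.comap (LinearMap.id - nd.rho r)
      (IV p R • (⊤ : Submodule (WittVector p R) (⋀[WittVector p R]^r P))) := by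
    rw [EQ, Submodule.span_le]
    rintro _ ⟨q, rfl⟩
    rw [SetLike.mem_coe, Submodule.mem_comap, LinearMap.sub_apply, LinearMap.id_apply]
    beta_reduce
    rw [nd.sub_rho_wedge]
    refine Submodule.sum_mem _ fun i _ => ?_
    exact Submodule.smul_mem_smul ((nd.mem_Q_iff _).1 (q i).2) Submodule.mem_top
  exact hle hx

include nd in
theorem IV_smul_le_EQ :
    IV p R • (⊤ : Submodule (WittVector p R) (⋀[WittVector p R]^r P)) ≤ EQ (D := D) r := by
  rw [Submodule.smul_le]
  intro a ha x _
  have h1 : a • x = a • nd.rho r x + a • (x - nd.rho r x) := by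
    rw [← smul_add]; congr 1; abel
  rw [h1]
  exact add_mem (Submodule.smul_mem _ _ (nd.rho_mem_EQ r x)) (nd.smul_sub_rho_mem_EQ r a ha x)

end Ext

end NormalData

end Groth.Agent.Lib.Helper19ExtPowDisplay
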