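import Mathlib
import Groth.Prelude.Def_W4c1extbt610Disp
import Groth.Agent.Lib.Helper19ExtPowDisplay

/-!
# The exterior power of a 3n-display with tangent module free of rank one, II (helper19)
-/

set_option autoImplicit false
set_option linter.unusedSectionVars false
universe u v

namespace Groth.Agent.Lib.Helper19ExtPowDisplay

open WittVector W4c1extbt610 Groth.Agent.Lib.Helper19SemiExt Function

variable {p : ℕ} [hp : Fact p.Prime] {R : Type u} [CommRing R]
  {P : Type v} [AddCommGroup P] [Module (WittVector p R) P]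

namespace NormalData

variable {D : Display3n p R P} (nd : NormalData D) (r : ℕ)

/-- `⋀^r Φ` -/
noncomputable def G : ⋀[WittVector p R]^r P →ₛₗ[(frobenius : WittVector p R →+* WittVector p R)]
    ⋀[WittVector p R]^r P :=
  semiExt (frobenius : WittVector p R →+* WittVector p R) nd.Phi r

theorem G_ιMulti (x : Fin r → P) :
    nd.G r (exteriorPower.ιMulti (WittVector p R) r x) =
      exteriorPower.ιMulti (WittVector p R) r (fun i => nd.Phi (x i)) :=
  semiExt_ιMulti _ nd.Phi r x

theorem exists_Psi : ∃ Ψ : (IV p R • (⊤ : Submodule (WittVector p R) (⋀[WittVector p R]^r P)) :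
      Submodule (WittVector p R) (⋀[WittVector p R]^r P))
      →ₛₗ[(frobenius : WittVector p R →+* WittVector p R)] ⋀[WittVector p R]^r P,
    ∀ (w : WittVector p R) (z : ⋀[WittVector p R]^r P)
      (h : verschiebung w • z ∈ IV p R • (⊤ : Submodule (WittVector p R) (⋀[WittVector p R]^r P))),
      Ψ ⟨verschiebung w • z, h⟩ = w • nd.G r z := by
  haveI := D.finite
  haveI := D.projective
  haveI : Module.Projective (WittVector p R) (⋀[WittVector p R]^r P) := projective_exteriorPower r
  exact exists_divide (frobenius : WittVector p R →+* WittVector p R)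
    (verschiebung : WittVector p R →+ WittVector p R) (verschiebung_injective p R)
    (fun w c => (verschiebung_mul_frobenius w c).symm) (IV p R) mem_IV_iff (nd.G r)

/-- division by Verschiebung on `I • ⋀^r P` -/
noncomputable def Psi := Classical.choose (nd.exists_Psi r)

theorem Psi_spec (w : WittVector p R) (z : ⋀[WittVector p R]^r P)
    (h : verschiebung w • z ∈ IV p R • (⊤ : Submodule (WittVector p R) (⋀[WittVector p R]^r P))) :
    nd.Psi r ⟨verschiebung w • z, h⟩ = w • nd.G r z :=
  Classical.choose_spec (nd.exists_Psi r) w z h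

/-- `x ↦ x - ρ x` on `Q` -/
noncomputable def subRho : EQ (D := D) r →ₗ[WittVector p R]
    (IV p R • (⊤ : Submodule (WittVector p R) (⋀[WittVector p R]^r P)) :
      Submodule (WittVector p R) (⋀[WittVector p R]^r P)) :=
  LinearMap.codRestrict _ ((LinearMap.id - nd.rho r) ∘ₗ (EQ (D := D) r).subtype)
    (fun x => nd.sub_rho_mem r x.1 x.2)

theorem subRho_coe (x : EQ (D := D) r) : (nd.subRho r x : ⋀[WittVector p R]^r P) =
    (x : ⋀[WittVector p R]^r P) - nd.rho r x := rfl

/-- `V⁻¹` of the exterior power -/
noncomputable def VinvE : EQ (D := D) r →ₛₗ[(frobenius : WittVector p R →+* WittVector p R)]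
    ⋀[WittVector p R]^r P :=
  (nd.G r).comp ((nd.rho r) ∘ₗ (EQ (D := D) r).subtype) + (nd.Psi r).comp (nd.subRho r)

theorem VinvE_apply (x : EQ (D := D) r) :
    nd.VinvE r x = nd.G r (nd.rho r x) + nd.Psi r (nd.subRho r x) := rfl

/-- `F` of the exterior power -/
noncomputable def FE : ⋀[WittVector p R]^r P →ₛₗ[(frobenius : WittVector p R →+* WittVector p R)]
    ⋀[WittVector p R]^r P where
  toFun x := (p : WittVector p R) • nd.G r (nd.rho r x) + nd.G r (x - nd.rho r x)
  map_add' x y := by
    have : x + y - nd.rho r (x + y) = (x - nd.rho r x) + (y - nd.rho r y) := by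
      rw [map_add]; abel
    rw [this, map_add, map_add, map_add, smul_add]; abel
  map_smul' c x := by
    have : c • x - nd.rho r (c • x) = c • (x - nd.rho r x) := by
      rw [map_smul, smul_sub]
    rw [this, map_smul, map_smulₛₗ, map_smulₛₗ, smul_add, smul_comm]

theorem FE_apply (x : ⋀[WittVector p R]^r P) :
    nd.FE r x = (p : WittVector p R) • nd.G r (nd.rho r x) + nd.G r (x - nd.rho r x) := rfl

theorem VinvE_verschiebung (w : WittVector p R) (x : ⋀[WittVector p R]^r P)
    (h : verschiebung w • x ∈ EQ (D := D) r) :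
    nd.VinvE r ⟨verschiebung w • x, h⟩ = w • nd.FE r x := by
  have h' : verschiebung w • (x - nd.rho r x) ∈
      IV p R • (⊤ : Submodule (WittVector p R) (⋀[WittVector p R]^r P)) :=
    Submodule.smul_mem_smul (verschiebung_mem_IV p R w) Submodule.mem_top
  have hsub : nd.subRho r ⟨verschiebung w • x, h⟩ = ⟨verschiebung w • (x - nd.rho r x), h'⟩ := by
    apply Subtype.ext
    show verschiebung w • x - nd.rho r (verschiebung w • x) = verschiebung w • (x - nd.rho r x)
    rw [map_smul, smul_sub]
  rw [VinvE_apply, hsub, nd.Psi_spec, FE_apply]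
  show nd.G r (nd.rho r (verschiebung w • x)) + _ = _
  rw [map_smul, map_smulₛₗ, frobenius_verschiebung, smul_add, mul_smul]

theorem VinvE_wedge (q : Fin r → D.Q)
    (h : exteriorPower.ιMulti (WittVector p R) r (fun i => (q i : P)) ∈ EQ (D := D) r) :
    nd.VinvE r ⟨_, h⟩ = exteriorPower.ιMulti (WittVector p R) r (fun i => D.Vinv (q i)) := by
  classical
  set x : Fin r → P := fun i => (q i : P) with hx
  have hw : ∀ i, ∃ w, verschiebung w = nd.cf (x i) := fun i =>
    (mem_IV_iff _).1 ((nd.mem_Q_iff _).1 (q i).2)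
  choose w hw using hw
  set a : Fin r → P := fun i => D.Vinv ⟨nd.lam (x i), nd.lam_mem_Q (x i)⟩ with ha
  have hVq : ∀ i, D.Vinv (q i) = a i + w i • D.F nd.tvec := fun i =>
    nd.Vinv_eq (q i) (w i) (hw i).symm
  -- the first summand
  have h1 : nd.G r (nd.rho r (exteriorPower.ιMulti (WittVector p R) r x)) =
      exteriorPower.ιMulti (WittVector p R) r a := by
    rw [nd.rho_ιMulti, nd.G_ιMulti]
    congr 1
    funext i
    exact nd.Phi_lam (x i)
  -- `G` on the `z`'s
  have hGz : ∀ i, nd.G r (nd.zvec r x i) =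
      exteriorPower.ιMulti (WittVector p R) r (update a i (D.F nd.tvec)) := by
    intro i
    rw [zvec, nd.G_ιMulti]
    congr 1
    funext j
    by_cases hj : j = i
    · subst hj
      rw [update_self, update_self, nd.Phi_tvec]
    · rw [update_of_ne hj, update_of_ne hj]
      exact nd.Phi_lam (x j)
  -- the second summand
  have hmem : ∀ i, verschiebung (w i) • nd.zvec r x i ∈
      IV p R • (⊤ : Submodule (WittVector p R) (⋀[WittVector p R]^r P)) := fun i =>
    Submodule.smul_mem_smul (verschiebung_mem_IV p R (w i)) Submodule.mem_top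
  have hsub : nd.subRho r ⟨exteriorPower.ιMulti (WittVector p R) r x, h⟩ =
      ∑ i, (⟨verschiebung (w i) • nd.zvec r x i, hmem i⟩ :
        (IV p R • (⊤ : Submodule (WittVector p R) (⋀[WittVector p R]^r P)) :
          Submodule (WittVector p R) (⋀[WittVector p R]^r P))) := by
    apply Subtype.ext
    rw [subRho_coe, Submodule.coe_sum]
    show exteriorPower.ιMulti (WittVector p R) r x -
      nd.rho r (exteriorPower.ιMulti (WittVector p R) r x) = _
    rw [nd.sub_rho_wedge]
    refine Finset.sum_congr rfl fun i _ => ?_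
    rw [← hw i]
  have h2 : nd.Psi r (nd.subRho r ⟨exteriorPower.ιMulti (WittVector p R) r x, h⟩) =
      ∑ i, w i • exteriorPower.ιMulti (WittVector p R) r (update a i (D.F nd.tvec)) := by
    rw [hsub, map_sum]
    refine Finset.sum_congr rfl fun i _ => ?_
    rw [nd.Psi_spec, hGz]
  rw [VinvE_apply]
  show nd.G r (nd.rho r (exteriorPower.ιMulti (WittVector p R) r x)) + _ = _
  rw [h1, h2]
  have h3 : (fun i => D.Vinv (q i)) = fun i => a i + w i • D.F nd.tvec := funext hVq
  rw [h3, alt_expand]

/-- The exterior power 3n-display. -/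
noncomputable def extDisplay : Display3n p R (⋀[WittVector p R]^r P) where
  Q := EQ (D := D) r
  F := nd.FE r
  Vinv := nd.VinvE r
  finite := by
    have := D.finite
    infer_instance
  projective := by
    have := D.finite
    have := D.projective
    exact projective_exteriorPower r
  IV_smul_le := nd.IV_smul_le_EQ r
  exists_normal := ⟨LinearMap.range (nd.rho r), LinearMap.ker (nd.rho r),
    LinearMap.IsIdempotentElem.isCompl (nd.rho_idem r), nd.EQ_eq r⟩
  span_range_Vinv := by
    rw [eq_top_iff, ← exteriorPower.ιMulti_span_of_span (WittVector p R) r P D.span_range_Vinv,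
      Submodule.span_le]
    rintro _ ⟨a, ha, rfl⟩
    have hq : ∀ i, ∃ q : D.Q, D.Vinv q = a i := fun i => ha ⟨i, rfl⟩
    choose q hq using hq
    apply Submodule.subset_span
    refine ⟨⟨exteriorPower.ιMulti (WittVector p R) r (fun i => (q i : P)),
      wedge_mem_EQ r _ (fun i => (q i).2)⟩, ?_⟩
    rw [nd.VinvE_wedge r q]
    congr 1
    funext i
    exact hq i
  Vinv_verschiebung_smul := fun w x => nd.VinvE_verschiebung r w x _

theorem isExtPow : IsExtPow D r (nd.extDisplay r) :=
  ⟨rfl, fun q hq => nd.VinvE_wedge r q hq⟩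

end NormalData

/-- Uniqueness of the exterior power structure. -/
theorem eq_of_isExtPow {D : Display3n p R P} (r : ℕ)
    (E' E'' : Display3n p R (⋀[WittVector p R]^r P))
    (h' : IsExtPow D r E') (h'' : IsExtPow D r E'') : E' = E'' := by
  obtain ⟨Q', F', V', a1, a2, a3, a4, a5, a6⟩ := E'
  obtain ⟨Q'', F'', V'', b1, b2, b3, b4, b5, b6⟩ := E''
  obtain ⟨h1', h2'⟩ := h'
  obtain ⟨h1'', h2''⟩ := h''
  dsimp only at h1' h2' h1'' h2''
  subst h1'
  subst h1''
  have hV : V' = V'' := by
    apply LinearMap.ext_on Submodule.span_span_coe_preimage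
    rintro ⟨y, hy⟩ ⟨q, hq⟩
    subst hq
    rw [h2' q hy, h2'' q hy]
  subst hV
  have hF : F' = F'' := by
    apply LinearMap.ext
    intro x
    have e1 := a6 1 x
    have e2 := b6 1 x
    rw [one_smul] at e1 e2
    rw [← e1, ← e2]
  subst hF
  rfl

end Groth.Agent.Lib.Helper19ExtPowDisplay
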