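import Mathlib
import Groth.Agent.Lib.Helper19ExtPowBasis

/-!
# Normal decomposition of the exterior power of `P = L ⊕ T`, `T` free of rank one (helper19)
-/

set_option autoImplicit false
set_option linter.unusedSectionVars false
universe u v

namespace Groth.Agent.Lib.Helper19ExtPowBasis

open Module Submodule exteriorPower

variable {A : Type u} [CommRing A] [Nontrivial A] {P : Type v} [AddCommGroup P] [Module A P]

theorem exists_normal_extPow (𝔞 : Ideal A) (Q : Submodule A P) (m : ℕ)
    (L T : Submodule A P) (hLT : IsCompl L T) (hQ : Q = L ⊔ 𝔞 • T)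
    [Module.Free A L] [Module.Finite A L] (hLr : Module.finrank A L = m)
    (hT : Nonempty (T ≃ₗ[A] A)) (r : ℕ) (hr : 1 ≤ r) :
    ∃ L' T' : Submodule A (⋀[A]^r P), IsCompl L' T' ∧
      span A (Set.range fun q : Fin r → Q => ιMulti A r (fun i => (q i : P))) = L' ⊔ 𝔞 • T' ∧
      Module.Free A T' ∧ Module.finrank A T' = m.choose (r - 1) := by
  classical
  obtain ⟨e⟩ := hT
  let bT : Basis (Fin 1) A T := (Basis.singleton (Fin 1) A).map e.symm
  let bL : Basis (Fin m) A L := Module.finBasisOfFinrankEq A L hLr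
  let b₀ : Basis (Fin 1 ⊕ Fin m) A P :=
    (bT.prod bL).map (Submodule.prodEquivOfIsCompl T L hLT.symm)
  let b : Basis (Fin (1 + m)) A P := b₀.reindex finSumFinEquiv
  let i₀ : Fin (1 + m) := finSumFinEquiv (Sum.inl 0)
  let c : P →ₗ[A] A := (e : T →ₗ[A] A) ∘ₗ T.projectionOnto L hLT.symm
  let t₀ : T := e.symm 1
  have hc : ∀ x, b.repr x i₀ = c x := by
    intro x
    simp only [b, b₀, i₀, bT, Basis.repr_reindex_apply, Equiv.symm_apply_apply, Basis.map_repr,
      LinearEquiv.trans_apply, Basis.prod_repr_inl, c, LinearMap.comp_apply]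
    rw [Basis.singleton_repr]
    rfl
  have hcL : ∀ l ∈ L, c l = 0 := by
    intro l hl
    show e (T.projectionOnto L hLT.symm l) = 0
    rw [Submodule.projectionOnto_apply_of_mem_right hLT.symm hl, map_zero]
  have hcT : ∀ y ∈ T, y = c y • (t₀ : P) := by
    intro y hy
    have h1 : T.projectionOnto L hLT.symm y = ⟨y, hy⟩ :=
      Submodule.projectionOnto_apply_left hLT.symm ⟨y, hy⟩
    have h2 : (⟨y, hy⟩ : T) = c y • t₀ := by
      show _ = e (T.projectionOnto L hLT.symm y) • e.symm 1
      rw [h1, ← map_smul, smul_eq_mul, mul_one, LinearEquiv.symm_apply_apply]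
    exact congrArg Subtype.val h2
  have hcsmul : ∀ z ∈ 𝔞 • T, c z ∈ 𝔞 := by
    intro z hz
    refine Submodule.smul_induction_on hz ?_ ?_
    · intro a ha n _
      rw [map_smul, smul_eq_mul]
      exact 𝔞.mul_mem_right _ ha
    · intro u v hu hv
      rw [map_add]; exact 𝔞.add_mem hu hv
  have hQchar : ∀ x, x ∈ Q ↔ b.repr x i₀ ∈ 𝔞 := by
    intro x
    rw [hc, hQ]
    constructor
    · intro hx
      obtain ⟨l, hl, z, hz, rfl⟩ := Submodule.mem_sup.1 hx
      rw [map_add, hcL l hl, zero_add]
      exact hcsmul z hz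
    · intro hx
      have h1 := (Submodule.prodEquivOfIsCompl T L hLT.symm).apply_symm_apply x
      rw [Submodule.prodEquivOfIsCompl_symm_apply, Submodule.coe_prodEquivOfIsCompl'] at h1
      rw [← h1, add_comm]
      refine Submodule.add_mem_sup (Submodule.coe_mem _) ?_
      have h2 := hcT _ (Submodule.coe_mem (T.projectionOnto L hLT.symm x))
      rw [h2]
      have h3 : c (T.projectionOnto L hLT.symm x : P) = c x := by
        show e (T.projectionOnto L hLT.symm _) = e _
        rw [Submodule.projectionOnto_apply_left]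
      rw [h3]
      exact Submodule.smul_mem_smul hx (Submodule.coe_mem t₀)
  have hset : (Set.range fun q : Fin r → Q => ιMulti A r (fun i => (q i : P))) =
      wedges b i₀ 𝔞 r := by
    ext x
    constructor
    · rintro ⟨q, rfl⟩
      exact ⟨fun i => q i, fun i => (hQchar _).1 (q i).2, rfl⟩
    · rintro ⟨q, hq, rfl⟩
      exact ⟨fun i => ⟨q i, (hQchar _).2 (hq i)⟩, rfl⟩
  set B := b.exteriorPower r with hBdef
  set S : Set (Set.powersetCard (Fin (1 + m)) r) := {s | i₀ ∈ s} with hS
  refine ⟨span A (B '' Sᶜ), span A (B '' S), isCompl_span_image B S, ?_, ?_⟩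
  · rw [hset]
    exact span_wedges_eq b i₀ 𝔞 r
  · have hli : LinearIndependent A (fun s : S => B s) :=
      B.linearIndependent.comp Subtype.val Subtype.val_injective
    have hrange : B '' S = Set.range (fun s : S => B s) := Set.image_eq_range B S
    rw [hrange]
    let BT := Basis.span hli
    refine ⟨Module.Free.of_basis BT, ?_⟩
    rw [Module.finrank_eq_nat_card_basis BT]
    have := natCard_subtype_mem i₀ r hr
    rw [Fintype.card_fin, Nat.add_sub_cancel_left] at this
    exact this

end Groth.Agent.Lib.Helper19ExtPowBasis
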