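import Mathlib

/-!
# Exterior powers over `A` of a free `A/K`-module (helper19)

For `n ≥ 1`, `⋀[A]^n ((A/K)^r) ≃ₗ[A] (A/K)^(r choose n)`.
-/

set_option autoImplicit false
universe u
open Module

namespace Groth.Agent.Lib.Helper19ExtPowQuot

variable {A : Type u} [CommRing A] (K : Ideal A) (r n : ℕ)

/-- the standard basis of `(A/K)^r` over `A/K`. -/
noncomputable def bT : Basis (Fin r) (A ⧸ K) (Fin r → A ⧸ K) := Pi.basisFun _ _

/-- the wedge of the basis vectors indexed by `s`, in the exterior power over `A`. -/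
noncomputable def wA (s : Set.powersetCard (Fin r) n) : ⋀[A]^n (Fin r → A ⧸ K) :=
  exteriorPower.ιMulti_family A n (fun i => bT K r i) s

/-- the `A/K`-alternating coordinate map. -/
noncomputable def altT (s : Set.powersetCard (Fin r) n) :
    (Fin r → A ⧸ K) [⋀^Fin n]→ₗ[A ⧸ K] (A ⧸ K) :=
  (exteriorPower.ιMultiDual (A ⧸ K) n (bT K r) s).compAlternatingMap
    (exteriorPower.ιMulti (A ⧸ K) n)

/-- the same map, `A`-alternating. -/
noncomputable def altA (s : Set.powersetCard (Fin r) n) :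
    (Fin r → A ⧸ K) [⋀^Fin n]→ₗ[A] (A ⧸ K) :=
  { MultilinearMap.restrictScalars A (altT K r n s).toMultilinearMap with
    map_eq_zero_of_eq' := fun v i j h hij => (altT K r n s).map_eq_zero_of_eq v h hij }

theorem altA_apply (s : Set.powersetCard (Fin r) n) (v : Fin n → (Fin r → A ⧸ K)) :
    altA K r n s v = exteriorPower.ιMultiDual (A ⧸ K) n (bT K r) s
      (exteriorPower.ιMulti (A ⧸ K) n v) := rfl

/-- the coordinate functional `⋀[A]^n N → A/K`. -/
noncomputable def PhiS (s : Set.powersetCard (Fin r) n) :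
    ⋀[A]^n (Fin r → A ⧸ K) →ₗ[A] (A ⧸ K) :=
  exteriorPower.alternatingMapLinearEquiv (altA K r n s)

theorem PhiS_wA (s t : Set.powersetCard (Fin r) n) :
    PhiS K r n s (wA K r n t) = if s = t then 1 else 0 := by
  unfold PhiS wA
  rw [exteriorPower.ιMulti_family, exteriorPower.alternatingMapLinearEquiv_apply_ιMulti,
    altA_apply]
  show exteriorPower.ιMultiDual (A ⧸ K) n (bT K r) s
    (exteriorPower.ιMulti_family (A ⧸ K) n (bT K r) t) = _
  split_ifs with h
  · subst h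
    exact exteriorPower.ιMultiDual_apply_diag _ _ _ _
  · exact exteriorPower.ιMultiDual_apply_nondiag _ _ _ _ _ h

theorem smul_wA_eq_zero (hn : 1 ≤ n) (s : Set.powersetCard (Fin r) n) (k : A) (hk : k ∈ K) :
    k • wA K r n s = 0 := by
  unfold wA
  rw [exteriorPower.ιMulti_family]
  obtain ⟨m, rfl⟩ : ∃ m, n = m + 1 := ⟨n - 1, by omega⟩
  have h := (exteriorPower.ιMulti A (m + 1) (M := Fin r → A ⧸ K)).map_update_smul
    (fun i => bT K r (Set.powersetCard.ofFinEmbEquiv.symm s i)) 0 k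
    (bT K r (Set.powersetCard.ofFinEmbEquiv.symm s 0))
  rw [Function.update_eq_self] at h
  show k • exteriorPower.ιMulti A (m + 1)
    (fun i => bT K r (Set.powersetCard.ofFinEmbEquiv.symm s i)) = 0
  rw [← h]
  have hz : k • bT K r (Set.powersetCard.ofFinEmbEquiv.symm s 0) = 0 := by
    ext j
    rw [Pi.smul_apply, Pi.zero_apply]
    obtain ⟨a, ha⟩ := Ideal.Quotient.mk_surjective
      ((bT K r (Set.powersetCard.ofFinEmbEquiv.symm s 0)) j)
    rw [← ha]
    show k • (Ideal.Quotient.mk K a) = 0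
    rw [Algebra.smul_def]
    show Ideal.Quotient.mk K k * Ideal.Quotient.mk K a = 0
    rw [Ideal.Quotient.eq_zero_iff_mem.2 hk, zero_mul]
  rw [hz]
  exact (exteriorPower.ιMulti A (m + 1) (M := Fin r → A ⧸ K)).map_update_zero _ 0

/-- `t ↦ t • w_s`. -/
noncomputable def PsiS (hn : 1 ≤ n) (s : Set.powersetCard (Fin r) n) :
    (A ⧸ K) →ₗ[A] ⋀[A]^n (Fin r → A ⧸ K) :=
  Submodule.liftQ K (LinearMap.toSpanSingleton A _ (wA K r n s)) (by
    intro k hk
    rw [LinearMap.mem_ker, LinearMap.toSpanSingleton_apply]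
    exact smul_wA_eq_zero K r n hn s k hk)

theorem PsiS_mk (hn : 1 ≤ n) (s : Set.powersetCard (Fin r) n) (a : A) :
    PsiS K r n hn s (Ideal.Quotient.mk K a) = a • wA K r n s := rfl

/-- the map `(A/K)^S → ⋀[A]^n N`. -/
noncomputable def Psi (hn : 1 ≤ n) :
    (Set.powersetCard (Fin r) n → A ⧸ K) →ₗ[A] ⋀[A]^n (Fin r → A ⧸ K) :=
  ∑ s : Set.powersetCard (Fin r) n, (PsiS K r n hn s).comp (LinearMap.proj s)

theorem Psi_apply (hn : 1 ≤ n) (c : Set.powersetCard (Fin r) n → A ⧸ K) :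
    Psi K r n hn c = ∑ s : Set.powersetCard (Fin r) n, PsiS K r n hn s (c s) := by
  unfold Psi
  rw [LinearMap.sum_apply]
  rfl

theorem PhiS_PsiS (hn : 1 ≤ n) (s t : Set.powersetCard (Fin r) n) (x : A ⧸ K) :
    PhiS K r n s (PsiS K r n hn t x) = if s = t then x else 0 := by
  obtain ⟨a, rfl⟩ := Ideal.Quotient.mk_surjective x
  rw [PsiS_mk, map_smul, PhiS_wA]
  split_ifs with h
  · rw [Algebra.smul_def, mul_one]
    rfl
  · rw [smul_zero]

theorem PhiS_Psi (hn : 1 ≤ n) (s : Set.powersetCard (Fin r) n)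
    (c : Set.powersetCard (Fin r) n → A ⧸ K) : PhiS K r n s (Psi K r n hn c) = c s := by
  rw [Psi_apply, map_sum]
  simp only [PhiS_PsiS]
  rw [Finset.sum_eq_single s]
  · rw [if_pos rfl]
  · intro t _ ht
    rw [if_neg (Ne.symm ht)]
  · intro h
    exact absurd (Finset.mem_univ s) h

theorem Psi_injective (hn : 1 ≤ n) : Function.Injective (Psi K r n hn) := by
  intro c c' h
  funext s
  rw [← PhiS_Psi K r n hn s c, ← PhiS_Psi K r n hn s c', h]

theorem span_bT : Submodule.span A (Set.range (fun i => bT K r i)) = ⊤ := by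
  rw [eq_top_iff]
  intro v _
  have hv : v = ∑ i, (v i) • bT K r i := by
    have := (bT K r).sum_repr v
    simp only [bT, Pi.basisFun_repr] at this
    exact this.symm
  rw [hv]
  refine Submodule.sum_mem _ fun i _ => ?_
  obtain ⟨a, ha⟩ := Ideal.Quotient.mk_surjective (v i)
  have : (v i) • bT K r i = a • bT K r i := by
    rw [← ha]
    rfl
  rw [this]
  exact Submodule.smul_mem _ _ (Submodule.subset_span ⟨i, rfl⟩)

theorem Psi_surjective (hn : 1 ≤ n) : Function.Surjective (Psi K r n hn) := by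
  rw [← LinearMap.range_eq_top, eq_top_iff,
    ← exteriorPower.ιMulti_family_span_of_span A (span_bT K r) (n := n), Submodule.span_le]
  rintro _ ⟨s, rfl⟩
  refine ⟨Pi.single s 1, ?_⟩
  rw [Psi_apply, Finset.sum_eq_single s]
  · rw [Pi.single_eq_same]
    have : (1 : A ⧸ K) = Ideal.Quotient.mk K 1 := rfl
    rw [this, PsiS_mk, one_smul]
    rfl
  · intro t _ ht
    rw [Pi.single_eq_of_ne ht, map_zero]
  · intro h
    exact absurd (Finset.mem_univ s) h

/-- **`⋀[A]^n ((A/K)^r) ≃ (A/K)^(r choose n)` for `n ≥ 1`.** -/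
theorem nonempty_equiv (hn : 1 ≤ n) :
    Nonempty ((⋀[A]^n (Fin r → A ⧸ K)) ≃ₗ[A] (Fin (r.choose n) → A ⧸ K)) := by
  let e1 : (Set.powersetCard (Fin r) n → A ⧸ K) ≃ₗ[A] ⋀[A]^n (Fin r → A ⧸ K) :=
    LinearEquiv.ofBijective (Psi K r n hn) ⟨Psi_injective K r n hn, Psi_surjective K r n hn⟩
  have hcard : Nat.card (Set.powersetCard (Fin r) n) = r.choose n := by
    rw [Set.powersetCard.card, Nat.card_eq_fintype_card, Fintype.card_fin]
  let e2 : Set.powersetCard (Fin r) n ≃ Fin (r.choose n) := Finite.equivFinOfCardEq hcard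
  exact ⟨e1.symm ≪≫ₗ LinearEquiv.funCongrLeft A (A ⧸ K) e2.symm⟩

end Groth.Agent.Lib.Helper19ExtPowQuot
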