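import Groth.Agent.Lib.Helper19KosLoc
import Groth.Agent.Lib.Helper19CotTReg
import Groth.Agent.Lib.Helper5RegImmAlg

/-!
# `H₂` of the Lichtenbaum–Schlessinger complex is torsion over a reduced quotient of a regular ring

For a presentation `R → B` with `R` regular and `B` reduced, every element of `ker d₂` is killed
by an element outside any given minimal prime of `B`; hence every linear map `L₂ → B` kills
`ker d₂`.
-/

set_option autoImplicit false
set_option linter.unusedSectionVars false
set_option linter.style.haveILetI false
universe u v t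

open TensorProduct

namespace Groth.Agent.Lib.Helper19.ExtTwo

open Groth.Agent.Lib.Helper19.Kos

section abstract

variable {S : Type u} {B : Type v} [CommRing S] [CommRing B] [Algebra S B] {σ : Type t}
  {f : σ → S} (hf : ∀ s, algebraMap S B (f s) = 0)

include hf in
/-- elements of `ker d₂` are killed by an element outside `p` if `H₂` vanishes after localizing
at `p` -/
theorem exists_smul_eq_zero_of_H2Zero_loc (hsurj : Function.Surjective (algebraMap S B))
    (hker : RingHom.ker (algebraMap S B) = Ideal.span (Set.range f))
    (p : Ideal S) [p.IsPrime]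
    (h : H2Zero (Localization.AtPrime p) (locf (Localization.AtPrime p) f))
    (z : L2 S B f) (hz : d2 hf z = 0) :
    ∃ w ∈ p.primeCompl, algebraMap S B w • z = 0 := by
  obtain ⟨t, rfl⟩ := Submodule.Quotient.mk_surjective _ z
  obtain ⟨q, rfl⟩ := TensorProduct.mk_surjective S (Q S f) B hsurj t
  rw [TensorProduct.mk_apply, d2_mk_tmul] at hz
  have h1 := (Groth.Agent.Lib.Helper10.one_tmul_eq_zero_iff_of_surjective hsurj
    (q : σ →₀ S)).mp hz
  rw [hker] at h1
  have h2 : locF (Localization.AtPrime p) (q : σ →₀ S) ∈ Q (Localization.AtPrime p)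
      (locf (Localization.AtPrime p) f) := τF_mem_Q (locF_hv _ f) q.2
  have h3 := h _ h2 (locF_mem_smul_top (Localization.AtPrime p) f _ h1)
  obtain ⟨w, hw, hwx⟩ := exists_smul_mem_F0 p.primeCompl (Localization.AtPrime p) f _ h3
  refine ⟨w, hw, ?_⟩
  have h4 : mk2 (B := B) (w • q) = 0 := mk2_eq_zero_of_mem_F0 hf (w • q) hwx
  rw [mk2_smul] at h4
  exact h4

end abstract

section field

/-- the localization of a reduced ring at a minimal prime is a regular local ring (a field) -/
theorem isRegularLocalRing_of_minimal {B : Type u} [CommRing B] [IsReduced B] (q : Ideal B)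
    [q.IsPrime] (hq : q ∈ minimalPrimes B) : IsRegularLocalRing (Localization.AtPrime q) := by
  have hdim : ringKrullDim (Localization.AtPrime q) = 0 := by
    rw [IsLocalization.AtPrime.ringKrullDim_eq_height q, Ideal.height_eq_zero_iff.mpr hq]
    rfl
  haveI : Ring.KrullDimLE 0 (Localization.AtPrime q) := by
    rw [Ring.krullDimLE_iff, hdim]
    rfl
  have hF : IsField (Localization.AtPrime q) := Ring.KrullDimLE.isField_of_isReduced
  letI := hF.toField
  infer_instance

end field

section presentation

variable {A B : Type u} [CommRing A] [CommRing B] [Algebra A B] {ι : Type u} {σ : Type t}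
  (P : Algebra.Presentation A B ι σ)

/-- over a regular ambient ring, `H₂` vanishes at the preimage of a prime of `B` at which `B` is
regular -/
theorem H2Zero_at [IsRegularRing P.toExtension.Ring] (q : Ideal B) [q.IsPrime]
    [IsRegularLocalRing (Localization.AtPrime q)] :
    H2Zero (Localization.AtPrime (q.comap (algebraMap P.toExtension.Ring B)))
      (locf (Localization.AtPrime (q.comap (algebraMap P.toExtension.Ring B))) (CotT.rel P)) := by
  have hsurj : Function.Surjective (algebraMap P.toExtension.Ring B) := P.algebraMap_surjective
  have hker : RingHom.ker (algebraMap P.toExtension.Ring B) =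
      Ideal.span (Set.range (CotT.rel P)) := P.span_range_relation_eq_ker.symm
  have hπ := RingHom.surjective_localRingHom_of_surjective
    (algebraMap P.toExtension.Ring B) hsurj q
  obtain ⟨rs, hrs, hkrs⟩ := Groth.Agent.Lib.Helper5.RegImmAlg.exists_regular_ker_of_surjective
    (Localization.localRingHom (q.comap (algebraMap P.toExtension.Ring B)) q
      (algebraMap P.toExtension.Ring B) rfl) hπ
  have hT := Ideal.map_primeCompl_comap_of_surjective (algebraMap P.toExtension.Ring B) hsurj q
  have hk2 := IsLocalization.ker_map
    (S := Localization.AtPrime (q.comap (algebraMap P.toExtension.Ring B)))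
    (Localization.AtPrime q) (algebraMap P.toExtension.Ring B) hT
  refine H2Zero_of_isWeaklyRegular rs.get (by rw [List.ofFn_get]; exact hrs.toIsWeaklyRegular) ?_
  rw [Set.range_list_get]
  have h3 : Ideal.span {x | x ∈ rs} = Ideal.ofList rs := rfl
  have h1 : Ideal.span (Set.range (locf (Localization.AtPrime
      (q.comap (algebraMap P.toExtension.Ring B))) (CotT.rel P))) =
      (Ideal.span (Set.range (CotT.rel P))).map
        (algebraMap P.toExtension.Ring (Localization.AtPrime
          (q.comap (algebraMap P.toExtension.Ring B)))) := by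
    rw [Ideal.map_span, ← Set.range_comp]
    rfl
  rw [h3, ← hkrs, h1, ← hker]
  exact hk2

/-- every linear map `L₂ → B` kills `ker d₂` when `B` is reduced and the ambient ring regular -/
theorem apply_eq_zero_of_d2_eq_zero [IsRegularRing P.toExtension.Ring] [IsReduced B]
    (ψ : CotT.L2 P →ₗ[B] B) (z : CotT.L2 P) (hz : CotT.d2 P z = 0) : ψ z = 0 := by
  have hsurj : Function.Surjective (algebraMap P.toExtension.Ring B) := P.algebraMap_surjective
  have hker : RingHom.ker (algebraMap P.toExtension.Ring B) =
      Ideal.span (Set.range (CotT.rel P)) := P.span_range_relation_eq_ker.symm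
  have hmem : ψ z ∈ nilradical B := by
    rw [nilradical, ← Ideal.sInf_minimalPrimes, Ideal.mem_sInf]
    intro q hq
    haveI : q.IsPrime := hq.1.1
    haveI := isRegularLocalRing_of_minimal q hq
    obtain ⟨w, hw, hwz⟩ := exists_smul_eq_zero_of_H2Zero_loc (CotT.algebraMap_rel P) hsurj hker
      (q.comap (algebraMap P.toExtension.Ring B)) (H2Zero_at P q) z hz
    have h0 : algebraMap P.toExtension.Ring B w • z = 0 := hwz
    have h1 : algebraMap P.toExtension.Ring B w • ψ z = 0 := by
      rw [← map_smul, h0, map_zero]
    rw [smul_eq_mul] at h1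
    have h2 : algebraMap P.toExtension.Ring B w * ψ z ∈ q := by rw [h1]; exact q.zero_mem
    rcases (inferInstance : q.IsPrime).mem_or_mem h2 with h | h
    · exact absurd h hw
    · exact h
  rw [nilradical_eq_zero, Ideal.zero_eq_bot, Ideal.mem_bot] at hmem
  exact hmem

end presentation

end Groth.Agent.Lib.Helper19.ExtTwo
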