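import Mathlib

/-! Flat base change for `Ext` of a finite module over a Noetherian ring (helper8). -/

set_option autoImplicit false
universe u
open CategoryTheory CategoryTheory.Abelian TensorProduct

namespace Groth.Agent.Lib.Helper8.ExtBC

section Lin

/-- Two cokernels of compatible maps are isomorphic. -/
theorem nonempty_equiv_of_exact {B : Type*} [CommRing B] {X₂ X₁ X₀ X₂' X₁' X₀' : Type*}
    [AddCommGroup X₂] [Module B X₂] [AddCommGroup X₁] [Module B X₁] [AddCommGroup X₀] [Module B X₀]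
    [AddCommGroup X₂'] [Module B X₂'] [AddCommGroup X₁'] [Module B X₁']
    [AddCommGroup X₀'] [Module B X₀']
    (f : X₂ →ₗ[B] X₁) (g : X₁ →ₗ[B] X₀) (hfg : Function.Exact f g) (hg : Function.Surjective g)
    (f' : X₂' →ₗ[B] X₁') (g' : X₁' →ₗ[B] X₀') (hfg' : Function.Exact f' g')
    (hg' : Function.Surjective g')
    (e₂ : X₂ ≃ₗ[B] X₂') (e₁ : X₁ ≃ₗ[B] X₁') (h : ∀ x, e₁ (f x) = f' (e₂ x)) :
    Nonempty (X₀ ≃ₗ[B] X₀') := by
  have hk : LinearMap.ker g = LinearMap.range f := hfg.linearMap_ker_eq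
  have hk' : LinearMap.ker g' = LinearMap.range f' := hfg'.linearMap_ker_eq
  have hmap : (LinearMap.ker g).map (e₁ : X₁ →ₗ[B] X₁') = LinearMap.ker g' := by
    rw [hk, hk']
    apply le_antisymm
    · rintro _ ⟨_, ⟨x, rfl⟩, rfl⟩
      exact ⟨e₂ x, (h x).symm⟩
    · rintro _ ⟨x', rfl⟩
      refine ⟨f (e₂.symm x'), ⟨_, rfl⟩, ?_⟩
      show e₁ (f (e₂.symm x')) = f' x'
      rw [h, LinearEquiv.apply_symm_apply]
  exact ⟨(g.quotKerEquivOfSurjective hg).symm ≪≫ₗ
    Submodule.Quotient.equiv _ _ e₁ hmap ≪≫ₗ g'.quotKerEquivOfSurjective hg'⟩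

end Lin

section ExtGen

variable {R : Type u} [CommRing R]
variable (Sh : ShortComplex (ModuleCat.{u} R)) (hSh : Sh.ShortExact) (Y : ModuleCat.{u} R)

/-- restriction along `Sh.f` on `Ext^0`. -/
noncomputable abbrev fStar : Ext.{u} Sh.X₂ Y 0 →ₗ[R] Ext.{u} Sh.X₁ Y 0 :=
  Ext.precompOfLinear (Ext.mk₀ Sh.f) R Y (zero_add 0)

/-- the connecting map as a linear map. -/
noncomputable abbrev δ (n m : ℕ) (h : 1 + n = m) : Ext.{u} Sh.X₁ Y n →ₗ[R] Ext.{u} Sh.X₃ Y m :=
  Ext.precompOfLinear hSh.extClass R Y h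

theorem exact_fStar_δ : Function.Exact (fStar Sh Y) (δ Sh hSh Y 0 1 (add_zero 1)) := by
  intro x₁
  constructor
  · intro hx
    obtain ⟨x₂, hx₂⟩ := Ext.contravariant_sequence_exact₁ hSh Y x₁ (add_zero 1) hx
    exact ⟨x₂, hx₂⟩
  · rintro ⟨x₂, rfl⟩
    show hSh.extClass.comp ((Ext.mk₀ Sh.f).comp x₂ (zero_add 0)) (add_zero 1) = 0
    rw [← Ext.comp_assoc (a₁₂ := 1) _ _ _ (add_zero 1) (zero_add 0) (by omega),
      hSh.extClass_comp, Ext.zero_comp]

theorem δ_surjective [Projective Sh.X₂] (n : ℕ) :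
    Function.Surjective (δ Sh hSh Y n (n + 1) (add_comm 1 n)) := by
  intro x₃
  have h0 : (Ext.mk₀ Sh.g).comp x₃ (zero_add (n + 1)) = 0 := Ext.eq_zero_of_projective _
  obtain ⟨x₁, hx₁⟩ := Ext.contravariant_sequence_exact₃ hSh Y x₃ h0 (add_comm 1 n)
  exact ⟨x₁, hx₁⟩

theorem δ_injective [Projective Sh.X₂] (n : ℕ) :
    Function.Injective (δ Sh hSh Y (n + 1) (n + 2) (add_comm 1 (n + 1))) := by
  rw [← LinearMap.ker_eq_bot, LinearMap.ker_eq_bot']
  intro x₁ hx
  obtain ⟨x₂, hx₂⟩ := Ext.contravariant_sequence_exact₁ hSh Y x₁ (add_comm 1 (n + 1)) hx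
  rw [← hx₂, Ext.eq_zero_of_projective x₂, Ext.comp_zero]

/-- dimension shifting as a linear equivalence. -/
noncomputable def δEquiv [Projective Sh.X₂] (n : ℕ) :
    Ext.{u} Sh.X₁ Y (n + 1) ≃ₗ[R] Ext.{u} Sh.X₃ Y (n + 2) :=
  LinearEquiv.ofBijective (δ Sh hSh Y (n + 1) (n + 2) (add_comm 1 (n + 1)))
    ⟨δ_injective Sh hSh Y n, δ_surjective Sh hSh Y (n + 1)⟩

end ExtGen

section Main

variable (A B : Type u) [CommRing A] [CommRing B] [Algebra A B] [Module.Flat A B]
  (N : Type u) [AddCommGroup N] [Module A N]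

/-- `Ext^0` as linear maps. -/
noncomputable def ext0 {R : Type u} [CommRing R] (X Y : ModuleCat.{u} R) :
    Ext.{u} X Y 0 ≃ₗ[R] (X →ₗ[R] Y) :=
  (Ext.linearEquiv₀ (R := R)).trans (ModuleCat.homLinearEquiv (S := R))

theorem ext0_symm_apply {R : Type u} [CommRing R] (X Y : ModuleCat.{u} R) (φ : X →ₗ[R] Y) :
    (ext0 X Y).symm φ = Ext.mk₀ (ModuleCat.ofHom φ) := rfl

theorem ext0_mk₀ {R : Type u} [CommRing R] (X Y : ModuleCat.{u} R) (φ : X ⟶ Y) :
    ext0 X Y (Ext.mk₀ φ) = φ.hom := by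
  rw [← LinearEquiv.eq_symm_apply, ext0_symm_apply]
  rfl

/-- base change in degree `0`. -/
noncomputable def e₀ (M : Type u) [AddCommGroup M] [Module A M] [Module.FinitePresentation A M] :
    (B ⊗[A] Ext.{u} (ModuleCat.of A M) (ModuleCat.of A N) 0) ≃ₗ[B]
      Ext.{u} (ModuleCat.of B (B ⊗[A] M)) (ModuleCat.of B (B ⊗[A] N)) 0 :=
  (LinearEquiv.baseChange A B _ _ (ext0 (ModuleCat.of A M) (ModuleCat.of A N))).trans
    ((Module.FinitePresentation.isBaseChange_map A M N B).equiv.trans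
      (ext0 (ModuleCat.of B (B ⊗[A] M)) (ModuleCat.of B (B ⊗[A] N))).symm)

theorem e₀_tmul_mk₀ (M : Type u) [AddCommGroup M] [Module A M] [Module.FinitePresentation A M]
    (b : B) (φ : ModuleCat.of A M ⟶ ModuleCat.of A N) :
    e₀ A B N M (b ⊗ₜ Ext.mk₀ φ) =
      Ext.mk₀ (ModuleCat.ofHom (b • φ.hom.baseChange B)) := by
  unfold e₀
  rw [LinearEquiv.trans_apply, LinearEquiv.trans_apply, LinearEquiv.baseChange_tmul, ext0_mk₀,
    IsBaseChange.equiv_tmul, ext0_symm_apply]
  rfl

theorem e₀_natural (M M' : Type u) [AddCommGroup M] [Module A M] [Module.FinitePresentation A M]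
    [AddCommGroup M'] [Module A M'] [Module.FinitePresentation A M'] (h : M' →ₗ[A] M)
    (x : B ⊗[A] Ext.{u} (ModuleCat.of A M) (ModuleCat.of A N) 0) :
    e₀ A B N M' ((Ext.precompOfLinear (Ext.mk₀ (ModuleCat.ofHom h)) A (ModuleCat.of A N)
        (zero_add 0)).baseChange B x) =
      Ext.precompOfLinear (Ext.mk₀ (ModuleCat.ofHom (h.baseChange B))) B
        (ModuleCat.of B (B ⊗[A] N)) (zero_add 0) (e₀ A B N M x) := by
  induction x using TensorProduct.induction_on with
  | zero => simp only [map_zero]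
  | add x y hx hy => simp only [map_add, hx, hy]
  | tmul b x₀ =>
    obtain ⟨φ, rfl⟩ := (Ext.mk₀_bijective _ _).2 x₀
    rw [LinearMap.baseChange_tmul, e₀_tmul_mk₀]
    show e₀ A B N M' (b ⊗ₜ[A] (Ext.mk₀ (ModuleCat.ofHom h)).comp (Ext.mk₀ φ) (zero_add 0)) =
      (Ext.mk₀ (ModuleCat.ofHom (h.baseChange B))).comp
        (Ext.mk₀ (ModuleCat.ofHom (b • φ.hom.baseChange B))) (zero_add 0)
    rw [Ext.mk₀_comp_mk₀, Ext.mk₀_comp_mk₀, e₀_tmul_mk₀]
    congr 1
    apply ModuleCat.hom_ext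
    simp only [ModuleCat.hom_comp, ModuleCat.hom_ofHom, LinearMap.baseChange_comp,
      LinearMap.smul_comp]

section SC

variable {M F : Type u} [AddCommGroup M] [Module A M] [AddCommGroup F] [Module A F]
  (p : F →ₗ[A] M)

/-- the base change of `ker p → F → M`. -/
noncomputable abbrev bcSC : ShortComplex (ModuleCat.{u} B) :=
  ShortComplex.mk (ModuleCat.ofHom ((LinearMap.ker p).subtype.baseChange B))
    (ModuleCat.ofHom (p.baseChange B)) (by
      apply ModuleCat.hom_ext
      rw [ModuleCat.hom_comp, ModuleCat.hom_ofHom, ModuleCat.hom_ofHom,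
        ← LinearMap.baseChange_comp]
      have : p ∘ₗ (LinearMap.ker p).subtype = 0 := by
        apply LinearMap.ext
        intro x
        exact x.2
      rw [this, LinearMap.baseChange_zero]
      rfl)

theorem bcSC_shortExact (hp : Function.Surjective p) : (bcSC A B p).ShortExact := by
  refine ShortComplex.ShortExact.mk' ((ShortComplex.moduleCat_exact_iff _).mpr ?_)
    ((ModuleCat.mono_iff_injective _).mpr ?_) ((ModuleCat.epi_iff_surjective _).mpr ?_)
  · intro x hx
    have hex : Function.Exact (LinearMap.ker p).subtype p := LinearMap.exact_subtype_ker_map p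
    have h2 := lTensor_exact B hex hp
    have hx' : (p.lTensor B) x = 0 := by
      have : (p.baseChange B) x = 0 := hx
      rwa [LinearMap.baseChange_eq_ltensor] at this
    obtain ⟨y, hy⟩ := (h2 x).mp hx'
    refine ⟨y, ?_⟩
    show ((LinearMap.ker p).subtype.baseChange B) y = x
    rw [LinearMap.baseChange_eq_ltensor]
    exact hy
  · show Function.Injective ((LinearMap.ker p).subtype.baseChange B)
    rw [LinearMap.baseChange_eq_ltensor]
    exact Module.Flat.lTensor_preserves_injective_linearMap _ (LinearMap.ker p).injective_subtype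
  · show Function.Surjective (p.baseChange B)
    rw [LinearMap.baseChange_eq_ltensor]
    exact LinearMap.lTensor_surjective B hp

end SC

/-- the statement in degree `r`. -/
def P (r : ℕ) : Prop :=
  ∀ (M : Type u) [AddCommGroup M] [Module A M] [Module.Finite A M],
    Nonempty ((B ⊗[A] Ext.{u} (ModuleCat.of A M) (ModuleCat.of A N) r) ≃ₗ[B]
      Ext.{u} (ModuleCat.of B (B ⊗[A] M)) (ModuleCat.of B (B ⊗[A] N)) r)

variable [IsNoetherianRing A]

theorem P_zero : P A B N 0 := by
  intro M _ _ _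
  have := Module.finitePresentation_of_finite A M
  exact ⟨e₀ A B N M⟩

theorem P_one : P A B N 1 := by
  intro M _ _ _
  obtain ⟨b, p, hp⟩ := Module.Finite.exists_fin' A M
  let Sh := p.shortComplexKer
  have hSh : Sh.ShortExact := LinearMap.shortExact_shortComplexKer hp
  let Sh' := bcSC A B p
  have hSh' : Sh'.ShortExact := bcSC_shortExact A B p hp
  have : Projective Sh.X₂ := (inferInstance : Projective (ModuleCat.of A (Fin b → A)))
  have : Projective Sh'.X₂ :=
    (inferInstance : Projective (ModuleCat.of B (B ⊗[A] (Fin b → A))))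
  have hK : Module.FinitePresentation A (LinearMap.ker p) :=
    Module.finitePresentation_of_finite A _
  have hF : Module.FinitePresentation A (Fin b → A) := Module.finitePresentation_of_finite A _
  let Y := ModuleCat.of A N
  let Y' := ModuleCat.of B (B ⊗[A] N)
  refine nonempty_equiv_of_exact ((fStar Sh Y).baseChange B)
    ((δ Sh hSh Y 0 1 (add_zero 1)).baseChange B) ?_ ?_
    (fStar Sh' Y') (δ Sh' hSh' Y' 0 1 (add_zero 1)) (exact_fStar_δ Sh' hSh' Y')
    (δ_surjective Sh' hSh' Y' 0)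
    (e₀ A B N (Fin b → A)) (e₀ A B N (LinearMap.ker p)) ?_
  · rw [LinearMap.baseChange_eq_ltensor, LinearMap.baseChange_eq_ltensor]
    exact lTensor_exact B (exact_fStar_δ Sh hSh Y) (δ_surjective Sh hSh Y 0)
  · rw [LinearMap.baseChange_eq_ltensor]
    exact LinearMap.lTensor_surjective B (δ_surjective Sh hSh Y 0)
  · intro x
    exact e₀_natural A B N (Fin b → A) (LinearMap.ker p) (LinearMap.ker p).subtype x

theorem P_succ (n : ℕ) (ih : P A B N (n + 1)) : P A B N (n + 2) := by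
  intro M _ _ _
  obtain ⟨b, p, hp⟩ := Module.Finite.exists_fin' A M
  let Sh := p.shortComplexKer
  have hSh : Sh.ShortExact := LinearMap.shortExact_shortComplexKer hp
  let Sh' := bcSC A B p
  have hSh' : Sh'.ShortExact := bcSC_shortExact A B p hp
  have : Projective Sh.X₂ := (inferInstance : Projective (ModuleCat.of A (Fin b → A)))
  have : Projective Sh'.X₂ :=
    (inferInstance : Projective (ModuleCat.of B (B ⊗[A] (Fin b → A))))
  let Y := ModuleCat.of A N
  let Y' := ModuleCat.of B (B ⊗[A] N)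
  obtain ⟨e⟩ := ih (LinearMap.ker p)
  exact ⟨(LinearEquiv.baseChange A B _ _ (δEquiv Sh hSh Y n).symm).trans
    (e.trans (δEquiv Sh' hSh' Y' n))⟩

/-- **Flat base change for `Ext`**. -/
theorem ext_baseChange (r : ℕ) : P A B N r := by
  cases r with
  | zero => exact P_zero A B N
  | succ n =>
    induction n with
    | zero => exact P_one A B N
    | succ n ih => exact P_succ A B N n ih

end Main

end Groth.Agent.Lib.Helper8.ExtBC
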