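import Mathlib
import Groth.Agent.Lib.Helper8ExtBC

/-!
# `Ext¹` of the cokernel of a map into a projective module

For an exact sequence `L₂ --d--> L₁ --c--> C → 0` of modules with `L₁` projective, and a module
`Y` such that every map `L₂ → Y` kills `ker d`, the quotient `Hom(L₂, Y)/Hom(L₁, Y)∘d` is
`Ext¹(C, Y)`.
-/

set_option autoImplicit false
set_option linter.unusedSectionVars false
universe u

open CategoryTheory CategoryTheory.Abelian

namespace Groth.Agent.Lib.Helper19.ExtTwo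

open Groth.Agent.Lib.Helper8.ExtBC

variable {B : Type u} [CommRing B] {L2 L1 C Y : Type u} [AddCommGroup L2] [Module B L2]
  [AddCommGroup L1] [Module B L1] [AddCommGroup C] [Module B C] [AddCommGroup Y] [Module B Y]
  (d : L2 →ₗ[B] L1) (c : L1 →ₗ[B] C)

/-- `d` corestricted to `ker c` -/
noncomputable def dK (hex : Function.Exact d c) : L2 →ₗ[B] LinearMap.ker c :=
  d.codRestrict (LinearMap.ker c) (fun z => (hex (d z)).mpr ⟨z, rfl⟩)

lemma dK_surjective (hex : Function.Exact d c) : Function.Surjective (dK d c hex) := by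
  rintro ⟨x, hx⟩
  obtain ⟨z, rfl⟩ := (hex x).mp hx
  exact ⟨z, rfl⟩

lemma lcomp_dK_injective (hex : Function.Exact d c) :
    Function.Injective (LinearMap.lcomp B Y (dK d c hex)) := by
  intro χ χ' h
  refine LinearMap.ext fun x => ?_
  obtain ⟨z, rfl⟩ := dK_surjective d c hex x
  exact LinearMap.congr_fun h z

lemma lcomp_dK_surjective (hex : Function.Exact d c)
    (hkill : ∀ (ψ : L2 →ₗ[B] Y) (z : L2), d z = 0 → ψ z = 0) :
    Function.Surjective (LinearMap.lcomp B Y (dK d c hex)) := by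
  intro ψ
  have hle : LinearMap.ker (dK d c hex) ≤ LinearMap.ker ψ := by
    intro z hz
    rw [LinearMap.mem_ker] at hz ⊢
    exact hkill ψ z (congrArg Subtype.val hz)
  let e := (dK d c hex).quotKerEquivOfSurjective (dK_surjective d c hex)
  refine ⟨(Submodule.liftQ _ ψ hle) ∘ₗ e.symm.toLinearMap, ?_⟩
  refine LinearMap.ext fun z => ?_
  show Submodule.liftQ _ ψ hle (e.symm (dK d c hex z)) = ψ z
  have : e.symm (dK d c hex z) = Submodule.Quotient.mk z := by
    rw [LinearEquiv.symm_apply_eq]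
    rfl
  rw [this, Submodule.liftQ_apply]

/-- restriction equivalence `Hom(ker c, Y) ≃ Hom(L₂, Y)` -/
noncomputable def resEquiv (hex : Function.Exact d c)
    (hkill : ∀ (ψ : L2 →ₗ[B] Y) (z : L2), d z = 0 → ψ z = 0) :
    (LinearMap.ker c →ₗ[B] Y) ≃ₗ[B] (L2 →ₗ[B] Y) :=
  LinearEquiv.ofBijective (LinearMap.lcomp B Y (dK d c hex))
    ⟨lcomp_dK_injective d c hex, lcomp_dK_surjective d c hex hkill⟩

lemma resEquiv_apply (hex : Function.Exact d c)
    (hkill : ∀ (ψ : L2 →ₗ[B] Y) (z : L2), d z = 0 → ψ z = 0) (χ : LinearMap.ker c →ₗ[B] Y) :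
    resEquiv d c hex hkill χ = χ ∘ₗ dK d c hex := rfl

/-- the short complex `0 → ker c → L₁ → C → 0` -/
noncomputable def shortCx (hc : Function.Surjective c) : ShortComplex (ModuleCat.{u} B) :=
  ShortComplex.mk (ModuleCat.ofHom (LinearMap.ker c).subtype) (ModuleCat.ofHom c) (by
    ext x
    exact x.2)

lemma shortCx_shortExact (hc : Function.Surjective c) : (shortCx c hc).ShortExact := by
  refine ShortComplex.ShortExact.mk' ?_ ?_ ?_
  · rw [ShortComplex.ShortExact.moduleCat_exact_iff_function_exact]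
    intro x
    constructor
    · intro hx
      exact ⟨⟨x, hx⟩, rfl⟩
    · rintro ⟨y, rfl⟩
      exact y.2
  · rw [ModuleCat.mono_iff_injective]
    exact Subtype.val_injective
  · rw [ModuleCat.epi_iff_surjective]
    exact hc

theorem nonempty_equiv_ext [Module.Projective B L1] (hex : Function.Exact d c)
    (hc : Function.Surjective c)
    (hkill : ∀ (ψ : L2 →ₗ[B] Y) (z : L2), d z = 0 → ψ z = 0) :
    Nonempty (((L2 →ₗ[B] Y) ⧸ LinearMap.range (LinearMap.lcomp B Y d)) ≃ₗ[B]
      Ext.{u} (ModuleCat.of B C) (ModuleCat.of B Y) 1) := by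
  have hSh : (shortCx c hc).ShortExact := shortCx_shortExact c hc
  haveI : Projective (shortCx c hc).X₂ :=
    (IsProjective.iff_projective (R := B) L1).mp inferInstance
  let e₂ : (L1 →ₗ[B] Y) ≃ₗ[B] Ext.{u} (ModuleCat.of B L1) (ModuleCat.of B Y) 0 :=
    (ext0 (ModuleCat.of B L1) (ModuleCat.of B Y)).symm
  let e₁ : (L2 →ₗ[B] Y) ≃ₗ[B] Ext.{u} (ModuleCat.of B (LinearMap.ker c)) (ModuleCat.of B Y) 0 :=
    (resEquiv d c hex hkill).symm.trans
      (ext0 (ModuleCat.of B (LinearMap.ker c)) (ModuleCat.of B Y)).symm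
  have hδs : Function.Surjective (δ (shortCx c hc) hSh (ModuleCat.of B Y) 0 1 (add_zero 1)) :=
    δ_surjective (shortCx c hc) hSh (ModuleCat.of B Y) 0
  have hcomp : ∀ χ : L1 →ₗ[B] Y, e₁ (LinearMap.lcomp B Y d χ) =
      fStar (shortCx c hc) (ModuleCat.of B Y) (e₂ χ) := by
    intro χ
    have h1 : (resEquiv d c hex hkill).symm (LinearMap.lcomp B Y d χ) =
        χ ∘ₗ (LinearMap.ker c).subtype := by
      rw [LinearEquiv.symm_apply_eq, resEquiv_apply]
      rfl
    have h2 : e₁ (LinearMap.lcomp B Y d χ) =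
        (ext0 (ModuleCat.of B (LinearMap.ker c)) (ModuleCat.of B Y)).symm
          ((resEquiv d c hex hkill).symm (LinearMap.lcomp B Y d χ)) := rfl
    have h3 : fStar (shortCx c hc) (ModuleCat.of B Y) (e₂ χ) =
        (Ext.mk₀ (shortCx c hc).f).comp
          ((ext0 (ModuleCat.of B L1) (ModuleCat.of B Y)).symm χ) (zero_add 0) := rfl
    rw [h2, h3, h1, ext0_symm_apply, ext0_symm_apply]
    exact (Ext.mk₀_comp_mk₀ (ModuleCat.ofHom (LinearMap.ker c).subtype) (ModuleCat.ofHom χ)).symm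
  exact nonempty_equiv_of_exact (LinearMap.lcomp B Y d)
    (LinearMap.range (LinearMap.lcomp B Y d)).mkQ (LinearMap.exact_map_mkQ_range _)
    (Submodule.mkQ_surjective _)
    (fStar (shortCx c hc) (ModuleCat.of B Y))
    (δ (shortCx c hc) hSh (ModuleCat.of B Y) 0 1 (add_zero 1))
    (exact_fStar_δ (shortCx c hc) hSh (ModuleCat.of B Y)) hδs e₂ e₁ hcomp

end Groth.Agent.Lib.Helper19.ExtTwo
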