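import Mathlib
import Groth.Agent.Lib.Helper7FrobRank
import Groth.Agent.Lib.Helper7Cartier2

/-!
Helper library (helper7): `p`-bases of Laurent series fields over perfect fields and the degree
`[K : K^p]` for finitely generated extensions.
-/

set_option autoImplicit false
set_option linter.style.haveILetI false
set_option linter.unusedSectionVars false
universe u
open KaehlerDifferential TensorProduct

namespace Groth.Agent.Lib.Helper7.LaurentP

open Groth.Agent.Lib.Helper7.PPow

section PS

open PowerSeries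

variable {k : Type u} [Field k] (p : ℕ) [Fact p.Prime] [CharP k p]

lemma coeff_pow_char (c : k⟦X⟧) (n : ℕ) :
    coeff n (c ^ p) = if p ∣ n then (coeff (n / p) c) ^ p else 0 := by
  haveI : ExpChar k p := ExpChar.prime Fact.out
  have hp : p ≠ 0 := (Fact.out : p.Prime).ne_zero
  have h := MvPowerSeries.map_frobenius_expand (σ := Unit) (R := k) p hp (f := c)
  have h' : c ^ p = PowerSeries.map (frobenius k p) (PowerSeries.expand p hp c) := h.symm
  rw [h', PowerSeries.coeff_map, PowerSeries.coeff_expand]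
  split_ifs
  · rw [frobenius_def]
  · rw [map_zero]

theorem exists_repr [PerfectField k] (r : k⟦X⟧) :
    ∃ c : Fin p → k⟦X⟧, r = ∑ i : Fin p, X ^ (i : ℕ) * c i ^ p := by
  classical
  haveI : ExpChar k p := ExpChar.prime Fact.out
  haveI : PerfectRing k p := PerfectField.toPerfectRing p
  have hp : 0 < p := (Fact.out : p.Prime).pos
  refine ⟨fun i => PowerSeries.mk fun n =>
    (frobeniusEquiv k p).symm (coeff (p * n + (i : ℕ)) r), ?_⟩
  ext m
  rw [map_sum]
  have hm : m % p < p := Nat.mod_lt _ hp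
  rw [Finset.sum_eq_single (⟨m % p, hm⟩ : Fin p)]
  · rw [coeff_X_pow_mul', if_pos (Nat.mod_le m p), coeff_pow_char,
      if_pos (Nat.dvd_sub_mod m), coeff_mk, frobeniusEquiv_symm_pow_p]
    have h1 : (m - m % p) / p = m / p := by
      have h2 := Nat.div_add_mod m p
      have h3 : m - m % p = p * (m / p) := by omega
      rw [h3, Nat.mul_div_cancel_left _ hp]
    rw [h1]
    exact congrArg (fun j => coeff j r) (Nat.div_add_mod m p).symm
  · intro i _ hi
    rw [coeff_X_pow_mul']
    split_ifs with h1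
    · rw [coeff_pow_char]
      split_ifs with h2
      · exfalso
        apply hi
        apply Fin.ext
        obtain ⟨q, hq⟩ := h2
        have h3 : m = (i : ℕ) + p * q := by omega
        change (i : ℕ) = m % p
        rw [h3, Nat.add_mul_mod_self_left, Nat.mod_eq_of_lt i.2]
      · rfl
    · rfl
  · intro h
    exact absurd (Finset.mem_univ _) h

/-- `X` is not a `p`-th power up to denominators -/
theorem X_mul_pow_ne_pow (a b : k⟦X⟧) (hb : b ≠ 0) : X * b ^ p ≠ a ^ p := by
  intro h
  apply hb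
  ext n
  have hp : p.Prime := Fact.out
  have h1 := congrArg (coeff (p * n + 1)) h
  rw [show (X : k⟦X⟧) * b ^ p = X ^ 1 * b ^ p by rw [pow_one], coeff_X_pow_mul',
    if_pos (by omega), coeff_pow_char, coeff_pow_char] at h1
  have h2 : p * n + 1 - 1 = p * n := by omega
  have h3 : ¬ p ∣ p * n + 1 := by
    intro hdvd
    have : p ∣ 1 := (Nat.dvd_add_right (dvd_mul_right p n)).1 hdvd
    exact hp.one_lt.ne' (Nat.dvd_one.1 this)
  rw [h2, if_pos (dvd_mul_right p n), if_neg h3, Nat.mul_div_cancel_left _ hp.pos] at h1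
  rw [map_zero]
  exact (pow_eq_zero_iff hp.ne_zero).1 h1

end PS

section Abstract

variable {E : Type u} [Field E] (p : ℕ) [Fact p.Prime] [CharP E p]

/-- a field with a one-element `p`-basis has one-dimensional absolute differentials -/
theorem finrank_kaehler_eq_one (t : E)
    (hrepr : ∀ f : E, ∃ g : Fin p → E, f = ∑ i : Fin p, t ^ (i : ℕ) * g i ^ p)
    (ht : ∀ g : E, g ^ p ≠ t) :
    Module.Finite E (Ω[E⁄ℤ]) ∧ Module.finrank E (Ω[E⁄ℤ]) = 1 := by
  classical
  have hspanD : ∀ f : E, D ℤ E f ∈ Submodule.span E {D ℤ E t} := by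
    intro f
    obtain ⟨g, rfl⟩ := hrepr f
    rw [map_sum]
    refine Submodule.sum_mem _ fun i _ => ?_
    have h0 : D ℤ E (g i ^ p) = 0 := D_pow_char_eq_zero (R := ℤ) p (g i)
    have h1 : D ℤ E (t ^ (i : ℕ)) ∈ Submodule.span E {D ℤ E t} := by
      rw [Derivation.leibniz_pow]
      exact Submodule.smul_of_tower_mem _ _ (Submodule.smul_mem _ _ (Submodule.subset_span rfl))
    rw [Derivation.leibniz, h0, smul_zero, zero_add]
    exact Submodule.smul_mem _ _ h1
  have htop : Submodule.span E {D ℤ E t} = ⊤ := by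
    rw [eq_top_iff, ← KaehlerDifferential.span_range_derivation, Submodule.span_le]
    rintro _ ⟨y, rfl⟩
    exact hspanD y
  have hne : D ℤ E t ≠ 0 := by
    intro hzero
    let E₂ : Subfield E := (frobenius E p).fieldRange
    have hE₂ : ∀ y : E, y ^ p ∈ Set.range (algebraMap E₂ E) :=
      fun y => ⟨⟨y ^ p, ⟨y, rfl⟩⟩, rfl⟩
    obtain ⟨⟨_, y, rfl⟩, hy⟩ := mem_range_of_D_eq_zero (k := ℤ) (E := E₂) p hE₂ hzero
    exact ht y hy
  refine ⟨Module.finite_def.2 ⟨{D ℤ E t}, by rw [Finset.coe_singleton]; exact htop⟩, ?_⟩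
  exact (finrank_eq_one_iff_of_nonzero _ hne).2 htop

end Abstract

section Frob

variable {K : Type u} [Field K] (p : ℕ) [Fact p.Prime] [CharP K p]

/-- `[K : K^p] = p ^ dim Ω[K/ℤ]` -/
theorem finrank_frobenius_fieldRange_eq_pow [Module.Finite K (Ω[K⁄ℤ])] :
    Module.finrank (frobenius K p).fieldRange K = p ^ Module.finrank K (Ω[K⁄ℤ]) := by
  classical
  let E₂ : Subfield K := (frobenius K p).fieldRange
  have hE₂ : ∀ y : K, y ^ p ∈ Set.range (algebraMap E₂ K) := fun y => ⟨⟨y ^ p, ⟨y, rfl⟩⟩, rfl⟩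
  have hD₂ : ∀ e : E₂, D ℤ K (algebraMap E₂ K e) = 0 := by
    rintro ⟨_, y, rfl⟩
    exact D_pow_char_eq_zero p y
  obtain ⟨b, hbsub, hbspan, hbli⟩ := exists_linearIndependent K (Set.range (D ℤ K))
  rw [KaehlerDifferential.span_range_derivation] at hbspan
  choose x hx using fun ω : b => hbsub ω.2
  have hfun : (fun i : b => D ℤ K (x i)) = Subtype.val := funext hx
  have hli : LinearIndependent K (fun i : b => D ℤ K (x i)) := by rw [hfun]; exact hbli
  have hsp : Submodule.span K (Set.range fun i : b => D ℤ K (x i)) = ⊤ := by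
    rw [hfun, Subtype.range_coe]; exact hbspan
  have hfree := pfree_of_linearIndependent_D (k := ℤ) (E := E₂) p hD₂ hE₂ hli
  have hgen := adjoin_eq_top_of_span_D_eq_top (k := ℤ) (E := E₂) p hD₂ hE₂ hsp
  let B : Module.Basis b K (Ω[K⁄ℤ]) := Module.Basis.mk hli hsp.ge
  haveI : Finite b := Module.Finite.finite_basis B
  rw [Groth.Agent.Lib.Helper7.FrobRank.finrank_eq_pow_of_pfree p x hE₂ hfree hgen,
    Module.finrank_eq_nat_card_basis B]

end Frob

section Laurent

open PowerSeries

variable {k : Type u} [Field k] (p : ℕ) [Fact p.Prime] [CharP k p] [PerfectField k]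

theorem laurent_repr :
    (∀ f : LaurentSeries k, ∃ g : Fin p → LaurentSeries k,
      f = ∑ i : Fin p, (algebraMap k⟦X⟧ (LaurentSeries k) X) ^ (i : ℕ) * g i ^ p) ∧
    (∀ g : LaurentSeries k, g ^ p ≠ algebraMap k⟦X⟧ (LaurentSeries k) X) := by
  classical
  have hp : p.Prime := Fact.out
  have hinj : Function.Injective (algebraMap k⟦X⟧ (LaurentSeries k)) :=
    IsFractionRing.injective _ _
  refine ⟨?_, ?_⟩
  · intro f
    obtain ⟨a, b, hb, rfl⟩ := IsFractionRing.div_surjective (A := k⟦X⟧) f
    have hb0 : b ≠ 0 := nonZeroDivisors.ne_zero hb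
    have hB : algebraMap k⟦X⟧ (LaurentSeries k) b ≠ 0 := fun h =>
      hb0 (hinj (h.trans (map_zero _).symm))
    obtain ⟨c, hc⟩ := exists_repr p (a * b ^ (p - 1))
    refine ⟨fun i => algebraMap _ _ (c i) / algebraMap _ _ b, ?_⟩
    have h1 : ∑ i : Fin p, (algebraMap k⟦X⟧ (LaurentSeries k) X) ^ (i : ℕ) *
        (algebraMap k⟦X⟧ (LaurentSeries k) (c i) / algebraMap k⟦X⟧ (LaurentSeries k) b) ^ p =
        algebraMap k⟦X⟧ (LaurentSeries k) (a * b ^ (p - 1)) /
          (algebraMap k⟦X⟧ (LaurentSeries k) b) ^ p := by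
      rw [hc, map_sum, Finset.sum_div]
      refine Finset.sum_congr rfl fun i _ => ?_
      rw [map_mul, map_pow, map_pow, div_pow, mul_div_assoc]
    rw [h1, map_mul, map_pow]
    have h2 : (algebraMap k⟦X⟧ (LaurentSeries k) b) ^ p =
        algebraMap k⟦X⟧ (LaurentSeries k) b * (algebraMap k⟦X⟧ (LaurentSeries k) b) ^ (p - 1) := by
      rw [← pow_succ', Nat.sub_add_cancel hp.one_le]
    rw [h2, mul_div_mul_right _ _ (pow_ne_zero _ hB)]
  · intro g hg
    obtain ⟨a, b, hb, rfl⟩ := IsFractionRing.div_surjective (A := k⟦X⟧) g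
    have hb0 : b ≠ 0 := nonZeroDivisors.ne_zero hb
    have hB : algebraMap k⟦X⟧ (LaurentSeries k) b ≠ 0 := fun h =>
      hb0 (hinj (h.trans (map_zero _).symm))
    rw [div_pow, div_eq_iff (pow_ne_zero _ hB), ← map_pow, ← map_pow, ← map_mul] at hg
    exact X_mul_pow_ne_pow p a b hb0 (hinj hg).symm

end Laurent

section Main

open Groth.Agent.Lib.Helper7.ExalLib

theorem finrank_frobenius_of_pbasis_one (p : ℕ) [Fact p.Prime] {E K : Type u} [Field E] [Field K]
    [Algebra E K] [CharP K p] [Algebra.EssFiniteType E K]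
    (hE : Module.Finite E (Ω[E⁄ℤ]) ∧ Module.finrank E (Ω[E⁄ℤ]) = 1)
    (d : ℕ) (hd : Algebra.trdeg E K = d) :
    Module.finrank (↥(frobenius K p).fieldRange) K = p ^ (d + 1) := by
  classical
  obtain ⟨hE1, hE2⟩ := hE
  obtain ⟨f1, f2, t, heq⟩ := cartierEQ_of_essFiniteType (K := E) (L := K)
  rw [hd, Cardinal.toNat_natCast] at heq
  -- rank identities
  have a3 : Module.rank E (Ω[E⁄ℤ]) =
      Module.rank K ↥(EGA41.imperfection ℤ E K) +
        Module.rank K ↥(LinearMap.range (KaehlerDifferential.mapBaseChange ℤ E K)) := by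
    have key := LinearMap.rank_range_add_rank_ker
      (KaehlerDifferential.mapBaseChange ℤ E K)
    rw [Module.rank_baseChange, Cardinal.lift_id] at key
    rw [← key, add_comm]
    rfl
  have a4 : Module.rank K (Ω[K⁄ℤ]) =
      Module.rank K ↥(LinearMap.range (KaehlerDifferential.mapBaseChange ℤ E K)) +
        Module.rank K (Ω[K⁄E]) := by
    have key := LinearMap.rank_range_add_rank_ker (KaehlerDifferential.map ℤ E K K)
    have hex := KaehlerDifferential.exact_mapBaseChange_map ℤ E K
    rw [LinearMap.exact_iff] at hex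
    rw [hex, LinearMap.range_eq_top.2 (KaehlerDifferential.map_surjective ℤ E K),
      rank_top] at key
    rw [← key, add_comm]
  haveI := hE1
  haveI := f1
  haveI := f2
  have hJ : Module.rank K ↥(LinearMap.range
      (KaehlerDifferential.mapBaseChange ℤ E K)) < Cardinal.aleph0 := by
    have h : Module.rank K ↥(LinearMap.range
        (KaehlerDifferential.mapBaseChange ℤ E K)) ≤
        Module.rank E (Ω[E⁄ℤ]) := by
      rw [a3]; exact le_add_self
    exact lt_of_le_of_lt h (Module.rank_lt_aleph0 _ _)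
  haveI hJfin : Module.Finite K ↥(LinearMap.range
      (KaehlerDifferential.mapBaseChange ℤ E K)) := by
    have h : IsNoetherian K ↥(LinearMap.range
        (KaehlerDifferential.mapBaseChange ℤ E K)) :=
      (IsNoetherian.iff_rank_lt_aleph0 (K := K)).2 hJ
    exact Module.IsNoetherian.finite K _
  haveI hΩ : Module.Finite K (Ω[K⁄ℤ]) := by
    rw [← Module.rank_lt_aleph0_iff, a4]
    exact Cardinal.add_lt_aleph0 hJ (Module.rank_lt_aleph0 K _)
  rw [← Module.finrank_eq_rank E (Ω[E⁄ℤ]),
    ← Module.finrank_eq_rank K ↥(EGA41.imperfection ℤ E K),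
    ← Module.finrank_eq_rank K ↥(LinearMap.range
      (KaehlerDifferential.mapBaseChange ℤ E K))] at a3
  rw [← Module.finrank_eq_rank K (Ω[K⁄ℤ]), ← Module.finrank_eq_rank K (Ω[K⁄E]),
    ← Module.finrank_eq_rank K ↥(LinearMap.range
      (KaehlerDifferential.mapBaseChange ℤ E K))] at a4
  have n3 : Module.finrank E (Ω[E⁄ℤ]) =
      Module.finrank K ↥(EGA41.imperfection ℤ E K) +
        Module.finrank K ↥(LinearMap.range
          (KaehlerDifferential.mapBaseChange ℤ E K)) := by
    exact_mod_cast a3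
  have n4 : Module.finrank K (Ω[K⁄ℤ]) =
      Module.finrank K ↥(LinearMap.range
        (KaehlerDifferential.mapBaseChange ℤ E K)) +
        Module.finrank K (Ω[K⁄E]) := by
    exact_mod_cast a4
  have hfin : Module.finrank K (Ω[K⁄ℤ]) = d + 1 := by omega
  rw [finrank_frobenius_fieldRange_eq_pow p, hfin]

theorem finrank_frobenius_of_laurent (p : ℕ) [Fact p.Prime] (k : Type u) [Field k]
    [PerfectField k] [CharP k p] (K : Type u) [Field K] [Algebra (LaurentSeries k) K] [CharP K p]
    [Algebra.EssFiniteType (LaurentSeries k) K]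
    (d : ℕ) (hd : Algebra.trdeg (LaurentSeries k) K = d) :
    Module.finrank (↥(frobenius K p).fieldRange) K = p ^ (d + 1) := by
  haveI : CharP (LaurentSeries k) p :=
    (algebraMap (LaurentSeries k) K).charP (algebraMap (LaurentSeries k) K).injective p
  obtain ⟨h1, h2⟩ := laurent_repr (k := k) p
  exact finrank_frobenius_of_pbasis_one p (finrank_kaehler_eq_one p _ h1 h2) d hd

end Main

end Groth.Agent.Lib.Helper7.LaurentP
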