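import Mathlib
import Groth.Agent.Lib.Helper7LaurentP

/-!
# F-finiteness: representation predicate `FF` and its permanence

`FF p A`: there is a finite family `g` with every `a = ∑ c_j ^ p * g_j`. It implies finiteness of
the absolute Frobenius, passes to polynomial rings and along surjections, and holds for `k⟦X⟧`,
`k` perfect.
-/

namespace Groth.Agent.Lib.Helper19.FFinite

open Polynomial

variable (p : ℕ) [Fact p.Prime]

/-- every element is a `p`-th-power combination of a fixed finite family -/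
def FF (A : Type*) [CommRing A] : Prop :=
  ∃ (m : ℕ) (g : Fin m → A), ∀ a : A, ∃ c : Fin m → A, a = ∑ j, c j ^ p * g j

lemma FF.of_surjective {B A : Type*} [CommRing B] [CommRing A] (φ : B →+* A)
    (hφ : Function.Surjective φ) (hB : FF p B) : FF p A := by
  obtain ⟨m, g, hg⟩ := hB
  refine ⟨m, fun j => φ (g j), fun a => ?_⟩
  obtain ⟨b, rfl⟩ := hφ a
  obtain ⟨c, hc⟩ := hg b
  refine ⟨fun j => φ (c j), ?_⟩
  rw [hc, map_sum]
  simp [map_mul, map_pow]

lemma FF.finite_frobenius {A : Type*} [CommRing A] [CharP A p] (h : FF p A) :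
    (frobenius A p).Finite := by
  obtain ⟨m, g, hg⟩ := h
  letI alg := (frobenius A p).toAlgebra
  refine @Module.Finite.of_fg_top A A _ _ alg.toModule ?_
  refine (@Submodule.fg_def A A _ _ alg.toModule _).mpr ⟨Set.range g, Set.finite_range g, ?_⟩
  rw [eq_top_iff]
  intro a _
  obtain ⟨c, hc⟩ := hg a
  rw [hc]
  refine Submodule.sum_mem _ fun j _ => ?_
  exact @Submodule.smul_mem A A _ _ alg.toModule _ _ (c j)
    (@Submodule.subset_span A A _ _ alg.toModule _ _ ⟨j, rfl⟩)

lemma FF.polynomial {R : Type*} [CommRing R] [CharP R p] (h : FF p R) : FF p R[X] := by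
  classical
  have hp : 0 < p := (Fact.out : p.Prime).pos
  obtain ⟨m, g, hg⟩ := h
  obtain ⟨e⟩ : Nonempty (Fin (m * p) ≃ Fin m × Fin p) := ⟨finProdFinEquiv.symm⟩
  -- work with the family indexed by `Fin m × Fin p`
  suffices H : ∀ f : R[X], ∃ c : Fin m × Fin p → R[X],
      f = ∑ x, c x ^ p * (C (g x.1) * X ^ (x.2 : ℕ)) by
    refine ⟨m * p, fun i => C (g (e i).1) * X ^ ((e i).2 : ℕ), fun f => ?_⟩
    obtain ⟨c, hc⟩ := H f
    refine ⟨fun i => c (e i), ?_⟩
    rw [hc]
    exact (Equiv.sum_comp e (fun x => c x ^ p * (C (g x.1) * X ^ (x.2 : ℕ)))).symm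
  intro f
  induction f using Polynomial.induction_on' with
  | add f₁ f₂ h₁ h₂ =>
    obtain ⟨c₁, hc₁⟩ := h₁
    obtain ⟨c₂, hc₂⟩ := h₂
    refine ⟨fun x => c₁ x + c₂ x, ?_⟩
    rw [hc₁, hc₂, ← Finset.sum_add_distrib]
    refine Finset.sum_congr rfl fun x _ => ?_
    rw [add_pow_char]
    ring
  | monomial n a =>
    obtain ⟨c, hc⟩ := hg a
    have hr : n % p < p := Nat.mod_lt _ hp
    refine ⟨fun x => if x.2 = ⟨n % p, hr⟩ then monomial (n / p) (c x.1) else 0, ?_⟩
    rw [Fintype.sum_prod_type]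
    have : ∀ j : Fin m, (∑ i : Fin p,
        (if i = ⟨n % p, hr⟩ then monomial (n / p) (c j) else 0) ^ p * (C (g j) * X ^ (i : ℕ))) =
        monomial n (c j ^ p * g j) := by
      intro j
      rw [Finset.sum_eq_single (⟨n % p, hr⟩ : Fin p)]
      · rw [if_pos rfl, monomial_pow, C_mul_X_pow_eq_monomial, monomial_mul_monomial]
        have h1 : n / p * p + n % p = n := by
          rw [mul_comm]; exact Nat.div_add_mod n p
        simp only
        rw [h1]
      · intro i _ hi
        rw [if_neg hi, zero_pow hp.ne', zero_mul]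
      · intro h
        exact absurd (Finset.mem_univ _) h
    simp only at this ⊢
    rw [Finset.sum_congr rfl (fun j _ => this j), ← map_sum, ← hc]

lemma FF.mvPolynomial_fin {R : Type*} [CommRing R] [CharP R p] (h : FF p R) (n : ℕ) :
    FF p (MvPolynomial (Fin n) R) := by
  induction n with
  | zero =>
    exact FF.of_surjective p (MvPolynomial.isEmptyAlgEquiv R (Fin 0)).symm.toRingEquiv.toRingHom
      (MvPolynomial.isEmptyAlgEquiv R (Fin 0)).symm.surjective h
  | succ n ih =>
    have h1 : FF p (MvPolynomial (Fin n) R)[X] := FF.polynomial p ih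
    exact FF.of_surjective p (MvPolynomial.finSuccEquiv R n).symm.toRingEquiv.toRingHom
      (MvPolynomial.finSuccEquiv R n).symm.surjective h1

lemma FF.powerSeries (k : Type*) [Field k] [CharP k p] [PerfectField k] : FF p (PowerSeries k) := by
  refine ⟨p, fun i => PowerSeries.X ^ (i : ℕ), fun r => ?_⟩
  obtain ⟨c, hc⟩ := Groth.Agent.Lib.Helper7.LaurentP.exists_repr p r
  refine ⟨c, ?_⟩
  rw [hc]
  exact Finset.sum_congr rfl fun i _ => mul_comm _ _

lemma FF.of_finiteType {R A : Type*} [CommRing R] [CharP R p] [CommRing A] [Algebra R A]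
    [Algebra.FiniteType R A] (h : FF p R) : FF p A := by
  obtain ⟨n, f, hf⟩ := Algebra.FiniteType.iff_quotient_mvPolynomial''.mp
    (inferInstance : Algebra.FiniteType R A)
  exact FF.of_surjective p f.toRingHom hf (FF.mvPolynomial_fin p h n)

end Groth.Agent.Lib.Helper19.FFinite
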