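import Groth.Agent.Lib.Helper19FSAdicFormal

/-!
# Lifting continuous maps out of a formally smooth adic algebra to a complete ring
(EGA 0_IV 19.3.10) (helper19)
-/

set_option autoImplicit false
universe u

namespace Groth.Agent.Lib.Helper19

open Ideal

section surj

variable {A B : Type u} [CommRing A] [CommRing B] [Algebra A B] (𝔞 : Ideal A) (𝔟 : Ideal B)

/-- Lifting along a surjection with nilpotent kernel. -/
theorem exists_lift_of_surjective_of_isFormallySmoothAdic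
    (hB : EGA41.IsFormallySmoothAdic A 𝔞 B 𝔟)
    (D P : Type u) [CommRing D] [CommRing P] [Algebra A D] [Algebra A P] (π : D →ₐ[A] P)
    (hπ : Function.Surjective π) (hnil : IsNilpotent (RingHom.ker π))
    (h𝔞 : ∃ k : ℕ, (𝔞 ^ k).map (algebraMap A D) = ⊥) (g : B →ₐ[A] P)
    (hg : ∃ k : ℕ, ∀ x ∈ 𝔟 ^ k, g x = 0) :
    ∃ v : B →ₐ[A] D, π.comp v = g ∧ ∃ m : ℕ, ∀ x ∈ 𝔟 ^ m, v x = 0 := by
  let e := Ideal.quotientKerAlgEquivOfSurjective hπ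
  obtain ⟨k, hk⟩ := hg
  obtain ⟨v, hv⟩ := hB D (RingHom.ker π) hnil h𝔞 (e.symm.toAlgHom.comp g)
    ⟨k, fun x hx => by simp [hk x hx]⟩
  have hvmk : ∀ b, Ideal.Quotient.mk (RingHom.ker π) (v b) = e.symm (g b) := fun b => by
    have := congrArg (fun f => f b) hv
    simpa using this
  refine ⟨v, ?_, ?_⟩
  · ext b
    have h1 : e (Ideal.Quotient.mk (RingHom.ker π) (v b)) = π (v b) :=
      Ideal.quotientKerAlgEquivOfSurjective_mk hπ (v b)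
    rw [AlgHom.comp_apply, ← h1, hvmk, AlgEquiv.apply_symm_apply]
  · exact exists_pow_map_eq_zero_of_lift 𝔟 (RingHom.ker π) hnil v k (fun x hx => by
      rw [hvmk, hk x hx, map_zero])

end surj

/-- `(J ⊔ K) ^ m ≤ J ^ m ⊔ K`. -/
theorem sup_pow_le_pow_sup {R : Type*} [CommRing R] (J K : Ideal R) (m : ℕ) :
    (J ⊔ K) ^ m ≤ J ^ m ⊔ K := by
  induction m with
  | zero => simp
  | succ m ih =>
    calc (J ⊔ K) ^ (m + 1) = (J ⊔ K) ^ m * (J ⊔ K) := pow_succ _ _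
      _ ≤ (J ^ m ⊔ K) * (J ⊔ K) := Ideal.mul_mono_left ih
      _ ≤ J ^ (m + 1) ⊔ K := by
        rw [Ideal.sup_mul, Ideal.mul_sup, Ideal.mul_sup, ← pow_succ]
        refine sup_le (sup_le le_sup_left ?_) (sup_le ?_ ?_)
        · exact Ideal.mul_le_right.trans le_sup_right
        · exact Ideal.mul_le_left.trans le_sup_right
        · exact Ideal.mul_le_left.trans le_sup_right

section fibre

variable {A B : Type u} [CommRing A] [CommRing B] [Algebra A B] (𝔞 : Ideal A) (𝔟 : Ideal B)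

/-- Lifting to `D` a compatible pair of maps to two quotients `Q₁`, `Q₂` of `D` (glued over a common
quotient `Q₃`), when the kernel of `D → Q₂` is nilpotent. -/
theorem exists_lift_fibre_of_isFormallySmoothAdic
    (hB : EGA41.IsFormallySmoothAdic A 𝔞 B 𝔟)
    (D Q₁ Q₂ Q₃ : Type u) [CommRing D] [CommRing Q₁] [CommRing Q₂] [CommRing Q₃]
    [Algebra A D] [Algebra A Q₁] [Algebra A Q₂] [Algebra A Q₃]
    (p₁ : D →ₐ[A] Q₁) (p₂ : D →ₐ[A] Q₂) (q₁ : Q₁ →ₐ[A] Q₃) (q₂ : Q₂ →ₐ[A] Q₃)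
    (hp₁ : Function.Surjective p₁) (hp₂ : Function.Surjective p₂)
    (hq : ∀ d, q₁ (p₁ d) = q₂ (p₂ d))
    (hker : ∀ d, q₁ (p₁ d) = 0 → ∃ a b, p₁ a = 0 ∧ p₂ b = 0 ∧ d = a + b)
    (hnil : IsNilpotent (RingHom.ker p₂))
    (h𝔞 : ∃ k : ℕ, (𝔞 ^ k).map (algebraMap A D) = ⊥)
    (g₁ : B →ₐ[A] Q₁) (g₂ : B →ₐ[A] Q₂) (hg : ∀ b, q₁ (g₁ b) = q₂ (g₂ b))
    (hg₁ : ∃ k : ℕ, ∀ x ∈ 𝔟 ^ k, g₁ x = 0) (hg₂ : ∃ k : ℕ, ∀ x ∈ 𝔟 ^ k, g₂ x = 0) :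
    ∃ v : B →ₐ[A] D, (∀ b, p₁ (v b) = g₁ b) ∧ (∀ b, p₂ (v b) = g₂ b) ∧
      ∃ m : ℕ, ∀ x ∈ 𝔟 ^ m, v x = 0 := by
  let P : Subalgebra A (Q₁ × Q₂) :=
    AlgHom.equalizer (q₁.comp (AlgHom.fst A Q₁ Q₂)) (q₂.comp (AlgHom.snd A Q₁ Q₂))
  let π : D →ₐ[A] P := (p₁.prod p₂).codRestrict P (fun d => by
    simp only [P, AlgHom.mem_equalizer, AlgHom.comp_apply, AlgHom.fst_apply, AlgHom.snd_apply,
      AlgHom.prod_apply]
    exact hq d)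
  let g : B →ₐ[A] P := (g₁.prod g₂).codRestrict P (fun b => by
    simp only [P, AlgHom.mem_equalizer, AlgHom.comp_apply, AlgHom.fst_apply, AlgHom.snd_apply,
      AlgHom.prod_apply]
    exact hg b)
  have hπ1 : ∀ d, ((π d : P) : Q₁ × Q₂).1 = p₁ d := fun d => rfl
  have hπ2 : ∀ d, ((π d : P) : Q₁ × Q₂).2 = p₂ d := fun d => rfl
  have hg1 : ∀ b, ((g b : P) : Q₁ × Q₂).1 = g₁ b := fun b => rfl
  have hg2 : ∀ b, ((g b : P) : Q₁ × Q₂).2 = g₂ b := fun b => rfl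
  have hπ : Function.Surjective π := by
    rintro ⟨⟨x₁, x₂⟩, hx⟩
    have hx' : q₁ x₁ = q₂ x₂ := by
      simpa [P, AlgHom.mem_equalizer] using hx
    obtain ⟨d₁, hd₁⟩ := hp₁ x₁
    obtain ⟨d₂, hd₂⟩ := hp₂ x₂
    have h0 : q₁ (p₁ (d₁ - d₂)) = 0 := by
      rw [map_sub, map_sub, hq d₂, hd₁, hd₂, hx', sub_self]
    obtain ⟨a, b, ha, hb, hab⟩ := hker _ h0
    refine ⟨d₁ - a, ?_⟩
    apply Subtype.ext
    apply Prod.ext
    · change p₁ (d₁ - a) = x₁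
      rw [map_sub, ha, sub_zero, hd₁]
    · change p₂ (d₁ - a) = x₂
      have : d₁ - a = d₂ + b := by
        have : d₁ = d₂ + (a + b) := by rw [← hab]; ring
        rw [this]; ring
      rw [this, map_add, hb, add_zero, hd₂]
  have hnilπ : IsNilpotent (RingHom.ker π) := by
    obtain ⟨m, hm⟩ := hnil
    refine ⟨m, ?_⟩
    rw [Ideal.zero_eq_bot, eq_bot_iff, ← Ideal.zero_eq_bot, ← hm]
    apply Ideal.pow_right_mono
    intro d hd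
    rw [RingHom.mem_ker] at hd ⊢
    rw [← hπ2, hd]
    rfl
  have hgk : ∃ k : ℕ, ∀ x ∈ 𝔟 ^ k, g x = 0 := by
    obtain ⟨k₁, hk₁⟩ := hg₁
    obtain ⟨k₂, hk₂⟩ := hg₂
    refine ⟨max k₁ k₂, fun x hx => ?_⟩
    apply Subtype.ext
    apply Prod.ext
    · change g₁ x = 0
      exact hk₁ x (Ideal.pow_le_pow_right (le_max_left _ _) hx)
    · change g₂ x = 0
      exact hk₂ x (Ideal.pow_le_pow_right (le_max_right _ _) hx)
  obtain ⟨v, hv, hvm⟩ := exists_lift_of_surjective_of_isFormallySmoothAdic 𝔞 𝔟 hB D P π hπ hnilπ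
    h𝔞 g hgk
  have hvb : ∀ b, π (v b) = g b := fun b => by
    have := congrArg (fun f => f b) hv
    simpa using this
  refine ⟨v, fun b => ?_, fun b => ?_, hvm⟩
  · rw [← hπ1, hvb, hg1]
  · rw [← hπ2, hvb, hg2]

end fibre

section step

variable {A B C : Type u} [CommRing A] [CommRing B] [CommRing C] [Algebra A B] [Algebra A C]
  (𝔞 : Ideal A) (𝔟 : Ideal B) (𝔠 : Ideal C) (J : Ideal C)

theorem map_pow_eq_bot_quotient_pow (hAC : ∃ k : ℕ, (𝔞 ^ k).map (algebraMap A C) ≤ 𝔠) (n : ℕ) :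
    ∃ k : ℕ, (𝔞 ^ k).map (algebraMap A (C ⧸ 𝔠 ^ n)) = ⊥ := by
  obtain ⟨k, hk⟩ := hAC
  refine ⟨k * n, ?_⟩
  rw [eq_bot_iff, Ideal.map_le_iff_le_comap]
  intro x hx
  rw [Ideal.mem_comap, Ideal.mem_bot]
  change Ideal.Quotient.mk (𝔠 ^ n) (algebraMap A C x) = 0
  rw [Ideal.Quotient.eq_zero_iff_mem]
  have h1 : (𝔞 ^ (k * n)).map (algebraMap A C) ≤ 𝔠 ^ n := by
    rw [pow_mul, Ideal.map_pow]
    exact Ideal.pow_right_mono hk n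
  exact h1 (Ideal.mem_map_of_mem _ hx)

/-- The inductive step: extend a lift modulo `𝔠 ^ n` to a lift modulo `𝔠 ^ (n + 1)`. -/
theorem exists_succ_lift (hB : EGA41.IsFormallySmoothAdic A 𝔞 B 𝔟)
    (hAC : ∃ k : ℕ, (𝔞 ^ k).map (algebraMap A C) ≤ 𝔠) (hJ : ∃ t : ℕ, J ^ t ≤ 𝔠)
    (u : B →ₐ[A] C ⧸ J) (hu : ∃ k : ℕ, (𝔟 ^ k).map u.toRingHom ≤ 𝔠.map (Ideal.Quotient.mk J))
    (n : ℕ) (v : B →ₐ[A] C ⧸ 𝔠 ^ n)
    (hv : ∀ b, Ideal.Quotient.factor (le_sup_right : 𝔠 ^ n ≤ J ⊔ 𝔠 ^ n) (v b) =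
      Ideal.Quotient.factor (le_sup_left : J ≤ J ⊔ 𝔠 ^ n) (u b))
    (hvk : ∃ m : ℕ, ∀ x ∈ 𝔟 ^ m, v x = 0) :
    ∃ v' : B →ₐ[A] C ⧸ 𝔠 ^ (n + 1),
      (∀ b, Ideal.Quotient.factor (Ideal.pow_le_pow_right n.le_succ) (v' b) = v b) ∧
      (∀ b, Ideal.Quotient.factor (le_sup_right : 𝔠 ^ (n + 1) ≤ J ⊔ 𝔠 ^ (n + 1)) (v' b) =
        Ideal.Quotient.factor (le_sup_left : J ≤ J ⊔ 𝔠 ^ (n + 1)) (u b)) ∧
      ∃ m : ℕ, ∀ x ∈ 𝔟 ^ m, v' x = 0 := by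
  have hle : J ⊔ 𝔠 ^ (n + 1) ≤ J ⊔ 𝔠 ^ n :=
    sup_le_sup_left (Ideal.pow_le_pow_right n.le_succ) J
  let p₁ : C ⧸ 𝔠 ^ (n + 1) →ₐ[A] C ⧸ 𝔠 ^ n :=
    Ideal.Quotient.factorₐ A (Ideal.pow_le_pow_right n.le_succ)
  let p₂ : C ⧸ 𝔠 ^ (n + 1) →ₐ[A] C ⧸ (J ⊔ 𝔠 ^ (n + 1)) := Ideal.Quotient.factorₐ A le_sup_right
  let q₁ : C ⧸ 𝔠 ^ n →ₐ[A] C ⧸ (J ⊔ 𝔠 ^ n) := Ideal.Quotient.factorₐ A le_sup_right
  let q₂ : C ⧸ (J ⊔ 𝔠 ^ (n + 1)) →ₐ[A] C ⧸ (J ⊔ 𝔠 ^ n) := Ideal.Quotient.factorₐ A hle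
  let g₂ : B →ₐ[A] C ⧸ (J ⊔ 𝔠 ^ (n + 1)) :=
    (Ideal.Quotient.factorₐ A (le_sup_left : J ≤ J ⊔ 𝔠 ^ (n + 1))).comp u
  have hp₁ : Function.Surjective p₁ :=
    Ideal.Quotient.factor_surjective (Ideal.pow_le_pow_right n.le_succ)
  have hp₂ : Function.Surjective p₂ :=
    Ideal.Quotient.factor_surjective (le_sup_right : 𝔠 ^ (n + 1) ≤ J ⊔ 𝔠 ^ (n + 1))
  have hq : ∀ d, q₁ (p₁ d) = q₂ (p₂ d) := fun d => by
    obtain ⟨c, rfl⟩ := Ideal.Quotient.mk_surjective d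
    rfl
  have hker : ∀ d, q₁ (p₁ d) = 0 → ∃ a b, p₁ a = 0 ∧ p₂ b = 0 ∧ d = a + b := fun d hd => by
    obtain ⟨c, rfl⟩ := Ideal.Quotient.mk_surjective d
    have hc : c ∈ J ⊔ 𝔠 ^ n := by
      rw [← Ideal.Quotient.eq_zero_iff_mem]
      exact hd
    obtain ⟨j, hj, y, hy, rfl⟩ := Submodule.mem_sup.mp hc
    refine ⟨Ideal.Quotient.mk _ y, Ideal.Quotient.mk _ j, ?_, ?_, ?_⟩
    · change Ideal.Quotient.mk (𝔠 ^ n) y = 0
      exact Ideal.Quotient.eq_zero_iff_mem.mpr hy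
    · change Ideal.Quotient.mk (J ⊔ 𝔠 ^ (n + 1)) j = 0
      exact Ideal.Quotient.eq_zero_iff_mem.mpr (le_sup_left (a := J) hj)
    · rw [map_add]
      exact add_comm _ _
  have hnil : IsNilpotent (RingHom.ker p₂) := by
    obtain ⟨t, ht⟩ := hJ
    refine ⟨t * (n + 1), ?_⟩
    have hk : RingHom.ker p₂ = (J ⊔ 𝔠 ^ (n + 1)).map (Ideal.Quotient.mk (𝔠 ^ (n + 1))) :=
      Ideal.Quotient.factor_ker (le_sup_right : 𝔠 ^ (n + 1) ≤ J ⊔ 𝔠 ^ (n + 1))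
    rw [hk, ← Ideal.map_pow, Ideal.zero_eq_bot, eq_bot_iff, Ideal.map_le_iff_le_comap]
    refine (sup_pow_le_pow_sup J (𝔠 ^ (n + 1)) (t * (n + 1))).trans ?_
    have h1 : J ^ (t * (n + 1)) ≤ 𝔠 ^ (n + 1) := by
      rw [pow_mul]
      exact Ideal.pow_right_mono ht (n + 1)
    refine (sup_le h1 le_rfl).trans ?_
    intro x hx
    rw [Ideal.mem_comap, Ideal.mem_bot]
    exact Ideal.Quotient.eq_zero_iff_mem.mpr hx
  have hg : ∀ b, q₁ (v b) = q₂ (g₂ b) := fun b => by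
    have h1 : q₁ (v b) = Ideal.Quotient.factor (le_sup_left : J ≤ J ⊔ 𝔠 ^ n) (u b) := hv b
    rw [h1]
    have h2 : ∀ z : C ⧸ J, Ideal.Quotient.factor (le_sup_left : J ≤ J ⊔ 𝔠 ^ n) z =
        q₂ (Ideal.Quotient.factorₐ A (le_sup_left : J ≤ J ⊔ 𝔠 ^ (n + 1)) z) := fun z => by
      obtain ⟨c, rfl⟩ := Ideal.Quotient.mk_surjective z
      rfl
    exact h2 (u b)
  have hg₂ : ∃ k : ℕ, ∀ x ∈ 𝔟 ^ k, g₂ x = 0 := by
    obtain ⟨k, hk⟩ := hu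
    refine ⟨k * (n + 1), fun x hx => ?_⟩
    have h1 : (𝔟 ^ (k * (n + 1))).map u.toRingHom ≤ (𝔠 ^ (n + 1)).map (Ideal.Quotient.mk J) := by
      rw [pow_mul, Ideal.map_pow (Ideal.Quotient.mk J), Ideal.map_pow]
      exact Ideal.pow_right_mono hk (n + 1)
    have h2 := h1 (Ideal.mem_map_of_mem _ hx)
    obtain ⟨c, hc, hcx⟩ :=
      Ideal.mem_image_of_mem_map_of_surjective _ Ideal.Quotient.mk_surjective h2
    change Ideal.Quotient.factor (le_sup_left : J ≤ J ⊔ 𝔠 ^ (n + 1)) (u x) = 0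
    have hcx' : u x = Ideal.Quotient.mk J c := hcx.symm
    rw [hcx']
    change Ideal.Quotient.mk (J ⊔ 𝔠 ^ (n + 1)) c = 0
    exact Ideal.Quotient.eq_zero_iff_mem.mpr (le_sup_right (a := J) hc)
  obtain ⟨v', h1, h2, h3⟩ := exists_lift_fibre_of_isFormallySmoothAdic 𝔞 𝔟 hB
    (C ⧸ 𝔠 ^ (n + 1)) (C ⧸ 𝔠 ^ n) (C ⧸ (J ⊔ 𝔠 ^ (n + 1))) (C ⧸ (J ⊔ 𝔠 ^ n)) p₁ p₂ q₁ q₂ hp₁ hp₂ hq
    hker hnil (map_pow_eq_bot_quotient_pow 𝔞 𝔠 hAC (n + 1)) v g₂ hg hvk hg₂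
  exact ⟨v', h1, h2, h3⟩

/-- EGA 0_IV 19.3.10: a continuous homomorphism `u : B → C ⧸ J` from a formally smooth adic
`A`-algebra to the quotient of a complete ring `C` by a closed ideal `J` with `J ^ t ≤ 𝔠` lifts
to a continuous homomorphism `B → C`. -/
theorem exists_lift_to_adicComplete (hB : EGA41.IsFormallySmoothAdic A 𝔞 B 𝔟)
    [IsAdicComplete 𝔠 C] (hAC : ∃ k : ℕ, (𝔞 ^ k).map (algebraMap A C) ≤ 𝔠)
    (hJ : ∃ t : ℕ, J ^ t ≤ 𝔠) [IsHausdorff (𝔠.map (Ideal.Quotient.mk J)) (C ⧸ J)]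
    (u : B →ₐ[A] C ⧸ J) (hu : ∃ k : ℕ, (𝔟 ^ k).map u.toRingHom ≤ 𝔠.map (Ideal.Quotient.mk J)) :
    ∃ v : B →ₐ[A] C, (∃ k : ℕ, (𝔟 ^ k).map v.toRingHom ≤ 𝔠) ∧
      (Ideal.Quotient.mkₐ A J).comp v = u := by
  classical
  let S : ℕ → Type u := fun n => {v : B →ₐ[A] C ⧸ 𝔠 ^ n //
    (∀ b, Ideal.Quotient.factor (le_sup_right : 𝔠 ^ n ≤ J ⊔ 𝔠 ^ n) (v b) =
      Ideal.Quotient.factor (le_sup_left : J ≤ J ⊔ 𝔠 ^ n) (u b)) ∧
    ∃ m : ℕ, ∀ x ∈ 𝔟 ^ m, v x = 0}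
  have hstep : ∀ n (s : S n), ∃ s' : S (n + 1),
      ∀ b, Ideal.Quotient.factor (Ideal.pow_le_pow_right n.le_succ) (s'.1 b) = s.1 b := by
    intro n s
    obtain ⟨v', h1, h2, h3⟩ := exists_succ_lift 𝔞 𝔟 𝔠 J hB hAC hJ u hu n s.1 s.2.1 s.2.2
    exact ⟨⟨v', h2, h3⟩, h1⟩
  have hsub0 : Subsingleton (C ⧸ 𝔠 ^ 0) := by
    rw [Ideal.Quotient.subsingleton_iff, pow_zero, Ideal.one_eq_top]
  have hsub0' : Subsingleton (C ⧸ (J ⊔ 𝔠 ^ 0)) := by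
    rw [Ideal.Quotient.subsingleton_iff, pow_zero, Ideal.one_eq_top, sup_top_eq]
  let v0 : B →ₐ[A] C ⧸ 𝔠 ^ 0 :=
    { toFun := fun _ => 0
      map_one' := Subsingleton.elim _ _
      map_mul' := fun _ _ => Subsingleton.elim _ _
      map_zero' := rfl
      map_add' := fun _ _ => Subsingleton.elim _ _
      commutes' := fun _ => Subsingleton.elim _ _ }
  let s0 : S 0 := ⟨v0, fun b => Subsingleton.elim _ _, 0, fun x _ => Subsingleton.elim _ _⟩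
  let seq : ∀ n, S n := fun n => Nat.rec s0 (fun n s => Classical.choose (hstep n s)) n
  have hseq : ∀ n b, Ideal.Quotient.factor (Ideal.pow_le_pow_right n.le_succ) ((seq (n + 1)).1 b) =
      (seq n).1 b := fun n => Classical.choose_spec (hstep n (seq n))
  have hanti : Antitone (fun n : ℕ => 𝔠 ^ n) := fun m n h => Ideal.pow_le_pow_right h
  have hcompat : ∀ {m n : ℕ} (hle : m ≤ n),
      (Ideal.Quotient.factorₐ A (Ideal.pow_le_pow_right hle)).comp (seq n).1 = (seq m).1 := by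
    intro m n hle
    ext b
    exact (Ideal.Quotient.eq_factor_of_eq_factor_succ hanti (fun n => (seq n).1 b)
      (fun m => (hseq m b).symm) hle).symm
  let v : B →ₐ[A] C := IsAdicComplete.liftAlgHom 𝔠 (fun n => (seq n).1) hcompat
  have hv : ∀ n b, Ideal.Quotient.mk (𝔠 ^ n) (v b) = (seq n).1 b := fun n b =>
    IsAdicComplete.mk_liftAlgHom 𝔠 (fun n => (seq n).1) hcompat n b
  refine ⟨v, ?_, ?_⟩
  · obtain ⟨m, hm⟩ := (seq 1).2.2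
    refine ⟨m, ?_⟩
    rw [Ideal.map_le_iff_le_comap]
    intro x hx
    rw [Ideal.mem_comap]
    have h1 : Ideal.Quotient.mk (𝔠 ^ 1) (v x) = 0 := by rw [hv 1 x]; exact hm x hx
    rw [Ideal.Quotient.eq_zero_iff_mem, pow_one] at h1
    exact h1
  · ext b
    change Ideal.Quotient.mk J (v b) = u b
    rw [← sub_eq_zero]
    apply IsHausdorff.haus' (I := 𝔠.map (Ideal.Quotient.mk J))
    intro n
    rw [SModEq.zero, smul_eq_mul, Ideal.mul_top, ← Ideal.map_pow]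
    obtain ⟨c', hc'⟩ := Ideal.Quotient.mk_surjective (u b)
    have h1 := (seq n).2.1 b
    rw [← hv n b, ← hc'] at h1
    have h2 : Ideal.Quotient.mk (J ⊔ 𝔠 ^ n) (v b) = Ideal.Quotient.mk (J ⊔ 𝔠 ^ n) c' := h1
    rw [Ideal.Quotient.eq] at h2
    obtain ⟨j, hj, y, hy, hjy⟩ := Submodule.mem_sup.mp h2
    rw [← hc', ← map_sub, ← hjy, map_add, Ideal.Quotient.eq_zero_iff_mem.mpr hj, zero_add]
    exact Ideal.mem_map_of_mem _ hy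

end step

end Groth.Agent.Lib.Helper19
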