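import Groth.Agent.Lib.Helper19FSAdicFormal

/-!
# Adic formal smoothness can be tested modulo powers of the ideal of the base (EGA 0_IV 19.3.?)
(helper19)
-/

set_option autoImplicit false
universe u

namespace Groth.Agent.Lib.Helper19

open Ideal

theorem isFormallySmoothAdic_iff_forall_quotient_pow {A B : Type u} [CommRing A] [CommRing B]
    [Algebra A B] (𝔞 : Ideal A) (𝔟 : Ideal B) :
    EGA41.IsFormallySmoothAdic A 𝔞 B 𝔟 ↔
      ∀ n : ℕ, EGA41.IsFormallySmoothAdic (A ⧸ 𝔞 ^ n) ⊥ (B ⧸ (𝔞 ^ n).map (algebraMap A B))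
        (𝔟.map (Ideal.Quotient.mk ((𝔞 ^ n).map (algebraMap A B)))) := by
  constructor
  · intro H n C _ _ J hJ _ u hu
    letI : Algebra A C := ((algebraMap (A ⧸ 𝔞 ^ n) C).comp (Ideal.Quotient.mk (𝔞 ^ n))).toAlgebra
    haveI : IsScalarTower A (A ⧸ 𝔞 ^ n) C := IsScalarTower.of_algebraMap_eq (fun _ => rfl)
    have hkill : ∀ a ∈ 𝔞 ^ n, algebraMap A C a = 0 := fun a ha => by
      change algebraMap (A ⧸ 𝔞 ^ n) C (Ideal.Quotient.mk (𝔞 ^ n) a) = 0
      rw [Ideal.Quotient.eq_zero_iff_mem.mpr ha, map_zero]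
    have h𝔞C : ∃ k : ℕ, (𝔞 ^ k).map (algebraMap A C) = ⊥ := by
      refine ⟨n, ?_⟩
      rw [eq_bot_iff, Ideal.map_le_iff_le_comap]
      intro a ha
      rw [Ideal.mem_comap, Ideal.mem_bot]
      exact hkill a ha
    let u' : B →ₐ[A] C ⧸ J :=
      { u.toRingHom.comp (Ideal.Quotient.mk ((𝔞 ^ n).map (algebraMap A B))) with
        commutes' := fun a => by
          change u (Ideal.Quotient.mk _ (algebraMap A B a)) = algebraMap A (C ⧸ J) a
          have h1 : Ideal.Quotient.mk ((𝔞 ^ n).map (algebraMap A B)) (algebraMap A B a) =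
              algebraMap (A ⧸ 𝔞 ^ n) (B ⧸ (𝔞 ^ n).map (algebraMap A B))
                (Ideal.Quotient.mk (𝔞 ^ n) a) := rfl
          rw [h1, u.commutes]
          rfl }
    have hu'b : ∀ b, u' b = u (Ideal.Quotient.mk _ b) := fun b => rfl
    obtain ⟨k, hk⟩ := hu
    have hu' : ∃ k : ℕ, ∀ x ∈ 𝔟 ^ k, u' x = 0 := by
      refine ⟨k, fun x hx => ?_⟩
      rw [hu'b]
      apply hk
      rw [← Ideal.map_pow]
      exact Ideal.mem_map_of_mem _ hx
    obtain ⟨v', hv'⟩ := H C J hJ h𝔞C u' hu'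
    have hv'b : ∀ b, Ideal.Quotient.mk J (v' b) = u (Ideal.Quotient.mk _ b) := fun b => by
      have := congrArg (fun f => f b) hv'
      simpa [hu'b] using this
    have hker : ∀ x ∈ (𝔞 ^ n).map (algebraMap A B), v'.toRingHom x = 0 := by
      have hle : (𝔞 ^ n).map (algebraMap A B) ≤ RingHom.ker v'.toRingHom := by
        rw [Ideal.map_le_iff_le_comap]
        intro a ha
        rw [Ideal.mem_comap, RingHom.mem_ker]
        change v' (algebraMap A B a) = 0
        rw [v'.commutes]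
        exact hkill a ha
      intro x hx
      exact hle hx
    let v : (B ⧸ (𝔞 ^ n).map (algebraMap A B)) →ₐ[A ⧸ 𝔞 ^ n] C :=
      { Ideal.Quotient.lift ((𝔞 ^ n).map (algebraMap A B)) v'.toRingHom hker with
        commutes' := fun r => by
          obtain ⟨a, rfl⟩ := Ideal.Quotient.mk_surjective r
          change Ideal.Quotient.lift _ v'.toRingHom hker
            (Ideal.Quotient.mk _ (algebraMap A B a)) = _
          rw [Ideal.Quotient.lift_mk]
          exact v'.commutes a }
    refine ⟨v, ?_⟩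
    ext x
    obtain ⟨b, rfl⟩ := Ideal.Quotient.mk_surjective x
    change Ideal.Quotient.mk J (Ideal.Quotient.lift _ v'.toRingHom hker
      (Ideal.Quotient.mk _ b)) = _
    rw [Ideal.Quotient.lift_mk]
    exact hv'b b
  · intro H' C _ _ J hJ h𝔞 u hu
    obtain ⟨k, hk⟩ := h𝔞
    have hkill : ∀ a ∈ 𝔞 ^ k, algebraMap A C a = 0 := fun a ha => by
      have h1 : algebraMap A C a ∈ (𝔞 ^ k).map (algebraMap A C) := Ideal.mem_map_of_mem _ ha
      rw [hk, Ideal.mem_bot] at h1
      exact h1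
    letI : Algebra (A ⧸ 𝔞 ^ k) C := (Ideal.Quotient.lift (𝔞 ^ k) (algebraMap A C) hkill).toAlgebra
    haveI : IsScalarTower A (A ⧸ 𝔞 ^ k) C := IsScalarTower.of_algebraMap_eq (fun _ => rfl)
    have hker : ∀ x ∈ (𝔞 ^ k).map (algebraMap A B), u.toRingHom x = 0 := by
      have hle : (𝔞 ^ k).map (algebraMap A B) ≤ RingHom.ker u.toRingHom := by
        rw [Ideal.map_le_iff_le_comap]
        intro a ha
        rw [Ideal.mem_comap, RingHom.mem_ker]
        change u (algebraMap A B a) = 0
        rw [u.commutes]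
        change Ideal.Quotient.mk J (algebraMap A C a) = 0
        rw [hkill a ha, map_zero]
      intro x hx
      exact hle hx
    let ubar : (B ⧸ (𝔞 ^ k).map (algebraMap A B)) →ₐ[A ⧸ 𝔞 ^ k] C ⧸ J :=
      { Ideal.Quotient.lift ((𝔞 ^ k).map (algebraMap A B)) u.toRingHom hker with
        commutes' := fun r => by
          obtain ⟨a, rfl⟩ := Ideal.Quotient.mk_surjective r
          change Ideal.Quotient.lift _ u.toRingHom hker
            (Ideal.Quotient.mk _ (algebraMap A B a)) = _
          rw [Ideal.Quotient.lift_mk]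
          exact u.commutes a }
    have hubar : ∀ b, ubar (Ideal.Quotient.mk _ b) = u b := fun b => rfl
    obtain ⟨m, hm⟩ := hu
    have hubar0 : ∃ m : ℕ, ∀ x ∈ (𝔟.map (Ideal.Quotient.mk ((𝔞 ^ k).map (algebraMap A B)))) ^ m,
        ubar x = 0 := by
      refine ⟨m, fun x hx => ?_⟩
      rw [← Ideal.map_pow] at hx
      obtain ⟨b, hb, rfl⟩ :=
        Ideal.mem_image_of_mem_map_of_surjective _ Ideal.Quotient.mk_surjective hx
      rw [hubar]
      exact hm b hb
    obtain ⟨vbar, hvbar⟩ := H' k C J hJ ⟨1, by rw [pow_one, Ideal.map_bot]⟩ ubar hubar0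
    have hvbarb : ∀ x, Ideal.Quotient.mk J (vbar x) = ubar x := fun x => by
      have := congrArg (fun f => f x) hvbar
      simpa using this
    let v : B →ₐ[A] C :=
      { vbar.toRingHom.comp (Ideal.Quotient.mk ((𝔞 ^ k).map (algebraMap A B))) with
        commutes' := fun a => by
          change vbar (Ideal.Quotient.mk _ (algebraMap A B a)) = algebraMap A C a
          have h1 : Ideal.Quotient.mk ((𝔞 ^ k).map (algebraMap A B)) (algebraMap A B a) =
              algebraMap (A ⧸ 𝔞 ^ k) (B ⧸ (𝔞 ^ k).map (algebraMap A B))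
                (Ideal.Quotient.mk (𝔞 ^ k) a) := rfl
          rw [h1, vbar.commutes]
          rfl }
    refine ⟨v, ?_⟩
    ext b
    change Ideal.Quotient.mk J (vbar (Ideal.Quotient.mk _ b)) = u b
    rw [hvbarb, hubar]

end Groth.Agent.Lib.Helper19
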