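import Groth.Agent.Lib.Helper19FSArtin

/-!
# Flat formally smooth maps of Artinian local rings preserve length (helper19)
-/

set_option autoImplicit false
set_option linter.style.haveILetI false
set_option linter.unusedSectionVars false
universe u v

namespace Groth.Agent.Lib.Helper19.FSArtin

open IsLocalRing TensorProduct

theorem isNilpotent_maximalIdeal_of_isArtinianRing (R : Type u) [CommRing R] [IsLocalRing R]
    [IsArtinianRing R] : IsNilpotent (maximalIdeal R) := by
  have := IsArtinianRing.isNilpotent_jacobson_bot (R := R)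
  rwa [jacobson_eq_maximalIdeal ⊥ bot_ne_top] at this

/-- For a flat, formally smooth map of Artinian local rings, `𝔪_A B = 𝔪_B`. -/
theorem map_maximalIdeal_isMaximal (A : Type u) (B : Type v) [CommRing A] [CommRing B]
    [IsLocalRing A] [IsLocalRing B] [IsArtinianRing B] [Algebra A B]
    [IsLocalHom (algebraMap A B)] [Algebra.FormallySmooth A B] :
    ((maximalIdeal A).map (algebraMap A B)).IsMaximal := by
  set I := maximalIdeal A with hI
  set IB := I.map (algebraMap A B) with hIB
  have hne : IB ≠ ⊤ := (map_maximalIdeal_lt_top (algebraMap A B)).ne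
  haveI : Nontrivial (B ⧸ IB) := Ideal.Quotient.nontrivial_iff.mpr hne
  haveI : IsLocalRing (B ⧸ IB) :=
    IsLocalRing.of_surjective' (Ideal.Quotient.mk IB) Ideal.Quotient.mk_surjective
  haveI : IsArtinianRing (B ⧸ IB) :=
    (Ideal.Quotient.mk_surjective (I := IB)).isArtinianRing
  letI : Field (A ⧸ I) := Ideal.Quotient.field I
  haveI : Algebra.FormallySmooth (A ⧸ I) (B ⧸ IB) :=
    Algebra.FormallySmooth.of_equiv
      (Algebra.TensorProduct.quotIdealMapEquivQuotTensor B I).symm
  have h0 : maximalIdeal (B ⧸ IB) = ⊥ :=
    maximalIdeal_eq_bot_of_formallySmooth_field (κ := A ⧸ I)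
      (isNilpotent_maximalIdeal_of_isArtinianRing (B ⧸ IB))
  exact Ideal.Quotient.maximal_of_isField IB (IsLocalRing.isField_iff_maximalIdeal_eq.2 h0)

/-- STCI: a flat formally smooth map of Artinian local rings preserves the length. -/
theorem length_eq_of_flat_formallySmooth (A : Type u) (B : Type v) [CommRing A] [CommRing B]
    [IsLocalRing A] [IsLocalRing B] [IsArtinianRing A] [IsArtinianRing B] [Algebra A B]
    [Module.Flat A B] [Algebra.FormallySmooth A B] :
    Module.length A A = Module.length B B := by
  haveI : IsLocalHom (algebraMap A B) := by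
    refine ⟨fun a ha => ?_⟩
    by_contra hna
    have hm : a ∈ maximalIdeal A := hna
    obtain ⟨n, hn⟩ := isNilpotent_maximalIdeal_of_isArtinianRing A
    have h1 : a ^ n = 0 := by
      have := Ideal.pow_mem_pow hm n
      rwa [hn, Ideal.zero_eq_bot, Ideal.mem_bot] at this
    have h2 : (algebraMap A B a) ^ n = 0 := by rw [← map_pow, h1, map_zero]
    have h3 : IsUnit ((algebraMap A B a) ^ n) := ha.pow n
    rw [h2] at h3
    exact not_isUnit_zero h3
  have h1 := IsLocalRing.length_baseChange A B A
  have h2 : Module.length B (B ⊗[A] A) = Module.length B B :=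
    (AlgebraTensorModule.rid A B B).length_eq
  haveI hmax := map_maximalIdeal_isMaximal A B
  haveI : IsSimpleModule B (B ⧸ (maximalIdeal A).map (algebraMap A B)) :=
    isSimpleModule_iff_quot_maximal.mpr ⟨_, hmax, ⟨LinearEquiv.refl _ _⟩⟩
  have h3 : Module.length B (B ⧸ (maximalIdeal A).map (algebraMap A B)) = 1 :=
    Module.length_eq_one B _
  rw [h2, h3, mul_one] at h1
  exact h1.symm

end Groth.Agent.Lib.Helper19.FSArtin
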