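import Groth.Agent.S9318
import Groth.Agent.Lib.Helper19ComplFlatMap

/-!
# Adic formal smoothness and the map of completions (helper19)
-/

set_option autoImplicit false
universe u

namespace Groth.Agent.Lib.Helper19

open Ideal

section

variable {R S : Type u} [CommRing R] [CommRing S] [Algebra R S] (𝔪 : Ideal R) (𝔫 : Ideal S)

theorem isAdicFormallySmooth_completion_iff_completion_map (h𝔪 : 𝔪.FG)
    (hc : ∃ c : ℕ, (𝔪 ^ c).map (algebraMap R S) ≤ 𝔫)
    (ψ : AdicCompletion 𝔪 R →+* AdicCompletion 𝔫 S)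
    (hψ : ψ.comp (algebraMap R (AdicCompletion 𝔪 R)) =
      (algebraMap S (AdicCompletion 𝔫 S)).comp (algebraMap R S)) :
    CAlgX.IsAdicFormallySmooth R (AdicCompletion 𝔫 S) (𝔫.map (algebraMap S (AdicCompletion 𝔫 S))) ↔
      letI : Algebra (AdicCompletion 𝔪 R) (AdicCompletion 𝔫 S) := ψ.toAlgebra
      CAlgX.IsAdicFormallySmooth (AdicCompletion 𝔪 R) (AdicCompletion 𝔫 S)
        (𝔫.map (algebraMap S (AdicCompletion 𝔫 S))) := by
  letI : Algebra (AdicCompletion 𝔪 R) (AdicCompletion 𝔫 S) := ψ.toAlgebra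
  have hψ' : ∀ r : R, ψ (algebraMap R (AdicCompletion 𝔪 R) r) =
      algebraMap R (AdicCompletion 𝔫 S) r := fun r => congrArg (fun f => f r) hψ
  haveI : IsScalarTower R (AdicCompletion 𝔪 R) (AdicCompletion 𝔫 S) :=
    IsScalarTower.of_algebraMap_eq (fun r => (hψ' r).symm)
  obtain ⟨c, hc⟩ := hc
  set 𝔪c : Ideal (AdicCompletion 𝔪 R) := 𝔪.map (algebraMap R (AdicCompletion 𝔪 R)) with h𝔪c
  set 𝔫c : Ideal (AdicCompletion 𝔫 S) := 𝔫.map (algebraMap S (AdicCompletion 𝔫 S)) with h𝔫c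
  -- (K1)
  have hK1 : ∀ j : ℕ, (𝔪c ^ (c * j)).map ψ ≤ 𝔫c ^ j := by
    intro j
    rw [h𝔪c, ← Ideal.map_pow, Ideal.map_map, hψ, pow_mul, ← Ideal.map_map, Ideal.map_pow,
      Ideal.map_pow]
    apply Ideal.pow_right_mono
    exact Ideal.map_mono hc
  have hK1' : ∀ (j : ℕ) (y : AdicCompletion 𝔪 R), y ∈ 𝔪c ^ (c * j) → ψ y ∈ 𝔫c ^ j :=
    fun j y hy => hK1 j (Ideal.mem_map_of_mem _ hy)
  constructor
  · -- `R`-f.s. ⇒ `R^`-f.s.
    intro H A _ _ J hJ φ hφ
    obtain ⟨k, hk⟩ := hφ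
    letI : Algebra R A := ((algebraMap (AdicCompletion 𝔪 R) A).comp
      (algebraMap R (AdicCompletion 𝔪 R))).toAlgebra
    haveI : IsScalarTower R (AdicCompletion 𝔪 R) A := IsScalarTower.of_algebraMap_eq (fun _ => rfl)
    obtain ⟨χ, hχ⟩ := H A J hJ (φ.restrictScalars R) ⟨k, fun x hx => hk x hx⟩
    have hχb : ∀ x, Ideal.Quotient.mk J (χ x) = φ x := fun x => by
      have := congrArg (fun f => f x) hχ
      simpa using this
    -- `χ` kills `𝔫c ^ (k + k)`
    have hχJ : (𝔫c ^ k).map χ.toRingHom ≤ J := by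
      rw [Ideal.map_le_iff_le_comap]
      intro x hx
      rw [Ideal.mem_comap]
      apply Ideal.Quotient.eq_zero_iff_mem.mp
      change Ideal.Quotient.mk J (χ x) = 0
      rw [hχb]
      exact hk x hx
    have hχkill : ∀ x ∈ 𝔫c ^ (k + k), χ x = 0 := by
      intro x hx
      have h1 : χ.toRingHom x ∈ (𝔫c ^ (k + k)).map χ.toRingHom := Ideal.mem_map_of_mem _ hx
      rw [pow_add, Ideal.map_mul] at h1
      have h2 := Ideal.mul_mono hχJ hχJ h1
      rw [← pow_two, hJ, Ideal.mem_bot] at h2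
      exact h2
    -- `algebraMap R^ A` kills `𝔪c ^ (c * k + c * k)`
    have hAJ : (𝔪c ^ (c * k)).map (algebraMap (AdicCompletion 𝔪 R) A) ≤ J := by
      rw [Ideal.map_le_iff_le_comap]
      intro y hy
      rw [Ideal.mem_comap]
      apply Ideal.Quotient.eq_zero_iff_mem.mp
      have h1 : Ideal.Quotient.mk J (algebraMap (AdicCompletion 𝔪 R) A y) = φ (ψ y) :=
        (φ.commutes y).symm
      rw [h1]
      exact hk _ (hK1' k y hy)
    have hAkill : ∀ y ∈ 𝔪c ^ (c * k + c * k), algebraMap (AdicCompletion 𝔪 R) A y = 0 := by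
      intro y hy
      have h1 : algebraMap (AdicCompletion 𝔪 R) A y ∈
          (𝔪c ^ (c * k + c * k)).map (algebraMap (AdicCompletion 𝔪 R) A) :=
        Ideal.mem_map_of_mem _ hy
      rw [pow_add, Ideal.map_mul] at h1
      have h2 := Ideal.mul_mono hAJ hAJ h1
      rw [← pow_two, hJ, Ideal.mem_bot] at h2
      exact h2
    have hcomm : ∀ x : AdicCompletion 𝔪 R, χ (ψ x) = algebraMap (AdicCompletion 𝔪 R) A x := by
      intro x
      obtain ⟨r, hr⟩ := exists_sub_of_mem_map_pow 𝔪 h𝔪 (c * k + c * k) x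
      have h1 : ψ x = algebraMap R (AdicCompletion 𝔫 S) r +
          ψ (x - algebraMap R (AdicCompletion 𝔪 R) r) := by
        rw [map_sub, hψ']
        ring
      have h2 : ψ (x - algebraMap R (AdicCompletion 𝔪 R) r) ∈ 𝔫c ^ (k + k) := by
        apply hK1' (k + k)
        rw [mul_add]
        exact hr
      rw [h1, map_add, hχkill _ h2, add_zero, χ.commutes]
      have h3 := hAkill _ hr
      rw [map_sub, sub_eq_zero] at h3
      rw [h3]
      rfl
    let χc : AdicCompletion 𝔫 S →ₐ[AdicCompletion 𝔪 R] A :=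
      { χ.toRingHom with commutes' := hcomm }
    refine ⟨χc, ?_⟩
    ext x
    exact hχb x
  · -- `R^`-f.s. ⇒ `R`-f.s.
    intro H A _ _ J hJ φ hφ
    obtain ⟨k, hk⟩ := hφ
    have hRJ : (𝔪 ^ (c * k)).map (algebraMap R A) ≤ J := by
      rw [Ideal.map_le_iff_le_comap]
      intro a ha
      rw [Ideal.mem_comap]
      apply Ideal.Quotient.eq_zero_iff_mem.mp
      have h1 : Ideal.Quotient.mk J (algebraMap R A a) =
          φ (algebraMap R (AdicCompletion 𝔫 S) a) := (φ.commutes a).symm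
      rw [h1, ← hψ']
      apply hk
      apply hK1' k
      rw [h𝔪c, ← Ideal.map_pow]
      exact Ideal.mem_map_of_mem _ ha
    have hRkill : ∀ a ∈ 𝔪 ^ (c * k + c * k), algebraMap R A a = 0 := by
      intro a ha
      have h1 : algebraMap R A a ∈ (𝔪 ^ (c * k + c * k)).map (algebraMap R A) :=
        Ideal.mem_map_of_mem _ ha
      rw [pow_add, Ideal.map_mul] at h1
      have h2 := Ideal.mul_mono hRJ hRJ h1
      rw [← pow_two, hJ, Ideal.mem_bot] at h2
      exact h2
    let ρ : AdicCompletion 𝔪 R →+* A :=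
      (Ideal.Quotient.lift (𝔪 ^ (c * k + c * k)) (algebraMap R A) hRkill).comp
        (AdicCompletion.evalₐ 𝔪 (c * k + c * k)).toRingHom
    have hρι : ∀ r : R, ρ (algebraMap R (AdicCompletion 𝔪 R) r) = algebraMap R A r := fun r => by
      change Ideal.Quotient.lift _ (algebraMap R A) hRkill
        (AdicCompletion.evalₐ 𝔪 (c * k + c * k) (algebraMap R (AdicCompletion 𝔪 R) r)) = _
      rw [AdicCompletion.algebraMap_apply, AdicCompletion.evalₐ_of, Algebra.algebraMap_self,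
        RingHom.id_apply, Ideal.Quotient.lift_mk]
    have hρkill : ∀ y ∈ 𝔪c ^ (c * k + c * k), ρ y = 0 := fun y hy => by
      change Ideal.Quotient.lift _ (algebraMap R A) hRkill
        (AdicCompletion.evalₐ 𝔪 (c * k + c * k) y) = 0
      rw [evalₐ_eq_zero_of_mem_map_pow 𝔪 _ y hy, map_zero]
    letI : Algebra (AdicCompletion 𝔪 R) A := ρ.toAlgebra
    haveI : IsScalarTower R (AdicCompletion 𝔪 R) A :=
      IsScalarTower.of_algebraMap_eq (fun r => (hρι r).symm)
    have hcomm : ∀ x : AdicCompletion 𝔪 R,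
        φ (ψ x) = algebraMap (AdicCompletion 𝔪 R) (A ⧸ J) x := by
      intro x
      obtain ⟨r, hr⟩ := exists_sub_of_mem_map_pow 𝔪 h𝔪 (c * k + c * k) x
      have h1 : ψ x = algebraMap R (AdicCompletion 𝔫 S) r +
          ψ (x - algebraMap R (AdicCompletion 𝔪 R) r) := by
        rw [map_sub, hψ']
        ring
      have h2 : ψ (x - algebraMap R (AdicCompletion 𝔪 R) r) ∈ 𝔫c ^ k := by
        have h3 : ψ (x - algebraMap R (AdicCompletion 𝔪 R) r) ∈ 𝔫c ^ (k + k) := by
          apply hK1' (k + k)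
          rw [mul_add]
          exact hr
        exact Ideal.pow_le_pow_right (Nat.le_add_right k k) h3
      rw [h1, map_add, hk _ h2, add_zero, φ.commutes]
      change Ideal.Quotient.mk J (algebraMap R A r) = Ideal.Quotient.mk J (ρ x)
      have h4 := hρkill _ hr
      rw [map_sub, sub_eq_zero, hρι] at h4
      rw [h4]
    let φc : AdicCompletion 𝔫 S →ₐ[AdicCompletion 𝔪 R] A ⧸ J :=
      { φ.toRingHom with commutes' := hcomm }
    obtain ⟨χ, hχ⟩ := H A J hJ φc ⟨k, fun x hx => hk x hx⟩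
    refine ⟨χ.restrictScalars R, ?_⟩
    ext x
    have := congrArg (fun f => f x) hχ
    exact this

end

end Groth.Agent.Lib.Helper19
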