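import Mathlib
import Groth.Prelude.Def_EGA41
import Groth.Agent.Lib.Helper19FSAdicFormal

/-!
# Descent of adic formal smoothness along a faithfully flat projective base change
(EGA 0_IV 19.4.6 / 19.4.7; S4554) (helper19)
-/

set_option autoImplicit false
set_option linter.style.haveILetI false
set_option linter.unusedSectionVars false
universe u

namespace Groth.Agent.Lib.Helper19.FSDescent

open TensorProduct

/-- A projective faithfully flat algebra admits a linear retraction of its structure map. -/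
theorem exists_retraction_of_faithfullyFlat_projective (A A' : Type*) [CommRing A] [CommRing A']
    [Algebra A A'] [Module.FaithfullyFlat A A'] [Module.Projective A A'] :
    ∃ ρ : A' →ₗ[A] A, ρ 1 = 1 := by
  let ev : (A' →ₗ[A] A) →ₗ[A] A := LinearMap.applyₗ (1 : A')
  have htop : LinearMap.range ev = ⊤ := by
    by_contra hne
    obtain ⟨𝔪, h𝔪, hle⟩ := Ideal.exists_le_maximal (LinearMap.range ev) hne
    have h1 : (1 : A') ∉ (𝔪 • ⊤ : Submodule A A') := by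
      intro h1
      apply Module.FaithfullyFlat.submodule_ne_top (R := A) (M := A') h𝔪
      rw [eq_top_iff]
      intro x _
      have : ∀ y ∈ (𝔪 • ⊤ : Submodule A A'), x * y ∈ (𝔪 • ⊤ : Submodule A A') := by
        intro y hy
        refine Submodule.smul_induction_on hy ?_ ?_
        · intro r hr n _
          rw [mul_smul_comm]
          exact Submodule.smul_mem_smul hr trivial
        · intro a b ha hb
          rw [mul_add]
          exact Submodule.add_mem _ ha hb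
      simpa using this 1 h1
    letI : Field (A ⧸ 𝔪) := Ideal.Quotient.field 𝔪
    let V := A' ⧸ (𝔪 • ⊤ : Submodule A A')
    let v : V := Submodule.Quotient.mk 1
    have hv : v ≠ 0 := by
      intro h
      exact h1 ((Submodule.Quotient.mk_eq_zero _).1 h)
    obtain ⟨g, hg⟩ := LinearMap.exists_leftInverse_of_injective
      (LinearMap.toSpanSingleton (A ⧸ 𝔪) V v) (LinearMap.ker_toSpanSingleton (A ⧸ 𝔪) hv)
    have hgv : g v = 1 := by
      have := congrArg (fun f => f 1) hg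
      simpa using this
    let φ : A' →ₗ[A] A ⧸ 𝔪 := (g.restrictScalars A) ∘ₗ (Submodule.mkQ _)
    obtain ⟨ρ, hρ⟩ := Module.projective_lifting_property (Submodule.mkQ 𝔪) φ
      (Submodule.mkQ_surjective _)
    have h2 : ρ 1 ∈ 𝔪 := hle ⟨ρ, rfl⟩
    have h3 : Ideal.Quotient.mk 𝔪 (ρ 1) = 1 := by
      have := congrArg (fun f => f 1) hρ
      simp only [LinearMap.comp_apply, φ] at this
      exact this.trans hgv
    rw [Ideal.Quotient.eq_zero_iff_mem.2 h2] at h3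
    exact zero_ne_one h3
  obtain ⟨ρ, hρ⟩ := (LinearMap.range_eq_top.1 htop) 1
  exact ⟨ρ, hρ⟩

/-- To check `IsFormallySmoothAdic` it suffices to lift along square-zero ideals. -/
theorem isFormallySmoothAdic_of_sqZero {A B : Type u} [CommRing A] [CommRing B] [Algebra A B]
    (𝔞 : Ideal A) (𝔟 : Ideal B)
    (h : ∀ (C : Type u) [CommRing C] [Algebra A C] (J : Ideal C), J ^ 2 = ⊥ →
      (∃ k : ℕ, (𝔞 ^ k).map (algebraMap A C) = ⊥) →
      ∀ u : B →ₐ[A] C ⧸ J, (∃ k : ℕ, ∀ x ∈ 𝔟 ^ k, u x = 0) →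
        ∃ v : B →ₐ[A] C, (Ideal.Quotient.mkₐ A J).comp v = u) :
    EGA41.IsFormallySmoothAdic A 𝔞 B 𝔟 := by
  intro C _ _ J hJ h0 u hu
  revert u
  revert h0
  revert ‹Algebra A C›
  refine Ideal.IsNilpotent.induction_on (S := C) J hJ
    (P := fun S _ I => IsNilpotent I → ∀ [Algebra A S],
      (∃ k : ℕ, (𝔞 ^ k).map (algebraMap A S) = ⊥) → ∀ (u : B →ₐ[A] S ⧸ I),
      (∃ k : ℕ, ∀ x ∈ 𝔟 ^ k, u x = 0) → ∃ v : B →ₐ[A] S, (Ideal.Quotient.mkₐ A I).comp v = u)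
    ?_ ?_ hJ
  · intro S _ I hI _ _ h0 u hu
    exact h S I hI h0 u hu
  · intro S _ I J hIJ h₁ h₂ hJnil _ h0 g hg
    have hInil : IsNilpotent I := by
      obtain ⟨m, hm⟩ := hJnil
      refine ⟨m, ?_⟩
      rw [Ideal.zero_eq_bot, eq_bot_iff] at hm ⊢
      exact (Ideal.pow_right_mono hIJ m).trans hm
    have hJInil : IsNilpotent (J.map (Ideal.Quotient.mk I)) := by
      obtain ⟨m, hm⟩ := hJnil
      refine ⟨m, ?_⟩
      rw [← Ideal.map_pow, hm, Ideal.zero_eq_bot, Ideal.map_bot]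
      rfl
    have h0' : ∃ k : ℕ, (𝔞 ^ k).map (algebraMap A (S ⧸ I)) = ⊥ := by
      obtain ⟨k, hk⟩ := h0
      refine ⟨k, ?_⟩
      rw [IsScalarTower.algebraMap_eq A S (S ⧸ I), ← Ideal.map_map, hk, Ideal.map_bot]
    let e : ((S ⧸ I) ⧸ J.map (Ideal.Quotient.mk I)) ≃ₐ[A] S ⧸ J :=
      { (DoubleQuot.quotQuotEquivQuotSup I J).trans
          (Ideal.quotEquivOfEq (sup_eq_right.mpr hIJ)) with
        commutes' := fun x => rfl }
    obtain ⟨k, hk⟩ := hg
    obtain ⟨g', e'⟩ := h₂ hJInil h0' (e.symm.toAlgHom.comp g)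
      ⟨k, fun x hx => by simp [hk x hx]⟩
    have hg'mk : ∀ x ∈ 𝔟 ^ k, Ideal.Quotient.mk (J.map (Ideal.Quotient.mk I)) (g' x) = 0 := by
      intro x hx
      have := congrArg (fun f => f x) e'
      simp only [AlgHom.comp_apply, Ideal.Quotient.mkₐ_eq_mk] at this
      rw [this]
      simp [hk x hx]
    obtain ⟨m, hm⟩ := exists_pow_map_eq_zero_of_lift 𝔟 _ hJInil g' k hg'mk
    obtain ⟨g'', rfl⟩ := h₁ hInil h0 g' ⟨m, hm⟩
    replace e' := congr_arg e.toAlgHom.comp e'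
    conv_rhs at e' =>
      rw [← AlgHom.comp_assoc, AlgEquiv.comp_symm, AlgHom.id_comp]
    exact ⟨g'', e'⟩

section descent

variable {A A' : Type u} [CommRing A] [CommRing A'] [Algebra A A']

/-- the `C`-linear retraction `A' ⊗ C → C` induced by a linear form `ρ : A' → A` -/
noncomputable def retr (ρ : A' →ₗ[A] A) (C : Type u) [CommRing C] [Algebra A C] :
    A' ⊗[A] C →ₗ[A] C :=
  (TensorProduct.lid A C).toLinearMap ∘ₗ (LinearMap.rTensor C ρ)

variable (ρ : A' →ₗ[A] A) (C : Type u) [CommRing C] [Algebra A C]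

@[simp] lemma retr_tmul (a' : A') (c : C) : retr ρ C (a' ⊗ₜ c) = ρ a' • c := by
  simp [retr]

lemma retr_mul_one_tmul (x : A' ⊗[A] C) (c : C) :
    retr ρ C (x * (1 ⊗ₜ c)) = retr ρ C x * c := by
  induction x with
  | zero => simp
  | tmul a c0 => simp [Algebra.TensorProduct.tmul_mul_tmul]
  | add x y hx hy => rw [add_mul, map_add, hx, hy, map_add, add_mul]

lemma retr_mem (J : Ideal C) (x : A' ⊗[A] C)
    (hx : x ∈ J.map (Algebra.TensorProduct.includeRight : C →ₐ[A] A' ⊗[A] C).toRingHom) :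
    retr ρ C x ∈ J := by
  have key : ∀ a : A' ⊗[A] C, retr ρ C (a * x) ∈ J := by
    refine Submodule.span_induction (p := fun x _ => ∀ a : A' ⊗[A] C, retr ρ C (a * x) ∈ J)
      ?_ ?_ ?_ ?_ hx
    · rintro _ ⟨j, hj, rfl⟩ a
      change retr ρ C (a * ((1 : A') ⊗ₜ j)) ∈ J
      rw [retr_mul_one_tmul]
      exact J.mul_mem_left _ hj
    · intro a
      simp
    · intro x y _ _ hx hy a
      rw [mul_add, map_add]
      exact J.add_mem (hx a) (hy a)
    · intro b x _ hx a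
      rw [smul_eq_mul, ← mul_assoc]
      exact hx _
  simpa using key 1

/-- multiplicativity of `retr` on elements congruent to `1 ⊗ c` modulo a square-zero ideal -/
lemma retr_mul_of_sub_mem (hρ : ρ 1 = 1) (J : Ideal C) (hJ2 : J ^ 2 = ⊥) (x₁ x₂ : A' ⊗[A] C) (c₁ c₂ : C)
    (h₁ : x₁ - 1 ⊗ₜ c₁ ∈ J.map (Algebra.TensorProduct.includeRight : C →ₐ[A] A' ⊗[A] C).toRingHom)
    (h₂ : x₂ - 1 ⊗ₜ c₂ ∈ J.map (Algebra.TensorProduct.includeRight : C →ₐ[A] A' ⊗[A] C).toRingHom) :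
    retr ρ C (x₁ * x₂) = retr ρ C x₁ * retr ρ C x₂ := by
  set J' := J.map (Algebra.TensorProduct.includeRight : C →ₐ[A] A' ⊗[A] C).toRingHom with hJ'
  have hJ'2 : J' ^ 2 = ⊥ := by rw [hJ', ← Ideal.map_pow, hJ2, Ideal.map_bot]
  set n₁ := x₁ - 1 ⊗ₜ c₁ with hn₁
  set n₂ := x₂ - 1 ⊗ₜ c₂ with hn₂
  have e₁ : x₁ = 1 ⊗ₜ c₁ + n₁ := by rw [hn₁]; ring
  have e₂ : x₂ = 1 ⊗ₜ c₂ + n₂ := by rw [hn₂]; ring
  have hnn : n₁ * n₂ = 0 := by
    have : n₁ * n₂ ∈ J' ^ 2 := by rw [pow_two]; exact Ideal.mul_mem_mul h₁ h₂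
    rwa [hJ'2, Ideal.mem_bot] at this
  have hrr : retr ρ C n₁ * retr ρ C n₂ = 0 := by
    have : retr ρ C n₁ * retr ρ C n₂ ∈ J ^ 2 := by
      rw [pow_two]; exact Ideal.mul_mem_mul (retr_mem ρ C J _ h₁) (retr_mem ρ C J _ h₂)
    rwa [hJ2, Ideal.mem_bot] at this
  have hr1 : ∀ c : C, retr ρ C ((1 : A') ⊗ₜ c) = c := fun c => by rw [retr_tmul, hρ, one_smul]
  have hexp : x₁ * x₂ = (1 : A') ⊗ₜ[A] (c₁ * c₂) + n₁ * (1 ⊗ₜ c₂) + n₂ * (1 ⊗ₜ c₁) := by
    rw [e₁, e₂]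
    have : ((1 : A') ⊗ₜ[A] c₁ + n₁) * (1 ⊗ₜ c₂ + n₂) =
        (1 : A') ⊗ₜ[A] c₁ * 1 ⊗ₜ c₂ + n₁ * (1 ⊗ₜ c₂) + n₂ * (1 ⊗ₜ c₁) + n₁ * n₂ := by ring
    rw [this, hnn, add_zero, Algebra.TensorProduct.tmul_mul_tmul, one_mul]
  rw [hexp, map_add, map_add, retr_mul_one_tmul, retr_mul_one_tmul, hr1]
  rw [e₁, e₂, map_add, map_add, hr1, hr1]
  have : (c₁ + retr ρ C n₁) * (c₂ + retr ρ C n₂) =
      c₁ * c₂ + retr ρ C n₁ * c₂ + retr ρ C n₂ * c₁ + retr ρ C n₁ * retr ρ C n₂ := by ring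
  rw [this, hrr, add_zero]

end descent

section main

variable {A B A' : Type u} [CommRing A] [CommRing B] [CommRing A'] [Algebra A B] [Algebra A A']

/-- Descent of adic formal smoothness along a base change `A → A'` admitting an `A`-linear
retraction. -/
theorem isFormallySmoothAdic_of_baseChange_of_retraction (𝔞 : Ideal A) (𝔟 : Ideal B)
    (ρ : A' →ₗ[A] A) (hρ : ρ 1 = 1)
    (H : EGA41.IsFormallySmoothAdic A' (𝔞.map (algebraMap A A')) (A' ⊗[A] B)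
        ((𝔞.map (algebraMap A A')).map (algebraMap A' (A' ⊗[A] B)) ⊔
          𝔟.map (Algebra.TensorProduct.includeRight : B →ₐ[A] A' ⊗[A] B).toRingHom)) :
    EGA41.IsFormallySmoothAdic A 𝔞 B 𝔟 := by
  apply isFormallySmoothAdic_of_sqZero
  rintro C _ _ J hJ2 ⟨k₁, hk₁⟩ u ⟨k₂, hk₂⟩
  let ι : C →ₐ[A] A' ⊗[A] C := Algebra.TensorProduct.includeRight
  set J' : Ideal (A' ⊗[A] C) := J.map ι.toRingHom with hJ'
  have hJ'2 : J' ^ 2 = ⊥ := by rw [hJ', ← Ideal.map_pow, hJ2, Ideal.map_bot]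
  have hJ'nil : IsNilpotent J' := ⟨2, hJ'2⟩
  let g : C ⧸ J →ₐ[A] (A' ⊗[A] C) ⧸ J' :=
    Ideal.Quotient.liftₐ J ((Ideal.Quotient.mkₐ A J').comp ι) (fun x hx => by
      rw [AlgHom.comp_apply, Ideal.Quotient.mkₐ_eq_mk]
      exact Ideal.Quotient.eq_zero_iff_mem.2 (Ideal.mem_map_of_mem _ hx))
  have hg : ∀ c : C, g (Ideal.Quotient.mk J c) = Ideal.Quotient.mk J' (1 ⊗ₜ c) := fun c => rfl
  let u' : A' ⊗[A] B →ₐ[A'] (A' ⊗[A] C) ⧸ J' :=
    Algebra.TensorProduct.lift (Algebra.ofId A' _) (g.comp u) (fun _ _ => Commute.all _ _)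
  have hu' : ∀ b : B, u' (1 ⊗ₜ b) = g (u b) := fun b => by
    simp only [u', Algebra.TensorProduct.lift_tmul, map_one, one_mul, AlgHom.comp_apply]
  have hbot : ((𝔞.map (algebraMap A A')) ^ k₁).map (algebraMap A' (A' ⊗[A] C)) = ⊥ := by
    rw [← Ideal.map_pow, Ideal.map_map, ← IsScalarTower.algebraMap_eq A A' (A' ⊗[A] C)]
    have : algebraMap A (A' ⊗[A] C) = ι.toRingHom.comp (algebraMap A C) := by
      ext a
      exact (ι.commutes a).symm
    rw [this, ← Ideal.map_map, hk₁, Ideal.map_bot]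
  have hkill : ∀ x ∈ ((𝔞.map (algebraMap A A')).map (algebraMap A' (A' ⊗[A] B)) ⊔
      𝔟.map (Algebra.TensorProduct.includeRight : B →ₐ[A] A' ⊗[A] B).toRingHom) ^ (k₁ + k₂),
      u' x = 0 := by
    intro x hx
    have hx' := Ideal.sup_pow_add_le_pow_sup_pow hx
    obtain ⟨y, hy, z, hz, rfl⟩ := Submodule.mem_sup.1 hx'
    have hy0 : u' y = 0 := by
      have hle : ((𝔞.map (algebraMap A A')).map (algebraMap A' (A' ⊗[A] B))) ^ k₁ ≤
          RingHom.ker u'.toRingHom := by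
        rw [← Ideal.map_pow, Ideal.map_le_iff_le_comap]
        intro a ha
        rw [Ideal.mem_comap, RingHom.mem_ker]
        change u' (algebraMap A' _ a) = 0
        rw [u'.commutes, IsScalarTower.algebraMap_apply A' (A' ⊗[A] C) ((A' ⊗[A] C) ⧸ J')]
        have h0 : algebraMap A' (A' ⊗[A] C) a = 0 := by
          have := Ideal.mem_map_of_mem (algebraMap A' (A' ⊗[A] C)) ha
          rwa [hbot, Ideal.mem_bot] at this
        rw [h0, map_zero]
      exact hle hy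
    have hz0 : u' z = 0 := by
      have hle : (𝔟.map (Algebra.TensorProduct.includeRight : B →ₐ[A] A' ⊗[A] B).toRingHom) ^ k₂ ≤
          RingHom.ker u'.toRingHom := by
        rw [← Ideal.map_pow, Ideal.map_le_iff_le_comap]
        intro b hb
        rw [Ideal.mem_comap, RingHom.mem_ker]
        change u' (1 ⊗ₜ b) = 0
        rw [hu', hk₂ b hb, map_zero]
      exact hle hz
    rw [map_add, hy0, hz0, add_zero]
  obtain ⟨v', hv'⟩ := H (A' ⊗[A] C) J' hJ'nil ⟨k₁, hbot⟩ u' ⟨k₁ + k₂, hkill⟩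
  have hv'mk : ∀ b : B, Ideal.Quotient.mk J' (v' (1 ⊗ₜ b)) = g (u b) := fun b => by
    have := congrArg (fun f => f (1 ⊗ₜ b)) hv'
    simp only [AlgHom.comp_apply, Ideal.Quotient.mkₐ_eq_mk] at this
    rw [this, hu']
  -- congruence of `v' (1 ⊗ b)` to `1 ⊗ c` for any lift `c` of `u b`
  have hcong : ∀ (b : B) (c : C), Ideal.Quotient.mk J c = u b → v' (1 ⊗ₜ b) - 1 ⊗ₜ c ∈ J' := by
    intro b c hc
    rw [← Ideal.Quotient.eq, hv'mk, ← hc, hg]
  let χ : B →ₗ[A] C :=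
    retr ρ C ∘ₗ (v'.toLinearMap.restrictScalars A) ∘ₗ
      (Algebra.TensorProduct.includeRight : B →ₐ[A] A' ⊗[A] B).toLinearMap
  have hχ : ∀ b, χ b = retr ρ C (v' (1 ⊗ₜ b)) := fun b => rfl
  have hχ1 : χ 1 = 1 := by
    rw [hχ]
    have : (1 : A') ⊗ₜ[A] (1 : B) = 1 := rfl
    rw [this, map_one]
    have : (1 : A' ⊗[A] C) = (1 : A') ⊗ₜ[A] (1 : C) := rfl
    rw [this, retr_tmul, hρ, one_smul]
  have hχmul : ∀ b₁ b₂, χ (b₁ * b₂) = χ b₁ * χ b₂ := by
    intro b₁ b₂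
    obtain ⟨c₁, hc₁⟩ := Ideal.Quotient.mk_surjective (u b₁)
    obtain ⟨c₂, hc₂⟩ := Ideal.Quotient.mk_surjective (u b₂)
    rw [hχ, hχ, hχ]
    have : (1 : A') ⊗ₜ[A] (b₁ * b₂) = (1 ⊗ₜ b₁) * (1 ⊗ₜ b₂) := by
      rw [Algebra.TensorProduct.tmul_mul_tmul, one_mul]
    rw [this, map_mul]
    exact retr_mul_of_sub_mem ρ C hρ J hJ2 _ _ c₁ c₂ (hcong b₁ c₁ hc₁) (hcong b₂ c₂ hc₂)
  refine ⟨AlgHom.ofLinearMap χ hχ1 hχmul, ?_⟩
  ext b
  obtain ⟨c, hc⟩ := Ideal.Quotient.mk_surjective (u b)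
  rw [AlgHom.comp_apply, Ideal.Quotient.mkₐ_eq_mk, AlgHom.ofLinearMap_apply, hχ, ← hc]
  rw [Ideal.Quotient.eq]
  have h1 := retr_mem ρ C J _ (hcong b c hc)
  rwa [map_sub, retr_tmul, hρ, one_smul] at h1

open Algebra.TensorProduct in
/-- **EGA 0_IV 19.4.7-type descent**: for `A'` faithfully flat and projective over `A`,
`A' ⊗ B` is formally smooth over `A'` iff `B` is formally smooth over `A`. -/
theorem isFormallySmoothAdic_iff_baseChange (𝔞 : Ideal A) (𝔟 : Ideal B)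
    [Module.FaithfullyFlat A A'] [Module.Projective A A'] :
    EGA41.IsFormallySmoothAdic A' (𝔞.map (algebraMap A A')) (A' ⊗[A] B)
        ((𝔞.map (algebraMap A A')).map (algebraMap A' (A' ⊗[A] B)) ⊔
          𝔟.map (Algebra.TensorProduct.includeRight : B →ₐ[A] A' ⊗[A] B).toRingHom) ↔
      EGA41.IsFormallySmoothAdic A 𝔞 B 𝔟 := by
  constructor
  · intro H
    obtain ⟨ρ, hρ⟩ := exists_retraction_of_faithfullyFlat_projective A A'
    exact isFormallySmoothAdic_of_baseChange_of_retraction 𝔞 𝔟 ρ hρ H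
  · intro h
    exact Groth.Agent.Lib.Helper19.isFormallySmoothAdic_baseChange 𝔞 𝔟 (𝔞.map (algebraMap A A'))
      ⟨1, by simp⟩ h

end main

end Groth.Agent.Lib.Helper19.FSDescent
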