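import Groth.Agent.Lib.Helper19FSAdicQuot

/-!
# Formal smoothness and the closed fibre (EGA 0_IV 19.7.1) (helper19)

The skeleton of the proof that a (formally projective / flat) adic algebra whose fibre modulo an
ideal `𝔞` of the base is formally smooth is itself formally smooth.
-/

set_option autoImplicit false
set_option linter.style.haveILetI false
set_option linter.unusedSectionVars false
universe u

namespace Groth.Agent.Lib.Helper19.FSFibre

open Ideal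

section skeleton

variable {A B : Type u} [CommRing A] [CommRing B] [Algebra A B] (𝔞 : Ideal A) (𝔟 : Ideal B)

/-- the lifting property against `A`-algebras killed by `𝔞` (the fibre of `B` modulo `𝔞` is
formally smooth) -/
def FibreLifts : Prop :=
  ∀ (T : Type u) [CommRing T] [Algebra A T] (J : Ideal T), IsNilpotent J →
    (∀ a ∈ 𝔞, algebraMap A T a = 0) → ∀ f : B →ₐ[A] T ⧸ J, (∃ k : ℕ, ∀ x ∈ 𝔟 ^ k, f x = 0) →
      ∃ g : B →ₐ[A] T, (Ideal.Quotient.mkₐ A J).comp g = f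

variable {𝔞 𝔟}
variable {C' C'' : Type u} [CommRing C'] [CommRing C''] [Algebra A C'] [Algebra A C'']

theorem exists_lift_of_key (HI : FibreLifts 𝔞 𝔟)
    (p : C' →ₐ[A] C'') (hNnil : IsNilpotent (RingHom.ker p))
    (u : B →ₐ[A] C'') (m : ℕ) (hu : ∀ x ∈ 𝔟 ^ m, u x = 0)
    {E : Type u} [CommRing E] [Algebra A E] (π' : E →ₐ[A] B ⧸ 𝔟 ^ m) (fstE : E →ₐ[A] C')
    (hπ'surj : Function.Surjective π')
    (hE : ∀ e, p (fstE e) = Ideal.Quotient.liftₐ (𝔟 ^ m) u hu (π' e))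
    (hEext : ∀ e, fstE e = 0 → π' e = 0 → e = 0)
    (KEY : ∀ e ∈ 𝔞.map (algebraMap A E), π' e = 0 → e = 0) :
    ∃ g : B →ₐ[A] C', p.comp g = u := by
  let um : (B ⧸ 𝔟 ^ m) →ₐ[A] C'' := Ideal.Quotient.liftₐ (𝔟 ^ m) u hu
  have hum : ∀ b, um (Ideal.Quotient.mk _ b) = u b := fun b => rfl
  -- the ring `T`
  set IE : Ideal E := 𝔞.map (algebraMap A E) with hIE
  let qT : E →ₐ[A] E ⧸ IE := Ideal.Quotient.mkₐ A IE
  have hTkill : ∀ a ∈ 𝔞, algebraMap A (E ⧸ IE) a = 0 := by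
    intro a ha
    change Ideal.Quotient.mk IE (algebraMap A E a) = 0
    rw [Ideal.Quotient.eq_zero_iff_mem]
    exact Ideal.mem_map_of_mem _ ha
  set N' : Ideal E := RingHom.ker π' with hN'
  set JT : Ideal (E ⧸ IE) := N'.map (Ideal.Quotient.mk IE) with hJT
  have hN'nil : IsNilpotent N' := by
    obtain ⟨r, hr⟩ := hNnil
    refine ⟨r + 1, ?_⟩
    rw [Ideal.zero_eq_bot, eq_bot_iff]
    intro x hx
    rw [Ideal.mem_bot]
    have h1 : x ∈ N' := Ideal.pow_le_self (Nat.succ_ne_zero r) hx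
    have h2 : N'.map (fstE : E →+* C') ≤ RingHom.ker p := by
      rw [Ideal.map_le_iff_le_comap]
      intro e he
      rw [Ideal.mem_comap, RingHom.mem_ker]
      change p (fstE e) = 0
      rw [hE]
      have : π' e = 0 := he
      rw [this, map_zero]
    have h3 : (fstE : E →+* C') x ∈ (N' ^ (r + 1)).map (fstE : E →+* C') :=
      Ideal.mem_map_of_mem _ hx
    rw [Ideal.map_pow] at h3
    have h4 := Ideal.pow_right_mono h2 (r + 1) h3
    rw [pow_succ, hr, Ideal.zero_eq_bot, Ideal.bot_mul, Ideal.mem_bot] at h4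
    exact hEext x h4 h1
  have hJTnil : IsNilpotent JT := by
    obtain ⟨r, hr⟩ := hN'nil
    refine ⟨r, ?_⟩
    rw [hJT, ← Ideal.map_pow (Ideal.Quotient.mk IE) N' r, hr, Ideal.zero_eq_bot, Ideal.map_bot]
    rfl
  -- the map `B/𝔟^m → T/JT`
  let κ : E →ₐ[A] (E ⧸ IE) ⧸ JT := (Ideal.Quotient.mkₐ A JT).comp qT
  have hκ : ∀ e ∈ N', κ e = 0 := by
    intro e he
    change Ideal.Quotient.mk JT (Ideal.Quotient.mk IE e) = 0
    rw [Ideal.Quotient.eq_zero_iff_mem]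
    exact Ideal.mem_map_of_mem _ he
  let eq1 : (E ⧸ N') ≃ₐ[A] (B ⧸ 𝔟 ^ m) := Ideal.quotientKerAlgEquivOfSurjective hπ'surj
  have heq1 : ∀ e : E, eq1 (Ideal.Quotient.mk N' e) = π' e := fun e => rfl
  let ψ₂ : (B ⧸ 𝔟 ^ m) →ₐ[A] (E ⧸ IE) ⧸ JT :=
    (Ideal.Quotient.liftₐ N' κ hκ).comp (eq1.symm : (B ⧸ 𝔟 ^ m) →ₐ[A] E ⧸ N')
  have hψ₂ : ∀ e : E, ψ₂ (π' e) = κ e := by
    intro e
    change Ideal.Quotient.liftₐ N' κ hκ (eq1.symm (π' e)) = κ e
    rw [← heq1, AlgEquiv.symm_apply_apply]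
    rfl
  let f : B →ₐ[A] (E ⧸ IE) ⧸ JT := ψ₂.comp (Ideal.Quotient.mkₐ A (𝔟 ^ m))
  have hf : ∀ b, f b = ψ₂ (Ideal.Quotient.mk _ b) := fun b => rfl
  obtain ⟨t, ht⟩ := HI (E ⧸ IE) JT hJTnil hTkill f ⟨m, fun x hx => by
    rw [hf, Ideal.Quotient.eq_zero_iff_mem.mpr hx, map_zero]⟩
  have ht' : ∀ b, Ideal.Quotient.mk JT (t b) = f b := fun b =>
    congrArg (fun g : B →ₐ[A] (E ⧸ IE) ⧸ JT => g b) ht
  -- the embedding of `E` into `T × B/𝔟^m`
  let Θ : E →ₐ[A] (E ⧸ IE) × (B ⧸ 𝔟 ^ m) := AlgHom.prod qT π'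
  have hΘ : Function.Injective Θ := by
    rw [injective_iff_map_eq_zero]
    intro e he
    have h1 : qT e = 0 := congrArg Prod.fst he
    have h2 : π' e = 0 := congrArg Prod.snd he
    have h3 : e ∈ IE := Ideal.Quotient.eq_zero_iff_mem.mp h1
    exact KEY e h3 h2
  have hrange : ∀ b : B, (AlgHom.prod t (Ideal.Quotient.mkₐ A (𝔟 ^ m))) b ∈ Θ.range := by
    intro b
    obtain ⟨eb, heb⟩ := hπ'surj (Ideal.Quotient.mk _ b)
    obtain ⟨e₀, he₀⟩ := Ideal.Quotient.mk_surjective (t b)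
    have h1 : Ideal.Quotient.mk JT (Ideal.Quotient.mk IE e₀) =
        Ideal.Quotient.mk JT (Ideal.Quotient.mk IE eb) := by
      rw [he₀, ht', hf, ← heb, hψ₂]
      rfl
    have h2 : Ideal.Quotient.mk IE e₀ - Ideal.Quotient.mk IE eb ∈ JT := by
      rw [← Ideal.Quotient.eq_zero_iff_mem, map_sub, h1, sub_self]
    obtain ⟨n, hn, hn'⟩ := (Ideal.mem_map_iff_of_surjective _ Ideal.Quotient.mk_surjective).1 h2
    refine ⟨eb + n, ?_⟩
    apply Prod.ext
    · change Ideal.Quotient.mk IE (eb + n) = t b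
      rw [map_add, hn', ← he₀]
      ring
    · change π' (eb + n) = Ideal.Quotient.mk _ b
      rw [map_add, heb]
      have : π' n = 0 := hn
      rw [this, add_zero]
  let g₁ : B →ₐ[A] Θ.range :=
    (AlgHom.prod t (Ideal.Quotient.mkₐ A (𝔟 ^ m))).codRestrict Θ.range hrange
  let eΘ : E ≃ₐ[A] Θ.range := AlgEquiv.ofInjective Θ hΘ
  refine ⟨fstE.comp ((eΘ.symm : Θ.range →ₐ[A] E).comp g₁), ?_⟩
  ext b
  change p (fstE (eΘ.symm (g₁ b))) = u b
  rw [hE]
  have h1 : Θ (eΘ.symm (g₁ b)) = (g₁ b : (E ⧸ IE) × (B ⧸ 𝔟 ^ m)) := by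
    have : eΘ (eΘ.symm (g₁ b)) = g₁ b := eΘ.apply_symm_apply _
    exact congrArg Subtype.val this
  have h2 : π' (eΘ.symm (g₁ b)) = Ideal.Quotient.mk _ b := congrArg Prod.snd h1
  rw [h2, hum]

/-- the fibre product `C' ×_{C''} B/𝔟^m` -/
abbrev fibreProd (p : C' →ₐ[A] C'') (u : B →ₐ[A] C'') (m : ℕ) (hu : ∀ x ∈ 𝔟 ^ m, u x = 0) :
    Subalgebra A (C' × (B ⧸ 𝔟 ^ m)) :=
  AlgHom.equalizer (p.comp (AlgHom.fst A C' (B ⧸ 𝔟 ^ m)))
    ((Ideal.Quotient.liftₐ (𝔟 ^ m) u hu).comp (AlgHom.snd A C' (B ⧸ 𝔟 ^ m)))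

/-- the skeleton applied to the fibre product `C' ×_{C''} B/𝔟^m` -/
theorem exists_lift_of_key_fibreProd (HI : FibreLifts 𝔞 𝔟)
    (p : C' →ₐ[A] C'') (hp : Function.Surjective p) (hNnil : IsNilpotent (RingHom.ker p))
    (u : B →ₐ[A] C'') (m : ℕ) (hu : ∀ x ∈ 𝔟 ^ m, u x = 0)
    (KEY : ∀ e : fibreProd p u m hu, e ∈ 𝔞.map (algebraMap A (fibreProd p u m hu)) →
      (e : C' × (B ⧸ 𝔟 ^ m)).2 = 0 → e = 0) :
    ∃ g : B →ₐ[A] C', p.comp g = u := by
  refine exists_lift_of_key HI p hNnil u m hu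
    (E := fibreProd p u m hu)
    ((AlgHom.snd A C' (B ⧸ 𝔟 ^ m)).comp (fibreProd p u m hu).val)
    ((AlgHom.fst A C' (B ⧸ 𝔟 ^ m)).comp (fibreProd p u m hu).val) ?_ (fun e => e.2) ?_ KEY
  · intro y
    obtain ⟨b, rfl⟩ := Ideal.Quotient.mk_surjective y
    obtain ⟨x, hx⟩ := hp (u b)
    exact ⟨⟨(x, Ideal.Quotient.mk _ b), by
      change p x = Ideal.Quotient.liftₐ (𝔟 ^ m) u hu (Ideal.Quotient.mk _ b)
      rw [hx]
      rfl⟩, rfl⟩
  · intro e h1 h2
    apply Subtype.ext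
    exact Prod.ext h1 h2

/-- the key property from a continuous `A`-linear lift `σ` of `u` -/
theorem exists_lift_of_linear_lift (HI : FibreLifts 𝔞 𝔟)
    (p : C' →ₐ[A] C'') (hp : Function.Surjective p) (hNnil : IsNilpotent (RingHom.ker p))
    (h𝔞N : ∀ a ∈ 𝔞, ∀ x : C', p x = 0 → a • x = 0)
    (u : B →ₐ[A] C'') (m : ℕ) (hu : ∀ x ∈ 𝔟 ^ m, u x = 0)
    (σ : B →ₗ[A] C') (hσ : ∀ x ∈ 𝔟 ^ m, σ x = 0) (hpσ : ∀ b, p (σ b) = u b) :
    ∃ g : B →ₐ[A] C', p.comp g = u := by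
  refine exists_lift_of_key_fibreProd HI p hp hNnil u m hu ?_
  intro e he h2
  have hmem : ∀ e : fibreProd p u m hu, e ∈ 𝔞.map (algebraMap A (fibreProd p u m hu)) →
      ∃ β : B, Ideal.Quotient.mk (𝔟 ^ m) β = (e : C' × (B ⧸ 𝔟 ^ m)).2 ∧
        (e : C' × (B ⧸ 𝔟 ^ m)).1 = σ β := by
    intro e he
    have he' : e ∈ (𝔞 • ⊤ : Submodule A (fibreProd p u m hu)) := by
      rw [Ideal.smul_top_eq_map]
      exact he
    refine Submodule.smul_induction_on he' ?_ ?_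
    · intro a ha e' _
      obtain ⟨b', hb'⟩ := Ideal.Quotient.mk_surjective (e' : C' × (B ⧸ 𝔟 ^ m)).2
      refine ⟨a • b', ?_, ?_⟩
      · change Ideal.Quotient.mk (𝔟 ^ m) (a • b') = a • (e' : C' × (B ⧸ 𝔟 ^ m)).2
        rw [← hb']
        rfl
      · change a • (e' : C' × (B ⧸ 𝔟 ^ m)).1 = σ (a • b')
        rw [map_smul, ← sub_eq_zero, ← smul_sub]
        apply h𝔞N a ha
        rw [map_sub, hpσ, sub_eq_zero]
        have h3 := e'.2
        change p (e' : C' × (B ⧸ 𝔟 ^ m)).1 =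
          Ideal.Quotient.liftₐ (𝔟 ^ m) u hu (e' : C' × (B ⧸ 𝔟 ^ m)).2 at h3
        rw [h3, ← hb']
        rfl
    · rintro x y ⟨β₁, h1, h1'⟩ ⟨β₂, h2, h2'⟩
      refine ⟨β₁ + β₂, ?_, ?_⟩
      · rw [map_add, h1, h2]
        rfl
      · rw [map_add, ← h1', ← h2']
        rfl
  obtain ⟨β, hβ1, hβ2⟩ := hmem e he
  rw [h2, Ideal.Quotient.eq_zero_iff_mem] at hβ1
  apply Subtype.ext
  apply Prod.ext
  · rw [hβ2, hσ β hβ1]
    rfl
  · exact h2

end skeleton

section translate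

variable {A B : Type u} [CommRing A] [CommRing B] [Algebra A B] (𝔞 : Ideal A) (𝔟 : Ideal B)

/-- formal smoothness passes to the fibre modulo `𝔞` -/
theorem isFormallySmoothAdic_quotient_of_isFormallySmoothAdic
    (H : EGA41.IsFormallySmoothAdic A 𝔞 B 𝔟) :
    EGA41.IsFormallySmoothAdic (A ⧸ 𝔞) ⊥ (B ⧸ 𝔞.map (algebraMap A B))
      (𝔟.map (Ideal.Quotient.mk (𝔞.map (algebraMap A B)))) := by
  intro C _ _ J hJ _ u hu
  letI : Algebra A C := ((algebraMap (A ⧸ 𝔞) C).comp (Ideal.Quotient.mk 𝔞)).toAlgebra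
  haveI : IsScalarTower A (A ⧸ 𝔞) C := IsScalarTower.of_algebraMap_eq (fun _ => rfl)
  have hkill : ∀ a ∈ 𝔞, algebraMap A C a = 0 := fun a ha => by
    change algebraMap (A ⧸ 𝔞) C (Ideal.Quotient.mk 𝔞 a) = 0
    rw [Ideal.Quotient.eq_zero_iff_mem.mpr ha, map_zero]
  have h𝔞C : ∃ k : ℕ, (𝔞 ^ k).map (algebraMap A C) = ⊥ := by
    refine ⟨1, ?_⟩
    rw [pow_one, eq_bot_iff, Ideal.map_le_iff_le_comap]
    intro a ha
    rw [Ideal.mem_comap, Ideal.mem_bot]
    exact hkill a ha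
  let u' : B →ₐ[A] C ⧸ J :=
    { u.toRingHom.comp (Ideal.Quotient.mk (𝔞.map (algebraMap A B))) with
      commutes' := fun a => by
        change u (Ideal.Quotient.mk _ (algebraMap A B a)) = algebraMap A (C ⧸ J) a
        have h1 : Ideal.Quotient.mk (𝔞.map (algebraMap A B)) (algebraMap A B a) =
            algebraMap (A ⧸ 𝔞) (B ⧸ 𝔞.map (algebraMap A B))
              (Ideal.Quotient.mk 𝔞 a) := rfl
        rw [h1, u.commutes]
        rfl }
  have hu'b : ∀ b, u' b = u (Ideal.Quotient.mk _ b) := fun b => rfl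
  obtain ⟨k, hk⟩ := hu
  have hu' : ∃ k : ℕ, ∀ x ∈ 𝔟 ^ k, u' x = 0 := by
    refine ⟨k, fun x hx => ?_⟩
    rw [hu'b]
    apply hk
    rw [← Ideal.map_pow]
    exact Ideal.mem_map_of_mem _ hx
  obtain ⟨v', hv'⟩ := H C J hJ h𝔞C u' hu'
  have hv'b : ∀ b, Ideal.Quotient.mk J (v' b) = u (Ideal.Quotient.mk _ b) := fun b => by
    have := congrArg (fun f => f b) hv'
    simpa [hu'b] using this
  have hker : ∀ x ∈ 𝔞.map (algebraMap A B), v'.toRingHom x = 0 := by
    have hle : 𝔞.map (algebraMap A B) ≤ RingHom.ker v'.toRingHom := by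
      rw [Ideal.map_le_iff_le_comap]
      intro a ha
      rw [Ideal.mem_comap, RingHom.mem_ker]
      change v' (algebraMap A B a) = 0
      rw [v'.commutes]
      exact hkill a ha
    intro x hx
    exact hle hx
  let v : (B ⧸ 𝔞.map (algebraMap A B)) →ₐ[A ⧸ 𝔞] C :=
    { Ideal.Quotient.lift (𝔞.map (algebraMap A B)) v'.toRingHom hker with
      commutes' := fun r => by
        obtain ⟨a, rfl⟩ := Ideal.Quotient.mk_surjective r
        change Ideal.Quotient.lift _ v'.toRingHom hker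
          (Ideal.Quotient.mk _ (algebraMap A B a)) = _
        rw [Ideal.Quotient.lift_mk]
        exact v'.commutes a }
  refine ⟨v, ?_⟩
  ext x
  obtain ⟨b, rfl⟩ := Ideal.Quotient.mk_surjective x
  change Ideal.Quotient.mk J (Ideal.Quotient.lift _ v'.toRingHom hker
    (Ideal.Quotient.mk _ b)) = _
  rw [Ideal.Quotient.lift_mk]
  exact hv'b b

/-- formal smoothness of the fibre modulo `𝔞` as a lifting property for `A`-algebras killed by
`𝔞` -/
theorem fibreLifts_of_isFormallySmoothAdic_quotient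
    (H' : EGA41.IsFormallySmoothAdic (A ⧸ 𝔞) ⊥ (B ⧸ 𝔞.map (algebraMap A B))
      (𝔟.map (Ideal.Quotient.mk (𝔞.map (algebraMap A B))))) : FibreLifts 𝔞 𝔟 := by
  intro C _ _ J hJ hkill u hu
  letI : Algebra (A ⧸ 𝔞) C := (Ideal.Quotient.lift 𝔞 (algebraMap A C) hkill).toAlgebra
  haveI : IsScalarTower A (A ⧸ 𝔞) C := IsScalarTower.of_algebraMap_eq (fun _ => rfl)
  have hker : ∀ x ∈ 𝔞.map (algebraMap A B), u.toRingHom x = 0 := by
    have hle : 𝔞.map (algebraMap A B) ≤ RingHom.ker u.toRingHom := by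
      rw [Ideal.map_le_iff_le_comap]
      intro a ha
      rw [Ideal.mem_comap, RingHom.mem_ker]
      change u (algebraMap A B a) = 0
      rw [u.commutes]
      change Ideal.Quotient.mk J (algebraMap A C a) = 0
      rw [hkill a ha, map_zero]
    intro x hx
    exact hle hx
  let ubar : (B ⧸ 𝔞.map (algebraMap A B)) →ₐ[A ⧸ 𝔞] C ⧸ J :=
    { Ideal.Quotient.lift (𝔞.map (algebraMap A B)) u.toRingHom hker with
      commutes' := fun r => by
        obtain ⟨a, rfl⟩ := Ideal.Quotient.mk_surjective r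
        change Ideal.Quotient.lift _ u.toRingHom hker
          (Ideal.Quotient.mk _ (algebraMap A B a)) = _
        rw [Ideal.Quotient.lift_mk]
        exact u.commutes a }
  have hubar : ∀ b, ubar (Ideal.Quotient.mk _ b) = u b := fun b => rfl
  obtain ⟨m, hm⟩ := hu
  have hubar0 : ∃ m : ℕ, ∀ x ∈ (𝔟.map (Ideal.Quotient.mk (𝔞.map (algebraMap A B)))) ^ m,
      ubar x = 0 := by
    refine ⟨m, fun x hx => ?_⟩
    rw [← Ideal.map_pow] at hx
    obtain ⟨b, hb, rfl⟩ :=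
      Ideal.mem_image_of_mem_map_of_surjective _ Ideal.Quotient.mk_surjective hx
    rw [hubar]
    exact hm b hb
  obtain ⟨vbar, hvbar⟩ := H' C J hJ ⟨1, by rw [pow_one, Ideal.map_bot]⟩ ubar hubar0
  have hvbarb : ∀ x, Ideal.Quotient.mk J (vbar x) = ubar x := fun x => by
    have := congrArg (fun f => f x) hvbar
    simpa using this
  let v : B →ₐ[A] C :=
    { vbar.toRingHom.comp (Ideal.Quotient.mk (𝔞.map (algebraMap A B))) with
      commutes' := fun a => by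
        change vbar (Ideal.Quotient.mk _ (algebraMap A B a)) = algebraMap A C a
        have h1 : Ideal.Quotient.mk (𝔞.map (algebraMap A B)) (algebraMap A B a) =
            algebraMap (A ⧸ 𝔞) (B ⧸ 𝔞.map (algebraMap A B))
              (Ideal.Quotient.mk 𝔞 a) := rfl
        rw [h1, vbar.commutes]
        rfl }
  refine ⟨v, ?_⟩
  ext b
  change Ideal.Quotient.mk J (vbar (Ideal.Quotient.mk _ b)) = u b
  rw [hvbarb, hubar]

end translate

section devissage

variable {A B : Type u} [CommRing A] [CommRing B] [Algebra A B] (𝔞 : Ideal A) (𝔟 : Ideal B)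

/-- the one-step lifting property: lifting along surjections whose kernel is nilpotent and
killed by `𝔞` -/
def StepLifts : Prop :=
  ∀ {C' C'' : Type u} [CommRing C'] [CommRing C''] [Algebra A C'] [Algebra A C'']
    (p : C' →ₐ[A] C''), Function.Surjective p → IsNilpotent (RingHom.ker p) →
    (∀ a ∈ 𝔞, ∀ x : C', p x = 0 → a • x = 0) → (∃ n : ℕ, ∀ a ∈ 𝔞 ^ n, ∀ x : C', a • x = 0) →
    ∀ u : B →ₐ[A] C'', (∃ m : ℕ, ∀ x ∈ 𝔟 ^ m, u x = 0) → ∃ g : B →ₐ[A] C', p.comp g = u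

/-- the filtration `IC ^ j * J` -/
def filt {C : Type u} [CommRing C] (IC J : Ideal C) : ℕ → Ideal C
  | 0 => J
  | (j + 1) => IC * filt IC J j

/-- dévissage along the `𝔞`-adic filtration of the kernel -/
theorem isFormallySmoothAdic_of_stepLifts (step : StepLifts 𝔞 𝔟) :
    EGA41.IsFormallySmoothAdic A 𝔞 B 𝔟 := by
  intro C _ _ J hJ h𝔞 u hu
  obtain ⟨k, hk⟩ := h𝔞
  obtain ⟨r, hr⟩ := hJ
  set IC : Ideal C := 𝔞.map (algebraMap A C) with hIC
  set K : ℕ → Ideal C := filt IC J with hK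
  have hK0 : K 0 = J := rfl
  have hKs : ∀ j, K (j + 1) = IC * K j := fun j => rfl
  have hKanti : ∀ j, K (j + 1) ≤ K j := fun j => by
    rw [hKs]
    exact Ideal.mul_le.2 fun x _ y hy => Ideal.mul_mem_left _ x hy
  have hKle : ∀ j, K j ≤ J := by
    intro j
    induction j with
    | zero => exact le_refl _
    | succ j ih => exact (hKanti j).trans ih
  have hKpow : ∀ j, K j = IC ^ j * J := by
    intro j
    induction j with
    | zero => rw [pow_zero, one_mul]; exact hK0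
    | succ j ih => rw [hKs, ih, pow_succ', mul_assoc]
  have hKk : K k = ⊥ := by
    rw [hKpow, hIC, ← Ideal.map_pow, hk, Ideal.bot_mul]
  have hkillC : ∀ a ∈ 𝔞 ^ k, algebraMap A C a = 0 := by
    intro a ha
    have h1 : algebraMap A C a ∈ (𝔞 ^ k).map (algebraMap A C) := Ideal.mem_map_of_mem _ ha
    rw [hk, Ideal.mem_bot] at h1
    exact h1
  -- the chain of lifts
  have hchain : ∀ j, ∃ v : B →ₐ[A] C ⧸ K j, (∃ m : ℕ, ∀ x ∈ 𝔟 ^ m, v x = 0) ∧
      ∀ b, Ideal.Quotient.factor (hKle j) (v b) = u b := by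
    intro j
    induction j with
    | zero =>
      have key : ∀ (K0 : Ideal C) (h0 : K0 = J) (hle : K0 ≤ J), ∃ v : B →ₐ[A] C ⧸ K0,
          (∃ m : ℕ, ∀ x ∈ 𝔟 ^ m, v x = 0) ∧ ∀ b, Ideal.Quotient.factor hle (v b) = u b := by
        intro K0 h0 hle
        subst h0
        refine ⟨u, hu, fun b => ?_⟩
        obtain ⟨c, hc⟩ := Ideal.Quotient.mk_surjective (u b)
        rw [← hc]
        exact Ideal.Quotient.factor_mk _ c
      exact key (K 0) hK0 (hKle 0)
    | succ j ih =>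
      obtain ⟨v, ⟨m, hm⟩, hv⟩ := ih
      let p : C ⧸ K (j + 1) →ₐ[A] C ⧸ K j := Ideal.Quotient.factorₐ A (hKanti j)
      have hpmk : ∀ c, p (Ideal.Quotient.mk _ c) = Ideal.Quotient.mk _ c := fun c =>
        Ideal.Quotient.factor_mk (hKanti j) c
      have hpsurj : Function.Surjective p := Ideal.Quotient.factor_surjective (hKanti j)
      have hkerle : RingHom.ker p ≤ J.map (Ideal.Quotient.mk (K (j + 1))) := by
        intro x hx
        obtain ⟨c, rfl⟩ := Ideal.Quotient.mk_surjective x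
        rw [RingHom.mem_ker, hpmk, Ideal.Quotient.eq_zero_iff_mem] at hx
        exact Ideal.mem_map_of_mem _ (hKle j hx)
      have hnil : IsNilpotent (RingHom.ker p) := by
        refine ⟨r, ?_⟩
        rw [Ideal.zero_eq_bot, eq_bot_iff]
        refine (Ideal.pow_right_mono hkerle r).trans ?_
        rw [← Ideal.map_pow, hr, Ideal.zero_eq_bot, Ideal.map_bot]
      have hkill : ∀ a ∈ 𝔞, ∀ x : C ⧸ K (j + 1), p x = 0 → a • x = 0 := by
        intro a ha x hx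
        obtain ⟨c, rfl⟩ := Ideal.Quotient.mk_surjective x
        rw [hpmk, Ideal.Quotient.eq_zero_iff_mem] at hx
        change Ideal.Quotient.mk (K (j + 1)) (a • c) = 0
        rw [Ideal.Quotient.eq_zero_iff_mem, Algebra.smul_def, hKs]
        exact Ideal.mul_mem_mul (Ideal.mem_map_of_mem _ ha) hx
      have hkill' : ∃ n : ℕ, ∀ a ∈ 𝔞 ^ n, ∀ x : C ⧸ K (j + 1), a • x = 0 := by
        refine ⟨k, fun a ha x => ?_⟩
        obtain ⟨c, rfl⟩ := Ideal.Quotient.mk_surjective x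
        change Ideal.Quotient.mk (K (j + 1)) (a • c) = 0
        rw [Algebra.smul_def, hkillC a ha, zero_mul, map_zero]
      obtain ⟨g, hg⟩ := step p hpsurj hnil hkill hkill' v ⟨m, hm⟩
      have hg' : ∀ b, p (g b) = v b := fun b =>
        congrArg (fun f : B →ₐ[A] C ⧸ K j => f b) hg
      refine ⟨g, ⟨m * r, fun x hx => ?_⟩, fun b => ?_⟩
      · have h1 : (𝔟 ^ m).map g.toRingHom ≤ RingHom.ker p := by
          rw [Ideal.map_le_iff_le_comap]
          intro y hy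
          rw [Ideal.mem_comap, RingHom.mem_ker]
          change p (g y) = 0
          rw [hg', hm y hy]
        have h2 : (𝔟 ^ (m * r)).map g.toRingHom ≤ RingHom.ker p ^ r := by
          rw [pow_mul, Ideal.map_pow]
          exact Ideal.pow_right_mono h1 r
        have h3 := h2 (Ideal.mem_map_of_mem _ hx)
        obtain ⟨r', hr'⟩ := hnil
        have h4 : RingHom.ker p ^ r = ⊥ := by
          rw [eq_bot_iff]
          refine (Ideal.pow_right_mono hkerle r).trans ?_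
          rw [← Ideal.map_pow, hr, Ideal.zero_eq_bot, Ideal.map_bot]
        rw [h4, Ideal.mem_bot] at h3
        exact h3
      · rw [← hv, ← hg']
        obtain ⟨c, hc⟩ := Ideal.Quotient.mk_surjective (g b)
        rw [← hc, hpmk, Ideal.Quotient.factor_mk, Ideal.Quotient.factor_mk]
  obtain ⟨v, ⟨m, hm⟩, hv⟩ := hchain k
  -- the last step
  let p : C →ₐ[A] C ⧸ K k := Ideal.Quotient.mkₐ A (K k)
  have hpker : RingHom.ker p = ⊥ := by
    rw [← hKk]
    exact Ideal.Quotient.mkₐ_ker A (K k)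
  obtain ⟨g, hg⟩ := step p (Ideal.Quotient.mkₐ_surjective A (K k))
    ⟨1, by rw [pow_one, hpker]; rfl⟩
    (fun a _ x hx => by
      have : x ∈ RingHom.ker p := hx
      rw [hpker, Ideal.mem_bot] at this
      rw [this, smul_zero])
    ⟨k, fun a ha x => by rw [Algebra.smul_def, hkillC a ha, zero_mul]⟩ v ⟨m, hm⟩
  have hg' : ∀ b, Ideal.Quotient.mk (K k) (g b) = v b := fun b =>
    congrArg (fun f : B →ₐ[A] C ⧸ K k => f b) hg
  refine ⟨g, ?_⟩
  ext b
  change Ideal.Quotient.mk J (g b) = u b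
  rw [← hv, ← hg', Ideal.Quotient.factor_mk]

end devissage

/-- EGA 0_IV 19.7.1 (general form, S4553): for a formally projective adic algebra, formal
smoothness can be tested on the fibre modulo the ideal of definition of the base -/
theorem isFormallySmoothAdic_iff_quotient_of_formallyProjective {A B : Type u} [CommRing A]
    [CommRing B] [Algebra A B] (𝔞 : Ideal A) (𝔟 : Ideal B)
    (hproj : ∀ (n : ℕ) (P Q : Type u) [AddCommGroup P] [Module A P] [AddCommGroup Q] [Module A Q],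
      (∀ a ∈ 𝔞 ^ n, ∀ y : P, a • y = 0) → (∀ a ∈ 𝔞 ^ n, ∀ y : Q, a • y = 0) →
      ∀ f : P →ₗ[A] Q, Function.Surjective f → ∀ v : B →ₗ[A] Q, (∃ m : ℕ, ∀ x ∈ 𝔟 ^ m, v x = 0) →
        ∃ w : B →ₗ[A] P, (∃ m : ℕ, ∀ x ∈ 𝔟 ^ m, w x = 0) ∧ f ∘ₗ w = v) :
    EGA41.IsFormallySmoothAdic A 𝔞 B 𝔟 ↔
      EGA41.IsFormallySmoothAdic (A ⧸ 𝔞) ⊥ (B ⧸ 𝔞.map (algebraMap A B))
        (𝔟.map (Ideal.Quotient.mk (𝔞.map (algebraMap A B)))) := by
  constructor
  · exact isFormallySmoothAdic_quotient_of_isFormallySmoothAdic 𝔞 𝔟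
  · intro H'
    have HI := fibreLifts_of_isFormallySmoothAdic_quotient 𝔞 𝔟 H'
    apply isFormallySmoothAdic_of_stepLifts
    intro C' C'' _ _ _ _ p hp hnil hkill hn u hu
    obtain ⟨n, hn⟩ := hn
    obtain ⟨m₀, hm₀⟩ := hu
    have hn'' : ∀ a ∈ 𝔞 ^ n, ∀ y : C'', a • y = 0 := by
      intro a ha y
      obtain ⟨x, rfl⟩ := hp y
      rw [← map_smul, hn a ha x, map_zero]
    obtain ⟨σ, ⟨m₁, hm₁⟩, hσ⟩ := hproj n C' C'' hn hn'' p.toLinearMap hp u.toLinearMap ⟨m₀, hm₀⟩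
    have hpσ : ∀ b, p (σ b) = u b := fun b => LinearMap.congr_fun hσ b
    refine exists_lift_of_linear_lift HI p hp hnil hkill u (max m₀ m₁) ?_ σ ?_ hpσ
    · intro x hx
      exact hm₀ x (Ideal.pow_le_pow_right (le_max_left _ _) hx)
    · intro x hx
      exact hm₁ x (Ideal.pow_le_pow_right (le_max_right _ _) hx)

end Groth.Agent.Lib.Helper19.FSFibre
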