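import Groth.Agent.Lib.Helper19FSFibre

/-!
# Flat Noetherian algebras with formally smooth fibre are formally smooth (EGA 0_IV 19.7.1)
(helper19)
-/

set_option autoImplicit false
set_option linter.style.haveILetI false
set_option linter.unusedSectionVars false
universe u

namespace Groth.Agent.Lib.Helper19.FSFibre

open Ideal TensorProduct

section flat

variable {A B : Type u} [CommRing A] [CommRing B] [Algebra A B] {𝔞 : Ideal A} {𝔟 : Ideal B}
variable {C' C'' : Type u} [CommRing C'] [CommRing C''] [Algebra A C'] [Algebra A C'']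

/-- Artin–Rees in the form needed below -/
theorem exists_pow_inf_le_pow_mul [IsNoetherianRing B] (𝔟 I : Ideal B) :
    ∃ c : ℕ, ∀ n : ℕ, 𝔟 ^ (n + c) ⊓ I ≤ 𝔟 ^ n * I := by
  obtain ⟨c, hc⟩ := Ideal.exists_pow_inf_eq_pow_smul 𝔟 (I : Submodule B B)
  refine ⟨c, fun n => ?_⟩
  have h1 := hc (n + c) (Nat.le_add_left c n)
  rw [Nat.add_sub_cancel] at h1
  have h2 : ∀ k, (𝔟 ^ k • ⊤ : Submodule B B) = 𝔟 ^ k := fun k => by
    rw [smul_eq_mul, Ideal.mul_top]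
  rw [h2, h2] at h1
  rw [h1]
  exact Ideal.mul_mono_right inf_le_right

/-- the key step for flat Noetherian `B` -/
theorem exists_lift_of_flat [IsNoetherianRing B] [Module.Flat A B] (HI : FibreLifts 𝔞 𝔟)
    (p : C' →ₐ[A] C'') (hp : Function.Surjective p) (hNnil : IsNilpotent (RingHom.ker p))
    (h𝔞N : ∀ a ∈ 𝔞, ∀ x : C', p x = 0 → a • x = 0)
    (u : B →ₐ[A] C'') (hu : ∃ m : ℕ, ∀ x ∈ 𝔟 ^ m, u x = 0) :
    ∃ g : B →ₐ[A] C', p.comp g = u := by
  classical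
  obtain ⟨m₀, hm₀⟩ := hu
  obtain ⟨c, hc⟩ := exists_pow_inf_le_pow_mul 𝔟 (𝔞.map (algebraMap A B))
  set m := m₀ + c with hm
  have hum : ∀ x ∈ 𝔟 ^ m, u x = 0 := fun x hx =>
    hm₀ x (Ideal.pow_le_pow_right (Nat.le_add_right m₀ c) hx)
  refine exists_lift_of_key_fibreProd HI p hp hNnil u m hum ?_
  -- a set-theoretic lift of `u`
  choose s hs using fun b => hp (u b)
  -- the multiplication map `𝔞 ⊗ B → B`
  let μ : 𝔞 ⊗[A] B →ₗ[A] B :=
    (TensorProduct.lid A B).toLinearMap ∘ₗ (Submodule.subtype 𝔞).rTensor B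
  have hμ : ∀ (a : 𝔞) (b : B), μ (a ⊗ₜ[A] b) = (a : A) • b := fun a b => by
    simp [μ]
  have hμinj : Function.Injective μ := by
    refine (TensorProduct.lid A B).injective.comp ?_
    exact Module.Flat.rTensor_preserves_injective_linearMap _ Subtype.val_injective
  -- the map `𝔞 ⊗ B → C'`
  let Ψ₀ : 𝔞 →ₗ[A] B →ₗ[A] C' := LinearMap.mk₂ A (fun a b => (a : A) • s b)
    (fun a a' b => by rw [Submodule.coe_add, add_smul])
    (fun r a b => by rw [Submodule.coe_smul, smul_eq_mul, mul_smul])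
    (fun a b b' => by
      rw [← smul_add, ← sub_eq_zero, ← smul_sub]
      apply h𝔞N a a.2
      rw [map_sub, map_add, hs, hs, hs, map_add, sub_self])
    (fun r a b => by
      rw [smul_comm r (a : A) (s b), ← sub_eq_zero, ← smul_sub]
      apply h𝔞N a a.2
      rw [map_sub, map_smul, hs, hs, map_smul, sub_self])
  let Ψ : 𝔞 ⊗[A] B →ₗ[A] C' := TensorProduct.lift Ψ₀
  have hΨ : ∀ (a : 𝔞) (b : B), Ψ (a ⊗ₜ[A] b) = (a : A) • s b := fun a b => by
    simp [Ψ, Ψ₀]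
  -- elements of `𝔞 E`
  intro e he h2
  have hmem : ∀ e : fibreProd p u m hum, e ∈ 𝔞.map (algebraMap A (fibreProd p u m hum)) →
      ∃ ω : 𝔞 ⊗[A] B, Ideal.Quotient.mk (𝔟 ^ m) (μ ω) = (e : C' × (B ⧸ 𝔟 ^ m)).2 ∧
        (e : C' × (B ⧸ 𝔟 ^ m)).1 = Ψ ω := by
    intro e he
    have he' : e ∈ (𝔞 • ⊤ : Submodule A (fibreProd p u m hum)) := by
      rw [Ideal.smul_top_eq_map]
      exact he
    refine Submodule.smul_induction_on he' ?_ ?_
    · intro a ha e' _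
      obtain ⟨b', hb'⟩ := Ideal.Quotient.mk_surjective (e' : C' × (B ⧸ 𝔟 ^ m)).2
      refine ⟨(⟨a, ha⟩ : 𝔞) ⊗ₜ[A] b', ?_, ?_⟩
      · rw [hμ]
        change Ideal.Quotient.mk (𝔟 ^ m) (a • b') = a • (e' : C' × (B ⧸ 𝔟 ^ m)).2
        rw [← hb']
        rfl
      · rw [hΨ]
        change a • (e' : C' × (B ⧸ 𝔟 ^ m)).1 = a • s b'
        rw [← sub_eq_zero, ← smul_sub]
        apply h𝔞N a ha
        rw [map_sub, hs, sub_eq_zero]
        have h3 := e'.2
        change p (e' : C' × (B ⧸ 𝔟 ^ m)).1 =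
          Ideal.Quotient.liftₐ (𝔟 ^ m) u hum (e' : C' × (B ⧸ 𝔟 ^ m)).2 at h3
        rw [h3, ← hb']
        rfl
    · rintro x y ⟨ω₁, h1, h1'⟩ ⟨ω₂, h2, h2'⟩
      refine ⟨ω₁ + ω₂, ?_, ?_⟩
      · rw [map_add, map_add, h1, h2]
        rfl
      · rw [map_add, ← h1', ← h2']
        rfl
  obtain ⟨ω, hω1, hω2⟩ := hmem e he
  rw [h2, Ideal.Quotient.eq_zero_iff_mem] at hω1
  -- `μ ω ∈ 𝔞 B`
  have hμmem : ∀ ω : 𝔞 ⊗[A] B, μ ω ∈ 𝔞.map (algebraMap A B) := by
    intro ω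
    induction ω using TensorProduct.induction_on with
    | zero => rw [map_zero]; exact zero_mem _
    | tmul a b =>
      rw [hμ, Algebra.smul_def]
      exact Ideal.mul_mem_right _ _ (Ideal.mem_map_of_mem _ a.2)
    | add x y hx hy => rw [map_add]; exact add_mem hx hy
  have hβ : μ ω ∈ 𝔟 ^ m₀ * 𝔞.map (algebraMap A B) := hc m₀ ⟨hω1, hμmem ω⟩
  -- elements of `𝔟^m₀ * 𝔞B` come from tensors killed by `Ψ`
  have hkey : ∀ x ∈ 𝔟 ^ m₀ * 𝔞.map (algebraMap A B),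
      ∃ ω' : 𝔞 ⊗[A] B, μ ω' = x ∧ Ψ ω' = 0 := by
    intro x hx
    refine Submodule.mul_induction_on hx ?_ ?_
    · intro n hn z hz
      have hz' : z ∈ (𝔞 • ⊤ : Submodule A B) := by
        rw [Ideal.smul_top_eq_map]
        exact hz
      refine Submodule.smul_induction_on hz' ?_ ?_
      · intro a ha b _
        refine ⟨(⟨a, ha⟩ : 𝔞) ⊗ₜ[A] (n * b), ?_, ?_⟩
        · rw [hμ]
          change a • (n * b) = n * (a • b)
          rw [mul_smul_comm]
        · rw [hΨ]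
          apply h𝔞N a ha
          rw [hs]
          exact hm₀ _ (Ideal.mul_mem_right _ _ hn)
      · rintro z₁ z₂ ⟨ω₁, h1, h1'⟩ ⟨ω₂, h2, h2'⟩
        exact ⟨ω₁ + ω₂, by rw [map_add, h1, h2, mul_add], by rw [map_add, h1', h2', add_zero]⟩
    · rintro x y ⟨ω₁, h1, h1'⟩ ⟨ω₂, h2, h2'⟩
      exact ⟨ω₁ + ω₂, by rw [map_add, h1, h2], by rw [map_add, h1', h2', add_zero]⟩
  obtain ⟨ω', hω'1, hω'2⟩ := hkey _ hβ
  have hωeq : ω = ω' := hμinj hω'1.symm
  apply Subtype.ext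
  apply Prod.ext
  · rw [hω2, hωeq, hω'2]
    rfl
  · exact h2

variable (𝔞 𝔟)

/-- **EGA 0_IV 19.7.1** (sufficiency): a flat Noetherian adic algebra whose fibre modulo the
ideal of definition of the base is formally smooth is formally smooth -/
theorem isFormallySmoothAdic_of_flat_of_fibre [IsNoetherianRing B] [Module.Flat A B]
    (H' : EGA41.IsFormallySmoothAdic (A ⧸ 𝔞) ⊥ (B ⧸ 𝔞.map (algebraMap A B))
      (𝔟.map (Ideal.Quotient.mk (𝔞.map (algebraMap A B))))) :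
    EGA41.IsFormallySmoothAdic A 𝔞 B 𝔟 := by
  have HI := fibreLifts_of_isFormallySmoothAdic_quotient 𝔞 𝔟 H'
  apply isFormallySmoothAdic_of_stepLifts
  intro C' C'' _ _ _ _ p hp hnil hkill _ u hu
  exact exists_lift_of_flat HI p hp hnil hkill u hu

theorem isFormallySmoothAdic_iff_fibre_of_flat [IsNoetherianRing B] [Module.Flat A B] :
    EGA41.IsFormallySmoothAdic A 𝔞 B 𝔟 ↔
      EGA41.IsFormallySmoothAdic (A ⧸ 𝔞) ⊥ (B ⧸ 𝔞.map (algebraMap A B))
        (𝔟.map (Ideal.Quotient.mk (𝔞.map (algebraMap A B)))) :=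
  ⟨isFormallySmoothAdic_quotient_of_isFormallySmoothAdic 𝔞 𝔟,
    isFormallySmoothAdic_of_flat_of_fibre 𝔞 𝔟⟩

end flat

end Groth.Agent.Lib.Helper19.FSFibre
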