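import Groth.Agent.Lib.Helper19FSGeomReg
import Groth.Agent.Lib.Helper7RegHomField

/-!
# Subfields of formally smooth local algebras over a field are separable (EGA 0_IV 19.6.6)
(helper19)
-/

set_option autoImplicit false
set_option linter.style.haveILetI false
set_option linter.unusedSectionVars false
universe u

namespace Groth.Agent.Lib.Helper19.FSGeomReg

open IsLocalRing TensorProduct

/-- S4513 -/
theorem isGeometricallyReduced_subfield_of_isAdicFormallySmooth {k A K : Type u} [Field k]
    [CommRing A] [IsLocalRing A] [IsNoetherianRing A] [Algebra k A]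
    (h : CAlgX.IsAdicFormallySmooth k A (maximalIdeal A))
    [Field K] [Algebra k K] [Algebra K A] [IsScalarTower k K A] :
    Algebra.IsGeometricallyReduced k K := by
  have hfin : ∀ (F : Type u) [Field F] [Algebra k F] [Module.Finite k F],
      IsReduced (F ⊗[k] K) := by
    intro F _ _ _
    haveI := isRegularRing_tensor_of_isAdicFormallySmooth h F
    haveI := Groth.Agent.Lib.Helper7.RegHomField.isReduced_of_isRegularRing (F ⊗[k] A)
    exact isReduced_of_injective (Algebra.TensorProduct.map 1 (IsScalarTower.toAlgHom k K A))
      (Module.Flat.lTensor_preserves_injective_linearMap _ (algebraMap K A).injective)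
  rw [Algebra.isGeometricallyReduced_field_iff]
  have h1 : IsReduced (K ⊗[k] AlgebraicClosure k) := by
    refine IsReduced.tensorProduct_of_flat_of_forall_fg (fun B' hB' => ?_)
    have hfield : IsField B' := Subalgebra.isField_of_algebraic B'
    let F := B'.toIntermediateField' hfield
    have hF : F.toSubalgebra = B' := toSubalgebra_toIntermediateField' B' hfield
    haveI : Algebra.FiniteType k B' := (Subalgebra.fg_iff_finiteType B').1 hB'
    haveI : Algebra.IsIntegral k B' :=
      Algebra.IsIntegral.of_injective B'.val Subtype.val_injective
    haveI : Module.Finite k B' := Algebra.IsIntegral.finite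
    haveI : Module.Finite k F :=
      Module.Finite.equiv (Subalgebra.equivOfEq _ _ hF.symm).toLinearEquiv
    haveI := hfin F
    let e' : K ⊗[k] B' ≃ₐ[k] F ⊗[k] K :=
      (Algebra.TensorProduct.congr AlgEquiv.refl (Subalgebra.equivOfEq _ _ hF.symm)).trans
        (Algebra.TensorProduct.comm _ _ _)
    exact isReduced_of_injective e' e'.injective
  exact isReduced_of_injective (Algebra.TensorProduct.comm k (AlgebraicClosure k) K)
    (AlgEquiv.injective _)

end Groth.Agent.Lib.Helper19.FSGeomReg
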