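import Groth.Agent.Lib.Helper19FlatResExtC
import Groth.Agent.Lib.Helper19FSLocalField
import Groth.Agent.Lib.Helper19CohenExistC

/-!
# Flat complete local algebras with prescribed regular closed fibre (EGA 0_IV 19.7.2 type)
(helper19)
-/

set_option autoImplicit false
set_option linter.style.haveILetI false
set_option linter.unusedSectionVars false
universe u

namespace Groth.Agent.Lib.Helper19.FlatFibre

open IsLocalRing MvPowerSeries Groth.Agent.Lib.Helper19.CohenStructure
  Groth.Agent.Lib.Helper19.FlatLift Groth.Agent.Lib.Helper19.FlatResExt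

attribute [local instance] isAdicComplete_field

/-- a complete regular local ring containing a field is a power series ring over its residue
field -/
theorem exists_ringEquiv_mvPowerSeries_of_regular_complete (B₀ : Type u) [CommRing B₀]
    [IsRegularLocalRing B₀] [IsAdicComplete (maximalIdeal B₀) B₀] {k : Type*} [Field k]
    (ι : k →+* B₀) :
    ∃ d : ℕ, Nonempty (MvPowerSeries (Fin d) (ResidueField B₀) ≃+* B₀) := by
  obtain ⟨p, hp⟩ := CharP.exists (ResidueField B₀)
  have hpk : CharP k p :=
    (RingHom.charP_iff ((residue B₀).comp ι) ((residue B₀).comp ι).injective p).2 hp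
  have hp0 : (p : B₀) = 0 := by
    rw [← map_natCast ι, CharP.cast_eq_zero, map_zero]
  obtain ⟨σ, hσ⟩ := EqualChar.exists_coefficientField_of_natCast_eq_zero B₀ p hp0
  letI : Algebra (ResidueField B₀) B₀ := σ.toAlgebra
  let resR : B₀ →ₐ[ResidueField B₀] ResidueField B₀ :=
    { residue B₀ with commutes' := fun c => hσ c }
  obtain ⟨d, ψ, hsurj, -, hreg⟩ := FSLocalField.exists_ps_presentation resR
  exact ⟨d, ⟨RingEquiv.ofBijective ψ.toRingHom ⟨hreg inferInstance, hsurj⟩⟩⟩

section ps

variable {Λ Λ' : Type u} [CommRing Λ] [IsLocalRing Λ] [CommRing Λ'] [Algebra Λ Λ'] (n : ℕ)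

/-- membership in the extension of the maximal ideal of `Λ[[T]]` to `Λ'[[T]]` -/
theorem mem_map_maximalIdeal_mvPowerSeries_iff (g : MvPowerSeries (Fin n) Λ') :
    g ∈ (maximalIdeal (MvPowerSeries (Fin n) Λ)).map
      (algebraMap (MvPowerSeries (Fin n) Λ) (MvPowerSeries (Fin n) Λ')) ↔
      constantCoeff g ∈ (maximalIdeal Λ).map (algebraMap Λ Λ') := by
  have hC : ∀ c : Λ, algebraMap (MvPowerSeries (Fin n) Λ) (MvPowerSeries (Fin n) Λ')
      (C c) = C (algebraMap Λ Λ' c) := by
    intro c
    rw [MvPowerSeries.algebraMap_apply'', MvPowerSeries.map_C]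
  have hX : ∀ s : Fin n, algebraMap (MvPowerSeries (Fin n) Λ) (MvPowerSeries (Fin n) Λ')
      (X s) = X s := by
    intro s
    rw [MvPowerSeries.algebraMap_apply'', MvPowerSeries.map_X]
  constructor
  · intro hg
    have hle : (maximalIdeal (MvPowerSeries (Fin n) Λ)).map
        (algebraMap (MvPowerSeries (Fin n) Λ) (MvPowerSeries (Fin n) Λ')) ≤
        ((maximalIdeal Λ).map (algebraMap Λ Λ')).comap
          (constantCoeff : MvPowerSeries (Fin n) Λ' →+* Λ') := by
      rw [Ideal.map_le_iff_le_comap]
      intro g₀ hg₀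
      rw [Ideal.mem_comap, Ideal.mem_comap, MvPowerSeries.algebraMap_apply'',
        MvPowerSeries.constantCoeff_map]
      rw [maximalIdeal_eq_coeffIdeal, mem_coeffIdeal_one] at hg₀
      exact Ideal.mem_map_of_mem _ hg₀
    exact hle hg
  · intro hg
    have h1 : g - C (constantCoeff g) ∈ varsIdeal (Fin n) Λ' ^ 1 := by
      apply mem_varsIdeal_pow_of_coeff_eq_zero
      intro α hα
      have hα0 : α = 0 := by
        rw [Nat.lt_one_iff] at hα
        exact (Finsupp.degree_eq_zero_iff α).1 hα
      rw [hα0, map_sub, coeff_zero_eq_constantCoeff_apply, coeff_zero_eq_constantCoeff_apply,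
        constantCoeff_C, sub_self]
    rw [pow_one] at h1
    have h2 : varsIdeal (Fin n) Λ' ≤ (maximalIdeal (MvPowerSeries (Fin n) Λ)).map
        (algebraMap (MvPowerSeries (Fin n) Λ) (MvPowerSeries (Fin n) Λ')) := by
      rw [varsIdeal, Ideal.span_le]
      rintro _ ⟨s, rfl⟩
      rw [← hX s]
      apply Ideal.mem_map_of_mem
      rw [maximalIdeal_eq_coeffIdeal]
      exact X_mem_coeffIdeal_one _ s
    have h3 : C (constantCoeff g) ∈ (maximalIdeal (MvPowerSeries (Fin n) Λ)).map
        (algebraMap (MvPowerSeries (Fin n) Λ) (MvPowerSeries (Fin n) Λ')) := by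
      have hle : (maximalIdeal Λ).map (algebraMap Λ Λ') ≤
          ((maximalIdeal (MvPowerSeries (Fin n) Λ)).map
            (algebraMap (MvPowerSeries (Fin n) Λ) (MvPowerSeries (Fin n) Λ'))).comap
              (C : Λ' →+* MvPowerSeries (Fin n) Λ') := by
        rw [Ideal.map_le_iff_le_comap]
        intro c hc
        rw [Ideal.mem_comap, Ideal.mem_comap, ← hC]
        apply Ideal.mem_map_of_mem
        rw [maximalIdeal_eq_coeffIdeal, mem_coeffIdeal_one, constantCoeff_C]
        exact hc
      exact hle hg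
    have := Ideal.add_mem _ (h2 h1) h3
    rwa [sub_add_cancel] at this

end ps

section reduction

variable {W K : Type u} [CommRing W] [IsLocalRing W] [Field K] (d : ℕ)

/-- reduction of power series over a local ring with principal maximal ideal -/
theorem ker_map_residue_mvPowerSeries (ε : ResidueField W ≃+* K) (ϖ : W)
    (hϖ : maximalIdeal W = Ideal.span {ϖ}) :
    RingHom.ker (MvPowerSeries.map (σ := Fin d)
      ((ε : ResidueField W →+* K).comp (residue W))) =
      Ideal.span {(C ϖ : MvPowerSeries (Fin d) W)} := by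
  ext f
  rw [RingHom.mem_ker, Ideal.mem_span_singleton]
  constructor
  · intro hf
    have h1 : ∀ α, ∃ c : W, coeff α f = ϖ * c := by
      intro α
      have h2 : coeff α (MvPowerSeries.map ((ε : ResidueField W →+* K).comp (residue W)) f) = 0 := by
        rw [hf, map_zero]
      rw [MvPowerSeries.coeff_map, RingHom.comp_apply] at h2
      have h3 : residue W (coeff α f) = 0 := ε.injective (by rw [map_zero]; exact h2)
      rw [residue_eq_zero_iff, hϖ, Ideal.mem_span_singleton] at h3
      exact h3
    choose c hc using h1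
    refine ⟨(fun α => c α : MvPowerSeries (Fin d) W), ?_⟩
    ext α
    rw [MvPowerSeries.coeff_C_mul, hc α]
    rfl
  · rintro ⟨g, rfl⟩
    rw [map_mul, MvPowerSeries.map_C, RingHom.comp_apply]
    have : residue W ϖ = 0 := by
      rw [residue_eq_zero_iff, hϖ]; exact Ideal.subset_span rfl
    rw [this, map_zero, map_zero, zero_mul]

theorem map_residue_mvPowerSeries_surjective (ε : ResidueField W ≃+* K) :
    Function.Surjective (MvPowerSeries.map (σ := Fin d)
      ((ε : ResidueField W →+* K).comp (residue W))) := by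
  intro g
  have h1 : ∀ α, ∃ c : W, ε (residue W c) = coeff α g := by
    intro α
    obtain ⟨c, hc⟩ := residue_surjective (ε.symm (coeff α g))
    exact ⟨c, by rw [hc, RingEquiv.apply_symm_apply]⟩
  choose c hc using h1
  refine ⟨(fun α => c α : MvPowerSeries (Fin d) W), ?_⟩
  ext α
  rw [MvPowerSeries.coeff_map, RingHom.comp_apply]
  exact hc α

end reduction

/-- a flat complete local algebra over a Cohen ring `Λ` whose reduction modulo `𝔪_Λ` is a given
complete regular local algebra over the residue field of `Λ` -/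
theorem exists_flat_lift_cohenRing {Λ : Type u} [CommRing Λ] [IsLocalRing Λ]
    (hΛ : EGA41.IsCohenRingEGA Λ)
    (B₀ : Type u) [CommRing B₀] [IsRegularLocalRing B₀] [IsAdicComplete (maximalIdeal B₀) B₀]
    (ι : ResidueField Λ →+* B₀) :
    ∃ (Λ'' : Type u) (_ : CommRing Λ'') (_ : IsLocalRing Λ'') (_ : IsNoetherianRing Λ'')
      (_ : Algebra Λ Λ'') (π : Λ'' →+* B₀),
      IsAdicComplete (maximalIdeal Λ'') Λ'' ∧ Module.Flat Λ Λ'' ∧ Function.Surjective π ∧
      RingHom.ker π = (maximalIdeal Λ).map (algebraMap Λ Λ'') ∧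
      ∀ x, π (algebraMap Λ Λ'' x) = ι (residue Λ x) := by
  rcases hΛ with ⟨hf, hc0⟩ | hc
  · -- field case
    letI : Algebra Λ B₀ := (ι.comp (residue Λ)).toAlgebra
    have hflat : Module.Flat Λ B₀ := by
      letI : Field Λ := hf.toField
      infer_instance
    have hm : maximalIdeal Λ = ⊥ := by
      letI : Field Λ := hf.toField
      exact IsLocalRing.maximalIdeal_eq_bot
    refine ⟨B₀, inferInstance, inferInstance, inferInstance, inferInstance, RingHom.id B₀,
      inferInstance, hflat, Function.surjective_id, ?_, fun x => rfl⟩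
    rw [hm, Ideal.map_bot]
    ext x
    simp [RingHom.mem_ker]
  · -- Cohen ring case
    haveI : CharZero Λ := charZero_of_isCohenRing hc
    obtain ⟨hdom, hdvr, hcomplΛ, p, hp, hmax⟩ := id hc
    haveI := hdom
    haveI := hdvr
    haveI : Fact p.Prime := ⟨hp⟩
    have hpΛ : (p : Λ) ∈ maximalIdeal Λ := by rw [hmax]; exact Ideal.subset_span rfl
    haveI : CharP (ResidueField Λ) p := by
      rw [CharP.charP_iff_prime_eq_zero hp, ← map_natCast (residue Λ), residue_eq_zero_iff]
      exact hpΛ
    haveI : CharP (ResidueField B₀) p :=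
      (RingHom.charP_iff ((residue B₀).comp ι) (RingHom.injective _) p).1 inferInstance
    obtain ⟨W, iW1, iW2, hW, ⟨ε⟩⟩ :=
      CohenExist.exists_isCohenRing_residueField p (ResidueField B₀)
    haveI : CharZero W := charZero_of_isCohenRing hW
    obtain ⟨hdomW, hdvrW, hcomplW, q, hq, hmaxW⟩ := id hW
    haveI := hdomW
    haveI := hdvrW
    haveI := hcomplW
    have hqW : (q : W) ∈ maximalIdeal W := by rw [hmaxW]; exact Ideal.subset_span rfl
    have hpW : (p : W) ∈ maximalIdeal W := by
      rw [← residue_eq_zero_iff, ← map_eq_zero_iff _ ε.injective, map_natCast, map_natCast,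
        CharP.cast_eq_zero]
    have hqp : q = p := prime_eq_of_natCast_mem_maximalIdeal hp hq hpW hqW
    subst hqp
    obtain ⟨d, ⟨e₀⟩⟩ := exists_ringEquiv_mvPowerSeries_of_regular_complete B₀ ι
    haveI : IsAdicComplete (maximalIdeal (MvPowerSeries (Fin d) W)) (MvPowerSeries (Fin d) W) :=
      isAdicComplete_mvPowerSeries
    haveI : IsDomain (MvPowerSeries (Fin d) W) := NoZeroDivisors.to_isDomain _
    let π₀ : MvPowerSeries (Fin d) W →+* MvPowerSeries (Fin d) (ResidueField B₀) :=
      MvPowerSeries.map ((ε : ResidueField W →+* ResidueField B₀).comp (residue W))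
    let π : MvPowerSeries (Fin d) W →+* B₀ :=
      (e₀ : MvPowerSeries (Fin d) (ResidueField B₀) →+* B₀).comp π₀
    have hπsurj : Function.Surjective π :=
      e₀.surjective.comp (map_residue_mvPowerSeries_surjective d ε)
    have hkerπ : RingHom.ker π = Ideal.span {((q : ℕ) : MvPowerSeries (Fin d) W)} := by
      have h1 := ker_map_residue_mvPowerSeries d ε (q : W) hmaxW
      rw [map_natCast] at h1
      rw [← h1]
      ext x
      rw [RingHom.mem_ker, RingHom.mem_ker]
      change e₀ (π₀ x) = 0 ↔ π₀ x = 0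
      rw [map_eq_zero_iff _ e₀.injective]
    set J : Ideal (MvPowerSeries (Fin d) W) := RingHom.ker π with hJdef
    let qe : (MvPowerSeries (Fin d) W ⧸ J) ≃+* B₀ := RingHom.quotientKerEquivOfSurjective hπsurj
    have hqe : ∀ y, qe (Ideal.Quotient.mk J y) = π y := fun y => rfl
    haveI : Nontrivial (MvPowerSeries (Fin d) W ⧸ J) := qe.symm.injective.nontrivial
    haveI : IsLocalRing (MvPowerSeries (Fin d) W ⧸ J) :=
      IsLocalRing.of_surjective' (Ideal.Quotient.mk J) Ideal.Quotient.mk_surjective
    have hJ : J ≠ ⊤ := Ideal.Quotient.nontrivial_iff.1 inferInstance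
    let u : Λ →+* MvPowerSeries (Fin d) W ⧸ J :=
      (qe.symm : B₀ →+* MvPowerSeries (Fin d) W ⧸ J).comp (ι.comp (residue Λ))
    have hu : ∀ x, u x = qe.symm (ι (residue Λ x)) := fun x => rfl
    haveI : IsLocalHom u := by
      refine ⟨fun x hx => ?_⟩
      by_contra hx'
      have h1 : residue Λ x = 0 := (residue_eq_zero_iff x).2 ((mem_maximalIdeal x).2 hx')
      rw [hu, h1, map_zero, map_zero] at hx
      exact not_isUnit_zero hx
    obtain ⟨ψ, hψloc, hψ⟩ := cohenRing_lifts_local_hom (Or.inr hc) J hJ u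
    have hψ' : ∀ x, Ideal.Quotient.mk J (ψ x) = u x := fun x => RingHom.congr_fun hψ x
    letI : Algebra Λ (MvPowerSeries (Fin d) W) := ψ.toAlgebra
    have halg : ∀ x, algebraMap Λ (MvPowerSeries (Fin d) W) x = ψ x := fun x => rfl
    have hq0 : ((q : ℕ) : MvPowerSeries (Fin d) W) ≠ 0 := by
      rw [← map_natCast (C (σ := Fin d) (R := W))]
      intro h
      have h2 := congrArg (constantCoeff (σ := Fin d) (R := W)) h
      rw [constantCoeff_C, map_zero] at h2
      exact hq.ne_zero (by exact_mod_cast h2)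
    have hinj : Function.Injective (algebraMap Λ (MvPowerSeries (Fin d) W)) := by
      have hirr : Irreducible ((q : ℕ) : Λ) :=
        IsDiscreteValuationRing.irreducible_iff_uniformizer _ |>.2 hmax
      rw [injective_iff_map_eq_zero]
      intro x hx
      by_contra hx0
      obtain ⟨n, hn⟩ := IsDiscreteValuationRing.associated_pow_irreducible hx0 hirr
      obtain ⟨c, hc'⟩ := hn
      have h1 : algebraMap Λ (MvPowerSeries (Fin d) W) (x * c) = 0 := by
        rw [map_mul, hx, zero_mul]
      rw [hc', map_pow, map_natCast] at h1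
      exact pow_ne_zero n hq0 h1
    have hflat : Module.Flat Λ (MvPowerSeries (Fin d) W) := by
      haveI : Module.IsTorsionFree Λ (MvPowerSeries (Fin d) W) :=
        Module.isTorsionFree_iff_algebraMap_injective.2 hinj
      infer_instance
    refine ⟨MvPowerSeries (Fin d) W, inferInstance, inferInstance, inferInstance, inferInstance,
      π, inferInstance, hflat, hπsurj, ?_, fun x => ?_⟩
    · rw [← hJdef, hkerπ, hmax, Ideal.map_span, Set.image_singleton, map_natCast]
    · rw [halg, ← hqe, hψ', hu, RingEquiv.apply_symm_apply]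

/-- **complete case**: a complete Noetherian local ring `R` with a homomorphism `ι : R → B₀`
killing `𝔪_R` to a complete regular local ring has a complete Noetherian local flat algebra `B`
with `B / 𝔪_R B = B₀` compatibly with `ι`. -/
theorem exists_flat_complete_local_of_complete_fibre (R : Type u) [CommRing R] [IsLocalRing R]
    [IsNoetherianRing R] [IsAdicComplete (maximalIdeal R) R] (B₀ : Type u) [CommRing B₀]
    [IsRegularLocalRing B₀] [IsAdicComplete (maximalIdeal B₀) B₀]
    (ι : R →+* B₀) (hι : maximalIdeal R ≤ RingHom.ker ι) :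
    ∃ (B : Type u) (_ : CommRing B) (_ : IsLocalRing B) (_ : IsNoetherianRing B)
      (_ : Algebra R B),
      IsAdicComplete (maximalIdeal B) B ∧ Module.Flat R B ∧
      ∃ ρ : B →+* B₀, Function.Surjective ρ ∧
        RingHom.ker ρ = (maximalIdeal R).map (algebraMap R B) ∧
        ∀ r, ρ (algebraMap R B r) = ι r := by
  -- coefficient ring of `R`
  obtain ⟨Λ, i1, i2, i3, φ, hΛE, -, hloc, hres⟩ := exists_coefficientRing' R
  have hιΛ : ∀ x ∈ maximalIdeal Λ, (ι.comp φ) x = 0 := by
    intro x hx
    exact hι (hloc x hx)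
  let ιΛ : ResidueField Λ →+* B₀ := Ideal.Quotient.lift (maximalIdeal Λ) (ι.comp φ) hιΛ
  have hιΛ' : ∀ x, ιΛ (residue Λ x) = ι (φ x) := fun x => rfl
  obtain ⟨Λ'', j1, j2, j3, j4, π, hcomplΛ'', hflatΛ, hπsurj, hπker, hπ⟩ :=
    exists_flat_lift_cohenRing hΛE B₀ ιΛ
  obtain ⟨hdom, hpid⟩ := isDomain_and_isPrincipalIdealRing_of_isCohenRingEGA hΛE
  haveI : IsNoetherianRing Λ := inferInstance
  -- the presentation of `R`
  obtain ⟨n, a, ha⟩ := Submodule.fg_iff_exists_fin_generating_family.1
    (IsNoetherian.noetherian (maximalIdeal R))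
  letI : Algebra Λ R := φ.toAlgebra
  obtain ⟨ev, hev⟩ := exists_surjective_algHom_mvPowerSeries (Λ := Λ) (A := R) n a ha hloc hres
  let P := MvPowerSeries (Fin n) Λ
  let P' := MvPowerSeries (Fin n) Λ''
  haveI : Module.Flat P P' := flat_mvPowerSeries n
  have hevm : (maximalIdeal P).map (ev : P →+* R) = maximalIdeal R :=
    FlatResExt.map_maximalIdeal_of_surjective (ev : P →+* R) hev
  have hC : ∀ l : Λ, ev (C l) = φ l := by
    intro l
    have h2 : (C l : MvPowerSeries (Fin n) Λ) = algebraMap Λ (MvPowerSeries (Fin n) Λ) l := by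
      rw [MvPowerSeries.algebraMap_apply, Algebra.algebraMap_self, RingHom.id_apply]
    rw [h2]
    exact ev.commutes l
  -- `ι ∘ ev` only depends on the constant coefficient
  have hιev : ∀ g : P, ι (ev g) = ι (φ (constantCoeff g)) := by
    intro g
    have h1 : g - C (constantCoeff g) ∈ maximalIdeal P := by
      rw [maximalIdeal_eq_coeffIdeal, mem_coeffIdeal_one, map_sub, constantCoeff_C, sub_self]
      exact zero_mem _
    have h2 : (ev : P →+* R) (g - C (constantCoeff g)) ∈ maximalIdeal R := by
      rw [← hevm]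
      exact Ideal.mem_map_of_mem _ h1
    have h2' := hι h2
    rw [RingHom.mem_ker] at h2'
    have h3 : ι (ev g - ev (C (constantCoeff g))) = 0 := by
      rw [← map_sub]
      exact h2'
    rw [map_sub, sub_eq_zero, hC] at h3
    exact h3
  -- the map `P' → B₀`
  let ρ₀ : P' →+* B₀ := π.comp constantCoeff
  have hρ₀ : ∀ g : P', ρ₀ g = π (constantCoeff g) := fun g => rfl
  have hρ₀map : ∀ g : P, ρ₀ (algebraMap P P' g) = ι (ev g) := by
    intro g
    rw [hρ₀, MvPowerSeries.algebraMap_apply'', MvPowerSeries.constantCoeff_map, hπ, hιΛ', hιev]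
  have hρ₀ker : RingHom.ker ρ₀ = (maximalIdeal P).map (algebraMap P P') := by
    ext g
    rw [RingHom.mem_ker, hρ₀, mem_map_maximalIdeal_mvPowerSeries_iff, ← hπker, RingHom.mem_ker]
  have hρ₀surj : Function.Surjective ρ₀ := by
    intro y
    obtain ⟨z, hz⟩ := hπsurj y
    refine ⟨C z, ?_⟩
    rw [hρ₀, constantCoeff_C, hz]
  -- the ring `B`
  let I : Ideal P := RingHom.ker (ev : P →+* R)
  let J : Ideal P' := I.map (algebraMap P P')
  have hJ : J ≤ RingHom.ker ρ₀ := by
    rw [Ideal.map_le_iff_le_comap]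
    intro g hg
    rw [Ideal.mem_comap, RingHom.mem_ker, hρ₀map]
    have : ev g = 0 := hg
    rw [this, map_zero]
  let B := P' ⧸ J
  let ρ : B →+* B₀ := Ideal.Quotient.lift J ρ₀ hJ
  have hρ : ∀ g : P', ρ (Ideal.Quotient.mk J g) = ρ₀ g := fun g => rfl
  have hρsurj : Function.Surjective ρ := by
    intro y
    obtain ⟨g, rfl⟩ := hρ₀surj y
    exact ⟨Ideal.Quotient.mk J g, rfl⟩
  haveI : Nontrivial B := by
    refine Ideal.Quotient.nontrivial_iff.2 fun h => ?_
    have h1 : (1 : P') ∈ RingHom.ker ρ₀ := hJ (h ▸ Submodule.mem_top)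
    rw [RingHom.mem_ker, map_one] at h1
    exact one_ne_zero h1
  haveI : IsLocalRing B := IsLocalRing.of_surjective' (Ideal.Quotient.mk J)
    Ideal.Quotient.mk_surjective
  have hkerρ : RingHom.ker ρ = (RingHom.ker ρ₀).map (Ideal.Quotient.mk J) :=
    Ideal.ker_quotient_lift ρ₀ hJ
  -- the structure map
  let θ : R →+* B := RingHom.liftOfSurjective (ev : P →+* R) hev
    ⟨(Ideal.Quotient.mk J).comp (algebraMap P P'), by
      intro g hg
      rw [RingHom.mem_ker, RingHom.comp_apply, Ideal.Quotient.eq_zero_iff_mem]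
      exact Ideal.mem_map_of_mem _ hg⟩
  have hθ : ∀ g : P, θ (ev g) = Ideal.Quotient.mk J (algebraMap P P' g) := by
    intro g
    exact RingHom.liftOfRightInverse_comp_apply _ _ _ _ g
  have hθcomp : θ.comp (ev : P →+* R) = (Ideal.Quotient.mk J).comp (algebraMap P P') :=
    RingHom.ext hθ
  letI : Algebra R B := θ.toAlgebra
  have halgB : ∀ r, algebraMap R B r = θ r := fun r => rfl
  -- flatness
  have hflatB : Module.Flat R B := by
    haveI : Module.Flat (P ⧸ I) (P' ⧸ J) := flat_quotient_map I
    let ι' : R ≃+* P ⧸ I := (RingHom.quotientKerEquivOfSurjective hev).symm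
    have hι' : ∀ g : P, ι' (ev g) = Ideal.Quotient.mk I g := by
      intro g
      change (RingHom.quotientKerEquivOfSurjective hev).symm (ev g) = _
      rw [RingEquiv.symm_apply_eq]
      rfl
    have h1 : (algebraMap (P ⧸ I) (P' ⧸ J)).Flat := RingHom.flat_algebraMap_iff.2 inferInstance
    have h2 : (ι' : R →+* P ⧸ I).Flat := RingHom.Flat.of_bijective ι'.bijective
    have h3 : θ = (algebraMap (P ⧸ I) (P' ⧸ J)).comp (ι' : R →+* P ⧸ I) := by
      ext r
      obtain ⟨g, rfl⟩ := hev r
      rw [hθ, RingHom.comp_apply]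
      change _ = algebraMap (P ⧸ I) (P' ⧸ J) (ι' (ev g))
      rw [hι']
      rfl
    have h4 : θ.Flat := h3 ▸ RingHom.Flat.comp h2 h1
    exact RingHom.flat_algebraMap_iff.1 h4
  -- the kernel of `ρ`
  have hmapB : RingHom.ker ρ = (maximalIdeal R).map (algebraMap R B) := by
    change _ = (maximalIdeal R).map θ
    rw [hkerρ, hρ₀ker, ← hevm, Ideal.map_map, Ideal.map_map, hθcomp]
  -- completeness
  have hcomplB : IsAdicComplete (maximalIdeal B) B := by
    haveI : IsAdicComplete (maximalIdeal P') P' := isAdicComplete_mvPowerSeries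
    rw [← FlatResExt.map_maximalIdeal_of_surjective (Ideal.Quotient.mk J)
      Ideal.Quotient.mk_surjective]
    exact isAdicComplete_quotient_of_isNoetherianRing P' (maximalIdeal P') J
  refine ⟨B, inferInstance, inferInstance, inferInstance, inferInstance, hcomplB, hflatB,
    ρ, hρsurj, hmapB, fun r => ?_⟩
  obtain ⟨g, rfl⟩ := hev r
  rw [halgB, hθ, hρ, hρ₀map]

open TensorProduct in
/-- identification of the closed fibre with the target of a surjection with kernel `𝔪_A B` -/
theorem nonempty_residueField_tensor_algEquiv {A : Type u} [CommRing A] [IsLocalRing A]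
    (B B₀ : Type u) [CommRing B] [Algebra A B] [CommRing B₀]
    [Algebra (ResidueField A) B₀] (ρ : B →+* B₀) (hρs : Function.Surjective ρ)
    (hmapA : (maximalIdeal A).map (algebraMap A B) = RingHom.ker ρ)
    (hρA : ∀ a, ρ (algebraMap A B a) = algebraMap (ResidueField A) B₀ (residue A a)) :
    Nonempty (ResidueField A ⊗[A] B ≃ₐ[ResidueField A] B₀) := by
  letI : Algebra A B₀ :=
    ((algebraMap (ResidueField A) B₀).comp (algebraMap A (ResidueField A))).toAlgebra
  haveI : IsScalarTower A (ResidueField A) B₀ := IsScalarTower.of_algebraMap_eq fun _ => rfl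
  let ρA : B →ₐ[A] B₀ := { ρ with commutes' := fun a => hρA a }
  let f : ResidueField A ⊗[A] B →ₐ[ResidueField A] B₀ :=
    Algebra.TensorProduct.lift (Algebra.ofId (ResidueField A) B₀) ρA (fun _ _ => Commute.all _ _)
  have hf : ∀ b : B, f (1 ⊗ₜ[A] b) = ρ b := by
    intro b
    change Algebra.TensorProduct.lift (Algebra.ofId (ResidueField A) B₀) ρA
      (fun _ _ => Commute.all _ _) (1 ⊗ₜ[A] b) = ρ b
    rw [Algebra.TensorProduct.lift_tmul, map_one, one_mul]
    rfl
  let e1 := Algebra.TensorProduct.quotIdealMapEquivQuotTensor B (maximalIdeal A)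
  let e2 : (B ⧸ (maximalIdeal A).map (algebraMap A B)) ≃+* B₀ :=
    (Ideal.quotEquivOfEq hmapA).trans (RingHom.quotientKerEquivOfSurjective hρs)
  have he2 : ∀ b, e2 (Ideal.Quotient.mk _ b) = ρ b := fun b => rfl
  have hcomp : ∀ x, f (e1 x) = e2 x := by
    intro x
    obtain ⟨b, rfl⟩ := Ideal.Quotient.mk_surjective x
    rw [he2]
    exact hf b
  have hbij : Function.Bijective f := by
    have h1 : (f : ResidueField A ⊗[A] B → B₀) = e2 ∘ e1.symm := by
      funext y
      obtain ⟨x, rfl⟩ := e1.surjective y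
      rw [Function.comp_apply, AlgEquiv.symm_apply_apply]
      exact hcomp x
    rw [h1]
    exact e2.bijective.comp e1.symm.bijective
  exact ⟨AlgEquiv.ofBijective f hbij⟩

open TensorProduct in
/-- S4514 -/
theorem exists_flat_complete_local_with_regular_fibre {A : Type u} [CommRing A] [IsLocalRing A]
    [IsNoetherianRing A]
    (B₀ : Type u) [CommRing B₀] [IsRegularLocalRing B₀] [IsAdicComplete (maximalIdeal B₀) B₀]
    [Algebra (ResidueField A) B₀] :
    ∃ (B : Type u) (_ : CommRing B) (_ : IsLocalRing B) (_ : IsNoetherianRing B) (_ : Algebra A B)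
      (_ : IsLocalHom (algebraMap A B)),
      IsAdicComplete (maximalIdeal B) B ∧ Module.Flat A B ∧
        Nonempty (ResidueField A ⊗[A] B ≃ₐ[ResidueField A] B₀) := by
  let R := AdicCompletion (maximalIdeal A) A
  haveI : IsNoetherianRing R := Groth.Agent.Lib.Helper19.isNoetherianRing_adicCompletion _
  let eR : ResidueField A ≃+* ResidueField R :=
    RingEquiv.ofBijective (ResidueField.map (algebraMap A R))
      (AdicCompletion.residueField_map_bijective A)
  have heR : ∀ a, eR (residue A a) = residue R (algebraMap A R a) := fun a => rfl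
  let ι : R →+* B₀ :=
    (algebraMap (ResidueField A) B₀).comp ((eR.symm : ResidueField R →+* ResidueField A).comp
      (residue R))
  have hι : ∀ x, ι x = algebraMap (ResidueField A) B₀ (eR.symm (residue R x)) := fun x => rfl
  have hιker : maximalIdeal R ≤ RingHom.ker ι := by
    intro x hx
    rw [RingHom.mem_ker, hι, (residue_eq_zero_iff x).2 hx, map_zero, map_zero]
  have hιA : ∀ a, ι (algebraMap A R a) = algebraMap (ResidueField A) B₀ (residue A a) := by
    intro a
    rw [hι, ← heR, RingEquiv.symm_apply_apply]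
  obtain ⟨B, i1, i2, i3, i4, hcompl, hflat, ρ, hρs, hρk, hρ⟩ :=
    exists_flat_complete_local_of_complete_fibre R B₀ ι hιker
  letI : Algebra A B := ((algebraMap R B).comp (algebraMap A R)).toAlgebra
  haveI : IsScalarTower A R B := IsScalarTower.of_algebraMap_eq fun _ => rfl
  have hmapA : (maximalIdeal A).map (algebraMap A B) = RingHom.ker ρ := by
    rw [hρk, IsScalarTower.algebraMap_eq A R B, ← Ideal.map_map,
      ← AdicCompletion.maximalIdeal_eq_map]
  have hρA : ∀ a, ρ (algebraMap A B a) = algebraMap (ResidueField A) B₀ (residue A a) := by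
    intro a
    rw [IsScalarTower.algebraMap_apply A R B, hρ, hιA]
  have hloc : IsLocalHom (algebraMap A B) := by
    refine ⟨fun a ha => ?_⟩
    by_contra hna
    have h1 : a ∈ maximalIdeal A := (mem_maximalIdeal a).2 hna
    have h2 : algebraMap A B a ∈ RingHom.ker ρ := by
      rw [← hmapA]; exact Ideal.mem_map_of_mem _ h1
    rw [RingHom.mem_ker] at h2
    have := ha.map ρ
    rw [h2] at this
    exact not_isUnit_zero this
  exact ⟨B, i1, i2, i3, inferInstance, hloc, hcompl, Module.Flat.trans A R B,
    nonempty_residueField_tensor_algEquiv B B₀ ρ hρs hmapA hρA⟩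

end Groth.Agent.Lib.Helper19.FlatFibre
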