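import Groth.Agent.Lib.Helper19FSFibreFlat
import Groth.Agent.Lib.Helper19FlatFibre
import Groth.Agent.Lib.Helper19FSGeomReg
import Groth.Agent.Lib.Helper19LocalFS

/-!
# Lifting a formally smooth complete local algebra over the residue field (EGA 0_IV 19.7.2)
(helper19)
-/

set_option autoImplicit false
set_option linter.style.haveILetI false
set_option linter.unusedSectionVars false
universe u

namespace Groth.Agent.Lib.Helper19.FSLiftFibre

open IsLocalRing TensorProduct Groth.Agent.Lib.Helper19.FSFibre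

section fibre

variable {A : Type u} [CommRing A] (𝔞 : Ideal A) {κ : Type u} [CommRing κ] [Algebra A κ]
  (hκs : Function.Surjective (algebraMap A κ)) (hκk : RingHom.ker (algebraMap A κ) = 𝔞)
  {C B : Type u} [CommRing C] [Algebra A C] [CommRing B] [Algebra κ B]
  (ρ : C →+* B) (hρs : Function.Surjective ρ)
  (hρk : RingHom.ker ρ = 𝔞.map (algebraMap A C))
  (hρA : ∀ a, ρ (algebraMap A C a) = algebraMap κ B (algebraMap A κ a))

include hκs hκk hρs hρk hρA

/-- if `C / 𝔞 C = B` is formally smooth over `κ = A / 𝔞`, then `C` has the fibre lifting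
property -/
theorem fibreLifts_of_surjective (𝔠 : Ideal C) (𝔟 : Ideal B) (h𝔟 : 𝔟 ≤ 𝔠.map ρ)
    (hB : EGA41.IsFormallySmoothAdic κ ⊥ B 𝔟) : FibreLifts 𝔞 𝔠 := by
  intro T _ _ J hJ hkill f hf
  obtain ⟨k, hk⟩ := hf
  -- the `κ`-algebra structure of `T`
  have hT : RingHom.ker (algebraMap A κ) ≤ RingHom.ker (algebraMap A T) := by
    rw [hκk]
    intro a ha
    exact hkill a ha
  let φT : κ →+* T := (algebraMap A κ).liftOfSurjective hκs ⟨algebraMap A T, hT⟩
  have hφT : ∀ a, φT (algebraMap A κ a) = algebraMap A T a := fun a =>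
    RingHom.liftOfSurjective_comp_apply (algebraMap A κ) hκs ⟨algebraMap A T, hT⟩ a
  letI : Algebra κ T := φT.toAlgebra
  have halgT : ∀ x, algebraMap κ T x = φT x := fun x => rfl
  -- `f` factors through `ρ`
  have hfker : RingHom.ker ρ ≤ RingHom.ker (f : C →+* T ⧸ J) := by
    rw [hρk, Ideal.map_le_iff_le_comap]
    intro a ha
    rw [Ideal.mem_comap, RingHom.mem_ker]
    change f (algebraMap A C a) = 0
    rw [AlgHom.commutes, IsScalarTower.algebraMap_apply A T (T ⧸ J), hkill a ha, map_zero]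
  let fbar : B →+* T ⧸ J := ρ.liftOfSurjective hρs ⟨(f : C →+* T ⧸ J), hfker⟩
  have hfbar : ∀ c, fbar (ρ c) = f c := fun c =>
    RingHom.liftOfSurjective_comp_apply ρ hρs ⟨(f : C →+* T ⧸ J), hfker⟩ c
  let fbarA : B →ₐ[κ] T ⧸ J :=
    { fbar with
      commutes' := fun x => by
        obtain ⟨a, rfl⟩ := hκs x
        change fbar (algebraMap κ B (algebraMap A κ a)) = _
        rw [← hρA, hfbar, AlgHom.commutes, IsScalarTower.algebraMap_apply κ T (T ⧸ J), halgT, hφT,
          IsScalarTower.algebraMap_apply A T (T ⧸ J)] }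
  have hfbarA : ∀ b, fbarA b = fbar b := fun b => rfl
  have hfbark : ∀ x ∈ 𝔟 ^ k, fbarA x = 0 := by
    intro x hx
    have h1 : x ∈ (𝔠 ^ k).map ρ := by
      rw [Ideal.map_pow]
      exact Ideal.pow_right_mono h𝔟 k hx
    obtain ⟨c, hc, rfl⟩ := (Ideal.mem_map_iff_of_surjective ρ hρs).1 h1
    rw [hfbarA, hfbar]
    exact hk c hc
  obtain ⟨g₀, hg₀⟩ := hB T J hJ ⟨1, by simp⟩ fbarA ⟨k, hfbark⟩
  have hg₀' : ∀ b, Ideal.Quotient.mk J (g₀ b) = fbar b := fun b => by
    have := congrArg (fun h => h b) hg₀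
    exact this
  let g : C →ₐ[A] T :=
    { (g₀ : B →+* T).comp ρ with
      commutes' := fun a => by
        change g₀ (ρ (algebraMap A C a)) = _
        rw [hρA, AlgHom.commutes, halgT, hφT] }
  have hg : ∀ c, g c = g₀ (ρ c) := fun c => rfl
  refine ⟨g, ?_⟩
  ext c
  change Ideal.Quotient.mk J (g c) = f c
  rw [hg, hg₀', hfbar]

/-- the fibre `κ ⊗ C` is `B` -/
theorem nonempty_tensor_algEquiv : Nonempty (κ ⊗[A] C ≃ₐ[κ] B) := by
  letI : Algebra A B := ((algebraMap κ B).comp (algebraMap A κ)).toAlgebra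
  haveI : IsScalarTower A κ B := IsScalarTower.of_algebraMap_eq fun _ => rfl
  let ρA : C →ₐ[A] B := { ρ with commutes' := fun a => hρA a }
  let f : κ ⊗[A] C →ₐ[κ] B :=
    Algebra.TensorProduct.lift (Algebra.ofId κ B) ρA (fun _ _ => Commute.all _ _)
  have hf : ∀ c : C, f (1 ⊗ₜ[A] c) = ρ c := by
    intro c
    change Algebra.TensorProduct.lift (Algebra.ofId κ B) ρA
      (fun _ _ => Commute.all _ _) (1 ⊗ₜ[A] c) = ρ c
    rw [Algebra.TensorProduct.lift_tmul, map_one, one_mul]
    rfl
  -- every element is of the form `1 ⊗ c`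
  have hform : ∀ z : κ ⊗[A] C, ∃ c : C, z = 1 ⊗ₜ[A] c := by
    intro z
    induction z using TensorProduct.induction_on with
    | zero => exact ⟨0, (TensorProduct.tmul_zero _ _).symm⟩
    | tmul x c =>
      obtain ⟨a, rfl⟩ := hκs x
      refine ⟨a • c, ?_⟩
      rw [TensorProduct.tmul_smul, TensorProduct.smul_tmul', Algebra.smul_def, mul_one]
    | add z w hz hw =>
      obtain ⟨c, rfl⟩ := hz
      obtain ⟨d, rfl⟩ := hw
      exact ⟨c + d, (TensorProduct.tmul_add _ _ _).symm⟩
  have hzero : ∀ c ∈ 𝔞.map (algebraMap A C), (1 : κ) ⊗ₜ[A] c = 0 := by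
    intro c hc
    refine Submodule.span_induction (p := fun c _ => (1 : κ) ⊗ₜ[A] c = 0) ?_ ?_ ?_ ?_ hc
    · rintro _ ⟨a, ha, rfl⟩
      have h0 : algebraMap A κ a = 0 := by
        rw [← RingHom.mem_ker, hκk]; exact ha
      rw [Algebra.algebraMap_eq_smul_one, TensorProduct.tmul_smul, TensorProduct.smul_tmul',
        Algebra.smul_def, mul_one, h0, TensorProduct.zero_tmul]
    · exact TensorProduct.tmul_zero _ _
    · intro x y _ _ hx hy
      rw [TensorProduct.tmul_add, hx, hy, add_zero]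
    · intro c' x _ hx
      have : (1 : κ) ⊗ₜ[A] (c' • x) = ((1 : κ) ⊗ₜ[A] c') * ((1 : κ) ⊗ₜ[A] x) := by
        rw [Algebra.TensorProduct.tmul_mul_tmul, one_mul, smul_eq_mul]
      rw [this, hx, mul_zero]
  have hbij : Function.Bijective f := by
    constructor
    · rw [injective_iff_map_eq_zero]
      intro z hz
      obtain ⟨c, rfl⟩ := hform z
      rw [hf] at hz
      apply hzero
      rw [← hρk]
      exact hz
    · intro b
      obtain ⟨c, rfl⟩ := hρs b
      exact ⟨1 ⊗ₜ[A] c, hf c⟩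
  exact ⟨AlgEquiv.ofBijective f hbij⟩

end fibre

/-- **EGA 0_IV 19.7.2**: lifting a formally smooth complete Noetherian local algebra over the
residue field to a flat formally smooth complete Noetherian local algebra -/
theorem exists_formallySmooth_flat_lift {A : Type u} [CommRing A] [IsLocalRing A]
    [IsNoetherianRing A] [IsAdicComplete (maximalIdeal A) A] {κ : Type u} [Field κ] [Algebra A κ]
    (hκs : Function.Surjective (algebraMap A κ))
    (hκk : RingHom.ker (algebraMap A κ) = maximalIdeal A)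
    {B : Type u} [CommRing B] [IsLocalRing B] [IsNoetherianRing B]
    [IsAdicComplete (maximalIdeal B) B] [Algebra κ B]
    (hB : CAlgX.IsAdicFormallySmooth κ B (maximalIdeal B)) :
    ∃ (C : Type u) (_ : CommRing C) (_ : IsLocalRing C) (_ : Algebra A C),
      IsNoetherianRing C ∧ IsAdicComplete (maximalIdeal C) C ∧ IsLocalHom (algebraMap A C) ∧
        Module.Flat A C ∧ CAlgX.IsAdicFormallySmooth A C (maximalIdeal C) ∧
        Nonempty (κ ⊗[A] C ≃ₐ[κ] B) := by
  haveI : IsRegularLocalRing B :=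
    (FSGeomReg.isRegular_and_completion_of_isAdicFormallySmooth (k := κ) hB).1
  let ι : A →+* B := (algebraMap κ B).comp (algebraMap A κ)
  have hι : maximalIdeal A ≤ RingHom.ker ι := by
    intro x hx
    rw [← hκk, RingHom.mem_ker] at hx
    rw [RingHom.mem_ker, RingHom.comp_apply, hx, map_zero]
  obtain ⟨C, i1, i2, i3, i4, hcompl, hflat, ρ, hρs, hρk, hρ⟩ :=
    FlatFibre.exists_flat_complete_local_of_complete_fibre A B ι hι
  have hρA : ∀ a, ρ (algebraMap A C a) = algebraMap κ B (algebraMap A κ a) := fun a => hρ a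
  have hloc : IsLocalHom (algebraMap A C) := by
    refine ⟨fun a ha => ?_⟩
    by_contra hna
    have h1 : a ∈ maximalIdeal A := (mem_maximalIdeal a).2 hna
    have h2 : algebraMap A C a ∈ RingHom.ker ρ := by
      rw [hρk]; exact Ideal.mem_map_of_mem _ h1
    rw [RingHom.mem_ker] at h2
    have := ha.map ρ
    rw [h2] at this
    exact not_isUnit_zero this
  have hmax : maximalIdeal B ≤ (maximalIdeal C).map ρ :=
    (FlatResExt.map_maximalIdeal_of_surjective ρ hρs).ge
  have HI : FibreLifts (maximalIdeal A) (maximalIdeal C) :=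
    fibreLifts_of_surjective (maximalIdeal A) hκs hκk ρ hρs hρk hρA (maximalIdeal C)
      (maximalIdeal B) hmax ((Groth.Agent.Lib.Helper19.isAdicFormallySmooth_iff_isFormallySmoothAdic_bot _).1 hB)
  have hFS : EGA41.IsFormallySmoothAdic A (maximalIdeal A) C (maximalIdeal C) := by
    apply isFormallySmoothAdic_of_stepLifts
    intro C' C'' _ _ _ _ p hp hnil hkill _ u hu
    exact exists_lift_of_flat HI p hp hnil hkill u hu
  exact ⟨C, i1, i2, i4, i3, hcompl, hloc, hflat,
    FlatLift.isAdicFormallySmooth_of_isFormallySmoothAdic hFS,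
    nonempty_tensor_algEquiv (maximalIdeal A) hκs hκk ρ hρs hρk hρA⟩

end Groth.Agent.Lib.Helper19.FSLiftFibre
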