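import Groth.Agent.Lib.Helper19FlatResExtB
import Groth.Agent.Lib.Helper19ComplNoeth
import Mathlib.RingTheory.AdicCompletion.LocalRing
import Mathlib.RingTheory.AdicCompletion.AsTensorProduct

/-!
# Flat local extensions of Noetherian local rings with prescribed residue field (helper19)

EGA 0_III 10.3.1: for a Noetherian local ring `A` with residue field `k` and a field extension
`K / k` there is a (complete) Noetherian local flat `A`-algebra `B` with `𝔪_A B = 𝔪_B` and
residue field `K`.
-/

set_option autoImplicit false
set_option linter.style.haveILetI false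
set_option linter.unusedSectionVars false
universe u

namespace Groth.Agent.Lib.Helper19.FlatResExt

open IsLocalRing

theorem exists_flat_complete_local_residueField {A : Type u} [CommRing A] [IsNoetherianRing A]
    [IsLocalRing A] (K : Type u) [Field K] [Algebra (ResidueField A) K] :
    ∃ (B : Type u) (_ : CommRing B) (_ : IsLocalRing B) (_ : IsNoetherianRing B)
      (_ : Algebra A B),
      IsAdicComplete (maximalIdeal B) B ∧ Module.Flat A B ∧
      (maximalIdeal A).map (algebraMap A B) = maximalIdeal B ∧
      ∃ ρ : B →+* K, Function.Surjective ρ ∧ RingHom.ker ρ = maximalIdeal B ∧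
        ∀ a, ρ (algebraMap A B a) = algebraMap (ResidueField A) K (residue A a) := by
  let R := AdicCompletion (maximalIdeal A) A
  haveI : IsNoetherianRing R := Groth.Agent.Lib.Helper19.isNoetherianRing_adicCompletion _
  let eR : ResidueField A ≃+* ResidueField R :=
    RingEquiv.ofBijective (ResidueField.map (algebraMap A R))
      (AdicCompletion.residueField_map_bijective A)
  have heR : ∀ a, eR (residue A a) = residue R (algebraMap A R a) := fun a => rfl
  let κ : R →+* K :=
    (algebraMap (ResidueField A) K).comp ((eR.symm : ResidueField R →+* ResidueField A).comp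
      (residue R))
  have hκ : ∀ x, κ x = algebraMap (ResidueField A) K (eR.symm (residue R x)) := fun x => rfl
  have hκker : RingHom.ker κ = maximalIdeal R := by
    ext x
    rw [RingHom.mem_ker, hκ, map_eq_zero_iff _ (algebraMap (ResidueField A) K).injective,
      map_eq_zero_iff _ eR.symm.injective, residue_eq_zero_iff]
  have hκA : ∀ a, κ (algebraMap A R a) = algebraMap (ResidueField A) K (residue A a) := by
    intro a
    rw [hκ, ← heR, RingEquiv.symm_apply_apply]
  obtain ⟨B, i1, i2, i3, i4, hcompl, hflat, hmap, ρ, hρs, hρk, hρ⟩ :=
    exists_flat_complete_local_of_complete R K κ hκker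
  letI : Algebra A B := ((algebraMap R B).comp (algebraMap A R)).toAlgebra
  haveI : IsScalarTower A R B := IsScalarTower.of_algebraMap_eq fun _ => rfl
  refine ⟨B, i1, i2, i3, inferInstance, hcompl, Module.Flat.trans A R B, ?_, ρ, hρs, hρk, ?_⟩
  · rw [IsScalarTower.algebraMap_eq A R B, ← Ideal.map_map,
      ← AdicCompletion.maximalIdeal_eq_map, hmap]
  · intro a
    rw [IsScalarTower.algebraMap_apply A R B, hρ, hκA]

end Groth.Agent.Lib.Helper19.FlatResExt
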