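import Mathlib

/-!
# Sections over the formal disc: corepresentability (affine case)

For a `k[[z]]`-algebra `R`, the functor `Q ↦ Hom_{k[[z]]}(R, Q[[z]])` is corepresented by
`P = k[c_{r,α}]/(relations)`.
-/

namespace Groth.Agent.Lib.Helper19FormalDiscSections

universe u
open MvPolynomial

variable (k : Type u) [Field k] (n : ℕ) (R : Type u) [CommRing R]
  [Algebra (MvPowerSeries (Fin n) k) R]

/-- The relations. -/
def rels : Set (MvPolynomial (R × (Fin n →₀ ℕ)) k) :=
  {p | (∃ (r s : R) (α : Fin n →₀ ℕ), p = X (r + s, α) - X (r, α) - X (s, α)) ∨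
       (∃ (r s : R) (α : Fin n →₀ ℕ),
          p = X (r * s, α) - ∑ x ∈ Finset.HasAntidiagonal.antidiagonal α, X (r, x.1) * X (s, x.2)) ∨
       (∃ (φ : MvPowerSeries (Fin n) k) (α : Fin n →₀ ℕ),
          p = X (algebraMap _ R φ, α) - C (MvPowerSeries.coeff α φ))}

/-- The corepresenting algebra. -/
abbrev P : Type u := (MvPolynomial (R × (Fin n →₀ ℕ)) k) ⧸ Ideal.span (rels k n R)

/-- Generators. -/
noncomputable def gen (r : R) (α : Fin n →₀ ℕ) : P k n R :=
  Ideal.Quotient.mk _ (X (r, α))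

lemma gen_add (r s : R) (α : Fin n →₀ ℕ) :
    gen k n R (r + s) α = gen k n R r α + gen k n R s α := by
  have h : (Ideal.Quotient.mk (Ideal.span (rels k n R)))
      (X (r + s, α) - X (r, α) - X (s, α)) = 0 :=
    Ideal.Quotient.eq_zero_iff_mem.mpr (Ideal.subset_span (Or.inl ⟨r, s, α, rfl⟩))
  rw [map_sub, map_sub, sub_sub, sub_eq_zero] at h
  exact h

lemma gen_mul (r s : R) (α : Fin n →₀ ℕ) :
    gen k n R (r * s) α =
      ∑ x ∈ Finset.HasAntidiagonal.antidiagonal α, gen k n R r x.1 * gen k n R s x.2 := by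
  have h : (Ideal.Quotient.mk (Ideal.span (rels k n R)))
      (X (r * s, α) - ∑ x ∈ Finset.HasAntidiagonal.antidiagonal α, X (r, x.1) * X (s, x.2)) = 0 :=
    Ideal.Quotient.eq_zero_iff_mem.mpr
      (Ideal.subset_span (Or.inr (Or.inl ⟨r, s, α, rfl⟩)))
  rw [map_sub, sub_eq_zero, map_sum] at h
  rw [gen, h]
  refine Finset.sum_congr rfl fun x _ => ?_
  rw [map_mul]
  rfl

lemma gen_alg (φ : MvPowerSeries (Fin n) k) (α : Fin n →₀ ℕ) :
    gen k n R (algebraMap _ R φ) α = algebraMap k (P k n R) (MvPowerSeries.coeff α φ) := by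
  have h : (Ideal.Quotient.mk (Ideal.span (rels k n R)))
      (X (algebraMap _ R φ, α) - C (MvPowerSeries.coeff α φ)) = 0 :=
    Ideal.Quotient.eq_zero_iff_mem.mpr
      (Ideal.subset_span (Or.inr (Or.inr ⟨φ, α, rfl⟩)))
  rw [map_sub, sub_eq_zero] at h
  rw [gen, h]
  rfl

/-- The universal family as a function. -/
noncomputable def uFun (r : R) : MvPowerSeries (Fin n) (P k n R) :=
  fun α => gen k n R r α

lemma coeff_uFun (r : R) (α : Fin n →₀ ℕ) :
    MvPowerSeries.coeff α (uFun k n R r) = gen k n R r α := rfl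

lemma uFun_alg (φ : MvPowerSeries (Fin n) k) :
    uFun k n R (algebraMap _ R φ) =
      algebraMap (MvPowerSeries (Fin n) k) (MvPowerSeries (Fin n) (P k n R)) φ := by
  ext α
  rw [coeff_uFun, gen_alg]
  change _ = MvPowerSeries.coeff α (MvPowerSeries.map (algebraMap k (P k n R)) φ)
  rw [MvPowerSeries.coeff_map]

/-- The universal family. -/
noncomputable def u : R →ₐ[MvPowerSeries (Fin n) k] MvPowerSeries (Fin n) (P k n R) where
  toFun := uFun k n R
  map_one' := by
    rw [← map_one (algebraMap (MvPowerSeries (Fin n) k) R), uFun_alg, map_one]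
  map_zero' := by
    rw [← map_zero (algebraMap (MvPowerSeries (Fin n) k) R), uFun_alg, map_zero]
  map_add' r s := by
    ext α
    rw [map_add, coeff_uFun, coeff_uFun, coeff_uFun, gen_add]
  map_mul' r s := by
    ext α
    rw [MvPowerSeries.coeff_mul, coeff_uFun, gen_mul]
    rfl
  commutes' φ := uFun_alg k n R φ

lemma coeff_u (r : R) (α : Fin n →₀ ℕ) :
    MvPowerSeries.coeff α (u k n R r) = gen k n R r α := rfl

variable {k n R}

/-- The classifying map on the free algebra. -/
noncomputable def g₀ {Q : Type u} [CommRing Q] [Algebra k Q]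
    (f : R →ₐ[MvPowerSeries (Fin n) k] MvPowerSeries (Fin n) Q) :
    MvPolynomial (R × (Fin n →₀ ℕ)) k →ₐ[k] Q :=
  MvPolynomial.aeval (fun x : R × (Fin n →₀ ℕ) => MvPowerSeries.coeff x.2 (f x.1))

lemma g₀_rels {Q : Type u} [CommRing Q] [Algebra k Q]
    (f : R →ₐ[MvPowerSeries (Fin n) k] MvPowerSeries (Fin n) Q) :
    ∀ p ∈ Ideal.span (rels k n R), g₀ f p = 0 := by
  intro p hp
  have hle : Ideal.span (rels k n R) ≤ RingHom.ker (g₀ f : _ →+* Q) := by
    rw [Ideal.span_le]
    rintro p (⟨r, s, α, rfl⟩ | ⟨r, s, α, rfl⟩ | ⟨φ, α, rfl⟩)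
    · change (g₀ f) _ = 0
      simp only [g₀, map_sub, aeval_X, map_add]
      ring
    · change (g₀ f) _ = 0
      simp only [g₀, map_sub, aeval_X, map_mul, map_sum]
      rw [MvPowerSeries.coeff_mul, sub_self]
    · change (g₀ f) _ = 0
      simp only [g₀, map_sub, aeval_X, aeval_C]
      rw [f.commutes]
      change MvPowerSeries.coeff α (MvPowerSeries.map (algebraMap k Q) φ) - _ = 0
      rw [MvPowerSeries.coeff_map, sub_self]
  exact hle hp

/-- The classifying map. -/
noncomputable def g {Q : Type u} [CommRing Q] [Algebra k Q]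
    (f : R →ₐ[MvPowerSeries (Fin n) k] MvPowerSeries (Fin n) Q) : P k n R →ₐ[k] Q :=
  Ideal.Quotient.liftₐ (Ideal.span (rels k n R)) (g₀ f) (g₀_rels f)

lemma g_gen {Q : Type u} [CommRing Q] [Algebra k Q]
    (f : R →ₐ[MvPowerSeries (Fin n) k] MvPowerSeries (Fin n) Q) (r : R) (α : Fin n →₀ ℕ) :
    g f (gen k n R r α) = MvPowerSeries.coeff α (f r) := by
  change g₀ f (X (r, α)) = _
  simp [g₀]

lemma g_spec {Q : Type u} [CommRing Q] [Algebra k Q]
    (f : R →ₐ[MvPowerSeries (Fin n) k] MvPowerSeries (Fin n) Q) :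
    (MvPowerSeries.map (σ := Fin n) (g f : P k n R →+* Q)).comp
        (u k n R : R →+* MvPowerSeries (Fin n) (P k n R)) =
      (f : R →+* MvPowerSeries (Fin n) Q) := by
  ext r α
  change MvPowerSeries.coeff α (MvPowerSeries.map (g f : P k n R →+* Q) (u k n R r)) = _
  rw [MvPowerSeries.coeff_map, coeff_u]
  exact g_gen f r α

lemma g_unique {Q : Type u} [CommRing Q] [Algebra k Q]
    (f : R →ₐ[MvPowerSeries (Fin n) k] MvPowerSeries (Fin n) Q) (g' : P k n R →ₐ[k] Q)
    (h : (MvPowerSeries.map (σ := Fin n) (g' : P k n R →+* Q)).comp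
        (u k n R : R →+* MvPowerSeries (Fin n) (P k n R)) =
      (f : R →+* MvPowerSeries (Fin n) Q)) : g' = g f := by
  apply Ideal.Quotient.algHom_ext
  apply MvPolynomial.algHom_ext
  rintro ⟨r, α⟩
  change g' (gen k n R r α) = g f (gen k n R r α)
  rw [g_gen]
  have h1 := congrArg (fun ψ : R →+* MvPowerSeries (Fin n) Q => MvPowerSeries.coeff α (ψ r)) h
  simp only [RingHom.comp_apply] at h1
  change MvPowerSeries.coeff α (MvPowerSeries.map (g' : P k n R →+* Q) (u k n R r)) = _ at h1
  rw [MvPowerSeries.coeff_map, coeff_u] at h1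
  exact h1

/-- Countable generation. -/
lemma countable_gen (s : Set R) (hs : s.Countable)
    (hadj : Algebra.adjoin (MvPowerSeries (Fin n) k) s = ⊤) :
    ∃ t : Set (P k n R), t.Countable ∧ Algebra.adjoin k t = ⊤ := by
  refine ⟨(fun x : R × (Fin n →₀ ℕ) => gen k n R x.1 x.2) '' (s ×ˢ Set.univ), ?_, ?_⟩
  · exact (hs.prod Set.countable_univ).image _
  · set T := Algebra.adjoin k
      ((fun x : R × (Fin n →₀ ℕ) => gen k n R x.1 x.2) '' (s ×ˢ Set.univ)) with hT
    have key : ∀ r : R, ∀ α, gen k n R r α ∈ T := by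
      intro r
      have hr : r ∈ Algebra.adjoin (MvPowerSeries (Fin n) k) s := by
        rw [hadj]; exact Algebra.mem_top
      induction hr using Algebra.adjoin_induction with
      | mem x hx =>
        intro α
        exact Algebra.subset_adjoin ⟨(x, α), ⟨hx, Set.mem_univ _⟩, rfl⟩
      | algebraMap φ =>
        intro α
        rw [gen_alg]
        exact Subalgebra.algebraMap_mem _ _
      | add x y _ _ hx hy =>
        intro α
        rw [gen_add]
        exact Subalgebra.add_mem _ (hx α) (hy α)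
      | mul x y _ _ hx hy =>
        intro α
        rw [gen_mul]
        exact Subalgebra.sum_mem _ fun z _ => Subalgebra.mul_mem _ (hx z.1) (hy z.2)
    rw [eq_top_iff]
    rintro p -
    obtain ⟨q, rfl⟩ := Ideal.Quotient.mk_surjective p
    induction q using MvPolynomial.induction_on with
    | C a => exact Subalgebra.algebraMap_mem T a
    | add p q hp hq =>
      rw [map_add]
      exact Subalgebra.add_mem _ hp hq
    | mul_X p x hp =>
      rw [map_mul]
      exact Subalgebra.mul_mem _ hp (key x.1 x.2)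

end Groth.Agent.Lib.Helper19FormalDiscSections
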