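import Mathlib
import Groth.Prelude.Def_DeRham

/-!
# The formal Poincaré lemma for `k⟦σ⟧`, `char k = 0`

Euler contraction `contr`, Cartan operator `L = d ∘ contr + contr ∘ d`, which acts on
`f • dt_I` (a `(q+1)`-form) by `f ↦ E f + (q+1) f`, a bijection of `k⟦σ⟧`.
-/

set_option autoImplicit false

namespace Groth.Agent.Lib.Helper19.FormalPoincare

open MvPowerSeries exteriorPower

universe u

section

variable {k : Type u} [Field k] {σ : Type u} [Fintype σ] [LinearOrder σ]

/-- Euler functional `m ↦ ∑ X_i m_i`. -/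
noncomputable def eps : (σ → MvPowerSeries σ k) →ₗ[MvPowerSeries σ k] MvPowerSeries σ k :=
  ∑ i, (X i : MvPowerSeries σ k) •
    (LinearMap.proj i : (σ → MvPowerSeries σ k) →ₗ[MvPowerSeries σ k] MvPowerSeries σ k)

lemma eps_apply (m : σ → MvPowerSeries σ k) : eps m = ∑ i, X i * m i := by
  simp [eps, LinearMap.sum_apply]

lemma eps_single (i : σ) : eps (Pi.single i (1 : MvPowerSeries σ k)) = X i := by
  rw [eps_apply, Finset.sum_eq_single i]
  · simp
  · intro j _ hj
    simp [Pi.single_apply, hj]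
  · intro h
    exact absurd (Finset.mem_univ _) h

/-- contraction with the Euler vector field -/
noncomputable def contr (q : ℕ) :
    ⋀[MvPowerSeries σ k]^(q + 1) (σ → MvPowerSeries σ k) →ₗ[MvPowerSeries σ k]
      ⋀[MvPowerSeries σ k]^q (σ → MvPowerSeries σ k) :=
  alternatingMapLinearEquiv (AlternatingMap.alternatizeUncurryFin
    ((eps (k := k) (σ := σ)).smulRight (ιMulti (MvPowerSeries σ k) q)))

lemma contr_ιMulti (q : ℕ) (v : Fin (q + 1) → σ → MvPowerSeries σ k) :
    contr q (ιMulti _ (q + 1) v) =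
      ∑ j : Fin (q + 1), (-1) ^ (j : ℕ) • (eps (v j) • ιMulti _ q (j.removeNth v)) := by
  rw [contr, alternatingMapLinearEquiv_apply_ιMulti, AlternatingMap.alternatizeUncurryFin_apply]
  rfl


section cartan

variable (δ : Derivation k (MvPowerSeries σ k) (σ → MvPowerSeries σ k))
  (hδ : ∀ (f : MvPowerSeries σ k) (i : σ), δ f i = MvPowerSeries.pderiv k i f)
  (d : ∀ p : ℕ, ↥(⋀[MvPowerSeries σ k]^p (σ → MvPowerSeries σ k)) →ₗ[k]
    ↥(⋀[MvPowerSeries σ k]^(p + 1) (σ → MvPowerSeries σ k)))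
  (hd : DeRham.IsDiff δ d)

include hδ in
lemma δ_X (i : σ) : δ (X i) = Pi.single i 1 := by
  ext1 j
  rw [hδ]
  by_cases h : j = i
  · subst h
    rw [pderiv_X_self, Pi.single_eq_same]
  · rw [pderiv_X_of_ne (Ne.symm h), Pi.single_eq_of_ne h]

include hδ hd in
lemma d_basis (n : ℕ) (I : Fin n → σ) (f : MvPowerSeries σ k) :
    d n (f • ιMulti _ n (fun j => Pi.single (I j) (1 : MvPowerSeries σ k))) =
      ιMulti _ (n + 1) (Fin.cons (δ f) (fun j => Pi.single (I j) (1 : MvPowerSeries σ k)) :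
        Fin (n + 1) → σ → MvPowerSeries σ k) := by
  have := hd.1 n f (fun j => X (I j))
  simp only [DeRham.gen, δ_X δ hδ] at this
  exact this

lemma cons_swap (q : ℕ) (v : Fin (q + 1) → σ → MvPowerSeries σ k) (j : Fin (q + 1)) :
    ιMulti (MvPowerSeries σ k) (q + 1) (Fin.cons (v j) (j.removeNth v) : Fin (q + 1) → σ → MvPowerSeries σ k) =
      (-1 : ℤ) ^ (j : ℕ) • ιMulti (MvPowerSeries σ k) (q + 1) v := by
  have h := AlternatingMap.map_insertNth (ιMulti (MvPowerSeries σ k) (q + 1)) j (v j)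
    (j.removeNth v)
  rw [Fin.insertNth_self_removeNth] at h
  have h' : ιMulti (MvPowerSeries σ k) (q + 1) v =
      (-1 : ℤ) ^ (j : ℕ) • ιMulti (MvPowerSeries σ k) (q + 1) (Fin.cons (v j) (j.removeNth v) : Fin (q + 1) → σ → MvPowerSeries σ k) := h
  rw [h', smul_smul, ← pow_add, Even.neg_one_pow ⟨(j : ℕ), rfl⟩, one_smul]

include hδ hd in
theorem L_basis (q : ℕ) (I : Fin (q + 1) → σ) (f : MvPowerSeries σ k) :
    d q (contr q (f • ιMulti _ (q + 1) (fun j => Pi.single (I j) (1 : MvPowerSeries σ k)))) +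
      contr (q + 1) (d (q + 1) (f • ιMulti _ (q + 1)
        (fun j => Pi.single (I j) (1 : MvPowerSeries σ k)))) =
    (eps (δ f) + ((q + 1 : ℕ) : MvPowerSeries σ k) * f) •
      ιMulti _ (q + 1) (fun j => Pi.single (I j) (1 : MvPowerSeries σ k)) := by
  set v : Fin (q + 1) → σ → MvPowerSeries σ k := fun j => Pi.single (I j) 1 with hv
  -- the cross term
  set S : ↥(⋀[MvPowerSeries σ k]^(q + 1) (σ → MvPowerSeries σ k)) :=
    ∑ j : Fin (q + 1), (-1 : ℤ) ^ (j : ℕ) •
      ((X (I j) : MvPowerSeries σ k) • ιMulti (MvPowerSeries σ k) (q + 1) (Fin.cons (δ f) (j.removeNth v) : Fin (q + 1) → σ → MvPowerSeries σ k)) with hS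
  have h1 : contr q (f • ιMulti _ (q + 1) v) =
      ∑ j : Fin (q + 1), (-1 : ℤ) ^ (j : ℕ) •
        ((f * X (I j)) • ιMulti (MvPowerSeries σ k) q
          (fun l => Pi.single (I (j.succAbove l)) (1 : MvPowerSeries σ k))) := by
    rw [map_smul, contr_ιMulti, Finset.smul_sum]
    refine Finset.sum_congr rfl fun j _ => ?_
    rw [smul_comm, hv]
    simp only [eps_single, smul_smul]
    rfl
  have h2 : d q (contr q (f • ιMulti _ (q + 1) v)) =
      ((q + 1 : ℕ) : MvPowerSeries σ k) • (f • ιMulti _ (q + 1) v) + S := by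
    rw [h1, map_sum]
    have : ∀ j : Fin (q + 1), d q ((-1 : ℤ) ^ (j : ℕ) •
        ((f * X (I j)) • ιMulti (MvPowerSeries σ k) q
          (fun l => Pi.single (I (j.succAbove l)) (1 : MvPowerSeries σ k)))) =
        f • ιMulti _ (q + 1) v + (-1 : ℤ) ^ (j : ℕ) •
          ((X (I j) : MvPowerSeries σ k) • ιMulti (MvPowerSeries σ k) (q + 1) (Fin.cons (δ f) (j.removeNth v) : Fin (q + 1) → σ → MvPowerSeries σ k)) := by
      intro j
      rw [map_zsmul, d_basis δ hδ d hd q (fun l => I (j.succAbove l)), Derivation.leibniz,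
        δ_X δ hδ]
      have hc : ∀ x : σ → MvPowerSeries σ k,
          ιMulti (MvPowerSeries σ k) (q + 1)
            (Fin.cons x (fun l => Pi.single (I (j.succAbove l)) (1 : MvPowerSeries σ k)) :
              Fin (q + 1) → σ → MvPowerSeries σ k) =
          ιMulti (MvPowerSeries σ k) (q + 1) (Fin.cons x (j.removeNth v) : Fin (q + 1) → σ → MvPowerSeries σ k) := fun x => rfl
      rw [hc]
      have hadd := (ιMulti (MvPowerSeries σ k) (q + 1)).toMultilinearMap.cons_add
        (j.removeNth v) (f • Pi.single (I j) (1 : MvPowerSeries σ k)) ((X (I j) : MvPowerSeries σ k) • δ f)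
      have hsm1 := (ιMulti (MvPowerSeries σ k) (q + 1)).toMultilinearMap.cons_smul
        (j.removeNth v) f (Pi.single (I j) (1 : MvPowerSeries σ k))
      have hsm2 := (ιMulti (MvPowerSeries σ k) (q + 1)).toMultilinearMap.cons_smul
        (j.removeNth v) (X (I j) : MvPowerSeries σ k) (δ f)
      simp only [AlternatingMap.coe_multilinearMap] at hadd hsm1 hsm2
      rw [hadd, hsm1, hsm2]
      have hsw := cons_swap q v j
      have hvj : v j = Pi.single (I j) (1 : MvPowerSeries σ k) := rfl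
      rw [hvj] at hsw
      rw [hsw, smul_add, smul_comm ((-1 : ℤ) ^ (j : ℕ)) f, smul_smul, ← pow_add,
        Even.neg_one_pow ⟨(j : ℕ), rfl⟩, one_smul]
    rw [Finset.sum_congr rfl (fun j _ => this j), Finset.sum_add_distrib, Finset.sum_const,
      Finset.card_univ, Fintype.card_fin, hS]
    congr 1
  have h3 : contr (q + 1) (d (q + 1) (f • ιMulti _ (q + 1) v)) =
      eps (δ f) • ιMulti _ (q + 1) v - S := by
    rw [d_basis δ hδ d hd (q + 1) I, contr_ιMulti, Fin.sum_univ_succ]
    have h0 : (0 : Fin (q + 2)).removeNth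
        (Fin.cons (δ f) (fun j => Pi.single (I j) (1 : MvPowerSeries σ k)) :
          Fin (q + 2) → σ → MvPowerSeries σ k) = v := by
      funext l
      simp [Fin.removeNth, hv]
    have hs : ∀ j : Fin (q + 1), (j.succ).removeNth
        (Fin.cons (δ f) (fun j => Pi.single (I j) (1 : MvPowerSeries σ k)) :
          Fin (q + 2) → σ → MvPowerSeries σ k) = Fin.cons (δ f) (j.removeNth v) := by
      intro j
      funext l
      refine Fin.cases ?_ (fun l' => ?_) l
      · simp [Fin.removeNth]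
      · simp [Fin.removeNth, hv]
    simp only [Fin.val_zero, pow_zero, one_smul, Fin.cons_zero, Fin.cons_succ, Fin.val_succ, h0, hs]
    rw [sub_eq_add_neg, hS, ← Finset.sum_neg_distrib]
    congr 1
    refine Finset.sum_congr rfl fun j _ => ?_
    rw [pow_succ, mul_neg_one, neg_smul, eps_single]
  rw [h2, h3, add_smul, mul_smul]
  abel


/-! ### the operator `T = E + (q+1)` on power series -/

include hδ in
lemma coeff_eps_δ (f : MvPowerSeries σ k) (α : σ →₀ ℕ) :
    coeff α (eps (δ f)) = coeff α f * ∑ i, (α i : k) := by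
  classical
  rw [eps_apply, map_sum, Finset.mul_sum]
  refine Finset.sum_congr rfl fun i _ => ?_
  rw [hδ, X_def, coeff_monomial_mul]
  split_ifs with h
  · rw [coeff_pderiv, tsub_add_cancel_of_le h, one_mul]
    congr 1
    have h1 : 1 ≤ α i := by
      have := h i
      simpa using this
    rw [Finsupp.tsub_apply, Finsupp.single_eq_same]
    have : ((α i - 1 : ℕ) : k) + 1 = ((α i - 1 + 1 : ℕ) : k) := by push_cast; ring
    rw [this, Nat.sub_add_cancel h1]
  · have h0 : α i = 0 := by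
      by_contra hne
      apply h
      rw [Finsupp.single_le_iff]
      omega
    rw [h0, Nat.cast_zero, mul_zero]

include hδ in
lemma coeff_T (q : ℕ) (f : MvPowerSeries σ k) (α : σ →₀ ℕ) :
    coeff α (eps (δ f) + ((q + 1 : ℕ) : MvPowerSeries σ k) * f) =
      coeff α f * (((∑ i, α i) + (q + 1) : ℕ) : k) := by
  rw [map_add, coeff_eps_δ δ hδ, ← nsmul_eq_mul, map_nsmul, nsmul_eq_mul]
  push_cast
  ring

variable [CharZero k]

include hδ in
lemma T_injective (q : ℕ) (f : MvPowerSeries σ k)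
    (h : eps (δ f) + ((q + 1 : ℕ) : MvPowerSeries σ k) * f = 0) : f = 0 := by
  ext α
  have := coeff_T δ hδ q f α
  rw [h, map_zero] at this
  rw [map_zero]
  rcases mul_eq_zero.mp this.symm with h1 | h1
  · exact h1
  · exact absurd h1 (Nat.cast_ne_zero.mpr (by omega))

include hδ in
lemma T_surjective (q : ℕ) (g : MvPowerSeries σ k) :
    ∃ f : MvPowerSeries σ k, eps (δ f) + ((q + 1 : ℕ) : MvPowerSeries σ k) * f = g := by
  refine ⟨fun α => coeff α g / (((∑ i, α i) + (q + 1) : ℕ) : k), ?_⟩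
  ext α
  rw [coeff_T δ hδ]
  have hne : ((((∑ i, α i) + (q + 1) : ℕ) : k)) ≠ 0 := Nat.cast_ne_zero.mpr (by omega)
  show coeff α g / _ * _ = _
  field_simp

/-! ### the Cartan operator on forms -/

/-- `L = d ∘ contr + contr ∘ d` on `(q+1)`-forms. -/
noncomputable def Lop (q : ℕ) :
    ↥(⋀[MvPowerSeries σ k]^(q + 1) (σ → MvPowerSeries σ k)) →ₗ[k]
      ↥(⋀[MvPowerSeries σ k]^(q + 1) (σ → MvPowerSeries σ k)) :=
  d q ∘ₗ (contr q).restrictScalars k + ((contr (q + 1)).restrictScalars k) ∘ₗ d (q + 1)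

lemma Lop_apply (q : ℕ) (x : ↥(⋀[MvPowerSeries σ k]^(q + 1) (σ → MvPowerSeries σ k))) :
    Lop d q x = d q (contr q x) + contr (q + 1) (d (q + 1) x) := rfl

/-- the basis of `(q+1)`-forms -/
noncomputable def bas (q : ℕ) : Module.Basis (Set.powersetCard σ (q + 1)) (MvPowerSeries σ k)
    ↥(⋀[MvPowerSeries σ k]^(q + 1) (σ → MvPowerSeries σ k)) :=
  (Pi.basisFun (MvPowerSeries σ k) σ).exteriorPower (q + 1)

include hδ hd in
lemma Lop_bas (q : ℕ) (s : Set.powersetCard σ (q + 1)) (f : MvPowerSeries σ k) :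
    Lop d q (f • bas q s) =
      (eps (δ f) + ((q + 1 : ℕ) : MvPowerSeries σ k) * f) • bas q s := by
  have hb : bas (k := k) q s = ιMulti (MvPowerSeries σ k) (q + 1)
      (fun j => Pi.single ((Set.powersetCard.ofFinEmbEquiv.symm s) j)
        (1 : MvPowerSeries σ k)) := by
    rw [bas, exteriorPower.basis_apply, ιMulti_family]
    congr 1
    funext j
    simp [Pi.basisFun_apply]
  rw [hb, Lop_apply]
  exact L_basis δ hδ d hd q _ f


/-- `T` as a `k`-linear map -/
noncomputable def Tlin (q : ℕ) : MvPowerSeries σ k →ₗ[k] MvPowerSeries σ k :=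
  ((eps (k := k) (σ := σ)).restrictScalars k) ∘ₗ (δ : MvPowerSeries σ k →ₗ[k] σ → MvPowerSeries σ k) +
    LinearMap.mulLeft k (((q + 1 : ℕ) : MvPowerSeries σ k))

lemma Tlin_apply (q : ℕ) (f : MvPowerSeries σ k) :
    Tlin δ q f = eps (δ f) + ((q + 1 : ℕ) : MvPowerSeries σ k) * f := rfl

include hδ in
lemma Tlin_bijective (q : ℕ) : Function.Bijective (Tlin δ q) := by
  constructor
  · rw [injective_iff_map_eq_zero]
    intro f hf
    exact T_injective δ hδ q f hf
  · intro g
    exact T_surjective δ hδ q g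

/-- the coefficientwise operator on forms -/
noncomputable def Phi (q : ℕ) :
    ↥(⋀[MvPowerSeries σ k]^(q + 1) (σ → MvPowerSeries σ k)) ≃ₗ[k]
      ↥(⋀[MvPowerSeries σ k]^(q + 1) (σ → MvPowerSeries σ k)) :=
  ((bas (k := k) (σ := σ) q).repr.restrictScalars k) ≪≫ₗ
    (Finsupp.mapRange.linearEquiv (LinearEquiv.ofBijective (Tlin δ q) (Tlin_bijective δ hδ q))) ≪≫ₗ
      ((bas (k := k) (σ := σ) q).repr.restrictScalars k).symm

include hd in
lemma Lop_eq_Phi (q : ℕ) (x : ↥(⋀[MvPowerSeries σ k]^(q + 1) (σ → MvPowerSeries σ k))) :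
    Lop d q x = Phi δ hδ q x := by
  obtain ⟨c, rfl⟩ := (bas (k := k) (σ := σ) q).repr.symm.surjective x
  induction c using Finsupp.induction_linear with
  | zero => simp
  | add c₁ c₂ h₁ h₂ => rw [map_add, map_add, map_add, h₁, h₂]
  | single s f =>
    rw [Module.Basis.repr_symm_single, Lop_bas δ hδ d hd]
    simp only [Phi, LinearEquiv.trans_apply, LinearEquiv.restrictScalars_apply,
      LinearEquiv.restrictScalars_symm_apply, map_smul, Module.Basis.repr_self,
      Finsupp.smul_single, smul_eq_mul, mul_one, Finsupp.mapRange.linearEquiv_apply,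
      Finsupp.mapRange_single, LinearEquiv.ofBijective_apply, Module.Basis.repr_symm_single]
    rfl

include hδ hd in
theorem poincare (p : ℕ) : DeRham.cocycles d (p + 1) ≤ DeRham.coboundaries d (p + 1) := by
  intro ω hω
  have hω' : d (p + 1) ω = 0 := hω
  obtain ⟨η, hη⟩ : ∃ η, Lop d p η = ω := by
    refine ⟨(Phi δ hδ p).symm ω, ?_⟩
    rw [Lop_eq_Phi δ hδ d hd, LinearEquiv.apply_symm_apply]
  have hdd : ∀ (n : ℕ) (y : ↥(⋀[MvPowerSeries σ k]^n (σ → MvPowerSeries σ k))),
      d (n + 1) (d n y) = 0 := fun n y => by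
    have := hd.2 n
    exact LinearMap.congr_fun this y
  have hdη : d (p + 1) η = 0 := by
    have h1 : Lop d (p + 1) (d (p + 1) η) = 0 := by
      rw [Lop_apply, hdd, map_zero, add_zero]
      have h2 := congrArg (d (p + 1)) hη
      rw [Lop_apply, map_add, hdd, zero_add, hω'] at h2
      exact h2
    rw [Lop_eq_Phi δ hδ d hd] at h1
    exact (LinearEquiv.map_eq_zero_iff _).mp h1
  rw [Lop_apply, hdη, map_zero, add_zero] at hη
  exact ⟨contr p η, hη⟩

end cartan

end

end Groth.Agent.Lib.Helper19.FormalPoincare
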