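import Mathlib

/-!
# Formally projective modules for an adic topology (EGA 0_IV 19.2) (helper19)
-/

set_option autoImplicit false
universe u

namespace Groth.Agent.Lib.Helper19

theorem formallyProjective_adic_iff_forall_projective_quotient {A : Type u} [CommRing A]
    (𝔞 : Ideal A) (M : Type u) [AddCommGroup M] [Module A M] :
    (∀ (n : ℕ) (P Q : Type u) [AddCommGroup P] [Module A P] [AddCommGroup Q] [Module A Q],
      (∀ a ∈ 𝔞 ^ n, ∀ y : P, a • y = 0) → (∀ a ∈ 𝔞 ^ n, ∀ y : Q, a • y = 0) →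
      ∀ f : P →ₗ[A] Q, Function.Surjective f → ∀ v : M →ₗ[A] Q, ∃ w : M →ₗ[A] P, f ∘ₗ w = v) ↔
    ∀ n : ℕ, Module.Projective (A ⧸ 𝔞 ^ n) (M ⧸ (𝔞 ^ n • ⊤ : Submodule A M)) := by
  have hsurj : ∀ n : ℕ, Function.Surjective (algebraMap A (A ⧸ 𝔞 ^ n)) := fun n =>
    Ideal.Quotient.mk_surjective
  constructor
  · intro HP n
    apply Module.Projective.of_lifting_property
    intro X Y _ _ _ _ f g hf
    letI : Module A X := Module.compHom X (Ideal.Quotient.mk (𝔞 ^ n))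
    letI : Module A Y := Module.compHom Y (Ideal.Quotient.mk (𝔞 ^ n))
    haveI : IsScalarTower A (A ⧸ 𝔞 ^ n) X := ⟨fun a r x => by
      change (Ideal.Quotient.mk (𝔞 ^ n) a * r) • x = Ideal.Quotient.mk (𝔞 ^ n) a • (r • x)
      rw [mul_smul]⟩
    haveI : IsScalarTower A (A ⧸ 𝔞 ^ n) Y := ⟨fun a r x => by
      change (Ideal.Quotient.mk (𝔞 ^ n) a * r) • x = Ideal.Quotient.mk (𝔞 ^ n) a • (r • x)
      rw [mul_smul]⟩
    have hX : ∀ a ∈ 𝔞 ^ n, ∀ y : X, a • y = 0 := fun a ha y => by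
      change Ideal.Quotient.mk (𝔞 ^ n) a • y = 0
      rw [Ideal.Quotient.eq_zero_iff_mem.mpr ha, zero_smul]
    have hY : ∀ a ∈ 𝔞 ^ n, ∀ y : Y, a • y = 0 := fun a ha y => by
      change Ideal.Quotient.mk (𝔞 ^ n) a • y = 0
      rw [Ideal.Quotient.eq_zero_iff_mem.mpr ha, zero_smul]
    obtain ⟨w, hw⟩ := HP n X Y hX hY (f.restrictScalars A) hf
      ((g.restrictScalars A) ∘ₗ (Submodule.mkQ (𝔞 ^ n • ⊤ : Submodule A M)))
    have hle : (𝔞 ^ n • ⊤ : Submodule A M) ≤ LinearMap.ker w := by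
      rw [Submodule.smul_le]
      intro a ha m _
      rw [LinearMap.mem_ker, map_smul]
      exact hX a ha _
    let wbar : (M ⧸ (𝔞 ^ n • ⊤ : Submodule A M)) →ₗ[A] X := Submodule.liftQ _ w hle
    refine ⟨LinearMap.extendScalarsOfSurjective (hsurj n) wbar, ?_⟩
    ext x
    obtain ⟨m, rfl⟩ := Submodule.Quotient.mk_surjective _ x
    have := congrArg (fun φ => φ m) hw
    exact this
  · intro HQ n P Q _ _ _ _ hP hQ f hf v
    have hPt : Module.IsTorsionBySet A P ((𝔞 ^ n : Ideal A) : Set A) := fun x a => hP a.1 a.2 x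
    have hQt : Module.IsTorsionBySet A Q ((𝔞 ^ n : Ideal A) : Set A) := fun x a => hQ a.1 a.2 x
    letI : Module (A ⧸ 𝔞 ^ n) P := hPt.module
    letI : Module (A ⧸ 𝔞 ^ n) Q := hQt.module
    haveI : IsScalarTower A (A ⧸ 𝔞 ^ n) P := hPt.isScalarTower
    haveI : IsScalarTower A (A ⧸ 𝔞 ^ n) Q := hQt.isScalarTower
    have hle : (𝔞 ^ n • ⊤ : Submodule A M) ≤ LinearMap.ker v := by
      rw [Submodule.smul_le]
      intro a ha m _
      rw [LinearMap.mem_ker, map_smul]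
      exact hQ a ha _
    let vbar : (M ⧸ (𝔞 ^ n • ⊤ : Submodule A M)) →ₗ[A] Q := Submodule.liftQ _ v hle
    haveI := HQ n
    obtain ⟨h, hh⟩ := Module.projective_lifting_property
      (LinearMap.extendScalarsOfSurjective (hsurj n) f)
      (LinearMap.extendScalarsOfSurjective (hsurj n) vbar) hf
    refine ⟨(h.restrictScalars A) ∘ₗ (Submodule.mkQ (𝔞 ^ n • ⊤ : Submodule A M)), ?_⟩
    ext m
    have := congrArg (fun φ => φ (Submodule.Quotient.mk m)) hh
    exact this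

end Groth.Agent.Lib.Helper19
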