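import Mathlib
import Groth.Prelude.Def_CohB1

/-!
# Common zeros of few forms in projective space (helper27)

Pure Mathlib.  Over a field, every maximal ideal of `k[X_1..X_n]` has height `n`; by Krull's
height theorem, `r ≤ n` forms of positive degree in `n + 1` variables have a common zero in `P^n`.
-/

set_option autoImplicit false
universe u
open MvPolynomial

namespace Groth.Agent.Lib.Helper27PnKrull

variable {k : Type u} [Field k]

theorem height_eq_of_isMaximal (n : ℕ) :
    ∀ (M : Ideal (MvPolynomial (Fin n) k)), M.IsMaximal → M.height = n := by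
  induction n with
  | zero =>
    intro M hM
    have h1 : ringKrullDim (MvPolynomial (Fin 0) k) = 0 := by
      rw [MvPolynomial.ringKrullDim_of_isNoetherianRing]
      simp
    have h2 := Ideal.height_le_ringKrullDim_of_ne_top hM.ne_top
    rw [h1] at h2
    have h3 : M.height ≤ 0 := by exact_mod_cast h2
    simpa using h3
  | succ n ih =>
    intro M hM
    let e : MvPolynomial (Fin (n + 1)) k ≃+* Polynomial (MvPolynomial (Fin n) k) :=
      (MvPolynomial.finSuccEquiv k n).toRingEquiv
    have hP : (M.map e).IsMaximal := Ideal.map_isMaximal_of_equiv e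
    have hp : ((M.map e).comap (Polynomial.C : MvPolynomial (Fin n) k →+* _)).IsMaximal :=
      Polynomial.isMaximal_comap_C_of_isJacobsonRing (M.map e)
    haveI : (M.map e).LiesOver ((M.map e).comap (Polynomial.C : MvPolynomial (Fin n) k →+* _)) :=
      ⟨rfl⟩
    rw [← RingEquiv.height_map e M,
      Polynomial.height_eq_height_add_one ((M.map e).comap Polynomial.C) (M.map e), ih _ hp]
    push_cast
    rfl


section Common

variable (n : ℕ)

local notation "𝒢" => CohB1.polyGrading n k

theorem irrelevant_eq_ker :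
    (HomogeneousIdeal.irrelevant 𝒢).toIdeal =
      RingHom.ker (MvPolynomial.constantCoeff : MvPolynomial (Fin (n + 1)) k →+* k) := by
  ext x
  rw [HomogeneousIdeal.mem_iff, HomogeneousIdeal.mem_irrelevant_iff, RingHom.mem_ker]
  have h1 : GradedRing.proj 𝒢 0 x = MvPolynomial.homogeneousComponent 0 x := by
    rw [GradedRing.proj_apply]
    exact MvPolynomial.decompose'_apply ..
  rw [h1, MvPolynomial.homogeneousComponent_zero]
  constructor
  · intro h
    have := congrArg MvPolynomial.constantCoeff h
    simpa [MvPolynomial.constantCoeff_eq] using this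
  · intro h
    rw [MvPolynomial.constantCoeff_eq] at h
    rw [h, map_zero]

theorem irrelevant_isMaximal : (HomogeneousIdeal.irrelevant 𝒢).toIdeal.IsMaximal := by
  rw [irrelevant_eq_ker]
  exact RingHom.ker_isMaximal_of_surjective _ (fun c => ⟨C c, by simp⟩)

/-- `r ≤ n` forms of positive degrees in `n + 1` variables have a common zero in `P^n_k`. -/
theorem exists_common_zero {r : ℕ} (hr : r ≤ n) (F : Fin r → MvPolynomial (Fin (n + 1)) k)
    (e : Fin r → ℕ) (he : ∀ j, 0 < e j) (hFe : ∀ j, F j ∈ 𝒢 (e j)) :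
    ∃ y : ProjectiveSpectrum 𝒢, ∀ j, F j ∈ y.asHomogeneousIdeal := by
  classical
  have hF : ∀ j, F j ∈ (HomogeneousIdeal.irrelevant 𝒢).toIdeal := fun j =>
    HomogeneousIdeal.mem_irrelevant_of_mem 𝒢 (he j) (hFe j)
  set m : Ideal (MvPolynomial (Fin (n + 1)) k) := (HomogeneousIdeal.irrelevant 𝒢).toIdeal with hm
  have hmax : m.IsMaximal := irrelevant_isMaximal n
  set s : Finset (MvPolynomial (Fin (n + 1)) k) := Finset.univ.image F with hs
  have hIm : Ideal.span (s : Set (MvPolynomial (Fin (n + 1)) k)) ≤ m := by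
    rw [Ideal.span_le]
    intro x hx
    rw [hs, Finset.coe_image] at hx
    obtain ⟨j, -, rfl⟩ := hx
    exact hF j
  have hne : Ideal.span (s : Set (MvPolynomial (Fin (n + 1)) k)) ≠ ⊤ :=
    fun h => hmax.ne_top (top_le_iff.mp (h ▸ hIm))
  obtain ⟨P, hP⟩ := Ideal.nonempty_minimalPrimes hne
  have hPprime : P.IsPrime := hP.1.1
  have hIP : Ideal.span (s : Set (MvPolynomial (Fin (n + 1)) k)) ≤ P := hP.1.2
  have hht : P.height ≤ r := by
    refine (Ideal.height_le_card_of_mem_minimalPrimes_span_finset hP).trans ?_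
    have : s.card ≤ r := by
      refine Finset.card_image_le.trans ?_
      simp
    exact_mod_cast this
  -- `P` is homogeneous
  have hIhom : (Ideal.span (s : Set (MvPolynomial (Fin (n + 1)) k))).IsHomogeneous 𝒢 := by
    apply Ideal.homogeneous_span
    intro x hx
    rw [hs, Finset.coe_image] at hx
    obtain ⟨j, -, rfl⟩ := hx
    exact ⟨e j, hFe j⟩
  have hcore : P ≤ (P.homogeneousCore 𝒢).toIdeal := by
    refine hP.2 ⟨hPprime.homogeneousCore (𝒜 := 𝒢), ?_⟩ (Ideal.toIdeal_homogeneousCore_le 𝒢 P)
    rw [← hIhom.toIdeal_homogeneousCore_eq_self]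
    exact Ideal.homogeneousCore_mono 𝒢 hIP
  have hPhom : P.IsHomogeneous 𝒢 := by
    have : (P.homogeneousCore 𝒢).toIdeal = P :=
      le_antisymm (Ideal.toIdeal_homogeneousCore_le 𝒢 P) hcore
    rw [← this]
    exact (P.homogeneousCore 𝒢).isHomogeneous
  have hirr : ¬ m ≤ P := by
    intro hle
    have hPm : m = P := hmax.eq_of_le hPprime.ne_top hle
    have h1 : m.height = (n + 1 : ℕ) := height_eq_of_isMaximal (n + 1) m hmax
    rw [hPm] at h1
    rw [h1] at hht
    have : n + 1 ≤ r := by exact_mod_cast hht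
    omega
  refine ⟨⟨⟨P, hPhom⟩, hPprime, hirr⟩, fun j => ?_⟩
  apply hIP
  apply Ideal.subset_span
  rw [hs, Finset.coe_image]
  exact ⟨j, Finset.mem_coe.mpr (Finset.mem_univ j), rfl⟩

end Common

end Groth.Agent.Lib.Helper27PnKrull
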