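import Groth.Agent.Lib.Helper19GRIndep

/-!
# Linear independence of the differentials of a `p`-independent family (helper19)
-/

set_option autoImplicit false
set_option linter.style.haveILetI false
set_option linter.unusedSectionVars false
universe u

namespace Groth.Agent.Lib.Helper19.GR

open IsLocalRing TensorProduct

section key

variable {F k A : Type u} [Field F] [Field k] [CommRing A] [IsLocalRing A] [IsNoetherianRing A]
  [Algebra F k] [Algebra k A] [Algebra F A] [IsScalarTower F k A] (p : ℕ) [Fact p.Prime]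
  [CharP k p]

set_option maxHeartbeats 1600000 in
/-- the key step: a relation between the differentials `d x_i` has zero coefficient at `i₀` -/
theorem coeff_eq_zero_of_sum_eq_zero
    (hF : ∀ (B : Type u) [CommRing B] [IsLocalRing B] [IsNoetherianRing B] [Algebra F B],
      IsRegularLocalRing B → CAlgX.IsAdicFormallySmooth F B (maximalIdeal B))
    (R : Type u) [CommRing R] [Algebra k R] [Module.Finite k R] [Nontrivial R]
    (hreg : IsRegularRing (A ⊗[k] R))
    {σ : Type*} [DecidableEq σ] (s : Finset σ) (xs : σ → k) (y : σ → R)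
    (hy : ∀ i, y i ^ p = algebraMap k R (xs i)) (i₀ : σ) (hi₀ : i₀ ∈ s)
    (hf : ∀ (L : Type u) [Field L] [Algebra k L] (π : R →ₐ[k] L),
      ∃ f : R →ₐ[k] TestRingQ L p,
        (∀ r, testConstQ L p (Fact.out : p.Prime).one_le (f r) = π r) ∧
        ∀ i, f (y i) = testQmk L p (algebraMap L _ (π (y i)) +
          algebraMap L _ (if i = i₀ then (1 : L) else 0) * testE L p))
    (g : σ → ResidueField A)
    (hg : ∑ i ∈ s, g i • ((1 : ResidueField A) ⊗ₜ[A]
      KaehlerDifferential.D F A (algebraMap k A (xs i))) = 0) : g i₀ = 0 := by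
  have hp1 : 1 ≤ p := (Fact.out : p.Prime).one_le
  haveI : IsNoetherianRing (A ⊗[k] R) := IsNoetherianRing.of_finite A _
  obtain ⟨𝔫, h𝔫⟩ := Ideal.exists_maximal (A ⊗[k] R)
  haveI := h𝔫
  haveI : 𝔫.IsPrime := h𝔫.isPrime
  haveI : IsRegularLocalRing (Localization.AtPrime 𝔫) :=
    hreg.isRegularLocalRing_localization 𝔫
  have hBfs := hF (Localization.AtPrime 𝔫) inferInstance
  -- lying over
  have hcomap : 𝔫.comap (algebraMap A (A ⊗[k] R)) = maximalIdeal A := by
    haveI : Algebra.IsIntegral A (A ⊗[k] R) := Algebra.IsIntegral.of_finite A _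
    haveI := Ideal.isMaximal_comap_of_isIntegral_of_isMaximal (R := A) 𝔫
    exact IsLocalRing.eq_maximalIdeal this
  haveI hloc : IsLocalHom (algebraMap A (Localization.AtPrime 𝔫)) := by
    refine ⟨fun a ha => ?_⟩
    by_contra hna
    have h1 : a ∈ maximalIdeal A := (IsLocalRing.mem_maximalIdeal a).2 hna
    rw [← hcomap, Ideal.mem_comap] at h1
    have h2 : algebraMap (A ⊗[k] R) (Localization.AtPrime 𝔫) (algebraMap A (A ⊗[k] R) a) ∈
        maximalIdeal (Localization.AtPrime 𝔫) :=
      (IsLocalization.AtPrime.to_map_mem_maximal_iff _ 𝔫 _).2 h1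
    rw [← IsScalarTower.algebraMap_apply] at h2
    exact h2 ha
  haveI : CharP (ResidueField (Localization.AtPrime 𝔫)) p :=
    charP_of_injective_algebraMap
      (algebraMap k (ResidueField (Localization.AtPrime 𝔫))).injective p
  -- the residue map on `R`
  let ιR : R →ₐ[k] A ⊗[k] R := Algebra.TensorProduct.includeRight
  let π : R →ₐ[k] ResidueField (Localization.AtPrime 𝔫) :=
    { toRingHom := ((residue (Localization.AtPrime 𝔫)).comp
        (algebraMap (A ⊗[k] R) (Localization.AtPrime 𝔫))).comp ιR.toRingHom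
      commutes' := fun c => by
        change residue _ (algebraMap (A ⊗[k] R) (Localization.AtPrime 𝔫) (ιR (algebraMap k R c))) = _
        rw [ιR.commutes, ← IsScalarTower.algebraMap_apply]
        rfl }
  have hπ : ∀ r, π r = residue _ (algebraMap (A ⊗[k] R) (Localization.AtPrime 𝔫) (1 ⊗ₜ r)) :=
    fun r => rfl
  obtain ⟨f, hfres, hfy⟩ := hf (ResidueField (Localization.AtPrime 𝔫)) π
  let g' : A →ₐ[k] TestRingQ (ResidueField (Localization.AtPrime 𝔫)) p :=
    (IsScalarTower.toAlgHom k (ResidueField (Localization.AtPrime 𝔫)) _).comp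
      (IsScalarTower.toAlgHom k A (ResidueField (Localization.AtPrime 𝔫)))
  have hg' : ∀ a, g' a = testQmk _ p (algebraMap (ResidueField (Localization.AtPrime 𝔫))
      (TestRing (ResidueField (Localization.AtPrime 𝔫)) p)
      (algebraMap A (ResidueField (Localization.AtPrime 𝔫)) a)) := fun a => rfl
  let ψ₀ : A ⊗[k] R →ₐ[k] TestRingQ (ResidueField (Localization.AtPrime 𝔫)) p :=
    Algebra.TensorProduct.lift g' f (fun _ _ => Commute.all _ _)
  have hψ₀ : ∀ a r, ψ₀ (a ⊗ₜ r) = g' a * f r := fun a r => by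
    simp only [ψ₀, Algebra.TensorProduct.lift_tmul]
  have hres₀ : ∀ t : A ⊗[k] R, testConstQ _ p hp1 (ψ₀ t) =
      residue _ (algebraMap (A ⊗[k] R) (Localization.AtPrime 𝔫) t) := by
    intro t
    induction t using TensorProduct.induction_on with
    | zero => simp only [map_zero]
    | add t₁ t₂ h₁ h₂ => simp only [map_add, h₁, h₂]
    | tmul a r =>
      rw [hψ₀, map_mul, hfres, hg', testConstQ_mk, testConst_algebraMap, hπ]
      have : (a ⊗ₜ[k] r : A ⊗[k] R) = (algebraMap A (A ⊗[k] R) a) * (1 ⊗ₜ r) := by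
        rw [Algebra.TensorProduct.algebraMap_apply, Algebra.TensorProduct.tmul_mul_tmul,
          mul_one, one_mul]
        rfl
      rw [this, map_mul, map_mul, ← IsScalarTower.algebraMap_apply]
      rfl
  have hunits : ∀ t : 𝔫.primeCompl, IsUnit ((ψ₀ : A ⊗[k] R →+*
      TestRingQ (ResidueField (Localization.AtPrime 𝔫)) p) t) := by
    intro t
    apply isUnit_of_testConstQ_ne_zero _ p hp1
    change testConstQ _ p hp1 (ψ₀ t) ≠ 0
    rw [hres₀, Ne, residue_eq_zero_iff, IsLocalization.AtPrime.to_map_mem_maximal_iff _ 𝔫]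
    exact t.2
  let ψ : Localization.AtPrime 𝔫 →+* TestRingQ (ResidueField (Localization.AtPrime 𝔫)) p :=
    IsLocalization.lift (M := 𝔫.primeCompl) hunits
  have hψ : ∀ t, ψ (algebraMap (A ⊗[k] R) (Localization.AtPrime 𝔫) t) = ψ₀ t := fun t =>
    IsLocalization.lift_eq hunits t
  have hψres : ∀ b, testConstQ _ p hp1 (ψ b) = residue _ b := by
    have : (testConstQ _ p hp1).comp ψ = residue (Localization.AtPrime 𝔫) := by
      apply IsLocalization.ringHom_ext 𝔫.primeCompl
      refine RingHom.ext fun t => ?_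
      simp only [RingHom.comp_apply]
      rw [hψ, hres₀]
    exact fun b => RingHom.congr_fun this b
  have hAB : ∀ a : A, algebraMap A (Localization.AtPrime 𝔫) a =
      algebraMap (A ⊗[k] R) (Localization.AtPrime 𝔫) (a ⊗ₜ 1) := fun a => by
    rw [IsScalarTower.algebraMap_apply A (A ⊗[k] R) (Localization.AtPrime 𝔫),
      Algebra.TensorProduct.algebraMap_apply]
    rfl
  have hψA : ∀ a : A, ψ (algebraMap A (Localization.AtPrime 𝔫) a) = testQmk _ p
      (algebraMap (ResidueField (Localization.AtPrime 𝔫)) (TestRing _ p)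
        (algebraMap A (ResidueField (Localization.AtPrime 𝔫)) a)) := by
    intro a
    rw [hAB, hψ, hψ₀, map_one, mul_one, hg']
  let γ : σ → ResidueField (Localization.AtPrime 𝔫) := fun i => if i = i₀ then 1 else 0
  let yB : σ → Localization.AtPrime 𝔫 := fun i =>
    algebraMap (A ⊗[k] R) (Localization.AtPrime 𝔫) (1 ⊗ₜ y i)
  have hyB : ∀ i, yB i ^ p = algebraMap A (Localization.AtPrime 𝔫) (algebraMap k A (xs i)) := by
    intro i
    change (algebraMap (A ⊗[k] R) (Localization.AtPrime 𝔫) (1 ⊗ₜ y i)) ^ p = _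
    rw [← map_pow, Algebra.TensorProduct.tmul_pow, one_pow, hy, hAB]
    congr 1
    rw [Algebra.algebraMap_eq_smul_one, Algebra.algebraMap_eq_smul_one, TensorProduct.tmul_smul,
      TensorProduct.smul_tmul']
  have hψy : ∀ i, ψ (yB i) = testQmk _ p
      (algebraMap (ResidueField (Localization.AtPrime 𝔫)) (TestRing _ p) (residue _ (yB i)) +
        algebraMap (ResidueField (Localization.AtPrime 𝔫)) (TestRing _ p) (γ i) *
          testE _ p) := by
    intro i
    change ψ (algebraMap (A ⊗[k] R) (Localization.AtPrime 𝔫) (1 ⊗ₜ y i)) = _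
    rw [hψ, hψ₀, map_one, one_mul, hfy, hπ]
  obtain ⟨D', hD'⟩ := exists_derivation_of_formallySmooth (F := F) (A := A) p hBfs
    (fun i => algebraMap k A (xs i)) yB hyB γ ψ hψres hψA hψy
  -- apply the derivation to the relation
  let ℓ : ResidueField A ⊗[A] Ω[A⁄F] →ₗ[ResidueField A]
      ResidueField (Localization.AtPrime 𝔫) :=
    LinearMap.liftBaseChange (ResidueField A) D'.liftKaehlerDifferential
  have hℓ : ∀ a : A, ℓ ((1 : ResidueField A) ⊗ₜ[A] KaehlerDifferential.D F A a) = D' a := by
    intro a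
    simp only [ℓ, LinearMap.liftBaseChange_tmul, one_smul, Derivation.liftKaehlerDifferential_comp_D]
  have h1 := congrArg ℓ hg
  rw [map_sum, map_zero] at h1
  simp only [map_smul, hℓ] at h1
  have h2 : ∀ i ∈ s, g i • D' (algebraMap k A (xs i)) =
      if i = i₀ then algebraMap (ResidueField A) (ResidueField (Localization.AtPrime 𝔫)) (g i)
        else 0 := by
    intro i _
    rw [hD' i]
    by_cases hi : i = i₀
    · simp only [γ, if_pos hi, one_pow, Algebra.smul_def, mul_one]
    · simp only [γ, if_neg hi, zero_pow (Fact.out : p.Prime).ne_zero, smul_zero]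
  rw [Finset.sum_congr rfl h2, Finset.sum_ite_eq' s i₀, if_pos hi₀] at h1
  exact (map_eq_zero _).1 h1

end key

end Groth.Agent.Lib.Helper19.GR
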