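import Groth.Agent.Lib.Helper19GRTest
import Groth.Agent.Lib.Helper19GRField
import Groth.Prelude.Def_CAlgX

/-!
# Derivations with prescribed values on `p`-th roots, from formal smoothness (helper19)
-/

set_option autoImplicit false
set_option linter.style.haveILetI false
set_option linter.unusedSectionVars false
universe u

namespace Groth.Agent.Lib.Helper19.GR

open IsLocalRing

section abstract

variable {F A B : Type u} [CommRing F] [CommRing A] [CommRing B] [IsLocalRing B]
  [Algebra F A] [Algebra A B] [Algebra F B] [IsScalarTower F A B] (p : ℕ) [Fact p.Prime]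
  [CharP (ResidueField B) p]

/-- if `B` is formally smooth over `F` and a suitable map to the test ring exists, there is a
derivation `A → κ(B)` taking the values `γ i ^ p` on elements `a i` which become `p`-th powers
in `B` -/
theorem exists_derivation_of_formallySmooth
    (hB : CAlgX.IsAdicFormallySmooth F B (maximalIdeal B))
    {σ : Type*} (a : σ → A) (y : σ → B) (hy : ∀ i, y i ^ p = algebraMap A B (a i))
    (γ : σ → ResidueField B)
    (ψ : B →+* TestRingQ (ResidueField B) p)
    (hψres : ∀ b : B, testConstQ (ResidueField B) p (Fact.out : p.Prime).one_le (ψ b) =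
      residue B b)
    (hψA : ∀ a : A, ψ (algebraMap A B a) = testQmk _ p
      (algebraMap (ResidueField B) (TestRing (ResidueField B) p)
        (algebraMap A (ResidueField B) a)))
    (hψy : ∀ i, ψ (y i) = testQmk _ p
      (algebraMap (ResidueField B) (TestRing (ResidueField B) p) (residue B (y i)) +
        algebraMap (ResidueField B) (TestRing (ResidueField B) p) (γ i) *
          testE (ResidueField B) p)) :
    ∃ D : Derivation F A (ResidueField B), ∀ i, D (a i) = γ i ^ p := by
  have hp1 : 1 ≤ p := (Fact.out : p.Prime).one_le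
  -- `ψ` as an `F`-algebra map
  let ψF : B →ₐ[F] TestRing (ResidueField B) p ⧸ testN (ResidueField B) p :=
    { (ψ : B →+* TestRing (ResidueField B) p ⧸ testN (ResidueField B) p) with
      commutes' := fun f => by
        change ψ (algebraMap F B f) = _
        rw [IsScalarTower.algebraMap_apply F A B, hψA,
          ← IsScalarTower.algebraMap_apply F A (ResidueField B)]
        rfl }
  have hψF : ∀ b, ψF b = ψ b := fun b => rfl
  -- continuity
  have hcont : ∃ m : ℕ, ∀ b ∈ maximalIdeal B ^ m, ψF b = 0 := by
    refine ⟨p, fun b hb => ?_⟩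
    rw [hψF]
    have h1 : (maximalIdeal B).map ψ ≤
        RingHom.ker (testConstQ (ResidueField B) p hp1) := by
      rw [Ideal.map_le_iff_le_comap]
      intro m hm
      rw [Ideal.mem_comap, RingHom.mem_ker, hψres]
      exact (residue_eq_zero_iff m).2 hm
    have h2 : RingHom.ker (testConstQ (ResidueField B) p hp1) ^ p = ⊥ :=
      ker_testConstQ_pow (ResidueField B) p hp1
    have h3 : ψ b ∈ ((maximalIdeal B).map ψ) ^ p := by
      have h3' : ψ b ∈ ((maximalIdeal B) ^ p).map ψ := Ideal.mem_map_of_mem _ hb
      rwa [Ideal.map_pow] at h3'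
    have h4 := Ideal.pow_right_mono h1 p h3
    rw [h2, Ideal.mem_bot] at h4
    exact h4
  obtain ⟨χ, hχ⟩ := hB _ _ (testN_sq (ResidueField B) p hp1) ψF hcont
  have hχmk : ∀ b, testQmk (ResidueField B) p (χ b) = ψ b := fun b => by
    have := congrArg (fun g => g b) hχ
    exact this
  have hχA : ∀ a : A, χ (algebraMap A B a) - algebraMap (ResidueField B) _
      (algebraMap A (ResidueField B) a) ∈ testN (ResidueField B) p := by
    intro a
    rw [← testQmk_eq_iff, hχmk, hψA]
  obtain ⟨D, hD⟩ := exists_derivation_of_lift p χ hχA
  refine ⟨D, fun i => ?_⟩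
  rw [hD, ← hy]
  apply testCoeff_of_pow p (χ : B →+* TestRing (ResidueField B) p) (y i) (residue B (y i)) (γ i)
  change χ (y i) - _ ∈ _
  rw [← testQmk_eq_iff, hχmk, hψy]

end abstract

end Groth.Agent.Lib.Helper19.GR
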