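import Mathlib

/-!
# The test ring `L[E]/(E^(p+1))` (helper19)
-/

set_option autoImplicit false
set_option linter.style.haveILetI false
set_option linter.unusedSectionVars false
universe u

namespace Groth.Agent.Lib.Helper19.GR

open Polynomial

section testring

variable (L : Type u) [Field L] (p : ℕ)

/-- the ring `L[E]/(E^(p+1))` -/
def TestRing : Type u := L[X] ⧸ Ideal.span {(X : L[X]) ^ (p + 1)}

noncomputable instance : CommRing (TestRing L p) :=
  Ideal.Quotient.commRing (Ideal.span {(X : L[X]) ^ (p + 1)})

noncomputable instance {F : Type*} [CommSemiring F] [Algebra F L] : Algebra F (TestRing L p) :=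
  inferInstanceAs (Algebra F (L[X] ⧸ Ideal.span {(X : L[X]) ^ (p + 1)}))

instance {F : Type*} [CommSemiring F] [Algebra F L] : IsScalarTower F L (TestRing L p) :=
  inferInstanceAs (IsScalarTower F L (L[X] ⧸ Ideal.span {(X : L[X]) ^ (p + 1)}))

/-- the quotient map -/
noncomputable def testMk : L[X] →+* TestRing L p :=
  Ideal.Quotient.mk (Ideal.span {(X : L[X]) ^ (p + 1)})

theorem testMk_surjective : Function.Surjective (testMk L p) := Ideal.Quotient.mk_surjective

theorem testMk_eq_zero_iff (f : L[X]) :
    testMk L p f = 0 ↔ f ∈ Ideal.span {(X : L[X]) ^ (p + 1)} :=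
  Ideal.Quotient.eq_zero_iff_mem

/-- the class of the variable -/
noncomputable def testE : TestRing L p := testMk L p X

theorem testE_pow_succ : testE L p ^ (p + 1) = 0 := by
  rw [testE, ← map_pow, testMk_eq_zero_iff]
  exact Ideal.mem_span_singleton_self _

theorem isNilpotent_testE : IsNilpotent (testE L p) := ⟨p + 1, testE_pow_succ L p⟩

/-- the ideal `(E^p)` -/
noncomputable def testN : Ideal (TestRing L p) := Ideal.span {testE L p ^ p}

theorem testE_pow_mem_testN : testE L p ^ p ∈ testN L p := Ideal.mem_span_singleton_self _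

theorem testN_sq (hp : 1 ≤ p) : testN L p ^ 2 = ⊥ := by
  rw [testN, Ideal.span_singleton_pow, Ideal.span_singleton_eq_bot, ← pow_mul]
  have : p * 2 = (p + 1) + (p - 1) := by omega
  rw [this, pow_add, testE_pow_succ, zero_mul]

theorem algebraMap_testRing (t : L) :
    algebraMap L (TestRing L p) t = testMk L p (C t) := rfl

/-- constant coefficient -/
noncomputable def testConst : TestRing L p →+* L :=
  Ideal.Quotient.lift (Ideal.span {(X : L[X]) ^ (p + 1)}) (constantCoeff : L[X] →+* L) (by
    intro f hf
    rw [Ideal.mem_span_singleton] at hf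
    obtain ⟨g, rfl⟩ := hf
    rw [map_mul, map_pow, constantCoeff_apply, coeff_X_zero, zero_pow (Nat.succ_ne_zero p),
      zero_mul])

theorem testConst_mk (f : L[X]) : testConst L p (testMk L p f) = f.coeff 0 := rfl

theorem testConst_algebraMap (t : L) : testConst L p (algebraMap L _ t) = t := by
  rw [algebraMap_testRing, testConst_mk, coeff_C_zero]

theorem testConst_testE : testConst L p (testE L p) = 0 := by
  rw [testE, testConst_mk, coeff_X_zero]

/-- decomposition into constant term and a multiple of `E` -/
theorem exists_eq_algebraMap_add (c : TestRing L p) :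
    ∃ c' : TestRing L p, c = algebraMap L _ (testConst L p c) + testE L p * c' := by
  obtain ⟨f, rfl⟩ := testMk_surjective L p c
  refine ⟨testMk L p (divX f), ?_⟩
  rw [testConst_mk, algebraMap_testRing, testE, ← map_mul, ← map_add]
  congr 1
  rw [add_comm, X_mul_divX_add]

theorem isUnit_of_testConst_ne_zero {c : TestRing L p} (hc : testConst L p c ≠ 0) : IsUnit c := by
  obtain ⟨c', hc'⟩ := exists_eq_algebraMap_add L p c
  rw [hc']
  apply IsNilpotent.isUnit_add_left_of_commute
  · exact Commute.isNilpotent_mul_right (Commute.all _ _) (isNilpotent_testE L p)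
  · exact (isUnit_iff_ne_zero.2 hc).map _
  · exact Commute.all _ _

/-- the coefficient of `E^p` -/
noncomputable def testCoeff : TestRing L p →ₗ[L] L :=
  ((Ideal.span {(X : L[X]) ^ (p + 1)}).restrictScalars L).liftQ (lcoeff L p) (by
    intro f hf
    rw [Submodule.restrictScalars_mem, Ideal.mem_span_singleton] at hf
    obtain ⟨g, rfl⟩ := hf
    rw [LinearMap.mem_ker, lcoeff_apply, coeff_X_pow_mul', if_neg (by omega)]) ∘ₗ
  (Submodule.Quotient.restrictScalarsEquiv L (Ideal.span {(X : L[X]) ^ (p + 1)})).symm.toLinearMap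

theorem testCoeff_mk (f : L[X]) : testCoeff L p (testMk L p f) = f.coeff p := rfl

theorem testCoeff_algebraMap (hp : 1 ≤ p) (t : L) : testCoeff L p (algebraMap L _ t) = 0 := by
  rw [algebraMap_testRing, testCoeff_mk, coeff_C, if_neg (by omega)]

theorem testCoeff_algebraMap_mul_pow (t : L) :
    testCoeff L p (algebraMap L _ t * testE L p ^ p) = t := by
  rw [algebraMap_testRing, testE, ← map_pow, ← map_mul, testCoeff_mk, coeff_C_mul_X_pow,
    if_pos rfl]

theorem eq_of_mem_testN {n : TestRing L p} (hn : n ∈ testN L p) :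
    n = algebraMap L _ (testCoeff L p n) * testE L p ^ p := by
  rw [testN, Ideal.mem_span_singleton'] at hn
  obtain ⟨c, rfl⟩ := hn
  obtain ⟨c', hc'⟩ := exists_eq_algebraMap_add L p c
  have h1 : c * testE L p ^ p = algebraMap L _ (testConst L p c) * testE L p ^ p := by
    conv_lhs => rw [hc']
    rw [add_mul]
    have : testE L p * c' * testE L p ^ p = c' * testE L p ^ (p + 1) := by ring
    rw [this, testE_pow_succ, mul_zero, add_zero]
  rw [h1, testCoeff_algebraMap_mul_pow]

theorem mul_testE_of_mem_testN {n : TestRing L p} (hn : n ∈ testN L p) : n * testE L p = 0 := by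
  rw [eq_of_mem_testN L p hn, mul_assoc, ← pow_succ, testE_pow_succ, mul_zero]

theorem mul_eq_zero_of_mem_testN (hp : 1 ≤ p) {n n' : TestRing L p} (hn : n ∈ testN L p)
    (hn' : n' ∈ testN L p) : n * n' = 0 := by
  have : n * n' ∈ testN L p ^ 2 := by rw [pow_two]; exact Ideal.mul_mem_mul hn hn'
  rwa [testN_sq L p hp, Ideal.mem_bot] at this

theorem algebraMap_testRing_injective : Function.Injective (algebraMap L (TestRing L p)) := by
  intro a b h
  have := congrArg (testConst L p) h
  rwa [testConst_algebraMap, testConst_algebraMap] at this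

/-- the quotient `C ⧸ N` -/
def TestRingQ : Type u := TestRing L p ⧸ testN L p

noncomputable instance : CommRing (TestRingQ L p) := Ideal.Quotient.commRing (testN L p)

noncomputable instance {F : Type*} [CommSemiring F] [Algebra F L] : Algebra F (TestRingQ L p) :=
  inferInstanceAs (Algebra F (TestRing L p ⧸ testN L p))

instance {F : Type*} [CommSemiring F] [Algebra F L] : IsScalarTower F L (TestRingQ L p) :=
  inferInstanceAs (IsScalarTower F L (TestRing L p ⧸ testN L p))

/-- the quotient map `C → C ⧸ N` -/
noncomputable def testQmk : TestRing L p →+* TestRingQ L p := Ideal.Quotient.mk (testN L p)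

theorem algebraMap_testRingQ {F : Type*} [CommSemiring F] [Algebra F L] (t : F) :
    algebraMap F (TestRingQ L p) t = testQmk L p (algebraMap F (TestRing L p) t) := rfl

theorem testQmk_surjective : Function.Surjective (testQmk L p) := Ideal.Quotient.mk_surjective

theorem testQmk_eq_zero_iff (c : TestRing L p) : testQmk L p c = 0 ↔ c ∈ testN L p :=
  Ideal.Quotient.eq_zero_iff_mem

theorem testQmk_eq_iff (c c' : TestRing L p) :
    testQmk L p c = testQmk L p c' ↔ c - c' ∈ testN L p :=
  Ideal.Quotient.eq

/-- the residue map of the quotient `C ⧸ N` -/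
noncomputable def testConstQ (hp : 1 ≤ p) : TestRingQ L p →+* L :=
  Ideal.Quotient.lift (testN L p) (testConst L p) (by
    intro c hc
    rw [eq_of_mem_testN L p hc, map_mul, map_pow, testConst_testE, zero_pow (by omega), mul_zero])

theorem testConstQ_mk (hp : 1 ≤ p) (c : TestRing L p) :
    testConstQ L p hp (testQmk L p c) = testConst L p c := rfl

theorem isUnit_of_testConstQ_ne_zero (hp : 1 ≤ p) {w : TestRingQ L p}
    (hw : testConstQ L p hp w ≠ 0) : IsUnit w := by
  obtain ⟨c, rfl⟩ := testQmk_surjective L p w
  exact (isUnit_of_testConst_ne_zero L p hw).map _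

theorem exists_eq_mul_of_testConstQ_eq_zero (hp : 1 ≤ p) {w : TestRingQ L p}
    (hw : testConstQ L p hp w = 0) : ∃ w', w = testQmk L p (testE L p) * w' := by
  obtain ⟨c, rfl⟩ := testQmk_surjective L p w
  rw [testConstQ_mk] at hw
  obtain ⟨c', hc'⟩ := exists_eq_algebraMap_add L p c
  rw [hw, map_zero, zero_add] at hc'
  exact ⟨testQmk L p c', by rw [hc', map_mul]⟩

theorem pow_eq_zero_of_testConstQ_eq_zero (hp : 1 ≤ p) {w : TestRingQ L p}
    (hw : testConstQ L p hp w = 0) : w ^ p = 0 := by
  obtain ⟨w', rfl⟩ := exists_eq_mul_of_testConstQ_eq_zero L p hp hw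
  rw [mul_pow, ← map_pow, (testQmk_eq_zero_iff L p _).2 (testE_pow_mem_testN L p), zero_mul]

theorem ker_testConstQ_pow (hp : 1 ≤ p) : RingHom.ker (testConstQ L p hp) ^ p = ⊥ := by
  have h1 : RingHom.ker (testConstQ L p hp) ≤ Ideal.span {testQmk L p (testE L p)} := by
    intro w hw
    rw [RingHom.mem_ker] at hw
    obtain ⟨w', rfl⟩ := exists_eq_mul_of_testConstQ_eq_zero L p hp hw
    exact Ideal.mul_mem_right _ _ (Ideal.mem_span_singleton_self _)
  rw [eq_bot_iff]
  refine (Ideal.pow_right_mono h1 p).trans ?_
  rw [Ideal.span_singleton_pow, ← map_pow,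
    (testQmk_eq_zero_iff L p _).2 (testE_pow_mem_testN L p), Ideal.span_singleton_eq_bot.2 rfl]

end testring

section derivation

variable {F A B L : Type u} [CommRing F] [CommRing A] [CommRing B] [Field L] (p : ℕ)
  [Fact p.Prime] [CharP L p]

theorem charP_testRing : CharP (TestRing L p) p :=
  charP_of_injective_algebraMap (algebraMap_testRing_injective L p) p

/-- the coefficient of `E^p` in the `p`-th power of a lift of `ȳ + γ E` -/
theorem testCoeff_of_pow (χ : B →+* TestRing L p) (y : B) (ybar γ : L)
    (hy : χ y - (algebraMap L _ ybar + algebraMap L _ γ * testE L p) ∈ testN L p) :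
    testCoeff L p (χ (y ^ p)) = γ ^ p := by
  haveI := charP_testRing (L := L) p
  have hp2 : 2 ≤ p := (Fact.out : p.Prime).two_le
  have hp1 : 1 ≤ p := by omega
  set n := χ y - (algebraMap L _ ybar + algebraMap L _ γ * testE L p) with hn
  have hχy : χ y = (algebraMap L _ ybar + algebraMap L _ γ * testE L p) + n := by
    rw [hn]; ring
  have hnp : n ^ p = 0 := by
    have h2 : n ^ 2 = 0 := by rw [pow_two]; exact mul_eq_zero_of_mem_testN L p hp1 hy hy
    have h3 : n ^ p = n ^ 2 * n ^ (p - 2) := by
      rw [← pow_add]; congr 1; omega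
    rw [h3, h2, zero_mul]
  rw [map_pow, hχy, add_pow_char, add_pow_char, hnp, add_zero, mul_pow, ← map_pow, ← map_pow,
    map_add, testCoeff_algebraMap L p hp1, zero_add, testCoeff_algebraMap_mul_pow]

variable [Algebra F A] [Algebra A B] [Algebra F B] [IsScalarTower F A B]
  [Algebra A L] [Algebra F L] [IsScalarTower F A L]

/-- a lift `χ` of the residue map modulo `(E^p)` gives a derivation -/
theorem exists_derivation_of_lift (χ : B →ₐ[F] TestRing L p)
    (hχ : ∀ a : A, χ (algebraMap A B a) - algebraMap L _ (algebraMap A L a) ∈ testN L p) :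
    ∃ D : Derivation F A L, ∀ a, D a = testCoeff L p (χ (algebraMap A B a)) := by
  have hp1 : 1 ≤ p := (Fact.out : p.Prime).one_le
  let D₀ : A →ₗ[F] L :=
    ((testCoeff L p).restrictScalars F) ∘ₗ χ.toLinearMap ∘ₗ
      (IsScalarTower.toAlgHom F A B).toLinearMap
  have hD₀ : ∀ a, D₀ a = testCoeff L p (χ (algebraMap A B a)) := fun a => rfl
  have key : ∀ a, testCoeff L p (χ (algebraMap A B a) -
      algebraMap L _ (algebraMap A L a)) = D₀ a := by
    intro a
    rw [map_sub, testCoeff_algebraMap L p hp1, sub_zero, hD₀]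
  refine ⟨Derivation.mk' D₀ ?_, fun a => rfl⟩
  intro a b
  rw [hD₀ (a * b), map_mul, map_mul]
  set α := algebraMap L (TestRing L p) (algebraMap A L a) with hα
  set β := algebraMap L (TestRing L p) (algebraMap A L b) with hβ
  set na := χ (algebraMap A B a) - α with hna
  set nb := χ (algebraMap A B b) - β with hnb
  have h1 : χ (algebraMap A B a) * χ (algebraMap A B b) =
      α * β + α * nb + β * na + na * nb := by
    rw [hna, hnb]; ring
  have h2 : na * nb = 0 := mul_eq_zero_of_mem_testN L p hp1 (hχ a) (hχ b)
  have h3 : α * β = algebraMap L (TestRing L p) (algebraMap A L a * algebraMap A L b) := by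
    rw [map_mul]
  have h4 : α * nb = algebraMap A L a • nb := (Algebra.smul_def _ _).symm
  have h5 : β * na = algebraMap A L b • na := (Algebra.smul_def _ _).symm
  rw [h1, h2, add_zero, map_add, map_add, h3, testCoeff_algebraMap L p hp1, zero_add, h4, h5,
    map_smul, map_smul, key a, key b, smul_eq_mul, smul_eq_mul, Algebra.smul_def a,
    Algebra.smul_def b]

end derivation

end Groth.Agent.Lib.Helper19.GR
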