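import Mathlib

/-!
# Helper19: toolkit for closed objects (GabLoc) — pullbacks / pushouts of short exact sequences,
objects `Y` with `Hom(Y, M) = 0` and all extensions of `Y` by `M` split.
-/

set_option autoImplicit false
set_option linter.style.haveILetI false

universe w v u

open CategoryTheory CategoryTheory.Limits

namespace Groth.Agent.Lib.Helper19.GabLoc

variable {C : Type u} [Category.{v} C] [Abelian C]

/-- Pullback of a short exact sequence `M → N → Y` along `g : Y' ⟶ Y`. -/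
lemma shortExact_pullback {M N Y Y' : C} {i : M ⟶ N} {p : N ⟶ Y} {hp : i ≫ p = 0}
    (hS : (ShortComplex.mk i p hp).ShortExact) (g : Y' ⟶ Y) :
    (ShortComplex.mk (pullback.lift i 0 (by rw [hp, zero_comp]) : M ⟶ pullback p g)
      (pullback.snd p g) (pullback.lift_snd _ _ _)).ShortExact := by
  have hmono : Mono i := hS.mono_f
  have hepi : Epi p := hS.epi_g
  have h1 : Mono (pullback.lift i 0 (by rw [hp, zero_comp]) : M ⟶ pullback p g) :=
    have e : (pullback.lift i 0 (by rw [hp, zero_comp]) : M ⟶ pullback p g) ≫ pullback.fst p g = i :=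
      pullback.lift_fst _ _ _
    mono_of_mono_fac e
  have h2 : Epi (pullback.snd p g) := Abelian.epi_pullback_of_epi_f p g
  refine ShortComplex.ShortExact.mk' ?_ h1 h2
  apply ShortComplex.exact_of_f_is_kernel
  refine KernelFork.IsLimit.ofι _ _ (fun {T} x hx => hS.exact.lift (x ≫ pullback.fst p g) ?_) ?_ ?_
  · dsimp at hx ⊢
    rw [Category.assoc, pullback.condition, ← Category.assoc, hx, zero_comp]
  · intro T x hx
    dsimp at hx ⊢
    apply pullback.hom_ext
    · rw [Category.assoc, pullback.lift_fst]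
      exact hS.exact.lift_f _ _
    · rw [Category.assoc, pullback.lift_snd, comp_zero, hx]
  · intro T x hx m hm
    dsimp at hx hm ⊢
    apply h1.right_cancellation
    rw [hm]
    apply pullback.hom_ext
    · rw [Category.assoc, pullback.lift_fst]
      exact (hS.exact.lift_f _ _).symm
    · rw [Category.assoc, pullback.lift_snd, comp_zero, hx]

/-- Pushout of a short exact sequence `A → B → Z` along `h : A ⟶ A'`. -/
lemma shortExact_pushout {A B Z A' : C} {j : A ⟶ B} {q : B ⟶ Z} {hq : j ≫ q = 0}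
    (hS : (ShortComplex.mk j q hq).ShortExact) (h : A ⟶ A') :
    (ShortComplex.mk (pushout.inr j h)
      (pushout.desc q 0 (by rw [hq, comp_zero]) : pushout j h ⟶ Z)
      (pushout.inr_desc _ _ _)).ShortExact := by
  have hmono : Mono j := hS.mono_f
  have hepi : Epi q := hS.epi_g
  have h1 : Epi (pushout.desc q 0 (by rw [hq, comp_zero]) : pushout j h ⟶ Z) :=
    have e : pushout.inl j h ≫ (pushout.desc q 0 (by rw [hq, comp_zero]) : pushout j h ⟶ Z) = q :=
      pushout.inl_desc _ _ _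
    epi_of_epi_fac e
  have h2 : Mono (pushout.inr j h) := Abelian.mono_pushout_of_mono_f j h
  refine ShortComplex.ShortExact.mk' ?_ h2 h1
  apply ShortComplex.exact_of_g_is_cokernel
  refine CokernelCofork.IsColimit.ofπ _ _
    (fun {T} x hx => hS.exact.desc (pushout.inl j h ≫ x) ?_) ?_ ?_
  · dsimp at hx ⊢
    rw [← Category.assoc, pushout.condition, Category.assoc, hx, comp_zero]
  · intro T x hx
    dsimp at hx ⊢
    apply pushout.hom_ext
    · rw [← Category.assoc, pushout.inl_desc]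
      exact hS.exact.g_desc _ _
    · rw [← Category.assoc, pushout.inr_desc, zero_comp, hx]
  · intro T x hx m hm
    dsimp at hx hm ⊢
    apply h1.left_cancellation
    rw [hm]
    apply pushout.hom_ext
    · rw [← Category.assoc, pushout.inl_desc]
      exact (hS.exact.g_desc _ _).symm
    · rw [← Category.assoc, pushout.inr_desc, zero_comp, hx]

lemma exists_pullback_ses {M N Y Y' : C} {i : M ⟶ N} {p : N ⟶ Y} {hp : i ≫ p = 0}
    (hS : (ShortComplex.mk i p hp).ShortExact) (g : Y' ⟶ Y) :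
    ∃ (i' : M ⟶ pullback p g) (h0 : i' ≫ pullback.snd p g = 0),
      i' ≫ pullback.fst p g = i ∧ (ShortComplex.mk i' (pullback.snd p g) h0).ShortExact :=
  ⟨_, _, pullback.lift_fst _ _ _, shortExact_pullback hS g⟩

lemma exists_pushout_ses {A B Z A' : C} {j : A ⟶ B} {q : B ⟶ Z} {hq : j ≫ q = 0}
    (hS : (ShortComplex.mk j q hq).ShortExact) (h : A ⟶ A') :
    ∃ (q' : pushout j h ⟶ Z) (h0 : pushout.inr j h ≫ q' = 0),
      pushout.inl j h ≫ q' = q ∧ (ShortComplex.mk (pushout.inr j h) q' h0).ShortExact :=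
  ⟨_, _, pushout.inl_desc _ _ _, shortExact_pushout hS h⟩

/-- Preimage short exact sequence: for `p : N ⟶ Y` epi and `Y' → Y → Y''` short exact,
`p⁻¹(Y') → N → Y''` is short exact. -/
lemma shortExact_preimage {N Y Y' Y'' : C} (p : N ⟶ Y) [Epi p] {a : Y' ⟶ Y} {b : Y ⟶ Y''}
    {hab : a ≫ b = 0} (hS : (ShortComplex.mk a b hab).ShortExact) :
    (ShortComplex.mk (pullback.fst p a) (p ≫ b)
      (by rw [← Category.assoc, pullback.condition, Category.assoc, hab, comp_zero])).ShortExact := by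
  have hmono : Mono a := hS.mono_f
  have hepi : Epi b := hS.epi_g
  have h1 : Mono (pullback.fst p a) := inferInstance
  have h2 : Epi (p ≫ b) := epi_comp _ _
  refine ShortComplex.ShortExact.mk' ?_ h1 h2
  apply ShortComplex.exact_of_f_is_kernel
  refine KernelFork.IsLimit.ofι _ _
    (fun {T} x hx => pullback.lift x (hS.exact.lift (x ≫ p) ?_) ?_) ?_ ?_
  · dsimp at hx ⊢
    rw [Category.assoc, hx]
  · exact (hS.exact.lift_f _ _).symm
  · intro T x hx
    exact pullback.lift_fst _ _ _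
  · intro T x hx m hm
    dsimp at hx hm ⊢
    apply h1.right_cancellation
    rw [hm]
    exact (pullback.lift_fst _ _ _).symm

/-- `Hom(Y, M) = 0`. -/
def HomZero (M Y : C) : Prop := ∀ f : Y ⟶ M, f = 0

/-- Every short exact sequence `0 ⟶ M ⟶ N ⟶ Y ⟶ 0` splits. -/
def ExtSplit (M Y : C) : Prop :=
  ∀ ⦃N : C⦄ (i : M ⟶ N) (p : N ⟶ Y) (hp : i ≫ p = 0),
    (ShortComplex.mk i p hp).ShortExact → IsSplitMono i

/-- `Hom(Y, M) = 0` and `Ext¹(Y, M) = 0`. -/
def ClosedAt (M Y : C) : Prop := HomZero M Y ∧ ExtSplit M Y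

lemma ExtSplit.exists_section {M Y : C} (h : ExtSplit M Y) {N : C} {i : M ⟶ N} {p : N ⟶ Y}
    {hp : i ≫ p = 0} (hS : (ShortComplex.mk i p hp).ShortExact) :
    ∃ s : Y ⟶ N, s ≫ p = 𝟙 Y := by
  have hsm := h i p hp hS
  have spl := ShortComplex.Splitting.ofExactOfRetraction (ShortComplex.mk i p hp) hS.exact
    (retraction i) (IsSplitMono.id i) hS.epi_g
  exact ⟨spl.s, spl.s_g⟩

lemma extSplit_of_sections {M Y : C}
    (h : ∀ ⦃N : C⦄ (i : M ⟶ N) (p : N ⟶ Y) (hp : i ≫ p = 0),
      (ShortComplex.mk i p hp).ShortExact → ∃ s : Y ⟶ N, s ≫ p = 𝟙 Y) : ExtSplit M Y := by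
  intro N i p hp hS
  obtain ⟨s, hs⟩ := h i p hp hS
  have spl := ShortComplex.Splitting.ofExactOfSection (ShortComplex.mk i p hp) hS.exact
    s hs hS.mono_f
  exact ⟨⟨⟨spl.r, spl.f_r⟩⟩⟩

/-- Lifting maps from a closed object through an extension by `M`. -/
lemma ExtSplit.exists_lift {M Z : C} (h : ExtSplit M Z) {N Y : C} {i : M ⟶ N} {p : N ⟶ Y}
    {hp : i ≫ p = 0} (hS : (ShortComplex.mk i p hp).ShortExact) (g : Z ⟶ Y) :
    ∃ σ : Z ⟶ N, σ ≫ p = g := by
  obtain ⟨s, hs⟩ := h.exists_section (shortExact_pullback hS g)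
  refine ⟨s ≫ pullback.fst p g, ?_⟩
  rw [Category.assoc, pullback.condition, ← Category.assoc, hs, Category.id_comp]

lemma HomZero.lift_unique {M Z : C} (h : HomZero M Z) {N Y : C} {i : M ⟶ N} {p : N ⟶ Y}
    {hp : i ≫ p = 0} (hS : (ShortComplex.mk i p hp).ShortExact) {σ σ' : Z ⟶ N}
    (hσ : σ ≫ p = σ' ≫ p) : σ = σ' := by
  have hmono : Mono i := hS.mono_f
  have h0 : (σ - σ') ≫ p = 0 := by rw [Preadditive.sub_comp, hσ, sub_self]
  have h1 : hS.exact.lift (σ - σ') h0 ≫ i = σ - σ' := hS.exact.lift_f _ _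
  rw [h (hS.exact.lift (σ - σ') h0), zero_comp] at h1
  exact sub_eq_zero.1 h1.symm

/-- Quotient step. -/
lemma ClosedAt.of_quotient {M K Y Y'' : C} {a : K ⟶ Y} {b : Y ⟶ Y''} {hab : a ≫ b = 0}
    (hS : (ShortComplex.mk a b hab).ShortExact) (hK : HomZero M K) (hY : ClosedAt M Y) :
    ClosedAt M Y'' := by
  have hepi : Epi b := hS.epi_g
  refine ⟨fun f => ?_, extSplit_of_sections ?_⟩
  · have : b ≫ f = 0 := hY.1 _
    rw [← cancel_epi b, this, comp_zero]
  · intro N i p hp hS'
    obtain ⟨σ, hσ⟩ := hY.2.exists_lift hS' b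
    have h0 : a ≫ σ = 0 := by
      apply hK.lift_unique hS'
      rw [Category.assoc, hσ, hab, zero_comp]
    refine ⟨hS.exact.desc σ h0, ?_⟩
    have h1 : b ≫ hS.exact.desc σ h0 = σ := hS.exact.g_desc _ _
    rw [← cancel_epi b, ← Category.assoc, h1, hσ, Category.comp_id]

/-- Extension step. -/
lemma ClosedAt.of_extension {M Y' Y Y'' : C} {a : Y' ⟶ Y} {b : Y ⟶ Y''} {hab : a ≫ b = 0}
    (hS : (ShortComplex.mk a b hab).ShortExact) (hY' : ClosedAt M Y') (hY'' : ClosedAt M Y'') :
    ClosedAt M Y := by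
  have hepi : Epi b := hS.epi_g
  have hmono : Mono a := hS.mono_f
  refine ⟨fun f => ?_, ?_⟩
  · have h0 : a ≫ f = 0 := hY'.1 _
    have h1 : b ≫ hS.exact.desc f h0 = f := hS.exact.g_desc _ _
    rw [← h1, hY''.1 (hS.exact.desc f h0), comp_zero]
  · intro N i p hp hS'
    have hpepi : Epi p := hS'.epi_g
    -- restrict to `Y'`
    obtain ⟨i', h0, hi', hS1⟩ := exists_pullback_ses hS' a
    have hsm1 : IsSplitMono i' := hY'.2 _ _ _ hS1
    -- preimage sequence
    have hS2 := shortExact_preimage p hS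
    -- push out along the retraction
    obtain ⟨q', h0', hq', hS3⟩ := exists_pushout_ses hS2 (retraction i')
    have hsm3 : IsSplitMono (pushout.inr (pullback.fst p a) (retraction i')) := hY''.2 _ _ _ hS3
    refine ⟨⟨⟨pushout.inl _ _ ≫ retraction (pushout.inr (pullback.fst p a) (retraction i')), ?_⟩⟩⟩
    rw [← hi', Category.assoc, ← Category.assoc (pullback.fst p a), pushout.condition,
      Category.assoc, IsSplitMono.id, Category.comp_id, IsSplitMono.id]

end Groth.Agent.Lib.Helper19.GabLoc
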