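import Groth.Agent.Lib.Helper19GabLocA
import Groth.Prelude.Def_W4c5qcohlocdualityLoc

/-!
# Helper19: the class of objects all of whose subobjects are `M`-closed is localizing.
-/

set_option autoImplicit false
set_option linter.style.haveILetI false

universe w v u

open CategoryTheory CategoryTheory.Limits ZeroObject

namespace Groth.Agent.Lib.Helper19.GabLoc

variable {C : Type u} [Category.{v} C] [Abelian C]

/-- Objects all of whose subobjects `Y` satisfy `Hom(Y, M) = 0` and `Ext¹(Y, M) = 0`. -/
def subClosed (M : C) : ObjectProperty C :=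
  fun X => ∀ ⦃Y : C⦄ (j : Y ⟶ X) [Mono j], ClosedAt M Y

variable (M : C)

lemma closedAt_of_isZero {Y : C} (hY : IsZero Y) : ClosedAt M Y := by
  refine ⟨fun f => hY.eq_of_src _ _, extSplit_of_sections ?_⟩
  intro N i p hp hS
  exact ⟨0, hY.eq_of_src _ _⟩

instance : (subClosed M).IsClosedUnderSubobjects where
  prop_of_mono {X Y} f _ hY := fun Z j _ => by
    have : Mono (j ≫ f) := mono_comp _ _
    exact hY (j ≫ f)

instance : (subClosed M).ContainsZero where
  exists_zero := ⟨0, isZero_zero C, fun Y j _ => closedAt_of_isZero M (IsZero.of_mono j (isZero_zero C))⟩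

instance : (subClosed M).IsClosedUnderQuotients where
  prop_of_epi {X X''} π _ hX := fun Y'' j'' _ => by
    have h1 : Mono (pullback.fst π j'') := inferInstance
    have h2 : Epi (pullback.snd π j'') := inferInstance
    have hS : (ShortComplex.mk (kernel.ι (pullback.snd π j'')) (pullback.snd π j'')
        (kernel.condition _)).ShortExact :=
      ShortComplex.ShortExact.mk' (ShortComplex.exact_of_f_is_kernel _ (kernelIsKernel _))
        inferInstance h2
    have h3 : Mono (kernel.ι (pullback.snd π j'') ≫ pullback.fst π j'') := mono_comp _ _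
    exact ClosedAt.of_quotient hS (hX (kernel.ι (pullback.snd π j'') ≫ pullback.fst π j'')).1
      (hX (pullback.fst π j''))

instance : (subClosed M).IsClosedUnderExtensions where
  prop_X₂_of_shortExact {S} hS h₁ h₃ := fun Y j _ => by
    have hmono : Mono S.f := hS.mono_f
    have hS' : (ShortComplex.mk (kernel.ι (j ≫ S.g)) (cokernel.π (kernel.ι (j ≫ S.g)))
        (cokernel.condition _)).ShortExact :=
      ShortComplex.ShortExact.mk' (ShortComplex.exact_of_g_is_cokernel _ (cokernelIsCokernel _))
        inferInstance inferInstance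
    have h0 : (kernel.ι (j ≫ S.g) ≫ j) ≫ S.g = 0 := by
      rw [Category.assoc, kernel.condition]
    have e1 : hS.exact.lift (kernel.ι (j ≫ S.g) ≫ j) h0 ≫ S.f = kernel.ι (j ≫ S.g) ≫ j :=
      hS.exact.lift_f _ _
    have h4 : Mono (kernel.ι (j ≫ S.g) ≫ j) := mono_comp _ _
    have h5 : Mono (hS.exact.lift (kernel.ι (j ≫ S.g) ≫ j) h0) := mono_of_mono_fac e1
    have h6 : Mono (Abelian.factorThruCoimage (j ≫ S.g)) := inferInstance
    exact ClosedAt.of_extension hS' (h₁ (hS.exact.lift (kernel.ι (j ≫ S.g) ≫ j) h0))
      (h₃ (Abelian.factorThruCoimage (j ≫ S.g)))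

instance : (subClosed M).IsSerreClass where

instance : (subClosed M).IsClosedUnderBinaryCoproducts where
  colimitsOfShape_le := by
    rintro X ⟨p⟩
    refine (subClosed M).prop_of_iso ?_
      ((subClosed M).prop_biprod (p.prop_diag_obj (.mk .left)) (p.prop_diag_obj (.mk .right)))
    exact (biprod.isoCoprod _ _) ≪≫ IsColimit.coconePointUniqueUpToIso (coprodIsCoprod _ _)
      ((IsColimit.precomposeInvEquiv (diagramIsoPair p.diag) _).2 p.isColimit)

instance : (subClosed M).IsClosedUnderFiniteCoproducts := .mk'

attribute [local instance] IsFiltered.isConnected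

/-- Closure under filtered colimits with exact colimits of that shape. -/
lemma subClosed_of_isColimit {K : Type w} [SmallCategory K] [IsFiltered K]
    [HasColimitsOfShape K C] [HasExactColimitsOfShape K C] {Φ : K ⥤ C} {c : Cocone Φ}
    (hc : IsColimit c) (h : ∀ k, subClosed M (Φ.obj k)) : subClosed M c.pt := by
  intro Y j _
  have hD : IsColimit (Cocone.mk Y (pullback.snd c.ι ((Functor.const K).map j))) :=
    hc.pullbackOfHasExactColimitsOfShape j
  have hmono0 : Mono ((Functor.const K).map j) := by
    apply NatTrans.mono_of_mono_app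
  have hmono1 : Mono (pullback.fst c.ι ((Functor.const K).map j)) := inferInstance
  have hDk : ∀ k, ClosedAt M ((pullback c.ι ((Functor.const K).map j)).obj k) :=
    fun k => h k ((pullback.fst c.ι ((Functor.const K).map j)).app k)
  refine ⟨fun f => ?_, extSplit_of_sections ?_⟩
  · apply hD.hom_ext
    intro k
    rw [comp_zero]
    exact (hDk k).1 _
  · intro N i p hp hS
    choose σ hσ using fun k => (hDk k).2.exists_lift hS
      ((pullback.snd c.ι ((Functor.const K).map j)).app k)
    have hnat : ∀ ⦃k k' : K⦄ (u : k ⟶ k'),
        (pullback c.ι ((Functor.const K).map j)).map u ≫ σ k' = σ k := by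
      intro k k' u
      apply (hDk k).1.lift_unique hS
      rw [Category.assoc, hσ, hσ]
      have := (pullback.snd c.ι ((Functor.const K).map j)).naturality u
      simpa using this.symm
    have hnat' : ∀ ⦃k k' : K⦄ (u : k ⟶ k'),
        (pullback c.ι ((Functor.const K).map j)).map u ≫ σ k' =
          σ k ≫ ((Functor.const K).obj N).map u := by
      intro k k' u
      rw [hnat u]
      exact (Category.comp_id _).symm
    refine ⟨hD.desc (Cocone.mk N { app := σ, naturality := hnat' }), ?_⟩
    apply hD.hom_ext
    intro k
    rw [← Category.assoc, hD.fac]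
    dsimp
    rw [hσ, Category.comp_id]

end Groth.Agent.Lib.Helper19.GabLoc

namespace Groth.Agent.Lib.Helper19.GabLoc

variable {C : Type u} [Category.{v} C] [Abelian C] (M : C)

open CoproductsFromFiniteFiltered in
/-- Closure under small coproducts, via finite coproducts and filtered colimits. -/
lemma subClosed_coproducts [IsGrothendieckAbelian.{w} C] (J : Type w) :
    (subClosed M).IsClosedUnderColimitsOfShape (Discrete J) := by
  apply ObjectProperty.IsClosedUnderColimitsOfShape.mk'
  rintro _ ⟨F, hF⟩
  have e : colimit F ≅ colimit (liftToFinsetObj F) :=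
    colimit.isoColimitCocone (liftToFinsetColimitCocone F)
  refine (subClosed M).prop_of_iso e.symm ?_
  refine subClosed_of_isColimit M (colimit.isColimit (liftToFinsetObj F)) (fun s => ?_)
  exact (subClosed M).prop_coproduct (fun x => hF _)

/-- The class `subClosed M` is localizing. -/
theorem isLocalizing_subClosed [IsGrothendieckAbelian.{w} C] :
    _root_.GabLoc.IsLocalizing.{w} (subClosed M) where
  isSerreClass := inferInstance
  isClosedUnderCoproducts J := subClosed_coproducts M J

/-- If all objects of `P` lie in `subClosed M`, then `M` is closed for the localizing closure. -/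
theorem isClosedFor_locClosure [IsGrothendieckAbelian.{w} C] {P : ObjectProperty C}
    (h : P ≤ subClosed M) : _root_.GabLoc.IsClosedFor (_root_.GabLoc.locClosure.{w} P) M := by
  have key : ∀ ⦃Y : C⦄, _root_.GabLoc.locClosure.{w} P Y → ClosedAt M Y := by
    intro Y hY
    have h1 : subClosed M Y := hY (subClosed M) (isLocalizing_subClosed M) h
    exact h1 (𝟙 Y)
  refine ⟨fun Y hY f => (key hY).1 f, fun N Y i p hp hY hS => (key hY).2 i p hp hS⟩

end Groth.Agent.Lib.Helper19.GabLoc
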