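import Mathlib

/-!
# Dual lattices in `K^n` with respect to the standard pairing
-/

set_option autoImplicit false
universe u

namespace Groth.Agent.Lib.Helper19GorLattice

variable {O : Type u} [CommRing O] [IsDomain O] {K : Type u} [Field K] [Algebra O K]
  [IsFractionRing O K] {n : ℕ}

/-- The standard pairing on `K^n`. -/
def pair (x y : Fin n → K) : K := ∑ i, x i * y i

theorem pair_add_left (x x' y : Fin n → K) : pair (x + x') y = pair x y + pair x' y := by
  simp [pair, add_mul, Finset.sum_add_distrib]

theorem pair_add_right (x y y' : Fin n → K) : pair x (y + y') = pair x y + pair x y' := by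
  simp [pair, mul_add, Finset.sum_add_distrib]

theorem pair_smul_left (a : O) (x y : Fin n → K) : pair (a • x) y = a • pair x y := by
  simp only [pair, Algebra.smul_def, Pi.smul_apply, Finset.mul_sum]
  apply Finset.sum_congr rfl
  intro i _
  ring

theorem pair_smul_right (a : O) (x y : Fin n → K) : pair x (a • y) = a • pair x y := by
  simp only [pair, Algebra.smul_def, Pi.smul_apply, Finset.mul_sum]
  apply Finset.sum_congr rfl
  intro i _
  ring

theorem pair_single_right (x : Fin n → K) (i : Fin n) (c : K) :
    pair x (Pi.single i c) = x i * c := by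
  classical
  simp only [pair]
  rw [Finset.sum_eq_single i]
  · simp
  · intro j _ hj
    simp [Pi.single_eq_of_ne hj]
  · intro h
    exact absurd (Finset.mem_univ i) h

/-- The dual lattice `{x | ⟨x, N⟩ ⊆ O}`. -/
def dualLat (N : Submodule O (Fin n → K)) : Submodule O (Fin n → K) where
  carrier := {x | ∀ y ∈ N, pair x y ∈ (1 : Submodule O K)}
  add_mem' := by
    intro x x' hx hx' y hy
    rw [pair_add_left]
    exact add_mem (hx y hy) (hx' y hy)
  zero_mem' := by
    intro y _
    simp [pair]
  smul_mem' := by
    intro a x hx y hy
    rw [pair_smul_left]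
    exact Submodule.smul_mem _ a (hx y hy)

theorem mem_dualLat {N : Submodule O (Fin n → K)} {x : Fin n → K} :
    x ∈ dualLat N ↔ ∀ y ∈ N, pair x y ∈ (1 : Submodule O K) := Iff.rfl

theorem dualLat_antitone {N N' : Submodule O (Fin n → K)} (h : N ≤ N') :
    dualLat N' ≤ dualLat N := fun _ hx y hy => hx y (h hy)

theorem dualLat_le_pi_one {N : Submodule O (Fin n → K)}
    (h1 : Submodule.pi Set.univ (fun _ : Fin n => (1 : Submodule O K)) ≤ N) :
    dualLat N ≤ Submodule.pi Set.univ (fun _ : Fin n => (1 : Submodule O K)) := by
  classical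
  intro x hx
  rw [Submodule.mem_pi]
  intro i _
  have hmem : (Pi.single i (1 : K) : Fin n → K) ∈ N := by
    apply h1
    rw [Submodule.mem_pi]
    intro j _
    by_cases hj : j = i
    · subst hj
      rw [Pi.single_eq_same]
      exact Submodule.one_le.mp le_rfl
    · rw [Pi.single_eq_of_ne hj]
      exact zero_mem _
  have := hx _ hmem
  rw [pair_single_right, mul_one] at this
  exact this

end Groth.Agent.Lib.Helper19GorLattice
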