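import Mathlib
import Groth.Agent.Lib.Helper19GorLatticeA

/-!
# Dual lattices: identification with the linear dual, conductor bound, rank
-/

set_option autoImplicit false
universe u

namespace Groth.Agent.Lib.Helper19GorLattice

open TensorProduct

variable {O : Type u} [CommRing O] [IsDomain O] {K : Type u} [Field K] [Algebra O K]
  [IsFractionRing O K] {n : ℕ}

/-- The linear form on `N` attached to an element of the dual lattice. -/
noncomputable def dualForm (N : Submodule O (Fin n → K)) (x : ↥(dualLat N)) :
    ↥N →ₗ[O] ↥(1 : Submodule O K) where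
  toFun y := ⟨pair (x : Fin n → K) (y : Fin n → K), x.2 y y.2⟩
  map_add' y y' := Subtype.ext (pair_add_right _ _ _)
  map_smul' a y := Subtype.ext (pair_smul_right a _ _)

/-- `dualLat N → Hom(N, O)`. -/
noncomputable def dualMap (N : Submodule O (Fin n → K)) :
    ↥(dualLat N) →ₗ[O] (↥N →ₗ[O] ↥(1 : Submodule O K)) where
  toFun x := dualForm N x
  map_add' x x' := by
    apply LinearMap.ext
    intro y
    exact Subtype.ext (pair_add_left _ _ _)
  map_smul' a x := by
    apply LinearMap.ext
    intro y
    exact Subtype.ext (pair_smul_left a _ _)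

theorem single_mem {N : Submodule O (Fin n → K)}
    (h1 : Submodule.pi Set.univ (fun _ : Fin n => (1 : Submodule O K)) ≤ N) (i : Fin n) :
    (Pi.single i (1 : K) : Fin n → K) ∈ N := by
  classical
  apply h1
  rw [Submodule.mem_pi]
  intro j _
  by_cases hj : j = i
  · subst hj
    rw [Pi.single_eq_same]
    exact Submodule.one_le.mp le_rfl
  · rw [Pi.single_eq_of_ne hj]
    exact zero_mem _

/-- A common denominator for a vector of `K^n`. -/
theorem exists_common_denom (y : Fin n → K) :
    ∃ s : O, s ≠ 0 ∧ ∀ i, ∃ a : O, algebraMap O K a = algebraMap O K s * y i := by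
  classical
  obtain ⟨b, hb⟩ := IsLocalization.exist_integer_multiples_of_finset (nonZeroDivisors O)
    (Finset.univ.image y)
  refine ⟨b, nonZeroDivisors.ne_zero b.2, fun i => ?_⟩
  obtain ⟨a, ha⟩ := hb (y i) (Finset.mem_image_of_mem _ (Finset.mem_univ i))
  exact ⟨a, by rw [ha, Algebra.smul_def]⟩

theorem dualMap_bijective (N : Submodule O (Fin n → K))
    (h1 : Submodule.pi Set.univ (fun _ : Fin n => (1 : Submodule O K)) ≤ N) :
    Function.Bijective (dualMap N) := by
  classical
  constructor
  · rw [injective_iff_map_eq_zero]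
    intro x hx
    apply Subtype.ext
    funext i
    have := congrArg Subtype.val (LinearMap.congr_fun hx ⟨_, single_mem h1 i⟩)
    simpa [dualMap, dualForm, pair_single_right] using this
  · intro φ
    let x : Fin n → K := fun i => (φ ⟨_, single_mem h1 i⟩ : K)
    have key : ∀ y : ↥N, (φ y : K) = pair x (y : Fin n → K) := by
      intro y
      obtain ⟨s, hs0, hs⟩ := exists_common_denom (O := O) (y : Fin n → K)
      choose a ha using hs
      have hs' : algebraMap O K s ≠ 0 := fun h =>
        hs0 ((IsFractionRing.injective O K) (h.trans (map_zero _).symm))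
      have hsy : s • y = ∑ i, a i • (⟨_, single_mem h1 i⟩ : ↥N) := by
        apply Subtype.ext
        funext j
        simp only [Submodule.coe_smul, Pi.smul_apply, Submodule.coe_sum, Finset.sum_apply,
          Algebra.smul_def]
        rw [Finset.sum_eq_single j]
        · simp [ha]
        · intro i _ hij
          simp [Pi.single_eq_of_ne (Ne.symm hij)]
        · intro h
          exact absurd (Finset.mem_univ j) h
      have h2 := congrArg (fun w => (φ w : K)) hsy
      simp only [map_smul, map_sum, Submodule.coe_smul, Submodule.coe_sum,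
        Algebra.smul_def] at h2
      apply mul_left_cancel₀ hs'
      rw [h2, pair, Finset.mul_sum]
      apply Finset.sum_congr rfl
      intro i _
      rw [ha i]
      ring
    have hx : x ∈ dualLat N := by
      intro y hy
      rw [← key ⟨y, hy⟩]
      exact (φ ⟨y, hy⟩).2
    refine ⟨⟨x, hx⟩, ?_⟩
    apply LinearMap.ext
    intro y
    apply Subtype.ext
    exact (key y).symm

/-- `dualLat N ≃ Hom(N, O)`. -/
noncomputable def dualEquiv (N : Submodule O (Fin n → K))
    (h1 : Submodule.pi Set.univ (fun _ : Fin n => (1 : Submodule O K)) ≤ N) :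
    ↥(dualLat N) ≃ₗ[O] (↥N →ₗ[O] ↥(1 : Submodule O K)) :=
  LinearEquiv.ofBijective (dualMap N) (dualMap_bijective N h1)

/-- The conductor bound. -/
theorem pi_conductor_le_dualLat (Ot : Subalgebra O K) (N : Submodule O (Fin n → K))
    (h2 : N ≤ Submodule.pi Set.univ (fun _ : Fin n => Subalgebra.toSubmodule Ot)) :
    Submodule.pi Set.univ (fun _ : Fin n =>
      (((1 : Submodule O K).colon (Subalgebra.toSubmodule Ot)) • (1 : Submodule O K))) ≤
      dualLat N := by
  intro x hx y hy
  rw [Submodule.mem_pi] at hx
  have hy' := h2 hy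
  rw [Submodule.mem_pi] at hy'
  apply Submodule.sum_mem
  intro i _
  have hxi := hx i (Set.mem_univ i)
  have hyi : y i ∈ Ot := hy' i (Set.mem_univ i)
  refine Submodule.smul_induction_on hxi ?_ ?_
  · intro r hr w hw
    rw [Submodule.mem_one] at hw
    obtain ⟨a, rfl⟩ := hw
    have h3 : r • y i ∈ (1 : Submodule O K) := Submodule.mem_colon.mp hr (y i) hyi
    have : (r • algebraMap O K a) * y i = a • (r • y i) := by
      simp only [Algebra.smul_def]
      ring
    rw [this]
    exact Submodule.smul_mem _ a h3
  · intro w w' hw hw'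
    rw [add_mul]
    exact add_mem hw hw'

/-- A lattice containing `c • O^n` for some `c ≠ 0` has full rank. -/
theorem finrank_tensor_eq (M'' : Submodule O (Fin n → K)) (c : O) (hc : c ≠ 0)
    (hM : ∀ y : Fin n → K, (∀ i, ∃ a : O, algebraMap O K a = y i) → c • y ∈ M'') :
    Module.finrank K (K ⊗[O] ↥M'') = n := by
  classical
  have hloc : IsLocalizedModule (nonZeroDivisors O) M''.subtype := by
    refine ⟨?_, ?_, ?_⟩
    · intro s
      rw [Module.End.isUnit_iff]
      have hs' : algebraMap O K (s : O) ≠ 0 := fun h =>
        nonZeroDivisors.ne_zero s.2 ((IsFractionRing.injective O K) (h.trans (map_zero _).symm))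
      constructor
      · intro y y' hyy'
        funext i
        have := congrFun hyy' i
        simp only [Module.algebraMap_end_apply, Pi.smul_apply, Algebra.smul_def] at this
        exact mul_left_cancel₀ hs' this
      · intro y
        refine ⟨fun i => (algebraMap O K (s : O))⁻¹ * y i, ?_⟩
        funext i
        simp only [Module.algebraMap_end_apply, Pi.smul_apply, Algebra.smul_def]
        field_simp
    · intro y
      obtain ⟨s, hs0, hs⟩ := exists_common_denom (O := O) y
      have hmem : c • (s • y) ∈ M'' := by
        apply hM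
        intro i
        obtain ⟨a, ha⟩ := hs i
        exact ⟨a, by rw [ha, Pi.smul_apply, Algebra.smul_def]⟩
      refine ⟨⟨⟨c • (s • y), hmem⟩, ⟨c * s, mem_nonZeroDivisors_of_ne_zero (mul_ne_zero hc hs0)⟩⟩,
        ?_⟩
      show (c * s) • y = c • (s • y)
      rw [mul_smul]
    · intro m m' hmm
      exact ⟨1, by rw [one_smul, one_smul]; exact Subtype.ext hmm⟩
  have hbc : IsBaseChange K M''.subtype := IsLocalizedModule.isBaseChange (nonZeroDivisors O) K _
  have e : K ⊗[O] ↥M'' ≃ₗ[K] (Fin n → K) := hbc.equiv
  rw [e.finrank_eq, Module.finrank_fin_fun]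

end Groth.Agent.Lib.Helper19GorLattice
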