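import Mathlib

/-!
# The graded ring map `S → R'[X]`, `s ↦ e(s / f^k) X^k` for `s` homogeneous of degree `k`
-/

set_option autoImplicit false
set_option linter.style.haveILetI false
universe u

open Polynomial HomogeneousLocalization

namespace Helper19GrMod

variable {R R' S : Type u} [CommRing R] [CommRing R'] [CommRing S] [Algebra R S]
  (𝒜 : ℕ → Submodule R S) [GradedAlgebra 𝒜] {f : S} (hf : f ∈ 𝒜 1)
  (e : HomogeneousLocalization.Away 𝒜 f ≃+* R')

/-- `s / f^k` for `s ∈ 𝒜 k` -/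
def awayMk (k : ℕ) (s : S) (hs : s ∈ 𝒜 k) : Away 𝒜 f :=
  Away.mk 𝒜 hf k s (by rw [smul_eq_mul, mul_one]; exact hs)

omit [GradedAlgebra 𝒜] in
theorem powMem (f : S) (k : ℕ) : f ^ k ∈ Submonoid.powers f := ⟨k, rfl⟩

theorem awayMk_val (k : ℕ) (s : S) (hs : s ∈ 𝒜 k) :
    (awayMk 𝒜 hf k s hs).val = Localization.mk s ⟨f ^ k, powMem f k⟩ := rfl

theorem awayMk_add (k : ℕ) (s s' : S) (hs : s ∈ 𝒜 k) (hs' : s' ∈ 𝒜 k) :
    awayMk 𝒜 hf k (s + s') ((𝒜 k).add_mem hs hs') = awayMk 𝒜 hf k s hs + awayMk 𝒜 hf k s' hs' := by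
  apply HomogeneousLocalization.val_injective
  rw [HomogeneousLocalization.val_add, awayMk_val, awayMk_val, awayMk_val,
    Localization.add_mk_self]

theorem awayMk_zero (k : ℕ) : awayMk 𝒜 hf k 0 (𝒜 k).zero_mem = 0 := by
  apply HomogeneousLocalization.val_injective
  rw [HomogeneousLocalization.val_zero, awayMk_val, Localization.mk_zero]

theorem awayMk_mul (i j : ℕ) (s s' : S) (hs : s ∈ 𝒜 i) (hs' : s' ∈ 𝒜 j) :
    awayMk 𝒜 hf (i + j) (s * s') (SetLike.mul_mem_graded hs hs') =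
      awayMk 𝒜 hf i s hs * awayMk 𝒜 hf j s' hs' := by
  apply HomogeneousLocalization.val_injective
  rw [HomogeneousLocalization.val_mul, awayMk_val, awayMk_val, awayMk_val, Localization.mk_mul]
  congr 1
  apply Subtype.ext
  exact pow_add f i j

theorem awayMk_one : awayMk 𝒜 hf 0 1 (SetLike.GradedOne.one_mem) = 1 := by
  apply HomogeneousLocalization.val_injective
  rw [HomogeneousLocalization.val_one, awayMk_val]
  have : (⟨f ^ 0, powMem f 0⟩ : Submonoid.powers f) = 1 := Subtype.ext (pow_zero f)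
  rw [this, Localization.mk_one]

/-- the components of the ring map -/
noncomputable def phiComp (k : ℕ) : 𝒜 k →+ R'[X] where
  toFun s := monomial k (e (awayMk 𝒜 hf k s.1 s.2))
  map_zero' := by
    change monomial k (e (awayMk 𝒜 hf k 0 _)) = 0
    rw [awayMk_zero, map_zero, map_zero]
  map_add' s s' := by
    change monomial k (e (awayMk 𝒜 hf k (s.1 + s'.1) _)) = _
    rw [awayMk_add 𝒜 hf k s.1 s'.1 s.2 s'.2, map_add, map_add]

theorem phiComp_apply (k : ℕ) (s : 𝒜 k) :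
    phiComp 𝒜 hf e k s = monomial k (e (awayMk 𝒜 hf k s.1 s.2)) := rfl

theorem phi_hone :
    phiComp 𝒜 hf e 0 (GradedMonoid.GOne.one (A := fun i => ↥(𝒜 i))) = 1 := by
  change monomial 0 (e (awayMk 𝒜 hf 0 1 _)) = 1
  rw [awayMk_one, map_one]
  rfl

theorem phi_hmul {i j : ℕ} (ai : 𝒜 i) (aj : 𝒜 j) :
    phiComp 𝒜 hf e (i + j) (GradedMonoid.GMul.mul (A := fun i => ↥(𝒜 i)) ai aj) =
      phiComp 𝒜 hf e i ai * phiComp 𝒜 hf e j aj := by
  change monomial (i + j) (e (awayMk 𝒜 hf (i + j) (ai.1 * aj.1) _)) =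
    monomial i (e (awayMk 𝒜 hf i ai.1 ai.2)) * monomial j (e (awayMk 𝒜 hf j aj.1 aj.2))
  rw [awayMk_mul 𝒜 hf i j ai.1 aj.1 ai.2 aj.2, map_mul, monomial_mul_monomial]

/-- the ring map `S → R'[X]` -/
noncomputable def phi : S →+* R'[X] :=
  (DirectSum.toSemiring (phiComp 𝒜 hf e) (phi_hone 𝒜 hf e) (phi_hmul 𝒜 hf e)).comp
    (DirectSum.decomposeRingEquiv 𝒜).toRingHom

theorem phi_of_mem (k : ℕ) (s : S) (hs : s ∈ 𝒜 k) :
    phi 𝒜 hf e s = monomial k (e (awayMk 𝒜 hf k s hs)) := by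
  change DirectSum.toSemiring (phiComp 𝒜 hf e) (phi_hone 𝒜 hf e) (phi_hmul 𝒜 hf e)
    (DirectSum.decompose 𝒜 s) = _
  rw [DirectSum.decompose_of_mem 𝒜 hs, DirectSum.toSemiring_of]
  rfl

theorem awayMk_self : awayMk 𝒜 hf 1 f hf = 1 := by
  apply HomogeneousLocalization.val_injective
  rw [HomogeneousLocalization.val_one, awayMk_val]
  have : (⟨f ^ 1, powMem f 1⟩ : Submonoid.powers f) = ⟨f, ⟨1, pow_one f⟩⟩ := Subtype.ext (pow_one f)
  rw [this]
  exact Localization.mk_self (⟨f, ⟨1, pow_one f⟩⟩ : Submonoid.powers f)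

theorem phi_f : phi 𝒜 hf e f = X := by
  rw [phi_of_mem 𝒜 hf e 1 f hf, awayMk_self, map_one]
  rfl

/-- every coefficient occurs -/
theorem exists_phi_eq (c : R') : ∃ (k : ℕ) (s : S), s ∈ 𝒜 k ∧ phi 𝒜 hf e s = monomial k c := by
  obtain ⟨k, s, hs, hks⟩ := Away.mk_surjective 𝒜 hf (e.symm c)
  have hs' : s ∈ 𝒜 k := by rwa [smul_eq_mul, mul_one] at hs
  refine ⟨k, s, hs', ?_⟩
  rw [phi_of_mem 𝒜 hf e k s hs']
  congr 1
  have : awayMk 𝒜 hf k s hs' = e.symm c := hks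
  rw [this, RingEquiv.apply_symm_apply]

end Helper19GrMod
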