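import Mathlib

/-!
# A finite graded submodule of `M[t]` over a graded ring acting through `S → R'[X]`
-/

set_option autoImplicit false
set_option linter.style.haveILetI false
universe u

open Polynomial

namespace Helper19GrMod

variable {R R' S : Type u} [CommRing R] [CommRing R'] [CommRing S] [Algebra R S]

/-- `M[t]` with `S` acting through `φ` -/
def PMod (_φ : S →+* R'[X]) (M : Type u) [AddCommGroup M] [Module R' M] : Type u :=
  PolynomialModule R' M

section Basic

variable (φ : S →+* R'[X]) (M : Type u) [AddCommGroup M] [Module R' M]

noncomputable instance : AddCommGroup (PMod φ M) :=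
  inferInstanceAs (AddCommGroup (PolynomialModule R' M))

noncomputable instance : Module S (PMod φ M) := Module.compHom (PolynomialModule R' M) φ

noncomputable instance instModuleR : Module R (PMod φ M) :=
  Module.compHom (PMod φ M) (algebraMap R S)

instance : IsScalarTower R S (PMod φ M) where
  smul_assoc r s x := by
    change (r • s) • x = algebraMap R S r • (s • x)
    rw [Algebra.smul_def, mul_smul]

variable {M}

/-- view an element of `PMod` as a polynomial -/
def out (x : PMod φ M) : PolynomialModule R' M := x

variable {φ} in
/-- view a polynomial as an element of `PMod` -/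
def mk' (x : PolynomialModule R' M) : PMod φ M := x

theorem out_smul (s : S) (x : PMod φ M) : out φ (s • x) = φ s • out φ x := rfl

theorem out_add (x y : PMod φ M) : out φ (x + y) = out φ x + out φ y := rfl

theorem out_zero : out φ (0 : PMod φ M) = 0 := rfl

theorem out_rsmul (r : R) (x : PMod φ M) : out φ (r • x) = φ (algebraMap R S r) • out φ x := rfl

theorem out_injective : Function.Injective (out φ (M := M)) := fun _ _ h => h

/-- the monomials -/
noncomputable def sgl (k : ℕ) (m : M) : PMod φ M := PolynomialModule.single R' k m

theorem out_sgl (k : ℕ) (m : M) : out φ (sgl φ k m) = PolynomialModule.single R' k m := rfl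

theorem sgl_add (k : ℕ) (m m' : M) : sgl φ k (m + m') = sgl φ k m + sgl φ k m' :=
  PolynomialModule.single_add k m m'

theorem sgl_zero (k : ℕ) : sgl φ k (0 : M) = 0 := PolynomialModule.single_zero k

/-- the coefficients -/
def cf (x : PMod φ M) (k : ℕ) : M := (out φ x).coeff k

theorem cf_add (x y : PMod φ M) (k : ℕ) : cf φ (x + y) k = cf φ x k + cf φ y k := by
  change ((out φ x + out φ y).coeff) k = _
  rw [PolynomialModule.coeff_add]; rfl

theorem cf_zero (k : ℕ) : cf φ (0 : PMod φ M) k = 0 := rfl

theorem cf_sgl (k j : ℕ) (m : M) : cf φ (sgl φ k m) j = if k = j then m else 0 := by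
  change (PolynomialModule.single R' k m).coeff j = _
  rw [PolynomialModule.coeff_single, Finsupp.single_apply]

theorem sgl_cf_injective (k : ℕ) (m : M) (h : sgl φ k m = 0) : m = 0 := by
  have := congrArg (fun x => cf φ x k) h
  simp only [cf_sgl, if_true, cf_zero] at this
  exact this

theorem smul_sgl_of_eq (s : S) (i : ℕ) (c : R') (hs : φ s = monomial i c) (j : ℕ) (m : M) :
    s • sgl φ j m = sgl φ (i + j) (c • m) := by
  apply out_injective
  rw [out_smul, hs, out_sgl, out_sgl, PolynomialModule.monomial_smul_single]

theorem cf_smul_of_eq (s : S) (i : ℕ) (c : R') (hs : φ s = monomial i c) (x : PMod φ M) (k : ℕ) :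
    cf φ (s • x) k = if i ≤ k then c • cf φ x (k - i) else 0 := by
  change (out φ (s • x)).coeff k = _
  rw [out_smul, hs, PolynomialModule.monomial_smul_apply]
  rfl

theorem eq_sum_sgl (x : PMod φ M) : x = ∑ k ∈ (out φ x).coeff.support, sgl φ k (cf φ x k) := by
  apply out_injective
  apply PolynomialModule.coeff_injective
  have h1 : (out φ (∑ k ∈ (out φ x).coeff.support, sgl φ k (cf φ x k))).coeff =
      ∑ k ∈ (out φ x).coeff.support, Finsupp.single k ((out φ x).coeff k) := by
    change (∑ k ∈ (out φ x).coeff.support, PolynomialModule.single R' k (cf φ x k)).coeff = _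
    rw [PolynomialModule.coeff_sum]
    rfl
  rw [h1]
  exact ((out φ x).coeff.sum_single).symm

end Basic

end Helper19GrMod
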