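import Mathlib
import Groth.Agent.Lib.Helper19GrModB

/-!
# The graded submodule of `M[t]` generated in degree zero
-/

set_option autoImplicit false
set_option linter.style.haveILetI false
universe u

open Polynomial

namespace Helper19GrMod

variable {R R' S : Type u} [CommRing R] [CommRing R'] [CommRing S] [Algebra R S]
  (𝒜 : ℕ → Submodule R S) [GradedAlgebra 𝒜]
  (φ : S →+* R'[X]) (hφ : ∀ k s, s ∈ 𝒜 k → ∃ c : R', φ s = monomial k c)
  {M : Type u} [AddCommGroup M] [Module R' M] {r : ℕ} (g : Fin r → M)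

/-- the `S`-submodule of `M[t]` generated by the `g i` in degree `0` -/
noncomputable def NN : Submodule S (PMod φ M) := Submodule.span S (Set.range fun i => sgl φ 0 (g i))

theorem NN_fg : (NN φ g).FG := by
  unfold NN
  exact Submodule.fg_span (Set.finite_range _)

include hφ in
/-- the submodule is graded: it contains the homogeneous components of its elements -/
theorem sgl_cf_mem (x : PMod φ M) (hx : x ∈ NN φ g) (k : ℕ) : sgl φ k (cf φ x k) ∈ NN φ g := by
  unfold NN at hx
  induction hx using Submodule.span_induction generalizing k with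
  | mem x hx =>
    obtain ⟨i, rfl⟩ := hx
    rw [cf_sgl]
    split_ifs with h
    · subst h
      exact Submodule.subset_span ⟨i, rfl⟩
    · rw [sgl_zero]
      exact Submodule.zero_mem _
  | zero =>
    rw [cf_zero, sgl_zero]
    exact Submodule.zero_mem _
  | add x y _ _ hx hy =>
    rw [cf_add, sgl_add]
    exact Submodule.add_mem _ (hx k) (hy k)
  | smul s x _ hx =>
    induction s using DirectSum.Decomposition.inductionOn 𝒜 generalizing k with
    | zero =>
      rw [zero_smul, cf_zero, sgl_zero]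
      exact Submodule.zero_mem _
    | homogeneous s =>
      rename_i i
      obtain ⟨c, hc⟩ := hφ i s.1 s.2
      rw [cf_smul_of_eq φ s.1 i c hc]
      split_ifs with h
      · have h1 : sgl φ k (c • cf φ x (k - i)) = s.1 • sgl φ (k - i) (cf φ x (k - i)) := by
          rw [smul_sgl_of_eq φ s.1 i c hc]
          congr 1
          omega
        rw [h1]
        exact Submodule.smul_mem _ _ (hx (k - i))
      · rw [sgl_zero]
        exact Submodule.zero_mem _
    | add s s' hs hs' =>
      rw [add_smul, cf_add, sgl_add]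
      exact Submodule.add_mem _ (hs k) (hs' k)

include hφ in
/-- the homogeneous parts -/
def MM (k : ℕ) : Submodule R (NN φ g) where
  carrier := {n | ∃ m : M, n.1 = sgl φ k m}
  zero_mem' := ⟨0, (sgl_zero φ k).symm⟩
  add_mem' := by
    rintro a b ⟨m, hm⟩ ⟨m', hm'⟩
    refine ⟨m + m', ?_⟩
    rw [sgl_add, ← hm, ← hm']
    rfl
  smul_mem' := by
    rintro c a ⟨m, hm⟩
    obtain ⟨c', hc'⟩ := hφ 0 (algebraMap R S c) (SetLike.algebraMap_mem_graded 𝒜 c)
    refine ⟨c' • m, ?_⟩
    change algebraMap R S c • a.1 = _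
    rw [hm, smul_sgl_of_eq φ _ 0 c' hc', zero_add]

theorem mem_MM (k : ℕ) (n : NN φ g) : n ∈ MM 𝒜 φ hφ g k ↔ ∃ m : M, n.1 = sgl φ k m := Iff.rfl

theorem gradedSMul : SetLike.GradedSMul 𝒜 (MM 𝒜 φ hφ g) where
  smul_mem := by
    intro i j s n hs hn
    obtain ⟨m, hm⟩ := hn
    obtain ⟨c, hc⟩ := hφ i s hs
    refine ⟨c • m, ?_⟩
    change s • n.1 = _
    rw [hm, smul_sgl_of_eq φ s i c hc]
    rfl

/-- the `j`-th coefficient as an additive map on `NN` -/
def cfHom (j : ℕ) : NN φ g →+ M where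
  toFun n := cf φ n.1 j
  map_zero' := cf_zero φ j
  map_add' a b := cf_add φ a.1 b.1 j

theorem cfHom_of_mem (j k : ℕ) (n : NN φ g) (hn : n ∈ MM 𝒜 φ hφ g k) (hjk : k ≠ j) :
    cfHom φ g j n = 0 := by
  obtain ⟨m, hm⟩ := hn
  change cf φ n.1 j = 0
  rw [hm, cf_sgl, if_neg hjk]

theorem eq_zero_of_mem_of_cfHom (k : ℕ) (n : NN φ g) (hn : n ∈ MM 𝒜 φ hφ g k)
    (h : cfHom φ g k n = 0) : n = 0 := by
  obtain ⟨m, hm⟩ := hn
  have h1 : cf φ n.1 k = 0 := h
  rw [hm, cf_sgl, if_pos rfl] at h1
  apply Subtype.ext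
  rw [hm, h1, sgl_zero]
  rfl

theorem isInternal : DirectSum.IsInternal (MM 𝒜 φ hφ g) := by
  classical
  constructor
  · -- injectivity
    rw [injective_iff_map_eq_zero]
    intro x hx
    have key : ∀ (j : ℕ) (y : DirectSum ℕ fun k => MM 𝒜 φ hφ g k),
        cfHom φ g j (DirectSum.coeAddMonoidHom (MM 𝒜 φ hφ g) y) = cfHom φ g j (y j).1 := by
      intro j y
      induction y using DirectSum.induction_on with
      | zero => simp
      | of k z =>
        rw [DirectSum.coeAddMonoidHom_of]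
        by_cases hkj : k = j
        · subst hkj
          have h2 : (DirectSum.of (fun k => ↥(MM 𝒜 φ hφ g k)) k z) k = z :=
            DirectSum.of_eq_same (β := fun k => ↥(MM 𝒜 φ hφ g k)) k z
          rw [h2]
        · have h2 : (DirectSum.of (fun k => ↥(MM 𝒜 φ hφ g k)) k z) j = 0 :=
            DirectSum.of_eq_of_ne (β := fun k => ↥(MM 𝒜 φ hφ g k)) k j z (Ne.symm hkj)
          rw [h2, cfHom_of_mem 𝒜 φ hφ g j k z.1 z.2 hkj]
          simp
      | add y y' hy hy' =>
        rw [map_add, map_add, hy, hy', DirectSum.add_apply]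
        simp
    apply DFinsupp.ext
    intro j
    have h1 := key j x
    rw [hx, map_zero] at h1
    apply Subtype.ext
    exact eq_zero_of_mem_of_cfHom 𝒜 φ hφ g j (x j).1 (x j).2 h1.symm
  · -- surjectivity
    intro n
    have hmem : ∀ k, (⟨sgl φ k (cf φ n.1 k), sgl_cf_mem 𝒜 φ hφ g n.1 n.2 k⟩ : NN φ g) ∈
        MM 𝒜 φ hφ g k := fun k => ⟨cf φ n.1 k, rfl⟩
    refine ⟨∑ k ∈ (out φ n.1).coeff.support,
      DirectSum.of (fun k => MM 𝒜 φ hφ g k) k ⟨_, hmem k⟩, ?_⟩
    rw [map_sum]
    apply Subtype.ext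
    simp only [DirectSum.coeAddMonoidHom_of]
    rw [AddSubmonoidClass.coe_finsetSum]
    exact (eq_sum_sgl φ n.1).symm

end Helper19GrMod
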