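import Mathlib
import Groth.Agent.Lib.Helper19GrModC

/-!
# The degree zero localization of the graded submodule of `M[t]`
-/

set_option autoImplicit false
set_option linter.style.haveILetI false
universe u

open Polynomial

namespace Helper19GrMod

variable {R R' S : Type u} [CommRing R] [CommRing R'] [CommRing S] [Algebra R S]

/-- `M` with `S` acting through a ring map `S → R'` -/
def MS (_ψ : S →+* R') (M : Type u) [AddCommGroup M] [Module R' M] : Type u := M

section MSinst

variable (ψ : S →+* R') (M : Type u) [AddCommGroup M] [Module R' M]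

instance : AddCommGroup (MS ψ M) := inferInstanceAs (AddCommGroup M)

instance : Module S (MS ψ M) := Module.compHom M ψ

variable {M} in
/-- view an element of `MS` as an element of `M` -/
def msOut (m : MS ψ M) : M := m

variable {ψ M} in
/-- view an element of `M` as an element of `MS` -/
def msIn (m : M) : MS ψ M := m

theorem msOut_smul (s : S) (m : MS ψ M) : msOut ψ (s • m) = ψ s • msOut ψ m := rfl

theorem msOut_add (m m' : MS ψ M) : msOut ψ (m + m') = msOut ψ m + msOut ψ m' := rfl

theorem msOut_zero : msOut ψ (0 : MS ψ M) = 0 := rfl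

theorem msOut_msIn (m : M) : msOut ψ (msIn m : MS ψ M) = m := rfl

theorem msOut_injective : Function.Injective (msOut ψ (M := M)) := fun _ _ h => h

end MSinst

variable (𝒜 : ℕ → Submodule R S) [GradedAlgebra 𝒜]
  (φ : S →+* R'[X]) (hφ : ∀ k s, s ∈ 𝒜 k → ∃ c : R', φ s = monomial k c)
  {M : Type u} [AddCommGroup M] [Module R' M] {r : ℕ} (g : Fin r → M)
  (f : S) (hf : f ∈ 𝒜 1) (hφf : φ f = X)

/-- evaluation at `t = 1`, composed with `φ` -/
noncomputable def phi1 : S →+* R' := (Polynomial.evalRingHom (1 : R')).comp φ

theorem phi1_apply (s : S) : phi1 φ s = (φ s).eval 1 := rfl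

theorem phi1_of_eq (s : S) (k : ℕ) (c : R') (hs : φ s = monomial k c) : phi1 φ s = c := by
  rw [phi1_apply, hs, eval_monomial, one_pow, mul_one]

include hφf in
theorem phi1_f : phi1 φ f = 1 := by
  rw [phi1_apply, hφf, eval_X]

include hφf in
theorem phi1_f_pow (k : ℕ) : phi1 φ (f ^ k) = 1 := by
  rw [map_pow, phi1_f φ f hφf, one_pow]

/-- the sum of the coefficients, as an `S`-linear map -/
noncomputable def evS : NN φ g →ₗ[S] MS (phi1 φ) M where
  toFun n := msIn (PolynomialModule.eval (1 : R') (out φ n.1))
  map_add' a b := by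
    apply msOut_injective
    change PolynomialModule.eval (1 : R') (out φ a.1 + out φ b.1) = _
    rw [map_add]
    rfl
  map_smul' s a := by
    apply msOut_injective
    change PolynomialModule.eval (1 : R') (φ s • out φ a.1) = _
    rw [PolynomialModule.eval_smul]
    rfl

theorem evS_of_eq (n : NN φ g) (k : ℕ) (m : M) (hn : n.1 = sgl φ k m) :
    msOut (phi1 φ) (evS φ g n) = m := by
  change PolynomialModule.eval (1 : R') (out φ n.1) = m
  rw [hn, out_sgl, PolynomialModule.eval_single, one_pow, one_smul]

include hφf in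
theorem isUnit_algebraMap (x : Submonoid.powers f) :
    IsUnit (algebraMap S (Module.End S (MS (phi1 φ) M)) x) := by
  obtain ⟨x, ⟨k, rfl⟩⟩ := x
  have : algebraMap S (Module.End S (MS (phi1 φ) M)) (f ^ k) = 1 := by
    ext m
    apply msOut_injective
    change msOut (phi1 φ) ((f ^ k) • m) = msOut (phi1 φ) m
    rw [msOut_smul, phi1_f_pow φ f hφf, one_smul]
  rw [this]
  exact isUnit_one

/-- the extension of `evS` to the localization -/
noncomputable def evL :
    LocalizedModule (Submonoid.powers f) (NN φ g) →ₗ[S] MS (phi1 φ) M :=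
  LocalizedModule.lift (Submonoid.powers f) (evS φ g) (isUnit_algebraMap φ f hφf)

theorem evL_mk_one (n : NN φ g) : evL φ g f hφf (LocalizedModule.mk n 1) = evS φ g n := by
  unfold evL
  rw [LocalizedModule.lift_mk_one]

theorem evL_smul (s : S) (x : LocalizedModule (Submonoid.powers f) (NN φ g)) :
    msOut (phi1 φ) (evL φ g f hφf (s • x)) = phi1 φ s • msOut (phi1 φ) (evL φ g f hφf x) := by
  rw [(evL φ g f hφf).map_smul s x, msOut_smul]

theorem evL_pow_smul (k : ℕ) (x : LocalizedModule (Submonoid.powers f) (NN φ g)) :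
    evL φ g f hφf (f ^ k • x) = evL φ g f hφf x := by
  apply msOut_injective
  rw [evL_smul, phi1_f_pow φ f hφf, one_smul]

omit [GradedAlgebra 𝒜] in
theorem rsmul_eq (c : R) (x : LocalizedModule (Submonoid.powers f) (NN φ g)) :
    c • x = algebraMap R S c • x := by
  induction x using LocalizedModule.induction_on with
  | h n s =>
    rw [LocalizedModule.smul'_mk, LocalizedModule.smul'_mk]
    rfl

theorem pow_smul_injective (k : ℕ) (x : LocalizedModule (Submonoid.powers f) (NN φ g))
    (hx : f ^ k • x = 0) : x = 0 := by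
  have h := IsLocalizedModule.smul_injective
    (LocalizedModule.mkLinearMap (Submonoid.powers f) (NN φ g))
    (⟨f ^ k, ⟨k, rfl⟩⟩ : Submonoid.powers f)
  apply h
  change f ^ k • x = f ^ k • 0
  rw [hx, smul_zero]

end Helper19GrMod
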