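import Mathlib
import Groth.Agent.Lib.Helper19GrModD

/-!
# The degree zero localization of the graded submodule of `M[t]` is `M`
-/

set_option autoImplicit false
set_option linter.style.haveILetI false
universe u

open Polynomial

namespace Helper19GrMod

variable {R R' S : Type u} [CommRing R] [CommRing R'] [CommRing S] [Algebra R S]
  (𝒜 : ℕ → Submodule R S) [GradedAlgebra 𝒜]
  (φ : S →+* R'[X]) (hφ : ∀ k s, s ∈ 𝒜 k → ∃ c : R', φ s = monomial k c)
  {M : Type u} [AddCommGroup M] [Module R' M] {r : ℕ} (g : Fin r → M)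
  (f : S) (hφf : φ f = X)

omit [Algebra R S] in
theorem powMem' (f : S) (k : ℕ) : f ^ k ∈ Submonoid.powers f := ⟨k, rfl⟩

include hφf in
theorem phi_f_pow (l : ℕ) : φ (f ^ l) = monomial l 1 := by
  rw [map_pow, hφf, X_pow_eq_monomial]

include hφf in
theorem pow_smul_sgl (l k : ℕ) (m : M) : f ^ l • sgl φ k m = sgl φ (l + k) m := by
  rw [smul_sgl_of_eq φ (f ^ l) l 1 (phi_f_pow φ f hφf l), one_smul]

include hφf in
theorem pow_smul_mem_MM (l k : ℕ) (n : NN φ g) (hn : n ∈ MM 𝒜 φ hφ g k) :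
    f ^ l • n ∈ MM 𝒜 φ hφ g (k + l) := by
  obtain ⟨m, hm⟩ := hn
  refine ⟨m, ?_⟩
  change f ^ l • n.1 = _
  rw [hm, pow_smul_sgl φ f hφf, add_comm]

/-- `n ↦ n / 1` -/
noncomputable abbrev mk1 : NN φ g →ₗ[S] LocalizedModule (Submonoid.powers f) (NN φ g) :=
  LocalizedModule.mkLinearMap (Submonoid.powers f) (NN φ g)

omit [GradedAlgebra 𝒜] in
theorem mk1_apply (n : NN φ g) : mk1 φ g f n = LocalizedModule.mk n 1 := rfl

/-- the degree zero localization -/
def Nf : Submodule R (LocalizedModule (Submonoid.powers f) (NN φ g)) where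
  carrier := {x | ∃ k : ℕ, ∃ n ∈ MM 𝒜 φ hφ g k, f ^ k • x = LocalizedModule.mk n 1}
  zero_mem' := ⟨0, 0, Submodule.zero_mem _, by rw [smul_zero, LocalizedModule.zero_mk]⟩
  add_mem' := by
    rintro x y ⟨k, n, hn, hx⟩ ⟨l, n', hn', hy⟩
    refine ⟨k + l, f ^ l • n + f ^ k • n', ?_, ?_⟩
    · refine Submodule.add_mem _ (pow_smul_mem_MM 𝒜 φ hφ g f hφf l k n hn) ?_
      rw [add_comm k l]
      exact pow_smul_mem_MM 𝒜 φ hφ g f hφf k l n' hn'
    · rw [← mk1_apply, map_add, map_smul, map_smul, mk1_apply, mk1_apply, ← hx, ← hy, smul_add,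
        smul_smul, smul_smul, pow_add, mul_comm (f ^ l) (f ^ k)]
  smul_mem' := by
    rintro c x ⟨k, n, hn, hx⟩
    refine ⟨k, c • n, Submodule.smul_mem _ c hn, ?_⟩
    rw [rsmul_eq φ g f c x, smul_comm, hx, ← mk1_apply, ← mk1_apply, ← map_smul]
    rfl

theorem mem_Nf (x : LocalizedModule (Submonoid.powers f) (NN φ g)) :
    x ∈ Nf 𝒜 φ hφ g f hφf ↔
      ∃ k : ℕ, ∃ n ∈ MM 𝒜 φ hφ g k, f ^ k • x = LocalizedModule.mk n 1 := Iff.rfl

variable [Algebra R R'] [Module R M] [IsScalarTower R R' M]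
  (hφR : ∀ c : R, phi1 φ (algebraMap R S c) = algebraMap R R' c)

/-- the comparison map -/
noncomputable def eLin : Nf 𝒜 φ hφ g f hφf →ₗ[R] M where
  toFun x := msOut (phi1 φ) (evL φ g f hφf x.1)
  map_add' x y := by
    change msOut (phi1 φ) (evL φ g f hφf (x.1 + y.1)) = _
    rw [map_add, msOut_add]
  map_smul' c x := by
    change msOut (phi1 φ) (evL φ g f hφf (c • x.1)) = c • msOut (phi1 φ) (evL φ g f hφf x.1)
    rw [rsmul_eq, evL_smul, hφR, algebraMap_smul]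

theorem eLin_apply (x : Nf 𝒜 φ hφ g f hφf) :
    eLin 𝒜 φ hφ g f hφf hφR x = msOut (phi1 φ) (evL φ g f hφf x.1) := rfl

theorem eLin_injective : Function.Injective (eLin 𝒜 φ hφ g f hφf hφR) := by
  rw [injective_iff_map_eq_zero]
  intro x hx
  obtain ⟨k, n, hn, hk⟩ := x.2
  obtain ⟨m, hm⟩ := hn
  have h1 : msOut (phi1 φ) (evL φ g f hφf (f ^ k • x.1)) = msOut (phi1 φ) (evL φ g f hφf x.1) :=
    congrArg _ (evL_pow_smul φ g f hφf k x.1)
  rw [hk, evL_mk_one, evS_of_eq φ g n k m hm] at h1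
  have hm0 : m = 0 := h1.trans hx
  have hn0 : n = 0 := by
    apply Subtype.ext
    rw [hm, hm0, sgl_zero]
    rfl
  have h2 : f ^ k • x.1 = 0 := by rw [hk, hn0, LocalizedModule.zero_mk]
  exact Subtype.ext (pow_smul_injective φ g f k x.1 h2)

variable (hsurj : ∀ c : R', ∃ (k : ℕ) (s : S), s ∈ 𝒜 k ∧ φ s = monomial k c)
  (hg : Submodule.span R' (Set.range g) = ⊤)

include hφf hsurj hg in
theorem exists_sgl_mem (m : M) : ∃ k, sgl φ k m ∈ NN φ g := by
  have hm : m ∈ Submodule.span R' (Set.range g) := by rw [hg]; trivial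
  induction hm using Submodule.span_induction with
  | mem x hx =>
    obtain ⟨i, rfl⟩ := hx
    exact ⟨0, Submodule.subset_span ⟨i, rfl⟩⟩
  | zero => exact ⟨0, by rw [sgl_zero]; exact Submodule.zero_mem _⟩
  | add x y _ _ hx hy =>
    obtain ⟨k, hk⟩ := hx
    obtain ⟨l, hl⟩ := hy
    refine ⟨k + l, ?_⟩
    rw [sgl_add]
    refine Submodule.add_mem _ ?_ ?_
    · rw [add_comm, ← pow_smul_sgl φ f hφf]
      exact Submodule.smul_mem _ _ hk
    · rw [← pow_smul_sgl φ f hφf]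
      exact Submodule.smul_mem _ _ hl
  | smul c x _ hx =>
    obtain ⟨k, hk⟩ := hx
    obtain ⟨j, s, -, hs⟩ := hsurj c
    refine ⟨j + k, ?_⟩
    rw [← smul_sgl_of_eq φ s j c hs]
    exact Submodule.smul_mem _ _ hk

include hsurj hg in
theorem eLin_surjective : Function.Surjective (eLin 𝒜 φ hφ g f hφf hφR) := by
  intro m
  obtain ⟨k, hk⟩ := exists_sgl_mem 𝒜 φ g f hφf hsurj hg m
  let n : NN φ g := ⟨sgl φ k m, hk⟩
  have hn : n ∈ MM 𝒜 φ hφ g k := ⟨m, rfl⟩
  let x : LocalizedModule (Submonoid.powers f) (NN φ g) :=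
    LocalizedModule.mk n ⟨f ^ k, powMem' f k⟩
  have hx : f ^ k • x = LocalizedModule.mk n 1 := by
    change f ^ k • LocalizedModule.mk n ⟨f ^ k, powMem' f k⟩ = _
    rw [LocalizedModule.smul'_mk]
    exact LocalizedModule.mk_cancel (⟨f ^ k, powMem' f k⟩ : Submonoid.powers f) n
  refine ⟨⟨x, k, n, hn, hx⟩, ?_⟩
  rw [eLin_apply]
  change msOut (phi1 φ) (evL φ g f hφf x) = m
  rw [← evL_pow_smul φ g f hφf k x, hx, evL_mk_one, evS_of_eq φ g n k m rfl]

omit [GradedAlgebra 𝒜] in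
theorem pow_smul_mk_smul (k : ℕ) (s : S) (x : LocalizedModule (Submonoid.powers f) (NN φ g)) :
    f ^ k • ((Localization.mk s (⟨f ^ k, powMem' f k⟩ : Submonoid.powers f)) • x) = s • x := by
  induction x using LocalizedModule.induction_on with
  | h n t =>
    rw [LocalizedModule.mk_smul_mk, LocalizedModule.smul'_mk, LocalizedModule.smul'_mk]
    exact LocalizedModule.mk_cancel_common_left (⟨f ^ k, powMem' f k⟩ : Submonoid.powers f) t (s • n)

theorem eLin_semilinear (k : ℕ) (s : S) (c : R') (hs : φ s = monomial k c)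
    (x y : Nf 𝒜 φ hφ g f hφf)
    (h : (Localization.mk s (⟨f ^ k, powMem' f k⟩ : Submonoid.powers f)) • x.1 = y.1) :
    eLin 𝒜 φ hφ g f hφf hφR y = c • eLin 𝒜 φ hφ g f hφf hφR x := by
  rw [eLin_apply, eLin_apply, ← evL_pow_smul φ g f hφf k y.1, ← h, pow_smul_mk_smul, evL_smul,
    phi1_of_eq φ s k c hs]

end Helper19GrMod
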