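import Mathlib
import Groth.Agent.Lib.Helper19GrModA
import Groth.Agent.Lib.Helper19GrModE

/-!
# A finite graded module with prescribed degree zero localization
-/

set_option autoImplicit false
set_option linter.style.haveILetI false
universe u

open Polynomial HomogeneousLocalization

namespace Helper19GrMod

theorem main (R R' : Type u) [CommRing R] [CommRing R']
    [Algebra R R']
    (M : Type u) [AddCommGroup M] [Module R' M] [Module R M] [IsScalarTower R R' M] [Module.Finite R' M]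
    (S : Type u) [CommRing S] [Algebra R S] (𝒜 : ℕ → Submodule R S) [GradedAlgebra 𝒜] (f : S) (hf : f ∈ 𝒜 1)
    (e : HomogeneousLocalization.Away 𝒜 f ≃+* R')
    (he : ∀ r : R, (e.symm (algebraMap R R' r)).val = algebraMap S (Localization.Away f) (algebraMap R S r)) :
    ∃ (N : Type u) (_ : AddCommGroup N) (_ : Module S N) (_ : Module R N) (_ : IsScalarTower R S N)
      (ℳ : ℕ → Submodule R N) (_ : DirectSum.Decomposition ℳ) (_ : SetLike.GradedSMul 𝒜 ℳ)
      (Nf : Submodule R (LocalizedModule (Submonoid.powers f) N)) (e' : ↥Nf ≃ₗ[R] M),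
      Module.Finite S N ∧
      (∀ x, x ∈ Nf ↔ ∃ k : ℕ, ∃ n ∈ ℳ k, f ^ k • x = LocalizedModule.mk n 1) ∧
      (∀ (a : HomogeneousLocalization.Away 𝒜 f) (x y : ↥Nf),
        a.val • (x : LocalizedModule (Submonoid.powers f) N) = y → e' y = e a • e' x) := by
  obtain ⟨r, g, hg⟩ := Module.Finite.exists_fin (R := R') (M := M)
  have hφ : ∀ k s, s ∈ 𝒜 k → ∃ c : R', phi 𝒜 hf e s = monomial k c :=
    fun k s hs => ⟨_, phi_of_mem 𝒜 hf e k s hs⟩
  have hφf := phi_f 𝒜 hf e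
  have hsurj := exists_phi_eq 𝒜 hf e
  have hφR : ∀ c : R, phi1 (phi 𝒜 hf e) (algebraMap R S c) = algebraMap R R' c := by
    intro c
    have hmem : algebraMap R S c ∈ 𝒜 0 := SetLike.algebraMap_mem_graded 𝒜 c
    rw [phi1_of_eq (phi 𝒜 hf e) _ 0 _ (phi_of_mem 𝒜 hf e 0 _ hmem)]
    have h1 : awayMk 𝒜 hf 0 (algebraMap R S c) hmem = e.symm (algebraMap R R' c) := by
      apply HomogeneousLocalization.val_injective
      rw [he c, awayMk_val]
      have : (⟨f ^ 0, powMem f 0⟩ : Submonoid.powers f) = 1 := Subtype.ext (pow_zero f)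
      rw [this, Localization.mk_one_eq_algebraMap]
    rw [h1, RingEquiv.apply_symm_apply]
  refine ⟨NN (phi 𝒜 hf e) g, inferInstance, inferInstance, inferInstance, inferInstance,
    MM 𝒜 (phi 𝒜 hf e) hφ g, (isInternal 𝒜 (phi 𝒜 hf e) hφ g).chooseDecomposition,
    gradedSMul 𝒜 (phi 𝒜 hf e) hφ g, Nf 𝒜 (phi 𝒜 hf e) hφ g f hφf,
    LinearEquiv.ofBijective (eLin 𝒜 (phi 𝒜 hf e) hφ g f hφf hφR)
      ⟨eLin_injective 𝒜 (phi 𝒜 hf e) hφ g f hφf hφR,
        eLin_surjective 𝒜 (phi 𝒜 hf e) hφ g f hφf hφR hsurj hg⟩, ?_, ?_, ?_⟩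
  · exact Module.Finite.iff_fg.2 (NN_fg (phi 𝒜 hf e) g)
  · intro x
    exact Iff.rfl
  · intro a x y h
    obtain ⟨k, s, hs, rfl⟩ := Away.mk_surjective 𝒜 hf a
    have hs' : s ∈ 𝒜 k := by rwa [smul_eq_mul, mul_one] at hs
    rw [LinearEquiv.ofBijective_apply, LinearEquiv.ofBijective_apply]
    exact eLin_semilinear 𝒜 (phi 𝒜 hf e) hφ g f hφf hφR k s _ (phi_of_mem 𝒜 hf e k s hs') x y h

end Helper19GrMod
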