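import Mathlib

/-!
# Graded sections of the conormal module of the irrelevant ideal (helper19)

For an `ℕ`-graded `A`-algebra `B` with irrelevant ideal `I`, such that `I/I²` is a free `A`-module
with basis `e`, we construct an `A`-linear section `s : I/I² → I` of the quotient map which is
compatible with the grading (`gr_d (s n) = s (p_d n)`), and show that the `A`-algebra map
`A[X_i] → B`, `X_i ↦ s (e i)` is surjective when `𝒜 0` is the image of `A`.
-/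

set_option autoImplicit false
universe u
open DirectSum

namespace Groth.Agent.Lib.Helper19.GrSection

variable {A B : Type u} [CommRing A] [CommRing B] [Algebra A B] (𝒜 : ℕ → Submodule A B)
  [GradedAlgebra 𝒜]

/-- the irrelevant ideal -/
abbrev Irr : Ideal B := (HomogeneousIdeal.irrelevant 𝒜).toIdeal

/-- graded projection -/
noncomputable abbrev gr (d : ℕ) : B →ₗ[A] B := GradedAlgebra.proj 𝒜 d

theorem gr_apply (d : ℕ) (x : B) : gr 𝒜 d x = ((decompose 𝒜 x) d : B) :=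
  GradedAlgebra.proj_apply 𝒜 d x

theorem gr_mem (d : ℕ) (x : B) : gr 𝒜 d x ∈ 𝒜 d := by
  rw [gr_apply]; exact SetLike.coe_mem _

theorem gr_of_mem {d : ℕ} {x : B} (hx : x ∈ 𝒜 d) : gr 𝒜 d x = x := by
  rw [gr_apply, decompose_of_mem_same 𝒜 hx]

theorem gr_of_mem_ne {d d' : ℕ} {x : B} (hx : x ∈ 𝒜 d) (h : d ≠ d') : gr 𝒜 d' x = 0 := by
  rw [gr_apply, decompose_of_mem_ne 𝒜 hx h]

theorem gr_gr (d d' : ℕ) (x : B) : gr 𝒜 d (gr 𝒜 d' x) = if d = d' then gr 𝒜 d x else 0 := by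
  split_ifs with h
  · subst h; exact gr_of_mem 𝒜 (gr_mem 𝒜 d x)
  · exact gr_of_mem_ne 𝒜 (gr_mem 𝒜 d' x) (Ne.symm h)

theorem mem_irr_iff (x : B) : x ∈ Irr 𝒜 ↔ gr 𝒜 0 x = 0 := by
  change x ∈ HomogeneousIdeal.irrelevant 𝒜 ↔ _
  rw [HomogeneousIdeal.mem_irrelevant_iff, gr_apply, GradedRing.proj_apply]

theorem gr_mem_irr {x : B} (hx : x ∈ Irr 𝒜) (d : ℕ) : gr 𝒜 d x ∈ Irr 𝒜 := by
  rw [gr_apply]
  exact (HomogeneousIdeal.irrelevant 𝒜).isHomogeneous d hx

theorem gr_mem_irr_sq {x : B} (hx : x ∈ Irr 𝒜 ^ 2) (d : ℕ) : gr 𝒜 d x ∈ Irr 𝒜 ^ 2 := by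
  rw [gr_apply]
  rw [pow_two] at hx ⊢
  exact ((HomogeneousIdeal.irrelevant 𝒜).isHomogeneous.mul
    (HomogeneousIdeal.irrelevant 𝒜).isHomogeneous) d hx

theorem mem_irr_of_mem {d : ℕ} (hd : d ≠ 0) {x : B} (hx : x ∈ 𝒜 d) : x ∈ Irr 𝒜 := by
  rw [mem_irr_iff]
  exact gr_of_mem_ne 𝒜 hx hd

theorem sum_gr (x : B) (D : Finset ℕ) (hD : ∀ d, gr 𝒜 d x ≠ 0 → d ∈ D) :
    ∑ d ∈ D, gr 𝒜 d x = x := by
  classical
  conv_rhs => rw [← sum_support_decompose 𝒜 x]
  symm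
  apply Finset.sum_subset
  · intro d hd
    apply hD
    rw [gr_apply]
    rw [DFinsupp.mem_support_iff] at hd
    intro h
    apply hd
    exact Subtype.ext h
  · intro d _ hd
    rw [DFinsupp.mem_support_iff, not_not] at hd
    rw [hd]; rfl

theorem gr_mul (d : ℕ) (x y : B) :
    gr 𝒜 d (x * y) = ∑ ij ∈ Finset.HasAntidiagonal.antidiagonal d, gr 𝒜 ij.1 x * gr 𝒜 ij.2 y := by
  rw [gr_apply, decompose_mul, coe_mul_apply_eq_sum_antidiagonal]
  rfl

/-- graded projection restricted to the irrelevant ideal -/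
noncomputable def γ (d : ℕ) : ↥(Irr 𝒜) →ₗ[A] ↥(Irr 𝒜) where
  toFun x := ⟨gr 𝒜 d x, gr_mem_irr 𝒜 x.2 d⟩
  map_add' x y := by
    apply Subtype.ext
    simp only [Submodule.coe_add, map_add]
  map_smul' a x := by
    apply Subtype.ext
    simp only [Submodule.coe_smul_of_tower, map_smul, RingHom.id_apply]

@[simp] theorem γ_coe (d : ℕ) (x : ↥(Irr 𝒜)) : ((γ 𝒜 d x : ↥(Irr 𝒜)) : B) = gr 𝒜 d x := rfl

theorem γ_γ (d d' : ℕ) (x : ↥(Irr 𝒜)) : γ 𝒜 d (γ 𝒜 d' x) = if d = d' then γ 𝒜 d x else 0 := by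
  apply Subtype.ext
  rw [γ_coe, γ_coe, gr_gr]
  split_ifs
  · rfl
  · rfl

/-- the quotient map, `A`-linear -/
noncomputable abbrev π : ↥(Irr 𝒜) →ₗ[A] (Irr 𝒜).Cotangent := (Irr 𝒜).toCotangent.restrictScalars A

theorem π_surjective : Function.Surjective (π 𝒜) := (Irr 𝒜).toCotangent_surjective

theorem π_eq_zero_iff (x : ↥(Irr 𝒜)) : π 𝒜 x = 0 ↔ (x : B) ∈ Irr 𝒜 ^ 2 :=
  Ideal.toCotangent_eq_zero _ x

theorem π_γ_eq_zero {x : ↥(Irr 𝒜)} (hx : π 𝒜 x = 0) (d : ℕ) : π 𝒜 (γ 𝒜 d x) = 0 := by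
  rw [π_eq_zero_iff] at hx ⊢
  exact gr_mem_irr_sq 𝒜 hx d


section Basis

variable {ι : Type*} [Fintype ι] (e : Module.Basis ι A (Irr 𝒜).Cotangent)

/-- chosen lifts of the basis -/
noncomputable def c (i : ι) : ↥(Irr 𝒜) := (π_surjective 𝒜 (e i)).choose

theorem π_c (i : ι) : π 𝒜 (c 𝒜 e i) = e i := (π_surjective 𝒜 (e i)).choose_spec

/-- the degree `d` projector of the conormal module -/
noncomputable def p (d : ℕ) : (Irr 𝒜).Cotangent →ₗ[A] (Irr 𝒜).Cotangent :=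
  e.constr A (fun i => π 𝒜 (γ 𝒜 d (c 𝒜 e i)))

theorem p_basis (d : ℕ) (i : ι) : p 𝒜 e d (e i) = π 𝒜 (γ 𝒜 d (c 𝒜 e i)) := by
  rw [p, Module.Basis.constr_basis]

theorem p_π (d : ℕ) (x : ↥(Irr 𝒜)) : p 𝒜 e d (π 𝒜 x) = π 𝒜 (γ 𝒜 d x) := by
  set y : ↥(Irr 𝒜) := ∑ i, e.repr (π 𝒜 x) i • c 𝒜 e i with hy
  have h1 : π 𝒜 y = π 𝒜 x := by
    rw [hy, map_sum]
    simp_rw [map_smul, π_c]
    exact e.sum_repr _
  have h2 : π 𝒜 (x - y) = 0 := by rw [map_sub, h1, sub_self]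
  have h3 := π_γ_eq_zero 𝒜 h2 d
  rw [map_sub, map_sub, sub_eq_zero] at h3
  rw [h3, hy, map_sum, map_sum]
  conv_lhs => rw [← e.sum_repr (π 𝒜 x), map_sum]
  refine Finset.sum_congr rfl fun i _ => ?_
  rw [map_smul, map_smul, map_smul, p_basis]

theorem p_p (d d' : ℕ) (n : (Irr 𝒜).Cotangent) :
    p 𝒜 e d (p 𝒜 e d' n) = if d = d' then p 𝒜 e d n else 0 := by
  obtain ⟨x, rfl⟩ := π_surjective 𝒜 n
  rw [p_π, p_π, γ_γ]
  split_ifs
  · rw [p_π]
  · rw [map_zero]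

/-- the non-graded section -/
noncomputable def s' : (Irr 𝒜).Cotangent →ₗ[A] ↥(Irr 𝒜) := e.constr A (c 𝒜 e)

theorem π_s' (n : (Irr 𝒜).Cotangent) : π 𝒜 (s' 𝒜 e n) = n := by
  have : (π 𝒜) ∘ₗ (s' 𝒜 e) = LinearMap.id := by
    apply e.ext
    intro i
    rw [LinearMap.comp_apply, s', Module.Basis.constr_basis, π_c, LinearMap.id_apply]
  exact LinearMap.congr_fun this n

open Classical in
/-- the degrees occurring in the chosen lifts -/
noncomputable def degs : Finset ℕ :=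
  Finset.univ.biUnion (fun i : ι => (decompose 𝒜 (c 𝒜 e i : B)).support)

theorem mem_degs {i : ι} {d : ℕ} (h : gr 𝒜 d (c 𝒜 e i : B) ≠ 0) : d ∈ degs 𝒜 e := by
  classical
  rw [degs, Finset.mem_biUnion]
  refine ⟨i, Finset.mem_univ _, ?_⟩
  rw [DFinsupp.mem_support_iff]
  intro h'
  apply h
  rw [gr_apply, h']
  rfl

/-- the graded section -/
noncomputable def s : (Irr 𝒜).Cotangent →ₗ[A] ↥(Irr 𝒜) :=
  ∑ d ∈ degs 𝒜 e, (γ 𝒜 d) ∘ₗ (s' 𝒜 e) ∘ₗ (p 𝒜 e d)

theorem s_apply (n : (Irr 𝒜).Cotangent) :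
    s 𝒜 e n = ∑ d ∈ degs 𝒜 e, γ 𝒜 d (s' 𝒜 e (p 𝒜 e d n)) := by
  rw [s, LinearMap.sum_apply]
  rfl

theorem sum_p (n : (Irr 𝒜).Cotangent) : ∑ d ∈ degs 𝒜 e, p 𝒜 e d n = n := by
  have : (∑ d ∈ degs 𝒜 e, p 𝒜 e d) = LinearMap.id := by
    apply e.ext
    intro i
    rw [LinearMap.sum_apply, LinearMap.id_apply]
    simp_rw [p_basis]
    rw [← map_sum]
    conv_rhs => rw [← π_c 𝒜 e i]
    congr 1
    apply Subtype.ext
    rw [AddSubmonoidClass.coe_finsetSum]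
    simp_rw [γ_coe]
    exact sum_gr 𝒜 _ _ (fun d hd => mem_degs 𝒜 e hd)
  have h := LinearMap.congr_fun this n
  rw [LinearMap.sum_apply, LinearMap.id_apply] at h
  exact h

theorem π_s (n : (Irr 𝒜).Cotangent) : π 𝒜 (s 𝒜 e n) = n := by
  rw [s_apply, map_sum]
  conv_rhs => rw [← sum_p 𝒜 e n]
  refine Finset.sum_congr rfl fun d _ => ?_
  rw [← p_π 𝒜 e, π_s', p_p, if_pos rfl]

theorem γ_s (d : ℕ) (n : (Irr 𝒜).Cotangent) : γ 𝒜 d (s 𝒜 e n) = s 𝒜 e (p 𝒜 e d n) := by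
  rw [s_apply, s_apply, map_sum]
  simp_rw [γ_γ, p_p]
  rw [Finset.sum_ite_eq]
  have : ∀ d' ∈ degs 𝒜 e, (γ 𝒜 d') ((s' 𝒜 e) (if d' = d then (p 𝒜 e d') n else 0)) =
      if d = d' then γ 𝒜 d (s' 𝒜 e (p 𝒜 e d n)) else 0 := by
    intro d' _
    by_cases h : d' = d
    · subst h; simp
    · rw [if_neg h, if_neg (Ne.symm h), map_zero, map_zero]
  rw [Finset.sum_congr rfl this, Finset.sum_ite_eq]


/-- the generators -/
noncomputable def b (i : ι) : B := (s 𝒜 e (e i) : B)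

/-- the comparison map from the polynomial ring -/
noncomputable def φ : MvPolynomial ι A →ₐ[A] B := MvPolynomial.aeval (b 𝒜 e)

theorem φ_X (i : ι) : φ 𝒜 e (MvPolynomial.X i) = b 𝒜 e i := by
  rw [φ, MvPolynomial.aeval_X]

theorem coe_s_mem_range (n : (Irr 𝒜).Cotangent) : (s 𝒜 e n : B) ∈ (φ 𝒜 e).range := by
  have h : s 𝒜 e n = ∑ i, e.repr n i • s 𝒜 e (e i) := by
    conv_lhs => rw [← e.sum_repr n]
    rw [map_sum]
    simp_rw [map_smul]
  rw [h, AddSubmonoidClass.coe_finsetSum]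
  refine Subalgebra.sum_mem _ fun i _ => ?_
  rw [Submodule.coe_smul_of_tower]
  refine Subalgebra.smul_mem _ ?_ _
  exact ⟨MvPolynomial.X i, φ_X 𝒜 e i⟩

theorem gr_mem_range_of_mem_sq (d : ℕ) (IH : ∀ d' < d, ∀ x ∈ 𝒜 d', x ∈ (φ 𝒜 e).range)
    {z : B} (hz : z ∈ Irr 𝒜 ^ 2) : gr 𝒜 d z ∈ (φ 𝒜 e).range := by
  rw [pow_two] at hz
  refine Submodule.mul_induction_on hz ?_ ?_
  · intro u hu v hv
    rw [gr_mul]
    refine Subalgebra.sum_mem _ fun ij hij => ?_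
    rw [Finset.HasAntidiagonal.mem_antidiagonal] at hij
    by_cases h1 : ij.1 = 0
    · rw [h1, (mem_irr_iff 𝒜 u).mp hu, zero_mul]
      exact Subalgebra.zero_mem _
    by_cases h2 : ij.2 = 0
    · rw [h2, (mem_irr_iff 𝒜 v).mp hv, mul_zero]
      exact Subalgebra.zero_mem _
    refine Subalgebra.mul_mem _ (IH _ (by omega) _ (gr_mem 𝒜 _ _)) (IH _ (by omega) _ (gr_mem 𝒜 _ _))
  · intro x y hx hy
    rw [map_add]
    exact Subalgebra.add_mem _ hx hy

theorem mem_range_of_mem (h0 : ∀ x ∈ 𝒜 0, x ∈ Set.range (algebraMap A B)) (d : ℕ) :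
    ∀ x ∈ 𝒜 d, x ∈ (φ 𝒜 e).range := by
  induction d using Nat.strong_induction_on with
  | _ d IH =>
    intro x hx
    by_cases hd : d = 0
    · subst hd
      obtain ⟨a, rfl⟩ := h0 x hx
      exact Subalgebra.algebraMap_mem _ a
    · have hxI : x ∈ Irr 𝒜 := mem_irr_of_mem 𝒜 hd hx
      set n := π 𝒜 ⟨x, hxI⟩ with hn
      have hpn : p 𝒜 e d n = n := by
        rw [hn, p_π]
        congr 1
        apply Subtype.ext
        rw [γ_coe]
        exact gr_of_mem 𝒜 hx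
      have hy : gr 𝒜 d (s 𝒜 e n : B) = (s 𝒜 e n : B) := by
        rw [← γ_coe, γ_s, hpn]
      have hz : x - (s 𝒜 e n : B) ∈ Irr 𝒜 ^ 2 := by
        have : π 𝒜 (⟨x, hxI⟩ - s 𝒜 e n) = 0 := by
          rw [map_sub, π_s, ← hn, sub_self]
        rw [π_eq_zero_iff] at this
        exact this
      have hz' := gr_mem_range_of_mem_sq 𝒜 e d IH hz
      rw [map_sub, hy, gr_of_mem 𝒜 hx] at hz'
      have := Subalgebra.add_mem _ hz' (coe_s_mem_range 𝒜 e n)
      rwa [sub_add_cancel] at this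

theorem φ_surjective (h0 : ∀ x ∈ 𝒜 0, x ∈ Set.range (algebraMap A B)) :
    Function.Surjective (φ 𝒜 e) := by
  classical
  intro x
  rw [← AlgHom.mem_range, ← sum_support_decompose 𝒜 x]
  refine Subalgebra.sum_mem _ fun d _ => ?_
  exact mem_range_of_mem 𝒜 e h0 d _ (SetLike.coe_mem _)

theorem b_mem (i : ι) : b 𝒜 e i ∈ Irr 𝒜 := (s 𝒜 e (e i)).2

theorem vars_le_comap : MvPolynomial.idealOfVars ι A ≤ (Irr 𝒜).comap (φ 𝒜 e) := by
  rw [MvPolynomial.idealOfVars, Ideal.span_le]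
  rintro _ ⟨i, rfl⟩
  rw [SetLike.mem_coe, Ideal.mem_comap, φ_X]
  exact b_mem 𝒜 e i

theorem algebraMap_eq_zero_of_mem_irr {a : A} (hinj : Function.Injective (algebraMap A B))
    (ha : algebraMap A B a ∈ Irr 𝒜) : a = 0 := by
  rw [mem_irr_iff, gr_of_mem 𝒜 (SetLike.algebraMap_mem_graded 𝒜 a)] at ha
  exact hinj (ha.trans (map_zero _).symm)

theorem sub_C_mem_vars {σ : Type*} (k : MvPolynomial σ A) :
    k - MvPolynomial.C (MvPolynomial.constantCoeff k) ∈ MvPolynomial.idealOfVars σ A := by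
  have : k - MvPolynomial.C (MvPolynomial.constantCoeff k) ∈ MvPolynomial.idealOfVars σ A ^ 1 := by
    rw [MvPolynomial.mem_pow_idealOfVars_iff']
    intro x hx
    have hx0 : x = 0 := (Finsupp.degree_eq_zero_iff x).mp (by omega)
    subst hx0
    rw [← MvPolynomial.constantCoeff_eq, map_sub, MvPolynomial.constantCoeff_C, sub_self]
  rwa [pow_one] at this

theorem ker_le_vars (hinj : Function.Injective (algebraMap A B)) :
    RingHom.ker (φ 𝒜 e) ≤ MvPolynomial.idealOfVars ι A := by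
  intro k hk
  have h1 := sub_C_mem_vars (A := A) k
  have h2 := vars_le_comap 𝒜 e h1
  rw [Ideal.mem_comap, map_sub, (RingHom.mem_ker).mp hk, zero_sub, neg_mem_iff,
    ← MvPolynomial.algebraMap_eq, AlgHom.commutes] at h2
  have h3 := algebraMap_eq_zero_of_mem_irr 𝒜 hinj h2
  rw [h3, map_zero, sub_zero] at h1
  exact h1

theorem ker_le_vars_sq (hinj : Function.Injective (algebraMap A B)) :
    RingHom.ker (φ 𝒜 e) ≤ MvPolynomial.idealOfVars ι A ^ 2 := by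
  classical
  intro k hk
  have hk1 := ker_le_vars 𝒜 e hinj hk
  set a : ι → A := fun i => MvPolynomial.coeff (Finsupp.single i 1) k with ha
  set q := k - ∑ i, MvPolynomial.C (a i) * MvPolynomial.X i with hq
  have hq2 : q ∈ MvPolynomial.idealOfVars ι A ^ 2 := by
    rw [MvPolynomial.mem_pow_idealOfVars_iff']
    intro x hx
    have hk0 : MvPolynomial.coeff 0 k = 0 := by
      have := (MvPolynomial.mem_pow_idealOfVars_iff' 1 k).mp (by simpa using hk1) 0 (by simp)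
      exact this
    rw [hq, MvPolynomial.coeff_sub, MvPolynomial.coeff_sum]
    simp_rw [MvPolynomial.coeff_C_mul, MvPolynomial.coeff_X]
    by_cases hx0 : x = 0
    · subst hx0
      rw [hk0, zero_sub, neg_eq_zero]
      refine Finset.sum_eq_zero fun i _ => ?_
      rw [if_neg, mul_zero]
      intro h
      have := congrArg (fun f => f i) h
      simp at this
    · have hx1 : x.degree = 1 := by
        have : x.degree ≠ 0 := fun h => hx0 ((Finsupp.degree_eq_zero_iff x).mp h)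
        omega
      obtain ⟨j, hj⟩ : ∃ j, x = Finsupp.single j 1 := by
        have : x ∈ Set.range (fun a : ι => Finsupp.single a 1) := by
          rw [Finsupp.range_single_one]; exact hx1
        obtain ⟨j, hj⟩ := this
        exact ⟨j, hj.symm⟩
      subst hj
      rw [Finset.sum_eq_single j]
      · rw [if_pos rfl, mul_one, sub_self]
      · intro i _ hij
        rw [if_neg, mul_zero]
        intro h
        apply hij
        exact (Finsupp.single_left_injective one_ne_zero) h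
      · intro h; exact absurd (Finset.mem_univ j) h
  -- image in the conormal module
  have h1 : φ 𝒜 e q ∈ Irr 𝒜 ^ 2 := by
    have := Ideal.pow_right_mono (vars_le_comap 𝒜 e) 2 hq2
    have h' : (Irr 𝒜).comap (φ 𝒜 e) ^ 2 ≤ (Irr 𝒜 ^ 2).comap (φ 𝒜 e) := Ideal.le_comap_pow _ 2
    exact h' this
  have h2 : φ 𝒜 e q = - ∑ i, a i • b 𝒜 e i := by
    rw [hq, map_sub, (RingHom.mem_ker).mp hk, zero_sub, map_sum]
    congr 1
    refine Finset.sum_congr rfl fun i _ => ?_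
    rw [map_mul, φ_X, ← MvPolynomial.algebraMap_eq, AlgHom.commutes, Algebra.smul_def]
  have h3 : (∑ i, a i • e i : (Irr 𝒜).Cotangent) = 0 := by
    have h4 : π 𝒜 (∑ i, a i • s 𝒜 e (e i)) = 0 := by
      rw [π_eq_zero_iff, AddSubmonoidClass.coe_finsetSum]
      simp_rw [Submodule.coe_smul_of_tower]
      rw [h2, neg_mem_iff] at h1
      exact h1
    rw [map_sum] at h4
    simp_rw [map_smul, π_s] at h4
    exact h4
  have h5 : ∀ i, a i = 0 := by
    intro i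
    have := Fintype.linearIndependent_iff.mp e.linearIndependent a h3 i
    exact this
  have : k = q := by
    rw [hq]
    simp [h5]
  rw [this]
  exact hq2

end Basis

end Groth.Agent.Lib.Helper19.GrSection
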