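import Mathlib
import Groth.Prelude.Def_CAlgX

set_option autoImplicit false
set_option linter.style.haveILetI false
set_option linter.unusedSectionVars false
universe u

namespace Groth.Agent.Lib.Helper19.H1Inj

open IsLocalRing Algebra

/-- Jacobi–Zariski starts with a zero for adically formally smooth local algebras:
`H₁(L_{K/A}) → H₁(L_{K/B})` is injective. -/
theorem injective_h1Cotangent_map (A B : Type u) [CommRing A] [CommRing B] [IsLocalRing B]
    [Algebra A B] (hfs : CAlgX.IsAdicFormallySmooth A B (maximalIdeal B)) :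
    Function.Injective (Algebra.H1Cotangent.map A B (ResidueField B) (ResidueField B)) := by
  let K := ResidueField B
  let P : Extension A K := (Generators.self A K).toExtension
  let P' : Extension B K := (Generators.self B K).toExtension
  let f : P.Hom P' := (Generators.defaultHom (Generators.self A K)
    (Generators.self B K)).toExtensionHom
  -- the test ring
  let E := P.Ring ⧸ P.ker ^ 2
  let πE : E →ₐ[A] K := Ideal.Quotient.liftₐ (P.ker ^ 2) (IsScalarTower.toAlgHom A P.Ring K)
    (fun y hy => Ideal.pow_le_self two_ne_zero hy)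
  have hπEmk : ∀ y : P.Ring, πE (Ideal.Quotient.mk _ y) = algebraMap P.Ring K y := fun y => rfl
  have hπEs : Function.Surjective πE := by
    intro k
    obtain ⟨y, rfl⟩ := P.algebraMap_surjective k
    exact ⟨Ideal.Quotient.mk _ y, hπEmk y⟩
  let N : Ideal E := RingHom.ker πE
  have hNle : N ≤ P.ker.map (Ideal.Quotient.mk (P.ker ^ 2)) := by
    intro z hz
    obtain ⟨y, rfl⟩ := Ideal.Quotient.mk_surjective z
    exact Ideal.mem_map_of_mem _ ((RingHom.mem_ker).1 hz)
  have hN : N ^ 2 = ⊥ := by
    rw [eq_bot_iff]
    refine (Ideal.pow_right_mono hNle 2).trans ?_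
    rw [← Ideal.map_pow, Ideal.map_quotient_self]
  let e : (E ⧸ N) ≃ₐ[A] K := Ideal.quotientKerAlgEquivOfSurjective hπEs
  have he : ∀ t : E, e (Ideal.Quotient.mk N t) = πE t := fun t => rfl
  let ψ : B →ₐ[A] E ⧸ N := (e.symm : K →ₐ[A] E ⧸ N).comp (IsScalarTower.toAlgHom A B K)
  have hψ : ∃ k : ℕ, ∀ x ∈ maximalIdeal B ^ k, ψ x = 0 := by
    refine ⟨1, fun x hx => ?_⟩
    rw [pow_one] at hx
    change e.symm (algebraMap B K x) = 0
    rw [ResidueField.algebraMap_eq, (residue_eq_zero_iff x).2 hx, map_zero]
  obtain ⟨χ, hχ⟩ := hfs E N hN ψ hψ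
  have hχπ : ∀ b : B, πE (χ b) = algebraMap B K b := by
    intro b
    have h1 : Ideal.Quotient.mk N (χ b) = e.symm (algebraMap B K b) :=
      congrArg (fun g : B →ₐ[A] E ⧸ N => g b) hχ
    rw [← he, h1, AlgEquiv.apply_symm_apply]
  -- the map from `P'`
  let g : P'.Ring →+* E :=
    MvPolynomial.eval₂Hom (χ : B →+* E) (fun k : K => Ideal.Quotient.mk (P.ker ^ 2)
      (MvPolynomial.X k : MvPolynomial K A))
  have hgf : ∀ y : P.Ring, g (f.toRingHom y) = Ideal.Quotient.mk (P.ker ^ 2) y := by
    intro y
    have : g.comp f.toRingHom = Ideal.Quotient.mk (P.ker ^ 2) := by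
      apply MvPolynomial.ringHom_ext
      · intro a
        change g (((Generators.self A K).defaultHom (Generators.self B K)).toAlgHom
          (MvPolynomial.C a)) = _
        rw [Generators.Hom.toAlgHom_C]
        change MvPolynomial.eval₂ (χ : B →+* E) _ (MvPolynomial.C (algebraMap A B a)) = _
        rw [MvPolynomial.eval₂_C, RingHom.coe_coe, AlgHom.commutes]
        rfl
      · intro k
        change g (((Generators.self A K).defaultHom (Generators.self B K)).toAlgHom
          (MvPolynomial.X k)) = _
        rw [Generators.Hom.toAlgHom_X]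
        change MvPolynomial.eval₂ (χ : B →+* E) _ (MvPolynomial.X k) = _
        rw [MvPolynomial.eval₂_X]
        rfl
    exact RingHom.congr_fun this y
  have hgK : ∀ z : P'.Ring, πE (g z) = algebraMap P'.Ring K z := by
    intro z
    have : (πE : E →+* K).comp g = algebraMap P'.Ring K := by
      apply MvPolynomial.ringHom_ext
      · intro b
        change πE (MvPolynomial.eval₂ (χ : B →+* E) _ (MvPolynomial.C b)) =
          algebraMap (Generators.self B K).Ring K (MvPolynomial.C b)
        rw [MvPolynomial.eval₂_C, RingHom.coe_coe, hχπ, Generators.algebraMap_apply,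
          MvPolynomial.aeval_C]
      · intro k
        change πE (MvPolynomial.eval₂ (χ : B →+* E) _ (MvPolynomial.X k)) =
          algebraMap (Generators.self B K).Ring K (MvPolynomial.X k)
        rw [MvPolynomial.eval₂_X]
        change algebraMap (Generators.self A K).Ring K (MvPolynomial.X k) = _
        rw [Generators.algebraMap_apply, Generators.algebraMap_apply, MvPolynomial.aeval_X,
          MvPolynomial.aeval_X]
        rfl
    exact RingHom.congr_fun this z
  have hgker : ∀ z ∈ P'.ker ^ 2, g z = 0 := by
    intro z hz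
    have h1 : P'.ker.map g ≤ N := by
      rw [Ideal.map_le_iff_le_comap]
      intro w hw
      rw [Ideal.mem_comap, RingHom.mem_ker]
      rw [hgK]
      exact hw
    have h2 : g z ∈ N ^ 2 := by
      have := Ideal.mem_map_of_mem g hz
      rw [Ideal.map_pow] at this
      exact Ideal.pow_right_mono h1 2 this
    rwa [hN, Ideal.mem_bot] at h2
  -- injectivity of the cotangent map
  have hcot : Function.Injective (Extension.Cotangent.map f) := by
    rw [injective_iff_map_eq_zero]
    intro x hx
    obtain ⟨y, rfl⟩ := Extension.Cotangent.mk_surjective x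
    rw [Extension.Cotangent.map_mk, Extension.Cotangent.mk_eq_zero_iff] at hx
    rw [Extension.Cotangent.mk_eq_zero_iff]
    have h1 : g (f.toRingHom y.1) = 0 := hgker _ hx
    rw [hgf] at h1
    exact Ideal.Quotient.eq_zero_iff_mem.1 h1
  intro x y hxy
  apply Subtype.ext
  apply hcot
  have := congrArg Subtype.val hxy
  exact this

end Groth.Agent.Lib.Helper19.H1Inj
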