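import Mathlib.RingTheory.Henselian
import Mathlib.RingTheory.AdicCompletion.Noetherian
import Mathlib.FieldTheory.Separable
import Mathlib.Algebra.Polynomial.Lifts
import Groth.Agent.Lib.Helper19FibreProd

set_option autoImplicit false
universe u v w

open CategoryTheory ArtFun ArtFun.Art Polynomial

namespace Groth.Agent.Lib.Helper19

section Hensel

variable {Λ : Type u} {k : Type u} [CommRing Λ] [Field k] [Algebra Λ k]

lemma res_aeval (A : Art Λ k) (q : Λ[X]) (a : A) :
    A.res (aeval a q) = (q.map (algebraMap Λ k)).eval (A.res a) := by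
  rw [eval_map, ← aeval_def, aeval_algHom_apply]

lemma res_aeval_derivative (A : Art Λ k) (q : Λ[X]) (a : A) :
    A.res (aeval a (derivative q)) = (derivative (q.map (algebraMap Λ k))).eval (A.res a) := by
  rw [derivative_map, res_aeval]

/-- Hensel: a simple root in `k` of a monic polynomial over `Λ` lifts to a root in any object. -/
theorem exists_root_lift (A : Art Λ k) (q : Λ[X]) (hq : q.Monic) (c : k)
    (hc : (q.map (algebraMap Λ k)).eval c = 0)
    (hc' : (derivative (q.map (algebraMap Λ k))).eval c ≠ 0) :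
    ∃ α : A, aeval α q = 0 ∧ A.res α = c := by
  obtain ⟨a₀, ha₀⟩ := A.res_surjective c
  have hQ : (q.map (algebraMap Λ A)).Monic := hq.map _
  have h1 : (q.map (algebraMap Λ A)).eval a₀ ∈ IsLocalRing.maximalIdeal A := by
    rw [Art.mem_maximalIdeal_iff, eval_map, ← aeval_def, res_aeval, ha₀, hc]
  have h2 : IsUnit (Ideal.Quotient.mk (IsLocalRing.maximalIdeal A)
      ((derivative (q.map (algebraMap Λ A))).eval a₀)) := by
    apply IsUnit.map
    by_contra hnu
    have hm : (derivative (q.map (algebraMap Λ A))).eval a₀ ∈ IsLocalRing.maximalIdeal A :=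
      (IsLocalRing.mem_maximalIdeal _).2 hnu
    rw [Art.mem_maximalIdeal_iff, derivative_map, eval_map, ← aeval_def, res_aeval_derivative,
      ha₀] at hm
    exact hc' hm
  obtain ⟨a, ha, haa₀⟩ := HenselianRing.is_henselian (I := IsLocalRing.maximalIdeal A)
    (q.map (algebraMap Λ A)) hQ a₀ h1 h2
  refine ⟨a, ?_, ?_⟩
  · rw [aeval_def, eval₂_eq_eval_map]
    exact ha
  · rw [Art.mem_maximalIdeal_iff, map_sub, sub_eq_zero] at haa₀
    rw [haa₀, ha₀]

/-- Uniqueness of the Hensel root. -/
theorem root_lift_unique (A : Art Λ k) (q : Λ[X]) (c : k)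
    (hc' : (derivative (q.map (algebraMap Λ k))).eval c ≠ 0) (α β : A)
    (hα : aeval α q = 0) (hβ : aeval β q = 0) (hαc : A.res α = c) (hβc : A.res β = c) :
    α = β := by
  apply IsLocalRing.eq_of_eval_eq_zero_of_not_isUnit_sub (f := q.map (algebraMap Λ A))
  · rw [eval_map, ← aeval_def]; exact hα
  · rw [eval_map, ← aeval_def]; exact hβ
  · intro hu
    have hm : α - β ∈ IsLocalRing.maximalIdeal A := by
      rw [Art.mem_maximalIdeal_iff, map_sub, hαc, hβc, sub_self]
    exact (IsLocalRing.mem_maximalIdeal _).1 hm hu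
  · by_contra hnu
    have hm : (derivative (q.map (algebraMap Λ A))).eval α ∈ IsLocalRing.maximalIdeal A :=
      (IsLocalRing.mem_maximalIdeal _).2 hnu
    rw [Art.mem_maximalIdeal_iff, derivative_map, eval_map, ← aeval_def, res_aeval_derivative,
      hαc] at hm
    exact hc' hm

/-- Every element of `k`, separable over the image of `Λ`, is a simple root of a monic polynomial over `Λ`. -/
theorem exists_monic_simple_root [Algebra.IsSeparable (↥(algebraMap Λ k).range) k] (c : k) :
    ∃ q : Λ[X], q.Monic ∧ (q.map (algebraMap Λ k)).eval c = 0 ∧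
      (derivative (q.map (algebraMap Λ k))).eval c ≠ 0 := by
  have hsep : (minpoly (↥(algebraMap Λ k).range) c).Separable :=
    Algebra.IsSeparable.isSeparable (↥(algebraMap Λ k).range) c
  have hint : IsIntegral (↥(algebraMap Λ k).range) c :=
    Algebra.IsSeparable.isIntegral (↥(algebraMap Λ k).range) c
  have hmonic := minpoly.monic hint
  have hsurj : Function.Surjective (algebraMap Λ k).rangeRestrict :=
    (algebraMap Λ k).rangeRestrict_surjective
  have hl : minpoly (↥(algebraMap Λ k).range) c ∈ lifts (algebraMap Λ k).rangeRestrict := by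
    rw [mem_lifts]
    exact map_surjective _ hsurj _
  obtain ⟨q, hq1, -, hq3⟩ := lifts_and_natDegree_eq_and_monic hl hmonic
  have hcomp : algebraMap Λ k =
      (algebraMap (↥(algebraMap Λ k).range) k).comp (algebraMap Λ k).rangeRestrict := by
    ext x; rfl
  have hmap : q.map (algebraMap Λ k) =
      (minpoly (↥(algebraMap Λ k).range) c).map (algebraMap (↥(algebraMap Λ k).range) k) := by
    rw [← hq1, map_map]
    exact congrArg (fun φ => q.map φ) hcomp
  refine ⟨q, hq3, ?_, ?_⟩
  · rw [hmap, eval_map, ← aeval_def, minpoly.aeval]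
  · rw [hmap, derivative_map, eval_map, ← aeval_def]
    exact hsep.aeval_derivative_ne_zero (minpoly.aeval _ c)

end Hensel

section SepFibreProd

variable {Λ : Type u} {k : Type u} [CommRing Λ] [Field k] [Algebra Λ k] [Module.Finite Λ k]
variable {A A₁ A₂ : Art Λ k}

/-- The fibre product as an object, given that it still surjects onto `k`. -/
noncomputable def pullbackObj' (f₁ : A₁ ⟶ A) (f₂ : A₂ ⟶ A)
    (hres : Function.Surjective (A₁.res.comp (AlgHom.pullbackFst f₁.toAlgHom f₂.toAlgHom))) :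
    Art Λ k :=
  haveI : IsLocalHom f₂.toAlgHom := Art.isLocalHom f₂
  { carrier := AlgHom.pullback f₁.toAlgHom f₂.toAlgHom
    isLocalRing := AlgHom.isLocalRing_pullback f₁.toAlgHom f₂.toAlgHom
    isArtinianRing := isArtinianRing_pullback f₁ f₂
    res := A₁.res.comp (AlgHom.pullbackFst f₁.toAlgHom f₂.toAlgHom)
    res_surjective := hres }

theorem exists_fibreProd_of_res_surjective (f₁ : A₁ ⟶ A) (f₂ : A₂ ⟶ A)
    (hres : Function.Surjective (A₁.res.comp (AlgHom.pullbackFst f₁.toAlgHom f₂.toAlgHom))) :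
    ∃ (B : Art Λ k) (p₁ : B ⟶ A₁) (p₂ : B ⟶ A₂), IsFibreProd p₁ p₂ f₁ f₂ := by
  refine ⟨pullbackObj' f₁ f₂ hres, ⟨AlgHom.pullbackFst f₁.toAlgHom f₂.toAlgHom, rfl⟩,
    ⟨AlgHom.pullbackSnd f₁.toAlgHom f₂.toAlgHom, ?_⟩, ?_⟩
  · apply AlgHom.ext
    intro b
    change A₂.res (b.1.2) = A₁.res (b.1.1)
    rw [← Art.res_app f₂, ← Art.res_app f₁]
    exact congrArg A.res b.2.symm
  · exact
      { w := by
          apply hom_ext
          exact AlgHom.pullback_comm_sq f₁.toAlgHom f₂.toAlgHom
        inj := fun b₁ b₂ h₁ h₂ => Subtype.ext (Prod.ext h₁ h₂)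
        surj := fun a' a'' h => ⟨⟨(a', a''), h⟩, rfl, rfl⟩ }

/-- Fibre products exist when `k` is separable over the image of `Λ`. -/
theorem exists_fibreProd_of_separable [Algebra.IsSeparable (↥(algebraMap Λ k).range) k]
    (f₁ : A₁ ⟶ A) (f₂ : A₂ ⟶ A) :
    ∃ (B : Art Λ k) (p₁ : B ⟶ A₁) (p₂ : B ⟶ A₂), IsFibreProd p₁ p₂ f₁ f₂ := by
  apply exists_fibreProd_of_res_surjective
  intro c
  obtain ⟨q, hq, hc, hc'⟩ := exists_monic_simple_root (Λ := Λ) c
  obtain ⟨α₁, hα₁, hα₁c⟩ := exists_root_lift A₁ q hq c hc hc'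
  obtain ⟨α₂, hα₂, hα₂c⟩ := exists_root_lift A₂ q hq c hc hc'
  have heq : f₁ α₁ = f₂ α₂ := by
    apply root_lift_unique A q c hc'
    · show aeval (f₁.toAlgHom α₁) q = 0
      rw [aeval_algHom_apply, hα₁, map_zero]
    · show aeval (f₂.toAlgHom α₂) q = 0
      rw [aeval_algHom_apply, hα₂, map_zero]
    · rw [Art.res_app, hα₁c]
    · rw [Art.res_app, hα₂c]
  exact ⟨⟨(α₁, α₂), heq⟩, hα₁c⟩

end SepFibreProd

end Groth.Agent.Lib.Helper19
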