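import Groth.Agent.Lib.Helper19Deform

set_option autoImplicit false
universe u v

open CategoryTheory ArtFun ArtFun.Art

namespace Groth.Agent.Lib.Helper19

section Hull1

variable {Λ k : Type u} [CommRing Λ] [Field k] [Algebra Λ k]

/-- A functor with a hull and with one-point tangent space has subsingleton values. -/
theorem subsingleton_obj_of_hasHull [Module.Finite Λ k] {F : Art Λ k ⥤ Type v}
    (h0 : H0 F) (hF : HasHull F) (ht : Subsingleton (TangentSpace F)) (A : Art Λ k) :
    Subsingleton (F.obj A) := by
  obtain ⟨⟨R, ξ, hv, hb⟩⟩ := hF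
  have hsurj := versal_app_surjective h0 ξ hv
  have h1 : S1 F := s1_of_versal h0 ξ hv
  have hbar : Hbar F := (s1_iff_hbar F).1 h1
  have heps : Heps F := heps_of_miniversal ξ hv hb.1 hsurj
  exact subsingleton_obj_of_subsingleton_tangent h0 hbar heps ht A

end Hull1

section OverField

variable {k : Type u} [Field k]

/-- Over the field itself, every object receives a map from `k`. -/
def ofBase (A : Art k k) : base k k ⟶ A :=
  ⟨Algebra.ofId k A.carrier, AlgHom.ext fun c => by
    change A.res (algebraMap k A.carrier c) = c
    rw [A.res.commutes c]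
    rfl⟩

theorem nonempty_obj_of_h0 {F : Art k k ⥤ Type v} (h0 : H0 F) (A : Art k k) : Nonempty (F.obj A) := by
  obtain ⟨x0⟩ := h0.1
  exact ⟨F.map (ofBase A) x0⟩

end OverField

end Groth.Agent.Lib.Helper19
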