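import Groth.Agent.Lib.Helper19ImperfFinite
import Groth.Agent.Lib.Helper19PsDim
import Groth.Agent.Lib.Helper19PowerSeries
import Groth.Agent.Lib.Helper19CoeffUnique

/-!
# Existence of formally smooth complete local algebras with prescribed residue field
(EGA 0_IV 22.2.6) (helper19)
-/

set_option autoImplicit false
set_option linter.style.haveILetI false
set_option linter.unusedSectionVars false
universe u

namespace Groth.Agent.Lib.Helper19.GR

open IsLocalRing TensorProduct MvPowerSeries Finsupp

attribute [local instance] Groth.Agent.Lib.Helper19.isAdicComplete_field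

section ps

variable (K : Type u) [Field K] (n : ℕ)

theorem mem_maximalIdeal_mvPowerSeries_iff (x : MvPowerSeries (Fin n) K) :
    x ∈ maximalIdeal (MvPowerSeries (Fin n) K) ↔ constantCoeff x = 0 := by
  rw [Groth.Agent.Lib.Helper19.maximalIdeal_eq_coeffIdeal,
    Groth.Agent.Lib.Helper19.mem_coeffIdeal_one, IsLocalRing.maximalIdeal_eq_bot, Ideal.mem_bot]

theorem coeff_eq_zero_of_mem_maximalIdeal_sq {x : MvPowerSeries (Fin n) K}
    (hx : x ∈ maximalIdeal (MvPowerSeries (Fin n) K) ^ 2) (α : Fin n →₀ ℕ) (hα : degree α < 2) :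
    coeff α x = 0 := by
  rw [Groth.Agent.Lib.Helper19.maximalIdeal_eq_coeffIdeal,
    ← Groth.Agent.Lib.Helper19.coeffIdeal_eq_pow, Groth.Agent.Lib.Helper19.mem_coeffIdeal] at hx
  have h1 := hx α
  rw [IsLocalRing.maximalIdeal_eq_bot] at h1
  have h2 : 2 - degree α ≠ 0 := by omega
  rw [← Ideal.zero_eq_bot, zero_pow h2, Ideal.zero_eq_bot, Ideal.mem_bot] at h1
  exact h1

theorem coeff_single_one_mul (j : Fin n) (a b : MvPowerSeries (Fin n) K) :
    coeff (single j 1) (a * b) =
      constantCoeff a * coeff (single j 1) b + constantCoeff b * coeff (single j 1) a := by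
  classical
  rw [MvPowerSeries.coeff_mul, Finsupp.antidiagonal_single, Finset.sum_map]
  have h1 : Finset.HasAntidiagonal.antidiagonal (1 : ℕ) = {((0 : ℕ), (1 : ℕ)), (1, 0)} := by
    decide
  rw [h1, Finset.sum_pair (by decide)]
  simp only [Function.Embedding.coe_prodMap, Function.Embedding.coeFn_mk,
    Prod.map_apply, single_zero, coeff_zero_eq_constantCoeff_apply]
  ring

end ps

section grad

variable (K : Type u) [Field K] (n : ℕ)

/-- `K` as an algebra over the power series ring via the constant coefficient -/
@[reducible] noncomputable def psAlgebra : Algebra (MvPowerSeries (Fin n) K) K :=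
  (constantCoeff (σ := Fin n) (R := K)).toAlgebra

attribute [local instance] psAlgebra

theorem psAlgebra_algebraMap (a : MvPowerSeries (Fin n) K) :
    algebraMap (MvPowerSeries (Fin n) K) K a = constantCoeff a := rfl

end grad

section construct

variable {k K : Type u} [Field k] [Field K] [Algebra k K] (n : ℕ)

/-- the vector-valued derivation attached to a linear map on `K ⊗ Ω_k` -/
noncomputable def derivOfLinear (lam : K ⊗[k] Ω[k⁄ℤ] →ₗ[K] (Fin n → K)) :
    Derivation ℤ k (Fin n → K) :=
  ((lam.restrictScalars k) ∘ₗ (TensorProduct.mk k K Ω[k⁄ℤ] 1)).compDer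
    (KaehlerDifferential.D ℤ k)

theorem derivOfLinear_apply (lam : K ⊗[k] Ω[k⁄ℤ] →ₗ[K] (Fin n → K)) (c : k) :
    derivOfLinear n lam c = lam (1 ⊗ₜ KaehlerDifferential.D ℤ k c) := rfl

variable (dv : Derivation ℤ k (Fin n → K))

/-- the linear part of the twisted embedding -/
noncomputable def linPart (c : k) : MvPowerSeries (Fin n) K := ∑ j, C (dv c j) * X j

theorem linPart_add (a b : k) : linPart n dv (a + b) = linPart n dv a + linPart n dv b := by
  simp only [linPart, map_add, Pi.add_apply, add_mul, Finset.sum_add_distrib]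

theorem linPart_zero : linPart n dv 0 = 0 := by
  simp only [linPart, map_zero, Pi.zero_apply, zero_mul, Finset.sum_const_zero]

theorem linPart_one : linPart n dv 1 = 0 := by
  simp only [linPart, Derivation.map_one_eq_zero, map_zero, Pi.zero_apply, zero_mul,
    Finset.sum_const_zero]

theorem linPart_mul (a b : k) : linPart n dv (a * b) =
    C (algebraMap k K a) * linPart n dv b + C (algebraMap k K b) * linPart n dv a := by
  have h : ∀ j, dv (a * b) j = algebraMap k K a * dv b j + algebraMap k K b * dv a j := by
    intro j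
    rw [Derivation.leibniz, Pi.add_apply, Pi.smul_apply, Pi.smul_apply, Algebra.smul_def,
      Algebra.smul_def]
  simp only [linPart, h, map_add, map_mul, add_mul, Finset.sum_add_distrib, Finset.mul_sum]
  congr 1 <;> exact Finset.sum_congr rfl fun j _ => by ring

theorem linPart_mem (c : k) : linPart n dv c ∈ maximalIdeal (MvPowerSeries (Fin n) K) := by
  rw [mem_maximalIdeal_mvPowerSeries_iff]
  simp only [linPart, map_sum, map_mul, constantCoeff_X, mul_zero, Finset.sum_const_zero]

/-- the first order truncation of the twisted embedding -/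
noncomputable def firstOrder (c : k) : MvPowerSeries (Fin n) K :=
  C (algebraMap k K c) + linPart n dv c

theorem constantCoeff_firstOrder (c : k) :
    constantCoeff (firstOrder n dv c) = algebraMap k K c := by
  rw [firstOrder, map_add, constantCoeff_C,
    (mem_maximalIdeal_mvPowerSeries_iff K n _).1 (linPart_mem n dv c), add_zero]

theorem coeff_firstOrder (c : k) (j : Fin n) :
    coeff (single j 1) (firstOrder n dv c) = dv c j := by
  classical
  have h0 : (single j 1 : Fin n →₀ ℕ) ≠ 0 := by
    intro h
    have := DFunLike.congr_fun h j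
    simp at this
  rw [firstOrder, map_add, coeff_C, if_neg h0, zero_add, linPart, map_sum]
  simp only [coeff_C_mul, coeff_X]
  rw [Finset.sum_eq_single j]
  · rw [if_pos rfl, mul_one]
  · intro i _ hij
    rw [if_neg, mul_zero]
    intro h
    exact hij ((Finsupp.single_left_inj one_ne_zero).1 h).symm
  · intro h
    exact absurd (Finset.mem_univ j) h

/-- the first order twisted embedding modulo `𝔪²` -/
noncomputable def tau1 : k →+* MvPowerSeries (Fin n) K ⧸
    maximalIdeal (MvPowerSeries (Fin n) K) ^ 2 where
  toFun c := Ideal.Quotient.mk _ (firstOrder n dv c)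
  map_one' := by
    rw [firstOrder, linPart_one, add_zero, map_one, map_one, map_one]
  map_zero' := by
    rw [firstOrder, linPart_zero, add_zero, map_zero, map_zero, map_zero]
  map_add' a b := by
    rw [← map_add]
    congr 1
    rw [firstOrder, firstOrder, firstOrder, linPart_add, map_add, map_add]
    ring
  map_mul' a b := by
    rw [← map_mul, Ideal.Quotient.eq]
    have h : firstOrder n dv (a * b) - firstOrder n dv a * firstOrder n dv b =
        -(linPart n dv a * linPart n dv b) := by
      rw [firstOrder, firstOrder, firstOrder, linPart_mul, map_mul, map_mul]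
      ring
    rw [h, pow_two]
    exact neg_mem (Ideal.mul_mem_mul (linPart_mem n dv a) (linPart_mem n dv b))

end construct

section synonym

variable (K : Type u) [Field K] (n : ℕ)

/-- the power series ring `K[[T_1, …, T_n]]`, to be given a twisted algebra structure -/
def TPS : Type u := MvPowerSeries (Fin n) K

noncomputable instance : CommRing (TPS K n) :=
  inferInstanceAs (CommRing (MvPowerSeries (Fin n) K))

instance : IsLocalRing (TPS K n) := inferInstanceAs (IsLocalRing (MvPowerSeries (Fin n) K))

instance : IsRegularLocalRing (TPS K n) :=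
  inferInstanceAs (IsRegularLocalRing (MvPowerSeries (Fin n) K))

instance : IsNoetherianRing (TPS K n) :=
  inferInstanceAs (IsNoetherianRing (MvPowerSeries (Fin n) K))

instance : IsAdicComplete (maximalIdeal (TPS K n)) (TPS K n) :=
  Groth.Agent.Lib.Helper19.isAdicComplete_mvPowerSeries (σ := Fin n) (Λ := K)

theorem ringKrullDim_TPS : ringKrullDim (TPS K n) = n :=
  Groth.Agent.Lib.Helper19.ringKrullDim_mvPowerSeries K n

/-- `K` as an algebra over `TPS K n` via the constant coefficient -/
noncomputable instance : Algebra (TPS K n) K := psAlgebra K n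

theorem TPS_algebraMap (a : TPS K n) :
    algebraMap (TPS K n) K a = constantCoeff (σ := Fin n) (R := K) a := rfl

theorem TPS_algebraMap_surjective : Function.Surjective (algebraMap (TPS K n) K) := fun x =>
  ⟨(C x : MvPowerSeries (Fin n) K), constantCoeff_C x⟩

theorem TPS_algebraMap_eq_zero (x : TPS K n) (hx : x ∈ maximalIdeal (TPS K n)) :
    algebraMap (TPS K n) K x = 0 :=
  (mem_maximalIdeal_mvPowerSeries_iff K n x).1 hx

/-- the coefficient of `T_j` as an additive map on `TPS K n` -/
noncomputable def tpsCoeff (j : Fin n) : TPS K n →+ K :=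
  (coeff (single j 1) : MvPowerSeries (Fin n) K →ₗ[K] K).toAddMonoidHom

theorem tpsCoeff_apply (j : Fin n) (a : TPS K n) :
    tpsCoeff K n j a = coeff (single j 1) (a : MvPowerSeries (Fin n) K) := rfl

/-- the gradient at the origin as a derivation of `TPS K n` -/
noncomputable def tpsGrad : Derivation ℤ (TPS K n) (Fin n → K) :=
  Derivation.mk' (LinearMap.pi (fun j => (tpsCoeff K n j).toIntLinearMap)) (by
    intro a b
    ext j
    simp only [LinearMap.pi_apply, AddMonoidHom.coe_toIntLinearMap, Pi.add_apply, Pi.smul_apply,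
      Algebra.smul_def, TPS_algebraMap, tpsCoeff_apply]
    exact coeff_single_one_mul K n j a b)

theorem tpsGrad_apply (a : TPS K n) (j : Fin n) :
    tpsGrad K n a j = coeff (single j 1) (a : MvPowerSeries (Fin n) K) := rfl

end synonym

section exist

variable {k K : Type u} [Field k] [Field K] [Algebra k K]

set_option maxHeartbeats 800000 in
/-- **EGA 0_IV 22.2.6** (existence): if the imperfection module `Υ_{K/k}` is finite of rank
`≤ n`, there is a complete Noetherian local `k`-algebra of dimension `n`, formally smooth over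
`k`, with residue field `K`. -/
theorem exists_formallySmooth_complete_local
    (hfin : Module.Finite K (EGA41.imperfection ℤ k K)) (n : ℕ)
    (hn : Module.finrank K (EGA41.imperfection ℤ k K) ≤ n) :
    ∃ (A : Type u) (_ : CommRing A) (_ : IsLocalRing A) (_ : IsNoetherianRing A)
      (_ : Algebra k A),
      IsAdicComplete (maximalIdeal A) A ∧ CAlgX.IsAdicFormallySmooth k A (maximalIdeal A) ∧
        Nonempty (ResidueField A ≃ₐ[k] K) ∧ ringKrullDim A = n := by
  classical
  haveI := hfin
  -- the linear map `λ`
  have hn' : Module.finrank K (EGA41.imperfection ℤ k K) ≤ Module.finrank K (Fin n → K) := by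
    rw [Module.finrank_fin_fun]; exact hn
  haveI : Module.Free K (EGA41.imperfection ℤ k K) :=
    Module.Free.of_divisionRing K (EGA41.imperfection ℤ k K)
  obtain ⟨lam₀, hlam₀⟩ := (_root_.finrank_le_iff_exists_linearMap (R := K)
    (M := EGA41.imperfection ℤ k K) (M' := Fin n → K)).1 hn'
  obtain ⟨lam, hlam⟩ := LinearMap.exists_extend lam₀
  have hlam' : ∀ u : EGA41.imperfection ℤ k K, lam u.1 = lam₀ u := fun u =>
    LinearMap.congr_fun hlam u
  set dv := derivOfLinear n lam with hdv
  -- the twisted embedding
  obtain ⟨σ, hσ⟩ := exists_ringHom_lift_field_of_isAdicComplete (K := k) (C := TPS K n)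
    (maximalIdeal (TPS K n))
    (((C : K →+* MvPowerSeries (Fin n) K).comp (algebraMap k K) : k →+* TPS K n)) 2
    (by norm_num) (tau1 n dv)
  have hσ' : ∀ c, (show MvPowerSeries (Fin n) K from σ c) - firstOrder n dv c ∈
      maximalIdeal (MvPowerSeries (Fin n) K) ^ 2 := fun c => by
    have h1 := RingHom.congr_fun hσ c
    exact Ideal.Quotient.eq.1 h1
  have hσ0 : ∀ c, constantCoeff (σ := Fin n) (R := K) (σ c) = algebraMap k K c := by
    intro c
    have h1 := coeff_eq_zero_of_mem_maximalIdeal_sq K n (hσ' c) 0 (by simp)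
    rw [map_sub, sub_eq_zero, coeff_zero_eq_constantCoeff_apply,
      coeff_zero_eq_constantCoeff_apply, constantCoeff_firstOrder] at h1
    exact h1
  have hσ1 : ∀ c j, coeff (single j 1) (show MvPowerSeries (Fin n) K from σ c) = dv c j := by
    intro c j
    have h1 := coeff_eq_zero_of_mem_maximalIdeal_sq K n (hσ' c) (single j 1) (by simp)
    rw [map_sub, sub_eq_zero, coeff_firstOrder] at h1
    exact h1
  letI : Algebra k (TPS K n) := σ.toAlgebra
  have halg : ∀ c, algebraMap k (TPS K n) c = σ c := fun c => rfl
  haveI : IsScalarTower k (TPS K n) K := IsScalarTower.of_algebraMap_eq fun c => by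
    rw [halg, TPS_algebraMap, hσ0]
  refine ⟨TPS K n, inferInstance, inferInstance, inferInstance, inferInstance, inferInstance,
    ?_, ?_, ringKrullDim_TPS K n⟩
  · -- formal smoothness
    apply isAdicFormallySmooth_of_regular_of_extensionK (K := K) inferInstance
      (TPS_algebraMap_surjective K n) (TPS_algebraMap_eq_zero K n)
    intro d
    -- the functional attached to `d`
    let φ : K ⊗[k] Ω[k⁄ℤ] →ₗ[K] K := LinearMap.liftBaseChange K d.liftKaehlerDifferential
    have hφ : ∀ c, φ (1 ⊗ₜ KaehlerDifferential.D ℤ k c) = d c := fun c => by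
      simp only [φ, LinearMap.liftBaseChange_tmul, one_smul,
        Derivation.liftKaehlerDifferential_comp_D]
    let γ : K ⊗[k] Ω[k⁄ℤ] →ₗ[K] Ω[K⁄ℤ] × (Fin n → K) :=
      (KaehlerDifferential.mapBaseChange ℤ k K).prod lam
    have hγ : LinearMap.ker γ = ⊥ := by
      rw [LinearMap.ker_eq_bot']
      intro v hv
      have h1 : KaehlerDifferential.mapBaseChange ℤ k K v = 0 := congrArg Prod.fst hv
      have h2 : lam v = 0 := congrArg Prod.snd hv
      have hv' : v ∈ EGA41.imperfection ℤ k K := h1
      have h3 : lam₀ ⟨v, hv'⟩ = 0 := by rw [← hlam' ⟨v, hv'⟩]; exact h2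
      have h4 : (⟨v, hv'⟩ : EGA41.imperfection ℤ k K) = 0 := by
        apply hlam₀
        rw [h3, map_zero]
      exact congrArg Subtype.val h4
    obtain ⟨g, hg⟩ := LinearMap.exists_leftInverse_of_injective γ hγ
    have hg' : ∀ v, g (γ v) = v := fun v => LinearMap.congr_fun hg v
    let ψ₁ : Ω[K⁄ℤ] →ₗ[K] K := φ ∘ₗ g ∘ₗ LinearMap.inl K _ _
    let ψ₂ : (Fin n → K) →ₗ[K] K := φ ∘ₗ g ∘ₗ LinearMap.inr K _ _
    have hψ : ∀ v, φ v = ψ₁ (KaehlerDifferential.mapBaseChange ℤ k K v) + ψ₂ (lam v) := by
      intro v
      conv_lhs => rw [← hg' v]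
      have : γ v = LinearMap.inl K _ _ (KaehlerDifferential.mapBaseChange ℤ k K v) +
          LinearMap.inr K _ _ (lam v) := by
        simp [γ]
      rw [this, map_add, map_add]
      rfl
    let D₁ : Derivation ℤ (TPS K n) K :=
      (ψ₁.compDer (KaehlerDifferential.D ℤ K)).compAlgebraMap (TPS K n)
    let D₂ : Derivation ℤ (TPS K n) K := (ψ₂.restrictScalars (TPS K n)).compDer (tpsGrad K n)
    refine ⟨D₁ + D₂, fun c => ?_⟩
    have h1 : D₁ (algebraMap k (TPS K n) c) =
        ψ₁ (KaehlerDifferential.mapBaseChange ℤ k K (1 ⊗ₜ KaehlerDifferential.D ℤ k c)) := by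
      change ψ₁ (KaehlerDifferential.D ℤ K (algebraMap (TPS K n) K (algebraMap k (TPS K n) c))) = _
      rw [halg, TPS_algebraMap, hσ0, KaehlerDifferential.mapBaseChange_tmul, one_smul,
        KaehlerDifferential.map_D]
    have h2 : D₂ (algebraMap k (TPS K n) c) = ψ₂ (lam (1 ⊗ₜ KaehlerDifferential.D ℤ k c)) := by
      change ψ₂ (tpsGrad K n (algebraMap k (TPS K n) c)) = _
      congr 1
      ext j
      rw [tpsGrad_apply, halg, hσ1, hdv, derivOfLinear_apply]
    rw [Derivation.add_apply, h1, h2, ← hψ, hφ]
  · -- the residue field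
    let ρ : ResidueField (TPS K n) →+* K :=
      Ideal.Quotient.lift (maximalIdeal (TPS K n)) (algebraMap (TPS K n) K)
        (fun a ha => TPS_algebraMap_eq_zero K n a ha)
    have hρ : ∀ a, ρ (residue (TPS K n) a) = algebraMap (TPS K n) K a := fun a => rfl
    let ρk : ResidueField (TPS K n) →ₐ[k] K :=
      { ρ with
        commutes' := fun c => by
          change ρ (residue (TPS K n) (algebraMap k (TPS K n) c)) = _
          rw [hρ, ← IsScalarTower.algebraMap_apply] }
    have hbij : Function.Bijective ρk := by
      refine ⟨(ρ : ResidueField (TPS K n) →+* K).injective, fun y => ?_⟩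
      obtain ⟨a, rfl⟩ := TPS_algebraMap_surjective K n y
      exact ⟨residue (TPS K n) a, hρ a⟩
    exact ⟨AlgEquiv.ofBijective ρk hbij⟩

end exist

end Groth.Agent.Lib.Helper19.GR
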