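import Mathlib

/-!
# Ind-objects of a small abelian category: compactness of representables and thickness

Infrastructure for the `IndCof` cluster (S14492–S14500).
-/

set_option autoImplicit false
set_option linter.style.haveILetI false

universe v

open CategoryTheory CategoryTheory.Limits Opposite

namespace Groth.Agent.Lib.Helper19.IndCof

section compact

variable {C : Type v} [SmallCategory C]

/-- Morphisms out of a yoneda object are sections of the underlying presheaf. -/
noncomputable def homYonedaEquiv (X : C) (A : Ind C) :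
    (Ind.yoneda.obj X ⟶ A) ≃ ((Ind.inclusion C).obj A).obj (op X) :=
  (Ind.inclusion.fullyFaithful.homEquiv).trans
    ((Iso.homFromEquiv (Ind.yonedaCompInclusion.app X)).trans yonedaEquiv)

lemma homYonedaEquiv_comp (X : C) {A B : Ind C} (u : Ind.yoneda.obj X ⟶ A) (g : A ⟶ B) :
    homYonedaEquiv X B (u ≫ g) =
      (((Ind.inclusion C).map g).app (op X)) (homYonedaEquiv X A u) := by
  simp [homYonedaEquiv, Iso.homFromEquiv, yonedaEquiv_comp]

/-- Hom out of a yoneda object, as a functor. -/
noncomputable def coyonedaYonedaIso (X : C) :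
    coyoneda.obj (op (Ind.yoneda.obj X)) ≅
      Ind.inclusion C ⋙ (evaluation Cᵒᵖ (Type v)).obj (op X) :=
  NatIso.ofComponents (fun A => Equiv.toIso (homYonedaEquiv X A)) (fun {A B} g => by
    ext u
    exact homYonedaEquiv_comp X u g)

instance (X : C) (J : Type v) [SmallCategory J] [IsFiltered J] :
    PreservesColimitsOfShape J (coyoneda.obj (op (Ind.yoneda.obj X))) :=
  preservesColimitsOfShape_of_natIso (coyonedaYonedaIso X).symm

end compact

section abelian

variable {C : Type v} [SmallCategory C] [Abelian C]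

instance yonedaAdditive : (Ind.yoneda (C := C)).Additive := by
  haveI : PreservesBinaryBiproducts (Ind.yoneda (C := C)) :=
    preservesBinaryBiproducts_of_preservesBinaryProducts _
  exact Functor.additive_of_preservesBinaryBiproducts _

/-- An epimorphism onto a representable ind-object is already epi on a representable piece. -/
theorem exists_yoneda_epi {A : Ind C} {X : C} (f : A ⟶ Ind.yoneda.obj X) [Epi f] :
    ∃ (Y : C) (g : Ind.yoneda.obj Y ⟶ A) (ψ : Y ⟶ X), Epi ψ ∧ g ≫ f = Ind.yoneda.map ψ := by
  let P := A.presentation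
  let F : P.I ⥤ C := P.F
  let iso : colimit (F ⋙ Ind.yoneda) ≅ A := Ind.colimitPresentationCompYoneda A
  let c : ∀ i : P.I, Ind.yoneda.obj (F.obj i) ⟶ A :=
    fun i => colimit.ι (F ⋙ Ind.yoneda) i ≫ iso.hom
  have hc : ∀ {i j : P.I} (a : i ⟶ j), Ind.yoneda.map (F.map a) ≫ c j = c i := fun {i j} a => by
    have := colimit.w (F ⋙ Ind.yoneda) a
    simp only [c, ← Category.assoc]
    rw [← this]
    rfl
  let φ : ∀ i : P.I, F.obj i ⟶ X := fun i => Ind.yoneda.preimage (c i ≫ f)
  have hφy : ∀ i, Ind.yoneda.map (φ i) = c i ≫ f := fun i => Functor.map_preimage _ _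
  have hφ : ∀ {i j : P.I} (a : i ⟶ j), F.map a ≫ φ j = φ i := fun {i j} a => by
    apply Ind.yoneda.map_injective
    rw [Functor.map_comp, hφy, hφy, ← Category.assoc, hc]
  -- the cokernel functor
  let K : P.I ⥤ C :=
    { obj := fun i => cokernel (φ i)
      map := fun {i j} a => cokernel.desc (φ i) (cokernel.π (φ j)) (by
        rw [← hφ a, Category.assoc, cokernel.condition, comp_zero])
      map_id := fun i => by
        apply coequalizer.hom_ext
        simp
      map_comp := fun {i j k} a b => by
        apply coequalizer.hom_ext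
        simp }
  have hκ : ∀ {i j : P.I} (a : i ⟶ j), cokernel.π (φ i) ≫ K.map a = cokernel.π (φ j) :=
    fun {i j} a => cokernel.π_desc _ _ _
  let D : P.I ⥤ Ind C := K ⋙ Ind.yoneda
  let t : ∀ i : P.I, Ind.yoneda.obj X ⟶ colimit D :=
    fun i => Ind.yoneda.map (cokernel.π (φ i)) ≫ colimit.ι D i
  have ht : ∀ {i j : P.I} (a : i ⟶ j), t i = t j := fun {i j} a => by
    have h1 : colimit.ι D i = D.map a ≫ colimit.ι D j := (colimit.w D a).symm
    change Ind.yoneda.map (cokernel.π (φ i)) ≫ colimit.ι D i = _
    rw [h1, ← Category.assoc]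
    change (Ind.yoneda.map (cokernel.π (φ i)) ≫ Ind.yoneda.map (K.map a)) ≫ _ = _
    rw [← Functor.map_comp, hκ]
  have ht' : ∀ i j : P.I, t i = t j := fun i j =>
    (ht (IsFiltered.leftToMax i j)).trans (ht (IsFiltered.rightToMax i j)).symm
  have hzero : ∀ i : P.I, t i = 0 := fun i => by
    rw [← cancel_epi f, ← cancel_epi iso.hom, comp_zero, comp_zero]
    apply colimit.hom_ext
    intro j
    rw [comp_zero, ← Category.assoc, ← Category.assoc]
    change (c j ≫ f) ≫ t i = 0
    rw [ht' i j, ← hφy]
    change Ind.yoneda.map (φ j) ≫ Ind.yoneda.map (cokernel.π (φ j)) ≫ colimit.ι D j = 0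
    rw [← Category.assoc, ← Functor.map_comp, cokernel.condition, Functor.map_zero, zero_comp]
  obtain ⟨i₀⟩ : Nonempty P.I := IsFiltered.nonempty
  have h0 : Ind.yoneda.map (cokernel.π (φ i₀)) ≫ (colimit.cocone D).ι.app i₀ =
      (0 : Ind.yoneda.obj X ⟶ D.obj i₀) ≫ (colimit.cocone D).ι.app i₀ := by
    rw [zero_comp]
    exact hzero i₀
  obtain ⟨j, a, ha⟩ := Limits.exists_eq_of_preservesColimit_coyoneda_self
    (colimit.isColimit D) _ _ h0
  rw [zero_comp] at ha
  have hπ : cokernel.π (φ j) = 0 := by
    apply Ind.yoneda.map_injective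
    rw [Functor.map_zero, ← hκ a, Functor.map_comp]
    exact ha
  haveI : Epi (φ j) := Abelian.epi_of_cokernel_π_eq_zero _ hπ
  exact ⟨F.obj j, c j, φ j, inferInstance, (hφy j).symm⟩

end abelian

end Groth.Agent.Lib.Helper19.IndCof
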