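import Groth.Agent.Lib.Helper19IndCofA

/-!
# The representable ind-objects form a thick subcategory of `Ind C`
-/

set_option autoImplicit false
set_option linter.style.haveILetI false

universe v

open CategoryTheory CategoryTheory.Limits Opposite ZeroObject

namespace Groth.Agent.Lib.Helper19.IndCof

/-- The Yoneda embedding into ind-objects, with explicit category. -/
noncomputable abbrev yon (C : Type v) [SmallCategory C] : C ⥤ Ind C := Ind.yoneda

variable {C : Type v} [SmallCategory C] [Abelian C]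


/-- Separation by representables. -/
theorem eq_zero_of_yoneda {A Z : Ind C} (h : A ⟶ Z)
    (hh : ∀ (X : C) (u : (yon C).obj X ⟶ A), u ≫ h = 0) : h = 0 := by
  apply Ind.isSeparating_range_yoneda (C := C) h 0
  rintro G ⟨X⟩ u
  rw [comp_zero]
  exact hh X u

theorem essImage_of_isZero {A : Ind C} (hA : IsZero A) : (yon C).essImage A := by
  have h0 : IsZero ((yon C).obj (0 : C)) := Functor.map_isZero (yon C) (isZero_zero C)
  exact ⟨0, ⟨h0.iso hA⟩⟩

theorem essImage_kernel {A B : Ind C} (f : A ⟶ B) (hA : (yon C).essImage A) (hB : (yon C).essImage B) :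
    (yon C).essImage (kernel f) := by
  obtain ⟨X, ⟨eA⟩⟩ := hA
  obtain ⟨Y, ⟨eB⟩⟩ := hB
  let φ : X ⟶ Y := (yon C).preimage (eA.hom ≫ f ≫ eB.inv)
  have hφ : (yon C).map φ = eA.hom ≫ f ≫ eB.inv := Functor.map_preimage _ _
  have e1 : kernel f ≅ kernel ((yon C).map φ) := kernel.mapIso f ((yon C).map φ) eA.symm eB.symm (by
    rw [hφ]
    simp)
  exact ⟨kernel φ, ⟨(PreservesKernel.iso (yon C) φ) ≪≫ e1.symm⟩⟩

theorem essImage_cokernel {A B : Ind C} (f : A ⟶ B) (hA : (yon C).essImage A) (hB : (yon C).essImage B) :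
    (yon C).essImage (cokernel f) := by
  obtain ⟨X, ⟨eA⟩⟩ := hA
  obtain ⟨Y, ⟨eB⟩⟩ := hB
  let φ : X ⟶ Y := (yon C).preimage (eA.hom ≫ f ≫ eB.inv)
  have hφ : (yon C).map φ = eA.hom ≫ f ≫ eB.inv := Functor.map_preimage _ _
  have e1 : cokernel f ≅ cokernel ((yon C).map φ) := cokernel.mapIso f ((yon C).map φ) eA.symm eB.symm (by
    rw [hφ]
    simp)
  exact ⟨cokernel φ, ⟨(PreservesCokernel.iso (yon C) φ) ≪≫ e1.symm⟩⟩

theorem essImage_biprod {A B : Ind C} (hA : (yon C).essImage A) (hB : (yon C).essImage B) :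
    (yon C).essImage (A ⊞ B) := by
  obtain ⟨X, ⟨eA⟩⟩ := hA
  obtain ⟨Y, ⟨eB⟩⟩ := hB
  haveI : PreservesBinaryBiproducts (yon C) := preservesBinaryBiproducts_of_preservesBinaryProducts _
  exact ⟨X ⊞ Y, ⟨(Functor.mapBiprod (yon C) X Y) ≪≫ biprod.mapIso eA eB⟩⟩

/-- The representables are closed under extensions in `Ind C`. -/
theorem essImage_of_shortExact (S : ShortComplex (Ind C)) (hS : S.ShortExact)
    (h1 : (yon C).essImage S.X₁) (h3 : (yon C).essImage S.X₃) : (yon C).essImage S.X₂ := by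
  haveI := hS.mono_f
  haveI := hS.epi_g
  obtain ⟨X'', ⟨e''⟩⟩ := h3
  let f : S.X₂ ⟶ (yon C).obj X'' := S.g ≫ e''.inv
  haveI : Epi f := epi_comp _ _
  obtain ⟨Y, g, ψ, hψ, hg⟩ := exists_yoneda_epi f
  let k : kernel ψ ⟶ Y := kernel.ι ψ
  have hk0 : ((yon C).map k ≫ g) ≫ S.g = 0 := by
    rw [← cancel_mono e''.inv, zero_comp, Category.assoc, Category.assoc]
    change (yon C).map k ≫ g ≫ f = 0
    rw [hg, ← Functor.map_comp, kernel.condition, Functor.map_zero]
  let w : (yon C).obj (kernel ψ) ⟶ S.X₁ := hS.exact.lift ((yon C).map k ≫ g) hk0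
  have hw : w ≫ S.f = (yon C).map k ≫ g := hS.exact.lift_f _ _
  -- the presentation of `S.X₂`
  let m : (yon C).obj (kernel ψ) ⟶ (yon C).obj Y ⊞ S.X₁ := biprod.lift ((yon C).map k) (-w)
  let d : (yon C).obj Y ⊞ S.X₁ ⟶ S.X₂ := biprod.desc g S.f
  have hmd : m ≫ d = 0 := by
    simp only [m, d, biprod.lift_desc, Preadditive.neg_comp, hw]
    abel
  let T : ShortComplex (Ind C) := ShortComplex.mk m d hmd
  have hgSg : Epi (g ≫ S.g) := by
    have : g ≫ S.g = (yon C).map ψ ≫ e''.hom := by
      rw [← hg]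
      simp [f]
    rw [this]
    haveI : Epi ((yon C).map ψ) := inferInstance
    exact epi_comp _ _
  haveI : Epi T.g := by
    change Epi d
    apply Preadditive.epi_of_cancel_zero
    intro R h hh
    have h1 : g ≫ h = 0 := by
      have := congrArg (fun t => biprod.inl ≫ t) hh
      simpa [d] using this
    have h2 : S.f ≫ h = 0 := by
      have := congrArg (fun t => biprod.inr ≫ t) hh
      simpa [d] using this
    have h3 : S.g ≫ hS.exact.desc h h2 = h := hS.exact.g_desc _ _
    have h4 : (g ≫ S.g) ≫ hS.exact.desc h h2 = 0 := by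
      rw [Category.assoc, h3, h1]
    have h5 : hS.exact.desc h h2 = 0 := by
      rw [← cancel_epi (g ≫ S.g), h4, comp_zero]
    rw [← h3, h5, comp_zero]
  have hT : T.Exact := by
    rw [ShortComplex.exact_iff_exact_up_to_refinements]
    intro P x₂ hx₂
    let a : P ⟶ (yon C).obj Y := x₂ ≫ biprod.fst
    let b : P ⟶ S.X₁ := x₂ ≫ biprod.snd
    have hx : x₂ = biprod.lift a b := by
      apply biprod.hom_ext <;> simp [a, b]
    have hab : a ≫ g + b ≫ S.f = 0 := by
      have : x₂ ≫ d = a ≫ g + b ≫ S.f := by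
        rw [hx]
        simp [d]
      rw [← this]
      exact hx₂
    have haψ : a ≫ (yon C).map ψ = 0 := by
      rw [← hg, ← Category.assoc]
      have h1 : a ≫ g = -(b ≫ S.f) := eq_neg_of_add_eq_zero_left hab
      rw [h1]
      simp [f]
    have hlim : IsLimit (KernelFork.ofι ((yon C).map k) (by
        rw [← Functor.map_comp, kernel.condition, Functor.map_zero] :
        (yon C).map k ≫ (yon C).map ψ = 0)) :=
      isLimitForkMapOfIsLimit' (yon C) (kernel.condition ψ) (kernelIsKernel ψ)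
    obtain ⟨a', ha'⟩ := KernelFork.IsLimit.lift' hlim a haψ
    have ha'' : a' ≫ (yon C).map k = a := ha'
    have h1 : (a' ≫ w) ≫ S.f = a ≫ g := by
      rw [Category.assoc, hw, ← Category.assoc, ha'']
    have hb : b = -(a' ≫ w) := by
      rw [← cancel_mono S.f, Preadditive.neg_comp, h1]
      exact eq_neg_of_add_eq_zero_right hab
    refine ⟨P, 𝟙 P, inferInstance, a', ?_⟩
    rw [Category.id_comp, hx]
    change _ = a' ≫ m
    apply biprod.hom_ext
    · simp [m, ha'']
    · simp [m, hb]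
  have hcok : IsColimit (CokernelCofork.ofπ T.g T.zero) := hT.gIsCokernel
  have e : cokernel m ≅ S.X₂ :=
    IsColimit.coconePointUniqueUpToIso (cokernelIsCokernel m) hcok
  exact Functor.essImage.ofIso e
    (essImage_cokernel m ((yon C).obj_mem_essImage _) (essImage_biprod ((yon C).obj_mem_essImage _) h1))

end Groth.Agent.Lib.Helper19.IndCof
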