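import Groth.Agent.Lib.Helper19IndCofB

/-!
# Thick five-term lemma, descending chain condition on representable subobjects
-/

set_option autoImplicit false
set_option linter.style.haveILetI false

universe v u

open CategoryTheory CategoryTheory.Limits Opposite ZeroObject

namespace Groth.Agent.Lib.Helper19.IndCof

section abelianGeneral

variable {𝒜 : Type u} [Category.{v} 𝒜] [Abelian 𝒜]

/-- If the image of `f` is contained in the image of `g` then `f` factors through `g` up to a
refinement. -/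
theorem exists_refinement_of_image_le {X Y Z : 𝒜} (f : X ⟶ Z) (g : Y ⟶ Z)
    (h : imageSubobject f ≤ imageSubobject g) :
    ∃ (P : 𝒜) (e : P ⟶ X) (_ : Epi e) (t : P ⟶ Y), e ≫ f = t ≫ g := by
  let x : X ⟶ ((imageSubobject g : Subobject Z) : 𝒜) :=
    factorThruImageSubobject f ≫ Subobject.ofLE _ _ h
  obtain ⟨P, e, he, t, ht⟩ := surjective_up_to_refinements_of_epi (factorThruImageSubobject g) x
  refine ⟨P, e, he, t, ?_⟩
  have h1 : x ≫ (imageSubobject g).arrow = f := by
    simp only [x, Category.assoc, Subobject.ofLE_arrow, imageSubobject_arrow_comp]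
  rw [← h1, ← Category.assoc, ht, Category.assoc, imageSubobject_arrow_comp]

end abelianGeneral

variable {C : Type v} [SmallCategory C] [Abelian C]

/-- Five-term lemma for the thick subcategory of representables. -/
theorem essImage_of_exact_five {M₁ M₂ M₃ M₄ M₅ : Ind C} (a : M₁ ⟶ M₂) (b : M₂ ⟶ M₃)
    (c : M₃ ⟶ M₄) (d : M₄ ⟶ M₅) (wab : a ≫ b = 0) (wbc : b ≫ c = 0) (wcd : c ≫ d = 0)
    (h2 : (ShortComplex.mk a b wab).Exact) (h3 : (ShortComplex.mk b c wbc).Exact)
    (h4 : (ShortComplex.mk c d wcd).Exact)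
    (e1 : (yon C).essImage M₁) (e2 : (yon C).essImage M₂) (e4 : (yon C).essImage M₄)
    (e5 : (yon C).essImage M₅) : (yon C).essImage M₃ := by
  -- the quotient side
  let ℓ : M₃ ⟶ kernel d := kernel.lift d c wcd
  haveI hℓ : Epi ℓ := (ShortComplex.exact_iff_epi_kernel_lift (ShortComplex.mk c d wcd)).1 h4
  have hℓι : ℓ ≫ kernel.ι d = c := kernel.lift_ι _ _ _
  have w : kernel.ι c ≫ ℓ = 0 := by
    rw [← cancel_mono (kernel.ι d), Category.assoc, hℓι, kernel.condition, zero_comp]
  let S : ShortComplex (Ind C) := ShortComplex.mk (kernel.ι c) ℓ w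
  have hSex : S.Exact := by
    rw [ShortComplex.exact_iff_exact_up_to_refinements]
    intro P x₂ hx₂
    have hx : x₂ ≫ c = 0 := by
      rw [← hℓι, ← Category.assoc]
      change (x₂ ≫ ℓ) ≫ _ = 0
      have : x₂ ≫ ℓ = 0 := hx₂
      rw [this, zero_comp]
    exact ⟨P, 𝟙 P, inferInstance, kernel.lift c x₂ hx, by simp [S]⟩
  have hS : S.ShortExact :=
    { exact := hSex
      mono_f := by change Mono (kernel.ι c); infer_instance
      epi_g := hℓ }
  -- the sub side
  have wd : a ≫ b = 0 := wab
  let u₀ : cokernel a ⟶ M₃ := cokernel.desc a b wab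
  haveI hu₀ : Mono u₀ :=
    (ShortComplex.exact_iff_mono_cokernel_desc (ShortComplex.mk a b wab)).1 h2
  have hu₀c : u₀ ≫ c = 0 := by
    apply coequalizer.hom_ext
    simp [u₀, wbc]
  let u : cokernel a ⟶ kernel c := kernel.lift c u₀ hu₀c
  have huι : u ≫ kernel.ι c = u₀ := kernel.lift_ι _ _ _
  haveI : Mono u := mono_of_mono_fac huι
  haveI hb : Epi (kernel.lift c b wbc) :=
    (ShortComplex.exact_iff_epi_kernel_lift (ShortComplex.mk b c wbc)).1 h3
  have hfac : cokernel.π a ≫ u = kernel.lift c b wbc := by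
    rw [← cancel_mono (kernel.ι c), Category.assoc, huι, kernel.lift_ι]
    simp [u₀]
  haveI : Epi u := epi_of_epi_fac hfac
  haveI : IsIso u := isIso_of_mono_of_epi u
  have ek : (yon C).essImage (kernel c) :=
    Functor.essImage.ofIso (asIso u) (essImage_cokernel a e1 e2)
  exact essImage_of_shortExact S hS ek (essImage_kernel d e4 e5)

/-- The image of a morphism between representables is representable. -/
theorem essImage_imageSubobject {A B : Ind C} (f : A ⟶ B) (hA : (yon C).essImage A)
    (hB : (yon C).essImage B) :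
    (yon C).essImage ((imageSubobject f : Subobject B) : Ind C) := by
  have h1 : (yon C).essImage (Abelian.image f) :=
    essImage_kernel (cokernel.π f) hB (essImage_cokernel f hA hB)
  exact Functor.essImage.ofIso ((Abelian.imageIsoImage f) ≪≫ (imageSubobjectIso f).symm) h1

/-- Descending chain condition on representable subobjects of a representable ind-object. -/
theorem dcc_of_essImage (hart : ∀ X : C, IsArtinianObject X) {T : Ind C}
    (hT : (yon C).essImage T) (S : ℕ → Subobject T) (hS : Antitone S)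
    (hSe : ∀ k, (yon C).essImage ((S k : Subobject T) : Ind C)) :
    ∃ N : ℕ, ∀ k : ℕ, N ≤ k → S k = S N := by
  obtain ⟨X, ⟨e⟩⟩ := hT
  choose Z ε using fun k => hSe k
  let ε' : ∀ k, (yon C).obj (Z k) ≅ ((S k : Subobject T) : Ind C) := fun k => (ε k).some
  let σ : ∀ k, Z k ⟶ X := fun k => (yon C).preimage ((ε' k).hom ≫ (S k).arrow ≫ e.inv)
  have hσ : ∀ k, (yon C).map (σ k) = (ε' k).hom ≫ (S k).arrow ≫ e.inv :=
    fun k => Functor.map_preimage _ _
  have hσ' : ∀ k, (ε' k).hom ≫ (S k).arrow = (yon C).map (σ k) ≫ e.hom := fun k => by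
    rw [hσ]
    simp
  haveI hmono : ∀ k, Mono (σ k) := fun k => by
    apply (yon C).mono_of_mono_map
    rw [hσ]
    infer_instance
  let S' : ℕ → Subobject X := fun k => Subobject.mk (σ k)
  have hS' : ∀ k l, k ≤ l → S' l ≤ S' k := fun k l hkl => by
    let τ : Z l ⟶ Z k :=
      (yon C).preimage ((ε' l).hom ≫ Subobject.ofLE _ _ (hS hkl) ≫ (ε' k).inv)
    apply Subobject.mk_le_mk_of_comm τ
    apply (yon C).map_injective
    rw [Functor.map_comp, Functor.map_preimage, hσ k, hσ l]
    simp
  haveI := hart X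
  let f : ℕ →o (Subobject X)ᵒᵈ :=
    ⟨fun k => OrderDual.toDual (S' k), fun k l hkl => hS' k l hkl⟩
  obtain ⟨N, hN⟩ := antitone_chain_condition_of_isArtinianObject f
  refine ⟨N, fun k hk => le_antisymm (hS hk) ?_⟩
  have h1 : S' N = S' k := congrArg OrderDual.ofDual (hN k hk)
  have h2 : Subobject.mk (σ N) ≤ Subobject.mk (σ k) := le_of_eq h1
  let τ' : Z N ⟶ Z k := Subobject.ofMkLEMk (σ N) (σ k) h2
  have hτ' : τ' ≫ σ k = σ N := Subobject.ofMkLEMk_comp h2
  apply Subobject.le_of_comm ((ε' N).inv ≫ (yon C).map τ' ≫ (ε' k).hom)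
  rw [Category.assoc, Category.assoc, hσ' k, ← Category.assoc ((yon C).map τ'),
    ← Functor.map_comp, hτ', ← hσ' N]
  simp

end Groth.Agent.Lib.Helper19.IndCof
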