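import Groth.Agent.Lib.Helper19IndCofC

/-!
# Torsion subobjects for multiplication by `q` and the core lemma on `A / qA`
-/

set_option autoImplicit false
set_option linter.style.haveILetI false

universe v u

open CategoryTheory CategoryTheory.Limits Opposite ZeroObject

namespace Groth.Agent.Lib.Helper19.IndCof

section abelianGeneral

variable {𝒜 : Type u} [Category.{v} 𝒜] [Abelian 𝒜]

lemma comp_nsmul_id {P A : 𝒜} (x : P ⟶ A) (n : ℕ) : x ≫ (n • 𝟙 A) = n • x := by
  rw [Preadditive.comp_nsmul, Category.comp_id]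

lemma nsmul_id_comp {A Z : 𝒜} (x : A ⟶ Z) (n : ℕ) : (n • 𝟙 A) ≫ x = n • x := by
  rw [Preadditive.nsmul_comp, Category.id_comp]

lemma nsmul_id_comm {A B : 𝒜} (f : A ⟶ B) (n : ℕ) : (n • 𝟙 A) ≫ f = f ≫ (n • 𝟙 B) := by
  rw [nsmul_id_comp, comp_nsmul_id]

variable (A : 𝒜) (q : ℕ)

/-- The `q^k`-torsion of `A`. -/
noncomputable abbrev tor (k : ℕ) : 𝒜 := kernel ((q ^ k) • 𝟙 A)

/-- The inclusion of the `q^k`-torsion. -/
noncomputable abbrev torι (k : ℕ) : tor A q k ⟶ A := kernel.ι ((q ^ k) • 𝟙 A)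

lemma torι_nsmul (k : ℕ) : (q ^ k) • torι A q k = 0 := by
  rw [← comp_nsmul_id]
  exact kernel.condition _

/-- Lifting a morphism killed by `q^k` to the torsion. -/
noncomputable def torLift {P : 𝒜} (k : ℕ) (x : P ⟶ A) (hx : (q ^ k) • x = 0) : P ⟶ tor A q k :=
  kernel.lift _ x (by rw [comp_nsmul_id]; exact hx)

@[reassoc (attr := simp)]
lemma torLift_ι {P : 𝒜} (k : ℕ) (x : P ⟶ A) (hx : (q ^ k) • x = 0) :
    torLift A q k x hx ≫ torι A q k = x :=
  kernel.lift_ι _ _ _

/-- Inclusion of torsion subobjects. -/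
noncomputable def torIncl {k l : ℕ} (h : k ≤ l) : tor A q k ⟶ tor A q l :=
  torLift A q l (torι A q k) (by
    obtain ⟨d, rfl⟩ := Nat.exists_eq_add_of_le h
    rw [pow_add, mul_comm, mul_smul, torι_nsmul, smul_zero])

@[reassoc (attr := simp)]
lemma torIncl_ι {k l : ℕ} (h : k ≤ l) : torIncl A q h ≫ torι A q l = torι A q k :=
  torLift_ι _ _ _ _ _

/-- Multiplication by `q^k` from the `q^(k+1)`-torsion to the `q`-torsion. -/
noncomputable def torR (k : ℕ) : tor A q (k + 1) ⟶ tor A q 1 :=
  torLift A q 1 ((q ^ k) • torι A q (k + 1)) (by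
    rw [← mul_smul, pow_one, ← pow_succ', torι_nsmul])

@[reassoc (attr := simp)]
lemma torR_ι (k : ℕ) : torR A q k ≫ torι A q 1 = (q ^ k) • torι A q (k + 1) :=
  torLift_ι _ _ _ _ _

/-- Multiplication by `q` from the `q^(k+1)`-torsion to the `q^k`-torsion. -/
noncomputable def torM (k : ℕ) : tor A q (k + 1) ⟶ tor A q k :=
  torLift A q k (q • torι A q (k + 1)) (by
    rw [← mul_smul, ← pow_succ, torι_nsmul])

@[reassoc (attr := simp)]
lemma torM_ι (k : ℕ) : torM A q k ≫ torι A q k = q • torι A q (k + 1) :=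
  torLift_ι _ _ _ _ _

lemma torR_succ (k : ℕ) : torR A q (k + 1) = torM A q (k + 1) ≫ torR A q k := by
  rw [← cancel_mono (torι A q 1), Category.assoc, torR_ι, torR_ι, Preadditive.comp_nsmul,
    torM_ι, ← mul_smul, ← pow_succ]

/-- The projection to `A / qA`. -/
noncomputable abbrev cokπ : A ⟶ cokernel (q • 𝟙 A) := cokernel.π (q • 𝟙 A)

lemma nsmul_cokπ {P : 𝒜} (x : P ⟶ A) : (q • x) ≫ cokπ A q = 0 := by
  have h : q • x = x ≫ (q • 𝟙 A) := (comp_nsmul_id x q).symm
  rw [h, Category.assoc, cokernel.condition, comp_zero]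

lemma torM_cokπ (k : ℕ) : torM A q k ≫ torι A q k ≫ cokπ A q = 0 := by
  rw [← Category.assoc, torM_ι, nsmul_cokπ]

/-- The `q^k`-torsion meets `qA` in `q` times the `q^(k+1)`-torsion. -/
theorem exact_torM (k : ℕ) :
    (ShortComplex.mk (torM A q k) (torι A q k ≫ cokπ A q) (torM_cokπ A q k)).Exact := by
  rw [ShortComplex.exact_iff_exact_up_to_refinements]
  intro P x hx
  have hx' : (x ≫ torι A q k) ≫ cokπ A q = 0 := by
    rw [Category.assoc]
    exact hx
  obtain ⟨P', e, he, t, ht⟩ :=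
    (ShortComplex.exact_iff_exact_up_to_refinements _).1
      (ShortComplex.exact_cokernel (q • 𝟙 A)) (x ≫ torι A q k) hx'
  have ht' : e ≫ x ≫ torι A q k = q • t := ht.trans (comp_nsmul_id t q)
  have hkill : (q ^ (k + 1)) • t = 0 := by
    rw [pow_succ, mul_smul, ← ht', ← Preadditive.comp_nsmul, ← Preadditive.comp_nsmul,
      torι_nsmul, comp_zero, comp_zero]
  refine ⟨P', e, he, torLift A q (k + 1) t hkill, ?_⟩
  rw [← cancel_mono (torι A q k)]
  change (e ≫ x) ≫ torι A q k = (torLift A q (k + 1) t hkill ≫ torM A q k) ≫ torι A q k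
  rw [Category.assoc, Category.assoc, torM_ι, Preadditive.comp_nsmul, torLift_ι, ht']

/-- Propagation step: if the images of `q^k` and `q^(k+1)` in the `q`-torsion agree, a map
killing the image of the `q^k`-torsion in `A / qA` kills that of the `q^(k+1)`-torsion. -/
theorem step_of_image_le (k : ℕ)
    (h : imageSubobject (torR A q k) ≤ imageSubobject (torR A q (k + 1)))
    {Z : 𝒜} (g : cokernel (q • 𝟙 A) ⟶ Z) (hg : torι A q k ≫ cokπ A q ≫ g = 0) :
    torι A q (k + 1) ≫ cokπ A q ≫ g = 0 := by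
  obtain ⟨P, e, he, t, ht⟩ := exists_refinement_of_image_le _ _ h
  let z : P ⟶ A := e ≫ torι A q (k + 1) - q • (t ≫ torι A q (k + 2))
  have hz : (q ^ k) • z = 0 := by
    have h1 : (q ^ k) • (e ≫ torι A q (k + 1)) = (e ≫ torR A q k) ≫ torι A q 1 := by
      rw [Category.assoc, torR_ι, Preadditive.comp_nsmul]
    have h2 : (q ^ k) • (q • (t ≫ torι A q (k + 2))) =
        (t ≫ torR A q (k + 1)) ≫ torι A q 1 := by
      rw [Category.assoc, torR_ι, Preadditive.comp_nsmul, ← mul_smul, ← pow_succ]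
    simp only [z, smul_sub]
    rw [h1, h2, ht, sub_self]
  have hez : e ≫ torι A q (k + 1) = z + q • (t ≫ torι A q (k + 2)) := by
    simp only [z]
    abel
  have h1 : (q • (t ≫ torι A q (k + 2))) ≫ cokπ A q ≫ g = 0 := by
    rw [← Category.assoc, nsmul_cokπ, zero_comp]
  have h2 : z ≫ cokπ A q ≫ g = 0 := by
    rw [← torLift_ι A q k z hz, Category.assoc, hg, comp_zero]
  rw [← cancel_epi e, comp_zero, ← Category.assoc, hez, Preadditive.add_comp, h1, h2, add_zero]

end abelianGeneral

section core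

variable {C : Type v} [SmallCategory C] [Abelian C]

/-- Core lemma: if all `q^k`-torsion parts of `A` are representable and `A / qA` is exhausted by
the images of the torsion parts, then `A / qA` is representable and covered by one torsion
part. -/
theorem core_cokernel (hart : ∀ X : C, IsArtinianObject X) (A : Ind C) (q : ℕ)
    (hA : ∀ k : ℕ, (yon C).essImage (tor A q k))
    (hloc : ∀ (X : C) (u : (yon C).obj X ⟶ A), ∃ (k : ℕ) (u' : (yon C).obj X ⟶ tor A q k),
      u ≫ cokπ A q = u' ≫ torι A q k ≫ cokπ A q) :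
    ∃ N : ℕ, Epi (torι A q N ≫ cokπ A q) ∧ (yon C).essImage (cokernel (q • 𝟙 A)) := by
  let S : ℕ → Subobject (tor A q 1) := fun k => imageSubobject (torR A q k)
  have hS : Antitone S := antitone_nat_of_succ_le (fun k => by
    change imageSubobject (torR A q (k + 1)) ≤ imageSubobject (torR A q k)
    rw [torR_succ]
    exact imageSubobject_comp_le _ _)
  obtain ⟨N, hN⟩ := dcc_of_essImage hart (hA 1) S hS
    (fun k => essImage_imageSubobject _ (hA (k + 1)) (hA 1))
  have hprop : ∀ {Z : Ind C} (g : cokernel (q • 𝟙 A) ⟶ Z),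
      torι A q N ≫ cokπ A q ≫ g = 0 → ∀ k, torι A q k ≫ cokπ A q ≫ g = 0 := by
    intro Z g hg k
    rcases le_total k N with hk | hk
    · rw [← torIncl_ι A q hk, Category.assoc, hg, comp_zero]
    · induction k, hk using Nat.le_induction with
      | base => exact hg
      | succ k hk ih =>
        apply step_of_image_le A q k _ g ih
        change S k ≤ S (k + 1)
        rw [hN k hk, hN (k + 1) (Nat.le_succ_of_le hk)]
  haveI hepi : Epi (torι A q N ≫ cokπ A q) := by
    apply Preadditive.epi_of_cancel_zero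
    intro Z g hg
    rw [Category.assoc] at hg
    have h1 := hprop g hg
    rw [← cancel_epi (cokπ A q), comp_zero]
    apply eq_zero_of_yoneda
    intro X u
    obtain ⟨k, u', hu'⟩ := hloc X u
    rw [← Category.assoc, hu', Category.assoc, Category.assoc, h1 k, comp_zero]
  refine ⟨N, hepi, ?_⟩
  have hcok : IsColimit (CokernelCofork.ofπ (torι A q N ≫ cokπ A q) (torM_cokπ A q N)) :=
    (exact_torM A q N).gIsCokernel
  have e : cokernel (torM A q N) ≅ cokernel (q • 𝟙 A) :=
    IsColimit.coconePointUniqueUpToIso (cokernelIsCokernel _) hcok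
  exact Functor.essImage.ofIso e (essImage_cokernel _ (hA (N + 1)) (hA N))

end core

end Groth.Agent.Lib.Helper19.IndCof
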