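import Groth.Agent.Lib.Helper19IndCofD

/-!
# Ind-objects of cofinite type for a prime power torsion category: cokernels and images
-/

set_option autoImplicit false
set_option linter.style.haveILetI false

universe v u

open CategoryTheory CategoryTheory.Limits Opposite ZeroObject

namespace Groth.Agent.Lib.Helper19.IndCof

section abelianGeneral

variable {𝒜 : Type u} [Category.{v} 𝒜] [Abelian 𝒜]

theorem imageSubobject_le_of_comp_cokernel_π_eq_zero {X Y Z : 𝒜} (f : X ⟶ Z) (g : Y ⟶ Z)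
    (h : f ≫ cokernel.π g = 0) : imageSubobject f ≤ imageSubobject g := by
  have h1 : imageSubobject g = kernelSubobject (cokernel.π g) :=
    (ShortComplex.exact_iff_image_eq_kernel
      (ShortComplex.mk g (cokernel.π g) (cokernel.condition g))).1 (ShortComplex.exact_cokernel g)
  rw [h1]
  exact imageSubobject_le f (factorThruKernelSubobject (cokernel.π g) f h)
    (factorThruKernelSubobject_comp_arrow _ _ _)

/-- If the `q^N`-torsion covers `A / qA` then the images of `q^n`, `n ≥ N`, agree. -/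
theorem imageSubobject_pow_eq_of_epi (A : 𝒜) (q N : ℕ) (hepi : Epi (torι A q N ≫ cokπ A q))
    (n : ℕ) (hn : N ≤ n) :
    imageSubobject ((q ^ n) • 𝟙 A) = imageSubobject ((q ^ N) • 𝟙 A) := by
  induction n, hn using Nat.le_induction with
  | base => rfl
  | succ n hn ih =>
    rw [← ih]
    apply le_antisymm
    · have h1 : (q ^ (n + 1)) • 𝟙 A = (q • 𝟙 A) ≫ ((q ^ n) • 𝟙 A) := by
        rw [nsmul_id_comp, ← mul_smul, ← pow_succ']
      rw [h1]
      exact imageSubobject_comp_le _ _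
    · apply imageSubobject_le_of_comp_cokernel_π_eq_zero
      let c := cokernel.π ((q ^ (n + 1)) • 𝟙 A)
      have h2 : (q • 𝟙 A) ≫ ((q ^ n) • 𝟙 A) ≫ c = 0 := by
        rw [← Category.assoc, nsmul_id_comp, ← mul_smul, ← pow_succ']
        exact cokernel.condition _
      have h3 : cokπ A q ≫ cokernel.desc (q • 𝟙 A) (((q ^ n) • 𝟙 A) ≫ c) h2 =
          ((q ^ n) • 𝟙 A) ≫ c := cokernel.π_desc _ _ _
      have hkill : (q ^ n) • torι A q N = 0 := by
        obtain ⟨d, hd⟩ := Nat.exists_eq_add_of_le hn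
        rw [hd, pow_add, mul_comm, mul_smul, torι_nsmul, smul_zero]
      have h4 : (torι A q N ≫ cokπ A q) ≫
          cokernel.desc (q • 𝟙 A) (((q ^ n) • 𝟙 A) ≫ c) h2 = 0 := by
        rw [Category.assoc, h3, ← Category.assoc, comp_nsmul_id, hkill, zero_comp]
      have h5 : cokernel.desc (q • 𝟙 A) (((q ^ n) • 𝟙 A) ≫ c) h2 = 0 := by
        rw [← cancel_epi (torι A q N ≫ cokπ A q), h4, comp_zero]
      rw [← h3, h5, comp_zero]

end abelianGeneral

section prime

variable {C : Type v} [SmallCategory C] [Abelian C]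

lemma nsmul_eq_zero_of_kills {X : C} {m : ℕ} (hm : m • 𝟙 X = 0) {A : Ind C}
    (u : (yon C).obj X ⟶ A) : m • u = 0 := by
  have h1 : m • 𝟙 ((yon C).obj X) = 0 := by
    have h0 : 𝟙 ((yon C).obj X) = (yon C).map (𝟙 X) := ((yon C).map_id X).symm
    rw [h0, ← Functor.map_nsmul, hm, Functor.map_zero]
  rw [← nsmul_id_comp, h1, zero_comp]

variable (hart : ∀ X : C, IsArtinianObject X) (p : ℕ)
  (htor : ∀ X : C, ∃ n : ℕ, (p ^ n) • 𝟙 X = 0)

include htor in
lemma hloc_pow (A : Ind C) (n : ℕ) (hn : 0 < n) (X : C) (u : (yon C).obj X ⟶ A) :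
    ∃ (k : ℕ) (u' : (yon C).obj X ⟶ tor A (p ^ n) k),
      u ≫ cokπ A (p ^ n) = u' ≫ torι A (p ^ n) k ≫ cokπ A (p ^ n) := by
  obtain ⟨j, hj⟩ := htor X
  have hu : (p ^ j) • u = 0 := nsmul_eq_zero_of_kills hj u
  have hu' : ((p ^ n) ^ j) • u = 0 := by
    obtain ⟨d, hd⟩ : ∃ d, n = d + 1 := ⟨n - 1, by omega⟩
    rw [hd, ← pow_mul, Nat.add_mul, one_mul, pow_add, mul_smul, hu, smul_zero]
  refine ⟨j, torLift A (p ^ n) j u hu', ?_⟩
  rw [torLift_ι_assoc]

include hart htor in
/-- Lib form of S14492. -/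
theorem essImage_cokernel_pow (A : Ind C)
    (hA : ∀ n : ℕ, (yon C).essImage (kernel ((p ^ n) • 𝟙 A))) (n : ℕ) :
    (yon C).essImage (cokernel ((p ^ n) • 𝟙 A)) := by
  rcases Nat.eq_zero_or_pos n with rfl | hn
  · haveI : Epi ((p ^ 0) • 𝟙 A) := by
      rw [pow_zero, one_smul]
      infer_instance
    exact essImage_of_isZero (isZero_cokernel_of_epi _)
  · obtain ⟨N, _, h⟩ := core_cokernel hart A (p ^ n) (fun k => by
      have := hA (n * k)
      rwa [pow_mul] at this) (hloc_pow p htor A n hn)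
    exact h

include hart htor in
/-- The `p^N`-torsion covers `A / pA` for some `N`. -/
theorem exists_epi_tor (A : Ind C)
    (hA : ∀ n : ℕ, (yon C).essImage (kernel ((p ^ n) • 𝟙 A))) :
    ∃ N : ℕ, Epi (torι A p N ≫ cokπ A p) := by
  obtain ⟨N, h, _⟩ := core_cokernel hart A p hA (fun X u => by
    obtain ⟨j, hj⟩ := htor X
    have hu : (p ^ j) • u = 0 := nsmul_eq_zero_of_kills hj u
    refine ⟨j, torLift A p j u hu, ?_⟩
    rw [torLift_ι_assoc])
  exact ⟨N, h⟩

include hart htor in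
/-- Lib form of S14494. -/
theorem image_pow_stabilizes (A : Ind C)
    (hA : ∀ n : ℕ, (yon C).essImage (kernel ((p ^ n) • 𝟙 A))) :
    ∃ N : ℕ, ∀ n : ℕ, N ≤ n →
      imageSubobject ((p ^ n) • 𝟙 A) = imageSubobject ((p ^ N) • 𝟙 A) := by
  obtain ⟨N, hN⟩ := exists_epi_tor hart p htor A hA
  exact ⟨N, fun n hn => imageSubobject_pow_eq_of_epi A p N hN n hn⟩

end prime

end Groth.Agent.Lib.Helper19.IndCof
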