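import Groth.Agent.Lib.Helper19IndCofE

/-!
# Ind-objects of cofinite type, general torsion: the cokernel of multiplication by `n`
-/

set_option autoImplicit false
set_option linter.style.haveILetI false

universe v u

open CategoryTheory CategoryTheory.Limits Opposite ZeroObject

namespace Groth.Agent.Lib.Helper19.IndCof

lemma exists_pow_sub_dvd (n n' : ℕ) (hn' : 0 < n') :
    ∃ k j : ℕ, 0 < j ∧ (n' : ℤ) ∣ (n : ℤ) ^ (k + j) - (n : ℤ) ^ k := by
  haveI : NeZero n' := ⟨Nat.pos_iff_ne_zero.1 hn'⟩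
  obtain ⟨a, b, hab, h⟩ := Finite.exists_ne_map_eq_of_infinite (fun k : ℕ => (n : ZMod n') ^ k)
  have key : ∀ a b : ℕ, a < b → (n : ZMod n') ^ a = (n : ZMod n') ^ b →
      ∃ k j : ℕ, 0 < j ∧ (n' : ℤ) ∣ (n : ℤ) ^ (k + j) - (n : ℤ) ^ k := by
    intro a b hlt h
    refine ⟨a, b - a, Nat.sub_pos_of_lt hlt, ?_⟩
    rw [Nat.add_sub_cancel' hlt.le, ← ZMod.intCast_zmod_eq_zero_iff_dvd]
    push_cast
    rw [h, sub_self]
  rcases lt_or_gt_of_ne hab with hlt | hlt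
  · exact key a b hlt h
  · exact key b a hlt h.symm

section general

variable {C : Type v} [SmallCategory C] [Abelian C]

lemma zsmul_eq_zero_of_dvd {X : C} {m : ℕ} (hm : m • 𝟙 X = 0) {A : Ind C}
    (u : (yon C).obj X ⟶ A) (z : ℤ) (hz : (m : ℤ) ∣ z) : z • u = 0 := by
  obtain ⟨c, rfl⟩ := hz
  rw [mul_comm, mul_smul, natCast_zsmul, nsmul_eq_zero_of_kills hm u, smul_zero]

variable (hart : ∀ X : C, IsArtinianObject X)
  (htor : ∀ X : C, ∃ n : ℕ, 0 < n ∧ n • 𝟙 X = 0)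

include htor in
lemma hloc_general (A : Ind C) (n : ℕ) (X : C) (u : (yon C).obj X ⟶ A) :
    ∃ (k : ℕ) (u' : (yon C).obj X ⟶ tor A n k),
      u ≫ cokπ A n = u' ≫ torι A n k ≫ cokπ A n := by
  obtain ⟨n', hn', hkill⟩ := htor X
  obtain ⟨k, j, hj, hdvd⟩ := exists_pow_sub_dvd n n' hn'
  have h0 : ((n : ℤ) ^ (k + j) - (n : ℤ) ^ k) • u = 0 := zsmul_eq_zero_of_dvd hkill u _ hdvd
  have h1 : (n ^ (k + j)) • u = (n ^ k) • u := by
    rw [sub_smul, sub_eq_zero] at h0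
    have e1 : ((n : ℤ) ^ (k + j)) • u = (n ^ (k + j)) • u := by
      rw [← natCast_zsmul]
      push_cast
      rfl
    have e2 : ((n : ℤ) ^ k) • u = (n ^ k) • u := by
      rw [← natCast_zsmul]
      push_cast
      rfl
    rw [← e1, ← e2, h0]
  let u₁ : (yon C).obj X ⟶ A := u - (n ^ j) • u
  have hu₁ : (n ^ k) • u₁ = 0 := by
    simp only [u₁, smul_sub]
    rw [← mul_smul, ← pow_add, h1, sub_self]
  refine ⟨k, torLift A n k u₁ hu₁, ?_⟩
  rw [torLift_ι_assoc]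
  have h2 : ((n ^ j) • u) ≫ cokπ A n = 0 := by
    obtain ⟨d, hd⟩ : ∃ d, j = d + 1 := ⟨j - 1, by omega⟩
    rw [hd, pow_succ', mul_smul]
    exact nsmul_cokπ A n _
  simp only [u₁, Preadditive.sub_comp]
  rw [h2, sub_zero]

include hart htor in
/-- Lib form of S14499. -/
theorem essImage_cokernel_nsmul (A : Ind C)
    (hA : ∀ n : ℕ, 0 < n → (yon C).essImage (kernel (n • 𝟙 A))) (n : ℕ) (hn : 0 < n) :
    (yon C).essImage (cokernel (n • 𝟙 A)) := by
  obtain ⟨N, _, h⟩ := core_cokernel hart A n (fun k => hA (n ^ k) (Nat.pow_pos hn))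
    (hloc_general htor A n)
  exact h

end general

end Groth.Agent.Lib.Helper19.IndCof
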