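import Groth.Agent.Lib.Helper19IndCofF

/-!
# Kernels and cokernels of morphisms between ind-objects of cofinite type
-/

set_option autoImplicit false
set_option linter.style.haveILetI false

universe v u

open CategoryTheory CategoryTheory.Limits Opposite ZeroObject

namespace Groth.Agent.Lib.Helper19.IndCof

section abelianGeneral

variable {𝒜 : Type u} [Category.{v} 𝒜] [Abelian 𝒜]

/-- The snake input attached to a morphism of short exact sequences. -/
noncomputable def snakeInputOfHom {S₁ S₂ : ShortComplex 𝒜} (h₁ : S₁.ShortExact)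
    (h₂ : S₂.ShortExact) (φ : S₁ ⟶ S₂) : ShortComplex.SnakeInput 𝒜 where
  L₀ :=
    { X₁ := kernel φ.τ₁
      X₂ := kernel φ.τ₂
      X₃ := kernel φ.τ₃
      f := kernel.map φ.τ₁ φ.τ₂ S₁.f S₂.f φ.comm₁₂
      g := kernel.map φ.τ₂ φ.τ₃ S₁.g S₂.g φ.comm₂₃
      zero := by
        rw [← cancel_mono (kernel.ι φ.τ₃)]
        simp }
  L₁ := S₁
  L₂ := S₂
  L₃ :=
    { X₁ := cokernel φ.τ₁
      X₂ := cokernel φ.τ₂
      X₃ := cokernel φ.τ₃
      f := cokernel.map φ.τ₁ φ.τ₂ S₁.f S₂.f φ.comm₁₂
      g := cokernel.map φ.τ₂ φ.τ₃ S₁.g S₂.g φ.comm₂₃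
      zero := by
        rw [← cancel_epi (cokernel.π φ.τ₁)]
        simp }
  v₀₁ :=
    { τ₁ := kernel.ι φ.τ₁
      τ₂ := kernel.ι φ.τ₂
      τ₃ := kernel.ι φ.τ₃ }
  v₁₂ := φ
  v₂₃ :=
    { τ₁ := cokernel.π φ.τ₁
      τ₂ := cokernel.π φ.τ₂
      τ₃ := cokernel.π φ.τ₃ }
  h₀ := by
    apply ShortComplex.isLimitOfIsLimitπ <;>
      apply (KernelFork.isLimitMapConeEquiv _ _).2 <;>
      exact kernelIsKernel _
  h₃ := by
    apply ShortComplex.isColimitOfIsColimitπ <;>
      apply (CokernelCofork.isColimitMapCoconeEquiv _ _).2 <;>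
      exact cokernelIsCokernel _
  L₁_exact := h₁.exact
  epi_L₁_g := h₁.epi_g
  L₂_exact := h₂.exact
  mono_L₂_f := h₂.mono_f

/-- Multiplication by `q` on a short complex. -/
noncomputable def nsmulHom (S : ShortComplex 𝒜) (q : ℕ) : S ⟶ S where
  τ₁ := q • 𝟙 S.X₁
  τ₂ := q • 𝟙 S.X₂
  τ₃ := q • 𝟙 S.X₃
  comm₁₂ := nsmul_id_comm S.f q
  comm₂₃ := nsmul_id_comm S.g q

/-- The kernel short exact sequence of a morphism. -/
theorem shortExact_kernel_image {A B : 𝒜} (f : A ⟶ B) :
    (ShortComplex.mk (kernel.ι f) (Abelian.factorThruImage f) (by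
      rw [← cancel_mono (Abelian.image.ι f), Category.assoc, Abelian.image.fac,
        kernel.condition, zero_comp])).ShortExact where
  exact := by
    rw [ShortComplex.exact_iff_exact_up_to_refinements]
    intro P x hx
    have hx' : x ≫ f = 0 := by
      rw [← Abelian.image.fac f, ← Category.assoc]
      have : x ≫ Abelian.factorThruImage f = 0 := hx
      rw [this, zero_comp]
    exact ⟨P, 𝟙 P, inferInstance, kernel.lift f x hx', by simp⟩
  mono_f := by change Mono (kernel.ι f); infer_instance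
  epi_g := by change Epi (Abelian.factorThruImage f); infer_instance

/-- The cokernel short exact sequence of a morphism. -/
theorem shortExact_image_cokernel {A B : 𝒜} (f : A ⟶ B) :
    (ShortComplex.mk (Abelian.image.ι f) (cokernel.π f) (kernel.condition _)).ShortExact where
  exact := ShortComplex.exact_kernel (cokernel.π f)
  mono_f := by change Mono (Abelian.image.ι f); infer_instance
  epi_g := by change Epi (cokernel.π f); infer_instance

/-- The `q`-torsion of a kernel is the kernel on `q`-torsion. -/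
noncomputable def kernelTorIso {A B : 𝒜} (f : A ⟶ B) (q : ℕ) :
    kernel (q • 𝟙 (kernel f)) ≅
      kernel (kernel.map (q • 𝟙 A) (q • 𝟙 B) f f (nsmul_id_comm f q)) where
  hom := kernel.lift _ (kernel.lift (q • 𝟙 A) (kernel.ι (q • 𝟙 (kernel f)) ≫ kernel.ι f) (by
      rw [Category.assoc, ← nsmul_id_comm, ← Category.assoc, kernel.condition, zero_comp])) (by
      rw [← cancel_mono (kernel.ι (q • 𝟙 B))]
      simp)
  inv := kernel.lift _ (kernel.lift f (kernel.ι _ ≫ kernel.ι (q • 𝟙 A)) (by
      have hmap : kernel.map (q • 𝟙 A) (q • 𝟙 B) f f (nsmul_id_comm f q) ≫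
          kernel.ι (q • 𝟙 B) = kernel.ι (q • 𝟙 A) ≫ f := kernel.lift_ι _ _ _
      rw [Category.assoc, ← hmap, ← Category.assoc, kernel.condition, zero_comp])) (by
      rw [← cancel_mono (kernel.ι f), Category.assoc, nsmul_id_comm, ← Category.assoc,
        kernel.lift_ι, Category.assoc, kernel.condition, comp_zero, zero_comp])
  hom_inv_id := by
    rw [← cancel_mono (kernel.ι (q • 𝟙 (kernel f))), ← cancel_mono (kernel.ι f)]
    simp
  inv_hom_id := by
    rw [← cancel_mono (kernel.ι _), ← cancel_mono (kernel.ι (q • 𝟙 A))]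
    simp

end abelianGeneral

section thick

variable {C : Type v} [SmallCategory C] [Abelian C]

/-- Quotient lemma: torsion and cotorsion of the third term of a short exact sequence. -/
theorem essImage_tor_cotor_X₃ (S : ShortComplex (Ind C)) (hS : S.ShortExact) (q : ℕ)
    (t1 : (yon C).essImage (kernel (q • 𝟙 S.X₁))) (t2 : (yon C).essImage (kernel (q • 𝟙 S.X₂)))
    (c1 : (yon C).essImage (cokernel (q • 𝟙 S.X₁)))
    (c2 : (yon C).essImage (cokernel (q • 𝟙 S.X₂))) :
    (yon C).essImage (kernel (q • 𝟙 S.X₃)) ∧ (yon C).essImage (cokernel (q • 𝟙 S.X₃)) := by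
  let D := snakeInputOfHom hS hS (nsmulHom S q)
  constructor
  · exact essImage_of_exact_five D.L₀.f D.L₀.g D.δ D.L₃.f D.L₀.zero D.L₀_g_δ D.δ_L₃_f
      D.L₀_exact D.L₁'_exact D.L₂'_exact t1 t2 c1 c2
  · haveI : Epi D.L₂.g := hS.epi_g
    haveI : Epi D.L₃.g := inferInstance
    have hcok : IsColimit (CokernelCofork.ofπ D.L₃.g D.L₃.zero) := D.L₃_exact.gIsCokernel
    have e : cokernel D.L₃.f ≅ D.L₃.X₃ :=
      IsColimit.coconePointUniqueUpToIso (cokernelIsCokernel _) hcok
    exact Functor.essImage.ofIso e (essImage_cokernel D.L₃.f c1 c2)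

/-- Abstract form of S14493 / S14500: for a class `M` of multipliers for which torsion being
representable implies cotorsion being representable, kernels and cokernels of morphisms between
objects with representable torsion have representable torsion. -/
theorem essImage_tor_kernel_cokernel (M : ℕ → Prop)
    (hcok : ∀ A : Ind C, (∀ m, M m → (yon C).essImage (kernel (m • 𝟙 A))) →
      ∀ m, M m → (yon C).essImage (cokernel (m • 𝟙 A)))
    {A B : Ind C} (f : A ⟶ B)
    (hA : ∀ m, M m → (yon C).essImage (kernel (m • 𝟙 A)))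
    (hB : ∀ m, M m → (yon C).essImage (kernel (m • 𝟙 B))) :
    (∀ m, M m → (yon C).essImage (kernel (m • 𝟙 (kernel f)))) ∧
      (∀ m, M m → (yon C).essImage (kernel (m • 𝟙 (cokernel f)))) := by
  have hK : ∀ m, M m → (yon C).essImage (kernel (m • 𝟙 (kernel f))) := fun m hm =>
    Functor.essImage.ofIso (kernelTorIso f m).symm (essImage_kernel _ (hA m hm) (hB m hm))
  refine ⟨hK, ?_⟩
  have hI : ∀ m, M m → (yon C).essImage (kernel (m • 𝟙 (Abelian.image f))) ∧
      (yon C).essImage (cokernel (m • 𝟙 (Abelian.image f))) := fun m hm =>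
    essImage_tor_cotor_X₃ _ (shortExact_kernel_image f) m (hK m hm) (hA m hm)
      (hcok _ hK m hm) (hcok _ hA m hm)
  intro m hm
  exact (essImage_tor_cotor_X₃ _ (shortExact_image_cokernel f) m (hI m hm).1 (hB m hm)
    (hI m hm).2 (hcok _ hB m hm)).1

end thick

end Groth.Agent.Lib.Helper19.IndCof
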