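import Groth.Agent.Lib.Helper19IndCofG

/-!
# The divisible part of an ind-object of cofinite type
-/

set_option autoImplicit false
set_option linter.style.haveILetI false

universe v u

open CategoryTheory CategoryTheory.Limits Opposite ZeroObject

namespace Groth.Agent.Lib.Helper19.IndCof

section abelianGeneral

variable {𝒜 : Type u} [Category.{v} 𝒜] [Abelian 𝒜]

/-- Factoring through a subobject is equivalent to being killed by the quotient map. -/
theorem factors_iff_comp_cokernel {A P : 𝒜} (S : Subobject A) (x : P ⟶ A) :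
    S.Factors x ↔ x ≫ cokernel.π S.arrow = 0 := by
  constructor
  · intro h
    rw [← S.factorThru_arrow x h, Category.assoc, cokernel.condition, comp_zero]
  · intro h
    haveI : Mono S.arrow := inferInstance
    exact (Subobject.factors_iff _ _).2
      ⟨Abelian.monoLift S.arrow x h, Abelian.monoLift_comp S.arrow x h⟩

theorem factors_of_epi_comp {A P P' : 𝒜} (S : Subobject A) (e : P' ⟶ P) [Epi e] (x : P ⟶ A)
    (h : S.Factors (e ≫ x)) : S.Factors x := by
  rw [factors_iff_comp_cokernel] at h ⊢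
  rw [← cancel_epi e, comp_zero, ← Category.assoc]
  exact h

theorem factors_nsmul {A P : 𝒜} (S : Subobject A) (x : P ⟶ A) (n : ℕ) (h : S.Factors x) :
    S.Factors (n • x) := by
  rw [factors_iff_comp_cokernel] at h ⊢
  rw [Preadditive.nsmul_comp, h, smul_zero]

theorem factors_sub {A P : 𝒜} (S : Subobject A) (x y : P ⟶ A) (hx : S.Factors x)
    (hy : S.Factors y) : S.Factors (x - y) := by
  rw [factors_iff_comp_cokernel] at hx hy ⊢
  rw [Preadditive.sub_comp, hx, hy, sub_zero]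

/-- A map `g` into a subobject whose composite with the inclusion has full image is epi. -/
theorem epi_of_imageSubobject_comp_arrow_eq {A B : 𝒜} (S : Subobject B) (g : A ⟶ (S : 𝒜))
    (h : imageSubobject (g ≫ S.arrow) = S) : Epi g := by
  rw [epi_iff_surjective_up_to_refinements]
  intro P y
  have h1 : imageSubobject (y ≫ S.arrow) ≤ imageSubobject (g ≫ S.arrow) := by
    rw [h]
    exact imageSubobject_le (y ≫ S.arrow) y rfl
  obtain ⟨P', e, he, t, ht⟩ := exists_refinement_of_image_le _ _ h1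
  refine ⟨P', e, he, t, ?_⟩
  rw [← cancel_mono S.arrow, Category.assoc, Category.assoc]
  exact ht

lemma epi_pow_nsmul_id {D : 𝒜} (p : ℕ) (h : Epi (p • 𝟙 D)) (k : ℕ) : Epi ((p ^ k) • 𝟙 D) := by
  induction k with
  | zero =>
    rw [pow_zero, one_smul]
    infer_instance
  | succ k ih =>
    have : (p ^ (k + 1)) • 𝟙 D = (p • 𝟙 D) ≫ ((p ^ k) • 𝟙 D) := by
      rw [nsmul_id_comp, ← mul_smul, ← pow_succ']
    rw [this]
    exact epi_comp _ _

/-- The torsion of isomorphic objects. -/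
noncomputable def torIsoOfIso {X Y : 𝒜} (e : X ≅ Y) (m : ℕ) :
    kernel (m • 𝟙 X) ≅ kernel (m • 𝟙 Y) :=
  kernel.mapIso _ _ e e (nsmul_id_comm e.hom m)

/-- The image of `p^N`, as a subobject, is divisible as soon as the images stabilize. -/
theorem epi_nsmul_imageSubobject (A : 𝒜) (p N : ℕ)
    (hN : imageSubobject ((p ^ (N + 1)) • 𝟙 A) = imageSubobject ((p ^ N) • 𝟙 A)) :
    Epi (p • 𝟙 ((imageSubobject ((p ^ N) • 𝟙 A) : Subobject A) : 𝒜)) := by
  let D : Subobject A := imageSubobject ((p ^ N) • 𝟙 A)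
  let eN : A ⟶ (D : 𝒜) := factorThruImageSubobject ((p ^ N) • 𝟙 A)
  have heN : eN ≫ D.arrow = (p ^ N) • 𝟙 A := imageSubobject_arrow_comp _
  have h1 : ((p • 𝟙 A) ≫ eN) ≫ D.arrow = (p ^ (N + 1)) • 𝟙 A := by
    rw [Category.assoc, heN, nsmul_id_comp, ← mul_smul, ← pow_succ']
  haveI : Epi ((p • 𝟙 A) ≫ eN) := by
    apply epi_of_imageSubobject_comp_arrow_eq D
    rw [h1]
    exact hN
  have h2 : (p • 𝟙 A) ≫ eN = eN ≫ (p • 𝟙 (D : 𝒜)) := nsmul_id_comm eN p
  haveI : Epi (eN ≫ (p • 𝟙 (D : 𝒜))) := by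
    rw [← h2]
    infer_instance
  exact epi_of_epi eN _

/-- A divisible subobject is contained in the image of `p^N`. -/
theorem le_imageSubobject_of_epi (A : 𝒜) (p N : ℕ) (D' : Subobject A)
    (h : Epi (p • 𝟙 (D' : 𝒜))) : D' ≤ imageSubobject ((p ^ N) • 𝟙 A) := by
  haveI := epi_pow_nsmul_id p h N
  have h1 : ((p ^ N) • 𝟙 (D' : 𝒜)) ≫ D'.arrow = D'.arrow ≫ ((p ^ N) • 𝟙 A) :=
    nsmul_id_comm _ _
  have h2 : imageSubobject (((p ^ N) • 𝟙 (D' : 𝒜)) ≫ D'.arrow) ≤
      imageSubobject ((p ^ N) • 𝟙 A) := by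
    rw [h1]
    exact imageSubobject_comp_le _ _
  refine le_trans ?_ h2
  have sq : CommSq (factorThruImageSubobject (((p ^ N) • 𝟙 (D' : 𝒜)) ≫ D'.arrow))
      ((p ^ N) • 𝟙 (D' : 𝒜))
      (imageSubobject (((p ^ N) • 𝟙 (D' : 𝒜)) ≫ D'.arrow)).arrow D'.arrow :=
    ⟨imageSubobject_arrow_comp _⟩
  haveI : StrongEpi ((p ^ N) • 𝟙 (D' : 𝒜)) := strongEpi_of_epi _
  haveI : HasLiftingProperty ((p ^ N) • 𝟙 (D' : 𝒜))
      (imageSubobject (((p ^ N) • 𝟙 (D' : 𝒜)) ≫ D'.arrow)).arrow := StrongEpi.llp _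
  exact Subobject.le_of_comm sq.lift sq.fac_right

end abelianGeneral

section divisible

variable {C : Type v} [SmallCategory C] [Abelian C]

variable (hart : ∀ X : C, IsArtinianObject X) (p : ℕ)
  (htor : ∀ X : C, ∃ n : ℕ, (p ^ n) • 𝟙 X = 0)

include hart htor in
/-- The image of an endomorphism `p^N` of a cofinite type object is of cofinite type. -/
theorem essImage_tor_imageSubobject (A : Ind C)
    (hA : ∀ n : ℕ, (yon C).essImage (kernel ((p ^ n) • 𝟙 A))) (N n : ℕ) :
    (yon C).essImage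
      (kernel ((p ^ n) • 𝟙 ((imageSubobject ((p ^ N) • 𝟙 A) : Subobject A) : Ind C))) := by
  let f : A ⟶ A := (p ^ N) • 𝟙 A
  have hK : ∀ k, (yon C).essImage (kernel ((p ^ k) • 𝟙 (kernel f))) := fun k =>
    Functor.essImage.ofIso (kernelTorIso f (p ^ k)).symm (essImage_kernel _ (hA k) (hA k))
  have hI := (essImage_tor_cotor_X₃ _ (shortExact_kernel_image f) (p ^ n) (hK n) (hA n)
    (essImage_cokernel_pow hart p htor _ hK n) (essImage_cokernel_pow hart p htor _ hA n)).1
  exact Functor.essImage.ofIso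
    (torIsoOfIso ((Abelian.imageIsoImage f) ≪≫ (imageSubobjectIso f).symm) (p ^ n)) hI

include htor in
/-- Quotients of `A` in `C` kill the image of `p^N` for large `N`. -/
theorem imageSubobject_arrow_comp_eq_zero (A : Ind C) (N : ℕ)
    (hN : ∀ n : ℕ, N ≤ n →
      imageSubobject ((p ^ n) • 𝟙 A) = imageSubobject ((p ^ N) • 𝟙 A))
    (Q : Ind C) (q : A ⟶ Q) (hQ : (yon C).essImage Q) :
    (imageSubobject ((p ^ N) • 𝟙 A)).arrow ≫ q = 0 := by
  obtain ⟨X, ⟨e⟩⟩ := hQ
  obtain ⟨k, hk⟩ := htor X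
  have hkQ : (p ^ k) • 𝟙 Q = 0 := by
    have h1 : (p ^ k) • e.inv = 0 := by
      have := nsmul_eq_zero_of_kills hk e.hom
      rw [← nsmul_id_comp] at this
      have h2 : (p ^ k) • 𝟙 ((yon C).obj X) = 0 := by
        rw [← cancel_mono e.hom, zero_comp]
        exact this
      rw [← comp_nsmul_id, h2, comp_zero]
    rw [← e.inv_hom_id, ← Preadditive.nsmul_comp, h1, zero_comp]
  have hn : N ≤ max N k := le_max_left _ _
  rw [← hN (max N k) hn]
  rw [← cancel_epi (factorThruImageSubobject ((p ^ (max N k)) • 𝟙 A)), comp_zero,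
    ← Category.assoc, imageSubobject_arrow_comp, nsmul_id_comm, ]
  obtain ⟨d, hd⟩ := Nat.exists_eq_add_of_le (le_max_right N k)
  rw [hd, pow_add, mul_comm, mul_smul, hkQ, smul_zero, comp_zero]

end divisible

end Groth.Agent.Lib.Helper19.IndCof
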