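import Groth.Agent.Lib.Helper19IndCofH

/-!
# Descending chains of cofinite type subobjects stabilize
-/

set_option autoImplicit false
set_option linter.style.haveILetI false

universe v u

open CategoryTheory CategoryTheory.Limits Opposite ZeroObject

namespace Groth.Agent.Lib.Helper19.IndCof

section abelianGeneral

variable {𝒜 : Type u} [Category.{v} 𝒜] [Abelian 𝒜]

theorem imageSubobject_le_of_refinement {X Y Z P : 𝒜} (f : X ⟶ Z) (g : Y ⟶ Z) (e : P ⟶ X)
    [Epi e] (t : P ⟶ Y) (h : e ≫ f = t ≫ g) : imageSubobject f ≤ imageSubobject g := by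
  apply imageSubobject_le_of_comp_cokernel_π_eq_zero
  rw [← cancel_epi e, comp_zero, ← Category.assoc, h, Category.assoc, cokernel.condition,
    comp_zero]

theorem imageSubobject_comp_le_comp {X Y Z W : 𝒜} {f : X ⟶ Z} {g : Y ⟶ Z}
    (h : imageSubobject f ≤ imageSubobject g) (a : Z ⟶ W) :
    imageSubobject (f ≫ a) ≤ imageSubobject (g ≫ a) := by
  obtain ⟨P, e, he, t, ht⟩ := exists_refinement_of_image_le f g h
  exact imageSubobject_le_of_refinement (f ≫ a) (g ≫ a) e t (by
    rw [← Category.assoc, ht, Category.assoc])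

theorem factors_imageSubobject_iff {X Z P : 𝒜} (f : X ⟶ Z) (x : P ⟶ Z) :
    (imageSubobject f).Factors x ↔
      ∃ (P' : 𝒜) (e : P' ⟶ P) (_ : Epi e) (t : P' ⟶ X), e ≫ x = t ≫ f := by
  constructor
  · intro h
    have h1 : imageSubobject x ≤ imageSubobject f :=
      imageSubobject_le x ((imageSubobject f).factorThru x h) (Subobject.factorThru_arrow _ _ _)
    exact exists_refinement_of_image_le x f h1
  · rintro ⟨P', e, he, t, ht⟩
    apply factors_of_epi_comp _ e
    rw [ht]
    have h1 : t ≫ f = (t ≫ factorThruImageSubobject f) ≫ (imageSubobject f).arrow := by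
      rw [Category.assoc, imageSubobject_arrow_comp]
    rw [h1]
    exact Subobject.factors_comp_arrow _

/-- The image of `g ≫ a` for a mono `a`, as the image of `g` pushed along `a`. -/
theorem imageSubobject_comp_mono {X B A : 𝒜} (g : X ⟶ B) (a : B ⟶ A) [Mono a] :
    imageSubobject (g ≫ a) = Subobject.mk ((imageSubobject g).arrow ≫ a) := by
  apply le_antisymm
  · exact imageSubobject_le (g ≫ a)
      (factorThruImageSubobject g ≫ (Subobject.underlyingIso ((imageSubobject g).arrow ≫ a)).inv)
      (by simp)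
  · have sq : CommSq (factorThruImageSubobject (g ≫ a)) (factorThruImageSubobject g)
        (imageSubobject (g ≫ a)).arrow ((imageSubobject g).arrow ≫ a) :=
      ⟨by rw [imageSubobject_arrow_comp, ← Category.assoc, imageSubobject_arrow_comp]⟩
    haveI : StrongEpi (factorThruImageSubobject g) := strongEpi_of_epi _
    haveI : HasLiftingProperty (factorThruImageSubobject g) (imageSubobject (g ≫ a)).arrow :=
      StrongEpi.llp _
    exact Subobject.mk_le_of_comm sq.lift sq.fac_right

/-- The pullback of a subobject to the `q`-torsion is the `q`-torsion of the subobject. -/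
noncomputable def pullbackTorIso {A : 𝒜} (S : Subobject A) (q : ℕ) :
    ((Subobject.pullback (kernel.ι (q • 𝟙 A))).obj S : 𝒜) ≅ kernel (q • 𝟙 (S : 𝒜)) where
  hom := kernel.lift _ (Subobject.pullbackπ (kernel.ι (q • 𝟙 A)) S) (by
    rw [← cancel_mono S.arrow, zero_comp, Category.assoc, nsmul_id_comm, ← Category.assoc,
      (Subobject.isPullback (kernel.ι (q • 𝟙 A)) S).w, Category.assoc, kernel.condition,
      comp_zero])
  inv := (Subobject.isPullback (kernel.ι (q • 𝟙 A)) S).lift (kernel.ι (q • 𝟙 (S : 𝒜)))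
    (kernel.lift _ (kernel.ι (q • 𝟙 (S : 𝒜)) ≫ S.arrow) (by
      rw [Category.assoc, ← nsmul_id_comm, ← Category.assoc, kernel.condition, zero_comp]))
    (by rw [kernel.lift_ι])
  hom_inv_id := by
    apply (Subobject.isPullback (kernel.ι (q • 𝟙 A)) S).hom_ext
    · simp
    · rw [← cancel_mono (kernel.ι (q • 𝟙 A))]
      simp [(Subobject.isPullback (kernel.ι (q • 𝟙 A)) S).w]
  inv_hom_id := by
    rw [← cancel_mono (kernel.ι (q • 𝟙 (S : 𝒜)))]
    simp

end abelianGeneral

end Groth.Agent.Lib.Helper19.IndCof
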