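import Groth.Agent.Lib.Helper19IndCofI

/-!
# Descending chains of cofinite type subobjects stabilize (main theorem)
-/

set_option autoImplicit false
set_option linter.style.haveILetI false

universe v u

open CategoryTheory CategoryTheory.Limits Opposite ZeroObject

namespace Groth.Agent.Lib.Helper19.IndCof

section chain

variable {C : Type v} [SmallCategory C] [Abelian C]

variable (hart : ∀ X : C, IsArtinianObject X) (p : ℕ)
  (htor : ∀ X : C, ∃ n : ℕ, (p ^ n) • 𝟙 X = 0)

include hart htor in
/-- Lib form of S14495. -/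
theorem chain_stabilizes (A : Ind C)
    (hA : ∀ n : ℕ, (yon C).essImage (kernel ((p ^ n) • 𝟙 A)))
    (S : ℕ → Subobject A) (hS : Antitone S)
    (hcof : ∀ m n : ℕ, (yon C).essImage
      (kernel ((p ^ n) • 𝟙 ((S m : Subobject A) : Ind C)))) :
    ∃ N : ℕ, ∀ m : ℕ, N ≤ m → S m = S N := by
  choose Nf hNf using fun m =>
    image_pow_stabilizes hart p htor ((S m : Subobject A) : Ind C) (hcof m)
  let a : ∀ m, ((S m : Subobject A) : Ind C) ⟶ A := fun m => (S m).arrow
  let g : ∀ m _n : ℕ, ((S m : Subobject A) : Ind C) ⟶ A := fun m n => ((p ^ n) • 𝟙 _) ≫ a m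
  let D : ℕ → Subobject A := fun m => imageSubobject (g m (Nf m))
  have hD1 : ∀ m n, Nf m ≤ n → imageSubobject (g m n) = D m := fun m n hn =>
    le_antisymm (imageSubobject_comp_le_comp (le_of_eq (hNf m n hn)) (a m))
      (imageSubobject_comp_le_comp (le_of_eq (hNf m n hn).symm) (a m))
  have hg : ∀ m n, g m n = (p ^ n) • a m := fun m n => nsmul_id_comp _ _
  have hD2 : Antitone D := by
    intro m m' hmm'
    let n := max (Nf m) (Nf m')
    rw [← hD1 m n (le_max_left _ _), ← hD1 m' n (le_max_right _ _)]
    have h1 : g m' n = (Subobject.ofLE _ _ (hS hmm')) ≫ g m n := by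
      rw [hg, hg, Preadditive.comp_nsmul, Subobject.ofLE_arrow]
    rw [h1]
    exact imageSubobject_comp_le _ _
  have hD3 : ∀ (m k : ℕ) {P : Ind C} (x : P ⟶ A), (D m).Factors x →
      ∃ (P' : Ind C) (e : P' ⟶ P) (_ : Epi e) (y : P' ⟶ A),
        (D m).Factors y ∧ e ≫ x = (p ^ k) • y := by
    intro m k P x hx
    have hx' : (imageSubobject (g m (Nf m + k))).Factors x := by
      rw [hD1 m _ (Nat.le_add_right _ _)]
      exact hx
    obtain ⟨P', e, he, t, ht⟩ := (factors_imageSubobject_iff _ _).1 hx'
    refine ⟨P', e, he, t ≫ g m (Nf m), ?_, ?_⟩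
    · exact (factors_imageSubobject_iff _ _).2 ⟨P', 𝟙 _, inferInstance, t, by simp⟩
    · rw [ht, hg, hg, Preadditive.comp_nsmul, Preadditive.comp_nsmul, ← mul_smul, ← pow_add,
        add_comm]
  have hD4 : ∀ m, D m ≤ S m := fun m =>
    imageSubobject_le (g m (Nf m)) ((p ^ (Nf m)) • 𝟙 _) rfl
  have hD5 : ∀ (m : ℕ) {P : Ind C} (x : P ⟶ A), (S m).Factors x →
      (D m).Factors ((p ^ (Nf m)) • x) := by
    intro m P x hx
    refine (factors_imageSubobject_iff _ _).2 ⟨P, 𝟙 _, inferInstance, (S m).factorThru x hx, ?_⟩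
    rw [Category.id_comp, hg, Preadditive.comp_nsmul, Subobject.factorThru_arrow]
  -- Step 2: the chain of `p`-torsion of the divisible parts
  let ι₁ : kernel ((p ^ 1) • 𝟙 A) ⟶ A := kernel.ι _
  let E : ℕ → Subobject (kernel ((p ^ 1) • 𝟙 A)) := fun m => (Subobject.pullback ι₁).obj (D m)
  have hE : Antitone E := fun m m' h => (Subobject.pullback ι₁).monotone (hD2 h)
  have hEess : ∀ m, (yon C).essImage ((E m : Subobject _) : Ind C) := by
    intro m
    have h1 : D m = Subobject.mk
        ((imageSubobject ((p ^ (Nf m)) • 𝟙 ((S m : Subobject A) : Ind C))).arrow ≫ a m) :=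
      imageSubobject_comp_mono _ _
    let e1 : ((D m : Subobject A) : Ind C) ≅
        ((imageSubobject ((p ^ (Nf m)) • 𝟙 ((S m : Subobject A) : Ind C)) : Subobject _) :
          Ind C) :=
      Subobject.isoOfEq _ _ h1 ≪≫ Subobject.underlyingIso _
    have h2 := essImage_tor_imageSubobject hart p htor ((S m : Subobject A) : Ind C) (hcof m)
      (Nf m) 1
    exact Functor.essImage.ofIso
      ((torIsoOfIso e1.symm (p ^ 1)) ≪≫ (pullbackTorIso (D m) (p ^ 1)).symm) h2
  obtain ⟨M, hM⟩ := dcc_of_essImage hart (hA 1) E hE hEess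
  -- Step 4: the divisible parts stabilize
  have hDM : ∀ m, M ≤ m → D m = D M := by
    intro m hm
    refine le_antisymm (hD2 hm) ?_
    have hΦ : ∀ (k : ℕ) {P : Ind C} (x : P ⟶ A), (D M).Factors x → (p ^ k) • x = 0 →
        (D m).Factors x := by
      intro k
      induction k with
      | zero =>
        intro P x _ hx0
        rw [pow_zero, one_smul] at hx0
        rw [hx0]
        exact Subobject.factors_zero
      | succ k ih =>
        intro P x hx hx0
        let w : P ⟶ A := (p ^ k) • x
        have hwM : (D M).Factors w := factors_nsmul _ _ _ hx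
        have hw0 : w ≫ ((p ^ 1) • 𝟙 A) = 0 := by
          rw [comp_nsmul_id, ← mul_smul, pow_one, ← pow_succ']
          exact hx0
        let w' : P ⟶ kernel ((p ^ 1) • 𝟙 A) := kernel.lift _ w hw0
        have hw' : w' ≫ ι₁ = w := kernel.lift_ι _ _ _
        have hEM : (E M).Factors w' := by
          apply pullback_factors
          rw [hw']
          exact hwM
        have hEm : (E m).Factors w' := by
          rw [hM m hm]
          exact hEM
        have hwm : (D m).Factors w := by
          have := (pullback_factors_iff ι₁ (D m) w').1 hEm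
          rwa [hw'] at this
        obtain ⟨P', e, he, yy, hy, hey⟩ := hD3 m k w hwm
        let z : P' ⟶ A := e ≫ x - yy
        have hz0 : (p ^ k) • z = 0 := by
          simp only [z, smul_sub]
          rw [← Preadditive.comp_nsmul, hey, sub_self]
        have hzM : (D M).Factors z :=
          factors_sub _ _ _ (Subobject.factors_of_factors_right e hx)
            (Subobject.factors_of_le yy (hD2 hm) hy)
        have hzm : (D m).Factors z := ih z hzM hz0
        have hex : e ≫ x = z + yy := by
          simp only [z]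
          abel
        apply factors_of_epi_comp _ e
        rw [hex]
        exact Subobject.factors_add _ _ hzm hy
    apply Subobject.le_of_factors
    rw [factors_iff_comp_cokernel]
    apply eq_zero_of_yoneda
    intro X u
    obtain ⟨k, hk⟩ := htor X
    have h1 : (p ^ k) • (u ≫ (D M).arrow) = 0 := by
      rw [← Preadditive.nsmul_comp, nsmul_eq_zero_of_kills hk u, zero_comp]
    have h2 := hΦ k (u ≫ (D M).arrow) (Subobject.factors_comp_arrow u) h1
    rw [factors_iff_comp_cokernel, Category.assoc] at h2
    exact h2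
  -- Step 5: the chain of torsion of the subobjects
  let k₀ := Nf M
  let ι₀ : kernel ((p ^ k₀) • 𝟙 A) ⟶ A := kernel.ι _
  let G : ℕ → Subobject (kernel ((p ^ k₀) • 𝟙 A)) := fun m => (Subobject.pullback ι₀).obj (S m)
  have hG : Antitone G := fun m m' h => (Subobject.pullback ι₀).monotone (hS h)
  have hGess : ∀ m, (yon C).essImage ((G m : Subobject _) : Ind C) := fun m =>
    Functor.essImage.ofIso (pullbackTorIso (S m) (p ^ k₀)).symm (hcof m k₀)
  obtain ⟨M', hM'⟩ := dcc_of_essImage hart (hA k₀) G hG hGess
  -- Step 6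
  refine ⟨max M M', fun m hm => le_antisymm (hS hm) ?_⟩
  have hmM : M ≤ m := le_trans (le_max_left _ _) hm
  have hmM' : M' ≤ m := le_trans (le_max_right _ _) hm
  let x : ((S (max M M') : Subobject A) : Ind C) ⟶ A := (S (max M M')).arrow
  apply Subobject.le_of_factors
  change (S m).Factors x
  have h1 : (S M).Factors x :=
    Subobject.factors_of_le x (hS (le_max_left M M')) (Subobject.factors_self _)
  have h2 : (D M).Factors ((p ^ k₀) • x) := hD5 M x h1
  have h3 : (D m).Factors ((p ^ k₀) • x) := by
    rw [hDM m hmM]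
    exact h2
  obtain ⟨P', e, he, yy, hy, hey⟩ := hD3 m k₀ _ h3
  let z : P' ⟶ A := e ≫ x - yy
  have hz0 : (p ^ k₀) • z = 0 := by
    simp only [z, smul_sub]
    rw [← hey, Preadditive.comp_nsmul, sub_self]
  have hyS : (S m).Factors yy := Subobject.factors_of_le yy (hD4 m) hy
  have hzN : (S (max M M')).Factors z :=
    factors_sub _ _ _ (Subobject.factors_of_factors_right e (Subobject.factors_self _))
      (Subobject.factors_of_le yy (hS hm) hyS)
  have hz0' : z ≫ ((p ^ k₀) • 𝟙 A) = 0 := by
    rw [comp_nsmul_id]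
    exact hz0
  let z' : P' ⟶ kernel ((p ^ k₀) • 𝟙 A) := kernel.lift _ z hz0'
  have hz' : z' ≫ ι₀ = z := kernel.lift_ι _ _ _
  have hGN : (G (max M M')).Factors z' := by
    apply pullback_factors
    rw [hz']
    exact hzN
  have hGm : (G m).Factors z' := by
    rw [hM' m hmM', ← hM' (max M M') (le_max_right _ _)]
    exact hGN
  have hzm : (S m).Factors z := by
    have := (pullback_factors_iff ι₀ (S m) z').1 hGm
    rwa [hz'] at this
  have hex : e ≫ x = z + yy := by
    simp only [z]
    abel
  apply factors_of_epi_comp _ e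
  rw [hex]
  exact Subobject.factors_add _ _ hzm hyS

end chain

end Groth.Agent.Lib.Helper19.IndCof
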