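import Mathlib

/-!
# Finitely presented modules inside all modules: smallness, filteredness, density, compactness

Infrastructure for S6714–S6716 (extension of functors from f.p. modules).
-/

set_option autoImplicit false
set_option linter.style.haveILetI false

universe u

open CategoryTheory CategoryTheory.Limits

namespace Groth.Agent.Lib.Helper19.IndExt

variable (A : Type u) [CommRing A]

/-- The property of being a finitely presented module. -/
abbrev fpProp : ObjectProperty (ModuleCat.{u} A) := fun M => Module.FinitePresentation A M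

/-- The category of finitely presented modules. -/
abbrev FP := (fpProp A).FullSubcategory

/-- The inclusion of f.p. modules in all modules. -/
abbrev incl : FP A ⥤ ModuleCat.{u} A := (fpProp A).ι

/-- Constructor for objects of `FP`. -/
def FP.of (P : Type u) [AddCommGroup P] [Module A P] [h : Module.FinitePresentation A P] : FP A :=
  ⟨ModuleCat.of A P, h⟩

instance (P : FP A) : Module.FinitePresentation A P.obj := P.property

/-! ### Essential smallness -/

/-- The index type for a small set of representatives of f.p. modules. -/
def FPIndex : Type u :=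
  Σ n : ℕ, {K : Submodule A (Fin n → A) // Module.FinitePresentation A ((Fin n → A) ⧸ K)}

/-- The representative attached to an index. -/
def fpRep (x : FPIndex A) : FP A :=
  ⟨ModuleCat.of A ((Fin x.1 → A) ⧸ x.2.1), x.2.2⟩

instance : (inducedFunctor (fpRep A)).EssSurj where
  mem_essImage P := by
    obtain ⟨n, K, e, _⟩ := Module.FinitePresentation.exists_fin A P.obj
    have hK : Module.FinitePresentation A ((Fin n → A) ⧸ K) :=
      Module.FinitePresentation.of_equiv e
    refine ⟨(⟨n, ⟨K, hK⟩⟩ : FPIndex A), ⟨?_⟩⟩
    exact (fpProp A).isoMk (e.symm.toModuleIso)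

instance essentiallySmall_FP : EssentiallySmall.{u} (FP A) := by
  haveI : (inducedFunctor (fpRep A)).Full := InducedCategory.full _
  haveI : (inducedFunctor (fpRep A)).Faithful := InducedCategory.faithful _
  haveI : (inducedFunctor (fpRep A)).IsEquivalence := { }
  exact EssentiallySmall.mk' (S := InducedCategory (FP A) (fpRep A))
    (inducedFunctor (fpRep A)).asEquivalence.symm

instance (M : ModuleCat.{u} A) : EssentiallySmall.{u} (CostructuredArrow (incl A) M) :=
  inferInstance

/-! ### Objects of the costructured arrow category -/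

variable {A}

/-- Constructor for objects of `CostructuredArrow (incl A) M`. -/
def mkObj {M : ModuleCat.{u} A} (P : Type u) [AddCommGroup P] [Module A P]
    [Module.FinitePresentation A P] (f : P →ₗ[A] M) : CostructuredArrow (incl A) M :=
  CostructuredArrow.mk (Y := FP.of A P) (ModuleCat.ofHom f)

/-- Constructor for morphisms of `CostructuredArrow (incl A) M`. -/
def mkHom {M : ModuleCat.{u} A} {X Y : CostructuredArrow (incl A) M}
    (a : X.left.obj →ₗ[A] Y.left.obj) (h : Y.hom.hom ∘ₗ a = X.hom.hom) : X ⟶ Y :=
  CostructuredArrow.homMk (ObjectProperty.homMk (ModuleCat.ofHom a)) (by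
    apply ModuleCat.hom_ext
    simpa using h)

@[simp]
lemma mkHom_left_hom_hom {M : ModuleCat.{u} A} {X Y : CostructuredArrow (incl A) M}
    (a : X.left.obj →ₗ[A] Y.left.obj) (h : Y.hom.hom ∘ₗ a = X.hom.hom) :
    (mkHom a h).left.hom.hom = a := rfl

lemma hom_w {M : ModuleCat.{u} A} {X Y : CostructuredArrow (incl A) M} (φ : X ⟶ Y) :
    Y.hom.hom ∘ₗ φ.left.hom.hom = X.hom.hom := by
  have := CostructuredArrow.w φ
  rw [← this]
  rfl

lemma hom_w_apply {M : ModuleCat.{u} A} {X Y : CostructuredArrow (incl A) M} (φ : X ⟶ Y)
    (x : X.left.obj) : Y.hom.hom (φ.left.hom.hom x) = X.hom.hom x :=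
  LinearMap.congr_fun (hom_w φ) x

/-! ### Filteredness -/

instance isFiltered_costructuredArrow (M : ModuleCat.{u} A) :
    IsFiltered (CostructuredArrow (incl A) M) where
  cocone_objs X Y := by
    refine ⟨mkObj (X.left.obj × Y.left.obj) (LinearMap.coprod X.hom.hom Y.hom.hom),
      mkHom (LinearMap.inl A _ _) ?_, mkHom (LinearMap.inr A _ _) ?_, trivial⟩
    · ext x
      change LinearMap.coprod _ _ (LinearMap.inl A _ _ x) = _
      simp
    · ext x
      change LinearMap.coprod _ _ (LinearMap.inr A _ _ x) = _
      simp
  cocone_maps X Y f g := by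
    let a : X.left.obj →ₗ[A] Y.left.obj := f.left.hom.hom
    let b : X.left.obj →ₗ[A] Y.left.obj := g.left.hom.hom
    let K : Submodule A Y.left.obj := LinearMap.range (a - b)
    have hKfg : K.FG := by
      have : (⊤ : Submodule A X.left.obj).FG := Module.Finite.fg_top
      change (LinearMap.range (a - b)).FG
      rw [LinearMap.range_eq_map]
      exact this.map _
    haveI : Module.FinitePresentation A (Y.left.obj ⧸ K) :=
      Module.finitePresentation_of_surjective K.mkQ K.mkQ_surjective (by simpa using hKfg)
    have hK : K ≤ LinearMap.ker Y.hom.hom := by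
      rintro _ ⟨x, rfl⟩
      simp only [LinearMap.mem_ker, LinearMap.sub_apply, map_sub, a, b]
      rw [hom_w_apply f, hom_w_apply g, sub_self]
    refine ⟨mkObj (Y.left.obj ⧸ K) (K.liftQ Y.hom.hom hK), mkHom K.mkQ ?_, ?_⟩
    · ext x
      change K.liftQ _ hK (K.mkQ x) = _
      simp
    · ext x
      have : K.mkQ (a x) = K.mkQ (b x) := by
        change Submodule.Quotient.mk (a x) = Submodule.Quotient.mk (b x)
        rw [Submodule.Quotient.eq]
        exact ⟨x, rfl⟩
      exact this
  nonempty := ⟨mkObj PUnit.{u + 1} 0⟩

end Groth.Agent.Lib.Helper19.IndExt
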