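import Groth.Agent.Lib.Helper19IndExtA

/-!
# Density of f.p. modules and compactness of f.p. modules
-/

set_option autoImplicit false
set_option linter.style.haveILetI false

universe u

open CategoryTheory CategoryTheory.Limits

namespace Groth.Agent.Lib.Helper19.IndExt

variable {A : Type u} [CommRing A]

/-! ### Density -/

/-- The canonical cocone exhibiting `M` as the colimit of the f.p. modules mapping to it. -/
def canCocone (M : ModuleCat.{u} A) : Cocone (CostructuredArrow.proj (incl A) M ⋙ incl A) where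
  pt := M
  ι :=
    { app := fun X => X.hom
      naturality := fun X Y φ => by
        dsimp
        rw [Category.comp_id]
        exact CostructuredArrow.w φ }

/-- The object of the costructured arrow category attached to an element. -/
def elemObj {M : ModuleCat.{u} A} (m : M) : CostructuredArrow (incl A) M :=
  mkObj A (LinearMap.toSpanSingleton A M m)

lemma elemObj_hom_apply {M : ModuleCat.{u} A} (m : M) (a : A) :
    (elemObj m).hom.hom a = a • m := rfl

/-- The morphism `elemObj (X.hom p) ⟶ X` attached to an element `p` of the source. -/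
def elemHom {M : ModuleCat.{u} A} (X : CostructuredArrow (incl A) M) (p : X.left.obj) :
    elemObj (X.hom.hom p) ⟶ X :=
  mkHom (LinearMap.toSpanSingleton A X.left.obj p) (by
    ext
    change X.hom.hom ((1 : A) • p) = (1 : A) • X.hom.hom p
    simp)

lemma elemHom_apply {M : ModuleCat.{u} A} (X : CostructuredArrow (incl A) M) (p : X.left.obj) :
    (elemHom X p).left.hom.hom (1 : A) = p := by
  change (1 : A) • p = p
  simp

section desc

variable {M : ModuleCat.{u} A} (s : Cocone (CostructuredArrow.proj (incl A) M ⋙ incl A))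

lemma cocone_w_apply {X Y : CostructuredArrow (incl A) M} (φ : X ⟶ Y) (x : X.left.obj) :
    (s.ι.app Y).hom (φ.left.hom.hom x) = (s.ι.app X).hom x := by
  have := s.w φ
  rw [← this]
  rfl

/-- The underlying function of the descent map. -/
def descFun (m : M) : s.pt := (s.ι.app (elemObj m)).hom (1 : A)

lemma descFun_hom (X : CostructuredArrow (incl A) M) (p : X.left.obj) :
    descFun s (X.hom.hom p) = (s.ι.app X).hom p := by
  unfold descFun
  rw [← cocone_w_apply s (elemHom X p), elemHom_apply]

lemma exists_obj_elem (m : M) :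
    ∃ (X : CostructuredArrow (incl A) M) (p : X.left.obj), X.hom.hom p = m :=
  ⟨elemObj m, (1 : A), by change (1 : A) • m = m; simp⟩

lemma exists_obj_pair (m m' : M) :
    ∃ (X : CostructuredArrow (incl A) M) (p q : X.left.obj),
      X.hom.hom p = m ∧ X.hom.hom q = m' := by
  obtain ⟨X₁, p₁, rfl⟩ := exists_obj_elem m
  obtain ⟨X₂, p₂, rfl⟩ := exists_obj_elem m'
  exact ⟨IsFiltered.max X₁ X₂, (IsFiltered.leftToMax X₁ X₂).left.hom.hom p₁,
    (IsFiltered.rightToMax X₁ X₂).left.hom.hom p₂, hom_w_apply _ _, hom_w_apply _ _⟩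

lemma descFun_add (m m' : M) : descFun s (m + m') = descFun s m + descFun s m' := by
  obtain ⟨X, p, q, rfl, rfl⟩ := exists_obj_pair m m'
  rw [← map_add, descFun_hom, descFun_hom, descFun_hom]
  exact map_add (s.ι.app X).hom p q

lemma descFun_smul (a : A) (m : M) : descFun s (a • m) = a • descFun s m := by
  obtain ⟨X, p, rfl⟩ := exists_obj_elem m
  rw [← map_smul, descFun_hom, descFun_hom]
  exact map_smul (s.ι.app X).hom a p

/-- The descent map as a linear map. -/
def descLin : M →ₗ[A] s.pt where
  toFun := descFun s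
  map_add' := descFun_add s
  map_smul' := descFun_smul s

end desc

/-- f.p. modules are dense in all modules. -/
def isColimitCanCocone (M : ModuleCat.{u} A) : IsColimit (canCocone M) where
  desc s := ModuleCat.ofHom (descLin s)
  fac s X := by
    apply ModuleCat.hom_ext
    ext p
    exact descFun_hom s X p
  uniq s m hm := by
    apply ModuleCat.hom_ext
    ext x
    change m.hom x = descFun s x
    unfold descFun
    rw [← hm (elemObj x)]
    change m.hom x = m.hom ((elemObj x).hom.hom (1 : A))
    congr 1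
    change x = (1 : A) • x
    simp

/-! ### Compactness -/

section compact

variable {J : Type u} [SmallCategory J] [IsFiltered J] (D : J ⥤ ModuleCat.{u} A)
  (c : Cocone D) (hc : IsColimit c)

include hc

omit hc [IsFiltered J] in
lemma cocone_ι_naturality_apply' {j k : J} (a : j ⟶ k) (x : D.obj j) :
    (c.ι.app k).hom ((D.map a).hom x) = (c.ι.app j).hom x := by
  have := c.w a
  rw [← this]
  rfl

/-- An element mapping to zero in the colimit is killed at a later stage. -/
lemma exists_map_eq_zero {j : J} (x : D.obj j) (hx : (c.ι.app j).hom x = 0) :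
    ∃ (k : J) (a : j ⟶ k), (D.map a).hom x = 0 := by
  have h : (c.ι.app j) x = (c.ι.app j) (0 : D.obj j) := by
    change (c.ι.app j).hom x = (c.ι.app j).hom 0
    rw [hx, map_zero]
  obtain ⟨k, f, g, hfg⟩ := Concrete.isColimit_exists_of_rep_eq D hc x 0 h
  refine ⟨k, f, ?_⟩
  change (D.map f) x = 0
  rw [hfg]
  change (D.map g).hom 0 = 0
  simp

/-- Finitely many elements mapping to zero in the colimit are killed at a common later stage. -/
lemma exists_map_eq_zero_finset {j : J} (S : Finset (D.obj j))
    (hS : ∀ x ∈ S, (c.ι.app j).hom x = 0) :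
    ∃ (k : J) (a : j ⟶ k), ∀ x ∈ S, (D.map a).hom x = 0 := by
  classical
  induction S using Finset.induction_on with
  | empty => exact ⟨j, 𝟙 j, by simp⟩
  | insert y S _ ih =>
    obtain ⟨k, a, ha⟩ := ih (fun x hx => hS x (Finset.mem_insert_of_mem hx))
    have hy : (c.ι.app k).hom ((D.map a).hom y) = 0 := by
      rw [cocone_ι_naturality_apply' D c a y]
      exact hS y (Finset.mem_insert_self _ _)
    obtain ⟨l, b, hb⟩ := exists_map_eq_zero D c hc ((D.map a).hom y) hy
    refine ⟨l, a ≫ b, ?_⟩
    intro x hx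
    rw [D.map_comp]
    change (D.map b).hom ((D.map a).hom x) = 0
    rcases Finset.mem_insert.1 hx with rfl | hx
    · exact hb
    · rw [ha x hx, map_zero]

/-- Finitely many elements of the colimit come from a common stage. -/
lemma exists_lift_fin {n : ℕ} (y : Fin n → c.pt) :
    ∃ (j : J) (z : Fin n → D.obj j), ∀ i, (c.ι.app j).hom (z i) = y i := by
  classical
  have h1 : ∀ i, ∃ (j : J) (z : D.obj j), (c.ι.app j).hom z = y i := fun i =>
    Concrete.isColimit_exists_rep D hc (y i)
  choose jf zf hzf using h1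
  obtain ⟨j, hj⟩ := IsFiltered.sup_objs_exists (Finset.univ.image jf)
  have h2 : ∀ i, Nonempty (jf i ⟶ j) := fun i =>
    hj (Finset.mem_image_of_mem _ (Finset.mem_univ i))
  refine ⟨j, fun i => (D.map (h2 i).some).hom (zf i), fun i => ?_⟩
  rw [cocone_ι_naturality_apply' D c, hzf]

end compact

/-- A linear map out of the target of a surjection, from a map killing the kernel. -/
lemma exists_factor_of_surjective {P Q N : Type u} [AddCommGroup P] [Module A P]
    [AddCommGroup Q] [Module A Q] [AddCommGroup N] [Module A N]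
    (f : P →ₗ[A] Q) (hf : Function.Surjective f) (h : P →ₗ[A] N)
    (hk : LinearMap.ker f ≤ LinearMap.ker h) : ∃ ψ : Q →ₗ[A] N, ψ ∘ₗ f = h := by
  refine ⟨(LinearMap.ker f).liftQ h hk ∘ₗ (f.quotKerEquivOfSurjective hf).symm.toLinearMap, ?_⟩
  ext x
  have : (f.quotKerEquivOfSurjective hf).symm (f x) = Submodule.Quotient.mk x := by
    rw [LinearEquiv.symm_apply_eq]
    rfl
  simp [this]

section compact2

variable {J : Type u} [SmallCategory J] [IsFiltered J] (D : J ⥤ ModuleCat.{u} A)
  (c : Cocone D) (hc : IsColimit c)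

include hc

/-- Compactness of f.p. modules, existence of a factorization. -/
theorem exists_factor_of_fp (P : Type u) [AddCommGroup P] [Module A P]
    [Module.FinitePresentation A P] (φ : P →ₗ[A] c.pt) :
    ∃ (j : J) (ψ : P →ₗ[A] D.obj j), (c.ι.app j).hom ∘ₗ ψ = φ := by
  classical
  obtain ⟨n, m, f, g, hf, hfg⟩ := Module.FinitePresentation.exists_fin' A P
  obtain ⟨j₀, z, hz⟩ := exists_lift_fin D c hc (fun i : Fin n => φ (f (Pi.single i 1)))
  let h₀ : (Fin n → A) →ₗ[A] D.obj j₀ := (Pi.basisFun A (Fin n)).constr A z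
  have hh₀ : (c.ι.app j₀).hom ∘ₗ h₀ = φ ∘ₗ f := by
    apply (Pi.basisFun A (Fin n)).ext
    intro i
    simp only [LinearMap.comp_apply, h₀, Module.Basis.constr_basis]
    rw [hz, Pi.basisFun_apply]
  let S : Finset (D.obj j₀) := Finset.univ.image (fun l : Fin m => h₀ (g (Pi.single l 1)))
  have hS : ∀ x ∈ S, (c.ι.app j₀).hom x = 0 := by
    intro x hx
    obtain ⟨l, _, rfl⟩ := Finset.mem_image.1 hx
    have := LinearMap.congr_fun hh₀ (g (Pi.single l 1))
    simp only [LinearMap.comp_apply] at this
    rw [this, hfg.apply_apply_eq_zero, map_zero]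
  obtain ⟨k, a, ha⟩ := exists_map_eq_zero_finset D c hc S hS
  let h₁ : (Fin n → A) →ₗ[A] D.obj k := (D.map a).hom ∘ₗ h₀
  have hker : LinearMap.ker f ≤ LinearMap.ker h₁ := by
    have h3 : h₁ ∘ₗ g = 0 := by
      apply (Pi.basisFun A (Fin m)).ext
      intro l
      simp only [LinearMap.comp_apply, h₁, Pi.basisFun_apply, LinearMap.zero_apply]
      exact ha _ (Finset.mem_image_of_mem _ (Finset.mem_univ l))
    intro x hx
    obtain ⟨y, rfl⟩ := (hfg x).1 hx
    exact LinearMap.congr_fun h3 y
  obtain ⟨ψ, hψ⟩ := exists_factor_of_surjective f hf h₁ hker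
  refine ⟨k, ψ, ?_⟩
  apply LinearMap.ext
  intro p
  obtain ⟨x, rfl⟩ := hf p
  have e1 : ψ (f x) = h₁ x := LinearMap.congr_fun hψ x
  have e2 := LinearMap.congr_fun hh₀ x
  simp only [LinearMap.comp_apply] at e2 ⊢
  rw [e1, ← e2]
  exact cocone_ι_naturality_apply' D c a (h₀ x)

/-- Compactness of f.p. modules, uniqueness of factorizations up to refinement. -/
theorem exists_eq_of_fp (P : Type u) [AddCommGroup P] [Module A P]
    [Module.Finite A P] {j : J} (ψ ψ' : P →ₗ[A] D.obj j)
    (h : (c.ι.app j).hom ∘ₗ ψ = (c.ι.app j).hom ∘ₗ ψ') :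
    ∃ (k : J) (a : j ⟶ k), (D.map a).hom ∘ₗ ψ = (D.map a).hom ∘ₗ ψ' := by
  classical
  obtain ⟨s, hs⟩ := (Module.Finite.fg_top : (⊤ : Submodule A P).FG)
  let S : Finset (D.obj j) := s.image (fun x => ψ x - ψ' x)
  have hS : ∀ x ∈ S, (c.ι.app j).hom x = 0 := by
    intro x hx
    obtain ⟨p, _, rfl⟩ := Finset.mem_image.1 hx
    have := LinearMap.congr_fun h p
    simp only [LinearMap.comp_apply] at this
    rw [map_sub, this, sub_self]
  obtain ⟨k, a, ha⟩ := exists_map_eq_zero_finset D c hc S hS
  refine ⟨k, a, ?_⟩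
  apply LinearMap.ext_on hs
  intro p hp
  have := ha _ (Finset.mem_image_of_mem _ hp)
  rw [map_sub, sub_eq_zero] at this
  exact this

end compact2

end Groth.Agent.Lib.Helper19.IndExt
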