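import Groth.Agent.Lib.Helper19IndExtB

/-!
# Pointwise left Kan extensions along the inclusion of f.p. modules and filtered colimits
-/

set_option autoImplicit false
set_option linter.style.haveILetI false

universe w w' u u' v' u'' v''

open CategoryTheory CategoryTheory.Limits

namespace Groth.Agent.Lib.Helper19.IndExt

/-! ### Essentially small filtered shapes -/

lemma hasColimitsOfShape_of_essSmall (C : Type w) [Category.{w'} C] [EssentiallySmall.{u} C]
    [IsFiltered C] (B : Type u') [Category.{v'} B] [HasFilteredColimitsOfSize.{u, u} B] :
    HasColimitsOfShape C B := by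
  haveI : IsFiltered (SmallModel.{u} C) := IsFiltered.of_equivalence (equivSmallModel C)
  exact hasColimitsOfShape_of_equivalence (equivSmallModel C).symm

lemma preservesColimitsOfShape_of_essSmall (C : Type w) [Category.{w'} C] [EssentiallySmall.{u} C]
    [IsFiltered C] {B : Type u'} [Category.{v'} B] {B' : Type u''} [Category.{v''} B']
    (G : B ⥤ B') [PreservesFilteredColimitsOfSize.{u, u} G] :
    PreservesColimitsOfShape C G := by
  haveI : IsFiltered (SmallModel.{u} C) := IsFiltered.of_equivalence (equivSmallModel C)
  exact preservesColimitsOfShape_of_equiv (equivSmallModel C).symm G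

variable {A : Type u} [CommRing A]

/-! ### Categorical form of compactness -/

section compactCat

variable {J : Type u} [SmallCategory J] [IsFiltered J] {D : J ⥤ ModuleCat.{u} A}
  {c : Cocone D} (hc : IsColimit c)

include hc

theorem exists_factor_cat (P : FP A) (φ : P.obj ⟶ c.pt) :
    ∃ (j : J) (ψ : P.obj ⟶ D.obj j), ψ ≫ c.ι.app j = φ := by
  obtain ⟨j, ψ, hψ⟩ := exists_factor_of_fp D c hc P.obj φ.hom
  refine ⟨j, ModuleCat.ofHom ψ, ?_⟩
  apply ModuleCat.hom_ext
  simpa using hψ

theorem exists_eq_cat (P : FP A) {j : J} (ψ ψ' : P.obj ⟶ D.obj j)
    (h : ψ ≫ c.ι.app j = ψ' ≫ c.ι.app j) :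
    ∃ (k : J) (a : j ⟶ k), ψ ≫ D.map a = ψ' ≫ D.map a := by
  obtain ⟨k, a, ha⟩ := exists_eq_of_fp D c hc P.obj ψ.hom ψ'.hom (by
    have := congrArg ModuleCat.Hom.hom h
    simpa using this)
  refine ⟨k, a, ?_⟩
  apply ModuleCat.hom_ext
  simpa using ha

/-- Two factorizations of the same map through stages of a filtered colimit are equalized by any
cocone on the image diagram. -/
theorem map_comp_ι_eq {B : Type u'} [Category.{v'} B] (G : ModuleCat.{u} A ⥤ B)
    (s : Cocone (D ⋙ G)) (P : FP A) {j j' : J} (f : P.obj ⟶ D.obj j) (f' : P.obj ⟶ D.obj j')
    (h : f ≫ c.ι.app j = f' ≫ c.ι.app j') :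
    G.map f ≫ s.ι.app j = G.map f' ≫ s.ι.app j' := by
  let k := IsFiltered.max j j'
  let a : j ⟶ k := IsFiltered.leftToMax j j'
  let a' : j' ⟶ k := IsFiltered.rightToMax j j'
  have h1 : (f ≫ D.map a) ≫ c.ι.app k = (f' ≫ D.map a') ≫ c.ι.app k := by
    rw [Category.assoc, Category.assoc, c.w, c.w, h]
  obtain ⟨l, b, hb⟩ := exists_eq_cat hc P _ _ h1
  have e1 : s.ι.app j = G.map (D.map (a ≫ b)) ≫ s.ι.app l := (s.w (a ≫ b)).symm
  have e2 : s.ι.app j' = G.map (D.map (a' ≫ b)) ≫ s.ι.app l := (s.w (a' ≫ b)).symm
  rw [e1, e2, ← Category.assoc, ← Category.assoc, ← G.map_comp, ← G.map_comp, D.map_comp,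
    D.map_comp, ← Category.assoc, ← Category.assoc, hb]

end compactCat

/-! ### Pointwise left Kan extensions preserve filtered colimits -/

section pointwise

variable {B : Type u'} [Category.{v'} B] {F : FP A ⥤ B}
  (E : Functor.LeftExtension (incl A) F) (hE : E.IsPointwiseLeftKanExtension)

section

variable {J : Type u} [SmallCategory J] [IsFiltered J] {D : J ⥤ ModuleCat.{u} A}
  {c : Cocone D} (hc : IsColimit c) (s : Cocone (D ⋙ E.right))

/-- chosen stage -/
noncomputable def stage (X : CostructuredArrow (incl A) c.pt) : J :=
  (exists_factor_cat hc X.left X.hom).choose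

/-- chosen factorization -/
noncomputable def stageHom (X : CostructuredArrow (incl A) c.pt) :
    X.left.obj ⟶ D.obj (stage hc X) :=
  (exists_factor_cat hc X.left X.hom).choose_spec.choose

lemma stageHom_comp (X : CostructuredArrow (incl A) c.pt) :
    stageHom hc X ≫ c.ι.app (stage hc X) = X.hom :=
  (exists_factor_cat hc X.left X.hom).choose_spec.choose_spec

/-- The cocone on `proj ⋙ F` induced by a cocone on `D ⋙ G`. -/
noncomputable def descCocone : Cocone (CostructuredArrow.proj (incl A) c.pt ⋙ F) where
  pt := s.pt
  ι :=
    { app := fun X => E.hom.app X.left ≫ E.right.map (stageHom hc X) ≫ s.ι.app (stage hc X)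
      naturality := fun X Y φ => by
        have n1 : F.map φ.left ≫ E.hom.app Y.left =
            E.hom.app X.left ≫ E.right.map φ.left.hom := E.hom.naturality φ.left
        change F.map φ.left ≫ (E.hom.app Y.left ≫ E.right.map (stageHom hc Y) ≫
          s.ι.app (stage hc Y)) = (E.hom.app X.left ≫ E.right.map (stageHom hc X) ≫
          s.ι.app (stage hc X)) ≫ 𝟙 _
        rw [Category.comp_id, ← Category.assoc, n1, Category.assoc]
        congr 1
        rw [← Category.assoc, ← E.right.map_comp]
        apply map_comp_ι_eq hc E.right s X.left
        rw [Category.assoc, stageHom_comp, stageHom_comp]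
        exact CostructuredArrow.w φ }

end

include hE in
/-- A pointwise left Kan extension along the inclusion of f.p. modules preserves filtered
colimits. -/
theorem preservesFilteredColimits_of_isPointwise :
    PreservesFilteredColimitsOfSize.{u, u} E.right where
  preserves_filtered_colimits J _ _ :=
    { preservesColimit := fun {D} =>
        { preserves := fun {c} hc => by
            refine ⟨?_⟩
            refine
              { desc := fun s => IsColimit.desc (hE c.pt) (descCocone E hc s)
                fac := fun s j => ?_
                uniq := fun s m hm => ?_ }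
            · apply IsColimit.hom_ext (hE (D.obj j))
              intro X
              let X' : CostructuredArrow (incl A) c.pt :=
                CostructuredArrow.mk (Y := X.left) (X.hom ≫ c.ι.app j)
              have h1 : (E.hom.app X.left ≫ E.right.map (X.hom ≫ c.ι.app j)) ≫
                  IsColimit.desc (hE c.pt) (descCocone E hc s) =
                  E.hom.app X.left ≫ E.right.map (stageHom hc X') ≫ s.ι.app (stage hc X') :=
                IsColimit.fac (hE c.pt) (descCocone E hc s) X'
              calc (E.hom.app X.left ≫ E.right.map X.hom) ≫ E.right.map (c.ι.app j) ≫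
                    IsColimit.desc (hE c.pt) (descCocone E hc s)
                  = (E.hom.app X.left ≫ E.right.map (X.hom ≫ c.ι.app j)) ≫
                    IsColimit.desc (hE c.pt) (descCocone E hc s) := by
                    simp only [Functor.map_comp, Category.assoc]
                _ = E.hom.app X.left ≫ E.right.map (stageHom hc X') ≫ s.ι.app (stage hc X') := h1
                _ = E.hom.app X.left ≫ E.right.map X.hom ≫ s.ι.app j := by
                    congr 1
                    apply map_comp_ι_eq hc E.right s X.left
                    exact stageHom_comp hc X'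
                _ = (E.hom.app X.left ≫ E.right.map X.hom) ≫ s.ι.app j := by
                    rw [Category.assoc]
            · apply IsColimit.hom_ext (hE c.pt)
              intro X
              have hm' : ∀ j, E.right.map (c.ι.app j) ≫ m = s.ι.app j := hm
              have key : (E.hom.app X.left ≫ E.right.map X.hom) ≫ m =
                  E.hom.app X.left ≫ E.right.map (stageHom hc X) ≫ s.ι.app (stage hc X) := by
                rw [← hm' (stage hc X), ← Category.assoc (E.right.map _), ← E.right.map_comp,
                  stageHom_comp, Category.assoc]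
              exact key.trans (IsColimit.fac (hE c.pt) (descCocone E hc s) X).symm } }

end pointwise

/-! ### Functors preserving filtered colimits are pointwise left Kan extensions -/

section converse

variable {B : Type u'} [Category.{v'} B]

/-- The image of the canonical cocone is a colimit. -/
noncomputable def isColimitMapCanCocone (G : ModuleCat.{u} A ⥤ B)
    [PreservesFilteredColimitsOfSize.{u, u} G] (M : ModuleCat.{u} A) :
    IsColimit (G.mapCocone (canCocone M)) := by
  haveI := preservesColimitsOfShape_of_essSmall.{_, _, u} (CostructuredArrow (incl A) M) G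
  exact isColimitOfPreserves G (isColimitCanCocone M)

/-- A functor preserving filtered colimits is a pointwise left Kan extension of (anything
isomorphic to) its restriction to f.p. modules. -/
noncomputable def isPointwiseOfPreserves (G : ModuleCat.{u} A ⥤ B)
    [PreservesFilteredColimitsOfSize.{u, u} G] {F : FP A ⥤ B} (α : F ⟶ incl A ⋙ G) [IsIso α] :
    (Functor.LeftExtension.mk G α).IsPointwiseLeftKanExtension := fun M => by
  have h := isColimitMapCanCocone G M
  let iso : CostructuredArrow.proj (incl A) M ⋙ F ≅
      (CostructuredArrow.proj (incl A) M ⋙ incl A) ⋙ G :=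
    Functor.isoWhiskerLeft (CostructuredArrow.proj (incl A) M) (asIso α)
  have h' := (IsColimit.precomposeHomEquiv iso _).symm h
  refine h'.ofIsoColimit (Cocone.ext (Iso.refl _) (fun X => ?_))
  simp only [iso, canCocone, Functor.isoWhiskerLeft_hom, Cocone.precompose_obj_ι,
    NatTrans.comp_app, Functor.whiskerLeft_app, asIso_hom, Functor.mapCocone_ι_app,
    Functor.const_obj_obj, Iso.refl_hom, Cocone.precompose_obj_pt,
    Functor.mapCocone_pt]
  exact Category.comp_id _

end converse

end Groth.Agent.Lib.Helper19.IndExt
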