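import Groth.Agent.Lib.Helper19IndExtC

/-!
# Additivity and preservation of small coproducts for functors commuting with filtered colimits
-/

set_option autoImplicit false
set_option linter.style.haveILetI false

universe w w' u u' v' u'' v''

open CategoryTheory CategoryTheory.Limits

namespace Groth.Agent.Lib.Helper19.IndExt

variable {A : Type u} [CommRing A]

section additive

variable {B : Type u'} [Category.{v'} B]

/-- The maps `G(P) ⟶ G(M)` for `P` f.p. are jointly epimorphic. -/
theorem hom_ext_of_fp (G : ModuleCat.{u} A ⥤ B) [PreservesFilteredColimitsOfSize.{u, u} G]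
    {M : ModuleCat.{u} A} {T : B} {a b : G.obj M ⟶ T}
    (h : ∀ X : CostructuredArrow (incl A) M, G.map X.hom ≫ a = G.map X.hom ≫ b) : a = b :=
  (isColimitMapCanCocone G M).hom_ext h

variable [Preadditive B]

/-- A functor commuting with filtered colimits whose restriction to f.p. modules is additive is
additive. -/
theorem additive_of_restrict (G : ModuleCat.{u} A ⥤ B) [PreservesFilteredColimitsOfSize.{u, u} G]
    [(incl A ⋙ G).Additive] : G.Additive where
  map_add {M N f g} := by
    apply hom_ext_of_fp G
    intro X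
    rw [Preadditive.comp_add, ← G.map_comp, ← G.map_comp, ← G.map_comp, Preadditive.comp_add]
    let Y₁ : CostructuredArrow (incl A) N := CostructuredArrow.mk (Y := X.left) (X.hom ≫ f)
    let Y₂ : CostructuredArrow (incl A) N := CostructuredArrow.mk (Y := X.left) (X.hom ≫ g)
    let Z := IsFiltered.max Y₁ Y₂
    let i₁ : Y₁ ⟶ Z := IsFiltered.leftToMax Y₁ Y₂
    let i₂ : Y₂ ⟶ Z := IsFiltered.rightToMax Y₁ Y₂
    let a₁ : X.left ⟶ Z.left := i₁.left
    let a₂ : X.left ⟶ Z.left := i₂.left
    have h₁ : X.hom ≫ f = (incl A).map a₁ ≫ Z.hom := (CostructuredArrow.w i₁).symm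
    have h₂ : X.hom ≫ g = (incl A).map a₂ ≫ Z.hom := (CostructuredArrow.w i₂).symm
    have hsum : X.hom ≫ f + X.hom ≫ g = (incl A).map (a₁ + a₂) ≫ Z.hom := by
      rw [Functor.map_add, Preadditive.add_comp, ← h₁, ← h₂]
    rw [hsum, h₁, h₂, G.map_comp, G.map_comp, G.map_comp]
    have e' : G.map ((incl A).map (a₁ + a₂)) =
        G.map ((incl A).map a₁) + G.map ((incl A).map a₂) :=
      (incl A ⋙ G).map_add (f := a₁) (g := a₂)
    rw [e', Preadditive.add_comp]

end additive

/-! ### Small coproducts from finite coproducts and filtered colimits -/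

section coproducts

open CoproductsFromFiniteFiltered

variable {C : Type u''} [Category.{v''} C] {B : Type u'} [Category.{v'} B]

/-- A functor preserving finite coproducts and filtered colimits preserves small coproducts. -/
theorem preservesColimitsOfShape_discrete_of_finite_filtered
    [HasFiniteCoproducts C] [HasFilteredColimitsOfSize.{u, u} C]
    (G : C ⥤ B) [PreservesFiniteCoproducts G] [PreservesFilteredColimitsOfSize.{u, u} G]
    (J : Type u) : PreservesColimitsOfShape (Discrete J) G := by
  haveI : HasCoproducts.{u} C := hasCoproducts_of_finite_and_filtered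
  suffices H : ∀ f : J → C, PreservesColimit (Discrete.functor f) G by
    constructor
    intro K
    exact preservesColimit_of_iso_diagram G (Discrete.natIsoFunctor (F := K)).symm
  intro f
  apply preservesColimit_of_preserves_colimit_cocone (coproductIsCoproduct f)
  refine (isColimitMapCoconeCofanMkEquiv G f _).symm ?_
  -- notation
  let L : Finset (Discrete J) ⥤ C := liftToFinsetObj (Discrete.functor f)
  let cc : Cocone L := finiteSubcoproductsCocone f
  have hcc : IsColimit cc := isColimitFiniteSubproductsCocone f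
  have h1 : IsColimit (G.mapCocone cc) := isColimitOfPreserves G hcc
  let g : ∀ S : Finset (Discrete J), {x // x ∈ S} → C := fun S x => f x.val.as
  have hS : ∀ S : Finset (Discrete J),
      IsColimit (Cofan.mk (G.obj (∐ g S)) fun x => G.map (Sigma.ι (g S) x)) := fun S =>
    isColimitCofanMkObjOfIsColimit G (g S) _ (coproductIsCoproduct (g S))
  -- compatibility of the inclusions
  have hι : ∀ (S : Finset (Discrete J)) (x : {x // x ∈ S}),
      Sigma.ι (g S) x ≫ cc.ι.app S = Sigma.ι f x.val.as := by
    intro S x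
    change Sigma.ι (g S) x ≫ Sigma.desc (fun s : {x // x ∈ S} => Sigma.ι f s.val.as) = _
    exact Sigma.ι_desc _ _
  have hmap : ∀ {S S' : Finset (Discrete J)} (h : S ⟶ S') (x : {x // x ∈ S}),
      Sigma.ι (g S) x ≫ L.map h = Sigma.ι (g S') ⟨x.val, h.down.down x.2⟩ := by
    intro S S' h x
    change Sigma.ι (g S) x ≫ Sigma.desc (fun y : {x // x ∈ S} =>
      Sigma.ι (g S') ⟨y.val, h.down.down y.2⟩) = _
    exact Sigma.ι_desc _ _
  let u : ∀ (s : Cofan fun j => G.obj (f j)) (S : Finset (Discrete J)),
      G.obj (L.obj S) ⟶ s.pt := fun s S =>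
    Cofan.IsColimit.desc (hS S) (fun x => s.inj x.val.as)
  have hu : ∀ (s : Cofan fun j => G.obj (f j)) (S : Finset (Discrete J)) (x : {x // x ∈ S}),
      G.map (Sigma.ι (g S) x) ≫ u s S = s.inj x.val.as := fun s S x =>
    Cofan.IsColimit.fac (hS S) _ x
  have hunat : ∀ (s : Cofan fun j => G.obj (f j)) {S S' : Finset (Discrete J)} (h : S ⟶ S'),
      G.map (L.map h) ≫ u s S' = u s S := by
    intro s S S' h
    apply Cofan.IsColimit.hom_ext (hS S)
    intro x
    change G.map (Sigma.ι (g S) x) ≫ G.map (L.map h) ≫ u s S' = G.map (Sigma.ι (g S) x) ≫ u s S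
    have e1 : G.map (Sigma.ι (g S) x) ≫ G.map (L.map h) =
        G.map (Sigma.ι (g S') ⟨x.val, h.down.down x.2⟩) :=
      (G.map_comp _ _).symm.trans (congrArg G.map (hmap h x))
    exact ((Category.assoc _ _ _).symm.trans
      ((congrArg (· ≫ u s S') e1).trans (hu s S' _))).trans (hu s S x).symm
  let coc : ∀ (s : Cofan fun j => G.obj (f j)), Cocone (L ⋙ G) := fun s =>
    { pt := s.pt
      ι :=
        { app := fun S => u s S
          naturality := fun S S' h => by
            change G.map (L.map h) ≫ u s S' = u s S ≫ 𝟙 _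
            rw [Category.comp_id, hunat] } }
  refine Cofan.IsColimit.mk _ (fun s => h1.desc (coc s)) (fun s j => ?_) (fun s m hm => ?_)
  · -- fac
    let S : Finset (Discrete J) := {Discrete.mk j}
    let x : {x // x ∈ S} := ⟨Discrete.mk j, Finset.mem_singleton_self _⟩
    have e0 : Sigma.ι f j = Sigma.ι (g S) x ≫ cc.ι.app S := (hι S x).symm
    have e1 : G.map (cc.ι.app S) ≫ h1.desc (coc s) = u s S := h1.fac (coc s) S
    change G.map (Sigma.ι f j) ≫ h1.desc (coc s) = s.inj j
    calc G.map (Sigma.ι f j) ≫ h1.desc (coc s)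
        = G.map (Sigma.ι (g S) x) ≫ G.map (cc.ι.app S) ≫ h1.desc (coc s) :=
          (congrArg (fun t => G.map t ≫ h1.desc (coc s)) e0).trans
            ((congrArg (· ≫ h1.desc (coc s)) (G.map_comp _ _)).trans (Category.assoc _ _ _))
      _ = G.map (Sigma.ι (g S) x) ≫ u s S := congrArg (G.map (Sigma.ι (g S) x) ≫ ·) e1
      _ = s.inj j := hu s S x
  · -- uniq
    apply h1.hom_ext
    intro S
    rw [h1.fac]
    apply Cofan.IsColimit.hom_ext (hS S)
    intro x
    have hm' : G.map (Sigma.ι f x.val.as) ≫ m = s.inj x.val.as := hm x.val.as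
    change G.map (Sigma.ι (g S) x) ≫ G.map (cc.ι.app S) ≫ m = G.map (Sigma.ι (g S) x) ≫ u s S
    exact ((Category.assoc _ _ _).symm.trans
      ((congrArg (· ≫ m) ((G.map_comp _ _).symm.trans (congrArg G.map (hι S x)))).trans
        hm')).trans (hu s S x).symm

end coproducts

end Groth.Agent.Lib.Helper19.IndExt
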