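import Groth.Agent.Lib.Helper19IndExtD

/-!
# Right exactness of extensions from f.p. modules
-/

set_option autoImplicit false
set_option linter.style.haveILetI false

universe u u' v'

open CategoryTheory CategoryTheory.Limits

namespace Groth.Agent.Lib.Helper19.IndExt

variable {A : Type u} [CommRing A] {B : Type u'} [Category.{v'} B] [Preadditive B]

/-! ### A functor on f.p. modules preserving finite colimits is additive -/

section restrictAdditive

variable (H : FP A ⥤ B) [PreservesFiniteColimits H]

/-- The zero object of `FP A`. -/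
def zeroFP : FP A := FP.of A PUnit.{u + 1}

/-- Constructor for morphisms in `FP A` from linear maps. -/
def fpHom {P Q : FP A} (f : P.obj →ₗ[A] Q.obj) : P ⟶ Q :=
  ObjectProperty.homMk (ModuleCat.ofHom f)

@[simp] lemma fpHom_hom_hom {P Q : FP A} (f : P.obj →ₗ[A] Q.obj) : (fpHom f).hom.hom = f := rfl

lemma fp_hom_ext {P Q : FP A} {f g : P ⟶ Q} (h : ∀ x, f.hom.hom x = g.hom.hom x) : f = g := by
  apply ObjectProperty.hom_ext
  apply ModuleCat.hom_ext
  exact LinearMap.ext h

/-- `zeroFP` is initial. -/
def isInitialZeroFP : IsInitial (zeroFP : FP A) :=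
  IsInitial.ofUniqueHom (fun X => (fpHom 0 : zeroFP ⟶ X)) (fun X m => by
    apply fp_hom_ext
    intro x
    have hx : x = 0 := Subsingleton.elim (α := PUnit.{u + 1}) _ _
    rw [hx, map_zero, map_zero])

lemma map_zero_of_preservesFiniteColimits (P Q : FP A) : H.map (0 : P ⟶ Q) = 0 := by
  have hI : IsInitial (H.obj zeroFP) := IsInitial.isInitialObj H _ isInitialZeroFP
  have e : (0 : P ⟶ Q) = (fpHom 0 : P ⟶ zeroFP) ≫ (fpHom 0 : zeroFP ⟶ Q) := by
    apply fp_hom_ext
    intro x
    rfl
  rw [e, H.map_comp, hI.hom_ext (H.map (fpHom 0 : zeroFP ⟶ Q)) 0, comp_zero]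

/-- A functor on f.p. modules preserving finite colimits is additive. -/
theorem additive_of_preservesFiniteColimits : H.Additive where
  map_add {P Q a b} := by
    let PP : FP A := FP.of A (P.obj × P.obj)
    let i₁ : P ⟶ PP := fpHom (LinearMap.inl A P.obj P.obj)
    let i₂ : P ⟶ PP := fpHom (LinearMap.inr A P.obj P.obj)
    let p₁ : PP ⟶ P := fpHom (LinearMap.fst A P.obj P.obj)
    let p₂ : PP ⟶ P := fpHom (LinearMap.snd A P.obj P.obj)
    let Δ : P ⟶ PP := fpHom (LinearMap.prod LinearMap.id LinearMap.id)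
    let cop : ∀ {T : FP A} (f g : P ⟶ T), PP ⟶ T := fun f g =>
      fpHom (LinearMap.coprod f.hom.hom g.hom.hom)
    have hcolim : IsColimit (BinaryCofan.mk i₁ i₂) :=
      BinaryCofan.isColimitMk (fun s => cop s.inl s.inr)
        (fun s => by
          let f : P ⟶ s.pt := s.inl
          let g : P ⟶ s.pt := s.inr
          apply fp_hom_ext
          intro x
          change f.hom.hom x + g.hom.hom 0 = f.hom.hom x
          rw [map_zero, add_zero])
        (fun s => by
          let f : P ⟶ s.pt := s.inl
          let g : P ⟶ s.pt := s.inr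
          apply fp_hom_ext
          intro x
          change f.hom.hom 0 + g.hom.hom x = g.hom.hom x
          rw [map_zero, zero_add])
        (fun s m h1 h2 => by
          let f : P ⟶ s.pt := s.inl
          let g : P ⟶ s.pt := s.inr
          apply fp_hom_ext
          rintro ⟨x, y⟩
          have e1 : m.hom.hom (x, 0) = f.hom.hom x :=
            congrArg (fun t : P ⟶ s.pt => t.hom.hom x) h1
          have e2 : m.hom.hom (0, y) = g.hom.hom y :=
            congrArg (fun t : P ⟶ s.pt => t.hom.hom y) h2
          change m.hom.hom (x, y) = f.hom.hom x + g.hom.hom y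
          rw [← e1, ← e2, ← map_add]
          congr 1
          change (x, y) = (x + 0, 0 + y)
          simp)
    have hB : IsColimit (BinaryCofan.mk (H.map i₁) (H.map i₂)) :=
      isColimitMapCoconeBinaryCofanEquiv H i₁ i₂ (isColimitOfPreserves H hcolim)
    have r11 : i₁ ≫ p₁ = 𝟙 P := by apply fp_hom_ext; intro x; rfl
    have r22 : i₂ ≫ p₂ = 𝟙 P := by apply fp_hom_ext; intro x; rfl
    have r12 : i₁ ≫ p₂ = 0 := by apply fp_hom_ext; intro x; rfl
    have r21 : i₂ ≫ p₁ = 0 := by apply fp_hom_ext; intro x; rfl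
    have d1 : Δ ≫ p₁ = 𝟙 P := by apply fp_hom_ext; intro x; rfl
    have d2 : Δ ≫ p₂ = 𝟙 P := by apply fp_hom_ext; intro x; rfl
    have c0 : Δ ≫ cop a b = a + b := by
      apply fp_hom_ext
      intro x
      rfl
    have c1 : i₁ ≫ cop a b = a := by
      apply fp_hom_ext
      intro x
      change a.hom.hom x + b.hom.hom 0 = a.hom.hom x
      rw [map_zero, add_zero]
    have c2 : i₂ ≫ cop a b = b := by
      apply fp_hom_ext
      intro x
      change a.hom.hom 0 + b.hom.hom x = b.hom.hom x
      rw [map_zero, zero_add]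
    have R11 : H.map i₁ ≫ H.map p₁ = 𝟙 _ := by rw [← H.map_comp, r11, H.map_id]
    have R22 : H.map i₂ ≫ H.map p₂ = 𝟙 _ := by rw [← H.map_comp, r22, H.map_id]
    have R12 : H.map i₁ ≫ H.map p₂ = 0 := by
      rw [← H.map_comp, r12, map_zero_of_preservesFiniteColimits]
    have R21 : H.map i₂ ≫ H.map p₁ = 0 := by
      rw [← H.map_comp, r21, map_zero_of_preservesFiniteColimits]
    have total : H.map p₁ ≫ H.map i₁ + H.map p₂ ≫ H.map i₂ = 𝟙 (H.obj PP) := by
      apply BinaryCofan.IsColimit.hom_ext hB
      · change H.map i₁ ≫ (H.map p₁ ≫ H.map i₁ + H.map p₂ ≫ H.map i₂) = H.map i₁ ≫ 𝟙 _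
        rw [Preadditive.comp_add, ← Category.assoc, R11, ← Category.assoc, R12, zero_comp,
          add_zero, Category.id_comp, Category.comp_id]
      · change H.map i₂ ≫ (H.map p₁ ≫ H.map i₁ + H.map p₂ ≫ H.map i₂) = H.map i₂ ≫ 𝟙 _
        rw [Preadditive.comp_add, ← Category.assoc, R21, ← Category.assoc, R22, zero_comp,
          zero_add, Category.id_comp, Category.comp_id]
    have hΔ : H.map Δ = H.map i₁ + H.map i₂ := by
      calc H.map Δ = H.map Δ ≫ (H.map p₁ ≫ H.map i₁ + H.map p₂ ≫ H.map i₂) := by
            rw [total, Category.comp_id]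
        _ = H.map i₁ + H.map i₂ := by
            have D1 : H.map Δ ≫ H.map p₁ = 𝟙 _ := by rw [← H.map_comp, d1, H.map_id]
            have D2 : H.map Δ ≫ H.map p₂ = 𝟙 _ := by rw [← H.map_comp, d2, H.map_id]
            rw [Preadditive.comp_add, ← Category.assoc, ← Category.assoc, D1, D2,
              Category.id_comp, Category.id_comp]
    rw [← c0, H.map_comp, hΔ, Preadditive.add_comp, ← H.map_comp, ← H.map_comp, c1, c2]

end restrictAdditive

/-! ### The presentation cokernel lemma -/

section presentation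

variable (G : ModuleCat.{u} A ⥤ B) [G.Additive] [PreservesFiniteColimits (incl A ⋙ G)]

/-- If `s : A^n → P` is surjective with kernel the image of `r : A^m → A^n` then `G(s)` is a
cokernel of `G(r)`: existence of factorizations. -/
theorem exists_desc_of_presentation {P : Type u} [AddCommGroup P] [Module A P]
    [Module.FinitePresentation A P] {n m : ℕ}
    (s : (Fin n → A) →ₗ[A] P) (r : (Fin m → A) →ₗ[A] (Fin n → A))
    (hs : Function.Surjective s) (hrs : Function.Exact r s) {T : B}
    (v : G.obj (ModuleCat.of A (Fin n → A)) ⟶ T)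
    (hv : G.map (ModuleCat.ofHom r) ≫ v = 0) :
    ∃ τ : G.obj (ModuleCat.of A P) ⟶ T, G.map (ModuleCat.ofHom s) ≫ τ = v := by
  let H := incl A ⋙ G
  haveI : H.Additive := additive_of_preservesFiniteColimits H
  let Fm : FP A := FP.of A (Fin m → A)
  let Fn : FP A := FP.of A (Fin n → A)
  let PP : FP A := FP.of A P
  let r' : Fm ⟶ Fn := fpHom r
  let s' : Fn ⟶ PP := fpHom s
  have w : r' ≫ s' = 0 := by
    apply fp_hom_ext
    intro x
    exact hrs.apply_apply_eq_zero x
  have hMod : IsColimit (CokernelCofork.ofπ (f := (incl A).map r') ((incl A).map s')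
      (by rw [← (incl A).map_comp, w, Functor.map_zero])) :=
    ModuleCat.isColimitCokernelCofork (ModuleCat.ofHom r) (ModuleCat.ofHom s) hrs hs
  have hFP : IsColimit (CokernelCofork.ofπ s' w) :=
    isColimitOfReflects (incl A) ((isColimitMapCoconeCoforkEquiv' (incl A) w).symm hMod)
  have hB := isColimitCoforkMapOfIsColimit' H w hFP
  obtain ⟨τ, hτ⟩ := CokernelCofork.IsColimit.desc' hB v hv
  exact ⟨τ, hτ⟩

/-- If `s : A^n → P` is surjective with kernel the image of `r : A^m → A^n` then `G(s)` is an
epimorphism. -/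
theorem epi_of_presentation {P : Type u} [AddCommGroup P] [Module A P]
    [Module.FinitePresentation A P] {n m : ℕ}
    (s : (Fin n → A) →ₗ[A] P) (r : (Fin m → A) →ₗ[A] (Fin n → A))
    (hs : Function.Surjective s) (hrs : Function.Exact r s) :
    Epi (G.map (ModuleCat.ofHom s)) := by
  let H := incl A ⋙ G
  haveI : H.Additive := additive_of_preservesFiniteColimits H
  let Fm : FP A := FP.of A (Fin m → A)
  let Fn : FP A := FP.of A (Fin n → A)
  let PP : FP A := FP.of A P
  let r' : Fm ⟶ Fn := fpHom r
  let s' : Fn ⟶ PP := fpHom s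
  have w : r' ≫ s' = 0 := by
    apply fp_hom_ext
    intro x
    exact hrs.apply_apply_eq_zero x
  have hMod : IsColimit (CokernelCofork.ofπ (f := (incl A).map r') ((incl A).map s')
      (by rw [← (incl A).map_comp, w, Functor.map_zero])) :=
    ModuleCat.isColimitCokernelCofork (ModuleCat.ofHom r) (ModuleCat.ofHom s) hrs hs
  have hFP : IsColimit (CokernelCofork.ofπ s' w) :=
    isColimitOfReflects (incl A) ((isColimitMapCoconeCoforkEquiv' (incl A) w).symm hMod)
  have hB := isColimitCoforkMapOfIsColimit' H w hFP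
  exact epi_of_isColimit_cofork hB

end presentation

end Groth.Agent.Lib.Helper19.IndExt
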