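import Groth.Agent.Lib.Helper19IndExtE

/-!
# Preservation of cokernels by extensions from f.p. modules
-/

set_option autoImplicit false
set_option linter.style.haveILetI false

universe u u' v'

open CategoryTheory CategoryTheory.Limits

namespace Groth.Agent.Lib.Helper19.IndExt

variable {A : Type u} [CommRing A] {B : Type u'} [Category.{v'} B] [Preadditive B]

section cokernel

variable (G : ModuleCat.{u} A ⥤ B) [G.Additive]
  {M N Q : ModuleCat.{u} A} (f : M ⟶ N) (π : N ⟶ Q)
  (hex : Function.Exact f.hom π.hom) {T : B} (t : G.obj N ⟶ T) (ht : G.map f ≫ t = 0)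

include hex ht

/-- A map from a free module into `N` killed by `π` is killed by `G(-) ≫ t`. -/
lemma map_comp_eq_zero_of_comp_eq_zero {n : ℕ} (d : (Fin n → A) →ₗ[A] N)
    (hd : π.hom ∘ₗ d = 0) : G.map (ModuleCat.ofHom d) ≫ t = 0 := by
  have hrange : ∀ x, d x ∈ LinearMap.range f.hom := by
    intro x
    have : π.hom (d x) = 0 := LinearMap.congr_fun hd x
    exact (hex (d x)).1 this
  let d' : (Fin n → A) →ₗ[A] LinearMap.range f.hom := d.codRestrict _ hrange
  obtain ⟨k, hk⟩ := Module.projective_lifting_property f.hom.rangeRestrict d'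
    f.hom.surjective_rangeRestrict
  have e : ModuleCat.ofHom d = ModuleCat.ofHom k ≫ f := by
    apply ModuleCat.hom_ext
    apply LinearMap.ext
    intro x
    have := LinearMap.congr_fun hk x
    exact congrArg Subtype.val this.symm
  rw [e, G.map_comp, Category.assoc, ht, comp_zero]

/-- Two maps from a free module into `N` with the same image under `π` have the same
`G(-) ≫ t`. -/
lemma map_comp_eq_of_comp_eq {n : ℕ} (ℓ₁ ℓ₂ : (Fin n → A) →ₗ[A] N)
    (h : π.hom ∘ₗ ℓ₁ = π.hom ∘ₗ ℓ₂) :
    G.map (ModuleCat.ofHom ℓ₁) ≫ t = G.map (ModuleCat.ofHom ℓ₂) ≫ t := by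
  have h0 := map_comp_eq_zero_of_comp_eq_zero G f π hex t ht (ℓ₁ - ℓ₂) (by
    rw [LinearMap.comp_sub, h, sub_self])
  have e : ModuleCat.ofHom ℓ₁ = ModuleCat.ofHom (ℓ₁ - ℓ₂) + ModuleCat.ofHom ℓ₂ := by
    apply ModuleCat.hom_ext
    apply LinearMap.ext
    intro x
    change ℓ₁ x = (ℓ₁ x - ℓ₂ x) + ℓ₂ x
    abel
  rw [e, G.map_add, Preadditive.add_comp, h0, zero_add]

omit hex ht in
/-- The defining property of the components of the descent map. -/
def Good (X : CostructuredArrow (incl A) Q) (τ : G.obj X.left.obj ⟶ T) : Prop :=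
  ∀ (n : ℕ) (s' : (Fin n → A) →ₗ[A] X.left.obj) (ℓ' : (Fin n → A) →ₗ[A] N),
    π.hom ∘ₗ ℓ' = X.hom.hom ∘ₗ s' →
    G.map (ModuleCat.ofHom s') ≫ τ = G.map (ModuleCat.ofHom ℓ') ≫ t

variable [PreservesFiniteColimits (incl A ⋙ G)] (hπ : Function.Surjective π.hom)

include hπ

lemma good_exists (X : CostructuredArrow (incl A) Q) : ∃ τ, Good G π t X τ := by
  obtain ⟨n, m, s, r, hs, hrs⟩ := Module.FinitePresentation.exists_fin' A X.left.obj
  obtain ⟨ℓ, hℓ⟩ := Module.projective_lifting_property π.hom (X.hom.hom ∘ₗ s) hπ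
  have hv : G.map (ModuleCat.ofHom r) ≫ G.map (ModuleCat.ofHom ℓ) ≫ t = 0 := by
    rw [← Category.assoc, ← G.map_comp]
    have : ModuleCat.ofHom r ≫ ModuleCat.ofHom ℓ = ModuleCat.ofHom (ℓ ∘ₗ r) := rfl
    rw [this]
    apply map_comp_eq_zero_of_comp_eq_zero G f π hex t ht
    rw [← LinearMap.comp_assoc, hℓ, LinearMap.comp_assoc]
    have : s ∘ₗ r = 0 := LinearMap.ext fun x => hrs.apply_apply_eq_zero x
    rw [this, LinearMap.comp_zero]
  obtain ⟨τ, hτ⟩ := exists_desc_of_presentation G s r hs hrs _ hv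
  refine ⟨τ, ?_⟩
  intro n' s' ℓ' h'
  obtain ⟨b, hb⟩ := Module.projective_lifting_property s s' hs
  have e1 : ModuleCat.ofHom s' = ModuleCat.ofHom b ≫ ModuleCat.ofHom s := by
    rw [← hb]; rfl
  have hτ' : G.map (ModuleCat.ofHom s) ≫ τ = G.map (ModuleCat.ofHom ℓ) ≫ t := hτ
  calc G.map (ModuleCat.ofHom s') ≫ τ
      = G.map (ModuleCat.ofHom b) ≫ G.map (ModuleCat.ofHom s) ≫ τ := by
        rw [e1, G.map_comp, Category.assoc]
    _ = G.map (ModuleCat.ofHom (ℓ ∘ₗ b)) ≫ t := by
        rw [hτ', ← Category.assoc, ← G.map_comp]; rfl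
    _ = G.map (ModuleCat.ofHom ℓ') ≫ t := by
        apply map_comp_eq_of_comp_eq G f π hex t ht
        rw [← LinearMap.comp_assoc, hℓ, LinearMap.comp_assoc, hb, h']

omit hex ht in
lemma good_unique (X : CostructuredArrow (incl A) Q) {τ τ' : G.obj X.left.obj ⟶ T}
    (h : Good G π t X τ) (h' : Good G π t X τ') : τ = τ' := by
  obtain ⟨n, m, s, r, hs, hrs⟩ := Module.FinitePresentation.exists_fin' A X.left.obj
  obtain ⟨ℓ, hℓ⟩ := Module.projective_lifting_property π.hom (X.hom.hom ∘ₗ s) hπ
  haveI : Epi (G.map (ModuleCat.ofHom s)) := epi_of_presentation G s r hs hrs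
  have e1 := h n s ℓ hℓ
  have e2 := h' n s ℓ hℓ
  exact (cancel_epi (G.map (ModuleCat.ofHom s))).1 (e1.trans e2.symm)

/-- chosen component -/
noncomputable def comp (X : CostructuredArrow (incl A) Q) : G.obj X.left.obj ⟶ T :=
  (good_exists G f π hex t ht hπ X).choose

lemma comp_good (X : CostructuredArrow (incl A) Q) :
    Good G π t X (comp G f π hex t ht hπ X) :=
  (good_exists G f π hex t ht hπ X).choose_spec

/-- The cocone inducing the descent map. -/
noncomputable def cokerCocone :
    Cocone ((CostructuredArrow.proj (incl A) Q ⋙ incl A) ⋙ G) where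
  pt := T
  ι :=
    { app := fun X => comp G f π hex t ht hπ X
      naturality := fun X Y φ => by
        change G.map φ.left.hom ≫ comp G f π hex t ht hπ Y = comp G f π hex t ht hπ X ≫ 𝟙 _
        rw [Category.comp_id]
        apply good_unique G π t hπ X _ (comp_good G f π hex t ht hπ X)
        intro n s' ℓ' h'
        have hY := comp_good G f π hex t ht hπ Y n (φ.left.hom.hom ∘ₗ s') ℓ' (by
          rw [← LinearMap.comp_assoc, hom_w φ, h'])
        rw [← hY, ← Category.assoc, ← G.map_comp]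
        rfl }

variable [PreservesFilteredColimitsOfSize.{u, u} G]

/-- The descent map out of `G(Q)`. -/
noncomputable def cokerDesc : G.obj Q ⟶ T :=
  (isColimitMapCanCocone G Q).desc (cokerCocone G f π hex t ht hπ)

lemma cokerDesc_spec (X : CostructuredArrow (incl A) Q) :
    G.map X.hom ≫ cokerDesc G f π hex t ht hπ = comp G f π hex t ht hπ X :=
  (isColimitMapCanCocone G Q).fac (cokerCocone G f π hex t ht hπ) X

lemma cokerDesc_fac : G.map π ≫ cokerDesc G f π hex t ht hπ = t := by
  apply hom_ext_of_fp G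
  intro Y
  let X' : CostructuredArrow (incl A) Q := CostructuredArrow.mk (Y := Y.left) (Y.hom ≫ π)
  have e1 : G.map Y.hom ≫ G.map π ≫ cokerDesc G f π hex t ht hπ =
      comp G f π hex t ht hπ X' := by
    rw [← Category.assoc, ← G.map_comp]
    exact cokerDesc_spec G f π hex t ht hπ X'
  rw [e1]
  apply good_unique G π t hπ X' (comp_good G f π hex t ht hπ X')
  intro n s' ℓ' h'
  have : G.map (ModuleCat.ofHom s') ≫ G.map Y.hom ≫ t =
      G.map (ModuleCat.ofHom (Y.hom.hom ∘ₗ s')) ≫ t := by
    rw [← Category.assoc, ← G.map_comp]; rfl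
  rw [this]
  apply map_comp_eq_of_comp_eq G f π hex t ht
  rw [h', ← LinearMap.comp_assoc]
  rfl

lemma cokerDesc_uniq (m : G.obj Q ⟶ T) (hm : G.map π ≫ m = t) :
    m = cokerDesc G f π hex t ht hπ := by
  apply (isColimitMapCanCocone G Q).hom_ext
  intro X
  change G.map X.hom ≫ m = G.map X.hom ≫ cokerDesc G f π hex t ht hπ
  rw [cokerDesc_spec]
  apply good_unique G π t hπ X _ (comp_good G f π hex t ht hπ X)
  intro n s' ℓ' h'
  have e1 : ModuleCat.ofHom s' ≫ X.hom = ModuleCat.ofHom ℓ' ≫ π := by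
    apply ModuleCat.hom_ext
    exact h'.symm
  rw [← Category.assoc, ← G.map_comp, e1, G.map_comp, Category.assoc, hm]

end cokernel

/-- A functor commuting with filtered colimits whose restriction to f.p. modules is right exact
preserves cokernels. -/
theorem preservesCokernel (G : ModuleCat.{u} A ⥤ B) [G.Additive]
    [PreservesFiniteColimits (incl A ⋙ G)] [PreservesFilteredColimitsOfSize.{u, u} G]
    {M N : ModuleCat.{u} A} (f : M ⟶ N) : PreservesColimit (parallelPair f 0) G := by
  let π : N ⟶ ModuleCat.of A (N ⧸ LinearMap.range f.hom) :=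
    ModuleCat.ofHom (LinearMap.range f.hom).mkQ
  have hπ : Function.Surjective π.hom := (LinearMap.range f.hom).mkQ_surjective
  have hex : Function.Exact f.hom π.hom := by
    rw [LinearMap.exact_iff]
    exact (LinearMap.range f.hom).ker_mkQ
  have w : G.map f ≫ G.map π = 0 := by
    rw [← G.map_comp]
    have : f ≫ π = 0 := by
      apply ModuleCat.hom_ext
      apply LinearMap.ext
      intro x
      exact hex.apply_apply_eq_zero x
    rw [this, G.map_zero]
  have hcolim : IsColimit (CokernelCofork.ofπ (G.map π) w) :=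
    CokernelCofork.IsColimit.ofπ (G.map π) w
      (fun {T} t ht => cokerDesc G f π hex t ht hπ)
      (fun {T} t ht => cokerDesc_fac G f π hex t ht hπ)
      (fun {T} t ht m hm => cokerDesc_uniq G f π hex t ht hπ m hm)
  apply preservesColimit_of_preserves_colimit_cocone (ModuleCat.cokernelIsColimit f)
  exact (CokernelCofork.isColimitMapCoconeEquiv (ModuleCat.cokernelCocone f) G).symm hcolim

end Groth.Agent.Lib.Helper19.IndExt
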