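import Mathlib

/-!
# Coherent rings: kernels of maps between finitely presented modules are finitely presented
-/

set_option autoImplicit false
set_option linter.style.haveILetI false

universe u

namespace Groth.Agent.Lib.Helper19.IndExt

variable {A : Type u} [CommRing A]

/-- An extension of f.p. modules is f.p. (restating Mathlib with explicit hypotheses). -/
lemma fp_of_surjective_of_fp_ker {M N : Type u} [AddCommGroup M] [Module A M] [AddCommGroup N]
    [Module A N] (l : M →ₗ[A] N) (hl : Function.Surjective l)
    (hN : Module.FinitePresentation A N) (hK : Module.FinitePresentation A (LinearMap.ker l)) :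
    Module.FinitePresentation A M :=
  Module.finitePresentation_of_ker l hl

variable (hcoh : ∀ I : Ideal A, I.FG → Module.FinitePresentation A I)

include hcoh

/-- Over a coherent ring, finitely generated submodules of finite free modules are f.p. -/
theorem fp_of_fg_submodule_pi : ∀ (n : ℕ) (K : Submodule A (Fin n → A)), K.FG →
    Module.FinitePresentation A K := by
  intro n
  induction n with
  | zero =>
    intro K _
    haveI : Subsingleton (Fin 0 → A) := inferInstance
    haveI : Subsingleton K := inferInstance
    infer_instance
  | succ n ih =>
    intro K hK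
    -- projection to the last coordinate
    let π : (Fin (n + 1) → A) →ₗ[A] A := LinearMap.proj (Fin.last n)
    let I : Ideal A := Submodule.map π K
    have hI : I.FG := hK.map π
    haveI hIfp : Module.FinitePresentation A I := hcoh I hI
    -- the restricted projection K → I
    let ρ : K →ₗ[A] I := (π.domRestrict K).codRestrict I (fun x => ⟨x.1, x.2, rfl⟩)
    have hρ : Function.Surjective ρ := by
      rintro ⟨y, x, hx, rfl⟩
      exact ⟨⟨x, hx⟩, rfl⟩
    haveI : Module.Finite A K := Module.Finite.iff_fg.2 hK
    have hkerfg : (LinearMap.ker ρ).FG := Module.FinitePresentation.fg_ker ρ hρ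
    -- embed the kernel in `Fin n → A`
    let init : (Fin (n + 1) → A) →ₗ[A] (Fin n → A) :=
      LinearMap.pi (fun i => LinearMap.proj (Fin.castSucc i))
    let θ : LinearMap.ker ρ →ₗ[A] (Fin n → A) :=
      init ∘ₗ K.subtype ∘ₗ (LinearMap.ker ρ).subtype
    have hθ : Function.Injective θ := by
      rw [injective_iff_map_eq_zero]
      rintro ⟨⟨x, hx⟩, hxk⟩ h0
      have h1 : x (Fin.last n) = 0 := by
        have := LinearMap.mem_ker.1 hxk
        exact congrArg Subtype.val this
      have h2 : ∀ i : Fin n, x (Fin.castSucc i) = 0 := fun i => congrFun h0 i
      have hx0 : x = 0 := by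
        funext i
        refine Fin.lastCases ?_ (fun i => ?_) i
        · exact h1
        · exact h2 i
      subst hx0
      rfl
    let K' : Submodule A (Fin n → A) := LinearMap.range θ
    have hK'fg : K'.FG := by
      have : (⊤ : Submodule A (LinearMap.ker ρ)).FG := by
        rw [← Module.Finite.iff_fg] at hkerfg
        exact Module.Finite.fg_top
      change (LinearMap.range θ).FG
      rw [LinearMap.range_eq_map]
      exact this.map θ
    haveI hK'fp : Module.FinitePresentation A K' := ih K' hK'fg
    haveI hkerfp : Module.FinitePresentation A (LinearMap.ker ρ) :=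
      Module.FinitePresentation.of_equiv (R := A) (M := K') (N := LinearMap.ker ρ)
        (LinearEquiv.ofInjective θ hθ).symm
    exact fp_of_surjective_of_fp_ker ρ hρ hIfp hkerfp

/-- Over a coherent ring, finitely generated submodules of f.p. modules are f.p. -/
theorem fp_of_fg_submodule {P : Type u} [AddCommGroup P] [Module A P]
    [Module.FinitePresentation A P] (K : Submodule A P) (hK : K.FG) :
    Module.FinitePresentation A K := by
  obtain ⟨n, L, e, hL⟩ := Module.FinitePresentation.exists_fin A P
  -- the surjection `q : A^n → P`
  let q : (Fin n → A) →ₗ[A] P := e.symm.toLinearMap ∘ₗ L.mkQ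
  have hq : Function.Surjective q := e.symm.surjective.comp L.mkQ_surjective
  have hkerq : LinearMap.ker q = L := by
    ext x
    simp [q]
  let K₁ : Submodule A (Fin n → A) := K.comap q
  have hK₁fg : K₁.FG := by
    have h1 : (LinearMap.ker q).FG := by rw [hkerq]; exact hL
    exact Submodule.fg_of_fg_map_of_fg_inf_ker q
      (by rw [Submodule.map_comap_eq_of_surjective hq]; exact hK)
      (by
        have : K₁ ⊓ LinearMap.ker q = LinearMap.ker q := by
          apply inf_eq_right.2
          intro x hx
          change q x ∈ K
          rw [LinearMap.mem_ker.1 hx]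
          exact K.zero_mem
        rw [this]; exact h1)
  haveI hK₁fp : Module.FinitePresentation A K₁ := fp_of_fg_submodule_pi hcoh n K₁ hK₁fg
  -- the surjection `K₁ → K`
  let r : K₁ →ₗ[A] K := q.restrict (fun x hx => hx)
  have hr : Function.Surjective r := by
    rintro ⟨y, hy⟩
    obtain ⟨x, rfl⟩ := hq y
    exact ⟨⟨x, hy⟩, rfl⟩
  have hkerr : (LinearMap.ker r).FG := by
    -- ker r ≅ ker q = L
    have hle : LinearMap.ker q ≤ K₁ := by
      intro x hx
      change q x ∈ K
      rw [LinearMap.mem_ker.1 hx]
      exact K.zero_mem
    have : LinearMap.ker r = (LinearMap.ker q).comap K₁.subtype := by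
      ext ⟨x, hx⟩
      simp only [LinearMap.mem_ker, Submodule.mem_comap, Submodule.subtype_apply]
      constructor
      · intro h
        exact congrArg Subtype.val h
      · intro h
        exact Subtype.ext h
    rw [this]
    have h2 : ((LinearMap.ker q).comap K₁.subtype).map K₁.subtype = LinearMap.ker q := by
      rw [Submodule.map_comap_subtype]
      exact inf_eq_right.2 hle
    have h3 : (((LinearMap.ker q).comap K₁.subtype).map K₁.subtype).FG := by
      rw [h2, hkerq]; exact hL
    exact Submodule.fg_of_fg_map_injective K₁.subtype K₁.injective_subtype h3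
  exact Module.finitePresentation_of_surjective r hr hkerr

/-- Over a coherent ring, the kernel of a map between f.p. modules is f.p. -/
theorem fp_ker {P Q : Type u} [AddCommGroup P] [Module A P] [AddCommGroup Q] [Module A Q]
    [Module.FinitePresentation A P] [Module.FinitePresentation A Q] (a : P →ₗ[A] Q) :
    Module.FinitePresentation A (LinearMap.ker a) := by
  have hrange : (LinearMap.range a).FG := by
    rw [LinearMap.range_eq_map]
    exact (Module.Finite.fg_top).map a
  haveI : Module.FinitePresentation A (LinearMap.range a) :=
    fp_of_fg_submodule hcoh _ hrange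
  have hker : (LinearMap.ker a.rangeRestrict).FG :=
    Module.FinitePresentation.fg_ker a.rangeRestrict a.surjective_rangeRestrict
  have : LinearMap.ker a.rangeRestrict = LinearMap.ker a := LinearMap.ker_rangeRestrict a
  rw [this] at hker
  exact fp_of_fg_submodule hcoh _ hker

end Groth.Agent.Lib.Helper19.IndExt
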