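import Groth.Agent.Lib.Helper19IndExtE

/-!
# A functor on f.p. modules preserving finite limits is additive
-/

set_option autoImplicit false
set_option linter.style.haveILetI false

universe u u' v'

open CategoryTheory CategoryTheory.Limits

namespace Groth.Agent.Lib.Helper19.IndExt

variable {A : Type u} [CommRing A] {B : Type u'} [Category.{v'} B] [Preadditive B]

section restrictAdditiveLim

variable (H : FP A ⥤ B) [PreservesFiniteLimits H]

/-- `zeroFP` is terminal. -/
def isTerminalZeroFP : IsTerminal (zeroFP : FP A) :=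
  IsTerminal.ofUniqueHom (fun X => (fpHom 0 : X ⟶ zeroFP)) (fun X m => by
    apply fp_hom_ext
    intro x
    exact Subsingleton.elim (α := PUnit.{u + 1}) _ _)

lemma map_zero_of_preservesFiniteLimits (P Q : FP A) : H.map (0 : P ⟶ Q) = 0 := by
  have hT : IsTerminal (H.obj zeroFP) := IsTerminal.isTerminalObj H _ isTerminalZeroFP
  have e : (0 : P ⟶ Q) = (fpHom 0 : P ⟶ zeroFP) ≫ (fpHom 0 : zeroFP ⟶ Q) := by
    apply fp_hom_ext
    intro x
    rfl
  rw [e, H.map_comp, hT.hom_ext (H.map (fpHom 0 : P ⟶ zeroFP)) 0, zero_comp]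

/-- A functor on f.p. modules preserving finite limits is additive. -/
theorem additive_of_preservesFiniteLimits : H.Additive where
  map_add {P Q a b} := by
    let QQ : FP A := FP.of A (Q.obj × Q.obj)
    let i₁ : Q ⟶ QQ := fpHom (LinearMap.inl A Q.obj Q.obj)
    let i₂ : Q ⟶ QQ := fpHom (LinearMap.inr A Q.obj Q.obj)
    let p₁ : QQ ⟶ Q := fpHom (LinearMap.fst A Q.obj Q.obj)
    let p₂ : QQ ⟶ Q := fpHom (LinearMap.snd A Q.obj Q.obj)
    let cod : QQ ⟶ Q := fpHom (LinearMap.coprod LinearMap.id LinearMap.id)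
    let lft : ∀ {T : FP A} (f g : T ⟶ Q), T ⟶ QQ := fun f g =>
      fpHom (LinearMap.prod f.hom.hom g.hom.hom)
    have hlim : IsLimit (BinaryFan.mk p₁ p₂) :=
      BinaryFan.isLimitMk (fun s => lft s.fst s.snd)
        (fun s => by
          apply fp_hom_ext
          intro x
          rfl)
        (fun s => by
          apply fp_hom_ext
          intro x
          rfl)
        (fun s m h1 h2 => by
          let f : s.pt ⟶ Q := s.fst
          let g : s.pt ⟶ Q := s.snd
          apply fp_hom_ext
          intro x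
          have e1 : (m.hom.hom x).1 = f.hom.hom x :=
            congrArg (fun t : s.pt ⟶ Q => t.hom.hom x) h1
          have e2 : (m.hom.hom x).2 = g.hom.hom x :=
            congrArg (fun t : s.pt ⟶ Q => t.hom.hom x) h2
          change m.hom.hom x = (f.hom.hom x, g.hom.hom x)
          exact Prod.ext e1 e2)
    have hB : IsLimit (BinaryFan.mk (H.map p₁) (H.map p₂)) :=
      isLimitMapConeBinaryFanEquiv H p₁ p₂ (isLimitOfPreserves H hlim)
    have r11 : i₁ ≫ p₁ = 𝟙 Q := by apply fp_hom_ext; intro x; rfl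
    have r22 : i₂ ≫ p₂ = 𝟙 Q := by apply fp_hom_ext; intro x; rfl
    have r12 : i₁ ≫ p₂ = 0 := by apply fp_hom_ext; intro x; rfl
    have r21 : i₂ ≫ p₁ = 0 := by apply fp_hom_ext; intro x; rfl
    have d1 : i₁ ≫ cod = 𝟙 Q := by
      apply fp_hom_ext
      intro x
      change x + 0 = x
      rw [add_zero]
    have d2 : i₂ ≫ cod = 𝟙 Q := by
      apply fp_hom_ext
      intro x
      change 0 + x = x
      rw [zero_add]
    have c0 : lft a b ≫ cod = a + b := by
      apply fp_hom_ext
      intro x
      rfl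
    have c1 : lft a b ≫ p₁ = a := by apply fp_hom_ext; intro x; rfl
    have c2 : lft a b ≫ p₂ = b := by apply fp_hom_ext; intro x; rfl
    have R11 : H.map i₁ ≫ H.map p₁ = 𝟙 _ := by rw [← H.map_comp, r11, H.map_id]
    have R22 : H.map i₂ ≫ H.map p₂ = 𝟙 _ := by rw [← H.map_comp, r22, H.map_id]
    have R12 : H.map i₁ ≫ H.map p₂ = 0 := by
      rw [← H.map_comp, r12, map_zero_of_preservesFiniteLimits]
    have R21 : H.map i₂ ≫ H.map p₁ = 0 := by
      rw [← H.map_comp, r21, map_zero_of_preservesFiniteLimits]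
    have total : H.map p₁ ≫ H.map i₁ + H.map p₂ ≫ H.map i₂ = 𝟙 (H.obj QQ) := by
      apply BinaryFan.IsLimit.hom_ext hB
      · change (H.map p₁ ≫ H.map i₁ + H.map p₂ ≫ H.map i₂) ≫ H.map p₁ = 𝟙 _ ≫ H.map p₁
        rw [Preadditive.add_comp, Category.assoc, R11, Category.assoc, R21, comp_zero,
          add_zero, Category.id_comp, Category.comp_id]
      · change (H.map p₁ ≫ H.map i₁ + H.map p₂ ≫ H.map i₂) ≫ H.map p₂ = 𝟙 _ ≫ H.map p₂
        rw [Preadditive.add_comp, Category.assoc, R12, Category.assoc, R22, comp_zero,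
          zero_add, Category.id_comp, Category.comp_id]
    have hcod : H.map cod = H.map p₁ + H.map p₂ := by
      have D1 : H.map i₁ ≫ H.map cod = 𝟙 _ := by rw [← H.map_comp, d1, H.map_id]
      have D2 : H.map i₂ ≫ H.map cod = 𝟙 _ := by rw [← H.map_comp, d2, H.map_id]
      calc H.map cod = (H.map p₁ ≫ H.map i₁ + H.map p₂ ≫ H.map i₂) ≫ H.map cod := by
            rw [total, Category.id_comp]
        _ = H.map p₁ + H.map p₂ := by
            rw [Preadditive.add_comp, Category.assoc, Category.assoc, D1, D2,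
              Category.comp_id, Category.comp_id]
    rw [← c0, H.map_comp, hcod, Preadditive.comp_add, ← H.map_comp, ← H.map_comp, c1, c2]

end restrictAdditiveLim

end Groth.Agent.Lib.Helper19.IndExt
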