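import Groth.Agent.Lib.Helper19IndExtH

/-!
# Kernels and filtered colimits
-/

set_option autoImplicit false
set_option linter.style.haveILetI false

universe u u' v' u'' v''

open CategoryTheory CategoryTheory.Limits

namespace Groth.Agent.Lib.Helper19.IndExt

section AL

variable {B : Type u'} [Category.{v'} B] [Preadditive B]
  {J : Type u} [SmallCategory J] [HasColimitsOfShape J B]
  (hcomm : PreservesLimitsOfShape WalkingParallelPair (colim : (J ⥤ B) ⥤ B))
  {DK DM DN : J ⥤ B} (κ : DK ⟶ DM) (α : DM ⟶ DN) (w : κ ≫ α = 0)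

include w in
omit [HasColimitsOfShape J B] in
lemma app_comp_app_eq_zero (j : J) : κ.app j ≫ α.app j = 0 := by
  rw [← NatTrans.comp_app, w]; rfl

variable (hker : ∀ j, IsLimit (KernelFork.ofι (κ.app j) (app_comp_app_eq_zero κ α w j)))
  {cK : Cocone DK} {cM : Cocone DM} {cN : Cocone DN}
  (hK : IsColimit cK) (hM : IsColimit cM) (hN : IsColimit cN)
  (i : cK.pt ⟶ cM.pt) (f : cM.pt ⟶ cN.pt)
  (hi : ∀ j, cK.ι.app j ≫ i = κ.app j ≫ cM.ι.app j)
  (hf : ∀ j, cM.ι.app j ≫ f = α.app j ≫ cN.ι.app j)

include w hK hi hf in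
omit [HasColimitsOfShape J B] in
lemma colim_kernel_condition : i ≫ f = 0 := by
  apply hK.hom_ext
  intro j
  rw [← Category.assoc, hi, Category.assoc, hf, ← Category.assoc, app_comp_app_eq_zero κ α w,
    zero_comp, comp_zero]

include hcomm hker hM hN in
/-- If filtered colimits commute with kernels, a filtered colimit of kernels is a kernel. -/
theorem isLimit_colim_kernelFork :
    Nonempty (IsLimit (KernelFork.ofι i (colim_kernel_condition κ α w hK i f hi hf))) := by
  -- the kernel fork in the functor category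
  let c : KernelFork α := KernelFork.ofι κ w
  have hc : IsLimit c := evaluationJointlyReflectsLimits c (fun j =>
    (KernelFork.isLimitMapConeEquiv c ((evaluation J B).obj j)).symm (hker j))
  haveI : PreservesLimit (parallelPair α 0) (colim : (J ⥤ B) ⥤ B) := inferInstance
  have hcol : IsLimit (c.map colim) := KernelFork.mapIsLimit c hc colim
  let eK : colimit DK ≅ cK.pt := (colimit.isColimit DK).coconePointUniqueUpToIso hK
  let eM : colimit DM ≅ cM.pt := (colimit.isColimit DM).coconePointUniqueUpToIso hM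
  let eN : colimit DN ≅ cN.pt := (colimit.isColimit DN).coconePointUniqueUpToIso hN
  have sq1 : eK.hom ≫ i = colimMap κ ≫ eM.hom := by
    apply colimit.hom_ext
    intro j
    rw [← Category.assoc, colimit.comp_coconePointUniqueUpToIso_hom, hi, ← Category.assoc,
      ι_colimMap, Category.assoc, colimit.comp_coconePointUniqueUpToIso_hom]
  have sq2 : eM.hom ≫ f = colimMap α ≫ eN.hom := by
    apply colimit.hom_ext
    intro j
    rw [← Category.assoc, colimit.comp_coconePointUniqueUpToIso_hom, hf, ← Category.assoc,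
      ι_colimMap, Category.assoc, colimit.comp_coconePointUniqueUpToIso_hom]
  have sq2' : eM.inv ≫ colimMap α = f ≫ eN.inv := by
    rw [Iso.inv_comp_eq, ← Category.assoc, sq2, Category.assoc, Iso.hom_inv_id, Category.comp_id]
  have sq1' : i ≫ eM.inv = eK.inv ≫ colimMap κ := by
    rw [Iso.eq_inv_comp, ← Category.assoc, sq1, Category.assoc, Iso.hom_inv_id, Category.comp_id]
  have hz : ∀ {T : B} (t : T ⟶ cM.pt), t ≫ f = 0 → (t ≫ eM.inv) ≫ colimMap α = 0 :=
    fun {T} t ht => by rw [Category.assoc, sq2', ← Category.assoc, ht, zero_comp]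
  let L : ∀ {T : B} (t : T ⟶ cM.pt), t ≫ f = 0 → (T ⟶ colimit DK) :=
    fun {T} t ht => (KernelFork.IsLimit.lift' hcol (t ≫ eM.inv) (hz t ht)).1
  have hL : ∀ {T : B} (t : T ⟶ cM.pt) (ht : t ≫ f = 0), L t ht ≫ colimMap κ = t ≫ eM.inv :=
    fun {T} t ht => (KernelFork.IsLimit.lift' hcol (t ≫ eM.inv) (hz t ht)).2
  have huniq : ∀ {T : B} (a b : T ⟶ colimit DK), a ≫ colimMap κ = b ≫ colimMap κ → a = b :=
    fun {T} a b hab => Fork.IsLimit.hom_ext hcol hab
  refine ⟨KernelFork.IsLimit.ofι i _ (fun {T} t ht => L t ht ≫ eK.hom)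
    (fun {T} t ht => ?_) (fun {T} t ht m hm => ?_)⟩
  · rw [Category.assoc, sq1, ← Category.assoc, hL t ht, Category.assoc, Iso.inv_hom_id,
      Category.comp_id]
  · rw [← Iso.comp_inv_eq]
    apply huniq
    rw [hL t ht, Category.assoc, ← sq1', ← Category.assoc, hm]

end AL

/-! ### The main lemma: preservation of kernels by approximation -/

section ML

variable {A : Type u} [CommRing A] {B : Type u'} [Category.{v'} B] [Preadditive B]
  [HasFilteredColimitsOfSize.{u, u} B]
  (hcomm : ∀ (J : Type u) [SmallCategory J] [IsFiltered J],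
    PreservesLimitsOfShape WalkingParallelPair (colim : (J ⥤ B) ⥤ B))
  (G : ModuleCat.{u} A ⥤ B) [G.Additive] [PreservesFilteredColimitsOfSize.{u, u} G]
  {J : Type u} [SmallCategory J] [IsFiltered J] {DM DN : J ⥤ ModuleCat.{u} A} (α : DM ⟶ DN)
  {cM : Cocone DM} {cN : Cocone DN} (hM : IsColimit cM) (hN : IsColimit cN)
  (f : cM.pt ⟶ cN.pt) (hf : ∀ j, cM.ι.app j ≫ f = α.app j ≫ cN.ι.app j)
  (hpres : ∀ j, PreservesLimit (parallelPair (α.app j) 0) G)

include hcomm hM hN hf hpres in
theorem preservesKernel_of_approx : PreservesLimit (parallelPair f 0) G := by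
  -- the kernel in the functor category
  let DK : J ⥤ ModuleCat.{u} A := kernel α
  let κ : DK ⟶ DM := kernel.ι α
  have w : κ ≫ α = 0 := kernel.condition α
  have hkerMod : ∀ j, IsLimit (KernelFork.ofι (κ.app j) (app_comp_app_eq_zero κ α w j)) :=
    fun j => KernelFork.mapIsLimit (KernelFork.ofι κ w) (kernelIsKernel α)
      ((evaluation J (ModuleCat.{u} A)).obj j)
  let cK : Cocone DK := colimit.cocone DK
  let i : cK.pt ⟶ cM.pt := colimit.desc DK
    { pt := cM.pt
      ι :=
        { app := fun j => κ.app j ≫ cM.ι.app j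
          naturality := fun j k a => by
            dsimp
            rw [Category.comp_id, ← Category.assoc, κ.naturality, Category.assoc, cM.w] } }
  have hi : ∀ j, cK.ι.app j ≫ i = κ.app j ≫ cM.ι.app j := fun j => colimit.ι_desc _ j
  have hcommMod : PreservesLimitsOfShape WalkingParallelPair
      (colim : (J ⥤ ModuleCat.{u} A) ⥤ ModuleCat.{u} A) := by
    haveI : HasExactColimitsOfShape J (ModuleCat.{u} A) := inferInstance
    haveI : PreservesFiniteLimits (colim : (J ⥤ ModuleCat.{u} A) ⥤ ModuleCat.{u} A) :=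
      inferInstance
    infer_instance
  obtain ⟨hlimMod⟩ := isLimit_colim_kernelFork hcommMod κ α w hkerMod (colimit.isColimit DK)
    hM hN i f hi hf
  -- now in `B`
  let κ' : DK ⋙ G ⟶ DM ⋙ G := Functor.whiskerRight κ G
  let α' : DM ⋙ G ⟶ DN ⋙ G := Functor.whiskerRight α G
  have w' : κ' ≫ α' = 0 := by
    ext j
    change G.map (κ.app j) ≫ G.map (α.app j) = 0
    rw [← G.map_comp, app_comp_app_eq_zero κ α w, G.map_zero]
  have hkerB : ∀ j, IsLimit (KernelFork.ofι (κ'.app j) (app_comp_app_eq_zero κ' α' w' j)) :=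
    fun j => by
      haveI := hpres j
      exact KernelFork.mapIsLimit (KernelFork.ofι (κ.app j) (app_comp_app_eq_zero κ α w j))
        (hkerMod j) G
  obtain ⟨hlimB⟩ := isLimit_colim_kernelFork (hcomm J) κ' α' w' hkerB
    (isColimitOfPreserves G (colimit.isColimit DK)) (isColimitOfPreserves G hM)
    (isColimitOfPreserves G hN) (G.map i) (G.map f)
    (fun j => by
      change G.map (cK.ι.app j) ≫ G.map i = G.map (κ.app j) ≫ G.map (cM.ι.app j)
      rw [← G.map_comp, ← G.map_comp, hi])
    (fun j => by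
      change G.map (cM.ι.app j) ≫ G.map f = G.map (α.app j) ≫ G.map (cN.ι.app j)
      rw [← G.map_comp, ← G.map_comp, hf])
  apply preservesLimit_of_preserves_limit_cone hlimMod
  exact (KernelFork.isLimitMapConeEquiv _ G).symm hlimB

end ML

end Groth.Agent.Lib.Helper19.IndExt
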