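import Groth.Agent.Lib.Helper19IndExtI
import Groth.Agent.Lib.Helper19IndExtG

/-!
# Left exactness of functors commuting with filtered colimits, over a coherent ring
-/

set_option autoImplicit false
set_option linter.style.haveILetI false

universe w w' u u' v' u'' v''

open CategoryTheory CategoryTheory.Limits

namespace Groth.Agent.Lib.Helper19.IndExt

section MLess

variable {A : Type u} [CommRing A] {B : Type u'} [Category.{v'} B] [Preadditive B]
  [HasFilteredColimitsOfSize.{u, u} B]
  (hcomm : ∀ (J : Type u) [SmallCategory J] [IsFiltered J],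
    PreservesLimitsOfShape WalkingParallelPair (colim : (J ⥤ B) ⥤ B))
  (G : ModuleCat.{u} A ⥤ B) [G.Additive] [PreservesFilteredColimitsOfSize.{u, u} G]
  {C : Type w} [Category.{w'} C] [EssentiallySmall.{u} C] [IsFiltered C]
  {DM DN : C ⥤ ModuleCat.{u} A} (α : DM ⟶ DN)
  {cM : Cocone DM} {cN : Cocone DN} (hM : IsColimit cM) (hN : IsColimit cN)
  (f : cM.pt ⟶ cN.pt) (hf : ∀ j, cM.ι.app j ≫ f = α.app j ≫ cN.ι.app j)
  (hpres : ∀ j, PreservesLimit (parallelPair (α.app j) 0) G)

include hcomm hM hN hf hpres in
theorem preservesKernel_of_approx_essSmall : PreservesLimit (parallelPair f 0) G := by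
  let e : SmallModel.{u} C ⥤ C := (equivSmallModel.{u} C).inverse
  haveI : IsFiltered (SmallModel.{u} C) := IsFiltered.of_equivalence (equivSmallModel.{u} C)
  haveI : e.Final := inferInstance
  exact preservesKernel_of_approx hcomm G (Functor.whiskerLeft e α)
    (cM := cM.whisker e) (cN := cN.whisker e)
    ((Functor.Final.isColimitWhiskerEquiv e cM).symm hM)
    ((Functor.Final.isColimitWhiskerEquiv e cN).symm hN) f (fun j => hf (e.obj j))
    (fun j => hpres (e.obj j))

end MLess

section steps

variable {A : Type u} [CommRing A] (hcoh : ∀ I : Ideal A, I.FG → Module.FinitePresentation A I)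
  {B : Type u'} [Category.{v'} B] [Preadditive B]
  (G : ModuleCat.{u} A ⥤ B) [G.Additive] [PreservesFiniteLimits (incl A ⋙ G)]

include hcoh in
/-- Step A: kernels of maps between f.p. modules are preserved. -/
theorem preservesKernel_fp (P Q : FP A) (a : P.obj ⟶ Q.obj) :
    PreservesLimit (parallelPair a 0) G := by
  let H := incl A ⋙ G
  haveI : H.Additive := additive_of_preservesFiniteLimits H
  haveI : Module.FinitePresentation A (LinearMap.ker a.hom) := fp_ker hcoh a.hom
  let KK : FP A := FP.of A (LinearMap.ker a.hom)
  let ι' : KK ⟶ P := fpHom (LinearMap.ker a.hom).subtype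
  let a' : P ⟶ Q := ObjectProperty.homMk a
  have w : ι' ≫ a' = 0 := by
    apply fp_hom_ext
    intro x
    exact x.2
  have hMod : IsLimit (KernelFork.ofι (f := (incl A).map a') ((incl A).map ι')
      (by rw [← (incl A).map_comp, w, Functor.map_zero])) :=
    ModuleCat.kernelIsLimit a
  have hFP : IsLimit (KernelFork.ofι ι' w) :=
    isLimitOfReflects (incl A) ((isLimitMapConeForkEquiv' (incl A) w).symm hMod)
  have hB := isLimitForkMapOfIsLimit' H w hFP
  apply preservesLimit_of_preserves_limit_cone (ModuleCat.kernelIsLimit a)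
  exact (KernelFork.isLimitMapConeEquiv _ G).symm hB

variable [HasFilteredColimitsOfSize.{u, u} B]
  (hcomm : ∀ (J : Type u) [SmallCategory J] [IsFiltered J],
    PreservesLimitsOfShape WalkingParallelPair (colim : (J ⥤ B) ⥤ B))
  [PreservesFilteredColimitsOfSize.{u, u} G]

include hcoh hcomm in
/-- Step B: kernels of maps from an f.p. module are preserved. -/
theorem preservesKernel_of_fp_source (P : FP A) {N : ModuleCat.{u} A} (g : P.obj ⟶ N) :
    PreservesLimit (parallelPair g 0) G := by
  let Y₀ : CostructuredArrow (incl A) N := CostructuredArrow.mk (Y := P) g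
  let C := Under Y₀
  haveI : EssentiallySmall.{u} C :=
    show EssentiallySmall.{u} (StructuredArrow Y₀ (𝟭 (CostructuredArrow (incl A) N))) from
      inferInstance
  haveI : IsFiltered C := inferInstance
  haveI : IsConnected C := IsFiltered.isConnected C
  let DM : C ⥤ ModuleCat.{u} A := (Functor.const C).obj P.obj
  let DN : C ⥤ ModuleCat.{u} A :=
    Under.forget Y₀ ⋙ CostructuredArrow.proj (incl A) N ⋙ incl A
  let α : DM ⟶ DN :=
    { app := fun j => j.hom.left.hom
      naturality := fun j k φ => by
        change 𝟙 _ ≫ k.hom.left.hom = j.hom.left.hom ≫ φ.right.left.hom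
        rw [Category.id_comp, ← Under.w φ]
        rfl }
  let cM : Cocone DM := constCocone C P.obj
  have hM : IsColimit cM := isColimitConstCocone C P.obj
  let cN : Cocone DN := (canCocone N).whisker (Under.forget Y₀)
  have hN : IsColimit cN :=
    (Functor.Final.isColimitWhiskerEquiv (Under.forget Y₀) (canCocone N)).symm
      (isColimitCanCocone N)
  refine preservesKernel_of_approx_essSmall.{_, _, u} hcomm G α hM hN g (fun j => ?_) (fun j => ?_)
  · change 𝟙 _ ≫ g = j.hom.left.hom ≫ j.right.hom
    rw [Category.id_comp]
    exact (CostructuredArrow.w j.hom).symm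
  · exact preservesKernel_fp hcoh G P j.right.left j.hom.left.hom

include hcoh hcomm in
/-- Step C: all kernels are preserved. -/
theorem preservesKernel_of_coherent {M N : ModuleCat.{u} A} (f : M ⟶ N) :
    PreservesLimit (parallelPair f 0) G := by
  let C := CostructuredArrow (incl A) M
  let DM : C ⥤ ModuleCat.{u} A := CostructuredArrow.proj (incl A) M ⋙ incl A
  let DN : C ⥤ ModuleCat.{u} A := (Functor.const C).obj N
  let α : DM ⟶ DN :=
    { app := fun X => X.hom ≫ f
      naturality := fun X Y φ => by
        change φ.left.hom ≫ Y.hom ≫ f = (X.hom ≫ f) ≫ 𝟙 _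
        rw [Category.comp_id, ← Category.assoc]
        congr 1
        exact CostructuredArrow.w φ }
  haveI : IsConnected C := IsFiltered.isConnected C
  let cN : Cocone DN := constCocone C N
  have hN : IsColimit cN := isColimitConstCocone C N
  refine preservesKernel_of_approx_essSmall.{_, _, u} hcomm G α (isColimitCanCocone M) hN f
    (fun X => ?_) (fun X => ?_)
  · change X.hom ≫ f = (X.hom ≫ f) ≫ 𝟙 _
    rw [Category.comp_id]
  · exact preservesKernel_of_fp_source hcoh G hcomm X.left (X.hom ≫ f)

end steps

end Groth.Agent.Lib.Helper19.IndExt
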