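import Groth.Agent.Lib.Helper19PowerSeries
import Mathlib.RingTheory.MvPowerSeries.Substitution
import Mathlib.LinearAlgebra.Matrix.NonsingularInverse

set_option autoImplicit false
universe u v

open MvPowerSeries Finsupp

namespace Groth.Agent.Lib.Helper19

section InvFun

variable {R : Type u} [CommRing R] {σ : Type v} [Finite σ]

/-- The ideal of power series without constant term. -/
noncomputable abbrev augIdeal (σ : Type v) (R : Type u) [CommRing R] : Ideal (MvPowerSeries σ R) :=
  coeffIdeal σ (⊥ : Ideal R) 1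

lemma augIdeal_eq_varsIdeal : augIdeal σ R = varsIdeal σ R := by
  apply le_antisymm
  · intro g hg
    rw [mem_coeffIdeal_one, Ideal.mem_bot] at hg
    have := mem_varsIdeal_pow_of_coeff_eq_zero 1 g (by
      intro α hα
      have hα0 : α = 0 := (degree_eq_zero_iff α).1 (by omega)
      subst hα0
      rw [coeff_zero_eq_constantCoeff_apply, hg])
    rwa [pow_one] at this
  · exact varsIdeal_le_coeffIdeal_one ⊥

lemma mem_augIdeal {g : MvPowerSeries σ R} : g ∈ augIdeal σ R ↔ constantCoeff g = 0 := by
  rw [mem_coeffIdeal_one, Ideal.mem_bot]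

/-- An algebra endomorphism of the power series ring sending the variables to series without constant term
respects the powers of the augmentation ideal. -/
lemma map_mem_augIdeal_pow (χ : MvPowerSeries σ R →ₐ[R] MvPowerSeries σ R)
    (hχ : ∀ i, χ (X i) ∈ augIdeal σ R) (k : ℕ) {f : MvPowerSeries σ R} (hf : f ∈ augIdeal σ R ^ k) :
    χ f ∈ augIdeal σ R ^ k := by
  have h1 : (augIdeal σ R).map χ ≤ augIdeal σ R := by
    conv_lhs => rw [augIdeal_eq_varsIdeal, varsIdeal, Ideal.map_span]
    rw [Ideal.span_le]
    rintro _ ⟨_, ⟨i, rfl⟩, rfl⟩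
    exact hχ i
  have h2 : (augIdeal σ R ^ k).map χ ≤ augIdeal σ R ^ k := by
    rw [Ideal.map_pow]
    exact Ideal.pow_right_mono h1 k
  exact h2 (Ideal.mem_map_of_mem _ hf)

lemma algHom_C (χ : MvPowerSeries σ R →ₐ[R] MvPowerSeries σ R) (c : R) : χ (C c) = C c := by
  have : (C c : MvPowerSeries σ R) = algebraMap R (MvPowerSeries σ R) c := rfl
  rw [this, χ.commutes]

section Theta

variable (θ : MvPowerSeries σ R →ₐ[R] MvPowerSeries σ R)
  (hθ : ∀ i, θ (X i) - X i ∈ augIdeal σ R ^ 2)

include hθ

lemma theta_X_mem (i : σ) : θ (X i) ∈ augIdeal σ R := by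
  have h1 : θ (X i) - X i ∈ augIdeal σ R := Ideal.pow_le_self (by norm_num) (hθ i)
  have h2 : (X i : MvPowerSeries σ R) ∈ augIdeal σ R := X_mem_coeffIdeal_one ⊥ i
  have := Ideal.add_mem _ h1 h2
  rwa [sub_add_cancel] at this

lemma theta_sub_mem_zero (f : MvPowerSeries σ R) : θ f - f ∈ augIdeal σ R := by
  have hf' : f - C (constantCoeff f) ∈ augIdeal σ R := by
    rw [mem_augIdeal, map_sub, constantCoeff_C, sub_self]
  have h1 : θ (f - C (constantCoeff f)) ∈ augIdeal σ R := by
    have := map_mem_augIdeal_pow θ (theta_X_mem θ hθ) 1 (by rwa [pow_one])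
    rwa [pow_one] at this
  have := Ideal.sub_mem _ h1 hf'
  rw [map_sub, algHom_C] at this
  have e : θ f - C (constantCoeff f) - (f - C (constantCoeff f)) = θ f - f := by ring
  rwa [e] at this

lemma theta_sub_mem_one {b : MvPowerSeries σ R} (hb : b ∈ augIdeal σ R) :
    θ b - b ∈ augIdeal σ R ^ 2 := by
  rw [augIdeal_eq_varsIdeal (σ := σ) (R := R)] at hb
  rw [varsIdeal] at hb
  induction hb using Submodule.span_induction with
  | mem x hx =>
    obtain ⟨i, rfl⟩ := hx
    exact hθ i
  | zero => simp
  | add x y hx hy ihx ihy =>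
    have := Ideal.add_mem _ ihx ihy
    have e : θ x - x + (θ y - y) = θ (x + y) - (x + y) := by rw [map_add]; ring
    rwa [e] at this
  | smul c x hx ih =>
    have hx' : x ∈ augIdeal σ R := by rw [augIdeal_eq_varsIdeal]; exact hx
    have hθx : θ x ∈ augIdeal σ R := by
      have := map_mem_augIdeal_pow θ (theta_X_mem θ hθ) 1 (by rwa [pow_one])
      rwa [pow_one] at this
    have h1 : (θ c - c) * θ x ∈ augIdeal σ R ^ 2 := by
      rw [pow_two]
      exact Ideal.mul_mem_mul (theta_sub_mem_zero θ hθ c) hθx
    have h2 : c * (θ x - x) ∈ augIdeal σ R ^ 2 := Ideal.mul_mem_left _ _ ih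
    have := Ideal.add_mem _ h1 h2
    have e : (θ c - c) * θ x + c * (θ x - x) = θ (c • x) - c • x := by
      rw [smul_eq_mul, map_mul]; ring
    rwa [e] at this

lemma theta_sub_mem (k : ℕ) {f : MvPowerSeries σ R} (hf : f ∈ augIdeal σ R ^ k) :
    θ f - f ∈ augIdeal σ R ^ (k + 1) := by
  induction k generalizing f with
  | zero =>
    rw [zero_add, pow_one]
    exact theta_sub_mem_zero θ hθ f
  | succ k ih =>
    rw [pow_succ] at hf
    refine Submodule.smul_induction_on hf ?_ ?_
    · intro a ha b hb
      have hθb : θ b ∈ augIdeal σ R := by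
        have := map_mem_augIdeal_pow θ (theta_X_mem θ hθ) 1 (by rwa [pow_one])
        rwa [pow_one] at this
      have h1 : (θ a - a) * θ b ∈ augIdeal σ R ^ (k + 1 + 1) := by
        rw [pow_succ (augIdeal σ R) (k + 1)]
        exact Ideal.mul_mem_mul (ih ha) hθb
      have h2 : a * (θ b - b) ∈ augIdeal σ R ^ (k + 1 + 1) := by
        have : augIdeal σ R ^ (k + 1 + 1) = augIdeal σ R ^ k * augIdeal σ R ^ 2 := by
          rw [← pow_add]
        rw [this]
        exact Ideal.mul_mem_mul ha (theta_sub_mem_one θ hθ hb)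
      have := Ideal.add_mem _ h1 h2
      have e : (θ a - a) * θ b + a * (θ b - b) = θ (a • b) - a • b := by
        rw [smul_eq_mul, map_mul]; ring
      rwa [e] at this
    · intro x y ihx ihy
      have := Ideal.add_mem _ ihx ihy
      have e : θ x - x + (θ y - y) = θ (x + y) - (x + y) := by rw [map_add]; ring
      rwa [e] at this

omit hθ in
lemma eq_zero_of_forall_mem_augIdeal_pow' {f : MvPowerSeries σ R}
    (h : ∀ k, f ∈ augIdeal σ R ^ k) : f = 0 := by
  haveI : IsHausdorff (augIdeal σ R) (MvPowerSeries σ R) := isHausdorff_coeffIdeal ⊥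
  apply IsHausdorff.haus (I := augIdeal σ R) inferInstance
  intro k
  rw [smodEq_pow_iff, sub_zero]
  exact h k

theorem theta_injective : Function.Injective θ := by
  rw [injective_iff_map_eq_zero]
  intro f hf
  apply eq_zero_of_forall_mem_augIdeal_pow' (σ := σ) (R := R)
  intro k
  induction k with
  | zero => rw [pow_zero, Ideal.one_eq_top]; trivial
  | succ k ih =>
    have := theta_sub_mem θ hθ k ih
    rw [hf, zero_sub] at this
    exact neg_mem_iff.1 this

theorem theta_surjective : Function.Surjective θ := by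
  intro g
  -- the sequence of remainders
  let r : ℕ → MvPowerSeries σ R := fun k => Nat.rec g (fun _ x => x - θ x) k
  have hr0 : r 0 = g := rfl
  have hrs : ∀ k, r (k + 1) = r k - θ (r k) := fun _ => rfl
  have hrmem : ∀ k, r k ∈ augIdeal σ R ^ k := by
    intro k
    induction k with
    | zero => rw [pow_zero, Ideal.one_eq_top]; trivial
    | succ k ih =>
      have := theta_sub_mem θ hθ k ih
      rw [hrs, ← neg_sub]
      exact neg_mem this
  let s : ℕ → MvPowerSeries σ R := fun k => ∑ j ∈ Finset.range k, r j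
  have hs : ∀ k, θ (s k) = g - r k := by
    intro k
    induction k with
    | zero => simp [s, hr0]
    | succ k ih =>
      have : s (k + 1) = s k + r k := Finset.sum_range_succ _ _
      rw [this, map_add, ih, hrs]
      ring
  haveI : IsPrecomplete (augIdeal σ R) (MvPowerSeries σ R) := isPrecomplete_coeffIdeal ⊥
  obtain ⟨L, hL⟩ := IsPrecomplete.prec' (I := augIdeal σ R) s (by
    intro m n hmn
    rw [smodEq_pow_iff]
    have h1 : s n - s m = ∑ j ∈ Finset.Ico m n, r j := (Finset.sum_Ico_eq_sub _ hmn).symm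
    have h2 : s n - s m ∈ augIdeal σ R ^ m := by
      rw [h1]
      apply Ideal.sum_mem
      intro j hj
      rw [Finset.mem_Ico] at hj
      exact Ideal.pow_le_pow_right hj.1 (hrmem j)
    rw [← neg_sub]
    exact neg_mem h2)
  refine ⟨L, ?_⟩
  rw [← sub_eq_zero]
  apply eq_zero_of_forall_mem_augIdeal_pow' (σ := σ) (R := R)
  intro k
  have h1 := hL k
  rw [smodEq_pow_iff] at h1
  have h2 : θ (s k - L) ∈ augIdeal σ R ^ k := map_mem_augIdeal_pow θ (theta_X_mem θ hθ) k h1
  have h3 := Ideal.sub_mem _ (neg_mem h2) (hrmem k)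
  have e : -(θ (s k - L)) - r k = θ L - g := by
    rw [map_sub, hs]; ring
  rwa [e] at h3

end Theta

end InvFun

section Main

variable {R : Type u} [CommRing R] {σ : Type v} [Fintype σ] [DecidableEq σ]

/-- The linear forms attached to a matrix. -/
noncomputable def linForm (M : Matrix σ σ R) (i : σ) : MvPowerSeries σ R :=
  ∑ l, C (M i l) * X l

lemma linForm_one (i : σ) : linForm (1 : Matrix σ σ R) i = X i := by
  rw [linForm, Finset.sum_eq_single i]
  · rw [Matrix.one_apply_eq, map_one, one_mul]
  · intro l _ hl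
    rw [Matrix.one_apply_ne (Ne.symm hl), map_zero, zero_mul]
  · intro h
    exact absurd (Finset.mem_univ i) h

lemma sum_C_mul_linForm (K J : Matrix σ σ R) (i : σ) :
    ∑ j, C (K i j) * linForm J j = linForm (K * J) i := by
  simp_rw [linForm, Finset.mul_sum, Matrix.mul_apply, map_sum, Finset.sum_mul, map_mul]
  rw [Finset.sum_comm]
  apply Finset.sum_congr rfl
  intro l _
  apply Finset.sum_congr rfl
  intro j _
  ring

lemma constantCoeff_linForm (M : Matrix σ σ R) (i : σ) : constantCoeff (linForm M i) = 0 := by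
  rw [linForm, map_sum]
  apply Finset.sum_eq_zero
  intro l _
  rw [map_mul, constantCoeff_X, mul_zero]

lemma linForm_mem_augIdeal (M : Matrix σ σ R) (i : σ) : linForm M i ∈ augIdeal σ R := by
  rw [mem_augIdeal]
  exact constantCoeff_linForm M i

lemma algHom_linForm (χ : MvPowerSeries σ R →ₐ[R] MvPowerSeries σ R) (M : Matrix σ σ R) (i : σ) :
    χ (linForm M i) = ∑ l, C (M i l) * χ (X l) := by
  rw [linForm, map_sum]
  apply Finset.sum_congr rfl
  intro l _
  rw [map_mul, algHom_C]

/-- The formal inverse function theorem: an algebra endomorphism of a power series ring in finitely many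
variables, sending the variables to series without constant term and with invertible Jacobian at the
origin, is bijective. -/
theorem bijective_of_isUnit_jacobian_det
    (φ : MvPowerSeries σ R →ₐ[R] MvPowerSeries σ R)
    (h0 : ∀ i, constantCoeff (φ (X i)) = 0)
    (hJ : IsUnit (Matrix.det (Matrix.of fun i j : σ => coeff (Finsupp.single j 1) (φ (X i))))) :
    Function.Bijective φ := by
  set J : Matrix σ σ R := Matrix.of fun i j : σ => coeff (Finsupp.single j 1) (φ (X i)) with hJdef
  set K : Matrix σ σ R := J⁻¹ with hKdef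
  have hJK : J * K = 1 := Matrix.mul_nonsing_inv J hJ
  have hKJ : K * J = 1 := Matrix.nonsing_inv_mul J hJ
  -- the error terms
  have he : ∀ i, φ (X i) - linForm J i ∈ augIdeal σ R ^ 2 := by
    intro i
    have := sub_linear_mem_coeffIdeal_two (⊥ : Ideal R) (φ (X i))
    rw [h0 i, map_zero, sub_zero, coeffIdeal_eq_pow] at this
    exact this
  -- the linear substitution
  have ha : HasSubst (fun i => linForm K i) :=
    hasSubst_of_constantCoeff_zero (fun i => constantCoeff_linForm K i)
  let ψ : MvPowerSeries σ R →ₐ[R] MvPowerSeries σ R := substAlgHom ha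
  have hψX : ∀ i, ψ (X i) = linForm K i := fun i => substAlgHom_X ha i
  have hψmem : ∀ i, ψ (X i) ∈ augIdeal σ R := fun i => by
    rw [hψX]; exact linForm_mem_augIdeal K i
  -- first composite
  have h1 : ∀ i, (φ.comp ψ) (X i) - X i ∈ augIdeal σ R ^ 2 := by
    intro i
    have e : (φ.comp ψ) (X i) - X i = ∑ j, C (K i j) * (φ (X j) - linForm J j) := by
      rw [AlgHom.comp_apply, hψX, algHom_linForm]
      simp_rw [mul_sub]
      rw [Finset.sum_sub_distrib, sum_C_mul_linForm, hKJ, linForm_one]
    rw [e]
    apply Ideal.sum_mem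
    intro j _
    exact Ideal.mul_mem_left _ _ (he j)
  -- second composite
  have h2 : ∀ i, (ψ.comp φ) (X i) - X i ∈ augIdeal σ R ^ 2 := by
    intro i
    have e : (ψ.comp φ) (X i) - X i = ψ (φ (X i) - linForm J i) := by
      rw [AlgHom.comp_apply, map_sub, algHom_linForm]
      simp_rw [hψX]
      rw [sum_C_mul_linForm, hJK, linForm_one]
    rw [e]
    exact map_mem_augIdeal_pow ψ hψmem 2 (he i)
  constructor
  · have := theta_injective (ψ.comp φ) h2
    intro x y hxy
    apply this
    rw [AlgHom.comp_apply, AlgHom.comp_apply, hxy]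
  · intro g
    obtain ⟨f, hf⟩ := theta_surjective (φ.comp ψ) h1 g
    exact ⟨ψ f, hf⟩

end Main

end Groth.Agent.Lib.Helper19
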