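import Groth.Agent.Lib.Helper19InvFun
import Groth.Agent.Lib.Helper19PsDim

/-!
# Regular systems of parameters of power series rings over a field give coordinate changes (helper19)
-/

set_option autoImplicit false
universe u

open MvPowerSeries Finsupp

namespace Groth.Agent.Lib.Helper19

section InvFun2

variable {R : Type u} [CommRing R] {σ : Type} [Fintype σ] [DecidableEq σ]

/-- The linear coefficient of a product with a series without constant term. -/
lemma coeff_single_mul_of_constantCoeff_eq_zero (a y : MvPowerSeries σ R) (hy : constantCoeff y = 0)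
    (j : σ) : coeff (single j 1) (a * y) = constantCoeff a * coeff (single j 1) y := by
  have ha' : a - C (constantCoeff a) ∈ augIdeal σ R := by
    rw [mem_augIdeal, map_sub, constantCoeff_C, sub_self]
  have hy' : y ∈ augIdeal σ R := (mem_augIdeal).2 hy
  have h2 : (a - C (constantCoeff a)) * y ∈ coeffIdeal σ (⊥ : Ideal R) 2 := by
    rw [coeffIdeal_eq_pow, pow_two]
    exact Ideal.mul_mem_mul ha' hy'
  have h3 := h2 (single j 1)
  have hdeg : (single j 1 : σ →₀ ℕ).degree = 1 := by simp
  rw [hdeg] at h3
  have h4 : coeff (single j 1) ((a - C (constantCoeff a)) * y) = 0 := by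
    simpa using h3
  have h5 : a * y = C (constantCoeff a) * y + (a - C (constantCoeff a)) * y := by ring
  rw [h5, map_add, h4, add_zero, coeff_C_mul]

end InvFun2

section Field

variable (K : Type u) [Field K] (n : ℕ)

/-- Substituting a regular system of parameters is a bijection of the power series ring. -/
theorem subst_bijective_of_span_eq_maximalIdeal
    (y : Fin n → MvPowerSeries (Fin n) K)
    (hy : Ideal.span (Set.range y) = IsLocalRing.maximalIdeal (MvPowerSeries (Fin n) K)) :
    Function.Bijective (MvPowerSeries.subst y : MvPowerSeries (Fin n) K → MvPowerSeries (Fin n) K) := by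
  have hy0 : ∀ i, constantCoeff (y i) = 0 := by
    intro i
    have h1 : y i ∈ IsLocalRing.maximalIdeal (MvPowerSeries (Fin n) K) := by
      rw [← hy]; exact Ideal.subset_span ⟨i, rfl⟩
    rw [maximalIdeal_mvPowerSeries_eq, ← augIdeal_eq_varsIdeal, mem_augIdeal] at h1
    exact h1
  have ha : HasSubst y := hasSubst_of_constantCoeff_zero hy0
  let φ : MvPowerSeries (Fin n) K →ₐ[K] MvPowerSeries (Fin n) K := substAlgHom ha
  have hφX : ∀ i, φ (X i) = y i := fun i => substAlgHom_X ha i
  rw [← coe_substAlgHom ha]
  apply bijective_of_isUnit_jacobian_det φ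
  · intro i; rw [hφX]; exact hy0 i
  · -- the variables are combinations of the `y i`
    have hX : ∀ l : Fin n, ∃ c : Fin n → MvPowerSeries (Fin n) K, ∑ i, c i * y i = X l := by
      intro l
      have h1 : (X l : MvPowerSeries (Fin n) K) ∈ Ideal.span (Set.range y) := by
        rw [hy, maximalIdeal_mvPowerSeries_eq]
        exact Ideal.subset_span ⟨l, rfl⟩
      exact (Ideal.mem_span_range_iff_exists_fun).1 h1
    choose c hc using hX
    let A₀ : Matrix (Fin n) (Fin n) K := Matrix.of fun l i => constantCoeff (c l i)
    set J : Matrix (Fin n) (Fin n) K :=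
      Matrix.of fun i j : Fin n => coeff (Finsupp.single j 1) (φ (X i)) with hJ
    have hmul : A₀ * J = 1 := by
      ext l j
      rw [Matrix.mul_apply]
      have h1 : ∀ i, A₀ l i * J i j = coeff (single j 1) (c l i * y i) := by
        intro i
        rw [coeff_single_mul_of_constantCoeff_eq_zero _ _ (hy0 i)]
        simp only [A₀, hJ, Matrix.of_apply, hφX]
      simp_rw [h1]
      rw [← map_sum, hc l, Matrix.one_apply]
      rw [coeff_index_single_X]
      by_cases hlj : l = j
      · subst hlj; simp
      · rw [if_neg hlj, if_neg (Ne.symm hlj)]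
    have hdet : A₀.det * J.det = 1 := by rw [← Matrix.det_mul, hmul, Matrix.det_one]
    exact IsUnit.of_mul_eq_one _ (by rw [mul_comm]; exact hdet)

end Field

section LocalBase

variable (Λ : Type u) [CommRing Λ] [IsLocalRing Λ] (n : ℕ)

/-- Over a local base with principal maximal ideal `(π)`: substituting series without constant term which
together with `π` generate the maximal ideal is a bijection. -/
theorem subst_bijective_of_span_insert (π : Λ) (hm : IsLocalRing.maximalIdeal Λ = Ideal.span {π})
    (y : Fin n → MvPowerSeries (Fin n) Λ) (hy0 : ∀ i, constantCoeff (y i) = 0)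
    (hy : Ideal.span (insert (C π : MvPowerSeries (Fin n) Λ) (Set.range y)) =
      IsLocalRing.maximalIdeal (MvPowerSeries (Fin n) Λ)) :
    Function.Bijective (MvPowerSeries.subst y : MvPowerSeries (Fin n) Λ → MvPowerSeries (Fin n) Λ) := by
  have ha : HasSubst y := hasSubst_of_constantCoeff_zero hy0
  let φ : MvPowerSeries (Fin n) Λ →ₐ[Λ] MvPowerSeries (Fin n) Λ := substAlgHom ha
  have hφX : ∀ i, φ (X i) = y i := fun i => substAlgHom_X ha i
  rw [← coe_substAlgHom ha]
  apply bijective_of_isUnit_jacobian_det φ
  · intro i; rw [hφX]; exact hy0 i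
  · have hX : ∀ l : Fin n, ∃ (a : MvPowerSeries (Fin n) Λ) (c : Fin n → MvPowerSeries (Fin n) Λ),
        X l = a * C π + ∑ i, c i * y i := by
      intro l
      have h1 : (X l : MvPowerSeries (Fin n) Λ) ∈
          Ideal.span (insert (C π : MvPowerSeries (Fin n) Λ) (Set.range y)) := by
        rw [hy, maximalIdeal_eq_coeffIdeal]
        exact X_mem_coeffIdeal_one _ l
      obtain ⟨a, z, hz, hxz⟩ := Ideal.mem_span_insert.1 h1
      obtain ⟨c, hc⟩ := (Ideal.mem_span_range_iff_exists_fun).1 hz
      exact ⟨a, c, by rw [hxz, hc]⟩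
    choose a c hac using hX
    let A₀ : Matrix (Fin n) (Fin n) Λ := Matrix.of fun l i => constantCoeff (c l i)
    set J : Matrix (Fin n) (Fin n) Λ :=
      Matrix.of fun i j : Fin n => coeff (Finsupp.single j 1) (φ (X i)) with hJ
    have hentry : ∀ l j, (A₀ * J) l j = (1 : Matrix (Fin n) (Fin n) Λ) l j -
        coeff (single j 1) (a l) * π := by
      intro l j
      rw [Matrix.mul_apply]
      have h1 : ∀ i, A₀ l i * J i j = coeff (single j 1) (c l i * y i) := by
        intro i
        rw [coeff_single_mul_of_constantCoeff_eq_zero _ _ (hy0 i)]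
        simp only [A₀, hJ, Matrix.of_apply, hφX]
      simp_rw [h1]
      rw [← map_sum]
      have h2 : ∑ i, c l i * y i = X l - a l * C π := by rw [hac l]; ring
      rw [h2, map_sub, coeff_mul_C, Matrix.one_apply, coeff_index_single_X]
      by_cases hlj : l = j
      · subst hlj; simp
      · rw [if_neg hlj, if_neg (Ne.symm hlj)]
    -- the determinant is a unit
    let q := Ideal.Quotient.mk (Ideal.span {π})
    have hmap : q.mapMatrix (A₀ * J) = 1 := by
      ext l j
      rw [RingHom.mapMatrix_apply, Matrix.map_apply, hentry, map_sub, map_mul]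
      have : q π = 0 := Ideal.Quotient.eq_zero_iff_mem.2 (Ideal.mem_span_singleton_self π)
      rw [this, mul_zero, sub_zero, Matrix.one_apply, Matrix.one_apply]
      split_ifs <;> simp
    have hdet1 : q (A₀ * J).det = 1 := by
      rw [RingHom.map_det, hmap, Matrix.det_one]
    have hdet2 : (A₀ * J).det - 1 ∈ IsLocalRing.maximalIdeal Λ := by
      rw [hm, ← Ideal.Quotient.eq_zero_iff_mem, map_sub, map_one]
      exact sub_eq_zero.2 hdet1
    have hunit : IsUnit (A₀ * J).det := by
      by_contra hnu
      have h3 : (A₀ * J).det ∈ IsLocalRing.maximalIdeal Λ := (IsLocalRing.mem_maximalIdeal _).2 hnu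
      have h4 := Ideal.sub_mem _ h3 hdet2
      rw [sub_sub_cancel] at h4
      exact (IsLocalRing.maximalIdeal.isMaximal Λ).ne_top ((Ideal.eq_top_iff_one _).2 h4)
    rw [Matrix.det_mul] at hunit
    exact isUnit_of_mul_isUnit_right hunit

end LocalBase

end Groth.Agent.Lib.Helper19
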