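import Mathlib

/-!
# Invariant rings: a height-one prime with trivial residue extension is principal (part A)

* `finrank_le_finrank_fiber`: semicontinuity of the rank of a finite module over a domain.
* `inertiaDeg_eq_one`: trivial residue field extension.
* `pow_ramificationIdx_dvd`: for `p = (π)` over `q`, `π ^ e ∣ b` for `b ∈ q`.
* `card_stabilizer_le_ramificationIdx`: `|D| ≤ e` when `f = 1`.
-/

set_option autoImplicit false

namespace Groth.Agent.Lib.Helper19.InvPrincipal

open TensorProduct

universe u

theorem finrank_le_finrank_fiber {B : Type u} [CommRing B] [IsDomain B] (M : Type u)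
    [AddCommGroup M] [Module B M] [Module.Finite B M] (p : Ideal B) [p.IsPrime] :
    Module.finrank B M ≤ Module.finrank p.ResidueField (p.ResidueField ⊗[B] M) := by
  classical
  set κ := p.ResidueField
  have hspan : Submodule.span κ (Set.range fun m : M => (1 : κ) ⊗ₜ[B] m) = ⊤ := by
    rw [eq_top_iff]
    intro x hx
    clear hx
    induction x using TensorProduct.induction_on with
    | zero => exact zero_mem _
    | tmul a m =>
      have : a ⊗ₜ[B] m = a • ((1 : κ) ⊗ₜ[B] m) := by
        rw [TensorProduct.smul_tmul', smul_eq_mul, mul_one]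
      rw [this]
      exact Submodule.smul_mem _ _ (Submodule.subset_span ⟨m, rfl⟩)
    | add x y hx hy => exact add_mem hx hy
  obtain ⟨b, hbS, hbspan, hbli⟩ :=
    exists_linearIndependent κ (Set.range fun m : M => (1 : κ) ⊗ₜ[B] m)
  rw [hspan] at hbspan
  have hbfin : b.Finite := hbli.setFinite
  have : Fintype b := hbfin.fintype
  let bas : Module.Basis b κ (κ ⊗[B] M) :=
    Module.Basis.mk hbli (by rw [Subtype.range_coe, hbspan])
  have hn : Module.finrank κ (κ ⊗[B] M) = Fintype.card b := Module.finrank_eq_card_basis bas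
  choose m hm using fun y : b => hbS y.2
  set N : Submodule B M := Submodule.span B (Set.range m) with hN
  have hQ : Subsingleton (κ ⊗[B] (M ⧸ N)) := by
    have hsurj : Function.Surjective ((N.mkQ).baseChange κ) :=
      LinearMap.lTensor_surjective _ (Submodule.mkQ_surjective N)
    have hzero : (N.mkQ).baseChange κ = 0 := by
      apply bas.ext
      intro y
      rw [Module.Basis.mk_apply, ← hm y, LinearMap.baseChange_tmul, LinearMap.zero_apply]
      have : N.mkQ (m y) = 0 := by
        rw [Submodule.mkQ_apply, Submodule.Quotient.mk_eq_zero]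
        exact Submodule.subset_span ⟨y, rfl⟩
      rw [this, TensorProduct.tmul_zero]
    refine ⟨fun x y => ?_⟩
    obtain ⟨x', rfl⟩ := hsurj x
    obtain ⟨y', rfl⟩ := hsurj y
    rw [hzero]; rfl
  have hsupp : (⟨p, inferInstance⟩ : PrimeSpectrum B) ∉ Module.support B (M ⧸ N) := by
    rw [Module.mem_support_iff_nontrivial_residueField_tensorProduct]
    exact not_nontrivial _
  have htors : Module.rank B (M ⧸ N) = 0 := by
    rw [rank_eq_zero_iff]
    intro x
    rw [Module.mem_support_iff'] at hsupp
    by_contra hcon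
    apply hsupp
    refine ⟨x, fun r hr hrx => hcon ⟨r, ?_, hrx⟩⟩
    rintro rfl
    exact hr (zero_mem _)
  have h1 := rank_quotient_add_rank_of_isDomain N
  rw [htors, zero_add] at h1
  have h2 : Module.rank B N ≤ Fintype.card b := by
    refine (rank_span_le _).trans ?_
    refine Cardinal.mk_range_le.trans ?_
    rw [Cardinal.mk_fintype]
  rw [hn]
  apply Module.finrank_le_of_rank_le
  rw [← h1]
  exact h2

section

variable {A B : Type u} [CommRing A] [CommRing B] [Algebra B A]
  (q : Ideal B) [q.IsPrime] (p : Ideal A) [p.IsPrime] [p.LiesOver q]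

theorem inertiaDeg_eq_one
    (hres : ∀ a : A, ∃ b c : B, c ∉ q ∧ algebraMap B A c * a - algebraMap B A b ∈ p) :
    p.inertiaDeg B = 1 := by
  let := Localization.AtPrime.algebraOfLiesOver q p
  rw [Ideal.inertiaDeg_eq q p]
  have hA : ∀ a : A, algebraMap A p.ResidueField a ∈
      (algebraMap q.ResidueField p.ResidueField).range := by
    intro a
    obtain ⟨b, c, hc, hbc⟩ := hres a
    have h0 : algebraMap A p.ResidueField (algebraMap B A c * a - algebraMap B A b) = 0 :=
      Ideal.algebraMap_residueField_eq_zero.mpr hbc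
    rw [map_sub, map_mul, sub_eq_zero] at h0
    have hc' : algebraMap A p.ResidueField (algebraMap B A c) ≠ 0 := by
      rw [Ne, Ideal.algebraMap_residueField_eq_zero]
      intro h
      apply hc
      rw [Ideal.over_def p q]
      exact h
    refine ⟨algebraMap B q.ResidueField b / algebraMap B q.ResidueField c, ?_⟩
    rw [map_div₀, ← IsScalarTower.algebraMap_apply B q.ResidueField p.ResidueField,
      ← IsScalarTower.algebraMap_apply B q.ResidueField p.ResidueField,
      IsScalarTower.algebraMap_apply B A p.ResidueField,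
      IsScalarTower.algebraMap_apply B A p.ResidueField c]
    rw [div_eq_iff hc', mul_comm, h0]
  have hsurj : Function.Surjective (algebraMap q.ResidueField p.ResidueField) := by
    intro x
    obtain ⟨y, rfl⟩ := IsLocalRing.residue_surjective x
    obtain ⟨a, s, rfl⟩ := IsLocalization.exists_mk'_eq p.primeCompl y
    have hs : algebraMap A p.ResidueField s ≠ 0 := by
      rw [Ne, Ideal.algebraMap_residueField_eq_zero]
      exact s.2
    have : IsLocalRing.residue (Localization.AtPrime p) (IsLocalization.mk' _ a s) =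
        algebraMap A p.ResidueField a / algebraMap A p.ResidueField s := by
      rw [eq_div_iff hs]
      show IsLocalRing.residue _ _ * IsLocalRing.residue _ (algebraMap A _ s) =
        IsLocalRing.residue _ (algebraMap A _ a)
      rw [← map_mul, IsLocalization.mk'_spec]
    rw [this]
    obtain ⟨a', ha'⟩ := hA a
    obtain ⟨s', hs'⟩ := hA s
    exact ⟨a' / s', by rw [map_div₀, ha', hs']⟩
  have e : q.ResidueField ≃ₗ[q.ResidueField] p.ResidueField :=
    LinearEquiv.ofBijective (Algebra.linearMap _ _)
      ⟨(algebraMap q.ResidueField p.ResidueField).injective, hsurj⟩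
  rw [← e.finrank_eq, Module.finrank_self]

omit [q.IsPrime] in
open IsLocalRing in
theorem pow_ramificationIdx_dvd [IsDomain A] [IsNoetherianRing A]
    (hinj : Function.Injective (algebraMap B A))
    (π : A) (hπ : Prime π) (hp : p = Ideal.span {π}) (hq0 : q ≠ ⊥) (b : B) (hb : b ∈ q) :
    π ^ (p.ramificationIdx B) ∣ algebraMap B A b := by
  set Ap := Localization.AtPrime p
  have hmax : maximalIdeal Ap = Ideal.span {algebraMap A Ap π} := by
    rw [← Localization.AtPrime.map_eq_maximalIdeal]
    have : Ideal.map (algebraMap A Ap) p = Ideal.map (algebraMap A Ap) (Ideal.span {π}) :=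
      congrArg (fun I : Ideal A => Ideal.map (algebraMap A Ap) I) hp
    rw [this, Ideal.map_span, Set.image_singleton]
  have hinjA : Function.Injective (algebraMap A Ap) :=
    IsLocalization.injective Ap p.primeCompl_le_nonZeroDivisors
  have hπ0 : algebraMap A Ap π ≠ 0 := by
    rw [Ne, map_eq_zero_iff _ hinjA]; exact hπ.ne_zero
  have hnf : ¬ IsField Ap := by
    rw [isField_iff_maximalIdeal_eq, hmax, Ideal.span_singleton_eq_bot]
    exact hπ0
  have hprinc : (maximalIdeal Ap).IsPrincipal := ⟨⟨_, hmax⟩⟩
  have hdvr : IsDiscreteValuationRing Ap :=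
    ((IsDiscreteValuationRing.TFAE Ap hnf).out 0 4).mpr hprinc
  have hI0 : q.map (algebraMap B Ap) ≠ ⊥ := by
    obtain ⟨x, hxq, hx0⟩ := Submodule.exists_mem_ne_zero_of_ne_bot hq0
    intro h
    have : algebraMap B Ap x ∈ q.map (algebraMap B Ap) := Ideal.mem_map_of_mem _ hxq
    rw [h, Ideal.mem_bot, IsScalarTower.algebraMap_apply B A Ap, map_eq_zero_iff _ hinjA,
      map_eq_zero_iff _ hinj] at this
    exact hx0 this
  have h06 : IsDiscreteValuationRing Ap ↔
      ∀ (I : Ideal Ap) (_ : I ≠ ⊥), ∃ n : ℕ, I = maximalIdeal Ap ^ n :=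
    (IsDiscreteValuationRing.TFAE Ap hnf).out 0 6
  obtain ⟨k, hk⟩ := h06.mp hdvr _ hI0
  have he : p.ramificationIdx B = k := by
    rw [Ideal.ramificationIdx_eq q p, hk, hdvr.length_quotient_pow_maximalIdeal,
      ENat.toNat_natCast]
  rw [he]
  have hmem : algebraMap B Ap b ∈ maximalIdeal Ap ^ k := by
    rw [← hk]; exact Ideal.mem_map_of_mem _ hb
  rw [hmax, Ideal.span_singleton_pow, Ideal.mem_span_singleton] at hmem
  obtain ⟨y, hy⟩ := hmem
  obtain ⟨a, s, rfl⟩ := IsLocalization.exists_mk'_eq p.primeCompl y
  have h1 : algebraMap A Ap (algebraMap B A b * s) = algebraMap A Ap (π ^ k * a) := by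
    rw [map_mul, ← IsScalarTower.algebraMap_apply, hy, map_mul, map_pow, mul_assoc,
      mul_comm (IsLocalization.mk' Ap a s), IsLocalization.mk'_spec']
  have h2 := hinjA h1
  have hs : ¬ π ∣ (s : A) := by
    intro h
    apply s.2
    have : (s : A) ∈ Ideal.span {π} := Ideal.mem_span_singleton.mpr h
    exact hp ▸ this
  exact hπ.pow_dvd_of_dvd_mul_right k hs ⟨a, h2⟩

end

section

variable {A B G : Type u} [CommRing A] [IsDomain A] [CommRing B] [IsDomain B] [Algebra B A]
  [FaithfulSMul B A] [Module.Finite B A]
  [Group G] [Finite G] [MulSemiringAction G A] [IsGaloisGroup G B A]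
  (q : Ideal B) [q.IsPrime] (p : Ideal A) [p.IsPrime] [p.LiesOver q]

include q in
open scoped Pointwise in
theorem card_stabilizer_le_ramificationIdx (hf : p.inertiaDeg B = 1) :
    Nat.card (MulAction.stabilizer G p) ≤ p.ramificationIdx B := by
  classical
  have : Fintype (q.primesOver A) := (Algebra.QuasiFinite.finite_primesOver q).fintype
  have h1 := Ideal.sum_ramification_inertia_eq_finrank_fiber q A
  have h2 : ∀ P : q.primesOver A,
      P.1.ramificationIdx B * P.1.inertiaDeg B = p.ramificationIdx B := by
    intro P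
    have : P.1.IsPrime := P.2.1
    have : P.1.LiesOver q := P.2.2
    rw [Ideal.ramificationIdx_eq_of_isGaloisGroup q P.1 p G,
      Ideal.inertiaDeg_eq_of_isGaloisGroup q P.1 p G, hf, mul_one]
  rw [Finset.sum_congr rfl (fun P _ => h2 P), Finset.sum_const, Finset.card_univ,
    smul_eq_mul] at h1
  have h3 : Nat.card G ≤ Module.finrank q.ResidueField (q.Fiber A) := by
    rw [IsGaloisGroup.card_eq_finrank' G B A]
    exact finrank_le_finrank_fiber A q
  have h4 : Fintype.card (q.primesOver A) * Nat.card (MulAction.stabilizer G p) =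
      Nat.card G := by
    have h5 := Algebra.IsInvariant.orbit_eq_primesOver B A G q p
    have h6 := Nat.card_congr (MulAction.orbitProdStabilizerEquivGroup G p)
    rw [Nat.card_prod] at h6
    rw [← h6, ← Nat.card_eq_fintype_card]
    congr 1
    exact Nat.card_congr (Equiv.setCongr h5.symm)
  have hpos : 0 < Fintype.card (q.primesOver A) :=
    Fintype.card_pos_iff.mpr ⟨⟨p, inferInstance, inferInstance⟩⟩
  rw [← h4, ← h1] at h3
  exact Nat.le_of_mul_le_mul_left h3 hpos

end

end Groth.Agent.Lib.Helper19.InvPrincipal
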