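import Mathlib
import Groth.Agent.Lib.Helper19InvPrincipalA

/-!
# Invariant rings: a height-one prime with trivial residue extension is principal (part B)
-/

set_option autoImplicit false

namespace Groth.Agent.Lib.Helper19.InvPrincipal

open scoped Pointwise

universe u

variable {A B : Type u} [CommRing A] [IsDomain A] [IsNoetherianRing A]
  [UniqueFactorizationMonoid A]
  [CommRing B] [Algebra B A] [FaithfulSMul B A] [Module.Finite B A]
  (q : Ideal B) [q.IsPrime] (p : Ideal A) [p.IsPrime] [p.LiesOver q]

include q in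
omit [IsNoetherianRing A] in
/-- `p` is generated by a prime element -/
theorem exists_prime_generator (hq : q.height = 1) :
    ∃ π : A, Prime π ∧ p = Ideal.span {π} := by
  have : IsDomain B := IsDomain.of_faithfulSMul B A
  have hinj : Function.Injective (algebraMap B A) := FaithfulSMul.algebraMap_injective B A
  have : Algebra.IsIntegral B A := Algebra.IsIntegral.of_finite B A
  have hq0 : q ≠ ⊥ := by
    rintro rfl
    rw [Ideal.height_bot] at hq
    exact zero_ne_one hq
  have hp0 : p ≠ ⊥ := by
    rintro rfl
    apply hq0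
    rw [Ideal.over_def (⊥ : Ideal A) q, Ideal.under_def, ← RingHom.ker_eq_comap_bot,
      (RingHom.injective_iff_ker_eq_bot _).mp hinj]
  obtain ⟨π, hπp, hπ⟩ := Ideal.IsPrime.exists_mem_prime_of_ne_bot ‹p.IsPrime› hp0
  refine ⟨π, hπ, ?_⟩
  have hP₀ : (Ideal.span {π}).IsPrime := (Ideal.span_singleton_prime hπ.ne_zero).mpr hπ
  have hP₀p : Ideal.span {π} ≤ p := (Ideal.span_singleton_le_iff_mem _).mpr hπp
  have hc0 : (Ideal.span {π}).comap (algebraMap B A) ≠ ⊥ :=
    Ideal.comap_ne_bot_of_integral_mem hπ.ne_zero (Ideal.mem_span_singleton_self π)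
      (Algebra.IsIntegral.isIntegral π)
  have hcq : (Ideal.span {π}).comap (algebraMap B A) ≤ q := by
    rw [Ideal.over_def p q]
    exact Ideal.comap_mono hP₀p
  have hcprime : ((Ideal.span {π}).comap (algebraMap B A)).IsPrime := Ideal.comap_isPrime _ _
  have hceq : (Ideal.span {π}).comap (algebraMap B A) = q := by
    by_contra hne
    have hlt : (Ideal.span {π}).comap (algebraMap B A) < q := lt_of_le_of_ne hcq hne
    have hbot : (⊥ : Ideal B) < (Ideal.span {π}).comap (algebraMap B A) :=
      bot_lt_iff_ne_bot.mpr hc0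
    have hbp : (⊥ : Ideal B).IsPrime := Ideal.isPrime_bot
    have h1 := Ideal.height_add_one_le_of_lt_of_isPrime hbot
    have h2 := Ideal.height_add_one_le_of_lt_of_isPrime hlt
    rw [hq] at h2
    have h3 : (1 : ℕ∞) + 1 ≤ 1 := by
      calc (1 : ℕ∞) + 1 ≤ ((⊥ : Ideal B).height + 1) + 1 := by
            gcongr
            exact le_add_self
        _ ≤ ((Ideal.span {π}).comap (algebraMap B A)).height + 1 := by gcongr
        _ ≤ 1 := h2
    exact absurd h3 (by decide)
  by_contra hne
  have hlt : Ideal.span {π} < p := lt_of_le_of_ne hP₀p (Ne.symm hne)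
  obtain ⟨x, hxp, hxn⟩ := Set.exists_of_ssubset hlt
  have h := Ideal.comap_lt_comap_of_integral_mem_sdiff (R := B) hP₀p ⟨hxp, hxn⟩
    (Algebra.IsIntegral.isIntegral x)
  rw [hceq, ← Ideal.under_def, ← Ideal.over_def p q] at h
  exact lt_irrefl _ h

include p in
theorem isPrincipal (G : Type u) [Group G] [Finite G] [MulSemiringAction G A] [FaithfulSMul G A]
    [SMulCommClass G B A] [Algebra.IsInvariant B A G] (hq : q.height = 1)
    (hres : ∀ a : A, ∃ b c : B, c ∉ q ∧ algebraMap B A c * a - algebraMap B A b ∈ p) :
    Submodule.IsPrincipal q := by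
  classical
  have : IsGaloisGroup G B A := ⟨inferInstance, inferInstance, inferInstance⟩
  have : IsDomain B := IsDomain.of_faithfulSMul B A
  have hinj : Function.Injective (algebraMap B A) := FaithfulSMul.algebraMap_injective B A
  have hq0 : q ≠ ⊥ := by
    rintro rfl
    rw [Ideal.height_bot] at hq
    exact zero_ne_one hq
  obtain ⟨π, hπ, hpeq⟩ := exists_prime_generator q p hq
  have hf := inertiaDeg_eq_one q p hres
  have hDe := card_stabilizer_le_ramificationIdx (G := G) q p hf
  set D := Nat.card (MulAction.stabilizer G p) with hD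
  have hdvd : ∀ b ∈ q, π ^ D ∣ algebraMap B A b := fun b hb =>
    (pow_dvd_pow π hDe).trans (pow_ramificationIdx_dvd q p hinj π hπ hpeq hq0 b hb)
  letI : Fintype G := Fintype.ofFinite G
  set N : A := ∏ g : G, g • π with hN
  have hNinv : ∀ h : G, h • N = N := fun h => Finset.smul_prod_perm π h
  obtain ⟨bN, hbN⟩ := Algebra.IsInvariant.isInvariant (A := B) N hNinv
  have hπN : π ∣ N := by
    have := Finset.dvd_prod_of_mem (fun g : G => g • π) (Finset.mem_univ (1 : G))
    rwa [one_smul] at this
  have hNp : N ∈ p := by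
    rw [hpeq, Ideal.mem_span_singleton]
    exact hπN
  have hbNq : bN ∈ q := by
    rw [Ideal.over_def p q, Ideal.under_def, Ideal.mem_comap, hbN]
    exact hNp
  have hgπ : ∀ g : G, Prime (g • π) := fun g =>
    (MulEquiv.prime_iff (MulSemiringAction.toRingEquiv G A g).toMulEquiv).mpr hπ
  have hN0 : N ≠ 0 := Finset.prod_ne_zero_iff.mpr fun g _ => (hgπ g).ne_zero
  -- the ideal `g • p`
  have hgp : ∀ g : G, g • p = Ideal.span {g • π} := by
    intro g
    rw [Ideal.pointwise_smul_def]
    have : Ideal.map (MulSemiringAction.toRingHom G A g) p =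
        Ideal.map (MulSemiringAction.toRingHom G A g) (Ideal.span {π}) :=
      congrArg (fun I : Ideal A => Ideal.map (MulSemiringAction.toRingHom G A g) I) hpeq
    rw [this, Ideal.map_span, Set.image_singleton]
    rfl
  refine ⟨⟨bN, le_antisymm ?_ ?_⟩⟩
  · intro b hb
    have hx := hdvd b hb
    set x := algebraMap B A b with hxdef
    have hxinv : ∀ g : G, g • x = x := fun g => smul_algebraMap g b
    have hNx : N ∣ x := by
      rw [UniqueFactorizationMonoid.dvd_iff_emultiplicity_le hN0]
      intro ϖ hϖ
      rw [hN, Finset.emultiplicity_prod hϖ]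
      have hterm : ∀ g : G, emultiplicity ϖ (g • π) = if ϖ ∣ g • π then 1 else 0 := by
        intro g
        split_ifs with h
        · refine emultiplicity_eq_of_dvd_of_not_dvd (by simpa using h) ?_
          rintro ⟨c, hc⟩
          have hirr := (hgπ g).irreducible
          rw [show ϖ ^ (1 + 1) * c = ϖ * (ϖ * c) by ring] at hc
          rcases hirr.isUnit_or_isUnit hc with h1 | h1
          · exact hϖ.not_unit h1
          · exact hϖ.not_unit (isUnit_of_mul_isUnit_left h1)
        · exact emultiplicity_eq_zero.mpr h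
      rw [Finset.sum_congr rfl (fun g _ => hterm g), Finset.sum_boole]
      set S := Finset.univ.filter (fun g : G => ϖ ∣ g • π) with hS
      by_cases hSe : S = ∅
      · rw [hSe]; simp
      obtain ⟨g₀, hg₀⟩ := Finset.nonempty_iff_ne_empty.mpr hSe
      have hg₀' : ϖ ∣ g₀ • π := (Finset.mem_filter.mp hg₀).2
      have hassoc : ∀ g ∈ S, Ideal.span {g • π} = Ideal.span {ϖ} := by
        intro g hg
        have hg' : ϖ ∣ g • π := (Finset.mem_filter.mp hg).2
        exact (Ideal.span_singleton_eq_span_singleton.mpr
          (hϖ.irreducible.associated_of_dvd (hgπ g).irreducible hg')).symm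
      have hcard : S.card ≤ D := by
        rw [hD, Nat.card_eq_fintype_card, ← Finset.card_univ]
        refine Finset.card_le_card_of_injOn
          (fun g => if h : g₀⁻¹ * g ∈ MulAction.stabilizer G p then ⟨g₀⁻¹ * g, h⟩ else 1)
          (fun g _ => Finset.mem_univ _) ?_
        have hmem : ∀ g ∈ S, g₀⁻¹ * g ∈ MulAction.stabilizer G p := by
          intro g hg
          rw [MulAction.mem_stabilizer_iff, mul_smul, inv_smul_eq_iff, hgp, hgp,
            hassoc g hg, hassoc g₀ hg₀]
        intro g hg g' hg' hgg'
        simp only [Finset.mem_coe] at hg hg'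
        simp only [dif_pos (hmem g hg), dif_pos (hmem g' hg'), Subtype.mk.injEq] at hgg'
        exact mul_left_cancel hgg'
      have hle : (D : ℕ∞) ≤ emultiplicity ϖ x := by
        apply le_emultiplicity_of_pow_dvd
        have h1 : (g₀ • π) ^ D ∣ x := by
          have := map_dvd (MulSemiringAction.toRingHom G A g₀) hx
          rw [map_pow] at this
          have h2 : MulSemiringAction.toRingHom G A g₀ x = x := hxinv g₀
          rw [h2] at this
          exact this
        exact (pow_dvd_pow_of_dvd hg₀' D).trans h1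
      exact (by exact_mod_cast hcard : (S.card : ℕ∞) ≤ D).trans hle
    obtain ⟨a, ha⟩ := hNx
    have hainv : ∀ g : G, g • a = a := by
      intro g
      have h1 : g • x = g • (N * a) := congrArg (g • ·) ha
      rw [hxinv, smul_mul', hNinv, ha] at h1
      exact (mul_left_cancel₀ hN0 h1).symm
    obtain ⟨b', hb'⟩ := Algebra.IsInvariant.isInvariant (A := B) a hainv
    rw [Submodule.mem_span_singleton]
    refine ⟨b', hinj ?_⟩
    rw [smul_eq_mul, map_mul, hb', hbN, ← hxdef, ha, mul_comm]
  · rw [Submodule.span_singleton_le_iff_mem]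
    exact hbNq

end Groth.Agent.Lib.Helper19.InvPrincipal
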