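import Mathlib
import Groth.Agent.Lib.Helper19EakinNagata
import Groth.Agent.Lib.Helper19InvPrincipalB

/-!
# Invariant rings: part C — Eakin–Nagata for rings, regularity from a regular quotient
-/

set_option autoImplicit false

namespace Groth.Agent.Lib.Helper19.InvPrincipal

universe u

/-- Eakin–Nagata -/
theorem isNoetherianRing_of_finite_injective {R S : Type u} [CommRing R] [CommRing S] [Algebra R S]
    [Module.Finite R S] [IsNoetherianRing S] (hinj : Function.Injective (algebraMap R S)) :
    IsNoetherianRing R := by
  have hS : IsNoetherian R S := by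
    apply Groth.Agent.Lib.Helper19.EakinNagata.isNoetherian_of_acc
    intro 𝒮 h𝒮ne h𝒮
    set 𝒯 : Set (Ideal S) := {J | J.restrictScalars R ∈ 𝒮} with h𝒯
    have h𝒯ne : 𝒯.Nonempty := by
      obtain ⟨N, hN⟩ := h𝒮ne
      obtain ⟨I, rfl⟩ := h𝒮 N hN
      refine ⟨I.map (algebraMap R S), ?_⟩
      show (I.map (algebraMap R S)).restrictScalars R ∈ 𝒮
      rw [← Ideal.smul_top_eq_map]
      exact hN
    obtain ⟨J, hJ, hJmax⟩ := set_has_maximal_iff_noetherian.mpr
      (inferInstance : IsNoetherian S S) 𝒯 h𝒯ne
    refine ⟨J.restrictScalars R, hJ, fun N' hN' hle => ?_⟩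
    obtain ⟨I', rfl⟩ := h𝒮 N' hN'
    rw [Ideal.smul_top_eq_map] at hN' hle ⊢
    have hJ' : I'.map (algebraMap R S) ∈ 𝒯 := hN'
    have hle' : J ≤ I'.map (algebraMap R S) := hle
    have := hJmax _ hJ'
    by_contra hne
    apply this
    refine lt_of_le_of_ne hle' ?_
    rintro rfl
    exact hne rfl
  exact isNoetherian_of_injective (Algebra.linearMap R S) hinj

open IsLocalRing in
/-- a Noetherian local domain with a principal prime `q ≠ 0` and `B ⧸ q` regular is regular -/
theorem isRegularLocalRing_of_quotient (B : Type u) [CommRing B] [IsDomain B] [IsLocalRing B]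
    [IsNoetherianRing B] (q : Ideal B) [q.IsPrime] (b : B) (hqb : q = Ideal.span {b})
    (hq0 : q ≠ ⊥) (hreg : IsRegularLocalRing (B ⧸ q)) : IsRegularLocalRing B := by
  classical
  apply IsRegularLocalRing.of_spanFinrank_maximalIdeal_le
  have hb0 : b ≠ 0 := by
    rintro rfl
    apply hq0
    rw [hqb, Ideal.span_singleton_eq_bot]
  have hbnzd : b ∈ nonZeroDivisors B := mem_nonZeroDivisors_of_ne_zero hb0
  have hdim := ringKrullDim_quotient_succ_le_of_nonZeroDivisor hbnzd
  rw [← hqb] at hdim
  have hqm : q ≤ maximalIdeal B := le_maximalIdeal (Ideal.IsPrime.ne_top ‹_›)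
  -- generators of the maximal ideal of the quotient
  have hfg : (maximalIdeal (B ⧸ q)).FG := IsNoetherian.noetherian _
  obtain ⟨s, hscard, hsspan⟩ := Submodule.FG.exists_span_finset_card_eq_spanFinrank hfg
  choose lift hlift using fun x : B ⧸ q => Ideal.Quotient.mk_surjective x
  set t : Finset B := s.image lift with ht
  have hmax : maximalIdeal B = Ideal.span (insert b (t : Set B)) := by
    apply le_antisymm
    · intro x hx
      have hx' : Ideal.Quotient.mk q x ∈ maximalIdeal (B ⧸ q) := by
        rw [mem_maximalIdeal, mem_nonunits_iff]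
        intro h
        obtain ⟨y, hy⟩ := h.exists_right_inv
        obtain ⟨y, rfl⟩ := Ideal.Quotient.mk_surjective y
        rw [← map_mul, ← map_one (Ideal.Quotient.mk q), Ideal.Quotient.eq] at hy
        have h1 : x * y - 1 ∈ maximalIdeal B := hqm hy
        have h2 : x * y ∈ maximalIdeal B := Ideal.mul_mem_right _ _ hx
        have h3 : (1 : B) ∈ maximalIdeal B := by
          have := sub_mem h2 h1
          rwa [sub_sub_cancel] at this
        exact (maximalIdeal.isMaximal B).ne_top ((Ideal.eq_top_iff_one _).mpr h3)
      rw [← hsspan] at hx'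
      have key : ∀ y ∈ Submodule.span (B ⧸ q) (s : Set (B ⧸ q)), ∀ x : B,
          Ideal.Quotient.mk q x = y → x ∈ Ideal.span (insert b (t : Set B)) := by
        intro y hy
        induction hy using Submodule.span_induction with
        | mem y hy =>
          intro x hxy
          have h1 : x - lift y ∈ q := by
            rw [← Ideal.Quotient.eq, hxy, hlift y]
          have h2 : lift y ∈ Ideal.span (insert b (t : Set B)) :=
            Ideal.subset_span (Set.mem_insert_of_mem _ (Finset.mem_image_of_mem lift hy))
          have h3 : x - lift y ∈ Ideal.span (insert b (t : Set B)) := by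
            rw [hqb] at h1
            exact (Ideal.span_mono (Set.singleton_subset_iff.mpr (Set.mem_insert _ _))) h1
          have : x = (x - lift y) + lift y := by ring
          rw [this]
          exact add_mem h3 h2
        | zero =>
          intro x hx0
          rw [Ideal.Quotient.eq_zero_iff_mem, hqb] at hx0
          exact (Ideal.span_mono (Set.singleton_subset_iff.mpr (Set.mem_insert _ _))) hx0
        | add y z _ _ hy hz =>
          intro x hxyz
          have h1 := hy (lift y) (hlift y)
          have h2 := hz (lift z) (hlift z)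
          have h3 : x - (lift y + lift z) ∈ q := by
            rw [← Ideal.Quotient.eq, hxyz, map_add, hlift, hlift]
          rw [hqb] at h3
          have h4 := (Ideal.span_mono (Set.singleton_subset_iff.mpr (Set.mem_insert b (t : Set B)))) h3
          have : x = (x - (lift y + lift z)) + (lift y + lift z) := by ring
          rw [this]
          exact add_mem h4 (add_mem h1 h2)
        | smul c y _ hy =>
          intro x hxcy
          have h1 := hy (lift y) (hlift y)
          have h3 : x - lift c * lift y ∈ q := by
            rw [← Ideal.Quotient.eq, hxcy, map_mul, hlift, hlift, smul_eq_mul]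
          rw [hqb] at h3
          have h4 := (Ideal.span_mono (Set.singleton_subset_iff.mpr (Set.mem_insert b (t : Set B)))) h3
          have : x = (x - lift c * lift y) + lift c * lift y := by ring
          rw [this]
          exact add_mem h4 (Ideal.mul_mem_left _ _ h1)
      exact key _ hx' x rfl
    · rw [Ideal.span_le]
      intro x hx
      rcases Set.mem_insert_iff.mp hx with rfl | hx
      · exact hqm (hqb ▸ Ideal.mem_span_singleton_self x)
      · obtain ⟨y, hy, rfl⟩ := Finset.mem_image.mp hx
        have hy' : y ∈ maximalIdeal (B ⧸ q) := by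
          rw [← hsspan]; exact Submodule.subset_span hy
        rw [mem_maximalIdeal, mem_nonunits_iff] at hy'
        rw [SetLike.mem_coe, mem_maximalIdeal, mem_nonunits_iff]
        intro h
        apply hy'
        rw [← hlift y]
        exact h.map _
  have hcard : (maximalIdeal B).spanFinrank ≤ (maximalIdeal (B ⧸ q)).spanFinrank + 1 := by
    rw [hmax]
    refine (Submodule.spanFinrank_span_le_ncard_of_finite ((t.finite_toSet).insert b)).trans ?_
    refine (Set.ncard_insert_le _ _).trans ?_
    rw [Set.ncard_coe_finset, ← hscard]
    exact Nat.succ_le_succ Finset.card_image_le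
  have hregeq := hreg.spanFinrank_maximalIdeal
  calc ((maximalIdeal B).spanFinrank : WithBot ℕ∞)
      ≤ (((maximalIdeal (B ⧸ q)).spanFinrank + 1 : ℕ) : WithBot ℕ∞) := by exact_mod_cast hcard
    _ = ringKrullDim (B ⧸ q) + 1 := by rw [← hregeq]; push_cast; rfl
    _ ≤ ringKrullDim B := hdim

/-- the ring of invariants of a local ring is local -/
theorem isLocalRing_of_invariants {A B : Type u} (G : Type u) [CommRing A] [IsLocalRing A]
    [CommRing B] [Algebra B A] [FaithfulSMul B A] [Group G] [MulSemiringAction G A]
    [SMulCommClass G B A] [Algebra.IsInvariant B A G] : IsLocalRing B := by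
  have hinj : Function.Injective (algebraMap B A) := FaithfulSMul.algebraMap_injective B A
  have : Nontrivial B := ⟨⟨0, 1, fun h => zero_ne_one (α := A)
    (by rw [← map_zero (algebraMap B A), h, map_one])⟩⟩
  have key : ∀ a : B, IsUnit (algebraMap B A a) → IsUnit a := by
    intro a ha
    obtain ⟨c, hc⟩ := ha.exists_right_inv
    have hcinv : ∀ g : G, g • c = c := by
      intro g
      have h1 : algebraMap B A a * (g • c) = 1 := by
        have := congrArg (g • ·) hc
        simp only [smul_mul', smul_algebraMap, smul_one] at this
        exact this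
      calc g • c = (c * algebraMap B A a) * (g • c) := by rw [mul_comm c, hc, one_mul]
        _ = c * (algebraMap B A a * (g • c)) := by ring
        _ = c := by rw [h1, mul_one]
    obtain ⟨c', hc'⟩ := Algebra.IsInvariant.isInvariant (A := B) c hcinv
    refine IsUnit.of_mul_eq_one c' (hinj ?_)
    rw [map_mul, hc', hc, map_one]
  refine IsLocalRing.of_nonunits_add fun a b ha hb => ?_
  rw [mem_nonunits_iff] at ha hb ⊢
  intro hab
  have ha' : algebraMap B A a ∈ nonunits A := fun h => ha (key a h)
  have hb' : algebraMap B A b ∈ nonunits A := fun h => hb (key b h)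
  have := IsLocalRing.nonunits_add ha' hb'
  rw [← map_add] at this
  exact this (hab.map _)

end Groth.Agent.Lib.Helper19.InvPrincipal
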