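import Groth.Agent.Lib.Helper19FinLenLocal
import Groth.Agent.Lib.Helper17K0f
import Groth.Agent.Lib.Helper13KzIdeal
import Groth.Agent.Lib.Helper13KzConcat
import Groth.Agent.Lib.Helper17DCompare5
import Groth.Agent.S6962
import Groth.Agent.S7030
import Groth.Agent.Lib.Helper1Devissage

/-! `K_0` of perfect complexes supported at the closed point of a regular local ring is generated
by the Koszul complex (helper19). -/

set_option autoImplicit false
universe u
open CategoryTheory CategoryTheory.Limits

namespace Groth.Agent.Lib.Helper19K0Koszul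

attribute [local instance] HasDerivedCategory.standard
open DerivedCategory Pretriangulated KZero
open Groth.Agent.Lib.Helper19FinLenLocal

variable (R : Type u) [CommRing R]

/-- finite length modules -/
def flP : ObjectProperty (ModuleCat.{u} R) := fun M => IsFiniteLength R M

instance : (flP R).IsClosedUnderIsomorphisms :=
  ⟨fun e h => e.toLinearEquiv.isFiniteLength h⟩

instance : (flP R).ContainsZero :=
  ⟨⟨ModuleCat.of R PUnit.{u + 1}, ModuleCat.isZero_of_subsingleton _,
    (IsFiniteLength.of_subsingleton : IsFiniteLength R PUnit.{u + 1})⟩⟩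

instance : (flP R).IsClosedUnderSubobjects :=
  ⟨fun f _ h => IsFiniteLength.of_injective h ((ModuleCat.mono_iff_injective f).1 inferInstance)⟩

/-- the short exact sequence `0 → N → M → M/N → 0` in `ModuleCat`. -/
noncomputable def sesOf (M : Type u) [AddCommGroup M] [Module R M] (N : Submodule R M) :
    ShortComplex (ModuleCat.{u} R) :=
  ShortComplex.mk (ModuleCat.ofHom N.subtype) (ModuleCat.ofHom N.mkQ) (by
    ext x
    exact (LinearMap.exact_subtype_mkQ N).apply_apply_eq_zero x)

theorem sesOf_shortExact (M : Type u) [AddCommGroup M] [Module R M] (N : Submodule R M) :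
    (sesOf R M N).ShortExact :=
  { exact := (ShortComplex.ShortExact.moduleCat_exact_iff_function_exact (sesOf R M N)).mpr
      (LinearMap.exact_subtype_mkQ N)
    mono_f := (ModuleCat.mono_iff_injective _).mpr N.injective_subtype
    epi_g := (ModuleCat.epi_iff_surjective _).mpr N.mkQ_surjective }

variable [IsLocalRing R]

/-- the residue field as a module -/
noncomputable abbrev kM : ModuleCat.{u} R := ModuleCat.of R (R ⧸ IsLocalRing.maximalIdeal R)

theorem flP_kM : flP R (kM R) := by
  have : IsSimpleModule R (R ⧸ IsLocalRing.maximalIdeal R) :=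
    isSimpleModule_iff_quot_maximal.mpr
      ⟨_, IsLocalRing.maximalIdeal.isMaximal R, ⟨LinearEquiv.refl _ _⟩⟩
  have e : ((R ⧸ IsLocalRing.maximalIdeal R) ⧸ (⊥ : Submodule R (R ⧸ IsLocalRing.maximalIdeal R)))
      ≃ₗ[R] (R ⧸ IsLocalRing.maximalIdeal R) := Submodule.quotEquivOfEqBot ⊥ rfl
  have : IsSimpleModule R ((R ⧸ IsLocalRing.maximalIdeal R) ⧸
      (⊥ : Submodule R (R ⧸ IsLocalRing.maximalIdeal R))) := IsSimpleModule.congr e
  exact IsFiniteLength.of_simple_quotient
    (N := (⊥ : Submodule R (R ⧸ IsLocalRing.maximalIdeal R))) IsFiniteLength.of_subsingleton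

/-- classes of finite length modules are multiples of the class of the residue field. -/
theorem clSub_mem_closure (M : Type u) [AddCommGroup M] [Module R M] (h : IsFiniteLength R M) :
    clSub (flP R) (ModuleCat.of R M) ∈ AddSubgroup.closure {clSub (flP R) (kM R)} := by
  refine induction_on_isFiniteLength (R := R)
    (motive := fun M _ _ => clSub (flP R) (ModuleCat.of R M) ∈
      AddSubgroup.closure {clSub (flP R) (kM R)}) ?_ ?_ M h
  · intro M _ _ _
    rw [Groth.Agent.Lib.Helper17.K0a.clSub_of_isZero (flP R)
      (ModuleCat.isZero_of_subsingleton (ModuleCat.of R M))]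
    exact AddSubgroup.zero_mem _
  · intro M _ _ N e hN ih
    have hM : IsFiniteLength R M :=
      isFiniteLength_of_exact N.subtype N.mkQ N.injective_subtype N.mkQ_surjective
        (LinearMap.exact_subtype_mkQ N) hN (e.symm.isFiniteLength (flP_kM R))
    have h3 : flP R (ModuleCat.of R (M ⧸ N)) := e.symm.isFiniteLength (flP_kM R)
    have := Groth.Agent.Lib.Helper17.K0a.clSub_shortExact (flP R) (sesOf R M N)
      (sesOf_shortExact R M N) hN hM h3
    have h2 : clSub (flP R) (ModuleCat.of R M) =
        clSub (flP R) (ModuleCat.of R N) + clSub (flP R) (ModuleCat.of R (M ⧸ N)) := this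
    rw [h2, Groth.Agent.Lib.Helper17.K0a.clSub_of_iso (flP R) e.toModuleIso h3]
    exact AddSubgroup.add_mem _ ih (AddSubgroup.subset_closure (Set.mem_singleton _))

theorem K0sub_flP_eq_closure (x : K0sub (flP R)) :
    x ∈ AddSubgroup.closure {clSub (flP R) (kM R)} := by
  induction x using QuotientAddGroup.induction_on with
  | H z =>
    induction z using FreeAbelianGroup.induction_on with
    | zero => exact AddSubgroup.zero_mem _
    | of M =>
      have := clSub_mem_closure R M.1 M.2
      rw [Groth.Agent.Lib.Helper17.K0a.clSub_of_prop (flP R) M.2] at this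
      exact this
    | neg M ih =>
      rw [QuotientAddGroup.mk_neg]
      exact AddSubgroup.neg_mem _ ih
    | add a b ha hb =>
      rw [QuotientAddGroup.mk_add]
      exact AddSubgroup.add_mem _ ha hb

open Groth.Agent.S7030 in
/-- if the residue field is perfect, so is every finite length module. -/
theorem isPerfect_single_of_isFiniteLength
    (hk : DRing.IsPerfect R ((DerivedCategory.singleFunctor (ModuleCat.{u} R) 0).obj (kM R)))
    (M : Type u) [AddCommGroup M] [Module R M] (h : IsFiniteLength R M) :
    DRing.IsPerfect R ((DerivedCategory.singleFunctor (ModuleCat.{u} R) 0).obj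
      (ModuleCat.of R M)) := by
  refine induction_on_isFiniteLength (R := R)
    (motive := fun M _ _ => DRing.IsPerfect R
      ((DerivedCategory.singleFunctor (ModuleCat.{u} R) 0).obj (ModuleCat.of R M))) ?_ ?_ M h
  · intro M _ _ _
    exact isPerfect_of_isZero ((DerivedCategory.singleFunctor (ModuleCat.{u} R) 0).map_isZero
      (ModuleCat.isZero_of_subsingleton (ModuleCat.of R M)))
  · intro M _ _ N e hN ih
    have hT := (sesOf_shortExact R M N).singleTriangle_distinguished
    refine isPerfect_ext _ hT ih ?_
    exact isPerfect_of_iso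
      ((DerivedCategory.singleFunctor (ModuleCat.{u} R) 0).mapIso e.toModuleIso).symm hk

end Groth.Agent.Lib.Helper19K0Koszul
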