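import Groth.Agent.Lib.Helper29K0Mod
import Mathlib

/-! Additive functions on `K'_0(A)` from flat Artinian base change, and generation of `K'_0(A)`
by the classes `[A/p]` (helper19). -/

set_option autoImplicit false
universe u v
open CategoryTheory TensorProduct

namespace Groth.Agent.Lib.Helper19K0Len

open Groth.Agent.Lib.Helper29K0Mod

section Len

variable (A : Type u) [CommRing A] (B : Type v) [CommRing B] [Algebra A B] [Module.Flat A B]
  [IsArtinianRing B]

/-- `M ↦ length_B (B ⊗_A M)` on generators. -/
noncomputable def len₀ : FreeAbelianGroup (Subtype (finP A)) →+ ℤ :=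
  FreeAbelianGroup.lift (fun M : Subtype (finP A) =>
    ((Module.length B (B ⊗[A] M.1)).toNat : ℤ))

theorem length_baseChange_ne_top (M : Type u) [AddCommGroup M] [Module A M] [Module.Finite A M] :
    Module.length B (B ⊗[A] M) ≠ ⊤ :=
  Module.length_ne_top

theorem length_baseChange_add {X₁ X₂ X₃ : Type u} [AddCommGroup X₁] [Module A X₁]
    [AddCommGroup X₂] [Module A X₂] [AddCommGroup X₃] [Module A X₃]
    (f : X₁ →ₗ[A] X₂) (g : X₂ →ₗ[A] X₃) (hf : Function.Injective f) (hg : Function.Surjective g)
    (hfg : Function.Exact f g) :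
    Module.length B (B ⊗[A] X₂) = Module.length B (B ⊗[A] X₁) + Module.length B (B ⊗[A] X₃) := by
  refine Module.length_eq_add_of_exact (f.baseChange B) (g.baseChange B) ?_ ?_ ?_
  · rw [LinearMap.baseChange_eq_ltensor]
    exact Module.Flat.lTensor_preserves_injective_linearMap f hf
  · rw [LinearMap.baseChange_eq_ltensor]
    exact LinearMap.lTensor_surjective B hg
  · rw [LinearMap.baseChange_eq_ltensor, LinearMap.baseChange_eq_ltensor]
    exact lTensor_exact B hfg hg

theorem len₀_ker : KZero.relSub (finP A) ≤ (len₀ A B).ker := by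
  rw [KZero.relSub, AddSubgroup.closure_le]
  rintro x ⟨S, h₁, h₂, h₃, hS, rfl⟩
  rw [SetLike.mem_coe, AddMonoidHom.mem_ker, map_sub, map_sub]
  simp only [len₀, FreeAbelianGroup.lift_apply_of]
  have : Module.Finite A S.X₁ := h₁
  have : Module.Finite A S.X₂ := h₂
  have : Module.Finite A S.X₃ := h₃
  have hadd := length_baseChange_add A B S.f.hom S.g.hom hS.moduleCat_injective_f
    hS.moduleCat_surjective_g
    ((ShortComplex.ShortExact.moduleCat_exact_iff_function_exact S).mp hS.exact)
  have e1 := length_baseChange_ne_top A B S.X₁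
  have e3 := length_baseChange_ne_top A B S.X₃
  rw [hadd, ENat.toNat_add e1 e3]
  push_cast
  ring

/-- The additive function `[M] ↦ length_B (B ⊗_A M)` on `K'_0(A)`, for a flat Artinian
`A`-algebra `B`. -/
noncomputable def len : KZero.K0sub (finP A) →+ ℤ :=
  QuotientAddGroup.lift (KZero.relSub (finP A)) (len₀ A B) (len₀_ker A B)

theorem len_cls (M : Type u) [AddCommGroup M] [Module A M] [Module.Finite A M] :
    len A B (cls A M) = ((Module.length B (B ⊗[A] M)).toNat : ℤ) := by
  have hM : finP A (ModuleCat.of A M) := inferInstanceAs (Module.Finite A M)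
  rw [cls, KZero.clSub, dif_pos hM]
  rfl

/-- The value on `A/I` when `I B = 0` and `B` is a field. -/
theorem len_cls_quotient_of_map_eq_bot (hB : IsField B) (I : Ideal A)
    (hI : I.map (algebraMap A B) = ⊥) : len A B (cls A (A ⧸ I)) = 1 := by
  rw [len_cls]
  have e : (B ⧸ I.map (algebraMap A B)) ≃ₗ[B] B ⊗[A] (A ⧸ I) :=
    (Algebra.TensorProduct.quotIdealMapEquivTensorQuot B I).toLinearEquiv
  rw [← e.length_eq, hI]
  have e2 : (B ⧸ (⊥ : Ideal B)) ≃ₗ[B] B := Submodule.quotEquivOfEqBot ⊥ rfl
  rw [e2.length_eq]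
  letI := hB.toField
  have : Module.length B B = 1 := by
    rw [Module.length_eq_finrank, Module.finrank_self]
    rfl
  rw [this]
  rfl

/-- The value on `A/I` when `I B = B`. -/
theorem len_cls_quotient_of_map_eq_top (I : Ideal A)
    (hI : I.map (algebraMap A B) = ⊤) : len A B (cls A (A ⧸ I)) = 0 := by
  rw [len_cls]
  have e : (B ⧸ I.map (algebraMap A B)) ≃ₗ[B] B ⊗[A] (A ⧸ I) :=
    (Algebra.TensorProduct.quotIdealMapEquivTensorQuot B I).toLinearEquiv
  rw [← e.length_eq, hI]
  have : Subsingleton (B ⧸ (⊤ : Ideal B)) := Ideal.Quotient.subsingleton_iff.mpr rfl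
  rw [Module.length_eq_zero]
  rfl

end Len

section Gen

variable (A : Type u) [CommRing A] [IsNoetherianRing A]

/-- `K'_0(A)` of a Noetherian ring is generated by the classes `[A/p]`, `p` prime. -/
theorem mem_of_forall_prime (H : AddSubgroup (KZero.K0sub (finP A)))
    (hH : ∀ p : PrimeSpectrum A, cls A (A ⧸ p.asIdeal) ∈ H) (x : KZero.K0sub (finP A)) :
    x ∈ H := by
  have key : ∀ (M : Type u) [AddCommGroup M] [Module A M] (_ : Module.Finite A M),
      cls A M ∈ H := by
    intro M _ _ hM
    induction hM using IsNoetherianRing.induction_on_isQuotientEquivQuotientPrime A with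
    | subsingleton N =>
      rw [cls_of_subsingleton]
      exact H.zero_mem
    | quotient N p e =>
      rw [cls_eq_of_equiv e]
      exact hH p
    | exact N₁ N₂ N₃ f g hf hg hfg h₁ h₃ =>
      rw [cls_add_of_exact f g hf hg hfg]
      exact H.add_mem h₁ h₃
  induction x using QuotientAddGroup.induction_on with
  | H z =>
    induction z using FreeAbelianGroup.induction_on with
    | zero => exact H.zero_mem
    | of M =>
      have hM : Module.Finite A M.1 := M.2
      have := key M.1 hM
      rw [cls, KZero.clSub, dif_pos (show finP A (ModuleCat.of A M.1) from hM)] at this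
      exact this
    | neg M ih =>
      rw [QuotientAddGroup.mk_neg]
      exact H.neg_mem ih
    | add a b ha hb =>
      rw [QuotientAddGroup.mk_add]
      exact H.add_mem ha hb

end Gen

section PID

variable {A : Type u} [CommRing A]

/-- If `A/(a)` is a principal ideal domain, then `[A/p] = 0` for each prime `p ∋ a` other
than `(a)`. -/
theorem cls_quotient_prime_eq_zero (a : A) [IsDomain (A ⧸ Ideal.span {a})]
    [IsPrincipalIdealRing (A ⧸ Ideal.span {a})] [Module.Finite A (A ⧸ Ideal.span {a})]
    (p : Ideal A) (ha : a ∈ p) (hp : p ≠ Ideal.span {a}) :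
    cls A (A ⧸ p) = 0 := by
  set I : Ideal A := Ideal.span {a} with hI
  have hIp : I ≤ p := by
    rw [hI, Ideal.span_le]
    simpa using ha
  set q : Ideal (A ⧸ I) := p.map (Ideal.Quotient.mk I) with hq
  obtain ⟨d, hd⟩ := (IsPrincipalIdealRing.principal q).principal
  have hmemq : ∀ x : A, Ideal.Quotient.mk I x ∈ q ↔ x ∈ p := by
    intro x
    rw [hq, Ideal.mem_map_iff_of_surjective _ Ideal.Quotient.mk_surjective]
    constructor
    · rintro ⟨y, hy, hxy⟩
      have : y - x ∈ I := by
        rw [← Ideal.Quotient.eq]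
        exact hxy
      have h2 : x = y - (y - x) := by ring
      rw [h2]
      exact p.sub_mem hy (hIp this)
    · intro hx
      exact ⟨x, hx, rfl⟩
  have hd0 : d ≠ 0 := by
    intro h0
    apply hp
    apply le_antisymm _ hIp
    intro x hx
    have := (hmemq x).mpr hx
    rw [hd, h0] at this
    have h3 : Ideal.Quotient.mk I x = 0 := by
      simpa [Submodule.mem_span_singleton] using this
    exact Ideal.Quotient.eq_zero_iff_mem.mp h3
  -- the exact sequence `0 → A/I → A/I → A/p → 0`
  let f : (A ⧸ I) →ₗ[A] (A ⧸ I) := LinearMap.mulLeft A d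
  let g : (A ⧸ I) →ₗ[A] (A ⧸ p) := Submodule.mapQ I p LinearMap.id hIp
  have hf : Function.Injective f := by
    intro x y hxy
    exact mul_left_cancel₀ hd0 hxy
  have hg : Function.Surjective g := by
    intro y
    obtain ⟨x, rfl⟩ := Ideal.Quotient.mk_surjective y
    exact ⟨Ideal.Quotient.mk I x, rfl⟩
  have hfg : Function.Exact f g := by
    intro y
    obtain ⟨x, rfl⟩ := Ideal.Quotient.mk_surjective y
    have h1 : g (Ideal.Quotient.mk I x) = Ideal.Quotient.mk p x := rfl
    rw [h1, Ideal.Quotient.eq_zero_iff_mem, ← hmemq x, hd]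
    constructor
    · intro hx
      obtain ⟨z, hz⟩ := (Submodule.mem_span_singleton).mp hx
      refine ⟨z, ?_⟩
      change d * z = _
      rw [← hz, smul_eq_mul, mul_comm]
    · rintro ⟨z, hz⟩
      refine (Submodule.mem_span_singleton).mpr ⟨z, ?_⟩
      rw [← hz]
      change z * d = d * z
      exact mul_comm _ _
  have : Module.Finite A (A ⧸ p) := Module.Finite.of_surjective g hg
  have h := cls_add_of_exact (A := A) f g hf hg hfg
  have h' := congrArg (fun t => t - cls A (A ⧸ I)) h
  simpa using h'.symm

end PID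

end Groth.Agent.Lib.Helper19K0Len
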