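import Groth.Agent.Lib.Helper19K0Len
import Mathlib

/-! `K'_0` of the node `k[x,y]/(xy)` (helper19). -/

set_option autoImplicit false
universe u
open CategoryTheory TensorProduct

namespace Groth.Agent.Lib.Helper19K0Node

open Groth.Agent.Lib.Helper29K0Mod Groth.Agent.Lib.Helper19K0Len

variable (k : Type u) [Field k]

noncomputable abbrev nodeI : Ideal (MvPolynomial (Fin 2) k) :=
  Ideal.span {(MvPolynomial.X 0 * MvPolynomial.X 1 : MvPolynomial (Fin 2) k)}

abbrev Nd : Type u := MvPolynomial (Fin 2) k ⧸ nodeI k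

noncomputable abbrev xb (i : Fin 2) : Nd k := Ideal.Quotient.mk (nodeI k) (MvPolynomial.X i)

noncomputable abbrev axI (i : Fin 2) : Ideal (Nd k) := Ideal.span {xb k i}

theorem xb_mul_xb {i j : Fin 2} (hij : i ≠ j) : xb k i * xb k j = 0 := by
  rw [xb, xb, ← map_mul, Ideal.Quotient.eq_zero_iff_mem]
  have : (MvPolynomial.X i * MvPolynomial.X j : MvPolynomial (Fin 2) k) =
      MvPolynomial.X 0 * MvPolynomial.X 1 := by
    fin_cases i <;> fin_cases j
    · exact absurd rfl hij
    · rfl
    · exact mul_comm _ _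
    · exact absurd rfl hij
  rw [this]
  exact Ideal.subset_span rfl

/-- `A → k[Y]`, `x_i ↦ 0`, `x_j ↦ Y`. -/
noncomputable def psi0 (i : Fin 2) : MvPolynomial (Fin 2) k →ₐ[k] Polynomial k :=
  MvPolynomial.aeval (fun l => if l = i then 0 else Polynomial.X)

theorem psi0_node (i : Fin 2) : ∀ a ∈ nodeI k, psi0 k i a = 0 := by
  intro a ha
  obtain ⟨c, rfl⟩ := Ideal.mem_span_singleton'.mp ha
  rw [map_mul, map_mul, psi0, MvPolynomial.aeval_X, MvPolynomial.aeval_X]
  fin_cases i <;> simp

noncomputable def psi1 (i : Fin 2) : Nd k →ₐ[k] Polynomial k :=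
  Ideal.Quotient.liftₐ (nodeI k) (psi0 k i) (psi0_node k i)

theorem psi1_xb (i l : Fin 2) : psi1 k i (xb k l) = if l = i then 0 else Polynomial.X := by
  rw [psi1, xb]
  change psi0 k i (MvPolynomial.X l) = _
  rw [psi0, MvPolynomial.aeval_X]

theorem psi1_axI (i : Fin 2) : ∀ a ∈ axI k i, psi1 k i a = 0 := by
  intro a ha
  obtain ⟨c, rfl⟩ := Ideal.mem_span_singleton'.mp ha
  rw [map_mul, psi1_xb, if_pos rfl, mul_zero]

noncomputable def psi (i : Fin 2) : (Nd k ⧸ axI k i) →ₐ[k] Polynomial k :=
  Ideal.Quotient.liftₐ (axI k i) (psi1 k i) (psi1_axI k i)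

noncomputable def phi (i j : Fin 2) : Polynomial k →ₐ[k] (Nd k ⧸ axI k i) :=
  Polynomial.aeval (Ideal.Quotient.mk (axI k i) (xb k j))

theorem psi_phi {i j : Fin 2} (hij : i ≠ j) :
    (psi k i).comp (phi k i j) = AlgHom.id k (Polynomial k) := by
  apply Polynomial.algHom_ext
  rw [AlgHom.comp_apply, phi, Polynomial.aeval_X, AlgHom.id_apply]
  change psi1 k i (xb k j) = _
  rw [psi1_xb, if_neg (Ne.symm hij)]

theorem phi_psi {i j : Fin 2} (hij : i ≠ j) :
    (phi k i j).comp (psi k i) = AlgHom.id k (Nd k ⧸ axI k i) := by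
  apply Ideal.Quotient.algHom_ext
  apply Ideal.Quotient.algHom_ext
  apply MvPolynomial.algHom_ext
  intro l
  change phi k i j (psi1 k i (xb k l)) = Ideal.Quotient.mk (axI k i) (xb k l)
  rw [psi1_xb]
  by_cases hl : l = i
  · rw [if_pos hl, map_zero, hl]
    symm
    rw [Ideal.Quotient.eq_zero_iff_mem]
    exact Ideal.subset_span rfl
  · rw [if_neg hl, phi, Polynomial.aeval_X]
    have : l = j := by
      fin_cases i <;> fin_cases j <;> fin_cases l <;> simp_all
    rw [this]

noncomputable def equivPoly {i j : Fin 2} (hij : i ≠ j) : (Nd k ⧸ axI k i) ≃ₐ[k] Polynomial k :=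
  AlgEquiv.ofAlgHom (psi k i) (phi k i j) (psi_phi k hij) (phi_psi k hij)

theorem other (i : Fin 2) : ∃ j : Fin 2, i ≠ j := by
  fin_cases i
  · exact ⟨1, by decide⟩
  · exact ⟨0, by decide⟩

instance isDomain_quot (i : Fin 2) : IsDomain (Nd k ⧸ axI k i) := by
  obtain ⟨j, hij⟩ := other i
  exact (equivPoly k hij).toMulEquiv.isDomain (Polynomial k)

instance isPrime_axI (i : Fin 2) : (axI k i).IsPrime :=
  (Ideal.Quotient.isDomain_iff_prime _).mp (isDomain_quot k i)

instance isPrincipalIdealRing_quot (i : Fin 2) : IsPrincipalIdealRing (Nd k ⧸ axI k i) := by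
  obtain ⟨j, hij⟩ := other i
  exact IsPrincipalIdealRing.of_surjective (equivPoly k hij).symm.toRingEquiv.toRingHom
    (equivPoly k hij).symm.surjective

theorem xb_notMem {i j : Fin 2} (hij : i ≠ j) : xb k j ∉ axI k i := by
  intro h
  have := psi1_axI k i _ h
  rw [psi1_xb, if_neg (Ne.symm hij)] at this
  exact Polynomial.X_ne_zero this

theorem axI_ne {i j : Fin 2} (hij : i ≠ j) : axI k i ≠ axI k j := by
  intro h
  apply xb_notMem k hij
  rw [h]
  exact Ideal.subset_span rfl

/-- The localization of the node at the minimal prime `(x_i)` is a field. -/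
theorem isField_loc (i : Fin 2) : IsField (Localization.AtPrime (axI k i)) := by
  obtain ⟨j, hij⟩ := other i
  rw [IsLocalRing.isField_iff_maximalIdeal_eq, ← Localization.AtPrime.map_eq_maximalIdeal,
    Ideal.map_span, Set.image_singleton]
  have : algebraMap (Nd k) (Localization.AtPrime (axI k i)) (xb k i) = 0 := by
    rw [IsLocalization.map_eq_zero_iff (axI k i).primeCompl]
    exact ⟨⟨xb k j, xb_notMem k hij⟩, by
      change xb k j * xb k i = 0
      exact xb_mul_xb k (Ne.symm hij)⟩
  rw [this]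
  exact Ideal.span_singleton_eq_bot.mpr rfl

theorem map_axI_self (i : Fin 2) :
    (axI k i).map (algebraMap (Nd k) (Localization.AtPrime (axI k i))) = ⊥ := by
  rw [Localization.AtPrime.map_eq_maximalIdeal]
  exact IsLocalRing.isField_iff_maximalIdeal_eq.mp (isField_loc k i)

theorem map_axI_other {i j : Fin 2} (hij : i ≠ j) :
    (axI k j).map (algebraMap (Nd k) (Localization.AtPrime (axI k i))) = ⊤ := by
  rw [Ideal.map_span, Set.image_singleton, Ideal.span_singleton_eq_top]
  exact IsLocalization.map_units (Localization.AtPrime (axI k i))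
    (⟨xb k j, xb_notMem k hij⟩ : (axI k i).primeCompl)

theorem isArtinianRing_loc (i : Fin 2) : IsArtinianRing (Localization.AtPrime (axI k i)) := by
  letI : Field (Localization.AtPrime (axI k i)) :=
    @IsField.toField (Localization.AtPrime (axI k i)) inferInstance (isField_loc k i)
  infer_instance

/-- The rank at the generic point of the branch `x_i = 0`. -/
noncomputable def rk (i : Fin 2) : KZero.K0sub (finP (Nd k)) →+ ℤ :=
  haveI := isArtinianRing_loc k i
  len (Nd k) (Localization.AtPrime (axI k i))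

theorem rk_self (i : Fin 2) : rk k i (cls (Nd k) (Nd k ⧸ axI k i)) = 1 := by
  have := isArtinianRing_loc k i
  exact len_cls_quotient_of_map_eq_bot (Nd k) _ (isField_loc k i) (axI k i) (map_axI_self k i)

theorem rk_other {i j : Fin 2} (hij : i ≠ j) : rk k i (cls (Nd k) (Nd k ⧸ axI k j)) = 0 := by
  have := isArtinianRing_loc k i
  exact len_cls_quotient_of_map_eq_top (Nd k) _ (axI k j) (map_axI_other k hij)

theorem cls_prime_mem (p : PrimeSpectrum (Nd k)) :
    cls (Nd k) (Nd k ⧸ p.asIdeal) ∈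
      AddSubgroup.closure {cls (Nd k) (Nd k ⧸ axI k 0), cls (Nd k) (Nd k ⧸ axI k 1)} := by
  have h01 : xb k 0 * xb k 1 ∈ p.asIdeal := by
    rw [xb_mul_xb k (by decide : (0 : Fin 2) ≠ 1)]
    exact p.asIdeal.zero_mem
  have key : ∀ i : Fin 2, xb k i ∈ p.asIdeal →
      cls (Nd k) (Nd k ⧸ p.asIdeal) = cls (Nd k) (Nd k ⧸ axI k i) ∨
        cls (Nd k) (Nd k ⧸ p.asIdeal) = 0 := by
    intro i hi
    by_cases hp : p.asIdeal = axI k i
    · left
      rw [hp]
    · right
      exact cls_quotient_prime_eq_zero (xb k i) p.asIdeal hi hp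
  rcases p.2.mem_or_mem h01 with h | h
  · rcases key 0 h with e | e
    · rw [e]
      exact AddSubgroup.subset_closure (by simp)
    · rw [e]
      exact AddSubgroup.zero_mem _
  · rcases key 1 h with e | e
    · rw [e]
      exact AddSubgroup.subset_closure (by simp)
    · rw [e]
      exact AddSubgroup.zero_mem _

theorem main : Function.Bijective (fun p : ℤ × ℤ =>
    p.1 • cls (Nd k) (Nd k ⧸ axI k 0) + p.2 • cls (Nd k) (Nd k ⧸ axI k 1)) := by
  have h01 : (0 : Fin 2) ≠ 1 := by decide
  constructor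
  · intro p q h
    have h0 := congrArg (rk k 0) h
    have h1 := congrArg (rk k 1) h
    simp only [map_add, map_zsmul, rk_self, rk_other k h01, rk_other k (Ne.symm h01), smul_eq_mul,
      mul_one, mul_zero, add_zero, zero_add] at h0 h1
    exact Prod.ext h0 h1
  · intro x
    have hx := mem_of_forall_prime (Nd k) _ (cls_prime_mem k) x
    obtain ⟨m, n, hmn⟩ := AddSubgroup.mem_closure_pair.mp hx
    exact ⟨(m, n), hmn⟩

end Groth.Agent.Lib.Helper19K0Node
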