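import Groth.Agent.Lib.Helper19KosDefs

/-!
# API: maps out of `L₁`, `L₂` through `S`-linear maps out of `F`, `Q`
-/

set_option autoImplicit false
set_option linter.unusedSectionVars false
universe u v w t m

open TensorProduct

namespace Groth.Agent.Lib.Helper19.Kos

variable {S : Type u} {B : Type v} [CommRing S] [CommRing B] [Algebra S B] {σ : Type t}
  {f : σ → S} (hf : ∀ s, algebraMap S B (f s) = 0)
variable {M : Type m} [AddCommGroup M] [Module B M] [Module S M] [IsScalarTower S B M]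

/-- the class of `1 ⊗ q` in `L₂` -/
noncomputable def mk2 (q : Q S f) : L2 S B f := Submodule.Quotient.mk ((1 : B) ⊗ₜ[S] q)

lemma mk2_add (q q' : Q S f) : mk2 (B := B) (q + q') = mk2 q + mk2 q' := by
  simp only [mk2, TensorProduct.tmul_add, Submodule.Quotient.mk_add]

lemma mk2_smul (r : S) (q : Q S f) : mk2 (B := B) (r • q) = algebraMap S B r • mk2 q := by
  simp only [mk2]
  rw [← Submodule.Quotient.mk_smul, TensorProduct.smul_tmul', ← TensorProduct.smul_tmul,
    Algebra.smul_def, mul_one, smul_eq_mul, mul_one]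

include hf in
lemma mk2_eq_zero_of_mem_F0 (q : Q S f) (hq : (q : σ →₀ S) ∈ F0 S f) : mk2 (B := B) q = 0 := by
  rw [mk2, Submodule.Quotient.mk_eq_zero]
  exact ⟨(1 : B) ⊗ₜ ⟨q, hq⟩, rfl⟩

lemma mk_tmul_eq (b : B) (q : Q S f) :
    (Submodule.Quotient.mk (b ⊗ₜ[S] q) : L2 S B f) = b • mk2 q := by
  rw [mk2, ← Submodule.Quotient.mk_smul, TensorProduct.smul_tmul', smul_eq_mul, mul_one]

/-- values of `ψ : L₂ → M` on the classes of `1 ⊗ q`, as an `S`-linear map `Q → M` -/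
noncomputable def at2 (ψ : L2 S B f →ₗ[B] M) : Q S f →ₗ[S] M where
  toFun q := ψ (mk2 q)
  map_add' q q' := by rw [mk2_add, map_add]
  map_smul' r q := by rw [mk2_smul, map_smul, RingHom.id_apply, algebraMap_smul]

lemma at2_apply (ψ : L2 S B f →ₗ[B] M) (q : Q S f) : at2 ψ q = ψ (mk2 q) := rfl

include hf in
lemma at2_of_mem_F0 (ψ : L2 S B f →ₗ[B] M) (q : Q S f) (hq : (q : σ →₀ S) ∈ F0 S f) :
    at2 ψ q = 0 := by
  rw [at2_apply, mk2_eq_zero_of_mem_F0 hf q hq, map_zero]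

lemma L2_ext {ψ ψ' : L2 S B f →ₗ[B] M} (h : ∀ q, at2 ψ q = at2 ψ' q) : ψ = ψ' := by
  apply Submodule.linearMap_qext
  refine TensorProduct.AlgebraTensorModule.ext fun b q => ?_
  show ψ (Submodule.Quotient.mk (b ⊗ₜ q)) = ψ' (Submodule.Quotient.mk (b ⊗ₜ q))
  rw [mk_tmul_eq, map_smul, map_smul]
  exact congrArg _ (h q)

/-- the map `L₂ → M` attached to an `S`-linear map `Q → M` killing the trivial relations -/
noncomputable def lift2 (g : Q S f →ₗ[S] M) (hg : ∀ q : Q S f, (q : σ →₀ S) ∈ F0 S f → g q = 0) :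
    L2 S B f →ₗ[B] M :=
  Submodule.liftQ _ (LinearMap.liftBaseChange B g) (by
    rintro _ ⟨z, rfl⟩
    rw [LinearMap.mem_ker]
    induction z using TensorProduct.induction_on with
    | zero => simp
    | add x y hx hy => rw [map_add, map_add, hx, hy, add_zero]
    | tmul b k =>
      rw [LinearMap.baseChange_tmul, LinearMap.liftBaseChange_tmul]
      have : g ((F0Q S f).subtype k) = 0 := hg _ k.2
      rw [this, smul_zero])

lemma at2_lift2 (g : Q S f →ₗ[S] M) (hg) (q : Q S f) : at2 (lift2 (B := B) g hg) q = g q := by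
  rw [at2_apply, mk2, lift2, Submodule.liftQ_apply, LinearMap.liftBaseChange_tmul, one_smul]

/-- values of `χ : L₁ → M` on `1 ⊗ x` -/
noncomputable def at1 (χ : L1 S B (σ := σ) →ₗ[B] M) : (σ →₀ S) →ₗ[S] M where
  toFun x := χ ((1 : B) ⊗ₜ[S] x)
  map_add' x y := by rw [TensorProduct.tmul_add, map_add]
  map_smul' r x := by
    rw [RingHom.id_apply, ← TensorProduct.smul_tmul, Algebra.smul_def, mul_one,
      ← mul_one (algebraMap S B r), ← smul_eq_mul, ← TensorProduct.smul_tmul', map_smul,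
      algebraMap_smul]

lemma at1_apply (χ : L1 S B (σ := σ) →ₗ[B] M) (x : σ →₀ S) : at1 χ x = χ ((1 : B) ⊗ₜ[S] x) := rfl

/-- the map `L₁ → M` attached to an `S`-linear map `F → M` -/
noncomputable def lift1 (G : (σ →₀ S) →ₗ[S] M) : L1 S B (σ := σ) →ₗ[B] M :=
  LinearMap.liftBaseChange B G

lemma at1_lift1 (G : (σ →₀ S) →ₗ[S] M) (x : σ →₀ S) : at1 (lift1 (B := B) G) x = G x := by
  rw [at1_apply, lift1, LinearMap.liftBaseChange_tmul, one_smul]

lemma at2_comp_d2 (χ : L1 S B (σ := σ) →ₗ[B] M) (q : Q S f) :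
    at2 (χ ∘ₗ d2 hf) q = at1 χ (q : σ →₀ S) := by
  rw [at2_apply, LinearMap.comp_apply, mk2, d2_mk_tmul, at1_apply]

/-- criterion for being a coboundary -/
lemma mem_range_lcomp_d2_iff (ψ : L2 S B f →ₗ[B] M) :
    ψ ∈ LinearMap.range (LinearMap.lcomp B M (d2 hf)) ↔
      ∃ G : (σ →₀ S) →ₗ[S] M, ∀ q : Q S f, G (q : σ →₀ S) = at2 ψ q := by
  constructor
  · rintro ⟨χ, rfl⟩
    refine ⟨at1 χ, fun q => ?_⟩
    rw [LinearMap.lcomp_apply', at2_comp_d2]
  · rintro ⟨G, hG⟩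
    refine ⟨lift1 G, ?_⟩
    rw [LinearMap.lcomp_apply']
    apply L2_ext
    intro q
    rw [at2_comp_d2, at1_lift1, hG]

end Groth.Agent.Lib.Helper19.Kos
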