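import Groth.Agent.Lib.Helper19KosApi

/-!
# The Koszul-symmetric extension attached to a map `Q → M` killing the trivial relations
-/

set_option autoImplicit false
set_option linter.unusedSectionVars false
universe u v t m

open TensorProduct

namespace Groth.Agent.Lib.Helper19.Kos.Push

variable {S : Type u} {B : Type v} [CommRing S] [CommRing B] [Algebra S B] {σ : Type t}
  {f : σ → S} (hf : ∀ s, algebraMap S B (f s) = 0)
variable {M : Type m} [AddCommGroup M] [Module B M] [Module S M] [IsScalarTower S B M]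
variable (g : Q S f →ₗ[S] M)

/-- the graph of `-g` -/
noncomputable def N : Submodule S ((σ →₀ S) × M) :=
  LinearMap.range (LinearMap.prod (Q S f).subtype (-g))

lemma mem_N (z : (σ →₀ S) × M) : z ∈ N g ↔ ∃ q : Q S f, (q : σ →₀ S) = z.1 ∧ -g q = z.2 := by
  constructor
  · rintro ⟨q, rfl⟩
    exact ⟨q, rfl, rfl⟩
  · rintro ⟨q, h1, h2⟩
    exact ⟨q, Prod.ext h1 h2⟩

/-- the push-out extension `E = (F × M)/graph` -/
abbrev E : Type _ := ((σ →₀ S) × M) ⧸ N g

/-- `p : E → S` -/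
noncomputable def p : E g →ₗ[S] S :=
  Submodule.liftQ (N g) (jm S f ∘ₗ LinearMap.fst S (σ →₀ S) M) (by
    rintro z hz
    obtain ⟨q, h1, _⟩ := (mem_N g z).mp hz
    rw [LinearMap.mem_ker, LinearMap.comp_apply, LinearMap.fst_apply, ← h1]
    exact q.2)

/-- `F → E` -/
noncomputable def inF : (σ →₀ S) →ₗ[S] E g := (N g).mkQ ∘ₗ LinearMap.inl S (σ →₀ S) M

/-- `M → E` -/
noncomputable def inM : M →ₗ[S] E g := (N g).mkQ ∘ₗ LinearMap.inr S (σ →₀ S) M

lemma mk_eq (x : σ →₀ S) (m : M) :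
    (Submodule.Quotient.mk (x, m) : E g) = inF g x + inM g m := by
  show _ = Submodule.Quotient.mk (x, 0) + Submodule.Quotient.mk (0, m)
  rw [← Submodule.Quotient.mk_add, Prod.mk_add_mk, add_zero, zero_add]

@[simp] lemma p_inF (x : σ →₀ S) : p g (inF g x) = jm S f x := rfl

@[simp] lemma p_inM (m : M) : p g (inM g m) = 0 := by
  show jm S f (0 : σ →₀ S) = 0
  rw [map_zero]

lemma inF_eq_inM (q : Q S f) : inF g (q : σ →₀ S) = inM g (g q) := by
  rw [← sub_eq_zero]
  show Submodule.Quotient.mk ((q : σ →₀ S), (0 : M)) - Submodule.Quotient.mk ((0 : σ →₀ S), g q) = (0 : E g)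
  rw [← Submodule.Quotient.mk_sub, Submodule.Quotient.mk_eq_zero, mem_N]
  refine ⟨q, ?_, ?_⟩
  · simp
  · simp

lemma inM_injective : Function.Injective (inM g) := by
  rw [injective_iff_map_eq_zero]
  intro m hm
  have : (Submodule.Quotient.mk ((0 : σ →₀ S), m) : E g) = 0 := hm
  rw [Submodule.Quotient.mk_eq_zero, mem_N] at this
  obtain ⟨q, h1, h2⟩ := this
  have hq : q = 0 := Subtype.ext h1
  rw [hq, map_zero, neg_zero] at h2
  exact h2.symm

lemma exists_of_p_eq_zero (e : E g) (he : p g e = 0) : ∃ m, inM g m = e := by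
  obtain ⟨⟨x, m⟩, rfl⟩ := Submodule.Quotient.mk_surjective _ e
  have hx : x ∈ Q S f := he
  refine ⟨m + g ⟨x, hx⟩, ?_⟩
  rw [mk_eq, map_add, ← inF_eq_inM, add_comm]

include hf in
lemma jm_smul (x : σ →₀ S) (m : M) : jm S f x • m = 0 := by
  rw [← algebraMap_smul B (jm S f x) m, algebraMap_jm hf, zero_smul]

include hf in
/-- Koszul symmetry -/
lemma kosSym (hg : ∀ q : Q S f, (q : σ →₀ S) ∈ F0 S f → g q = 0) (e e' : E g) :
    p g e • e' = p g e' • e := by
  obtain ⟨⟨x, m⟩, rfl⟩ := Submodule.Quotient.mk_surjective _ e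
  obtain ⟨⟨y, n⟩, rfl⟩ := Submodule.Quotient.mk_surjective _ e'
  have h1 : p g (Submodule.Quotient.mk (x, m)) = jm S f x := rfl
  have h2 : p g (Submodule.Quotient.mk (y, n)) = jm S f y := rfl
  have e1 : jm S f x • (inF g y + inM g n) = inF g (jm S f x • y) := by
    rw [smul_add, ← map_smul (inF g), ← map_smul (inM g), jm_smul hf x n, map_zero, add_zero]
  have e2 : jm S f y • (inF g x + inM g m) = inF g (jm S f y • x) := by
    rw [smul_add, ← map_smul (inF g), ← map_smul (inM g), jm_smul hf y m, map_zero, add_zero]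
  have hmem : jm S f x • y - jm S f y • x ∈ F0 S f := kos_mem_F0 S f x y
  have hq : jm S f x • y - jm S f y • x ∈ Q S f := F0_le_Q S f hmem
  have h3 := inF_eq_inM g ⟨_, hq⟩
  rw [hg ⟨_, hq⟩ hmem, map_zero] at h3
  rw [h1, h2, mk_eq, mk_eq, e1, e2, ← sub_eq_zero, ← map_sub]
  exact h3

/-- from a "section" to an extension of `g` -/
theorem exists_extension_of_section (s : (σ →₀ S) →ₗ[S] E g)
    (hs1 : ∀ x, p g (s x) = jm S f x) (hs2 : ∀ q : Q S f, s q = 0) :
    ∃ G : (σ →₀ S) →ₗ[S] M, ∀ q : Q S f, G q = g q := by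
  have hmem : ∀ x, (inF g - s) x ∈ LinearMap.range (inM g) := by
    intro x
    obtain ⟨m, hm⟩ := exists_of_p_eq_zero g ((inF g - s) x) (by
      rw [LinearMap.sub_apply, map_sub, p_inF, hs1, sub_self])
    exact ⟨m, hm⟩
  let κ := LinearEquiv.ofInjective (inM g) (inM_injective g)
  refine ⟨κ.symm.toLinearMap ∘ₗ (inF g - s).codRestrict (LinearMap.range (inM g)) hmem, ?_⟩
  intro q
  rw [LinearMap.comp_apply, LinearEquiv.coe_coe, LinearEquiv.symm_apply_eq]
  apply Subtype.ext
  show (inF g - s) q = inM g (g q)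
  rw [LinearMap.sub_apply, hs2, sub_zero, inF_eq_inM]

end Groth.Agent.Lib.Helper19.Kos.Push
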