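import Mathlib

/-!
# Koszul-symmetric module extensions and the honest-section lemma

For a commutative ring `S`, an `S`-module `E` and an `S`-linear map `p : E → S` with
`p x • y = p y • x` ("Koszul-symmetric"), `E` becomes a non-unital commutative ring.
If `S` is formally smooth over `S₀`, `r : S → S₀` is a retraction and `ker r ⊆ range p`, then
`p` has an `S`-linear section over `ker r`.
-/

set_option autoImplicit false
set_option linter.style.haveILetI false
universe u v

namespace Groth.Agent.Lib.Helper19.KosSec

section ring

variable {S : Type*} [CommRing S] {E : Type*} [inst : AddCommGroup E] [Module S E]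

/-- the multiplication `x * y = p x • y` on a Koszul-symmetric module over `S` -/
@[reducible] def kosRing (p : E →ₗ[S] S) (hsym : ∀ x y, p x • y = p y • x) :
    NonUnitalCommRing E :=
  { inst with
    mul := fun x y => p x • y
    left_distrib := fun x y z => smul_add _ _ _
    right_distrib := fun x y z => by
      show p (x + y) • z = p x • z + p y • z
      rw [map_add, add_smul]
    zero_mul := fun x => by
      show p 0 • x = 0
      rw [map_zero, zero_smul]
    mul_zero := fun x => smul_zero _
    mul_assoc := fun x y z => by
      show p (p x • y) • z = p x • (p y • z)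
      rw [map_smul, smul_eq_mul, mul_smul]
    mul_comm := hsym }

variable (p : E →ₗ[S] S) (hsym : ∀ x y, p x • y = p y • x)

theorem isScalarTower_kos : letI := kosRing p hsym; IsScalarTower S E E := by
  letI := kosRing p hsym
  exact ⟨fun r x y => by
    show p (r • x) • y = r • (p x • y)
    rw [map_smul, smul_eq_mul, mul_smul]⟩

theorem smulCommClass_kos : letI := kosRing p hsym; SMulCommClass S E E := by
  letI := kosRing p hsym
  exact ⟨fun r x y => by
    show r • (p x • y) = p x • (r • y)
    rw [smul_comm]⟩

end ring

section HSL

variable {S₀ : Type*} {S : Type*} [CommRing S₀] [CommRing S] [Algebra S₀ S]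
  [Algebra.FormallySmooth S₀ S] (r : S →ₐ[S₀] S₀)
  {E : Type*} [AddCommGroup E] [Module S E] (p : E →ₗ[S] S)
  (hsym : ∀ x y, p x • y = p y • x)

include hsym in
/-- **Honest-section lemma.** -/
theorem exists_section_of_retraction (hZ : ∀ z : S, r z = 0 → ∃ e, p e = z) :
    ∃ l : RingHom.ker (r : S →+* S₀) →ₗ[S] E, ∀ z, p (l z) = z := by
  letI := kosRing p hsym
  haveI := isScalarTower_kos p hsym
  haveI := smulCommClass_kos p hsym
  have hmul : ∀ x y : E, x * y = p x • y := fun _ _ => rfl
  letI : Algebra S₀ (Unitization S E) :=
    ((algebraMap S (Unitization S E)).comp (algebraMap S₀ S)).toAlgebra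
  haveI : IsScalarTower S₀ S (Unitization S E) := IsScalarTower.of_algebraMap_eq (fun _ => rfl)
  -- the two projections
  let fstA : Unitization S E →ₐ[S₀] S := (Unitization.fstHom S E).restrictScalars S₀
  let πR : Unitization S E →+* S :=
    { toFun := fun c => c.fst + p c.snd
      map_one' := by simp
      map_zero' := by simp
      map_add' := fun c c' => by
        simp only [Unitization.fst_add, Unitization.snd_add, map_add]; ring
      map_mul' := fun c c' => by
        simp only [Unitization.fst_mul, Unitization.snd_mul, map_add, map_smul, smul_eq_mul,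
          hmul]
        ring }
  let πA : Unitization S E →ₐ[S₀] S :=
    { πR with
      commutes' := fun a => by
        show ((algebraMap S₀ (Unitization S E)) a).fst + p ((algebraMap S₀ (Unitization S E)) a).snd
          = algebraMap S₀ S a
        rw [IsScalarTower.algebraMap_apply S₀ S (Unitization S E), Unitization.algebraMap_eq_inl,
          Unitization.fst_inl, Unitization.snd_inl, map_zero, add_zero] }
  have hπA : ∀ c, πA c = c.fst + p c.snd := fun c => rfl
  have hfstA : ∀ c, fstA c = c.fst := fun c => rfl
  let ρ : S →ₐ[S₀] S := (Algebra.ofId S₀ S).comp r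
  have hρ : ∀ x, ρ x = algebraMap S₀ S (r x) := fun x => rfl
  have hrρ : ∀ x, r (ρ x - x) = 0 := fun x => by
    rw [map_sub, hρ, AlgHom.commutes, Algebra.algebraMap_self_apply, sub_self]
  let G : Unitization S E →ₐ[S₀] S × S := fstA.prod πA
  have hG : ∀ c, G c = (c.fst, c.fst + p c.snd) := fun c => rfl
  let g : Unitization S E →ₐ[S₀] G.range := G.rangeRestrict
  have hg : Function.Surjective g := G.rangeRestrict_surjective
  have hgv : ∀ c, (g c : S × S) = (c.fst, c.fst + p c.snd) := fun c => rfl
  have hmem : ∀ x : S, ((AlgHom.id S₀ S).prod ρ) x ∈ G.range := by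
    intro x
    obtain ⟨e, he⟩ := hZ _ (hrρ x)
    refine ⟨Unitization.inl x + (e : Unitization S E), ?_⟩
    show G (Unitization.inl x + (e : Unitization S E)) = _
    rw [hG]
    simp only [Unitization.fst_add, Unitization.fst_inl, Unitization.fst_inr, add_zero,
      Unitization.snd_add, Unitization.snd_inl, Unitization.snd_inr, zero_add, he]
    show (x, x + (ρ x - x)) = (x, ρ x)
    rw [add_sub_cancel]
  let γ : S →ₐ[S₀] G.range := ((AlgHom.id S₀ S).prod ρ).codRestrict G.range hmem
  have hγ : ∀ x, (γ x : S × S) = (x, ρ x) := fun x => rfl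
  have hnil : IsNilpotent (RingHom.ker (g : Unitization S E →+* G.range)) := by
    refine ⟨2, ?_⟩
    rw [pow_two, Ideal.zero_eq_bot, eq_bot_iff, Ideal.mul_le]
    intro c hc c' hc'
    rw [Ideal.mem_bot]
    have h1 : (g c : S × S) = 0 := by rw [RingHom.mem_ker] at hc; exact congrArg Subtype.val hc
    have h2 : (g c' : S × S) = 0 := by rw [RingHom.mem_ker] at hc'; exact congrArg Subtype.val hc'
    rw [hgv, Prod.mk_eq_zero] at h1 h2
    obtain ⟨h1a, h1b⟩ := h1
    obtain ⟨h2a, h2b⟩ := h2
    rw [h1a, zero_add] at h1b
    apply Unitization.ext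
    · rw [Unitization.fst_mul, h1a, zero_mul, Unitization.fst_zero]
    · rw [Unitization.snd_mul, h1a, h2a, zero_smul, zero_smul, hmul, h1b, zero_smul, add_zero,
        add_zero, Unitization.snd_zero]
  let γt : S →ₐ[S₀] Unitization S E := Algebra.FormallySmooth.liftOfSurjective γ g hg hnil
  have hγt : ∀ x, g (γt x) = γ x := fun x =>
    Algebra.FormallySmooth.liftOfSurjective_apply γ g hg hnil x
  have hfst : ∀ x, (γt x).fst = x := fun x => by
    have := congrArg (fun z : G.range => (z : S × S).1) (hγt x)
    simpa [hgv, hγ] using this
  have hsnd : ∀ x, p (γt x).snd = ρ x - x := fun x => by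
    have := congrArg (fun z : G.range => (z : S × S).2) (hγt x)
    simp only [hgv, hγ, hfst] at this
    rw [← this]; ring
  have ht_mul : ∀ x y, (γt (x * y)).snd = x • (γt y).snd + ρ y • (γt x).snd := by
    intro x y
    rw [map_mul, Unitization.snd_mul, hfst, hfst, hmul, hsym, hsnd, sub_smul]
    abel
  refine ⟨{ toFun := fun z => -(γt z.1).snd
            map_add' := fun z z' => by
              show -(γt (z.1 + z'.1)).snd = _
              rw [map_add, Unitization.snd_add, neg_add]
            map_smul' := fun x z => by
              show -(γt (x * z.1)).snd = x • -(γt z.1).snd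
              have hz : ρ z.1 = 0 := by
                rw [hρ]
                have : r z.1 = 0 := z.2
                rw [this, map_zero]
              rw [ht_mul, hz, zero_smul, add_zero, smul_neg] }, ?_⟩
  intro z
  show p (-(γt z.1).snd) = z.1
  have hz : ρ z.1 = 0 := by
    rw [hρ]
    have : r z.1 = 0 := z.2
    rw [this, map_zero]
  rw [map_neg, hsnd, hz, zero_sub, neg_neg]

end HSL

end Groth.Agent.Lib.Helper19.KosSec
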