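import Groth.Agent.Lib.Helper19KosMap
import Groth.Agent.Lib.Helper19KosPush
import Groth.Agent.Lib.Helper19KosSec

/-!
# Invariance of `T²` under formally smooth extensions of the ambient ring with a retraction
-/

set_option autoImplicit false
set_option linter.unusedSectionVars false
set_option linter.style.haveILetI false
universe u u' v w t t' m

open TensorProduct

namespace Groth.Agent.Lib.Helper19.Kos

section X1

variable {S : Type u} {B : Type v} [CommRing S] [CommRing B] [Algebra S B] {σ : Type t}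
  {f : σ → S}
variable {M : Type m} [AddCommGroup M] [Module S M]

/-- an endomorphism of `F` over `S` compatible with `j` changes maps `Q → M` by restrictions
of maps `F → M` -/
theorem exists_extend_sub (μ : (σ →₀ S) →ₗ[S] (σ →₀ S)) (hμ : ∀ x, jm S f (μ x) = jm S f x)
    (g : Q S f →ₗ[S] M) :
    ∃ G : (σ →₀ S) →ₗ[S] M, ∀ (q : Q S f) (hq : μ q ∈ Q S f), G q = g ⟨μ q, hq⟩ - g q := by
  let ν : (σ →₀ S) →ₗ[S] (σ →₀ S) := μ - LinearMap.id
  have hmem : ∀ x, ν x ∈ Q S f := fun x => by
    rw [mem_Q, LinearMap.sub_apply, LinearMap.id_apply, map_sub, hμ, sub_self]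
  refine ⟨g ∘ₗ ν.codRestrict (Q S f) hmem, fun q hq => ?_⟩
  rw [LinearMap.comp_apply, ← map_sub]
  congr 1

end X1

section main

variable {S : Type u} {S' : Type u'} {B : Type v} [CommRing S] [CommRing S'] [CommRing B]
  [Algebra S B] [Algebra S' B] [Algebra S S'] [IsScalarTower S S' B]
  {σ : Type t} {σ' : Type t'} {f : σ → S} {f' : σ' → S'}
  (hf : ∀ s, algebraMap S B (f s) = 0) (hf' : ∀ s, algebraMap S' B (f' s) = 0)
  (r : S' →ₐ[S] S) (hr : ∀ x, algebraMap S B (r x) = algebraMap S' B x)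
  {v : σ → (σ' →₀ S')} (hv : ∀ s, jm S' f' (v s) = algebraMap S S' (f s))
  {w : σ' → (σ →₀ S)} (hw : ∀ s, jm S f (w s) = (r : S' →+* S) (f' s))

omit [Algebra S S'] [IsScalarTower S S' B] in
lemma hτ_of_tower [Algebra S S'] [IsScalarTower S S' B] (x : S) :
    algebraMap S' B (algebraMap S S' x) = algebraMap S B x :=
  (IsScalarTower.algebraMap_apply S S' B x).symm

/-- the composite `F → F' → F` -/
noncomputable def μ : (σ →₀ S) →ₗ[S] (σ →₀ S) where
  toFun x := τF (r : S' →+* S) w (τF (algebraMap S S') v x)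
  map_add' x y := by rw [map_add, map_add]
  map_smul' c x := by
    rw [LinearMap.map_smulₛₗ, LinearMap.map_smulₛₗ, RingHom.id_apply]
    congr 1
    exact r.commutes c

include hv hw in
lemma jm_μ (x : σ →₀ S) : jm S f (μ (v := v) (w := w) r x) = jm S f x := by
  show jm S f (τF (r : S' →+* S) w (τF (algebraMap S S') v x)) = _
  rw [jm_τF hw, jm_τF hv]
  exact r.commutes _

include r hr hw in
theorem pull_surjective (M : Type m) [AddCommGroup M] [Module B M] :
    Function.Surjective (pull (algebraMap S S') v hf hf' hτ_of_tower hv M) := by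
  letI : Module S M := Module.compHom M (algebraMap S B)
  haveI : IsScalarTower S B M := IsScalarTower.of_compHom S B M
  letI : Module S' M := Module.compHom M (algebraMap S' B)
  haveI : IsScalarTower S' B M := IsScalarTower.of_compHom S' B M
  intro x
  obtain ⟨ψ, rfl⟩ := Submodule.Quotient.mk_surjective _ x
  refine ⟨Submodule.Quotient.mk (ψ ∘ₗ Λ (r : S' →+* S) w hf hr hw), ?_⟩
  rw [pull_mk, Submodule.Quotient.eq, mem_range_lcomp_d2_iff]
  obtain ⟨G, hG⟩ := exists_extend_sub (μ (v := v) (w := w) r) (jm_μ r hv hw) (at2 ψ)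
  refine ⟨G, fun q => ?_⟩
  have hq : μ (v := v) (w := w) r q ∈ Q S f := by
    rw [mem_Q, jm_μ r hv hw]; exact q.2
  have e1 : at2 ((ψ ∘ₗ Λ (r : S' →+* S) w hf hr hw) ∘ₗ Λ (algebraMap S S') v hf' hτ_of_tower hv
      - ψ) q =
      at2 ((ψ ∘ₗ Λ (r : S' →+* S) w hf hr hw) ∘ₗ Λ (algebraMap S S') v hf' hτ_of_tower hv) q
        - at2 ψ q := rfl
  rw [hG q hq, e1, at2_comp_Λ, at2_comp_Λ]
  rfl

section core

variable {M : Type m} [AddCommGroup M] [Module B M] [Module S M] [IsScalarTower S B M]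
  [Module S' M] [IsScalarTower S' B M]

include hf' hr hw in
theorem exists_extension_of_pullback [Algebra.FormallySmooth S S']
    (hspan' : ∀ z : S', algebraMap S' B z = 0 → ∃ x', jm S' f' x' = z)
    (g' : Q S' f' →ₗ[S'] M) (hg' : ∀ q : Q S' f', (q : σ' →₀ S') ∈ F0 S' f' → g' q = 0)
    (G : (σ →₀ S) →ₗ[S] M)
    (hG : ∀ q : Q S f, G q = g' (τQ (algebraMap S S') v hv q)) :
    ∃ G' : (σ' →₀ S') →ₗ[S'] M, ∀ q' : Q S' f', G' q' = g' q' := by
  have hsym := Push.kosSym hf' g' hg'
  have hZ : ∀ z : S', r z = 0 → ∃ e, Push.p g' e = z := by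
    intro z hz
    have h1 : algebraMap S' B z = 0 := by rw [← hr, hz, map_zero]
    obtain ⟨x', hx'⟩ := hspan' z h1
    exact ⟨Push.inF g' x', by rw [Push.p_inF, hx']⟩
  obtain ⟨l, hl⟩ := KosSec.exists_section_of_retraction r (Push.p g') hsym hZ
  -- ρ = τ ∘ r
  let ρ : S' → S' := fun c => algebraMap S S' (r c)
  have hρ_mul : ∀ c d, ρ (c * d) = ρ c * ρ d := fun c d => by
    show algebraMap S S' (r (c * d)) = _
    rw [map_mul, map_mul]
  have hρker : ∀ c, c - ρ c ∈ RingHom.ker (r : S' →+* S) := fun c => by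
    rw [RingHom.mem_ker, map_sub]
    show r c - r (algebraMap S S' (r c)) = 0
    rw [r.commutes, Algebra.algebraMap_self_apply, sub_self]
  have hρsmul : ∀ (c : S') (m : M), r c • m = ρ c • m := fun c m =>
    (smul_τ (S := S) (S' := S') (B := B) (M := M) (τ := algebraMap S S') hτ_of_tower (r c) m).symm
  -- the semilinear part
  let rF := τF (r : S' →+* S) w
  let tF := τF (algebraMap S S') v
  have hrF_smul : ∀ (c : S') x, rF (c • x) = r c • rF x := fun c x => LinearMap.map_smulₛₗ _ _ _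
  have htF_smul : ∀ (c : S) y, tF (c • y) = algebraMap S S' c • tF y :=
    fun c y => LinearMap.map_smulₛₗ _ _ _
  let u : (σ' →₀ S') → Push.E g' := fun x => Push.inF g' (tF (rF x)) - Push.inM g' (G (rF x))
  have hu_add : ∀ x y, u (x + y) = u x + u y := fun x y => by
    show Push.inF g' (tF (rF (x + y))) - Push.inM g' (G (rF (x + y))) =
      (Push.inF g' (tF (rF x)) - Push.inM g' (G (rF x))) +
        (Push.inF g' (tF (rF y)) - Push.inM g' (G (rF y)))
    rw [map_add, map_add, map_add, map_add, map_add]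
    abel
  have hu_smul : ∀ (c : S') x, u (c • x) = ρ c • u x := fun c x => by
    show Push.inF g' (tF (rF (c • x))) - Push.inM g' (G (rF (c • x))) =
      ρ c • (Push.inF g' (tF (rF x)) - Push.inM g' (G (rF x)))
    rw [hrF_smul, htF_smul, map_smul, map_smul, hρsmul, map_smul, smul_sub]
  have hpu : ∀ x, Push.p g' (u x) = ρ (jm S' f' x) := fun x => by
    show Push.p g' (Push.inF g' (tF (rF x)) - Push.inM g' (G (rF x))) = _
    rw [map_sub, Push.p_inF, Push.p_inM, sub_zero, jm_τF hv, jm_τF hw]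
    rfl
  let ℓ : (σ' →₀ S') → Push.E g' := fun x => l ⟨jm S' f' x - ρ (jm S' f' x), hρker _⟩
  have hℓ_add : ∀ x y, ℓ (x + y) = ℓ x + ℓ y := fun x y => by
    show l _ = l _ + l _
    rw [← map_add]
    congr 1
    apply Subtype.ext
    show jm S' f' (x + y) - ρ (jm S' f' (x + y)) = _
    simp only [ρ, map_add]
    show _ = (jm S' f' x - _) + (jm S' f' y - _)
    ring
  have hℓ_smul : ∀ (c : S') x, ℓ (c • x) = c • ℓ x + ρ (jm S' f' x) • l ⟨c - ρ c, hρker c⟩ :=
    fun c x => by
    show l _ = c • l _ + ρ (jm S' f' x) • l _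
    rw [← map_smul, ← map_smul, ← map_add]
    congr 1
    apply Subtype.ext
    show jm S' f' (c • x) - ρ (jm S' f' (c • x)) =
      c * (jm S' f' x - ρ (jm S' f' x)) + ρ (jm S' f' x) * (c - ρ c)
    rw [map_smul, smul_eq_mul, hρ_mul]
    ring
  have hpℓ : ∀ x, Push.p g' (ℓ x) = jm S' f' x - ρ (jm S' f' x) := fun x => hl _
  let s : (σ' →₀ S') →ₗ[S'] Push.E g' :=
    { toFun := fun x => u x + ℓ x
      map_add' := fun x y => by rw [hu_add, hℓ_add]; abel
      map_smul' := fun c x => by
        rw [RingHom.id_apply, hu_smul, hℓ_smul, smul_add]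
        have key := hsym (l ⟨c - ρ c, hρker c⟩) (u x)
        rw [hl, hpu] at key
        -- key : (c - ρ c) • u x = ρ (jm x) • l ⟨c - ρ c, _⟩
        rw [← key, sub_smul]
        abel }
  have hs1 : ∀ x, Push.p g' (s x) = jm S' f' x := fun x => by
    show Push.p g' (u x + ℓ x) = _
    rw [map_add, hpu, hpℓ]; ring
  have hs2 : ∀ q' : Q S' f', s q' = 0 := fun q' => by
    show u q' + ℓ q' = 0
    have hq' : jm S' f' (q' : σ' →₀ S') = 0 := q'.2
    have h1 : ℓ q' = 0 := by
      show l _ = 0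
      have : (⟨jm S' f' (q' : σ' →₀ S') - ρ (jm S' f' (q' : σ' →₀ S')), hρker _⟩ :
          RingHom.ker (r : S' →+* S)) = 0 := by
        apply Subtype.ext
        show jm S' f' (q' : σ' →₀ S') - algebraMap S S' (r (jm S' f' (q' : σ' →₀ S'))) = 0
        rw [hq', map_zero, map_zero, sub_zero]
      rw [this, map_zero]
    have hy : rF q' ∈ Q S f := τF_mem_Q hw q'.2
    have h2 : u q' = 0 := by
      show Push.inF g' (tF (rF q')) - Push.inM g' (G (rF q')) = 0
      have := Push.inF_eq_inM g' (τQ (algebraMap S S') v hv ⟨rF q', hy⟩)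
      rw [τQ_coe] at this
      rw [this, ← hG ⟨rF q', hy⟩, sub_self]
    rw [h1, h2, add_zero]
  exact Push.exists_extension_of_section g' s hs1 hs2

end core

include r hr hw in
theorem pull_injective [Algebra.FormallySmooth S S']
    (hspan' : ∀ z : S', algebraMap S' B z = 0 → ∃ x', jm S' f' x' = z)
    (M : Type m) [AddCommGroup M] [Module B M] :
    Function.Injective (pull (algebraMap S S') v hf hf' hτ_of_tower hv M) := by
  letI : Module S M := Module.compHom M (algebraMap S B)
  haveI : IsScalarTower S B M := IsScalarTower.of_compHom S B M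
  letI : Module S' M := Module.compHom M (algebraMap S' B)
  haveI : IsScalarTower S' B M := IsScalarTower.of_compHom S' B M
  rw [injective_iff_map_eq_zero]
  intro x hx
  obtain ⟨ψ', rfl⟩ := Submodule.Quotient.mk_surjective _ x
  rw [pull_mk, Submodule.Quotient.mk_eq_zero, mem_range_lcomp_d2_iff] at hx
  obtain ⟨G, hG⟩ := hx
  rw [Submodule.Quotient.mk_eq_zero, mem_range_lcomp_d2_iff]
  refine exists_extension_of_pullback hf' r hr hv hw hspan' (at2 ψ')
    (fun q hq => at2_of_mem_F0 hf' ψ' q hq) G (fun q => ?_)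
  rw [hG q, at2_comp_Λ]

end main

section final

variable {S : Type u} {S' : Type u'} {B : Type v} [CommRing S] [CommRing S'] [CommRing B]
  [Algebra S B] [Algebra S' B] [Algebra S S'] [IsScalarTower S S' B]
  {σ : Type t} {σ' : Type t'} {f : σ → S} {f' : σ' → S'}
  (hf : ∀ s, algebraMap S B (f s) = 0) (hf' : ∀ s, algebraMap S' B (f' s) = 0)

/-- **Invariance of `T²`.** -/
theorem nonempty_T2_equiv [Algebra.FormallySmooth S S']
    (r : S' →ₐ[S] S) (hr : ∀ x, algebraMap S B (r x) = algebraMap S' B x)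
    (hspan : ∀ z : S, algebraMap S B z = 0 → ∃ x, jm S f x = z)
    (hspan' : ∀ z : S', algebraMap S' B z = 0 → ∃ x', jm S' f' x' = z)
    (M : Type m) [AddCommGroup M] [Module B M] :
    Nonempty (T2 S' B f' hf' M ≃ₗ[B] T2 S B f hf M) := by
  have hv0 : ∀ s, ∃ x', jm S' f' x' = algebraMap S S' (f s) := fun s =>
    hspan' _ (by rw [hτ_of_tower, hf])
  choose v hv using hv0
  have hw0 : ∀ s', ∃ x, jm S f x = (r : S' →+* S) (f' s') := fun s' =>
    hspan _ (by
      show algebraMap S B (r (f' s')) = 0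
      rw [hr, hf'])
  choose w hw using hw0
  exact ⟨LinearEquiv.ofBijective (pull (algebraMap S S') v hf hf' hτ_of_tower hv M)
    ⟨pull_injective hf hf' r hr hv hw hspan' M, pull_surjective hf hf' r hr hv hw M⟩⟩

end final

end Groth.Agent.Lib.Helper19.Kos
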