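import Groth.Agent.Lib.Helper19KosPres
import Groth.Agent.Lib.Helper19CotTVanish
import Groth.Agent.Lib.Helper10Tensor

/-!
# Vanishing of `H₂` of the Lichtenbaum–Schlessinger complex: local-to-global
-/

set_option autoImplicit false
set_option linter.unusedSectionVars false
set_option linter.style.haveILetI false
universe u u' v w t t' m

open TensorProduct

namespace Groth.Agent.Lib.Helper19.Kos

section H2

variable (S : Type u) [CommRing S] {σ : Type t} (f : σ → S)

/-- vanishing of the second homology of the LS complex: relations with coefficients in `I` are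
trivial -/
def H2Zero : Prop :=
  ∀ x ∈ Q S f, x ∈ (Ideal.span (Set.range f) • (⊤ : Submodule S (σ →₀ S))) → x ∈ F0 S f

variable {S f}

lemma range_jm : LinearMap.range (jm S f) = Ideal.span (Set.range f) := by
  rw [jm, Finsupp.range_linearCombination]

lemma smul_mem_F0 {x : σ →₀ S} (hx : x ∈ Q S f) {i : S} (hi : i ∈ Ideal.span (Set.range f)) :
    i • x ∈ F0 S f := by
  rw [← range_jm] at hi
  obtain ⟨a, rfl⟩ := hi
  have := kos_mem_F0 S f a x
  rw [(mem_Q S f x).mp hx, zero_smul, sub_zero] at this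
  exact this

variable {B : Type v} [CommRing B] [Algebra S B] (hf : ∀ s, algebraMap S B (f s) = 0)

lemma d2_injective_of_H2Zero (hsurj : Function.Surjective (algebraMap S B))
    (hker : RingHom.ker (algebraMap S B) = Ideal.span (Set.range f)) (h : H2Zero S f) :
    Function.Injective (d2 (B := B) hf) := by
  rw [injective_iff_map_eq_zero]
  intro ξ hξ
  obtain ⟨t, rfl⟩ := Submodule.Quotient.mk_surjective _ ξ
  obtain ⟨q, rfl⟩ := TensorProduct.mk_surjective S (Q S f) B hsurj t
  rw [TensorProduct.mk_apply, d2_mk_tmul] at hξ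
  have h1 := (Groth.Agent.Lib.Helper10.one_tmul_eq_zero_iff_of_surjective hsurj
    (q : σ →₀ S)).mp hξ
  rw [hker] at h1
  exact mk2_eq_zero_of_mem_F0 hf q (h _ q.2 h1)

lemma H2Zero_of_d2_injective (hsurj : Function.Surjective (algebraMap S B))
    (hker : RingHom.ker (algebraMap S B) = Ideal.span (Set.range f))
    (h : Function.Injective (d2 (B := B) hf)) : H2Zero S f := by
  intro x hx hxI
  have h0 : d2 hf (mk2 (B := B) ⟨x, hx⟩) = 0 := by
    rw [mk2, d2_mk_tmul]
    rw [← hker] at hxI
    exact (Groth.Agent.Lib.Helper10.one_tmul_eq_zero_iff_of_surjective hsurj x).mpr hxI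
  have h1 : mk2 (B := B) (⟨x, hx⟩ : Q S f) = 0 := h (by rw [h0, map_zero])
  rw [mk2, Submodule.Quotient.mk_eq_zero] at h1
  obtain ⟨z, hz⟩ := h1
  obtain ⟨z0, rfl⟩ := TensorProduct.mk_surjective S (F0Q S f) B hsurj z
  rw [TensorProduct.mk_apply, LinearMap.baseChange_tmul] at hz
  have h2 : (1 : B) ⊗ₜ[S] ((⟨x, hx⟩ : Q S f) - (F0Q S f).subtype z0) = 0 := by
    rw [TensorProduct.tmul_sub (R := S) (M := B) (P := Q S f), hz, sub_self]
  have h3 := (Groth.Agent.Lib.Helper10.one_tmul_eq_zero_iff_of_surjective hsurj (M := Q S f)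
    _).mp h2
  have h4 : ∀ y : Q S f, y ∈ (RingHom.ker (algebraMap S B) • (⊤ : Submodule S (Q S f))) →
      (y : σ →₀ S) ∈ F0 S f := by
    intro y hy
    refine Submodule.smul_induction_on hy ?_ ?_
    · intro i hi q _
      rw [hker] at hi
      exact smul_mem_F0 q.2 hi
    · intro a b ha hb
      exact Submodule.add_mem _ ha hb
  have h5 := h4 _ h3
  have h6 : ((z0 : Q S f) : σ →₀ S) ∈ F0 S f := z0.2
  have h7 : x = (x - ((z0 : Q S f) : σ →₀ S)) + ((z0 : Q S f) : σ →₀ S) := by abel
  rw [h7]
  exact Submodule.add_mem _ h5 h6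

lemma d2_injective_of_T2_subsingleton
    (h : Subsingleton (T2 S B f hf (L2 S B f))) : Function.Injective (d2 (B := B) hf) := by
  have hmem : (LinearMap.id : L2 S B f →ₗ[B] L2 S B f) ∈
      LinearMap.range (LinearMap.lcomp B (L2 S B f) (d2 hf)) := by
    rw [← Submodule.Quotient.mk_eq_zero]
    exact Subsingleton.elim _ _
  obtain ⟨ρ, hρ⟩ := hmem
  intro a b hab
  have ha := LinearMap.congr_fun hρ a
  have hb := LinearMap.congr_fun hρ b
  rw [LinearMap.lcomp_apply', LinearMap.comp_apply, LinearMap.id_apply] at ha hb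
  rw [← ha, ← hb, hab]

end H2

section loc

variable {S : Type u} [CommRing S] (W : Submonoid S) (S' : Type u') [CommRing S'] [Algebra S S']
  [IsLocalization W S'] {σ : Type t} (f : σ → S)

/-- the coefficientwise localization map `F → F'` -/
noncomputable abbrev locF : (σ →₀ S) →ₛₗ[algebraMap S S'] (σ →₀ S') :=
  τF (algebraMap S S') (fun s => Finsupp.single s (1 : S'))

/-- the localized family -/
abbrev locf : σ → S' := fun s => algebraMap S S' (f s)

lemma locF_hv (s : σ) :
    jm S' (locf S' f) (Finsupp.single s (1 : S')) = algebraMap S S' (f s) := by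
  rw [jm_single, one_mul]

lemma locF_single (s : σ) (r : S) :
    locF (σ := σ) S' (Finsupp.single s r) = Finsupp.single s (algebraMap S S' r) := by
  rw [τF_single, Finsupp.smul_single, smul_eq_mul, mul_one]

lemma locF_apply (x : σ →₀ S) (s : σ) : locF S' x s = algebraMap S S' (x s) := by
  classical
  induction x using Finsupp.induction_linear with
  | zero => simp
  | add x y hx hy => rw [map_add, Finsupp.add_apply, hx, hy, Finsupp.add_apply, map_add]
  | single s' r =>
    rw [locF_single, Finsupp.single_apply, Finsupp.single_apply]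
    split_ifs <;> simp

include W in
lemma exists_locF_eq (y : σ →₀ S') :
    ∃ u ∈ W, ∃ y0 : σ →₀ S, algebraMap S S' u • y = locF S' y0 := by
  induction y using Finsupp.induction_linear with
  | zero => exact ⟨1, W.one_mem, 0, by simp⟩
  | add a b ha hb =>
    obtain ⟨u1, hu1, y1, h1⟩ := ha
    obtain ⟨u2, hu2, y2, h2⟩ := hb
    refine ⟨u1 * u2, W.mul_mem hu1 hu2, u2 • y1 + u1 • y2, ?_⟩
    rw [map_add, LinearMap.map_smulₛₗ, LinearMap.map_smulₛₗ, ← h1, ← h2, smul_add, map_mul,
      smul_smul, smul_smul, mul_comm]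
  | single s c =>
    obtain ⟨a, u, rfl⟩ := IsLocalization.exists_mk'_eq W c
    refine ⟨u, u.2, Finsupp.single s a, ?_⟩
    rw [locF_single, Finsupp.smul_single, smul_eq_mul, IsLocalization.mk'_spec']

include W in
lemma exists_smul_eq_zero_of_locF (y : σ →₀ S) (hy : locF S' y = 0) :
    ∃ u ∈ W, u • y = 0 := by
  classical
  have h1 : ∀ s : σ, ∃ m : W, (m : S) * y s = 0 := by
    intro s
    have : algebraMap S S' (y s) = 0 := by
      rw [← locF_apply, hy, Finsupp.zero_apply]
    exact (IsLocalization.map_eq_zero_iff W S' (y s)).mp this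
  choose m hm using h1
  refine ⟨∏ s ∈ y.support, (m s : S), Submonoid.prod_mem _ (fun s _ => (m s).2), ?_⟩
  ext s
  rw [Finsupp.smul_apply, Finsupp.zero_apply, smul_eq_mul]
  by_cases hs : s ∈ y.support
  · obtain ⟨c, hc⟩ := Finset.dvd_prod_of_mem (fun s => (m s : S)) hs
    rw [hc, mul_comm (m s : S) c, mul_assoc, hm, mul_zero]
  · rw [Finsupp.notMem_support_iff.mp hs, mul_zero]

/-- clearing denominators in the module of trivial relations -/
theorem exists_smul_mem_F0 (x : σ →₀ S) (hx : locF S' x ∈ F0 S' (locf S' f)) :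
    ∃ w ∈ W, w • x ∈ F0 S f := by
  let G : Submodule S' (σ →₀ S') :=
    { carrier := {y | ∃ w ∈ W, ∃ z ∈ F0 S f, algebraMap S S' w • y = locF S' z}
      add_mem' := by
        rintro a b ⟨w1, hw1, z1, hz1, h1⟩ ⟨w2, hw2, z2, hz2, h2⟩
        refine ⟨w1 * w2, W.mul_mem hw1 hw2, w2 • z1 + w1 • z2,
          Submodule.add_mem _ (Submodule.smul_mem _ _ hz1) (Submodule.smul_mem _ _ hz2), ?_⟩
        rw [map_add, LinearMap.map_smulₛₗ, LinearMap.map_smulₛₗ, ← h1, ← h2, smul_add, map_mul,
          smul_smul, smul_smul, mul_comm]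
      zero_mem' := ⟨1, W.one_mem, 0, Submodule.zero_mem _, by simp⟩
      smul_mem' := by
        rintro c y ⟨w, hw, z, hz, h⟩
        obtain ⟨a, u, rfl⟩ := IsLocalization.exists_mk'_eq W c
        refine ⟨u * w, W.mul_mem u.2 hw, a • z, Submodule.smul_mem _ _ hz, ?_⟩
        rw [LinearMap.map_smulₛₗ, ← h, smul_smul, smul_smul, map_mul,
          mul_comm (algebraMap S S' u) (algebraMap S S' w), mul_assoc,
          IsLocalization.mk'_spec', mul_comm] }
  have hle : F0 S' (locf S' f) ≤ G := by
    refine Submodule.span_le.mpr ?_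
    rintro _ ⟨a, b, rfl⟩
    obtain ⟨u1, hu1, a0, ha⟩ := exists_locF_eq W S' a
    obtain ⟨u2, hu2, b0, hb⟩ := exists_locF_eq W S' b
    refine ⟨(u1 * u2), W.mul_mem hu1 hu2, jm S f a0 • b0 - jm S f b0 • a0,
      kos_mem_F0 S f a0 b0, ?_⟩
    rw [map_sub, LinearMap.map_smulₛₗ, LinearMap.map_smulₛₗ, ← jm_τF (f' := locf S' f)
      (locF_hv S' f), ← jm_τF (f' := locf S' f) (locF_hv S' f), ← ha, ← hb, map_smul, map_smul,
      smul_sub, map_mul]
    simp only [smul_eq_mul, smul_smul]
    congr 1 <;> ring_nf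
  obtain ⟨w, hw, z, hz, h⟩ := hle hx
  have h0 : locF (σ := σ) S' (w • x - z) = 0 := by
    rw [map_sub, LinearMap.map_smulₛₗ, h, sub_self]
  obtain ⟨u, hu, h1⟩ := exists_smul_eq_zero_of_locF W S' _ h0
  refine ⟨u * w, W.mul_mem hu hw, ?_⟩
  rw [smul_sub, sub_eq_zero] at h1
  rw [mul_smul, h1]
  exact Submodule.smul_mem _ _ hz

lemma locF_mem_smul_top (x : σ →₀ S)
    (hx : x ∈ (Ideal.span (Set.range f) • (⊤ : Submodule S (σ →₀ S)))) :
    locF S' x ∈ (Ideal.span (Set.range (locf S' f)) • (⊤ : Submodule S' (σ →₀ S'))) := by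
  refine Submodule.smul_induction_on hx ?_ ?_
  · intro i hi y _
    rw [LinearMap.map_smulₛₗ]
    refine Submodule.smul_mem_smul ?_ Submodule.mem_top
    have : Ideal.span (Set.range (locf S' f)) = (Ideal.span (Set.range f)).map (algebraMap S S') := by
      rw [Ideal.map_span, ← Set.range_comp]
      rfl
    rw [this]
    exact Ideal.mem_map_of_mem _ hi
  · intro a b ha hb
    rw [map_add]
    exact Submodule.add_mem _ ha hb

end loc

section main

variable {S : Type u} [CommRing S] {σ : Type t} {f : σ → S}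

/-- **Local-to-global** for the vanishing of `H₂`. -/
theorem H2Zero_of_localization
    (h : ∀ (p : Ideal S) [p.IsMaximal], Ideal.span (Set.range f) ≤ p →
      H2Zero (Localization.AtPrime p) (locf (Localization.AtPrime p) f)) : H2Zero S f := by
  intro x hx hxI
  let J : Ideal S :=
    { carrier := {s | s • x ∈ F0 S f}
      add_mem' := by
        intro a b ha hb
        show (a + b) • x ∈ F0 S f
        rw [add_smul]
        exact Submodule.add_mem _ ha hb
      zero_mem' := by
        show (0 : S) • x ∈ F0 S f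
        rw [zero_smul]
        exact Submodule.zero_mem _
      smul_mem' := by
        intro c a ha
        show (c • a) • x ∈ F0 S f
        rw [smul_eq_mul, mul_smul]
        exact Submodule.smul_mem _ _ ha }
  have hIJ : Ideal.span (Set.range f) ≤ J := fun i hi => smul_mem_F0 hx hi
  have hJ : J = ⊤ := by
    by_contra hne
    obtain ⟨p, hp, hJp⟩ := Ideal.exists_le_maximal J hne
    haveI := hp
    have hloc := h p (hIJ.trans hJp)
    have h1 : locF (Localization.AtPrime p) x ∈ Q (Localization.AtPrime p)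
        (locf (Localization.AtPrime p) f) := τF_mem_Q (locF_hv _ f) hx
    have h2 := hloc _ h1 (locF_mem_smul_top (Localization.AtPrime p) f x hxI)
    obtain ⟨w, hw, hwx⟩ := exists_smul_mem_F0 p.primeCompl (Localization.AtPrime p) f x h2
    exact hw (hJp hwx)
  have : (1 : S) ∈ J := by rw [hJ]; trivial
  have h1 : (1 : S) • x ∈ F0 S f := this
  rwa [one_smul] at h1

/-- `H₂` vanishes when the ideal is generated by a weakly regular sequence. -/
theorem H2Zero_of_isWeaklyRegular {n : ℕ} (g : Fin n → S)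
    (hreg : RingTheory.Sequence.IsWeaklyRegular S (List.ofFn g))
    (hspan : Ideal.span (Set.range g) = Ideal.span (Set.range f)) : H2Zero S f := by
  have hker : RingHom.ker (algebraMap S (S ⧸ Ideal.span (Set.range f))) =
      Ideal.span (Set.range f) := by
    rw [Ideal.Quotient.algebraMap_eq]; exact Ideal.mk_ker
  have hsurj : Function.Surjective (algebraMap S (S ⧸ Ideal.span (Set.range f))) := by
    rw [Ideal.Quotient.algebraMap_eq]; exact Ideal.Quotient.mk_surjective
  have hf : ∀ s, algebraMap S (S ⧸ Ideal.span (Set.range f)) (f s) = 0 := fun s => by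
    rw [← RingHom.mem_ker, hker]; exact Ideal.subset_span ⟨s, rfl⟩
  have hg : ∀ i, algebraMap S (S ⧸ Ideal.span (Set.range f)) (g i) = 0 := fun i => by
    rw [← RingHom.mem_ker, hker, ← hspan]; exact Ideal.subset_span ⟨i, rfl⟩
  have hspf : ∀ z : S, algebraMap S (S ⧸ Ideal.span (Set.range f)) z = 0 →
      ∃ x, jm S f x = z := fun z hz => by
    have : z ∈ LinearMap.range (jm S f) := by
      rw [range_jm, ← hker]; exact hz
    exact this
  have hspg : ∀ z : S, algebraMap S (S ⧸ Ideal.span (Set.range f)) z = 0 →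
      ∃ x, jm S g x = z := fun z hz => by
    have : z ∈ LinearMap.range (jm S g) := by
      rw [range_jm, hspan, ← hker]; exact hz
    exact this
  obtain ⟨e⟩ := nonempty_T2_equiv_of_formallySmooth (A := S) (S := S) (S' := S)
    (B := S ⧸ Ideal.span (Set.range f)) hf hg (AlgHom.id S S) (fun x => rfl)
    (AlgHom.id S S) (fun x => rfl) hspf hspg (L2 S (S ⧸ Ideal.span (Set.range f)) f)
  haveI : Subsingleton (T2 S (S ⧸ Ideal.span (Set.range f)) g hg
      (L2 S (S ⧸ Ideal.span (Set.range f)) f)) :=
    Groth.Agent.Lib.Helper19.CotTVanish.T2_subsingleton_of_Q_le hg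
      (Groth.Agent.Lib.Helper19.CotTVanish.Q_le_F0_of_isWeaklyRegular g hreg) _
  have hsub : Subsingleton (T2 S (S ⧸ Ideal.span (Set.range f)) f hf
      (L2 S (S ⧸ Ideal.span (Set.range f)) f)) := e.toEquiv.subsingleton
  exact H2Zero_of_d2_injective hf hsurj hker (d2_injective_of_T2_subsingleton hf hsub)

end main

end Groth.Agent.Lib.Helper19.Kos
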