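import Groth.Agent.Lib.Helper19KosApi

/-!
# Functoriality of `L₂` and `T²` for a ring map `τ : S → S'` over `B`
-/

set_option autoImplicit false
set_option linter.unusedSectionVars false
set_option linter.style.haveILetI false
universe u u' v w t t' m

open TensorProduct

namespace Groth.Agent.Lib.Helper19.Kos

variable {S : Type u} {S' : Type u'} {B : Type v} [CommRing S] [CommRing S'] [CommRing B]
  [Algebra S B] [Algebra S' B] {σ : Type t} {σ' : Type t'}
  {f : σ → S} {f' : σ' → S'}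
  (τ : S →+* S') (v : σ → (σ' →₀ S'))

/-- `F → F'`, `e_s ↦ v s`, semilinear over `τ` -/
noncomputable def τF : (σ →₀ S) →ₛₗ[τ] (σ' →₀ S') where
  toFun x := Finsupp.linearCombination S' v (Finsupp.mapRange τ (map_zero _) x)
  map_add' x y := by rw [Finsupp.mapRange_add (map_add _), map_add]
  map_smul' r x := by
    rw [← map_smul]
    congr 1
    ext s
    simp [Finsupp.mapRange_apply, map_mul]

@[simp] lemma τF_single (s : σ) (r : S) : τF τ v (Finsupp.single s r) = τ r • v s := by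
  simp [τF]

variable {τ v}

lemma jm_τF (hv : ∀ s, jm S' f' (v s) = τ (f s)) (x : σ →₀ S) :
    jm S' f' (τF τ v x) = τ (jm S f x) := by
  induction x using Finsupp.induction_linear with
  | zero => simp
  | add x y hx hy => rw [map_add, map_add, hx, hy, map_add, map_add]
  | single s r => rw [τF_single, map_smul, hv, jm_single, smul_eq_mul, map_mul]

lemma τF_mem_Q (hv : ∀ s, jm S' f' (v s) = τ (f s)) {x : σ →₀ S} (hx : x ∈ Q S f) :
    τF τ v x ∈ Q S' f' := by
  rw [mem_Q] at hx ⊢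
  rw [jm_τF hv, hx, map_zero]

lemma τF_mem_F0 (hv : ∀ s, jm S' f' (v s) = τ (f s)) {y : σ →₀ S} (hy : y ∈ F0 S f) :
    τF τ v y ∈ F0 S' f' := by
  induction hy using Submodule.span_induction with
  | mem x hx =>
    obtain ⟨a, b, rfl⟩ := hx
    refine Submodule.subset_span ⟨τF τ v a, τF τ v b, ?_⟩
    rw [map_sub, LinearMap.map_smulₛₗ, LinearMap.map_smulₛₗ, jm_τF hv, jm_τF hv]
  | zero => simp
  | add x y _ _ hx hy => rw [map_add]; exact Submodule.add_mem _ hx hy
  | smul r x _ hx => rw [LinearMap.map_smulₛₗ]; exact Submodule.smul_mem _ _ hx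

variable (τ v) in
/-- `Q → Q'` -/
noncomputable def τQ (hv : ∀ s, jm S' f' (v s) = τ (f s)) : Q S f →ₛₗ[τ] Q S' f' :=
  ((τF τ v).comp (Q S f).subtype).codRestrict (Q S' f') (fun q => τF_mem_Q hv q.2)

@[simp] lemma τQ_coe (hv : ∀ s, jm S' f' (v s) = τ (f s)) (q : Q S f) :
    (τQ τ v hv q : σ' →₀ S') = τF τ v q := rfl

variable (hf : ∀ s, algebraMap S B (f s) = 0) (hf' : ∀ s, algebraMap S' B (f' s) = 0)
variable (hτ : ∀ x, algebraMap S' B (τ x) = algebraMap S B x)

variable (τ v) in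
/-- `L₂ → L₂'` -/
noncomputable def ΛQ (hv : ∀ s, jm S' f' (v s) = τ (f s)) : Q S f →ₗ[S] L2 S' B f' where
  toFun q := mk2 (τQ τ v hv q)
  map_add' q q' := by rw [map_add, mk2_add]
  map_smul' r q := by
    rw [LinearMap.map_smulₛₗ, mk2_smul, hτ, RingHom.id_apply, algebraMap_smul]

variable (τ v) in
/-- `L₂ → L₂'` -/
noncomputable def Λ (hv : ∀ s, jm S' f' (v s) = τ (f s)) : L2 S B f →ₗ[B] L2 S' B f' :=
  lift2 (B := B) (M := L2 S' B f') (ΛQ τ v hτ hv)
    (fun q hq => mk2_eq_zero_of_mem_F0 hf' _ (τF_mem_F0 hv hq))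

lemma Λ_mk2 (hv : ∀ s, jm S' f' (v s) = τ (f s)) (q : Q S f) :
    Λ τ v hf' hτ hv (mk2 q) = mk2 (B := B) (τQ τ v hv q) := by
  have := at2_lift2 (B := B) (M := L2 S' B f') (ΛQ τ v hτ hv)
    (fun q hq => mk2_eq_zero_of_mem_F0 hf' _ (τF_mem_F0 hv hq)) q
  exact this

section withM

variable {M : Type m} [AddCommGroup M] [Module B M] [Module S M] [IsScalarTower S B M]
  [Module S' M] [IsScalarTower S' B M]

lemma at2_comp_Λ (hv : ∀ s, jm S' f' (v s) = τ (f s)) (ψ' : L2 S' B f' →ₗ[B] M) (q : Q S f) :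
    at2 (ψ' ∘ₗ Λ τ v hf' hτ hv) q = at2 ψ' (τQ τ v hv q) := by
  rw [at2_apply, LinearMap.comp_apply, Λ_mk2, at2_apply]

include hτ in
lemma smul_τ (x : S) (m : M) : τ x • m = x • m := by
  rw [← algebraMap_smul B (τ x) m, hτ, algebraMap_smul]

/-- precomposition of an `S'`-linear map with `τF` is `S`-linear -/
noncomputable def compτF (G' : (σ' →₀ S') →ₗ[S'] M) : (σ →₀ S) →ₗ[S] M where
  toFun x := G' (τF τ v x)
  map_add' x y := by rw [map_add, map_add]
  map_smul' r x := by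
    rw [LinearMap.map_smulₛₗ, map_smul, RingHom.id_apply, smul_τ hτ]

lemma compτF_apply (G' : (σ' →₀ S') →ₗ[S'] M) (x : σ →₀ S) :
    compτF (v := v) hτ G' x = G' (τF τ v x) := rfl

/-- precomposition of an `S'`-linear map on `Q'` with `τQ` is `S`-linear -/
noncomputable def compτQ (hv : ∀ s, jm S' f' (v s) = τ (f s)) (g' : Q S' f' →ₗ[S'] M) :
    Q S f →ₗ[S] M where
  toFun q := g' (τQ τ v hv q)
  map_add' x y := by rw [map_add, map_add]
  map_smul' r x := by
    rw [LinearMap.map_smulₛₗ, map_smul, RingHom.id_apply, smul_τ hτ]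

lemma compτQ_apply (hv : ∀ s, jm S' f' (v s) = τ (f s)) (g' : Q S' f' →ₗ[S'] M) (q : Q S f) :
    compτQ hτ hv g' q = g' (τQ τ v hv q) := rfl

end withM

variable (τ v) in
/-- the induced map on `T²` -/
noncomputable def pull (hv : ∀ s, jm S' f' (v s) = τ (f s)) (M : Type m) [AddCommGroup M]
    [Module B M] : T2 S' B f' hf' M →ₗ[B] T2 S B f hf M :=
  Submodule.mapQ _ _ (LinearMap.lcomp B M (Λ τ v hf' hτ hv)) (by
    letI : Module S M := Module.compHom M (algebraMap S B)
    haveI : IsScalarTower S B M := IsScalarTower.of_compHom S B M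
    letI : Module S' M := Module.compHom M (algebraMap S' B)
    haveI : IsScalarTower S' B M := IsScalarTower.of_compHom S' B M
    intro ψ' hψ'
    rw [Submodule.mem_comap, LinearMap.lcomp_apply', mem_range_lcomp_d2_iff]
    obtain ⟨G', hG'⟩ := (mem_range_lcomp_d2_iff hf' ψ').mp hψ'
    refine ⟨compτF (v := v) hτ G', fun q => ?_⟩
    rw [compτF_apply, at2_comp_Λ, ← hG', τQ_coe])

lemma pull_mk (hv : ∀ s, jm S' f' (v s) = τ (f s)) (M : Type m) [AddCommGroup M]
    [Module B M] (ψ' : L2 S' B f' →ₗ[B] M) :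
    pull τ v hf hf' hτ hv M (Submodule.Quotient.mk ψ') =
      Submodule.Quotient.mk (ψ' ∘ₗ Λ τ v hf' hτ hv) := rfl

end Groth.Agent.Lib.Helper19.Kos
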