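import Groth.Agent.Lib.Helper19KosInv

/-!
# Independence of `T²` of the presentation
-/

set_option autoImplicit false
set_option linter.unusedSectionVars false
set_option linter.style.haveILetI false
universe u u' v w w' t t' m

open TensorProduct

namespace Groth.Agent.Lib.Helper19.Kos

section kerFam

variable (S : Type u) (B : Type v) [CommRing S] [CommRing B] [Algebra S B]

/-- the family of all elements of the kernel -/
def kerFam : RingHom.ker (algebraMap S B) → S := Subtype.val

lemma kerFam_hf (s : RingHom.ker (algebraMap S B)) : algebraMap S B (kerFam S B s) = 0 := s.2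

lemma kerFam_span (z : S) (hz : algebraMap S B z = 0) : ∃ x, jm S (kerFam S B) x = z :=
  ⟨Finsupp.single ⟨z, hz⟩ 1, by rw [jm_single, one_mul]; rfl⟩

end kerFam

section ringEquiv

variable {S₁ : Type u} {S₂ : Type u'} {B : Type v} [CommRing S₁] [CommRing S₂] [CommRing B]
  [Algebra S₁ B] [Algebra S₂ B]
  {σ₁ : Type t} {σ₂ : Type t'} {f₁ : σ₁ → S₁} {f₂ : σ₂ → S₂}
  (hf₁ : ∀ s, algebraMap S₁ B (f₁ s) = 0) (hf₂ : ∀ s, algebraMap S₂ B (f₂ s) = 0)

theorem nonempty_T2_equiv_of_ringEquiv (φ : S₁ ≃+* S₂)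
    (hφ : ∀ x, algebraMap S₂ B (φ x) = algebraMap S₁ B x)
    (hspan₁ : ∀ z : S₁, algebraMap S₁ B z = 0 → ∃ x, jm S₁ f₁ x = z)
    (hspan₂ : ∀ z : S₂, algebraMap S₂ B z = 0 → ∃ x, jm S₂ f₂ x = z)
    (M : Type m) [AddCommGroup M] [Module B M] :
    Nonempty (T2 S₂ B f₂ hf₂ M ≃ₗ[B] T2 S₁ B f₁ hf₁ M) := by
  letI : Algebra S₁ S₂ := φ.toRingHom.toAlgebra
  haveI : IsScalarTower S₁ S₂ B := IsScalarTower.of_algebraMap_eq (fun x => (hφ x).symm)
  let e : S₁ ≃ₐ[S₁] S₂ := AlgEquiv.ofRingEquiv (f := φ) (fun x => rfl)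
  haveI : Algebra.FormallySmooth S₁ S₂ := Algebra.FormallySmooth.of_equiv e
  refine nonempty_T2_equiv hf₁ hf₂ e.symm.toAlgHom (fun x => ?_) hspan₁ hspan₂ M
  have h1 : algebraMap S₂ B (φ (e.symm x)) = algebraMap S₁ B (e.symm x) := hφ _
  have h2 : φ (e.symm x) = x := e.apply_symm_apply x
  rw [h2] at h1
  exact h1.symm

end ringEquiv

section tensor

variable (A : Type w) (S : Type u) (S' : Type u') (B : Type v) [CommRing A] [CommRing S]
  [CommRing S'] [CommRing B] [Algebra A S] [Algebra A S'] [Algebra A B] [Algebra S B]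
  [Algebra S' B] [IsScalarTower A S B] [IsScalarTower A S' B]

/-- the map `S ⊗ S' → B` -/
noncomputable def tensorToB : S ⊗[A] S' →ₐ[S] B :=
  Algebra.TensorProduct.lift (Algebra.ofId S B) (IsScalarTower.toAlgHom A S' B)
    (fun _ _ => Commute.all _ _)

/-- the algebra structure `S ⊗ S' → B` -/
@[reducible] noncomputable def tensorAlgebra : Algebra (S ⊗[A] S') B :=
  (tensorToB A S S' B).toRingHom.toAlgebra

lemma tensorAlgebra_algebraMap_tmul (a : S) (b : S') :
    letI := tensorAlgebra A S S' B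
    algebraMap (S ⊗[A] S') B (a ⊗ₜ b) = algebraMap S B a * algebraMap S' B b := by
  letI := tensorAlgebra A S S' B
  show tensorToB A S S' B (a ⊗ₜ b) = _
  rw [tensorToB, Algebra.TensorProduct.lift_tmul]
  rfl

theorem isScalarTower_tensor :
    letI := tensorAlgebra A S S' B
    IsScalarTower S (S ⊗[A] S') B := by
  letI := tensorAlgebra A S S' B
  refine IsScalarTower.of_algebraMap_eq (fun x => ?_)
  rw [Algebra.TensorProduct.algebraMap_apply, tensorAlgebra_algebraMap_tmul, map_one, mul_one]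
  rfl

variable {A S S' B}
variable {σ : Type t} {f : σ → S} (hf : ∀ s, algebraMap S B (f s) = 0)

theorem nonempty_T2_equiv_tensor [Algebra.FormallySmooth A S']
    (h : S' →ₐ[A] S) (hh : ∀ x, algebraMap S B (h x) = algebraMap S' B x)
    (hspan : ∀ z : S, algebraMap S B z = 0 → ∃ x, jm S f x = z)
    (M : Type m) [AddCommGroup M] [Module B M] :
    letI := tensorAlgebra A S S' B
    Nonempty (T2 (S ⊗[A] S') B (kerFam (S ⊗[A] S') B) (kerFam_hf _ _) M ≃ₗ[B] T2 S B f hf M) := by
  letI := tensorAlgebra A S S' B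
  haveI := isScalarTower_tensor A S S' B
  let r : S ⊗[A] S' →ₐ[S] S :=
    Algebra.TensorProduct.lift (AlgHom.id S S) h (fun _ _ => Commute.all _ _)
  refine nonempty_T2_equiv hf (kerFam_hf _ _) r (fun z => ?_) hspan (kerFam_span _ _) M
  induction z using TensorProduct.induction_on with
  | zero => rw [map_zero, map_zero, map_zero]
  | add x y hx hy => rw [map_add, map_add, map_add, hx, hy]
  | tmul a b =>
    rw [tensorAlgebra_algebraMap_tmul]
    show algebraMap S B (Algebra.TensorProduct.lift (AlgHom.id S S) h _ (a ⊗ₜ b)) = _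
    rw [Algebra.TensorProduct.lift_tmul, map_mul, hh]
    rfl

end tensor

section twoRings

variable {A : Type w} {S : Type u} {S' : Type u'} {B : Type v} [CommRing A] [CommRing S]
  [CommRing S'] [CommRing B] [Algebra A S] [Algebra A S'] [Algebra A B] [Algebra S B]
  [Algebra S' B] [IsScalarTower A S B] [IsScalarTower A S' B]
  {σ : Type t} {σ' : Type t'} {f : σ → S} {f' : σ' → S'}
  (hf : ∀ s, algebraMap S B (f s) = 0) (hf' : ∀ s, algebraMap S' B (f' s) = 0)

/-- **Independence of `T²` of the formally smooth ambient ring and the generators.** -/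
theorem nonempty_T2_equiv_of_formallySmooth [Algebra.FormallySmooth A S]
    [Algebra.FormallySmooth A S']
    (h : S' →ₐ[A] S) (hh : ∀ x, algebraMap S B (h x) = algebraMap S' B x)
    (h' : S →ₐ[A] S') (hh' : ∀ x, algebraMap S' B (h' x) = algebraMap S B x)
    (hspan : ∀ z : S, algebraMap S B z = 0 → ∃ x, jm S f x = z)
    (hspan' : ∀ z : S', algebraMap S' B z = 0 → ∃ x, jm S' f' x = z)
    (M : Type m) [AddCommGroup M] [Module B M] :
    Nonempty (T2 S B f hf M ≃ₗ[B] T2 S' B f' hf' M) := by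
  obtain ⟨e₁⟩ := nonempty_T2_equiv_tensor hf h hh hspan M
  obtain ⟨e₂⟩ := nonempty_T2_equiv_tensor hf' h' hh' hspan' M
  letI alg1 := tensorAlgebra A S S' B
  letI alg2 := tensorAlgebra A S' S B
  obtain ⟨e₃⟩ := nonempty_T2_equiv_of_ringEquiv
    (S₁ := S ⊗[A] S') (S₂ := S' ⊗[A] S) (B := B) (kerFam_hf _ _) (kerFam_hf _ _)
    (Algebra.TensorProduct.comm A S S').toRingEquiv
    (fun z => by
      induction z using TensorProduct.induction_on with
      | zero => rw [map_zero, map_zero, map_zero]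
      | add x y hx hy => rw [map_add, map_add, map_add, hx, hy]
      | tmul a b =>
        show algebraMap (S' ⊗[A] S) B (Algebra.TensorProduct.comm A S S' (a ⊗ₜ b)) = _
        rw [Algebra.TensorProduct.comm_tmul, tensorAlgebra_algebraMap_tmul,
          tensorAlgebra_algebraMap_tmul, mul_comm])
    (kerFam_span _ _) (kerFam_span _ _) M
  exact ⟨e₁.symm.trans (e₃.symm.trans e₂)⟩

end twoRings

end Groth.Agent.Lib.Helper19.Kos
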