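import Mathlib

/-!
# Kummer covers with integral special fibre: `f = π^{mq} u` (helper19)
-/

set_option autoImplicit false

namespace Groth.Agent.Lib.Helper19KummerNorm

theorem eq_pow_mul_unit_of_mul_eq_pow {A : Type*} [CommRing A] [IsDomain A] {P : A} (hP : Prime P) :
    ∀ (k : ℕ) (f g : A), f * g = P ^ k → ∃ (n : ℕ) (u : Aˣ), f = P ^ n * (u : A) := by
  intro k
  induction k with
  | zero =>
    intro f g h
    rw [pow_zero] at h
    exact ⟨0, Units.mkOfMulEqOne f g h, by simp⟩
  | succ k ih =>
    intro f g h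
    have hdvd : P ∣ f * g := by
      rw [h, pow_succ]
      exact dvd_mul_left _ _
    rcases hP.dvd_or_dvd hdvd with ⟨f', rfl⟩ | ⟨g', rfl⟩
    · have h2 : f' * g = P ^ k := by
        apply mul_left_cancel₀ hP.ne_zero
        rw [← mul_assoc, h, pow_succ]
        ring
      obtain ⟨n, u, hn⟩ := ih f' g h2
      exact ⟨n + 1, u, by rw [hn]; ring⟩
    · have h2 : f * g' = P ^ k := by
        apply mul_left_cancel₀ hP.ne_zero
        rw [pow_succ] at h
        rw [mul_comm P (P ^ k), ← h]
        ring
      exact ih f g' h2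

theorem eq_pow_mul_unit_of_isUnit_away {A : Type*} [CommRing A] [IsDomain A] {P : A}
    (hP : Prime P) (f : A) (hf : IsUnit (algebraMap A (Localization.Away P) f)) :
    ∃ (n : ℕ) (u : Aˣ), f = P ^ n * (u : A) := by
  obtain ⟨w, hw⟩ := hf.exists_right_inv
  obtain ⟨⟨g, ⟨_, k, rfl⟩⟩, hg⟩ := IsLocalization.surj (Submonoid.powers P) w
  simp only at hg
  have hinj : Function.Injective (algebraMap A (Localization.Away P)) :=
    IsLocalization.injective _ (powers_le_nonZeroDivisors_of_noZeroDivisors hP.ne_zero)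
  have h1 : f * g = P ^ k := by
    apply hinj
    rw [map_mul, ← hg, ← mul_assoc, hw, one_mul]
  exact eq_pow_mul_unit_of_mul_eq_pow hP k f g h1

theorem false_of_pow_eq {B : Type*} [CommRing B] [IsDomain B] (π : B) (hπ0 : π ≠ 0)
    (hπ : (Ideal.span {π}).IsPrime) (y u : B) (hu : IsUnit u) (m r : ℕ) (hr : 0 < r) (hrm : r < m)
    (h : y ^ m = π ^ r * u) : False := by
  have h1 : y ^ m ∈ Ideal.span {π} := by
    rw [h, Ideal.mem_span_singleton]
    exact Dvd.dvd.mul_right (dvd_pow_self π hr.ne') u
  have h2 := hπ.mem_of_pow_mem m h1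
  rw [Ideal.mem_span_singleton] at h2
  obtain ⟨y', rfl⟩ := h2
  have h3 : π ^ (m - r) * y' ^ m = u := by
    apply mul_left_cancel₀ (pow_ne_zero r hπ0)
    rw [← h, ← mul_assoc, ← pow_add, Nat.add_sub_cancel' hrm.le, mul_pow]
  have h4 : π ∣ u := by
    rw [← h3]
    exact Dvd.dvd.mul_right (dvd_pow_self π (by omega)) _
  have h5 : IsUnit π := isUnit_of_dvd_unit h4 hu
  apply hπ.ne_top
  rw [Ideal.span_singleton_eq_top]
  exact h5

theorem dvd_of_integralClosure_prime {A S : Type*} [CommRing A] [CommRing S] [IsDomain S]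
    [Algebra A S] (P : A) (hPS : IsUnit (algebraMap A S P))
    (hsp : (Ideal.span {algebraMap A (integralClosure A S) P}).IsPrime)
    (m : ℕ) (hm : 0 < m) (n : ℕ) (u : Aˣ) (z : S)
    (hz : z ^ m = algebraMap A S (P ^ n * (u : A))) : m ∣ n := by
  obtain ⟨v, hv⟩ := hPS.exists_left_inv
  set q := n / m with hq
  set r := n % m with hr
  have hnr : n = m * q + r := (Nat.div_add_mod n m).symm
  have hrm : r < m := Nat.mod_lt n hm
  by_contra hnd
  have hr0 : 0 < r := by
    rcases Nat.eq_zero_or_pos r with h0 | h0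
    · exact absurd (Nat.dvd_of_mod_eq_zero h0) hnd
    · exact h0
  set y := z * v ^ q with hy
  have hym : y ^ m = algebraMap A S (P ^ r * (u : A)) := by
    rw [hy, mul_pow, hz, hnr, pow_add, map_mul, map_mul, map_mul, map_pow, map_pow, pow_mul,
      ← pow_mul v]
    have h1 : v ^ (q * m) * (algebraMap A S P ^ m) ^ q = 1 := by
      rw [← pow_mul, mul_comm m q, ← mul_pow, hv, one_pow]
    calc (algebraMap A S P ^ m) ^ q * algebraMap A S P ^ r * algebraMap A S (u : A) * v ^ (q * m)
        = (v ^ (q * m) * (algebraMap A S P ^ m) ^ q) *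
            (algebraMap A S P ^ r * algebraMap A S (u : A)) := by ring
      _ = _ := by rw [h1, one_mul]
  have hyint : IsIntegral A y := by
    refine ⟨Polynomial.X ^ m - Polynomial.C (P ^ r * (u : A)),
      Polynomial.monic_X_pow_sub_C _ hm.ne', ?_⟩
    rw [Polynomial.eval₂_sub, Polynomial.eval₂_pow, Polynomial.eval₂_X, Polynomial.eval₂_C, hym,
      sub_self]
  let yB : integralClosure A S := ⟨y, hyint⟩
  have hyB : yB ^ m = (algebraMap A (integralClosure A S) P) ^ r *
      algebraMap A (integralClosure A S) (u : A) := by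
    apply Subtype.ext
    simp only [SubmonoidClass.coe_pow, MulMemClass.coe_mul]
    show y ^ m = _
    rw [hym, map_mul, map_pow]
    rfl
  have hπ0 : algebraMap A (integralClosure A S) P ≠ 0 := by
    intro h0
    have : algebraMap A S P = 0 := by
      have := congrArg (fun x : integralClosure A S => (x : S)) h0
      simpa using this
    rw [this] at hPS
    exact not_isUnit_zero hPS
  exact false_of_pow_eq (algebraMap A (integralClosure A S) P) hπ0 hsp yB
    (algebraMap A (integralClosure A S) (u : A)) (u.isUnit.map _) m r hr0 hrm hyB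

end Groth.Agent.Lib.Helper19KummerNorm
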