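import Mathlib
import Groth.Prelude.Def_HTor
import Groth.Agent.Lib.Helper1KF9
import Groth.Agent.Lib.Helper1KF6
set_option backward.isDefEq.respectTransparency.types false

/-!
# The Künneth map of a tensor product of complexes of modules (helper19)

* `DS L M n`, `toT`, `ofT`: the direct sum model of `(L ⊗ M)^n`;
* `d_inc`: the differential on a summand;
* `kun L M n : KunnethSum L M n →ₗ (L ⊗ M).homology n`, `isKunnethMap_kun`;
* `kun_naturality`: naturality in the first variable.
-/

set_option autoImplicit false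
universe u
open CategoryTheory CategoryTheory.Limits MonoidalCategory HomologicalComplex TensorProduct
open Groth.Agent.Lib.Helper1.KF

namespace Groth.Agent.Lib.Helper19Kun

variable {A : Type u} [CommRing A] (L M : Cx A) (n : ℤ)

/-- the family of summands of `(L ⊗ M)^n` -/
abbrev Fam (k : HTor.Antidiag n) : Type u := TensorProduct A (L.X k.1.1) (M.X k.1.2)

/-- the direct sum model of `(L ⊗ M)^n` -/
abbrev DS : Type u := DirectSum (HTor.Antidiag n) (Fam L M n)

/-- the inclusion of a summand, as a linear map -/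
noncomputable def inc (p q : ℤ) (h : p + q = n) :
    TensorProduct A (L.X p) (M.X q) →ₗ[A] ((L ⊗ M).X n : ModuleCat.{u} A) :=
  (ιTensorObj L M p q n h).hom

/-- from the direct sum model to `(L ⊗ M)^n` -/
noncomputable def toT : DS L M n →ₗ[A] ((L ⊗ M).X n : ModuleCat.{u} A) :=
  DirectSum.toModule A (HTor.Antidiag n) _ fun k => inc L M n k.1.1 k.1.2 k.2

lemma toT_lof (k : HTor.Antidiag n) (t : Fam L M n k) :
    toT L M n (DirectSum.lof A (HTor.Antidiag n) (Fam L M n) k t) = inc L M n k.1.1 k.1.2 k.2 t :=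
  DirectSum.toModule_lof A k t

/-- from `(L ⊗ M)^n` to the direct sum model -/
noncomputable def ofT : ((L ⊗ M).X n : ModuleCat.{u} A) →ₗ[A] DS L M n :=
  (mapBifunctorDesc (K₁ := L) (K₂ := M) (F := curriedTensor (ModuleCat.{u} A))
    (c := ComplexShape.up ℤ) (j := n) (A := ModuleCat.of A (DS L M n))
    (fun i j h => ModuleCat.ofHom
      (DirectSum.lof A (HTor.Antidiag n) (Fam L M n) ⟨(i, j), h⟩))).hom

lemma ofT_inc (p q : ℤ) (h : p + q = n) (t : TensorProduct A (L.X p) (M.X q)) :
    ofT L M n (inc L M n p q h t) =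
      DirectSum.lof A (HTor.Antidiag n) (Fam L M n) ⟨(p, q), h⟩ t := by
  have := ι_mapBifunctorDesc (K₁ := L) (K₂ := M) (F := curriedTensor (ModuleCat.{u} A))
    (c := ComplexShape.up ℤ) (j := n) (A := ModuleCat.of A (DS L M n))
    (fun i j h => ModuleCat.ofHom
      (DirectSum.lof A (HTor.Antidiag n) (Fam L M n) ⟨(i, j), h⟩)) p q h
  exact congr($(this) t)

lemma ofT_toT (u : DS L M n) : ofT L M n (toT L M n u) = u := by
  induction u using DirectSum.induction_on with
  | zero => simp
  | of k t =>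
    obtain ⟨⟨p, q⟩, h⟩ := k
    have : toT L M n (DirectSum.of _ ⟨(p, q), h⟩ t) = inc L M n p q h t :=
      toT_lof L M n ⟨(p, q), h⟩ t
    rw [this, ofT_inc]; rfl
  | add x y hx hy => simp [hx, hy]

lemma toT_ofT (t : ((L ⊗ M).X n : ModuleCat.{u} A)) : toT L M n (ofT L M n t) = t := by
  have : ModuleCat.ofHom (ofT L M n) ≫ ModuleCat.ofHom (toT L M n) = 𝟙 ((L ⊗ M).X n) := by
    apply tensor_hom_ext
    intro p q hpq
    ext t
    change toT L M n (ofT L M n (inc L M n p q hpq t)) = inc L M n p q hpq t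
    rw [ofT_inc]
    exact toT_lof L M n ⟨(p, q), hpq⟩ t
  exact congr($(this) t)

/-- the differential of the tensor product on a summand, elementwise -/
lemma d_inc (p q : ℤ) (h : p + q = n) (p' q' n' : ℤ) (hp : p + 1 = p') (hq : q + 1 = q')
    (hn : n + 1 = n') (t : TensorProduct A (L.X p) (M.X q)) :
    ((L ⊗ M).d n n').hom (inc L M n p q h t) =
      inc L M n' p' q (by omega) (LinearMap.rTensor (M.X q) (L.d p p').hom t) +
        (p.negOnePow : ℤ) • inc L M n' p q' (by omega)
          (LinearMap.lTensor (L.X p) (M.d q q').hom t) := by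
  have := ι_tensor_d L M p q n h p' q' n' hp hq hn
  have h2 := congrArg (fun f => f.hom t) this
  simp only [ModuleCat.hom_comp, LinearMap.comp_apply, ModuleCat.hom_add, LinearMap.add_apply,
    Units.smul_def, ModuleCat.hom_zsmul, LinearMap.smul_apply] at h2
  exact h2

section elem

variable (K : Cx A)

lemma homologyπ_eq_zero_of_eq_d (m n : ℤ) (hmn : m + 1 = n) (w : K.cycles n) (v : K.X m)
    (hv : (K.iCycles n).hom w = (K.d m n).hom v) : (K.homologyπ n).hom w = 0 := by
  subst hmn
  have : w = (K.toCycles m (m + 1)).hom v := by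
    apply iCycles_injective K (m + 1)
    rw [hv, iCycles_toCycles]
  rw [this, homologyπ_toCycles]

lemma exists_d_eq_of_homologyπ_eq_zero (m n : ℤ) (hmn : m + 1 = n) (w : K.cycles n)
    (hw : (K.homologyπ n).hom w = 0) : ∃ v : K.X m, (K.d m n).hom v = (K.iCycles n).hom w := by
  subst hmn
  obtain ⟨v, hv⟩ := exists_of_homologyπ_eq_zero K m w hw
  exact ⟨v, by rw [← hv, iCycles_toCycles]⟩

lemma exact_toCycles_homologyπ (m n : ℤ) (hmn : m + 1 = n) :
    Function.Exact (K.toCycles m n).hom (K.homologyπ n).hom := by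
  subst hmn
  have h : (ShortComplex.mk (K.toCycles m (m + 1)) (K.homologyπ (m + 1))
      (K.toCycles_comp_homologyπ m (m + 1))).Exact :=
    ShortComplex.exact_of_g_is_cokernel _ (K.homologyIsCokernel m (m + 1) (by simp))
  exact (ShortComplex.ShortExact.moduleCat_exact_iff_function_exact _).1 h

end elem

section desc

variable {X Y W : Type*} [AddCommGroup X] [Module A X] [AddCommGroup Y] [Module A Y]
  [AddCommGroup W] [Module A W]

/-- descent of a linear map along a surjection -/
noncomputable def descSurj (p : X →ₗ[A] Y) (hp : Function.Surjective p) (f : X →ₗ[A] W)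
    (h : LinearMap.ker p ≤ LinearMap.ker f) : Y →ₗ[A] W :=
  (Submodule.liftQ (LinearMap.ker p) f h) ∘ₗ (p.quotKerEquivOfSurjective hp).symm.toLinearMap

lemma descSurj_apply (p : X →ₗ[A] Y) (hp : Function.Surjective p) (f : X →ₗ[A] W)
    (h : LinearMap.ker p ≤ LinearMap.ker f) (x : X) : descSurj p hp f h (p x) = f x := by
  have : (p.quotKerEquivOfSurjective hp).symm (p x) = Submodule.Quotient.mk x := by
    rw [LinearEquiv.symm_apply_eq]
    rfl
  simp only [descSurj, LinearMap.comp_apply, LinearEquiv.coe_coe, this]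
  rfl

end desc

section kun

variable (i j : ℤ) (h : i + j = n)

/-- the tensor of two cycles, as an element of `(L ⊗ M)^n` -/
noncomputable def zz : TensorProduct A (L.cycles i) (M.cycles j) →ₗ[A]
    ((L ⊗ M).X n : ModuleCat.{u} A) :=
  inc L M n i j h ∘ₗ TensorProduct.map (L.iCycles i).hom (M.iCycles j).hom

lemma zz_tmul (z : L.cycles i) (z' : M.cycles j) :
    zz L M n i j h (z ⊗ₜ z') = inc L M n i j h ((L.iCycles i).hom z ⊗ₜ (M.iCycles j).hom z') := rfl

lemma d_zz (c : TensorProduct A (L.cycles i) (M.cycles j)) :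
    ((L ⊗ M).d n (n + 1)).hom (zz L M n i j h c) = 0 := by
  induction c using TensorProduct.induction_on with
  | zero => simp
  | tmul z z' =>
    rw [zz_tmul, d_inc L M n i j h (i + 1) (j + 1) (n + 1) rfl rfl rfl, LinearMap.rTensor_tmul,
      LinearMap.lTensor_tmul, d_iCycles, d_iCycles]
    simp
  | add x y hx hy => rw [map_add, map_add, hx, hy, add_zero]

/-- the tensor of two cycles, as a cycle of `L ⊗ M` -/
noncomputable def zzCyc : TensorProduct A (L.cycles i) (M.cycles j) →ₗ[A]
    ((L ⊗ M).cycles n : ModuleCat.{u} A) :=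
  ((L ⊗ M).liftCycles (ModuleCat.ofHom (zz L M n i j h)) (n + 1) (by simp)
    (ModuleCat.hom_ext (LinearMap.ext fun c => d_zz L M n i j h c))).hom

lemma iCycles_zzCyc (c : TensorProduct A (L.cycles i) (M.cycles j)) :
    ((L ⊗ M).iCycles n).hom (zzCyc L M n i j h c) = zz L M n i j h c := by
  have := (L ⊗ M).liftCycles_i (ModuleCat.ofHom (zz L M n i j h)) (n + 1) (by simp)
    (ModuleCat.hom_ext (LinearMap.ext fun c => d_zz L M n i j h c))
  exact congrArg (fun f => f.hom c) this

/-- the class of the tensor of two cycles -/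
noncomputable def beta : TensorProduct A (L.cycles i) (M.cycles j) →ₗ[A]
    ((L ⊗ M).homology n : ModuleCat.{u} A) :=
  ((L ⊗ M).homologyπ n).hom ∘ₗ zzCyc L M n i j h

lemma beta_comp_lTensor :
    beta L M n i j h ∘ₗ LinearMap.lTensor (L.cycles i) (M.toCycles (j - 1) j).hom = 0 := by
  apply TensorProduct.ext'
  intro z x'
  simp only [LinearMap.comp_apply, LinearMap.lTensor_tmul, LinearMap.zero_apply, beta]
  apply homologyπ_eq_zero_of_eq_d (L ⊗ M) (n - 1) n (by omega) _
    ((i.negOnePow : ℤ) • inc L M (n - 1) i (j - 1) (by omega) ((L.iCycles i).hom z ⊗ₜ x'))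
  rw [iCycles_zzCyc, zz_tmul, map_zsmul]
  have hiz : (M.iCycles j).hom ((M.toCycles (j - 1) j).hom x') = (M.d (j - 1) j).hom x' :=
    congrArg (fun t => t.hom x') (M.toCycles_i (j - 1) j)
  rw [hiz, d_inc L M (n - 1) i (j - 1) (by omega) (i + 1) j n rfl (by omega) (by omega),
    LinearMap.rTensor_tmul, LinearMap.lTensor_tmul, d_iCycles, zero_tmul, map_zero, zero_add,
    smul_smul]
  have : ((i.negOnePow : ℤ) * (i.negOnePow : ℤ)) = 1 := by
    rw [← Units.val_mul, ← Int.negOnePow_add, Int.negOnePow_even _ ⟨i, rfl⟩]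
    rfl
  rw [this, one_smul]

lemma beta_comp_rTensor :
    beta L M n i j h ∘ₗ LinearMap.rTensor (M.cycles j) (L.toCycles (i - 1) i).hom = 0 := by
  apply TensorProduct.ext'
  intro x z'
  simp only [LinearMap.comp_apply, LinearMap.rTensor_tmul, LinearMap.zero_apply, beta]
  apply homologyπ_eq_zero_of_eq_d (L ⊗ M) (n - 1) n (by omega) _
    (inc L M (n - 1) (i - 1) j (by omega) (x ⊗ₜ (M.iCycles j).hom z'))
  rw [iCycles_zzCyc, zz_tmul]
  have hiz : (L.iCycles i).hom ((L.toCycles (i - 1) i).hom x) = (L.d (i - 1) i).hom x :=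
    congrArg (fun t => t.hom x) (L.toCycles_i (i - 1) i)
  rw [hiz, d_inc L M (n - 1) (i - 1) j (by omega) i (j + 1) n (by omega) rfl (by omega),
    LinearMap.rTensor_tmul, LinearMap.lTensor_tmul, d_iCycles, tmul_zero, map_zero, smul_zero,
    add_zero]

lemma ker_map_le_ker_beta :
    LinearMap.ker (TensorProduct.map (L.homologyπ i).hom (M.homologyπ j).hom) ≤
      LinearMap.ker (beta L M n i j h) := by
  rw [TensorProduct.map_ker (exact_toCycles_homologyπ L (i - 1) i (by omega))
    (homologyπ_surjective L i) (exact_toCycles_homologyπ M (j - 1) j (by omega))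
    (homologyπ_surjective M j)]
  apply sup_le
  · rw [LinearMap.range_le_ker_iff]
    exact beta_comp_lTensor L M n i j h
  · rw [LinearMap.range_le_ker_iff]
    exact beta_comp_rTensor L M n i j h

/-- the `(i, j)` component of the Künneth map -/
noncomputable def kunComp : TensorProduct A (L.homology i) (M.homology j) →ₗ[A]
    ((L ⊗ M).homology n : ModuleCat.{u} A) :=
  descSurj (TensorProduct.map (L.homologyπ i).hom (M.homologyπ j).hom)
    (TensorProduct.map_surjective (homologyπ_surjective L i) (homologyπ_surjective M j))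
    (beta L M n i j h) (ker_map_le_ker_beta L M n i j h)

lemma kunComp_map (c : TensorProduct A (L.cycles i) (M.cycles j)) :
    kunComp L M n i j h (TensorProduct.map (L.homologyπ i).hom (M.homologyπ j).hom c) =
      ((L ⊗ M).homologyπ n).hom (zzCyc L M n i j h c) :=
  descSurj_apply _ _ _ _ c

end kun


/-- the Künneth map -/
noncomputable def kun : HTor.KunnethSum L M n →ₗ[A] ((L ⊗ M).homology n : ModuleCat.{u} A) :=
  DirectSum.toModule A (HTor.Antidiag n) _ fun k => kunComp L M n k.1.1 k.1.2 k.2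

/-- the family of summands of the Künneth sum -/
abbrev KFam (k : HTor.Antidiag n) : Type u := TensorProduct A (L.homology k.1.1) (M.homology k.1.2)

lemma kun_lof (k : HTor.Antidiag n) (t : KFam L M n k) :
    kun L M n (DirectSum.lof A (HTor.Antidiag n) (KFam L M n) k t) =
      kunComp L M n k.1.1 k.1.2 k.2 t :=
  DirectSum.toModule_lof A k t

lemma kun_lof_map (k : HTor.Antidiag n) (c : TensorProduct A (L.cycles k.1.1) (M.cycles k.1.2)) :
    kun L M n (DirectSum.lof A (HTor.Antidiag n) (KFam L M n) k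
        (TensorProduct.map (L.homologyπ k.1.1).hom (M.homologyπ k.1.2).hom c)) =
      ((L ⊗ M).homologyπ n).hom (zzCyc L M n k.1.1 k.1.2 k.2 c) := by
  rw [kun_lof, kunComp_map]

theorem isKunnethMap_kun : HTor.IsKunnethMap L M n (kun L M n) := by
  intro ij z z' w hw
  have := kun_lof_map L M n ij (z ⊗ₜ z')
  rw [TensorProduct.map_tmul] at this
  rw [this]
  congr 1
  apply iCycles_injective (L ⊗ M) n
  rw [iCycles_zzCyc, zz_tmul]
  exact hw.symm


section naturality

variable {L} {L' : Cx A} (g : L ⟶ L')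

/-- functoriality of the Künneth sum in the first variable -/
noncomputable def ksMap : HTor.KunnethSum L M n →ₗ[A] HTor.KunnethSum L' M n :=
  DirectSum.lmap (M := KFam L M n) (N := KFam L' M n)
    fun k => LinearMap.rTensor (M.homology k.1.2) (homologyMap g k.1.1).hom

lemma ksMap_lof (k : HTor.Antidiag n) (t : KFam L M n k) :
    ksMap M n g (DirectSum.lof A (HTor.Antidiag n) (KFam L M n) k t) =
      DirectSum.lof A (HTor.Antidiag n) (KFam L' M n) k
        (LinearMap.rTensor (M.homology k.1.2) (homologyMap g k.1.1).hom t) :=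
  DirectSum.lmap_lof (M := KFam L M n) (N := KFam L' M n) _ k t

lemma whiskerRight_inc (p q : ℤ) (h : p + q = n) (t : TensorProduct A (L.X p) (M.X q)) :
    ((g ▷ M).f n).hom (inc L M n p q h t) =
      inc L' M n p q h (LinearMap.rTensor (M.X q) (g.f p).hom t) :=
  congrArg (fun f => f.hom t) (ι_whiskerRight g M p q n h)

theorem kun_naturality :
    kun L' M n ∘ₗ ksMap M n g = (homologyMap (g ▷ M) n).hom ∘ₗ kun L M n := by
  refine DirectSum.linearMap_ext A fun k => ?_
  apply TensorProduct.ext'
  intro x y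
  obtain ⟨z, rfl⟩ := homologyπ_surjective L k.1.1 x
  obtain ⟨z', rfl⟩ := homologyπ_surjective M k.1.2 y
  simp only [LinearMap.comp_apply]
  rw [ksMap_lof, LinearMap.rTensor_tmul, homologyMap_homologyπ]
  have h1 := kun_lof_map L' M n k ((cyclesMap g k.1.1).hom z ⊗ₜ z')
  rw [TensorProduct.map_tmul] at h1
  have h2 := kun_lof_map L M n k (z ⊗ₜ z')
  rw [TensorProduct.map_tmul] at h2
  rw [h1, h2, homologyMap_homologyπ]
  congr 1
  apply iCycles_injective (L' ⊗ M) n
  rw [iCycles_zzCyc, zz_tmul, iCycles_cyclesMap, iCycles_cyclesMap, iCycles_zzCyc, zz_tmul,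
    whiskerRight_inc, LinearMap.rTensor_tmul]

end naturality

end Groth.Agent.Lib.Helper19Kun
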