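import Mathlib
import Groth.Agent.Lib.Helper19KunA
set_option backward.isDefEq.respectTransparency.types false

/-!
# The Künneth map for a complex with zero differential and flat terms (helper19)

`kun_bijective_of_d_eq_zero`: if all differentials of `F` vanish and all terms of `F` are flat, the
Künneth map `⊕ H^i(F) ⊗ H^j(M) → H^n(F ⊗ M)` is bijective, for every complex `M`.
-/

set_option autoImplicit false
universe u
open CategoryTheory CategoryTheory.Limits MonoidalCategory HomologicalComplex TensorProduct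
open Groth.Agent.Lib.Helper1.KF

namespace Groth.Agent.Lib.Helper19Kun

variable {A : Type u} [CommRing A] (L M : Cx A) (n : ℤ)

section ext

lemma lin_ext {W : Type*} [AddCommGroup W] [Module A W]
    {f g : ((L ⊗ M).X n : ModuleCat.{u} A) →ₗ[A] W}
    (h : ∀ (p q : ℤ) (hpq : p + q = n) (s : TensorProduct A (L.X p) (M.X q)),
      f (inc L M n p q hpq s) = g (inc L M n p q hpq s)) : f = g := by
  have : f ∘ₗ toT L M n = g ∘ₗ toT L M n := by
    refine DirectSum.linearMap_ext A fun k => LinearMap.ext fun s => ?_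
    simp only [LinearMap.comp_apply]
    rw [toT_lof]
    exact h _ _ _ s
  ext t
  rw [← toT_ofT L M n t]
  exact congrArg (fun φ => φ (ofT L M n t)) this

/-- the `(p, q)`-component of an element of `(L ⊗ M)^n` -/
noncomputable def πc (p q : ℤ) (h : p + q = n) :
    ((L ⊗ M).X n : ModuleCat.{u} A) →ₗ[A] TensorProduct A (L.X p) (M.X q) :=
  DirectSum.component A (HTor.Antidiag n) (Fam L M n) ⟨(p, q), h⟩ ∘ₗ ofT L M n

lemma πc_apply (p q : ℤ) (h : p + q = n) (t : ((L ⊗ M).X n : ModuleCat.{u} A)) :
    πc L M n p q h t = (ofT L M n t) ⟨(p, q), h⟩ := rfl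

lemma πc_inc_self (p q : ℤ) (h : p + q = n) (s : TensorProduct A (L.X p) (M.X q)) :
    πc L M n p q h (inc L M n p q h s) = s := by
  simp only [πc, LinearMap.comp_apply]
  rw [ofT_inc]
  exact DirectSum.component.lof_self A (M := Fam L M n) (⟨(p, q), h⟩ : HTor.Antidiag n) s

lemma πc_inc_ne (p q : ℤ) (h : p + q = n) (p' q' : ℤ) (h' : p' + q' = n)
    (hne : ¬ (p = p' ∧ q = q')) (s : TensorProduct A (L.X p) (M.X q)) :
    πc L M n p' q' h' (inc L M n p q h s) = 0 := by
  simp only [πc, LinearMap.comp_apply]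
  rw [ofT_inc, DirectSum.component.of]
  rw [dif_neg]
  intro e
  apply hne
  have := congrArg Subtype.val e
  exact ⟨congrArg Prod.fst this, congrArg Prod.snd this⟩

end ext

section general

/-- the family of tensor products of cycles -/
abbrev CFam (k : HTor.Antidiag n) : Type u := TensorProduct A (L.cycles k.1.1) (M.cycles k.1.2)

/-- from sums of tensors of cycles to the Künneth sum -/
noncomputable def Lam : DirectSum (HTor.Antidiag n) (CFam L M n) →ₗ[A] HTor.KunnethSum L M n :=
  DirectSum.lmap (M := CFam L M n) (N := KFam L M n)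
    fun k => TensorProduct.map (L.homologyπ k.1.1).hom (M.homologyπ k.1.2).hom

lemma Lam_surjective : Function.Surjective (Lam L M n) := by
  rw [Lam, DirectSum.lmap_surjective]
  intro k
  exact TensorProduct.map_surjective (homologyπ_surjective L _) (homologyπ_surjective M _)

/-- from sums of tensors of cycles to the cycles of the tensor product -/
noncomputable def Zc : DirectSum (HTor.Antidiag n) (CFam L M n) →ₗ[A]
    ((L ⊗ M).cycles n : ModuleCat.{u} A) :=
  DirectSum.toModule A (HTor.Antidiag n) _ fun k => zzCyc L M n k.1.1 k.1.2 k.2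

/-- from sums of tensors of cycles to the direct sum model -/
noncomputable def Ic : DirectSum (HTor.Antidiag n) (CFam L M n) →ₗ[A] DS L M n :=
  DirectSum.lmap (M := CFam L M n) (N := Fam L M n)
    fun k => TensorProduct.map (L.iCycles k.1.1).hom (M.iCycles k.1.2).hom

lemma kun_Lam (c : DirectSum (HTor.Antidiag n) (CFam L M n)) :
    kun L M n (Lam L M n c) = ((L ⊗ M).homologyπ n).hom (Zc L M n c) := by
  have : kun L M n ∘ₗ Lam L M n = ((L ⊗ M).homologyπ n).hom ∘ₗ Zc L M n := by
    refine DirectSum.linearMap_ext A fun k => LinearMap.ext fun s => ?_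
    simp only [LinearMap.comp_apply]
    rw [Lam, DirectSum.lmap_lof, kun_lof_map, Zc, DirectSum.toModule_lof]
  exact congrArg (fun φ => φ c) this

lemma iCycles_Zc (c : DirectSum (HTor.Antidiag n) (CFam L M n)) :
    ((L ⊗ M).iCycles n).hom (Zc L M n c) = toT L M n (Ic L M n c) := by
  have : ((L ⊗ M).iCycles n).hom ∘ₗ Zc L M n = toT L M n ∘ₗ Ic L M n := by
    refine DirectSum.linearMap_ext A fun k => LinearMap.ext fun s => ?_
    simp only [LinearMap.comp_apply]
    rw [Zc, DirectSum.toModule_lof, iCycles_zzCyc, Ic, DirectSum.lmap_lof, toT_lof]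
    rfl
  exact congrArg (fun φ => φ c) this

end general


section zeroDiff

variable (F : Cx A) (hF : ∀ i j : ℤ, F.d i j = 0)

lemma negOnePow_zsmul_cancel {W : Type*} [AddCommGroup W] (i : ℤ) {x y : W}
    (h : x = (i.negOnePow : ℤ) • y) : (i.negOnePow : ℤ) • x = y := by
  rw [h, smul_smul]
  have : ((i.negOnePow : ℤ) * (i.negOnePow : ℤ)) = 1 := by
    rw [← Units.val_mul, ← Int.negOnePow_add, Int.negOnePow_even _ ⟨i, rfl⟩]
    rfl
  rw [this, one_smul]

include hF in
/-- the differential of `F ⊗ M` in components, when `F` has zero differential -/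
lemma πc_d (n n' : ℤ) (hn : n + 1 = n') (i j j' : ℤ) (hj : j + 1 = j') (h : i + j = n)
    (v : ((F ⊗ M).X n : ModuleCat.{u} A)) :
    πc F M n' i j' (by omega) (((F ⊗ M).d n n').hom v) =
      (i.negOnePow : ℤ) • LinearMap.lTensor (F.X i) (M.d j j').hom (πc F M n i j h v) := by
  have key : πc F M n' i j' (by omega) ∘ₗ ((F ⊗ M).d n n').hom =
      (i.negOnePow : ℤ) • (LinearMap.lTensor (F.X i) (M.d j j').hom ∘ₗ πc F M n i j h) := by
    apply lin_ext
    intro p q hpq s
    simp only [LinearMap.comp_apply, LinearMap.smul_apply]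
    rw [d_inc F M n p q hpq (p + 1) (q + 1) n' rfl rfl hn, hF p (p + 1)]
    have h0 : LinearMap.rTensor (M.X q) (ModuleCat.Hom.hom (0 : F.X p ⟶ F.X (p + 1))) s = 0 := by
      rw [ModuleCat.hom_zero, LinearMap.rTensor_zero, LinearMap.zero_apply]
    rw [h0, map_zero, zero_add, map_zsmul]
    by_cases hpq' : p = i ∧ q = j
    · obtain ⟨rfl, rfl⟩ := hpq'
      subst hj
      rw [πc_inc_self, πc_inc_self]
    · rw [πc_inc_ne F M n p q hpq i j h hpq', map_zero, smul_zero,
        πc_inc_ne F M n' p (q + 1) (by omega) i j' (by omega) (by omega), smul_zero]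
  exact congrArg (fun φ => φ v) key

/-- the section of `iCycles` for a complex with zero differential -/
noncomputable def sec (i : ℤ) : F.X i →ₗ[A] F.cycles i :=
  (F.liftCycles (𝟙 (F.X i)) (i + 1) (by simp) (by rw [hF]; simp)).hom

lemma iCycles_sec (i : ℤ) (x : F.X i) : (F.iCycles i).hom (sec F hF i x) = x :=
  congrArg (fun f => f.hom x) (F.liftCycles_i (𝟙 (F.X i)) (i + 1) (by simp) (by rw [hF]; simp))

lemma sec_iCycles (i : ℤ) (z : F.cycles i) : sec F hF i ((F.iCycles i).hom z) = z := by
  apply iCycles_injective F i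
  rw [iCycles_sec]

lemma exact_iCycles_d (K : Cx A) (j : ℤ) :
    Function.Exact (K.iCycles j).hom (K.d j (j + 1)).hom := by
  intro y
  constructor
  · intro hy
    exact exists_cycle K j y hy
  · rintro ⟨z, rfl⟩
    exact d_iCycles K j z

lemma mem_range_lmap_of_forall {ι : Type} [DecidableEq ι] {β γ : ι → Type u}
    [∀ i, AddCommGroup (β i)] [∀ i, Module A (β i)] [∀ i, AddCommGroup (γ i)]
    [∀ i, Module A (γ i)] (g : ∀ i, β i →ₗ[A] γ i) (u : DirectSum ι γ)
    (h : ∀ k, u k ∈ LinearMap.range (g k)) : u ∈ LinearMap.range (DirectSum.lmap g) := by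
  classical
  rw [← DirectSum.sum_support_of u]
  refine Submodule.sum_mem _ fun k _ => ?_
  obtain ⟨c, hc⟩ := h k
  refine ⟨DirectSum.lof A ι β k c, ?_⟩
  rw [DirectSum.lmap_lof, hc]
  rfl

include hF in
theorem kun_surjective_of_d_eq_zero (hfl : ∀ i, Module.Flat A (F.X i)) :
    Function.Surjective (kun F M n) := by
  intro x
  obtain ⟨w, rfl⟩ := homologyπ_surjective (F ⊗ M) n x
  have hu : ∀ k : HTor.Antidiag n, (ofT F M n (((F ⊗ M).iCycles n).hom w)) k ∈
      LinearMap.range (TensorProduct.map (F.iCycles k.1.1).hom (M.iCycles k.1.2).hom) := by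
    rintro ⟨⟨i, j⟩, h⟩
    have := hfl i
    change πc F M n i j h (((F ⊗ M).iCycles n).hom w) ∈ _
    have h1 := πc_d M F hF n (n + 1) rfl i j (j + 1) rfl h (((F ⊗ M).iCycles n).hom w)
    rw [d_iCycles, map_zero] at h1
    have h2 : LinearMap.lTensor (F.X i) (M.d j (j + 1)).hom
        (πc F M n i j h (((F ⊗ M).iCycles n).hom w)) = 0 := by
      have := negOnePow_zsmul_cancel i h1
      rw [smul_zero] at this
      exact this.symm
    obtain ⟨c₀, hc₀⟩ := (Module.Flat.lTensor_exact (F.X i) (exact_iCycles_d M j) _).1 h2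
    refine ⟨TensorProduct.map (sec F hF i) LinearMap.id c₀, ?_⟩
    rw [TensorProduct.map_map, ← hc₀]
    congr 1
    apply TensorProduct.ext'
    intro x z
    simp [iCycles_sec]
  obtain ⟨c, hc⟩ := mem_range_lmap_of_forall _ _ hu
  refine ⟨Lam F M n c, ?_⟩
  rw [kun_Lam]
  congr 1
  apply iCycles_injective (F ⊗ M) n
  rw [iCycles_Zc]
  have : Ic F M n c = ofT F M n (((F ⊗ M).iCycles n).hom w) := hc
  rw [this, toT_ofT]

include hF in
theorem kun_injective_of_d_eq_zero (hfl : ∀ i, Module.Flat A (F.X i)) :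
    Function.Injective (kun F M n) := by
  rw [injective_iff_map_eq_zero]
  intro y hy
  obtain ⟨c, rfl⟩ := Lam_surjective F M n y
  rw [kun_Lam] at hy
  obtain ⟨v, hv⟩ := exists_d_eq_of_homologyπ_eq_zero (F ⊗ M) (n - 1) n (by omega) _ hy
  rw [iCycles_Zc] at hv
  apply DFinsupp.ext
  rintro ⟨⟨i, j⟩, h⟩
  have := hfl i
  change TensorProduct.map (F.homologyπ i).hom (M.homologyπ j).hom (c ⟨(i, j), h⟩) = 0
  -- the component of `hv`
  have h1 := πc_d M F hF (n - 1) n (by omega) i (j - 1) j (by omega) (by omega) v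
  rw [hv, πc_apply, ofT_toT] at h1
  change TensorProduct.map (F.iCycles i).hom (M.iCycles j).hom (c ⟨(i, j), h⟩) = _ at h1
  -- factor the differential of `M`
  have hd : (M.d (j - 1) j).hom = (M.iCycles j).hom ∘ₗ (M.toCycles (j - 1) j).hom := by
    rw [← ModuleCat.hom_comp, M.toCycles_i]
  let r := (i.negOnePow : ℤ) • πc F M (n - 1) i (j - 1) (by omega) v
  have h2 : LinearMap.lTensor (F.X i) (M.iCycles j).hom
      (TensorProduct.map (F.iCycles i).hom LinearMap.id (c ⟨(i, j), h⟩)) =
      LinearMap.lTensor (F.X i) (M.iCycles j).hom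
        (LinearMap.lTensor (F.X i) (M.toCycles (j - 1) j).hom r) := by
    rw [LinearMap.lTensor_def, TensorProduct.map_map, LinearMap.lTensor_def,
      TensorProduct.map_map, LinearMap.id_comp, LinearMap.comp_id, LinearMap.id_comp, ← hd, h1,
      ← LinearMap.lTensor_def, map_zsmul]
  have h3 := Module.Flat.lTensor_preserves_injective_linearMap (M := F.X i) (M.iCycles j).hom
    (iCycles_injective M j) h2
  have h4 := congrArg (TensorProduct.map (sec F hF i) (M.homologyπ j).hom) h3
  rw [TensorProduct.map_map, LinearMap.lTensor_def, TensorProduct.map_map] at h4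
  have e1 : (M.homologyπ j).hom ∘ₗ (M.toCycles (j - 1) j).hom = 0 := by
    rw [← ModuleCat.hom_comp, M.toCycles_comp_homologyπ]
    rfl
  have e2 : sec F hF i ∘ₗ (F.iCycles i).hom = LinearMap.id :=
    LinearMap.ext fun z => sec_iCycles F hF i z
  rw [e1, e2, TensorProduct.map_zero_right, LinearMap.zero_apply, LinearMap.comp_id] at h4
  have h5 := congrArg (TensorProduct.map (F.homologyπ i).hom LinearMap.id) h4
  rw [TensorProduct.map_map, map_zero, LinearMap.comp_id, LinearMap.id_comp] at h5
  exact h5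

include hF in
theorem kun_bijective_of_d_eq_zero (hfl : ∀ i, Module.Flat A (F.X i)) :
    Function.Bijective (kun F M n) :=
  ⟨kun_injective_of_d_eq_zero M n F hF hfl, kun_surjective_of_d_eq_zero M n F hF hfl⟩

end zeroDiff

end Groth.Agent.Lib.Helper19Kun
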