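import Mathlib
import Groth.Agent.Lib.Helper19KunB
import Groth.Agent.Lib.Helper1KF2
set_option backward.isDefEq.respectTransparency.types false

/-!
# A free complex with free cohomology mapping onto a complex (helper19)

For a complex `L` of modules, `Pcx L` is a complex of free modules with a termwise surjective
morphism `Pπ L : Pcx L ⟶ L` which is surjective on cycles, homotopy equivalent to a complex
`Fcx L` of free modules with zero differential.  It vanishes in the degrees `> b` if `L` does.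
-/

set_option autoImplicit false
universe u
open CategoryTheory CategoryTheory.Limits MonoidalCategory HomologicalComplex TensorProduct
open Groth.Agent.Lib.Helper1.KF

namespace Groth.Agent.Lib.Helper19Kun

variable {A : Type u} [CommRing A] (L : Cx A)

/-- nonzero cycles of degree `i` -/
def Zs (i : ℤ) : Type u := {z : L.X i // (L.d i (i + 1)).hom z = 0 ∧ z ≠ 0}

/-- nonzero boundaries of degree `m` -/
def Bd (m : ℤ) : Type u := {y : L.X m // y ≠ 0 ∧ ∃ (j : ℤ) (x : L.X j), (L.d j m).hom x = y}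

lemma Bd.exists_preimage (i : ℤ) (y : Bd L (i + 1)) :
    ∃ x : L.X i, (L.d i (i + 1)).hom x = y.1 := by
  obtain ⟨j, x, hx⟩ := y.2.2
  by_cases hj : j = i
  · subst hj
    exact ⟨x, hx⟩
  · exfalso
    apply y.2.1
    rw [← hx, L.shape j (i + 1) (by simp; omega)]
    rfl

/-- a chosen preimage of a boundary -/
noncomputable def Bd.pre (i : ℤ) (y : Bd L (i + 1)) : L.X i := (Bd.exists_preimage L i y).choose

lemma Bd.d_pre (i : ℤ) (y : Bd L (i + 1)) : (L.d i (i + 1)).hom (Bd.pre L i y) = y.1 :=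
  (Bd.exists_preimage L i y).choose_spec

lemma Bd.d_eq_zero (m : ℤ) (y : Bd L m) : (L.d m (m + 1)).hom y.1 = 0 := by
  obtain ⟨j, x, hx⟩ := y.2.2
  rw [← hx]
  exact d_d_apply L j m (m + 1) x

/-- the terms of `Pcx L` -/
abbrev PX (i : ℤ) : Type u := (Zs L i →₀ A) × (Bd L (i + 1) →₀ A) × (Bd L i →₀ A)

/-- the differential of `Pcx L` -/
noncomputable def Pd (i : ℤ) : PX L i →ₗ[A] PX L (i + 1) :=
  LinearMap.inr A _ _ ∘ₗ LinearMap.inr A _ _ ∘ₗ LinearMap.fst A _ _ ∘ₗ LinearMap.snd A _ _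

lemma Pd_apply (i : ℤ) (x : PX L i) : Pd L i x = (0, 0, x.2.1) := rfl

/-- the complex `Pcx L` -/
noncomputable abbrev Pcx : Cx A :=
  CochainComplex.of (fun i => ModuleCat.of A (PX L i)) (fun i => ModuleCat.ofHom (Pd L i))
    (fun _ => ModuleCat.hom_ext (LinearMap.ext fun _ => rfl))

lemma Pcx_d (i : ℤ) : (Pcx L).d i (i + 1) = ModuleCat.ofHom (Pd L i) := by
  exact CochainComplex.of_d (fun i => ModuleCat.of A (PX L i)) (fun i => ModuleCat.ofHom (Pd L i)) i

/-- the components of `Pπ` -/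
noncomputable def pπ (i : ℤ) : PX L i →ₗ[A] L.X i :=
  (Finsupp.linearCombination A (fun z : Zs L i => z.1)).coprod
    ((Finsupp.linearCombination A (fun y : Bd L (i + 1) => Bd.pre L i y)).coprod
      (Finsupp.linearCombination A (fun y : Bd L i => y.1)))

lemma pπ_apply (i : ℤ) (x : PX L i) :
    pπ L i x = Finsupp.linearCombination A (fun z : Zs L i => z.1) x.1 +
      (Finsupp.linearCombination A (fun y : Bd L (i + 1) => Bd.pre L i y) x.2.1 +
        Finsupp.linearCombination A (fun y : Bd L i => y.1) x.2.2) := rfl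

lemma d_pπ (i : ℤ) (x : PX L i) :
    (L.d i (i + 1)).hom (pπ L i x) = pπ L (i + 1) (Pd L i x) := by
  rw [pπ_apply, map_add, map_add, Finsupp.apply_linearCombination,
    Finsupp.apply_linearCombination, Finsupp.apply_linearCombination, Pd_apply, pπ_apply]
  have h1 : ((L.d i (i + 1)).hom ∘ fun z : Zs L i => z.1) = 0 := by
    funext z
    exact z.2.1
  have h2 : ((L.d i (i + 1)).hom ∘ fun y : Bd L (i + 1) => Bd.pre L i y) =
      fun y : Bd L (i + 1) => y.1 := by
    funext y
    exact Bd.d_pre L i y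
  have h3 : ((L.d i (i + 1)).hom ∘ fun y : Bd L i => y.1) = 0 := by
    funext y
    exact Bd.d_eq_zero L i y
  rw [h1, h2, h3]
  simp

/-- the morphism `Pcx L ⟶ L` -/
noncomputable def Pπ : Pcx L ⟶ L where
  f i := ModuleCat.ofHom (pπ L i)
  comm' i j hij := by
    obtain rfl : i + 1 = j := hij
    rw [Pcx_d]
    exact ModuleCat.hom_ext (LinearMap.ext fun x => (d_pπ L i x))

lemma Pπ_f_apply (i : ℤ) (x : PX L i) : ((Pπ L).f i).hom x = pπ L i x := rfl

lemma exists_Zs_combination (i : ℤ) (z : L.X i) (hz : (L.d i (i + 1)).hom z = 0) :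
    ∃ f : Zs L i →₀ A, Finsupp.linearCombination A (fun z : Zs L i => z.1) f = z := by
  by_cases h0 : z = 0
  · exact ⟨0, by simp [h0]⟩
  · exact ⟨Finsupp.single ⟨z, hz, h0⟩ 1, by simp⟩

lemma exists_Bd_combination (i : ℤ) (x : L.X i) :
    ∃ g : Bd L (i + 1) →₀ A, (L.d i (i + 1)).hom
      (Finsupp.linearCombination A (fun y : Bd L (i + 1) => Bd.pre L i y) g) =
        (L.d i (i + 1)).hom x := by
  by_cases h0 : (L.d i (i + 1)).hom x = 0
  · exact ⟨0, by simp [h0]⟩
  · refine ⟨Finsupp.single ⟨(L.d i (i + 1)).hom x, h0, i, x, rfl⟩ 1, ?_⟩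
    simp only [Finsupp.linearCombination_single, one_smul]
    exact Bd.d_pre L i _

lemma pπ_surjective (i : ℤ) : Function.Surjective (pπ L i) := by
  intro x
  obtain ⟨g, hg⟩ := exists_Bd_combination L i x
  obtain ⟨f, hf⟩ := exists_Zs_combination L i
    (x - Finsupp.linearCombination A (fun y : Bd L (i + 1) => Bd.pre L i y) g)
    (by rw [map_sub, hg, sub_self])
  refine ⟨(f, g, 0), ?_⟩
  rw [pπ_apply, hf]
  simp

lemma isEmpty_Zs_of_subsingleton (i : ℤ) [Subsingleton (L.X i)] : IsEmpty (Zs L i) :=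
  ⟨fun z => z.2.2 (Subsingleton.elim _ _)⟩

lemma isEmpty_Bd_of_subsingleton (i : ℤ) [Subsingleton (L.X i)] : IsEmpty (Bd L i) :=
  ⟨fun z => z.2.1 (Subsingleton.elim _ _)⟩

lemma isZero_Pcx_X (b : ℤ) (hb : ∀ i : ℤ, b < i → IsZero (L.X i)) (i : ℤ) (hi : b < i) :
    IsZero ((Pcx L).X i) := by
  have h1 : Subsingleton (L.X i) := ModuleCat.subsingleton_of_isZero (hb i hi)
  have h2 : Subsingleton (L.X (i + 1)) := ModuleCat.subsingleton_of_isZero (hb (i + 1) (by omega))
  have := isEmpty_Zs_of_subsingleton L i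
  have := isEmpty_Bd_of_subsingleton L i
  have := isEmpty_Bd_of_subsingleton L (i + 1)
  have : Subsingleton (PX L i) := inferInstance
  exact ModuleCat.isZero_of_subsingleton (ModuleCat.of A (PX L i))

instance free_Pcx_X (i : ℤ) : Module.Free A ((Pcx L).X i) :=
  inferInstanceAs (Module.Free A (PX L i))


/-- the complex with zero differential and terms the free modules on the nonzero cycles -/
noncomputable abbrev Fcx : Cx A :=
  CochainComplex.of (fun i => ModuleCat.of A (Zs L i →₀ A)) (fun _ => 0) (fun _ => by simp)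

lemma Fcx_d (i j : ℤ) : (Fcx L).d i j = 0 := by
  by_cases h : i + 1 = j
  · subst h
    exact CochainComplex.of_d (fun i => ModuleCat.of A (Zs L i →₀ A)) (fun _ => 0) i
  · exact (Fcx L).shape i j h

instance free_Fcx_X (i : ℤ) : Module.Free A ((Fcx L).X i) :=
  inferInstanceAs (Module.Free A (Zs L i →₀ A))

/-- the inclusion `Fcx L ⟶ Pcx L` -/
noncomputable def ιF : Fcx L ⟶ Pcx L where
  f i := ModuleCat.ofHom (LinearMap.inl A (Zs L i →₀ A) ((Bd L (i + 1) →₀ A) × (Bd L i →₀ A)))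
  comm' i j hij := by
    obtain rfl : i + 1 = j := hij
    rw [Pcx_d, Fcx_d, zero_comp]
    exact ModuleCat.hom_ext (LinearMap.ext fun x => by
      show Pd L i (x, 0) = 0
      rw [Pd_apply]
      rfl)

/-- the projection `Pcx L ⟶ Fcx L` -/
noncomputable def πF : Pcx L ⟶ Fcx L where
  f i := ModuleCat.ofHom (LinearMap.fst A (Zs L i →₀ A) ((Bd L (i + 1) →₀ A) × (Bd L i →₀ A)))
  comm' i j hij := by
    obtain rfl : i + 1 = j := hij
    rw [Pcx_d, Fcx_d, comp_zero]
    exact ModuleCat.hom_ext (LinearMap.ext fun x => rfl)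

lemma ιF_πF : ιF L ≫ πF L = 𝟙 (Fcx L) := by
  refine HomologicalComplex.hom_ext _ _ fun i => ?_
  exact ModuleCat.hom_ext (LinearMap.ext fun x => rfl)

/-- the contracting homotopy, componentwise -/
noncomputable def hmap (j i : ℤ) (h : j + 1 = i) : PX L i →ₗ[A] PX L j := by
  subst h
  exact LinearMap.inr A _ _ ∘ₗ LinearMap.inl A _ _ ∘ₗ LinearMap.snd A _ _ ∘ₗ LinearMap.snd A _ _

lemma hmap_rfl (j : ℤ) (x : PX L (j + 1)) : hmap L j (j + 1) rfl x = (0, x.2.2, 0) := rfl

lemma hmap_comp_d (j i : ℤ) (h : j + 1 = i) :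
    ModuleCat.ofHom (hmap L j i h) ≫ (Pcx L).d j i =
      ModuleCat.ofHom (LinearMap.inr A _ _ ∘ₗ LinearMap.inr A _ _ ∘ₗ LinearMap.snd A _ _ ∘ₗ
        LinearMap.snd A (Zs L i →₀ A) ((Bd L (i + 1) →₀ A) × (Bd L i →₀ A))) := by
  subst h
  rw [Pcx_d]
  exact ModuleCat.hom_ext (LinearMap.ext fun x => rfl)

/-- the homotopy between the identity of `Pcx L` and the projection to `Fcx L` -/
noncomputable def hP : Homotopy (𝟙 (Pcx L)) (πF L ≫ ιF L) where
  hom i j := if h : j + 1 = i then ModuleCat.ofHom (hmap L j i h) else 0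
  zero i j hij := dif_neg (by simpa using hij)
  comm i := by
    rw [dNext_eq _ (show (ComplexShape.up ℤ).Rel i (i + 1) from rfl),
      prevD_eq _ (show (ComplexShape.up ℤ).Rel (i - 1) i by simp)]
    rw [dif_pos rfl, dif_pos (by omega : i - 1 + 1 = i), hmap_comp_d, Pcx_d]
    exact ModuleCat.hom_ext (LinearMap.ext fun x => by
      obtain ⟨f, g, g'⟩ := x
      show (f, g, g') = ((0 : Zs L i →₀ A), g, (0 : Bd L i →₀ A)) +
        ((0 : Zs L i →₀ A), (0 : Bd L (i + 1) →₀ A), g') +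
          (f, (0 : Bd L (i + 1) →₀ A), (0 : Bd L i →₀ A))
      simp)

/-- `Fcx L` and `Pcx L` are homotopy equivalent -/
noncomputable def heFP : HomotopyEquiv (Fcx L) (Pcx L) where
  hom := ιF L
  inv := πF L
  homotopyHomInvId := Homotopy.ofEq (ιF_πF L)
  homotopyInvHomId := (hP L).symm

end Groth.Agent.Lib.Helper19Kun
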