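import Mathlib
import Groth.Agent.Lib.Helper19KunC
import Groth.Agent.Lib.Helper3FlatCx
set_option backward.isDefEq.respectTransparency.types false

/-!
# The syzygy complex (helper19)

For a complex `L` of modules: the kernel `Kcx L` of `Pπ L : Pcx L ⟶ L`, the short exact sequence
`0 → Kcx L → Pcx L → L → 0`, the induced short exact sequences in cohomology, and the bijectivity of
the Künneth maps of `Pcx L`.
-/

set_option autoImplicit false
universe u
open CategoryTheory CategoryTheory.Limits MonoidalCategory HomologicalComplex TensorProduct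
open Groth.Agent.Lib.Helper1.KF

namespace Groth.Agent.Lib.Helper19Kun

variable {A : Type u} [CommRing A] (L : Cx A)

/-- the syzygy complex -/
noncomputable def Kcx : Cx A := kernel (Pπ L)

/-- the inclusion of the syzygy complex -/
noncomputable def Kι : Kcx L ⟶ Pcx L := kernel.ι (Pπ L)

lemma Kι_Pπ : Kι L ≫ Pπ L = 0 := kernel.condition _

/-- the short complex `Kcx L ⟶ Pcx L ⟶ L` -/
noncomputable def syzSC : ShortComplex (Cx A) := ShortComplex.mk (Kι L) (Pπ L) (Kι_Pπ L)

instance epi_Pπ : Epi (Pπ L) :=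
  HomologicalComplex.epi_of_epi_f _ fun i => (ModuleCat.epi_iff_surjective _).2 (pπ_surjective L i)

instance mono_Kι : Mono (Kι L) :=
  inferInstanceAs (Mono (equalizer.ι (Pπ L) 0))

lemma syzSC_shortExact : (syzSC L).ShortExact :=
  ShortComplex.ShortExact.mk' (ShortComplex.exact_of_f_is_kernel _ (kernelIsKernel _))
    (mono_Kι L) (epi_Pπ L)

lemma syzSC_eval_shortExact (i : ℤ) :
    ((syzSC L).map (HomologicalComplex.eval _ _ i)).ShortExact := by
  have h := syzSC_shortExact L
  have := h.mono_f
  have := h.epi_g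
  exact h.map_of_exact (HomologicalComplex.eval _ _ i)

lemma flat_Kcx_X (hL : ∀ i, Module.Flat A (L.X i)) (i : ℤ) : Module.Flat A ((Kcx L).X i) := by
  have h := syzSC_eval_shortExact L i
  have := hL i
  have hfree : Module.Flat A ((Pcx L).X i) := inferInstance
  have hinj : Function.Injective ((Kι L).f i).hom :=
    (ModuleCat.mono_iff_injective _).1 h.mono_f
  have hsurj : Function.Surjective ((Pπ L).f i).hom :=
    (ModuleCat.epi_iff_surjective _).1 h.epi_g
  have hex : Function.Exact ((Kι L).f i).hom ((Pπ L).f i).hom :=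
    (ShortComplex.ShortExact.moduleCat_exact_iff_function_exact _).1 h.exact
  exact Groth.Agent.Lib.Helper3.flat_of_exact_of_flat_mid_right _ _ hinj hsurj hex

lemma isZero_Kcx_X (b : ℤ) (hb : ∀ i : ℤ, b < i → IsZero (L.X i)) (i : ℤ) (hi : b < i) :
    IsZero ((Kcx L).X i) := by
  have h := syzSC_eval_shortExact L i
  have := h.mono_f
  exact IsZero.of_mono ((Kι L).f i) (isZero_Pcx_X L b hb i hi)

lemma homologyMap_Pπ_surjective (i : ℤ) : Function.Surjective (homologyMap (Pπ L) i).hom := by
  intro x
  obtain ⟨z, rfl⟩ := homologyπ_surjective L i x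
  obtain ⟨f, hf⟩ := exists_Zs_combination L i ((L.iCycles i).hom z) (d_iCycles L i z)
  obtain ⟨w, hw⟩ := exists_cycle (Pcx L) i ((f, 0, 0) : PX L i) (by
    rw [Pcx_d]
    show Pd L i (f, 0, 0) = 0
    rw [Pd_apply]
    rfl)
  refine ⟨((Pcx L).homologyπ i).hom w, ?_⟩
  rw [homologyMap_homologyπ]
  congr 1
  apply iCycles_injective L i
  rw [iCycles_cyclesMap, hw, Pπ_f_apply, pπ_apply, hf]
  simp

/-- the short complex `H^i(Kcx L) ⟶ H^i(Pcx L) ⟶ H^i(L)` -/
noncomputable abbrev syzH (i : ℤ) : ShortComplex (ModuleCat.{u} A) :=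
  ShortComplex.mk (homologyMap (Kι L) i) (homologyMap (Pπ L) i) (by
    rw [← homologyMap_comp, Kι_Pπ, homologyMap_zero])

lemma syzH_shortExact (i : ℤ) : (syzH L i).ShortExact := by
  have hS := syzSC_shortExact L
  have hepi : ∀ j, Epi (homologyMap (Pπ L) j) := fun j =>
    (ModuleCat.epi_iff_surjective _).2 (homologyMap_Pπ_surjective L j)
  have hδ : hS.δ (i - 1) i (by simp) = 0 := by
    have : Epi (homologyMap (syzSC L).g (i - 1)) := hepi (i - 1)
    rw [← cancel_epi (homologyMap (syzSC L).g (i - 1)), hS.comp_δ, comp_zero]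
  have hmono : Mono (homologyMap (Kι L) i) :=
    (hS.homology_exact₁ (i - 1) i (by simp)).mono_g hδ
  exact ShortComplex.ShortExact.mk' (hS.homology_exact₂ i) hmono (hepi i)


lemma free_homology_Fcx (i : ℤ) : Module.Free A ((Fcx L).homology i) := by
  let e₁ : (Fcx L).cycles i ≅ (Fcx L).homology i :=
    (Fcx L).isoHomologyπ (i - 1) i (by simp) (Fcx_d L _ _)
  let e₂ : (Fcx L).cycles i ≅ (Fcx L).X i :=
    (Fcx L).iCyclesIso i (i + 1) (by simp) (Fcx_d L _ _)
  exact Module.Free.of_equiv (e₂.symm ≪≫ e₁).toLinearEquiv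

lemma flat_homology_Pcx (i : ℤ) : Module.Flat A ((Pcx L).homology i) := by
  have := free_homology_Fcx L i
  exact Module.Flat.of_linearEquiv ((heFP L).toHomologyIso i).symm.toLinearEquiv

lemma ksMap_bijective_of_isIso (M : Cx A) (n : ℤ) {L L' : Cx A} (g : L ⟶ L')
    (hg : ∀ i, IsIso (homologyMap g i)) : Function.Bijective (ksMap M n g) := by
  have hb : ∀ k : HTor.Antidiag n, Function.Bijective
      (LinearMap.rTensor (M.homology k.1.2) (homologyMap g k.1.1).hom) := by
    intro k
    have := hg k.1.1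
    let e : L.homology k.1.1 ≃ₗ[A] L'.homology k.1.1 := (asIso (homologyMap g k.1.1)).toLinearEquiv
    exact (TensorProduct.congr e (LinearEquiv.refl A (M.homology k.1.2))).bijective
  constructor
  · rw [ksMap, DirectSum.lmap_injective]
    exact fun k => (hb k).1
  · rw [ksMap, DirectSum.lmap_surjective]
    exact fun k => (hb k).2

theorem kun_bijective_Pcx (M : Cx A) (n : ℤ) : Function.Bijective (kun (Pcx L) M n) := by
  have nat := kun_naturality M n (ιF L)
  have hks : Function.Bijective (ksMap M n (ιF L)) :=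
    ksMap_bijective_of_isIso M n (ιF L) fun i =>
      inferInstanceAs (IsIso ((heFP L).toHomologyIso i).hom)
  have hH : Function.Bijective (homologyMap (ιF L ▷ M) n).hom :=
    ConcreteCategory.bijective_of_isIso
      ((tensorRightHomotopyEquiv M (heFP L)).toHomologyIso n).hom
  have hF : Function.Bijective (kun (Fcx L) M n) :=
    kun_bijective_of_d_eq_zero M n (Fcx L) (Fcx_d L) fun i => inferInstance
  refine (Function.Bijective.of_comp_iff (kun (Pcx L) M n) hks).1 ?_
  rw [← LinearMap.coe_comp, nat, LinearMap.coe_comp]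
  exact hH.comp hF

end Groth.Agent.Lib.Helper19Kun
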