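import Mathlib
import Groth.Prelude.Def_HTor
import Groth.Agent.Lib.Helper13TorD1
set_option backward.isDefEq.respectTransparency.types false

/-!
# Subquotients and `Tor` bookkeeping for the Künneth filtration (helper19)
-/

set_option autoImplicit false
universe u
open CategoryTheory CategoryTheory.Limits MonoidalCategory TensorProduct

namespace Groth.Agent.Lib.Helper19Kun

variable {A : Type u} [CommRing A]

section subquotient

variable {N N' T T' : Type u} [AddCommGroup N] [Module A N] [AddCommGroup N'] [Module A N']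
  [AddCommGroup T] [Module A T] [AddCommGroup T'] [Module A T']

lemma isSubquotient_iff_exists_surjective :
    HTor.IsSubquotient A N T ↔
      ∃ (S' : Submodule A T) (g : ↥S' →ₗ[A] N), Function.Surjective g := by
  constructor
  · rintro ⟨S, S', -, ⟨e⟩⟩
    exact ⟨S', e.symm.toLinearMap ∘ₗ (Submodule.comap S'.subtype S).mkQ,
      e.symm.surjective.comp (Submodule.mkQ_surjective _)⟩
  · rintro ⟨S', g, hg⟩
    refine ⟨Submodule.map S'.subtype (LinearMap.ker g), S', ?_, ⟨?_⟩⟩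
    · rintro _ ⟨x, -, rfl⟩
      exact x.2
    · have : Submodule.comap S'.subtype (Submodule.map S'.subtype (LinearMap.ker g)) =
          LinearMap.ker g :=
        Submodule.comap_map_eq_of_injective (Submodule.injective_subtype S') _
      exact (g.quotKerEquivOfSurjective hg).symm.trans (Submodule.quotEquivOfEq _ _ this.symm)

lemma isSubquotient_of_surjective (g : T →ₗ[A] N) (hg : Function.Surjective g) :
    HTor.IsSubquotient A N T := by
  rw [isSubquotient_iff_exists_surjective]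
  exact ⟨⊤, g ∘ₗ (⊤ : Submodule A T).subtype, fun n => by
    obtain ⟨t, rfl⟩ := hg n
    exact ⟨⟨t, trivial⟩, rfl⟩⟩

lemma isSubquotient_of_injective (f : N →ₗ[A] N') (hf : Function.Injective f)
    (h : HTor.IsSubquotient A N' T) : HTor.IsSubquotient A N T := by
  rw [isSubquotient_iff_exists_surjective] at h ⊢
  obtain ⟨S', g, hg⟩ := h
  let S'' : Submodule A ↥S' := Submodule.comap g (LinearMap.range f)
  let e₁ : ↥(Submodule.map S'.subtype S'') ≃ₗ[A] ↥S'' :=
    (Submodule.equivMapOfInjective S'.subtype (Submodule.injective_subtype S') S'').symm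
  let g₂ : ↥S'' →ₗ[A] ↥(LinearMap.range f) :=
    (g ∘ₗ S''.subtype).codRestrict (LinearMap.range f) (fun y => y.2)
  let e₃ : ↥(LinearMap.range f) ≃ₗ[A] N := (LinearEquiv.ofInjective f hf).symm
  refine ⟨Submodule.map S'.subtype S'', e₃.toLinearMap ∘ₗ g₂ ∘ₗ e₁.toLinearMap, ?_⟩
  have h2 : Function.Surjective g₂ := by
    rintro ⟨_, ⟨n, rfl⟩⟩
    obtain ⟨y, hy⟩ := hg (f n)
    have hy' : y ∈ S'' := ⟨n, hy.symm⟩
    exact ⟨⟨y, hy'⟩, Subtype.ext hy⟩
  intro n
  obtain ⟨r, hr⟩ := e₃.surjective n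
  obtain ⟨y, hy⟩ := h2 r
  obtain ⟨x, hx⟩ := e₁.surjective y
  exact ⟨x, by simp only [LinearMap.comp_apply, LinearEquiv.coe_coe, hx, hy, hr]⟩

lemma isSubquotient_of_surjective_target (g : T' →ₗ[A] T) (hg : Function.Surjective g)
    (h : HTor.IsSubquotient A N T) : HTor.IsSubquotient A N T' := by
  rw [isSubquotient_iff_exists_surjective] at h ⊢
  obtain ⟨S', f, hf⟩ := h
  refine ⟨Submodule.comap g S', f ∘ₗ (g.restrict (p := Submodule.comap g S') (q := S')
    (fun x hx => hx)), ?_⟩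
  refine hf.comp ?_
  rintro ⟨t, ht⟩
  obtain ⟨t', rfl⟩ := hg t
  exact ⟨⟨t', ht⟩, rfl⟩

end subquotient


section tor

open Groth.Agent.Helper13Tor

variable (S : ShortComplex (ModuleCat.{u} A)) (hS : S.ShortExact) (Y : ModuleCat.{u} A)

include hS in
/-- dimension shifting for `Tor` along `0 → X₁ → X₂ → X₃ → 0` with `X₂` flat -/
theorem nonempty_tor_shift_iso [Module.Flat A S.X₂] (p : ℕ) :
    Nonempty (((Tor (ModuleCat.{u} A) (p + 2)).obj S.X₃).obj Y ≅
      ((Tor (ModuleCat.{u} A) (p + 1)).obj S.X₁).obj Y) := by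
  obtain ⟨δ, w₁, w₂, h₁, h₂⟩ := exists_δ S hS Y (p + 1)
  have z₁ : IsZero (((Tor (ModuleCat.{u} A) (p + 1 + 1)).obj S.X₂).obj Y) :=
    isZero_tor_of_flat Y S.X₂ (p + 1 + 1) (by omega)
  have z₂ : IsZero (((Tor (ModuleCat.{u} A) (p + 1)).obj S.X₂).obj Y) :=
    isZero_tor_of_flat Y S.X₂ (p + 1) (by omega)
  have hm : Mono δ := h₁.mono_g (z₁.eq_of_src _ _)
  have he : Epi δ := h₂.epi_f (z₂.eq_of_tgt _ _)
  have : IsIso δ := isIso_of_mono_of_epi δ
  exact ⟨asIso δ⟩

include hS in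
/-- the kernel of `X₁ ⊗ Y → X₂ ⊗ Y` is a quotient of `Tor_1(X₃, Y)` -/
theorem exists_kappa :
    ∃ κ : (((Tor (ModuleCat.{u} A) 1).obj S.X₃).obj Y : ModuleCat.{u} A) →ₗ[A]
        TensorProduct A S.X₁ Y,
      LinearMap.range κ = LinearMap.ker (LinearMap.rTensor Y S.f.hom) := by
  obtain ⟨δ, w₁, w₂, h₁, h₂⟩ := exists_δ S hS Y 0
  let e₁ := (torZeroIso.app S.X₁).app Y
  let e₂ := (torZeroIso.app S.X₂).app Y
  have hn : ((Tor (ModuleCat.{u} A) 0).map S.f).app Y ≫ e₂.hom =
      e₁.hom ≫ ((tensoringLeft (ModuleCat.{u} A)).map S.f).app Y :=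
    congr_arg (fun t => t.app Y) (torZeroIso.hom.naturality S.f)
  have hn' : ∀ x, e₂.hom.hom ((((Tor (ModuleCat.{u} A) 0).map S.f).app Y).hom x) =
      LinearMap.rTensor Y S.f.hom (e₁.hom.hom x) := fun x =>
    congrArg (fun t => t.hom x) hn
  have hex := (ShortComplex.ShortExact.moduleCat_exact_iff_function_exact _).1 h₂
  refine ⟨(δ ≫ e₁.hom).hom, ?_⟩
  ext x
  simp only [LinearMap.mem_range, LinearMap.mem_ker]
  constructor
  · rintro ⟨t, rfl⟩
    rw [ModuleCat.hom_comp, LinearMap.comp_apply, ← hn']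
    have : (((Tor (ModuleCat.{u} A) 0).map S.f).app Y).hom (δ.hom t) = 0 :=
      congrArg (fun φ => φ.hom t) w₂
    rw [this, map_zero]
  · intro hx
    have hx' : (((Tor (ModuleCat.{u} A) 0).map S.f).app Y).hom (e₁.inv.hom x) = 0 := by
      have h1 := hn' (e₁.inv.hom x)
      have h2 : e₁.hom.hom (e₁.inv.hom x) = x := congrArg (fun φ => φ.hom x) e₁.inv_hom_id
      rw [h2, hx] at h1
      have h3 : e₂.inv.hom (e₂.hom.hom
          ((((Tor (ModuleCat.{u} A) 0).map S.f).app Y).hom (e₁.inv.hom x))) =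
          (((Tor (ModuleCat.{u} A) 0).map S.f).app Y).hom (e₁.inv.hom x) :=
        congrArg (fun φ => φ.hom ((((Tor (ModuleCat.{u} A) 0).map S.f).app Y).hom (e₁.inv.hom x)))
          e₂.hom_inv_id
      rw [h1, map_zero] at h3
      exact h3.symm
    obtain ⟨t, ht⟩ := (hex _).1 hx'
    refine ⟨t, ?_⟩
    rw [ModuleCat.hom_comp, LinearMap.comp_apply]
    have : δ.hom t = e₁.inv.hom x := ht
    rw [this]
    exact congrArg (fun φ => φ.hom x) e₁.inv_hom_id

end tor

section directSum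

variable {ι κ : Type} [DecidableEq ι] [DecidableEq κ] {β : ι → Type u} {γ : κ → Type u}
  [∀ i, AddCommGroup (β i)] [∀ i, Module A (β i)] [∀ i, AddCommGroup (γ i)]
  [∀ i, Module A (γ i)]

/-- a map of direct sums given by a reindexing and componentwise maps -/
noncomputable def reindexMap (σ : κ → ι) (f : ∀ k, γ k →ₗ[A] β (σ k)) :
    DirectSum κ γ →ₗ[A] DirectSum ι β :=
  DirectSum.toModule A κ _ fun k => DirectSum.lof A ι β (σ k) ∘ₗ f k

lemma reindexMap_lof (σ : κ → ι) (f : ∀ k, γ k →ₗ[A] β (σ k)) (k : κ) (t : γ k) :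
    reindexMap σ f (DirectSum.lof A κ γ k t) = DirectSum.lof A ι β (σ k) (f k t) :=
  DirectSum.toModule_lof A k t

lemma mem_range_reindexMap (σ : κ → ι) (hσ : Function.Surjective σ)
    (f : ∀ k, γ k →ₗ[A] β (σ k)) (u : DirectSum ι β)
    (h : ∀ k, u (σ k) ∈ LinearMap.range (f k)) : u ∈ LinearMap.range (reindexMap σ f) := by
  classical
  rw [← DirectSum.sum_support_of u]
  refine Submodule.sum_mem _ fun i _ => ?_
  obtain ⟨k, rfl⟩ := hσ i
  obtain ⟨c, hc⟩ := h k
  refine ⟨DirectSum.lof A κ γ k c, ?_⟩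
  rw [reindexMap_lof, hc]
  rfl

lemma reindexMap_surjective (σ : κ → ι) (hσ : Function.Surjective σ)
    (f : ∀ k, γ k →ₗ[A] β (σ k)) (hf : ∀ k, Function.Surjective (f k)) :
    Function.Surjective (reindexMap σ f) := fun u =>
  mem_range_reindexMap σ hσ f u fun k => LinearMap.mem_range.2 (hf k _)

end directSum

end Groth.Agent.Lib.Helper19Kun
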