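import Mathlib
import Groth.Agent.Lib.Helper19KunD
import Groth.Agent.Lib.Helper19KunE
import Groth.Agent.Lib.Helper1KF3
set_option backward.isDefEq.respectTransparency.types false

/-!
# The Künneth filtration (helper19)

`filt`: for `L` a complex of flat modules vanishing in degrees `> b` and `M` vanishing in degrees `> c`,
the cohomology `H^n(L ⊗ M)` has a finite increasing filtration starting at the image of the Künneth map
whose successive quotients are subquotients of the sums of `Tor_{p+1}(H^i(L), H^j(M))`.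
-/

set_option autoImplicit false
universe u
open CategoryTheory CategoryTheory.Limits MonoidalCategory HomologicalComplex TensorProduct
open Groth.Agent.Lib.Helper1.KF

namespace Groth.Agent.Lib.Helper19Kun

variable {A : Type u} [CommRing A]

section linalg

variable {H H' T : Type u} [AddCommGroup H] [Module A H] [AddCommGroup H'] [Module A H']
  [AddCommGroup T] [Module A T]

lemma isSubquotient_grSucc_zero (F0 F1 : Submodule A H) (δ : H →ₗ[A] H')
    (h1 : ∀ x ∈ F0, δ x = 0) (h2 : ∀ x ∈ F1, δ x = 0 → x ∈ F0) (g : T →ₗ[A] H')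
    (h3 : ∀ x ∈ F1, δ x ∈ LinearMap.range g) :
    HTor.IsSubquotient A (↥F1 ⧸ Submodule.comap F1.subtype F0) T := by
  have hT : HTor.IsSubquotient A (↥(LinearMap.range g)) T :=
    isSubquotient_of_surjective g.rangeRestrict g.surjective_rangeRestrict
  let φ : ↥F1 →ₗ[A] ↥(LinearMap.range g) :=
    (δ.domRestrict F1).codRestrict (LinearMap.range g) (fun x => h3 x.1 x.2)
  have hφ : Submodule.comap F1.subtype F0 ≤ LinearMap.ker φ := by
    intro x hx
    rw [LinearMap.mem_ker]
    exact Subtype.ext (h1 x.1 hx)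
  refine isSubquotient_of_injective (Submodule.liftQ _ φ hφ) ?_ hT
  rw [← LinearMap.ker_eq_bot]
  apply Submodule.ker_liftQ_eq_bot
  intro x hx
  rw [LinearMap.mem_ker] at hx
  exact h2 x.1 x.2 (congrArg Subtype.val hx)

lemma isSubquotient_grSucc_comap (G0 G1 : Submodule A H') (δ : H →ₗ[A] H')
    (h : HTor.IsSubquotient A (↥G1 ⧸ Submodule.comap G1.subtype G0) T) :
    HTor.IsSubquotient A (↥(Submodule.comap δ G1) ⧸
      Submodule.comap (Submodule.comap δ G1).subtype (Submodule.comap δ G0)) T := by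
  let φ : ↥(Submodule.comap δ G1) →ₗ[A] ↥G1 ⧸ Submodule.comap G1.subtype G0 :=
    (Submodule.comap G1.subtype G0).mkQ ∘ₗ
      (δ.restrict (p := Submodule.comap δ G1) (q := G1) (fun x hx => hx))
  have hφ : Submodule.comap (Submodule.comap δ G1).subtype (Submodule.comap δ G0) ≤
      LinearMap.ker φ := by
    intro x hx
    rw [LinearMap.mem_ker]
    simp only [φ, LinearMap.comp_apply, Submodule.mkQ_apply, Submodule.Quotient.mk_eq_zero]
    exact hx
  refine isSubquotient_of_injective (Submodule.liftQ _ φ hφ) ?_ h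
  rw [← LinearMap.ker_eq_bot]
  apply Submodule.ker_liftQ_eq_bot
  intro x hx
  rw [LinearMap.mem_ker] at hx
  simp only [φ, LinearMap.comp_apply, Submodule.mkQ_apply, Submodule.Quotient.mk_eq_zero] at hx
  exact hx

end linalg

/-- the filtration statement -/
def Filt (L M : Cx A) (n : ℤ) (d : ℕ) : Prop :=
  ∃ F : ℕ → Submodule A ((L ⊗ M).homology n : ModuleCat.{u} A),
    F 0 = LinearMap.range (kun L M n) ∧ Monotone F ∧ F d = ⊤ ∧
      ∀ p : ℕ, HTor.IsSubquotient A (HTor.grSucc F p) (HTor.TorSum L M n (p + 1))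

lemma isZero_tensor_X' (L M : Cx A) (n : ℤ)
    (h : ∀ p q : ℤ, p + q = n → IsZero (L.X p) ∨ IsZero (M.X q)) : IsZero ((L ⊗ M).X n) := by
  rw [IsZero.iff_id_eq_zero]
  apply tensor_hom_ext
  intro p q hpq
  have hz : IsZero (L.X p ⊗ M.X q) := by
    rcases h p q hpq with h1 | h1
    · have := ModuleCat.subsingleton_of_isZero h1
      have : Subsingleton (TensorProduct A (L.X p) (M.X q)) := inferInstance
      exact ModuleCat.isZero_of_subsingleton (L.X p ⊗ M.X q)
    · have := ModuleCat.subsingleton_of_isZero h1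
      have : Subsingleton (TensorProduct A (L.X p) (M.X q)) := inferInstance
      exact ModuleCat.isZero_of_subsingleton (L.X p ⊗ M.X q)
  exact hz.eq_of_src _ _

lemma subsingleton_homology_of_isZero_X (K : Cx A) (n : ℤ) (h : IsZero (K.X n)) :
    Subsingleton (K.homology n) := by
  have := ModuleCat.subsingleton_of_isZero h
  refine ⟨fun x y => ?_⟩
  obtain ⟨z, rfl⟩ := homologyπ_surjective K n x
  obtain ⟨z', rfl⟩ := homologyπ_surjective K n y
  congr 1
  apply iCycles_injective K n
  exact Subsingleton.elim _ _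

lemma filt_of_subsingleton (L M : Cx A) (n : ℤ) (d : ℕ)
    (h : Subsingleton ((L ⊗ M).homology n : ModuleCat.{u} A)) : Filt L M n d := by
  refine ⟨fun _ => ⊤, Subsingleton.elim _ _, fun _ _ _ => le_rfl, rfl, fun p => ?_⟩
  refine isSubquotient_of_surjective 0 fun x => ⟨0, Subsingleton.elim _ _⟩


section step

variable (L M : Cx A) (n : ℤ)

lemma syzSC_tensor_shortExact (hfl : ∀ i, Module.Flat A (L.X i)) :
    ((syzSC L).map (tensorRight M)).ShortExact :=
  tensorRight_shortExact_of_termwiseFlat M (syzSC L) (syzSC_shortExact L) hfl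

lemma ksMap_Pπ_surjective : Function.Surjective (ksMap M n (Pπ L)) := by
  rw [ksMap, DirectSum.lmap_surjective]
  intro k
  exact LinearMap.rTensor_surjective _ (homologyMap_Pπ_surjective L k.1.1)

lemma range_homologyMap_Pπ_eq :
    LinearMap.range (homologyMap (Pπ L ▷ M) n).hom = LinearMap.range (kun L M n) := by
  have nat := kun_naturality M n (Pπ L)
  apply le_antisymm
  · rintro _ ⟨y, rfl⟩
    obtain ⟨y', rfl⟩ := (kun_bijective_Pcx L M n).2 y
    exact ⟨ksMap M n (Pπ L) y', congrArg (fun φ => φ y') nat⟩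
  · rintro _ ⟨y, rfl⟩
    obtain ⟨y', rfl⟩ := ksMap_Pπ_surjective L M n y
    exact ⟨kun (Pcx L) M n y', (congrArg (fun φ => φ y') nat).symm⟩

lemma ksMap_apply {L L' : Cx A} (g : L ⟶ L') (y : HTor.KunnethSum L M n) (k : HTor.Antidiag n) :
    (ksMap M n g y) k =
      LinearMap.rTensor (M.homology k.1.2) (homologyMap g k.1.1).hom (y k) := rfl

/-- reindexing from the index set of `TorSum _ _ n 1` to the antidiagonal of `n + 1` -/
abbrev torIdx (n : ℤ) (k : {ij : ℤ × ℤ // ij.1 + ij.2 - ((1 : ℕ) : ℤ) = n}) : HTor.Antidiag (n + 1) :=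
  ⟨k.1, by have := k.2; push_cast at this; omega⟩

lemma torIdx_surjective (n : ℤ) : Function.Surjective (torIdx n) := fun k =>
  ⟨⟨k.1, by have := k.2; push_cast; omega⟩, rfl⟩

/-- the kernel of `⊕ H^i(K) ⊗ H^j(M) → ⊕ H^i(P) ⊗ H^j(M)` is covered by the sum of the `Tor_1` -/
lemma exists_torSum_one_map :
    ∃ g : HTor.TorSum L M n 1 →ₗ[A] HTor.KunnethSum (Kcx L) M (n + 1),
      LinearMap.ker (ksMap M (n + 1) (Kι L)) ≤ LinearMap.range g := by
  have hex : ∀ k : {ij : ℤ × ℤ // ij.1 + ij.2 - ((1 : ℕ) : ℤ) = n},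
      ∃ κ : DRing.Tor A 1 (L.homology k.1.1) (M.homology k.1.2) →ₗ[A]
        KFam (Kcx L) M (n + 1) (torIdx n k),
        LinearMap.range κ = LinearMap.ker
          (LinearMap.rTensor (M.homology k.1.2) (homologyMap (Kι L) k.1.1).hom) := fun k =>
    exists_kappa (syzH L k.1.1) (syzH_shortExact L k.1.1) (M.homology k.1.2)
  choose κ hκ using hex
  refine ⟨reindexMap (β := KFam (Kcx L) M (n + 1)) (torIdx n) κ, ?_⟩
  intro y hy
  rw [LinearMap.mem_ker] at hy
  refine mem_range_reindexMap (β := KFam (Kcx L) M (n + 1)) (torIdx n) (torIdx_surjective n) κ y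
    fun k => ?_
  have h0 : LinearMap.rTensor (M.homology k.1.2) (homologyMap (Kι L) k.1.1).hom
      (y (torIdx n k)) = 0 := by
    have := ksMap_apply M (n + 1) (Kι L) y (torIdx n k)
    rw [hy] at this
    exact this.symm
  have hmem : y (torIdx n k) ∈ LinearMap.ker
      (LinearMap.rTensor (M.homology k.1.2) (homologyMap (Kι L) k.1.1).hom) :=
    LinearMap.mem_ker.2 h0
  rw [← hκ k] at hmem
  exact hmem

/-- dimension shifting for the sums of `Tor` -/
lemma exists_torSum_shift_surjective (p : ℕ) :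
    ∃ g : HTor.TorSum L M n (p + 1 + 1) →ₗ[A] HTor.TorSum (Kcx L) M (n + 1) (p + 1),
      Function.Surjective g := by
  let σ : {ij : ℤ × ℤ // ij.1 + ij.2 - ((p + 1 + 1 : ℕ) : ℤ) = n} →
      {ij : ℤ × ℤ // ij.1 + ij.2 - ((p + 1 : ℕ) : ℤ) = n + 1} :=
    fun k => ⟨k.1, by have := k.2; push_cast at this ⊢; omega⟩
  have hσ : Function.Surjective σ := fun k =>
    ⟨⟨k.1, by have := k.2; push_cast at this ⊢; omega⟩, rfl⟩
  have hiso : ∀ k : {ij : ℤ × ℤ // ij.1 + ij.2 - ((p + 1 + 1 : ℕ) : ℤ) = n},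
      Nonempty (((Tor (ModuleCat.{u} A) (p + 2)).obj (syzH L k.1.1).X₃).obj (M.homology k.1.2) ≅
        ((Tor (ModuleCat.{u} A) (p + 1)).obj (syzH L k.1.1).X₁).obj (M.homology k.1.2)) := by
    intro k
    have : Module.Flat A (syzH L k.1.1).X₂ := flat_homology_Pcx L k.1.1
    exact nonempty_tor_shift_iso (syzH L k.1.1) (syzH_shortExact L k.1.1) (M.homology k.1.2) p
  let e := fun k => (hiso k).some
  refine ⟨reindexMap (β := fun ij : {ij : ℤ × ℤ // ij.1 + ij.2 - ((p + 1 : ℕ) : ℤ) = n + 1} =>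
    DRing.Tor A (p + 1) ((Kcx L).homology ij.1.1) (M.homology ij.1.2)) σ
      (fun k => (e k).hom.hom), ?_⟩
  apply reindexMap_surjective _ hσ
  intro k
  exact (ConcreteCategory.bijective_of_isIso (e k).hom).2

theorem filt_step (hfl : ∀ i, Module.Flat A (L.X i)) (d : ℕ)
    (h : Filt (Kcx L) M (n + 1) d) : Filt L M n (d + 1) := by
  obtain ⟨F', h0', hmono', htop', hsub'⟩ := h
  have hT := syzSC_tensor_shortExact L M hfl
  let δ : ((L ⊗ M).homology n : ModuleCat.{u} A) →ₗ[A]
      ((Kcx L ⊗ M).homology (n + 1) : ModuleCat.{u} A) := (hT.δ n (n + 1) rfl).hom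
  have hb : Function.Exact (homologyMap (Pπ L ▷ M) n).hom δ :=
    (ShortComplex.ShortExact.moduleCat_exact_iff_function_exact _).1
      (hT.homology_exact₃ n (n + 1) rfl)
  have hc : Function.Exact δ (homologyMap (Kι L ▷ M) (n + 1)).hom :=
    (ShortComplex.ShortExact.moduleCat_exact_iff_function_exact _).1
      (hT.homology_exact₁ n (n + 1) rfl)
  have ha := range_homologyMap_Pπ_eq L M n
  -- `ker δ = range kun`
  have hker : ∀ x, δ x = 0 ↔ x ∈ LinearMap.range (kun L M n) := by
    intro x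
    rw [← ha]
    exact hb x
  let F : ℕ → Submodule A ((L ⊗ M).homology n : ModuleCat.{u} A) := fun p =>
    Nat.casesOn p (LinearMap.range (kun L M n)) (fun p => (F' p).comap δ)
  have hF0 : F 0 = LinearMap.range (kun L M n) := rfl
  have hFs : ∀ p, F (p + 1) = (F' p).comap δ := fun p => rfl
  refine ⟨F, hF0, ?_, ?_, ?_⟩
  · apply monotone_nat_of_le_succ
    intro p
    cases p with
    | zero =>
      rw [hF0, hFs]
      intro x hx
      rw [Submodule.mem_comap, (hker x).2 hx]
      exact Submodule.zero_mem _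
    | succ p =>
      rw [hFs, hFs]
      exact Submodule.comap_mono (hmono' (Nat.le_succ p))
  · rw [hFs, htop', Submodule.comap_top]
  · intro p
    cases p with
    | zero =>
      obtain ⟨g, hg⟩ := exists_torSum_one_map L M n
      have h3 : ∀ x ∈ F 1, δ x ∈ LinearMap.range (kun (Kcx L) M (n + 1) ∘ₗ g) := by
        intro x hx
        have hx' : δ x ∈ F' 0 := hx
        rw [h0'] at hx'
        obtain ⟨y, hy⟩ := hx'
        have h1 : (homologyMap (Kι L ▷ M) (n + 1)).hom (δ x) = 0 := (hc (δ x)).2 ⟨x, rfl⟩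
        have nat := kun_naturality M (n + 1) (Kι L)
        have h2 : kun (Pcx L) M (n + 1) (ksMap M (n + 1) (Kι L) y) = 0 := by
          have := congrArg (fun φ => φ y) nat
          simp only [LinearMap.comp_apply] at this
          rw [this, hy, h1]
        have h4 : ksMap M (n + 1) (Kι L) y = 0 :=
          (kun_bijective_Pcx L M (n + 1)).1 (h2.trans (map_zero _).symm)
        obtain ⟨t, ht⟩ := hg (LinearMap.mem_ker.2 h4)
        exact ⟨t, by rw [LinearMap.comp_apply, ht, hy]⟩
      exact isSubquotient_grSucc_zero (F 0) (F 1) δ (fun x hx => (hker x).2 hx)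
        (fun x _ hx => (hker x).1 hx) _ h3
    | succ p =>
      obtain ⟨g, hg⟩ := exists_torSum_shift_surjective L M n p
      have h1 := isSubquotient_of_surjective_target g hg (hsub' p)
      exact isSubquotient_grSucc_comap (F' p) (F' (p + 1)) δ h1

end step


/-- **The Künneth filtration.** -/
theorem filt (M : Cx A) (c : ℤ) (hM : ∀ j : ℤ, c < j → IsZero (M.X j)) :
    ∀ (d : ℕ) (L : Cx A) (_ : ∀ i, Module.Flat A (L.X i)) (b : ℤ)
      (_ : ∀ i : ℤ, b < i → IsZero (L.X i)) (n : ℤ), b + c < n + d → Filt L M n d := by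
  intro d
  induction d with
  | zero =>
    intro L _ b hb n hn
    apply filt_of_subsingleton
    apply subsingleton_homology_of_isZero_X
    apply isZero_tensor_X'
    intro p q hpq
    by_cases hp : b < p
    · exact Or.inl (hb p hp)
    · exact Or.inr (hM q (by push_cast at hn; omega))
  | succ d ih =>
    intro L hfl b hb n hn
    apply filt_step L M n hfl d
    exact ih (Kcx L) (flat_Kcx_X L hfl) b (isZero_Kcx_X L b hb) (n + 1) (by push_cast at hn ⊢; omega)

end Groth.Agent.Lib.Helper19Kun
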