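import Mathlib
import Groth.Agent.Lib.Helper19KunF
set_option backward.isDefEq.respectTransparency.types false

/-!
# Consequences of the Künneth filtration (helper19)

* `subsingleton_homology_of_filt`: vanishing of `H^n(L ⊗ M)` when all the `Tor` terms vanish;
* `kun_surjective_of_filt`, `kun_bijective_of_flat_homology`: the Künneth formula when the
  cohomology of `L` is flat.
-/

set_option autoImplicit false
universe u
open CategoryTheory CategoryTheory.Limits MonoidalCategory HomologicalComplex TensorProduct
open Groth.Agent.Lib.Helper1.KF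

namespace Groth.Agent.Lib.Helper19Kun

variable {A : Type u} [CommRing A]

lemma subsingleton_directSum {ι : Type} {β : ι → Type u} [∀ i, AddCommGroup (β i)]
    (h : ∀ i, Subsingleton (β i)) : Subsingleton (DirectSum ι β) :=
  ⟨fun _ _ => DFinsupp.ext fun _ => Subsingleton.elim _ _⟩

lemma subsingleton_of_isSubquotient {N T : Type u} [AddCommGroup N] [Module A N]
    [AddCommGroup T] [Module A T] (h : HTor.IsSubquotient A N T) [Subsingleton T] :
    Subsingleton N := by
  obtain ⟨S, S', -, ⟨e⟩⟩ := h
  exact e.toEquiv.subsingleton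

lemma le_of_subsingleton_grSucc {H : Type u} [AddCommGroup H] [Module A H]
    (F : ℕ → Submodule A H) (p : ℕ) (h : Subsingleton (HTor.grSucc F p)) : F (p + 1) ≤ F p := by
  intro x hx
  have : (Submodule.Quotient.mk (⟨x, hx⟩ : ↥(F (p + 1))) : HTor.grSucc F p) = 0 :=
    Subsingleton.elim _ _
  rw [Submodule.Quotient.mk_eq_zero] at this
  exact this

variable (L M : Cx A) (n : ℤ)

lemma filt_eq_zero_of_subsingleton_torSum {d : ℕ} (h : Filt L M n d)
    (hT : ∀ p : ℕ, Subsingleton (HTor.TorSum L M n (p + 1))) :
    LinearMap.range (kun L M n) = ⊤ := by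
  obtain ⟨F, h0, hmono, htop, hsub⟩ := h
  have hle : ∀ p, F p ≤ F 0 := by
    intro p
    induction p with
    | zero => exact le_rfl
    | succ p ih =>
      have := hT p
      have hs : Subsingleton (HTor.grSucc F p) := subsingleton_of_isSubquotient (hsub p)
      exact (le_of_subsingleton_grSucc F p hs).trans ih
  rw [← h0]
  exact top_le_iff.1 (htop ▸ hle d)

lemma kun_surjective_of_filt {d : ℕ} (h : Filt L M n d)
    (hT : ∀ p : ℕ, Subsingleton (HTor.TorSum L M n (p + 1))) :
    Function.Surjective (kun L M n) :=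
  LinearMap.range_eq_top.1 (filt_eq_zero_of_subsingleton_torSum L M n h hT)

lemma subsingleton_homology_of_filt {d : ℕ} (h : Filt L M n d)
    (h0 : Subsingleton (HTor.KunnethSum L M n))
    (hT : ∀ p : ℕ, Subsingleton (HTor.TorSum L M n (p + 1))) :
    Subsingleton ((L ⊗ M).homology n : ModuleCat.{u} A) := by
  have hs := kun_surjective_of_filt L M n h hT
  exact hs.subsingleton

lemma subsingleton_torSum_of_flat_homology (hH : ∀ i, Module.Flat A (L.homology i)) (p : ℕ) :
    Subsingleton (HTor.TorSum L M n (p + 1)) := by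
  apply subsingleton_directSum
  intro k
  have := hH k.1.1
  exact ModuleCat.subsingleton_of_isZero
    (Groth.Agent.Helper13Tor.isZero_tor_of_flat (M.homology k.1.2) (L.homology k.1.1) (p + 1)
      (by omega))

lemma flat_homology_Kcx (hH : ∀ i, Module.Flat A (L.homology i)) (i : ℤ) :
    Module.Flat A ((Kcx L).homology i) := by
  have h := syzH_shortExact L i
  have := hH i
  have := flat_homology_Pcx L i
  have hinj : Function.Injective (homologyMap (Kι L) i).hom :=
    (ModuleCat.mono_iff_injective _).1 h.mono_f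
  have hsurj : Function.Surjective (homologyMap (Pπ L) i).hom :=
    (ModuleCat.epi_iff_surjective _).1 h.epi_g
  have hex : Function.Exact (homologyMap (Kι L) i).hom (homologyMap (Pπ L) i).hom :=
    (ShortComplex.ShortExact.moduleCat_exact_iff_function_exact _).1 h.exact
  exact Groth.Agent.Lib.Helper3.flat_of_exact_of_flat_mid_right _ _ hinj hsurj hex

/-- **Künneth formula** for a bounded above complex of flat modules with flat cohomology. -/
theorem kun_bijective_of_flat_homology (hfl : ∀ i, Module.Flat A (L.X i)) (b : ℤ)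
    (hb : ∀ i : ℤ, b < i → IsZero (L.X i)) (c : ℤ) (hc : ∀ j : ℤ, c < j → IsZero (M.X j))
    (hH : ∀ i, Module.Flat A (L.homology i)) : Function.Bijective (kun L M n) := by
  have hsurj : ∀ (L' : Cx A), (∀ i, Module.Flat A (L'.X i)) →
      (∀ i : ℤ, b < i → IsZero (L'.X i)) → (∀ i, Module.Flat A (L'.homology i)) →
      Function.Surjective (kun L' M n) := fun L' h1 h2 h3 =>
    kun_surjective_of_filt L' M n
      (filt M c hc (b + c - n + 1).toNat L' h1 b h2 n (by omega))
      (subsingleton_torSum_of_flat_homology L' M n h3)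
  refine ⟨?_, hsurj L hfl hb hH⟩
  rw [injective_iff_map_eq_zero]
  intro x hx
  obtain ⟨y, rfl⟩ := ksMap_Pπ_surjective L M n x
  have hT := syzSC_tensor_shortExact L M hfl
  have natπ := congrArg (fun φ => φ y) (kun_naturality M n (Pπ L))
  simp only [LinearMap.comp_apply] at natπ
  rw [natπ] at hx
  have hex : Function.Exact (homologyMap (Kι L ▷ M) n).hom (homologyMap (Pπ L ▷ M) n).hom :=
    (ShortComplex.ShortExact.moduleCat_exact_iff_function_exact _).1 (hT.homology_exact₂ n)
  obtain ⟨z, hz⟩ := (hex _).1 hx
  obtain ⟨w, rfl⟩ := hsurj (Kcx L) (flat_Kcx_X L hfl) (isZero_Kcx_X L b hb)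
    (flat_homology_Kcx L hH) z
  have natι := congrArg (fun φ => φ w) (kun_naturality M n (Kι L))
  simp only [LinearMap.comp_apply] at natι
  rw [← natι] at hz
  have hy : ksMap M n (Kι L) w = y := (kun_bijective_Pcx L M n).1 hz
  rw [← hy]
  apply DFinsupp.ext
  intro k
  rw [ksMap_apply, ksMap_apply]
  have h0 : (homologyMap (Pπ L) k.1.1).hom ∘ₗ (homologyMap (Kι L) k.1.1).hom = 0 := by
    rw [← ModuleCat.hom_comp, ← homologyMap_comp, Kι_Pπ, homologyMap_zero]
    rfl
  rw [← LinearMap.comp_apply, ← LinearMap.rTensor_comp, h0, LinearMap.rTensor_zero]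
  rfl

end Groth.Agent.Lib.Helper19Kun
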