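import Mathlib
import Groth.Agent.Lib.Helper13KzTor
import Groth.Agent.Lib.Helper13KzDescA

/-!
# Tor against the quotient by a Koszul-regular sequence; extension-closed classes (helper5)

* `nonempty_tor_iso_KH_of_koszulRegular`: for a Koszul-regular sequence `l` (not necessarily
  weakly regular), `Tor_n(A/(l), M) ≅ H^{-n}(K(l; M))`.
* `isZero_tor_quot_of_koszulRegular_map`: if the image of `l` in an `A`-algebra `A'` is again
  Koszul-regular then `Tor_i(A/(l), A') = 0` for `i ≥ 1`.
* `TorZ Y X`: the class of modules `X` with `Tor_i(X, Y) = 0` for all `i ≥ 1`, and its closure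
  properties; `TorZ.of_basis_mod`: it contains every module which is free over `A/J` on a finite
  family, if it contains `A/J`.
-/

set_option autoImplicit false
universe u

namespace Groth.Agent.Lib.Helper5.KzTor

open CategoryTheory CochainComplex MonoidalCategory CohIII
open Groth.Agent.Helper13Kz Groth.Agent.Helper13Tor Groth.Agent.Helper13KzLift
  Groth.Agent.Helper13KzDesc Groth.Agent.Lib.Helper21

variable {A : Type u} [CommRing A]

/-- Koszul homology of a Koszul-regular sequence with flat coefficients vanishes off degree `0` -/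
theorem isZero_KH_of_flat (l : List A) (hl : LCI.IsKoszulRegularSeq A l) (X : ModuleCat.{u} A)
    [Module.Flat A X] (i : ℤ) (hi : i ≠ 0) :
    Limits.IsZero ((koszulCx X l).homology i) := by
  rw [isKoszulRegularSeq_iff] at hl
  obtain ⟨e⟩ := nonempty_homology_tensor_iso X (ModuleCat.of A A) l i
  have h1 : Limits.IsZero ((koszulCx (ModuleCat.of A A) l).homology i ⊗ X) := by
    haveI : Subsingleton ((koszulCx (ModuleCat.of A A) l).homology i) := hl i hi
    haveI : Subsingleton (TensorProduct A ((koszulCx (ModuleCat.of A A) l).homology i) X) :=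
      inferInstance
    exact ModuleCat.isZero_of_subsingleton _
  have h2 := h1.of_iso e
  let e3 : koszulCx X l ≅ koszulCx (ModuleCat.of A A ⊗ X) l := (KF l).mapIso (λ_ X).symm
  exact h2.of_iso ((HomologicalComplex.homologyFunctor _ _ i).mapIso e3)

theorem isEffDelta_TK_of_koszulRegular (l : List A) (hl : LCI.IsKoszulRegularSeq A l) :
    Helper13Delta.IsEffDelta (TK l) where
  exists_δ S hS n := by
    have hf : Function.Injective S.f.hom := (ModuleCat.mono_iff_injective _).mp hS.mono_f
    have hg : Function.Surjective S.g.hom := (ModuleCat.epi_iff_surjective _).mp hS.epi_g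
    have hfg : Function.Exact S.f.hom S.g.hom :=
      (ShortComplex.ShortExact.moduleCat_exact_iff_function_exact S).mp hS.exact
    have hK := koszul_shortExact S.f S.g hf hg hfg l
    have hij : (ComplexShape.up ℤ).Rel (-((n + 1 : ℕ) : ℤ)) (-(n : ℤ)) := by
      show -((n + 1 : ℕ) : ℤ) + 1 = -(n : ℤ)
      push_cast
      ring
    exact ⟨hK.δ _ _ hij, hK.comp_δ _ _ hij, hK.δ_comp _ _ hij, hK.homology_exact₃ _ _ hij,
      hK.homology_exact₁ _ _ hij⟩
  isZero_of_projective X _ n := by
    have : Module.Flat A X := inferInstance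
    refine isZero_KH_of_flat l hl X _ ?_
    push_cast
    omega

/-- **Koszul homology of a Koszul-regular sequence computes Tor**. -/
theorem nonempty_tor_iso_KH_of_koszulRegular (l : List A) (hl : LCI.IsKoszulRegularSeq A l)
    (M : ModuleCat.{u} A) (n : ℕ) :
    Nonempty (((Tor (ModuleCat.{u} A) n).obj (ModuleCat.of A (A ⧸ Ideal.ofList l))).obj M ≅
      (koszulCx M l).homology (-(n : ℤ))) := by
  obtain ⟨e⟩ := nonempty_TK_zero_iso (A := A) l
  let P : ProjectiveResolution M := ProjectiveResolution.of M
  obtain ⟨e2⟩ := Helper13Delta.nonempty_iso (isEffDelta_TK_of_koszulRegular l hl) _ e P n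
  exact ⟨torIso P _ n ≪≫ e2.symm⟩

theorem isZero_tor_quot_of_koszulRegular_map (A' : Type u) [CommRing A'] [Algebra A A']
    (l : List A) (hl : LCI.IsKoszulRegularSeq A l)
    (hl' : LCI.IsKoszulRegularSeq A' (l.map (algebraMap A A'))) (i : ℕ) (hi : 1 ≤ i) :
    Limits.IsZero (((Tor (ModuleCat.{u} A) i).obj (ModuleCat.of A (A ⧸ Ideal.ofList l))).obj
      (ModuleCat.of A A')) := by
  obtain ⟨e⟩ := nonempty_tor_iso_KH_of_koszulRegular l hl (ModuleCat.of A A') i
  refine Limits.IsZero.of_iso ?_ e
  have h := subsingleton_KH_tensor_of_isKoszulRegularSeq A' l hl' (-(i : ℤ)) (by omega)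
  have h2 := subsingleton_KH_of_equiv l (TensorProduct.lid A A') (-(i : ℤ)) h
  exact ModuleCat.isZero_of_subsingleton _

/-! ### The class of modules with vanishing higher Tor against `Y` -/

/-- `Tor_i(X, Y) = 0` for all `i ≥ 1` -/
def TorZ (Y X : ModuleCat.{u} A) : Prop :=
  ∀ i : ℕ, 1 ≤ i → Limits.IsZero (((Tor (ModuleCat.{u} A) i).obj X).obj Y)

namespace TorZ

variable {Y : ModuleCat.{u} A}

theorem of_iso {X X' : ModuleCat.{u} A} (e : X ≅ X') (h : TorZ Y X) : TorZ Y X' := fun i hi =>
  (h i hi).of_iso ((((Tor (ModuleCat.{u} A) i).mapIso e).app Y).symm)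

theorem ext (S : ShortComplex (ModuleCat.{u} A)) (hS : S.ShortExact) (h1 : TorZ Y S.X₁)
    (h3 : TorZ Y S.X₃) : TorZ Y S.X₂ := fun i hi =>
  isZero_tor_X₂ S hS Y i (h1 i hi) (h3 i hi)

theorem ker (S : ShortComplex (ModuleCat.{u} A)) (hS : S.ShortExact) (h2 : TorZ Y S.X₂)
    (h3 : TorZ Y S.X₃) : TorZ Y S.X₁ := fun i hi =>
  isZero_tor_X₁ S hS Y i (h3 (i + 1) (by omega)) (h2 i hi)

theorem of_flat (X : ModuleCat.{u} A) [Module.Flat A X] : TorZ Y X := fun i hi =>
  isZero_tor_of_flat Y X i (by omega)

theorem of_subsingleton (X : ModuleCat.{u} A) [Subsingleton X] : TorZ Y X := by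
  haveI : Module.Free A X := Module.Free.of_subsingleton A X
  exact of_flat X

/-- the short exact sequence `0 → N → G → G/N → 0` -/
noncomputable abbrev subSC {G : Type u} [AddCommGroup G] [Module A G] (N : Submodule A G) :
    ShortComplex (ModuleCat.{u} A) :=
  ModuleCat.shortComplexOfCompEqZero (Submodule.subtype N) (Submodule.mkQ N)
    (LinearMap.ext fun x => (Submodule.Quotient.mk_eq_zero N).mpr x.2)

lemma subSC_shortExact {G : Type u} [AddCommGroup G] [Module A G] (N : Submodule A G) :
    (subSC N).ShortExact := by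
  refine ModuleCat.shortComplex_shortExact _ ?_ ?_ ?_
  · exact LinearMap.exact_subtype_mkQ N
  · exact Subtype.val_injective
  · exact Submodule.mkQ_surjective N

/-- A module with a finite family `g` which is a basis modulo `J` (and killed by `J`) lies in the
class as soon as `A/J` does. -/
theorem of_basis_mod (J : Ideal A) (hJ : TorZ Y (ModuleCat.of A (A ⧸ J))) :
    ∀ (N : ℕ) (G : Type u) [AddCommGroup G] [Module A G] (g : Fin N → G),
      (∀ a ∈ J, ∀ k, a • g k = 0) →
      (∀ c : Fin N → A, ∑ k, c k • g k = 0 → ∀ k, c k ∈ J) →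
      Submodule.span A (Set.range g) = ⊤ → TorZ Y (ModuleCat.of A G) := by
  intro N
  induction N with
  | zero =>
    intro G _ _ g _ _ hspan
    have hbt : (⊤ : Submodule A G) = ⊥ := by
      rw [← hspan]
      have : Set.range g = ∅ := Set.range_eq_empty g
      rw [this, Submodule.span_empty]
    haveI : Subsingleton G := by
      refine ⟨fun a b => ?_⟩
      have ha : a ∈ (⊤ : Submodule A G) := Submodule.mem_top
      have hb : b ∈ (⊤ : Submodule A G) := Submodule.mem_top
      rw [hbt] at ha hb
      rw [(Submodule.mem_bot A).mp ha, (Submodule.mem_bot A).mp hb]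
    exact of_subsingleton (ModuleCat.of A G)
  | succ N ih =>
    intro G _ _ g h1 h2 hspan
    let G' : Submodule A G := Submodule.span A (Set.range (fun k : Fin N => g k.castSucc))
    let g' : Fin N → G' := fun k => ⟨g k.castSucc, Submodule.subset_span ⟨k, rfl⟩⟩
    have hG' : TorZ Y (ModuleCat.of A G') := by
      refine ih G' g' ?_ ?_ ?_
      · intro a ha k
        apply Subtype.ext
        exact h1 a ha k.castSucc
      · intro c hc k
        have hc' : ∑ j : Fin (N + 1), (Fin.lastCases (0 : A) c j : A) • g j = 0 := by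
          rw [Fin.sum_univ_castSucc]
          simp only [Fin.lastCases_castSucc, Fin.lastCases_last, zero_smul, add_zero]
          have h3 := congrArg (Submodule.subtype G') hc
          rw [map_sum, map_zero] at h3
          simpa [g'] using h3
        have h4 := h2 _ hc' k.castSucc
        simpa using h4
      · rw [eq_top_iff]
        rintro ⟨x, hx⟩ -
        refine Submodule.span_induction
          (p := fun x hx => (⟨x, hx⟩ : G') ∈ Submodule.span A (Set.range g')) ?_ ?_ ?_ ?_ hx
        · rintro _ ⟨k, rfl⟩
          exact Submodule.subset_span ⟨k, rfl⟩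
        · exact Submodule.zero_mem _
        · intro x y hx hy hx' hy'
          exact Submodule.add_mem _ hx' hy'
        · intro a x hx hx'
          exact Submodule.smul_mem _ a hx'
    -- the quotient `G/G'` is `A/J`
    let φ : A →ₗ[A] G ⧸ G' := G'.mkQ ∘ₗ LinearMap.toSpanSingleton A G (g (Fin.last N))
    have hφsurj : Function.Surjective φ := by
      have hle : Submodule.span A (Set.range g) ≤ (LinearMap.range φ).comap G'.mkQ := by
        rw [Submodule.span_le]
        rintro _ ⟨j, rfl⟩
        show G'.mkQ (g j) ∈ LinearMap.range φ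
        refine Fin.lastCases ?_ (fun k => ?_) j
        · exact ⟨1, by simp [φ]⟩
        · refine ⟨0, ?_⟩
          rw [map_zero]
          exact ((Submodule.Quotient.mk_eq_zero G').mpr (Submodule.subset_span ⟨k, rfl⟩)).symm
      intro y
      obtain ⟨x, rfl⟩ := Submodule.mkQ_surjective G' y
      have hx : x ∈ Submodule.span A (Set.range g) := by rw [hspan]; exact Submodule.mem_top
      exact hle hx
    have hφker : LinearMap.ker φ = J := by
      ext a
      rw [LinearMap.mem_ker]
      constructor
      · intro ha
        have ha' : a • g (Fin.last N) ∈ G' := by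
          have : G'.mkQ (a • g (Fin.last N)) = 0 := by simpa [φ] using ha
          exact (Submodule.Quotient.mk_eq_zero G').mp this
        obtain ⟨c, hc⟩ := (Submodule.mem_span_range_iff_exists_fun A).mp ha'
        have hrel : ∑ j : Fin (N + 1), (Fin.lastCases a (fun k => -c k) j : A) • g j = 0 := by
          rw [Fin.sum_univ_castSucc]
          simp only [Fin.lastCases_castSucc, Fin.lastCases_last, neg_smul,
            Finset.sum_neg_distrib]
          rw [hc]
          exact neg_add_cancel _
        have := h2 _ hrel (Fin.last N)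
        simpa using this
      · intro ha
        show G'.mkQ (LinearMap.toSpanSingleton A G (g (Fin.last N)) a) = 0
        rw [LinearMap.toSpanSingleton_apply, h1 a ha, map_zero]
    let e : (A ⧸ J) ≃ₗ[A] (G ⧸ G') :=
      (Submodule.quotEquivOfEq J (LinearMap.ker φ) hφker.symm).trans
        (φ.quotKerEquivOfSurjective hφsurj)
    have hQ : TorZ Y (ModuleCat.of A (G ⧸ G')) := of_iso e.toModuleIso hJ
    exact ext (subSC G') (subSC_shortExact G') hG' hQ

end TorZ

end Groth.Agent.Lib.Helper5.KzTor
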