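import Mathlib
import Groth.Agent.Lib.Helper13KzPerm
import Groth.Agent.Lib.Helper13KzConcat
import Groth.Agent.Lib.Helper5KzTorA
import Groth.Agent.Lib.Helper19ExtPowQuot

/-!
# `Tor_n(A/(f,g), A/(f,h))` for Koszul-regular `f++g`, `f++h`, `f++g++h` (helper19)

`Tor_n(A/(f,g), A/(f,h)) ≃ (A/(f,g,h))^(|f| choose n)`, hence `Tor_n ≅ ⋀^n Tor_1` for `n ≥ 1`.
-/

set_option autoImplicit false
universe u

namespace Groth.Agent.Lib.Helper19KzExtPow

open CategoryTheory CohIII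
open Groth.Agent.Helper13Kz Groth.Agent.Helper13KzPerm Groth.Agent.Helper13KzLift
  Groth.Agent.Helper13Tor

variable {A : Type u} [CommRing A]

theorem R_pos : ∀ (k : ℕ) (i : ℤ), 0 < i → R k i = 0
  | 0, i, hi => if_neg (by omega)
  | k + 1, i, hi => by
    show R k i + R k (i + 1) = 0
    rw [R_pos k i hi, R_pos k (i + 1) (by omega)]

theorem R_neg : ∀ (k n : ℕ), R k (-(n : ℤ)) = k.choose n
  | 0, 0 => by
    show (if (-((0 : ℕ) : ℤ)) = 0 then 1 else 0) = _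
    simp
  | 0, n + 1 => by
    show (if (-((n + 1 : ℕ) : ℤ)) = 0 then 1 else 0) = _
    rw [if_neg (by push_cast; omega)]
    simp
  | k + 1, 0 => by
    show R k (-((0 : ℕ) : ℤ)) + R k (-((0 : ℕ) : ℤ) + 1) = _
    rw [R_neg k 0, R_pos k _ (by simp)]
    simp
  | k + 1, n + 1 => by
    show R k (-((n + 1 : ℕ) : ℤ)) + R k (-((n + 1 : ℕ) : ℤ) + 1) = _
    have h : (-((n + 1 : ℕ) : ℤ) + 1) = -(n : ℤ) := by push_cast; ring
    rw [h, R_neg k (n + 1), R_neg k n, Nat.choose_succ_succ, add_comm]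

/-- `KH(g; A/(f,h))` is `A/(f,g,h)` in degree `0` and `0` elsewhere. -/
theorem isFreeAt_base (f g h : List A) (hfh : LCI.IsKoszulRegularSeq A (f ++ h))
    (hfgh : LCI.IsKoszulRegularSeq A (f ++ g ++ h)) (i : ℤ) :
    IsFreeAt (A ⧸ Ideal.ofList (f ++ h)) (Ideal.ofList (f ++ g ++ h)) g i PUnit.{u + 1}
      (R 0 i) := by
  have hfh' := (isKoszulRegularSeq_iff A (f ++ h)).1 hfh
  have hfgh' := (isKoszulRegularSeq_iff A (f ++ g ++ h)).1 hfgh
  obtain ⟨e1⟩ := nonempty_KH_append_equiv (f ++ h) g hfh' i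
  have hperm : (g ++ (f ++ h)).Perm (f ++ g ++ h) := by
    rw [← List.append_assoc]
    exact List.Perm.append_right h List.perm_append_comm
  obtain ⟨e2⟩ := nonempty_KH_equiv_of_perm A hperm i
  by_cases hi : i = 0
  · subst hi
    obtain ⟨π, hπ, hker⟩ := Groth.Agent.Helper13KzConcat.exists_surj_KH0 A (f ++ g ++ h)
    have hker' : LinearMap.ker π = Ideal.ofList (f ++ g ++ h) := by
      rw [hker, smul_eq_mul, Ideal.mul_top]
    let e3 : (A ⧸ LinearMap.ker π) ≃ₗ[A] KH (f ++ g ++ h) A 0 := π.quotKerEquivOfSurjective hπ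
    let e4 : KH (f ++ g ++ h) A 0 ≃ₗ[A] (A ⧸ Ideal.ofList (f ++ g ++ h)) :=
      e3.symm ≪≫ₗ Submodule.quotEquivOfEq _ _ hker'
    exact ⟨e1.symm ≪≫ₗ e2 ≪≫ₗ e4 ≪≫ₗ
      (LinearEquiv.funUnique (Fin 1) A (A ⧸ Ideal.ofList (f ++ g ++ h))).symm ≪≫ₗ
      LinearEquiv.uniqueProd.symm⟩
  · have h1 : Subsingleton (KH (f ++ g ++ h) A i) := hfgh' i hi
    have h2 : Subsingleton (KH g (A ⧸ Ideal.ofList (f ++ h)) i) :=
      (e1.symm ≪≫ₗ e2).toEquiv.subsingleton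
    show Nonempty (KH g (A ⧸ Ideal.ofList (f ++ h)) i ≃ₗ[A]
      PUnit.{u + 1} × (Fin (R 0 i) → A ⧸ Ideal.ofList (f ++ g ++ h)))
    rw [R_zero_of_ne hi]
    exact ⟨LinearEquiv.ofSubsingleton _ _⟩

/-- **The computation of `Tor_n(A/(f,g), A/(f,h))`.** -/
theorem nonempty_tor_equiv (f g h : List A) (hfg : LCI.IsKoszulRegularSeq A (f ++ g))
    (hfh : LCI.IsKoszulRegularSeq A (f ++ h)) (hfgh : LCI.IsKoszulRegularSeq A (f ++ g ++ h))
    (n : ℕ) :
    Nonempty ((((Tor (ModuleCat.{u} A) n).obj (ModuleCat.of A (A ⧸ Ideal.ofList (f ++ g)))).obj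
        (ModuleCat.of A (A ⧸ Ideal.ofList (f ++ h)))) ≃ₗ[A]
      (Fin (f.length.choose n) → A ⧸ Ideal.ofList (f ++ g ++ h))) := by
  have hI : ∀ a ∈ Ideal.ofList (f ++ g ++ h), ∀ (l' : List A) (i : ℤ)
      (z : KH (l' ++ g) (A ⧸ Ideal.ofList (f ++ h)) i), a • z = 0 := by
    intro a ha l' i z
    have hle : Ideal.ofList (f ++ g ++ h) ≤ Ideal.ofList (f ++ h) ⊔ Ideal.ofList (l' ++ g) := by
      rw [Ideal.ofList_append, Ideal.ofList_append, Ideal.ofList_append, Ideal.ofList_append]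
      refine sup_le (sup_le ?_ ?_) ?_
      · exact le_sup_of_le_left le_sup_left
      · exact le_sup_of_le_right le_sup_right
      · exact le_sup_of_le_left le_sup_right
    obtain ⟨j, hj, b, hb, rfl⟩ := Submodule.mem_sup.1 (hle ha)
    rw [add_smul]
    have h1 : j • z = 0 := by
      refine smul_KH_eq_zero_of_ann (A ⧸ Ideal.ofList (f ++ h)) (l' ++ g) j ?_ i z
      intro m
      obtain ⟨c, rfl⟩ := Ideal.Quotient.mk_surjective m
      rw [← Ideal.Quotient.mk_eq_mk, ← Submodule.Quotient.mk_smul]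
      exact (Submodule.Quotient.mk_eq_zero _).2 (Ideal.mul_mem_right c _ hj)
    have h2 : b • z = 0 := smul_KH_eq_zero_of_mem (A ⧸ Ideal.ofList (f ++ h)) (l' ++ g) b hb i z
    rw [h1, h2, add_zero]
  have hfK : ∀ x ∈ f, x ∈ Ideal.ofList (f ++ g ++ h) := by
    intro x hx
    exact Ideal.subset_span (by simp [hx])
  have key := (isFreeAt_append (A ⧸ Ideal.ofList (f ++ h)) (Ideal.ofList (f ++ g ++ h)) g
    (-(n : ℤ) - 1) (by omega) hI (fun i _ => isFreeAt_base f g h hfh hfgh i) f hfK).1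
    (-(n : ℤ)) (by omega)
  obtain ⟨e⟩ := key
  obtain ⟨eT⟩ := Groth.Agent.Lib.Helper5.KzTor.nonempty_tor_iso_KH_of_koszulRegular (f ++ g) hfg
    (ModuleCat.of A (A ⧸ Ideal.ofList (f ++ h))) n
  rw [R_neg] at e
  exact ⟨eT.toLinearEquiv ≪≫ₗ e ≪≫ₗ LinearEquiv.uniqueProd⟩

/-- exterior power of a linear equivalence. -/
noncomputable def extPowCongr {M N : Type u} [AddCommGroup M] [Module A M] [AddCommGroup N]
    [Module A N] (n : ℕ) (e : M ≃ₗ[A] N) : (⋀[A]^n M) ≃ₗ[A] (⋀[A]^n N) :=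
  LinearEquiv.ofLinear (exteriorPower.map n e.toLinearMap) (exteriorPower.map n e.symm.toLinearMap)
    (by rw [← exteriorPower.map_comp]; simp [exteriorPower.map_id])
    (by rw [← exteriorPower.map_comp]; simp [exteriorPower.map_id])

/-- **`Tor_n ≅ ⋀^n Tor_1`.** -/
theorem nonempty_tor_iso_extPow (f g h : List A) (hfg : LCI.IsKoszulRegularSeq A (f ++ g))
    (hfh : LCI.IsKoszulRegularSeq A (f ++ h)) (hfgh : LCI.IsKoszulRegularSeq A (f ++ g ++ h))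
    (n : ℕ) (hn : 1 ≤ n) :
    Nonempty ((((Tor (ModuleCat.{u} A) n).obj (ModuleCat.of A (A ⧸ Ideal.ofList (f ++ g)))).obj
        (ModuleCat.of A (A ⧸ Ideal.ofList (f ++ h)))) ≅
      ModuleCat.of A (⋀[A]^n ((((Tor (ModuleCat.{u} A) 1).obj
        (ModuleCat.of A (A ⧸ Ideal.ofList (f ++ g)))).obj
        (ModuleCat.of A (A ⧸ Ideal.ofList (f ++ h))))))) := by
  obtain ⟨en⟩ := nonempty_tor_equiv f g h hfg hfh hfgh n
  obtain ⟨e1⟩ := nonempty_tor_equiv f g h hfg hfh hfgh 1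
  rw [Nat.choose_one_right] at e1
  obtain ⟨eE⟩ := Groth.Agent.Lib.Helper19ExtPowQuot.nonempty_equiv
    (Ideal.ofList (f ++ g ++ h)) f.length n hn
  exact ⟨(en ≪≫ₗ eE.symm ≪≫ₗ (extPowCongr n e1).symm).toModuleIso⟩

end Groth.Agent.Lib.Helper19KzExtPow
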