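import Mathlib
import Groth.Agent.Lib.Helper10TF

/-!
# Duality with respect to a canonical ideal over a one-dimensional local domain (helper8), part 1

`O` a one-dimensional Noetherian local domain, `W` a finite torsion-free `O`-module of rank one
(any two elements are proportional) of injective dimension `≤ 1`.  We prove
`Ext^i(X, V) = 0` (`i ≥ 1`) for finite torsion-free `X` and `V` of injective dimension `≤ 1`,
and that `O → End(W)` is bijective.
-/

set_option autoImplicit false
set_option linter.style.haveILetI false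
open CategoryTheory

namespace Groth.Agent.Lib.Helper8.TFDual

universe u

variable {O : Type u} [CommRing O]

/-- the short complex `0 → M → N → N/M → 0` of an injective map. -/
noncomputable def sesInj {M N : Type u} [AddCommGroup M] [Module O M] [AddCommGroup N] [Module O N]
    (f : M →ₗ[O] N) : ShortComplex (ModuleCat.{u} O) :=
  ShortComplex.mk (ModuleCat.ofHom f) (ModuleCat.ofHom (LinearMap.range f).mkQ) (by
    apply ModuleCat.hom_ext
    apply LinearMap.ext
    intro m
    exact (Submodule.Quotient.mk_eq_zero _).mpr ⟨m, rfl⟩)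

theorem sesInj_shortExact {M N : Type u} [AddCommGroup M] [Module O M] [AddCommGroup N]
    [Module O N] (f : M →ₗ[O] N) (hf : Function.Injective f) : (sesInj f).ShortExact := by
  refine ShortComplex.ShortExact.mk' ?_ ?_ ?_
  · rw [ShortComplex.moduleCat_exact_iff_range_eq_ker]
    exact (Submodule.ker_mkQ _).symm
  · exact (ModuleCat.mono_iff_injective _).mpr hf
  · exact (ModuleCat.epi_iff_surjective _).mpr (Submodule.mkQ_surjective _)

/-- the short complex `0 → ker p → F → M → 0` of a surjective map. -/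
noncomputable def sesSurj {F M : Type u} [AddCommGroup F] [Module O F] [AddCommGroup M] [Module O M]
    (p : F →ₗ[O] M) : ShortComplex (ModuleCat.{u} O) :=
  ShortComplex.mk (ModuleCat.ofHom (LinearMap.ker p).subtype) (ModuleCat.ofHom p) (by
    apply ModuleCat.hom_ext
    apply LinearMap.ext
    intro k
    exact k.2)

theorem sesSurj_shortExact {F M : Type u} [AddCommGroup F] [Module O F] [AddCommGroup M]
    [Module O M] (p : F →ₗ[O] M) (hp : Function.Surjective p) : (sesSurj p).ShortExact := by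
  refine ShortComplex.ShortExact.mk' ?_ ?_ ?_
  · rw [ShortComplex.moduleCat_exact_iff_range_eq_ker]
    exact Submodule.range_subtype _
  · exact (ModuleCat.mono_iff_injective _).mpr (LinearMap.ker p).injective_subtype
  · exact (ModuleCat.epi_iff_surjective _).mpr hp

section L1

variable [IsDomain O]

/-- `Ext^i(X, V) = 0` for `i ≥ 1`, `X` finite torsion-free, `V` of injective dimension `≤ 1`. -/
theorem subsingleton_ext (X : Type u) [AddCommGroup X] [Module O X] [Module.Finite O X]
    [Module.IsTorsionFree O X] (V : ModuleCat.{u} O) [HasInjectiveDimensionLT V 2] (i : ℕ)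
    (hi : 1 ≤ i) : Subsingleton (Abelian.Ext (ModuleCat.of O X) V i) := by
  rcases Nat.lt_or_ge i 2 with h2 | h2
  · obtain rfl : i = 1 := by omega
    obtain ⟨n, f, hf⟩ := Groth.Agent.Lib.Helper10.exists_injective_of_isTorsionFree O X
    have hS1 := sesInj_shortExact f hf
    have hP : Projective (sesInj f).X₂ :=
      (IsProjective.iff_projective (R := O) (Fin n → O)).mp inferInstance
    refine subsingleton_of_forall_eq 0 fun x₁ => ?_
    obtain ⟨x₂, rfl⟩ := Abelian.Ext.contravariant_sequence_exact₁ hS1 V x₁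
      (show 1 + 1 = 2 by rfl) (Abelian.Ext.eq_zero_of_hasInjectiveDimensionLT _ 2 le_rfl)
    rw [Abelian.Ext.eq_zero_of_projective x₂, Abelian.Ext.comp_zero]
    rfl
  · exact HasInjectiveDimensionLT.subsingleton _ 2 i h2 _

/-- every map `A → V` extends along an injection `A → B` with finite torsion-free cokernel. -/
theorem exists_extension {A B : Type u} [AddCommGroup A] [Module O A] [AddCommGroup B]
    [Module O B] (f : A →ₗ[O] B) (hf : Function.Injective f)
    [Module.Finite O (B ⧸ LinearMap.range f)] [Module.IsTorsionFree O (B ⧸ LinearMap.range f)]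
    (V : Type u) [AddCommGroup V] [Module O V] [HasInjectiveDimensionLT (ModuleCat.of O V) 2]
    (g : A →ₗ[O] V) : ∃ g' : B →ₗ[O] V, g' ∘ₗ f = g := by
  have hS := sesInj_shortExact f hf
  have hsub : Subsingleton (Abelian.Ext (sesInj f).X₃ (ModuleCat.of O V) 1) :=
    subsingleton_ext (B ⧸ LinearMap.range f) (ModuleCat.of O V) 1 le_rfl
  obtain ⟨x₂, hx₂⟩ := Abelian.Ext.contravariant_sequence_exact₁ hS (ModuleCat.of O V)
    (Abelian.Ext.mk₀ (ModuleCat.ofHom g)) (show 1 + 0 = 1 by rfl) (hsub.elim _ _)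
  obtain ⟨g', rfl⟩ := (Abelian.Ext.mk₀_bijective _ _).2 x₂
  rw [Abelian.Ext.mk₀_comp_mk₀] at hx₂
  have h1 := (Abelian.Ext.mk₀_bijective _ _).1 hx₂
  refine ⟨g'.hom, ?_⟩
  have := congrArg ModuleCat.Hom.hom h1
  exact this

end L1

section ClaimA

variable [IsDomain O] [IsNoetherianRing O] [IsLocalRing O]

theorem exists_ne_zero_mem_maximalIdeal (hdim : ringKrullDim O = 1) :
    ∃ x ∈ IsLocalRing.maximalIdeal O, x ≠ 0 := by
  by_contra hcon
  push Not at hcon
  have h1 : IsLocalRing.maximalIdeal O = ⊥ := (Submodule.eq_bot_iff _).mpr hcon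
  have hf : IsField O := IsLocalRing.isField_iff_maximalIdeal_eq.mpr h1
  have h2 := ringKrullDim_eq_zero_of_isField hf
  rw [hdim] at h2
  exact one_ne_zero h2

variable (W : Type u) [AddCommGroup W] [Module O W] [Module.Finite O W]
  [Module.IsTorsionFree O W] [Nontrivial W]

/-- the residue field embeds in `W / xW`. -/
theorem exists_injective_residue (hdim : ringKrullDim O = 1) (x : O)
    (hx : x ∈ IsLocalRing.maximalIdeal O) (hx0 : x ≠ 0) :
    ∃ f : (O ⧸ IsLocalRing.maximalIdeal O) →ₗ[O] (W ⧸ LinearMap.range (LinearMap.lsmul O W x)),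
      Function.Injective f := by
  have hKD : Ring.KrullDimLE 1 O := by
    rw [Ring.krullDimLE_iff, hdim]
    rfl
  have hrange : LinearMap.range (LinearMap.lsmul O W x) ≤
      IsLocalRing.maximalIdeal O • (⊤ : Submodule O W) := by
    rintro _ ⟨w, rfl⟩
    exact Submodule.smul_mem_smul hx Submodule.mem_top
  haveI : Nontrivial (W ⧸ LinearMap.range (LinearMap.lsmul O W x)) := by
    rw [Submodule.Quotient.nontrivial_iff]
    intro h
    have h2 : (⊤ : Submodule O W) ≤ IsLocalRing.maximalIdeal O • (⊤ : Submodule O W) :=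
      le_trans (le_of_eq h.symm) hrange
    have := Submodule.eq_bot_of_le_smul_of_le_jacobson_bot (IsLocalRing.maximalIdeal O)
      (⊤ : Submodule O W) Module.Finite.fg_top h2 (IsLocalRing.maximalIdeal_le_jacobson ⊥)
    exact top_ne_bot this
  obtain ⟨p, hp⟩ := associatedPrimes.nonempty O (W ⧸ LinearMap.range (LinearMap.lsmul O W x))
  obtain ⟨hpp, f, hf⟩ := (isAssociatedPrime_iff_exists_injective_linearMap p _).mp hp
  have hxp : x ∈ p := by
    have h1 : f (Ideal.Quotient.mk p x) = 0 := by
      have : Ideal.Quotient.mk p x = x • (Ideal.Quotient.mk p 1) := by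
        rw [Algebra.smul_def, map_one, mul_one]
        rfl
      rw [this, map_smul]
      obtain ⟨w, hw⟩ := Submodule.Quotient.mk_surjective _ (f (Ideal.Quotient.mk p 1))
      rw [← hw, ← Submodule.Quotient.mk_smul, Submodule.Quotient.mk_eq_zero]
      exact ⟨w, rfl⟩
    have h2 := hf (h1.trans (map_zero f).symm)
    exact Ideal.Quotient.eq_zero_iff_mem.mp h2
  have hpbot : p ≠ ⊥ := fun h => hx0 (by rw [h] at hxp; exact hxp)
  have hpmax : p.IsMaximal := hpp.isMaximal_of_ne_bot hpbot
  have hpm : p = IsLocalRing.maximalIdeal O := IsLocalRing.eq_maximalIdeal hpmax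
  subst hpm
  exact ⟨f, hf⟩

variable [HasInjectiveDimensionLT (ModuleCat.of O W) 2]

/-- `Ext¹(k, W) ≠ 0`. -/
theorem not_subsingleton_ext_residue (hdim : ringKrullDim O = 1) :
    ¬ Subsingleton (Abelian.Ext (ModuleCat.of O (O ⧸ IsLocalRing.maximalIdeal O))
      (ModuleCat.of O W) 1) := by
  intro hsub
  obtain ⟨x, hx, hx0⟩ := exists_ne_zero_mem_maximalIdeal hdim
  obtain ⟨f, hf⟩ := exists_injective_residue W hdim x hx hx0
  have hinj : Function.Injective (LinearMap.lsmul O W x) := by
    intro a b hab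
    exact (Module.IsTorsionFree.isSMulRegular (IsRegular.of_ne_zero hx0) : IsSMulRegular W x) hab
  have hS := sesInj_shortExact (LinearMap.lsmul O W x) hinj
  obtain ⟨x₂, hx₂⟩ := Abelian.Ext.covariant_sequence_exact₃
    (ModuleCat.of O (O ⧸ IsLocalRing.maximalIdeal O)) hS
    (Abelian.Ext.mk₀ (ModuleCat.ofHom f)) (show 0 + 1 = 1 by rfl) (hsub.elim _ _)
  obtain ⟨g, rfl⟩ := (Abelian.Ext.mk₀_bijective _ _).2 x₂
  have hg : g = 0 := by
    apply ModuleCat.hom_ext
    apply LinearMap.ext
    intro q
    obtain ⟨a, rfl⟩ := Ideal.Quotient.mk_surjective q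
    have h1 : x • g.hom (Ideal.Quotient.mk _ a) = 0 := by
      rw [← map_smul]
      have : x • (Ideal.Quotient.mk (IsLocalRing.maximalIdeal O) a) = 0 := by
        rw [← Ideal.Quotient.mk_eq_mk, ← Submodule.Quotient.mk_smul,
          Submodule.Quotient.mk_eq_zero]
        exact Ideal.mul_mem_right _ _ hx
      rw [this, map_zero]
    have h2 : x • g.hom (Ideal.Quotient.mk _ a) = x • (0 : W) := by
      rw [smul_zero]; exact h1
    exact (Module.IsTorsionFree.isSMulRegular (IsRegular.of_ne_zero hx0) : IsSMulRegular W x) h2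
  rw [hg, Abelian.Ext.mk₀_zero, Abelian.Ext.zero_comp] at hx₂
  have h3 : ModuleCat.ofHom f = 0 := (Abelian.Ext.mk₀_bijective _ _).1 (hx₂.symm.trans
    (Abelian.Ext.mk₀_zero _ _).symm)
  have h4 : f = 0 := by
    have := congrArg ModuleCat.Hom.hom h3
    exact this
  have h5 : (Ideal.Quotient.mk (IsLocalRing.maximalIdeal O) 1) = 0 := by
    apply hf
    rw [h4]
    rfl
  rw [Ideal.Quotient.eq_zero_iff_mem] at h5
  exact (IsLocalRing.maximalIdeal O).ne_top_iff_one.mp (IsLocalRing.maximalIdeal.isMaximal O).ne_top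
    h5

/-- `Ext¹(T, W) ≠ 0` for a nonzero finite torsion module `T`. -/
theorem not_subsingleton_ext_of_torsion (hdim : ringKrullDim O = 1) (T : Type u) [AddCommGroup T]
    [Module O T] [Module.Finite O T] [Nontrivial T] (hT : ∀ t : T, ∃ s : O, s ≠ 0 ∧ s • t = 0) :
    ¬ Subsingleton (Abelian.Ext (ModuleCat.of O T) (ModuleCat.of O W) 1) := by
  intro hsub
  apply not_subsingleton_ext_residue W hdim
  obtain ⟨T', hT'⟩ := (eq_top_or_exists_le_coatom (⊥ : Submodule O T)).resolve_left bot_ne_top
  have hsimple : IsSimpleModule O (T ⧸ T') := isSimpleModule_iff_isCoatom.mpr hT'.1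
  obtain ⟨I, hI, ⟨e⟩⟩ := isSimpleModule_iff_quot_maximal.mp hsimple
  obtain rfl : I = IsLocalRing.maximalIdeal O := IsLocalRing.eq_maximalIdeal hI
  let q : T →ₗ[O] (O ⧸ IsLocalRing.maximalIdeal O) := e.toLinearMap ∘ₗ T'.mkQ
  have hq : Function.Surjective q := e.surjective.comp (Submodule.mkQ_surjective _)
  have hS := sesSurj_shortExact q hq
  refine subsingleton_of_forall_eq 0 fun x₃ => ?_
  obtain ⟨x₁, rfl⟩ := Abelian.Ext.contravariant_sequence_exact₃ hS (ModuleCat.of O W) x₃
    (hsub.elim _ _) (show 1 + 0 = 1 by rfl)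
  obtain ⟨g, rfl⟩ := (Abelian.Ext.mk₀_bijective _ _).2 x₁
  have hg : g = 0 := by
    apply ModuleCat.hom_ext
    apply LinearMap.ext
    intro t
    obtain ⟨s, hs0, hs⟩ := hT t.1
    have h1 : s • g.hom t = 0 := by
      rw [← map_smul]
      have : s • t = 0 := Subtype.ext hs
      rw [this, map_zero]
    have h2 : s • g.hom t = s • (0 : W) := by
      rw [smul_zero]; exact h1
    exact (Module.IsTorsionFree.isSMulRegular (IsRegular.of_ne_zero hs0) : IsSMulRegular W s) h2
  rw [hg, Abelian.Ext.mk₀_zero, Abelian.Ext.comp_zero]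
  rfl

/-- **`O → End(W)` is bijective** for a rank-one finite torsion-free module of injective
dimension `≤ 1`. -/
theorem lsmul_bijective (hdim : ringKrullDim O = 1)
    (hrk : ∀ w₀ w : W, w₀ ≠ 0 → ∃ s t : O, s ≠ 0 ∧ s • w = t • w₀) :
    Function.Bijective (LinearMap.lsmul O W) := by
  obtain ⟨w₀, hw₀⟩ := exists_ne (0 : W)
  have hinj : Function.Injective (LinearMap.lsmul O W) := by
    rw [← LinearMap.ker_eq_bot, Submodule.eq_bot_iff]
    intro a ha
    have h1 : a • w₀ = 0 := LinearMap.congr_fun ha w₀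
    rcases smul_eq_zero.mp h1 with h | h
    · exact h
    · exact absurd h hw₀
  refine ⟨hinj, ?_⟩
  have hS := sesInj_shortExact (LinearMap.lsmul O W) hinj
  -- the cokernel is torsion
  have htors : ∀ t : (W →ₗ[O] W) ⧸ LinearMap.range (LinearMap.lsmul O W),
      ∃ s : O, s ≠ 0 ∧ s • t = 0 := by
    intro t
    obtain ⟨φ, rfl⟩ := Submodule.Quotient.mk_surjective _ t
    obtain ⟨s, t, hs, hst⟩ := hrk w₀ (φ w₀) hw₀
    refine ⟨s, hs, ?_⟩
    rw [← Submodule.Quotient.mk_smul, Submodule.Quotient.mk_eq_zero]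
    refine ⟨t, ?_⟩
    apply LinearMap.ext
    intro w
    obtain ⟨s', t', hs', hst'⟩ := hrk w₀ w hw₀
    have h1 : s' • (t • w) = s' • (s • φ w) := by
      calc s' • (t • w) = t • (s' • w) := smul_comm _ _ _
        _ = t • (t' • w₀) := by rw [hst']
        _ = t' • (t • w₀) := smul_comm _ _ _
        _ = t' • (s • φ w₀) := by rw [hst]
        _ = s • φ (t' • w₀) := by rw [map_smul, smul_comm]
        _ = s • φ (s' • w) := by rw [hst']
        _ = s' • (s • φ w) := by rw [map_smul, smul_comm]
    have h2 : t • w = s • φ w :=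
      (Module.IsTorsionFree.isSMulRegular (IsRegular.of_ne_zero hs') : IsSMulRegular W s') h1
    simpa using h2
  -- Ext¹(T, W) = 0
  have hsub : Subsingleton (Abelian.Ext (sesInj (LinearMap.lsmul O W)).X₃ (ModuleCat.of O W) 1) := by
    refine subsingleton_of_forall_eq 0 fun x₃ => ?_
    have hE : Subsingleton (Abelian.Ext (sesInj (LinearMap.lsmul O W)).X₂ (ModuleCat.of O W) 1) :=
      subsingleton_ext (W →ₗ[O] W) (ModuleCat.of O W) 1 le_rfl
    obtain ⟨x₁, rfl⟩ := Abelian.Ext.contravariant_sequence_exact₃ hS (ModuleCat.of O W) x₃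
      (hE.elim _ _) (show 1 + 0 = 1 by rfl)
    obtain ⟨h, rfl⟩ := (Abelian.Ext.mk₀_bijective _ _).2 x₁
    let ev : (W →ₗ[O] W) →ₗ[O] W := LinearMap.applyₗ (h.hom (1 : O))
    have h1 : h = (sesInj (LinearMap.lsmul O W)).f ≫ ModuleCat.ofHom ev := by
      apply ModuleCat.hom_ext
      apply LinearMap.ext_ring
      simp [sesInj, ev]
      rfl
    rw [h1, ← Abelian.Ext.mk₀_comp_mk₀]
    exact hS.extClass_comp_assoc _
  by_contra hns
  haveI : Nontrivial ((W →ₗ[O] W) ⧸ LinearMap.range (LinearMap.lsmul O W)) := by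
    rw [Submodule.Quotient.nontrivial_iff]
    intro h
    exact hns (LinearMap.range_eq_top.mp h)
  exact not_subsingleton_ext_of_torsion W hdim _ htors hsub

end ClaimA

end Groth.Agent.Lib.Helper8.TFDual
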