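import Mathlib
import Groth.Agent.Lib.Helper8TFDual1

/-!
# Duality with respect to a canonical ideal over a one-dimensional local domain (helper8), part 2

Biduality `M ≃ M**` and the transpose bijection `Hom(M,N) ≃ Hom(N*,M*)` for finite torsion-free
modules (`* = Hom(-, W)`), and injective dimension of `Hom(O^a, W)`.
-/

set_option autoImplicit false
set_option linter.style.haveILetI false
set_option linter.unusedSectionVars false
open CategoryTheory

namespace Groth.Agent.Lib.Helper8.TFDual

universe u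

variable {O : Type u} [CommRing O] [IsDomain O] [IsNoetherianRing O] [IsLocalRing O]

/-- extension along the first map of an exact sequence with finite torsion-free third term. -/
theorem exists_extension' {A B C : Type u} [AddCommGroup A] [Module O A] [AddCommGroup B]
    [Module O B] [AddCommGroup C] [Module O C] (f : A →ₗ[O] B) (q : B →ₗ[O] C)
    (hf : Function.Injective f) (hq : Function.Surjective q)
    (hfq : LinearMap.range f = LinearMap.ker q) [Module.Finite O C] [Module.IsTorsionFree O C]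
    (V : Type u) [AddCommGroup V] [Module O V] [HasInjectiveDimensionLT (ModuleCat.of O V) 2]
    (g : A →ₗ[O] V) : ∃ g' : B →ₗ[O] V, g' ∘ₗ f = g := by
  let e : (B ⧸ LinearMap.range f) ≃ₗ[O] C :=
    (Submodule.quotEquivOfEq _ _ hfq).trans (q.quotKerEquivOfSurjective hq)
  haveI : Module.Finite O (B ⧸ LinearMap.range f) := Module.Finite.equiv e.symm
  haveI : Module.IsTorsionFree O (B ⧸ LinearMap.range f) :=
    e.injective.moduleIsTorsionFree e (fun r m => map_smul e r m)
  exact exists_extension f hf V g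

variable (W : Type u) [AddCommGroup W] [Module O W] [Module.Finite O W]
  [Module.IsTorsionFree O W] [Nontrivial W]

/-- the evaluation map `M → M**` is injective. -/
theorem applyₗ_injective (M : Type u) [AddCommGroup M] [Module O M] [Module.Finite O M]
    [Module.IsTorsionFree O M] :
    Function.Injective (LinearMap.applyₗ : M →ₗ[O] (M →ₗ[O] W) →ₗ[O] W) := by
  obtain ⟨w₀, hw₀⟩ := exists_ne (0 : W)
  obtain ⟨n, f, hf⟩ := Groth.Agent.Lib.Helper10.exists_injective_of_isTorsionFree O M
  rw [injective_iff_map_eq_zero]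
  intro m hm
  by_contra hne
  have h1 : f m ≠ 0 := fun h => hne (hf (h.trans (map_zero f).symm))
  obtain ⟨i, hi⟩ : ∃ i, f m i ≠ 0 := by
    by_contra hcon
    push Not at hcon
    exact h1 (funext hcon)
  let φ : M →ₗ[O] W := (LinearMap.toSpanSingleton O W w₀) ∘ₗ (LinearMap.proj i) ∘ₗ f
  have h2 : φ m = 0 := LinearMap.congr_fun hm φ
  have h3 : f m i • w₀ = 0 := h2
  rcases smul_eq_zero.mp h3 with h | h
  · exact hi h
  · exact hw₀ h

variable [HasInjectiveDimensionLT (ModuleCat.of O W) 2]

/-- the evaluation map `M → M**` is surjective. -/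
theorem applyₗ_surjective (hdim : ringKrullDim O = 1)
    (hrk : ∀ w₀ w : W, w₀ ≠ 0 → ∃ s t : O, s ≠ 0 ∧ s • w = t • w₀)
    (M : Type u) [AddCommGroup M] [Module O M] [Module.Finite O M]
    [Module.IsTorsionFree O M] :
    Function.Surjective (LinearMap.applyₗ : M →ₗ[O] (M →ₗ[O] W) →ₗ[O] W) := by
  intro Φ
  obtain ⟨a, p, hp⟩ := Module.Finite.exists_fin' O M
  let pd : (M →ₗ[O] W) →ₗ[O] ((Fin a → O) →ₗ[O] W) := LinearMap.lcomp O W p
  have hpd : Function.Injective pd := by
    intro φ φ' h
    apply LinearMap.ext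
    intro m
    obtain ⟨y, rfl⟩ := hp m
    exact LinearMap.congr_fun h y
  let r : ((Fin a → O) →ₗ[O] W) →ₗ[O] (↥(LinearMap.ker p) →ₗ[O] W) :=
    LinearMap.lcomp O W (LinearMap.ker p).subtype
  have hex : LinearMap.range pd = LinearMap.ker r.rangeRestrict := by
    rw [LinearMap.ker_rangeRestrict]
    apply le_antisymm
    · rintro _ ⟨φ, rfl⟩
      rw [LinearMap.mem_ker]
      apply LinearMap.ext
      intro k
      change φ (p k.1) = 0
      rw [LinearMap.mem_ker.mp k.2, map_zero]
    · intro ψ hψ
      rw [LinearMap.mem_ker] at hψ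
      have hker : LinearMap.ker p ≤ LinearMap.ker ψ := by
        intro y hy
        exact LinearMap.congr_fun hψ ⟨y, hy⟩
      refine ⟨((LinearMap.ker p).liftQ ψ hker) ∘ₗ
        (p.quotKerEquivOfSurjective hp).symm.toLinearMap, ?_⟩
      apply LinearMap.ext
      intro y
      change ((LinearMap.ker p).liftQ ψ hker) ((p.quotKerEquivOfSurjective hp).symm (p y)) = ψ y
      rw [LinearMap.quotKerEquivOfSurjective_symm_apply]
      rfl
  obtain ⟨Ψ, hΨ⟩ := exists_extension' pd r.rangeRestrict hpd r.surjective_rangeRestrict hex W Φ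
  -- the coordinate maps
  let sd : Fin a → W →ₗ[O] ((Fin a → O) →ₗ[O] W) := fun i =>
    LinearMap.smulRightₗ (LinearMap.proj i : (Fin a → O) →ₗ[O] O)
  choose x hx using fun i => (lsmul_bijective W hdim hrk).2 (Ψ ∘ₗ sd i)
  refine ⟨p x, ?_⟩
  apply LinearMap.ext
  intro φ
  change φ (p x) = Φ φ
  rw [← hΨ]
  change φ (p x) = Ψ (pd φ)
  have hdecomp : pd φ = ∑ i, sd i (pd φ (fun j => if i = j then 1 else 0)) := by
    apply LinearMap.ext
    intro y
    rw [LinearMap.sum_apply, LinearMap.pi_apply_eq_sum_univ (pd φ) y]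
    rfl
  have h1 : ∀ i, Ψ (sd i (pd φ (fun j => if i = j then 1 else 0))) =
      x i • pd φ (fun j => if i = j then 1 else 0) := by
    intro i
    have := LinearMap.congr_fun (hx i) (pd φ (fun j => if i = j then 1 else 0))
    exact this.symm
  rw [hdecomp, map_sum, Finset.sum_congr rfl (fun i _ => h1 i),
    ← LinearMap.pi_apply_eq_sum_univ (pd φ) x]
  rfl

/-- biduality as a linear equivalence. -/
noncomputable def bidual (hdim : ringKrullDim O = 1)
    (hrk : ∀ w₀ w : W, w₀ ≠ 0 → ∃ s t : O, s ≠ 0 ∧ s • w = t • w₀)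
    (M : Type u) [AddCommGroup M] [Module O M] [Module.Finite O M]
    [Module.IsTorsionFree O M] : M ≃ₗ[O] ((M →ₗ[O] W) →ₗ[O] W) :=
  LinearEquiv.ofBijective LinearMap.applyₗ
    ⟨applyₗ_injective W M, applyₗ_surjective W hdim hrk M⟩

theorem bidual_apply (hdim : ringKrullDim O = 1)
    (hrk : ∀ w₀ w : W, w₀ ≠ 0 → ∃ s t : O, s ≠ 0 ∧ s • w = t • w₀)
    (M : Type u) [AddCommGroup M] [Module O M] [Module.Finite O M]
    [Module.IsTorsionFree O M] (m : M) (φ : M →ₗ[O] W) : bidual W hdim hrk M m φ = φ m := rfl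

/-- the transpose map `Hom(M,N) → Hom(N*,M*)`. -/
def dualHom (M N : Type u) [AddCommGroup M] [Module O M] [AddCommGroup N] [Module O N] :
    (M →ₗ[O] N) →+ ((N →ₗ[O] W) →ₗ[O] (M →ₗ[O] W)) where
  toFun f := LinearMap.lcomp O W f
  map_zero' := by
    apply LinearMap.ext
    intro φ
    apply LinearMap.ext
    intro m
    simp
  map_add' f g := by
    apply LinearMap.ext
    intro φ
    apply LinearMap.ext
    intro m
    simp

theorem dualHom_apply (M N : Type u) [AddCommGroup M] [Module O M] [AddCommGroup N] [Module O N]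
    (f : M →ₗ[O] N) (φ : N →ₗ[O] W) (m : M) : dualHom (O := O) W M N f φ m = φ (f m) := rfl

theorem dualHom_bijective (hdim : ringKrullDim O = 1)
    (hrk : ∀ w₀ w : W, w₀ ≠ 0 → ∃ s t : O, s ≠ 0 ∧ s • w = t • w₀)
    (M N : Type u) [AddCommGroup M] [Module O M] [Module.Finite O M]
    [Module.IsTorsionFree O M] [AddCommGroup N] [Module O N] [Module.Finite O N]
    [Module.IsTorsionFree O N] : Function.Bijective (dualHom (O := O) W M N) := by
  constructor
  · rw [injective_iff_map_eq_zero]
    intro f hf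
    apply LinearMap.ext
    intro m
    apply applyₗ_injective (O := O) W N
    apply LinearMap.ext
    intro φ
    have := LinearMap.congr_fun (LinearMap.congr_fun hf φ) m
    change φ (f m) = φ ((0 : M →ₗ[O] N) m)
    rw [LinearMap.zero_apply, map_zero]
    exact this
  · intro g
    let E := bidual W hdim hrk N
    let f : M →ₗ[O] N := E.symm.toLinearMap ∘ₗ (LinearMap.lcomp O W g) ∘ₗ
      (LinearMap.applyₗ : M →ₗ[O] (M →ₗ[O] W) →ₗ[O] W)
    refine ⟨f, ?_⟩
    apply LinearMap.ext
    intro ψ
    apply LinearMap.ext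
    intro m
    change ψ (f m) = g ψ m
    rw [← bidual_apply W hdim hrk N (f m) ψ]
    change E (E.symm ((LinearMap.lcomp O W g) (LinearMap.applyₗ m))) ψ = g ψ m
    rw [LinearEquiv.apply_symm_apply]
    rfl

end Groth.Agent.Lib.Helper8.TFDual
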