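import Mathlib
import Groth.Agent.Lib.Helper8TFDual2

/-!
# Duality with respect to a canonical ideal over a one-dimensional local domain (helper8), part 3

`Ext^i(M, N) ≃+ Ext^i(N*, M*)` for finite torsion-free modules `M`, `N` (`* = Hom(-, W)`).
-/

set_option autoImplicit false
set_option linter.style.haveILetI false
set_option linter.unusedSectionVars false
open CategoryTheory

namespace Groth.Agent.Lib.Helper8.TFDual

universe u

section InjDim

variable {O : Type u} [CommRing O]

/-- injective dimension of a finite power. -/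
theorem hasInjDim_pi (V : Type u) [AddCommGroup V] [Module O V] (n : ℕ)
    [hV : HasInjectiveDimensionLT (ModuleCat.of O V) n] (a : ℕ) :
    HasInjectiveDimensionLT (ModuleCat.of O (Fin a → V)) n := by
  induction a with
  | zero =>
    have hz : Limits.IsZero (ModuleCat.of O (Fin 0 → V)) := ModuleCat.isZero_of_subsingleton _
    haveI := hz.hasInjectiveDimensionLT_zero
    exact hasInjectiveDimensionLT_of_ge _ 0 n (Nat.zero_le n)
  | succ a ih =>
    let f : V →ₗ[O] (Fin (a + 1) → V) := LinearMap.single O (fun _ => V) 0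
    let g : (Fin (a + 1) → V) →ₗ[O] (Fin a → V) :=
      LinearMap.pi (fun j : Fin a => LinearMap.proj j.succ)
    let S : ShortComplex (ModuleCat.{u} O) :=
      ShortComplex.mk (ModuleCat.ofHom f) (ModuleCat.ofHom g) (by
        apply ModuleCat.hom_ext
        apply LinearMap.ext
        intro v
        funext j
        change (Pi.single (0 : Fin (a + 1)) v : Fin (a + 1) → V) j.succ = 0
        exact Pi.single_eq_of_ne (Fin.succ_ne_zero j) v)
    have hS : S.ShortExact := by
      refine ShortComplex.ShortExact.mk' ?_ ?_ ?_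
      · rw [ShortComplex.moduleCat_exact_iff_range_eq_ker]
        apply le_antisymm
        · rintro _ ⟨v, rfl⟩
          rw [LinearMap.mem_ker]
          funext j
          change (Pi.single (0 : Fin (a + 1)) v : Fin (a + 1) → V) j.succ = 0
          exact Pi.single_eq_of_ne (Fin.succ_ne_zero j) v
        · intro y hy
          rw [LinearMap.mem_ker] at hy
          refine ⟨y 0, ?_⟩
          funext j
          refine Fin.cases ?_ (fun k => ?_) j
          · change (Pi.single (0 : Fin (a + 1)) (y 0) : Fin (a + 1) → V) 0 = y 0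
            exact Pi.single_eq_same _ _
          · change (Pi.single (0 : Fin (a + 1)) (y 0) : Fin (a + 1) → V) k.succ = y k.succ
            rw [Pi.single_eq_of_ne (Fin.succ_ne_zero k)]
            exact (congrFun hy k).symm
      · refine (ModuleCat.mono_iff_injective _).mpr ?_
        intro v v' h
        have := congrFun h 0
        change (Pi.single (0 : Fin (a + 1)) v : Fin (a + 1) → V) 0 =
          (Pi.single (0 : Fin (a + 1)) v' : Fin (a + 1) → V) 0 at this
        rwa [Pi.single_eq_same, Pi.single_eq_same] at this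
      · refine (ModuleCat.epi_iff_surjective _).mpr ?_
        intro z
        refine ⟨Fin.cons 0 z, ?_⟩
        funext j
        change (Fin.cons 0 z : Fin (a + 1) → V) j.succ = z j
        exact Fin.cons_succ _ _ _
    exact hS.hasInjectiveDimensionLT_X₂ n hV ih

theorem hasInjDim_dualFree (V : Type u) [AddCommGroup V] [Module O V] (n : ℕ)
    [hV : HasInjectiveDimensionLT (ModuleCat.of O V) n] (a : ℕ) :
    HasInjectiveDimensionLT (ModuleCat.of O ((Fin a → O) →ₗ[O] V)) n := by
  haveI := hasInjDim_pi (O := O) V n a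
  exact hasInjectiveDimensionLT_of_iso
    (LinearEquiv.toModuleIso ((Pi.basisFun O (Fin a)).constr O : (Fin a → V) ≃ₗ[O] _)) n

end InjDim

/-- two surjections with matching kernels have isomorphic targets. -/
theorem nonempty_addEquiv_of_surjective {A₂ A₃ B₂ B₃ : Type*} [AddCommGroup A₂] [AddCommGroup A₃]
    [AddCommGroup B₂] [AddCommGroup B₃] (δ : A₂ →+ A₃) (δ' : B₂ →+ B₃)
    (hδ : Function.Surjective δ) (hδ' : Function.Surjective δ') (e : A₂ ≃+ B₂)
    (h : ∀ x, δ x = 0 ↔ δ' (e x) = 0) : Nonempty (A₃ ≃+ B₃) := by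
  have hk : AddSubgroup.map (e : A₂ →+ B₂) δ.ker = δ'.ker := by
    ext y
    constructor
    · rintro ⟨x, hx, rfl⟩
      exact (h x).mp hx
    · intro hy
      refine ⟨e.symm y, ?_, by simp⟩
      rw [SetLike.mem_coe, AddMonoidHom.mem_ker, h]
      simpa using hy
  exact ⟨(QuotientAddGroup.quotientKerEquivOfSurjective δ hδ).symm.trans
    ((QuotientAddGroup.congr _ _ e hk).trans
      (QuotientAddGroup.quotientKerEquivOfSurjective δ' hδ'))⟩

variable {O : Type u} [CommRing O] [IsDomain O] [IsNoetherianRing O] [IsLocalRing O]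
variable (W : Type u) [AddCommGroup W] [Module O W] [Module.Finite O W]
  [Module.IsTorsionFree O W] [Nontrivial W] [HasInjectiveDimensionLT (ModuleCat.of O W) 2]

/-- the dual of `0 → ker p → F → M → 0`. -/
noncomputable def sesDual {F M : Type u} [AddCommGroup F] [Module O F] [AddCommGroup M]
    [Module O M] (p : F →ₗ[O] M) : ShortComplex (ModuleCat.{u} O) :=
  ShortComplex.mk (ModuleCat.ofHom (LinearMap.lcomp O W p))
    (ModuleCat.ofHom (LinearMap.lcomp O W (LinearMap.ker p).subtype)) (by
      apply ModuleCat.hom_ext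
      apply LinearMap.ext
      intro φ
      apply LinearMap.ext
      intro k
      change φ (p k.1) = 0
      rw [LinearMap.mem_ker.mp k.2, map_zero])

theorem sesDual_shortExact {F M : Type u} [AddCommGroup F] [Module O F] [AddCommGroup M]
    [Module O M] [Module.Finite O M] [Module.IsTorsionFree O M] (p : F →ₗ[O] M)
    (hp : Function.Surjective p) : (sesDual W p).ShortExact := by
  refine ShortComplex.ShortExact.mk' ?_ ?_ ?_
  · rw [ShortComplex.moduleCat_exact_iff_range_eq_ker]
    apply le_antisymm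
    · rintro _ ⟨(φ : M →ₗ[O] W), rfl⟩
      rw [LinearMap.mem_ker]
      apply LinearMap.ext
      intro k
      change φ (p k.1) = 0
      rw [LinearMap.mem_ker.mp k.2, map_zero]
    · intro (ψ : F →ₗ[O] W) hψ
      rw [LinearMap.mem_ker] at hψ
      have hker : LinearMap.ker p ≤ LinearMap.ker ψ := by
        intro y hy
        exact LinearMap.congr_fun hψ ⟨y, hy⟩
      refine ⟨((LinearMap.ker p).liftQ ψ hker) ∘ₗ
        (p.quotKerEquivOfSurjective hp).symm.toLinearMap, ?_⟩
      apply LinearMap.ext
      intro y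
      change ((LinearMap.ker p).liftQ ψ hker) ((p.quotKerEquivOfSurjective hp).symm (p y)) = ψ y
      rw [LinearMap.quotKerEquivOfSurjective_symm_apply]
      rfl
  · refine (ModuleCat.mono_iff_injective _).mpr ?_
    intro φ φ' h
    apply LinearMap.ext
    intro m
    obtain ⟨y, rfl⟩ := hp m
    exact LinearMap.congr_fun h y
  · refine (ModuleCat.epi_iff_surjective _).mpr ?_
    intro g
    obtain ⟨g', hg'⟩ := exists_extension' (LinearMap.ker p).subtype p
      (LinearMap.ker p).injective_subtype hp (Submodule.range_subtype _) W g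
    exact ⟨g', hg'⟩

/-- the degree zero duality. -/
noncomputable def e₀ (hdim : ringKrullDim O = 1)
    (hrk : ∀ w₀ w : W, w₀ ≠ 0 → ∃ s t : O, s ≠ 0 ∧ s • w = t • w₀)
    (M N : Type u) [AddCommGroup M] [Module O M] [Module.Finite O M]
    [Module.IsTorsionFree O M] [AddCommGroup N] [Module O N] [Module.Finite O N]
    [Module.IsTorsionFree O N] :
    Abelian.Ext (ModuleCat.of O M) (ModuleCat.of O N) 0 ≃+
      Abelian.Ext (ModuleCat.of O (N →ₗ[O] W)) (ModuleCat.of O (M →ₗ[O] W)) 0 :=
  Abelian.Ext.addEquiv₀.trans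
    ((ModuleCat.homAddEquiv (M := ModuleCat.of O M) (N := ModuleCat.of O N)).trans
    ((AddEquiv.ofBijective (dualHom (O := O) W M N) (dualHom_bijective W hdim hrk M N)).trans
      ((ModuleCat.homAddEquiv (M := ModuleCat.of O (N →ₗ[O] W))
        (N := ModuleCat.of O (M →ₗ[O] W))).symm.trans Abelian.Ext.addEquiv₀.symm)))

theorem e₀_mk₀ (hdim : ringKrullDim O = 1)
    (hrk : ∀ w₀ w : W, w₀ ≠ 0 → ∃ s t : O, s ≠ 0 ∧ s • w = t • w₀)
    (M N : Type u) [AddCommGroup M] [Module O M] [Module.Finite O M]
    [Module.IsTorsionFree O M] [AddCommGroup N] [Module O N] [Module.Finite O N]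
    [Module.IsTorsionFree O N] (f : M →ₗ[O] N) :
    e₀ W hdim hrk M N (Abelian.Ext.mk₀ (ModuleCat.ofHom f)) =
      Abelian.Ext.mk₀ (ModuleCat.ofHom (dualHom (O := O) W M N f)) := by
  have h1 : Abelian.Ext.addEquiv₀ (Abelian.Ext.mk₀ (ModuleCat.ofHom f)) = ModuleCat.ofHom f :=
    Abelian.Ext.addEquiv₀.apply_symm_apply (ModuleCat.ofHom f)
  simp only [e₀, AddEquiv.trans_apply, h1]
  rfl

theorem dualHom_comp (M N P : Type u) [AddCommGroup M] [Module O M] [AddCommGroup N] [Module O N]
    [AddCommGroup P] [Module O P] (f : M →ₗ[O] N) (g : N →ₗ[O] P) :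
    dualHom (O := O) W M P (g ∘ₗ f) =
      (LinearMap.lcomp O W f) ∘ₗ (dualHom (O := O) W N P g) := rfl

/-- **Ext duality**: `Ext^i(M, N) ≃+ Ext^i(N*, M*)` for finite torsion-free `M`, `N`. -/
theorem nonempty_ext_addEquiv (hdim : ringKrullDim O = 1)
    (hrk : ∀ w₀ w : W, w₀ ≠ 0 → ∃ s t : O, s ≠ 0 ∧ s • w = t • w₀) (i : ℕ) :
    ∀ (M N : Type u) [AddCommGroup M] [Module O M] [Module.Finite O M]
      [Module.IsTorsionFree O M] [AddCommGroup N] [Module O N] [Module.Finite O N]
      [Module.IsTorsionFree O N],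
      Nonempty (Abelian.Ext (ModuleCat.of O M) (ModuleCat.of O N) i ≃+
        Abelian.Ext (ModuleCat.of O (N →ₗ[O] W)) (ModuleCat.of O (M →ₗ[O] W)) i) := by
  induction i with
  | zero =>
    intro M N _ _ _ _ _ _ _ _
    exact ⟨e₀ W hdim hrk M N⟩
  | succ i ih =>
    intro M N _ _ _ _ _ _ _ _
    obtain ⟨a, p, hp⟩ := Module.Finite.exists_fin' O M
    have hS := sesSurj_shortExact p hp
    have hS' := sesDual_shortExact W p hp
    have hP : Projective (sesSurj p).X₂ :=
      (IsProjective.iff_projective (R := O) (Fin a → O)).mp inferInstance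
    haveI hI : HasInjectiveDimensionLT (ModuleCat.of O ((Fin a → O) →ₗ[O] W)) 2 :=
      hasInjDim_dualFree (O := O) W 2 a
    have hsubF : ∀ j : ℕ, 1 ≤ j → Subsingleton (Abelian.Ext (ModuleCat.of O (N →ₗ[O] W))
        (sesDual W p).X₂ j) := fun j hj =>
      subsingleton_ext (N →ₗ[O] W) (ModuleCat.of O ((Fin a → O) →ₗ[O] W)) j hj
    let δ := hS.extClass.precomp (ModuleCat.of O N) (show 1 + i = i + 1 from add_comm 1 i)
    let δ' := hS'.extClass.postcomp (ModuleCat.of O (N →ₗ[O] W)) (rfl : i + 1 = i + 1)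
    have hδ : Function.Surjective δ := by
      intro x₃
      exact Abelian.Ext.contravariant_sequence_exact₃ hS _ x₃
        (Abelian.Ext.eq_zero_of_projective _) (add_comm 1 i)
    have hδ' : Function.Surjective δ' := by
      intro x₁
      exact Abelian.Ext.covariant_sequence_exact₁ _ hS' x₁ ((hsubF (i + 1) (by omega)).elim _ _) rfl
    rcases Nat.eq_zero_or_pos i with rfl | hi
    · -- degree one: compare cokernels
      refine nonempty_addEquiv_of_surjective δ δ' hδ hδ'
        (e₀ W hdim hrk ↥(LinearMap.ker p) N) (fun x => ?_)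
      constructor
      · intro hx
        obtain ⟨x₂, rfl⟩ := Abelian.Ext.contravariant_sequence_exact₁ hS _ x
          (show 1 + 0 = 1 by rfl) hx
        obtain ⟨g, rfl⟩ := (Abelian.Ext.mk₀_bijective _ _).2 x₂
        have key : e₀ W hdim hrk ↥(LinearMap.ker p) N
            ((Abelian.Ext.mk₀ (sesSurj p).f).comp (Abelian.Ext.mk₀ g) (zero_add 0)) =
            (Abelian.Ext.mk₀ (ModuleCat.ofHom (dualHom (O := O) W (Fin a → O) N g.hom))).comp
              (Abelian.Ext.mk₀ (sesDual W p).g) (add_zero 0) := by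
          rw [Abelian.Ext.mk₀_comp_mk₀, Abelian.Ext.mk₀_comp_mk₀]
          exact e₀_mk₀ W hdim hrk ↥(LinearMap.ker p) N (g.hom ∘ₗ (LinearMap.ker p).subtype)
        refine (congrArg δ' key).trans ?_
        change ((Abelian.Ext.mk₀ (X := ModuleCat.of O (N →ₗ[O] W)) (Y := (sesDual W p).X₂)
              (ModuleCat.ofHom (dualHom (O := O) W (Fin a → O) N g.hom))).comp
              (Abelian.Ext.mk₀ (sesDual W p).g) (add_zero 0)).comp hS'.extClass
                (zero_add 1) = 0
        rw [Abelian.Ext.comp_assoc_of_second_deg_zero, hS'.comp_extClass, Abelian.Ext.comp_zero]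
      · intro hx
        obtain ⟨x₂, hx₂⟩ := Abelian.Ext.covariant_sequence_exact₃ _ hS' _ (show 0 + 1 = 1 by rfl) hx
        obtain ⟨g', rfl⟩ := (Abelian.Ext.mk₀_bijective _ _).2 x₂
        obtain ⟨h, hh⟩ := (dualHom_bijective W hdim hrk (Fin a → O) N).2 g'.hom
        have key : e₀ W hdim hrk ↥(LinearMap.ker p) N
            ((Abelian.Ext.mk₀ (sesSurj p).f).comp (Abelian.Ext.mk₀ (ModuleCat.ofHom h))
              (zero_add 0)) =
            (Abelian.Ext.mk₀ g').comp (Abelian.Ext.mk₀ (sesDual W p).g) (add_zero 0) := by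
          rw [Abelian.Ext.mk₀_comp_mk₀, Abelian.Ext.mk₀_comp_mk₀]
          have h1 : ModuleCat.ofHom (dualHom (O := O) W ↥(LinearMap.ker p) N
              (h ∘ₗ (LinearMap.ker p).subtype)) = g' ≫ (sesDual W p).g := by
            apply ModuleCat.hom_ext
            change dualHom (O := O) W ↥(LinearMap.ker p) N (h ∘ₗ (LinearMap.ker p).subtype) =
              (LinearMap.lcomp O W (LinearMap.ker p).subtype) ∘ₗ g'.hom
            rw [← hh]
            rfl
          exact (e₀_mk₀ W hdim hrk ↥(LinearMap.ker p) N (h ∘ₗ (LinearMap.ker p).subtype)).trans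
            (congrArg Abelian.Ext.mk₀ h1)
        have h2 := (e₀ W hdim hrk ↥(LinearMap.ker p) N).injective (key.trans hx₂)
        rw [← h2]
        exact hS.extClass_comp_assoc (h := add_comm 1 0) _
    · -- higher degrees: both connecting maps are bijective
      obtain ⟨e⟩ := ih ↥(LinearMap.ker p) N
      refine nonempty_addEquiv_of_surjective δ δ' hδ hδ' e (fun x => ?_)
      obtain ⟨j, rfl⟩ : ∃ j, i = j + 1 := ⟨i - 1, by omega⟩
      have h1 : δ x = 0 ↔ x = 0 := by
        constructor
        · intro hx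
          obtain ⟨x₂, rfl⟩ := Abelian.Ext.contravariant_sequence_exact₁ hS _ x
            (add_comm 1 (j + 1)) hx
          rw [Abelian.Ext.eq_zero_of_projective x₂, Abelian.Ext.comp_zero]
        · intro hx
          rw [hx, map_zero]
      have h2 : ∀ y, δ' y = 0 ↔ y = 0 := by
        intro y
        constructor
        · intro hy
          obtain ⟨x₂, rfl⟩ := Abelian.Ext.covariant_sequence_exact₃ _ hS' y
            (show j + 1 + 1 = j + 1 + 1 by rfl) hy
          rw [(hsubF (j + 1) (by omega)).elim x₂ 0, Abelian.Ext.zero_comp]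
        · intro hy
          rw [hy, map_zero]
      exact h1.trans ((AddEquiv.map_eq_zero_iff e).symm.trans (h2 (e x)).symm)

end Groth.Agent.Lib.Helper8.TFDual
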