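import Mathlib
import Groth.Agent.Lib.Helper8TFDual3

/-!
# Duality with respect to a canonical ideal over a one-dimensional local domain (helper8), part 4

Lattice duality `A ↦ ω / A` on finitely generated submodules of the fraction field and the
resulting length formula.
-/

set_option autoImplicit false
set_option linter.style.haveILetI false
set_option linter.unusedSectionVars false
open CategoryTheory

namespace Groth.Agent.Lib.Helper8.TFDual

universe u

section General

variable {R V : Type*} [Ring R] [AddCommGroup V] [Module R V]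

/-- the length of `A/B` is the Krull dimension of the interval `[B, A]`. -/
theorem coe_length_quot_eq_krullDim (B A : Submodule R V) (hBA : B ≤ A) :
    (Module.length R (↥A ⧸ Submodule.comap A.subtype B) : WithBot ℕ∞) =
      Order.krullDim (Set.Icc B A) := by
  rw [Module.coe_length,
    Order.krullDim_eq_of_orderIso (Submodule.comapMkQRelIso (Submodule.comap A.subtype B))]
  refine Order.krullDim_eq_of_orderIso ?_
  exact
    { toFun := fun N => ⟨Submodule.map A.subtype N.1, ⟨by
          intro b hb
          exact ⟨⟨b, hBA hb⟩, N.2 (show (⟨b, hBA hb⟩ : ↥A) ∈ Submodule.comap A.subtype B from hb),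
            rfl⟩, Submodule.map_subtype_le A N.1⟩⟩
      invFun := fun N' => ⟨Submodule.comap A.subtype N'.1, Submodule.comap_mono N'.2.1⟩
      left_inv := fun N => Subtype.ext
        (Submodule.comap_map_eq_of_injective A.injective_subtype N.1)
      right_inv := fun N' => Subtype.ext (by
        change Submodule.map A.subtype (Submodule.comap A.subtype N'.1) = N'.1
        rw [Submodule.map_comap_subtype]
        exact inf_eq_right.mpr N'.2.2)
      map_rel_iff' := by
        intro N₁ N₂
        change Submodule.map A.subtype N₁.1 ≤ Submodule.map A.subtype N₂.1 ↔ N₁.1 ≤ N₂.1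
        exact Submodule.map_le_map_iff_of_injective A.injective_subtype _ _ }

/-- additivity of length along a tower `C ≤ B ≤ A`. -/
theorem length_tower (C B A : Submodule R V) (hCB : C ≤ B) (hBA : B ≤ A) :
    Module.length R (↥A ⧸ Submodule.comap A.subtype C) =
      Module.length R (↥B ⧸ Submodule.comap B.subtype C) +
        Module.length R (↥A ⧸ Submodule.comap A.subtype B) := by
  let f : (↥B ⧸ Submodule.comap B.subtype C) →ₗ[R] (↥A ⧸ Submodule.comap A.subtype C) :=
    Submodule.mapQ _ _ (Submodule.inclusion hBA) (by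
      intro x hx
      exact hx)
  let g : (↥A ⧸ Submodule.comap A.subtype C) →ₗ[R] (↥A ⧸ Submodule.comap A.subtype B) :=
    Submodule.mapQ _ _ LinearMap.id (by
      intro x hx
      exact hCB hx)
  have hf : Function.Injective f := by
    rw [injective_iff_map_eq_zero]
    intro x hx
    obtain ⟨b, rfl⟩ := Submodule.Quotient.mk_surjective _ x
    rw [Submodule.Quotient.mk_eq_zero]
    have h1 : f (Submodule.Quotient.mk b) = Submodule.Quotient.mk (Submodule.inclusion hBA b) :=
      rfl
    rw [h1, Submodule.Quotient.mk_eq_zero] at hx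
    exact hx
  have hg : Function.Surjective g := by
    intro y
    obtain ⟨a, rfl⟩ := Submodule.Quotient.mk_surjective _ y
    exact ⟨Submodule.Quotient.mk a, rfl⟩
  have hex : Function.Exact f g := by
    intro y
    obtain ⟨a, rfl⟩ := Submodule.Quotient.mk_surjective _ y
    have h1 : g (Submodule.Quotient.mk a) = Submodule.Quotient.mk a := rfl
    rw [h1, Submodule.Quotient.mk_eq_zero]
    constructor
    · intro ha
      exact ⟨Submodule.Quotient.mk ⟨a.1, ha⟩, rfl⟩
    · rintro ⟨x, hx⟩
      obtain ⟨b, rfl⟩ := Submodule.Quotient.mk_surjective _ x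
      have h2 : f (Submodule.Quotient.mk b) = Submodule.Quotient.mk (Submodule.inclusion hBA b) :=
        rfl
      rw [h2, Submodule.Quotient.eq] at hx
      have h3 : ((Submodule.inclusion hBA b - a : ↥A) : V) ∈ C := hx
      have h4 : (a : V) = (b : V) - ((Submodule.inclusion hBA b - a : ↥A) : V) := by
        simp
      change (a : V) ∈ B
      rw [h4]
      exact B.sub_mem b.2 (hCB h3)
  exact Module.length_eq_add_of_exact f g hf hg hex

end General

section Frac

variable {O : Type u} [CommRing O] [IsDomain O] (K : Type u) [Field K] [Algebra O K]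
  [IsFractionRing O K]

theorem exists_smul_eq_smul (x y : K) (hy : y ≠ 0) : ∃ s t : O, s ≠ 0 ∧ s • x = t • y := by
  obtain ⟨t, s, hs, hts⟩ := IsFractionRing.div_surjective (A := O) (x / y)
  have hs0 : s ≠ 0 := nonZeroDivisors.ne_zero hs
  have hs' : algebraMap O K s ≠ 0 := by
    intro h
    exact hs0 ((IsFractionRing.injective O K) (h.trans (map_zero _).symm))
  refine ⟨s, t, hs0, ?_⟩
  rw [Algebra.smul_def, Algebra.smul_def]
  field_simp at hts
  rw [mul_comm] at hts
  linear_combination (-1 : K) * hts

end Frac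

section Lattice

variable {O : Type u} [CommRing O] [IsDomain O] [IsNoetherianRing O] [IsLocalRing O]
  {K : Type u} [Field K] [Algebra O K] [IsFractionRing O K]
  (ω : Submodule O K) [Module.Finite O ↥ω] [Nontrivial ↥ω]
  [HasInjectiveDimensionLT (ModuleCat.of O ↥ω) 2]

theorem hrk_submodule (N : Submodule O K) :
    ∀ w₀ w : ↥N, w₀ ≠ 0 → ∃ s t : O, s ≠ 0 ∧ s • w = t • w₀ := by
  intro w₀ w hw₀
  have hw₀' : (w₀ : K) ≠ 0 := fun h => hw₀ (Subtype.ext h)
  obtain ⟨s, t, hs, hst⟩ := exists_smul_eq_smul (O := O) K (w : K) (w₀ : K) hw₀'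
  exact ⟨s, t, hs, Subtype.ext hst⟩

theorem div_antitone {A B : Submodule O K} (h : A ≤ B) : ω / B ≤ ω / A :=
  fun _ hx y hy => hx y (h hy)

/-- **the duality `A ↦ ω / A` is an involution** on nonzero finitely generated submodules. -/
theorem div_div_eq (hdim : ringKrullDim O = 1) (A : Submodule O K) (hA : A.FG) (hA0 : A ≠ ⊥) :
    ω / (ω / A) = A := by
  haveI : Module.Finite O ↥A := Module.Finite.iff_fg.mpr hA
  haveI : Module.IsTorsionFree O K := inferInstance
  haveI : Module.IsTorsionFree O ↥A := inferInstance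
  haveI : Module.IsTorsionFree O ↥ω := inferInstance
  have hrk := hrk_submodule (O := O) ω
  apply le_antisymm
  · intro x hx
    obtain ⟨a₀, ha₀, ha₀0⟩ := Submodule.exists_mem_ne_zero_of_ne_bot hA0
    let c : (↥A →ₗ[O] ↥ω) →ₗ[O] K :=
      { toFun := fun φ => (φ ⟨a₀, ha₀⟩ : K) * a₀⁻¹
        map_add' := by
          intro φ ψ
          simp [add_mul]
        map_smul' := by
          intro r φ
          simp [Algebra.smul_def, mul_assoc] }
    have hc : ∀ (φ : ↥A →ₗ[O] ↥ω) (a : ↥A), (φ a : K) = c φ * a := by
      intro φ a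
      obtain ⟨s, t, hs, hst⟩ := exists_smul_eq_smul (O := O) K (a : K) a₀ ha₀0
      have h1 : s • φ a = t • φ ⟨a₀, ha₀⟩ := by
        rw [← map_smul, ← map_smul]
        congr 1
        exact Subtype.ext hst
      have h2 : s • (φ a : K) = t • (φ ⟨a₀, ha₀⟩ : K) := congrArg Subtype.val h1
      change (φ a : K) = (φ ⟨a₀, ha₀⟩ : K) * a₀⁻¹ * a
      rw [Algebra.smul_def, Algebra.smul_def] at h2 hst
      have hs' : algebraMap O K s ≠ 0 := by
        intro h
        exact hs ((IsFractionRing.injective O K) (h.trans (map_zero _).symm))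
      field_simp
      apply mul_left_cancel₀ hs'
      linear_combination a₀ * h2 - (φ ⟨a₀, ha₀⟩ : K) * hst
    have hcmem : ∀ φ : ↥A →ₗ[O] ↥ω, c φ ∈ ω / A := by
      intro φ
      rw [Submodule.mem_div_iff_forall_mul_mem]
      intro y hy
      rw [← hc φ ⟨y, hy⟩]
      exact (φ ⟨y, hy⟩).2
    let Φ : (↥A →ₗ[O] ↥ω) →ₗ[O] ↥ω :=
      LinearMap.codRestrict ω ((LinearMap.mulLeft O x) ∘ₗ c) (fun φ => hx (c φ) (hcmem φ))
    obtain ⟨m, hm⟩ := applyₗ_surjective ↥ω hdim hrk ↥A Φ
    obtain ⟨φ₁, hφ₁⟩ : ∃ φ₁ : ↥A →ₗ[O] ↥ω, φ₁ ≠ 0 := by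
      by_contra hcon
      push Not at hcon
      have h0 : (⟨a₀, ha₀⟩ : ↥A) = 0 := by
        apply applyₗ_injective (O := O) ↥ω ↥A
        apply LinearMap.ext
        intro φ
        rw [hcon φ]
        rfl
      exact ha₀0 (congrArg Subtype.val h0)
    have hc1 : c φ₁ ≠ 0 := by
      intro h0
      apply hφ₁
      apply LinearMap.ext
      intro a
      apply Subtype.ext
      rw [hc φ₁ a, h0, zero_mul]
      rfl
    have h3 : (φ₁ m : K) = x * c φ₁ := by
      have := LinearMap.congr_fun hm φ₁
      exact congrArg Subtype.val this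
    rw [hc φ₁ m] at h3
    have hxm : x = m := by
      apply mul_left_cancel₀ hc1
      linear_combination -h3
    rw [hxm]
    exact m.2
  · intro a ha
    rw [Submodule.mem_div_iff_forall_mul_mem]
    intro y hy
    rw [mul_comm]
    exact hy a ha

theorem div_self_eq_one (hdim : ringKrullDim O = 1) (h1 : (1 : Submodule O K) ≤ ω) :
    ω / ω = 1 := by
  haveI : Module.IsTorsionFree O K := inferInstance
  haveI : Module.IsTorsionFree O ↥ω := inferInstance
  have hrk := hrk_submodule (O := O) ω
  apply le_antisymm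
  · intro x hx
    let μ : ↥ω →ₗ[O] ↥ω :=
      LinearMap.codRestrict ω ((LinearMap.mulLeft O x) ∘ₗ ω.subtype) (fun w => hx w w.2)
    obtain ⟨r, hr⟩ := (lsmul_bijective ↥ω hdim hrk).2 μ
    have h1' : (1 : K) ∈ ω := Submodule.one_le.mp h1
    have h2 := LinearMap.congr_fun hr ⟨1, h1'⟩
    have h3 : r • (1 : K) = x * 1 := congrArg Subtype.val h2
    rw [Submodule.mem_one]
    refine ⟨r, ?_⟩
    rw [Algebra.algebraMap_eq_smul_one, h3, mul_one]
  · rw [Submodule.le_div_iff]
    intro x hx z hz
    obtain ⟨r, rfl⟩ := Submodule.mem_one.mp hx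
    rw [← Algebra.smul_def]
    exact ω.smul_mem r hz

theorem div_one_eq : ω / (1 : Submodule O K) = ω := by
  apply le_antisymm
  · intro x hx
    have := hx 1 (Submodule.one_le.mp le_rfl)
    rwa [mul_one] at this
  · rw [Submodule.le_div_iff]
    intro x hx z hz
    obtain ⟨r, rfl⟩ := Submodule.mem_one.mp hz
    rw [mul_comm, ← Algebra.smul_def]
    exact ω.smul_mem r hx

end Lattice

section Main

variable {O : Type u} [CommRing O] [IsDomain O] [IsNoetherianRing O] [IsLocalRing O]
  {K : Type u} [Field K] [Algebra O K] [IsFractionRing O K]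

/-- **length formula** `ℓ(ω/O) + ℓ(O~/C) = 2 ℓ(O~/O)` for a canonical ideal `O ⊆ ω ⊆ O~`. -/
theorem length_formula (hdim : ringKrullDim O = 1)
    (hfin : Module.Finite O ↥(integralClosure O K)) (ω : Submodule O K)
    (hω1 : (1 : Submodule O K) ≤ ω)
    (hω2 : ω ≤ (Subalgebra.toSubmodule (integralClosure O K)))
    [hωinj : HasInjectiveDimensionLT (ModuleCat.of O ↥ω) 2] :
    Module.length O (↥ω ⧸ Submodule.comap ω.subtype (1 : Submodule O K)) +
      Module.length O (↥(integralClosure O K) ⧸
        ((1 : Submodule O K).colon (Subalgebra.toSubmodule (integralClosure O K))) •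
          (⊤ : Submodule O ↥(integralClosure O K))) =
      2 * Module.length O (↥(integralClosure O K) ⧸
        Submodule.comap (Subalgebra.toSubmodule (integralClosure O K)).subtype
          (1 : Submodule O K)) := by
  set Ot : Submodule O K := Subalgebra.toSubmodule (integralClosure O K) with hOt
  have hOtfg : Ot.FG := Module.Finite.iff_fg.mp hfin
  haveI : IsNoetherian O ↥Ot := isNoetherian_of_fg_of_noetherian Ot hOtfg
  have hfgle : ∀ N : Submodule O K, N ≤ Ot → N.FG := by
    intro N hN
    have h1 : Submodule.map Ot.subtype (Submodule.comap Ot.subtype N) = N := by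
      rw [Submodule.map_comap_subtype]
      exact inf_eq_right.mpr hN
    rw [← h1]
    exact (IsNoetherian.noetherian _).map _
  have h1mem : (1 : K) ∈ ω := Submodule.one_le.mp hω1
  have h1Ot : (1 : K) ∈ Ot := hω2 h1mem
  have hmulOt : ∀ x ∈ Ot, ∀ y ∈ Ot, x * y ∈ Ot := fun x hx y hy =>
    (integralClosure O K).mul_mem hx hy
  haveI : Module.Finite O ↥ω := Module.Finite.iff_fg.mpr (hfgle ω hω2)
  have hne_bot : ∀ N : Submodule O K, (1 : Submodule O K) ≤ N → N ≠ ⊥ := by
    intro N hN h
    have : (1 : K) ∈ N := Submodule.one_le.mp hN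
    rw [h, Submodule.mem_bot] at this
    exact one_ne_zero this
  haveI : Nontrivial ↥ω := Submodule.nontrivial_iff_ne_bot.mpr (hne_bot ω hω1)
  set CK : Submodule O K := (1 : Submodule O K) / Ot with hCK
  -- (ω : O~) = C
  have hdivOt : ω / Ot = CK := by
    apply le_antisymm
    · intro x hx
      rw [hCK, Submodule.mem_div_iff_forall_mul_mem]
      intro b hb
      rw [← div_self_eq_one ω hdim hω1, Submodule.mem_div_iff_forall_mul_mem]
      intro w hw
      rw [mul_assoc]
      exact hx _ (hmulOt b hb w (hω2 hw))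
    · intro x hx b hb
      exact hω1 (hx b hb)
  have hCKle : CK ≤ 1 := by
    intro x hx
    have := hx 1 h1Ot
    rwa [mul_one] at this
  have hCK0 : CK ≠ ⊥ := by
    obtain ⟨d, hd, hdb⟩ := FractionalIdeal.isFractional_of_fg (S := nonZeroDivisors O) hOtfg
    have hd0 : d ≠ 0 := nonZeroDivisors.ne_zero hd
    have hmem : algebraMap O K d ∈ CK := by
      rw [hCK, Submodule.mem_div_iff_forall_mul_mem]
      intro b hb
      obtain ⟨r, hr⟩ := hdb b hb
      rw [Submodule.mem_one]
      exact ⟨r, by rw [hr, Algebra.smul_def]⟩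
    intro h
    rw [h, Submodule.mem_bot] at hmem
    exact hd0 ((IsFractionRing.injective O K) (hmem.trans (map_zero _).symm))
  have hdivCK : ω / CK = Ot := by
    rw [← hdivOt]
    exact div_div_eq ω hdim Ot hOtfg (hne_bot Ot (hω1.trans hω2))
  -- the order anti-isomorphism of intervals
  let e : Set.Icc (1 : Submodule O K) Ot ≃o (Set.Icc CK ω)ᵒᵈ :=
    { toFun := fun N => OrderDual.toDual ⟨ω / N.1, ⟨by
          rw [← hdivOt]
          exact div_antitone ω N.2.2, by
          have := div_antitone ω N.2.1
          rwa [div_one_eq] at this⟩⟩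
      invFun := fun N' => ⟨ω / (OrderDual.ofDual N').1, ⟨by
          rw [← div_self_eq_one ω hdim hω1]
          exact div_antitone ω (OrderDual.ofDual N').2.2, by
          rw [← hdivCK]
          exact div_antitone ω (OrderDual.ofDual N').2.1⟩⟩
      left_inv := fun N => Subtype.ext
        (div_div_eq ω hdim N.1 (hfgle N.1 N.2.2) (hne_bot N.1 N.2.1))
      right_inv := fun N' => by
        apply OrderDual.ofDual.injective
        apply Subtype.ext
        exact div_div_eq ω hdim (OrderDual.ofDual N').1
          (hfgle _ ((OrderDual.ofDual N').2.2.trans hω2))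
          (fun h => hCK0 (le_bot_iff.mp (h ▸ (OrderDual.ofDual N').2.1)))
      map_rel_iff' := by
        intro N₁ N₂
        change ω / N₂.1 ≤ ω / N₁.1 ↔ N₁.1 ≤ N₂.1
        constructor
        · intro h
          have := div_antitone ω h
          rwa [div_div_eq ω hdim N₁.1 (hfgle N₁.1 N₁.2.2) (hne_bot N₁.1 N₁.2.1),
            div_div_eq ω hdim N₂.1 (hfgle N₂.1 N₂.2.2) (hne_bot N₂.1 N₂.2.1)] at this
        · intro h
          exact div_antitone ω h }
  have hkey : Module.length O (↥Ot ⧸ Submodule.comap Ot.subtype (1 : Submodule O K)) =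
      Module.length O (↥ω ⧸ Submodule.comap ω.subtype CK) := by
    apply WithBot.coe_injective
    rw [coe_length_quot_eq_krullDim _ _ (hω1.trans hω2),
      coe_length_quot_eq_krullDim _ _ (hCKle.trans hω1), Order.krullDim_eq_of_orderIso e,
      Order.krullDim_orderDual]
  have hT2 : ((1 : Submodule O K).colon Ot) • (⊤ : Submodule O ↥Ot) =
      Submodule.comap Ot.subtype CK := by
    apply le_antisymm
    · rw [Submodule.smul_le]
      intro r hr b _
      change ((r • b : ↥Ot) : K) ∈ CK
      rw [hCK, Submodule.mem_div_iff_forall_mul_mem]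
      intro y hy
      have h1 : ((r • b : ↥Ot) : K) * y = r • ((b : K) * y) := by
        rw [Submodule.coe_smul, smul_mul_assoc]
      rw [h1]
      exact Submodule.mem_colon.mp hr _ (hmulOt _ b.2 y hy)
    · intro x hx
      have hx' : (x : K) ∈ CK := hx
      have h1 := hx' 1 h1Ot
      rw [mul_one] at h1
      obtain ⟨r, hr⟩ := Submodule.mem_one.mp h1
      have hrc : r ∈ (1 : Submodule O K).colon Ot := by
        rw [Submodule.mem_colon]
        intro p hp
        rw [Algebra.smul_def, hr]
        exact hx' p hp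
      have hx1 : x = r • (⟨1, h1Ot⟩ : ↥Ot) := by
        apply Subtype.ext
        rw [Submodule.coe_smul]
        change (x : K) = r • (1 : K)
        rw [← hr, Algebra.algebraMap_eq_smul_one]
      rw [hx1]
      exact Submodule.smul_mem_smul hrc Submodule.mem_top
  have htow1 := length_tower CK 1 Ot hCKle (hω1.trans hω2)
  have htow2 := length_tower CK 1 ω hCKle hω1
  change Module.length O (↥ω ⧸ Submodule.comap ω.subtype (1 : Submodule O K)) +
      Module.length O (↥Ot ⧸ ((1 : Submodule O K).colon Ot) • (⊤ : Submodule O ↥Ot)) =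
      2 * Module.length O (↥Ot ⧸ Submodule.comap Ot.subtype (1 : Submodule O K))
  rw [hT2, htow1, two_mul]
  nth_rewrite 2 [hkey]
  rw [htow2]
  ring

end Main

end Groth.Agent.Lib.Helper8.TFDual
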