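import Mathlib
import Groth.Agent.Lib.Helper8TFDual4
import Groth.Agent.Lib.Helper19DeltaCondC

/-!
# Relative lengths of nested submodules (helper19)
-/

set_option autoImplicit false
set_option linter.style.haveILetI false

namespace Groth.Agent.Lib.Helper19LatColen

section General

variable {R V : Type*} [CommRing R] [AddCommGroup V] [Module R V]

/-- relative length `ℓ(Y/X)` -/
noncomputable def rl (X Y : Submodule R V) : ℕ∞ :=
  Module.length R (↥Y ⧸ Submodule.comap Y.subtype X)

theorem rl_tower {X Y Z : Submodule R V} (hXY : X ≤ Y) (hYZ : Y ≤ Z) :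
    rl X Z = rl X Y + rl Y Z :=
  Groth.Agent.Lib.Helper8.TFDual.length_tower X Y Z hXY hYZ

theorem rl_self (X : Submodule R V) : rl X X = 0 := by
  unfold rl
  rw [Module.length_eq_zero_iff]
  have : Submodule.comap X.subtype X = ⊤ := by
    rw [eq_top_iff]
    intro x _
    exact x.2
  rw [this]
  infer_instance

theorem rl_map {W : Type*} [AddCommGroup W] [Module R W] (G : V →ₗ[R] W)
    (hG : Function.Injective G) {X Y : Submodule R V} (hXY : X ≤ Y) :
    rl (X.map G) (Y.map G) = rl X Y := by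
  unfold rl
  symm
  apply LinearEquiv.length_eq
  refine Submodule.Quotient.equiv _ _ (Submodule.equivMapOfInjective G hG Y) ?_
  ext z
  constructor
  · rintro ⟨y, hy, rfl⟩
    exact ⟨y.1, hy, rfl⟩
  · intro hz
    obtain ⟨x, hx, hxz⟩ := hz
    refine ⟨⟨x, hXY hx⟩, hx, ?_⟩
    apply Subtype.ext
    exact hxz

theorem rl_mono_right {X Y Z : Submodule R V} (hXY : X ≤ Y) (hYZ : Y ≤ Z) : rl X Y ≤ rl X Z := by
  rw [rl_tower hXY hYZ]
  exact le_self_add

theorem eq_of_rl_eq_zero {X Y : Submodule R V} (hXY : X ≤ Y) (h : rl X Y = 0) : X = Y := by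
  unfold rl at h
  rw [Module.length_eq_zero_iff, Submodule.Quotient.subsingleton_iff] at h
  apply le_antisymm hXY
  intro y hy
  have : (⟨y, hy⟩ : ↥Y) ∈ Submodule.comap Y.subtype X := by rw [h]; trivial
  exact this

end General

section Dim1

variable {O V : Type*} [CommRing O] [IsDomain O] [IsNoetherianRing O] [Ring.KrullDimLE 1 O]
  [AddCommGroup V] [Module O V]

theorem rl_ne_top {X Y : Submodule O V} (hY : Y.FG) (d : O) (hd : d ≠ 0)
    (hdY : ∀ y ∈ Y, d • y ∈ X) : rl X Y ≠ ⊤ := by
  unfold rl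
  rw [Module.length_ne_top_iff]
  haveI : Module.Finite O ↥Y := Module.Finite.iff_fg.mpr hY
  apply Groth.Agent.Lib.Helper19DeltaCond.isFiniteLength_of_torsion hd
  intro q
  obtain ⟨y, rfl⟩ := Submodule.Quotient.mk_surjective _ q
  rw [← Submodule.Quotient.mk_smul, Submodule.Quotient.mk_eq_zero]
  exact hdY y.1 y.2

end Dim1

end Groth.Agent.Lib.Helper19LatColen
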