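import Mathlib
import Groth.Agent.S15009
import Groth.Agent.Lib.Helper19LatColenA

/-!
# Submodules over the normalization with prescribed length over the base (helper19)
-/

set_option autoImplicit false
set_option linter.style.haveILetI false
universe u

namespace Groth.Agent.Lib.Helper19LatColen

open IsLocalRing

section Normalization

variable {O : Type u} [CommRing O] [IsDomain O] [IsNoetherianRing O] [IsLocalRing O]
  [IsAlgClosed (ResidueField O)]
  {K : Type u} [Field K] [Algebra O K] [IsFractionRing O K]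

theorem comap_eq_maximalIdeal (𝔫 : Ideal ↥(integralClosure O K)) [h𝔫 : 𝔫.IsMaximal] :
    𝔫.comap (algebraMap O ↥(integralClosure O K)) = maximalIdeal O := by
  have h1 : (𝔫.comap (algebraMap O ↥(integralClosure O K))).IsMaximal :=
    Ideal.isMaximal_comap_of_isIntegral_of_isMaximal 𝔫
  exact IsLocalRing.eq_maximalIdeal h1

theorem exists_sub_mem (𝔫 : Ideal ↥(integralClosure O K)) [h𝔫 : 𝔫.IsMaximal]
    (b : ↥(integralClosure O K)) :
    ∃ a : O, b - algebraMap O ↥(integralClosure O K) a ∈ 𝔫 := by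
  haveI : 𝔫.LiesOver (maximalIdeal O) := ⟨(comap_eq_maximalIdeal 𝔫).symm⟩
  letI : Field (↥(integralClosure O K) ⧸ 𝔫) := Ideal.Quotient.field 𝔫
  letI : Field (O ⧸ maximalIdeal O) := Ideal.Quotient.field _
  haveI : IsAlgClosed (O ⧸ maximalIdeal O) := ‹IsAlgClosed (ResidueField O)›
  obtain ⟨x, hx⟩ := (IsAlgClosed.algebraMap_bijective_of_isIntegral (k := O ⧸ maximalIdeal O)
    (K := ↥(integralClosure O K) ⧸ 𝔫)).2 (Ideal.Quotient.mk 𝔫 b)
  obtain ⟨a, rfl⟩ := Ideal.Quotient.mk_surjective x
  refine ⟨a, ?_⟩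
  rw [← Ideal.Quotient.eq]
  exact hx.symm

theorem length_eq_one_of_ker (𝔫 : Ideal ↥(integralClosure O K)) [h𝔫 : 𝔫.IsMaximal]
    {N : Type*} [AddCommGroup N] [Module O N]
    (f : ↥(integralClosure O K) →ₗ[O] N) (hf : Function.Surjective f)
    (hker : ∀ b, f b = 0 ↔ b ∈ 𝔫) : Module.length O N = 1 := by
  let g : O →ₗ[O] N := f ∘ₗ (Algebra.linearMap O ↥(integralClosure O K))
  have hg : Function.Surjective g := by
    intro x
    obtain ⟨b, rfl⟩ := hf x
    obtain ⟨a, ha⟩ := exists_sub_mem 𝔫 b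
    refine ⟨a, ?_⟩
    have := (hker _).mpr ha
    rw [map_sub, sub_eq_zero] at this
    exact this.symm
  have hkg : LinearMap.ker g = maximalIdeal O := by
    ext a
    rw [LinearMap.mem_ker]
    show f (algebraMap O ↥(integralClosure O K) a) = 0 ↔ _
    rw [hker, ← comap_eq_maximalIdeal 𝔫]
    rfl
  have e : (O ⧸ maximalIdeal O) ≃ₗ[O] N :=
    (Submodule.quotEquivOfEq _ _ hkg.symm).trans (g.quotKerEquivOfSurjective hg)
  rw [← e.length_eq, Module.length_eq_one_iff, isSimpleModule_iff_isCoatom]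
  exact Ideal.isMaximal_def.mp (maximalIdeal.isMaximal O)

variable {V : Type*} [AddCommGroup V] [Module O V] [Module ↥(integralClosure O K) V]
  [IsScalarTower O ↥(integralClosure O K) V]

theorem exists_between_step (hdim : ringKrullDim O = 1)
    (hfin : Module.Finite O ↥(integralClosure O K))
    (P Z : Submodule ↥(integralClosure O K) V) (hPZ : P ≤ Z) (hne : P ≠ Z)
    (c : O) (hc : c ≠ 0) (hcZ : ∀ z ∈ Z, c • z ∈ P) :
    ∃ P' : Submodule ↥(integralClosure O K) V, P ≤ P' ∧ P' ≤ Z ∧
      rl (P.restrictScalars O) (P'.restrictScalars O) = 1 := by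
  haveI := Groth.Agent.S15009.ot_pid O K hdim hfin
  haveI : IsNoetherianRing ↥(integralClosure O K) := inferInstance
  haveI : IsDedekindDomain ↥(integralClosure O K) := inferInstance
  obtain ⟨z₁, hz₁Z, hz₁P⟩ : ∃ z ∈ Z, z ∉ P := by
    by_contra hcon
    push Not at hcon
    exact hne (le_antisymm hPZ hcon)
  haveI : Nontrivial (↥Z ⧸ Submodule.comap Z.subtype P) := by
    refine ⟨⟨Submodule.Quotient.mk ⟨z₁, hz₁Z⟩, 0, ?_⟩⟩
    rw [ne_eq, Submodule.Quotient.mk_eq_zero]
    exact hz₁P
  obtain ⟨𝔭, h𝔭⟩ := associatedPrimes.nonempty ↥(integralClosure O K)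
    (↥Z ⧸ Submodule.comap Z.subtype P)
  rw [AssociatedPrimes.mem_iff, isAssociatedPrime_iff] at h𝔭
  obtain ⟨h𝔭prime, w, hw⟩ := h𝔭
  obtain ⟨z₀, rfl⟩ := Submodule.Quotient.mk_surjective _ w
  have hmem : ∀ b : ↥(integralClosure O K), b ∈ 𝔭 ↔ b • (z₀ : V) ∈ P := by
    intro b
    rw [hw, Submodule.mem_colon_singleton, ← Submodule.Quotient.mk_smul, Submodule.mem_bot,
      Submodule.Quotient.mk_eq_zero]
    rfl
  have hcp : algebraMap O ↥(integralClosure O K) c ∈ 𝔭 := by
    rw [hmem, algebraMap_smul]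
    exact hcZ _ z₀.2
  have h𝔭0 : 𝔭 ≠ ⊥ := by
    intro h
    rw [h, Ideal.mem_bot] at hcp
    have h3 : algebraMap O K c = 0 := by
      have := congrArg (algebraMap ↥(integralClosure O K) K) hcp
      rwa [map_zero, ← IsScalarTower.algebraMap_apply] at this
    exact hc ((IsFractionRing.injective O K) (h3.trans (map_zero _).symm))
  haveI h𝔭max : 𝔭.IsMaximal := h𝔭prime.isMaximal h𝔭0
  set P' : Submodule ↥(integralClosure O K) V := P ⊔ Submodule.span _ {(z₀ : V)} with hP'
  have hz₀P' : ∀ b : ↥(integralClosure O K), b • (z₀ : V) ∈ P' := fun b =>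
    P'.smul_mem b (le_sup_right (a := P) (Submodule.mem_span_singleton_self _))
  refine ⟨P', le_sup_left, sup_le hPZ ?_, ?_⟩
  · rw [Submodule.span_singleton_le_iff_mem]
    exact z₀.2
  · let f : ↥(integralClosure O K) →ₗ[O]
        (↥(P'.restrictScalars O) ⧸
          Submodule.comap (P'.restrictScalars O).subtype (P.restrictScalars O)) :=
      { toFun := fun b => Submodule.Quotient.mk ⟨b • (z₀ : V), hz₀P' b⟩
        map_add' := fun b b' => by
          rw [← Submodule.Quotient.mk_add]
          congr 1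
          apply Subtype.ext
          exact add_smul b b' _
        map_smul' := fun a b => by
          rw [RingHom.id_apply, ← Submodule.Quotient.mk_smul]
          congr 1
          apply Subtype.ext
          exact smul_assoc a b (z₀ : V) }
    apply length_eq_one_of_ker 𝔭 f
    · intro q
      obtain ⟨p', rfl⟩ := Submodule.Quotient.mk_surjective _ q
      obtain ⟨p, hp, s, hs, hps⟩ := Submodule.mem_sup.mp p'.2
      obtain ⟨b, rfl⟩ := Submodule.mem_span_singleton.mp hs
      refine ⟨b, ?_⟩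
      show Submodule.Quotient.mk _ = Submodule.Quotient.mk _
      rw [Submodule.Quotient.eq]
      show (b • (z₀ : V) - (p' : V)) ∈ P
      rw [← hps]
      have : b • (z₀ : V) - (p + b • (z₀ : V)) = -p := by abel
      rw [this]
      exact P.neg_mem hp
    · intro b
      show Submodule.Quotient.mk _ = 0 ↔ _
      rw [Submodule.Quotient.mk_eq_zero, hmem]
      rfl

theorem exists_between (hdim : ringKrullDim O = 1)
    (hfin : Module.Finite O ↥(integralClosure O K))
    (X Z : Submodule ↥(integralClosure O K) V) (hXZ : X ≤ Z)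
    (c : O) (hc : c ≠ 0) (hcZ : ∀ z ∈ Z, c • z ∈ X) :
    ∀ e : ℕ, (e : ℕ∞) ≤ rl (X.restrictScalars O) (Z.restrictScalars O) →
      ∃ P : Submodule ↥(integralClosure O K) V, X ≤ P ∧ P ≤ Z ∧
        rl (X.restrictScalars O) (P.restrictScalars O) = e := by
  intro e
  induction e with
  | zero =>
    intro _
    exact ⟨X, le_rfl, hXZ, by rw [rl_self]; rfl⟩
  | succ e ih =>
    intro he
    obtain ⟨P, hXP, hPZ, hP⟩ := ih (le_trans (by exact_mod_cast Nat.le_succ e) he)
    have hne : P ≠ Z := by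
      intro h
      rw [h] at hP
      rw [hP] at he
      have : (e : ℕ) + 1 ≤ e := by exact_mod_cast he
      omega
    obtain ⟨P', hPP', hP'Z, hP'⟩ := exists_between_step hdim hfin P Z hPZ hne c hc
      (fun z hz => hXP (hcZ z hz))
    refine ⟨P', le_trans hXP hPP', hP'Z, ?_⟩
    rw [rl_tower (Y := P.restrictScalars O) (fun x hx => hXP hx) (fun x hx => hPP' hx), hP, hP']
    rfl

end Normalization

end Groth.Agent.Lib.Helper19LatColen
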