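import Mathlib
import Groth.Agent.S15009
import Groth.Agent.Lib.Helper19GorLatticeB
import Groth.Agent.Lib.Helper19LatColenB

/-!
# Lattices in `K^n`: extension of maps, bases over the normalization, conductor colength (helper19)
-/

set_option autoImplicit false
set_option linter.style.haveILetI false
universe u

namespace Groth.Agent.Lib.Helper19LatColen

open Groth.Agent.Lib.Helper19GorLattice

section Ext

variable {O : Type u} [CommRing O] [IsDomain O] {K : Type u} [Field K] [Algebra O K]
  [IsFractionRing O K] {n : ℕ}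

/-- `K`-linear extension of an `O`-linear map defined on a lattice containing `O^n`. -/
noncomputable def extK (A : Submodule O (Fin n → K))
    (h1 : Submodule.pi Set.univ (fun _ : Fin n => (1 : Submodule O K)) ≤ A)
    (φ : ↥A →ₗ[O] (Fin n → K)) : (Fin n → K) →ₗ[K] (Fin n → K) :=
  Fintype.linearCombination K (fun i => φ ⟨Pi.single i 1, single_mem h1 i⟩)

theorem algebraMap_ne_zero' {s : O} (hs : s ≠ 0) : algebraMap O K s ≠ 0 := fun h =>
  hs ((IsFractionRing.injective O K) (h.trans (map_zero _).symm))

theorem smul_cancel {s : O} (hs : s ≠ 0) {v w : Fin n → K} (h : s • v = s • w) : v = w := by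
  funext i
  have := congrFun h i
  simp only [Pi.smul_apply, Algebra.smul_def] at this
  exact mul_left_cancel₀ (algebraMap_ne_zero' hs) this

theorem extK_apply (A : Submodule O (Fin n → K))
    (h1 : Submodule.pi Set.univ (fun _ : Fin n => (1 : Submodule O K)) ≤ A)
    (φ : ↥A →ₗ[O] (Fin n → K)) (y : ↥A) : extK A h1 φ (y : Fin n → K) = φ y := by
  classical
  obtain ⟨s, hs0, hs⟩ := exists_common_denom (O := O) (y : Fin n → K)
  choose a ha using hs
  have hsy : s • y = ∑ i, a i • (⟨_, single_mem h1 i⟩ : ↥A) := by
    apply Subtype.ext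
    funext j
    simp only [Submodule.coe_smul, Pi.smul_apply, Submodule.coe_sum, Finset.sum_apply,
      Algebra.smul_def]
    rw [Finset.sum_eq_single j]
    · simp [ha]
    · intro i _ hij
      simp [Pi.single_eq_of_ne (Ne.symm hij)]
    · intro h
      exact absurd (Finset.mem_univ j) h
  apply smul_cancel hs0
  rw [← map_smul φ, hsy, map_sum, extK, Fintype.linearCombination_apply, Finset.smul_sum]
  apply Finset.sum_congr rfl
  intro i _
  rw [map_smul φ, ← smul_assoc s, Algebra.smul_def s, ← ha i, algebraMap_smul]

theorem extK_injective (A : Submodule O (Fin n → K))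
    (h1 : Submodule.pi Set.univ (fun _ : Fin n => (1 : Submodule O K)) ≤ A)
    (φ : ↥A →ₗ[O] (Fin n → K)) (hφ : Function.Injective φ) :
    Function.Injective (extK A h1 φ) := by
  rw [injective_iff_map_eq_zero]
  intro v hv
  obtain ⟨s, hs0, hs⟩ := exists_common_denom (O := O) v
  have hmem : s • v ∈ A := by
    apply h1
    rw [Submodule.mem_pi]
    intro i _
    obtain ⟨a, ha⟩ := hs i
    rw [Submodule.mem_one]
    exact ⟨a, by rw [ha, Pi.smul_apply, Algebra.smul_def]⟩
  have h2 : φ ⟨s • v, hmem⟩ = 0 := by
    rw [← extK_apply A h1 φ ⟨s • v, hmem⟩]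
    show extK A h1 φ (s • v) = 0
    rw [← algebraMap_smul K s v, map_smul, hv, smul_zero]
  have h3 : (⟨s • v, hmem⟩ : ↥A) = 0 := hφ (h2.trans (map_zero φ).symm)
  have h4 : s • v = s • (0 : Fin n → K) := by
    rw [smul_zero]
    exact congrArg Subtype.val h3
  exact smul_cancel hs0 h4

end Ext

section Basis

variable {O : Type u} [CommRing O] [IsDomain O] [IsNoetherianRing O] [IsLocalRing O]
  {K : Type u} [Field K] [Algebra O K] [IsFractionRing O K] {n : ℕ}

/-- An `O~`-lattice in `K^n` is the image of `O~^n` under an injective `K`-linear map. -/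
theorem exists_linearMap_of_lattice (hdim : ringKrullDim O = 1)
    (hfin : Module.Finite O ↥(integralClosure O K))
    (P : Submodule ↥(integralClosure O K) (Fin n → K)) (hfg : P.FG)
    (hspan : Submodule.span K (P : Set (Fin n → K)) = ⊤) :
    ∃ G : (Fin n → K) →ₗ[K] (Fin n → K), Function.Injective G ∧
      ∀ v : Fin n → K, G v ∈ P ↔ ∀ i, v i ∈ integralClosure O K := by
  classical
  haveI := Groth.Agent.S15009.ot_pid O K hdim hfin
  haveI := Groth.Agent.S15009.ot_frac O K
  haveI : Submodule.IsLattice K P := ⟨hfg, hspan⟩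
  haveI : Module.Free ↥(integralClosure O K) ↥P := inferInstance
  have hrank : Module.finrank ↥(integralClosure O K) ↥P = n := by
    rw [Submodule.IsLattice.finrank_of_pi K P, Fintype.card_fin]
  let b : Module.Basis (Fin n) ↥(integralClosure O K) ↥P := Module.finBasisOfFinrankEq _ _ hrank
  let G : (Fin n → K) →ₗ[K] (Fin n → K) :=
    Fintype.linearCombination K (fun i => ((b i : ↥P) : Fin n → K))
  have hli : LinearIndependent K (fun i => ((b i : ↥P) : Fin n → K)) := by
    rw [← LinearIndependent.iff_fractionRing (R := ↥(integralClosure O K))]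
    exact b.linearIndependent.map' P.subtype (Submodule.ker_subtype P)
  have hGinj : Function.Injective G :=
    linearIndependent_iff_injective_fintypeLinearCombination.mp hli
  have h1 : ∀ c : Fin n → ↥(integralClosure O K),
      G (fun i => ((c i : ↥(integralClosure O K)) : K)) =
        ((∑ i, c i • b i : ↥P) : Fin n → K) := by
    intro c
    rw [Fintype.linearCombination_apply, Submodule.coe_sum]
    apply Finset.sum_congr rfl
    intro i _
    rw [Submodule.coe_smul]
    rfl
  refine ⟨G, hGinj, fun v => ⟨fun hv => ?_, fun hv => ?_⟩⟩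
  · have h2 := h1 (fun i => b.repr ⟨G v, hv⟩ i)
    rw [b.sum_repr] at h2
    have h3 := hGinj h2
    intro i
    rw [← h3]
    exact (b.repr ⟨G v, hv⟩ i).2
  · have h2 := h1 (fun i => ⟨v i, hv i⟩)
    have h3 : (fun i => (((⟨v i, hv i⟩ : ↥(integralClosure O K))) : K)) = v := rfl
    rw [h3] at h2
    rw [h2]
    exact Subtype.mem _

end Basis

section Conductor

variable {O : Type u} [CommRing O] [IsDomain O] {K : Type u} [Field K] [Algebra O K]
  [IsFractionRing O K] {n : ℕ}

theorem mem_ideal_smul_one (I : Ideal O) (x : K) :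
    x ∈ I • (1 : Submodule O K) ↔ ∃ a ∈ I, algebraMap O K a = x := by
  constructor
  · intro hx
    refine Submodule.smul_induction_on hx ?_ ?_
    · intro r hr w hw
      rw [Submodule.mem_one] at hw
      obtain ⟨a, rfl⟩ := hw
      exact ⟨r * a, I.mul_mem_right a hr, by rw [map_mul, Algebra.smul_def]⟩
    · rintro w w' ⟨a, ha, rfl⟩ ⟨a', ha', rfl⟩
      exact ⟨a + a', I.add_mem ha ha', map_add _ _ _⟩
  · rintro ⟨a, ha, rfl⟩
    have : algebraMap O K a = a • (1 : K) := by rw [Algebra.smul_def, mul_one]
    rw [this]
    exact Submodule.smul_mem_smul ha (Submodule.one_le.mp le_rfl)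

/-- `ℓ(O^n / C^n) = n ℓ(O/C)`. -/
theorem rl_pi_ideal (I : Ideal O) :
    rl (Submodule.pi Set.univ (fun _ : Fin n => I • (1 : Submodule O K)))
      (Submodule.pi Set.univ (fun _ : Fin n => (1 : Submodule O K))) =
      (n : ℕ∞) * Module.length O (O ⧸ I) := by
  classical
  set On : Submodule O (Fin n → K) := Submodule.pi Set.univ (fun _ : Fin n => (1 : Submodule O K))
  set Cn : Submodule O (Fin n → K) :=
    Submodule.pi Set.univ (fun _ : Fin n => I • (1 : Submodule O K))
  have hmemOn : ∀ a : Fin n → O, (fun i => algebraMap O K (a i)) ∈ On := by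
    intro a
    rw [Submodule.mem_pi]
    intro i _
    exact Submodule.mem_one.mpr ⟨a i, rfl⟩
  let f : (Fin n → O) →ₗ[O] (↥On ⧸ Submodule.comap On.subtype Cn) :=
    { toFun := fun a => Submodule.Quotient.mk ⟨fun i => algebraMap O K (a i), hmemOn a⟩
      map_add' := fun a a' => by
        rw [← Submodule.Quotient.mk_add]
        congr 1
        apply Subtype.ext
        funext i
        exact map_add _ _ _
      map_smul' := fun r a => by
        rw [RingHom.id_apply, ← Submodule.Quotient.mk_smul]
        congr 1
        apply Subtype.ext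
        funext i
        show algebraMap O K (r * a i) = r • algebraMap O K (a i)
        rw [map_mul, Algebra.smul_def] }
  have hf : Function.Surjective f := by
    intro q
    obtain ⟨y, rfl⟩ := Submodule.Quotient.mk_surjective _ q
    have hy := y.2
    rw [Submodule.mem_pi] at hy
    have hy' : ∀ i, ∃ a : O, algebraMap O K a = (y : Fin n → K) i := fun i =>
      Submodule.mem_one.mp (hy i (Set.mem_univ i))
    choose a ha using hy'
    refine ⟨a, ?_⟩
    show Submodule.Quotient.mk _ = Submodule.Quotient.mk _
    congr 1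
    apply Subtype.ext
    funext i
    exact ha i
  have hker : LinearMap.ker f = Submodule.pi Set.univ (fun _ : Fin n => I) := by
    ext a
    rw [LinearMap.mem_ker]
    show Submodule.Quotient.mk _ = 0 ↔ _
    rw [Submodule.Quotient.mk_eq_zero, Submodule.mem_comap, Submodule.mem_pi, Submodule.mem_pi]
    constructor
    · intro h i hi
      obtain ⟨a', ha', haa⟩ := (mem_ideal_smul_one I _).mp (h i hi)
      have : a' = a i := IsFractionRing.injective O K haa
      rw [← this]
      exact ha'
    · intro h i hi
      exact (mem_ideal_smul_one I _).mpr ⟨a i, h i hi, rfl⟩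
  let e : ((Fin n → O) ⧸ Submodule.pi Set.univ (fun _ : Fin n => I)) ≃ₗ[O]
      (↥On ⧸ Submodule.comap On.subtype Cn) :=
    (Submodule.quotEquivOfEq _ _ hker.symm).trans (f.quotKerEquivOfSurjective hf)
  unfold rl
  rw [← e.length_eq, (Submodule.quotientPi (fun _ : Fin n => I)).length_eq,
    Module.length_pi_of_fintype]
  simp

end Conductor

end Groth.Agent.Lib.Helper19LatColen
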