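import Mathlib
import Groth.Prelude.Def_DeRham
import Groth.Agent.Lib.Helper19CartanD

/-!
# de Rham cohomology of `G_m = Spec k[T, T⁻¹]` in characteristic zero
-/

set_option autoImplicit false

namespace Groth.Agent.Lib.Helper19.LaurentDR

open exteriorPower LaurentPolynomial
open Groth.Agent.Lib.Helper19.Cartan

universe u

variable (k : Type u) [Field k]

/-- the linear map `T^n ↦ n T^n` -/
noncomputable def Llin : LaurentPolynomial k →ₗ[k] LaurentPolynomial k :=
  (AddMonoidAlgebra.coeffLinearEquiv k).symm.toLinearMap ∘ₗ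
    (Finsupp.lsum k (fun n : ℤ => (n : k) • (Finsupp.lsingle n : k →ₗ[k] (ℤ →₀ k)))) ∘ₗ
    (AddMonoidAlgebra.coeffLinearEquiv k).toLinearMap

lemma Llin_single (n : ℤ) (r : k) :
    Llin k (AddMonoidAlgebra.single n r) = AddMonoidAlgebra.single n ((n : k) * r) := by
  show AddMonoidAlgebra.ofCoeff ((Finsupp.lsum k (fun n : ℤ => (n : k) • (Finsupp.lsingle n : k →ₗ[k] (ℤ →₀ k))))
    (Finsupp.single n r)) = _
  rw [Finsupp.lsum_single, LinearMap.smul_apply, Finsupp.lsingle_apply, Finsupp.smul_single,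
    smul_eq_mul]
  rfl

lemma Llin_leibniz (a b : LaurentPolynomial k) :
    Llin k (a * b) = a • Llin k b + b • Llin k a := by
  induction a using AddMonoidAlgebra.induction_linear with
  | zero => simp
  | add a a' h h' => rw [add_mul, map_add, h, h', map_add, add_smul, smul_add]; abel
  | single m r =>
    induction b using AddMonoidAlgebra.induction_linear with
    | zero => simp
    | add b b' h h' => rw [mul_add, map_add, h, h', map_add, add_smul, smul_add]; abel
    | single n s =>
      rw [AddMonoidAlgebra.single_mul_single, Llin_single, Llin_single, Llin_single, smul_eq_mul,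
        smul_eq_mul, AddMonoidAlgebra.single_mul_single, AddMonoidAlgebra.single_mul_single,
        add_comm n m, ← AddMonoidAlgebra.single_add]
      congr 1
      push_cast
      ring

/-- the Euler derivation `T d/dT` -/
noncomputable def θL : Derivation k (LaurentPolynomial k) (LaurentPolynomial k) :=
  Derivation.mk' (Llin k) (Llin_leibniz k)

lemma θL_single (n : ℤ) (r : k) :
    θL k (AddMonoidAlgebra.single n r) = n • AddMonoidAlgebra.single n r := by
  show Llin k _ = _
  rw [Llin_single, ← Int.cast_smul_eq_zsmul k n, AddMonoidAlgebra.smul_single, smul_eq_mul]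

lemma coeff_θL_zero (b : LaurentPolynomial k) : (θL k b).coeff 0 = 0 := by
  induction b using AddMonoidAlgebra.induction_linear with
  | zero => simp
  | add a a' h h' => rw [map_add, AddMonoidAlgebra.coeff_add, Finsupp.add_apply, h, h', add_zero]
  | single m r =>
    show (Llin k _).coeff 0 = 0
    rw [Llin_single, AddMonoidAlgebra.coeff_single, Finsupp.single_apply]
    split_ifs with h
    · rw [h]; simp
    · rfl

/-- graded pieces -/
def 𝓜 (w : ℤ) : Set (LaurentPolynomial k) := {m | ∃ c : k, m = AddMonoidAlgebra.single w c}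

lemma hθ (w : ℤ) (m : LaurentPolynomial k) (hm : m ∈ 𝓜 k w) : θL k m = w • m := by
  obtain ⟨c, rfl⟩ := hm
  exact θL_single k w c

lemma hspan : AddSubmonoid.closure (⋃ w, 𝓜 k w) = ⊤ := by
  rw [eq_top_iff]
  intro p _
  induction p using AddMonoidAlgebra.induction_linear with
  | zero => exact zero_mem _
  | add a a' h h' => exact add_mem (h trivial) (h' trivial)
  | single m r => exact AddSubmonoid.subset_closure (Set.mem_iUnion.mpr ⟨m, r, rfl⟩)

local notation "DT" => KaehlerDifferential.D k (LaurentPolynomial k) (T 1)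

lemma D_T_nat (n : ℕ) : KaehlerDifferential.D k (LaurentPolynomial k) (T (n : ℤ)) =
    ((n : ℤ) • T ((n : ℤ) - 1) : LaurentPolynomial k) • DT := by
  cases n with
  | zero => simp
  | succ n =>
    have h : (T ((n + 1 : ℕ) : ℤ) : LaurentPolynomial k) = T 1 ^ (n + 1) := by rw [T_pow, mul_one]
    rw [h, Derivation.leibniz_pow, T_pow, mul_one, natCast_zsmul, smul_assoc]
    congr 3
    push_cast
    ring

lemma D_T (n : ℤ) : KaehlerDifferential.D k (LaurentPolynomial k) (T n) =
    (n • T (n - 1) : LaurentPolynomial k) • DT := by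
  obtain ⟨m, rfl | rfl⟩ := Int.eq_nat_or_neg n
  · exact D_T_nat k m
  · have h1 : (T (-(m : ℤ)) : LaurentPolynomial k) * T (m : ℤ) = 1 := by
      rw [← T_add, neg_add_cancel, T_zero]
    rw [Derivation.leibniz_of_mul_eq_one _ h1, D_T_nat, smul_smul]
    congr 1
    rw [pow_two, ← T_add, neg_mul, mul_smul_comm, ← T_add, neg_smul]
    congr 3
    ring

lemma D_single (n : ℤ) (r : k) :
    KaehlerDifferential.D k (LaurentPolynomial k) (AddMonoidAlgebra.single n r) =
      (AddMonoidAlgebra.single (n - 1) ((n : k) * r) : LaurentPolynomial k) • DT := by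
  have h : (AddMonoidAlgebra.single n r : LaurentPolynomial k) = r • T n := by
    rw [T, AddMonoidAlgebra.smul_single, smul_eq_mul, mul_one]
  rw [h, Derivation.map_smul, D_T, ← smul_assoc]
  congr 1
  rw [T, ← Int.cast_smul_eq_zsmul k n, AddMonoidAlgebra.smul_single, AddMonoidAlgebra.smul_single,
    smul_eq_mul, smul_eq_mul, mul_one, mul_comm]

lemma exists_D_eq (b : LaurentPolynomial k) :
    ∃ a : LaurentPolynomial k, KaehlerDifferential.D k (LaurentPolynomial k) b = a • DT := by
  induction b using AddMonoidAlgebra.induction_linear with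
  | zero => exact ⟨0, by simp⟩
  | add a a' h h' =>
    obtain ⟨c, hc⟩ := h
    obtain ⟨c', hc'⟩ := h'
    exact ⟨c + c', by rw [map_add, hc, hc', add_smul]⟩
  | single m r => exact ⟨_, D_single k m r⟩

lemma eq_zero_of_two_le (q : ℕ) (y : ↥(⋀[LaurentPolynomial k]^(q + 2) (Ω[LaurentPolynomial k⁄k]))) :
    y = 0 := by
  refine gen_induction' (q + 2) (fun y => y = 0) rfl (fun x y hx hy => by rw [hx, hy, add_zero])
    (fun c b => ?_) y
  choose a ha using fun i => exists_D_eq k (b i)
  unfold DeRham.gen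
  simp only [ha]
  rw [AlternatingMap.map_smul_univ]
  have : ιMulti (LaurentPolynomial k) (q + 2) (fun _ : Fin (q + 2) => DT) = 0 :=
    AlternatingMap.map_eq_zero_of_eq _ _ (i := 0) (j := 1) rfl (by simp [Fin.ext_iff])
  rw [this, smul_zero, smul_zero]

/-- the form `T⁻¹ dT` -/
noncomputable def ω₀ : ↥(⋀[LaurentPolynomial k]^1 (Ω[LaurentPolynomial k⁄k])) :=
  DeRham.gen (KaehlerDifferential.D k (LaurentPolynomial k)) 1 (T (-1)) (fun _ => T 1)

lemma ιMulti_one_smul (a : LaurentPolynomial k) (x : Ω[LaurentPolynomial k⁄k]) :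
    ιMulti (LaurentPolynomial k) 1 (fun _ : Fin 1 => a • x) =
      a • ιMulti (LaurentPolynomial k) 1 (fun _ : Fin 1 => x) := by
  have := AlternatingMap.map_smul_univ (ιMulti (LaurentPolynomial k) 1 (M := Ω[LaurentPolynomial k⁄k]))
    (fun _ : Fin 1 => a) (fun _ : Fin 1 => x)
  simpa using this

lemma weight_zero_gen_mem (w₀ : ℤ) (w : Fin 1 → ℤ)
    (b₀ : LaurentPolynomial k) (b : Fin 1 → LaurentPolynomial k)
    (hw : w₀ + ∑ j, w j = 0) (hb₀ : b₀ ∈ 𝓜 k w₀) (hb : ∀ j, b j ∈ 𝓜 k (w j)) :
    DeRham.gen (KaehlerDifferential.D k (LaurentPolynomial k)) 1 b₀ b ∈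
      (Submodule.span k {ω₀ k}).toAddSubgroup := by
  obtain ⟨c₀, rfl⟩ := hb₀
  obtain ⟨c₁, hc₁⟩ := hb 0
  have hw' : w₀ + w 0 = 0 := by simpa using hw
  have hb' : b = fun _ => AddMonoidAlgebra.single (w 0) c₁ := by
    funext j
    rw [Subsingleton.elim j 0, hc₁]
  have key : DeRham.gen (KaehlerDifferential.D k (LaurentPolynomial k)) 1
      (AddMonoidAlgebra.single w₀ c₀) b = (c₀ * ((w 0 : k) * c₁)) • ω₀ k := by
    rw [hb', ω₀]
    unfold DeRham.gen
    simp only [D_single]
    rw [ιMulti_one_smul, smul_smul, AddMonoidAlgebra.single_mul_single, ← smul_assoc]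
    congr 1
    rw [T, AddMonoidAlgebra.smul_single, smul_eq_mul, mul_one]
    congr 1
    omega
  rw [key]
  exact Submodule.smul_mem _ _ (Submodule.subset_span rfl)

variable {k}
variable (d : ∀ p : ℕ, ↥(⋀[LaurentPolynomial k]^p (Ω[LaurentPolynomial k⁄k])) →ₗ[k]
    ↥(⋀[LaurentPolynomial k]^(p + 1) (Ω[LaurentPolynomial k⁄k])))
  (hd : DeRham.IsDiff (KaehlerDifferential.D k (LaurentPolynomial k)) d)

/-- the residue functional -/
noncomputable def res : ↥(⋀[LaurentPolynomial k]^1 (Ω[LaurentPolynomial k⁄k])) →ₗ[k] k :=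
  (Finsupp.lapply (0 : ℤ) : (ℤ →₀ k) →ₗ[k] k) ∘ₗ (AddMonoidAlgebra.coeffLinearEquiv k).toLinearMap ∘ₗ
    ((exteriorPower.zeroEquiv (LaurentPolynomial k) (Ω[LaurentPolynomial k⁄k])).toLinearMap.restrictScalars k) ∘ₗ
    ((contr (θL k) 0).restrictScalars k)

lemma res_apply (y : ↥(⋀[LaurentPolynomial k]^1 (Ω[LaurentPolynomial k⁄k]))) :
    res y = (exteriorPower.zeroEquiv (LaurentPolynomial k) (Ω[LaurentPolynomial k⁄k])
      (contr (θL k) 0 y)).coeff 0 := rfl

include hd in
lemma res_d (g : ↥(⋀[LaurentPolynomial k]^0 (Ω[LaurentPolynomial k⁄k]))) : res (d 0 g) = 0 := by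
  refine gen_induction' 0 (fun g => res (d 0 g) = 0) (by simp) (fun x y hx hy => by
    rw [map_add, map_add, hx, hy, add_zero]) (fun c b => ?_) g
  rw [res_apply, cartan_zero (θL k) d hd]
  unfold DeRham.gen
  rw [map_smul, exteriorPower.zeroEquiv_ιMulti, smul_eq_mul, mul_one]
  exact coeff_θL_zero k c

lemma res_ω₀ : res (ω₀ k) = 1 := by
  rw [res_apply, ω₀]
  unfold DeRham.gen
  rw [map_smul, contr_ιMulti]
  have h1 : ∀ f : Fin (0 + 1) → ↥(⋀[LaurentPolynomial k]^0 (Ω[LaurentPolynomial k⁄k])),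
      ∑ j, f j = f 0 := fun f => Fin.sum_univ_one f
  rw [h1]
  simp only [Fin.val_zero, pow_zero, one_smul, eps_D, map_smul, exteriorPower.zeroEquiv_ιMulti,
    smul_eq_mul, mul_one]
  have h2 : θL k (T 1) = T 1 := by
    have := θL_single k 1 1
    rw [one_smul] at this
    exact this
  rw [h2, ← T_add]
  simp

include hd in
theorem main [CharZero k] :
    DeRham.cocycles d 1 = ⊤ ∧
    IsCompl (DeRham.coboundaries d 1) (Submodule.span k {ω₀ k}) ∧
    ω₀ k ∉ DeRham.coboundaries d 1 ∧
    ∀ i : ℕ, DeRham.cocycles d (i + 2) ≤ DeRham.coboundaries d (i + 2) := by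
  have hcl : DeRham.cocycles d 1 = ⊤ := by
    rw [eq_top_iff]
    intro y _
    exact eq_zero_of_two_le k 0 (d 1 y)
  have hex : ∀ x ∈ DeRham.coboundaries d 1, res x = 0 := by
    rintro _ ⟨g, rfl⟩
    exact res_d d hd g
  refine ⟨hcl, ⟨?_, ?_⟩, ?_, ?_⟩
  · rw [Submodule.disjoint_def]
    intro x hx hx'
    obtain ⟨c, rfl⟩ := Submodule.mem_span_singleton.mp hx'
    have := hex _ hx
    rw [map_smul, res_ω₀, smul_eq_mul, mul_one] at this
    rw [this, zero_smul]
  · rw [codisjoint_iff, eq_top_iff]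
    intro y _
    have hy : y ∈ DeRham.cocycles d 1 := by rw [hcl]; trivial
    obtain ⟨y₀, hy₀, -, h2⟩ := exists_weight_zero_cohomologous (θL k) d hd (𝓜 k) (hθ k) (hspan k) 1
      (Submodule.span k {ω₀ k}).toAddSubgroup (weight_zero_gen_mem k) y hy
    have : y = (y - y₀) + y₀ := by abel
    rw [this]
    exact Submodule.add_mem_sup h2 hy₀
  · intro h
    have := hex _ h
    rw [res_ω₀] at this
    exact one_ne_zero this
  · intro i y _
    rw [eq_zero_of_two_le k i y]
    exact zero_mem _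

end Groth.Agent.Lib.Helper19.LaurentDR
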