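import Groth.Agent.Lib.Helper19KosLoc

/-!
# Associated primes of the conormal module of a locally complete intersection ideal

If `I ⊆ P` is an ideal which, after localizing at a prime `q' ⊇ I`, is generated by a family whose
relations are all trivial (Koszul), then any prime of the form `(I² : z)` with `z ∈ I` equal to `q'`
is also of the form `(I : a)`.
-/

set_option autoImplicit false
set_option linter.unusedSectionVars false
universe u

namespace Groth.Agent.Lib.Helper19.LciH1

open Groth.Agent.Lib.Helper19.Kos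

section free

variable {R : Type u} [CommRing R] {c : ℕ} (g : Fin c → R)

lemma jm_mem_span (x : Fin c →₀ R) : jm R g x ∈ Ideal.span (Set.range g) := by
  rw [← range_jm]
  exact ⟨x, rfl⟩

lemma F0_coeff_mem {x : Fin c →₀ R} (hx : x ∈ F0 R g) (i : Fin c) :
    x i ∈ Ideal.span (Set.range g) := by
  induction hx using Submodule.span_induction with
  | mem y hy =>
    obtain ⟨a, b, rfl⟩ := hy
    rw [Finsupp.sub_apply, Finsupp.smul_apply, Finsupp.smul_apply, smul_eq_mul, smul_eq_mul]
    exact Ideal.sub_mem _ (Ideal.mul_mem_right _ _ (jm_mem_span g a))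
      (Ideal.mul_mem_right _ _ (jm_mem_span g b))
  | zero => rw [Finsupp.zero_apply]; exact Ideal.zero_mem _
  | add a b _ _ ha hb => rw [Finsupp.add_apply]; exact Ideal.add_mem _ ha hb
  | smul r a _ ha => rw [Finsupp.smul_apply, smul_eq_mul]; exact Ideal.mul_mem_left _ _ ha

/-- if all relations are Koszul, the classes of the generators are a basis of `J/J²` -/
lemma coeff_mem_of_jm_mem_sq (hQ : Q R g ≤ F0 R g) (a : Fin c →₀ R)
    (ha : jm R g a ∈ Ideal.span (Set.range g) ^ 2) (i : Fin c) :
    a i ∈ Ideal.span (Set.range g) := by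
  have h1 : jm R g a ∈ Ideal.span (Set.range g) • Submodule.span R (Set.range g) := by
    rw [pow_two] at ha
    exact ha
  obtain ⟨b, hb, hsum⟩ := (Submodule.mem_ideal_smul_span_iff_exists_sum _ g _).mp h1
  have hb' : jm R g b = jm R g a := by
    rw [← hsum, jm, Finsupp.linearCombination_apply]
  have hab : a - b ∈ Q R g := by
    rw [mem_Q, map_sub, hb', sub_self]
  have h2 := F0_coeff_mem g (hQ hab) i
  rw [Finsupp.sub_apply] at h2
  have h3 : a i = (a i - b i) + b i := by ring
  rw [h3]
  exact Ideal.add_mem _ h2 (hb i)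

lemma jm_mem_sq_of_coeff_mem (a : Fin c →₀ R) (ha : ∀ i, a i ∈ Ideal.span (Set.range g)) :
    jm R g a ∈ Ideal.span (Set.range g) ^ 2 := by
  rw [jm, Finsupp.linearCombination_apply, pow_two]
  refine Ideal.sum_mem _ fun i _ => ?_
  show a i • g i ∈ _
  rw [smul_eq_mul]
  exact Ideal.mul_mem_mul (ha i) (Ideal.subset_span ⟨i, rfl⟩)

end free

section main

variable {P : Type u} [CommRing P] [IsNoetherianRing P] (I : Ideal P) (q' : Ideal P) [q'.IsPrime]
  {c : ℕ} (g : Fin c → Localization.AtPrime q')
  (hspan : Ideal.span (Set.range g) = I.map (algebraMap P (Localization.AtPrime q')))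
  (hQ : Q (Localization.AtPrime q') g ≤ F0 (Localization.AtPrime q') g)

include hspan hQ in
theorem exists_colon_eq (z : P) (hz : z ∈ I) (hann : ∀ p : P, p * z ∈ I ^ 2 ↔ p ∈ q') :
    ∃ a₁ : P, ∀ p : P, p * a₁ ∈ I ↔ p ∈ q' := by
  classical
  have hJ2 : Ideal.span (Set.range g) ^ 2 = (I ^ 2).map (algebraMap P (Localization.AtPrime q')) := by
    rw [hspan, Ideal.map_pow]
  have hunit : ∀ t ∈ q'.primeCompl, IsUnit (algebraMap P (Localization.AtPrime q') t) :=
    fun t ht => IsLocalization.map_units (Localization.AtPrime q') (⟨t, ht⟩ : q'.primeCompl)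
  -- write the image of `z` in terms of the generators
  have hz' : algebraMap P (Localization.AtPrime q') z ∈ Ideal.span (Set.range g) := by
    rw [hspan]; exact Ideal.mem_map_of_mem _ hz
  rw [← range_jm] at hz'
  obtain ⟨a, ha⟩ := hz'
  -- some coefficient is not in `J`
  have hex : ∃ i, a i ∉ Ideal.span (Set.range g) := by
    by_contra hcon
    simp only [not_exists, not_not] at hcon
    have h1 := jm_mem_sq_of_coeff_mem g a hcon
    rw [ha, hJ2, IsLocalization.algebraMap_mem_map_algebraMap_iff q'.primeCompl] at h1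
    obtain ⟨t, ht, htz⟩ := h1
    exact ht ((hann t).mp htz)
  obtain ⟨i, hi⟩ := hex
  -- elements of `q'` multiply the coefficients into `J`
  have hmul : ∀ p ∈ q', algebraMap P (Localization.AtPrime q') p * a i ∈
      Ideal.span (Set.range g) := by
    intro p hp
    have h1 : algebraMap P (Localization.AtPrime q') (p * z) ∈
        (I ^ 2).map (algebraMap P (Localization.AtPrime q')) :=
      Ideal.mem_map_of_mem _ ((hann p).mpr hp)
    rw [← hJ2, map_mul, ← ha, ← smul_eq_mul, ← map_smul] at h1
    have h2 := coeff_mem_of_jm_mem_sq g hQ _ h1 i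
    rwa [Finsupp.smul_apply, smul_eq_mul] at h2
  -- clear the denominator of the coefficient
  obtain ⟨⟨a₀, t⟩, hat⟩ := IsLocalization.surj q'.primeCompl (a i)
  have ha₀ : algebraMap P (Localization.AtPrime q') a₀ ∉ Ideal.span (Set.range g) := by
    intro hmem
    rw [← hat] at hmem
    exact hi ((Ideal.mul_unit_mem_iff_mem _ (hunit t t.2)).mp hmem)
  have hp₀ : ∀ p ∈ q', ∃ u ∈ q'.primeCompl, u * (p * a₀) ∈ I := by
    intro p hp
    have h1 : algebraMap P (Localization.AtPrime q') (p * a₀) ∈
        I.map (algebraMap P (Localization.AtPrime q')) := by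
      rw [map_mul, ← hat, ← mul_assoc, ← hspan]
      exact Ideal.mul_mem_right _ _ (hmul p hp)
    exact (IsLocalization.algebraMap_mem_map_algebraMap_iff q'.primeCompl _ _ _).mp h1
  -- uniform multiplier
  obtain ⟨T, hT⟩ := (isNoetherian_def.mp (inferInstance : IsNoetherian P P)) q'
  have hTq : ∀ p ∈ T, p ∈ q' := fun p hp => by
    rw [← hT]; exact Submodule.subset_span hp
  choose! u hu1 hu2 using hp₀
  let U : P := ∏ p ∈ T, u p
  have hU : U ∈ q'.primeCompl :=
    Submonoid.prod_mem _ (fun p hp => hu1 p (hTq p hp))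
  have hUT : ∀ p ∈ q', U * (p * a₀) ∈ I := by
    intro p hp
    rw [← hT] at hp
    induction hp using Submodule.span_induction with
    | mem x hx =>
      obtain ⟨d, hd⟩ := Finset.dvd_prod_of_mem u hx
      show (∏ p ∈ T, u p) * (x * a₀) ∈ I
      rw [hd, mul_comm (u x) d, mul_assoc]
      exact Ideal.mul_mem_left _ _ (hu2 x (hTq x hx))
    | zero => rw [zero_mul, mul_zero]; exact Ideal.zero_mem _
    | add x y _ _ hx hy => rw [add_mul, mul_add]; exact Ideal.add_mem _ hx hy
    | smul r x _ hx =>
      rw [smul_eq_mul, mul_assoc, mul_left_comm]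
      exact Ideal.mul_mem_left _ _ hx
  refine ⟨U * a₀, fun p => ⟨fun h => ?_, fun h => ?_⟩⟩
  · by_contra hp
    have h1 : algebraMap P (Localization.AtPrime q') (p * (U * a₀)) ∈
        Ideal.span (Set.range g) := by
      rw [hspan]; exact Ideal.mem_map_of_mem _ h
    rw [map_mul, map_mul, Ideal.unit_mul_mem_iff_mem _ (hunit p hp),
      Ideal.unit_mul_mem_iff_mem _ (hunit U hU)] at h1
    exact ha₀ h1
  · have := hUT p h
    rwa [mul_left_comm] at this

end main

end Groth.Agent.Lib.Helper19.LciH1
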