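import Groth.Agent.Lib.Helper19LciH1A
import Groth.Agent.Lib.Helper19LciH1B
import Groth.Agent.Lib.Helper5GorUnmixed
import Groth.Agent.Lib.Helper19CotTVanish

/-!
# `H¹` of the naive cotangent complex vanishes for generically smooth lci algebras over a field
-/

set_option autoImplicit false
set_option linter.unusedSectionVars false
set_option linter.style.haveILetI false
universe u

namespace Groth.Agent.Lib.Helper19.LciH1

open Groth.Agent.Lib.Helper19.Kos

theorem h1Cotangent_subsingleton (k : Type u) [Field k] (A : Type u) [CommRing A] [Algebra k A]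
    (hlci : LCI.IsLCI k A)
    (hgs : ∀ (p : Ideal A) [p.IsPrime], p ∈ minimalPrimes A →
      Algebra.FormallySmooth k (Localization.AtPrime p)) :
    Subsingleton (Algebra.H1Cotangent k A) := by
  have hG : LocCoh.IsGorensteinRing A :=
    Groth.Agent.Lib.Helper5.KoszulGor.gorRing_of_isLCI k A
      (Groth.Agent.Lib.Helper5.GorRing.gorRing_of_field k) hlci
  obtain ⟨hft, n, f, hf, hK⟩ := hlci
  haveI := hft
  haveI : IsNoetherianRing A := Algebra.FiniteType.isNoetherianRing k A
  have hval : (MvPolynomial.aeval (R := k) (fun i : Fin n => f (MvPolynomial.X i))) = f := by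
    refine MvPolynomial.algHom_ext fun i => ?_
    rw [MvPolynomial.aeval_X]
  let Pg : Algebra.Generators k A (Fin n) :=
    Algebra.Generators.ofSurjective (fun i => f (MvPolynomial.X i)) (by rw [hval]; exact hf)
  have halg : ∀ x : Pg.toExtension.Ring, algebraMap Pg.toExtension.Ring A x = f x := by
    intro x
    have h1 : algebraMap Pg.toExtension.Ring A x =
        MvPolynomial.aeval (R := k) (fun i : Fin n => f (MvPolynomial.X i)) x := rfl
    rw [h1, hval]
  have hsurj : Function.Surjective (algebraMap Pg.toExtension.Ring A) := Pg.algebraMap_surjective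
  have hker : Pg.toExtension.ker = RingHom.ker f.toRingHom := by
    ext x
    show algebraMap Pg.toExtension.Ring A x = 0 ↔ f x = 0
    rw [halg]
  have hK' : LCI.IsKoszulRegularIdeal Pg.toExtension.ker := by rw [hker]; exact hK
  haveI : IsNoetherianRing Pg.toExtension.Ring :=
    inferInstanceAs (IsNoetherianRing (MvPolynomial (Fin n) k))
  refine Pg.equivH1Cotangent.symm.toEquiv.subsingleton_congr.mpr ?_
  refine ⟨fun a b => ?_⟩
  by_contra hab
  -- a nonzero element of the kernel of the conormal map
  have hx0 : a - b ≠ 0 := sub_ne_zero.mpr hab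
  set x := a - b with hxdef
  have hx1 : (x.1 : Pg.toExtension.Cotangent) ≠ 0 := fun h => hx0 (Subtype.ext h)
  obtain ⟨q, hqass, hle⟩ := exists_le_isAssociatedPrime_of_isNoetherianRing A
    (x.1 : Pg.toExtension.Cotangent) hx1
  obtain ⟨hqp, y, hqy⟩ := isAssociatedPrime_iff.mp hqass
  haveI := hqp
  -- `q` is an associated prime of `A`
  have hqA : IsAssociatedPrime q A := by
    obtain ⟨⟨z, hz⟩, rfl⟩ := Algebra.Extension.Cotangent.mk_surjective y
    have hq'p : (q.comap (algebraMap Pg.toExtension.Ring A)).IsPrime := Ideal.comap_isPrime _ _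
    have hIq : Pg.toExtension.ker ≤ q.comap (algebraMap Pg.toExtension.Ring A) := by
      intro w hw
      rw [Ideal.mem_comap, show algebraMap Pg.toExtension.Ring A w = 0 from hw]
      exact q.zero_mem
    have hann : ∀ p : Pg.toExtension.Ring,
        p * z ∈ Pg.toExtension.ker ^ 2 ↔ p ∈ q.comap (algebraMap Pg.toExtension.Ring A) := by
      intro p
      rw [Ideal.mem_comap, hqy, Submodule.mem_colon_singleton, Submodule.mem_bot, algebraMap_smul,
        ← map_smul, Algebra.Extension.Cotangent.mk_eq_zero_iff]
      rfl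
    obtain ⟨c, g, hreg, hspan⟩ := exists_local_regular Pg.toExtension.ker hK'
      (q.comap (algebraMap Pg.toExtension.Ring A)) hIq
    have hQ := Groth.Agent.Lib.Helper19.CotTVanish.Q_le_F0_of_isWeaklyRegular g hreg
    obtain ⟨a₁, ha₁⟩ := exists_colon_eq Pg.toExtension.ker
      (q.comap (algebraMap Pg.toExtension.Ring A)) g hspan hQ z hz hann
    refine isAssociatedPrime_iff.mpr ⟨hqp, algebraMap Pg.toExtension.Ring A a₁, ?_⟩
    ext s
    obtain ⟨p, rfl⟩ := hsurj s
    rw [Submodule.mem_colon_singleton, Submodule.mem_bot, smul_eq_mul, ← map_mul,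
      ← Ideal.mem_comap, ← ha₁ p]
    rfl
  have hqmin : q ∈ minimalPrimes A :=
    Groth.Agent.Lib.Helper5.GorUnmixed.mem_minimalPrimes_of_mem_associatedPrimes A hqA
  -- formal smoothness at `q` kills `x` up to an element outside `q`
  haveI := hgs q hqmin
  have hsub : Subsingleton (Algebra.H1Cotangent k (Localization.AtPrime q)) :=
    Algebra.FormallySmooth.subsingleton_h1Cotangent
  have hmap : Algebra.H1Cotangent.map k k A (Localization.AtPrime q) (Pg.equivH1Cotangent x) =
      Algebra.H1Cotangent.map k k A (Localization.AtPrime q) 0 := Subsingleton.elim _ _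
  obtain ⟨s, hs⟩ := IsLocalizedModule.exists_of_eq (S := q.primeCompl)
    (f := Algebra.H1Cotangent.map k k A (Localization.AtPrime q)) hmap
  have hs' : (s : A) • Pg.equivH1Cotangent x = 0 := by
    have := hs
    rwa [Submonoid.smul_def, Submonoid.smul_def, smul_zero] at this
  rw [← map_smul, LinearEquiv.map_eq_zero_iff] at hs'
  have hs1 : (s : A) • (x.1 : Pg.toExtension.Cotangent) = 0 := by
    have := congrArg Subtype.val hs'
    exact this
  have hs2 : (s : A) ∈ (⊥ : Submodule A Pg.toExtension.Cotangent).colon {x.1} := by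
    rw [Submodule.mem_colon_singleton, Submodule.mem_bot]
    exact hs1
  exact s.2 (hle hs2)

end Groth.Agent.Lib.Helper19.LciH1
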