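import Groth.Agent.Lib.Helper19Functor
import Groth.Agent.Lib.Helper19ArtBasic

set_option autoImplicit false
universe u v w

open CategoryTheory ArtFun ArtFun.Art

namespace Groth.Agent.Lib.Helper19

section LeastIdeal

variable {Λ : Type u} {k : Type u} [CommRing Λ] [Field k] [Algebra Λ k]

lemma quotTrans_quotFactor (B : Art Λ k) {A : Art Λ k} (p : B ⟶ A) {K J : Ideal B}
    (hK : K ≤ IsLocalRing.maximalIdeal B) (hJ : J ≤ IsLocalRing.maximalIdeal B) (hKJ : K ≤ J)
    (hJp : J ≤ RingHom.ker p.toAlgHom) :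
    quotTrans B hK hJ hKJ ≫ quotFactor hJ p hJp = quotFactor hK p (hKJ.trans hJp) := by
  apply hom_ext
  apply AlgHom.ext
  intro y
  obtain ⟨b, rfl⟩ := quotMk_surjective B K hK y
  rfl

lemma quotFactor_mk {B A : Art Λ k} (p : B ⟶ A) {K : Ideal B}
    (hK : K ≤ IsLocalRing.maximalIdeal B) (hKp : K ≤ RingHom.ker p.toAlgHom) (b : B) :
    quotFactor hK p hKp (quotMk B K hK b) = p b := rfl

lemma quotFactor_surjective {B A : Art Λ k} (p : B ⟶ A) (hp : Function.Surjective p) {K : Ideal B}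
    (hK : K ≤ IsLocalRing.maximalIdeal B) (hKp : K ≤ RingHom.ker p.toAlgHom) :
    Function.Surjective (quotFactor hK p hKp) := by
  intro a
  obtain ⟨b, rfl⟩ := hp a
  exact ⟨quotMk B K hK b, rfl⟩

/-- `B/(J ∩ K) = B/J ×_A B/K` when `J + K = ker (B → A)`. -/
theorem isFibreProd_quot_inf (B : Art Λ k) {A : Art Λ k} (p : B ⟶ A)
    {J K : Ideal B} (hJ : J ≤ RingHom.ker p.toAlgHom) (hK : K ≤ RingHom.ker p.toAlgHom)
    (hsup : J ⊔ K = RingHom.ker p.toAlgHom)
    (hJ' : J ≤ IsLocalRing.maximalIdeal B) (hK' : K ≤ IsLocalRing.maximalIdeal B)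
    (hJK' : J ⊓ K ≤ IsLocalRing.maximalIdeal B) :
    IsFibreProd (quotTrans B hJK' hJ' inf_le_left) (quotTrans B hJK' hK' inf_le_right)
      (quotFactor hJ' p hJ) (quotFactor hK' p hK) where
  w := by rw [quotTrans_quotFactor, quotTrans_quotFactor]
  inj := by
    intro y₁ y₂ h1 h2
    obtain ⟨b₁, rfl⟩ := quotMk_surjective B _ hJK' y₁
    obtain ⟨b₂, rfl⟩ := quotMk_surjective B _ hJK' y₂
    rw [quotTrans_mk, quotTrans_mk] at h1 h2
    have e1 : b₁ - b₂ ∈ J := by
      rw [← quotMk_eq_zero_iff B J hJ', hom_map_sub, h1, sub_self]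
    have e2 : b₁ - b₂ ∈ K := by
      rw [← quotMk_eq_zero_iff B K hK', hom_map_sub, h2, sub_self]
    have e3 : quotMk B (J ⊓ K) hJK' (b₁ - b₂) = 0 :=
      (quotMk_eq_zero_iff B _ hJK' _).2 ⟨e1, e2⟩
    rw [hom_map_sub, sub_eq_zero] at e3
    exact e3
  surj := by
    intro a' a'' h
    obtain ⟨b', rfl⟩ := quotMk_surjective B J hJ' a'
    obtain ⟨b'', rfl⟩ := quotMk_surjective B K hK' a''
    rw [quotFactor_mk, quotFactor_mk] at h
    have hmem : b' - b'' ∈ J ⊔ K := by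
      rw [hsup, RingHom.mem_ker]
      change p (b' - b'') = 0
      rw [hom_map_sub, h, sub_self]
    obtain ⟨j, hj, κ, hκ, hjk⟩ := Submodule.mem_sup.1 hmem
    refine ⟨quotMk B _ hJK' (b' - j), ?_, ?_⟩
    · rw [quotTrans_mk, hom_map_sub, (quotMk_eq_zero_iff B J hJ' j).2 hj, sub_zero]
    · rw [quotTrans_mk]
      have : b' - j = b'' + κ := by linear_combination -hjk
      rw [this, hom_map_add, (quotMk_eq_zero_iff B K hK' κ).2 hκ, add_zero]

/-- Enlarging `K` inside a semisimple ideal `I` to a complement of `J` modulo `J ∩ K`. -/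
theorem exists_enlarge_complement (B : Art Λ k) (I : Ideal B)
    (hI : IsLocalRing.maximalIdeal B * I = ⊥) {J K : Ideal B} (hJ : J ≤ I) (hK : K ≤ I) :
    ∃ K' : Ideal B, K ≤ K' ∧ K' ≤ I ∧ J ⊓ K' = J ⊓ K ∧ J ⊔ K' = I := by
  haveI : IsNoetherianRing B := inferInstance
  let S : Set (Ideal B) := {L | K ≤ L ∧ L ≤ I ∧ J ⊓ L = J ⊓ K}
  have hS : S.Nonempty := ⟨K, le_rfl, hK, rfl⟩
  obtain ⟨K', hK'S, hmax⟩ := set_has_maximal_iff_noetherian.2 (inferInstance : IsNoetherian B B) S hS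
  obtain ⟨h1, h2, h3⟩ := hK'S
  refine ⟨K', h1, h2, h3, le_antisymm (sup_le hJ h2) ?_⟩
  intro t ht
  by_contra htn
  -- enlarge by `t`
  have hK'' : K' ⊔ Ideal.span {t} ∈ S := by
    refine ⟨h1.trans le_sup_left, sup_le h2 ((Ideal.span_singleton_le_iff_mem _).2 ht), ?_⟩
    rw [← h3]
    apply le_antisymm
    · rintro j ⟨hj, hjK⟩
      refine ⟨hj, ?_⟩
      obtain ⟨κ, hκ, s, hs, hjs⟩ := Submodule.mem_sup.1 hjK
      obtain ⟨b, rfl⟩ := Ideal.mem_span_singleton'.1 hs
      by_cases hb : b ∈ IsLocalRing.maximalIdeal B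
      · have : b * t = 0 := by
          have h4 : b * t ∈ IsLocalRing.maximalIdeal B * I := Ideal.mul_mem_mul hb ht
          rwa [hI, Ideal.mem_bot] at h4
        rw [this, add_zero] at hjs
        rw [← hjs]
        exact hκ
      · exfalso
        apply htn
        have hu : IsUnit b := by
          by_contra hnu
          exact hb ((IsLocalRing.mem_maximalIdeal b).2 hnu)
        obtain ⟨c, hc⟩ := hu.exists_left_inv
        have e : t = c * (j - κ) := by
          rw [← hjs]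
          have : κ + b * t - κ = b * t := by ring
          rw [this, ← mul_assoc, hc, one_mul]
        rw [e]
        apply Ideal.mul_mem_left
        exact Submodule.sub_mem _ (Submodule.mem_sup_left hj) (Submodule.mem_sup_right hκ)
    · exact inf_le_inf_left _ le_sup_left
  have hlt : K' < K' ⊔ Ideal.span {t} := by
    apply lt_of_le_of_ne le_sup_left
    intro he
    apply htn
    apply Submodule.mem_sup_right
    rw [he]
    exact Submodule.mem_sup_right (Ideal.subset_span rfl)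
  exact hmax _ hK'' hlt

/-- Stacks 06IW: the ideals `J ⊆ ker (B → A)` to which `x` lifts have a least element. -/
theorem exists_least_ideal_with_lift {F : Art Λ k ⥤ Type v} (h1 : S1 F)
    {B A : Art Λ k} (p : B ⟶ A) (hp : IsSemismallExt p) (x : F.obj A) :
    ∃ (J₀ : Ideal B) (hJ₀ : J₀ ≤ RingHom.ker p.toAlgHom) (hJ₀' : J₀ ≤ IsLocalRing.maximalIdeal B),
      (∃ y : F.obj (quot B J₀ hJ₀'), F.map (quotFactor hJ₀' p hJ₀) y = x) ∧
      ∀ (J : Ideal B) (hJ : J ≤ RingHom.ker p.toAlgHom) (hJ' : J ≤ IsLocalRing.maximalIdeal B),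
        (∃ y : F.obj (quot B J hJ'), F.map (quotFactor hJ' p hJ) y = x) → J₀ ≤ J := by
  set I := RingHom.ker p.toAlgHom with hIdef
  have hIm : I ≤ IsLocalRing.maximalIdeal B := ker_le_maximalIdeal p
  let Lifts : Ideal B → Prop := fun J => ∃ (hJ : J ≤ I) (hJ' : J ≤ IsLocalRing.maximalIdeal B),
    ∃ y : F.obj (quot B J hJ'), F.map (quotFactor hJ' p hJ) y = x
  -- the kernel itself
  have hI : Lifts I := by
    refine ⟨le_rfl, hIm, ?_⟩
    have hb : Function.Bijective (quotFactor hIm p le_rfl) := by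
      refine ⟨?_, quotFactor_surjective p hp.1 hIm le_rfl⟩
      intro y₁ y₂ h
      obtain ⟨b₁, rfl⟩ := quotMk_surjective B _ hIm y₁
      obtain ⟨b₂, rfl⟩ := quotMk_surjective B _ hIm y₂
      rw [quotFactor_mk, quotFactor_mk] at h
      have : quotMk B I hIm (b₁ - b₂) = 0 := by
        rw [quotMk_eq_zero_iff, hIdef, RingHom.mem_ker]
        rw [map_sub, h, sub_self]
      rwa [hom_map_sub, sub_eq_zero] at this
    haveI := isIso_of_bijective _ hb
    exact ⟨F.map (inv (quotFactor hIm p le_rfl)) x, map_map_inv F _ x⟩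
  -- closure under intersections
  have hinf : ∀ J K, Lifts J → Lifts K → Lifts (J ⊓ K) := by
    rintro J K ⟨hJ, hJ', yJ, hyJ⟩ ⟨hK, hK', yK, hyK⟩
    obtain ⟨K', hKK', hK'I, hinfeq, hsup⟩ := exists_enlarge_complement B I hp.2 hJ hK
    have hK'm : K' ≤ IsLocalRing.maximalIdeal B := hK'I.trans hIm
    have hJK'm : J ⊓ K' ≤ IsLocalRing.maximalIdeal B := inf_le_left.trans hJ'
    have key : Lifts (J ⊓ K') := by
      refine ⟨inf_le_left.trans hJ, hJK'm, ?_⟩
      have hfp := isFibreProd_quot_inf B p hJ hK'I hsup hJ' hK'm hJK'm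
      have hs := h1 _ _ _ _ hfp (quotFactor_surjective p hp.1 hK'm hK'I)
      let yK' : F.obj (quot B K' hK'm) := F.map (quotTrans B hK' hK'm hKK') yK
      have hyK' : F.map (quotFactor hK'm p hK'I) yK' = x := by
        rw [← map_comp_apply', quotTrans_quotFactor, hyK]
      obtain ⟨y, hy1, -⟩ := (cmp_surjective_iff F hfp).1 hs yJ yK' (by rw [hyJ, hyK'])
      refine ⟨y, ?_⟩
      rw [← quotTrans_quotFactor B p hJK'm hJ' inf_le_left hJ, map_comp_apply', hy1, hyJ]
    rw [← hinfeq]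
    exact key
  -- a minimal element
  haveI : IsArtinianRing B := inferInstance
  obtain ⟨J₀, hJ₀S, hmin⟩ := set_has_minimal_iff_artinian.2 (inferInstance : IsArtinian B B)
    {J | Lifts J} ⟨I, hI⟩
  obtain ⟨hJ₀, hJ₀', hy⟩ := hJ₀S
  refine ⟨J₀, hJ₀, hJ₀', hy, ?_⟩
  intro J hJ hJ' hyJ
  have h2 : Lifts (J₀ ⊓ J) := hinf J₀ J ⟨hJ₀, hJ₀', hy⟩ ⟨hJ, hJ', hyJ⟩
  by_contra hn
  have hlt : J₀ ⊓ J < J₀ := lt_of_le_of_ne inf_le_left (fun he => hn (he ▸ inf_le_right))
  exact hmin _ h2 hlt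

end LeastIdeal

end Groth.Agent.Lib.Helper19
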