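import Groth.Agent.Lib.Helper19PsIso

set_option autoImplicit false
universe u v w

open CategoryTheory ArtFun ArtFun.Art

namespace Groth.Agent.Lib.Helper19

section LeftInv

variable {Λ : Type u} {k : Type u} [CommRing Λ] [Field k] [Algebra Λ k]

theorem bijective_of_powerSeries_left_inverses
    (R' R : CRing Λ k) [Algebra R'.carrier R.carrier] [IsScalarTower Λ R'.carrier R.carrier]
    (hc : R.res.comp (IsScalarTower.toAlgHom Λ R'.carrier R.carrier) = R'.res)
    (ρ : R.carrier →ₐ[R'.carrier] R'.carrier)
    (r : ℕ) (x : Fin r → R.carrier)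
    (hspan : Ideal.span (Set.range x) ⊔ IsLocalRing.maximalIdeal R.carrier * RingHom.ker ρ = RingHom.ker ρ)
    (φ : MvPowerSeries (Fin r) R'.carrier →ₐ[R'.carrier] R.carrier) (hφ : ∀ i, φ (MvPowerSeries.X i) = x i)
    (hinv : ∃ N : ℕ, ∀ n, N ≤ n →
      ∃ g : R.carrier →ₐ[Λ] (MvPowerSeries (Fin r) R'.carrier ⧸
          IsLocalRing.maximalIdeal (MvPowerSeries (Fin r) R'.carrier) ^ n),
        ∀ s, g (φ s) = Ideal.Quotient.mk _ s) :
    Function.Bijective φ := by
  letI : Algebra R'.carrier k := R'.res.toRingHom.toAlgebra
  have hk' : Function.Surjective (algebraMap R'.carrier k) := R'.res_surjective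
  haveI := R'.isAdicComplete
  haveI hcomp : IsAdicComplete (IsLocalRing.maximalIdeal (MvPowerSeries (Fin r) R'.carrier))
      (MvPowerSeries (Fin r) R'.carrier) := isAdicComplete_mvPowerSeries
  constructor
  · -- injectivity from the left inverses
    rw [injective_iff_map_eq_zero]
    intro s hs
    obtain ⟨N, hN⟩ := hinv
    have hmem : ∀ n, s ∈ IsLocalRing.maximalIdeal (MvPowerSeries (Fin r) R'.carrier) ^ n := by
      intro n
      obtain ⟨g, hg⟩ := hN (max N n) (le_max_left _ _)
      have h1 := hg s
      rw [hs, map_zero] at h1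
      exact Ideal.pow_le_pow_right (le_max_right N n) (Ideal.Quotient.eq_zero_iff_mem.1 h1.symm)
    apply hcomp.toIsHausdorff.haus'
    intro n
    rw [smodEq_pow_iff, sub_zero]
    exact hmem n
  · -- surjectivity from the cotangent criterion
    let resP : MvPowerSeries (Fin r) R'.carrier →ₐ[R'.carrier] k := psRes (Fin r)
    have hresP : Function.Surjective resP := (psCRing (Fin r) hk').res_surjective
    let resR : R.carrier →ₐ[R'.carrier] k :=
      { R.res.toRingHom with commutes' := fun r' => AlgHom.congr_fun hc r' }
    have hresR : Function.Surjective resR := R.res_surjective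
    have hf : resR.comp φ = resP := res_unique hk' _ _
    have hρres : ∀ y, R'.res (ρ y) = R.res y := by
      intro y
      let ρ' : R.carrier →ₐ[R'.carrier] k :=
        { (R'.res.toRingHom.comp ρ.toRingHom) with
          commutes' := fun r' => by
            change R'.res (ρ (algebraMap R'.carrier R.carrier r')) = R'.res r'
            rw [ρ.commutes]
            rfl }
      exact AlgHom.congr_fun (res_unique hk' ρ' resR) y
    haveI : IsPrecomplete (IsLocalRing.maximalIdeal (MvPowerSeries (Fin r) R'.carrier))
        (MvPowerSeries (Fin r) R'.carrier) := hcomp.toIsPrecomplete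
    apply surjective_of_cotangent resP hresP resR hresR φ hf
    have hle := map_maximalIdeal_le resP hresP resR hresR φ hf
    apply le_antisymm (sup_le hle (Ideal.pow_le_self two_ne_zero))
    have hkerm : RingHom.ker ρ ≤ IsLocalRing.maximalIdeal R.carrier := by
      intro z hz
      rw [CRing.mem_maximalIdeal_iff, ← hρres, (RingHom.mem_ker).1 hz, map_zero]
    have hI : RingHom.ker ρ ≤ Ideal.map φ (IsLocalRing.maximalIdeal (MvPowerSeries (Fin r) R'.carrier)) ⊔
        IsLocalRing.maximalIdeal R.carrier ^ 2 := by
      rw [← hspan]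
      apply sup_le
      · refine le_trans ?_ le_sup_left
        rw [Ideal.span_le]
        rintro _ ⟨i, rfl⟩
        rw [← hφ i]
        apply Ideal.mem_map_of_mem
        rw [maximalIdeal_eq_coeffIdeal]
        exact X_mem_coeffIdeal_one _ i
      · refine le_trans ?_ le_sup_right
        rw [pow_two]
        exact Ideal.mul_mono_right hkerm
    intro y hy
    have hρy : ρ y ∈ IsLocalRing.maximalIdeal R'.carrier := by
      rw [CRing.mem_maximalIdeal_iff, hρres]
      exact (CRing.mem_maximalIdeal_iff R y).1 hy
    have h1 : algebraMap R'.carrier R.carrier (ρ y) ∈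
        Ideal.map φ (IsLocalRing.maximalIdeal (MvPowerSeries (Fin r) R'.carrier)) := by
      have : algebraMap R'.carrier R.carrier (ρ y) =
          φ (MvPowerSeries.C (ρ y) : MvPowerSeries (Fin r) R'.carrier) := by
        have h2 : (MvPowerSeries.C (ρ y) : MvPowerSeries (Fin r) R'.carrier) =
            algebraMap R'.carrier (MvPowerSeries (Fin r) R'.carrier) (ρ y) := by
          rw [MvPowerSeries.algebraMap_apply, Algebra.algebraMap_self, RingHom.id_apply]
        rw [h2, φ.commutes]
      rw [this]
      apply Ideal.mem_map_of_mem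
      rw [maximalIdeal_eq_coeffIdeal, mem_coeffIdeal_one, MvPowerSeries.constantCoeff_C]
      exact hρy
    have h2 : y - algebraMap R'.carrier R.carrier (ρ y) ∈ RingHom.ker ρ := by
      rw [RingHom.mem_ker, map_sub, ρ.commutes, Algebra.algebraMap_self, RingHom.id_apply, sub_self]
    have : y = algebraMap R'.carrier R.carrier (ρ y) + (y - algebraMap R'.carrier R.carrier (ρ y)) := by
      ring
    rw [this]
    exact Ideal.add_mem _ (Submodule.mem_sup_left h1) (hI h2)

end LeftInv

end Groth.Agent.Lib.Helper19
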