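import Mathlib
import Groth.Agent.Lib.Helper7ComplKaehler

set_option autoImplicit false
set_option linter.style.haveILetI false
universe u

namespace Groth.Agent.Lib.Helper19.LiftFinCompl

variable {V : Type u} [CommRing V] (I : Ideal V)
  {A C : Type u} [CommRing A] [Algebra V A] [CommRing C] [Algebra V C]

/-- level-`n` truncation of a map `A → Ĉ`. -/
noncomputable def gn (g : A →ₐ[V] AdicCompletion (I.map (algebraMap V C)) C) (n : ℕ) :
    A →ₐ[V] C ⧸ (I.map (algebraMap V C)) ^ n :=
  ((AdicCompletion.evalₐ (I.map (algebraMap V C)) n).restrictScalars V).comp g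

theorem pow_le_ker_gn (g : A →ₐ[V] AdicCompletion (I.map (algebraMap V C)) C) (n : ℕ) :
    ∀ a ∈ (I.map (algebraMap V A)) ^ n, gn I g n a = 0 := by
  have h1 : I.map (algebraMap V A) ≤
      Ideal.comap (gn I g n) ((I.map (algebraMap V C)).map (Ideal.Quotient.mk _)) := by
    rw [Ideal.map_le_iff_le_comap]
    intro i hi
    rw [Ideal.mem_comap, Ideal.mem_comap, AlgHom.commutes]
    rw [IsScalarTower.algebraMap_apply V C (C ⧸ (I.map (algebraMap V C)) ^ n)]
    exact Ideal.mem_map_of_mem _ (Ideal.mem_map_of_mem _ hi)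
  intro a ha
  have h2 := Ideal.pow_right_mono h1 n ha
  have h3 : (Ideal.comap (gn I g n) ((I.map (algebraMap V C)).map (Ideal.Quotient.mk _))) ^ n ≤
      Ideal.comap (gn I g n) (((I.map (algebraMap V C)).map (Ideal.Quotient.mk _)) ^ n) :=
    Ideal.le_comap_pow _ n
  have h4 := h3 h2
  have h5 : ((I.map (algebraMap V C)).map
      (Ideal.Quotient.mk ((I.map (algebraMap V C)) ^ n))) ^ n = ⊥ :=
    (Ideal.map_pow (Ideal.Quotient.mk _) (I.map (algebraMap V C)) n).symm.trans
      (Ideal.map_quotient_self _)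
  rw [Ideal.mem_comap, h5, Ideal.mem_bot] at h4
  exact h4

/-- the induced map `A/J^n → C/J^n`. -/
noncomputable def gbar (g : A →ₐ[V] AdicCompletion (I.map (algebraMap V C)) C) (n : ℕ) :
    (A ⧸ (I.map (algebraMap V A)) ^ n) →ₐ[V] C ⧸ (I.map (algebraMap V C)) ^ n :=
  Ideal.Quotient.liftₐ _ (gn I g n) (pow_le_ker_gn I g n)

noncomputable def χ (g : A →ₐ[V] AdicCompletion (I.map (algebraMap V C)) C) (n : ℕ) :
    AdicCompletion (I.map (algebraMap V A)) A →ₐ[V] C ⧸ (I.map (algebraMap V C)) ^ n :=
  (gbar I g n).comp ((AdicCompletion.evalₐ (I.map (algebraMap V A)) n).restrictScalars V)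

theorem χ_mk (g : A →ₐ[V] AdicCompletion (I.map (algebraMap V C)) C) (n : ℕ)
    (c : AdicCompletion.AdicCauchySequence (I.map (algebraMap V A)) A) :
    χ I g n (AdicCompletion.mk _ A c) =
      AdicCompletion.evalₐ (I.map (algebraMap V C)) n (g (c.val n)) := by
  unfold χ
  rw [AlgHom.comp_apply, AlgHom.restrictScalars_apply, AdicCompletion.evalₐ_mk]
  rfl

theorem gn_factor (g : A →ₐ[V] AdicCompletion (I.map (algebraMap V C)) C) {m n : ℕ} (hle : m ≤ n)
    (a : A) :
    Ideal.Quotient.factorₐ V (Ideal.pow_le_pow_right (I := I.map (algebraMap V C)) hle)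
      (gn I g n a) = gn I g m a := by
  unfold gn
  simp only [AlgHom.comp_apply, AlgHom.restrictScalars_apply]
  induction g a using AdicCompletion.induction_on with
  | _ c =>
    rw [AdicCompletion.evalₐ_mk, AdicCompletion.evalₐ_mk]
    rw [Ideal.Quotient.factorₐ_apply_mk]
    rw [Ideal.Quotient.eq]
    have := c.property hle
    rw [SModEq.sub_mem, smul_eq_mul, Ideal.mul_top] at this
    rw [← neg_sub]
    exact neg_mem this

theorem χ_compat (g : A →ₐ[V] AdicCompletion (I.map (algebraMap V C)) C) {m n : ℕ} (hle : m ≤ n) :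
    (Ideal.Quotient.factorₐ V (Ideal.pow_le_pow_right (I := I.map (algebraMap V C)) hle)).comp
      (χ I g n) = χ I g m := by
  ext x
  induction x using AdicCompletion.induction_on with
  | _ c =>
    rw [AlgHom.comp_apply, χ_mk, χ_mk]
    have h1 := gn_factor I g hle (c.val n)
    unfold gn at h1
    simp only [AlgHom.comp_apply, AlgHom.restrictScalars_apply] at h1
    rw [h1]
    -- now c n ≡ c m mod JA^m
    have h2 := pow_le_ker_gn I g m (c.val n - c.val m) (by
      have := c.property hle
      rw [SModEq.sub_mem, smul_eq_mul, Ideal.mul_top] at this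
      rw [← neg_sub]
      exact neg_mem this)
    unfold gn at h2
    simp only [AlgHom.comp_apply, AlgHom.restrictScalars_apply, map_sub] at h2
    exact sub_eq_zero.mp h2

/-- the lift to completions. -/
noncomputable def φ (g : A →ₐ[V] AdicCompletion (I.map (algebraMap V C)) C) :
    AdicCompletion (I.map (algebraMap V A)) A →ₐ[V] AdicCompletion (I.map (algebraMap V C)) C :=
  AdicCompletion.liftAlgHom (I.map (algebraMap V C)) (χ I g) (fun hle => χ_compat I g hle)

theorem evalOneₐ_φ (g : A →ₐ[V] AdicCompletion (I.map (algebraMap V C)) C)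
    (φ₀ : (A ⧸ I.map (algebraMap V A)) →ₐ[V] (C ⧸ I.map (algebraMap V C)))
    (hg : ((AdicCompletion.evalOneₐ (I.map (algebraMap V C))).restrictScalars V).comp g =
      φ₀.comp (Ideal.Quotient.mkₐ V (I.map (algebraMap V A))))
    (x : AdicCompletion (I.map (algebraMap V A)) A) :
    AdicCompletion.evalOneₐ (I.map (algebraMap V C)) (φ I g x) =
      φ₀ (AdicCompletion.evalOneₐ (I.map (algebraMap V A)) x) := by
  unfold φ
  rw [AdicCompletion.evalOneₐ_liftAlgHom]
  induction x using AdicCompletion.induction_on with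
  | _ c =>
    rw [χ_mk]
    have h1 : AdicCompletion.evalOneₐ (I.map (algebraMap V A)) (AdicCompletion.mk _ A c) =
        Ideal.Quotient.mk _ (c.val 1) := by
      simp [AdicCompletion.evalOneₐ]
    rw [h1]
    have h2 := congrArg (fun ψ => ψ (c.val 1)) hg
    simp only [AlgHom.comp_apply, AlgHom.restrictScalars_apply, Ideal.Quotient.mkₐ_eq_mk] at h2
    rw [← h2]
    rfl

theorem finite_φ (hI : I.FG) (g : A →ₐ[V] AdicCompletion (I.map (algebraMap V C)) C)
    (φ₀ : (A ⧸ I.map (algebraMap V A)) →ₐ[V] (C ⧸ I.map (algebraMap V C)))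
    (hg : ((AdicCompletion.evalOneₐ (I.map (algebraMap V C))).restrictScalars V).comp g =
      φ₀.comp (Ideal.Quotient.mkₐ V (I.map (algebraMap V A))))
    (hφ₀ : φ₀.toRingHom.Finite) : (φ I g).toRingHom.Finite := by
  letI alg0 : Algebra (A ⧸ I.map (algebraMap V A)) (C ⧸ I.map (algebraMap V C)) :=
    φ₀.toRingHom.toAlgebra
  letI alg : Algebra (AdicCompletion (I.map (algebraMap V A)) A)
      (AdicCompletion (I.map (algebraMap V C)) C) := (φ I g).toRingHom.toAlgebra
  have hfin0 : Module.Finite (A ⧸ I.map (algebraMap V A)) (C ⧸ I.map (algebraMap V C)) := hφ₀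
  show Module.Finite (AdicCompletion (I.map (algebraMap V A)) A)
      (AdicCompletion (I.map (algebraMap V C)) C)
  haveI tower : IsScalarTower V (AdicCompletion (I.map (algebraMap V A)) A)
      (AdicCompletion (I.map (algebraMap V C)) C) :=
    IsScalarTower.of_algebraMap_eq (fun v => ((φ I g).commutes v).symm)
  have hJA : (I.map (algebraMap V A)).FG := hI.map _
  have hJC : (I.map (algebraMap V C)).FG := hI.map _
  have hKA : (I.map (algebraMap V A)).map
      (algebraMap A (AdicCompletion (I.map (algebraMap V A)) A)) =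
      I.map (algebraMap V (AdicCompletion (I.map (algebraMap V A)) A)) := by
    rw [Ideal.map_map, ← IsScalarTower.algebraMap_eq]
  have hKC : (I.map (algebraMap V C)).map
      (algebraMap C (AdicCompletion (I.map (algebraMap V C)) C)) =
      I.map (algebraMap V (AdicCompletion (I.map (algebraMap V C)) C)) := by
    rw [Ideal.map_map, ← IsScalarTower.algebraMap_eq]
  haveI hpre : IsPrecomplete ((I.map (algebraMap V A)).map
      (algebraMap A (AdicCompletion (I.map (algebraMap V A)) A)))
      (AdicCompletion (I.map (algebraMap V A)) A) :=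
    (AdicCompletion.isAdicComplete_self _ hJA).toIsPrecomplete
  haveI hhaus : IsHausdorff ((I.map (algebraMap V A)).map
      (algebraMap A (AdicCompletion (I.map (algebraMap V A)) A)))
      (AdicCompletion (I.map (algebraMap V C)) C) := by
    have h1 : IsHausdorff ((I.map (algebraMap V C)).map
      (algebraMap C (AdicCompletion (I.map (algebraMap V C)) C)))
      (AdicCompletion (I.map (algebraMap V C)) C) :=
      (AdicCompletion.isAdicComplete_self _ hJC).toIsHausdorff
    rw [hKC, IsHausdorff.map_algebraMap_iff] at h1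
    rw [hKA, IsHausdorff.map_algebraMap_iff]
    exact h1
  obtain ⟨r, s, hs⟩ := Module.Finite.exists_fin (R := A ⧸ I.map (algebraMap V A))
    (M := C ⧸ I.map (algebraMap V C))
  choose l hl using fun i => AdicCompletion.evalOneₐ_surjective (I.map (algebraMap V C)) (s i)
  refine Groth.Agent.Lib.Helper7.ComplKaehler.finite_of_isHausdorff_of_finite_quotient
    ((I.map (algebraMap V A)).map (algebraMap A (AdicCompletion (I.map (algebraMap V A)) A))) l ?_
  intro y
  have hy : AdicCompletion.evalOneₐ (I.map (algebraMap V C)) y ∈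
      Submodule.span (A ⧸ I.map (algebraMap V A)) (Set.range s) := by rw [hs]; trivial
  obtain ⟨cbar, hcbar⟩ := (Submodule.mem_span_range_iff_exists_fun _).mp hy
  choose c hc using fun i => AdicCompletion.evalOneₐ_surjective (I.map (algebraMap V A)) (cbar i)
  refine ⟨c, ?_⟩
  rw [Ideal.smul_top_eq_map, Submodule.restrictScalars_mem, hKA, Ideal.map_map,
    ← IsScalarTower.algebraMap_eq, ← hKC, ← AdicCompletion.ker_evalOneₐ_eq_map _ hJC,
    RingHom.mem_ker]
  show AdicCompletion.evalOneₐ (I.map (algebraMap V C)) (y - ∑ i, c i • l i) = 0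
  rw [map_sub, map_sum, ← hcbar, sub_eq_zero]
  refine Finset.sum_congr rfl (fun i _ => ?_)
  have e1 : c i • l i = φ I g (c i) * l i := rfl
  rw [e1, map_mul, hl, evalOneₐ_φ I g φ₀ hg, hc i]
  rfl

end Groth.Agent.Lib.Helper19.LiftFinCompl
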