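import Mathlib
import Groth.Agent.Lib.Helper10ML

/-!
# Lifting compatible families along maps of `ℕ`-towers of Artinian modules
-/

set_option autoImplicit false
set_option linter.style.haveILetI false
universe u

open CategoryTheory Limits Opposite

namespace Helper19LimTensor

variable {R : Type u} [CommRing R]

section Lift

variable {A B : ℕᵒᵖ ⥤ ModuleCat.{u} R} (f : A ⟶ B)

/-- the fibre system over a compatible family -/
def Fib (b : (B ⋙ forget (ModuleCat.{u} R)).sections) : ℕᵒᵖ ⥤ Type u where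
  obj n := {a : A.obj n // f.app n a = b.1 n}
  map {n m} g := TypeCat.ofHom fun a => ⟨A.map g a.1, by
    have h1 := NatTrans.naturality_apply f g a.1
    rw [h1, a.2]
    exact b.2 g⟩
  map_id n := by
    ext a
    change A.map (𝟙 n) a.1 = a.1
    rw [A.map_id]; rfl
  map_comp g h := by
    ext a
    change A.map (g ≫ h) a.1 = A.map h (A.map g a.1)
    rw [A.map_comp]; rfl

theorem Fib_map_val (b : (B ⋙ forget (ModuleCat.{u} R)).sections) {n m : ℕᵒᵖ} (g : n ⟶ m)
    (a : (Fib f b).obj n) : ((Fib f b).map g a).1 = A.map g a.1 := rfl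

/-- the images of the kernels -/
def kerImage (n m : ℕ) : Submodule R (A.obj (op n)) :=
  Submodule.map (A.map (homOfLE (Nat.le_add_right n m)).op).hom
    (LinearMap.ker (f.app (op (n + m))).hom)

theorem kerImage_antitone (n : ℕ) : Antitone (kerImage f n) := by
  apply antitone_nat_of_succ_le
  intro m
  rintro _ ⟨k, hk, rfl⟩
  refine ⟨A.map (homOfLE (Nat.le_succ (n + m))).op k, ?_, ?_⟩
  · have h1 := NatTrans.naturality_apply f (homOfLE (Nat.le_succ (n + m))).op k
    have hk' : f.app (op (n + (m + 1))) k = 0 := hk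
    change f.app (op (n + m)) (A.map (homOfLE (Nat.le_succ (n + m))).op k) = 0
    rw [h1]
    change B.map (homOfLE (Nat.le_succ (n + m))).op (f.app (op (n + (m + 1))) k) = 0
    rw [hk', map_zero]
  · change A.map (homOfLE (Nat.le_add_right n m)).op
      (A.map (homOfLE (Nat.le_succ (n + m))).op k) = A.map (homOfLE (Nat.le_add_right n (m + 1))).op k
    have e : (homOfLE (Nat.le_add_right n (m + 1))).op =
        (homOfLE (Nat.le_succ (n + m))).op ≫ (homOfLE (Nat.le_add_right n m)).op :=
      Subsingleton.elim _ _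
    rw [e, A.map_comp]; rfl

theorem Fib_isMittagLeffler (hA : ∀ n, IsArtinian R (A.obj n))
    (b : (B ⋙ forget (ModuleCat.{u} R)).sections)
    (hb : ∀ n, ∃ a : A.obj n, f.app n a = b.1 n) : (Fib f b).IsMittagLeffler := by
  intro j
  obtain ⟨n⟩ := j
  haveI := hA (op n)
  obtain ⟨m0, hm0⟩ := IsArtinian.monotone_stabilizes
    (⟨fun m => OrderDual.toDual (kerImage f n m), fun a c hac => kerImage_antitone f n hac⟩ :
      ℕ →o (Submodule R (A.obj (op n)))ᵒᵈ)
  have hm0' : ∀ m, m0 ≤ m → kerImage f n m0 = kerImage f n m := fun m hm =>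
    congrArg OrderDual.ofDual (hm0 m hm)
  refine ⟨op (n + m0), (homOfLE (Nat.le_add_right n m0)).op, ?_⟩
  intro k g
  obtain ⟨l⟩ := k
  have hnl : n ≤ l := leOfHom g.unop
  rintro _ ⟨⟨e0, he0⟩, rfl⟩
  -- a common refinement
  obtain ⟨m, hm⟩ : ∃ m, max l (n + m0) = n + m := ⟨max l (n + m0) - n, by omega⟩
  have hm0m : m0 ≤ m := by omega
  have hlm : l ≤ n + m := by omega
  obtain ⟨e1, he1⟩ := hb (op (n + m))
  -- the difference
  let t : A.obj (op (n + m)) ⟶ A.obj (op (n + m0)) := A.map (homOfLE (by omega : n + m0 ≤ n + m)).op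
  have hd : e0 - t e1 ∈ LinearMap.ker (f.app (op (n + m0))).hom := by
    rw [LinearMap.mem_ker]
    change f.app (op (n + m0)) (e0 - t e1) = 0
    rw [map_sub, he0]
    have h1 := NatTrans.naturality_apply f (homOfLE (by omega : n + m0 ≤ n + m)).op e1
    have h2 : f.app (op (n + m0)) (t e1) = B.map (homOfLE (by omega : n + m0 ≤ n + m)).op
      (f.app (op (n + m)) e1) := h1
    rw [h2, he1]
    have h3 := b.2 (homOfLE (by omega : n + m0 ≤ n + m)).op
    have h4 : B.map (homOfLE (by omega : n + m0 ≤ n + m)).op (b.1 (op (n + m))) =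
      b.1 (op (n + m0)) := h3
    rw [h4, sub_self]
  have hmem : A.map (homOfLE (Nat.le_add_right n m0)).op (e0 - t e1) ∈ kerImage f n m0 :=
    ⟨_, hd, rfl⟩
  rw [hm0' m hm0m] at hmem
  obtain ⟨k1, hk1, hk1'⟩ := hmem
  have hk1'' : A.map (homOfLE (Nat.le_add_right n m)).op k1 =
      A.map (homOfLE (Nat.le_add_right n m0)).op (e0 - t e1) := hk1'
  have hfk1 : f.app (op (n + m)) k1 = 0 := hk1
  -- the element of the fibre at level `n + m`
  have hfib : f.app (op (n + m)) (e1 + k1) = b.1 (op (n + m)) := by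
    rw [map_add, he1, hfk1, add_zero]
  refine ⟨(Fib f b).map (homOfLE hlm).op ⟨e1 + k1, hfib⟩, ?_⟩
  apply Subtype.ext
  change A.map g (A.map (homOfLE hlm).op (e1 + k1)) =
    A.map (homOfLE (Nat.le_add_right n m0)).op e0
  have e2 : A.map g (A.map (homOfLE hlm).op (e1 + k1)) =
      A.map (homOfLE (Nat.le_add_right n m)).op (e1 + k1) := by
    have e : (homOfLE (Nat.le_add_right n m)).op = (homOfLE hlm).op ≫ g := Subsingleton.elim _ _
    rw [e, A.map_comp]; rfl
  rw [e2, map_add, hk1'', map_sub]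
  have e3 : A.map (homOfLE (Nat.le_add_right n m0)).op (t e1) =
      A.map (homOfLE (Nat.le_add_right n m)).op e1 := by
    have e : (homOfLE (Nat.le_add_right n m)).op =
        (homOfLE (by omega : n + m0 ≤ n + m)).op ≫ (homOfLE (Nat.le_add_right n m0)).op :=
      Subsingleton.elim _ _
    rw [e, A.map_comp]; rfl
  rw [e3]
  abel

/-- Compatible families in the image lift along a map of towers with Artinian source. -/
theorem exists_lift_of_artinian (hA : ∀ n, IsArtinian R (A.obj n))
    (b : (B ⋙ forget (ModuleCat.{u} R)).sections)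
    (hb : ∀ n, ∃ a : A.obj n, f.app n a = b.1 n) :
    ∃ a : (A ⋙ forget (ModuleCat.{u} R)).sections, ∀ n, f.app n (a.1 n) = b.1 n := by
  have hML := Fib_isMittagLeffler f hA b hb
  haveI : ∀ j, Nonempty ((Fib f b).obj j) := fun j => by
    obtain ⟨a, ha⟩ := hb j
    exact ⟨⟨a, ha⟩⟩
  obtain ⟨s, hs⟩ := Groth.Agent.Lib.Helper10.nonempty_sections_of_isMittagLeffler
    Groth.Agent.Lib.Helper10.nat_hcof (Fib f b) hML
  refine ⟨⟨fun n => (s n).1, ?_⟩, fun n => (s n).2⟩
  intro i j g
  exact congrArg Subtype.val (hs g)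

end Lift

end Helper19LimTensor
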