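import Mathlib
import Groth.Agent.Lib.Helper19LimTensorA

/-!
# Exactness of limits of `ℕ`-towers of Artinian modules
-/

set_option autoImplicit false
set_option linter.style.haveILetI false
universe u

open CategoryTheory Limits Opposite

namespace Helper19LimTensor

variable {R : Type u} [CommRing R]

section Limits

/-- Elements of a limit of modules are the compatible families. -/
noncomputable def limEquiv (F : ℕᵒᵖ ⥤ ModuleCat.{u} R) :
    (limit F : ModuleCat.{u} R) ≃ (F ⋙ forget (ModuleCat.{u} R)).sections :=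
  Types.isLimitEquivSections (isLimitOfPreserves (forget (ModuleCat.{u} R)) (limit.isLimit F))

theorem limEquiv_apply (F : ℕᵒᵖ ⥤ ModuleCat.{u} R) (x : (limit F : ModuleCat.{u} R)) (j : ℕᵒᵖ) :
    (limEquiv F x).1 j = limit.π F j x := rfl

theorem limEquiv_symm_apply (F : ℕᵒᵖ ⥤ ModuleCat.{u} R)
    (s : (F ⋙ forget (ModuleCat.{u} R)).sections) (j : ℕᵒᵖ) :
    limit.π F j ((limEquiv F).symm s) = s.1 j := by
  have := limEquiv_apply F ((limEquiv F).symm s) j
  rw [Equiv.apply_symm_apply] at this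
  exact this.symm

theorem lim_ext (F : ℕᵒᵖ ⥤ ModuleCat.{u} R) (x y : (limit F : ModuleCat.{u} R))
    (h : ∀ j, limit.π F j x = limit.π F j y) : x = y :=
  Concrete.limit_ext F x y h

theorem limMap_π_apply {F G : ℕᵒᵖ ⥤ ModuleCat.{u} R} (α : F ⟶ G)
    (x : (limit F : ModuleCat.{u} R)) (j : ℕᵒᵖ) :
    limit.π G j (limMap α x) = α.app j (limit.π F j x) := by
  have := limMap_π α j
  exact congrArg (fun φ => φ x) this

theorem limMap_surjective {B C : ℕᵒᵖ ⥤ ModuleCat.{u} R} (g : B ⟶ C)
    (hB : ∀ n, IsArtinian R (B.obj n)) (hg : ∀ n, Function.Surjective (g.app n)) :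
    Function.Surjective (limMap g) := by
  intro c
  obtain ⟨b, hb⟩ := exists_lift_of_artinian g hB (limEquiv C c) (fun n => hg n _)
  refine ⟨(limEquiv B).symm b, ?_⟩
  apply lim_ext
  intro j
  rw [limMap_π_apply, limEquiv_symm_apply, hb j, limEquiv_apply]

theorem limMap_exact {A B C : ℕᵒᵖ ⥤ ModuleCat.{u} R} (f : A ⟶ B) (g : B ⟶ C)
    (hA : ∀ n, IsArtinian R (A.obj n)) (hex : ∀ n, Function.Exact (f.app n) (g.app n)) :
    Function.Exact (limMap f) (limMap g) := by
  intro b
  constructor
  · intro hb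
    have h1 : ∀ n, g.app n (limit.π B n b) = 0 := by
      intro n
      rw [← limMap_π_apply, hb, map_zero]
    obtain ⟨a, ha⟩ := exists_lift_of_artinian f hA (limEquiv B b)
      (fun n => ((hex n) _).1 (h1 n))
    refine ⟨(limEquiv A).symm a, ?_⟩
    apply lim_ext
    intro j
    rw [limMap_π_apply, limEquiv_symm_apply, ha j, limEquiv_apply]
  · rintro ⟨a, rfl⟩
    apply lim_ext
    intro j
    rw [limMap_π_apply, limMap_π_apply, map_zero]
    exact ((hex j) _).2 ⟨_, rfl⟩

end Limits

end Helper19LimTensor
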