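import Mathlib
import Groth.Agent.Lib.Helper19LimTensorB

/-!
# The comparison `(lim M) ⊗ N ⟶ lim (M ⊗ N)` for towers of finite length modules
-/

set_option autoImplicit false
set_option linter.style.haveILetI false
universe u

open CategoryTheory Limits Opposite MonoidalCategory TensorProduct

namespace Helper19LimTensor

variable {R : Type u} [CommRing R] (M : ℕᵒᵖ ⥤ ModuleCat.{u} R)

/-- the comparison map -/
noncomputable abbrev cmp (X : ModuleCat.{u} R) :
    (tensorRight X).obj (limit M) ⟶ limit (M ⋙ tensorRight X) :=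
  limit.post M (tensorRight X)

theorem cmp_π_apply (X : ModuleCat.{u} R) (j : ℕᵒᵖ) (z : ((tensorRight X).obj (limit M) : ModuleCat.{u} R)) :
    limit.π (M ⋙ tensorRight X) j (cmp M X z) = (limit.π M j ▷ X) z :=
  congrArg (fun φ => φ z) (limit.post_π M (tensorRight X) j)

/-- the map of towers induced by a map of coefficient modules -/
noncomputable def coeffMap {X Y : ModuleCat.{u} R} (h : X ⟶ Y) :
    M ⋙ tensorRight X ⟶ M ⋙ tensorRight Y where
  app n := M.obj n ◁ h
  naturality := by
    intro n m g
    exact (whisker_exchange (M.map g) h).symm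

theorem cmp_naturality {X Y : ModuleCat.{u} R} (h : X ⟶ Y) :
    cmp M X ≫ limMap (coeffMap M h) = (limit M ◁ h) ≫ cmp M Y := by
  apply limit.hom_ext
  intro j
  rw [Category.assoc, limMap_π, limit.post_π_assoc, Category.assoc, limit.post_π]
  exact (whisker_exchange (limit.π M j) h).symm

theorem cmp_naturality_apply {X Y : ModuleCat.{u} R} (h : X ⟶ Y)
    (z : ((tensorRight X).obj (limit M) : ModuleCat.{u} R)) :
    limMap (coeffMap M h) (cmp M X z) = cmp M Y ((limit M ◁ h) z) :=
  congrArg (fun φ => φ z) (cmp_naturality M h)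

/-- the four lemma step -/
theorem cmp_bijective_of_presentation {P1 P0 N : ModuleCat.{u} R} (p : P1 ⟶ P0) (q : P0 ⟶ N)
    (hex : Function.Exact p.hom q.hom) (hq : Function.Surjective q.hom)
    (hArt1 : ∀ n, IsArtinian R ((M ⋙ tensorRight P1).obj n))
    (hArt0 : ∀ n, IsArtinian R ((M ⋙ tensorRight P0).obj n))
    (h1 : Function.Surjective (cmp M P1)) (h0 : Function.Bijective (cmp M P0)) :
    Function.Bijective (cmp M N) := by
  have topex : Function.Exact (limit M ◁ p) (limit M ◁ q) :=
    lTensor_exact (limit M : ModuleCat.{u} R) hex hq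
  have topsurj : Function.Surjective (limit M ◁ q) :=
    LinearMap.lTensor_surjective (limit M : ModuleCat.{u} R) hq
  have botex : Function.Exact (limMap (coeffMap M p)) (limMap (coeffMap M q)) :=
    limMap_exact (coeffMap M p) (coeffMap M q) hArt1
      (fun n => lTensor_exact (M.obj n) hex hq)
  have botsurj : Function.Surjective (limMap (coeffMap M q)) :=
    limMap_surjective (coeffMap M q) hArt0
      (fun n => LinearMap.lTensor_surjective (M.obj n) hq)
  constructor
  · rw [injective_iff_map_eq_zero]
    intro z hz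
    obtain ⟨y, rfl⟩ := topsurj z
    have e1 : limMap (coeffMap M q) (cmp M P0 y) = 0 := by
      rw [cmp_naturality_apply, hz]
    obtain ⟨a, ha⟩ := (botex _).1 e1
    obtain ⟨w, rfl⟩ := h1 a
    rw [cmp_naturality_apply] at ha
    have e2 : (limit M ◁ p) w = y := h0.1 ha
    rw [← e2]
    exact (topex _).2 ⟨w, rfl⟩
  · intro c
    obtain ⟨b, rfl⟩ := botsurj c
    obtain ⟨y, rfl⟩ := h0.2 b
    exact ⟨(limit M ◁ q) y, (cmp_naturality_apply M q y).symm⟩

end Helper19LimTensor
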