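import Mathlib
import Groth.Agent.Lib.Helper19LimTensorC

/-!
# The comparison `(lim M) ⊗ N ⟶ lim (M ⊗ N)`: the free case and the main theorem
-/

set_option autoImplicit false
set_option linter.style.haveILetI false
universe u

open CategoryTheory Limits Opposite MonoidalCategory TensorProduct

namespace Helper19LimTensor

variable {R : Type u} [CommRing R]

section Psr

variable (a : ℕ)

/-- naturality of `piScalarRight` -/
theorem psr_natural {Y Y' : Type u} [AddCommGroup Y] [Module R Y] [AddCommGroup Y'] [Module R Y']
    (h : Y →ₗ[R] Y') (t : Y ⊗[R] (Fin a → R)) (i : Fin a) :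
    TensorProduct.piScalarRight R R Y' (Fin a) (h.rTensor (Fin a → R) t) i =
      h (TensorProduct.piScalarRight R R Y (Fin a) t i) := by
  induction t using TensorProduct.induction_on with
  | zero => simp
  | tmul y f =>
    rw [LinearMap.rTensor_tmul, TensorProduct.piScalarRight_apply,
      TensorProduct.piScalarRight_apply, TensorProduct.piScalarRightHom_tmul,
      TensorProduct.piScalarRightHom_tmul, map_smul]
  | add x y hx hy =>
    rw [map_add, map_add, Pi.add_apply, hx, hy, map_add, Pi.add_apply, map_add]

end Psr

variable (M : ℕᵒᵖ ⥤ ModuleCat.{u} R)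

theorem cmp_bijective_free (a : ℕ) :
    Function.Bijective (cmp M (ModuleCat.of R (Fin a → R))) := by
  constructor
  · rw [injective_iff_map_eq_zero]
    intro z hz
    apply (TensorProduct.piScalarRight R R (limit M : ModuleCat.{u} R) (Fin a)).injective
    rw [map_zero]
    funext i
    apply lim_ext
    intro j
    rw [Pi.zero_apply, map_zero]
    have h1 := psr_natural a (limit.π M j).hom z i
    have h2 : (limit.π M j).hom.rTensor (Fin a → R) z = 0 := by
      have := cmp_π_apply M (ModuleCat.of R (Fin a → R)) j z
      rw [hz, map_zero] at this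
      exact this.symm
    rw [h2, map_zero, Pi.zero_apply] at h1
    exact h1.symm
  · intro t
    -- the coordinates of `t`
    have hcompat : ∀ (i : Fin a) {j j' : ℕᵒᵖ} (g : j ⟶ j'),
        M.map g (TensorProduct.piScalarRight R R (M.obj j) (Fin a)
          (limit.π (M ⋙ tensorRight (ModuleCat.of R (Fin a → R))) j t) i) =
        TensorProduct.piScalarRight R R (M.obj j') (Fin a)
          (limit.π (M ⋙ tensorRight (ModuleCat.of R (Fin a → R))) j' t) i := by
      intro i j j' g
      have h1 := psr_natural a (M.map g).hom
        (limit.π (M ⋙ tensorRight (ModuleCat.of R (Fin a → R))) j t) i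
      have h2 : (M.map g).hom.rTensor (Fin a → R)
          (limit.π (M ⋙ tensorRight (ModuleCat.of R (Fin a → R))) j t) =
          limit.π (M ⋙ tensorRight (ModuleCat.of R (Fin a → R))) j' t := by
        have := limit.w (M ⋙ tensorRight (ModuleCat.of R (Fin a → R))) g
        exact congrArg (fun φ => φ t) this
      rw [h2] at h1
      exact h1.symm
    let s : Fin a → (M ⋙ forget (ModuleCat.{u} R)).sections := fun i =>
      ⟨fun j => TensorProduct.piScalarRight R R (M.obj j) (Fin a)
          (limit.π (M ⋙ tensorRight (ModuleCat.of R (Fin a → R))) j t) i,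
        fun {j j'} g => hcompat i g⟩
    let l : Fin a → (limit M : ModuleCat.{u} R) := fun i => (limEquiv M).symm (s i)
    refine ⟨(TensorProduct.piScalarRight R R (limit M : ModuleCat.{u} R) (Fin a)).symm l, ?_⟩
    apply lim_ext
    intro j
    rw [cmp_π_apply]
    apply (TensorProduct.piScalarRight R R (M.obj j) (Fin a)).injective
    funext i
    have h1 := psr_natural a (limit.π M j).hom
      ((TensorProduct.piScalarRight R R (limit M : ModuleCat.{u} R) (Fin a)).symm l) i
    rw [LinearEquiv.apply_symm_apply] at h1
    refine h1.trans ?_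
    exact limEquiv_symm_apply M (s i) j

theorem isArtinian_tensor_free (Y : Type u) [AddCommGroup Y] [Module R Y]
    (hY : IsFiniteLength R Y) (a : ℕ) : IsArtinian R (Y ⊗[R] (Fin a → R)) := by
  rw [isFiniteLength_iff_isNoetherian_isArtinian] at hY
  haveI := hY.2
  exact isArtinian_of_linearEquiv (TensorProduct.piScalarRight R R Y (Fin a)).symm

theorem main (hM : ∀ n : ℕᵒᵖ, IsFiniteLength R (M.obj n))
    (N : Type u) [AddCommGroup N] [Module R N] [Module.FinitePresentation R N] :
    Function.Bijective (cmp M (ModuleCat.of R N)) := by
  obtain ⟨n, m, q, p, hq, hex⟩ := Module.FinitePresentation.exists_fin' R N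
  exact cmp_bijective_of_presentation M (ModuleCat.ofHom p) (ModuleCat.ofHom q) hex hq
    (fun j => isArtinian_tensor_free _ (hM j) m) (fun j => isArtinian_tensor_free _ (hM j) n)
    (cmp_bijective_free M m).2 (cmp_bijective_free M n)

end Helper19LimTensor
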