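import Groth.Agent.Lib.Helper19SGA7

set_option autoImplicit false
universe u v w

open CategoryTheory ArtFun ArtFun.Art

namespace Groth.Agent.Lib.Helper19

section Prolong

variable {Λ : Type u} {k : Type u} [CommRing Λ] [Field k] [Algebra Λ k]

/-- The augmentation `k[ε] → k` is a small extension. -/
lemma isSmallExt_toBase_dual : IsSmallExt (toBase (dual Λ k)) := by
  have hker : RingHom.ker (toBase (dual Λ k)).toAlgHom = Ideal.span {(dmk 0 1 : dual Λ k)} := by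
    ext x
    rw [RingHom.mem_ker, Ideal.mem_span_singleton']
    constructor
    · intro hx
      have hx' : dfst x = 0 := hx
      refine ⟨dmk (dsnd x) 0, ?_⟩
      apply dual_ext
      · rw [dfst_mul, dfst_dmk, dfst_dmk, mul_zero, hx']
      · rw [dsnd_mul, dsnd_dmk, dsnd_dmk, dfst_dmk, dfst_dmk, mul_one, zero_mul, add_zero]
    · rintro ⟨a, rfl⟩
      change (dual Λ k).res (a * dmk 0 1) = 0
      rw [← dfst_eq_res, dfst_mul, dfst_dmk, mul_zero]
  refine ⟨toBase_surjective _, ?_, ?_, ?_⟩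
  · rw [hker]
    intro h
    have h1 : (dmk 0 1 : dual Λ k) ∈ (⊥ : Ideal (dual Λ k)) := h ▸ Ideal.subset_span rfl
    rw [Ideal.mem_bot] at h1
    have h2 := congrArg dsnd h1
    rw [dsnd_dmk, dsnd_zero] at h2
    exact one_ne_zero h2
  · rw [hker]
    exact ⟨⟨_, rfl⟩⟩
  · rw [eq_bot_iff, ← maximalIdeal_dual_sq, pow_two]
    exact Ideal.mul_mono_right (fun x hx => (Art.mem_maximalIdeal_iff _ x).2 (RingHom.mem_ker.1 hx))

/-- Tangent surjectivity lets one correct a lift by a tangent vector. -/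
theorem exists_map_over_of_tangent_surjective [Module.Finite Λ k]
    (F : Art Λ k ⥤ Type v) (hS1 : S1 F) (hEps : Heps F)
    {R R₁ R' : Art Λ k} (π₁ : R₁ ⟶ R) (hπ : IsSmallExt π₁) (g : R' ⟶ R)
    (a : F.obj R) (a₁ : F.obj R₁) (a' : F.obj R') (h₁ : F.map π₁ a₁ = a) (h' : F.map g a' = a)
    (htan : ∀ b : F.obj (dual Λ k), ∃ φ : R ⟶ dual Λ k, F.map φ a = b)
    (f : R' ⟶ R₁) (hf : f ≫ π₁ = g) :
    ∃ f : R' ⟶ R₁, f ≫ π₁ = g ∧ F.map f a' = a₁ := by
  obtain ⟨t, hker, ht0, ht, htm⟩ := exists_gen_of_isSmallExt hπ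
  have hP := isFibreProd_pullbackObj (toBase R₁) (toBase (dual Λ k)) (toBase_surjective _)
  set P := pullbackObj (toBase R₁) (toBase (dual Λ k)) (toBase_surjective _)
  set r₁ : P ⟶ R₁ := pullbackObjFst _ _ _
  set r₂ : P ⟶ dual Λ k := pullbackObjSnd _ _ _
  set s : P ⟶ R₁ := shiftHom r₁ r₂ ht htm
  have hS : IsFibreProd r₁ s π₁ π₁ := isFibreProd_shift hP π₁ ht htm ht0 hker
  have hxA : F.map π₁ (F.map f a') = F.map π₁ a₁ := by
    rw [← map_comp_apply', hf, h', h₁]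
  obtain ⟨z, hz1, hz2⟩ := (cmp_surjective_iff F hS).1 (hS1 r₁ s π₁ π₁ hS hπ.1) _ _ hxA
  obtain ⟨φ, hφ⟩ := htan (F.map r₂ z)
  have w : f ≫ toBase R₁ = (g ≫ φ) ≫ toBase (dual Λ k) := (eq_toBase _).trans (eq_toBase _).symm
  set c : R' ⟶ P := fibreProdLift hP f (g ≫ φ) w
  have hc1 : c ≫ r₁ = f := fibreProdLift_fst hP _ _ w
  have hc2 : c ≫ r₂ = g ≫ φ := fibreProdLift_snd hP _ _ w
  have hcz : F.map c a' = z := by
    apply (cmp_injective_iff F hP).1 (hEps r₁ r₂ hP).1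
    · rw [← map_comp_apply', hc1, hz1]
    · rw [← map_comp_apply', hc2, map_comp_apply', h', hφ]
  refine ⟨c ≫ s, ?_, ?_⟩
  · rw [Category.assoc, ← hS.w, ← Category.assoc, hc1, hf]
  · rw [map_comp_apply', hcz, hz2]

/-- Versality for small prolongations of the base point lets one correct a lift by a tangent vector. -/
theorem exists_map_over_iff_of_versal_smallProlongation [Module.Finite Λ k]
    (F : Art Λ k ⥤ Type v) (hS1 : S1 F) (hEps : Heps F)
    {R R₁ R' : Art Λ k} (π₁ : R₁ ⟶ R) (hπ : IsSmallExt π₁) (g : R' ⟶ R)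
    (a : F.obj R) (a₁ : F.obj R₁) (a' : F.obj R') (h₁ : F.map π₁ a₁ = a) (h' : F.map g a' = a)
    (hvers : ∀ (R₀ : Art Λ k), IsSmallExt (toBase R₀) → ∀ b : F.obj R₀, ∃ φ : R ⟶ R₀, F.map φ a = b) :
    (∃ f : R' ⟶ R₁, f ≫ π₁ = g ∧ F.map f a' = a₁) ↔ (∃ f : R' ⟶ R₁, f ≫ π₁ = g) := by
  constructor
  · rintro ⟨f, hf, -⟩
    exact ⟨f, hf⟩
  · rintro ⟨f, hf⟩
    obtain ⟨t, hker, ht0, ht, htm⟩ := exists_gen_of_isSmallExt hπ
    have hP := isFibreProd_pullbackObj (toBase R₁) (toBase (dual Λ k)) (toBase_surjective _)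
    set P := pullbackObj (toBase R₁) (toBase (dual Λ k)) (toBase_surjective _)
    set r₁ : P ⟶ R₁ := pullbackObjFst _ _ _
    set r₂ : P ⟶ dual Λ k := pullbackObjSnd _ _ _
    set s : P ⟶ R₁ := shiftHom r₁ r₂ ht htm
    have hS : IsFibreProd r₁ s π₁ π₁ := isFibreProd_shift hP π₁ ht htm ht0 hker
    have hxA : F.map π₁ (F.map f a') = F.map π₁ a₁ := by
      rw [← map_comp_apply', hf, h', h₁]
    obtain ⟨z, hz1, hz2⟩ := (cmp_surjective_iff F hS).1 (hS1 r₁ s π₁ π₁ hS hπ.1) _ _ hxA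
    obtain ⟨φ, hφ⟩ := hvers (dual Λ k) isSmallExt_toBase_dual (F.map r₂ z)
    have w : f ≫ toBase R₁ = (g ≫ φ) ≫ toBase (dual Λ k) := (eq_toBase _).trans (eq_toBase _).symm
    set c : R' ⟶ P := fibreProdLift hP f (g ≫ φ) w
    have hc1 : c ≫ r₁ = f := fibreProdLift_fst hP _ _ w
    have hc2 : c ≫ r₂ = g ≫ φ := fibreProdLift_snd hP _ _ w
    have hcz : F.map c a' = z := by
      apply (cmp_injective_iff F hP).1 (hEps r₁ r₂ hP).1
      · rw [← map_comp_apply', hc1, hz1]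
      · rw [← map_comp_apply', hc2, map_comp_apply', h', hφ]
    refine ⟨c ≫ s, ?_, ?_⟩
    · rw [Category.assoc, ← hS.w, ← Category.assoc, hc1, hf]
    · rw [map_comp_apply', hcz, hz2]

end Prolong

end Groth.Agent.Lib.Helper19
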