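import Groth.Agent.Lib.Helper19Present
import Groth.Agent.Lib.Helper19LeastIdeal
import Groth.Agent.Lib.Helper19Prolong

set_option autoImplicit false
universe u v w

open CategoryTheory ArtFun ArtFun.Art

namespace Groth.Agent.Lib.Helper19

section Step

variable {Λ : Type u} {k : Type u} [CommRing Λ] [Field k] [Algebra Λ k]
variable [IsLocalRing Λ] [IsNoetherianRing Λ] [IsAdicComplete (IsLocalRing.maximalIdeal Λ) Λ]
  (hk : Function.Surjective (algebraMap Λ k))

/-- Morphisms of objects carry `m² + m_Λ` into `m² + m_Λ`. -/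
lemma hom_map_relSq_le {B A : Art Λ k} (f : B ⟶ A) :
    (relSq Λ B).map f.toAlgHom ≤ relSq Λ A := by
  have hm : (IsLocalRing.maximalIdeal B).map f.toAlgHom ≤ IsLocalRing.maximalIdeal A :=
    map_maximalIdeal_le B.res B.res_surjective A.res A.res_surjective f.toAlgHom f.res_comp
  rw [relSq, Ideal.map_sup, Ideal.map_pow]
  apply sup_le_sup (Ideal.pow_right_mono hm 2)
  rw [Ideal.map_le_iff_le_comap, Ideal.map_le_iff_le_comap]
  intro c hc
  rw [Ideal.mem_comap, Ideal.mem_comap, AlgHom.commutes]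
  exact Ideal.mem_map_of_mem _ hc

include hk in
/-- The universal extension of an object by a module killed by the maximal ideal, inducing an isomorphism
on relative cotangent spaces. -/
theorem exists_universal_semismall (A : Art Λ k) :
    ∃ (U : Art Λ k) (p : U ⟶ A), IsSemismallExt p ∧
      (∀ y : U, y ∈ IsLocalRing.maximalIdeal U → p y ∈ relSq Λ A → y ∈ relSq Λ U) ∧
      (∀ (R₁ : Art Λ k) (π₁ : R₁ ⟶ A), IsSemismallExt π₁ → ∃ u : U ⟶ R₁, u ≫ π₁ = p) := by
  obtain ⟨r, ψ, hψs, hψi⟩ := exists_presentation hk A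
  set 𝔪 := IsLocalRing.maximalIdeal (MvPowerSeries (Fin r) Λ) with h𝔪
  set 𝔞 : Ideal (MvPowerSeries (Fin r) Λ) := RingHom.ker ψ.1 with h𝔞
  obtain ⟨n, hn⟩ := isNilpotent_maximalIdeal_of_artinian A
  have hmap : 𝔪.map ψ.1 ≤ IsLocalRing.maximalIdeal A :=
    map_maximalIdeal_le (psCRing (Fin r) hk).res (psCRing (Fin r) hk).res_surjective A.res A.res_surjective ψ.1 ψ.2
  have h𝔞n : 𝔪 ^ n ≤ 𝔞 := by
    intro a ha
    rw [h𝔞, RingHom.mem_ker]
    have h1 : ψ.1 a ∈ (𝔪 ^ n).map ψ.1 := Ideal.mem_map_of_mem _ ha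
    rw [Ideal.map_pow] at h1
    have h2 := Ideal.pow_right_mono hmap n h1
    rwa [hn, Ideal.zero_eq_bot, Ideal.mem_bot] at h2
  have hJ : 𝔪 * 𝔞 ≤ 𝔪 := Ideal.mul_le_left
  have hJn : 𝔪 ^ (n + 1) ≤ 𝔪 * 𝔞 := by
    rw [pow_succ']
    exact Ideal.mul_mono_right h𝔞n
  set U := artOfQuot (psCRing (Fin r) hk) (𝔪 * 𝔞) hJ (n + 1) hJn with hU
  set mk := artOfQuotMk (psCRing (Fin r) hk) (𝔪 * 𝔞) hJ (n + 1) hJn with hmk
  have hmks : Function.Surjective mk.1 := artOfQuotMk_surjective (psCRing (Fin r) hk) _ hJ (n + 1) hJn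
  have hmk0 : ∀ a, mk.1 a = 0 ↔ a ∈ 𝔪 * 𝔞 := artOfQuotMk_eq_zero_iff (psCRing (Fin r) hk) _ hJ (n + 1) hJn
  obtain ⟨p, hp⟩ := homSet_factor_of_surjective mk hmks ψ (by
    intro a ha
    have h1 : a ∈ 𝔞 := Ideal.mul_le_right ((hmk0 a).1 ha)
    exact h1)
  have hpmk : ∀ a, p (mk.1 a) = ψ.1 a := fun a => AlgHom.congr_fun (congrArg Subtype.val hp) a
  have hmU : ∀ y : U, y ∈ IsLocalRing.maximalIdeal U → ∃ a ∈ 𝔪, mk.1 a = y := by
    intro y hy
    obtain ⟨a, rfl⟩ := hmks y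
    refine ⟨a, ?_, rfl⟩
    rw [Art.mem_maximalIdeal_iff] at hy
    have h1 := AlgHom.congr_fun mk.2 a
    rw [AlgHom.comp_apply] at h1
    rw [h𝔪, CRing.mem_maximalIdeal_iff (psCRing (Fin r) hk), ← h1]
    exact hy
  refine ⟨U, p, ⟨?_, ?_⟩, ?_, ?_⟩
  · intro a
    obtain ⟨g, rfl⟩ := hψs a
    exact ⟨mk.1 g, hpmk g⟩
  · rw [eq_bot_iff, Ideal.mul_le]
    intro y hy z hz
    obtain ⟨a, ha, rfl⟩ := hmU y hy
    obtain ⟨b, rfl⟩ := hmks z
    rw [RingHom.mem_ker] at hz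
    have hb : b ∈ 𝔞 := by
      rw [h𝔞, RingHom.mem_ker, ← hpmk]
      exact hz
    rw [Ideal.mem_bot, ← map_mul, hmk0]
    exact Ideal.mul_mem_mul ha hb
  · intro y hy hpy
    obtain ⟨g, hg, rfl⟩ := hmU y hy
    have hpy' : ψ.1 g ∈ relSq Λ A := by rw [← hpmk]; exact hpy
    have h1 := hψi g hg hpy'
    exact homSet_map_relSq_le mk (Ideal.mem_map_of_mem _ h1)
  · intro R₁ π₁ hπ
    obtain ⟨ψ₁, hψ₁⟩ := psCRing_lift hk π₁ hπ.1 ψ
    have hψ₁' : ∀ a, π₁ (ψ₁.1 a) = ψ.1 a := fun a => AlgHom.congr_fun (congrArg Subtype.val hψ₁) a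
    have hmap₁ : 𝔪.map ψ₁.1 ≤ IsLocalRing.maximalIdeal R₁ :=
      map_maximalIdeal_le (psCRing (Fin r) hk).res (psCRing (Fin r) hk).res_surjective R₁.res R₁.res_surjective ψ₁.1 ψ₁.2
    obtain ⟨u, hu⟩ := homSet_factor_of_surjective mk hmks ψ₁ (by
      intro a ha
      have h1 : a ∈ 𝔪 * 𝔞 := (hmk0 a).1 ha
      have h2 : ψ₁.1 a ∈ (𝔪 * 𝔞).map ψ₁.1 := Ideal.mem_map_of_mem _ h1
      rw [Ideal.map_mul] at h2
      have h3 : 𝔞.map ψ₁.1 ≤ RingHom.ker π₁.toAlgHom := by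
        rw [Ideal.map_le_iff_le_comap]
        intro b hb
        rw [Ideal.mem_comap, RingHom.mem_ker]
        change π₁ (ψ₁.1 b) = 0
        rw [hψ₁']
        exact hb
      have h4 := Ideal.mul_mono hmap₁ h3 h2
      rwa [hπ.2, Ideal.mem_bot] at h4)
    refine ⟨u, ?_⟩
    apply hom_ext_of_homSet_surjective mk hmks
    rw [hp, homSet_map_comp, hu, hψ₁]

lemma quotFactor_comp {U R₁ R : Art Λ k} {K : Ideal U} (hK : K ≤ IsLocalRing.maximalIdeal U)
    (u : U ⟶ R₁) (π₁ : R₁ ⟶ R) (hu : K ≤ RingHom.ker u.toAlgHom)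
    (hp : K ≤ RingHom.ker (u ≫ π₁).toAlgHom) :
    quotFactor hK u hu ≫ π₁ = quotFactor hK (u ≫ π₁) hp := by
  apply hom_ext
  apply AlgHom.ext
  intro y
  obtain ⟨b, rfl⟩ := quotMk_surjective U K hK y
  rfl

include hk in
/-- The inductive step of the construction of a hull: a semismall extension of a pair `(R, a)` which is
versal for small extensions of `(R, a)`. -/
theorem exists_semismall_versal_lift [Module.Finite Λ k] (F : Art Λ k ⥤ Type v)
    (hS1 : S1 F) (hEps : Heps F) (R : Art Λ k) (a : F.obj R)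
    (htan : ∀ b : F.obj (dual Λ k), ∃ φ : R ⟶ dual Λ k, F.map φ a = b) :
    ∃ (R' : Art Λ k) (q : R' ⟶ R) (a' : F.obj R'), F.map q a' = a ∧ IsSemismallExt q ∧
      (∀ x' : R', x' ∈ IsLocalRing.maximalIdeal R' → q x' ∈ relSq Λ R → x' ∈ relSq Λ R') ∧
      ∀ (R₁ : Art Λ k) (π₁ : R₁ ⟶ R), IsSmallExt π₁ → ∀ a₁ : F.obj R₁, F.map π₁ a₁ = a →
        ∃ f : R' ⟶ R₁, f ≫ π₁ = q ∧ F.map f a' = a₁ := by
  obtain ⟨U, p, hpU, hU2, hU3⟩ := exists_universal_semismall hk R
  obtain ⟨J₀, hJ₀, hJ₀', ⟨y, hy⟩, hleast⟩ := exists_least_ideal_with_lift hS1 p hpU a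
  set q : quot U J₀ hJ₀' ⟶ R := quotFactor hJ₀' p hJ₀ with hq
  set mk : U ⟶ quot U J₀ hJ₀' := quotMk U J₀ hJ₀' with hmk
  have hmkq : mk ≫ q = p := quotMk_quotFactor hJ₀' p hJ₀
  have hmks : Function.Surjective mk := quotMk_surjective U J₀ hJ₀'
  refine ⟨quot U J₀ hJ₀', q, y, hy, ⟨quotFactor_surjective p hpU.1 hJ₀' hJ₀, ?_⟩, ?_, ?_⟩
  · rw [eq_bot_iff, Ideal.mul_le]
    intro y' hy' z hz
    obtain ⟨b, hb, rfl⟩ := exists_mem_maximalIdeal_of_quot U J₀ hJ₀' y' hy'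
    obtain ⟨c, rfl⟩ := hmks z
    have hc : c ∈ RingHom.ker p.toAlgHom := by
      rw [RingHom.mem_ker] at hz ⊢
      exact hz
    have h1 : b * c ∈ IsLocalRing.maximalIdeal U * RingHom.ker p.toAlgHom := Ideal.mul_mem_mul hb hc
    rw [hpU.2, Ideal.mem_bot] at h1
    rw [Ideal.mem_bot, ← hom_map_mul, h1, hom_map_zero]
  · intro x' hx' hqx'
    obtain ⟨b, hb, rfl⟩ := exists_mem_maximalIdeal_of_quot U J₀ hJ₀' x' hx'
    have h1 : b ∈ relSq Λ U := hU2 b hb hqx'
    exact hom_map_relSq_le mk (Ideal.mem_map_of_mem _ h1)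
  · intro R₁ π₁ hπ a₁ ha₁
    obtain ⟨u, hu⟩ := hU3 R₁ π₁ hπ.isSemismallExt
    have hupi : ∀ d : U, π₁ (u d) = p d := fun d =>
      AlgHom.congr_fun (congrArg Art.Hom.toAlgHom hu) d
    have hqmk : ∀ d : U, q (mk d) = p d := fun d =>
      AlgHom.congr_fun (congrArg Art.Hom.toAlgHom hmkq) d
    -- the key claim
    have hclaim : J₀ ≤ RingHom.ker u.toAlgHom := by
      by_contra hnot
      obtain ⟨c, hcJ, hcu⟩ := SetLike.not_le_iff_exists.1 hnot
      have hcu' : u c ≠ 0 := fun h => hcu (RingHom.mem_ker.2 h)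
      have hmkc : mk c = 0 := (quotMk_eq_zero_iff U J₀ hJ₀' c).2 hcJ
      obtain ⟨t₁, hker₁, ht₁0, ht₁s, ht₁m⟩ := exists_gen_of_isSmallExt hπ
      have hQ := isFibreProd_pullbackObj q π₁ hπ.1
      set Q := pullbackObj q π₁ hπ.1
      set ρ₁ : Q ⟶ quot U J₀ hJ₀' := pullbackObjFst _ _ _
      set ρ₂ : Q ⟶ R₁ := pullbackObjSnd _ _ _
      obtain ⟨b, hb1, hb2⟩ := (cmp_surjective_iff F hQ).1 (hS1 ρ₁ ρ₂ q π₁ hQ hπ.1) y a₁
        (by rw [hy, ha₁])
      have ww : mk ≫ q = u ≫ π₁ := by rw [hmkq, hu]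
      set w : U ⟶ Q := fibreProdLift hQ mk u ww
      have hw1 : w ≫ ρ₁ = mk := fibreProdLift_fst hQ _ _ ww
      have hw2 : w ≫ ρ₂ = u := fibreProdLift_snd hQ _ _ ww
      have hw1' : ∀ d, ρ₁ (w d) = mk d := fun d => AlgHom.congr_fun (congrArg Art.Hom.toAlgHom hw1) d
      have hw2' : ∀ d, ρ₂ (w d) = u d := fun d => AlgHom.congr_fun (congrArg Art.Hom.toAlgHom hw2) d
      -- `u c` spans the kernel of `π₁`
      have huc_ker : u c ∈ RingHom.ker π₁.toAlgHom := by
        rw [RingHom.mem_ker]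
        change π₁ (u c) = 0
        rw [hupi, ← hqmk, hmkc, hom_map_zero]
      have hsoc : ∀ m ∈ IsLocalRing.maximalIdeal R₁, m * u c = 0 := by
        intro m hm
        have : m * u c ∈ IsLocalRing.maximalIdeal R₁ * RingHom.ker π₁.toAlgHom :=
          Ideal.mul_mem_mul hm huc_ker
        rwa [hπ.2.2.2, Ideal.mem_bot] at this
      have hspan : ∀ v ∈ RingHom.ker π₁.toAlgHom, ∃ l : Λ, v = l • u c := by
        intro v hv
        rw [hker₁] at huc_ker hv
        obtain ⟨e, he⟩ := Ideal.mem_span_singleton'.1 huc_ker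
        obtain ⟨e', he'⟩ := Ideal.mem_span_singleton'.1 hv
        have heu : IsUnit e := by
          by_contra hne
          have hem : e ∈ IsLocalRing.maximalIdeal R₁ := (IsLocalRing.mem_maximalIdeal e).2 hne
          exact hcu' (by rw [← he]; exact ht₁s e hem)
        obtain ⟨e₂, he₂⟩ := heu.exists_left_inv
        obtain ⟨l, hl⟩ := hk (R₁.res (e' * e₂))
        refine ⟨l, ?_⟩
        have hm : e' * e₂ - algebraMap Λ R₁ l ∈ IsLocalRing.maximalIdeal R₁ := by
          rw [Art.mem_maximalIdeal_iff, map_sub, AlgHom.commutes, hl, sub_self]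
        have h1 := hsoc _ hm
        rw [sub_mul, sub_eq_zero] at h1
        rw [Algebra.smul_def, ← h1, ← he, ← he']
        calc e' * t₁ = e' * ((e₂ * e) * t₁) := by rw [he₂, one_mul]
          _ = e' * e₂ * (e * t₁) := by ring
      -- `w` is surjective
      have hws : Function.Surjective w := by
        intro z
        obtain ⟨d₀, hd₀⟩ := hmks (ρ₁ z)
        have hv : ρ₂ z - u d₀ ∈ RingHom.ker π₁.toAlgHom := by
          rw [RingHom.mem_ker]
          change π₁ (ρ₂ z - u d₀) = 0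
          rw [hom_map_sub, hupi, ← hqmk, hd₀, ← hQ.w_apply, sub_self]
        obtain ⟨l, hl⟩ := hspan _ hv
        refine ⟨d₀ + l • c, ?_⟩
        apply hQ.inj
        · rw [hw1', hom_map_add, hd₀]
          have : mk (l • c) = l • mk c := map_smul mk.toAlgHom l c
          rw [this, hmkc, smul_zero, add_zero]
        · rw [hw2', hom_map_add]
          have : u (l • c) = l • u c := map_smul u.toAlgHom l c
          rw [this, ← hl]
          ring
      -- the kernel of `w`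
      set K := RingHom.ker w.toAlgHom with hKdef
      have hK' : K ≤ IsLocalRing.maximalIdeal U := ker_le_maximalIdeal w
      have hKp : K ≤ RingHom.ker p.toAlgHom := by
        intro d hd
        rw [RingHom.mem_ker] at hd ⊢
        change p d = 0
        have hd' : w d = 0 := hd
        rw [← hqmk, ← hw1', hd', hom_map_zero, hom_map_zero]
      set wbar : quot U K hK' ⟶ Q := quotFactor hK' w le_rfl
      have hwb : Function.Bijective wbar := by
        refine ⟨?_, quotFactor_surjective w hws hK' le_rfl⟩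
        intro y₁ y₂ h
        obtain ⟨b₁, rfl⟩ := quotMk_surjective U K hK' y₁
        obtain ⟨b₂, rfl⟩ := quotMk_surjective U K hK' y₂
        rw [quotFactor_mk, quotFactor_mk] at h
        have : quotMk U K hK' (b₁ - b₂) = 0 := by
          rw [quotMk_eq_zero_iff, hKdef, RingHom.mem_ker, map_sub]
          exact sub_eq_zero.2 h
        rwa [hom_map_sub, sub_eq_zero] at this
      haveI := isIso_of_bijective wbar hwb
      have hfac : quotFactor hK' p hKp = wbar ≫ ρ₁ ≫ q := by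
        apply hom_ext
        apply AlgHom.ext
        intro y₁
        obtain ⟨b₁, rfl⟩ := quotMk_surjective U K hK' y₁
        change p b₁ = q (ρ₁ (w b₁))
        rw [hw1', hqmk]
      have hlift : ∃ yK : F.obj (quot U K hK'), F.map (quotFactor hK' p hKp) yK = a := by
        refine ⟨F.map (inv wbar) b, ?_⟩
        rw [hfac, map_comp_apply', map_comp_apply', map_map_inv, hb1, hy]
      have hle := hleast K hKp hK' hlift
      have : w c = 0 := hle hcJ
      apply hcu'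
      rw [← hw2', this, hom_map_zero]
    -- a map over `R`
    set f₀ : quot U J₀ hJ₀' ⟶ R₁ := quotFactor hJ₀' u hclaim
    have hf₀ : f₀ ≫ π₁ = q := by
      have hp' : J₀ ≤ RingHom.ker (u ≫ π₁).toAlgHom := by rw [hu]; exact hJ₀
      rw [quotFactor_comp hJ₀' u π₁ hclaim hp']
      apply hom_ext
      apply AlgHom.ext
      intro y₁
      obtain ⟨b₁, rfl⟩ := hmks y₁
      change π₁ (u b₁) = p b₁
      exact hupi b₁
    exact exists_map_over_of_tangent_surjective F hS1 hEps π₁ hπ q a a₁ y ha₁ hy htan f₀ hf₀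

end Step

end Groth.Agent.Lib.Helper19
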