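import Groth.Agent.Lib.Helper19Chevalley
import Groth.Agent.Lib.Helper19Step

set_option autoImplicit false
universe u v w

open CategoryTheory ArtFun ArtFun.Art

namespace Groth.Agent.Lib.Helper19

section Limit

variable {Λ : Type u} {k : Type u} [CommRing Λ] [Field k] [Algebra Λ k]
variable [IsLocalRing Λ] [IsNoetherianRing Λ] [IsAdicComplete (IsLocalRing.maximalIdeal Λ) Λ]
  (hk : Function.Surjective (algebraMap Λ k))

include hk in
/-- Compatible surjections from a power series ring onto a tower of surjections inducing isomorphisms on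
relative cotangent spaces. -/
theorem exists_compatible_presentations (R : ℕ → Art Λ k) (q : ∀ n, R (n + 1) ⟶ R n)
    (hq : ∀ n, Function.Surjective (q n))
    (hcot : ∀ n (x' : R (n + 1)), x' ∈ IsLocalRing.maximalIdeal (R (n + 1)) → q n x' = 0 →
      x' ∈ relSq Λ (R (n + 1))) :
    ∃ (r : ℕ) (ψ : ∀ n, HomSet (psCRing (Fin r) hk).carrier (psCRing (Fin r) hk).res (R n)),
      (∀ n, HomSet.map (q n) (ψ (n + 1)) = ψ n) ∧ ∀ n, Function.Surjective (ψ n).1 := by
  obtain ⟨r, ψ₀, hψ₀, -⟩ := exists_presentation hk (R 0)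
  let ψ : ∀ n, HomSet (psCRing (Fin r) hk).carrier (psCRing (Fin r) hk).res (R n) := fun n =>
    Nat.rec (motive := fun n => HomSet (psCRing (Fin r) hk).carrier (psCRing (Fin r) hk).res (R n)) ψ₀
      (fun n ψn => Classical.choose (psCRing_lift hk (q n) (hq n) ψn)) n
  have hψ : ∀ n, HomSet.map (q n) (ψ (n + 1)) = ψ n := fun n =>
    Classical.choose_spec (psCRing_lift hk (q n) (hq n) (ψ n))
  refine ⟨r, ψ, hψ, ?_⟩
  intro n
  induction n with
  | zero => exact hψ₀
  | succ n ih =>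
    haveI : IsPrecomplete (IsLocalRing.maximalIdeal (psCRing (Fin r) hk).carrier)
        (psCRing (Fin r) hk).carrier := (psCRing (Fin r) hk).isAdicComplete.toIsPrecomplete
    have hψq : ∀ g, q n ((ψ (n + 1)).1 g) = (ψ n).1 g := fun g =>
      AlgHom.congr_fun (congrArg Subtype.val (hψ n)) g
    apply surjective_of_cotangent (psCRing (Fin r) hk).res (psCRing (Fin r) hk).res_surjective
      (R (n + 1)).res (R (n + 1)).res_surjective (ψ (n + 1)).1 (ψ (n + 1)).2
    apply le_antisymm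
    · exact sup_le (map_maximalIdeal_le (psCRing (Fin r) hk).res (psCRing (Fin r) hk).res_surjective
        (R (n + 1)).res (R (n + 1)).res_surjective (ψ (n + 1)).1 (ψ (n + 1)).2)
        (Ideal.pow_le_self two_ne_zero)
    · intro y hy
      obtain ⟨g, hg⟩ := ih (q n y)
      have hgm : g ∈ IsLocalRing.maximalIdeal (MvPowerSeries (Fin r) Λ) := by
        rw [CRing.mem_maximalIdeal_iff (psCRing (Fin r) hk)]
        have h1 := AlgHom.congr_fun (ψ n).2 g
        rw [AlgHom.comp_apply, hg, Art.res_app] at h1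
        rw [← h1]
        exact (Art.mem_maximalIdeal_iff _ y).1 hy
      have hy' : y - (ψ (n + 1)).1 g ∈ relSq Λ (R (n + 1)) := by
        apply hcot n
        · apply Ideal.sub_mem _ hy
          exact map_maximalIdeal_le (psCRing (Fin r) hk).res (psCRing (Fin r) hk).res_surjective
            (R (n + 1)).res (R (n + 1)).res_surjective (ψ (n + 1)).1 (ψ (n + 1)).2
            (Ideal.mem_map_of_mem _ hgm)
        · rw [hom_map_sub, hψq, hg, sub_self]
      have hrel : relSq Λ (R (n + 1)) ≤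
          Ideal.map (ψ (n + 1)).1 (IsLocalRing.maximalIdeal (MvPowerSeries (Fin r) Λ)) ⊔
            IsLocalRing.maximalIdeal (R (n + 1)) ^ 2 := by
        rw [relSq]
        apply sup_le le_sup_right
        refine le_trans ?_ le_sup_left
        rw [Ideal.map_le_iff_le_comap]
        intro c hc
        rw [Ideal.mem_comap, ← (ψ (n + 1)).1.commutes c]
        apply Ideal.mem_map_of_mem
        have : algebraMap Λ (MvPowerSeries (Fin r) Λ) c = MvPowerSeries.C c := by
          rw [MvPowerSeries.algebraMap_apply, Algebra.algebraMap_self, RingHom.id_apply]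
        rw [this, maximalIdeal_eq_coeffIdeal, mem_coeffIdeal_one, MvPowerSeries.constantCoeff_C]
        exact hc
      have : y = (ψ (n + 1)).1 g + (y - (ψ (n + 1)).1 g) := by ring
      rw [this]
      exact Ideal.add_mem _ (Submodule.mem_sup_left (Ideal.mem_map_of_mem _ hgm)) (hrel hy')

end Limit

section QuotLift

variable {Λ : Type u} {k : Type u} [CommRing Λ] [Field k] [Algebra Λ k]

/-- A map from a coefficient ring to an object killing an ideal factors through the quotient coefficient ring. -/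
theorem quotCRing_lift (S : CRing Λ k) (J : Ideal S.carrier)
    (hJ : J ≤ IsLocalRing.maximalIdeal S.carrier) {A : Art Λ k}
    (φ : HomSet S.carrier S.res A) (h : ∀ a ∈ J, φ.1 a = 0) :
    ∃ φ' : HomSet (quotCRing S J hJ).carrier (quotCRing S J hJ).res A,
      ∀ a, φ'.1 (quotCRingMk S J hJ a) = φ.1 a := by
  let g : (quotCRing S J hJ).carrier →ₐ[Λ] A := Ideal.Quotient.liftₐ J φ.1 h
  have hg : ∀ a, g (quotCRingMk S J hJ a) = φ.1 a := fun a => rfl
  refine ⟨⟨g, ?_⟩, hg⟩
  apply AlgHom.ext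
  intro y
  obtain ⟨a, rfl⟩ := quotCRingMk_surjective S J hJ y
  rw [AlgHom.comp_apply, hg]
  have h1 := AlgHom.congr_fun φ.2 a
  have h2 := AlgHom.congr_fun (quotCRingMk_res S J hJ) a
  rw [AlgHom.comp_apply] at h1 h2
  rw [h1, h2]

end QuotLift

section Family

variable {Λ : Type u} {k : Type u} [CommRing Λ] [Field k] [Algebra Λ k]

/-- Transition maps of a tower, compatible with presentations and elements. -/
lemma exists_transition {S : Type u} [CommRing S] [Algebra Λ S] {resS : S →ₐ[Λ] k}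
    (F : Art Λ k ⥤ Type v) (R : ℕ → Art Λ k) (q : ∀ n, R (n + 1) ⟶ R n)
    (a : ∀ n, F.obj (R n)) (ha : ∀ n, F.map (q n) (a (n + 1)) = a n)
    (ρ : ∀ n, HomSet S resS (R n)) (hρ : ∀ n, HomSet.map (q n) (ρ (n + 1)) = ρ n)
    {n m : ℕ} (hnm : n ≤ m) :
    ∃ t : R m ⟶ R n, HomSet.map t (ρ m) = ρ n ∧ F.map t (a m) = a n := by
  induction m, hnm using Nat.le_induction with
  | base => exact ⟨𝟙 _, homSet_map_id _, by rw [F.map_id]; rfl⟩
  | succ m hnm ih =>
    obtain ⟨t, ht1, ht2⟩ := ih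
    refine ⟨q m ≫ t, ?_, ?_⟩
    · rw [homSet_map_comp, hρ, ht1]
    · rw [F.map_comp]
      change F.map t (F.map (q m) (a (m + 1))) = a n
      rw [ha, ht2]

/-- A compatible system of elements over a tower which is cofinal among the quotients of `S` defines a family. -/
theorem exists_family_of_tower {S : Type u} [CommRing S] [Algebra Λ S] {resS : S →ₐ[Λ] k}
    (F : Art Λ k ⥤ Type v) (R : ℕ → Art Λ k) (q : ∀ n, R (n + 1) ⟶ R n)
    (a : ∀ n, F.obj (R n)) (ha : ∀ n, F.map (q n) (a (n + 1)) = a n)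
    (ρ : ∀ n, HomSet S resS (R n)) (hρ : ∀ n, HomSet.map (q n) (ρ (n + 1)) = ρ n)
    (hsurj : ∀ n, Function.Surjective (ρ n).1)
    (hfac : ∀ (A : Art Λ k) (φ : HomSet S resS A), ∃ (n : ℕ) (f : R n ⟶ A), HomSet.map f (ρ n) = φ) :
    ∃ ξ : Family S resS F, ∀ (n : ℕ) (A : Art Λ k) (f : R n ⟶ A),
      ξ.app A (HomSet.map f (ρ n)) = F.map f (a n) := by
  -- well-definedness
  have hwd : ∀ (A : Art Λ k) (n m : ℕ) (f : R n ⟶ A) (g : R m ⟶ A),
      HomSet.map f (ρ n) = HomSet.map g (ρ m) → F.map f (a n) = F.map g (a m) := by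
    intro A n m f g hfg
    obtain ⟨t, ht1, ht2⟩ := exists_transition F R q a ha ρ hρ (le_max_left n m)
    obtain ⟨t', ht1', ht2'⟩ := exists_transition F R q a ha ρ hρ (le_max_right n m)
    have heq : t ≫ f = t' ≫ g := by
      apply hom_ext_of_homSet_surjective (ρ (max n m)) (hsurj _)
      rw [homSet_map_comp, homSet_map_comp, ht1, ht1', hfg]
    rw [← ht2, ← ht2']
    change (F.map t ≫ F.map f) (a (max n m)) = (F.map t' ≫ F.map g) (a (max n m))
    rw [← F.map_comp, ← F.map_comp, heq]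
  choose N f hf using hfac
  refine ⟨{ app := fun A φ => F.map (f A φ) (a (N A φ)), natural := ?_ }, ?_⟩
  · intro A B g φ
    have h1 : HomSet.map (f B (HomSet.map g φ)) (ρ (N B (HomSet.map g φ))) =
        HomSet.map (f A φ ≫ g) (ρ (N A φ)) := by
      rw [hf, homSet_map_comp, hf]
    rw [hwd B _ _ _ _ h1, F.map_comp]
    rfl
  · intro n A g
    exact hwd A _ _ _ _ (hf A (HomSet.map g (ρ n)))

end Family

section ExistsLimit

variable {Λ : Type u} {k : Type u} [CommRing Λ] [Field k] [Algebra Λ k]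

/-- A map from a coefficient ring to an object kills a power of the maximal ideal. -/
lemma homSet_kills_pow (S : CRing Λ k) {A : Art Λ k} (u : HomSet S.carrier S.res A) :
    ∃ N : ℕ, ∀ a ∈ IsLocalRing.maximalIdeal S.carrier ^ N, u.1 a = 0 := by
  obtain ⟨n, hn⟩ := isNilpotent_maximalIdeal_of_artinian A
  have hmap : Ideal.map u.1 (IsLocalRing.maximalIdeal S.carrier) ≤ IsLocalRing.maximalIdeal A :=
    map_maximalIdeal_le S.res S.res_surjective A.res A.res_surjective u.1 u.2
  refine ⟨n, fun a ha => ?_⟩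
  have h1 : u.1 a ∈ Ideal.map u.1 (IsLocalRing.maximalIdeal S.carrier ^ n) := Ideal.mem_map_of_mem _ ha
  rw [Ideal.map_pow] at h1
  have h2 : u.1 a ∈ IsLocalRing.maximalIdeal A ^ n := Ideal.pow_right_mono hmap _ h1
  rwa [hn, Ideal.zero_eq_bot, Ideal.mem_bot] at h2

variable [IsLocalRing Λ] [IsNoetherianRing Λ] [IsAdicComplete (IsLocalRing.maximalIdeal Λ) Λ]
  (hk : Function.Surjective (algebraMap Λ k))

include hk in
/-- The limit of a tower of surjections of objects inducing isomorphisms on relative cotangent spaces is a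
coefficient ring, and the tower is cofinal among its Artinian quotients. -/
theorem exists_limit (R : ℕ → Art Λ k) (q : ∀ n, R (n + 1) ⟶ R n)
    (hq : ∀ n, Function.Surjective (q n))
    (hcot : ∀ n (x' : R (n + 1)), x' ∈ IsLocalRing.maximalIdeal (R (n + 1)) → q n x' = 0 →
      x' ∈ relSq Λ (R (n + 1))) :
    ∃ (S : CRing Λ k) (ρ : ∀ n, HomSet S.carrier S.res (R n)),
      (∀ n, HomSet.map (q n) (ρ (n + 1)) = ρ n) ∧ (∀ n, Function.Surjective (ρ n).1) ∧
      ∀ (A : Art Λ k) (φ : HomSet S.carrier S.res A), ∃ (n : ℕ) (f : R n ⟶ A), HomSet.map f (ρ n) = φ := by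
  obtain ⟨r, ψ, hψ, hψs⟩ := exists_compatible_presentations hk R q hq hcot
  have hψq : ∀ n g, q n ((ψ (n + 1)).1 g) = (ψ n).1 g := fun n g =>
    AlgHom.congr_fun (congrArg Subtype.val (hψ n)) g
  let P : CRing Λ k := psCRing (Fin r) hk
  let J : ℕ → Ideal P.carrier := fun n => RingHom.ker (ψ n).1
  have hJmem : ∀ n (g : P.carrier), g ∈ J n ↔ (ψ n).1 g = 0 := fun n g => RingHom.mem_ker
  have hanti : Antitone J := by
    apply antitone_nat_of_succ_le
    intro n g hg
    rw [hJmem] at hg ⊢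
    rw [← hψq, hg, hom_map_zero]
  have hJm : ∀ n, J n ≤ IsLocalRing.maximalIdeal P.carrier := by
    intro n g hg
    rw [hJmem] at hg
    rw [CRing.mem_maximalIdeal_iff P]
    have h1 := AlgHom.congr_fun (ψ n).2 g
    rw [AlgHom.comp_apply, hg, map_zero] at h1
    exact h1.symm
  have hopen : ∀ n, ∃ e, CRing.m P ^ e ≤ J n := by
    intro n
    obtain ⟨N, hN⟩ := homSet_kills_pow P (ψ n)
    exact ⟨N, fun g hg => (hJmem n g).2 (hN g hg)⟩
  have hI : (⨅ i, J i) ≤ IsLocalRing.maximalIdeal P.carrier := le_trans (iInf_le J 0) (hJm 0)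
  have hkill : ∀ n, ∀ g ∈ (⨅ i, J i), (ψ n).1 g = 0 := fun n g hg =>
    (hJmem n g).1 ((Ideal.mem_iInf.1 hg) n)
  choose ρ hρ using fun n => quotCRing_lift P (⨅ i, J i) hI (ψ n) (hkill n)
  have hmks := quotCRingMk_surjective P (⨅ i, J i) hI
  refine ⟨quotCRing P (⨅ i, J i) hI, ρ, ?_, ?_, ?_⟩
  · intro n
    apply Subtype.ext
    apply AlgHom.ext
    intro y
    obtain ⟨g, rfl⟩ := hmks y
    change q n ((ρ (n + 1)).1 _) = (ρ n).1 _
    rw [hρ, hρ, hψq]
  · intro n y
    obtain ⟨g, rfl⟩ := hψs n y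
    exact ⟨quotCRingMk P (⨅ i, J i) hI g, hρ n g⟩
  · intro A φ
    obtain ⟨N, hN⟩ := homSet_kills_pow _ φ
    obtain ⟨n, hn⟩ := chevalley P J hanti hopen N
    let φ₀ : HomSet P.carrier P.res A :=
      ⟨φ.1.comp (quotCRingMk P (⨅ i, J i) hI), by
        rw [← AlgHom.comp_assoc, φ.2, quotCRingMk_res]⟩
    have hφ₀ : ∀ g, φ₀.1 g = φ.1 (quotCRingMk P (⨅ i, J i) hI g) := fun g => rfl
    have hker : ∀ g, (ψ n).1 g = 0 → φ₀.1 g = 0 := by
      intro g hg
      have h1 : g ∈ (⨅ i, J i) ⊔ CRing.m P ^ N := hn ((hJmem n g).2 hg)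
      obtain ⟨g₁, hg₁, g₂, hg₂, rfl⟩ := Submodule.mem_sup.1 h1
      rw [hφ₀, map_add, map_add, (quotCRingMk_eq_zero_iff P _ hI g₁).2 hg₁, map_zero, zero_add]
      apply hN
      have : quotCRingMk P (⨅ i, J i) hI g₂ ∈
          Ideal.map (quotCRingMk P (⨅ i, J i) hI) (IsLocalRing.maximalIdeal P.carrier ^ N) :=
        Ideal.mem_map_of_mem _ hg₂
      rw [Ideal.map_pow] at this
      refine Ideal.pow_right_mono ?_ _ this
      exact map_maximalIdeal_le P.res P.res_surjective _ (quotCRing P _ hI).res_surjective _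
        (quotCRingMk_res P _ hI)
    obtain ⟨f, hf⟩ := homSet_factor_of_surjective (ψ n) (hψs n) φ₀ hker
    refine ⟨n, f, ?_⟩
    apply Subtype.ext
    apply AlgHom.ext
    intro y
    obtain ⟨g, rfl⟩ := hmks y
    change f ((ρ n).1 _) = φ.1 _
    rw [hρ, ← hφ₀]
    exact AlgHom.congr_fun (congrArg Subtype.val hf) g

end ExistsLimit

end Groth.Agent.Lib.Helper19
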