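import Groth.Agent.Lib.Helper19Transport
import Groth.Agent.Lib.Helper19SmoothC

set_option autoImplicit false
universe u v w

open CategoryTheory ArtFun ArtFun.Art

namespace Groth.Agent.Lib.Helper19

section Versal

variable {Λ : Type u} {k : Type u} [CommRing Λ] [Field k] [Algebra Λ k] [IsNoetherianRing Λ]
  [Module.Finite Λ k]

/-- Existence of versal families over a general Noetherian base with finite residue extension. -/
theorem hasVersal_of_s1_heps_hfin (F : Art Λ k ⥤ Type v) [T : TangentStr F]
    (h0 : H0 F) (h1 : S1 F) (h2 : Heps F) (h3 : Hfin F) : HasVersal F := by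
  obtain ⟨C, hC⟩ := exists_cring_isSmoothFunctor_hR (Λ := Λ) (k := k)
  letI : Algebra C.carrier k := C.res.toRingHom.toAlgebra
  haveI : IsScalarTower Λ C.carrier k :=
    IsScalarTower.of_algebraMap_eq (fun l => (C.res.commutes l).symm)
  have hk' : Function.Surjective (algebraMap C.carrier k) := C.res_surjective
  haveI : Module.Finite C.carrier k := Module.Finite.of_surjective (Algebra.linearMap _ _) hk'
  haveI := C.isAdicComplete
  haveI := C.isLocalRing
  haveI := C.isNoetherianRing
  letI : TangentStr (restrictFunctor (Λ' := C.carrier) Λ ⋙ F) := tangentStrRestrict F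
  obtain ⟨⟨S', ξ', hv, _⟩⟩ := hasHull_of_s1_heps_hfin hk' (h0_restrict F h0) (s1_restrict F h1)
    (heps_restrict F h0 h2) (hfin_restrict F h3)
  exact ⟨⟨restrictCRing S', transportFamily ξ', isVersal_transportFamily ξ' C.res (fun _ => rfl) hC hv⟩⟩

end Versal

end Groth.Agent.Lib.Helper19
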