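import Groth.Agent.Lib.Helper19Amalg
import Groth.Agent.Lib.Helper19Limit
import Groth.Agent.Lib.Helper19Step
import Groth.Agent.Lib.Helper19Versal

set_option autoImplicit false
universe u v w

open CategoryTheory ArtFun ArtFun.Art

namespace Groth.Agent.Lib.Helper19

section LimitConcl

variable {Λ : Type u} {k : Type u} [CommRing Λ] [Field k] [Algebra Λ k]

/-- The conclusion: the tower has a limit among coefficient rings. -/
def LimitConcl (A : ℕ → Art Λ k) (f : ∀ n, A (n + 1) ⟶ A n) : Prop :=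
  ∃ (S : CRing Λ k) (π : ∀ n, HomSet S.carrier S.res (A n)),
    (∀ n, HomSet.map (f n) (π (n + 1)) = π n) ∧
    (∀ n, Function.Surjective (π n).1) ∧
    (∀ a : ∀ n, A n, (∀ n, f n (a (n + 1)) = a n) → ∃! s : S.carrier, ∀ n, (π n).1 s = a n) ∧
    (∀ n, ∃ N, RingHom.ker (π N).1 ≤ IsLocalRing.maximalIdeal S.carrier ^ n) ∧
    (∀ n, ∃ N, IsLocalRing.maximalIdeal S.carrier ^ N ≤ RingHom.ker (π n).1)

/-- A coefficient ring with compatible surjections onto the tower through which all maps to objects factor is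
the limit of the tower. -/
theorem limitConcl_of_factor (A : ℕ → Art Λ k) (f : ∀ n, A (n + 1) ⟶ A n)
    (S : CRing Λ k) (ρ : ∀ n, HomSet S.carrier S.res (A n))
    (hc : ∀ n, HomSet.map (f n) (ρ (n + 1)) = ρ n) (hs : ∀ n, Function.Surjective (ρ n).1)
    (hfac : ∀ (B : Art Λ k) (φ : HomSet S.carrier S.res B), ∃ (n : ℕ) (g : A n ⟶ B),
      HomSet.map g (ρ n) = φ) : LimitConcl A f := by
  haveI := S.isAdicComplete
  have hcx : ∀ n s, f n ((ρ (n + 1)).1 s) = (ρ n).1 s := fun n s =>
    AlgHom.congr_fun (congrArg Subtype.val (hc n)) s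
  -- kernels decrease
  have hKanti : ∀ n m, n ≤ m → ∀ s, (ρ m).1 s = 0 → (ρ n).1 s = 0 := by
    intro n m hnm
    induction m, hnm using Nat.le_induction with
    | base => exact fun s h => h
    | succ m _ ih =>
      intro s h
      apply ih
      rw [← hcx, h, hom_map_zero]
  have hP4 : ∀ n, ∃ N, RingHom.ker (ρ N).1 ≤ IsLocalRing.maximalIdeal S.carrier ^ n := by
    intro n
    cases n with
    | zero => exact ⟨0, by rw [pow_zero, Ideal.one_eq_top]; exact le_top⟩
    | succ n =>
      obtain ⟨N, g, hg⟩ := hfac (S.trunc n) (S.truncHom n)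
      refine ⟨N, fun s hs' => ?_⟩
      rw [RingHom.mem_ker] at hs'
      rw [← truncHom_eq_zero_iff]
      have h1 : g ((ρ N).1 s) = (S.truncHom n).1 s := AlgHom.congr_fun (congrArg Subtype.val hg) s
      rw [← h1, hs', hom_map_zero]
  have hP5 : ∀ n, ∃ N, IsLocalRing.maximalIdeal S.carrier ^ N ≤ RingHom.ker (ρ n).1 := by
    intro n
    obtain ⟨N, hN⟩ := homSet_kills_pow S (ρ n)
    exact ⟨N, fun s hs' => RingHom.mem_ker.2 (hN s hs')⟩
  refine ⟨S, ρ, hc, hs, ?_, hP4, hP5⟩
  intro a ha
  -- approximations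
  choose s hsa using fun n => hs n (a n)
  have hstep : ∀ n m, n ≤ m → (ρ n).1 (s m - s n) = 0 := by
    intro n m hnm
    induction m, hnm using Nat.le_induction with
    | base => rw [sub_self, map_zero]
    | succ m hm ih =>
      have h1 : (ρ m).1 (s (m + 1) - s m) = 0 := by
        rw [map_sub, ← hcx, hsa, hsa, ha, sub_self]
      have h2 : (ρ n).1 (s (m + 1) - s m) = 0 := hKanti n m hm _ h1
      have h3 : s (m + 1) - s n = (s (m + 1) - s m) + (s m - s n) := by ring
      rw [h3, map_add, h2, ih, add_zero]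
  choose N hN using hP4
  -- a monotone cofinal subsequence
  let N' : ℕ → ℕ := fun j => Nat.rec (max 0 (N 0)) (fun j' r => max (max r (N (j' + 1))) (j' + 1)) j
  have hN'succ : ∀ j, N' (j + 1) = max (max (N' j) (N (j + 1))) (j + 1) := fun j => rfl
  have hN'mono : ∀ i j, i ≤ j → N' i ≤ N' j := by
    intro i j hij
    induction j, hij using Nat.le_induction with
    | base => exact le_refl _
    | succ j _ ih =>
      rw [hN'succ]
      exact le_trans ih (le_trans (le_max_left _ _) (le_max_left _ _))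
  have hN'N : ∀ j, N j ≤ N' j := by
    intro j
    cases j with
    | zero => exact le_max_right _ _
    | succ j => rw [hN'succ]; exact le_trans (le_max_right _ _) (le_max_left _ _)
  have hN'j : ∀ j, j ≤ N' j := by
    intro j
    cases j with
    | zero => exact Nat.zero_le _
    | succ j => rw [hN'succ]; exact le_max_right _ _
  have hcauchy : ∀ {i j}, i ≤ j → s (N' i) ≡ s (N' j)
      [SMOD (IsLocalRing.maximalIdeal S.carrier ^ i • ⊤ : Submodule S.carrier S.carrier)] := by
    intro i j hij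
    rw [SModEq.comm, SModEq.sub_mem, smul_eq_mul, Ideal.mul_top]
    apply hN i
    rw [RingHom.mem_ker]
    exact hKanti (N i) (N' i) (hN'N i) _ (hstep (N' i) (N' j) (hN'mono i j hij))
  obtain ⟨L, hL⟩ := IsPrecomplete.prec inferInstance hcauchy
  have hL' : ∀ j, L - s (N' j) ∈ IsLocalRing.maximalIdeal S.carrier ^ j := by
    intro j
    have := hL j
    rw [SModEq.comm, SModEq.sub_mem, smul_eq_mul, Ideal.mul_top] at this
    exact this
  have hLa : ∀ n, (ρ n).1 L = a n := by
    intro n
    obtain ⟨M, hM⟩ := hP5 n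
    obtain ⟨j, hj⟩ : ∃ j, j = max M n := ⟨_, rfl⟩
    have h1 : (ρ n).1 (L - s (N' j)) = 0 := by
      have : L - s (N' j) ∈ IsLocalRing.maximalIdeal S.carrier ^ M :=
        Ideal.pow_le_pow_right (hj ▸ le_max_left M n) (hL' j)
      exact RingHom.mem_ker.1 (hM this)
    have h2 : (ρ n).1 (s (N' j) - s n) = 0 :=
      hstep n (N' j) (le_trans (hj ▸ le_max_right M n) (hN'j j))
    have h3 : L = (L - s (N' j)) + (s (N' j) - s n) + s n := by ring
    rw [h3, map_add, map_add, h1, h2, zero_add, zero_add, hsa]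
  refine ⟨L, hLa, ?_⟩
  intro L' hL'a
  apply eq_of_truncHom S
  intro n
  obtain ⟨M, g, hg⟩ := hfac (S.trunc n) (S.truncHom n)
  have h1 : ∀ t, g ((ρ M).1 t) = (S.truncHom n).1 t := fun t =>
    AlgHom.congr_fun (congrArg Subtype.val hg) t
  rw [← h1, ← h1, hL'a, hLa]

/-- Un-shifting a tower by one step. -/
theorem limitConcl_unshift (A : ℕ → Art Λ k) (f : ∀ n, A (n + 1) ⟶ A n)
    (hf0 : Function.Surjective (f 0))
    (h : LimitConcl (fun n => A (n + 1)) (fun n => f (n + 1))) : LimitConcl A f := by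
  obtain ⟨S, π', hc, hs, h3, h4, h5⟩ := h
  let π : ∀ n, HomSet S.carrier S.res (A n) := fun n =>
    Nat.casesOn (motive := fun n => HomSet S.carrier S.res (A n)) n (HomSet.map (f 0) (π' 0)) (fun n => π' n)
  have hπ0 : π 0 = HomSet.map (f 0) (π' 0) := rfl
  have hπs : ∀ n, π (n + 1) = π' n := fun n => rfl
  refine ⟨S, π, ?_, ?_, ?_, ?_, ?_⟩
  · intro n
    cases n with
    | zero => rw [hπ0, hπs]
    | succ n => rw [hπs, hπs]; exact hc n
  · intro n
    cases n with
    | zero =>
      rw [hπ0]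
      intro y
      obtain ⟨y', rfl⟩ := hf0 y
      obtain ⟨s, rfl⟩ := hs 0 y'
      exact ⟨s, rfl⟩
    | succ n => rw [hπs]; exact hs n
  · intro a ha
    obtain ⟨s, hs1, hs2⟩ := h3 (fun n => a (n + 1)) (fun n => ha (n + 1))
    refine ⟨s, ?_, ?_⟩
    · intro n
      cases n with
      | zero =>
        rw [hπ0]
        change f 0 ((π' 0).1 s) = a 0
        rw [hs1 0]
        exact ha 0
      | succ n => rw [hπs]; exact hs1 n
    · intro s' hs'
      apply hs2
      intro n
      have := hs' (n + 1)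
      rw [hπs] at this
      exact this
  · intro n
    obtain ⟨N, hN⟩ := h4 n
    refine ⟨N + 1, ?_⟩
    rw [hπs]
    exact hN
  · intro n
    obtain ⟨N, hN⟩ := homSet_kills_pow S (π n)
    exact ⟨N, fun s hs' => RingHom.mem_ker.2 (hN s hs')⟩

/-- Towers of objects. -/
def Tower (Λ k : Type u) [CommRing Λ] [Field k] [Algebra Λ k] : Type (u + 1) :=
  Σ A : ℕ → Art Λ k, ∀ n, A (n + 1) ⟶ A n

/-- Shift a tower by one. -/
def Tower.shift1 (T : Tower Λ k) : Tower Λ k := ⟨fun n => T.1 (n + 1), fun n => T.2 (n + 1)⟩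

/-- Shift a tower. -/
def Tower.shift : ℕ → Tower Λ k → Tower Λ k
  | 0, T => T
  | m + 1, T => Tower.shift m T.shift1

theorem limitConcl_of_shift (m : ℕ) : ∀ T : Tower Λ k, (∀ n, Function.Surjective (T.2 n)) →
    LimitConcl (Tower.shift m T).1 (Tower.shift m T).2 → LimitConcl T.1 T.2 := by
  induction m with
  | zero => exact fun T _ h => h
  | succ m ih =>
    intro T hT h
    have h1 : LimitConcl T.shift1.1 T.shift1.2 := ih T.shift1 (fun n => hT (n + 1)) h
    exact limitConcl_unshift T.1 T.2 (hT 0) h1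

theorem tower_shift_surjective (m : ℕ) : ∀ T : Tower Λ k, (∀ n, Function.Surjective (T.2 n)) →
    ∀ n, Function.Surjective ((Tower.shift m T).2 n) := by
  induction m with
  | zero => exact fun T h => h
  | succ m ih => exact fun T h => ih T.shift1 (fun n => h (n + 1))

/-- A property of the steps of a tower which holds from some point on holds for all steps of a shift. -/
theorem exists_shift_of_eventually (P : ∀ (B' B : Art Λ k), (B' ⟶ B) → Prop) (n₀ : ℕ) :
    ∀ T : Tower Λ k, (∀ n, n₀ ≤ n → P _ _ (T.2 n)) → ∃ m, ∀ n, P _ _ ((Tower.shift m T).2 n) := by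
  induction n₀ with
  | zero => exact fun T h => ⟨0, fun n => h n (Nat.zero_le n)⟩
  | succ n₀ ih =>
    intro T h
    obtain ⟨m, hm⟩ := ih T.shift1 (fun n hn => h (n + 1) (Nat.succ_le_succ hn))
    exact ⟨m + 1, hm⟩

end LimitConcl

section Stabilize

variable {Λ : Type u} {k : Type u} [CommRing Λ] [Field k] [Algebra Λ k]
variable [IsLocalRing Λ] [IsNoetherianRing Λ] [IsAdicComplete (IsLocalRing.maximalIdeal Λ) Λ]
  (hk : Function.Surjective (algebraMap Λ k))

/-- `m_A` is generated modulo `m_A² + m_Λ A` by a family of size `r`. -/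
def RelGen (A : Art Λ k) (r : ℕ) : Prop :=
  ∃ x : Fin r → A, (∀ i, x i ∈ IsLocalRing.maximalIdeal A) ∧
    Ideal.span (Set.range x) ⊔ relSq Λ A = IsLocalRing.maximalIdeal A

include hk in
/-- A generating family with a nontrivial relation modulo `m_A² + m_Λ A` can be shortened. -/
lemma relGen_of_dependent (A : Art Λ k) {r' : ℕ} (x : Fin (r' + 1) → A)
    (hxm : ∀ i, x i ∈ IsLocalRing.maximalIdeal A)
    (hxs : Ideal.span (Set.range x) ⊔ relSq Λ A = IsLocalRing.maximalIdeal A)
    (c : Fin (r' + 1) → Λ) (hc : (∑ i, c i • x i) ∈ relSq Λ A) (j : Fin (r' + 1))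
    (hcj : c j ∉ IsLocalRing.maximalIdeal Λ) : RelGen A r' := by
  refine ⟨fun i => x (j.succAbove i), fun i => hxm _, ?_⟩
  have hu : IsUnit (c j) := by
    by_contra hnu
    exact hcj ((IsLocalRing.mem_maximalIdeal _).2 hnu)
  obtain ⟨d, hd⟩ := hu.exists_left_inv
  set I' : Ideal A := Ideal.span (Set.range fun i => x (j.succAbove i)) ⊔ relSq Λ A with hI'
  have hsub : ∀ i, x (j.succAbove i) ∈ I' := fun i =>
    Submodule.mem_sup_left (Ideal.subset_span ⟨i, rfl⟩)
  have hxj : x j ∈ I' := by
    rw [Fin.sum_univ_succAbove _ j] at hc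
    have h1 : c j • x j ∈ I' := by
      have h2 : c j • x j = (c j • x j + ∑ i, c (j.succAbove i) • x (j.succAbove i)) -
          ∑ i, c (j.succAbove i) • x (j.succAbove i) := by ring
      rw [h2]
      apply Ideal.sub_mem _ (Submodule.mem_sup_right hc)
      apply Ideal.sum_mem
      intro i _
      rw [Algebra.smul_def]
      exact Ideal.mul_mem_left _ _ (hsub i)
    have h3 : x j = d • (c j • x j) := by
      rw [smul_smul, hd, one_smul]
    rw [h3, Algebra.smul_def]
    exact Ideal.mul_mem_left _ _ h1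
  apply le_antisymm
  · exact sup_le (Ideal.span_le.2 (by rintro _ ⟨i, rfl⟩; exact hxm _)) (relSq_le_maximalIdeal hk A)
  · rw [← hxs]
    apply sup_le _ le_sup_right
    rw [Ideal.span_le]
    rintro _ ⟨i, rfl⟩
    rcases Fin.eq_self_or_eq_succAbove j i with h | ⟨i', h⟩
    · rw [h]; exact hxj
    · rw [h]; exact hsub i'

include hk in
lemma exists_relGen (A : Art Λ k) : ∃ r, RelGen A r := by
  obtain ⟨r, x, h1, h2, -⟩ := exists_min_gens hk A
  exact ⟨r, x, h1, h2⟩

/-- The minimal number of generators of `m_A` modulo `m_A² + m_Λ A`. -/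
noncomputable def relGens (A : Art Λ k) : ℕ := sInf {r | RelGen A r}

include hk in
lemma relGen_relGens (A : Art Λ k) : RelGen A (relGens A) :=
  Nat.sInf_mem (exists_relGen hk A)

lemma relGens_le {A : Art Λ k} {r : ℕ} (h : RelGen A r) : relGens A ≤ r := Nat.sInf_le h

include hk in
/-- A generating family of minimal size is independent modulo `m_A² + m_Λ A`. -/
lemma independent_of_relGens (A : Art Λ k) (x : Fin (relGens A) → A)
    (hxm : ∀ i, x i ∈ IsLocalRing.maximalIdeal A)
    (hxs : Ideal.span (Set.range x) ⊔ relSq Λ A = IsLocalRing.maximalIdeal A)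
    (c : Fin (relGens A) → Λ) (hc : (∑ i, c i • x i) ∈ relSq Λ A) (j : Fin (relGens A)) :
    c j ∈ IsLocalRing.maximalIdeal Λ := by
  by_contra hcj
  obtain ⟨r, hr⟩ : ∃ r, r = relGens A := ⟨_, rfl⟩
  revert x c j
  rw [← hr]
  intro x hxm hxs c hc j hcj
  cases r with
  | zero => exact j.elim0
  | succ r' =>
    have h1 := relGens_le (relGen_of_dependent hk A x hxm hxs c hc j hcj)
    omega

include hk in
lemma relGen_of_surjective {B' B : Art Λ k} (q : B' ⟶ B) (hq : Function.Surjective q) {r : ℕ}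
    (h : RelGen B' r) : RelGen B r := by
  obtain ⟨x, hxm, hxs⟩ := h
  refine ⟨fun i => q (x i), fun i => hom_mem_maximalIdeal q (hxm i), ?_⟩
  apply le_antisymm
  · exact sup_le (Ideal.span_le.2 (by rintro _ ⟨i, rfl⟩; exact hom_mem_maximalIdeal q (hxm i)))
      (relSq_le_maximalIdeal hk B)
  · intro y hy
    obtain ⟨y', rfl⟩ := hq y
    have hy' : y' ∈ IsLocalRing.maximalIdeal B' := by
      rw [Art.mem_maximalIdeal_iff] at hy ⊢
      rw [← Art.res_app q y', hy]
    rw [← hxs] at hy'
    have h1 : q y' ∈ (Ideal.span (Set.range x) ⊔ relSq Λ B').map q.toAlgHom := Ideal.mem_map_of_mem _ hy'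
    rw [Ideal.map_sup, Ideal.map_span] at h1
    refine sup_le_sup ?_ (hom_map_relSq_le q) h1
    apply Ideal.span_mono
    rintro _ ⟨_, ⟨i, rfl⟩, rfl⟩
    exact ⟨i, rfl⟩

include hk in
lemma relGens_le_of_surjective {B' B : Art Λ k} (q : B' ⟶ B) (hq : Function.Surjective q) :
    relGens B ≤ relGens B' :=
  relGens_le (relGen_of_surjective hk q hq (relGen_relGens hk B'))

include hk in
/-- A surjection of objects with the same relative number of generators induces an isomorphism on relative
cotangent spaces. -/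
theorem stable_of_relGens_eq {B' B : Art Λ k} (q : B' ⟶ B) (hq : Function.Surjective q)
    (heq : relGens B' = relGens B) (y' : B') (hy' : y' ∈ IsLocalRing.maximalIdeal B') (hqy : q y' = 0) :
    y' ∈ relSq Λ B' := by
  obtain ⟨x', hxm', hxs'⟩ := relGen_relGens hk B'
  have hmk : ∀ c : Λ, c ∈ IsLocalRing.maximalIdeal Λ → algebraMap Λ B' c ∈ relSq Λ B' := fun c hc =>
    Submodule.mem_sup_right (Ideal.mem_map_of_mem _ hc)
  -- the images generate and are independent
  obtain ⟨x, hx⟩ : ∃ x : Fin (relGens B) → B, x = fun i => q (x' (Fin.cast heq.symm i)) := ⟨_, rfl⟩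
  have hxm : ∀ i, x i ∈ IsLocalRing.maximalIdeal B := fun i => by
    rw [hx]; exact hom_mem_maximalIdeal q (hxm' _)
  have hxs : Ideal.span (Set.range x) ⊔ relSq Λ B = IsLocalRing.maximalIdeal B := by
    obtain ⟨x₂, hx₂m, hx₂s⟩ := relGen_of_surjective hk q hq ⟨x', hxm', hxs'⟩
    apply le_antisymm
    · exact sup_le (Ideal.span_le.2 (by rintro _ ⟨i, rfl⟩; exact hxm i)) (relSq_le_maximalIdeal hk B)
    · -- same range
      have hrange : Set.range x = Set.range (fun i => q (x' i)) := by
        rw [hx]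
        ext z
        constructor
        · rintro ⟨i, rfl⟩; exact ⟨_, rfl⟩
        · rintro ⟨i, rfl⟩; exact ⟨Fin.cast heq i, by simp⟩
      rw [hrange]
      -- reuse the computation of `relGen_of_surjective`
      intro y hy
      obtain ⟨y₀, rfl⟩ := hq y
      have hy₀ : y₀ ∈ IsLocalRing.maximalIdeal B' := by
        rw [Art.mem_maximalIdeal_iff] at hy ⊢
        rw [← Art.res_app q y₀, hy]
      rw [← hxs'] at hy₀
      have h1 : q y₀ ∈ (Ideal.span (Set.range x') ⊔ relSq Λ B').map q.toAlgHom :=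
        Ideal.mem_map_of_mem _ hy₀
      rw [Ideal.map_sup, Ideal.map_span] at h1
      refine sup_le_sup ?_ (hom_map_relSq_le q) h1
      apply Ideal.span_mono
      rintro _ ⟨_, ⟨i, rfl⟩, rfl⟩
      exact ⟨i, rfl⟩
  have hind := independent_of_relGens hk B x hxm hxs
  -- decompose `y'`
  rw [← hxs'] at hy'
  obtain ⟨z, hz, w, hw, rfl⟩ := Submodule.mem_sup.1 hy'
  obtain ⟨b, rfl⟩ := (Ideal.mem_span_range_iff_exists_fun).1 hz
  choose c hc using fun i => hk (B'.res (b i))
  have hbi : ∀ i, b i - algebraMap Λ B' (c i) ∈ IsLocalRing.maximalIdeal B' := by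
    intro i
    rw [Art.mem_maximalIdeal_iff, map_sub, AlgHom.commutes, hc, sub_self]
  have hdiff : (∑ i, b i * x' i) - ∑ i, c i • x' i ∈ relSq Λ B' := by
    rw [← Finset.sum_sub_distrib]
    apply Ideal.sum_mem
    intro i _
    have : b i * x' i - c i • x' i = (b i - algebraMap Λ B' (c i)) * x' i := by
      rw [Algebra.smul_def]; ring
    rw [this]
    apply Submodule.mem_sup_left
    rw [pow_two]
    exact Ideal.mul_mem_mul (hbi i) (hxm' i)
  -- apply `q`
  have hq0 : q (∑ i, c i • x' i) ∈ relSq Λ B := by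
    have h1 : q (∑ i, c i • x' i) = -(q ((∑ i, b i * x' i) - ∑ i, c i • x' i) + q w) := by
      rw [← hom_map_add]
      have : (∑ i, b i * x' i) - ∑ i, c i • x' i + w = (∑ i, b i * x' i + w) - ∑ i, c i • x' i := by ring
      rw [this, hom_map_sub, hqy, zero_sub, neg_neg]
    rw [h1]
    apply (Ideal.neg_mem_iff _).2
    exact Ideal.add_mem _ (hom_map_relSq_le q (Ideal.mem_map_of_mem _ hdiff))
      (hom_map_relSq_le q (Ideal.mem_map_of_mem _ hw))
  have hsum : q (∑ i, c i • x' i) = ∑ i : Fin (relGens B), c (Fin.cast heq.symm i) • x i := by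
    rw [hx]
    change q.toAlgHom (∑ i, c i • x' i) = _
    rw [map_sum]
    simp only [map_smul]
    exact (Fintype.sum_equiv (finCongr heq.symm) _ _ (fun i => rfl)).symm
  rw [hsum] at hq0
  have hcm : ∀ i, c i ∈ IsLocalRing.maximalIdeal Λ := by
    intro i
    have := hind (fun i => c (Fin.cast heq.symm i)) hq0 (Fin.cast heq i)
    simpa using this
  have hcx : ∑ i, c i • x' i ∈ relSq Λ B' := by
    apply Ideal.sum_mem
    intro i _
    rw [Algebra.smul_def]
    exact Ideal.mul_mem_right _ _ (hmk _ (hcm i))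
  have : (∑ i, b i * x' i) + w = ((∑ i, b i * x' i) - ∑ i, c i • x' i) + (∑ i, c i • x' i) + w := by ring
  rw [this]
  exact Ideal.add_mem _ (Ideal.add_mem _ hdiff hcx) hw

include hk in
/-- A tower of surjections whose relative numbers of generators are bounded is eventually stable. -/
theorem exists_stable_of_bounded (A : ℕ → Art Λ k) (f : ∀ n, A (n + 1) ⟶ A n)
    (hf : ∀ n, Function.Surjective (f n)) (d : ℕ) (hd : ∀ n, relGens (A n) ≤ d) :
    ∃ n₀, ∀ n, n₀ ≤ n → ∀ y' : A (n + 1), y' ∈ IsLocalRing.maximalIdeal (A (n + 1)) → f n y' = 0 →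
      y' ∈ relSq Λ (A (n + 1)) := by
  have hmono : Monotone fun n => relGens (A n) :=
    monotone_nat_of_le_succ fun n => relGens_le_of_surjective hk (f n) (hf n)
  -- the maximum is attained
  have hex : ∃ M, ∃ n, relGens (A n) = M ∧ ∀ m, relGens (A m) ≤ M := by
    classical
    by_contra hne
    push Not at hne
    have : ∀ j, ∃ n, j ≤ relGens (A n) := by
      intro j
      induction j with
      | zero => exact ⟨0, Nat.zero_le _⟩
      | succ j ih =>
        obtain ⟨n, hn⟩ := ih
        obtain ⟨m, hm⟩ := hne (relGens (A n)) n rfl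
        exact ⟨m, by omega⟩
    obtain ⟨n, hn⟩ := this (d + 1)
    have := hd n
    omega
  obtain ⟨M, n₀, hn₀, hM⟩ := hex
  refine ⟨n₀, fun n hn y' hy' hfy => ?_⟩
  have h1 : relGens (A n) = M := le_antisymm (hM n) (hn₀ ▸ hmono hn)
  have h2 : relGens (A (n + 1)) = M := le_antisymm (hM _) (hn₀ ▸ hmono (le_trans hn (Nat.le_succ n)))
  exact stable_of_relGens_eq hk (f n) (hf n) (h2.trans h1.symm) y' hy' hfy

end Stabilize

section CompleteBase

variable {Λ : Type u} {k : Type u} [CommRing Λ] [Field k] [Algebra Λ k]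
variable [IsLocalRing Λ] [IsNoetherianRing Λ] [IsAdicComplete (IsLocalRing.maximalIdeal Λ) Λ]
  (hk : Function.Surjective (algebraMap Λ k))

include hk in
/-- Limits of towers of surjections with bounded numbers of generators, over a complete local base. -/
theorem limitConcl_of_bounded (A : ℕ → Art Λ k) (f : ∀ n, A (n + 1) ⟶ A n)
    (hf : ∀ n, Function.Surjective (f n)) (d : ℕ) (hd : ∀ n, relGens (A n) ≤ d) :
    LimitConcl A f := by
  obtain ⟨n₀, hn₀⟩ := exists_stable_of_bounded hk A f hf d hd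
  let T : Tower Λ k := ⟨A, f⟩
  obtain ⟨m, hm⟩ := exists_shift_of_eventually
    (fun B' B q => ∀ y' : B', y' ∈ IsLocalRing.maximalIdeal B' → q y' = 0 → y' ∈ relSq Λ B') n₀ T hn₀
  apply limitConcl_of_shift m T hf
  obtain ⟨S, ρ, hc, hs, hfac⟩ := exists_limit hk (Tower.shift m T).1 (Tower.shift m T).2
    (tower_shift_surjective m T hf) hm
  exact limitConcl_of_factor _ _ S ρ hc hs hfac

end CompleteBase

section SmoothBase

variable {Λ Λ' k : Type u} [CommRing Λ] [CommRing Λ'] [Field k] [Algebra Λ Λ'] [Algebra Λ' k] [Algebra Λ k]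
  [IsScalarTower Λ Λ' k]
variable [IsLocalRing Λ'] [IsNoetherianRing Λ'] [IsAdicComplete (IsLocalRing.maximalIdeal Λ') Λ']
  (hk' : Function.Surjective (algebraMap Λ' k))
variable (resΛ' : Λ' →ₐ[Λ] k) (hresΛ' : ∀ r, resΛ' r = algebraMap Λ' k r)

include hk' hresΛ' in
/-- Limits of towers over a base `Λ` admitting a smooth complete local `Λ`-algebra `Λ'` with residue field `k`. -/
theorem limitConcl_of_smooth_base (hsm : IsSmoothFunctor (hR Λ' resΛ'))
    (A : ℕ → Art Λ k) (f : ∀ n, A (n + 1) ⟶ A n)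
    (hf : ∀ n, Function.Surjective (f n)) (d : ℕ)
    (hgen : ∀ n, ∃ (r : ℕ) (x : Fin r → A n), r ≤ d ∧
      Ideal.span (Set.range x) = IsLocalRing.maximalIdeal (A n)) :
    LimitConcl A f := by
  -- compatible `Λ'`-structures
  obtain ⟨y₀, -⟩ := hsm (toBase (A 0)) (toBase_surjective _) (homSetBase Λ' resΛ')
  have hstep : ∀ n (yn : HomSet Λ' resΛ' (A n)), ∃ y' : HomSet Λ' resΛ' (A (n + 1)),
      HomSet.map (f n) y' = yn := fun n yn => hsm (f n) (hf n) yn
  let y : ∀ n, HomSet Λ' resΛ' (A n) := fun n =>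
    Nat.rec (motive := fun n => HomSet Λ' resΛ' (A n)) y₀
      (fun n yn => Classical.choose (hstep n yn)) n
  have hy : ∀ n, HomSet.map (f n) (y (n + 1)) = y n := fun n =>
    Classical.choose_spec (hstep n (y n))
  have hyx : ∀ n r, f n ((y (n + 1)).1 r) = (y n).1 r := fun n r =>
    AlgHom.congr_fun (congrArg Subtype.val (hy n)) r
  have hyres : ∀ n r, (A n).res ((y n).1 r) = algebraMap Λ' k r := by
    intro n r
    have := AlgHom.congr_fun (y n).2 r
    rw [AlgHom.comp_apply] at this
    rw [this, hresΛ']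
  let B : ℕ → Art Λ' k := fun n => overArt (A n) (y n).1 (hyres n)
  let q : ∀ n, B (n + 1) ⟶ B n := fun n =>
    ⟨{ (f n).toAlgHom.toRingHom with commutes' := fun r => hyx n r }, by
      apply AlgHom.ext
      intro b
      exact Art.res_app (f n) b⟩
  have hq : ∀ n, Function.Surjective (q n) := fun n => hf n
  have hBd : ∀ n, relGens (B n) ≤ d := by
    intro n
    obtain ⟨r, x, hr, hx⟩ := hgen n
    refine le_trans (relGens_le ?_) hr
    refine ⟨fun i => (show (B n).carrier from x i), fun i => ?_, ?_⟩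
    · have : x i ∈ IsLocalRing.maximalIdeal (A n) := hx ▸ Ideal.subset_span ⟨i, rfl⟩
      exact this
    · have h1 : Ideal.span (Set.range fun i => (show (B n).carrier from x i)) =
          IsLocalRing.maximalIdeal (B n) := hx
      rw [h1]
      exact sup_eq_left.2 (relSq_le_maximalIdeal hk' (B n))
  obtain ⟨S', π', hc', hs', h3', h4', h5'⟩ := limitConcl_of_bounded hk' B q hq d hBd
  have hπ'c : ∀ n r, (π' n).1 (algebraMap Λ' S'.carrier r) = (y n).1 r := fun n r => (π' n).1.commutes r
  let π : ∀ n, HomSet (restrictCRing (Λ := Λ) S').carrier (restrictCRing (Λ := Λ) S').res (A n) := fun n =>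
    ⟨{ toFun := fun s => (π' n).1 (show S'.carrier from s)
       map_one' := map_one (π' n).1
       map_mul' := map_mul (π' n).1
       map_zero' := map_zero (π' n).1
       map_add' := map_add (π' n).1
       commutes' := fun l => by
        change (π' n).1 (algebraMap Λ' S'.carrier (algebraMap Λ Λ' l)) = algebraMap Λ (A n).carrier l
        rw [hπ'c, (y n).1.commutes] }, by
      apply AlgHom.ext
      intro s
      exact AlgHom.congr_fun (π' n).2 (show S'.carrier from s)⟩
  refine ⟨restrictCRing S', π, ?_, ?_, ?_, ?_, ?_⟩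
  · intro n
    apply Subtype.ext
    apply AlgHom.ext
    intro s
    exact AlgHom.congr_fun (congrArg Subtype.val (hc' n)) (show S'.carrier from s)
  · intro n z
    obtain ⟨s, hs⟩ := hs' n (show (B n).carrier from z)
    exact ⟨s, hs⟩
  · intro a ha
    obtain ⟨s, hs1, hs2⟩ := h3' (fun n => (show (B n).carrier from a n)) ha
    exact ⟨s, hs1, fun s' h => hs2 s' h⟩
  · intro n
    obtain ⟨N, hN⟩ := h4' n
    exact ⟨N, fun s hs => hN hs⟩
  · intro n
    obtain ⟨N, hN⟩ := h5' n
    exact ⟨N, fun s hs => hN hs⟩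

end SmoothBase

section General

variable {Λ : Type u} {k : Type u} [CommRing Λ] [Field k] [Algebra Λ k] [IsNoetherianRing Λ]
  [Module.Finite Λ k]

/-- Limits of towers of surjections of objects with bounded embedding dimension, over a general Noetherian base. -/
theorem limitConcl_general (A : ℕ → Art Λ k) (f : ∀ n, A (n + 1) ⟶ A n)
    (hf : ∀ n, Function.Surjective (f n)) (d : ℕ)
    (hd : ∀ n, Module.finrank (IsLocalRing.ResidueField (A n)) (IsLocalRing.CotangentSpace (A n)) ≤ d) :
    LimitConcl A f := by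
  obtain ⟨C, hC⟩ := exists_cring_isSmoothFunctor_hR (Λ := Λ) (k := k)
  letI : Algebra C.carrier k := C.res.toRingHom.toAlgebra
  haveI : IsScalarTower Λ C.carrier k :=
    IsScalarTower.of_algebraMap_eq (fun l => (C.res.commutes l).symm)
  have hk' : Function.Surjective (algebraMap C.carrier k) := C.res_surjective
  haveI := C.isAdicComplete
  haveI := C.isLocalRing
  haveI := C.isNoetherianRing
  apply limitConcl_of_smooth_base hk' C.res (fun _ => rfl) hC A f hf d
  intro n
  haveI : IsNoetherianRing (A n) := inferInstance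
  obtain ⟨s, hs1, hs2⟩ := Submodule.FG.exists_span_finset_card_eq_spanFinrank
    (IsNoetherian.noetherian (IsLocalRing.maximalIdeal (A n)))
  refine ⟨s.card, fun i => (s.equivFin.symm i : A n), ?_, ?_⟩
  · rw [hs1, IsLocalRing.spanFinrank_maximalIdeal_eq_finrank_cotangentSpace]
    exact hd n
  · rw [← hs2]
    congr 1
    ext z
    constructor
    · rintro ⟨i, rfl⟩
      exact (s.equivFin.symm i).2
    · intro hz
      exact ⟨s.equivFin ⟨z, hz⟩, by simp⟩

end General

end Groth.Agent.Lib.Helper19
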