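import Mathlib.RingTheory.Etale.Kaehler
import Mathlib.RingTheory.Smooth.Basic
import Mathlib.RingTheory.Smooth.Kaehler
import Mathlib.RingTheory.Kaehler.Polynomial
import Groth.Agent.S9162
import Mathlib.Tactic

/-!
# Schanuel for formally smooth extensions, and localizing an extension
-/

set_option autoImplicit false
universe u

namespace Helper19LocCotangent

open Algebra Algebra.Extension TensorProduct

/-- Schanuel for extensions by formally smooth algebras (via the infinitesimal extensions). -/
theorem cotangent_prod_equiv_of_formallySmooth {R A : Type u} [CommRing R] [CommRing A] [Algebra R A]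
    (P₁ P₂ : Extension.{u} R A) [FormallySmooth R P₁.Ring] [FormallySmooth R P₂.Ring] :
    Nonempty ((P₁.Cotangent × P₂.CotangentSpace) ≃ₗ[A] (P₂.Cotangent × P₁.CotangentSpace)) := by
  obtain ⟨e⟩ := Groth.Agent.S9162.cotangent_prod_equiv P₁.infinitesimal P₂.infinitesimal
    (P₁.homInfinitesimal P₂) (P₂.homInfinitesimal P₁)
  let c₁ : P₁.Cotangent ≃ₗ[A] P₁.infinitesimal.Cotangent :=
    LinearEquiv.ofBijective _ (Cotangent.map_toInfinitesimal_bijective P₁)
  let c₂ : P₂.Cotangent ≃ₗ[A] P₂.infinitesimal.Cotangent :=
    LinearEquiv.ofBijective _ (Cotangent.map_toInfinitesimal_bijective P₂)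
  let s₁ : P₁.CotangentSpace ≃ₗ[A] P₁.infinitesimal.CotangentSpace :=
    LinearEquiv.ofBijective _ (CotangentSpace.map_toInfinitesimal_bijective P₁)
  let s₂ : P₂.CotangentSpace ≃ₗ[A] P₂.infinitesimal.CotangentSpace :=
    LinearEquiv.ofBijective _ (CotangentSpace.map_toInfinitesimal_bijective P₂)
  exact ⟨(LinearEquiv.prodCongr c₁ s₂) ≪≫ₗ e ≪≫ₗ (LinearEquiv.prodCongr c₂ s₁).symm⟩


set_option backward.isDefEq.respectTransparency false in
/-- Localizing a formally smooth extension `P` of `S` gives a formally smooth extension `Q` of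
`T = M⁻¹ S` whose naive cotangent complex is the base change of that of `P`. -/
theorem exists_localized_extension {R S T : Type u} [CommRing R] [CommRing S] [CommRing T]
    [Algebra R S] [Algebra R T] [Algebra S T] [IsScalarTower R S T]
    (M : Submonoid S) [IsLocalization M T] (P : Extension.{u} R S) [FormallySmooth R P.Ring] :
    ∃ (Q : Extension.{u} R T) (_ : FormallySmooth R Q.Ring),
      Nonempty (T ⊗[S] P.Cotangent ≃ₗ[T] Q.Cotangent) ∧
      Nonempty (T ⊗[S] P.CotangentSpace ≃ₗ[T] Q.CotangentSpace) := by
  letI M' := M.comap (algebraMap P.Ring S)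
  letI fQ : Localization M' →ₐ[R] T := IsLocalization.liftAlgHom (M := M')
    (f := (IsScalarTower.toAlgHom R S T).comp (IsScalarTower.toAlgHom R P.Ring S)) (fun ⟨y, hy⟩ ↦
    by simpa using IsLocalization.map_units T ⟨algebraMap P.Ring S y, hy⟩)
  letI Q : Extension R T := .ofSurjective fQ (by
    intro x
    obtain ⟨x, ⟨s, hs⟩, rfl⟩ := IsLocalization.exists_mk'_eq M x
    obtain ⟨x, rfl⟩ := P.algebraMap_surjective x
    obtain ⟨s, rfl⟩ := P.algebraMap_surjective s
    refine ⟨IsLocalization.mk' _ x ⟨s, show s ∈ M' from hs⟩, ?_⟩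
    simp only [fQ, IsLocalization.coe_liftAlgHom, AlgHom.toRingHom_eq_coe]
    rw [IsLocalization.lift_mk'_spec]
    simp)
  letI f : P.Hom Q :=
  { toRingHom := algebraMap P.Ring (Localization M')
    toRingHom_algebraMap x := (IsScalarTower.algebraMap_apply R P.Ring (Localization M') _).symm
    algebraMap_toRingHom x := @IsLocalization.lift_eq .. }
  haveI : FormallySmooth P.Ring (Localization M') := .of_isLocalization M'
  haveI hQ : FormallySmooth R Q.Ring := .comp R P.Ring (Localization M')
  haveI : Module.Flat S T := IsLocalization.flat T M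
  letI : Algebra P.Ring Q.Ring := (inferInstance : Algebra P.Ring (Localization M'))
  letI := ((algebraMap S T).comp (algebraMap P.Ring S)).toAlgebra
  letI := fQ.toRingHom.toAlgebra
  haveI : IsScalarTower P.Ring S T := .of_algebraMap_eq' rfl
  haveI : IsScalarTower P.Ring (Localization M') T :=
    .of_algebraMap_eq fun r ↦ (f.algebraMap_toRingHom r).symm
  haveI : IsLocalizedModule M' (IsScalarTower.toAlgHom P.Ring S T).toLinearMap := by
    rw [isLocalizedModule_iff_isLocalization]
    convert! ‹IsLocalization M T› using 1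
    exact Submonoid.map_comap_eq_of_surjective P.algebraMap_surjective _
  refine ⟨Q, hQ, ⟨Extension.tensorCotangent f rfl ?_⟩,
    ⟨Extension.tensorCotangentSpaceOfFormallyEtale f ?_⟩⟩
  · let F : P.ker →ₗ[P.Ring] RingHom.ker fQ := f.mapKer rfl
    refine (isLocalizedModule_iff_isBaseChange M' (Localization M') F).mp ?_
    have : (LinearMap.ker <| Algebra.linearMap P.Ring S).localized' (Localization M') M'
        (Algebra.linearMap P.Ring (Localization M')) = RingHom.ker fQ := by
      rw [LinearMap.localized'_ker_eq_ker_localizedMap (Localization M') M'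
        (Algebra.linearMap P.Ring (Localization M'))
        (f' := (IsScalarTower.toAlgHom P.Ring S T).toLinearMap)]
      ext x
      obtain ⟨x, ⟨s, hs⟩, rfl⟩ := IsLocalization.exists_mk'_eq M' x
      simp only [LinearMap.mem_ker, LinearMap.extendScalarsOfIsLocalization_apply', RingHom.mem_ker,
        IsLocalization.coe_liftAlgHom, AlgHom.toRingHom_eq_coe, IsLocalization.lift_mk'_spec,
        RingHom.coe_coe, AlgHom.coe_comp, IsScalarTower.coe_toAlgHom', Function.comp_apply,
        mul_zero, fQ]
      have : IsLocalization.mk' (Localization M') x ⟨s, hs⟩ =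
          IsLocalizedModule.mk' (Algebra.linearMap P.Ring (Localization M')) x ⟨s, hs⟩ := by
        rw [IsLocalization.mk'_eq_iff_eq_mul, mul_comm, ← Algebra.smul_def, ← Submonoid.smul_def,
          IsLocalizedModule.mk'_cancel']
        rfl
      simp [this, ← IsScalarTower.algebraMap_apply]
    have : F = ((LinearEquiv.ofEq _ _ this).restrictScalars P.Ring).toLinearMap ∘ₗ
      P.ker.toLocalized' (Localization M') M' (Algebra.linearMap P.Ring (Localization M')) := by
      ext; rfl
    rw [this]
    exact IsLocalizedModule.of_linearEquiv _ _ _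
  · exact RingHom.formallyEtale_algebraMap.mpr
      (FormallyEtale.of_isLocalization (M := M') (Rₘ := Localization M'))

end Helper19LocCotangent
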