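import Groth.Agent.Lib.Helper19CotTReg

/-!
# Comparing localized formally smooth covers of a local algebra
-/

set_option autoImplicit false
set_option linter.unusedSectionVars false
set_option linter.style.haveILetI false
universe u v w t t' m

open TensorProduct

namespace Groth.Agent.Lib.Helper19.LocCover

open Groth.Agent.Lib.Helper19.Kos

section cover

variable {k : Type u} [CommRing k] {S : Type v} [CommRing S] [Algebra k S] {B : Type w}
  [CommRing B] [IsLocalRing B] [Algebra k B] (π : S →ₐ[k] B)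

/-- the prime of `S` below the maximal ideal of `B` -/
abbrev cp : Ideal S := (IsLocalRing.maximalIdeal B).comap π

/-- the localization of the cover -/
abbrev cT : Type v := Localization.AtPrime (cp π)

lemma isUnit_of_mem_primeCompl {y : S} (hy : y ∈ (cp π).primeCompl) : IsUnit (π y) := by
  by_contra h
  exact hy ((IsLocalRing.mem_maximalIdeal _).mpr h)

/-- the induced map from the localization -/
noncomputable def cρ : cT π →ₐ[k] B :=
  IsLocalization.liftAlgHom (M := (cp π).primeCompl) (f := π)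
    (fun y => isUnit_of_mem_primeCompl π y.2)

lemma cρ_algebraMap (x : S) : cρ π (algebraMap S (cT π) x) = π x :=
  IsLocalization.lift_eq _ x

lemma cρ_mk'_mul (x : S) (s : (cp π).primeCompl) :
    cρ π (IsLocalization.mk' (cT π) x s) * π s = π x := by
  rw [← cρ_algebraMap π (s : S), ← map_mul, IsLocalization.mk'_spec, cρ_algebraMap]

lemma isLocalHom_cρ : IsLocalHom (cρ π) := by
  constructor
  intro z hz
  obtain ⟨x, s, rfl⟩ := IsLocalization.exists_mk'_eq (cp π).primeCompl z
  have h1 : IsUnit (π x) := by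
    rw [← cρ_mk'_mul π x s]
    exact hz.mul (isUnit_of_mem_primeCompl π s.2)
  have h2 : x ∈ (cp π).primeCompl := by
    intro hx
    exact (IsLocalRing.mem_maximalIdeal _).mp hx h1
  exact (IsLocalization.AtPrime.isUnit_mk'_iff (cT π) (cp π) x s).mpr h2

/-- extension of a map into a local cover -/
noncomputable def extend {T' : Type t} [CommRing T'] [Algebra k T'] (ρ' : T' →ₐ[k] B)
    [IsLocalHom ρ'] (g : S →ₐ[k] T') (hg : ∀ x, ρ' (g x) = π x) : cT π →ₐ[k] T' :=
  IsLocalization.liftAlgHom (M := (cp π).primeCompl) (f := g)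
    (fun y => isUnit_of_map_unit ρ' _ (by rw [hg]; exact isUnit_of_mem_primeCompl π y.2))

lemma extend_algebraMap {T' : Type t} [CommRing T'] [Algebra k T'] (ρ' : T' →ₐ[k] B)
    [IsLocalHom ρ'] (g : S →ₐ[k] T') (hg : ∀ x, ρ' (g x) = π x) (x : S) :
    extend π ρ' g hg (algebraMap S (cT π) x) = g x :=
  IsLocalization.lift_eq _ x

lemma ρ'_extend {T' : Type t} [CommRing T'] [Algebra k T'] (ρ' : T' →ₐ[k] B)
    [IsLocalHom ρ'] (g : S →ₐ[k] T') (hg : ∀ x, ρ' (g x) = π x) (z : cT π) :
    ρ' (extend π ρ' g hg z) = cρ π z := by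
  have h : (ρ'.toRingHom.comp (extend π ρ' g hg).toRingHom) = (cρ π).toRingHom := by
    refine IsLocalization.ringHom_ext (cp π).primeCompl ?_
    ext x
    show ρ' (extend π ρ' g hg (algebraMap S (cT π) x)) = cρ π (algebraMap S (cT π) x)
    rw [extend_algebraMap, hg, cρ_algebraMap]
  exact RingHom.congr_fun h z

lemma formallySmooth_cT [Algebra.FormallySmooth k S] : Algebra.FormallySmooth k (cT π) := by
  haveI : Algebra.FormallySmooth S (cT π) :=
    Algebra.FormallySmooth.of_isLocalization (cp π).primeCompl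
  exact Algebra.FormallySmooth.comp k S (cT π)

lemma cρ_surjective (hsurj : Function.Surjective π) : Function.Surjective (cρ π) := fun b => by
  obtain ⟨x, rfl⟩ := hsurj b
  exact ⟨algebraMap S (cT π) x, cρ_algebraMap π x⟩

lemma ker_cρ : RingHom.ker (cρ π) = (RingHom.ker π).map (algebraMap S (cT π)) := by
  ext z
  obtain ⟨x, s, rfl⟩ := IsLocalization.exists_mk'_eq (cp π).primeCompl z
  rw [RingHom.mem_ker, IsLocalization.mk'_mem_map_algebraMap_iff]
  constructor
  · intro h
    refine ⟨1, (cp π).primeCompl.one_mem, ?_⟩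
    rw [one_mul, RingHom.mem_ker]
    have := cρ_mk'_mul π x s
    rw [h, zero_mul] at this
    exact this.symm
  · rintro ⟨y, hy, hyx⟩
    rw [RingHom.mem_ker, map_mul] at hyx
    have h1 : π x = 0 := (isUnit_of_mem_primeCompl π hy).mul_right_eq_zero.mp hyx
    have h2 := cρ_mk'_mul π x s
    rw [h1] at h2
    exact (isUnit_of_mem_primeCompl π s.2).mul_left_eq_zero.mp h2

lemma eq_cp_of_isMaximal (hsurj : Function.Surjective π) (p : Ideal S) [hp : p.IsMaximal]
    (hle : RingHom.ker π ≤ p) : p = cp π := by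
  have h1 : Ideal.comap π (Ideal.map π p) = p := by
    rw [Ideal.comap_map_of_surjective π hsurj]
    exact sup_eq_left.mpr hle
  rcases Ideal.map_eq_top_or_isMaximal_of_surjective π hsurj hp with h | h
  · rw [h, Ideal.comap_top] at h1
    exact absurd h1.symm hp.ne_top
  · have h2 : Ideal.map π p = IsLocalRing.maximalIdeal B := IsLocalRing.eq_maximalIdeal h
    rw [cp, ← h2, h1]

end cover

section compare

variable {k : Type u} [CommRing k] {S₁ : Type v} [CommRing S₁] [Algebra k S₁] {S₂ : Type v}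
  [CommRing S₂] [Algebra k S₂] {B : Type w} [CommRing B] [IsLocalRing B] [Algebra k B]
  (π₁ : S₁ →ₐ[k] B) (π₂ : S₂ →ₐ[k] B)

/-- `H₂` vanishes for a localized cover if it does for another one cut out by a regular sequence -/
theorem H2Zero_of_cover [Algebra.FormallySmooth k S₁] [Algebra.FormallySmooth k S₂]
    (h0 : S₁ →ₐ[k] S₂) (hh0 : ∀ x, π₂ (h0 x) = π₁ x)
    (h0' : S₂ →ₐ[k] cT π₁) (hh0' : ∀ x, cρ π₁ (h0' x) = π₂ x)
    (hsurj₂ : Function.Surjective (cρ π₂))
    {n : ℕ} (g : Fin n → cT π₁)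
    (hreg : RingTheory.Sequence.IsWeaklyRegular (cT π₁) (List.ofFn g))
    (hg : Ideal.span (Set.range g) = RingHom.ker (cρ π₁))
    {σ : Type t} (f : σ → cT π₂) (hf : Ideal.span (Set.range f) = RingHom.ker (cρ π₂)) :
    H2Zero (cT π₂) f := by
  letI alg1 : Algebra (cT π₁) B := (cρ π₁).toRingHom.toAlgebra
  letI alg2 : Algebra (cT π₂) B := (cρ π₂).toRingHom.toAlgebra
  haveI : IsScalarTower k (cT π₁) B := IsScalarTower.of_algebraMap_eq (fun x => by
    show algebraMap k B x = cρ π₁ (algebraMap k (cT π₁) x)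
    rw [AlgHom.commutes])
  haveI : IsScalarTower k (cT π₂) B := IsScalarTower.of_algebraMap_eq (fun x => by
    show algebraMap k B x = cρ π₂ (algebraMap k (cT π₂) x)
    rw [AlgHom.commutes])
  haveI := formallySmooth_cT π₁
  haveI := formallySmooth_cT π₂
  haveI := isLocalHom_cρ π₁
  haveI := isLocalHom_cρ π₂
  have hf0 : ∀ s, algebraMap (cT π₂) B (f s) = 0 := fun s => by
    have : f s ∈ RingHom.ker (cρ π₂) := by rw [← hf]; exact Ideal.subset_span ⟨s, rfl⟩
    exact this
  have hg0 : ∀ i, algebraMap (cT π₁) B (g i) = 0 := fun i => by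
    have : g i ∈ RingHom.ker (cρ π₁) := by rw [← hg]; exact Ideal.subset_span ⟨i, rfl⟩
    exact this
  have hspf : ∀ z : cT π₂, algebraMap (cT π₂) B z = 0 → ∃ x, jm (cT π₂) f x = z := fun z hz => by
    have : z ∈ LinearMap.range (jm (cT π₂) f) := by
      rw [range_jm, hf]; exact hz
    exact this
  have hspg : ∀ z : cT π₁, algebraMap (cT π₁) B z = 0 → ∃ x, jm (cT π₁) g x = z := fun z hz => by
    have : z ∈ LinearMap.range (jm (cT π₁) g) := by
      rw [range_jm, hg]; exact hz
    exact this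
  -- the maps between the two localized covers
  let h : cT π₁ →ₐ[k] cT π₂ := extend π₁ (cρ π₂)
    ((IsScalarTower.toAlgHom k S₂ (cT π₂)).comp h0) (fun x => by
      show cρ π₂ (algebraMap S₂ (cT π₂) (h0 x)) = π₁ x
      rw [cρ_algebraMap, hh0])
  let h' : cT π₂ →ₐ[k] cT π₁ := extend π₂ (cρ π₁) h0' hh0'
  have hh : ∀ x, algebraMap (cT π₂) B (h x) = algebraMap (cT π₁) B x := fun x =>
    ρ'_extend π₁ (cρ π₂) _ _ x
  have hh' : ∀ x, algebraMap (cT π₁) B (h' x) = algebraMap (cT π₂) B x := fun x =>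
    ρ'_extend π₂ (cρ π₁) _ _ x
  obtain ⟨e⟩ := nonempty_T2_equiv_of_formallySmooth (A := k) (S := cT π₂) (S' := cT π₁)
    (B := B) hf0 hg0 h hh h' hh' hspf hspg (L2 (cT π₂) B f)
  haveI : Subsingleton (T2 (cT π₁) B g hg0 (L2 (cT π₂) B f)) :=
    Groth.Agent.Lib.Helper19.CotTVanish.T2_subsingleton_of_Q_le hg0
      (Groth.Agent.Lib.Helper19.CotTVanish.Q_le_F0_of_isWeaklyRegular g hreg) _
  have hsub : Subsingleton (T2 (cT π₂) B f hf0 (L2 (cT π₂) B f)) := e.toEquiv.subsingleton
  exact H2Zero_of_d2_injective hf0 hsurj₂ hf.symm (d2_injective_of_T2_subsingleton hf0 hsub)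

end compare

end Groth.Agent.Lib.Helper19.LocCover
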