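import Groth.Agent.Lib.Helper19TangentDer
import Groth.Agent.Lib.Helper19Essential

set_option autoImplicit false
universe u v w

open CategoryTheory ArtFun ArtFun.Art

namespace Groth.Agent.Lib.Helper19

section Factor

variable {Λ : Type u} {k : Type u} [CommRing Λ] [Field k] [Algebra Λ k]

/-- A morphism killing the kernel of a surjection factors through it. -/
theorem exists_factor_of_surjective {B A D : Art Λ k} (f : B ⟶ A) (hf : Function.Surjective f)
    (t : B ⟶ D) (hker : ∀ b, f b = 0 → t b = 0) : ∃ s : A ⟶ D, f ≫ s = t := by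
  have key : ∀ x y, f x = f y → t x = t y := by
    intro x y h
    have h1 := hker (x - y) (by rw [hom_map_sub, h, sub_self])
    rwa [hom_map_sub, sub_eq_zero] at h1
  let σ : A → B := Function.surjInv hf
  have hσ : ∀ a, f (σ a) = a := Function.surjInv_eq hf
  let s₀ : A →ₐ[Λ] D :=
    { toFun := fun a => t (σ a)
      map_one' := (key _ 1 (by rw [hσ, hom_map_one])).trans (hom_map_one t)
      map_mul' := fun a a' => (key _ (σ a * σ a') (by rw [hσ, hom_map_mul, hσ, hσ])).trans
        (hom_map_mul t _ _)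
      map_zero' := (key _ 0 (by rw [hσ, hom_map_zero])).trans (hom_map_zero t)
      map_add' := fun a a' => (key _ (σ a + σ a') (by rw [hσ, hom_map_add, hσ, hσ])).trans
        (hom_map_add t _ _)
      commutes' := fun r => (key _ (algebraMap Λ B r) (by
        rw [hσ]; exact (f.toAlgHom.commutes r).symm)).trans (t.toAlgHom.commutes r) }
  have hs₀ : ∀ b, s₀ (f b) = t b := fun b => key _ _ (hσ (f b))
  refine ⟨⟨s₀, ?_⟩, ?_⟩
  · apply AlgHom.ext
    intro a
    obtain ⟨b, rfl⟩ := hf a
    show D.res (s₀ (f b)) = A.res (f b)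
    rw [hs₀, Art.res_app, Art.res_app]
  · apply Art.hom_ext
    apply AlgHom.ext
    intro b
    exact hs₀ b

end Factor

section SubObj

variable {Λ : Type u} {k : Type u} [CommRing Λ] [Field k] [Algebra Λ k] [Module.Finite Λ k]

theorem isArtinianRing_subalgebra (B : Art Λ k) (C : Subalgebra Λ B) : IsArtinianRing C := by
  haveI := isArtinian_art B
  have h : IsArtinian Λ (Subalgebra.toSubmodule C) := inferInstance
  exact isArtinian_of_tower Λ h

theorem isLocalHom_subalgebra_val (B : Art Λ k) (C : Subalgebra Λ B) :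
    IsLocalHom (C.val : C →+* B) := by
  haveI := isArtinianRing_subalgebra B C
  refine ⟨fun c hc => ?_⟩
  apply IsArtinianRing.isUnit_of_mem_nonZeroDivisors
  rw [mem_nonZeroDivisors_iff_right]
  intro x hx
  have h1 : (C.val x) * (C.val c) = 0 := by
    rw [← map_mul, hx, map_zero]
  have h2 : C.val x = 0 := (hc.mul_left_eq_zero).1 h1
  exact Subtype.ext h2

/-- A `Λ`-subalgebra of an object which still surjects onto `k` is an object. -/
noncomputable def subObj (B : Art Λ k) (C : Subalgebra Λ B)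
    (hC : ∀ c : k, ∃ x ∈ C, B.res x = c) : Art Λ k :=
  haveI := isLocalHom_subalgebra_val B C
  { carrier := C
    isLocalRing := RingHom.domain_isLocalRing (C.val : C →+* B)
    isArtinianRing := isArtinianRing_subalgebra B C
    res := B.res.comp C.val
    res_surjective := fun c => by
      obtain ⟨x, hx, hxc⟩ := hC c
      exact ⟨⟨x, hx⟩, hxc⟩ }

/-- The inclusion of a sub-object. -/
noncomputable def subObjι (B : Art Λ k) (C : Subalgebra Λ B)
    (hC : ∀ c : k, ∃ x ∈ C, B.res x = c) : subObj B C hC ⟶ B :=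
  ⟨C.val, rfl⟩

lemma subObjι_mem (B : Art Λ k) (C : Subalgebra Λ B)
    (hC : ∀ c : k, ∃ x ∈ C, B.res x = c) (x : subObj B C hC) : subObjι B C hC x ∈ C :=
  Subtype.property (show C from x)

lemma subObjι_surj_on (B : Art Λ k) (C : Subalgebra Λ B)
    (hC : ∀ c : k, ∃ x ∈ C, B.res x = c) (b : B) (hb : b ∈ C) : ∃ x, subObjι B C hC x = b :=
  ⟨(show C from ⟨b, hb⟩), rfl⟩

end SubObj

section TangentArt

variable {Λ : Type u} {k : Type u} [CommRing Λ] [Field k] [Algebra Λ k]

/-- The "derivation" underlying a tangent vector `A ⟶ k[ε]`. -/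
def tder {A : Art Λ k} (t : A ⟶ dual Λ k) (a : A) : k := dsnd (t a)

lemma tder_add {A : Art Λ k} (t : A ⟶ dual Λ k) (a b : A) : tder t (a + b) = tder t a + tder t b := by
  unfold tder; rw [hom_map_add, dsnd_add]

lemma tder_sub {A : Art Λ k} (t : A ⟶ dual Λ k) (a b : A) : tder t (a - b) = tder t a - tder t b := by
  unfold tder; rw [hom_map_sub]; rfl

lemma tder_mul {A : Art Λ k} (t : A ⟶ dual Λ k) (a b : A) :
    tder t (a * b) = A.res a * tder t b + A.res b * tder t a := by
  unfold tder; rw [hom_map_mul, dsnd_mul, dfst_hom, dfst_hom]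

lemma tder_comp {B A : Art Λ k} (f : B ⟶ A) (t : A ⟶ dual Λ k) (b : B) :
    tder (f ≫ t) b = tder t (f b) := rfl

lemma tangent_ext {A : Art Λ k} {t₁ t₂ : A ⟶ dual Λ k} (h : ∀ a, tder t₁ a = tder t₂ a) :
    t₁ = t₂ := by
  apply Art.hom_ext
  apply AlgHom.ext
  intro a
  apply dual_ext
  · rw [dfst_hom, dfst_hom]
  · exact h a

/-- The zero tangent vector. -/
def tzero (A : Art Λ k) : A ⟶ dual Λ k := toBase A ≫ baseToDual

lemma tder_tzero (A : Art Λ k) (a : A) : tder (tzero A) a = 0 := rfl

/-- Linear combinations `c • (t₁ - t₂)` of tangent vectors. -/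
noncomputable def tcomb {A : Art Λ k} (c : k) (t₁ t₂ : A ⟶ dual Λ k) : A ⟶ dual Λ k :=
  fibreProdLift isFibreProd_dual2 t₁ (t₂ ≫ scale (-1))
    (by rw [eq_toBase (t₁ ≫ toBase _), eq_toBase ((t₂ ≫ scale (-1)) ≫ toBase _)]) ≫ plus ≫ scale c

lemma tder_tcomb {A : Art Λ k} (c : k) (t₁ t₂ : A ⟶ dual Λ k) (a : A) :
    tder (tcomb c t₁ t₂) a = c * (tder t₁ a - tder t₂ a) := by
  set w : t₁ ≫ toBase _ = (t₂ ≫ scale (-1)) ≫ toBase _ := by
    rw [eq_toBase (t₁ ≫ toBase _), eq_toBase ((t₂ ≫ scale (-1)) ≫ toBase _)]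
  set z := fibreProdLift isFibreProd_dual2 t₁ (t₂ ≫ scale (-1)) w
  have h1 : pr₁ (z a) = t₁ a :=
    AlgHom.congr_fun (congrArg Art.Hom.toAlgHom (fibreProdLift_fst isFibreProd_dual2 _ _ w)) a
  have h2 : pr₂ (z a) = scale (-1) (t₂ a) :=
    AlgHom.congr_fun (congrArg Art.Hom.toAlgHom (fibreProdLift_snd isFibreProd_dual2 _ _ w)) a
  show dsnd (scale c (plus (z a))) = _
  rw [dsnd_scale, dsnd_plus, ← dsnd_pr₁, ← dsnd_pr₂, h1, h2, dsnd_scale]
  unfold tder
  ring

variable [Module.Finite Λ k]

/-- A morphism is surjective iff restriction of tangent vectors along it is injective. -/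
theorem surjective_iff_tangent_injective {B A : Art Λ k} (f : B ⟶ A) :
    Function.Surjective f ↔ Function.Injective (fun t : A ⟶ dual Λ k => f ≫ t) := by
  constructor
  · intro hf t₁ t₂ h
    apply Art.hom_ext
    apply AlgHom.ext
    intro a
    obtain ⟨b, rfl⟩ := hf a
    exact AlgHom.congr_fun (congrArg Art.Hom.toAlgHom h) b
  · intro hinj
    letI : Algebra A k := (A.res : A →+* k).toAlgebra
    haveI : IsScalarTower Λ A k :=
      IsScalarTower.of_algebraMap_eq (fun r => (A.res.commutes r).symm)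
    have hres' : IsScalarTower.toAlgHom Λ A k = A.res := AlgHom.ext fun _ => rfl
    apply surjective_of_derivation_injective (Λ := Λ) B.res B.res_surjective
      (S := A) A.res_surjective f.toAlgHom (by rw [hres']; exact f.res_comp)
    intro D₁ D₂ hD
    have key : (⟨derHom D₁, AlgHom.ext fun _ => rfl⟩ : A ⟶ dual Λ k) =
        ⟨derHom D₂, AlgHom.ext fun _ => rfl⟩ := by
      apply hinj
      apply tangent_ext
      intro b
      exact hD b
    ext a
    have := congrArg (fun t : A ⟶ dual Λ k => tder t a) key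
    exact this

/-- A morphism is an essential surjection iff restriction of tangent vectors along it is bijective. -/
theorem essSurj_iff_tangent_bijective {B A : Art Λ k} (f : B ⟶ A) :
    (Function.Surjective f ∧ ∀ (C : Art Λ k) (g : C ⟶ B), Function.Surjective (g ≫ f) →
        Function.Surjective g) ↔
      Function.Bijective (fun t : A ⟶ dual Λ k => f ≫ t) := by
  constructor
  · rintro ⟨hfs, hess⟩
    have hinj := (surjective_iff_tangent_injective f).1 hfs
    refine ⟨hinj, ?_⟩
    intro t₀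
    by_contra hnot
    have hnot' : ∀ t : A ⟶ dual Λ k, f ≫ t ≠ t₀ := fun t ht => hnot ⟨t, ht⟩
    -- `t₀` does not vanish on the maximal ideal
    have hy₀ : ∃ y₀ : B, B.res y₀ = 0 ∧ tder t₀ y₀ ≠ 0 := by
      by_contra hall
      have hall' : ∀ y : B, B.res y = 0 → tder t₀ y = 0 := by
        intro y hy
        by_contra h
        exact hall ⟨y, hy, h⟩
      obtain ⟨s, hs⟩ := exists_factor_of_surjective f hfs t₀ (by
        intro b hb
        have hres : B.res b = 0 := by rw [← Art.res_app f, hb, map_zero]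
        apply dual_ext
        · rw [dfst_hom, hres, dfst_zero]
        · rw [dsnd_zero]; exact hall' b hres)
      exact hnot' s hs
    obtain ⟨y₀, hy₀r, hy₀d⟩ := hy₀
    obtain ⟨b₀, hb₀⟩ := B.res_surjective (tder t₀ y₀)⁻¹
    obtain ⟨y, hydef⟩ : ∃ y : B, y = b₀ * y₀ := ⟨_, rfl⟩
    have hyr : B.res y = 0 := by rw [hydef, map_mul, hy₀r, mul_zero]
    have hyd : tder t₀ y = 1 := by
      rw [hydef, tder_mul, hy₀r, zero_mul, add_zero, hb₀, inv_mul_cancel₀ hy₀d]
    -- the subalgebra where `t₀` vanishes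
    let C : Subalgebra Λ B := AlgHom.equalizer t₀.toAlgHom (tzero B).toAlgHom
    have hCmem : ∀ b : B, b ∈ C ↔ tder t₀ b = 0 := by
      intro b
      constructor
      · intro hb
        have : t₀ b = tzero B b := hb
        show dsnd (t₀ b) = 0
        rw [this]; rfl
      · intro hb
        show t₀ b = tzero B b
        apply dual_ext
        · rw [dfst_hom, dfst_hom]
        · exact hb
    have hadj : ∀ b : B, ∃ b₁ : B, B.res b₁ = tder t₀ b ∧ b - b₁ * y ∈ C := by
      intro b
      obtain ⟨b₁, hb₁⟩ := B.res_surjective (tder t₀ b)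
      refine ⟨b₁, hb₁, ?_⟩
      rw [hCmem, tder_sub, tder_mul, hyd, hyr, mul_one, zero_mul, add_zero, hb₁, sub_self]
    have hC : ∀ c : k, ∃ x ∈ C, B.res x = c := by
      intro c
      obtain ⟨b, hb⟩ := B.res_surjective c
      obtain ⟨b₁, -, hmem⟩ := hadj b
      refine ⟨b - b₁ * y, hmem, ?_⟩
      rw [map_sub, map_mul, hyr, mul_zero, sub_zero, hb]
    set ι := subObjι B C hC
    have hιC : ∀ x, ι x ∈ C := subObjι_mem B C hC
    have hιnot : ¬ Function.Surjective ι := by
      intro hs
      obtain ⟨x, hx⟩ := hs y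
      have := (hCmem _).1 (hιC x)
      rw [hx, hyd] at this
      exact one_ne_zero this
    apply hιnot
    apply hess _ ι
    rw [surjective_iff_tangent_injective]
    intro t₁ t₂ h12
    have h12' : ι ≫ (f ≫ t₁) = ι ≫ (f ≫ t₂) := by
      have : (ι ≫ f) ≫ t₁ = (ι ≫ f) ≫ t₂ := h12
      rwa [Category.assoc, Category.assoc] at this
    -- the difference derivation vanishes on `C`
    have hvan : ∀ b ∈ C, tder (f ≫ t₁) b = tder (f ≫ t₂) b := by
      intro b hb
      obtain ⟨x, rfl⟩ := subObjι_surj_on B C hC b hb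
      have := congrArg (fun t : subObj B C hC ⟶ dual Λ k => tder t x) h12'
      exact this
    set lam : k := tder (f ≫ t₁) y - tder (f ≫ t₂) y with hlam
    have hprop : ∀ b : B, tder (f ≫ t₁) b - tder (f ≫ t₂) b = lam * tder t₀ b := by
      intro b
      obtain ⟨b₁, hb₁, hmem⟩ := hadj b
      have h1 := hvan _ hmem
      simp only [tder_sub, tder_mul, hyr, zero_mul, add_zero, hb₁] at h1
      rw [hlam]
      linear_combination h1
    by_cases hl : lam = 0
    · apply hinj
      apply tangent_ext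
      intro b
      have := hprop b
      rw [hl, zero_mul, sub_eq_zero] at this
      exact this
    · exfalso
      apply hnot' (tcomb lam⁻¹ t₁ t₂)
      apply tangent_ext
      intro b
      rw [tder_comp, tder_tcomb, ← tder_comp, ← tder_comp, hprop, ← mul_assoc,
        inv_mul_cancel₀ hl, one_mul]
  · intro hbij
    have hfs := (surjective_iff_tangent_injective f).2 hbij.1
    refine ⟨hfs, ?_⟩
    intro C g hg
    rw [surjective_iff_tangent_injective]
    intro t₁ t₂ h12
    obtain ⟨s₁, rfl⟩ := hbij.2 t₁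
    obtain ⟨s₂, rfl⟩ := hbij.2 t₂
    have h12' : (g ≫ f) ≫ s₁ = (g ≫ f) ≫ s₂ := by
      have : g ≫ (f ≫ s₁) = g ≫ (f ≫ s₂) := h12
      rwa [← Category.assoc, ← Category.assoc] at this
    have := (surjective_iff_tangent_injective (g ≫ f)).1 hg h12'
    rw [this]

end TangentArt

end Groth.Agent.Lib.Helper19
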