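import Groth.Agent.Lib.Helper19PsCRing
import Groth.Agent.Lib.Helper19Sub

set_option autoImplicit false
universe u v w

open CategoryTheory ArtFun ArtFun.Art

namespace Groth.Agent.Lib.Helper19

section Present

variable {Λ : Type u} {k : Type u} [CommRing Λ] [Field k] [Algebra Λ k]

/-- The ideal `m_A² + m_Λ A` of an algebra over a local ring. -/
noncomputable abbrev relSq (Λ : Type u) [CommRing Λ] [IsLocalRing Λ] (A : Type u) [CommRing A] [Algebra Λ A]
    [IsLocalRing A] : Ideal A :=
  IsLocalRing.maximalIdeal A ^ 2 ⊔ (IsLocalRing.maximalIdeal Λ).map (algebraMap Λ A)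

/-- A coefficient ring with nilpotent maximal ideal, as an object. -/
noncomputable def artOfCRing (S : CRing Λ k) (n : ℕ) (hn : IsLocalRing.maximalIdeal S.carrier ^ n = ⊥) :
    Art Λ k :=
  { carrier := S.carrier
    isArtinianRing := (isArtinianRing_iff_isNilpotent_maximalIdeal S.carrier).2 ⟨n, hn⟩
    res := S.res
    res_surjective := S.res_surjective }

lemma exists_mem_maximalIdeal_of_quotCRing (S : CRing Λ k) (J : Ideal S.carrier)
    (hJ : J ≤ IsLocalRing.maximalIdeal S.carrier) (y : (quotCRing S J hJ).carrier)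
    (hy : y ∈ IsLocalRing.maximalIdeal (quotCRing S J hJ).carrier) :
    ∃ a ∈ IsLocalRing.maximalIdeal S.carrier, quotCRingMk S J hJ a = y := by
  obtain ⟨a, rfl⟩ := quotCRingMk_surjective S J hJ y
  refine ⟨a, ?_, rfl⟩
  rw [CRing.mem_maximalIdeal_iff] at hy ⊢
  have := AlgHom.congr_fun (quotCRingMk_res S J hJ) a
  rw [AlgHom.comp_apply] at this
  rw [← this]
  exact hy

lemma maximalIdeal_quotCRing_le (S : CRing Λ k) (J : Ideal S.carrier)
    (hJ : J ≤ IsLocalRing.maximalIdeal S.carrier) :
    IsLocalRing.maximalIdeal (quotCRing S J hJ).carrier ≤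
      (IsLocalRing.maximalIdeal S.carrier).map (quotCRingMk S J hJ) := by
  intro y hy
  obtain ⟨a, ha, rfl⟩ := exists_mem_maximalIdeal_of_quotCRing S J hJ y hy
  exact Ideal.mem_map_of_mem _ ha

lemma maximalIdeal_quotCRing_pow (S : CRing Λ k) (J : Ideal S.carrier)
    (hJ : J ≤ IsLocalRing.maximalIdeal S.carrier) (n : ℕ)
    (hn : IsLocalRing.maximalIdeal S.carrier ^ n ≤ J) :
    IsLocalRing.maximalIdeal (quotCRing S J hJ).carrier ^ n = ⊥ := by
  rw [eq_bot_iff]
  refine le_trans (Ideal.pow_right_mono (maximalIdeal_quotCRing_le S J hJ) n) ?_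
  rw [← Ideal.map_pow, Ideal.map_le_iff_le_comap]
  intro a ha
  rw [Ideal.mem_comap, Ideal.mem_bot]
  exact (quotCRingMk_eq_zero_iff S J hJ a).2 (hn ha)

/-- The quotient of a coefficient ring by an open ideal, as an object. -/
noncomputable def artOfQuot (S : CRing Λ k) (J : Ideal S.carrier)
    (hJ : J ≤ IsLocalRing.maximalIdeal S.carrier) (n : ℕ)
    (hn : IsLocalRing.maximalIdeal S.carrier ^ n ≤ J) : Art Λ k :=
  artOfCRing (quotCRing S J hJ) n (maximalIdeal_quotCRing_pow S J hJ n hn)

/-- The projection to the quotient object. -/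
noncomputable def artOfQuotMk (S : CRing Λ k) (J : Ideal S.carrier)
    (hJ : J ≤ IsLocalRing.maximalIdeal S.carrier) (n : ℕ)
    (hn : IsLocalRing.maximalIdeal S.carrier ^ n ≤ J) :
    HomSet S.carrier S.res (artOfQuot S J hJ n hn) :=
  ⟨quotCRingMk S J hJ, quotCRingMk_res S J hJ⟩

lemma artOfQuotMk_surjective (S : CRing Λ k) (J : Ideal S.carrier)
    (hJ : J ≤ IsLocalRing.maximalIdeal S.carrier) (n : ℕ)
    (hn : IsLocalRing.maximalIdeal S.carrier ^ n ≤ J) :
    Function.Surjective (artOfQuotMk S J hJ n hn).1 :=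
  quotCRingMk_surjective S J hJ

lemma artOfQuotMk_eq_zero_iff (S : CRing Λ k) (J : Ideal S.carrier)
    (hJ : J ≤ IsLocalRing.maximalIdeal S.carrier) (n : ℕ)
    (hn : IsLocalRing.maximalIdeal S.carrier ^ n ≤ J) (a : S.carrier) :
    (artOfQuotMk S J hJ n hn).1 a = 0 ↔ a ∈ J :=
  quotCRingMk_eq_zero_iff S J hJ a

/-- A map from a coefficient ring which kills the kernel of a surjection onto an object factors through it. -/
theorem homSet_factor_of_surjective {S : Type u} [CommRing S] [Algebra Λ S] {resS : S →ₐ[Λ] k}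
    {A B : Art Λ k} (ψ : HomSet S resS A) (hψ : Function.Surjective ψ.1)
    (φ : HomSet S resS B) (hker : ∀ a, ψ.1 a = 0 → φ.1 a = 0) :
    ∃ f : A ⟶ B, HomSet.map f ψ = φ := by
  have hwd : ∀ a a' : S, ψ.1 a = ψ.1 a' → φ.1 a = φ.1 a' := by
    intro a a' h
    have : φ.1 (a - a') = 0 := hker _ (by rw [map_sub, h, sub_self])
    rwa [map_sub, sub_eq_zero] at this
  let s : A → S := fun y => (hψ y).choose
  have hs : ∀ y, ψ.1 (s y) = y := fun y => (hψ y).choose_spec
  let f₀ : A →ₐ[Λ] B :=
    { toFun := fun y => φ.1 (s y)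
      map_one' := by rw [← map_one φ.1]; exact hwd _ _ (by rw [hs, map_one])
      map_mul' := fun x y => by
        rw [← map_mul φ.1]; exact hwd _ _ (by rw [hs, map_mul, hs, hs])
      map_zero' := by rw [← map_zero φ.1]; exact hwd _ _ (by rw [hs, map_zero])
      map_add' := fun x y => by
        rw [← map_add φ.1]; exact hwd _ _ (by rw [hs, map_add, hs, hs])
      commutes' := fun r => by
        rw [← φ.1.commutes r]; exact hwd _ _ (by rw [hs, AlgHom.commutes]) }
  have hf₀ : ∀ a, f₀ (ψ.1 a) = φ.1 a := fun a => hwd _ _ (hs _)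
  refine ⟨⟨f₀, ?_⟩, ?_⟩
  · apply AlgHom.ext
    intro y
    obtain ⟨a, rfl⟩ := hψ y
    rw [AlgHom.comp_apply, hf₀]
    have h1 := AlgHom.congr_fun φ.2 a
    have h2 := AlgHom.congr_fun ψ.2 a
    rw [AlgHom.comp_apply] at h1 h2
    rw [h1, h2]
  · apply Subtype.ext
    apply AlgHom.ext
    intro a
    exact hf₀ a

/-- Uniqueness of factorisations through a surjection. -/
theorem hom_ext_of_homSet_surjective {S : Type u} [CommRing S] [Algebra Λ S] {resS : S →ₐ[Λ] k}
    {A B : Art Λ k} (ψ : HomSet S resS A) (hψ : Function.Surjective ψ.1)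
    (f g : A ⟶ B) (h : HomSet.map f ψ = HomSet.map g ψ) : f = g := by
  apply Art.hom_ext
  apply AlgHom.ext
  intro y
  obtain ⟨a, rfl⟩ := hψ y
  exact AlgHom.congr_fun (congrArg Subtype.val h) a

section MinGens

variable [IsLocalRing Λ] (hk : Function.Surjective (algebraMap Λ k))

include hk in
lemma ker_algebraMap_eq_maximalIdeal : RingHom.ker (algebraMap Λ k) = IsLocalRing.maximalIdeal Λ :=
  IsLocalRing.eq_maximalIdeal (RingHom.ker_isMaximal_of_surjective _ hk)

include hk in
lemma algebraMap_mem_maximalIdeal (A : Art Λ k) {c : Λ} (hc : c ∈ IsLocalRing.maximalIdeal Λ) :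
    algebraMap Λ A c ∈ IsLocalRing.maximalIdeal A := by
  rw [Art.mem_maximalIdeal_iff, AlgHom.commutes, ← RingHom.mem_ker, ker_algebraMap_eq_maximalIdeal hk]
  exact hc

include hk in
lemma relSq_le_maximalIdeal (A : Art Λ k) : relSq Λ A ≤ IsLocalRing.maximalIdeal A := by
  apply sup_le (Ideal.pow_le_self two_ne_zero)
  rw [Ideal.map_le_iff_le_comap]
  intro c hc
  exact algebraMap_mem_maximalIdeal hk A hc

include hk in
/-- Minimal generators of the maximal ideal of an object modulo `m² + m_Λ`. -/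
theorem exists_min_gens (A : Art Λ k) :
    ∃ (r : ℕ) (x : Fin r → A), (∀ i, x i ∈ IsLocalRing.maximalIdeal A) ∧
      Ideal.span (Set.range x) ⊔ relSq Λ A = IsLocalRing.maximalIdeal A ∧
      ∀ c : Fin r → Λ, (∑ i, c i • x i) ∈ relSq Λ A → ∀ i, c i ∈ IsLocalRing.maximalIdeal Λ := by
  classical
  let P : ℕ → Prop := fun r => ∃ x : Fin r → A, (∀ i, x i ∈ IsLocalRing.maximalIdeal A) ∧
      Ideal.span (Set.range x) ⊔ relSq Λ A = IsLocalRing.maximalIdeal A
  have hex : ∃ r, P r := by
    haveI : IsNoetherianRing A := inferInstance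
    have hfg : (IsLocalRing.maximalIdeal A).FG := IsNoetherian.noetherian _
    obtain ⟨n, s, hs⟩ := Submodule.fg_iff_exists_fin_generating_family.1 hfg
    refine ⟨n, s, fun i => ?_, ?_⟩
    · rw [← hs]; exact Submodule.subset_span ⟨i, rfl⟩
    · change Submodule.span A (Set.range s) ⊔ relSq Λ A = _
      rw [hs]
      exact sup_eq_left.2 (relSq_le_maximalIdeal hk A)
  obtain ⟨r, hr, hmin⟩ : ∃ r, P r ∧ ∀ m < r, ¬ P m :=
    ⟨Nat.find hex, Nat.find_spec hex, fun m hm => Nat.find_min hex hm⟩
  obtain ⟨x, hxm, hxs⟩ := hr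
  refine ⟨r, x, hxm, hxs, ?_⟩
  intro c hc j
  by_contra hcj
  cases r with
  | zero => exact j.elim0
  | succ r' =>
    apply hmin r' (Nat.lt_succ_self r')
    refine ⟨fun i => x (j.succAbove i), fun i => hxm _, ?_⟩
    have hu : IsUnit (c j) := by
      by_contra hnu
      exact hcj ((IsLocalRing.mem_maximalIdeal _).2 hnu)
    obtain ⟨d, hd⟩ := hu.exists_left_inv
    set I' : Ideal A := Ideal.span (Set.range fun i => x (j.succAbove i)) ⊔ relSq Λ A with hI'
    have hsub : ∀ i, x (j.succAbove i) ∈ I' := fun i =>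
      Submodule.mem_sup_left (Ideal.subset_span ⟨i, rfl⟩)
    have hxj : x j ∈ I' := by
      rw [Fin.sum_univ_succAbove _ j] at hc
      have h1 : c j • x j ∈ I' := by
        have h2 : c j • x j = (c j • x j + ∑ i, c (j.succAbove i) • x (j.succAbove i)) -
            ∑ i, c (j.succAbove i) • x (j.succAbove i) := by ring
        rw [h2]
        apply Ideal.sub_mem _ (Submodule.mem_sup_right hc)
        apply Ideal.sum_mem
        intro i _
        rw [Algebra.smul_def]
        exact Ideal.mul_mem_left _ _ (hsub i)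
      have h3 : x j = d • (c j • x j) := by
        rw [smul_smul, hd, one_smul]
      rw [h3, Algebra.smul_def]
      exact Ideal.mul_mem_left _ _ h1
    apply le_antisymm
    · exact sup_le (Ideal.span_le.2 (by rintro _ ⟨i, rfl⟩; exact hxm _)) (relSq_le_maximalIdeal hk A)
    · rw [← hxs]
      apply sup_le _ le_sup_right
      rw [Ideal.span_le]
      rintro _ ⟨i, rfl⟩
      rcases Fin.eq_self_or_eq_succAbove j i with h | ⟨i', h⟩
      · rw [h]; exact hxj
      · rw [h]; exact hsub i'

end MinGens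

section Presentation

variable [IsLocalRing Λ] [IsNoetherianRing Λ] [IsAdicComplete (IsLocalRing.maximalIdeal Λ) Λ]
  (hk : Function.Surjective (algebraMap Λ k))

lemma C_mem_map_maximalIdeal {σ : Type} [Finite σ] {c : Λ} (hc : c ∈ IsLocalRing.maximalIdeal Λ) :
    (MvPowerSeries.C c : MvPowerSeries σ Λ) ∈
      (IsLocalRing.maximalIdeal Λ).map (algebraMap Λ (MvPowerSeries σ Λ)) := by
  have : (MvPowerSeries.C c : MvPowerSeries σ Λ) = algebraMap Λ (MvPowerSeries σ Λ) c := by
    rw [MvPowerSeries.algebraMap_apply, Algebra.algebraMap_self, RingHom.id_apply]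
  rw [this]
  exact Ideal.mem_map_of_mem _ hc

/-- First-order expansion in the power series ring over a local ring. -/
lemma sub_linear_mem_relSq {r : ℕ} (g : MvPowerSeries (Fin r) Λ)
    (hg : g ∈ IsLocalRing.maximalIdeal (MvPowerSeries (Fin r) Λ)) :
    g - ∑ i, MvPowerSeries.C (MvPowerSeries.coeff (Finsupp.single i 1) g) * MvPowerSeries.X i ∈
      relSq Λ (MvPowerSeries (Fin r) Λ) := by
  have h1 := sub_linear_mem_coeffIdeal_two (IsLocalRing.maximalIdeal Λ) g
  rw [coeffIdeal_eq_pow, ← maximalIdeal_eq_coeffIdeal] at h1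
  have h2 : MvPowerSeries.constantCoeff g ∈ IsLocalRing.maximalIdeal Λ := by
    rw [maximalIdeal_eq_coeffIdeal, mem_coeffIdeal_one] at hg
    exact hg
  have h3 : g - ∑ i, MvPowerSeries.C (MvPowerSeries.coeff (Finsupp.single i 1) g) * MvPowerSeries.X i =
      (g - MvPowerSeries.C (MvPowerSeries.constantCoeff g) -
        ∑ i, MvPowerSeries.C (MvPowerSeries.coeff (Finsupp.single i 1) g) * MvPowerSeries.X i) +
      MvPowerSeries.C (MvPowerSeries.constantCoeff g) := by ring
  rw [h3]
  exact Ideal.add_mem _ (Submodule.mem_sup_left h1) (Submodule.mem_sup_right (C_mem_map_maximalIdeal h2))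

/-- Augmented maps carry `m² + m_Λ` into `m² + m_Λ`. -/
lemma homSet_map_relSq_le {S : CRing Λ k} {A : Art Λ k} (φ : HomSet S.carrier S.res A) :
    (relSq Λ S.carrier).map φ.1 ≤ relSq Λ A := by
  have hm : (IsLocalRing.maximalIdeal S.carrier).map φ.1 ≤ IsLocalRing.maximalIdeal A :=
    map_maximalIdeal_le S.res S.res_surjective A.res A.res_surjective φ.1 φ.2
  rw [relSq, Ideal.map_sup, Ideal.map_pow]
  apply sup_le_sup (Ideal.pow_right_mono hm 2)
  rw [Ideal.map_le_iff_le_comap, Ideal.map_le_iff_le_comap]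
  intro c hc
  rw [Ideal.mem_comap, Ideal.mem_comap, AlgHom.commutes]
  exact Ideal.mem_map_of_mem _ hc

include hk in
/-- Every object is a quotient of a power series ring inducing an isomorphism on relative cotangent spaces. -/
theorem exists_presentation (A : Art Λ k) :
    ∃ (r : ℕ) (ψ : HomSet (psCRing (Fin r) hk).carrier (psCRing (Fin r) hk).res A),
      Function.Surjective ψ.1 ∧
      ∀ g : MvPowerSeries (Fin r) Λ, g ∈ IsLocalRing.maximalIdeal (MvPowerSeries (Fin r) Λ) →
        ψ.1 g ∈ relSq Λ A → g ∈ relSq Λ (MvPowerSeries (Fin r) Λ) := by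
  obtain ⟨r, x, hxm, hxs, hxi⟩ := exists_min_gens hk A
  obtain ⟨ψ, hψ⟩ := psCRing_exists_homSet (σ := Fin r) hk A x hxm
  have hCψ : ∀ c : Λ, ψ.1 (MvPowerSeries.C c : MvPowerSeries (Fin r) Λ) = algebraMap Λ A c := by
    intro c
    have : (MvPowerSeries.C c : MvPowerSeries (Fin r) Λ) = algebraMap Λ (MvPowerSeries (Fin r) Λ) c := by
      rw [MvPowerSeries.algebraMap_apply, Algebra.algebraMap_self, RingHom.id_apply]
    rw [this]
    exact ψ.1.commutes c
  refine ⟨r, ψ, ?_, ?_⟩
  · haveI : IsPrecomplete (IsLocalRing.maximalIdeal (psCRing (Fin r) hk).carrier) (psCRing (Fin r) hk).carrier :=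
      (psCRing (Fin r) hk).isAdicComplete.toIsPrecomplete
    apply surjective_of_cotangent (psCRing (Fin r) hk).res (psCRing (Fin r) hk).res_surjective A.res
      A.res_surjective ψ.1 ψ.2
    apply le_antisymm
    · exact sup_le (map_maximalIdeal_le (psCRing (Fin r) hk).res (psCRing (Fin r) hk).res_surjective
        A.res A.res_surjective ψ.1 ψ.2) (Ideal.pow_le_self two_ne_zero)
    · refine (le_of_eq hxs.symm).trans ?_
      rw [relSq]
      apply sup_le
      · rw [Ideal.span_le]
        rintro _ ⟨i, rfl⟩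
        apply Submodule.mem_sup_left
        rw [← hψ i]
        apply Ideal.mem_map_of_mem
        rw [maximalIdeal_eq_coeffIdeal]
        exact X_mem_coeffIdeal_one _ i
      · apply sup_le le_sup_right
        refine le_trans ?_ le_sup_left
        rw [Ideal.map_le_iff_le_comap]
        intro c hc
        rw [Ideal.mem_comap, ← hCψ]
        apply Ideal.mem_map_of_mem
        rw [maximalIdeal_eq_coeffIdeal, mem_coeffIdeal_one, MvPowerSeries.constantCoeff_C]
        exact hc
  · intro g hg hψg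
    have h1 := sub_linear_mem_relSq g hg
    have h2 : ψ.1 (g - ∑ i, MvPowerSeries.C (MvPowerSeries.coeff (Finsupp.single i 1) g) *
        MvPowerSeries.X i) ∈ relSq Λ A :=
      homSet_map_relSq_le ψ (Ideal.mem_map_of_mem _ h1)
    have h3 : ∑ i, (MvPowerSeries.coeff (Finsupp.single i 1) g) • x i ∈ relSq Λ A := by
      have h4 : ψ.1 (∑ i, MvPowerSeries.C (MvPowerSeries.coeff (Finsupp.single i 1) g) *
          MvPowerSeries.X i) = ∑ i, (MvPowerSeries.coeff (Finsupp.single i 1) g) • x i := by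
        rw [map_sum]
        apply Finset.sum_congr rfl
        intro i _
        rw [map_mul, hCψ, hψ, Algebra.smul_def]
      rw [← h4]
      rw [map_sub] at h2
      have := Ideal.sub_mem _ hψg h2
      rwa [sub_sub_cancel] at this
    have h5 := hxi _ h3
    have h6 : ∑ i, MvPowerSeries.C (MvPowerSeries.coeff (Finsupp.single i 1) g) * MvPowerSeries.X i ∈
        relSq Λ (MvPowerSeries (Fin r) Λ) := by
      apply Ideal.sum_mem
      intro i _
      apply Ideal.mul_mem_right
      exact Submodule.mem_sup_right (C_mem_map_maximalIdeal (h5 i))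
    have := Ideal.add_mem _ h1 h6
    rwa [sub_add_cancel] at this

end Presentation

end Present

end Groth.Agent.Lib.Helper19
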