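import Groth.Agent.Lib.Helper19LimitGen
import Groth.Agent.Lib.Helper19Present

/-!
# Pro-representability of `h_O` for a local Noetherian augmented algebra `O`

For a local Noetherian `Λ`-algebra `O` with a surjective augmentation `resO : O → k`, the functor
`A ↦ HomSet O resO A` on `Art Λ k` is pro-represented by a coefficient ring (the completion of `O`, built here as the limit of
the tower `O / m^(n+1)` with `limitConcl_general`).
-/

set_option autoImplicit false
universe u

open CategoryTheory ArtFun ArtFun.Art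

namespace Groth.Agent.Lib.Helper19.LocPro

variable {Λ : Type u} {k : Type u} [CommRing Λ] [Field k] [Algebra Λ k]

section Trunc

variable (O : Type u) [CommRing O] [Algebra Λ O] [IsLocalRing O] (resO : O →ₐ[Λ] k)
  (hres : Function.Surjective resO)

include hres in
lemma mem_maximalIdeal_iff (a : O) : a ∈ IsLocalRing.maximalIdeal O ↔ resO a = 0 := by
  have hmax : (RingHom.ker (resO : O →+* k)).IsMaximal :=
    RingHom.ker_isMaximal_of_surjective (resO : O →+* k) hres
  rw [← IsLocalRing.eq_maximalIdeal hmax, RingHom.mem_ker]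
  rfl

/-- `m_O^(n+1)`. -/
abbrev mpow (n : ℕ) : Ideal O := IsLocalRing.maximalIdeal O ^ (n + 1)

lemma mpow_le (n : ℕ) : mpow O n ≤ IsLocalRing.maximalIdeal O :=
  Ideal.pow_le_self (Nat.succ_ne_zero n)

lemma mpow_ne_top (n : ℕ) : mpow O n ≠ ⊤ :=
  fun h => (IsLocalRing.maximalIdeal.isMaximal O).ne_top (top_le_iff.1 (h ▸ mpow_le O n))

instance nontrivial_quot_mpow (n : ℕ) : Nontrivial (O ⧸ mpow O n) :=
  Ideal.Quotient.nontrivial_iff.2 (mpow_ne_top O n)

instance isLocalRing_quot_mpow (n : ℕ) : IsLocalRing (O ⧸ mpow O n) :=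
  IsLocalRing.of_surjective' (Ideal.Quotient.mk (mpow O n)) Ideal.Quotient.mk_surjective

lemma maximalIdeal_quot_le (n : ℕ) :
    IsLocalRing.maximalIdeal (O ⧸ mpow O n) ≤
      (IsLocalRing.maximalIdeal O).map (Ideal.Quotient.mk (mpow O n)) := by
  intro x hx
  obtain ⟨a, rfl⟩ := Ideal.Quotient.mk_surjective x
  have ha : a ∈ IsLocalRing.maximalIdeal O := by
    rw [IsLocalRing.mem_maximalIdeal] at hx ⊢
    exact fun hu => hx (hu.map (Ideal.Quotient.mk (mpow O n)))
  exact Ideal.mem_map_of_mem _ ha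

lemma maximalIdeal_quot_eq (n : ℕ) :
    IsLocalRing.maximalIdeal (O ⧸ mpow O n) =
      (IsLocalRing.maximalIdeal O).map (Ideal.Quotient.mk (mpow O n)) :=
  (IsLocalRing.map_maximalIdeal_of_surjective (Ideal.Quotient.mk (mpow O n))
    Ideal.Quotient.mk_surjective).symm

variable [IsNoetherianRing O]

theorem isArtinianRing_quot_mpow (n : ℕ) : IsArtinianRing (O ⧸ mpow O n) := by
  rw [isArtinianRing_iff_isNilpotent_maximalIdeal]
  refine ⟨n + 1, ?_⟩
  rw [Ideal.zero_eq_bot, ← le_bot_iff]
  calc IsLocalRing.maximalIdeal (O ⧸ mpow O n) ^ (n + 1)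
      ≤ ((IsLocalRing.maximalIdeal O).map (Ideal.Quotient.mk (mpow O n))) ^ (n + 1) :=
        Ideal.pow_right_mono (maximalIdeal_quot_le O n) _
    _ = (mpow O n).map (Ideal.Quotient.mk (mpow O n)) := by rw [← Ideal.map_pow]
    _ = ⊥ := Ideal.map_quotient_self _
    _ ≤ ⊥ := le_rfl

/-- The truncation `O / m^(n+1)` as an object. -/
noncomputable def tr (n : ℕ) : Art Λ k :=
  { carrier := O ⧸ mpow O n
    isArtinianRing := isArtinianRing_quot_mpow O n
    res := Ideal.Quotient.liftₐ (mpow O n) resO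
      (fun a ha => (mem_maximalIdeal_iff O resO hres a).1 (mpow_le O n ha))
    res_surjective := fun c => by
      obtain ⟨a, ha⟩ := hres c
      exact ⟨Ideal.Quotient.mk _ a, ha⟩ }

/-- The quotient map. -/
noncomputable def trHom (n : ℕ) : HomSet O resO (tr O resO hres n) :=
  ⟨Ideal.Quotient.mkₐ Λ (mpow O n), Ideal.Quotient.liftₐ_comp _ _ _⟩

lemma trHom_surjective (n : ℕ) : Function.Surjective (trHom O resO hres n).1 :=
  Ideal.Quotient.mk_surjective

lemma trHom_eq_zero_iff (n : ℕ) (a : O) : (trHom O resO hres n).1 a = 0 ↔ a ∈ mpow O n :=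
  Ideal.Quotient.eq_zero_iff_mem

/-- The transition map. -/
noncomputable def trMap (n : ℕ) : tr O resO hres (n + 1) ⟶ tr O resO hres n :=
  ⟨Ideal.Quotient.liftₐ (mpow O (n + 1)) (Ideal.Quotient.mkₐ Λ (mpow O n)) (fun a ha =>
      Ideal.Quotient.eq_zero_iff_mem.2 (Ideal.pow_le_pow_right (Nat.le_succ _) ha)), by
    apply AlgHom.ext
    intro x
    obtain ⟨a, rfl⟩ := Ideal.Quotient.mk_surjective x
    rfl⟩

lemma trMap_trHom (n : ℕ) :
    HomSet.map (trMap O resO hres n) (trHom O resO hres (n + 1)) = trHom O resO hres n :=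
  Subtype.ext (AlgHom.ext fun _ => rfl)

lemma trMap_surjective (n : ℕ) : Function.Surjective (trMap O resO hres n) := by
  intro y
  obtain ⟨a, rfl⟩ := trHom_surjective O resO hres n y
  exact ⟨(trHom O resO hres (n + 1)).1 a, rfl⟩

end Trunc

end Groth.Agent.Lib.Helper19.LocPro
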