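import Groth.Agent.Lib.Helper19LocProA

/-!
# Pro-representability of `h_O` for a local Noetherian augmented algebra `O` (main statement)
-/

set_option autoImplicit false
universe u

open CategoryTheory ArtFun ArtFun.Art

namespace Groth.Agent.Lib.Helper19.LocPro

variable {Λ : Type u} {k : Type u} [CommRing Λ] [Field k] [Algebra Λ k]

section Bound

variable (O : Type u) [CommRing O] [Algebra Λ O] [IsLocalRing O] [IsNoetherianRing O]
  (resO : O →ₐ[Λ] k) (hres : Function.Surjective resO)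

/-- The embedding dimension of the truncations is bounded by that of `O`. -/
lemma finrank_cotangentSpace_tr_le (n : ℕ) :
    Module.finrank (IsLocalRing.ResidueField (tr O resO hres n))
      (IsLocalRing.CotangentSpace (tr O resO hres n)) ≤
    (IsLocalRing.maximalIdeal O).spanFinrank := by
  haveI : IsNoetherianRing (tr O resO hres n) := inferInstance
  rw [← IsLocalRing.spanFinrank_maximalIdeal_eq_finrank_cotangentSpace]
  obtain ⟨s, hs1, hs2⟩ := Submodule.FG.exists_span_finset_card_eq_spanFinrank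
    (IsNoetherian.noetherian (IsLocalRing.maximalIdeal O))
  have hmax : IsLocalRing.maximalIdeal (tr O resO hres n) =
      Ideal.span ((Ideal.Quotient.mk (mpow O n)) '' (s : Set O)) := by
    change IsLocalRing.maximalIdeal (O ⧸ mpow O n) = _
    rw [maximalIdeal_quot_eq, ← Ideal.map_span]
    congr 1
    exact hs2.symm
  rw [hmax, ← hs1]
  refine le_trans (Submodule.spanFinrank_span_le_ncard_of_finite ((s.finite_toSet).image _)) ?_
  refine le_trans (Set.ncard_image_le s.finite_toSet) ?_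
  rw [Set.ncard_coe_finset]

include hres in
/-- Every augmented map from `O` to an object factors through a truncation. -/
lemma exists_factor_tr {A : Art Λ k} (ψ : HomSet O resO A) :
    ∃ (n : ℕ) (f : tr O resO hres n ⟶ A), HomSet.map f (trHom O resO hres n) = ψ := by
  obtain ⟨N, hN⟩ := isNilpotent_maximalIdeal_of_artinian A
  have hmap : ∀ a ∈ IsLocalRing.maximalIdeal O, ψ.1 a ∈ IsLocalRing.maximalIdeal A := by
    intro a ha
    rw [Art.mem_maximalIdeal_iff]
    have h1 := AlgHom.congr_fun ψ.2 a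
    rw [AlgHom.comp_apply] at h1
    rw [h1]
    exact (mem_maximalIdeal_iff O resO hres a).1 ha
  have hle : Ideal.map ψ.1 (IsLocalRing.maximalIdeal O) ≤ IsLocalRing.maximalIdeal A := by
    rw [Ideal.map_le_iff_le_comap]
    exact fun a ha => hmap a ha
  have hkill : ∀ a ∈ mpow O N, ψ.1 a = 0 := by
    intro a ha
    have ha' : a ∈ IsLocalRing.maximalIdeal O ^ N := Ideal.pow_le_pow_right (Nat.le_succ N) ha
    have h1 : ψ.1 a ∈ Ideal.map ψ.1 (IsLocalRing.maximalIdeal O ^ N) := Ideal.mem_map_of_mem _ ha'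
    rw [Ideal.map_pow] at h1
    have h2 : ψ.1 a ∈ IsLocalRing.maximalIdeal A ^ N := Ideal.pow_right_mono hle _ h1
    rwa [hN, Ideal.zero_eq_bot, Ideal.mem_bot] at h2
  obtain ⟨f, hf⟩ := homSet_factor_of_surjective (trHom O resO hres N) (trHom_surjective O resO hres N) ψ
    (fun a ha => hkill a ((trHom_eq_zero_iff O resO hres N a).1 ha))
  exact ⟨N, f, hf⟩

end Bound

section TowerEquiv

variable {S O : Type u} [CommRing S] [Algebra Λ S] [CommRing O] [Algebra Λ O]
  {resS : S →ₐ[Λ] k} {resO : O →ₐ[Λ] k}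

/-- Two augmented algebras with compatible surjections onto a common tower of objects, through which all of their maps to objects
factor, have naturally isomorphic functors of points. -/
theorem exists_homSet_equiv_of_tower (A : ℕ → Art Λ k) (t : ∀ n, A (n + 1) ⟶ A n)
    (π : ∀ n, HomSet S resS (A n)) (q : ∀ n, HomSet O resO (A n))
    (hπc : ∀ n, HomSet.map (t n) (π (n + 1)) = π n) (hqc : ∀ n, HomSet.map (t n) (q (n + 1)) = q n)
    (hπs : ∀ n, Function.Surjective (π n).1) (hqs : ∀ n, Function.Surjective (q n).1)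
    (hπf : ∀ (B : Art Λ k) (φ : HomSet S resS B), ∃ (n : ℕ) (f : A n ⟶ B), HomSet.map f (π n) = φ)
    (hqf : ∀ (B : Art Λ k) (ψ : HomSet O resO B), ∃ (n : ℕ) (f : A n ⟶ B), HomSet.map f (q n) = ψ) :
    ∃ e : ∀ B : Art Λ k, HomSet S resS B ≃ HomSet O resO B,
      ∀ (B C : Art Λ k) (h : B ⟶ C) (φ : HomSet S resS B),
        e C (HomSet.map h φ) = HomSet.map h (e B φ) := by
  -- iterated transition maps
  have htr : ∀ n d, ∃ τ : A (n + d) ⟶ A n, HomSet.map τ (π (n + d)) = π n ∧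
      HomSet.map τ (q (n + d)) = q n := by
    intro n d
    induction d with
    | zero =>
      exact ⟨𝟙 _, Subtype.ext (AlgHom.ext fun _ => rfl), Subtype.ext (AlgHom.ext fun _ => rfl)⟩
    | succ d ih =>
      obtain ⟨τ, h1, h2⟩ := ih
      refine ⟨(t (n + d)) ≫ τ, ?_, ?_⟩
      · rw [← h1, ← hπc (n + d)]
        exact Subtype.ext (AlgHom.ext fun _ => rfl)
      · rw [← h2, ← hqc (n + d)]
        exact Subtype.ext (AlgHom.ext fun _ => rfl)
  have htr' : ∀ n n', n ≤ n' → ∃ τ : A n' ⟶ A n, HomSet.map τ (π n') = π n ∧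
      HomSet.map τ (q n') = q n := by
    intro n n' h
    obtain ⟨d, rfl⟩ := Nat.exists_eq_add_of_le h
    exact htr n d
  -- a morphism out of a stage is determined by its composite with a surjection
  have hepiπ : ∀ n (B : Art Λ k) (f g : A n ⟶ B), HomSet.map f (π n) = HomSet.map g (π n) → f = g := by
    intro n B f g h
    apply Art.hom_ext
    apply AlgHom.ext
    intro y
    obtain ⟨s, rfl⟩ := hπs n y
    exact AlgHom.congr_fun (congrArg Subtype.val h) s
  have hepiq : ∀ n (B : Art Λ k) (f g : A n ⟶ B), HomSet.map f (q n) = HomSet.map g (q n) → f = g := by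
    intro n B f g h
    apply Art.hom_ext
    apply AlgHom.ext
    intro y
    obtain ⟨s, rfl⟩ := hqs n y
    exact AlgHom.congr_fun (congrArg Subtype.val h) s
  have hmapmap : ∀ {R : Type u} [CommRing R] [Algebra Λ R] {resR : R →ₐ[Λ] k} {X Y Z : Art Λ k}
      (f : X ⟶ Y) (g : Y ⟶ Z) (φ : HomSet R resR X),
      HomSet.map g (HomSet.map f φ) = HomSet.map (f ≫ g) φ :=
    fun f g φ => Subtype.ext (AlgHom.ext fun _ => rfl)
  -- the relation
  let Rel : ∀ B : Art Λ k, HomSet S resS B → HomSet O resO B → Prop := fun B φ ψ =>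
    ∃ (n : ℕ) (f : A n ⟶ B), HomSet.map f (π n) = φ ∧ HomSet.map f (q n) = ψ
  have hRel_fun : ∀ B φ ψ ψ', Rel B φ ψ → Rel B φ ψ' → ψ = ψ' := by
    rintro B φ ψ ψ' ⟨n, f, h1, h2⟩ ⟨n', f', h1', h2'⟩
    obtain ⟨N, hN1, hN2⟩ : ∃ N, n ≤ N ∧ n' ≤ N := ⟨max n n', le_max_left _ _, le_max_right _ _⟩
    obtain ⟨τ, hτ1, hτ2⟩ := htr' n N hN1
    obtain ⟨τ', hτ1', hτ2'⟩ := htr' n' N hN2
    have hff : τ ≫ f = τ' ≫ f' := by
      apply hepiπ
      rw [← hmapmap, ← hmapmap, hτ1, hτ1', h1, h1']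
    rw [← h2, ← h2', ← hτ2, ← hτ2', hmapmap, hmapmap, hff]
  have hRel_inj : ∀ B φ φ' ψ, Rel B φ ψ → Rel B φ' ψ → φ = φ' := by
    rintro B φ φ' ψ ⟨n, f, h1, h2⟩ ⟨n', f', h1', h2'⟩
    obtain ⟨N, hN1, hN2⟩ : ∃ N, n ≤ N ∧ n' ≤ N := ⟨max n n', le_max_left _ _, le_max_right _ _⟩
    obtain ⟨τ, hτ1, hτ2⟩ := htr' n N hN1
    obtain ⟨τ', hτ1', hτ2'⟩ := htr' n' N hN2
    have hff : τ ≫ f = τ' ≫ f' := by
      apply hepiq
      rw [← hmapmap, ← hmapmap, hτ2, hτ2', h2, h2']
    rw [← h1, ← h1', ← hτ1, ← hτ1', hmapmap, hmapmap, hff]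
  have hRel_ex : ∀ B φ, ∃ ψ, Rel B φ ψ := by
    intro B φ
    obtain ⟨n, f, hf⟩ := hπf B φ
    exact ⟨HomSet.map f (q n), n, f, hf, rfl⟩
  have hRel_ex' : ∀ B ψ, ∃ φ, Rel B φ ψ := by
    intro B ψ
    obtain ⟨n, f, hf⟩ := hqf B ψ
    exact ⟨HomSet.map f (π n), n, f, rfl, hf⟩
  have hRel_nat : ∀ B C (h : B ⟶ C) φ ψ, Rel B φ ψ → Rel C (HomSet.map h φ) (HomSet.map h ψ) := by
    rintro B C h φ ψ ⟨n, f, h1, h2⟩
    exact ⟨n, f ≫ h, by rw [← h1, hmapmap], by rw [← h2, hmapmap]⟩
  choose F hF using hRel_ex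
  choose G hG using hRel_ex'
  refine ⟨fun B => ⟨F B, G B, fun φ => ?_, fun ψ => ?_⟩, fun B C h φ => ?_⟩
  · exact hRel_inj B _ _ _ (hG B (F B φ)) (hF B φ)
  · exact hRel_fun B _ _ _ (hF B (G B ψ)) (hG B ψ)
  · exact hRel_fun C _ _ _ (hF C (HomSet.map h φ)) (hRel_nat B C h φ _ (hF B φ))

end TowerEquiv

section Main

variable [IsNoetherianRing Λ] [Module.Finite Λ k]
variable (O : Type u) [CommRing O] [Algebra Λ O] [IsLocalRing O] [IsNoetherianRing O]
  (resO : O →ₐ[Λ] k) (hres : Function.Surjective resO)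

include hres in
/-- The functor of augmented maps out of a local Noetherian augmented algebra is pro-representable. -/
theorem exists_cring_homSet_equiv :
    ∃ (R : CRing Λ k) (e : ∀ B : Art Λ k, HomSet R.carrier R.res B ≃ HomSet O resO B),
      ∀ (B C : Art Λ k) (h : B ⟶ C) (φ : HomSet R.carrier R.res B),
        e C (HomSet.map h φ) = HomSet.map h (e B φ) := by
  obtain ⟨R, π, hπc, hπs, -, h4, -⟩ := limitConcl_general (tr O resO hres) (trMap O resO hres)
    (trMap_surjective O resO hres) _ (finrank_cotangentSpace_tr_le O resO hres)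
  have hπf : ∀ (B : Art Λ k) (φ : HomSet R.carrier R.res B),
      ∃ (n : ℕ) (f : tr O resO hres n ⟶ B), HomSet.map f (π n) = φ := by
    intro B φ
    obtain ⟨N, hN⟩ := homSet_kills_pow R φ
    obtain ⟨N', hN'⟩ := h4 N
    obtain ⟨f, hf⟩ := homSet_factor_of_surjective (π N') (hπs N') φ
      (fun a ha => hN a (hN' (RingHom.mem_ker.2 ha)))
    exact ⟨N', f, hf⟩
  obtain ⟨e, he⟩ := exists_homSet_equiv_of_tower (tr O resO hres) (trMap O resO hres) π
    (trHom O resO hres) hπc (trMap_trHom O resO hres) hπs (trHom_surjective O resO hres) hπf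
    (fun B ψ => exists_factor_tr O resO hres ψ)
  exact ⟨R, e, he⟩

end Main

end Groth.Agent.Lib.Helper19.LocPro
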