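import Groth.Agent.Lib.Helper19LocProB
import Groth.Prelude.Def_ArtFun6
import Mathlib.AlgebraicGeometry.Stalk
import Mathlib.AlgebraicGeometry.Noetherian

/-!
# The local functor of a scheme at a rational point is the functor of points of its local ring
-/

set_option autoImplicit false
universe u

open CategoryTheory ArtFun ArtFun.Art AlgebraicGeometry

namespace Groth.Agent.Lib.Helper19.LocPro

lemma exists_stalk_factor {X : Scheme.{u}} {R : CommRingCat.{u}} [IsLocalRing R] (g : Spec R ⟶ X) (x : X)
    (hx : g (IsLocalRing.closedPoint R) = x) :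
    ∃ φ : X.presheaf.stalk x ⟶ R, Spec.map φ ≫ X.fromSpecStalk x = g := by
  subst hx
  exact ⟨Scheme.stalkClosedPointTo g, Scheme.Spec_stalkClosedPointTo_fromSpecStalk g⟩

variable {k : Type u} [Field k]

theorem exists_local_algebra (M : Scheme.{u}) (m : M ⟶ Spec (CommRingCat.of k)) [IsLocallyNoetherian M]
    (x₀ : Spec (CommRingCat.of k) ⟶ M) (hx₀ : x₀ ≫ m = 𝟙 _) :
    ∃ (O : Type u) (_ : CommRing O) (_ : Algebra k O) (_ : IsLocalRing O) (_ : IsNoetherianRing O)
      (resO : O →ₐ[k] k) (_ : Function.Surjective resO)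
      (E : ∀ A : Art k k, HomSet O resO A ≃ {g : Art.spec A ⟶ M //
        g ≫ m = Art.specMap (Art.ofBase A) ∧ Art.specRes A ≫ g = x₀}),
      ∀ (A B : Art k k) (h : A ⟶ B) (φ : HomSet O resO A),
        (E B (HomSet.map h φ)).1 = Art.specMap h ≫ (E A φ).1 := by
  let x : M := x₀ (IsLocalRing.closedPoint k)
  let c : CommRingCat.of k ⟶ M.presheaf.stalk x := Spec.preimage (M.fromSpecStalk x ≫ m)
  have hc : Spec.map c = M.fromSpecStalk x ≫ m := Spec.map_preimage _
  let r : M.presheaf.stalk x ⟶ CommRingCat.of k := Scheme.stalkClosedPointTo x₀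
  have hr : Spec.map r ≫ M.fromSpecStalk x = x₀ := Scheme.Spec_stalkClosedPointTo_fromSpecStalk x₀
  have hcr : c ≫ r = 𝟙 _ := by
    apply Spec.map_injective
    rw [Spec.map_comp, hc, ← Category.assoc, hr, hx₀, Spec.map_id]
  letI alg : Algebra k (M.presheaf.stalk x) := c.hom.toAlgebra
  have halg : ∀ a : k, algebraMap k (M.presheaf.stalk x) a = c.hom a := fun a => rfl
  let resO : M.presheaf.stalk x →ₐ[k] k :=
    { r.hom with
      commutes' := fun a => by
        have := congrArg (fun f : CommRingCat.of k ⟶ CommRingCat.of k => f.hom a) hcr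
        exact this }
  have hresO : ∀ y, resO y = r.hom y := fun y => rfl
  have hres : Function.Surjective resO := fun a => ⟨algebraMap k _ a, resO.commutes a⟩
  have key : ∀ A : Art k k, ∃ E : HomSet (M.presheaf.stalk x) resO A ≃ {g : Art.spec A ⟶ M //
        g ≫ m = Art.specMap (Art.ofBase A) ∧ Art.specRes A ≫ g = x₀},
      ∀ φ, (E φ).1 = Spec.map (CommRingCat.ofHom φ.1.toRingHom) ≫ M.fromSpecStalk x := by
    intro A
    have P1 : ∀ φ : HomSet (M.presheaf.stalk x) resO A,
        (Spec.map (CommRingCat.ofHom φ.1.toRingHom) ≫ M.fromSpecStalk x) ≫ m =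
          Art.specMap (Art.ofBase A) := by
      intro φ
      rw [Category.assoc, ← hc, ← Spec.map_comp]
      congr 1
      ext a
      exact φ.1.commutes a
    have P2 : ∀ φ : HomSet (M.presheaf.stalk x) resO A,
        Art.specRes A ≫ (Spec.map (CommRingCat.ofHom φ.1.toRingHom) ≫ M.fromSpecStalk x) = x₀ := by
      intro φ
      rw [← hr, ← Category.assoc, ← Spec.map_comp]
      congr 2
      ext y
      exact AlgHom.congr_fun φ.2 y
    let toFun : HomSet (M.presheaf.stalk x) resO A → {g : Art.spec A ⟶ M //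
        g ≫ m = Art.specMap (Art.ofBase A) ∧ Art.specRes A ≫ g = x₀} := fun φ =>
      ⟨Spec.map (CommRingCat.ofHom φ.1.toRingHom) ≫ M.fromSpecStalk x, P1 φ, P2 φ⟩
    refine ⟨Equiv.ofBijective toFun ⟨?_, ?_⟩, fun φ => rfl⟩
    · intro φ φ' h
      have h1 : Spec.map (CommRingCat.ofHom φ.1.toRingHom) ≫ M.fromSpecStalk x =
          Spec.map (CommRingCat.ofHom φ'.1.toRingHom) ≫ M.fromSpecStalk x := congrArg Subtype.val h
      rw [cancel_mono] at h1
      have h2 := Spec.map_injective h1
      apply Subtype.ext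
      apply AlgHom.ext
      intro y
      exact congrArg (fun f : M.presheaf.stalk x ⟶ CommRingCat.of A => f.hom y) h2
    · rintro ⟨g, hg1, hg2⟩
      haveI : IsLocalHom (CommRingCat.ofHom A.res.toRingHom).hom :=
        ⟨fun a ha => (Art.isLocalHom (Art.toBase A)).map_nonunit a ha⟩
      have hx : g (IsLocalRing.closedPoint A) = x := by
        have h3 : (Art.specRes A ≫ g) (IsLocalRing.closedPoint k) = x := by rw [hg2]
        rw [Scheme.Hom.comp_apply] at h3
        rw [← h3]
        congr 1
        exact (Spec_closedPoint (f := CommRingCat.ofHom A.res.toRingHom)).symm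
      obtain ⟨ψ, hψ⟩ := exists_stalk_factor (R := CommRingCat.of A) g x hx
      have hψ1 : ∀ a : k, ψ.hom (algebraMap k _ a) = algebraMap k A a := by
        intro a
        have h4 : Spec.map (c ≫ ψ) = Spec.map (CommRingCat.ofHom (Art.ofBase A).toAlgHom.toRingHom) := by
          rw [Spec.map_comp, hc, ← Category.assoc, hψ, hg1]
        exact congrArg (fun f : CommRingCat.of k ⟶ CommRingCat.of A => f.hom a) (Spec.map_injective h4)
      have hψ2 : ∀ y, A.res (ψ.hom y) = r.hom y := by
        intro y
        have h5 : Spec.map (ψ ≫ CommRingCat.ofHom A.res.toRingHom) ≫ M.fromSpecStalk x =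
            Spec.map r ≫ M.fromSpecStalk x := by
          rw [Spec.map_comp, Category.assoc, hψ, hr]
          exact hg2
        rw [cancel_mono] at h5
        exact congrArg (fun f : M.presheaf.stalk x ⟶ CommRingCat.of k => f.hom y) (Spec.map_injective h5)
      let φ : HomSet (M.presheaf.stalk x) resO A :=
        ⟨{ ψ.hom with commutes' := hψ1 }, AlgHom.ext fun y => hψ2 y⟩
      refine ⟨φ, Subtype.ext ?_⟩
      exact hψ
  choose E hE using key
  refine ⟨M.presheaf.stalk x, inferInstance, alg, inferInstance, inferInstance, resO, hres, E, ?_⟩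
  intro A B h φ
  rw [hE, hE, ← Category.assoc, ← Spec.map_comp]
  rfl

end Groth.Agent.Lib.Helper19.LocPro
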