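import Mathlib

/-!
# Logarithmic differentials (helper19), part A: `dlog` calculus and the residue lemma
-/

set_option autoImplicit false
universe u

open KaehlerDifferential TensorProduct

namespace Groth.Agent.Lib.Helper19LogDiff

section Dlog

variable (k : Type u) {K : Type u} [Field k] [Field K] [Algebra k K]

/-- the logarithmic differential `g⁻¹ dg` -/
noncomputable def dlog (g : K) : Ω[K⁄k] := g⁻¹ • D k K g

theorem dlog_mul {g h : K} (hg : g ≠ 0) (hh : h ≠ 0) : dlog k (g * h) = dlog k g + dlog k h := by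
  unfold dlog
  rw [Derivation.leibniz, smul_add, smul_smul, smul_smul, mul_inv, add_comm]
  have h1 : g⁻¹ * h⁻¹ * h = g⁻¹ := by field_simp
  have h2 : g⁻¹ * h⁻¹ * g = h⁻¹ := by field_simp
  rw [h1, h2]

theorem dlog_one : dlog k (1 : K) = 0 := by
  unfold dlog
  rw [Derivation.map_one_eq_zero, smul_zero]

theorem dlog_inv {g : K} (hg : g ≠ 0) : dlog k g⁻¹ = -dlog k g := by
  have h := dlog_mul k hg (inv_ne_zero hg)
  rw [mul_inv_cancel₀ hg, dlog_one] at h
  exact eq_neg_of_add_eq_zero_right h.symm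

theorem dlog_div {g h : K} (hg : g ≠ 0) (hh : h ≠ 0) : dlog k (g / h) = dlog k g - dlog k h := by
  rw [div_eq_mul_inv, dlog_mul k hg (inv_ne_zero hh), dlog_inv k hh, sub_eq_add_neg]

theorem dlog_pow {g : K} (hg : g ≠ 0) (n : ℕ) : dlog k (g ^ n) = n • dlog k g := by
  induction n with
  | zero => rw [pow_zero, dlog_one, zero_smul]
  | succ n ih => rw [pow_succ, dlog_mul k (pow_ne_zero n hg) hg, ih, succ_nsmul]

end Dlog

section Residue

variable (k : Type u) [Field k] [CharZero k] (P : Type u) [CommRing P] [IsDomain P] [Algebra k P]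
  [Algebra.FormallySmooth k P] [Algebra.EssFiniteType k P]

/-- **residue lemma**: over a formally smooth `k`-domain `P` (char `0`) with `(q)` maximal,
`n · dq ∈ q · Ω_{P/k}` forces `n = 0`. -/
theorem eq_zero_of_smul_D_eq (q : P) (hq0 : q ≠ 0) (hq : (Ideal.span {q}).IsMaximal) (n : ℤ) (ω : Ω[P⁄k])
    (h : (n : P) • D k P q = q • ω) : n = 0 := by
  letI : Field (P ⧸ Ideal.span {q}) := Ideal.Quotient.field _
  haveI : Algebra.EssFiniteType k (P ⧸ Ideal.span {q}) :=
    Algebra.EssFiniteType.comp k P (P ⧸ Ideal.span {q})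
  haveI : Algebra.FormallySmooth k (P ⧸ Ideal.span {q}) := Algebra.FormallySmooth.of_perfectField
  have hf : Function.Surjective (algebraMap P (P ⧸ Ideal.span {q})) :=
    Ideal.Quotient.mk_surjective
  obtain ⟨l, hl⟩ := (Algebra.FormallySmooth.iff_split_injection (R := k) (P := P)
    (A := P ⧸ Ideal.span {q}) hf).mp inferInstance
  have hinj : Function.Injective (kerCotangentToTensor k P (P ⧸ Ideal.span {q})) := by
    intro a b hab
    have := congrArg l hab
    rwa [← LinearMap.comp_apply, ← LinearMap.comp_apply, hl] at this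
  have hker : RingHom.ker (algebraMap P (P ⧸ Ideal.span {q})) = Ideal.span {q} := by
    rw [Ideal.Quotient.algebraMap_eq, Ideal.mk_ker]
  have hqker : q ∈ RingHom.ker (algebraMap P (P ⧸ Ideal.span {q})) := by
    rw [hker]; exact Ideal.mem_span_singleton_self q
  have h0 : kerCotangentToTensor k P (P ⧸ Ideal.span {q})
      ((n : P) • Ideal.toCotangent _ ⟨q, hqker⟩) = 0 := by
    rw [map_smul, kerCotangentToTensor_toCotangent, TensorProduct.smul_tmul',
      TensorProduct.smul_tmul]
    change (1 : P ⧸ Ideal.span {q}) ⊗ₜ[P] ((n : P) • D k P q) = 0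
    rw [h, ← TensorProduct.smul_tmul]
    have h3 : q • (1 : P ⧸ Ideal.span {q}) = 0 := by
      rw [Algebra.smul_def, mul_one, Ideal.Quotient.algebraMap_eq, Ideal.Quotient.eq_zero_iff_mem]
      exact Ideal.mem_span_singleton_self q
    rw [h3, TensorProduct.zero_tmul]
  have h1 : (n : P) • Ideal.toCotangent _ (⟨q, hqker⟩ : RingHom.ker (algebraMap P (P ⧸ Ideal.span {q})))
      = 0 := hinj (by rw [h0, map_zero])
  rw [← map_smul, Ideal.toCotangent_eq_zero] at h1
  have h2 : (n : P) * q ∈ Ideal.span {q} ^ 2 := by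
    rw [← hker]
    exact h1
  rw [Ideal.span_singleton_pow, Ideal.mem_span_singleton'] at h2
  obtain ⟨r, hr⟩ := h2
  by_contra hn
  have hnq : (n : P) = q * r := by
    have h4 : q * (n : P) = q * (q * r) := by rw [mul_comm, ← hr]; ring
    exact mul_left_cancel₀ hq0 h4
  have hnu : IsUnit ((n : ℤ) : P) := by
    have h5 : ((n : ℤ) : P) = algebraMap k P ((n : ℤ) : k) := by rw [map_intCast]
    rw [h5]
    exact (IsUnit.mk0 _ (Int.cast_ne_zero.mpr hn)).map _
  have : (n : P) ∈ Ideal.span {q} := by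
    rw [hnq]; exact Ideal.mul_mem_right _ _ (Ideal.mem_span_singleton_self q)
  exact hq.ne_top (Ideal.eq_top_of_isUnit_mem _ this hnu)

end Residue

end Groth.Agent.Lib.Helper19LogDiff
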