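import Mathlib
import Groth.Agent.Lib.Helper19LogDiffA

/-!
# Logarithmic differentials (helper19), part B: regularity at a height-one prime
-/

set_option autoImplicit false
universe u

open KaehlerDifferential TensorProduct

namespace Groth.Agent.Lib.Helper19LogDiff

section Local

variable (k : Type u) [Field k] [CharZero k] {R : Type u} [CommRing R] [IsDomain R] [Algebra k R]
  {K : Type u} [Field K] [Algebra R K] [IsFractionRing R K] [Algebra k K] [IsScalarTower k R K]
  (q : R) [hqp : (Ideal.span {q}).IsPrime]
  (P : Type u) [CommRing P] [Algebra R P] [IsLocalization.AtPrime P (Ideal.span {q})]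
  [Algebra P K] [IsScalarTower R P K] [Algebra k P] [IsScalarTower k R P] [IsScalarTower k P K]

/-- the differentials regular at `q` -/
noncomputable def regAt : Submodule P Ω[K⁄k] := LinearMap.range (map k k P K)

theorem D_mem_regAt (x : P) : D k K (algebraMap P K x) ∈ regAt k (K := K) P :=
  ⟨D k P x, map_D k k P K x⟩

theorem map_mem_regAt (η : Ω[R⁄k]) : map k k R K η ∈ regAt k (K := K) P := by
  have hspan := KaehlerDifferential.span_range_derivation k R
  have hη : η ∈ Submodule.span R (Set.range (D k R)) := by rw [hspan]; exact Submodule.mem_top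
  induction hη using Submodule.span_induction with
  | mem x hx =>
    obtain ⟨r, rfl⟩ := hx
    rw [map_D, IsScalarTower.algebraMap_apply R P K]
    exact D_mem_regAt k P _
  | zero => rw [map_zero]; exact Submodule.zero_mem _
  | add x y _ _ hx hy => rw [map_add]; exact Submodule.add_mem _ hx hy
  | smul a x _ hx =>
    rw [map_smul, ← algebraMap_smul P a]
    exact Submodule.smul_mem _ _ hx

theorem smul_mem_regAt (c : R) {w : Ω[K⁄k]} (hw : w ∈ regAt k (K := K) P) :
    algebraMap R K c • w ∈ regAt k (K := K) P := by
  have : algebraMap R K c • w = algebraMap R P c • w := by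
    rw [IsScalarTower.algebraMap_apply R P K, algebraMap_smul]
  rw [this]
  exact Submodule.smul_mem _ _ hw

theorem dlog_mem_regAt (x : R) (hx : x ∉ Ideal.span {q}) :
    dlog k (algebraMap R K x) ∈ regAt k (K := K) P := by
  have hu : IsUnit (algebraMap R P x) :=
    IsLocalization.map_units P (⟨x, hx⟩ : (Ideal.span {q}).primeCompl)
  obtain ⟨u, hu'⟩ := hu
  have h1 : (algebraMap R K x)⁻¹ = algebraMap P K ((u⁻¹ : Pˣ) : P) := by
    rw [IsScalarTower.algebraMap_apply R P K, ← hu']
    apply inv_eq_of_mul_eq_one_right
    rw [← map_mul, Units.mul_inv, map_one]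
  unfold dlog
  rw [h1, algebraMap_smul, IsScalarTower.algebraMap_apply R P K]
  exact Submodule.smul_mem _ _ (D_mem_regAt k P _)

end Local

section LocalResidue

variable (k : Type u) [Field k] [CharZero k] {R : Type u} [CommRing R] [IsDomain R] [Algebra k R]
  [Algebra.FormallySmooth k R] [Algebra.EssFiniteType k R]
  {K : Type u} [Field K] [Algebra R K] [IsFractionRing R K] [Algebra k K] [IsScalarTower k R K]
  (q : R) [hqp : (Ideal.span {q}).IsPrime]
  (P : Type u) [CommRing P] [Algebra R P] [IsLocalization.AtPrime P (Ideal.span {q})]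
  [Algebra P K] [IsScalarTower R P K] [Algebra k P] [IsScalarTower k R P] [IsScalarTower k P K]

include hqp in
/-- **no logarithmic pole**: a nonzero multiple of `dlog q` is not regular at `q`. -/
theorem eq_zero_of_zsmul_dlog_mem_regAt (hq0 : q ≠ 0) (n : ℤ)
    (h : n • dlog k (algebraMap R K q) ∈ regAt k (K := K) P) : n = 0 := by
  have hle : (Ideal.span {q}).primeCompl ≤ nonZeroDivisors R := by
    intro x hx
    apply mem_nonZeroDivisors_of_ne_zero
    rintro rfl
    exact hx (Ideal.zero_mem _)
  have : IsDomain P := IsLocalization.isDomain_of_le_nonZeroDivisors P hle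
  have : Algebra.FormallySmooth R P :=
    (Algebra.FormallySmooth.of_isLocalization (R := R) (Rₘ := P) (Ideal.span {q}).primeCompl :
      Algebra.FormallySmooth R P)
  have : Algebra.FormallySmooth k P := Algebra.FormallySmooth.comp k R P
  have : Algebra.EssFiniteType R P :=
    Algebra.EssFiniteType.of_isLocalization P (Ideal.span {q}).primeCompl
  have : Algebra.EssFiniteType k P := Algebra.EssFiniteType.comp k R P
  have : IsFractionRing P K :=
    IsFractionRing.isFractionRing_of_isDomain_of_isLocalization (Ideal.span {q}).primeCompl P K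
  have : IsLocalRing P := IsLocalization.AtPrime.isLocalRing P (Ideal.span {q})
  have hinjRP : Function.Injective (algebraMap R P) := IsLocalization.injective P hle
  have hqP0 : algebraMap R P q ≠ 0 := by
    intro h0
    exact hq0 (hinjRP (by rw [h0, map_zero]))
  have hmax : (Ideal.span {algebraMap R P q}).IsMaximal := by
    have h1 : Ideal.span {algebraMap R P q} = IsLocalRing.maximalIdeal P := by
      rw [← IsLocalization.AtPrime.map_eq_maximalIdeal (Ideal.span {q}) P, Ideal.map_span,
        Set.image_singleton]
    rw [h1]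
    infer_instance
  obtain ⟨ω, hω⟩ := h
  have hqK0 : algebraMap R K q ≠ 0 := by
    intro h0
    exact hq0 (IsFractionRing.injective R K (by rw [h0, map_zero]))
  -- multiply by `q`
  have h2 : map k k P K (algebraMap R P q • ω) = map k k P K ((n : P) • D k P (algebraMap R P q)) := by
    rw [map_smul, hω, Int.cast_smul_eq_zsmul, map_zsmul, map_D, ← IsScalarTower.algebraMap_apply,
      ← algebraMap_smul K (algebraMap R P q), ← IsScalarTower.algebraMap_apply, smul_comm]
    congr 1
    unfold dlog
    rw [smul_smul, mul_inv_cancel₀ hqK0, one_smul]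
  -- injectivity of `Ω_P → Ω_K`
  have hinj : ∀ x : Ω[P⁄k], map k k P K x = 0 → x = 0 := by
    intro x hx
    obtain ⟨c, hc⟩ := (IsLocalizedModule.eq_zero_iff (nonZeroDivisors P) (map k k P K)).mp hx
    have hc0 : (c : P) ≠ 0 := nonZeroDivisors.ne_zero c.2
    have hreg : IsSMulRegular Ω[P⁄k] (c : P) :=
      Module.IsTorsionFree.isSMulRegular (IsRegular.of_ne_zero hc0)
    exact hreg.right_eq_zero_of_smul hc
  have h3 : (n : P) • D k P (algebraMap R P q) = algebraMap R P q • ω := by
    have := hinj ((n : P) • D k P (algebraMap R P q) - algebraMap R P q • ω) (by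
      rw [map_sub, h2, sub_self])
    exact sub_eq_zero.mp this
  exact eq_zero_of_smul_D_eq k P (algebraMap R P q) hqP0 hmax n ω h3

end LocalResidue

end Groth.Agent.Lib.Helper19LogDiff
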