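import Mathlib
import Groth.Agent.Lib.Helper19LogDiffB

/-!
# Logarithmic differentials (helper19), part C: the induction over prime factors
-/

set_option autoImplicit false
universe u

open KaehlerDifferential TensorProduct

namespace Groth.Agent.Lib.Helper19LogDiff

section Zpow

variable (k : Type u) {K : Type u} [Field k] [Field K] [Algebra k K]

theorem dlog_zpow {g : K} (hg : g ≠ 0) (z : ℤ) : dlog k (g ^ z) = z • dlog k g := by
  cases z with
  | ofNat n =>
    rw [Int.ofNat_eq_natCast, zpow_natCast, dlog_pow k hg, natCast_zsmul]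
  | negSucc n =>
    rw [zpow_negSucc, dlog_inv k (pow_ne_zero _ hg), dlog_pow k hg, negSucc_zsmul]

end Zpow

section NoPole

variable (k : Type u) [Field k] [CharZero k] {R : Type u} [CommRing R] [IsDomain R] [Algebra k R]
  [Algebra.FormallySmooth k R] [Algebra.EssFiniteType k R]
  {K : Type u} [Field K] [Algebra R K] [IsFractionRing R K] [Algebra k K] [IsScalarTower k R K]

/-- the logarithmic differential of an element of `R`, in `Ω_{K/k}` -/
noncomputable def dl (x : R) : Ω[K⁄k] := dlog k (algebraMap R K x)

theorem no_pole (q : R) (hq : Prime q) (n : ℤ) (x y : R) (hx : ¬ q ∣ x) (hy : ¬ q ∣ y)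
    {ι : Type} (s : Finset ι) (f c : ι → R) (hf : ∀ i ∈ s, ¬ q ∣ f i) (η : Ω[R⁄k])
    (h : n • dl k (K := K) q + (dl k (K := K) x - dl k (K := K) y)
       = map k k R K η + ∑ i ∈ s, algebraMap R K (c i) • dl k (K := K) (f i)) : n = 0 := by
  haveI hqp : (Ideal.span {q}).IsPrime := (Ideal.span_singleton_prime hq.ne_zero).mpr hq
  have hle : (Ideal.span {q}).primeCompl ≤ nonZeroDivisors R := by
    intro x hx
    apply mem_nonZeroDivisors_of_ne_zero
    rintro rfl
    exact hx (Ideal.zero_mem _)
  letI alg : Algebra (Localization.AtPrime (Ideal.span {q})) K :=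
    (IsLocalization.lift (M := (Ideal.span {q}).primeCompl)
      (S := Localization.AtPrime (Ideal.span {q}))
      (g := algebraMap R K) (fun y => by
        apply IsUnit.mk0
        intro h0
        have := IsFractionRing.injective R K (h0.trans (map_zero _).symm)
        exact nonZeroDivisors.ne_zero (hle y.2) this)).toAlgebra
  haveI : IsScalarTower R (Localization.AtPrime (Ideal.span {q})) K := by
    apply IsScalarTower.of_algebraMap_eq
    intro x
    exact (IsLocalization.lift_eq _ x).symm
  haveI : IsScalarTower k (Localization.AtPrime (Ideal.span {q})) K := by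
    apply IsScalarTower.of_algebraMap_eq
    intro x
    rw [IsScalarTower.algebraMap_apply k R K,
      IsScalarTower.algebraMap_apply k R (Localization.AtPrime (Ideal.span {q})),
      ← IsScalarTower.algebraMap_apply R (Localization.AtPrime (Ideal.span {q})) K]
  apply eq_zero_of_zsmul_dlog_mem_regAt k q (Localization.AtPrime (Ideal.span {q})) hq.ne_zero n
    (K := K)
  have hmem : ∀ z : R, ¬ q ∣ z → z ∉ Ideal.span {q} := fun z hz hz' =>
    hz (Ideal.mem_span_singleton.mp hz')
  have e : n • dlog k (algebraMap R K q) = (map k k R K η +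
      ∑ i ∈ s, algebraMap R K (c i) • dl k (K := K) (f i)) - (dl k (K := K) x - dl k (K := K) y) := by
    rw [← h]; unfold dl; abel
  rw [e]
  refine Submodule.sub_mem _ (Submodule.add_mem _ (map_mem_regAt k _ η)
    (Submodule.sum_mem _ fun i hi => smul_mem_regAt k _ _ (dlog_mem_regAt k q _ _ (hmem _ (hf i hi)))))
    (Submodule.sub_mem _ (dlog_mem_regAt k q _ _ (hmem _ hx)) (dlog_mem_regAt k q _ _ (hmem _ hy)))

end NoPole

end Groth.Agent.Lib.Helper19LogDiff
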