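import Mathlib
import Groth.Agent.Lib.Helper19LogDiffC

/-!
# Logarithmic differentials (helper19), part D: the induction over prime factors
-/

set_option autoImplicit false
universe u

open KaehlerDifferential TensorProduct

namespace Groth.Agent.Lib.Helper19LogDiff

section Induction

variable (k : Type u) [Field k] [CharZero k] {R : Type u} [CommRing R] [IsDomain R] [Algebra k R]
  [Algebra.FormallySmooth k R] [Algebra.EssFiniteType k R]
  {K : Type u} [Field K] [Algebra R K] [IsFractionRing R K] [Algebra k K] [IsScalarTower k R K]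

theorem algebraMap_ne_zero' {x : R} (hx : x ≠ 0) : algebraMap R K x ≠ 0 := by
  intro h0
  exact hx (IsFractionRing.injective R K (h0.trans (map_zero _).symm))

theorem dl_mul {x y : R} (hx : x ≠ 0) (hy : y ≠ 0) :
    dl k (K := K) (x * y) = dl k (K := K) x + dl k (K := K) y := by
  unfold dl
  rw [map_mul, dlog_mul k (algebraMap_ne_zero' hx) (algebraMap_ne_zero' hy)]

theorem dl_pow {x : R} (hx : x ≠ 0) (n : ℕ) :
    dl k (K := K) (x ^ n) = n • dl k (K := K) x := by
  unfold dl
  rw [map_pow, dlog_pow k (algebraMap_ne_zero' hx)]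

theorem dl_unit (u : Rˣ) :
    dl k (K := K) (u : R) = map k k R K (((u⁻¹ : Rˣ) : R) • D k R (u : R)) := by
  unfold dl dlog
  rw [map_smul, map_D, ← algebraMap_smul K (((u⁻¹ : Rˣ) : R))]
  congr 1
  apply inv_eq_of_mul_eq_one_right
  rw [← map_mul, Units.mul_inv, map_one]

theorem dl_unit_zpow (u : Rˣ) (z : ℤ) :
    dl k (K := K) ((u ^ z : Rˣ) : R) = z • dl k (K := K) (u : R) := by
  unfold dl
  have h1 : algebraMap R K ((u ^ z : Rˣ) : R) = (algebraMap R K (u : R)) ^ z := by
    have := map_zpow (Units.map (algebraMap R K).toMonoidHom) u z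
    have h2 := congrArg Units.val this
    rw [Units.val_zpow_eq_zpow_val] at h2
    exact h2
  rw [h1, dlog_zpow k (algebraMap_ne_zero' u.ne_zero)]

variable {r : ℕ} (f : Fin r → R)

/-- hypothesis: `dlog (x/y)` has at worst logarithmic poles -/
def Hyp (x y : R) : Prop :=
  ∃ (η : Ω[R⁄k]) (c : Fin r → R), dl k (K := K) x - dl k (K := K) y =
    map k k R K η + ∑ i, algebraMap R K (c i) • dl k (K := K) (f i)

/-- conclusion: `dlog (x/y)` is a unit dlog plus an integer combination -/
def Concl (x y : R) : Prop :=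
  ∃ (v : Rˣ) (b : Fin r → ℤ), dl k (K := K) x - dl k (K := K) y =
    dl k (K := K) (v : R) + ∑ i, b i • dl k (K := K) (f i)

variable [UniqueFactorizationMonoid R]

theorem concl_of_hyp (hf : ∀ i, Prime (f i)) : ∀ z : R, ∀ x y : R, x * y = z → x ≠ 0 → y ≠ 0 →
    Hyp k (K := K) f x y → Concl k (K := K) f x y := by
  intro z
  induction z using (wellFounded_dvdNotUnit (α := R)).induction with
  | _ z IH =>
  intro x y hxy hx hy hH
  by_cases hu : IsUnit (x * y)
  · -- both units
    obtain ⟨ux, rfl⟩ := isUnit_of_mul_isUnit_left hu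
    obtain ⟨uy, rfl⟩ := isUnit_of_mul_isUnit_right hu
    refine ⟨ux * uy⁻¹, fun _ => 0, ?_⟩
    rw [Units.val_mul, dl_mul k ux.ne_zero (uy⁻¹).ne_zero]
    have h1 : dl k (K := K) ((uy⁻¹ : Rˣ) : R) = - dl k (K := K) (uy : R) := by
      have := dl_unit_zpow k (K := K) uy (-1)
      rw [zpow_neg_one, neg_one_zsmul] at this
      exact this
    rw [h1]
    simp only [zero_smul, Finset.sum_const_zero, add_zero]
    abel
  · obtain ⟨q, hqirr, hqdvd⟩ := WfDvdMonoid.exists_irreducible_factor hu (mul_ne_zero hx hy)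
    have hq : Prime q := UniqueFactorizationMonoid.irreducible_iff_prime.mp hqirr
    obtain ⟨n, x', hx', hxe⟩ := WfDvdMonoid.max_power_factor hx hqirr
    obtain ⟨m, y', hy', hye⟩ := WfDvdMonoid.max_power_factor hy hqirr
    have hx'0 : x' ≠ 0 := by rintro rfl; rw [mul_zero] at hxe; exact hx hxe
    have hy'0 : y' ≠ 0 := by rintro rfl; rw [mul_zero] at hye; exact hy hye
    have hnm : n + m ≠ 0 := by
      intro h0
      have hn : n = 0 := by omega
      have hm : m = 0 := by omega
      rw [hn, pow_zero, one_mul] at hxe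
      rw [hm, pow_zero, one_mul] at hye
      rcases hq.dvd_or_dvd hqdvd with h | h
      · exact hx' (hxe ▸ h)
      · exact hy' (hye ▸ h)
    have hdnu : DvdNotUnit (x' * y') z := by
      refine ⟨mul_ne_zero hx'0 hy'0, q ^ (n + m), ?_, ?_⟩
      · intro hunit
        exact hqirr.not_isUnit (isUnit_of_dvd_unit (dvd_pow_self q hnm) hunit)
      · rw [← hxy, hxe, hye, pow_add]; ring
    set d : ℤ := (n : ℤ) - (m : ℤ) with hd
    have hkey : dl k (K := K) x - dl k (K := K) y =
        d • dl k (K := K) q + (dl k (K := K) x' - dl k (K := K) y') := by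
      rw [hxe, hye, dl_mul k (pow_ne_zero _ hq.ne_zero) hx'0,
        dl_mul k (pow_ne_zero _ hq.ne_zero) hy'0, dl_pow k hq.ne_zero, dl_pow k hq.ne_zero, hd,
        sub_smul, natCast_zsmul, natCast_zsmul]
      abel
    obtain ⟨η, c, hηc⟩ := hH
    by_cases hA : ∃ i, Associated q (f i)
    · obtain ⟨i, u, hui⟩ := hA
      have hfi : dl k (K := K) (f i) = dl k (K := K) q + dl k (K := K) (u : R) := by
        rw [← hui, dl_mul k hq.ne_zero u.ne_zero]
      have hH' : Hyp k (K := K) f x' y' := by
        refine ⟨η + d • (((u⁻¹ : Rˣ) : R) • D k R (u : R)),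
          fun j => c j - (if j = i then (d : R) else 0), ?_⟩
        have e1 : dl k (K := K) x' - dl k (K := K) y' =
            map k k R K η + ∑ j, algebraMap R K (c j) • dl k (K := K) (f j)
              - d • dl k (K := K) q := by
          rw [← hηc, hkey]; abel
        rw [e1]
        have hs1 : ∑ j, algebraMap R K (if j = i then (d : R) else 0) • dl k (K := K) (f j) =
            d • dl k (K := K) (f i) := by
          rw [Finset.sum_eq_single i (fun j _ hj => by rw [if_neg hj, map_zero, zero_smul])
            (fun hi => absurd (Finset.mem_univ i) hi), if_pos rfl, map_intCast,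
            Int.cast_smul_eq_zsmul]
        simp only [map_sub, sub_smul, Finset.sum_sub_distrib]
        rw [hs1, map_add, map_zsmul, ← dl_unit k (K := K) u, hfi, smul_add]
        abel
      obtain ⟨v, b, hvb⟩ := IH _ hdnu x' y' rfl hx'0 hy'0 hH'
      refine ⟨v * u ^ (-d), fun j => b j + (if j = i then d else 0), ?_⟩
      rw [hkey, hvb, Units.val_mul, dl_mul k v.ne_zero (u ^ (-d)).ne_zero, dl_unit_zpow]
      have hs2 : ∑ j, (if j = i then d else 0) • dl k (K := K) (f j) =
          d • dl k (K := K) (f i) := by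
        rw [Finset.sum_eq_single i (fun j _ hj => by rw [if_neg hj, zero_smul])
          (fun hi => absurd (Finset.mem_univ i) hi), if_pos rfl]
      simp only [add_smul, Finset.sum_add_distrib]
      rw [hs2, hfi, smul_add, neg_smul]
      abel
    · have hA' : ∀ i, ¬ q ∣ f i := by
        intro i hdvd
        apply hA
        exact ⟨i, hqirr.associated_of_dvd (hf i).irreducible hdvd⟩
      have hd0 : d = 0 := by
        apply no_pole k (K := K) q hq d x' y' hx' hy' Finset.univ f c (fun i _ => hA' i) η
        rw [← hkey, hηc]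
      rw [hd0, zero_smul, zero_add] at hkey
      have hH' : Hyp k (K := K) f x' y' := ⟨η, c, by rw [← hkey, hηc]⟩
      obtain ⟨v, b, hvb⟩ := IH _ hdnu x' y' rfl hx'0 hy'0 hH'
      exact ⟨v, b, by rw [hkey, hvb]⟩

end Induction

end Groth.Agent.Lib.Helper19LogDiff
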