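import Mathlib

/-!
# Sections of first-order thickenings of smooth algebras compatible with marked points
-/

set_option autoImplicit false
universe u v

open TrivSqZeroExt KaehlerDifferential

namespace Groth.Agent.Lib.Helper19.Marked

variable {k : Type u} [Field k] {B₀ B' : Type u} [CommRing B₀] [CommRing B'] [Algebra k B₀]
  [Algebra k B']

/-- a derivation of `B₀` with prescribed values at finitely many rational points -/
theorem exists_derivation_with_values [Algebra.FormallySmooth k B₀]
    {ι : Type v} [Finite ι] (π : ι → B₀ →ₐ[k] k) (hπ : Function.Injective π)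
    (δ : ι → B₀ →ₗ[k] k) (hδ : ∀ j a b, δ j (a * b) = π j a * δ j b + δ j a * π j b) :
    ∃ D : Derivation k B₀ B₀, ∀ j b, π j (D b) = δ j b := by
  classical
  let m : ι → Ideal B₀ := fun j => RingHom.ker (π j : B₀ →+* k)
  have hmem : ∀ j (b : B₀), b - algebraMap k B₀ (π j b) ∈ m j := by
    intro j b
    change _ ∈ RingHom.ker (π j : B₀ →+* k)
    rw [RingHom.mem_ker, map_sub]
    change π j b - π j (algebraMap k B₀ (π j b)) = 0
    rw [AlgHom.commutes]
    exact sub_self _
  have hmax : ∀ j, (m j).IsMaximal := fun j =>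
    RingHom.ker_isMaximal_of_surjective (π j : B₀ →+* k)
      (fun c => ⟨algebraMap k B₀ c, (π j).commutes c⟩)
  have hne : ∀ j j', j ≠ j' → m j ≠ m j' := by
    intro j j' hjj' heq
    apply hjj'
    apply hπ
    apply AlgHom.ext
    intro b
    have h1 := hmem j b
    rw [heq] at h1
    change _ ∈ RingHom.ker (π j' : B₀ →+* k) at h1
    rw [RingHom.mem_ker, map_sub] at h1
    change π j' b - π j' (algebraMap k B₀ (π j b)) = 0 at h1
    rw [AlgHom.commutes, sub_eq_zero] at h1
    exact h1.symm
  have hcop : Pairwise (Function.onFun IsCoprime m) := by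
    intro j j' hjj'
    exact Ideal.isCoprime_iff_sup_eq.2 (Ideal.IsMaximal.coprime_of_ne (hmax j) (hmax j') (hne j j' hjj'))
  -- the derivation into the product of the residue rings
  let δt : Derivation k B₀ (∀ j, B₀ ⧸ m j) :=
    { toFun := fun b j => Ideal.Quotient.mk (m j) (algebraMap k B₀ (δ j b))
      map_add' := by
        intro a b
        funext j
        simp only [map_add, Pi.add_apply]
      map_smul' := by
        intro c b
        funext j
        simp only [map_smul, smul_eq_mul, map_mul, RingHom.id_apply, Pi.smul_apply]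
        rw [Algebra.smul_def]
        rfl
      map_one_eq_zero' := by
        funext j
        have h1 := hδ j 1 1
        rw [mul_one, map_one (π j), one_mul, mul_one] at h1
        have h2 : δ j 1 = 0 := by
          have : δ j 1 + 0 = δ j 1 + δ j 1 := by rw [add_zero]; exact h1
          exact (add_left_cancel this).symm
        change Ideal.Quotient.mk (m j) (algebraMap k B₀ (δ j 1)) = 0
        rw [h2, map_zero, map_zero]
      leibniz' := by
        intro a b
        funext j
        change Ideal.Quotient.mk (m j) (algebraMap k B₀ (δ j (a * b))) =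
          a • Ideal.Quotient.mk (m j) (algebraMap k B₀ (δ j b)) +
            b • Ideal.Quotient.mk (m j) (algebraMap k B₀ (δ j a))
        rw [hδ, Algebra.smul_def, Algebra.smul_def, Ideal.Quotient.algebraMap_eq, ← map_mul,
          ← map_mul, ← map_add, Ideal.Quotient.eq]
        have h1 := (m j).mul_mem_right (algebraMap k B₀ (δ j b)) (hmem j a)
        have h2 := (m j).mul_mem_right (algebraMap k B₀ (δ j a)) (hmem j b)
        have h3 : algebraMap k B₀ (π j a * δ j b + δ j a * π j b) -
            (a * algebraMap k B₀ (δ j b) + b * algebraMap k B₀ (δ j a)) =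
            -((a - algebraMap k B₀ (π j a)) * algebraMap k B₀ (δ j b)) -
              ((b - algebraMap k B₀ (π j b)) * algebraMap k B₀ (δ j a)) := by
          rw [map_add, map_mul, map_mul]
          ring
        rw [h3]
        exact (m j).sub_mem ((m j).neg_mem h1) h2 }
  have hδt : ∀ b j, δt b j = Ideal.Quotient.mk (m j) (algebraMap k B₀ (δ j b)) := fun _ _ => rfl
  obtain ⟨l, hl⟩ := Module.projective_lifting_property
    (LinearMap.pi fun j => (m j).mkQ) δt.liftKaehlerDifferential (Ideal.pi_mkQ_surjective hcop)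
  refine ⟨l.compDer (KaehlerDifferential.D k B₀), fun j b => ?_⟩
  have h1 : (LinearMap.pi fun j => (m j).mkQ) (l (KaehlerDifferential.D k B₀ b)) j = δt b j := by
    have := congrArg (fun f => f (KaehlerDifferential.D k B₀ b) j) hl
    simp only [LinearMap.comp_apply] at this
    rw [this, Derivation.liftKaehlerDifferential_comp_D]
  rw [hδt] at h1
  change Ideal.Quotient.mk (m j) (l (KaehlerDifferential.D k B₀ b)) = _ at h1
  rw [Ideal.Quotient.eq] at h1
  change _ ∈ RingHom.ker (π j : B₀ →+* k) at h1
  rw [RingHom.mem_ker, map_sub] at h1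
  change π j (l (KaehlerDifferential.D k B₀ b)) - π j (algebraMap k B₀ (δ j b)) = 0 at h1
  rw [AlgHom.commutes, sub_eq_zero] at h1
  exact h1

/-- a section of a first-order thickening of a formally smooth algebra which is constant along
finitely many marked sections -/
theorem exists_section_with_points [Algebra.FormallySmooth k B₀]
    (ρ : B' →ₐ[k] B₀) (hρ : Function.Surjective ρ) (e' : B') (he2 : e' * e' = 0)
    (hker : RingHom.ker (ρ : B' →+* B₀) = Ideal.span {e'})
    {ι : Type v} [Finite ι] (π : ι → B₀ →ₐ[k] k) (hπ : Function.Injective π)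
    (π' : ι → B' →ₐ[k] DualNumber k) (hπ'e : ∀ j, π' j e' = DualNumber.eps)
    (hππ' : ∀ j b', TrivSqZeroExt.fst (π' j b') = π j (ρ b')) :
    ∃ σ : B₀ →ₐ[k] B', (∀ b, ρ (σ b) = b) ∧
      ∀ j b, π' j (σ b) = algebraMap k (DualNumber k) (π j b) := by
  have hnil : IsNilpotent (RingHom.ker (ρ : B' →+* B₀)) := by
    refine ⟨2, ?_⟩
    rw [hker, Ideal.span_singleton_pow, pow_two, he2, Ideal.zero_eq_bot,
      Ideal.span_singleton_eq_bot]
  let σ₀ : B₀ →ₐ[k] B' := Algebra.FormallySmooth.liftOfSurjective (AlgHom.id k B₀) ρ hρ hnil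
  have hσ₀ : ∀ b, ρ (σ₀ b) = b := fun b =>
    Algebra.FormallySmooth.liftOfSurjective_apply (AlgHom.id k B₀) ρ hρ hnil b
  have hρe : ρ e' = 0 := by
    have : e' ∈ RingHom.ker (ρ : B' →+* B₀) := by
      rw [hker]; exact Ideal.mem_span_singleton_self _
    exact this
  have hfst : ∀ j b, TrivSqZeroExt.fst (π' j (σ₀ b)) = π j b := by
    intro j b
    rw [hππ', hσ₀]
  -- the error derivations
  let δ : ι → B₀ →ₗ[k] k := fun j =>
    { toFun := fun b => - TrivSqZeroExt.snd (π' j (σ₀ b))
      map_add' := by
        intro a b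
        rw [map_add, map_add, TrivSqZeroExt.snd_add, neg_add]
      map_smul' := by
        intro c b
        rw [map_smul, map_smul, TrivSqZeroExt.snd_smul, RingHom.id_apply, smul_neg] }
  have hδ : ∀ j a b, δ j (a * b) = π j a * δ j b + δ j a * π j b := by
    intro j a b
    change - TrivSqZeroExt.snd (π' j (σ₀ (a * b))) =
      π j a * (- TrivSqZeroExt.snd (π' j (σ₀ b))) + (- TrivSqZeroExt.snd (π' j (σ₀ a))) * π j b
    rw [map_mul, map_mul, DualNumber.snd_mul, hfst, hfst]
    ring
  obtain ⟨D, hD⟩ := exists_derivation_with_values π hπ δ hδ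
  have hDsnd : ∀ j b, π j (D b) = - TrivSqZeroExt.snd (π' j (σ₀ b)) := hD
  let σ : B₀ →ₐ[k] B' :=
    { toFun := fun b => σ₀ b + e' * σ₀ (D b)
      map_one' := by
        rw [map_one, Derivation.map_one_eq_zero, map_zero, mul_zero, add_zero]
      map_mul' := by
        intro a b
        rw [map_mul, Derivation.leibniz, map_add, smul_eq_mul, smul_eq_mul, map_mul, map_mul]
        have h : (σ₀ a + e' * σ₀ (D a)) * (σ₀ b + e' * σ₀ (D b)) =
            σ₀ a * σ₀ b + e' * (σ₀ a * σ₀ (D b) + σ₀ b * σ₀ (D a)) +
              (e' * e') * (σ₀ (D a) * σ₀ (D b)) := by ring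
        rw [h, he2, zero_mul, add_zero]
      map_zero' := by
        rw [map_zero, map_zero, map_zero, mul_zero, add_zero]
      map_add' := by
        intro a b
        rw [map_add, map_add, map_add, mul_add]
        ring
      commutes' := by
        intro c
        rw [Derivation.map_algebraMap, map_zero, mul_zero, add_zero, AlgHom.commutes] }
  have hσ : ∀ b, σ b = σ₀ b + e' * σ₀ (D b) := fun _ => rfl
  refine ⟨σ, fun b => ?_, fun j b => ?_⟩
  · rw [hσ, map_add, map_mul, hρe, zero_mul, add_zero, hσ₀]
  · rw [hσ, map_add, map_mul, hπ'e]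
    apply TrivSqZeroExt.ext
    · rw [TrivSqZeroExt.fst_add, TrivSqZeroExt.fst_mul, DualNumber.fst_eps, zero_mul, add_zero,
        hfst]
      rfl
    · rw [TrivSqZeroExt.snd_add, DualNumber.snd_mul, DualNumber.fst_eps, DualNumber.snd_eps,
        zero_mul, zero_add, one_mul, hfst, hDsnd, add_neg_cancel]
      rfl

end Groth.Agent.Lib.Helper19.Marked
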