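import Groth.Agent.Lib.Helper19DefAffF
import Groth.Agent.Lib.Helper19DefDualB
import Groth.Agent.Lib.Helper19MarkedA

/-!
# First-order deformations of smooth affine schemes with marked points are trivial
-/

set_option autoImplicit false
set_option linter.style.haveILetI false
universe u v

open CategoryTheory CategoryTheory.Limits AlgebraicGeometry ArtFun ArtFun.Art

namespace Groth.Agent.Lib.Helper19.DefAff

section Retraction

variable {k : Type u} [Field k] {B₀ : Type u} [CommRing B₀] [Algebra k B₀]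

/-- A retraction of the total space of a deformation onto the closed fibre, compatible with the
structure maps, trivialises the deformation. -/
theorem isIso_lift_of_retraction
    (X : Scheme.{u}) (e₀ : X ≅ Spec (CommRingCat.of B₀)) (hX : X ⟶ Spec (CommRingCat.of k))
    (hX_eq : hX = e₀.hom ≫ Spec.map (CommRingCat.ofHom (algebraMap k B₀)))
    (A : Type u) [CommRing A] [IsLocalRing A] [IsArtinianRing A] [Algebra k A] (e : A →ₐ[k] k)
    (X' : Scheme.{u}) (g : X' ⟶ Spec (CommRingCat.of A)) [Flat g] (i : X ⟶ X')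
    (hsq : IsPullback i hX g (Spec.map (CommRingCat.ofHom e.toRingHom)))
    (r : X' ⟶ X) (hr1 : i ≫ r = 𝟙 X)
    (hr2 : r ≫ hX = g ≫ Spec.map (CommRingCat.ofHom (algebraMap k A))) :
    IsIso (pullback.lift r g hr2) := by
  have hes : Function.Surjective e := fun c => ⟨algebraMap k A c, by rw [AlgHom.commutes]; rfl⟩
  let A' : Art k k := Art.of A e hes
  let ξ : DefSch (Spec (CommRingCat.of B₀)) (Spec.map (CommRingCat.ofHom (algebraMap k B₀))) A' :=
    { total := X'
      f := g
      flat := ‹Flat g›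
      i := e₀.inv ≫ i
      isPullback := by
        refine IsPullback.of_iso hsq e₀ (Iso.refl _) (Iso.refl _) (Iso.refl _) ?_ ?_ ?_ ?_
        · rw [Iso.refl_hom, Category.comp_id, Iso.hom_inv_id_assoc]
        · rw [Iso.refl_hom, Category.comp_id, hX_eq]
        · exact (Category.comp_id _).trans (Category.id_comp _).symm
        · exact (Category.comp_id _).trans (Category.id_comp _).symm }
  let x₀ : Spec (CommRingCat.of B₀) ⟶ Spec (CommRingCat.of k) :=
    Spec.map (CommRingCat.ofHom (algebraMap k B₀))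
  let s : Spec (CommRingCat.of A) ⟶ Spec (CommRingCat.of k) :=
    Spec.map (CommRingCat.ofHom (algebraMap k A))
  have hr2' : (r ≫ e₀.hom) ≫ x₀ = g ≫ s := by
    rw [Category.assoc, ← hX_eq, hr2]
  let h' : X' ⟶ pullback x₀ s := pullback.lift (r ≫ e₀.hom) g hr2'
  have hiso' : IsIso h' := by
    refine isIso_of_hom (ξ := ξ) (ξ' := DefSch.trivial (Spec (CommRingCat.of B₀)) x₀ inferInstance A')
      h' (pullback.lift_snd _ _ _) ?_
    apply pullback.hom_ext
    · refine (Category.assoc _ _ _).trans ?_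
      refine (congrArg ((e₀.inv ≫ i) ≫ ·) (pullback.lift_fst (r ≫ e₀.hom) g hr2')).trans ?_
      refine Eq.trans ?_ (pullback.lift_fst _ _ _).symm
      rw [Category.assoc, ← Category.assoc i, hr1, Category.id_comp, Iso.inv_hom_id]
      rfl
    · refine (Category.assoc _ _ _).trans ?_
      refine (congrArg ((e₀.inv ≫ i) ≫ ·) (pullback.lift_snd (r ≫ e₀.hom) g hr2')).trans ?_
      exact ξ.i_f.trans (pullback.lift_snd _ _ _).symm
  let θ : pullback hX s ⟶ pullback x₀ s :=
    pullback.map hX s x₀ s e₀.hom (𝟙 _) (𝟙 _)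
      (by rw [Category.comp_id, hX_eq]) (by rw [Category.comp_id, Category.id_comp])
  have : IsIso θ := by
    dsimp only [θ]
    infer_instance
  have hθ1 : θ ≫ pullback.fst x₀ s = pullback.fst hX s ≫ e₀.hom := pullback.lift_fst _ _ _
  have hθ2 : θ ≫ pullback.snd x₀ s = pullback.snd hX s := by
    refine (pullback.lift_snd _ _ _).trans ?_
    exact Category.comp_id _
  have hfac : pullback.lift r g hr2 ≫ θ = h' := by
    apply pullback.hom_ext
    · rw [Category.assoc, hθ1, ← Category.assoc, pullback.lift_fst, pullback.lift_fst]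
    · rw [Category.assoc, hθ2, pullback.lift_snd, pullback.lift_snd]
  have : pullback.lift r g hr2 = h' ≫ inv θ := by
    rw [← hfac, Category.assoc, IsIso.hom_inv_id, Category.comp_id]
  rw [this]
  infer_instance

end Retraction

section Marked

open Groth.Agent.Lib.Helper19.DefDual

variable (k : Type u) [Field k]

lemma comp_isoSpec_hom {R : CommRingCat.{u}} {Y : Scheme.{u}} [IsAffine Y] (q : Spec R ⟶ Y) :
    q ≫ Y.isoSpec.hom = Spec.map (q.appTop ≫ (Scheme.ΓSpecIso R).hom) := by
  have h := Scheme.isoSpec_hom_naturality q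
  rw [Scheme.isoSpec_Spec_hom] at h
  rw [← h, Spec.map_comp]

lemma isoSpec_inv_appTop_comp (X : Scheme.{u}) [IsAffine X] :
    X.isoSpec.inv.appTop ≫ (Scheme.ΓSpecIso Γ(X, ⊤)).hom = 𝟙 _ := by
  rw [← Scheme.toSpecΓ_appTop, ← Scheme.isoSpec_hom, ← Scheme.Hom.comp_appTop, Iso.hom_inv_id]
  rfl

/-- **First-order deformations of a smooth affine scheme with marked points are trivial.** -/
theorem exists_iso_trivial_marked (X : Scheme.{u}) (hX : X ⟶ Spec (CommRingCat.of k)) [IsAffine X]
    [Smooth hX] {ι : Type v} [Finite ι] (p : ι → (Spec (CommRingCat.of k) ⟶ X))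
    (hp : ∀ j, p j ≫ hX = 𝟙 _) (hinj : Function.Injective p)
    (X' : Scheme.{u}) (g : X' ⟶ Spec (CommRingCat.of (DualNumber k))) [Flat g] (i : X ⟶ X')
    (hsq : IsPullback i hX g
      (Spec.map (CommRingCat.ofHom (TrivSqZeroExt.fstHom k k k).toRingHom)))
    (p' : ι → (Spec (CommRingCat.of (DualNumber k)) ⟶ X')) (hp' : ∀ j, p' j ≫ g = 𝟙 _)
    (hpp' : ∀ j, p j ≫ i =
      Spec.map (CommRingCat.ofHom (TrivSqZeroExt.fstHom k k k).toRingHom) ≫ p' j) :
    ∃ r : X' ⟶ X, i ≫ r = 𝟙 X ∧
      r ≫ hX = g ≫ Spec.map (CommRingCat.ofHom (algebraMap k (DualNumber k))) ∧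
      ∀ j, p' j ≫ r = Spec.map (CommRingCat.ofHom (algebraMap k (DualNumber k))) ≫ p j := by
  -- the ring of the closed fibre
  letI alg : Algebra k Γ(X, ⊤) :=
    ((Scheme.ΓSpecIso (CommRingCat.of k)).inv ≫ hX.appTop).hom.toAlgebra
  have hsm : Algebra.Smooth k Γ(X, ⊤) := by
    have h1 : hX.appTop.hom.Smooth :=
      (HasRingHomProperty.iff_of_isAffine (P := @Smooth)).mp ‹_›
    have h2 : ((Scheme.ΓSpecIso (CommRingCat.of k)).inv ≫ hX.appTop).hom.Smooth := by
      rw [CommRingCat.hom_comp]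
      refine RingHom.Smooth.comp (RingHom.Smooth.of_bijective ?_) h1
      exact (ConcreteCategory.bijective_of_isIso (Scheme.ΓSpecIso (CommRingCat.of k)).inv)
    exact h2
  haveI : Algebra.FormallySmooth k Γ(X, ⊤) := hsm.1
  have hX_eq : hX = X.isoSpec.hom ≫ Spec.map (CommRingCat.ofHom (algebraMap k Γ(X, ⊤))) := by
    have h := Scheme.isoSpec_hom_naturality hX
    rw [Scheme.isoSpec_Spec_hom] at h
    change hX = X.isoSpec.hom ≫
      Spec.map ((Scheme.ΓSpecIso (CommRingCat.of k)).inv ≫ hX.appTop)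
    rw [Spec.map_comp, ← Category.assoc, h, Category.assoc, ← Spec.map_comp, Iso.inv_hom_id,
      Spec.map_id, Category.comp_id]
  -- the deformation
  let ξ : DefSch (Spec (CommRingCat.of Γ(X, ⊤)))
      (Spec.map (CommRingCat.ofHom (algebraMap k Γ(X, ⊤)))) (Art.dual k k) :=
    { total := X'
      f := g
      flat := ‹Flat g›
      i := X.isoSpec.inv ≫ i
      isPullback := by
        refine IsPullback.of_iso hsq X.isoSpec (Iso.refl _) (Iso.refl _) (Iso.refl _) ?_ ?_ ?_ ?_
        · rw [Iso.refl_hom, Category.comp_id, Iso.hom_inv_id_assoc]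
        · rw [Iso.refl_hom, Category.comp_id, hX_eq]
        · exact (Category.comp_id _).trans (Category.id_comp _).symm
        · exact (Category.comp_id _).trans (Category.id_comp _).symm }
  have hrho : rho ξ = i.appTop := by
    change (X.isoSpec.inv ≫ i).appTop ≫ (Scheme.ΓSpecIso Γ(X, ⊤)).hom = _
    rw [Scheme.Hom.comp_appTop, Category.assoc, isoSpec_inv_appTop_comp, Category.comp_id]
  -- marked points as algebra maps
  let πr : ι → (Γ(X, ⊤) ⟶ CommRingCat.of k) := fun j =>
    (p j).appTop ≫ (Scheme.ΓSpecIso (CommRingCat.of k)).hom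
  have hπr : ∀ j, p j ≫ X.isoSpec.hom = Spec.map (πr j) := fun j => comp_isoSpec_hom (p j)
  have hπalg : ∀ j (c : k), (πr j).hom (algebraMap k Γ(X, ⊤) c) = c := by
    intro j c
    have h1 : ((Scheme.ΓSpecIso (CommRingCat.of k)).inv ≫ hX.appTop) ≫ πr j = 𝟙 _ := by
      change (_ ≫ hX.appTop) ≫ (p j).appTop ≫ _ = _
      rw [Category.assoc, ← Category.assoc hX.appTop, ← Scheme.Hom.comp_appTop, hp j,
        Scheme.Hom.id_appTop, Category.id_comp, Iso.inv_hom_id]
    exact congrArg (fun f => f.hom c) h1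
  let π : ι → Γ(X, ⊤) →ₐ[k] k := fun j => { (πr j).hom with commutes' := hπalg j }
  have hπinj : Function.Injective π := by
    intro j j' h
    apply hinj
    have h1 : πr j = πr j' := by
      ext b
      exact congrArg (fun f => f b) h
    have h2 := hπr j
    rw [h1, ← hπr j'] at h2
    exact (cancel_mono X.isoSpec.hom).1 h2
  -- marked sections as algebra maps
  haveI := isAffine_total ξ
  let π'r : ι → (Γ(X', ⊤) ⟶ CommRingCat.of (DualNumber k)) := fun j =>
    (p' j).appTop ≫ (Scheme.ΓSpecIso (CommRingCat.of (DualNumber k))).hom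
  have hπ'r : ∀ j, p' j ≫ (isoSpecTotal ξ).hom = Spec.map (π'r j) := fun j =>
    comp_isoSpec_hom (Y := X') (p' j)
  have hπ'phi : ∀ j, phi ξ ≫ π'r j = 𝟙 _ := by
    intro j
    change ((Scheme.ΓSpecIso (CommRingCat.of (DualNumber k))).inv ≫ g.appTop) ≫
      (p' j).appTop ≫ _ = _
    rw [Category.assoc, ← Category.assoc g.appTop, ← Scheme.Hom.comp_appTop, hp' j,
      Scheme.Hom.id_appTop, Category.id_comp, Iso.inv_hom_id]
    rfl
  have hπ'phi' : ∀ j (a : DualNumber k), (π'r j).hom ((phi ξ).hom a) = a := fun j a =>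
    congrArg (fun f => f.hom a) (hπ'phi j)
  let π' : ι → DRing ξ →ₐ[k] DualNumber k := fun j =>
    { (π'r j).hom with
      commutes' := fun c => hπ'phi' j (algebraMap k (DualNumber k) c) }
  have hπ'e : ∀ j, π' j (epsD ξ) = DualNumber.eps := fun j => hπ'phi' j DualNumber.eps
  have hππ' : ∀ j (b' : DRing ξ), TrivSqZeroExt.fst (π' j b') = π j (rhoAlg ξ b') := by
    intro j b'
    have h1 := congrArg (fun f => f.appTop) (hpp' j)
    simp only [Scheme.Hom.comp_appTop] at h1
    have h2 : (i.appTop ≫ (p j).appTop) ≫ (Scheme.ΓSpecIso (CommRingCat.of k)).hom =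
        ((p' j).appTop ≫ (Spec.map (CommRingCat.ofHom
          (TrivSqZeroExt.fstHom k k k).toRingHom)).appTop) ≫
          (Scheme.ΓSpecIso (CommRingCat.of k)).hom := by rw [h1]
    rw [Category.assoc, Category.assoc, Scheme.ΓSpecIso_naturality, ← Category.assoc,
      ← hrho] at h2
    exact (congrArg (fun f => f.hom b') h2).symm
  obtain ⟨σ, hσ1, hσ2⟩ := Groth.Agent.Lib.Helper19.Marked.exists_section_with_points
    (rhoAlg ξ) (rhoAlg_surjective ξ) (epsD ξ) (epsD_mul_epsD ξ) (ker_rhoAlg_eq ξ) π hπinj π'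
    hπ'e hππ'
  let σr : Γ(X, ⊤) ⟶ Γ(X', ⊤) := CommRingCat.ofHom (σ : Γ(X, ⊤) →+* DRing ξ)
  have hσρ : σr ≫ rho ξ = 𝟙 _ := by
    ext b
    exact hσ1 b
  let phi' : CommRingCat.of (DualNumber k) ⟶ Γ(X', ⊤) := phi ξ
  have hphi' : g = (isoSpecTotal ξ).hom ≫ Spec.map phi' := (isoSpecTotal_hom_phi ξ).symm
  have hσalg : CommRingCat.ofHom (algebraMap k Γ(X, ⊤)) ≫ σr =
      CommRingCat.ofHom (algebraMap k (DualNumber k)) ≫ phi' := by
    ext c
    exact σ.commutes c
  have hσπ : ∀ j, σr ≫ π'r j = πr j ≫ CommRingCat.ofHom (algebraMap k (DualNumber k)) := by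
    intro j
    apply CommRingCat.hom_ext
    apply RingHom.ext
    intro b
    exact hσ2 j b
  refine ⟨(isoSpecTotal ξ).hom ≫ Spec.map σr ≫ X.isoSpec.inv, ?_, ?_, ?_⟩
  · have h1 : i = X.isoSpec.hom ≫ ξ.i := by
      change i = X.isoSpec.hom ≫ X.isoSpec.inv ≫ i
      rw [Iso.hom_inv_id_assoc]
    have h2 : ξ.i ≫ (isoSpecTotal ξ).hom ≫ Spec.map σr = 𝟙 _ := by
      rw [← Category.assoc, i_isoSpecTotal_hom, ← Spec.map_comp, hσρ, Spec.map_id]
      rfl
    have h3 : ξ.i ≫ (isoSpecTotal ξ).hom ≫ Spec.map σr ≫ X.isoSpec.inv = X.isoSpec.inv := by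
      have := congrArg (· ≫ X.isoSpec.inv) h2
      simp only [Category.assoc] at this
      exact this.trans (Category.id_comp _)
    rw [h1, Category.assoc, h3, Iso.hom_inv_id]
  · rw [hphi', hX_eq, Category.assoc, Category.assoc, Category.assoc, Iso.inv_hom_id_assoc,
      ← Spec.map_comp, ← Spec.map_comp, hσalg]
  · intro j
    have h1 : p j = Spec.map (πr j) ≫ X.isoSpec.inv := by
      rw [← hπr j, Category.assoc, Iso.hom_inv_id, Category.comp_id]
    rw [← Category.assoc, hπ'r j, ← Category.assoc, ← Spec.map_comp, hσπ j, h1, Spec.map_comp,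
      Category.assoc]

/-- the form of the statement with the isomorphism to the product family -/
theorem exists_iso_pullback_marked (X : Scheme.{u}) (hX : X ⟶ Spec (CommRingCat.of k)) [IsAffine X]
    [Smooth hX] {ι : Type v} [Finite ι] (p : ι → (Spec (CommRingCat.of k) ⟶ X))
    (hp : ∀ j, p j ≫ hX = 𝟙 _) (hinj : Function.Injective p)
    (X' : Scheme.{u}) (g : X' ⟶ Spec (CommRingCat.of (DualNumber k))) [Flat g] (i : X ⟶ X')
    (hsq : IsPullback i hX g
      (Spec.map (CommRingCat.ofHom (TrivSqZeroExt.fstHom k k k).toRingHom)))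
    (p' : ι → (Spec (CommRingCat.of (DualNumber k)) ⟶ X')) (hp' : ∀ j, p' j ≫ g = 𝟙 _)
    (hpp' : ∀ j, p j ≫ i =
      Spec.map (CommRingCat.ofHom (TrivSqZeroExt.fstHom k k k).toRingHom) ≫ p' j) :
    ∃ φ : X' ≅ pullback hX (Spec.map (CommRingCat.ofHom (algebraMap k (DualNumber k)))),
      φ.hom ≫ pullback.snd hX (Spec.map (CommRingCat.ofHom (algebraMap k (DualNumber k)))) = g ∧
        i ≫ φ.hom ≫ pullback.fst hX (Spec.map (CommRingCat.ofHom (algebraMap k (DualNumber k)))) =
          𝟙 X ∧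
          ∀ j, p' j ≫ φ.hom ≫
              pullback.fst hX (Spec.map (CommRingCat.ofHom (algebraMap k (DualNumber k)))) =
            Spec.map (CommRingCat.ofHom (algebraMap k (DualNumber k))) ≫ p j := by
  obtain ⟨r, hr1, hr2, hr3⟩ := exists_iso_trivial_marked k X hX p hp hinj X' g i hsq p' hp' hpp'
  letI alg : Algebra k Γ(X, ⊤) :=
    ((Scheme.ΓSpecIso (CommRingCat.of k)).inv ≫ hX.appTop).hom.toAlgebra
  have hX_eq : hX = X.isoSpec.hom ≫ Spec.map (CommRingCat.ofHom (algebraMap k Γ(X, ⊤))) := by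
    have h := Scheme.isoSpec_hom_naturality hX
    rw [Scheme.isoSpec_Spec_hom] at h
    change hX = X.isoSpec.hom ≫
      Spec.map ((Scheme.ΓSpecIso (CommRingCat.of k)).inv ≫ hX.appTop)
    rw [Spec.map_comp, ← Category.assoc, h, Category.assoc, ← Spec.map_comp, Iso.inv_hom_id,
      Spec.map_id, Category.comp_id]
  haveI : IsArtinianRing (DualNumber k) := (ArtFun.Art.dual k k).isArtinianRing
  haveI := isIso_lift_of_retraction X X.isoSpec hX hX_eq (DualNumber k)
    (TrivSqZeroExt.fstHom k k k) X' g i hsq r hr1 hr2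
  refine ⟨asIso (pullback.lift r g hr2), pullback.lift_snd _ _ _, ?_, ?_⟩
  · rw [asIso_hom, pullback.lift_fst]
    exact hr1
  · intro j
    rw [asIso_hom, pullback.lift_fst]
    exact hr3 j

end Marked

end Groth.Agent.Lib.Helper19.DefAff
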