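import Mathlib
import Groth.Agent.Lib.Helper22MilnorGlue
import Groth.Agent.Lib.Helper22MilnorFlat
import Groth.Agent.Lib.Helper13QFOmega14

/-!
# Surjectivity of `Pic B' → Pic B` for a Milnor square with Picard-trivial corner
-/

set_option autoImplicit false
set_option linter.unusedSectionVars false
universe u

namespace Groth.Agent.Lib.Helper19MilPic

open TensorProduct

section Rank

/-- a finitely presented flat module whose base change along a surjection `R' → S` is invertible
is free of rank one at every prime containing the kernel -/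
theorem nonempty_equiv_atPrime_of_surjective {R' S : Type u} [CommRing R'] [CommRing S]
    [Algebra R' S] (hsurj : Function.Surjective (algebraMap R' S))
    (L : Type u) [AddCommGroup L] [Module R' L] [Module.FinitePresentation R' L]
    [Module.Flat R' L] [Module.Invertible S (S ⊗[R'] L)]
    (q : Ideal R') [q.IsPrime] (hq : RingHom.ker (algebraMap R' S) ≤ q) :
    Nonempty (Localization.AtPrime q ⊗[R'] L ≃ₗ[Localization.AtPrime q]
      Localization.AtPrime q) := by
  have hq₁ : (q.map (algebraMap R' S)).IsPrime := Ideal.map_isPrime_of_surjective hsurj hq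
  have hcomap : q = (q.map (algebraMap R' S)).comap (algebraMap R' S) := by
    rw [Ideal.comap_map_of_surjective _ hsurj]
    exact (sup_eq_left.2 hq).symm
  set q₁ := q.map (algebraMap R' S) with hq₁def
  let f : Localization.AtPrime q →+* Localization.AtPrime q₁ :=
    Localization.localRingHom q q₁ (algebraMap R' S) hcomap
  letI : Algebra (Localization.AtPrime q) (Localization.AtPrime q₁) := f.toAlgebra
  haveI : IsScalarTower R' (Localization.AtPrime q) (Localization.AtPrime q₁) :=
    IsScalarTower.of_algebraMap_eq (fun x => by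
      change _ = f (algebraMap R' (Localization.AtPrime q) x)
      rw [Localization.localRingHom_to_map]
      exact IsScalarTower.algebraMap_apply R' S (Localization.AtPrime q₁) x)
  haveI : Module.Free (Localization.AtPrime q) (Localization.AtPrime q ⊗[R'] L) :=
    Module.free_of_flat_of_isLocalRing
  -- the base change to `T = S_{q₁}` computed in two ways
  let e1 : Localization.AtPrime q₁ ⊗[Localization.AtPrime q] (Localization.AtPrime q ⊗[R'] L)
      ≃ₗ[Localization.AtPrime q₁] Localization.AtPrime q₁ ⊗[R'] L :=
    AlgebraTensorModule.cancelBaseChange R' (Localization.AtPrime q) (Localization.AtPrime q₁)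
      (Localization.AtPrime q₁) L
  let e2 : Localization.AtPrime q₁ ⊗[S] (S ⊗[R'] L)
      ≃ₗ[Localization.AtPrime q₁] Localization.AtPrime q₁ ⊗[R'] L :=
    AlgebraTensorModule.cancelBaseChange R' S (Localization.AtPrime q₁)
      (Localization.AtPrime q₁) L
  have h1 : Module.finrank (Localization.AtPrime q₁)
      (Localization.AtPrime q₁ ⊗[S] (S ⊗[R'] L)) = 1 := Module.Invertible.finrank_eq_one _ _
  have h2 : Module.finrank (Localization.AtPrime q₁)
      (Localization.AtPrime q₁ ⊗[Localization.AtPrime q] (Localization.AtPrime q ⊗[R'] L)) =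
      Module.finrank (Localization.AtPrime q) (Localization.AtPrime q ⊗[R'] L) :=
    Module.finrank_baseChange
  have h3 : Module.finrank (Localization.AtPrime q) (Localization.AtPrime q ⊗[R'] L) = 1 := by
    rw [← h2, e1.finrank_eq, ← e2.finrank_eq, h1]
  exact ⟨(Module.nonempty_linearEquiv_of_finrank_eq_one h3).some.symm⟩

end Rank

section Milnor

variable {B' B A' A : Type u} [CommRing B'] [CommRing B] [CommRing A'] [CommRing A]
  [Algebra B' B] [Algebra B' A'] [Algebra B A] [Algebra A' A] [Algebra B' A]
  [IsScalarTower B' B A] [IsScalarTower B' A' A]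

open Groth.Agent.Lib.Helper22

/-- Milnor patching of invertible modules: over a fibre square with both `B' → B`, `B' → A'`
surjective and Picard-trivial corner `A`, every invertible `B`-module lifts to `B'`. -/
theorem exists_invertible_lift (hsq : EtMil.IsFibreSquare B' B A' A)
    (hA' : Function.Surjective (algebraMap B' A')) [Subsingleton (CommRing.Pic A)]
    (N : Type u) [AddCommGroup N] [Module B N] [Module.Invertible B N] :
    ∃ (L : Type u) (_ : AddCommGroup L) (_ : Module B' L), Module.Invertible B' L ∧
      Nonempty (B ⊗[B'] L ≃ₗ[B] N) := by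
  letI : Module B' N := Module.compHom N (algebraMap B' B)
  haveI : IsScalarTower B' B N := IsScalarTower.of_algebraMap_smul (fun _ _ => rfl)
  have hB : Function.Surjective (algebraMap B' B) := fs_surjective hsq
  -- the gluing isomorphism
  obtain ⟨ψ⟩ : Nonempty (A ⊗[B] N ≃ₗ[A] A) :=
    Module.Invertible.free_iff_linearEquiv.mp inferInstance
  let φ : A ⊗[B] N ≃ₗ[A] A ⊗[A'] A' := ψ.trans (AlgebraTensorModule.rid A' A A).symm
  let e1 : B ⊗[B'] (EtMil.glue B' φ) ≃ₗ[B] N :=
    LinearEquiv.ofBijective _ (glue_fst_bijective φ hsq)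
  let e2 : A' ⊗[B'] (EtMil.glue B' φ) ≃ₗ[A'] A' :=
    LinearEquiv.ofBijective _ (glue_snd_bijective φ hsq)
  haveI : Module.Invertible B (B ⊗[B'] (EtMil.glue B' φ)) := Module.Invertible.congr e1.symm
  haveI : Module.Invertible A' (A' ⊗[B'] (EtMil.glue B' φ)) := Module.Invertible.congr e2.symm
  haveI : Module.FinitePresentation B (B ⊗[B'] (EtMil.glue B' φ)) :=
    Module.finitePresentation_of_projective _ _
  haveI : Module.FinitePresentation A' (A' ⊗[B'] (EtMil.glue B' φ)) :=
    Module.finitePresentation_of_projective _ _
  haveI hflat : Module.Flat B' (EtMil.glue B' φ) := fs_flat hsq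
  haveI hfp : Module.FinitePresentation B' (EtMil.glue B' φ) := fs_finitePresentation hsq
  refine ⟨EtMil.glue B' φ, inferInstance, inferInstance, ?_, ⟨e1⟩⟩
  apply Groth.Agent.Helper13QFOmega.invertible_of_forall_prime
  intro q hq
  by_cases h1 : RingHom.ker (algebraMap B' B) ≤ q
  · exact nonempty_equiv_atPrime_of_surjective hB _ q h1
  · have h2 : RingHom.ker (algebraMap B' A') ≤ q := by
      obtain ⟨x, hx, hxq⟩ := Set.not_subset.1 h1
      intro y hy
      have hxy : x * y = 0 := by
        apply fs_ext hsq
        · rw [map_mul, RingHom.mem_ker.1 hx, zero_mul, map_zero]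
        · rw [map_mul, RingHom.mem_ker.1 hy, mul_zero, map_zero]
      have : x * y ∈ q := by rw [hxy]; exact zero_mem _
      rcases hq.mem_or_mem this with h | h
      · exact absurd h hxq
      · exact h
    exact nonempty_equiv_atPrime_of_surjective hA' _ q h2

/-- surjectivity on Picard groups -/
theorem pic_mapAlgebra_surjective (hsq : EtMil.IsFibreSquare B' B A' A)
    (hA' : Function.Surjective (algebraMap B' A')) [Subsingleton (CommRing.Pic A)] :
    Function.Surjective (CommRing.Pic.mapAlgebra B' B) := by
  intro M
  obtain ⟨L, _, _, hL, ⟨e⟩⟩ := exists_invertible_lift hsq hA' M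
  refine ⟨CommRing.Pic.mk B' L, ?_⟩
  rw [CommRing.Pic.mapAlgebra_apply, CommRing.Pic.mk_eq_iff]
  exact ⟨(AlgebraTensorModule.congr (LinearEquiv.refl B B)
    (CommRing.Pic.mk.linearEquiv B' L)).trans e⟩

end Milnor

end Groth.Agent.Lib.Helper19MilPic
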