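import Mathlib
import Groth.Agent.Lib.Helper19MilPicA

/-!
# `Pic (R/(I₁ ∩ I₂)) → Pic (R/I₁)` is surjective when `R/(I₁ + I₂)` is Picard-trivial
-/

set_option autoImplicit false
set_option linter.unusedSectionVars false
universe u

namespace Groth.Agent.Lib.Helper19MilPic

open TensorProduct

section Quot

variable {R : Type u} [CommRing R] (I₁ I₂ : Ideal R)

/-- the quotient fibre square and the resulting surjectivity -/
theorem pic_factor_surjective_aux [Subsingleton (CommRing.Pic (R ⧸ (I₁ ⊔ I₂)))] :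
    Function.Surjective (CommRing.Pic.mapRingHom
      (Ideal.Quotient.factor (inf_le_left : I₁ ⊓ I₂ ≤ I₁))) := by
  letI a1 : Algebra (R ⧸ (I₁ ⊓ I₂)) (R ⧸ I₁) :=
    (Ideal.Quotient.factor (inf_le_left : I₁ ⊓ I₂ ≤ I₁)).toAlgebra
  letI a2 : Algebra (R ⧸ (I₁ ⊓ I₂)) (R ⧸ I₂) :=
    (Ideal.Quotient.factor (inf_le_right : I₁ ⊓ I₂ ≤ I₂)).toAlgebra
  letI a3 : Algebra (R ⧸ I₁) (R ⧸ (I₁ ⊔ I₂)) :=
    (Ideal.Quotient.factor (le_sup_left : I₁ ≤ I₁ ⊔ I₂)).toAlgebra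
  letI a4 : Algebra (R ⧸ I₂) (R ⧸ (I₁ ⊔ I₂)) :=
    (Ideal.Quotient.factor (le_sup_right : I₂ ≤ I₁ ⊔ I₂)).toAlgebra
  letI a5 : Algebra (R ⧸ (I₁ ⊓ I₂)) (R ⧸ (I₁ ⊔ I₂)) :=
    (Ideal.Quotient.factor (inf_le_left.trans le_sup_left : I₁ ⊓ I₂ ≤ I₁ ⊔ I₂)).toAlgebra
  haveI t1 : IsScalarTower (R ⧸ (I₁ ⊓ I₂)) (R ⧸ I₁) (R ⧸ (I₁ ⊔ I₂)) :=
    IsScalarTower.of_algebraMap_eq (fun x => by
      obtain ⟨x, rfl⟩ := Ideal.Quotient.mk_surjective x
      rfl)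
  haveI t2 : IsScalarTower (R ⧸ (I₁ ⊓ I₂)) (R ⧸ I₂) (R ⧸ (I₁ ⊔ I₂)) :=
    IsScalarTower.of_algebraMap_eq (fun x => by
      obtain ⟨x, rfl⟩ := Ideal.Quotient.mk_surjective x
      rfl)
  have hsq : EtMil.IsFibreSquare (R ⧸ (I₁ ⊓ I₂)) (R ⧸ I₁) (R ⧸ I₂) (R ⧸ (I₁ ⊔ I₂)) := by
    refine ⟨Ideal.Quotient.factor_surjective _, ?_⟩
    intro b a' hba
    obtain ⟨x, rfl⟩ := Ideal.Quotient.mk_surjective b
    obtain ⟨y, rfl⟩ := Ideal.Quotient.mk_surjective a'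
    have h1 : Ideal.Quotient.mk (I₁ ⊔ I₂) x = Ideal.Quotient.mk (I₁ ⊔ I₂) y := hba
    rw [Ideal.Quotient.eq, Submodule.mem_sup] at h1
    obtain ⟨i₁, hi₁, i₂, hi₂, hsum⟩ := h1
    refine ⟨Ideal.Quotient.mk _ (x - i₁), ⟨?_, ?_⟩, ?_⟩
    · change Ideal.Quotient.mk I₁ (x - i₁) = Ideal.Quotient.mk I₁ x
      rw [Ideal.Quotient.eq]
      have : x - i₁ - x = -i₁ := by ring
      rw [this]
      exact neg_mem hi₁
    · change Ideal.Quotient.mk I₂ (x - i₁) = Ideal.Quotient.mk I₂ y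
      rw [Ideal.Quotient.eq]
      have : x - i₁ - y = i₂ := by linear_combination -hsum
      rw [this]
      exact hi₂
    · rintro z ⟨hz1, hz2⟩
      obtain ⟨z, rfl⟩ := Ideal.Quotient.mk_surjective z
      have h1 : Ideal.Quotient.mk I₁ z = Ideal.Quotient.mk I₁ x := hz1
      have h2 : Ideal.Quotient.mk I₂ z = Ideal.Quotient.mk I₂ y := hz2
      rw [Ideal.Quotient.eq] at h1 h2 ⊢
      refine ⟨?_, ?_⟩
      · have : z - (x - i₁) = (z - x) + i₁ := by ring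
        rw [this]
        exact add_mem h1 hi₁
      · have : z - (x - i₁) = (z - y) - i₂ := by linear_combination hsum
        rw [this]
        exact sub_mem h2 hi₂
  have hA' : Function.Surjective (algebraMap (R ⧸ (I₁ ⊓ I₂)) (R ⧸ I₂)) :=
    Ideal.Quotient.factor_surjective _
  exact pic_mapAlgebra_surjective hsq hA'

/-- the version with an arbitrary name for the intersection -/
theorem pic_factor_surjective (I₀ : Ideal R) (h0 : I₀ = I₁ ⊓ I₂) (hle : I₀ ≤ I₁)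
    [Subsingleton (CommRing.Pic (R ⧸ (I₁ ⊔ I₂)))] :
    Function.Surjective (CommRing.Pic.mapRingHom (Ideal.Quotient.factor hle)) := by
  subst h0
  exact pic_factor_surjective_aux I₁ I₂

end Quot

end Groth.Agent.Lib.Helper19MilPic
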