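import Mathlib

/-!
# Elements of the cohomology of a cochain complex of abelian groups
-/

set_option autoImplicit false
set_option linter.style.haveILetI false
universe u

open CategoryTheory Limits HomologicalComplex

namespace Helper19Milnor

section Cls

variable (C : HomologicalComplex AddCommGrpCat.{u} (ComplexShape.up ℤ)) (i j : ℤ)

/-- the cocycles, as a subgroup -/
abbrev kerD : AddSubgroup (C.X i) := (C.d i j).hom.ker

omit C in
theorem next_eq (hij : i + 1 = j) : (ComplexShape.up ℤ).next i = j := by
  rw [CochainComplex.next]; exact hij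

omit C in
theorem prev_eq (hij : i + 1 = j) : (ComplexShape.up ℤ).prev j = i := by
  rw [CochainComplex.prev]; omega

/-- cocycles as elements of the cycles object -/
noncomputable def cyc (hij : i + 1 = j) : kerD C i j →+ C.cycles i :=
  (C.liftCycles (AddCommGrpCat.ofHom (kerD C i j).subtype) j (next_eq i j hij)
    (by ext x; exact x.2)).hom

theorem iCycles_cyc (hij : i + 1 = j) (x : kerD C i j) :
    C.iCycles i (cyc C i j hij x) = x.1 := by
  have := C.liftCycles_i (AddCommGrpCat.ofHom (kerD C i j).subtype) j (next_eq i j hij)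
    (by ext x; exact x.2)
  exact congrArg (fun φ => φ x) this

theorem iCycles_injective : Function.Injective (C.iCycles i) :=
  (AddCommGrpCat.mono_iff_injective _).1 inferInstance

theorem homologyπ_surjective : Function.Surjective (C.homologyπ i) :=
  (AddCommGrpCat.epi_iff_surjective _).1 inferInstance

theorem d_iCycles (z : C.cycles i) : C.d i j (C.iCycles i z) = 0 :=
  congrArg (fun φ => φ z) (C.iCycles_d i j)

theorem cyc_surjective (hij : i + 1 = j) : Function.Surjective (cyc C i j hij) := by
  intro z
  refine ⟨⟨C.iCycles i z, d_iCycles C i j z⟩, ?_⟩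
  apply iCycles_injective
  rw [iCycles_cyc]

/-- the class of a cocycle -/
noncomputable def clsHom (hij : i + 1 = j) : kerD C i j →+ C.homology i :=
  (C.homologyπ i).hom.comp (cyc C i j hij)

theorem clsHom_surjective (hij : i + 1 = j) : Function.Surjective (clsHom C i j hij) :=
  (homologyπ_surjective C i).comp (cyc_surjective C i j hij)

end Cls

section Zero

variable (C : HomologicalComplex AddCommGrpCat.{u} (ComplexShape.up ℤ)) (h i j : ℤ)

theorem d_d_apply (y : C.X h) : C.d i j (C.d h i y) = 0 :=
  congrArg (fun φ => φ y) (C.d_comp_d h i j)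

theorem clsHom_eq_zero_iff (hhi : h + 1 = i) (hij : i + 1 = j) (x : kerD C i j) :
    clsHom C i j hij x = 0 ↔ ∃ y : C.X h, C.d h i y = x.1 := by
  constructor
  · intro hx
    let S : ShortComplex AddCommGrpCat.{u} :=
      ShortComplex.mk (C.toCycles h i) (C.homologyπ i) (C.toCycles_comp_homologyπ h i)
    have hS : S.Exact := S.exact_of_g_is_cokernel (C.homologyIsCokernel h i (prev_eq h i hhi))
    obtain ⟨y, hy⟩ := (ShortComplex.ab_exact_iff S).1 hS (cyc C i j hij x) hx
    refine ⟨y, ?_⟩
    have h1 : C.iCycles i (C.toCycles h i y) = C.d h i y :=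
      congrArg (fun φ => φ y) (C.toCycles_i h i)
    rw [← h1]
    have h2 : C.toCycles h i y = cyc C i j hij x := hy
    rw [h2, iCycles_cyc]
  · rintro ⟨y, hy⟩
    have h1 : cyc C i j hij x = C.toCycles h i y := by
      apply iCycles_injective
      rw [iCycles_cyc]
      have h1 : C.iCycles i (C.toCycles h i y) = C.d h i y :=
        congrArg (fun φ => φ y) (C.toCycles_i h i)
      rw [h1, hy]
    change C.homologyπ i (cyc C i j hij x) = 0
    rw [h1]
    exact congrArg (fun φ => φ y) (C.toCycles_comp_homologyπ h i)

end Zero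

section Nat

variable {C D : HomologicalComplex AddCommGrpCat.{u} (ComplexShape.up ℤ)} (f : C ⟶ D)
  (i j : ℤ)

theorem comm_apply (x : C.X i) : D.d i j (f.f i x) = f.f j (C.d i j x) :=
  congrArg (fun φ => φ x) (f.comm i j)

/-- a chain map preserves cocycles -/
def mapKer : kerD C i j →+ kerD D i j :=
  ((f.f i).hom.comp (kerD C i j).subtype).codRestrict (kerD D i j) (fun x => by
    change D.d i j (f.f i x.1) = 0
    rw [comm_apply]
    have : C.d i j x.1 = 0 := x.2
    rw [this, map_zero])

theorem mapKer_val (x : kerD C i j) : (mapKer f i j x).1 = f.f i x.1 := rfl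

theorem homologyMap_clsHom (hij : i + 1 = j) (x : kerD C i j) :
    homologyMap f i (clsHom C i j hij x) = clsHom D i j hij (mapKer f i j x) := by
  change homologyMap f i (C.homologyπ i (cyc C i j hij x)) = D.homologyπ i (cyc D i j hij _)
  have h1 : homologyMap f i (C.homologyπ i (cyc C i j hij x)) =
      D.homologyπ i (cyclesMap f i (cyc C i j hij x)) :=
    congrArg (fun φ => φ (cyc C i j hij x)) (homologyπ_naturality f i)
  rw [h1]
  congr 1
  apply iCycles_injective
  rw [iCycles_cyc, mapKer_val]
  have h2 : D.iCycles i (cyclesMap f i (cyc C i j hij x)) = f.f i (C.iCycles i (cyc C i j hij x)) :=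
    congrArg (fun φ => φ (cyc C i j hij x)) (cyclesMap_i f i)
  rw [h2, iCycles_cyc]

end Nat

end Helper19Milnor
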