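import Mathlib
import Groth.Prelude.Def_Formal2
import Groth.Agent.Lib.Helper19MilnorA

/-!
# The Milnor sequence for a tower of cochain complexes of abelian groups: abstract core
-/

set_option autoImplicit false
set_option linter.style.haveILetI false
universe u

open CategoryTheory Limits HomologicalComplex

namespace Helper19Milnor

/-- A tower of complexes with surjective transition maps together with its limit, in elementwise form. -/
structure Data where
  Kn : ℕ → HomologicalComplex AddCommGrpCat.{u} (ComplexShape.up ℤ)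
  t : ∀ n, Kn (n + 1) ⟶ Kn n
  L : HomologicalComplex AddCommGrpCat.{u} (ComplexShape.up ℤ)
  π : ∀ n, L ⟶ Kn n
  hπ : ∀ n, π (n + 1) ≫ t n = π n
  hext : ∀ (i : ℤ) (x y : L.X i), (∀ n, (π n).f i x = (π n).f i y) → x = y
  hglue : ∀ (i : ℤ) (s : ∀ n, (Kn n).X i), (∀ n, (t n).f i (s (n + 1)) = s n) →
    ∃ x : L.X i, ∀ n, (π n).f i x = s n
  hsurj : ∀ n i, Function.Surjective ((t n).f i)

namespace Data

variable (T : Data.{u})

theorem t_π_apply (n : ℕ) (i : ℤ) (x : T.L.X i) :
    (T.t n).f i ((T.π (n + 1)).f i x) = (T.π n).f i x := by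
  have h := congrArg (fun φ => φ.f i) (T.hπ n)
  exact congrArg (fun φ => φ x) h

theorem towerDiff_surj (i : ℤ) (a : ∀ n, (T.Kn n).X i) :
    ∃ w : ∀ n, (T.Kn n).X i, ∀ n, w n - (T.t n).f i (w (n + 1)) = a n := by
  choose s hs using fun n => T.hsurj n i
  let w : ∀ n, (T.Kn n).X i := fun n => Nat.rec (motive := fun n => (T.Kn n).X i) 0
    (fun n wn => s n (wn - a n)) n
  refine ⟨w, fun n => ?_⟩
  change w n - (T.t n).f i (s n (w n - a n)) = a n
  rw [hs]
  abel

/-- the comparison map into the product of the cohomology groups -/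
noncomputable def cmpK (p : ℤ) : T.L.homology p →+ (∀ n, (T.Kn n).homology p) :=
  AddMonoidHom.mk' (fun c n => homologyMap (T.π n) p c) (fun a b => by
    funext n
    simp)

theorem cmpK_apply (p : ℤ) (c : T.L.homology p) (n : ℕ) :
    T.cmpK p c n = homologyMap (T.π n) p c := rfl

/-- the existence of classes with given compatible images -/
theorem exists_class (q p p' : ℤ) (hqp : q + 1 = p) (hpp' : p + 1 = p')
    (h : ∀ n, (T.Kn n).homology p)
    (hh : ∀ n, homologyMap (T.t n) p (h (n + 1)) = h n) :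
    ∃ c : T.L.homology p, ∀ n, homologyMap (T.π n) p c = h n := by
  -- representatives
  choose x hx using fun n => clsHom_surjective (T.Kn n) p p' hpp' (h n)
  -- differences are coboundaries
  have hdiff : ∀ n, ∃ y : (T.Kn n).X q,
      (T.Kn n).d q p y = (T.t n).f p (x (n + 1)).1 - (x n).1 := by
    intro n
    have h1 : clsHom (T.Kn n) p p' hpp' (mapKer (T.t n) p p' (x (n + 1)) - x n) = 0 := by
      rw [map_sub, ← homologyMap_clsHom, hx, hx, hh, sub_self]
    obtain ⟨y, hy⟩ := (clsHom_eq_zero_iff (T.Kn n) q p p' hqp hpp' _).1 h1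
    exact ⟨y, hy⟩
  choose y hy using hdiff
  obtain ⟨w, hw⟩ := T.towerDiff_surj q y
  -- corrected representatives
  let x' : ∀ n, (T.Kn n).X p := fun n => (x n).1 + (T.Kn n).d q p (w n)
  have hx' : ∀ n, (T.t n).f p (x' (n + 1)) = x' n := by
    intro n
    change (T.t n).f p ((x (n + 1)).1 + (T.Kn (n + 1)).d q p (w (n + 1))) =
      (x n).1 + (T.Kn n).d q p (w n)
    rw [map_add, ← comm_apply]
    have h1 : (T.t n).f q (w (n + 1)) = w n - y n := by
      rw [← hw n]; abel
    rw [h1, map_sub, hy n]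
    abel
  obtain ⟨z, hz⟩ := T.hglue p x' hx'
  have hdz : T.L.d p p' z = 0 := by
    apply T.hext p'
    intro n
    rw [map_zero, ← comm_apply, hz n]
    change (T.Kn n).d p p' ((x n).1 + (T.Kn n).d q p (w n)) = 0
    rw [map_add, d_d_apply, add_zero]
    exact (x n).2
  refine ⟨clsHom T.L p p' hpp' ⟨z, hdz⟩, fun n => ?_⟩
  rw [homologyMap_clsHom, ← hx n]
  have h2 : mapKer (T.π n) p p' ⟨z, hdz⟩ = x n + ⟨(T.Kn n).d q p (w n), d_d_apply _ q p p' _⟩ := by
    apply Subtype.ext
    exact hz n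
  rw [h2, map_add]
  have h3 : clsHom (T.Kn n) p p' hpp' ⟨(T.Kn n).d q p (w n), d_d_apply _ q p p' _⟩ = 0 :=
    (clsHom_eq_zero_iff (T.Kn n) q p p' hqp hpp' _).2 ⟨w n, rfl⟩
  rw [h3, add_zero]

end Data

end Helper19Milnor
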