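import Mathlib
import Groth.Agent.Lib.Helper19MilnorB

/-!
# The Milnor sequence: the kernel of the comparison map is `lim¹`
-/

set_option autoImplicit false
set_option linter.style.haveILetI false
universe u

open CategoryTheory Limits HomologicalComplex

namespace Helper19Milnor

/-- two surjections with the same kernel have isomorphic targets -/
noncomputable def equivOfKerEq {W A B : Type*} [AddCommGroup W] [AddCommGroup A] [AddCommGroup B]
    (α : W →+ A) (β : W →+ B) (hα : Function.Surjective α) (hβ : Function.Surjective β)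
    (h : α.ker = β.ker) : A ≃+ B :=
  (QuotientAddGroup.quotientKerEquivOfSurjective α hα).symm.trans
    ((QuotientAddGroup.quotientAddEquivOfEq h).trans
      (QuotientAddGroup.quotientKerEquivOfSurjective β hβ))

namespace Data

variable (T : Data.{u}) (q p : ℤ)

/-- pairs `(z, y)` with `z` a compatible family in degree `p` which is levelwise `d y_n` -/
def W : AddSubgroup (T.L.X p × (∀ n, (T.Kn n).X q)) where
  carrier := {zy | ∀ n, (T.π n).f p zy.1 = (T.Kn n).d q p (zy.2 n)}
  zero_mem' := by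
    intro n
    simp
  add_mem' := by
    intro a b ha hb n
    have h1 := ha n
    have h2 := hb n
    simp only [Prod.fst_add, Prod.snd_add, Pi.add_apply, map_add]
    rw [h1, h2]
  neg_mem' := by
    intro a ha n
    have h1 := ha n
    simp only [Prod.fst_neg, Prod.snd_neg, Pi.neg_apply, map_neg]
    rw [h1]

variable {q p}

theorem W_spec (w : T.W q p) (n : ℕ) : (T.π n).f p w.1.1 = (T.Kn n).d q p (w.1.2 n) := w.2 n

theorem W_d_eq_zero (p' : ℤ) (w : T.W q p) : T.L.d p p' w.1.1 = 0 := by
  apply T.hext p'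
  intro n
  rw [map_zero, ← comm_apply, T.W_spec w n, d_d_apply]

theorem W_diff_mem (w : T.W q p) (n : ℕ) :
    (T.Kn n).d q p (w.1.2 n - (T.t n).f q (w.1.2 (n + 1))) = 0 := by
  rw [map_sub, comm_apply, ← T.W_spec w n, ← T.W_spec w (n + 1), T.t_π_apply, sub_self]

/-- the cocycle of the limit complex attached to an element of `W` -/
def zHom (p' : ℤ) : T.W q p →+ kerD T.L p p' where
  toFun w := ⟨w.1.1, T.W_d_eq_zero p' w⟩
  map_zero' := rfl
  map_add' _ _ := rfl

/-- the levelwise cocycles `y_n - t y_{n+1}` attached to an element of `W` -/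
def xHom (n : ℕ) : T.W q p →+ kerD (T.Kn n) q p where
  toFun w := ⟨w.1.2 n - (T.t n).f q (w.1.2 (n + 1)), T.W_diff_mem w n⟩
  map_zero' := by
    apply Subtype.ext
    simp
  map_add' a b := by
    apply Subtype.ext
    change (a.1.2 n + b.1.2 n) - (T.t n).f q (a.1.2 (n + 1) + b.1.2 (n + 1)) =
      (a.1.2 n - (T.t n).f q (a.1.2 (n + 1))) + (b.1.2 n - (T.t n).f q (b.1.2 (n + 1)))
    rw [map_add]
    abel

theorem xHom_val (n : ℕ) (w : T.W q p) :
    (T.xHom n w).1 = w.1.2 n - (T.t n).f q (w.1.2 (n + 1)) := rfl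

/-- the map to the cohomology of the limit -/
noncomputable def α0 (p' : ℤ) (hpp' : p + 1 = p') : T.W q p →+ T.L.homology p :=
  (clsHom T.L p p' hpp').comp (T.zHom p')

/-- the map to the product of the cohomology groups in degree `q` -/
noncomputable def βpre (hqp : q + 1 = p) : T.W q p →+ (∀ n, (T.Kn n).homology q) :=
  AddMonoidHom.mk' (fun w n => clsHom (T.Kn n) q p hqp (T.xHom n w)) (fun a b => by
    funext n
    simp)

theorem βpre_apply (hqp : q + 1 = p) (w : T.W q p) (n : ℕ) :
    T.βpre hqp w n = clsHom (T.Kn n) q p hqp (T.xHom n w) := rfl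

/-- F1: the image of `α0` lies in the kernel of the comparison map -/
theorem α0_mem_ker (p' : ℤ) (hqp : q + 1 = p) (hpp' : p + 1 = p') (w : T.W q p) :
    T.α0 p' hpp' w ∈ (T.cmpK p).ker := by
  rw [AddMonoidHom.mem_ker]
  funext n
  rw [cmpK_apply, Pi.zero_apply]
  change homologyMap (T.π n) p (clsHom T.L p p' hpp' (T.zHom p' w)) = 0
  rw [homologyMap_clsHom]
  exact (clsHom_eq_zero_iff (T.Kn n) q p p' hqp hpp' _).2 ⟨w.1.2 n, (T.W_spec w n).symm⟩

/-- F2: every element of the kernel of the comparison map is in the image of `α0` -/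
theorem exists_of_mem_ker (p' : ℤ) (hqp : q + 1 = p) (hpp' : p + 1 = p')
    (c : T.L.homology p) (hc : c ∈ (T.cmpK p).ker) : ∃ w : T.W q p, T.α0 p' hpp' w = c := by
  obtain ⟨z, rfl⟩ := clsHom_surjective T.L p p' hpp' c
  rw [AddMonoidHom.mem_ker] at hc
  have h1 : ∀ n, ∃ y : (T.Kn n).X q, (T.Kn n).d q p y = (T.π n).f p z.1 := by
    intro n
    have h2 : homologyMap (T.π n) p (clsHom T.L p p' hpp' z) = 0 := congrFun hc n
    rw [homologyMap_clsHom] at h2
    exact (clsHom_eq_zero_iff (T.Kn n) q p p' hqp hpp' _).1 h2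
  choose y hy using h1
  refine ⟨⟨(z.1, y), fun n => (hy n).symm⟩, ?_⟩
  change clsHom T.L p p' hpp' _ = clsHom T.L p p' hpp' z
  congr 1

/-- F3: `βpre` hits every family of classes -/
theorem βpre_surjective (hqp : q + 1 = p) : Function.Surjective (T.βpre (q := q) (p := p) hqp) := by
  intro c
  choose x hx using fun n => clsHom_surjective (T.Kn n) q p hqp (c n)
  obtain ⟨y, hy⟩ := T.towerDiff_surj q (fun n => (x n).1)
  have hcompat : ∀ n, (T.t n).f p ((T.Kn (n + 1)).d q p (y (n + 1))) = (T.Kn n).d q p (y n) := by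
    intro n
    rw [← comm_apply]
    have h1 : (T.t n).f q (y (n + 1)) = y n - (x n).1 := by rw [← hy n]; abel
    rw [h1, map_sub]
    have h2 : (T.Kn n).d q p (x n).1 = 0 := (x n).2
    rw [h2, sub_zero]
  obtain ⟨z, hz⟩ := T.hglue p (fun n => (T.Kn n).d q p (y n)) hcompat
  refine ⟨⟨(z, y), hz⟩, ?_⟩
  funext n
  rw [βpre_apply, ← hx n]
  congr 1
  apply Subtype.ext
  exact hy n

end Data

end Helper19Milnor
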