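import Mathlib
import Groth.Agent.Lib.Helper19MilnorC

/-!
# The Milnor sequence: the kernel of the comparison map is `lim¹` (conclusion)
-/

set_option autoImplicit false
set_option linter.style.haveILetI false
universe u

open CategoryTheory Limits HomologicalComplex

namespace Helper19Milnor

namespace Data

variable (T : Data.{u}) {q p : ℤ}

/-- the tower of cohomology groups in degree `q` -/
abbrev LimOne (q : ℤ) : Type u :=
  Formal2.limOne (fun n => (T.Kn n).homology q) (fun n => (homologyMap (T.t n) q).hom)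

/-- the map to `lim¹` -/
noncomputable def β (hqp : q + 1 = p) : T.W q p →+ T.LimOne q :=
  (QuotientAddGroup.mk' _).comp (T.βpre hqp)

theorem β_surjective (hqp : q + 1 = p) : Function.Surjective (T.β (q := q) (p := p) hqp) :=
  (QuotientAddGroup.mk'_surjective _).comp (T.βpre_surjective hqp)

theorem β_eq_zero_iff (hqp : q + 1 = p) (w : T.W q p) :
    T.β hqp w = 0 ↔ ∃ c : ∀ n, (T.Kn n).homology q,
      ∀ n, c n - homologyMap (T.t n) q (c (n + 1)) = clsHom (T.Kn n) q p hqp (T.xHom n w) := by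
  change (QuotientAddGroup.mk (T.βpre hqp w) : T.LimOne q) = 0 ↔ _
  rw [QuotientAddGroup.eq_zero_iff]
  constructor
  · rintro ⟨c, hc⟩
    exact ⟨c, fun n => congrFun hc n⟩
  · rintro ⟨c, hc⟩
    exact ⟨c, funext hc⟩

/-- F4a -/
theorem β_eq_zero_of_α0 (p' : ℤ) (hqp : q + 1 = p) (hpp' : p + 1 = p') (w : T.W q p)
    (hw : T.α0 p' hpp' w = 0) : T.β hqp w = 0 := by
  rw [β_eq_zero_iff]
  obtain ⟨v, hv⟩ := (clsHom_eq_zero_iff T.L q p p' hqp hpp' _).1 hw
  have hv' : T.L.d q p v = w.1.1 := hv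
  have hx : ∀ n, (T.Kn n).d q p (w.1.2 n - (T.π n).f q v) = 0 := by
    intro n
    rw [map_sub, comm_apply, hv', T.W_spec w n, sub_self]
  refine ⟨fun n => clsHom (T.Kn n) q p hqp ⟨w.1.2 n - (T.π n).f q v, hx n⟩, fun n => ?_⟩
  rw [homologyMap_clsHom, ← map_sub]
  congr 1
  apply Subtype.ext
  change (w.1.2 n - (T.π n).f q v) - (T.t n).f q (w.1.2 (n + 1) - (T.π (n + 1)).f q v) =
    w.1.2 n - (T.t n).f q (w.1.2 (n + 1))
  rw [map_sub, T.t_π_apply]
  abel

/-- F4b -/
theorem α0_eq_zero_of_β (q' p' : ℤ) (hq'q : q' + 1 = q) (hqp : q + 1 = p) (hpp' : p + 1 = p')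
    (w : T.W q p) (hw : T.β hqp w = 0) : T.α0 p' hpp' w = 0 := by
  rw [β_eq_zero_iff] at hw
  obtain ⟨c, hc⟩ := hw
  choose x hx using fun n => clsHom_surjective (T.Kn n) q p hqp (c n)
  have h1 : ∀ n, ∃ v : (T.Kn n).X q', (T.Kn n).d q' q v =
      (T.xHom n w).1 - (x n).1 + (T.t n).f q (x (n + 1)).1 := by
    intro n
    have h2 : clsHom (T.Kn n) q p hqp (T.xHom n w - x n + mapKer (T.t n) q p (x (n + 1))) = 0 := by
      rw [map_add, map_sub, ← homologyMap_clsHom, hx, hx, ← hc n]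
      abel
    exact (clsHom_eq_zero_iff (T.Kn n) q' q p hq'q hqp _).1 h2
  choose v hv using h1
  obtain ⟨s, hs⟩ := T.towerDiff_surj q' (fun n => - v n)
  let w' : ∀ n, (T.Kn n).X q := fun n => w.1.2 n - (x n).1 + (T.Kn n).d q' q (s n)
  have hw' : ∀ n, (T.t n).f q (w' (n + 1)) = w' n := by
    intro n
    change (T.t n).f q (w.1.2 (n + 1) - (x (n + 1)).1 + (T.Kn (n + 1)).d q' q (s (n + 1))) =
      w.1.2 n - (x n).1 + (T.Kn n).d q' q (s n)
    rw [map_add, map_sub, ← comm_apply]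
    have h3 : (T.t n).f q' (s (n + 1)) = s n + v n := by
      have := hs n
      rw [sub_eq_iff_eq_add] at this
      rw [this]; abel
    rw [h3, map_add, hv n, T.xHom_val]
    abel
  obtain ⟨u, hu⟩ := T.hglue q w' hw'
  have hdu : T.L.d q p u = w.1.1 := by
    apply T.hext p
    intro n
    rw [← comm_apply, hu n, T.W_spec w n]
    change (T.Kn n).d q p (w.1.2 n - (x n).1 + (T.Kn n).d q' q (s n)) = _
    rw [map_add, map_sub, d_d_apply, add_zero]
    have h4 : (T.Kn n).d q p (x n).1 = 0 := (x n).2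
    rw [h4, sub_zero]
  exact (clsHom_eq_zero_iff T.L q p p' hqp hpp' _).2 ⟨u, hdu⟩

/-- the map `α0`, corestricted to the kernel of the comparison map -/
noncomputable def α (p' : ℤ) (hqp : q + 1 = p) (hpp' : p + 1 = p') :
    T.W q p →+ (T.cmpK p).ker :=
  (T.α0 p' hpp').codRestrict (T.cmpK p).ker (T.α0_mem_ker p' hqp hpp')

theorem α_surjective (p' : ℤ) (hqp : q + 1 = p) (hpp' : p + 1 = p') :
    Function.Surjective (T.α (q := q) p' hqp hpp') := by
  rintro ⟨c, hc⟩
  obtain ⟨w, hw⟩ := T.exists_of_mem_ker p' hqp hpp' c hc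
  exact ⟨w, Subtype.ext hw⟩

theorem ker_α_eq (q' p' : ℤ) (hq'q : q' + 1 = q) (hqp : q + 1 = p) (hpp' : p + 1 = p') :
    (T.α (q := q) p' hqp hpp').ker = (T.β hqp).ker := by
  ext w
  rw [AddMonoidHom.mem_ker, AddMonoidHom.mem_ker]
  constructor
  · intro h
    have h1 : T.α0 p' hpp' w = 0 := congrArg Subtype.val h
    exact T.β_eq_zero_of_α0 p' hqp hpp' w h1
  · intro h
    apply Subtype.ext
    exact T.α0_eq_zero_of_β q' p' hq'q hqp hpp' w h

/-- The kernel of the comparison map is `lim¹` of the cohomology in the previous degree. -/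
theorem nonempty_ker_equiv_limOne (hqp : q + 1 = p) :
    Nonempty ((T.cmpK p).ker ≃+ T.LimOne q) :=
  ⟨equivOfKerEq (T.α (p + 1) hqp rfl) (T.β hqp) (T.α_surjective (p + 1) hqp rfl)
    (T.β_surjective hqp) (T.ker_α_eq (q - 1) (p + 1) (by omega) hqp rfl)⟩

end Data

end Helper19Milnor
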