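import Mathlib
import Groth.Agent.Lib.Helper19MilnorD
import Groth.Agent.Lib.Helper10ML

/-!
# The Milnor sequence for a tower of cochain complexes of abelian groups
-/

set_option autoImplicit false
set_option linter.style.haveILetI false
universe u

open CategoryTheory Limits HomologicalComplex Opposite

namespace Helper19Milnor

variable (K : ℕᵒᵖ ⥤ HomologicalComplex AddCommGrpCat.{u} (ComplexShape.up ℤ))

/-- elements of the limit complex in degree `i` are the compatible families -/
noncomputable def evEquiv (i : ℤ) :
    ((limit K).X i) ≃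
      (K ⋙ HomologicalComplex.eval _ _ i ⋙ forget AddCommGrpCat.{u}).sections :=
  Types.isLimitEquivSections
    (isLimitOfPreserves (HomologicalComplex.eval _ _ i ⋙ forget AddCommGrpCat.{u})
      (limit.isLimit K))

theorem evEquiv_apply (i : ℤ) (x : (limit K).X i) (j : ℕᵒᵖ) :
    (evEquiv K i x).1 j = (limit.π K j).f i x := rfl

theorem evEquiv_symm_apply (i : ℤ)
    (s : (K ⋙ HomologicalComplex.eval _ _ i ⋙ forget AddCommGrpCat.{u}).sections) (j : ℕᵒᵖ) :
    (limit.π K j).f i ((evEquiv K i).symm s) = s.1 j := by
  have := evEquiv_apply K i ((evEquiv K i).symm s) j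
  rw [Equiv.apply_symm_apply] at this
  exact this.symm

/-- the data attached to a tower with surjective transition maps -/
noncomputable def dataOf
    (hK : ∀ (n : ℕ) (q : ℤ), Function.Surjective ((K.map (homOfLE (Nat.le_succ n)).op).f q).hom) :
    Data.{u} where
  Kn n := K.obj (op n)
  t n := K.map (homOfLE (Nat.le_succ n)).op
  L := limit K
  π n := limit.π K (op n)
  hπ n := limit.w K _
  hext i x y h := by
    apply (evEquiv K i).injective
    apply Subtype.ext
    funext j
    exact h j.unop
  hglue i s hs := by
    obtain ⟨sec, hsec⟩ := Groth.Agent.Lib.Helper10.exists_section_of_chain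
      (K ⋙ HomologicalComplex.eval _ _ i ⋙ forget AddCommGrpCat.{u}) id monotone_id
      (fun i => ⟨i, le_rfl⟩) s hs
    refine ⟨(evEquiv K i).symm sec, fun n => ?_⟩
    rw [evEquiv_symm_apply]
    exact hsec n
  hsurj n i := hK n i

theorem main
    (hK : ∀ (n : ℕ) (q : ℤ), Function.Surjective ((K.map (homOfLE (Nat.le_succ n)).op).f q).hom)
    (p q : ℤ) (hqp : q + 1 = p) :
    Function.Surjective (limit.post K (HomologicalComplex.homologyFunctor _ _ p)).hom ∧
      Nonempty ((limit.post K (HomologicalComplex.homologyFunctor _ _ p)).hom.ker ≃+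
        Formal2.limOne (fun n => (K.obj (op n)).homology q)
          (fun n => (HomologicalComplex.homologyMap (K.map (homOfLE (Nat.le_succ n)).op) q).hom)) := by
  have hpost : ∀ (x : (limit K).homology p) (j : ℕᵒᵖ),
      limit.π (K ⋙ HomologicalComplex.homologyFunctor _ _ p) j
        (limit.post K (HomologicalComplex.homologyFunctor _ _ p) x) =
      homologyMap (limit.π K j) p x := fun x j =>
    congrArg (fun φ => φ x) (limit.post_π K (HomologicalComplex.homologyFunctor _ _ p) j)
  constructor
  · intro ℓ
    obtain ⟨c, hc⟩ := (dataOf K hK).exists_class q p (p + 1) hqp rfl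
      (fun n => limit.π (K ⋙ HomologicalComplex.homologyFunctor _ _ p) (op n) ℓ)
      (fun n => congrArg (fun φ => φ ℓ)
        (limit.w (K ⋙ HomologicalComplex.homologyFunctor _ _ p) (homOfLE (Nat.le_succ n)).op))
    refine ⟨c, ?_⟩
    apply Concrete.limit_ext
    intro j
    exact (hpost c j).trans (hc j.unop)
  · have hker : (limit.post K (HomologicalComplex.homologyFunctor _ _ p)).hom.ker =
        ((dataOf K hK).cmpK p).ker := by
      ext x
      constructor
      · intro hx
        have h2 : limit.post K (HomologicalComplex.homologyFunctor _ _ p) x = 0 := hx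
        change (dataOf K hK).cmpK p x = 0
        funext n
        have h1 := hpost x (op n)
        rw [h2, map_zero] at h1
        exact h1.symm
      · intro hx
        have hx' : (dataOf K hK).cmpK p x = 0 := hx
        change limit.post K (HomologicalComplex.homologyFunctor _ _ p) x = 0
        apply Concrete.limit_ext
        intro j
        rw [map_zero]
        exact (hpost x j).trans (congrFun hx' j.unop)
    obtain ⟨e⟩ := (dataOf K hK).nonempty_ker_equiv_limOne (q := q) (p := p) hqp
    exact ⟨(AddEquiv.addSubgroupCongr hker).trans e⟩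

end Helper19Milnor
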