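import Groth.Agent.Lib.Helper19PowerSeries
import Groth.Agent.Lib.Helper19Formal

set_option autoImplicit false
universe u v w

open CategoryTheory ArtFun ArtFun.Art

namespace Groth.Agent.Lib.Helper19

section Precomplete

/-- Precompleteness passes to surjective images. -/
theorem isPrecomplete_of_surjective {S T : Type*} [CommRing S] [CommRing T] (f : S →+* T)
    (hf : Function.Surjective f) (I : Ideal S) [IsPrecomplete I S] : IsPrecomplete (I.map f) T := by
  refine ⟨fun g hg => ?_⟩
  have hg' : ∀ {m n : ℕ}, m ≤ n → g m - g n ∈ Ideal.map f (I ^ m) := by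
    intro m n hmn
    have := hg hmn
    rwa [smodEq_pow_iff, ← Ideal.map_pow] at this
  -- successive lifts
  have hstep : ∀ (n : ℕ) (s : S), f s = g n → ∃ s' : S, f s' = g (n + 1) ∧ s - s' ∈ I ^ n := by
    intro n s hs
    have h1 := hg' (Nat.le_succ n)
    obtain ⟨d, hd, hfd⟩ := (Ideal.mem_map_iff_of_surjective f hf).1 h1
    refine ⟨s - d, ?_, ?_⟩
    · rw [map_sub, hs, hfd]; ring
    · have : s - (s - d) = d := by ring
      rw [this]; exact hd
  obtain ⟨s0, hs0⟩ := hf (g 0)
  let u : ∀ n : ℕ, {s : S // f s = g n} := fun n =>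
    Nat.rec (motive := fun n => {s : S // f s = g n}) ⟨s0, hs0⟩
      (fun n x => ⟨Classical.choose (hstep n x.1 x.2), (Classical.choose_spec (hstep n x.1 x.2)).1⟩) n
  have hu : ∀ n, (u n).1 - (u (n + 1)).1 ∈ I ^ n := fun n =>
    (Classical.choose_spec (hstep n (u n).1 (u n).2)).2
  have hcauchy : ∀ {m n : ℕ}, m ≤ n → (u m).1 ≡ (u n).1 [SMOD (I ^ m • ⊤ : Submodule S S)] := by
    intro m n hmn
    rw [smodEq_pow_iff]
    induction n, hmn using Nat.le_induction with
    | base => rw [sub_self]; exact Ideal.zero_mem _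
    | succ n hmn ih =>
      have : (u m).1 - (u (n + 1)).1 = ((u m).1 - (u n).1) + ((u n).1 - (u (n + 1)).1) := by ring
      rw [this]
      exact Ideal.add_mem _ ih (Ideal.pow_le_pow_right hmn (hu n))
  obtain ⟨L, hL⟩ := IsPrecomplete.prec' (I := I) (fun n => (u n).1) hcauchy
  refine ⟨f L, fun n => ?_⟩
  rw [smodEq_pow_iff, ← Ideal.map_pow, ← (u n).2, ← map_sub]
  apply Ideal.mem_map_of_mem
  have := hL n
  rwa [smodEq_pow_iff] at this

end Precomplete

section PsCRing

variable {Λ : Type u} {k : Type u} [CommRing Λ] [Field k] [Algebra Λ k]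

/-- The quotient of a coefficient ring by a proper ideal, as a coefficient ring. -/
noncomputable def quotCRing (S : CRing Λ k) (J : Ideal S.carrier)
    (hJ : J ≤ IsLocalRing.maximalIdeal S.carrier) : CRing Λ k :=
  haveI : Nontrivial (S.carrier ⧸ J) :=
    Ideal.Quotient.nontrivial_iff.2 (fun h => (IsLocalRing.maximalIdeal.isMaximal S.carrier).ne_top
      (top_le_iff.1 (h ▸ hJ)))
  haveI : IsLocalRing (S.carrier ⧸ J) :=
    IsLocalRing.of_surjective' (Ideal.Quotient.mk J) Ideal.Quotient.mk_surjective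
  { carrier := S.carrier ⧸ J
    res := Ideal.Quotient.liftₐ J S.res (fun a ha => (mem_maximalIdeal_iff_res S.res S.res_surjective a).1 (hJ ha))
    res_surjective := fun c => by
      obtain ⟨a, ha⟩ := S.res_surjective c
      exact ⟨Ideal.Quotient.mk J a, ha⟩
    isAdicComplete := by
      haveI := S.isAdicComplete
      haveI : IsPrecomplete (IsLocalRing.maximalIdeal (S.carrier ⧸ J)) (S.carrier ⧸ J) := by
        rw [← IsLocalRing.map_maximalIdeal_of_surjective (Ideal.Quotient.mk J) Ideal.Quotient.mk_surjective]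
        exact isPrecomplete_of_surjective _ Ideal.Quotient.mk_surjective _
      exact { } }

/-- The projection to the quotient coefficient ring. -/
noncomputable def quotCRingMk (S : CRing Λ k) (J : Ideal S.carrier)
    (hJ : J ≤ IsLocalRing.maximalIdeal S.carrier) : S.carrier →ₐ[Λ] (quotCRing S J hJ).carrier :=
  Ideal.Quotient.mkₐ Λ J

lemma quotCRingMk_res (S : CRing Λ k) (J : Ideal S.carrier)
    (hJ : J ≤ IsLocalRing.maximalIdeal S.carrier) :
    (quotCRing S J hJ).res.comp (quotCRingMk S J hJ) = S.res :=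
  Ideal.Quotient.liftₐ_comp _ _ _

lemma quotCRingMk_surjective (S : CRing Λ k) (J : Ideal S.carrier)
    (hJ : J ≤ IsLocalRing.maximalIdeal S.carrier) : Function.Surjective (quotCRingMk S J hJ) :=
  Ideal.Quotient.mk_surjective

lemma quotCRingMk_eq_zero_iff (S : CRing Λ k) (J : Ideal S.carrier)
    (hJ : J ≤ IsLocalRing.maximalIdeal S.carrier) (a : S.carrier) :
    quotCRingMk S J hJ a = 0 ↔ a ∈ J :=
  Ideal.Quotient.eq_zero_iff_mem

variable [IsLocalRing Λ] [IsNoetherianRing Λ] [IsAdicComplete (IsLocalRing.maximalIdeal Λ) Λ]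

/-- The augmentation of the power series ring. -/
noncomputable def psRes (σ : Type) [Finite σ] : MvPowerSeries σ Λ →ₐ[Λ] k :=
  (Algebra.ofId Λ k).comp
    { (MvPowerSeries.constantCoeff (σ := σ) (R := Λ)) with
      commutes' := fun r => MvPowerSeries.constantCoeff_C r }

lemma psRes_apply (σ : Type) [Finite σ] (g : MvPowerSeries σ Λ) :
    psRes (k := k) σ g = algebraMap Λ k (MvPowerSeries.constantCoeff g) := rfl

/-- The power series ring over `Λ` as a coefficient ring. -/
@[reducible] noncomputable def psCRing (σ : Type) [Finite σ] (hk : Function.Surjective (algebraMap Λ k)) :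
    CRing Λ k where
  carrier := MvPowerSeries σ Λ
  res := psRes σ
  res_surjective := fun c => by
    obtain ⟨a, ha⟩ := hk c
    exact ⟨MvPowerSeries.C a, by rw [psRes_apply, MvPowerSeries.constantCoeff_C, ha]⟩
  isAdicComplete := isAdicComplete_mvPowerSeries

section PsHom

variable {σ : Type} [Finite σ] (hk : Function.Surjective (algebraMap Λ k))

lemma psRes_X (s : σ) : psRes (Λ := Λ) (k := k) σ (MvPowerSeries.X s) = 0 := by
  rw [psRes_apply, MvPowerSeries.constantCoeff_X, map_zero]

/-- Any algebra map from the power series ring to an object, sending the variables into the maximal ideal,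
is compatible with the augmentations. -/
lemma res_comp_eq_psRes (A : Art Λ k) (φ : MvPowerSeries σ Λ →ₐ[Λ] A)
    (hφ : ∀ s, φ (MvPowerSeries.X s) ∈ IsLocalRing.maximalIdeal A) :
    A.res.comp φ = psRes σ := by
  apply algHom_ext_of_X (⊥ : Ideal k) 1 (pow_one _)
  · intro s
    rw [Ideal.mem_bot, AlgHom.comp_apply]
    exact (Art.mem_maximalIdeal_iff A _).1 (hφ s)
  · intro s
    rw [psRes_X, AlgHom.comp_apply]
    exact (Art.mem_maximalIdeal_iff A _).1 (hφ s)

/-- The images of the variables under an augmented map lie in the maximal ideal. -/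
lemma homSet_X_mem (A : Art Λ k) (φ : HomSet (psCRing σ hk).carrier (psCRing σ hk).res A) (s : σ) :
    φ.1 (MvPowerSeries.X s : MvPowerSeries σ Λ) ∈ IsLocalRing.maximalIdeal A := by
  rw [Art.mem_maximalIdeal_iff]
  have := AlgHom.congr_fun φ.2 (MvPowerSeries.X s : MvPowerSeries σ Λ)
  rw [AlgHom.comp_apply] at this
  rw [this]
  exact psRes_X s

/-- Lifting property of the power series ring. -/
theorem psCRing_exists_homSet (A : Art Λ k) (x : σ → A) (hx : ∀ s, x s ∈ IsLocalRing.maximalIdeal A) :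
    ∃ φ : HomSet (psCRing σ hk).carrier (psCRing σ hk).res A,
      ∀ s, φ.1 (MvPowerSeries.X s : MvPowerSeries σ Λ) = x s := by
  obtain ⟨N, hN⟩ := isNilpotent_maximalIdeal_of_artinian A
  obtain ⟨φ, hφ⟩ := exists_algHom_X_eq (Λ := Λ) (IsLocalRing.maximalIdeal A) N hN x hx
  refine ⟨⟨φ, res_comp_eq_psRes A φ (fun s => by rw [hφ]; exact hx s)⟩, hφ⟩

theorem psCRing_homSet_ext (A : Art Λ k) (φ₁ φ₂ : HomSet (psCRing σ hk).carrier (psCRing σ hk).res A)
    (h : ∀ s, φ₁.1 (MvPowerSeries.X s : MvPowerSeries σ Λ) = φ₂.1 (MvPowerSeries.X s)) : φ₁ = φ₂ := by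
  obtain ⟨N, hN⟩ := isNilpotent_maximalIdeal_of_artinian A
  apply Subtype.ext
  exact algHom_ext_of_X (IsLocalRing.maximalIdeal A) N hN φ₁.1 φ₂.1 (homSet_X_mem hk A φ₁) h

/-- Maps out of the power series ring lift along surjections. -/
theorem psCRing_lift {B A : Art Λ k} (μ : B ⟶ A) (hμ : Function.Surjective μ)
    (φ : HomSet (psCRing σ hk).carrier (psCRing σ hk).res A) :
    ∃ ψ : HomSet (psCRing σ hk).carrier (psCRing σ hk).res B, HomSet.map μ ψ = φ := by
  choose y hy using fun s => hμ (φ.1 (MvPowerSeries.X s : MvPowerSeries σ Λ))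
  have hym : ∀ s, y s ∈ IsLocalRing.maximalIdeal B := by
    intro s
    rw [Art.mem_maximalIdeal_iff, ← Art.res_app μ, hy, ← Art.mem_maximalIdeal_iff]
    exact homSet_X_mem hk A φ s
  obtain ⟨ψ, hψ⟩ := psCRing_exists_homSet hk B y hym
  refine ⟨ψ, psCRing_homSet_ext hk A _ _ (fun s => ?_)⟩
  change μ (ψ.1 (MvPowerSeries.X s)) = _
  rw [hψ, hy]

theorem isSmoothFunctor_psCRing :
    IsSmoothFunctor (hR (psCRing σ hk).carrier (psCRing σ hk).res) := by
  intro B A μ hμ φ
  exact psCRing_lift hk μ hμ φ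

end PsHom

end PsCRing

end Groth.Agent.Lib.Helper19
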