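import Groth.Agent.Lib.Helper19MinimalHull
import Groth.Agent.Lib.Helper19PsCRing
import Groth.Agent.Lib.Helper19Torsor
import Groth.Agent.Lib.Helper19FormalBij
import Groth.Agent.Lib.Helper19SmallExt

/-!
# Existence of minimal versal families (helper19)

A versal family `(R, ξ)` of a functor with `F(k)` a point has a quotient `R/J` over which the induced
family is minimal versal.
-/

set_option autoImplicit false
universe u v w

open CategoryTheory ArtFun ArtFun.Art

namespace Groth.Agent.Lib.Helper19.MinVersal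

variable {Λ : Type u} {k : Type u} [CommRing Λ] [Field k] [Algebra Λ k]
variable {F : Art Λ k ⥤ Type v}

section LiftProp

variable {R : CRing Λ k} (ξ : Family R.carrier R.res F) (J : Ideal R.carrier)

/-- The lifting property along `μ` for maps killing `J`. -/
def LiftProp ⦃A B : Art Λ k⦄ (μ : B ⟶ A) : Prop :=
  ∀ (φ : HomSet R.carrier R.res A) (y : F.obj B), (∀ x ∈ J, φ.1 x = 0) → F.map μ y = ξ.app A φ →
    ∃ ψ : HomSet R.carrier R.res B, (∀ x ∈ J, ψ.1 x = 0) ∧ HomSet.map μ ψ = φ ∧ ξ.app B ψ = y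

/-- Versality of the family induced on `R/J`, phrased on `R`. -/
def VersalMod : Prop :=
  ∀ ⦃A B : Art Λ k⦄ (μ : B ⟶ A), Function.Surjective μ → LiftProp ξ J μ

lemma homSet_map_comp {A B C : Art Λ k} (f : A ⟶ B) (g : B ⟶ C) (φ : HomSet R.carrier R.res A) :
    HomSet.map (f ≫ g) φ = HomSet.map g (HomSet.map f φ) :=
  Subtype.ext (AlgHom.ext fun _ => rfl)

lemma homSet_map_id {A : Art Λ k} (φ : HomSet R.carrier R.res A) :
    HomSet.map (𝟙 A) φ = φ :=
  Subtype.ext (AlgHom.ext fun _ => rfl)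

theorem versalMod_of_small
    (h : ∀ ⦃A B : Art Λ k⦄ (μ : B ⟶ A), IsSmallExt μ → LiftProp ξ J μ) : VersalMod ξ J := by
  intro A B μ hμ
  refine surjective_induction (fun A B μ => LiftProp ξ J μ) ?_ h ?_ μ hμ
  · intro A B e he φ y hφ hy
    haveI := he
    refine ⟨HomSet.map (inv e) φ, ?_, ?_, ?_⟩
    · intro x hx
      show (inv e) (φ.1 x) = 0
      rw [hφ x hx]
      exact map_zero (inv e).toAlgHom
    · rw [← homSet_map_comp, IsIso.inv_hom_id, homSet_map_id]
    · rw [ξ.natural, ← hy, map_inv_map]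
  · intro A B C p q hp hq φ y hφ hy
    rw [map_comp_apply'] at hy
    obtain ⟨ψ', h1, h2, h3⟩ := hq φ (F.map p y) hφ hy
    obtain ⟨ψ, h4, h5, h6⟩ := hp ψ' y h1 h3.symm
    refine ⟨ψ, h4, ?_, h6⟩
    rw [homSet_map_comp, h5, h2]

theorem versalMod_bot_iff : VersalMod ξ ⊥ ↔ IsVersal ξ := by
  constructor
  · intro h B A μ hμ φ y hy
    obtain ⟨ψ, _, h2, h3⟩ := h μ hμ φ y (by
      intro x hx
      rw [Ideal.mem_bot] at hx
      rw [hx, map_zero]) hy
    exact ⟨ψ, h2, h3⟩
  · intro h A B μ hμ φ y _ hy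
    obtain ⟨ψ, h2, h3⟩ := h μ hμ φ y hy
    refine ⟨ψ, ?_, h2, h3⟩
    intro x hx
    rw [Ideal.mem_bot] at hx
    rw [hx, map_zero]

end LiftProp


section Shift

variable {R : CRing Λ k} {B : Art Λ k}

lemma homSet_res (ψ : HomSet R.carrier R.res B) (z : R.carrier) : B.res (ψ.1 z) = R.res z :=
  AlgHom.congr_fun ψ.2 z

lemma homSet_dfst (v : HomSet R.carrier R.res (dual Λ k)) (z : R.carrier) :
    dfst (v.1 z) = R.res z := by
  rw [dfst_eq_res]; exact homSet_res v z

/-- `z ↦ ψ z + d(z) t` for a tangent vector `v = (res, d)` and a socle element `t`. -/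
noncomputable def homShift (ψ : HomSet R.carrier R.res B) (v : HomSet R.carrier R.res (dual Λ k))
    {t : B} (ht : IsSocle B t) (htm : t ∈ IsLocalRing.maximalIdeal B) : HomSet R.carrier R.res B :=
  ⟨{ toFun := fun z => ψ.1 z + kmul B (dsnd (v.1 z)) t
     map_one' := by
       rw [map_one, map_one, dsnd_one, kmul_zero' ht, add_zero]
     map_mul' := fun z z' => by
       rw [map_mul, map_mul, dsnd_mul, kmul_add ht, homSet_dfst, homSet_dfst,
         ← homSet_res ψ z, ← homSet_res ψ z', ← mul_kmul ht, ← mul_kmul ht]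
       have h0 := kmul_mul_kmul ht htm (dsnd (v.1 z)) (dsnd (v.1 z'))
       linear_combination (-1 : B) * h0
     map_zero' := by
       rw [map_zero, map_zero, dsnd_zero, kmul_zero' ht, add_zero]
     map_add' := fun z z' => by
       rw [map_add, map_add, dsnd_add, kmul_add ht]
       ring
     commutes' := fun r => by
       rw [AlgHom.commutes, AlgHom.commutes, dsnd_algebraMap, kmul_zero' ht, add_zero] }, by
    apply AlgHom.ext
    intro z
    change B.res (ψ.1 z + kmul B (dsnd (v.1 z)) t) = R.res z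
    rw [map_add, res_kmul htm, add_zero, homSet_res]⟩

lemma homShift_apply (ψ : HomSet R.carrier R.res B) (v : HomSet R.carrier R.res (dual Λ k))
    {t : B} (ht : IsSocle B t) (htm : t ∈ IsLocalRing.maximalIdeal B) (z : R.carrier) :
    (homShift ψ v ht htm).1 z = ψ.1 z + kmul B (dsnd (v.1 z)) t := rfl

end Shift


section Key

variable {R : CRing Λ k}

lemma kmul_add_neg {B : Art Λ k} {t : B} (ht : IsSocle B t) (c : k) :
    kmul B c t + kmul B (-c) t = 0 := by
  rw [← kmul_add ht, add_neg_cancel, kmul_zero' ht]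

/-- If a versal family is invariant under an endomorphism `h` and two tangent vectors agreeing after `h` differ at `x`,
the family stays versal modulo `x`. -/
theorem versalMod_span_of_endo (ξ : Family R.carrier R.res F) (hξ : IsVersal ξ)
    (h : R.carrier →ₐ[Λ] R.carrier) (hh : R.res.comp h = R.res)
    (hinv : ∀ (A : Art Λ k) (φ : HomSet R.carrier R.res A),
        ξ.app A ⟨φ.1.comp h, by rw [← AlgHom.comp_assoc, φ.2, hh]⟩ = ξ.app A φ)
    (v₁ v₂ : HomSet R.carrier R.res (dual Λ k)) (hv : v₁.1.comp h = v₂.1.comp h)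
    (x : R.carrier) (hx : dsnd (v₁.1 x) ≠ dsnd (v₂.1 x)) :
    VersalMod ξ (Ideal.span {x}) := by
  apply versalMod_of_small
  intro A B μ hμ φ y hφ hy
  obtain ⟨ψ', h1, h2⟩ := hξ μ hμ.1 φ y hy
  set t : B := ψ'.1 x with ht_def
  have hμψ : ∀ z, μ (ψ'.1 z) = φ.1 z := fun z =>
    AlgHom.congr_fun (congrArg Subtype.val h1) z
  have htker : t ∈ RingHom.ker μ.toAlgHom := by
    rw [RingHom.mem_ker]
    show μ (ψ'.1 x) = 0
    rw [hμψ]
    exact hφ x (Ideal.mem_span_singleton_self x)
  have htm : t ∈ IsLocalRing.maximalIdeal B := ker_le_maximalIdeal μ htker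
  have ht : IsSocle B t := by
    intro b hb
    have : b * t ∈ IsLocalRing.maximalIdeal B * RingHom.ker μ.toAlgHom := Ideal.mul_mem_mul hb htker
    rw [hμ.2.2.2, Ideal.mem_bot] at this
    exact this
  have hd : dsnd (v₁.1 x) - dsnd (v₂.1 x) ≠ 0 := sub_ne_zero.2 hx
  obtain ⟨c, hc⟩ : ∃ c : k, c = -(dsnd (v₁.1 x) - dsnd (v₂.1 x))⁻¹ := ⟨_, rfl⟩
  set ψ'' : HomSet R.carrier R.res B :=
    homShift (homShift ψ' (HomSet.map (scale c) v₁) ht htm) (HomSet.map (scale (-c)) v₂) ht htm
    with hψ''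
  have happ : ∀ z, ψ''.1 z = ψ'.1 z + kmul B (c * dsnd (v₁.1 z)) t + kmul B (-c * dsnd (v₂.1 z)) t := by
    intro z
    rw [hψ'', homShift_apply, homShift_apply]
    rfl
  have hμk : ∀ a : k, μ (kmul B a t) = 0 := by
    intro a
    show μ (resLift B a * t) = 0
    rw [hom_map_mul]
    have : μ t = 0 := htker
    rw [this, mul_zero]
  have hx0 : ψ''.1 x = 0 := by
    rw [happ, add_assoc, ← kmul_add ht]
    have : c * dsnd (v₁.1 x) + -c * dsnd (v₂.1 x) = -1 := by
      rw [hc]
      field_simp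
      ring
    rw [this]
    have h3 := kmul_add_neg ht (1 : k) (B := B) (t := t)
    rw [kmul_one' ht] at h3
    exact h3
  refine ⟨ψ'', ?_, ?_, ?_⟩
  · intro x' hx'
    obtain ⟨a, rfl⟩ := Ideal.mem_span_singleton'.1 hx'
    rw [map_mul, hx0, mul_zero]
  · apply Subtype.ext
    apply AlgHom.ext
    intro z
    show μ (ψ''.1 z) = φ.1 z
    rw [happ, hom_map_add, hom_map_add, hμk, hμk, add_zero, add_zero, hμψ]
  · have hcomp : (⟨ψ''.1.comp h, by rw [← AlgHom.comp_assoc, ψ''.2, hh]⟩ : HomSet R.carrier R.res B) =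
        ⟨ψ'.1.comp h, by rw [← AlgHom.comp_assoc, ψ'.2, hh]⟩ := by
      apply Subtype.ext
      apply AlgHom.ext
      intro z
      show ψ''.1 (h z) = ψ'.1 (h z)
      rw [happ]
      have e : v₁.1 (h z) = v₂.1 (h z) := AlgHom.congr_fun hv z
      rw [e, add_assoc, neg_mul, kmul_add_neg ht, add_zero]
    rw [← hinv B ψ'', hcomp, hinv B ψ', h2]

end Key


section Quot

variable (R : CRing Λ k) (J : Ideal R.carrier) (hJ : J ≤ IsLocalRing.maximalIdeal R.carrier)
variable (ξ : Family R.carrier R.res F)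

/-- Descend a map killing `J` to the quotient coefficient ring. -/
noncomputable def homSetDesc {A : Art Λ k} (φ : HomSet R.carrier R.res A) (hφ : ∀ x ∈ J, φ.1 x = 0) :
    HomSet (quotCRing R J hJ).carrier (quotCRing R J hJ).res A :=
  ⟨Ideal.Quotient.liftₐ J φ.1 hφ, by
    apply AlgHom.ext
    intro z
    obtain ⟨a, rfl⟩ := Ideal.Quotient.mk_surjective z
    exact AlgHom.congr_fun φ.2 a⟩

/-- Pull back a map from the quotient coefficient ring. -/
noncomputable def homSetPull {A : Art Λ k}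
    (φ' : HomSet (quotCRing R J hJ).carrier (quotCRing R J hJ).res A) : HomSet R.carrier R.res A :=
  ⟨φ'.1.comp (quotCRingMk R J hJ), by rw [← AlgHom.comp_assoc, φ'.2, quotCRingMk_res]⟩

lemma homSetPull_apply {A : Art Λ k}
    (φ' : HomSet (quotCRing R J hJ).carrier (quotCRing R J hJ).res A) (a : R.carrier) :
    (homSetPull R J hJ φ').1 a = φ'.1 (quotCRingMk R J hJ a) := rfl

lemma homSetDesc_mk {A : Art Λ k} (φ : HomSet R.carrier R.res A) (hφ : ∀ x ∈ J, φ.1 x = 0)
    (a : R.carrier) : (homSetDesc R J hJ φ hφ).1 (quotCRingMk R J hJ a) = φ.1 a := rfl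

lemma homSetPull_desc {A : Art Λ k} (φ : HomSet R.carrier R.res A) (hφ : ∀ x ∈ J, φ.1 x = 0) :
    homSetPull R J hJ (homSetDesc R J hJ φ hφ) = φ :=
  Subtype.ext (AlgHom.ext fun _ => rfl)

lemma along_quot_app {A : Art Λ k}
    (φ' : HomSet (quotCRing R J hJ).carrier (quotCRing R J hJ).res A) :
    (ξ.along (quotCRingMk R J hJ) (quotCRingMk_res R J hJ)).app A φ' =
      ξ.app A (homSetPull R J hJ φ') := rfl

theorem versalMod_quot_iff (K' : Ideal (quotCRing R J hJ).carrier) :
    VersalMod (ξ.along (quotCRingMk R J hJ) (quotCRingMk_res R J hJ)) K' ↔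
      VersalMod ξ (K'.comap (quotCRingMk R J hJ)) := by
  have hJle : ∀ x ∈ J, x ∈ K'.comap (quotCRingMk R J hJ) := by
    intro x hx
    rw [Ideal.mem_comap, (quotCRingMk_eq_zero_iff R J hJ x).2 hx]
    exact K'.zero_mem
  constructor
  · intro h A B μ hμ φ y hφ hy
    have hφJ : ∀ x ∈ J, φ.1 x = 0 := fun x hx => hφ x (hJle x hx)
    have hφ' : ∀ x' ∈ K', (homSetDesc R J hJ φ hφJ).1 x' = 0 := by
      intro x' hx'
      obtain ⟨a, rfl⟩ := quotCRingMk_surjective R J hJ x'
      rw [homSetDesc_mk]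
      exact hφ a hx'
    obtain ⟨ψ', h1, h2, h3⟩ := h μ hμ (homSetDesc R J hJ φ hφJ) y hφ' (by
      rw [along_quot_app, homSetPull_desc]; exact hy)
    refine ⟨homSetPull R J hJ ψ', ?_, ?_, ?_⟩
    · intro a ha
      rw [homSetPull_apply]
      exact h1 _ ha
    · have := congrArg (homSetPull R J hJ) h2
      rw [homSetPull_desc] at this
      rw [← this]
      exact Subtype.ext (AlgHom.ext fun _ => rfl)
    · rw [← along_quot_app]; exact h3
  · intro h A B μ hμ φ' y hφ' hy
    have hφ : ∀ x ∈ K'.comap (quotCRingMk R J hJ), (homSetPull R J hJ φ').1 x = 0 := by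
      intro a ha
      rw [homSetPull_apply]
      exact hφ' _ ha
    obtain ⟨ψ, h1, h2, h3⟩ := h μ hμ (homSetPull R J hJ φ') y hφ (by
      rw [← along_quot_app]; exact hy)
    have hψJ : ∀ x ∈ J, ψ.1 x = 0 := fun x hx => h1 x (hJle x hx)
    refine ⟨homSetDesc R J hJ ψ hψJ, ?_, ?_, ?_⟩
    · intro x' hx'
      obtain ⟨a, rfl⟩ := quotCRingMk_surjective R J hJ x'
      rw [homSetDesc_mk]
      exact h1 a hx'
    · apply Subtype.ext
      apply AlgHom.ext
      intro x'
      obtain ⟨a, rfl⟩ := quotCRingMk_surjective R J hJ x'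
      have := AlgHom.congr_fun (congrArg Subtype.val h2) a
      exact this
    · rw [along_quot_app, homSetPull_desc]; exact h3

end Quot


section Main

lemma dsnd_sub' (x y : dual Λ k) : dsnd (x - y) = dsnd x - dsnd y := rfl

/-- If a versal family is not minimal, it stays versal modulo some nonzero element of the maximal ideal. -/
theorem exists_versalMod_span_of_not_surjective (h0 : H0 F) (R' : CRing Λ k)
    (ξ' : Family R'.carrier R'.res F) (hξ' : IsVersal ξ')
    (R'' : CRing Λ k) (u : FormalElt F R'') (f : R''.carrier →ₐ[Λ] R'.carrier)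
    (hf : R'.res.comp f = R''.res) (hpush : u.push f hf = ξ'.toFormalElt)
    (hns : ¬ Function.Surjective f) :
    ∃ xb : R'.carrier, xb ∈ IsLocalRing.maximalIdeal R'.carrier ∧ xb ≠ 0 ∧
      VersalMod ξ' (Ideal.span {xb}) := by
  obtain ⟨g₁, hg₁, hgu⟩ := exists_along_toFormalElt_eq h0 R' ξ' hξ' R'' u
  let h : R'.carrier →ₐ[Λ] R'.carrier := f.comp g₁
  have hh : R'.res.comp h = R'.res := by
    rw [← AlgHom.comp_assoc, hf, hg₁]
  have hfam : ξ'.along h hh = ξ' := by
    apply toFormalElt_injective R'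
    have e1 : ξ'.along h hh = (ξ'.along g₁ hg₁).along f hf := rfl
    show (ξ'.along h hh).toFormalElt = ξ'.toFormalElt
    rw [e1, ← push_toFormalElt, hgu, hpush]
  have hinv : ∀ (A : Art Λ k) (φ : HomSet R'.carrier R'.res A),
      ξ'.app A ⟨φ.1.comp h, by rw [← AlgHom.comp_assoc, φ.2, hh]⟩ = ξ'.app A φ := by
    intro A φ
    have := congrArg (fun η : Family R'.carrier R'.res F => η.app A φ) hfam
    exact this
  have hhns : ¬ Function.Surjective h := fun hs => hns (fun y => by
    obtain ⟨a, ha⟩ := hs y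
    exact ⟨g₁ a, ha⟩)
  have hex : ¬ ∀ φ₁ φ₂ : HomSet R'.carrier R'.res (dual Λ k),
      φ₁.1.comp h = φ₂.1.comp h → φ₁ = φ₂ :=
    fun hall => hhns (surjective_of_tangent_restrict_injective h hh hall)
  push Not at hex
  obtain ⟨v₁, v₂, hv, hvne⟩ := hex
  have hx₀ : ∃ x₀, dsnd (v₁.1 x₀) ≠ dsnd (v₂.1 x₀) := by
    by_contra hcon
    push Not at hcon
    apply hvne
    apply Subtype.ext
    apply AlgHom.ext
    intro r
    exact dual_ext (by rw [homSet_dfst, homSet_dfst]) (hcon r)
  obtain ⟨x₀, hx₀⟩ := hx₀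
  have hxbd : dsnd (v₁.1 (x₀ - h x₀)) ≠ dsnd (v₂.1 (x₀ - h x₀)) := by
    have e : v₁.1 (h x₀) = v₂.1 (h x₀) := AlgHom.congr_fun hv x₀
    rw [map_sub, map_sub, dsnd_sub', dsnd_sub', e]
    intro heq
    exact hx₀ (sub_left_injective heq)
  refine ⟨x₀ - h x₀, ?_, ?_, versalMod_span_of_endo ξ' hξ' h hh hinv v₁ v₂ hv _ hxbd⟩
  · rw [CRing.mem_maximalIdeal_iff, map_sub]
    have : R'.res (h x₀) = R'.res x₀ := AlgHom.congr_fun hh x₀
    rw [this, sub_self]
  · intro h0'
    apply hxbd
    rw [h0', map_zero, map_zero]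

/-- A versal family of a functor with `F(k)` a point induces a minimal versal family on a quotient of its
coefficient ring. -/
theorem exists_quot_isMinimalVersal (h0 : H0 F) (R : CRing Λ k) (ξ : Family R.carrier R.res F)
    (hξ : IsVersal ξ) :
    ∃ (J : Ideal R.carrier) (hJ : J ≤ IsLocalRing.maximalIdeal R.carrier),
      (ξ.along (quotCRingMk R J hJ) (quotCRingMk_res R J hJ)).IsMinimalVersal := by
  classical
  let S : Set (Ideal R.carrier) := {J | J ≤ IsLocalRing.maximalIdeal R.carrier ∧ VersalMod ξ J}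
  have hne : S.Nonempty := ⟨⊥, bot_le, (versalMod_bot_iff ξ).2 hξ⟩
  obtain ⟨J, ⟨hJ, hJv⟩, hmax⟩ :=
    set_has_maximal_iff_noetherian.2 (inferInstance : IsNoetherian R.carrier R.carrier) S hne
  have hcomap_bot : (⊥ : Ideal (quotCRing R J hJ).carrier).comap (quotCRingMk R J hJ) = J := by
    ext a
    rw [Ideal.mem_comap, Ideal.mem_bot, quotCRingMk_eq_zero_iff]
  have hξ' : IsVersal (ξ.along (quotCRingMk R J hJ) (quotCRingMk_res R J hJ)) := by
    rw [← versalMod_bot_iff, versalMod_quot_iff, hcomap_bot]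
    exact hJv
  refine ⟨J, hJ, hξ', ?_⟩
  intro R'' u f hf hpush
  by_contra hns
  obtain ⟨xb, hxbm, hxb0, hK⟩ := exists_versalMod_span_of_not_surjective h0 (quotCRing R J hJ)
    (ξ.along (quotCRingMk R J hJ) (quotCRingMk_res R J hJ)) hξ' R'' u f hf hpush hns
  rw [versalMod_quot_iff] at hK
  have hKm : (Ideal.span {xb}).comap (quotCRingMk R J hJ) ≤ IsLocalRing.maximalIdeal R.carrier := by
    intro a ha
    rw [Ideal.mem_comap] at ha
    have h1 : quotCRingMk R J hJ a ∈ IsLocalRing.maximalIdeal (quotCRing R J hJ).carrier :=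
      (Ideal.span_singleton_le_iff_mem _).2 hxbm ha
    rw [CRing.mem_maximalIdeal_iff] at h1 ⊢
    have h2 : (quotCRing R J hJ).res (quotCRingMk R J hJ a) = R.res a :=
      AlgHom.congr_fun (quotCRingMk_res R J hJ) a
    rw [← h2]; exact h1
  have hJK : J < (Ideal.span {xb}).comap (quotCRingMk R J hJ) := by
    refine lt_of_le_of_ne ?_ ?_
    · intro a ha
      rw [Ideal.mem_comap, (quotCRingMk_eq_zero_iff R J hJ a).2 ha]
      exact Ideal.zero_mem _
    · intro heq
      obtain ⟨a, ha⟩ := quotCRingMk_surjective R J hJ xb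
      have h1 : a ∈ (Ideal.span {xb}).comap (quotCRingMk R J hJ) := by
        rw [Ideal.mem_comap, ha]; exact Ideal.mem_span_singleton_self xb
      rw [← heq] at h1
      apply hxb0
      rw [← ha]; exact (quotCRingMk_eq_zero_iff R J hJ a).2 h1
  exact hmax _ ⟨hKm, hK⟩ hJK

end Main

end Groth.Agent.Lib.Helper19.MinVersal
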