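import Groth.Agent.Lib.Helper19MinVersalA
import Groth.Agent.Lib.Helper19PsLiftComplete
import Groth.Agent.Lib.Helper19Endo

/-!
# A versal family is a power series extension of a minimal versal one (helper19)
-/

set_option autoImplicit false
universe u v w

open CategoryTheory ArtFun ArtFun.Art

namespace Groth.Agent.Lib.Helper19.MinVersal

section Generators

open TensorProduct in
/-- Minimal generators of an ideal of a Noetherian local ring: they generate, and are independent modulo the
maximal ideal. -/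
theorem exists_minimal_generators {R : Type*} [CommRing R] [IsLocalRing R] [IsNoetherianRing R]
    (J : Ideal R) :
    ∃ (n : ℕ) (x : Fin n → R), (∀ i, x i ∈ J) ∧ Ideal.span (Set.range x) = J ∧
      ∀ r : Fin n → R, ∑ i, r i * x i ∈ IsLocalRing.maximalIdeal R * J →
        ∀ i, r i ∈ IsLocalRing.maximalIdeal R := by
  classical
  let K := IsLocalRing.ResidueField R
  let b := Module.finBasis K (K ⊗[R] J)
  have hsurj : Function.Surjective (TensorProduct.mk R K J 1) :=
    TensorProduct.mk_surjective R J K IsLocalRing.residue_surjective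
  choose f hf using fun i => hsurj (b i)
  have hspan := IsLocalRing.span_eq_top_of_tmul_eq_basis (R := R) (M := J) f b hf
  refine ⟨_, fun i => (f i : R), fun i => (f i).2, ?_, ?_⟩
  · have h1 := congrArg (Submodule.map J.subtype) hspan
    rw [Submodule.map_span, Submodule.map_subtype_top, ← Set.range_comp] at h1
    exact h1
  · intro r hr
    have hy : (∑ i, r i • f i : J) ∈ IsLocalRing.maximalIdeal R • (⊤ : Submodule R J) := by
      rw [Submodule.mem_smul_top_iff]
      have : ((∑ i, r i • f i : J) : R) = ∑ i, r i * (f i : R) := by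
        rw [AddSubmonoidClass.coe_finset_sum]
        rfl
      rw [this]
      exact hr
    have hzero : ∀ y ∈ IsLocalRing.maximalIdeal R • (⊤ : Submodule R J),
        (1 : K) ⊗ₜ[R] y = 0 := by
      intro y hy
      refine Submodule.smul_induction_on hy ?_ ?_
      · intro a ha j _
        rw [← TensorProduct.smul_tmul, Algebra.smul_def, mul_one]
        have : algebraMap R K a = 0 := (IsLocalRing.residue_eq_zero_iff a).2 ha
        rw [this, TensorProduct.zero_tmul]
      · intro y z hy hz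
        rw [TensorProduct.tmul_add, hy, hz, add_zero]
    have h2 := hzero _ hy
    rw [TensorProduct.tmul_sum] at h2
    have h3 : ∑ i, (IsLocalRing.residue R (r i)) • b i = 0 := by
      rw [← h2]
      apply Finset.sum_congr rfl
      intro i _
      rw [← hf i]
      show _ = (1 : K) ⊗ₜ[R] (r i • f i)
      rw [TensorProduct.tmul_smul, TensorProduct.smul_tmul']
      show (IsLocalRing.residue R (r i)) • ((1 : K) ⊗ₜ[R] f i) = (r i • (1 : K)) ⊗ₜ[R] f i
      rw [TensorProduct.smul_tmul']
      congr 1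
    have h4 := Fintype.linearIndependent_iff.1 b.linearIndependent _ h3
    intro i
    exact (IsLocalRing.residue_eq_zero_iff (r i)).1 (h4 i)

end Generators


variable {Λ : Type u} {k : Type u} [CommRing Λ] [Field k] [Algebra Λ k]
variable {F : Art Λ k ⥤ Type v}

section Section

/-- A versal family mapping onto a minimal versal one: the quotient map has a section carrying the minimal
versal family back to the versal one. -/
theorem exists_section (h0 : H0 F) (R R' : CRing Λ k)
    (ξ : Family R.carrier R.res F)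
    (π : R.carrier →ₐ[Λ] R'.carrier) (hπ : R'.res.comp π = R.res)
    (hmin : (ξ.along π hπ).IsMinimalVersal) :
    ∃ (g : R'.carrier →ₐ[Λ] R.carrier) (hg : R.res.comp g = R'.res),
      π.comp g = AlgHom.id Λ R'.carrier ∧ (ξ.along π hπ).along g hg = ξ := by
  obtain ⟨g₀, hg₀, hgξ⟩ := exists_along_toFormalElt_eq h0 R' (ξ.along π hπ) hmin.1 R ξ.toFormalElt
  have hfam₀ : (ξ.along π hπ).along g₀ hg₀ = ξ := toFormalElt_injective R hgξ
  let α : R'.carrier →ₐ[Λ] R'.carrier := π.comp g₀
  have hα : R'.res.comp α = R'.res := by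
    rw [← AlgHom.comp_assoc, hπ, hg₀]
  have hfamα : (ξ.along π hπ).along α hα = ξ.along π hπ := by
    have e1 : (ξ.along π hπ).along α hα = ((ξ.along π hπ).along g₀ hg₀).along π hπ := rfl
    rw [e1, hfam₀]
  have hαs : Function.Surjective α := by
    apply hmin.2 R' (ξ.along π hπ).toFormalElt α hα
    rw [push_toFormalElt, hfamα]
  have hαi : Function.Injective α :=
    ringHom_injective_of_surjective_endo (α : R'.carrier →+* R'.carrier) hαs
  let e : R'.carrier ≃ₐ[Λ] R'.carrier := AlgEquiv.ofBijective α ⟨hαi, hαs⟩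
  have he : ∀ a, α (e.symm a) = a := fun a => e.apply_symm_apply a
  have hres_e : ∀ a, R'.res (e.symm a) = R'.res a := by
    intro a
    have h1 : R'.res (α (e.symm a)) = R'.res (e.symm a) := AlgHom.congr_fun hα (e.symm a)
    rw [he] at h1
    exact h1.symm
  let g : R'.carrier →ₐ[Λ] R.carrier := g₀.comp (e.symm : R'.carrier →ₐ[Λ] R'.carrier)
  have hg : R.res.comp g = R'.res := by
    apply AlgHom.ext
    intro a
    show R.res (g₀ (e.symm a)) = R'.res a
    have h1 : R.res (g₀ (e.symm a)) = R'.res (e.symm a) := AlgHom.congr_fun hg₀ (e.symm a)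
    rw [h1, hres_e]
  refine ⟨g, hg, ?_, ?_⟩
  · apply AlgHom.ext
    intro a
    show π (g₀ (e.symm a)) = a
    exact he a
  · apply family_ext
    intro A ψ
    -- `(ξ'.along g).app ψ = ξ'.app (ψ ∘ g₀ ∘ e.symm) = ξ'.app (ψ ∘ g₀ ∘ e.symm ∘ α) = ξ'.app (ψ ∘ g₀) = ξ.app ψ`
    have hχ : A.res.comp (ψ.1.comp g) = R'.res := by
      rw [← AlgHom.comp_assoc, ψ.2, hg]
    have h1 := congrArg (fun η : Family R'.carrier R'.res F => η.app A ⟨ψ.1.comp g, hχ⟩) hfamα
    have h2 := congrArg (fun η : Family R.carrier R.res F => η.app A ψ) hfam₀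
    show (ξ.along π hπ).app A ⟨ψ.1.comp g, hχ⟩ = ξ.app A ψ
    rw [← h2]
    change ((ξ.along π hπ).along α hα).app A ⟨ψ.1.comp g, hχ⟩ = (ξ.along π hπ).app A ⟨ψ.1.comp g, hχ⟩ at h1
    rw [← h1]
    show (ξ.along π hπ).app A ⟨(ψ.1.comp g).comp α, _⟩ = (ξ.along π hπ).app A ⟨ψ.1.comp g₀, _⟩
    congr 1
    apply Subtype.ext
    apply AlgHom.ext
    intro a
    show ψ.1 (g₀ (e.symm (α a))) = ψ.1 (g₀ a)
    rw [show e.symm (α a) = a from e.symm_apply_apply a]

end Section


section PsOver

open MvPowerSeries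

variable (R' : CRing Λ k) (n : ℕ)

/-- The constant coefficient as a `Λ`-algebra map. -/
noncomputable def constCoeffₐ : MvPowerSeries (Fin n) R'.carrier →ₐ[Λ] R'.carrier :=
  { (MvPowerSeries.constantCoeff (σ := Fin n) (R := R'.carrier)) with
    commutes' := fun r => by
      show constantCoeff (algebraMap Λ (MvPowerSeries (Fin n) R'.carrier) r) = _
      rw [MvPowerSeries.algebraMap_apply, constantCoeff_C] }

lemma constCoeffₐ_apply (f : MvPowerSeries (Fin n) R'.carrier) :
    constCoeffₐ R' n f = constantCoeff f := rfl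

/-- The power series ring over a coefficient ring, as a coefficient ring. -/
@[reducible] noncomputable def psOver : CRing Λ k where
  carrier := MvPowerSeries (Fin n) R'.carrier
  res := R'.res.comp (constCoeffₐ R' n)
  res_surjective := fun c => by
    obtain ⟨a, ha⟩ := R'.res_surjective c
    refine ⟨C a, ?_⟩
    show R'.res (constantCoeff (C a)) = c
    rw [constantCoeff_C, ha]
  isAdicComplete := by
    haveI := R'.isAdicComplete
    exact isAdicComplete_mvPowerSeries

lemma psOver_res_apply (f : MvPowerSeries (Fin n) R'.carrier) :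
    (psOver R' n).res f = R'.res (constantCoeff f) := rfl

lemma mem_maximalIdeal_ps (f : MvPowerSeries (Fin n) R'.carrier) :
    f ∈ IsLocalRing.maximalIdeal (MvPowerSeries (Fin n) R'.carrier) ↔
      constantCoeff f ∈ IsLocalRing.maximalIdeal R'.carrier := by
  rw [maximalIdeal_eq_coeffIdeal, mem_coeffIdeal_one]

end PsOver


section MainB

open MvPowerSeries Finsupp

/-- The structure of a versal family over a minimal versal quotient. -/
theorem exists_powerSeries_equiv (h0 : H0 F) (R R' : CRing Λ k)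
    (ξ : Family R.carrier R.res F) (hξ : IsVersal ξ)
    (π : R.carrier →ₐ[Λ] R'.carrier) (hπ : R'.res.comp π = R.res)
    (hmin : (ξ.along π hπ).IsMinimalVersal) :
    ∃ (g : R'.carrier →ₐ[Λ] R.carrier) (hg : R.res.comp g = R'.res) (n : ℕ)
      (e : R.carrier ≃ₐ[Λ] MvPowerSeries (Fin n) R'.carrier),
      (∀ a, e (g a) = algebraMap R'.carrier (MvPowerSeries (Fin n) R'.carrier) a) ∧
      (ξ.along π hπ).along g hg = ξ := by
  classical
  obtain ⟨g, hg, hπg, hfam⟩ := exists_section h0 R R' ξ π hπ hmin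
  have hπg' : ∀ a, π (g a) = a := fun a => AlgHom.congr_fun hπg a
  have hresπ : ∀ a, R'.res (π a) = R.res a := fun a => AlgHom.congr_fun hπ a
  have hresg : ∀ a, R.res (g a) = R'.res a := fun a => AlgHom.congr_fun hg a
  set J : Ideal R.carrier := RingHom.ker (π : R.carrier →+* R'.carrier) with hJdef
  have hmemJ : ∀ a, a ∈ J ↔ π a = 0 := fun a => RingHom.mem_ker
  obtain ⟨n, x, hxJ, hspan, hind⟩ := exists_minimal_generators J
  have hJm : J ≤ IsLocalRing.maximalIdeal R.carrier := by
    intro a ha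
    rw [CRing.mem_maximalIdeal_iff, ← hresπ, (hmemJ a).1 ha, map_zero]
  have hxm : ∀ i, x i ∈ IsLocalRing.maximalIdeal R.carrier := fun i => hJm (hxJ i)
  letI algR'R : Algebra R'.carrier R.carrier := (g : R'.carrier →+* R.carrier).toAlgebra
  haveI : IsScalarTower Λ R'.carrier R.carrier :=
    IsScalarTower.of_algebraMap_eq (fun r => (g.commutes r).symm)
  haveI := R.isAdicComplete
  obtain ⟨φ, hφ⟩ := exists_algHom_X_eq_of_isAdicComplete (Λ := R'.carrier) (σ := Fin n)
    (IsLocalRing.maximalIdeal R.carrier) x hxm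
  let Φ : MvPowerSeries (Fin n) R'.carrier →ₐ[Λ] R.carrier := φ.restrictScalars Λ
  have hΦX : ∀ i, Φ (X i) = x i := hφ
  have hΦC : ∀ a : R'.carrier, Φ (C a) = g a := by
    intro a
    have := φ.commutes a
    rw [← c_eq_algebraMap] at this
    exact this
  -- `Φ` maps the powers of the ideal of the variables into the powers of `J`
  have hΦvars : ∀ (m : ℕ) (f : MvPowerSeries (Fin n) R'.carrier),
      f ∈ varsIdeal (Fin n) R'.carrier ^ m → Φ f ∈ J ^ m := by
    intro m f hf
    have h1 : Ideal.map (Φ : MvPowerSeries (Fin n) R'.carrier →+* R.carrier)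
        (varsIdeal (Fin n) R'.carrier) ≤ J := by
      rw [varsIdeal, Ideal.map_span, Ideal.span_le]
      rintro _ ⟨_, ⟨i, rfl⟩, rfl⟩
      show Φ (X i) ∈ J
      rw [hΦX]; exact hxJ i
    have h2 : Φ f ∈ Ideal.map (Φ : MvPowerSeries (Fin n) R'.carrier →+* R.carrier)
        (varsIdeal (Fin n) R'.carrier ^ m) := Ideal.mem_map_of_mem _ hf
    rw [Ideal.map_pow] at h2
    exact Ideal.pow_right_mono h1 m h2
  have hΦJ : ∀ f : MvPowerSeries (Fin n) R'.carrier, constantCoeff f = 0 → Φ f ∈ J := by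
    intro f hf
    have := hΦvars 1 f (mem_varsIdeal_pow_of_coeff_eq_zero 1 f (by
      intro α hα
      have : α = 0 := (degree_eq_zero_iff α).1 (by omega)
      rw [this, coeff_zero_eq_constantCoeff_apply, hf]))
    rwa [pow_one] at this
  have hπΦ : ∀ f : MvPowerSeries (Fin n) R'.carrier, π (Φ f) = constantCoeff f := by
    intro f
    have h1 : Φ f = Φ (C (constantCoeff f)) + Φ (f - C (constantCoeff f)) := by
      rw [← map_add]; congr 1; ring
    have h2 : Φ (f - C (constantCoeff f)) ∈ J :=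
      hΦJ _ (by rw [map_sub, constantCoeff_C, sub_self])
    rw [h1, map_add, hΦC, hπg', (hmemJ _).1 h2, add_zero]
  have hΦres : R.res.comp Φ = (psOver R' n).res := by
    apply AlgHom.ext
    intro f
    show R.res (Φ f) = R'.res (constantCoeff f)
    rw [← hπΦ, hresπ]
  have hXm : ∀ i : Fin n, (X i : MvPowerSeries (Fin n) R'.carrier) ∈
      IsLocalRing.maximalIdeal (MvPowerSeries (Fin n) R'.carrier) := by
    intro i
    rw [mem_maximalIdeal_ps, constantCoeff_X]
    exact Ideal.zero_mem _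
  -- surjectivity of `Φ`
  have hΦsurj : Function.Surjective Φ := by
    haveI : IsPrecomplete (IsLocalRing.maximalIdeal (MvPowerSeries (Fin n) R'.carrier))
        (MvPowerSeries (Fin n) R'.carrier) :=
      (psOver R' n).isAdicComplete.toIsPrecomplete
    have hmap_le : (IsLocalRing.maximalIdeal (MvPowerSeries (Fin n) R'.carrier)).map
        (Φ : MvPowerSeries (Fin n) R'.carrier →+* R.carrier) ≤
        IsLocalRing.maximalIdeal R.carrier := by
      rw [Ideal.map_le_iff_le_comap]
      intro f hf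
      rw [Ideal.mem_comap, CRing.mem_maximalIdeal_iff]
      show R.res (Φ f) = 0
      rw [← hresπ, hπΦ, ← CRing.mem_maximalIdeal_iff]
      exact (mem_maximalIdeal_ps R' n f).1 hf
    haveI : IsHausdorff ((IsLocalRing.maximalIdeal (MvPowerSeries (Fin n) R'.carrier)).map
        (Φ : MvPowerSeries (Fin n) R'.carrier →+* R.carrier)) R.carrier :=
      IsHausdorff.of_isLocalRing _ _ (fun h =>
        (IsLocalRing.maximalIdeal.isMaximal R.carrier).ne_top (top_le_iff.1 (h ▸ hmap_le)))
    apply surjective_of_mk_map_comp_surjective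
      (I := IsLocalRing.maximalIdeal (MvPowerSeries (Fin n) R'.carrier))
      (Φ : MvPowerSeries (Fin n) R'.carrier →+* R.carrier)
    intro y
    obtain ⟨r, rfl⟩ := Ideal.Quotient.mk_surjective y
    refine ⟨C (π r), ?_⟩
    show Ideal.Quotient.mk _ (Φ (C (π r))) = Ideal.Quotient.mk _ r
    rw [Ideal.Quotient.eq, hΦC]
    have hj : g (π r) - r ∈ J := by rw [hmemJ, map_sub, hπg', sub_self]
    rw [← hspan] at hj
    obtain ⟨c, hc⟩ := (Ideal.mem_span_range_iff_exists_fun).1 hj
    rw [← hc]
    apply Ideal.sum_mem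
    intro i _
    apply Ideal.mul_mem_left
    rw [← hΦX]
    exact Ideal.mem_map_of_mem _ (hXm i)
  -- the kernel of `Φ` lies in the square of the maximal ideal
  have hker : ∀ f : MvPowerSeries (Fin n) R'.carrier, Φ f = 0 →
      f ∈ IsLocalRing.maximalIdeal (MvPowerSeries (Fin n) R'.carrier) ^ 2 := by
    intro f hf
    obtain ⟨c₀, hc₀def⟩ : ∃ c₀ : R'.carrier, c₀ = constantCoeff f := ⟨_, rfl⟩
    obtain ⟨c, hcdef⟩ : ∃ c : Fin n → R'.carrier, c = fun i => coeff (single i 1) f := ⟨_, rfl⟩
    obtain ⟨ρ, hρ⟩ : ∃ ρ : MvPowerSeries (Fin n) R'.carrier,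
        ρ = f - C c₀ - ∑ i, C (c i) * X i := ⟨_, rfl⟩
    have hρ2 : ρ ∈ varsIdeal (Fin n) R'.carrier ^ 2 := by
      apply mem_varsIdeal_pow_of_coeff_eq_zero
      intro α hα
      have h1 := sub_linear_mem_coeffIdeal_two (⊥ : Ideal R'.carrier) f α
      have h2 : (⊥ : Ideal R'.carrier) ^ (2 - degree α) ≤ ⊥ := Ideal.pow_le_self (by omega)
      rw [hρ, hc₀def, hcdef]
      exact (Ideal.mem_bot).1 (h2 h1)
    have hc₀ : c₀ = 0 := by rw [hc₀def, ← hπΦ f, hf, map_zero]
    have hΦρ : Φ ρ ∈ J ^ 2 := hΦvars 2 ρ hρ2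
    have hfdec : f = ∑ i, C (c i) * X i + ρ := by
      rw [hρ, hc₀, map_zero]; ring
    have hsum : ∑ i, g (c i) * x i = - Φ ρ := by
      have h1 : Φ f = ∑ i, g (c i) * x i + Φ ρ := by
        conv_lhs => rw [hfdec]
        rw [map_add, map_sum]
        congr 1
        apply Finset.sum_congr rfl
        intro i _
        rw [map_mul, hΦC, hΦX]
      rw [hf] at h1
      exact eq_neg_of_add_eq_zero_left h1.symm
    have hmem : ∑ i, g (c i) * x i ∈ IsLocalRing.maximalIdeal R.carrier * J := by
      rw [hsum, neg_mem_iff]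
      rw [pow_two] at hΦρ
      exact Ideal.mul_mono_left hJm hΦρ
    have hci := hind (fun i => g (c i)) hmem
    have hci' : ∀ i, c i ∈ IsLocalRing.maximalIdeal R'.carrier := fun i => by
      rw [CRing.mem_maximalIdeal_iff, ← hresg, ← CRing.mem_maximalIdeal_iff]
      exact hci i
    rw [hfdec]
    apply Ideal.add_mem
    · apply Ideal.sum_mem
      intro i _
      rw [pow_two]
      exact Ideal.mul_mem_mul ((mem_maximalIdeal_ps R' n _).2
        (by rw [constantCoeff_C]; exact hci' i)) (hXm i)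
    · have hle : varsIdeal (Fin n) R'.carrier ≤
          IsLocalRing.maximalIdeal (MvPowerSeries (Fin n) R'.carrier) :=
        Ideal.span_le.2 (by rintro _ ⟨i, rfl⟩; exact hXm i)
      exact Ideal.pow_right_mono hle 2 hρ2
  -- the first-order inverse of `Φ`
  have hkerle : RingHom.ker (Φ : MvPowerSeries (Fin n) R'.carrier →ₐ[Λ] R.carrier).toRingHom ≤
      RingHom.ker (((psOver R' n).truncHom 1).1 :
        (psOver R' n).carrier →ₐ[Λ] ((psOver R' n).trunc 1).carrier).toRingHom := by
    intro f hf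
    rw [RingHom.mem_ker] at hf ⊢
    exact (truncHom_eq_zero_iff (psOver R' n) 1 f).2 (hker f hf)
  let Ψ₁a : R.carrier →ₐ[Λ] ((psOver R' n).trunc 1).carrier :=
    AlgHom.liftOfSurjective Φ hΦsurj ((psOver R' n).truncHom 1).1 hkerle
  have hΨ₁a : ∀ f, Ψ₁a (Φ f) = ((psOver R' n).truncHom 1).1 f :=
    fun f => AlgHom.liftOfSurjective_apply Φ hΦsurj ((psOver R' n).truncHom 1).1 hkerle f
  have hΨ₁res : ((psOver R' n).trunc 1).res.comp Ψ₁a = R.res := by
    apply AlgHom.ext
    intro r
    obtain ⟨f, rfl⟩ := hΦsurj r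
    show ((psOver R' n).trunc 1).res (Ψ₁a (Φ f)) = R.res (Φ f)
    rw [hΨ₁a]
    have h1 := AlgHom.congr_fun ((psOver R' n).truncHom 1).2 f
    have h2 := AlgHom.congr_fun hΦres f
    exact h1.trans h2.symm
  let Ψ₁ : HomSet R.carrier R.res ((psOver R' n).trunc 1) := ⟨Ψ₁a, hΨ₁res⟩
  -- the family over the power series ring
  let ι : R'.carrier →ₐ[Λ] (psOver R' n).carrier :=
    (Algebra.ofId R'.carrier (MvPowerSeries (Fin n) R'.carrier)).restrictScalars Λ
  have hιC : ∀ a, ι a = C a := fun a => by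
    show algebraMap R'.carrier (MvPowerSeries (Fin n) R'.carrier) a = C a
    rw [c_eq_algebraMap]
  have hι : (psOver R' n).res.comp ι = R'.res := by
    apply AlgHom.ext
    intro a
    show R'.res (constantCoeff (ι a)) = R'.res a
    rw [hιC, constantCoeff_C]
  have hΦι : Φ.comp ι = g := AlgHom.ext (fun a => by
    show Φ (ι a) = g a
    rw [hιC, hΦC])
  have hζ : ∀ (A : Art Λ k) (ψ : HomSet R.carrier R.res A),
      ξ.app A ψ = ((ξ.along π hπ).along ι hι).app A
        ⟨ψ.1.comp Φ, by rw [← AlgHom.comp_assoc, ψ.2, hΦres]⟩ := by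
    intro A ψ
    have h2 := congrArg (fun η : Family R.carrier R.res F => η.app A ψ) hfam
    rw [← h2]
    show (ξ.along π hπ).app A ⟨ψ.1.comp g, _⟩ = (ξ.along π hπ).app A ⟨(ψ.1.comp Φ).comp ι, _⟩
    congr 1
    apply Subtype.ext
    show ψ.1.comp g = (ψ.1.comp Φ).comp ι
    rw [AlgHom.comp_assoc, hΦι]
  have hΨ₁ζ : ξ.app _ Ψ₁ = ((ξ.along π hπ).along ι hι).toFormalElt.elt 1 := by
    rw [hζ]
    show ((ξ.along π hπ).along ι hι).app _ ⟨Ψ₁a.comp Φ, _⟩ =
      ((ξ.along π hπ).along ι hι).app _ ((psOver R' n).truncHom 1)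
    congr 1
    apply Subtype.ext
    apply AlgHom.ext
    intro f
    exact hΨ₁a f
  obtain ⟨Ψ, hΨres, hΨ1, _⟩ := exists_along_toFormalElt_eq_of_level_one R ξ hξ (psOver R' n)
    ((ξ.along π hπ).along ι hι).toFormalElt Ψ₁ hΨ₁ζ
  have hcompres : (psOver R' n).res.comp (Ψ.comp Φ) = (psOver R' n).res := by
    rw [← AlgHom.comp_assoc, hΨres, hΦres]
  have hcomp : Function.Surjective (Ψ.comp Φ) := by
    apply surjective_of_tangent_restrict_injective (R' := psOver R' n) (R := psOver R' n)
      (Ψ.comp Φ) hcompres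
    intro φ₁ φ₂ h12
    obtain ⟨ū₁, h₁⟩ := exists_factor_trunc_of_pow (psOver R' n) 1 maximalIdeal_dual_sq φ₁
    obtain ⟨ū₂, h₂⟩ := exists_factor_trunc_of_pow (psOver R' n) 1 maximalIdeal_dual_sq φ₂
    apply Subtype.ext
    apply AlgHom.ext
    intro f
    have key : ∀ (φ : HomSet (psOver R' n).carrier (psOver R' n).res (dual Λ k))
        (ū : (psOver R' n).trunc 1 ⟶ dual Λ k),
        HomSet.map ū ((psOver R' n).truncHom 1) = φ → φ.1 (Ψ (Φ f)) = φ.1 f := by
      intro φ ū hū
      have e1 : ∀ s, φ.1 s = ū (((psOver R' n).truncHom 1).1 s) := fun s =>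
        (AlgHom.congr_fun (congrArg Subtype.val hū) s).symm
      rw [e1, e1]
      congr 1
      have h3 : ((psOver R' n).truncHom 1).1 (Ψ (Φ f)) = Ψ₁a (Φ f) :=
        AlgHom.congr_fun hΨ1 (Φ f)
      rw [h3, hΨ₁a]
    rw [← key φ₁ ū₁ h₁, ← key φ₂ ū₂ h₂]
    exact AlgHom.congr_fun h12 f
  have hΦinj : Function.Injective Φ := by
    have hinj := ringHom_injective_of_surjective_endo
      ((Ψ.comp Φ : MvPowerSeries (Fin n) R'.carrier →ₐ[Λ] MvPowerSeries (Fin n) R'.carrier) :
        MvPowerSeries (Fin n) R'.carrier →+* MvPowerSeries (Fin n) R'.carrier) hcomp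
    intro a b hab
    apply hinj
    show Ψ (Φ a) = Ψ (Φ b)
    rw [hab]
  let e₀ : MvPowerSeries (Fin n) R'.carrier ≃ₐ[Λ] R.carrier :=
    AlgEquiv.ofBijective Φ ⟨hΦinj, hΦsurj⟩
  refine ⟨g, hg, n, e₀.symm, ?_, hfam⟩
  intro a
  rw [← c_eq_algebraMap, ← hΦC a]
  exact e₀.symm_apply_apply (C a)

end MainB

end Groth.Agent.Lib.Helper19.MinVersal
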