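import Groth.Agent.Lib.Helper19Minimal
import Groth.Agent.Lib.Helper19Endo
import Groth.Agent.Lib.Helper19Sub

set_option autoImplicit false
universe u v w

open CategoryTheory ArtFun ArtFun.Art

namespace Groth.Agent.Lib.Helper19

section PrescribedLift

variable {Λ : Type u} {k : Type u} [CommRing Λ] [Field k] [Algebra Λ k]

/-- From a versal family, a map to a coefficient ring inducing a given formal element can be found with prescribed
first-order truncation. -/
theorem exists_along_toFormalElt_eq_of_level_one {F : Art Λ k ⥤ Type v}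
    (R : CRing Λ k) (ξ : Family R.carrier R.res F) (hξ : IsVersal ξ)
    (S : CRing Λ k) (η : FormalElt F S) (g : HomSet R.carrier R.res (S.trunc 1))
    (hg : ξ.app _ g = η.elt 1) :
    ∃ (G : R.carrier →ₐ[Λ] S.carrier) (hG : S.res.comp G = R.res),
      (S.truncHom 1).1.comp G = g.1 ∧ (ξ.along G hG).toFormalElt = η := by
  have hstep : ∀ (n : ℕ) (ψ : HomSet R.carrier R.res (S.trunc n)), ξ.app _ ψ = η.elt n →
      ∃ ψ' : HomSet R.carrier R.res (S.trunc (n + 1)),
        HomSet.map (S.truncMap n) ψ' = ψ ∧ ξ.app _ ψ' = η.elt (n + 1) := by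
    intro n ψ hψ
    exact hξ (S.truncMap n) (truncMap_surjective S n) ψ (η.elt (n + 1)) (by rw [η.compat, hψ])
  let w : ∀ n : ℕ, {ψ : HomSet R.carrier R.res (S.trunc (n + 1)) // ξ.app _ ψ = η.elt (n + 1)} :=
    fun n => Nat.rec
      (motive := fun n => {ψ : HomSet R.carrier R.res (S.trunc (n + 1)) // ξ.app _ ψ = η.elt (n + 1)})
      ⟨g, hg⟩
      (fun n x => ⟨Classical.choose (hstep (n + 1) x.1 x.2),
        (Classical.choose_spec (hstep (n + 1) x.1 x.2)).2⟩) n
  have hw : ∀ n, HomSet.map (S.truncMap (n + 1)) (w (n + 1)).1 = (w n).1 := fun n =>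
    (Classical.choose_spec (hstep (n + 1) (w n).1 (w n).2)).1
  let ψ : ∀ n, HomSet R.carrier R.res (S.trunc n) := fun n =>
    match n with
    | 0 => HomSet.map (S.truncMap 0) g
    | (n + 1) => (w n).1
  have hψc : ∀ n, HomSet.map (S.truncMap n) (ψ (n + 1)) = ψ n := by
    intro n
    cases n with
    | zero => rfl
    | succ n => exact hw n
  have hψξ : ∀ n, ξ.app _ (ψ n) = η.elt n := by
    intro n
    cases n with
    | zero =>
      show ξ.app _ (HomSet.map (S.truncMap 0) g) = η.elt 0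
      rw [ξ.natural, hg, η.compat]
    | succ n => exact (w n).2
  obtain ⟨G, hG, hGn⟩ := exists_glue S ψ hψc
  refine ⟨G, hG, hGn 1, ?_⟩
  apply FormalElt.ext'
  intro n
  change ξ.app _ _ = η.elt n
  rw [← hψξ n]
  congr 1
  exact Subtype.ext (hGn n)

end PrescribedLift

section MinimalHull

variable {Λ : Type u} {k : Type u} [CommRing Λ] [Field k] [Algebra Λ k] [Module.Finite Λ k]

lemma tder_neg {A : Art Λ k} (t : A ⟶ dual Λ k) (a : A) : tder t (-a) = -tder t a := by
  have := tder_sub t 0 a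
  rw [zero_sub] at this
  rw [this]
  have h0 : tder t 0 = 0 := by unfold tder; rw [hom_map_zero, dsnd_zero]
  rw [h0, zero_sub]

lemma tder_kmul {A : Art Λ k} (t : A ⟶ dual Λ k) (c : k) (v : A) (hv : A.res v = 0) :
    tder t (kmul A c v) = c * tder t v := by
  show tder t (resLift A c * v) = _
  rw [tder_mul, res_resLift, hv, zero_mul, add_zero]

/-- A minimal versal family of a functor with (S2) is injective on tangent spaces when `k` has no
`Λ`-derivations. -/
theorem tangent_injective_of_isMinimalVersal (hk : Subsingleton (Derivation Λ k k))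
    {F : Art Λ k ⥤ Type v} (h2 : Heps F)
    {R : CRing Λ k} (ξ : Family R.carrier R.res F) (hξ : ξ.IsMinimalVersal) :
    Function.Injective (ξ.app (dual Λ k)) := by
  intro φ₁ φ₂ hφ
  by_contra hne
  -- the difference derivation
  have hd_add : ∀ (φ : HomSet R.carrier R.res (dual Λ k)) (a b : R.carrier),
      dsnd (φ.1 (a + b)) = dsnd (φ.1 a) + dsnd (φ.1 b) := fun φ a b => by
    rw [map_add, dsnd_add]
  have hφres : ∀ (φ : HomSet R.carrier R.res (dual Λ k)) (a : R.carrier),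
      dfst (φ.1 a) = R.res a := fun φ a => by
    rw [dfst_eq_res]; exact AlgHom.congr_fun φ.2 a
  have hd_mul : ∀ (φ : HomSet R.carrier R.res (dual Λ k)) (a b : R.carrier),
      dsnd (φ.1 (a * b)) = R.res a * dsnd (φ.1 b) + R.res b * dsnd (φ.1 a) := fun φ a b => by
    rw [map_mul, dsnd_mul, hφres, hφres]
  set d : R.carrier → k := fun r => dsnd (φ₁.1 r) - dsnd (φ₂.1 r) with hd
  have d_add : ∀ a b, d (a + b) = d a + d b := fun a b => by
    simp only [hd, hd_add]; ring
  have d_mul : ∀ a b, d (a * b) = R.res a * d b + R.res b * d a := fun a b => by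
    simp only [hd, hd_mul]; ring
  have d_alg : ∀ r : Λ, d (algebraMap Λ R.carrier r) = 0 := fun r => by
    simp only [hd, AlgHom.commutes, dsnd_algebraMap, sub_self]
  have d_zero : d 0 = 0 := by
    have := d_add 0 0
    rw [add_zero] at this
    exact (add_eq_left.1 this.symm)
  have d_neg : ∀ a, d (-a) = -d a := fun a => by
    have := d_add a (-a)
    rw [add_neg_cancel, d_zero] at this
    exact (eq_neg_of_add_eq_zero_right this.symm)
  have d_sub : ∀ a b, d (a - b) = d a - d b := fun a b => by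
    rw [sub_eq_add_neg, d_add, d_neg, sub_eq_add_neg]
  -- `d` does not vanish on the maximal ideal
  have hy₀ : ∃ y₀ : R.carrier, R.res y₀ = 0 ∧ d y₀ ≠ 0 := by
    by_contra hall
    have hall' : ∀ y : R.carrier, R.res y = 0 → d y = 0 := by
      intro y hy
      by_contra h
      exact hall ⟨y, hy, h⟩
    have key : ∀ x y : R.carrier, R.res x = R.res y → d x = d y := by
      intro x y h
      have := hall' (x - y) (by rw [map_sub, h, sub_self])
      rwa [d_sub, sub_eq_zero] at this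
    let σ : k → R.carrier := Function.surjInv R.res_surjective
    have hσ : ∀ c, R.res (σ c) = c := Function.surjInv_eq R.res_surjective
    let Dl : k →ₗ[Λ] k :=
      { toFun := fun c => d (σ c)
        map_add' := fun c c' => by
          rw [← d_add]
          exact key _ _ (by rw [hσ, map_add, hσ, hσ])
        map_smul' := fun r c => by
          have h1 : d (σ (r • c)) = d (algebraMap Λ R.carrier r * σ c) :=
            key _ _ (by rw [hσ, map_mul, hσ, AlgHom.commutes, Algebra.smul_def])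
          rw [h1, d_mul, d_alg, mul_zero, add_zero, AlgHom.commutes, RingHom.id_apply,
            Algebra.smul_def] }
    have hleib : ∀ a b : k, Dl (a * b) = a • Dl b + b • Dl a := by
      intro a b
      show d (σ (a * b)) = a • d (σ b) + b • d (σ a)
      have h1 : d (σ (a * b)) = d (σ a * σ b) := key _ _ (by rw [hσ, map_mul, hσ, hσ])
      rw [h1, d_mul, hσ, hσ, smul_eq_mul, smul_eq_mul]
    have hD0 : Derivation.mk' Dl hleib = 0 := Subsingleton.elim _ _
    have hdσ : ∀ c, d (σ c) = 0 := fun c => by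
      have := congrArg (fun D : Derivation Λ k k => D c) hD0
      exact this
    apply hne
    apply Subtype.ext
    apply AlgHom.ext
    intro r
    apply dual_ext
    · rw [hφres, hφres]
    · have h1 : d r = d (σ (R.res r)) := key _ _ (hσ _).symm
      rw [hdσ] at h1
      exact sub_eq_zero.1 h1
  obtain ⟨y₀, hy₀r, hy₀d⟩ := hy₀
  obtain ⟨b₀, hb₀⟩ := R.res_surjective (d y₀)⁻¹
  obtain ⟨y, hydef⟩ : ∃ y : R.carrier, y = b₀ * y₀ := ⟨_, rfl⟩
  have hyr : R.res y = 0 := by rw [hydef, map_mul, hy₀r, mul_zero]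
  have hyd : d y = 1 := by
    rw [hydef, d_mul, hy₀r, zero_mul, add_zero, hb₀, inv_mul_cancel₀ hy₀d]
  -- first-order truncation
  obtain ⟨R₁, hR₁⟩ : ∃ R₁ : Art Λ k, R₁ = R.trunc 1 := ⟨_, rfl⟩
  subst hR₁
  let q := R.truncHom 1
  obtain ⟨v, hv⟩ : ∃ v : (R.trunc 1 : Art Λ k), v = -(q.1 y) := ⟨_, rfl⟩
  have hqres : ∀ r, (R.trunc 1).res (q.1 r) = R.res r := fun r => AlgHom.congr_fun q.2 r
  have hvr : (R.trunc 1).res v = 0 := by rw [hv, map_neg, hqres, hyr, neg_zero]
  have hvm : v ∈ IsLocalRing.maximalIdeal (R.trunc 1) := (Art.mem_maximalIdeal_iff _ _).2 hvr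
  have hsoc : IsSocle (R.trunc 1) v := by
    intro x hx
    have : x * v ∈ IsLocalRing.maximalIdeal (R.trunc 1) ^ 2 := by
      rw [pow_two]; exact Ideal.mul_mem_mul hx hvm
    rwa [maximalIdeal_trunc_pow R 1, Ideal.mem_bot] at this
  have hsurjd : Function.Surjective (toBase (dual Λ k)) := (dual Λ k).res_surjective
  have hP := isFibreProd_pullbackObj (toBase (R.trunc 1)) (toBase (dual Λ k)) hsurjd
  set P := pullbackObj (toBase (R.trunc 1)) (toBase (dual Λ k)) hsurjd
  set r₁ : P ⟶ R.trunc 1 := pullbackObjFst (toBase (R.trunc 1)) (toBase (dual Λ k)) hsurjd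
  set r₂ : P ⟶ dual Λ k := pullbackObjSnd (toBase (R.trunc 1)) (toBase (dual Λ k)) hsurjd
  let s : P ⟶ R.trunc 1 := shiftHom r₁ r₂ hsoc hvm
  have hinjP := (cmp_injective_iff F hP).1 (h2 r₁ r₂ hP).1
  -- pairs
  have pair : ∀ (α : HomSet R.carrier R.res (R.trunc 1)) (β : HomSet R.carrier R.res (dual Λ k)),
      ∃ θ : HomSet R.carrier R.res P, HomSet.map r₁ θ = α ∧ HomSet.map r₂ θ = β := by
    intro α β
    exact homSet_lift hP α β (by rw [homSet_map_toBase, homSet_map_toBase])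
  have shift_apply : ∀ (θ : HomSet R.carrier R.res P) (α : HomSet R.carrier R.res (R.trunc 1))
      (β : HomSet R.carrier R.res (dual Λ k)), HomSet.map r₁ θ = α → HomSet.map r₂ θ = β →
      ∀ r, (HomSet.map s θ).1 r = α.1 r + kmul (R.trunc 1) (dsnd (β.1 r)) v := by
    intro θ α β h1 h2 r
    show s (θ.1 r) = _
    rw [shiftHom_apply]
    have e1 : r₁ (θ.1 r) = α.1 r := AlgHom.congr_fun (congrArg Subtype.val h1) r
    have e2 : r₂ (θ.1 r) = β.1 r := AlgHom.congr_fun (congrArg Subtype.val h2) r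
    rw [e1, e2]
  have ξpair : ∀ (θ θ' : HomSet R.carrier R.res P), ξ.app _ (HomSet.map r₁ θ) = ξ.app _ (HomSet.map r₁ θ') →
      ξ.app _ (HomSet.map r₂ θ) = ξ.app _ (HomSet.map r₂ θ') → ξ.app _ θ = ξ.app _ θ' := by
    intro θ θ' e1 e2
    apply hinjP
    · rw [← ξ.natural, ← ξ.natural]; exact e1
    · rw [← ξ.natural, ← ξ.natural]; exact e2
  obtain ⟨θ₁, hθ₁a, hθ₁b⟩ := pair q φ₁
  obtain ⟨θ₂, hθ₂a, hθ₂b⟩ := pair q φ₂
  have hξθ : ξ.app _ θ₁ = ξ.app _ θ₂ := ξpair θ₁ θ₂ (by rw [hθ₁a, hθ₂a]) (by rw [hθ₁b, hθ₂b, hφ])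
  set g₁ := HomSet.map s θ₁
  set g₂ := HomSet.map s θ₂
  have hξg : ξ.app _ g₁ = ξ.app _ g₂ := by
    show ξ.app _ (HomSet.map s θ₁) = ξ.app _ (HomSet.map s θ₂)
    rw [ξ.natural, ξ.natural, hξθ]
  set φ₂' := HomSet.map (scale (-1)) φ₂
  obtain ⟨θ', hθ'a, hθ'b⟩ := pair g₁ φ₂'
  obtain ⟨θ'', hθ''a, hθ''b⟩ := pair g₂ φ₂'
  have hξθ' : ξ.app _ θ' = ξ.app _ θ'' :=
    ξpair θ' θ'' (by rw [hθ'a, hθ''a, hξg]) (by rw [hθ'b, hθ''b])
  set g := HomSet.map s θ'
  have hφ₂' : ∀ r, dsnd (φ₂'.1 r) = -dsnd (φ₂.1 r) := by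
    intro r
    show dsnd (scale (-1) (φ₂.1 r)) = _
    rw [dsnd_scale, neg_one_mul]
  have hg_apply : ∀ r, g.1 r = q.1 r + kmul (R.trunc 1) (d r) v := by
    intro r
    rw [shift_apply θ' g₁ φ₂' hθ'a hθ'b r, shift_apply θ₁ q φ₁ hθ₁a hθ₁b r, hφ₂', add_assoc,
      ← kmul_add hsoc, ← sub_eq_add_neg]
  have hq'_eq : HomSet.map s θ'' = q := by
    apply Subtype.ext
    apply AlgHom.ext
    intro r
    rw [shift_apply θ'' g₂ φ₂' hθ''a hθ''b r, shift_apply θ₂ q φ₂ hθ₂a hθ₂b r, hφ₂', add_assoc,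
      ← kmul_add hsoc, add_neg_cancel, kmul_zero' hsoc, add_zero]
  have hξgq : ξ.app _ g = ξ.app _ q := by
    show ξ.app _ (HomSet.map s θ') = _
    rw [ξ.natural, hξθ', ← ξ.natural, hq'_eq]
  -- lift `g` to an endomorphism of `R`
  obtain ⟨G, hG, hG1, hGη⟩ :=
    exists_along_toFormalElt_eq_of_level_one R ξ hξ.1 R ξ.toFormalElt g hξgq
  have hGs : Function.Surjective G :=
    hξ.2 R ξ.toFormalElt G hG (by rw [push_toFormalElt, hGη])
  -- contradiction
  obtain ⟨t₁, ht₁⟩ := exists_factor_trunc_of_pow R 1 maximalIdeal_dual_sq φ₁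
  obtain ⟨t₂, ht₂⟩ := exists_factor_trunc_of_pow R 1 maximalIdeal_dual_sq φ₂
  have ht₁' : ∀ r, tder t₁ (q.1 r) = dsnd (φ₁.1 r) := fun r =>
    congrArg dsnd (AlgHom.congr_fun (congrArg Subtype.val ht₁) r)
  have ht₂' : ∀ r, tder t₂ (q.1 r) = dsnd (φ₂.1 r) := fun r =>
    congrArg dsnd (AlgHom.congr_fun (congrArg Subtype.val ht₂) r)
  have he_q : ∀ r, tder t₁ (q.1 r) - tder t₂ (q.1 r) = d r := fun r => by
    rw [ht₁', ht₂']
  have he_v : tder t₁ v - tder t₂ v = -1 := by
    rw [hv, tder_neg, tder_neg, ← hyd, ← he_q y]; ring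
  have he_g : ∀ r, tder t₁ (g.1 r) - tder t₂ (g.1 r) = 0 := by
    intro r
    rw [hg_apply, tder_add, tder_add, tder_kmul t₁ _ _ hvr, tder_kmul t₂ _ _ hvr]
    have h1 := he_q r
    linear_combination h1 + d r * he_v
  obtain ⟨r₀, hr₀⟩ := hGs y
  have hgr₀ : g.1 r₀ = q.1 y := by
    rw [← hr₀]
    exact (AlgHom.congr_fun hG1 r₀).symm
  have h1 := he_g r₀
  rw [hgr₀, he_q, hyd] at h1
  exact one_ne_zero h1

/-- A minimal versal family of a functor with `F(k)` a point and (S2) is miniversal when `k` has no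
`Λ`-derivations. -/
theorem isMiniversal_of_isMinimalVersal (hk : Subsingleton (Derivation Λ k k))
    {F : Art Λ k ⥤ Type v} (h0 : H0 F) (h2 : Heps F)
    {R : CRing Λ k} (ξ : Family R.carrier R.res F) (hξ : ξ.IsMinimalVersal) :
    IsMiniversal ξ :=
  ⟨hξ.1, tangent_injective_of_isMinimalVersal hk h2 ξ hξ,
    versal_app_surjective h0 ξ hξ.1 (dual Λ k)⟩

end MinimalHull

end Groth.Agent.Lib.Helper19
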