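import Mathlib

set_option autoImplicit false
universe u
open scoped BigOperators

namespace Groth.Agent.Lib.Helper19MinorsKer

/-- Column multilinearity of the determinant (a weak Cauchy–Binet). -/
theorem det_mul_rect {S : Type*} [CommRing S] {k n : ℕ} (T : Matrix (Fin k) (Fin n) S)
    (P : Matrix (Fin n) (Fin k) S) :
    (T * P).det = ∑ c : Fin k → Fin n, (∏ l, P (c l) l) * (T.submatrix id c).det := by
  simp only [Matrix.det_apply', Matrix.mul_apply, Finset.prod_univ_sum, Finset.mul_sum,
    Fintype.piFinset_univ, Matrix.submatrix_apply, id]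
  rw [Finset.sum_comm]
  refine Finset.sum_congr rfl fun c _ => Finset.sum_congr rfl fun σ _ => ?_
  rw [Finset.prod_mul_distrib]
  ring

theorem gen_mem {S : Type*} [CommRing S] {s n : ℕ} (a : Fin s → Fin n → S) (x : Fin n → S)
    (r : Fin s → Fin n → S)
    (hr : ∀ i i', ∑ j, r i j * a i' j = if i = i' then 1 else 0) (j0 : Fin n) :
    x j0 - ∑ i, a i j0 * (∑ j, r i j * x j) ∈
      Ideal.span (Set.range fun c : Fin (s + 1) → Fin n =>
        (Matrix.of fun (i : Fin (s + 1)) (j : Fin (s + 1)) =>
          (Fin.snoc (α := fun _ => S) (fun i' : Fin s => a i' (c j)) (x (c j)) i)).det) := by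
  classical
  set J := Ideal.span (Set.range fun c : Fin (s + 1) → Fin n =>
        (Matrix.of fun (i : Fin (s + 1)) (j : Fin (s + 1)) =>
          (Fin.snoc (α := fun _ => S) (fun i' : Fin s => a i' (c j)) (x (c j)) i)).det) with hJ
  let T : Matrix (Fin (s + 1)) (Fin n) S :=
    Matrix.of fun i j' => Fin.snoc (α := fun _ => S) (fun i' : Fin s => a i' j') (x j') i
  let P : Matrix (Fin n) (Fin (s + 1)) S :=
    Matrix.of fun j' l => Fin.snoc (α := fun _ => S) (fun i' : Fin s => r i' j')
      (if j' = j0 then 1 else 0) l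
  have hT1 : ∀ i' j', T (Fin.castSucc i') j' = a i' j' := by
    intro i' j'; simp only [T, Matrix.of_apply, Fin.snoc_castSucc]
  have hT2 : ∀ j', T (Fin.last s) j' = x j' := by
    intro j'; simp only [T, Matrix.of_apply, Fin.snoc_last]
  have hP1 : ∀ j' i', P j' (Fin.castSucc i') = r i' j' := by
    intro j' i'; simp only [P, Matrix.of_apply, Fin.snoc_castSucc]
  have hP2 : ∀ j', P j' (Fin.last s) = if j' = j0 then 1 else 0 := by
    intro j'; simp only [P, Matrix.of_apply, Fin.snoc_last]
  have hTJ : ∀ c : Fin (s + 1) → Fin n, (T.submatrix id c).det ∈ J := by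
    intro c
    apply Ideal.subset_span
    exact ⟨c, rfl⟩
  have h1 : (T * P).det ∈ J := by
    rw [det_mul_rect]
    exact Ideal.sum_mem _ fun c _ => Ideal.mul_mem_left _ _ (hTJ c)
  have e1 : ∀ i : Fin s, finSumFinEquiv (m := s) (n := 1) (Sum.inl i) = Fin.castSucc i :=
    fun i => rfl
  have e2 : ∀ b : Fin 1, finSumFinEquiv (m := s) (n := 1) (Sum.inr b) = Fin.last s := by
    intro b
    ext
    simp [Fin.val_natAdd]
  have h2 : (T * P).det = x j0 - ∑ i, a i j0 * (∑ j, r i j * x j) := by
    rw [← Matrix.det_submatrix_equiv_self (finSumFinEquiv (m := s) (n := 1)) (T * P)]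
    have hblocks : (T * P).submatrix (finSumFinEquiv (m := s) (n := 1))
        (finSumFinEquiv (m := s) (n := 1)) =
        Matrix.fromBlocks (1 : Matrix (Fin s) (Fin s) S)
          (Matrix.of fun (i : Fin s) (_ : Fin 1) => a i j0)
          (Matrix.of fun (_ : Fin 1) (i : Fin s) => ∑ j, r i j * x j)
          (Matrix.of fun (_ : Fin 1) (_ : Fin 1) => x j0) := by
      ext a' b'
      rcases a' with a' | a' <;> rcases b' with b' | b'
      · rw [Matrix.submatrix_apply, Matrix.fromBlocks_apply₁₁, e1, e1, Matrix.mul_apply]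
        simp only [hT1, hP1]
        rw [Matrix.one_apply]
        have := hr b' a'
        simp only [mul_comm (r b' _)] at this
        rw [this]
        by_cases h : a' = b'
        · subst h; simp
        · rw [if_neg h, if_neg (Ne.symm h)]
      · rw [Matrix.submatrix_apply, Matrix.fromBlocks_apply₁₂, e1, e2, Matrix.mul_apply]
        simp only [hT1, hP2, Matrix.of_apply]
        simp
      · rw [Matrix.submatrix_apply, Matrix.fromBlocks_apply₂₁, e1, e2, Matrix.mul_apply]
        simp only [hT2, hP1, Matrix.of_apply]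
        exact Finset.sum_congr rfl fun j _ => mul_comm _ _
      · rw [Matrix.submatrix_apply, Matrix.fromBlocks_apply₂₂, e2, e2, Matrix.mul_apply]
        simp only [hT2, hP2, Matrix.of_apply]
        simp
    rw [hblocks, Matrix.det_fromBlocks_one₁₁, Matrix.det_fin_one]
    simp only [Matrix.sub_apply, Matrix.mul_apply, Matrix.of_apply]
    congr 1
    exact Finset.sum_congr rfl fun i _ => mul_comm _ _
  rw [← h2]; exact h1

theorem det_eq_zero_of_last_row_comb {S : Type*} [CommRing S] {s : ℕ}
    (M : Matrix (Fin (s + 1)) (Fin (s + 1)) S) (y : Fin s → S)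
    (h : ∀ j, M (Fin.last s) j = ∑ i, y i * M (Fin.castSucc i) j) : M.det = 0 := by
  classical
  let A0 : Matrix (Fin (s + 1)) (Fin (s + 1)) S := M.updateRow (Fin.last s) 0
  let cc : Fin (s + 1) → S := Fin.snoc (α := fun _ => S) (fun i => y i) 0
  have hrow : M = A0.updateRow (Fin.last s) (∑ k, cc k • A0 k) := by
    ext i j
    by_cases hi : i = Fin.last s
    · subst hi
      have hA0 : ∀ i' : Fin s, A0 (Fin.castSucc i') j = M (Fin.castSucc i') j := by
        intro i'
        simp only [A0]
        rw [Matrix.updateRow_ne (Fin.castSucc_lt_last i').ne]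
      rw [Matrix.updateRow_self, h, Finset.sum_apply, Fin.sum_univ_castSucc]
      simp only [cc, Fin.snoc_castSucc, Fin.snoc_last, Pi.smul_apply, smul_eq_mul, hA0,
        zero_mul, add_zero]
    · rw [Matrix.updateRow_ne hi]
      simp only [A0]
      rw [Matrix.updateRow_ne hi]
  rw [hrow, Matrix.det_updateRow_sum]
  simp [cc]

end Groth.Agent.Lib.Helper19MinorsKer
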