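import Mathlib
import Groth.Agent.Lib.Helper19PowerSeries
import Groth.Agent.Lib.Helper19PsLiftComplete

/-!
# Translation automorphisms of power series rings over complete local rings

For a local ring `A` complete for its maximal ideal `𝔪` and `c : σ → 𝔪`, the `A`-algebra endomorphism
`X_s ↦ X_s + c_s` of `A[[σ]]`, its functoriality, and its first-order Taylor expansion modulo `𝔪^N`.
-/

set_option autoImplicit false
universe u v

open MvPowerSeries IsLocalRing

namespace Groth.Agent.Lib.Helper19.MorseTransl

section Hausdorff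

variable {B : Type u} [CommRing B]

/-- A ring is separated for a nilpotent ideal. -/
theorem isHausdorff_of_pow_eq_bot (J : Ideal B) (N : ℕ) (hN : J ^ N = ⊥) : IsHausdorff J B := by
  refine ⟨fun x hx => ?_⟩
  have h := hx N
  rw [Groth.Agent.Lib.Helper19.smodEq_pow_iff, sub_zero, hN] at h
  exact h

end Hausdorff

section Uniq

variable {A : Type u} [CommRing A] {σ : Type v} [Finite σ]
  {B : Type u} [CommRing B] [Algebra A B]

/-- Two `A`-algebra maps `A[[σ]] → B[[σ]]` agreeing on the variables and sending them to series with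
constant coefficient in an ideal `J` for which `B` is separated are equal. -/
theorem algHom_ext_X (J : Ideal B) [IsHausdorff J B]
    (φ₁ φ₂ : MvPowerSeries σ A →ₐ[A] MvPowerSeries σ B)
    (h1 : ∀ s, constantCoeff (φ₁ (X s)) ∈ J) (h : ∀ s, φ₁ (X s) = φ₂ (X s)) : φ₁ = φ₂ := by
  haveI := Groth.Agent.Lib.Helper19.isHausdorff_coeffIdeal (σ := σ) J
  apply Groth.Agent.Lib.Helper19.algHom_ext_of_X_of_isHausdorff
    (Groth.Agent.Lib.Helper19.coeffIdeal σ J 1) φ₁ φ₂ _ h
  intro s
  rw [Groth.Agent.Lib.Helper19.mem_coeffIdeal_one]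
  exact h1 s

end Uniq

section Transl

variable {A : Type u} [CommRing A] [IsLocalRing A] [IsAdicComplete (maximalIdeal A) A]
  {σ : Type v} [Finite σ]

theorem exists_transl (c : σ → A) (hc : ∀ s, c s ∈ maximalIdeal A) :
    ∃ φ : MvPowerSeries σ A →ₐ[A] MvPowerSeries σ A, ∀ s, φ (X s) = X s + C (c s) := by
  haveI := Groth.Agent.Lib.Helper19.isAdicComplete_mvPowerSeries (Λ := A) (σ := σ)
  apply Groth.Agent.Lib.Helper19.exists_algHom_X_eq_of_isAdicComplete (Λ := A)
    (maximalIdeal (MvPowerSeries σ A))
  intro s
  rw [Groth.Agent.Lib.Helper19.maximalIdeal_eq_coeffIdeal,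
    Groth.Agent.Lib.Helper19.mem_coeffIdeal_one, map_add, constantCoeff_X, constantCoeff_C, zero_add]
  exact hc s

open Classical in
/-- The translation `X_s ↦ X_s + c_s` (the identity if some `c_s` is a unit). -/
noncomputable def transl (c : σ → A) : MvPowerSeries σ A →ₐ[A] MvPowerSeries σ A :=
  if hc : ∀ s, c s ∈ maximalIdeal A then Classical.choose (exists_transl c hc) else AlgHom.id A _

theorem transl_X (c : σ → A) (hc : ∀ s, c s ∈ maximalIdeal A) (s : σ) :
    transl c (X s) = X s + C (c s) := by
  unfold transl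
  rw [dif_pos hc]
  exact Classical.choose_spec (exists_transl c hc) s

theorem transl_comp (c d : σ → A) (hc : ∀ s, c s ∈ maximalIdeal A)
    (hd : ∀ s, d s ∈ maximalIdeal A) :
    (transl d).comp (transl c) = transl (c + d) := by
  have hcd : ∀ s, (c + d) s ∈ maximalIdeal A := fun s => Ideal.add_mem _ (hc s) (hd s)
  apply algHom_ext_X (maximalIdeal A)
  · intro s
    rw [AlgHom.comp_apply, transl_X c hc, map_add, transl_X d hd, map_add, map_add,
      constantCoeff_X, constantCoeff_C, zero_add]
    have h := (transl d).commutes (c s)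
    rw [MvPowerSeries.algebraMap_apply, Algebra.algebraMap_self, RingHom.id_apply] at h
    rw [h, constantCoeff_C]
    exact Ideal.add_mem _ (hd s) (hc s)
  · intro s
    have h := (transl d).commutes (c s)
    rw [MvPowerSeries.algebraMap_apply, Algebra.algebraMap_self, RingHom.id_apply] at h
    rw [AlgHom.comp_apply, transl_X c hc, map_add, transl_X d hd, h, transl_X _ hcd, Pi.add_apply,
      map_add]
    ring

theorem transl_zero : transl (0 : σ → A) = AlgHom.id A (MvPowerSeries σ A) := by
  have h0 : ∀ s : σ, (0 : σ → A) s ∈ maximalIdeal A := fun s => Ideal.zero_mem _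
  apply algHom_ext_X (maximalIdeal A)
  · intro s
    rw [transl_X _ h0, Pi.zero_apply, map_zero, add_zero, constantCoeff_X]
    exact Ideal.zero_mem _
  · intro s
    rw [transl_X _ h0, Pi.zero_apply, map_zero, add_zero, AlgHom.id_apply]

theorem transl_C (c : σ → A) (a : A) : transl c (C a) = C a := by
  have h := (transl c).commutes a
  rwa [MvPowerSeries.algebraMap_apply, Algebra.algebraMap_self, RingHom.id_apply] at h

end Transl

end Groth.Agent.Lib.Helper19.MorseTransl
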