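import Groth.Agent.Lib.Helper19MorseTranslA

/-!
# Reduction modulo `𝔪^N` of translations of power series rings
-/

set_option autoImplicit false
universe u v

open MvPowerSeries IsLocalRing

namespace Groth.Agent.Lib.Helper19.MorseTransl

section Deriv

variable {R : Type u} [CommRing R] {B : Type v} [CommRing B] [Algebra R B]

/-- `1 + δ` is an algebra endomorphism when the derivation `δ` has square-zero image. -/
noncomputable def oneAddDeriv (δ : Derivation R B B) (h : ∀ x y, δ x * δ y = 0) : B →ₐ[R] B where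
  toFun x := x + δ x
  map_one' := by rw [δ.map_one_eq_zero, add_zero]
  map_mul' x y := by
    rw [δ.leibniz, smul_eq_mul, smul_eq_mul]
    have := h x y
    linear_combination -this
  map_zero' := by rw [map_zero, add_zero]
  map_add' x y := by rw [map_add]; ring
  commutes' r := by rw [δ.map_algebraMap, add_zero]

@[simp] theorem oneAddDeriv_apply (δ : Derivation R B B) (h : ∀ x y, δ x * δ y = 0) (x : B) :
    oneAddDeriv δ h x = x + δ x := rfl

end Deriv

section Rho

variable {A : Type u} [CommRing A] [IsLocalRing A] {σ : Type v}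

/-- Coefficientwise reduction modulo `𝔪^N`. -/
noncomputable def ρ (A : Type u) [CommRing A] [IsLocalRing A] (σ : Type v) (N : ℕ) :
    MvPowerSeries σ A →ₐ[A] MvPowerSeries σ (A ⧸ maximalIdeal A ^ N) :=
  MvPowerSeries.mapAlgHom (Ideal.Quotient.mkₐ A (maximalIdeal A ^ N))

theorem coeff_ρ (N : ℕ) (g : MvPowerSeries σ A) (e : σ →₀ ℕ) :
    coeff e (ρ A σ N g) = Ideal.Quotient.mk (maximalIdeal A ^ N) (coeff e g) := by
  rw [ρ, MvPowerSeries.mapAlgHom_apply, MvPowerSeries.coeff_map]
  rfl

theorem ρ_X (N : ℕ) (s : σ) : ρ A σ N (X s) = X s := by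
  rw [ρ, MvPowerSeries.mapAlgHom_apply, MvPowerSeries.map_X]

theorem ρ_C (N : ℕ) (a : A) : ρ A σ N (C a) = C (Ideal.Quotient.mk (maximalIdeal A ^ N) a) := by
  rw [ρ, MvPowerSeries.mapAlgHom_apply, MvPowerSeries.map_C]
  rfl

instance isHausdorff_quot (N : ℕ) :
    IsHausdorff ((maximalIdeal A).map (Ideal.Quotient.mk (maximalIdeal A ^ N)))
      (A ⧸ maximalIdeal A ^ N) :=
  isHausdorff_of_pow_eq_bot _ N (by rw [← Ideal.map_pow, Ideal.map_quotient_self])

end Rho

section Congr

variable {A : Type u} [CommRing A] [IsLocalRing A] [IsAdicComplete (maximalIdeal A) A]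
  {σ : Type v} [Finite σ]

theorem ρ_transl_congr (N : ℕ) (c c' : σ → A) (hc : ∀ s, c s ∈ maximalIdeal A)
    (hc' : ∀ s, c' s ∈ maximalIdeal A) (h : ∀ s, c s - c' s ∈ maximalIdeal A ^ N) :
    (ρ A σ N).comp (transl c) = (ρ A σ N).comp (transl c') := by
  apply algHom_ext_X ((maximalIdeal A).map (Ideal.Quotient.mk (maximalIdeal A ^ N)))
  · intro s
    rw [AlgHom.comp_apply, transl_X c hc, map_add, ρ_X, ρ_C, map_add, constantCoeff_X,
      constantCoeff_C, zero_add]
    exact Ideal.mem_map_of_mem _ (hc s)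
  · intro s
    rw [AlgHom.comp_apply, AlgHom.comp_apply, transl_X c hc, transl_X c' hc', map_add, map_add,
      ρ_X, ρ_C, ρ_C]
    congr 2
    rw [Ideal.Quotient.eq]
    exact h s

end Congr

end Groth.Agent.Lib.Helper19.MorseTransl
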