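import Groth.Agent.Lib.Helper19MorseTranslB

/-!
# First-order Taylor expansion of translations of power series, modulo `𝔪^N`
-/

set_option autoImplicit false
universe u v

open MvPowerSeries IsLocalRing

namespace Groth.Agent.Lib.Helper19.MorseTransl

section Taylor

variable {A : Type u} [CommRing A] [IsLocalRing A] [IsAdicComplete (maximalIdeal A) A]
  {σ : Type v} [Fintype σ] [DecidableEq σ]

/-- The derivation `Σ_s d_s ∂_s` on power series over `A/𝔪^N`. -/
noncomputable def dDer (N : ℕ) (d : σ → A) :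
    Derivation (A ⧸ maximalIdeal A ^ N) (MvPowerSeries σ (A ⧸ maximalIdeal A ^ N))
      (MvPowerSeries σ (A ⧸ maximalIdeal A ^ N)) :=
  ∑ s, (C (Ideal.Quotient.mk (maximalIdeal A ^ N) (d s)) : MvPowerSeries σ (A ⧸ maximalIdeal A ^ N)) •
    pderiv (A ⧸ maximalIdeal A ^ N) s

omit [IsAdicComplete (maximalIdeal A) A] [DecidableEq σ] in
theorem dDer_apply (N : ℕ) (d : σ → A) (x : MvPowerSeries σ (A ⧸ maximalIdeal A ^ N)) :
    dDer N d x = ∑ s, C (Ideal.Quotient.mk (maximalIdeal A ^ N) (d s)) *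
      pderiv (A ⧸ maximalIdeal A ^ N) s x := by
  unfold dDer
  have h := map_sum (Derivation.coeFnAddMonoidHom (R := A ⧸ maximalIdeal A ^ N)
    (A := MvPowerSeries σ (A ⧸ maximalIdeal A ^ N)) (M := MvPowerSeries σ (A ⧸ maximalIdeal A ^ N)))
    (fun s => (C (Ideal.Quotient.mk (maximalIdeal A ^ N) (d s)) :
      MvPowerSeries σ (A ⧸ maximalIdeal A ^ N)) • pderiv (A ⧸ maximalIdeal A ^ N) s) Finset.univ
  have h2 := congrFun h x
  rw [Finset.sum_apply] at h2
  exact h2

omit [IsAdicComplete (maximalIdeal A) A] [DecidableEq σ] in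
theorem dDer_mul_dDer (N : ℕ) (d : σ → A) (hd : ∀ s t, d s * d t ∈ maximalIdeal A ^ N)
    (x y : MvPowerSeries σ (A ⧸ maximalIdeal A ^ N)) : dDer N d x * dDer N d y = 0 := by
  rw [dDer_apply, dDer_apply, Finset.sum_mul_sum]
  apply Finset.sum_eq_zero
  intro s _
  apply Finset.sum_eq_zero
  intro t _
  have : (C (Ideal.Quotient.mk (maximalIdeal A ^ N) (d s)) : MvPowerSeries σ (A ⧸ maximalIdeal A ^ N)) *
      C (Ideal.Quotient.mk (maximalIdeal A ^ N) (d t)) = 0 := by
    rw [← map_mul, ← map_mul, (Ideal.Quotient.eq_zero_iff_mem).2 (hd s t), map_zero]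
  calc _ = (C (Ideal.Quotient.mk (maximalIdeal A ^ N) (d s)) *
        C (Ideal.Quotient.mk (maximalIdeal A ^ N) (d t))) *
        (pderiv (A ⧸ maximalIdeal A ^ N) s x * pderiv (A ⧸ maximalIdeal A ^ N) t y) := by ring
    _ = 0 := by rw [this, zero_mul]

theorem ρ_transl_taylor (N : ℕ) (d : σ → A) (hdm : ∀ s, d s ∈ maximalIdeal A)
    (hd : ∀ s t, d s * d t ∈ maximalIdeal A ^ N) (g : MvPowerSeries σ A) :
    ρ A σ N (transl d g) = ρ A σ N g + ∑ s, C (Ideal.Quotient.mk (maximalIdeal A ^ N) (d s)) *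
      pderiv (A ⧸ maximalIdeal A ^ N) s (ρ A σ N g) := by
  have key : (ρ A σ N).comp (transl d) =
      ((oneAddDeriv (dDer N d) (dDer_mul_dDer N d hd)).restrictScalars A).comp (ρ A σ N) := by
    apply algHom_ext_X ((maximalIdeal A).map (Ideal.Quotient.mk (maximalIdeal A ^ N)))
    · intro s
      rw [AlgHom.comp_apply, transl_X d hdm, map_add, ρ_X, ρ_C, map_add, constantCoeff_X,
        constantCoeff_C, zero_add]
      exact Ideal.mem_map_of_mem _ (hdm s)
    · intro s
      rw [AlgHom.comp_apply, AlgHom.comp_apply, transl_X d hdm, map_add, ρ_X, ρ_C,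
        AlgHom.restrictScalars_apply, oneAddDeriv_apply, dDer_apply]
      congr 1
      rw [Finset.sum_eq_single s]
      · rw [pderiv_X_self, mul_one]
      · intro t _ hts
        rw [pderiv_X_of_ne hts.symm, mul_zero]
      · intro h; exact absurd (Finset.mem_univ s) h
  have := AlgHom.congr_fun key g
  rw [AlgHom.comp_apply, AlgHom.comp_apply, AlgHom.restrictScalars_apply, oneAddDeriv_apply,
    dDer_apply] at this
  exact this

/-- translations by vectors congruent modulo `𝔪^N` have coefficients congruent modulo `𝔪^N`. -/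
theorem coeff_transl_sub_mem (N : ℕ) (c c' : σ → A) (hc : ∀ s, c s ∈ maximalIdeal A)
    (hc' : ∀ s, c' s ∈ maximalIdeal A) (h : ∀ s, c s - c' s ∈ maximalIdeal A ^ N)
    (g : MvPowerSeries σ A) (e : σ →₀ ℕ) :
    coeff e (transl c g) - coeff e (transl c' g) ∈ maximalIdeal A ^ N := by
  have h1 := AlgHom.congr_fun (ρ_transl_congr N c c' hc hc' h) g
  rw [AlgHom.comp_apply, AlgHom.comp_apply] at h1
  have h2 := congrArg (coeff e) h1
  rw [coeff_ρ, coeff_ρ, Ideal.Quotient.eq] at h2
  exact h2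

/-- the polar ("Hessian at the origin") matrix of a power series. -/
noncomputable def hess (G : MvPowerSeries σ A) : Matrix σ σ A :=
  fun i s => coeff (Finsupp.single i 1 + Finsupp.single s 1) G *
    (((Finsupp.single i 1 : σ →₀ ℕ) s : A) + 1)

theorem linCoeff_transl_add (k : ℕ) (hk : 1 ≤ k) (c d : σ → A) (hc : ∀ s, c s ∈ maximalIdeal A)
    (hd : ∀ s, d s ∈ maximalIdeal A ^ k) (F : MvPowerSeries σ A) (i : σ) :
    coeff (Finsupp.single i 1) (transl (c + d) F) - coeff (Finsupp.single i 1) (transl c F) -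
      ∑ s, hess (transl c F) i s * d s ∈ maximalIdeal A ^ (2 * k) := by
  have hdm : ∀ s, d s ∈ maximalIdeal A := fun s =>
    Ideal.pow_le_self (by omega) (hd s)
  have hdd : ∀ s t, d s * d t ∈ maximalIdeal A ^ (2 * k) := by
    intro s t
    rw [two_mul, pow_add]
    exact Ideal.mul_mem_mul (hd s) (hd t)
  set G := transl c F with hG
  have h1 : transl (c + d) F = transl d G := by
    rw [← transl_comp c d hc hdm, AlgHom.comp_apply]
  rw [h1]
  have h2 := congrArg (coeff (Finsupp.single i 1)) (ρ_transl_taylor (2 * k) d hdm hdd G)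
  rw [map_add, map_sum, coeff_ρ, coeff_ρ] at h2
  have h3 : ∀ s, coeff (Finsupp.single i 1)
      (C (Ideal.Quotient.mk (maximalIdeal A ^ (2 * k)) (d s)) *
        pderiv (A ⧸ maximalIdeal A ^ (2 * k)) s (ρ A σ (2 * k) G)) =
      Ideal.Quotient.mk (maximalIdeal A ^ (2 * k)) (hess G i s * d s) := by
    intro s
    rw [coeff_C_mul, coeff_pderiv, coeff_ρ, hess, map_mul, map_mul, map_add, map_natCast, map_one]
    ring
  rw [Finset.sum_congr rfl (fun s _ => h3 s), ← map_sum, ← map_add, Ideal.Quotient.eq] at h2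
  have : coeff (Finsupp.single i 1) (transl d G) - coeff (Finsupp.single i 1) G -
      ∑ s, hess G i s * d s = coeff (Finsupp.single i 1) (transl d G) -
      (coeff (Finsupp.single i 1) G + ∑ s, hess G i s * d s) := by ring
  rw [this]
  exact h2

end Taylor

end Groth.Agent.Lib.Helper19.MorseTransl
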