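import Mathlib
import Groth.Prelude.Def_QuadSing

/-!
# Low-degree coefficients of quadratic polynomials `Q + ℓ + a`
-/

set_option autoImplicit false
universe u

open Finsupp

namespace Groth.Agent.Lib.Helper19.MorseTransl

section Classify

variable {n : ℕ}

theorem exists_single_add_of_ne_zero (e : Fin n →₀ ℕ) (he : e ≠ 0) :
    ∃ (i : Fin n) (e' : Fin n →₀ ℕ), e = single i 1 + e' ∧ degree e = 1 + degree e' := by
  obtain ⟨i, hi⟩ : ∃ i, e i ≠ 0 := by
    by_contra h
    apply he
    ext j
    by_contra hj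
    exact h ⟨j, hj⟩
  have hle : single i 1 ≤ e := by
    rw [Finsupp.single_le_iff]
    omega
  refine ⟨i, e - single i 1, (add_tsub_cancel_of_le hle).symm, ?_⟩
  conv_lhs => rw [← add_tsub_cancel_of_le hle]
  rw [map_add, Finsupp.degree_single]

theorem degree_le_two_cases (e : Fin n →₀ ℕ) (he : degree e ≤ 2) :
    e = 0 ∨ (∃ i, e = single i 1) ∨ ∃ i j, i ≤ j ∧ e = single i 1 + single j 1 := by
  by_cases h0 : e = 0
  · exact Or.inl h0
  obtain ⟨i, e', rfl, hd⟩ := exists_single_add_of_ne_zero e h0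
  by_cases h1 : e' = 0
  · subst h1
    exact Or.inr (Or.inl ⟨i, by rw [add_zero]⟩)
  obtain ⟨j, e'', rfl, hd'⟩ := exists_single_add_of_ne_zero e' h1
  have h2 : degree e'' = 0 := by omega
  have h3 : e'' = 0 := (Finsupp.degree_eq_zero_iff e'').1 h2
  subst h3
  rw [add_zero]
  refine Or.inr (Or.inr ?_)
  rcases le_total i j with h | h
  · exact ⟨i, j, h, rfl⟩
  · exact ⟨j, i, h, add_comm _ _⟩

end Classify

section Coeff

variable {R : Type u} [CommRing R] {n : ℕ}

theorem coeff_quadPoly (q : Fin n → Fin n → R) (e : Fin n →₀ ℕ) :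
    MvPolynomial.coeff e (VanCyc.quadPoly q) =
      ∑ i : Fin n, ∑ j : Fin n, if i ≤ j ∧ single i 1 + single j 1 = e then q i j else 0 := by
  unfold VanCyc.quadPoly
  rw [MvPolynomial.coeff_sum]
  refine Finset.sum_congr rfl fun i _ => ?_
  rw [MvPolynomial.coeff_sum]
  refine Finset.sum_congr rfl fun j _ => ?_
  by_cases hij : i ≤ j
  · rw [if_pos hij]
    have : (MvPolynomial.C (q i j) * MvPolynomial.X i * MvPolynomial.X j : MvPolynomial (Fin n) R) =
        MvPolynomial.monomial (single i 1 + single j 1) (q i j) := by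
      rw [MvPolynomial.X, MvPolynomial.X, MvPolynomial.C_mul_monomial, MvPolynomial.monomial_mul]
      simp
    rw [this, MvPolynomial.coeff_monomial]
    by_cases he : single i 1 + single j 1 = e
    · rw [if_pos he, if_pos ⟨hij, he⟩]
    · rw [if_neg he, if_neg (fun h => he h.2)]
  · rw [if_neg hij, MvPolynomial.coeff_zero, if_neg (fun h => hij h.1)]

theorem coeff_quadPoly_of_degree_ne (q : Fin n → Fin n → R) (e : Fin n →₀ ℕ) (he : degree e ≠ 2) :
    MvPolynomial.coeff e (VanCyc.quadPoly q) = 0 := by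
  rw [coeff_quadPoly]
  refine Finset.sum_eq_zero fun i _ => Finset.sum_eq_zero fun j _ => ?_
  rw [if_neg]
  rintro ⟨_, h⟩
  apply he
  rw [← h, map_add, Finsupp.degree_single, Finsupp.degree_single]

theorem coeff_quadPoly_pair (q : Fin n → Fin n → R) {a b : Fin n} (hab : a ≤ b) :
    MvPolynomial.coeff (single a 1 + single b 1) (VanCyc.quadPoly q) = q a b := by
  rw [coeff_quadPoly]
  have key : ∀ i j : Fin n, (i ≤ j ∧ single i 1 + single j 1 = single a (1 : ℕ) + single b 1) ↔
      (i = a ∧ j = b) := by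
    intro i j
    constructor
    · rintro ⟨hij, h⟩
      rw [Finsupp.single_add_single_eq_single_add_single one_ne_zero one_ne_zero] at h
      rcases h with ⟨h1, h2⟩ | ⟨_, h1, h2⟩ | ⟨h1, _⟩
      · exact ⟨h1, h2⟩
      · subst h1 h2
        have : i = j := le_antisymm hij hab
        exact ⟨this, this.symm⟩
      · omega
    · rintro ⟨rfl, rfl⟩
      exact ⟨hab, rfl⟩
  simp_rw [key]
  rw [Finset.sum_eq_single a]
  · rw [Finset.sum_eq_single b]
    · rw [if_pos ⟨rfl, rfl⟩]
    · intro j _ hj
      rw [if_neg (fun h => hj h.2)]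
    · intro h; exact absurd (Finset.mem_univ b) h
  · intro i _ hi
    apply Finset.sum_eq_zero
    intro j _
    rw [if_neg (fun h => hi h.1)]
  · intro h; exact absurd (Finset.mem_univ a) h

theorem coeff_lin (ℓ : Fin n → R) (e : Fin n →₀ ℕ) :
    MvPolynomial.coeff e (∑ i, MvPolynomial.C (ℓ i) * MvPolynomial.X i : MvPolynomial (Fin n) R) =
      ∑ i : Fin n, if single i 1 = e then ℓ i else 0 := by
  rw [MvPolynomial.coeff_sum]
  refine Finset.sum_congr rfl fun i _ => ?_
  rw [MvPolynomial.X, MvPolynomial.C_mul_monomial, mul_one, MvPolynomial.coeff_monomial]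

theorem coeff_lin_of_degree_ne (ℓ : Fin n → R) (e : Fin n →₀ ℕ) (he : degree e ≠ 1) :
    MvPolynomial.coeff e (∑ i, MvPolynomial.C (ℓ i) * MvPolynomial.X i : MvPolynomial (Fin n) R) =
      0 := by
  rw [coeff_lin]
  refine Finset.sum_eq_zero fun i _ => ?_
  rw [if_neg]
  intro h
  apply he
  rw [← h, Finsupp.degree_single]

theorem coeff_lin_single (ℓ : Fin n → R) (a : Fin n) :
    MvPolynomial.coeff (single a 1) (∑ i, MvPolynomial.C (ℓ i) * MvPolynomial.X i :
      MvPolynomial (Fin n) R) = ℓ a := by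
  rw [coeff_lin, Finset.sum_eq_single a]
  · rw [if_pos rfl]
  · intro i _ hi
    rw [if_neg]
    intro h
    exact hi (Finsupp.single_left_injective one_ne_zero h)
  · intro h; exact absurd (Finset.mem_univ a) h

end Coeff

end Groth.Agent.Lib.Helper19.MorseTransl
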