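import Mathlib

/-!
# A vector-valued Newton iteration over an adically complete ring

An abstract Newton lemma: a map `L` on vectors with entries in `I` that is linear to second order, with
invertible "Jacobian" `H c`, has a zero near any approximate zero.
-/

set_option autoImplicit false
universe u v

namespace Groth.Agent.Lib.Helper19.NewtonVec

lemma cauchy_of_succ {R : Type*} [CommRing R] (I : Ideal R) (f : ℕ → R)
    (hf : ∀ n, f (n + 1) - f n ∈ I ^ (n + 1)) {m n : ℕ} (hmn : m ≤ n) :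
    f m ≡ f n [SMOD (I ^ m • ⊤ : Submodule R R)] := by
  rw [SModEq.sub_mem, smul_eq_mul, Ideal.mul_top]
  induction n, hmn using Nat.le_induction with
  | base => rw [sub_self]; exact Ideal.zero_mem _
  | succ n hmn ih =>
    have : f m - f (n + 1) = (f m - f n) - (f (n + 1) - f n) := by ring
    rw [this]
    exact Ideal.sub_mem _ ih (Ideal.pow_le_pow_right (by omega) (hf n))

variable {A : Type u} [CommRing A] (I : Ideal A) {σ : Type v} [Fintype σ] [DecidableEq σ]

theorem step (L : (σ → A) → (σ → A)) (H : (σ → A) → Matrix σ σ A)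
    (hH : ∀ c, (∀ s, c s ∈ I) → IsUnit (H c).det)
    (hL : ∀ (k : ℕ) (c d : σ → A), 1 ≤ k → (∀ s, c s ∈ I) → (∀ s, d s ∈ I ^ k) →
      ∀ i, L (c + d) i - L c i - ∑ s, H c i s * d s ∈ I ^ (2 * k))
    (k : ℕ) (c : σ → A) (hc : ∀ s, c s ∈ I) (hLc : ∀ i, L c i ∈ I ^ (k + 1)) :
    ∃ c' : σ → A, (∀ s, c' s ∈ I) ∧ (∀ i, L c' i ∈ I ^ (k + 2)) ∧ ∀ s, c' s - c s ∈ I ^ (k + 1) := by
  have hu := hH c hc
  set d : σ → A := -((H c)⁻¹.mulVec (L c)) with hd
  have hdmem : ∀ s, d s ∈ I ^ (k + 1) := by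
    intro s
    rw [hd, Pi.neg_apply, neg_mem_iff]
    simp only [Matrix.mulVec, dotProduct]
    exact Ideal.sum_mem _ fun t _ => Ideal.mul_mem_left _ _ (hLc t)
  have hHd : (H c).mulVec d = -L c := by
    rw [hd, Matrix.mulVec_neg, Matrix.mulVec_mulVec, Matrix.mul_nonsing_inv _ hu, Matrix.one_mulVec]
  refine ⟨c + d, fun s => Ideal.add_mem _ (hc s) (Ideal.pow_le_self (Nat.succ_ne_zero k) (hdmem s)),
    fun i => ?_, fun s => ?_⟩
  · have h1 := hL (k + 1) c d (by omega) hc hdmem i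
    have h2 : ∑ s, H c i s * d s = -L c i := by
      have := congrFun hHd i
      simpa only [Matrix.mulVec, dotProduct, Pi.neg_apply] using this
    rw [h2] at h1
    have h3 : L (c + d) i - L c i - -L c i = L (c + d) i := by ring
    rw [h3] at h1
    exact Ideal.pow_le_pow_right (by omega) h1
  · rw [Pi.add_apply, add_sub_cancel_left]
    exact hdmem s

theorem exists_zero [IsAdicComplete I A] (L : (σ → A) → (σ → A)) (H : (σ → A) → Matrix σ σ A)
    (hH : ∀ c, (∀ s, c s ∈ I) → IsUnit (H c).det)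
    (hL : ∀ (k : ℕ) (c d : σ → A), 1 ≤ k → (∀ s, c s ∈ I) → (∀ s, d s ∈ I ^ k) →
      ∀ i, L (c + d) i - L c i - ∑ s, H c i s * d s ∈ I ^ (2 * k))
    (c₀ : σ → A) (hc₀ : ∀ s, c₀ s ∈ I) (hL₀ : ∀ i, L c₀ i ∈ I) :
    ∃ c : σ → A, (∀ s, c s ∈ I) ∧ L c = 0 := by
  -- the sequence
  let Inv : ℕ → (σ → A) → Prop := fun k c => (∀ s, c s ∈ I) ∧ ∀ i, L c i ∈ I ^ (k + 1)
  have hstep : ∀ (k : ℕ) (c : σ → A), Inv k c → ∃ c' : σ → A, Inv (k + 1) c' ∧
      ∀ s, c' s - c s ∈ I ^ (k + 1) := by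
    rintro k c ⟨h1, h2⟩
    obtain ⟨c', h3, h4, h5⟩ := step I L H hH hL k c h1 h2
    exact ⟨c', ⟨h3, h4⟩, h5⟩
  choose! nxt hnxt using hstep
  let seq : ℕ → (σ → A) := fun k => Nat.rec c₀ (fun k c => nxt k c) k
  have hseq0 : seq 0 = c₀ := rfl
  have hseqS : ∀ k, seq (k + 1) = nxt k (seq k) := fun k => rfl
  have hInv : ∀ k, Inv k (seq k) := by
    intro k
    induction k with
    | zero => exact ⟨hc₀, fun i => by rw [zero_add, pow_one]; exact hL₀ i⟩
    | succ k ih => rw [hseqS]; exact (hnxt k _ ih).1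
  have hdiff : ∀ k s, seq (k + 1) s - seq k s ∈ I ^ (k + 1) := by
    intro k s
    rw [hseqS]
    exact (hnxt k _ (hInv k)).2 s
  -- the limit
  have hlim : ∀ s, ∃ l : A, ∀ k, seq k s ≡ l [SMOD (I ^ k • ⊤ : Submodule A A)] := by
    intro s
    exact IsPrecomplete.prec inferInstance
      (fun {m n} hmn => cauchy_of_succ I (fun k => seq k s) (fun k => hdiff k s) hmn)
  choose c hc using hlim
  have hcmem : ∀ k s, c s - seq k s ∈ I ^ k := by
    intro k s
    have := hc s k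
    rw [SModEq.sub_mem, smul_eq_mul, Ideal.mul_top] at this
    have h2 := neg_mem this
    rwa [neg_sub] at h2
  have hcI : ∀ s, c s ∈ I := by
    intro s
    have h1 := hcmem 1 s
    rw [pow_one] at h1
    have : c s = (c s - seq 1 s) + seq 1 s := by ring
    rw [this]
    exact Ideal.add_mem _ h1 ((hInv 1).1 s)
  refine ⟨c, hcI, ?_⟩
  funext i
  rw [Pi.zero_apply]
  apply IsHausdorff.haus (I := I) inferInstance
  intro k
  rw [SModEq.sub_mem, smul_eq_mul, Ideal.mul_top, sub_zero]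
  rcases Nat.eq_zero_or_pos k with hk | hk
  · rw [hk, pow_zero, Ideal.one_eq_top]; trivial
  · have h1 := hL k (seq k) (fun s => c s - seq k s) hk (hInv k).1 (fun s => hcmem k s) i
    have h2 : seq k + (fun s => c s - seq k s) = c := by
      funext s; simp
    rw [h2] at h1
    have h3 : L (seq k) i ∈ I ^ k := Ideal.pow_le_pow_right (by omega) ((hInv k).2 i)
    have h4 : ∑ s, H (seq k) i s * (c s - seq k s) ∈ I ^ k :=
      Ideal.sum_mem _ fun s _ => Ideal.mul_mem_left _ _ (hcmem k s)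
    have h5 : L c i - L (seq k) i - ∑ s, H (seq k) i s * (c s - seq k s) ∈ I ^ k :=
      Ideal.pow_le_pow_right (by omega) h1
    have : L c i = (L c i - L (seq k) i - ∑ s, H (seq k) i s * (c s - seq k s)) + L (seq k) i +
        ∑ s, H (seq k) i s * (c s - seq k s) := by ring
    rw [this]
    exact Ideal.add_mem _ (Ideal.add_mem _ h5 h3) h4

end Groth.Agent.Lib.Helper19.NewtonVec
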