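import Mathlib

/-!
# A formal inverse function theorem for multivariate power series

If `f i = X i + (terms of order ≥ 2)` then substitution `X i ↦ f i` is an `R`-algebra
automorphism of `MvPowerSeries σ R` (finite `σ`).  Also: limits of Cauchy sequences for the
order filtration.
-/

set_option autoImplicit false
universe u

namespace Groth.Agent.Lib.Helper24FormalIFT

open MvPowerSeries

variable {σ : Type*} {R : Type u} [CommRing R]

section Order

theorem order_sub_ge (p q : MvPowerSeries σ R) : min p.order q.order ≤ (p - q).order := by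
  rw [sub_eq_add_neg]
  have := min_order_le_add (f := p) (g := -q)
  rwa [order_neg] at this

theorem eq_zero_of_forall_le_order (p : MvPowerSeries σ R) (h : ∀ k : ℕ, (k : ℕ∞) ≤ p.order) :
    p = 0 :=
  order_eq_top_iff.1 (ENat.eq_top_iff_forall_ge.2 h)

/-- Limits of Cauchy sequences for the order filtration. -/
theorem exists_limit (y : ℕ → MvPowerSeries σ R)
    (hy : ∀ k : ℕ, (k : ℕ∞) ≤ (y (k + 1) - y k).order) :
    ∃ z : MvPowerSeries σ R, ∀ k : ℕ, (k : ℕ∞) ≤ (z - y k).order := by
  have hstab : ∀ (e : σ →₀ ℕ) (j k : ℕ), e.degree < j → j ≤ k →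
      coeff e (y k) = coeff e (y j) := by
    intro e j k hj hjk
    induction k, hjk using Nat.le_induction with
    | base => rfl
    | succ k hk ih =>
      rw [← ih]
      have h1 : ((e.degree : ℕ) : ℕ∞) < (y (k + 1) - y k).order :=
        lt_of_lt_of_le (by exact_mod_cast lt_of_lt_of_le hj hk) (hy k)
      have := coeff_of_lt_order h1
      rw [map_sub, sub_eq_zero] at this
      exact this
  refine ⟨fun e => coeff e (y (e.degree + 1)), fun k => ?_⟩
  apply nat_le_order
  intro e he
  rw [map_sub, sub_eq_zero, coeff_apply]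
  exact (hstab e (e.degree + 1) k (Nat.lt_succ_self _) (by omega)).symm

end Order

section Close

/-- `u` agrees with `x` up to order `m`, where `x` has order at least `m`. -/
def Close (m : ℕ) (u x : MvPowerSeries σ R) : Prop :=
  (m : ℕ∞) ≤ x.order ∧ (m : ℕ∞) + 1 ≤ (u - x).order

theorem Close.order_left {m : ℕ} {u x : MvPowerSeries σ R} (h : Close m u x) :
    (m : ℕ∞) ≤ u.order := by
  have : u = x + (u - x) := by ring
  rw [this]
  refine le_trans (le_min h.1 (le_trans ?_ h.2)) min_order_le_add
  exact le_self_add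

theorem Close.one : Close 0 (1 : MvPowerSeries σ R) 1 := by
  refine ⟨by simp, ?_⟩
  rw [sub_self, order_zero]
  exact le_top

theorem Close.mul {m m' : ℕ} {u x u' x' : MvPowerSeries σ R} (h : Close m u x)
    (h' : Close m' u' x') : Close (m + m') (u * u') (x * x') := by
  refine ⟨?_, ?_⟩
  · push_cast
    exact le_trans (add_le_add h.1 h'.1) le_order_mul
  · have e : u * u' - x * x' = (u - x) * u' + x * (u' - x') := by ring
    rw [e]
    refine le_trans (le_min ?_ ?_) min_order_le_add
    · refine le_trans ?_ le_order_mul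
      push_cast
      calc (m : ℕ∞) + m' + 1 = (m + 1) + m' := by ring
        _ ≤ (u - x).order + u'.order := add_le_add h.2 h'.order_left
    · refine le_trans ?_ le_order_mul
      push_cast
      calc (m : ℕ∞) + m' + 1 = m + (m' + 1) := by ring
        _ ≤ x.order + (u' - x').order := add_le_add h.1 h'.2

theorem Close.pow {m : ℕ} {u x : MvPowerSeries σ R} (h : Close m u x) (k : ℕ) :
    Close (k * m) (u ^ k) (x ^ k) := by
  induction k with
  | zero => simpa using Close.one
  | succ k ih =>
    rw [pow_succ, pow_succ, Nat.succ_mul]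
    exact ih.mul h

theorem Close.prod {ι : Type*} (s : Finset ι) (m : ι → ℕ) (u x : ι → MvPowerSeries σ R)
    (h : ∀ i ∈ s, Close (m i) (u i) (x i)) :
    Close (∑ i ∈ s, m i) (∏ i ∈ s, u i) (∏ i ∈ s, x i) := by
  classical
  induction s using Finset.induction_on with
  | empty => simpa using Close.one
  | insert a s ha ih =>
    rw [Finset.sum_insert ha, Finset.prod_insert ha, Finset.prod_insert ha]
    exact (h a (Finset.mem_insert_self a s)).mul
      (ih fun i hi => h i (Finset.mem_insert_of_mem hi))

end Close

section IFT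

variable [Finite σ] (f : σ → MvPowerSeries σ R)

theorem close_X (s : σ) (hf0 : constantCoeff (f s) = 0) (hf1 : 2 ≤ (f s - X s).order) :
    Close 1 (f s) (X s) := by
  refine ⟨?_, by simpa [one_add_one_eq_two] using hf1⟩
  rw [Nat.cast_one, one_le_order_iff_constCoeff_eq_zero]
  simp

theorem close_monomial (hf0 : ∀ i, constantCoeff (f i) = 0)
    (hf1 : ∀ i, 2 ≤ (f i - X i).order) (d : σ →₀ ℕ) :
    Close d.degree (d.prod fun s e => f s ^ e) (d.prod fun s e => (X s : MvPowerSeries σ R) ^ e) := by
  rw [Finsupp.degree_apply]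
  have := Close.prod d.support (fun s => d s * 1) (fun s => f s ^ d s)
    (fun s => (X s : MvPowerSeries σ R) ^ d s)
    (fun s _ => (close_X f s (hf0 s) (hf1 s)).pow (d s))
  simpa [Finsupp.prod] using this

theorem order_subst_sub (hf0 : ∀ i, constantCoeff (f i) = 0)
    (hf1 : ∀ i, 2 ≤ (f i - X i).order) (p : MvPowerSeries σ R) :
    p.order + 1 ≤ (subst f p - p).order := by
  classical
  have ha : HasSubst f := hasSubst_of_constantCoeff_zero hf0
  apply le_order
  intro e he
  rw [map_sub, sub_eq_zero, coeff_subst ha]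
  have hterm : ∀ d : σ →₀ ℕ, coeff d p • coeff e (d.prod fun s e => f s ^ e) =
      if d = e then coeff e p else 0 := by
    intro d
    by_cases hd : coeff d p = 0
    · rw [hd, zero_smul]
      split_ifs with h
      · rw [← h, hd]
      · rfl
    · have h1 : p.order ≤ d.degree := order_le hd
      have h2 : ((e.degree : ℕ) : ℕ∞) < (d.degree : ℕ∞) + 1 :=
        lt_of_lt_of_le he (add_le_add h1 le_rfl)
      have h3 := coeff_of_lt_order (lt_of_lt_of_le h2 (close_monomial f hf0 hf1 d).2)
      rw [map_sub, sub_eq_zero, ← monomial_one_eq, coeff_monomial] at h3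
      rw [h3, smul_eq_mul]
      split_ifs with h h' h'
      · rw [h, mul_one]
      · exact absurd h.symm h'
      · exact absurd h'.symm h
      · rw [mul_zero]
  simp_rw [hterm]
  rw [finsum_eq_single _ e (fun d hd => if_neg hd), if_pos rfl]

theorem order_le_order_subst (hf0 : ∀ i, constantCoeff (f i) = 0)
    (hf1 : ∀ i, 2 ≤ (f i - X i).order) (p : MvPowerSeries σ R) :
    p.order ≤ (subst f p).order := by
  have : subst f p = p + (subst f p - p) := by ring
  rw [this]
  refine le_trans (le_min le_rfl ?_) min_order_le_add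
  exact le_trans le_self_add (order_subst_sub f hf0 hf1 p)

theorem subst_injective (hf0 : ∀ i, constantCoeff (f i) = 0)
    (hf1 : ∀ i, 2 ≤ (f i - X i).order) (p : MvPowerSeries σ R) (hp : subst f p = 0) : p = 0 := by
  have h := order_subst_sub f hf0 hf1 p
  rw [hp, zero_sub, order_neg] at h
  by_contra hne
  have hne' : p.order ≠ ⊤ := fun h' => hne (order_eq_top_iff.1 h')
  exact lt_irrefl _ ((ENat.add_one_le_iff hne').1 h)

theorem subst_surjective (hf0 : ∀ i, constantCoeff (f i) = 0)
    (hf1 : ∀ i, 2 ≤ (f i - X i).order) (q : MvPowerSeries σ R) : ∃ p : MvPowerSeries σ R, subst f p = q := by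
  have ha : HasSubst f := hasSubst_of_constantCoeff_zero hf0
  -- the operator `N p = p - subst f p`
  let N : MvPowerSeries σ R → MvPowerSeries σ R := fun p => p - subst f p
  have hN : ∀ p, p.order + 1 ≤ (N p).order := by
    intro p
    have := order_subst_sub f hf0 hf1 p
    have e : N p = -(subst f p - p) := by simp [N]
    rw [e, order_neg]
    exact this
  have hNk : ∀ k : ℕ, (k : ℕ∞) ≤ (N^[k] q).order := by
    intro k
    induction k with
    | zero => simp
    | succ k ih =>
      rw [Function.iterate_succ_apply']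
      push_cast
      exact le_trans (add_le_add ih le_rfl) (hN _)
  let y : ℕ → MvPowerSeries σ R := fun K => ∑ k ∈ Finset.range K, N^[k] q
  have hy : ∀ K : ℕ, (K : ℕ∞) ≤ (y (K + 1) - y K).order := by
    intro K
    have : y (K + 1) - y K = N^[K] q := by simp [y, Finset.sum_range_succ]
    rw [this]
    exact hNk K
  obtain ⟨z, hz⟩ := exists_limit y hy
  have hsub_y : ∀ K, subst f (y K) = q - N^[K] q := by
    intro K
    induction K with
    | zero =>
      have : y 0 = 0 := by simp [y]
      rw [this, ← coe_substAlgHom ha, map_zero]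
      simp
    | succ K ih =>
      have e1 : y (K + 1) = y K + N^[K] q := by simp [y, Finset.sum_range_succ]
      rw [e1, subst_add ha, ih, Function.iterate_succ_apply']
      simp only [N]
      ring
  refine ⟨z, ?_⟩
  rw [← sub_eq_zero]
  apply eq_zero_of_forall_le_order
  intro K
  have e : subst f z - q = subst f (z - y K) - N^[K] q := by
    rw [subst_sub ha, hsub_y K]
    ring
  rw [e]
  refine le_trans (le_min ?_ (hNk K)) (order_sub_ge _ _)
  exact le_trans (hz K) (order_le_order_subst f hf0 hf1 _)

/-- **Formal inverse function theorem** (identity linear part). -/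
noncomputable def substEquiv (hf0 : ∀ i, constantCoeff (f i) = 0)
    (hf1 : ∀ i, 2 ≤ (f i - X i).order) : MvPowerSeries σ R ≃ₐ[R] MvPowerSeries σ R :=
  AlgEquiv.ofBijective (substAlgHom (hasSubst_of_constantCoeff_zero hf0)) (by
    have ha : HasSubst f := hasSubst_of_constantCoeff_zero hf0
    constructor
    · rw [injective_iff_map_eq_zero]
      intro p hp
      rw [coe_substAlgHom ha] at hp
      exact subst_injective f hf0 hf1 p hp
    · intro q
      obtain ⟨p, hp⟩ := subst_surjective f hf0 hf1 q
      exact ⟨p, by rw [coe_substAlgHom ha]; exact hp⟩)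

theorem substEquiv_apply (hf0 : ∀ i, constantCoeff (f i) = 0)
    (hf1 : ∀ i, 2 ≤ (f i - X i).order) (p : MvPowerSeries σ R) :
    substEquiv f hf0 hf1 p = subst f p := by
  simp [substEquiv]

end IFT

section Rescale

/-- Rescaling the variables by units, as an algebra automorphism. -/
noncomputable def rescaleEquiv (u : σ → Rˣ) : MvPowerSeries σ R ≃ₐ[R] MvPowerSeries σ R :=
  AlgEquiv.ofAlgHom (rescaleAlgHom fun i => (u i : R)) (rescaleAlgHom fun i => ((u i)⁻¹ : Rˣ))
    (by
      rw [← rescaleAlgHom_mul]
      have : ((fun i => (((u i)⁻¹ : Rˣ) : R)) * fun i => (u i : R)) = 1 := by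
        funext i
        simp
      rw [this, rescaleAlgHom_one])
    (by
      rw [← rescaleAlgHom_mul]
      have : ((fun i => (u i : R)) * fun i => (((u i)⁻¹ : Rˣ) : R)) = 1 := by
        funext i
        simp
      rw [this, rescaleAlgHom_one])

theorem rescaleEquiv_X (u : σ → Rˣ) (i : σ) :
    rescaleEquiv u (X i) = C (u i : R) * X i := by
  simp only [rescaleEquiv, AlgEquiv.ofAlgHom_apply, rescaleAlgHom]
  rw [substAlgHom_X]
  simp [smul_eq_C_mul]

end Rescale

section CubeRoot

theorem two_eq_zero [CharP R 2] : (2 : MvPowerSeries σ R) = 0 := by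
  have : (2 : MvPowerSeries σ R) = C (2 : R) := (map_ofNat C 2).symm
  rw [this, CharTwo.two_eq_zero, map_zero]

theorem one_le_order_of_constantCoeff {p : MvPowerSeries σ R} (hp : constantCoeff p = 0) :
    (1 : ℕ∞) ≤ p.order :=
  one_le_order_iff_constCoeff_eq_zero.2 hp

/-- Cube roots of `1 + v` in characteristic `2`. -/
theorem exists_cube_root [CharP R 2] (v : MvPowerSeries σ R) (hv : constantCoeff v = 0) :
    ∃ z : MvPowerSeries σ R, constantCoeff z = 0 ∧ (1 + z) ^ 3 = 1 + v := by
  let T : MvPowerSeries σ R → MvPowerSeries σ R := fun y => v + y ^ 2 + y ^ 3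
  let G : MvPowerSeries σ R → MvPowerSeries σ R → MvPowerSeries σ R :=
    fun y y' => y + y' + y ^ 2 + y * y' + y' ^ 2
  have hT : ∀ y y', T y - T y' = (y - y') * G y y' := by
    intro y y'
    simp only [T, G]
    ring
  have hTc : ∀ y, constantCoeff y = 0 → constantCoeff (T y) = 0 := by
    intro y hy
    simp [T, hv, hy]
  have hG : ∀ y y', constantCoeff y = 0 → constantCoeff y' = 0 → (1 : ℕ∞) ≤ (G y y').order := by
    intro y y' hy hy'
    apply one_le_order_of_constantCoeff
    simp [G, hy, hy']
  let y : ℕ → MvPowerSeries σ R := fun k => T^[k] 0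
  have hyc : ∀ k, constantCoeff (y k) = 0 := by
    intro k
    induction k with
    | zero => simp [y]
    | succ k ih =>
      simp only [y, Function.iterate_succ_apply']
      exact hTc _ ih
  have hystep : ∀ k, y (k + 1) = T (y k) := fun k => Function.iterate_succ_apply' T k 0
  have hy1 : ∀ k : ℕ, ((k + 1 : ℕ) : ℕ∞) ≤ (y (k + 1) - y k).order := by
    intro k
    induction k with
    | zero =>
      have : y 1 - y 0 = v := by simp [y, T]
      rw [this]
      simpa using one_le_order_of_constantCoeff hv
    | succ k ih =>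
      rw [hystep (k + 1), hystep k, hT]
      rw [hystep k] at ih
      refine le_trans ?_ le_order_mul
      push_cast at ih ⊢
      exact add_le_add ih (hG _ _ (hTc _ (hyc k)) (hyc k))
  have hy : ∀ k : ℕ, (k : ℕ∞) ≤ (y (k + 1) - y k).order := fun k =>
    le_trans (by exact_mod_cast Nat.le_succ k) (hy1 k)
  obtain ⟨z, hz⟩ := exists_limit y hy
  have hzc : constantCoeff z = 0 := by
    have h1 : (1 : ℕ∞) ≤ (z - y 1).order := by simpa using hz 1
    have h2 : (1 : ℕ∞) ≤ (y 1).order := one_le_order_of_constantCoeff (hyc 1)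
    have : z = (z - y 1) + y 1 := by ring
    rw [← one_le_order_iff_constCoeff_eq_zero, this]
    exact le_trans (le_min h1 h2) min_order_le_add
  have hfix : T z = z := by
    rw [← sub_eq_zero]
    apply eq_zero_of_forall_le_order
    intro k
    have e : T z - z = (T z - T (y k)) - (z - y (k + 1)) := by
      rw [hystep k]
      ring
    rw [e]
    refine le_trans (le_min ?_ ?_) (order_sub_ge _ _)
    · rw [hT]
      refine le_trans ?_ le_order_mul
      exact le_trans (hz k) le_self_add
    · exact le_trans (by exact_mod_cast Nat.le_succ k) (hz (k + 1))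
  refine ⟨z, hzc, ?_⟩
  have h2 : (2 : MvPowerSeries σ R) = 0 := two_eq_zero
  have hfix' : v + z ^ 2 + z ^ 3 = z := hfix
  linear_combination (z + 2 * z ^ 2 + z ^ 3) * h2 - hfix'

end CubeRoot

end Groth.Agent.Lib.Helper24FormalIFT
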