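import Mathlib
import Groth.Agent.Lib.Helper24FormalIFT
import Groth.Prelude.Def_QuadSing

/-!
# The formal Morse lemma

For a table `c` over a commutative ring `R` whose polar matrix `c + cᵀ` has unit determinant and a
power series `f` agreeing with `Q(x) = Σ c i j x_i x_j` up to degree `m ≥ 2`, there are power
series `ε_i` of order `≥ m` with `f = Q(x + ε)` (`morse_core`).  Together with the formal inverse
function theorem of `Helper24FormalIFT` (and a finer order estimate, `order_subst_sub_gap`) this
gives the two milestone statements `main_S16230` and `main_S3206`.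
-/

universe u

namespace Groth.Agent.Lib.Helper24Morse

open MvPowerSeries Groth.Agent.Lib.Helper24FormalIFT

section Gap

variable {σ : Type*} {R : Type u} [CommRing R]

/-- `u` agrees with `x` up to order `m + c`, where `x` has order at least `m`. -/
def CloseG (c m : ℕ) (u x : MvPowerSeries σ R) : Prop :=
  (m : ℕ∞) ≤ x.order ∧ (m : ℕ∞) + c ≤ (u - x).order

theorem CloseG.order_left {c m : ℕ} {u x : MvPowerSeries σ R} (h : CloseG c m u x) :
    (m : ℕ∞) ≤ u.order := by
  have : u = x + (u - x) := by ring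
  rw [this]
  refine le_trans (le_min h.1 (le_trans ?_ h.2)) min_order_le_add
  exact le_self_add

theorem CloseG.one (c : ℕ) : CloseG c 0 (1 : MvPowerSeries σ R) 1 := by
  refine ⟨by simp, ?_⟩
  rw [sub_self, order_zero]
  exact le_top

theorem CloseG.mul {c m m' : ℕ} {u x u' x' : MvPowerSeries σ R} (h : CloseG c m u x)
    (h' : CloseG c m' u' x') : CloseG c (m + m') (u * u') (x * x') := by
  refine ⟨?_, ?_⟩
  · push_cast
    exact le_trans (add_le_add h.1 h'.1) le_order_mul
  · have e : u * u' - x * x' = (u - x) * u' + x * (u' - x') := by ring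
    rw [e]
    refine le_trans (le_min ?_ ?_) min_order_le_add
    · refine le_trans ?_ le_order_mul
      push_cast
      calc (m : ℕ∞) + m' + c = (m + c) + m' := by ring
        _ ≤ (u - x).order + u'.order := add_le_add h.2 h'.order_left
    · refine le_trans ?_ le_order_mul
      push_cast
      calc (m : ℕ∞) + m' + c = m + (m' + c) := by ring
        _ ≤ x.order + (u' - x').order := add_le_add h.1 h'.2

theorem CloseG.pow {c m : ℕ} {u x : MvPowerSeries σ R} (h : CloseG c m u x) (k : ℕ) :
    CloseG c (k * m) (u ^ k) (x ^ k) := by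
  induction k with
  | zero => simpa using CloseG.one c
  | succ k ih =>
    rw [pow_succ, pow_succ, Nat.succ_mul]
    exact ih.mul h

theorem CloseG.prod {ι : Type*} (c : ℕ) (s : Finset ι) (m : ι → ℕ) (u x : ι → MvPowerSeries σ R)
    (h : ∀ i ∈ s, CloseG c (m i) (u i) (x i)) :
    CloseG c (∑ i ∈ s, m i) (∏ i ∈ s, u i) (∏ i ∈ s, x i) := by
  classical
  induction s using Finset.induction_on with
  | empty => simpa using CloseG.one c
  | insert a s ha ih =>
    rw [Finset.sum_insert ha, Finset.prod_insert ha, Finset.prod_insert ha]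
    exact (h a (Finset.mem_insert_self a s)).mul
      (ih fun i hi => h i (Finset.mem_insert_of_mem hi))

variable (f : σ → MvPowerSeries σ R)

theorem closeG_X (c : ℕ) (s : σ) (hf1 : ((c + 1 : ℕ) : ℕ∞) ≤ (f s - X s).order) :
    CloseG c 1 (f s) (X s) := by
  refine ⟨?_, ?_⟩
  · rw [Nat.cast_one, one_le_order_iff_constCoeff_eq_zero]
    simp
  · refine le_trans (le_of_eq ?_) hf1
    push_cast
    ring

theorem closeG_monomial [Finite σ] (c : ℕ)
    (hf1 : ∀ i, ((c + 1 : ℕ) : ℕ∞) ≤ (f i - X i).order) (d : σ →₀ ℕ) :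
    CloseG c d.degree (d.prod fun s e => f s ^ e)
      (d.prod fun s e => (X s : MvPowerSeries σ R) ^ e) := by
  rw [Finsupp.degree_apply]
  have := CloseG.prod c d.support (fun s => d s * 1) (fun s => f s ^ d s)
    (fun s => (X s : MvPowerSeries σ R) ^ d s)
    (fun s _ => (closeG_X f c s (hf1 s)).pow (d s))
  simpa [Finsupp.prod] using this

/-- Finer order estimate: if `f i ≡ X i` modulo order `c + 1`, then `p(f) ≡ p` modulo order
`ord p + c`. -/
theorem order_subst_sub_gap [Finite σ] (c : ℕ) (hf0 : ∀ i, constantCoeff (f i) = 0)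
    (hf1 : ∀ i, ((c + 1 : ℕ) : ℕ∞) ≤ (f i - X i).order) (p : MvPowerSeries σ R) :
    p.order + c ≤ (subst f p - p).order := by
  classical
  have ha : HasSubst f := hasSubst_of_constantCoeff_zero hf0
  apply le_order
  intro e he
  rw [map_sub, sub_eq_zero, coeff_subst ha]
  have hterm : ∀ d : σ →₀ ℕ, coeff d p • coeff e (d.prod fun s e => f s ^ e) =
      if d = e then coeff e p else 0 := by
    intro d
    by_cases hd : coeff d p = 0
    · rw [hd, zero_smul]
      split_ifs with h
      · rw [← h, hd]
      · rfl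
    · have h1 : p.order ≤ d.degree := order_le hd
      have h2 : ((e.degree : ℕ) : ℕ∞) < (d.degree : ℕ∞) + c :=
        lt_of_lt_of_le he (add_le_add h1 le_rfl)
      have h3 := coeff_of_lt_order (lt_of_lt_of_le h2 (closeG_monomial f c hf1 d).2)
      rw [map_sub, sub_eq_zero, ← monomial_one_eq, coeff_monomial] at h3
      rw [h3, smul_eq_mul]
      split_ifs with h h' h'
      · rw [h, mul_one]
      · exact absurd h.symm h'
      · exact absurd h'.symm h
      · rw [mul_zero]
  simp_rw [hterm]
  rw [finsum_eq_single _ e (fun d hd => if_neg hd), if_pos rfl]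

end Gap

section Decomp

variable {R : Type u} [CommRing R] {n : ℕ}

/-- The `i`-th quotient in the canonical decomposition `r = Σ X_i * quo i r` of a power series
without constant term: the part of `r / X_i` collecting the monomials whose first variable is
`X_i`. -/
noncomputable def quo (i : Fin n) (r : MvPowerSeries (Fin n) R) : MvPowerSeries (Fin n) R :=
  fun d => if ∀ j < i, d j = 0 then coeff (d + Finsupp.single i 1) r else 0

theorem coeff_quo (i : Fin n) (r : MvPowerSeries (Fin n) R) (d : Fin n →₀ ℕ) :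
    coeff d (quo i r) = if ∀ j < i, d j = 0 then coeff (d + Finsupp.single i 1) r else 0 := rfl

theorem constantCoeff_quo (i : Fin n) (r : MvPowerSeries (Fin n) R) :
    constantCoeff (quo i r) = coeff (Finsupp.single i 1) r := by
  rw [← coeff_zero_eq_constantCoeff_apply, coeff_quo,
    if_pos (show ∀ j < i, (0 : Fin n →₀ ℕ) j = 0 from fun j _ => rfl), zero_add]

theorem order_quo (i : Fin n) (r : MvPowerSeries (Fin n) R) (N : ℕ)
    (h : ((N + 1 : ℕ) : ℕ∞) ≤ r.order) : (N : ℕ∞) ≤ (quo i r).order := by
  apply nat_le_order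
  intro d hd
  rw [coeff_quo]
  split_ifs
  · apply coeff_of_lt_order
    refine lt_of_lt_of_le ?_ h
    rw [map_add, Finsupp.degree_single]
    exact_mod_cast Nat.add_lt_add_right hd 1
  · rfl

theorem sum_X_mul_quo (r : MvPowerSeries (Fin n) R) (hr : constantCoeff r = 0) :
    ∑ i, X i * quo i r = r := by
  classical
  ext e
  rw [map_sum]
  have hterm : ∀ i : Fin n, coeff e (X i * quo i r) =
      if Finsupp.single i 1 ≤ e ∧ ∀ j < i, e j = 0 then coeff e r else 0 := by
    intro i
    rw [X_def, coeff_monomial_mul, one_mul, coeff_quo]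
    by_cases h1 : Finsupp.single i 1 ≤ e
    · rw [if_pos h1, tsub_add_cancel_of_le h1]
      have : (∀ j < i, (e - Finsupp.single i 1 : Fin n →₀ ℕ) j = 0) ↔ ∀ j < i, e j = 0 := by
        refine forall₂_congr fun j hj => ?_
        rw [Finsupp.tsub_apply, Finsupp.single_apply, if_neg (ne_of_gt hj), Nat.sub_zero]
      simp only [this, h1, true_and]
    · rw [if_neg h1, if_neg (fun h => h1 h.1)]
  simp_rw [hterm]
  by_cases he : e = 0
  · subst he
    rw [coeff_zero_eq_constantCoeff_apply, hr]
    exact Finset.sum_eq_zero fun i _ => by split_ifs <;> rfl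
  · have hne : e.support.Nonempty := Finsupp.support_nonempty_iff.2 he
    set i₀ := e.support.min' hne with hi₀
    have hmem : i₀ ∈ e.support := Finset.min'_mem _ hne
    have hcond : ∀ i : Fin n, (Finsupp.single i 1 ≤ e ∧ ∀ j < i, e j = 0) ↔ i = i₀ := by
      intro i
      constructor
      · rintro ⟨h1, h2⟩
        have hi : i ∈ e.support := by
          rw [Finsupp.mem_support_iff]
          have := Finsupp.single_le_iff.1 h1
          omega
        have hle : i₀ ≤ i := Finset.min'_le _ _ hi
        rcases eq_or_lt_of_le hle with h | h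
        · exact h.symm
        · exact absurd (h2 i₀ h) (Finsupp.mem_support_iff.1 hmem)
      · rintro rfl
        refine ⟨Finsupp.single_le_iff.2 (Nat.one_le_iff_ne_zero.2 (Finsupp.mem_support_iff.1 hmem)),
          fun j hj => ?_⟩
        by_contra hne'
        have : j ∈ e.support := Finsupp.mem_support_iff.2 hne'
        exact absurd (Finset.min'_le _ _ this) (not_le.2 hj)
    simp_rw [hcond]
    rw [Finset.sum_ite_eq' Finset.univ i₀, if_pos (Finset.mem_univ _)]

end Decomp

section Quad

variable {R : Type u} [CommRing R] {n : ℕ}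

theorem le_order_sum {ι : Type*} (s : Finset ι) (g : ι → MvPowerSeries (Fin n) R) (a : ℕ∞)
    (h : ∀ i ∈ s, a ≤ (g i).order) : a ≤ (∑ i ∈ s, g i).order := by
  classical
  induction s using Finset.induction_on with
  | empty => simp
  | insert b s hb ih =>
    rw [Finset.sum_insert hb]
    exact le_trans (le_min (h b (Finset.mem_insert_self b s))
      (ih fun i hi => h i (Finset.mem_insert_of_mem hi))) min_order_le_add

theorem le_order_mul' {p q : MvPowerSeries (Fin n) R} {a b : ℕ∞} (hp : a ≤ p.order)
    (hq : b ≤ q.order) : a + b ≤ (p * q).order :=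
  le_trans (add_le_add hp hq) le_order_mul

theorem le_order_C_mul (a : R) {p : MvPowerSeries (Fin n) R} {b : ℕ∞} (hp : b ≤ p.order) :
    b ≤ (C a * p).order := by
  have := le_order_mul' (p := C a) (q := p) zero_le hp
  rwa [zero_add] at this

theorem one_le_order_X (i : Fin n) : (1 : ℕ∞) ≤ (X i : MvPowerSeries (Fin n) R).order := by
  rw [one_le_order_iff_constCoeff_eq_zero]
  simp

variable (c : Fin n → Fin n → R)

/-- The quadratic form `Q(v) = Σ c i j v_i v_j` evaluated at a vector of power series. -/
noncomputable def Qv (v : Fin n → MvPowerSeries (Fin n) R) : MvPowerSeries (Fin n) R :=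
  ∑ i, ∑ j, C (c i j) * v i * v j

/-- The polar form of `Qv`. -/
noncomputable def Bv (u w : Fin n → MvPowerSeries (Fin n) R) : MvPowerSeries (Fin n) R :=
  ∑ i, ∑ j, C (c i j + c j i) * u i * w j

theorem Bv_eq (u w : Fin n → MvPowerSeries (Fin n) R) :
    Bv c u w = (∑ i, ∑ j, C (c i j) * u i * w j) + ∑ i, ∑ j, C (c i j) * w i * u j := by
  unfold Bv
  simp_rw [map_add, add_mul, Finset.sum_add_distrib]
  congr 1
  rw [Finset.sum_comm]
  refine Finset.sum_congr rfl fun i _ => Finset.sum_congr rfl fun j _ => ?_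
  ring

theorem Qv_add (u w : Fin n → MvPowerSeries (Fin n) R) :
    Qv c (u + w) = Qv c u + Bv c u w + Qv c w := by
  rw [Bv_eq]
  unfold Qv
  simp only [Pi.add_apply, ← Finset.sum_add_distrib]
  refine Finset.sum_congr rfl fun i _ => Finset.sum_congr rfl fun j _ => ?_
  ring

theorem Bv_add_left (u u' w : Fin n → MvPowerSeries (Fin n) R) :
    Bv c (u + u') w = Bv c u w + Bv c u' w := by
  unfold Bv
  simp only [Pi.add_apply, ← Finset.sum_add_distrib]
  refine Finset.sum_congr rfl fun i _ => Finset.sum_congr rfl fun j _ => ?_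
  ring

theorem le_order_Bv (u w : Fin n → MvPowerSeries (Fin n) R) (a b : ℕ∞)
    (hu : ∀ i, a ≤ (u i).order) (hw : ∀ i, b ≤ (w i).order) : a + b ≤ (Bv c u w).order := by
  unfold Bv
  refine le_order_sum _ _ _ fun i _ => le_order_sum _ _ _ fun j _ => ?_
  rw [mul_assoc]
  exact le_order_C_mul _ (le_order_mul' (hu i) (hw j))

theorem le_order_Qv (w : Fin n → MvPowerSeries (Fin n) R) (a : ℕ∞)
    (hw : ∀ i, a ≤ (w i).order) : a + a ≤ (Qv c w).order := by
  unfold Qv
  refine le_order_sum _ _ _ fun i _ => le_order_sum _ _ _ fun j _ => ?_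
  rw [mul_assoc]
  exact le_order_C_mul _ (le_order_mul' (hw i) (hw j))

/-- The polar matrix `c + cᵀ` with entries viewed as constant power series. -/
noncomputable def Bm : Matrix (Fin n) (Fin n) (MvPowerSeries (Fin n) R) :=
  Matrix.of fun i j => C (c i j + c j i)

theorem Bv_eq_dotProduct (u w : Fin n → MvPowerSeries (Fin n) R) :
    Bv c u w = u ⬝ᵥ (Bm c).mulVec w := by
  unfold Bv Bm
  simp only [dotProduct, Matrix.mulVec, Matrix.of_apply, Finset.mul_sum]
  refine Finset.sum_congr rfl fun i _ => Finset.sum_congr rfl fun j _ => ?_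
  ring

theorem isUnit_det_Bm (hdet : IsUnit (Matrix.of fun i j => c i j + c j i).det) :
    IsUnit (Bm c).det := by
  have : Bm c = (C : R →+* MvPowerSeries (Fin n) R).mapMatrix
      (Matrix.of fun i j => c i j + c j i) := by
    ext i j
    simp [Bm]
  rw [this, ← RingHom.map_det]
  exact hdet.map _

/-- The correction vector solving `Bv c X δ = r`. -/
noncomputable def solve (r : MvPowerSeries (Fin n) R) : Fin n → MvPowerSeries (Fin n) R :=
  (Bm c)⁻¹.mulVec fun i => quo i r

theorem Bv_X_solve (hdet : IsUnit (Matrix.of fun i j => c i j + c j i).det)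
    (r : MvPowerSeries (Fin n) R) (hr : constantCoeff r = 0) :
    Bv c (fun i => X i) (solve c r) = r := by
  rw [Bv_eq_dotProduct, solve, Matrix.mulVec_mulVec,
    Matrix.mul_nonsing_inv _ (isUnit_det_Bm c hdet), Matrix.one_mulVec]
  simpa [dotProduct] using sum_X_mul_quo r hr

theorem le_order_solve (r : MvPowerSeries (Fin n) R) (N : ℕ)
    (h : ((N + 1 : ℕ) : ℕ∞) ≤ r.order) (j : Fin n) : (N : ℕ∞) ≤ (solve c r j).order := by
  unfold solve Matrix.mulVec dotProduct
  refine le_order_sum _ _ _ fun i _ => ?_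
  have := le_order_mul' (p := (Bm c)⁻¹ j i) (q := quo i r) zero_le (order_quo i r N h)
  rw [zero_add] at this
  exact this

end Quad

section Core

variable {R : Type u} [CommRing R] {n : ℕ} (c : Fin n → Fin n → R)
  (f : MvPowerSeries (Fin n) R)

/-- One correction step of the Morse iteration. -/
noncomputable def step (ε : Fin n → MvPowerSeries (Fin n) R) : Fin n → MvPowerSeries (Fin n) R :=
  ε + solve c (f - Qv c ((fun i => X i) + ε))

/-- The Morse iteration. -/
noncomputable def seq : ℕ → Fin n → MvPowerSeries (Fin n) R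
  | 0 => 0
  | t + 1 => step c f (seq t)

theorem step_spec (hdet : IsUnit (Matrix.of fun i j => c i j + c j i).det) (m : ℕ) (hm : 2 ≤ m)
    (t : ℕ) (ε : Fin n → MvPowerSeries (Fin n) R) (h1 : ∀ i, (m : ℕ∞) ≤ (ε i).order)
    (h2 : ((m + 1 + t : ℕ) : ℕ∞) ≤ (f - Qv c ((fun i => X i) + ε)).order) :
    (∀ i, (m : ℕ∞) ≤ (step c f ε i).order) ∧
    ((m + 1 + (t + 1) : ℕ) : ℕ∞) ≤ (f - Qv c ((fun i => X i) + step c f ε)).order ∧
    ∀ i, ((m + t : ℕ) : ℕ∞) ≤ (step c f ε i - ε i).order := by
  set r := f - Qv c ((fun i => X i) + ε) with hr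
  have hr0 : constantCoeff r = 0 := by
    rw [← one_le_order_iff_constCoeff_eq_zero]
    refine le_trans ?_ h2
    exact_mod_cast (by omega : 1 ≤ m + 1 + t)
  have hδ : ∀ j, ((m + t : ℕ) : ℕ∞) ≤ (solve c r j).order := by
    intro j
    apply le_order_solve c r (m + t)
    rw [show m + t + 1 = m + 1 + t by omega]
    exact h2
  have hstep : ∀ i, step c f ε i = ε i + solve c r i := fun i => rfl
  refine ⟨fun i => ?_, ?_, fun i => ?_⟩
  · rw [hstep]
    refine le_trans (le_min (h1 i) (le_trans ?_ (hδ i))) min_order_le_add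
    exact_mod_cast (by omega : m ≤ m + t)
  · have e1 : (fun i => X i) + step c f ε = ((fun i => X i) + ε) + solve c r := by
      funext i
      simp only [Pi.add_apply, hstep]
      ring
    have e2 : f - Qv c ((fun i => X i) + step c f ε) = -(Bv c ε (solve c r) + Qv c (solve c r)) := by
      rw [e1, Qv_add, Bv_add_left, Bv_X_solve c hdet r hr0, hr]
      ring
    rw [e2, order_neg]
    refine le_trans (le_min ?_ ?_) min_order_le_add
    · refine le_trans ?_ (le_order_Bv c ε (solve c r) _ _ h1 hδ)
      exact_mod_cast (by omega : m + 1 + (t + 1) ≤ m + (m + t))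
    · refine le_trans ?_ (le_order_Qv c (solve c r) _ hδ)
      exact_mod_cast (by omega : m + 1 + (t + 1) ≤ (m + t) + (m + t))
  · rw [hstep, add_sub_cancel_left]
    exact hδ i

theorem seq_spec (hdet : IsUnit (Matrix.of fun i j => c i j + c j i).det) (m : ℕ) (hm : 2 ≤ m)
    (hf : ((m + 1 : ℕ) : ℕ∞) ≤ (f - Qv c (fun i => X i)).order) (t : ℕ) :
    (∀ i, (m : ℕ∞) ≤ (seq c f t i).order) ∧
    ((m + 1 + t : ℕ) : ℕ∞) ≤ (f - Qv c ((fun i => X i) + seq c f t)).order := by
  induction t with
  | zero =>
    refine ⟨fun i => ?_, ?_⟩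
    · simp [seq]
    · simpa [seq] using hf
  | succ t ih =>
    obtain ⟨h1, h2, -⟩ := step_spec c f hdet m hm t (seq c f t) ih.1 ih.2
    exact ⟨h1, h2⟩

theorem seq_diff (hdet : IsUnit (Matrix.of fun i j => c i j + c j i).det) (m : ℕ) (hm : 2 ≤ m)
    (hf : ((m + 1 : ℕ) : ℕ∞) ≤ (f - Qv c (fun i => X i)).order) (t : ℕ) (i : Fin n) :
    ((m + t : ℕ) : ℕ∞) ≤ (seq c f (t + 1) i - seq c f t i).order := by
  obtain ⟨h1, h2⟩ := seq_spec c f hdet m hm hf t
  exact (step_spec c f hdet m hm t (seq c f t) h1 h2).2.2 i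

/-- **Formal Morse lemma.** -/
theorem morse_core (hdet : IsUnit (Matrix.of fun i j => c i j + c j i).det) (m : ℕ) (hm : 2 ≤ m)
    (hf : ((m + 1 : ℕ) : ℕ∞) ≤ (f - Qv c (fun i => X i)).order) :
    ∃ ε : Fin n → MvPowerSeries (Fin n) R, (∀ i, (m : ℕ∞) ≤ (ε i).order) ∧
      f = Qv c (fun i => X i + ε i) := by
  have hy : ∀ i : Fin n, ∀ k : ℕ, (k : ℕ∞) ≤ (seq c f (k + 1) i - seq c f k i).order := by
    intro i k
    refine le_trans ?_ (seq_diff c f hdet m hm hf k i)
    exact_mod_cast (by omega : k ≤ m + k)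
  choose z hz using fun i => exists_limit (fun t => seq c f t i) (hy i)
  refine ⟨z, fun i => ?_, ?_⟩
  · have : z i = (z i - seq c f m i) + seq c f m i := by ring
    rw [this]
    exact le_trans (le_min (hz i m) ((seq_spec c f hdet m hm hf m).1 i)) min_order_le_add
  · have key : f - Qv c ((fun i => X i) + z) = 0 := by
      apply eq_zero_of_forall_le_order
      intro k
      obtain ⟨-, h2⟩ := seq_spec c f hdet m hm hf k
      have e1 : (fun i => X i) + z = ((fun i => X i) + seq c f k) + (z - seq c f k) := by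
        abel
      have e2 : f - Qv c ((fun i => X i) + z) =
          (f - Qv c ((fun i => X i) + seq c f k))
            - Bv c ((fun i => X i) + seq c f k) (z - seq c f k) - Qv c (z - seq c f k) := by
        rw [e1, Qv_add]
        ring
      rw [e2]
      have hzk : ∀ i, (k : ℕ∞) ≤ ((z - seq c f k) i).order := fun i => hz i k
      refine le_trans (le_min (le_trans (le_min ?_ ?_) (order_sub_ge _ _)) ?_) (order_sub_ge _ _)
      · refine le_trans ?_ h2
        exact_mod_cast (by omega : k ≤ m + 1 + k)
      · have := le_order_Bv c ((fun i => X i) + seq c f k) (z - seq c f k) 0 k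
          (fun _ => zero_le) hzk
        rwa [zero_add] at this
      · exact le_trans le_self_add (le_order_Qv c (z - seq c f k) k hzk)
    exact sub_eq_zero.1 key

end Core

section Subst

variable {R : Type u} [CommRing R] {n : ℕ} (c : Fin n → Fin n → R)

theorem subst_Qv {a : Fin n → MvPowerSeries (Fin n) R} (ha : HasSubst a)
    (v : Fin n → MvPowerSeries (Fin n) R) :
    subst a (Qv c v) = Qv c (fun i => subst a (v i)) := by
  unfold Qv
  rw [← coe_substAlgHom ha]
  simp only [map_sum, map_mul]
  simp only [coe_substAlgHom ha, subst_C]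

theorem constantCoeff_of_le_order {p : MvPowerSeries (Fin n) R} {m : ℕ} (hm : 1 ≤ m)
    (h : (m : ℕ∞) ≤ p.order) : constantCoeff p = 0 := by
  rw [← one_le_order_iff_constCoeff_eq_zero]
  refine le_trans ?_ h
  exact_mod_cast hm

/-- The inverse of a substitution automorphism `x ↦ x + ε` (with `ord ε ≥ m ≥ 2`) is again a
substitution `x ↦ x + h` with `ord h ≥ m`. -/
theorem exists_inverse_subst (m : ℕ) (hm : 2 ≤ m) (ε : Fin n → MvPowerSeries (Fin n) R)
    (hε : ∀ i, (m : ℕ∞) ≤ (ε i).order) :
    ∃ h : Fin n → MvPowerSeries (Fin n) R, (∀ i, (m : ℕ∞) ≤ (h i).order) ∧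
      HasSubst (fun i => X i + h i) ∧ HasSubst (fun i => X i + ε i) ∧
      (∀ p : MvPowerSeries (Fin n) R,
        subst (fun i => X i + h i) (subst (fun i => X i + ε i) p) = p) ∧
      ∃ Φ : MvPowerSeries (Fin n) R ≃ₐ[R] MvPowerSeries (Fin n) R,
        ∀ p, Φ p = subst (fun i => X i + ε i) p := by
  set fε : Fin n → MvPowerSeries (Fin n) R := fun i => X i + ε i with hfε
  have hf0 : ∀ i, constantCoeff (fε i) = 0 := by
    intro i
    simp only [hfε, map_add, constantCoeff_X, zero_add]
    exact constantCoeff_of_le_order (by omega) (hε i)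
  have hsub : ∀ i, fε i - X i = ε i := fun i => by simp [hfε]
  have hf1 : ∀ i, 2 ≤ (fε i - X i).order := by
    intro i
    rw [hsub]
    refine le_trans ?_ (hε i)
    exact_mod_cast hm
  have hf1' : ∀ i, ((m - 1 + 1 : ℕ) : ℕ∞) ≤ (fε i - X i).order := by
    intro i
    rw [hsub, show m - 1 + 1 = m by omega]
    exact hε i
  have ha : HasSubst fε := hasSubst_of_constantCoeff_zero hf0
  set Φ := substEquiv fε hf0 hf1 with hΦ
  have hΦa : ∀ p, Φ p = subst fε p := fun p => substEquiv_apply fε hf0 hf1 p
  set g : Fin n → MvPowerSeries (Fin n) R := fun i => Φ.symm (X i) with hg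
  have hΦg : ∀ i, subst fε (g i) = X i := by
    intro i
    rw [← hΦa, hg]
    exact Φ.apply_symm_apply _
  have hg0 : ∀ i, constantCoeff (g i) = 0 := by
    intro i
    have h1 := order_subst_sub fε hf0 hf1 (g i)
    have h2 : constantCoeff (subst fε (g i) - g i) = 0 := by
      rw [← one_le_order_iff_constCoeff_eq_zero]
      exact le_trans le_add_self h1
    rw [hΦg, map_sub, constantCoeff_X, zero_sub, neg_eq_zero] at h2
    exact h2
  have hb : HasSubst g := hasSubst_of_constantCoeff_zero hg0
  have hgord : ∀ i, (m : ℕ∞) ≤ (g i - X i).order := by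
    intro i
    have h1 := order_subst_sub_gap fε (m - 1) hf0 hf1' (g i)
    rw [hΦg] at h1
    have h2 : (1 : ℕ∞) ≤ (g i).order := by
      rw [one_le_order_iff_constCoeff_eq_zero]
      exact hg0 i
    have h3 : (g i - X i).order = (X i - g i).order := by
      rw [← order_neg, neg_sub]
    rw [h3]
    refine le_trans ?_ (le_trans (add_le_add h2 le_rfl) h1)
    exact_mod_cast (by omega : m ≤ 1 + (m - 1))
  have hgf : ∀ s, subst g (fε s) = X s := by
    intro s
    apply Φ.injective
    rw [hΦa, hΦa, subst_comp_subst_apply hb ha, subst_X ha]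
    have : (fun j => subst fε (g j)) = (X : Fin n → MvPowerSeries (Fin n) R) := funext hΦg
    rw [this, subst_self]
    rfl
  have hXg : (fun i => X i + (g i - X i)) = g := by
    funext i
    ring
  refine ⟨fun i => g i - X i, hgord, ?_, ha, ?_, Φ, hΦa⟩
  · rw [hXg]
    exact hb
  · intro p
    rw [hXg, subst_comp_subst_apply ha hb]
    have : (fun s => subst g (fε s)) = (X : Fin n → MvPowerSeries (Fin n) R) := funext hgf
    rw [this, subst_self]
    rfl

end Subst

section S16230

variable {A : Type u} [CommRing A] {n : ℕ}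

/-- A triangular coefficient table as a full table. -/
def tri (q : Fin n → Fin n → A) : Fin n → Fin n → A := fun i j => if i ≤ j then q i j else 0

theorem polar_tri (q : Fin n → Fin n → A) :
    (Matrix.of fun i j => tri q i j + tri q j i) = VanCyc.polarMatrix q := by
  ext i j
  simp only [Matrix.of_apply, tri, VanCyc.polarMatrix]
  rcases lt_trichotomy i j with h | h | h
  · rw [if_pos h.le, if_neg (not_le.2 h), if_neg h.ne, if_pos h, add_zero]
  · subst h
    simp [two_mul]
  · rw [if_neg (not_le.2 h), if_pos h.le, if_neg h.ne', if_neg (not_lt.2 h.le), zero_add]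

theorem coe_quadPoly (q : Fin n → Fin n → A) :
    ((VanCyc.quadPoly q : MvPolynomial (Fin n) A) : MvPowerSeries (Fin n) A) =
      Qv (tri q) (fun i => X i) := by
  unfold VanCyc.quadPoly Qv tri
  rw [← MvPolynomial.coeToMvPowerSeries.ringHom_apply]
  simp only [map_sum]
  refine Finset.sum_congr rfl fun i _ => Finset.sum_congr rfl fun j _ => ?_
  split_ifs
  · simp only [map_mul, MvPolynomial.coeToMvPowerSeries.ringHom_apply, MvPolynomial.coe_C,
      MvPolynomial.coe_X]
  · simp

theorem main_S16230 (n m : ℕ) (hm : 2 ≤ m)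
    (q : Fin n → Fin n → A) (hq : VanCyc.QuadNondeg q) (a : A)
    (F : MvPowerSeries (Fin n) A)
    (hF : ∀ e : Fin n →₀ ℕ, e.degree ≤ m →
      MvPowerSeries.coeff e F = MvPowerSeries.coeff e
        ((VanCyc.quadPoly q + MvPolynomial.C a : MvPolynomial (Fin n) A) :
          MvPowerSeries (Fin n) A)) :
    ∃ h : Fin n → MvPowerSeries (Fin n) A,
      (∀ (i : Fin n) (e : Fin n →₀ ℕ), e.degree < m → MvPowerSeries.coeff e (h i) = 0) ∧
      MvPowerSeries.HasSubst (fun i => MvPowerSeries.X i + h i) ∧
      MvPowerSeries.subst (fun i => MvPowerSeries.X i + h i) F =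
        ((VanCyc.quadPoly q + MvPolynomial.C a : MvPolynomial (Fin n) A) :
          MvPowerSeries (Fin n) A) ∧
      Nonempty ((MvPowerSeries (Fin n) A ⧸ Ideal.span {F}) ≃ₐ[A]
        (MvPowerSeries (Fin n) A ⧸ Ideal.span
          {((VanCyc.quadPoly q + MvPolynomial.C a : MvPolynomial (Fin n) A) :
            MvPowerSeries (Fin n) A)})) := by
  set G : MvPowerSeries (Fin n) A :=
    ((VanCyc.quadPoly q + MvPolynomial.C a : MvPolynomial (Fin n) A) :
      MvPowerSeries (Fin n) A) with hGdef
  have hG : G = Qv (tri q) (fun i => X i) + C a := by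
    rw [hGdef, MvPolynomial.coe_add, MvPolynomial.coe_C, coe_quadPoly]
  have hdet : IsUnit (Matrix.of fun i j => tri q i j + tri q j i).det := by
    rw [polar_tri]
    exact hq
  have hord : ((m + 1 : ℕ) : ℕ∞) ≤ ((F - C a) - Qv (tri q) (fun i => X i)).order := by
    apply nat_le_order
    intro e he
    have := hF e (by omega)
    rw [hG] at this
    rw [sub_sub, add_comm, map_sub, this, sub_self]
  obtain ⟨ε, hε, hFε⟩ := morse_core (tri q) (F - C a) hdet m hm hord
  obtain ⟨h, hh, hsh, hsε, hinv, Φ, hΦ⟩ := exists_inverse_subst m hm ε hε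
  have hΦG : subst (fun i => X i + ε i) G = F := by
    rw [hG, subst_add hsε, subst_Qv (tri q) hsε, subst_C]
    simp only [subst_X hsε]
    rw [← hFε]
    ring
  have hGF : subst (fun i => X i + h i) F = G := by
    rw [← hΦG]
    exact hinv G
  refine ⟨h, fun i e he => ?_, hsh, hGF, ⟨?_⟩⟩
  · apply coeff_of_lt_order
    exact lt_of_lt_of_le (by exact_mod_cast he) (hh i)
  · refine Ideal.quotientEquivAlg (Ideal.span {F}) (Ideal.span {G}) Φ.symm ?_
    rw [Ideal.map_span, Set.image_singleton]
    congr 2
    have : Φ G = F := by rw [hΦ]; exact hΦG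
    rw [← this]
    exact (Φ.symm_apply_apply G).symm

end S16230


section S3206

variable {R : Type u} [CommRing R] {n : ℕ} (c : Fin n → Fin n → R)

theorem pderiv_Qv_X (i : Fin n) :
    pderiv R i (Qv c (fun i => X i)) = ∑ l, C (c i l + c l i) * X l := by
  classical
  unfold Qv
  simp only [map_sum, Derivation.leibniz, pderiv_C, pderiv_X, smul_eq_mul, Pi.single_apply,
    mul_ite, mul_one, mul_zero, add_zero, Finset.sum_add_distrib]
  rw [Finset.sum_comm (f := fun x x_1 => if x = i then X x_1 * C (c x x_1) else 0)]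
  simp only [Finset.sum_ite_eq', Finset.mem_univ, if_true, ← Finset.sum_add_distrib]
  refine Finset.sum_congr rfl fun l _ => ?_
  rw [map_add]
  ring

theorem linear_coeff_mul (p q : MvPowerSeries (Fin n) R) (hq : constantCoeff q = 0) (l : Fin n) :
    coeff (Finsupp.single l 1) (p * q) = constantCoeff p * coeff (Finsupp.single l 1) q := by
  have hp : p = C (constantCoeff p) + (p - C (constantCoeff p)) := by ring
  have h0 : constantCoeff (p - C (constantCoeff p)) = 0 := by simp
  conv_lhs => rw [hp, add_mul, map_add, coeff_C_mul]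
  rw [add_eq_left]
  apply coeff_of_lt_order
  rw [Finsupp.degree_single]
  have h1 := le_order_mul' (one_le_order_iff_constCoeff_eq_zero.2 h0)
    (one_le_order_iff_constCoeff_eq_zero.2 hq)
  refine lt_of_lt_of_le ?_ h1
  norm_num

theorem main_S3206 (k : Type u) [Field k] (n : ℕ) (f : MvPowerSeries (Fin n) k)
    (hf0 : MvPowerSeries.constantCoeff f = 0)
    (hJ : Ideal.span (Set.range fun i : Fin n => MvPowerSeries.pderiv k i f) =
      IsLocalRing.maximalIdeal (MvPowerSeries (Fin n) k)) :
    ∃ (ε : Fin n → MvPowerSeries (Fin n) k)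
      (_ : ∀ i (m : Fin n →₀ ℕ), m.degree < 2 → MvPowerSeries.coeff m (ε i) = 0)
      (q : MvPolynomial (Fin n) k) (_ : q.IsHomogeneous 2)
      (_ : MvPowerSeries.HasSubst (fun i : Fin n => MvPowerSeries.X i + ε i)),
      f = MvPowerSeries.subst (fun i : Fin n => MvPowerSeries.X i + ε i)
        (q : MvPowerSeries (Fin n) k) := by
  classical
  -- Step A: no linear terms
  have hpd0 : ∀ i, constantCoeff (pderiv k i f) = 0 := by
    intro i
    have hmem : pderiv k i f ∈ IsLocalRing.maximalIdeal (MvPowerSeries (Fin n) k) := by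
      rw [← hJ]
      exact Ideal.subset_span ⟨i, rfl⟩
    rw [IsLocalRing.mem_maximalIdeal, mem_nonunits_iff, MvPowerSeries.isUnit_iff_constantCoeff,
      isUnit_iff_ne_zero, not_not] at hmem
    exact hmem
  have hlin : ∀ i, coeff (Finsupp.single i 1) f = 0 := by
    intro i
    have := hpd0 i
    rw [← coeff_zero_eq_constantCoeff_apply, coeff_pderiv] at this
    simpa using this
  -- Step B: the quadratic part
  have h1 : ∀ i, constantCoeff (quo i f) = 0 := fun i => by rw [constantCoeff_quo]; exact hlin i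
  set c : Fin n → Fin n → k := fun i j => constantCoeff (quo j (quo i f)) with hc
  set r := f - Qv c (fun i => X i) with hr
  have hre : r = ∑ i, ∑ j, X i * (X j * (quo j (quo i f) - C (c i j))) := by
    rw [hr]
    conv_lhs => rw [← sum_X_mul_quo f hf0]
    unfold Qv
    rw [← Finset.sum_sub_distrib]
    refine Finset.sum_congr rfl fun i _ => ?_
    conv_lhs => rw [← sum_X_mul_quo (quo i f) (h1 i)]
    rw [Finset.mul_sum, ← Finset.sum_sub_distrib]
    refine Finset.sum_congr rfl fun j _ => ?_
    ring
  have hord : ((2 + 1 : ℕ) : ℕ∞) ≤ r.order := by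
    rw [hre]
    refine le_order_sum _ _ _ fun i _ => le_order_sum _ _ _ fun j _ => ?_
    have h3 : (1 : ℕ∞) ≤ (quo j (quo i f) - C (c i j)).order := by
      rw [one_le_order_iff_constCoeff_eq_zero]
      simp [hc]
    have := le_order_mul' (one_le_order_X (R := k) i) (le_order_mul' (one_le_order_X (R := k) j) h3)
    refine le_trans (le_of_eq ?_) this
    norm_num
  -- Step C: the polar matrix is invertible
  have hfr : f = Qv c (fun i => X i) + r := by rw [hr]; ring
  have hpdl : ∀ i l : Fin n, coeff (Finsupp.single l 1) (pderiv k i f) = c i l + c l i := by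
    intro i l
    rw [hfr, map_add, pderiv_Qv_X, map_add, map_sum]
    have h2 : coeff (Finsupp.single l 1) (pderiv k i r) = 0 := by
      rw [coeff_pderiv]
      have : coeff (Finsupp.single l 1 + Finsupp.single i 1) r = 0 := by
        apply coeff_of_lt_order
        refine lt_of_lt_of_le ?_ hord
        rw [map_add, Finsupp.degree_single, Finsupp.degree_single]
        norm_num
      rw [this, zero_mul]
    rw [h2, add_zero]
    simp only [coeff_C_mul, coeff_X, Finsupp.single_left_inj (one_ne_zero : (1 : ℕ) ≠ 0)]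
    simp
  have hXmem : ∀ j : Fin n, (X j : MvPowerSeries (Fin n) k) ∈
      Ideal.span (Set.range fun i : Fin n => pderiv k i f) := by
    intro j
    rw [hJ, IsLocalRing.mem_maximalIdeal, mem_nonunits_iff, MvPowerSeries.isUnit_iff_constantCoeff]
    simp
  have hG : ∀ j : Fin n, ∃ g : Fin n → MvPowerSeries (Fin n) k,
      ∑ i, g i * pderiv k i f = X j := fun j =>
    (Ideal.mem_span_range_iff_exists_fun).1 (hXmem j)
  choose G hG using hG
  have hdet : IsUnit (Matrix.of fun i j => c i j + c j i).det := by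
    apply Matrix.isUnit_det_of_left_inverse (B := Matrix.of fun j i => constantCoeff (G j i))
    ext j l
    have := congrArg (coeff (Finsupp.single l 1)) (hG j)
    rw [map_sum] at this
    simp only [linear_coeff_mul _ _ (hpd0 _), hpdl] at this
    rw [Matrix.mul_apply]
    simp only [Matrix.of_apply]
    rw [this, coeff_X, Matrix.one_apply]
    simp only [Finsupp.single_left_inj (one_ne_zero : (1 : ℕ) ≠ 0), eq_comm]
  -- Step D
  obtain ⟨ε, hε, hfε⟩ := morse_core c f hdet 2 le_rfl hord
  have hε0 : ∀ i, constantCoeff (X i + ε i) = 0 := by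
    intro i
    rw [map_add, constantCoeff_X, zero_add]
    exact constantCoeff_of_le_order (by norm_num) (hε i)
  have hs : HasSubst (fun i : Fin n => X i + ε i) := hasSubst_of_constantCoeff_zero hε0
  refine ⟨ε, fun i m hm => ?_,
    ∑ i, ∑ j, MvPolynomial.C (c i j) * MvPolynomial.X i * MvPolynomial.X j, ?_, hs, ?_⟩
  · apply coeff_of_lt_order
    exact lt_of_lt_of_le (by exact_mod_cast hm) (hε i)
  · refine MvPolynomial.IsHomogeneous.sum _ _ _ fun i _ =>
      MvPolynomial.IsHomogeneous.sum _ _ _ fun j _ => ?_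
    exact ((MvPolynomial.isHomogeneous_C _ _).mul (MvPolynomial.isHomogeneous_X _ i)).mul
      (MvPolynomial.isHomogeneous_X _ j)
  · have hC : ∀ a : k, algebraMap k (MvPowerSeries (Fin n) k) a = C a := fun a => by
      rw [MvPowerSeries.algebraMap_apply]
      rfl
    rw [subst_coe, hfε]
    unfold Qv
    simp only [map_sum, map_mul, MvPolynomial.aeval_C, MvPolynomial.aeval_X, hC]

end S3206

end Groth.Agent.Lib.Helper24Morse
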