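import Groth.Agent.Lib.Helper19MorseTranslC
import Groth.Agent.Lib.Helper19MorseTranslD
import Groth.Agent.Lib.Helper19NewtonVec
import Groth.Agent.Lib.Helper24Morse

/-!
# Critical points of power series over complete local rings (Newton iteration)
-/

set_option autoImplicit false
universe u

open MvPowerSeries IsLocalRing Finsupp

namespace Groth.Agent.Lib.Helper19.MorseTransl

section Critical

variable {A : Type u} [CommRing A] [IsLocalRing A] [IsAdicComplete (maximalIdeal A) A] {n : ℕ}

theorem isUnit_det_hess_transl (F : MvPowerSeries (Fin n) A) (hdet : IsUnit (hess F).det)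
    (c : Fin n → A) (hc : ∀ s, c s ∈ maximalIdeal A) : IsUnit (hess (transl c F)).det := by
  have h0 : ∀ s : Fin n, (0 : Fin n → A) s ∈ maximalIdeal A := fun s => Ideal.zero_mem _
  have hent : ∀ i s, Ideal.Quotient.mk (maximalIdeal A) (hess (transl c F) i s) =
      Ideal.Quotient.mk (maximalIdeal A) (hess F i s) := by
    intro i s
    have h1 := coeff_transl_sub_mem 1 c 0 hc h0 (fun s => by
      rw [pow_one, Pi.zero_apply, sub_zero]; exact hc s) F (single i 1 + single s 1)
    rw [transl_zero, AlgHom.id_apply, pow_one] at h1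
    unfold hess
    rw [map_mul, map_mul, Ideal.Quotient.eq.2 h1]
  have hmap : (hess (transl c F)).map (Ideal.Quotient.mk (maximalIdeal A)) =
      (hess F).map (Ideal.Quotient.mk (maximalIdeal A)) := by
    ext i s
    exact hent i s
  have hdet2 : Ideal.Quotient.mk (maximalIdeal A) (hess (transl c F)).det =
      Ideal.Quotient.mk (maximalIdeal A) (hess F).det := by
    rw [RingHom.map_det, RingHom.map_det, RingHom.mapMatrix_apply, RingHom.mapMatrix_apply, hmap]
  rw [Ideal.Quotient.eq] at hdet2
  by_contra hnu
  have h2 : (hess (transl c F)).det ∈ maximalIdeal A := (mem_maximalIdeal _).2 hnu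
  have h3 : (hess F).det ∈ maximalIdeal A := by
    have := Ideal.sub_mem _ h2 hdet2
    rwa [sub_sub_cancel] at this
  exact (mem_maximalIdeal _).1 h3 hdet

theorem exists_critical (F : MvPowerSeries (Fin n) A)
    (hlin : ∀ i, coeff (single i 1) F ∈ maximalIdeal A) (hdet : IsUnit (hess F).det) :
    ∃ c : Fin n → A, (∀ s, c s ∈ maximalIdeal A) ∧
      ∀ i, coeff (single i 1) (transl c F) = 0 := by
  obtain ⟨c, hc, hL⟩ := Groth.Agent.Lib.Helper19.NewtonVec.exists_zero (maximalIdeal A)
    (fun c i => coeff (single i 1) (transl c F)) (fun c => hess (transl c F))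
    (fun c hc => isUnit_det_hess_transl F hdet c hc)
    (fun k c d hk hc hd i => linCoeff_transl_add k hk c d hc hd F i)
    0 (fun s => Ideal.zero_mem _)
    (fun i => by
      show coeff (single i 1) (transl 0 F) ∈ maximalIdeal A
      rw [transl_zero, AlgHom.id_apply]; exact hlin i)
  exact ⟨c, hc, fun i => congrFun hL i⟩

end Critical

end Groth.Agent.Lib.Helper19.MorseTransl
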