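import Groth.Agent.Lib.Helper19MorseTranslE

/-!
# The formal Morse lemma with linear terms over a complete local ring

Translate to the critical point (found by Newton iteration), then apply helper24's Morse lemma.
-/

set_option autoImplicit false
universe u

open MvPowerSeries IsLocalRing Finsupp

namespace Groth.Agent.Lib.Helper19.MorseTransl

section Main

variable {A : Type u} [CommRing A] [IsLocalRing A] [IsAdicComplete (maximalIdeal A) A] {n : ℕ}

omit [IsLocalRing A] [IsAdicComplete (maximalIdeal A) A] in
theorem polarMatrix_quadPart (G : MvPowerSeries (Fin n) A) :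
    VanCyc.polarMatrix (VanCyc.quadPart G) = hess G := by
  ext i j
  unfold VanCyc.polarMatrix VanCyc.quadPart hess
  rcases lt_trichotomy i j with h | h | h
  · rw [if_neg h.ne, if_pos h, if_neg h.ne, if_pos h, Finsupp.single_apply, if_neg h.ne]
    simp
  · subst h
    rw [if_pos rfl, if_pos rfl, Finsupp.single_apply, if_pos rfl, ← Finsupp.single_add]
    norm_num
    ring
  · rw [if_neg h.ne', if_neg (not_lt.2 h.le), if_neg h.ne, if_pos h, Finsupp.single_apply,
      if_neg h.ne', add_comm (single i 1)]
    simp

omit [IsLocalRing A] [IsAdicComplete (maximalIdeal A) A] in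
theorem coeff_eq_of_low (G : MvPowerSeries (Fin n) A)
    (hlin : ∀ i, coeff (single i 1) G = 0) (e : Fin n →₀ ℕ) (he : degree e ≤ 2) :
    coeff e G = coeff e ((VanCyc.quadPoly (VanCyc.quadPart G) + MvPolynomial.C (constantCoeff G) :
      MvPolynomial (Fin n) A) : MvPowerSeries (Fin n) A) := by
  rw [MvPolynomial.coeff_coe, MvPolynomial.coeff_add]
  rcases degree_le_two_cases e he with rfl | ⟨i, rfl⟩ | ⟨i, j, hij, rfl⟩
  · rw [coeff_quadPoly_of_degree_ne _ _ (by simp), zero_add, MvPolynomial.coeff_C, if_pos rfl,
      coeff_zero_eq_constantCoeff_apply]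
  · rw [coeff_quadPoly_of_degree_ne _ _ (by rw [Finsupp.degree_single]; omega), zero_add,
      MvPolynomial.coeff_C, if_neg, hlin i]
    intro h
    have := congrArg (fun f => f i) h
    simp at this
  · rw [coeff_quadPoly_pair _ hij, MvPolynomial.coeff_C, if_neg, add_zero]
    · unfold VanCyc.quadPart
      rcases eq_or_lt_of_le hij with h | h
      · subst h
        rw [if_pos rfl, ← Finsupp.single_add]
      · rw [if_neg h.ne, if_pos h]
    · intro h
      have := congrArg (fun f => f i) h
      simp only [Finsupp.coe_zero, Pi.zero_apply, Finsupp.coe_add, Pi.add_apply,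
        Finsupp.single_eq_same] at this
      omega

theorem main (q : Fin n → Fin n → A) (hq : VanCyc.QuadNondeg q)
    (a : A) (ha : a ∈ maximalIdeal A) (ℓ : Fin n → A) (hℓ : ∀ i, ℓ i ∈ maximalIdeal A)
    (F : MvPowerSeries (Fin n) A)
    (hF : ∀ e : Fin n →₀ ℕ, e.degree ≤ 2 →
      MvPowerSeries.coeff e F = MvPowerSeries.coeff e ((VanCyc.quadPoly q +
        ∑ i, MvPolynomial.C (ℓ i) * MvPolynomial.X i + MvPolynomial.C a :
          MvPolynomial (Fin n) A) : MvPowerSeries (Fin n) A)) :
    ∃ (a' : A) (q' : Fin n → Fin n → A), a' ∈ maximalIdeal A ∧ VanCyc.QuadNondeg q' ∧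
      Nonempty ((MvPowerSeries (Fin n) A ⧸ Ideal.span {F}) ≃ₐ[A]
        (MvPowerSeries (Fin n) A ⧸ Ideal.span {((VanCyc.quadPoly q' + MvPolynomial.C a' :
          MvPolynomial (Fin n) A) : MvPowerSeries (Fin n) A)})) := by
  have hF0 : constantCoeff F = a := by
    have := hF 0 (by simp)
    rw [MvPolynomial.coeff_coe, MvPolynomial.coeff_add, MvPolynomial.coeff_add,
      coeff_quadPoly_of_degree_ne _ _ (by simp), coeff_lin_of_degree_ne _ _ (by simp),
      MvPolynomial.coeff_C, if_pos rfl, zero_add, zero_add] at this
    rwa [coeff_zero_eq_constantCoeff_apply] at this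
  have hF1 : ∀ i, coeff (single i 1) F = ℓ i := by
    intro i
    have := hF (single i 1) (by rw [Finsupp.degree_single]; omega)
    rw [MvPolynomial.coeff_coe, MvPolynomial.coeff_add, MvPolynomial.coeff_add,
      coeff_quadPoly_of_degree_ne _ _ (by rw [Finsupp.degree_single]; omega), coeff_lin_single,
      MvPolynomial.coeff_C, if_neg, zero_add, add_zero] at this
    · exact this
    · intro h
      have := congrArg (fun f => f i) h
      simp at this
  have hF2 : ∀ i j, i ≤ j → coeff (single i 1 + single j 1) F = q i j := by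
    intro i j hij
    have := hF (single i 1 + single j 1) (by
      rw [map_add, Finsupp.degree_single, Finsupp.degree_single])
    rw [MvPolynomial.coeff_coe, MvPolynomial.coeff_add, MvPolynomial.coeff_add,
      coeff_quadPoly_pair _ hij, coeff_lin_of_degree_ne _ _ (by
        rw [map_add, Finsupp.degree_single, Finsupp.degree_single]; omega),
      MvPolynomial.coeff_C, if_neg, add_zero, add_zero] at this
    · exact this
    · intro h
      have := congrArg (fun f => f i) h
      simp only [Finsupp.coe_zero, Pi.zero_apply, Finsupp.coe_add, Pi.add_apply,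
        Finsupp.single_eq_same] at this
      omega
  have hhess : hess F = VanCyc.polarMatrix q := by
    ext i j
    unfold hess VanCyc.polarMatrix
    rcases lt_trichotomy i j with h | h | h
    · rw [if_neg h.ne, if_pos h, hF2 i j h.le, Finsupp.single_apply, if_neg h.ne]
      simp
    · subst h
      rw [if_pos rfl, hF2 i i le_rfl, Finsupp.single_apply, if_pos rfl]
      norm_num
      ring
    · rw [if_neg h.ne', if_neg (not_lt.2 h.le), add_comm (single i 1), hF2 j i h.le,
        Finsupp.single_apply, if_neg h.ne']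
      simp
  have hdet : IsUnit (hess F).det := by rw [hhess]; exact hq
  obtain ⟨c, hc, hcrit⟩ := exists_critical F (fun i => by rw [hF1]; exact hℓ i) hdet
  have h0 : ∀ s : Fin n, (0 : Fin n → A) s ∈ maximalIdeal A := fun s => Ideal.zero_mem _
  have hnc : ∀ s : Fin n, (-c) s ∈ maximalIdeal A := fun s => by
    rw [Pi.neg_apply]; exact neg_mem (hc s)
  set G := transl c F with hG
  have ha' : constantCoeff G ∈ maximalIdeal A := by
    have h1 := coeff_transl_sub_mem 1 c 0 hc h0 (fun s => by
      rw [pow_one, Pi.zero_apply, sub_zero]; exact hc s) F 0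
    rw [transl_zero, AlgHom.id_apply, pow_one, coeff_zero_eq_constantCoeff_apply,
      coeff_zero_eq_constantCoeff_apply, hF0] at h1
    have : constantCoeff G = (constantCoeff (transl c F) - a) + a := by rw [hG]; ring
    rw [this]
    exact Ideal.add_mem _ h1 ha
  have hq' : VanCyc.QuadNondeg (VanCyc.quadPart G) := by
    unfold VanCyc.QuadNondeg
    rw [polarMatrix_quadPart]
    exact isUnit_det_hess_transl F hdet c hc
  obtain ⟨_, _, _, _, ⟨e2⟩⟩ := Groth.Agent.Lib.Helper24Morse.main_S16230 n 2 le_rfl
    (VanCyc.quadPart G) hq' (constantCoeff G) G (fun e he => coeff_eq_of_low G hcrit e he)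
  let Φ : MvPowerSeries (Fin n) A ≃ₐ[A] MvPowerSeries (Fin n) A :=
    AlgEquiv.ofAlgHom (transl c) (transl (-c))
      (by rw [transl_comp (-c) c hnc hc, neg_add_cancel, transl_zero])
      (by rw [transl_comp c (-c) hc hnc, add_neg_cancel, transl_zero])
  refine ⟨constantCoeff G, VanCyc.quadPart G, ha', hq',
    ⟨(Ideal.quotientEquivAlg (Ideal.span {F}) (Ideal.span {G}) Φ ?_).trans e2⟩⟩
  rw [Ideal.map_span, Set.image_singleton]
  rfl

end Main

end Groth.Agent.Lib.Helper19.MorseTransl
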