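import Mathlib

/-!
# The nilpotent cone: generic conjugates of triangular matrices
-/

set_option autoImplicit false
universe u

namespace Groth.Agent.Lib.Helper19NilpCone

open MvPolynomial Matrix

variable (k : Type u) [Field k] (n : ℕ)

/-- the coordinate ring of `n × n` matrices -/
abbrev A := MvPolynomial (Fin n × Fin n) k

/-- parameters: a generic matrix `g` and a generic triangular matrix `t` -/
abbrev D := MvPolynomial ((Fin n × Fin n) ⊕ (Fin n × Fin n)) k

/-- the generic matrix -/
noncomputable def G : Matrix (Fin n) (Fin n) (D k n) := Matrix.of fun a b => X (Sum.inl (a, b))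

/-- the generic upper triangular matrix whose first `j` diagonal entries vanish -/
noncomputable def T (j : ℕ) : Matrix (Fin n) (Fin n) (D k n) :=
  Matrix.of fun a b => if a < b then X (Sum.inr (a, b)) else
    if a = b ∧ j ≤ (a : ℕ) then X (Sum.inr (a, b)) else 0

noncomputable def gen (j : ℕ) : Matrix (Fin n) (Fin n) (D k n) :=
  G k n * T k n j * (G k n).adjugate

noncomputable def psi (j : ℕ) : A k n →ₐ[k] D k n := aeval (fun ab => gen k n j ab.1 ab.2)

lemma psi_matrix (j : ℕ) :
    (mvPolynomialX (Fin n) (Fin n) k).map (psi k n j) = gen k n j := by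
  ext a b
  simp [psi, mvPolynomialX]

/-- the coefficients of the universal characteristic polynomial -/
noncomputable def cc (i : ℕ) : A k n :=
  (Matrix.charpoly (mvPolynomialX (Fin n) (Fin n) k)).coeff i

lemma psi_cc (j i : ℕ) : psi k n j (cc k n i) = (gen k n j).charpoly.coeff i := by
  rw [← psi_matrix]
  have h := Matrix.charpoly_map (mvPolynomialX (Fin n) (Fin n) k) (psi k n j).toRingHom
  have h2 : (mvPolynomialX (Fin n) (Fin n) k).map (psi k n j) =
      (mvPolynomialX (Fin n) (Fin n) k).map (psi k n j).toRingHom := rfl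
  rw [h2, h, Polynomial.coeff_map]
  rfl

lemma gen_charpoly (j : ℕ) :
    (gen k n j).charpoly = ((G k n).det • T k n j).charpoly := by
  unfold gen
  rw [Matrix.mul_assoc, Matrix.charpoly_mul_comm, Matrix.mul_assoc, Matrix.adjugate_mul,
    Matrix.mul_smul, Matrix.mul_one]

lemma T_upper (j : ℕ) : (T k n j).IsUpperTriangular := by
  intro a b hab
  have hab' : b < a := hab
  simp only [T, Matrix.of_apply]
  rw [if_neg (not_lt.2 hab'.le), if_neg]
  rintro ⟨h1, -⟩
  exact absurd h1 hab'.ne'

lemma T_diag (j : ℕ) (a : Fin n) :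
    T k n j a a = if j ≤ (a : ℕ) then X (Sum.inr (a, a)) else 0 := by
  simp [T]

lemma smulT_charpoly (j : ℕ) :
    ((G k n).det • T k n j).charpoly = ∏ a : Fin n, (Polynomial.X - Polynomial.C
      ((G k n).det * (if j ≤ (a : ℕ) then X (Sum.inr (a, a)) else 0))) := by
  have hup : ((G k n).det • T k n j).IsUpperTriangular := by
    intro a b hab
    rw [Matrix.smul_apply, T_upper k n j hab, smul_zero]
  rw [Matrix.charpoly_of_isUpperTriangular _ hup]
  apply Finset.prod_congr rfl
  intro a _
  rw [Matrix.smul_apply, T_diag, smul_eq_mul]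

lemma charpoly_factor (j : ℕ) (hj : j ≤ n) :
    (gen k n j).charpoly = Polynomial.X ^ j *
      ∏ a ∈ Finset.univ.filter (fun a : Fin n => ¬ (a : ℕ) < j),
        (Polynomial.X - Polynomial.C ((G k n).det * X (Sum.inr (a, a)))) := by
  rw [gen_charpoly, smulT_charpoly,
    ← Finset.prod_filter_mul_prod_filter_not Finset.univ (fun a : Fin n => (a : ℕ) < j)]
  congr 1
  · have h1 : ∀ a ∈ Finset.univ.filter (fun a : Fin n => (a : ℕ) < j),
        (Polynomial.X - Polynomial.C
          ((G k n).det * (if j ≤ (a : ℕ) then X (Sum.inr (a, a)) else 0)) :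
            Polynomial (D k n)) = Polynomial.X := by
      intro a ha
      rw [Finset.mem_filter] at ha
      rw [if_neg (not_le.2 ha.2), mul_zero, map_zero, sub_zero]
    rw [Finset.prod_congr rfl h1, Finset.prod_const, Fin.card_filter_val_lt, min_eq_right hj]
  · apply Finset.prod_congr rfl
    intro a ha
    rw [Finset.mem_filter] at ha
    rw [if_pos (not_lt.1 ha.2)]

lemma det_G_ne_zero : (G k n).det ≠ 0 := by
  have h1 : G k n = (mvPolynomialX (Fin n) (Fin n) k).map
      (rename (Sum.inl : Fin n × Fin n → (Fin n × Fin n) ⊕ (Fin n × Fin n))) := by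
    ext a b
    simp [G, mvPolynomialX]
  have h2 : (G k n).det = rename (Sum.inl : Fin n × Fin n → (Fin n × Fin n) ⊕ (Fin n × Fin n))
      (mvPolynomialX (Fin n) (Fin n) k).det := by
    rw [h1]
    exact (AlgHom.map_det _ _).symm
  rw [h2]
  intro h0
  have := (rename_injective _ Sum.inl_injective) (h0.trans (map_zero _).symm)
  exact det_mvPolynomialX_ne_zero (Fin n) k this

lemma psi_cc_lt (j i : ℕ) (hj : j ≤ n) (hi : i < j) : psi k n j (cc k n i) = 0 := by
  rw [psi_cc, charpoly_factor k n j hj, Polynomial.coeff_X_pow_mul', if_neg (not_le.2 hi)]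

lemma psi_cc_ne (j : ℕ) (hj : j ≤ n) : psi k n j (cc k n j) ≠ 0 := by
  rw [psi_cc, charpoly_factor k n j hj, Polynomial.coeff_X_pow_mul', if_pos le_rfl, Nat.sub_self,
    Polynomial.coeff_zero_eq_eval_zero, Polynomial.eval_prod]
  rw [Finset.prod_ne_zero_iff]
  intro a _
  rw [Polynomial.eval_sub, Polynomial.eval_X, Polynomial.eval_C, zero_sub, neg_ne_zero]
  exact mul_ne_zero (det_G_ne_zero k n) (X_ne_zero _)

/-- killing the `j`-th diagonal variable -/
noncomputable def sigma (j : Fin n) : D k n →ₐ[k] D k n :=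
  aeval (fun v => if v = Sum.inr (j, j) then 0 else X v)

lemma sigma_G (j : Fin n) : (G k n).map (sigma k n j) = G k n := by
  ext a b
  simp [G, sigma]

lemma sigma_T (j : Fin n) : (T k n j).map (sigma k n j) = T k n (j + 1) := by
  ext a b
  simp only [Matrix.map_apply, T, Matrix.of_apply]
  by_cases hab : a < b
  · rw [if_pos hab, if_pos hab]
    simp only [sigma, aeval_X]
    rw [if_neg]
    intro h
    have h1 := Sum.inr_injective h
    simp only [Prod.mk.injEq] at h1
    rw [h1.1, h1.2] at hab
    exact lt_irrefl _ hab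
  · rw [if_neg hab, if_neg hab]
    by_cases h2 : a = b ∧ (j : ℕ) ≤ (a : ℕ)
    · rw [if_pos h2]
      obtain ⟨rfl, h3⟩ := h2
      by_cases h4 : a = j
      · subst h4
        rw [if_neg (by simp)]
        simp [sigma]
      · have h5 : (j : ℕ) + 1 ≤ (a : ℕ) := by
          have : (j : ℕ) ≠ (a : ℕ) := fun h => h4 (Fin.ext h.symm)
          omega
        rw [if_pos ⟨rfl, h5⟩]
        simp only [sigma, aeval_X]
        rw [if_neg]
        intro h
        have h1 := Sum.inr_injective h
        simp only [Prod.mk.injEq] at h1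
        exact h4 h1.1
    · rw [if_neg h2, if_neg, map_zero]
      rintro ⟨h3, h4⟩
      exact h2 ⟨h3, by omega⟩

lemma sigma_gen (j : Fin n) : (gen k n j).map (sigma k n j) = gen k n (j + 1) := by
  unfold gen
  have h := RingHom.map_adjugate (sigma k n j).toRingHom (G k n)
  have h1 : ∀ M N : Matrix (Fin n) (Fin n) (D k n),
      (M * N).map (sigma k n j) = M.map (sigma k n j) * N.map (sigma k n j) :=
    fun M N => Matrix.map_mul
  rw [h1, h1, sigma_G, sigma_T]
  congr 1
  have h2 : (G k n).adjugate.map (sigma k n j) =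
      (sigma k n j).toRingHom.mapMatrix (G k n).adjugate := rfl
  rw [h2, h, RingHom.mapMatrix_apply]
  congr 1
  exact sigma_G k n j

lemma sigma_comp_psi (j : Fin n) : (sigma k n j).comp (psi k n j) = psi k n (j + 1) := by
  apply MvPolynomial.algHom_ext
  intro ab
  simp only [AlgHom.comp_apply, psi, aeval_X]
  have := congrFun (congrFun (sigma_gen k n j) ab.1) ab.2
  rw [Matrix.map_apply] at this
  exact this

lemma ker_psi_le (j : Fin n) :
    RingHom.ker (psi k n j) ≤ RingHom.ker (psi k n (j + 1)) := by
  intro f hf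
  rw [RingHom.mem_ker] at hf ⊢
  rw [← sigma_comp_psi, AlgHom.comp_apply, hf, map_zero]

end Groth.Agent.Lib.Helper19NilpCone
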