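import Mathlib
import Groth.Agent.Lib.Helper19NilpConeA

/-!
# The nilpotent cone: triangularisation of nilpotent matrices and the Nullstellensatz step
-/

set_option autoImplicit false
universe u v

namespace Groth.Agent.Lib.Helper19NilpCone

open MvPolynomial Matrix

section Triang

variable {k : Type u} [Field k]

/-- a nilpotent endomorphism is strictly upper triangular in a suitable basis -/
lemma exists_basis_strictUpper : ∀ (m : ℕ) (V : Type v) [AddCommGroup V] [Module k V]
    [FiniteDimensional k V] (_ : Module.finrank k V = m) (N : V →ₗ[k] V) (_ : IsNilpotent N),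
    ∃ b : Module.Basis (Fin m) k V, ∀ j, N (b j) ∈ Submodule.span k (b '' {i | i < j}) := by
  intro m
  induction m with
  | zero =>
    intro V _ _ _ hV N _
    exact ⟨Module.finBasisOfFinrankEq k V hV, fun j => j.elim0⟩
  | succ m ih =>
    intro V _ _ _ hV N hN
    have hnt : Nontrivial V := Module.nontrivial_of_finrank_pos (R := k) (by omega)
    have hrange : LinearMap.range N < ⊤ := by
      rw [lt_top_iff_ne_top]
      intro htop
      obtain ⟨r, hr⟩ := hN
      have hsurj : Function.Surjective N := LinearMap.range_eq_top.1 htop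
      have hsurj' : Function.Surjective (N ^ r) := by
        rw [Module.End.coe_pow]
        exact hsurj.iterate r
      rw [hr] at hsurj'
      obtain ⟨x, hx⟩ := exists_ne (0 : V)
      obtain ⟨y, hy⟩ := hsurj' x
      exact hx (by rw [← hy]; rfl)
    obtain ⟨f, hf0, hfle⟩ := Submodule.exists_le_ker_of_lt_top _ hrange
    obtain ⟨v, hv⟩ : ∃ v, f v ≠ 0 := by
      by_contra h
      push Not at h
      exact hf0 (LinearMap.ext h)
    have hstab : ∀ x ∈ LinearMap.ker f, N x ∈ LinearMap.ker f :=
      fun x _ => hfle (LinearMap.mem_range_self N x)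
    have hfsurj : Function.Surjective f := fun c =>
      ⟨(c / f v) • v, by rw [map_smul, smul_eq_mul, div_mul_cancel₀ _ hv]⟩
    have hHrank : Module.finrank k (LinearMap.ker f) = m := by
      have := LinearMap.finrank_range_add_finrank_ker f
      rw [LinearMap.range_eq_top.2 hfsurj, finrank_top, Module.finrank_self, hV] at this
      omega
    have hNH : IsNilpotent (N.restrict hstab) := Module.End.isNilpotent.restrict hstab hN
    obtain ⟨b', hb'⟩ := ih (LinearMap.ker f) hHrank (N.restrict hstab) hNH
    have hli : ∀ (c : k), ∀ x ∈ LinearMap.ker f, c • v + x = 0 → c = 0 := by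
      intro c x hx hc
      have h1 := congrArg f hc
      rw [map_add, map_smul, LinearMap.mem_ker.1 hx, add_zero, map_zero, smul_eq_mul] at h1
      exact (mul_eq_zero.1 h1).resolve_right hv
    have hsp : ∀ z : V, ∃ c : k, z + c • v ∈ LinearMap.ker f := by
      intro z
      refine ⟨- (f z / f v), ?_⟩
      rw [LinearMap.mem_ker, map_add, map_smul, smul_eq_mul, neg_mul, div_mul_cancel₀ _ hv,
        add_neg_cancel]
    let b := Module.Basis.mkFinSnoc b' v hli hsp
    have hb : (b : Fin (m + 1) → V) = Fin.snoc ((↑) ∘ b') v := Module.Basis.coe_mkFinSnoc _ _ _ _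
    have hbc : ∀ l : Fin m, b (Fin.castSucc l) = (b' l : V) := by
      intro l
      rw [hb, Fin.snoc_castSucc]
      rfl
    have hbl : b (Fin.last m) = v := by
      rw [hb, Fin.snoc_last]
    refine ⟨b, ?_⟩
    intro j
    refine Fin.lastCases ?_ (fun i => ?_) j
    · rw [hbl]
      have h1 : N v ∈ LinearMap.ker f := hfle (LinearMap.mem_range_self N v)
      have h2 : (⟨N v, h1⟩ : LinearMap.ker f) ∈ Submodule.span k (Set.range b') := by
        rw [b'.span_eq]
        exact Submodule.mem_top
      have h3 := Submodule.apply_mem_span_image_of_mem_span (LinearMap.ker f).subtype h2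
      refine Submodule.span_mono ?_ h3
      rintro _ ⟨_, ⟨l, rfl⟩, rfl⟩
      exact ⟨Fin.castSucc l, Fin.castSucc_lt_last l, hbc l⟩
    · rw [hbc]
      have h2 := hb' i
      have h3 := Submodule.apply_mem_span_image_of_mem_span (LinearMap.ker f).subtype h2
      refine Submodule.span_mono ?_ h3
      rintro _ ⟨_, ⟨l, hl, rfl⟩, rfl⟩
      exact ⟨Fin.castSucc l, Fin.castSucc_lt_castSucc_iff.2 hl, hbc l⟩

/-- a nilpotent matrix is conjugate to a strictly upper triangular one -/
lemma exists_conj_strictUpper (n : ℕ) (M : Matrix (Fin n) (Fin n) k) (hM : IsNilpotent M) :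
    ∃ (P L : Matrix (Fin n) (Fin n) k), P.det ≠ 0 ∧ (∀ a b, b ≤ a → L a b = 0) ∧
      M * P = P * L := by
  have hN : IsNilpotent (Matrix.toLin' M) := by
    obtain ⟨r, hr⟩ := hM
    refine ⟨r, ?_⟩
    have h1 : (Matrix.toLinAlgEquiv' (R := k) (n := Fin n) M) ^ r =
        Matrix.toLinAlgEquiv' (M ^ r) := (map_pow _ _ _).symm
    rw [hr, map_zero] at h1
    exact h1
  obtain ⟨b, hb⟩ := exists_basis_strictUpper n (Fin n → k) (Module.finrank_fin_fun k)
    (Matrix.toLin' M) hN
  refine ⟨Matrix.of fun a j => b j a, LinearMap.toMatrix b b (Matrix.toLin' M), ?_, ?_, ?_⟩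
  · have h1 : (Matrix.of fun a j => b j a) = (Pi.basisFun k (Fin n)).toMatrix b := by
      ext a j
      rw [Matrix.of_apply, Module.Basis.toMatrix_apply, Pi.basisFun_repr]
    rw [h1, ← Module.Basis.det_apply]
    exact (Module.Basis.isUnit_det (Pi.basisFun k (Fin n)) b).ne_zero
  · intro a c hca
    rw [LinearMap.toMatrix_apply]
    have h1 := (Module.Basis.mem_span_image b).1 (hb c)
    by_contra hne
    have h2 : a ∈ (b.repr (Matrix.toLin' M (b c))).support := Finsupp.mem_support_iff.2 hne
    have h3 : a < c := h1 h2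
    exact absurd hca (not_le.2 h3)
  · ext a j
    rw [Matrix.mul_apply, Matrix.mul_apply]
    have h1 : ∑ c, M a c * (Matrix.of fun a j => b j a) c j = (Matrix.toLin' M (b j)) a := by
      rw [Matrix.toLin'_apply, Matrix.mulVec, dotProduct]
      rfl
    have h2 : ∑ i, (Matrix.of fun a j => b j a) a i *
        (LinearMap.toMatrix b b (Matrix.toLin' M)) i j = (Matrix.toLin' M (b j)) a := by
      conv_rhs => rw [← b.sum_repr (Matrix.toLin' M (b j))]
      rw [Finset.sum_apply]
      apply Finset.sum_congr rfl
      intro i _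
      rw [LinearMap.toMatrix_apply, Pi.smul_apply, smul_eq_mul, Matrix.of_apply, mul_comm]
    rw [h1, h2]

end Triang

section Eval

variable (k : Type u) [Field k] (n : ℕ)

/-- every nilpotent matrix is a value of the generic conjugate of a strictly triangular matrix -/
lemma eval_eq_zero_of_nilpotent (f : A k n) (hf : f ∈ RingHom.ker (psi k n n))
    (M : Matrix (Fin n) (Fin n) k) (hM : IsNilpotent M) :
    aeval (fun ab : Fin n × Fin n => M ab.1 ab.2) f = 0 := by
  obtain ⟨P, L, hP, hL, hML⟩ := exists_conj_strictUpper n M hM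
  set L' : Matrix (Fin n) (Fin n) k := (P.det)⁻¹ • L with hL'
  have hM' : M = P * L' * P.adjugate := by
    rw [hL', Matrix.mul_smul, Matrix.smul_mul, ← hML, Matrix.mul_assoc, Matrix.mul_adjugate,
      Matrix.mul_smul, Matrix.mul_one, smul_smul, inv_mul_cancel₀ hP, one_smul]
  let pt : D k n →ₐ[k] k :=
    aeval (Sum.elim (fun ab : Fin n × Fin n => P ab.1 ab.2) (fun ab => L' ab.1 ab.2))
  have hG : (G k n).map pt = P := by
    ext a b
    simp [G, pt]
  have hT : (T k n n).map pt = L' := by
    ext a b
    simp only [Matrix.map_apply, T, Matrix.of_apply]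
    by_cases hab : a < b
    · rw [if_pos hab]
      simp [pt]
    · rw [if_neg hab, if_neg, map_zero, hL', Matrix.smul_apply, hL a b (not_lt.1 hab), smul_zero]
      rintro ⟨-, h2⟩
      exact absurd a.2 (not_lt.2 h2)
  have hgen : (gen k n n).map pt = M := by
    unfold gen
    have h1 : ∀ X Y : Matrix (Fin n) (Fin n) (D k n),
        (X * Y).map pt = X.map pt * Y.map pt := fun X Y => Matrix.map_mul
    have h2 : (G k n).adjugate.map pt = ((G k n).map pt).adjugate := by
      have := RingHom.map_adjugate pt.toRingHom (G k n)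
      exact this
    rw [h1, h1, h2, hG, hT, hM']
  have hcomp : pt.comp (psi k n n) = aeval (fun ab : Fin n × Fin n => M ab.1 ab.2) := by
    apply MvPolynomial.algHom_ext
    intro ab
    simp only [AlgHom.comp_apply, psi, aeval_X]
    have := congrFun (congrFun hgen ab.1) ab.2
    rw [Matrix.map_apply] at this
    exact this
  rw [← hcomp, AlgHom.comp_apply, (RingHom.mem_ker).1 hf, map_zero]

/-- evaluating the universal coefficients -/
lemma aeval_cc (x : Fin n × Fin n → k) (i : ℕ) :
    aeval x (cc k n i) = (Matrix.of fun a b => x (a, b)).charpoly.coeff i := by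
  have h1 : (mvPolynomialX (Fin n) (Fin n) k).map (aeval x : A k n →ₐ[k] k).toRingHom =
      Matrix.of fun a b => x (a, b) := by
    ext a b
    simp [mvPolynomialX]
  rw [← h1, Matrix.charpoly_map, Polynomial.coeff_map]
  rfl

/-- a matrix whose low characteristic coefficients vanish is nilpotent -/
lemma isNilpotent_of_coeff (M : Matrix (Fin n) (Fin n) k)
    (h : ∀ i, i < n → M.charpoly.coeff i = 0) : IsNilpotent M := by
  have hchar : M.charpoly = Polynomial.X ^ n := by
    ext i
    rw [Polynomial.coeff_X_pow]
    have hdeg : M.charpoly.natDegree = n := by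
      rw [Matrix.charpoly_natDegree_eq_dim, Fintype.card_fin]
    rcases lt_trichotomy i n with hi | hi | hi
    · rw [h i hi, if_neg hi.ne]
    · rw [if_pos hi, hi]
      have := (Matrix.charpoly_monic M).coeff_natDegree
      rw [hdeg] at this
      exact this
    · rw [if_neg hi.ne', Polynomial.coeff_eq_zero_of_natDegree_lt (by omega)]
  refine ⟨n, ?_⟩
  have := Matrix.aeval_self_charpoly M
  rw [hchar, map_pow, Polynomial.aeval_X] at this
  exact this

end Eval

end Groth.Agent.Lib.Helper19NilpCone
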