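import Mathlib
import Groth.Agent.Lib.Helper19NilpConeB
import Groth.Agent.Lib.Helper28FGDim

/-!
# The nilpotent cone is irreducible of dimension `n² - n`
-/

set_option autoImplicit false
universe u

namespace Groth.Agent.Lib.Helper19NilpCone

open MvPolynomial Matrix

variable (k : Type u) [Field k] (n : ℕ)

/-- the ideal of the nilpotent cone -/
noncomputable def II : Ideal (A k n) := Ideal.span (Set.range (fun i : Fin n => cc k n i))

/-- the prime ideal of the nilpotent cone -/
noncomputable def PP : Ideal (A k n) := RingHom.ker (psi k n n)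

instance PP_isPrime : (PP k n).IsPrime := RingHom.ker_isPrime _

lemma II_le_PP : II k n ≤ PP k n := by
  unfold II PP
  rw [Ideal.span_le]
  rintro _ ⟨i, rfl⟩
  exact psi_cc_lt k n n i le_rfl i.2

lemma II_ne_top : II k n ≠ ⊤ := by
  intro h
  have := II_le_PP k n
  rw [h, top_le_iff] at this
  exact (PP_isPrime k n).ne_top this

variable [IsAlgClosed k]

lemma PP_le_radical : PP k n ≤ (II k n).radical := by
  intro f hf
  rw [← MvPolynomial.vanishingIdeal_zeroLocus_eq_radical (K := k), MvPolynomial.mem_vanishingIdeal_iff]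
  intro x hx
  rw [MvPolynomial.mem_zeroLocus_iff] at hx
  have hnil : IsNilpotent (Matrix.of fun a b => x (a, b) : Matrix (Fin n) (Fin n) k) := by
    apply isNilpotent_of_coeff
    intro i hi
    rw [← aeval_cc]
    exact hx _ (Ideal.subset_span ⟨⟨i, hi⟩, rfl⟩)
  have := eval_eq_zero_of_nilpotent k n f hf _ hnil
  have hx' : (fun ab : Fin n × Fin n =>
      (Matrix.of fun a b => x (a, b) : Matrix (Fin n) (Fin n) k) ab.1 ab.2) = x := by
    funext ab
    rfl
  rw [hx'] at this
  exact this

lemma radical_eq : (II k n).radical = PP k n := by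
  apply le_antisymm
  · rw [← (PP_isPrime k n).radical]
    exact Ideal.radical_mono (II_le_PP k n)
  · exact PP_le_radical k n

lemma PP_mem_minimalPrimes : PP k n ∈ (II k n).minimalPrimes := by
  refine ⟨⟨PP_isPrime k n, II_le_PP k n⟩, ?_⟩
  rintro Q ⟨hQ, hIQ⟩ -
  rw [← radical_eq, ← hQ.radical]
  exact Ideal.radical_mono hIQ

lemma height_PP_le : (PP k n).height ≤ n := by
  classical
  have h1 : II k n = Ideal.span ((Finset.univ.image (fun i : Fin n => cc k n i) : Finset (A k n)) :
      Set (A k n)) := by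
    rw [Finset.coe_image, Finset.coe_univ, Set.image_univ]
    rfl
  have h2 := PP_mem_minimalPrimes k n
  rw [h1] at h2
  have h3 := Ideal.height_le_card_of_mem_minimalPrimes_span_finset h2
  refine le_trans h3 ?_
  have h4 : (Finset.univ.image (fun i : Fin n => cc k n i)).card ≤ n := by
    refine le_trans Finset.card_image_le ?_
    rw [Finset.card_univ, Fintype.card_fin]
  exact_mod_cast h4

omit [IsAlgClosed k] in
lemma le_height_PP : (n : ℕ∞) ≤ (PP k n).height := by
  let f : Fin (n + 1) → PrimeSpectrum (A k n) :=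
    fun j => ⟨RingHom.ker (psi k n j), RingHom.ker_isPrime _⟩
  have hf : StrictMono f := by
    rw [Fin.strictMono_iff_lt_succ]
    intro i
    rw [← PrimeSpectrum.asIdeal_lt_asIdeal]
    show RingHom.ker (psi k n (i.castSucc : Fin (n + 1))) <
      RingHom.ker (psi k n (i.succ : Fin (n + 1)))
    rw [Fin.val_castSucc, Fin.val_succ]
    refine lt_of_le_of_ne (ker_psi_le k n i) ?_
    intro heq
    have h1 : cc k n i ∈ RingHom.ker (psi k n ((i : ℕ) + 1)) :=
      psi_cc_lt k n _ _ (by have := i.2; omega) (Nat.lt_succ_self _)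
    rw [← heq] at h1
    exact psi_cc_ne k n i i.2.le h1
  let s : LTSeries (PrimeSpectrum (A k n)) := LTSeries.mk n f hf
  have h1 := Order.length_le_height_last (p := s)
  have h2 : s.last = ⟨PP k n, PP_isPrime k n⟩ := by
    show f (Fin.last n) = _
    rfl
  rw [h2] at h1
  have h3 := PrimeSpectrum.height_eq_orderHeight (⟨PP k n, PP_isPrime k n⟩ : PrimeSpectrum (A k n))
  rw [← h3] at h1
  exact h1

lemma height_PP : (PP k n).height = n :=
  le_antisymm (height_PP_le k n) (le_height_PP k n)

omit [IsAlgClosed k] in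
/-- dimension formula in the polynomial ring of matrices -/
lemma height_add_dim (P : Ideal (A k n)) [hP : P.IsPrime] :
    ((P.height : ℕ∞) : WithBot ℕ∞) + ringKrullDim (A k n ⧸ P) = ((n * n : ℕ) : WithBot ℕ∞) := by
  let e : A k n ≃ₐ[k] MvPolynomial (Fin (n * n)) k := renameEquiv k finProdFinEquiv
  have hk : LocCoh.IsCohenMacaulayRing k := Groth.Agent.Lib.Helper28.isCohenMacaulayRing_of_field k
  have hS : LocCoh.IsCohenMacaulayRing (MvPolynomial (Fin (n * n)) k) :=
    Groth.Agent.Lib.Helper28.isCohenMacaulayRing_mvPolynomial_fin (n * n)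
  have hP' : (P.comap (e.symm : MvPolynomial (Fin (n * n)) k ≃+* A k n)).IsPrime :=
    Ideal.comap_isPrime _ _
  have h1 := Groth.Agent.Lib.Helper28.height_add_ringKrullDim_quotient_eq_of_forall_isMaximal_height_eq
    (n * n) (Groth.Agent.Lib.Helper28.height_eq_of_isMaximal_mvPolynomial_fin k (n * n))
    (P.comap (e.symm : MvPolynomial (Fin (n * n)) k ≃+* A k n))
  have h2 : (P.comap (e.symm : MvPolynomial (Fin (n * n)) k ≃+* A k n)).height = P.height :=
    RingEquiv.height_comap (e.symm : MvPolynomial (Fin (n * n)) k ≃+* A k n) P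
  have h3 : P.comap (e.symm : MvPolynomial (Fin (n * n)) k ≃+* A k n) =
      P.map (e : A k n ≃+* MvPolynomial (Fin (n * n)) k) :=
    Ideal.comap_symm (e : A k n ≃+* MvPolynomial (Fin (n * n)) k)
  let q : (A k n ⧸ P) ≃+* (MvPolynomial (Fin (n * n)) k ⧸
      P.comap (e.symm : MvPolynomial (Fin (n * n)) k ≃+* A k n)) :=
    Ideal.quotientEquiv P _ (e : A k n ≃+* MvPolynomial (Fin (n * n)) k) h3
  rw [h2, ← ringKrullDim_eq_of_ringEquiv q] at h1
  exact h1

theorem main :
    IrreducibleSpace (PrimeSpectrum (A k n ⧸ II k n)) ∧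
      ringKrullDim (A k n ⧸ II k n) = ((n ^ 2 - n : ℕ) : WithBot ℕ∞) := by
  constructor
  · rw [PrimeSpectrum.irreducibleSpace_iff_isPrime_nilradical]
    have h1 : nilradical (A k n ⧸ II k n) = (PP k n).map (Ideal.Quotient.mk (II k n)) := by
      rw [← radical_eq]
      show (⊥ : Ideal (A k n ⧸ II k n)).radical = _
      rw [← Ideal.map_quotient_self (II k n)]
      symm
      apply Ideal.map_radical_of_surjective Ideal.Quotient.mk_surjective
      rw [Ideal.mk_ker]
    rw [h1]
    apply Ideal.map_isPrime_of_surjective Ideal.Quotient.mk_surjective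
    rw [Ideal.mk_ker]
    exact II_le_PP k n
  · have h1 : ringKrullDim (A k n ⧸ II k n) = ringKrullDim (A k n ⧸ PP k n) := by
      rw [ringKrullDim_quotient, ringKrullDim_quotient, ← radical_eq,
        PrimeSpectrum.zeroLocus_radical]
    rw [h1]
    have h2 := height_add_dim k n (PP k n)
    rw [height_PP] at h2
    have hnb : ringKrullDim (A k n ⧸ PP k n) ≠ ⊥ := by
      have : 0 ≤ ringKrullDim (A k n ⧸ PP k n) := ringKrullDim_nonneg_of_nontrivial
      intro hb
      rw [hb] at this
      simp at this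
    obtain ⟨x, hx⟩ := WithBot.ne_bot_iff_exists.mp hnb
    rw [← hx] at h2 ⊢
    have h3 : ((n : ℕ∞) + x) = ((n * n : ℕ) : ℕ∞) := by
      have : ((((n : ℕ) : ℕ∞) + x : ℕ∞) : WithBot ℕ∞) = (((n * n : ℕ) : ℕ∞) : WithBot ℕ∞) := by
        rw [WithBot.coe_add]
        exact h2
      exact WithBot.coe_injective this
    have hxtop : x ≠ ⊤ := by
      intro htop
      rw [htop, add_top] at h3
      exact ENat.top_ne_natCast _ h3
    obtain ⟨m, rfl⟩ := ENat.ne_top_iff_exists.mp hxtop
    have h4 : n + m = n * n := by exact_mod_cast h3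
    have h5 : m = n ^ 2 - n := by
      rw [pow_two]; omega
    rw [h5]
    rfl

end Groth.Agent.Lib.Helper19NilpCone
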