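import Mathlib

/-!
# The nine-term exact sequence of a short exact sequence of three-term complexes

Three complexes `X⁰ → X¹ → X²`, `Y• `, `Z•` (over possibly different rings), additive chain maps
`a : X → Y`, `b : Y → Z` with `a` injective, `ker b = im a` in each degree and `b` surjective in
degrees `0` and `1`.  With `H⁰ = ker d⁰`, `H¹ = ker d¹ / im d⁰`, `H² = coker d¹` the sequence
`0 → H⁰X → H⁰Y → H⁰Z → H¹X → H¹Y → H¹Z → H²X → H²Y → H²Z` is exact.  The maps induced on the `Hⁱ`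
are taken as data, specified by their values on classes.
-/

set_option autoImplicit false
set_option linter.unusedSectionVars false
universe u₁ u₂ u₃ v₁ v₂ v₃ v₄ v₅ v₆ v₇ v₈ v₉

namespace Groth.Agent.Lib.Helper19.Nine

section defs

variable {R : Type u₁} [Ring R] {X0 : Type v₁} {X1 : Type v₂} {X2 : Type v₃}
  [AddCommGroup X0] [Module R X0] [AddCommGroup X1] [Module R X1] [AddCommGroup X2] [Module R X2]

/-- `H⁰` -/
abbrev H0 (d0 : X0 →ₗ[R] X1) : Type v₁ := LinearMap.ker d0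

/-- the 1-cocycles -/
abbrev Z1 (d1 : X1 →ₗ[R] X2) : Submodule R X1 := LinearMap.ker d1

/-- the 1-coboundaries -/
abbrev B1 (d0 : X0 →ₗ[R] X1) (d1 : X1 →ₗ[R] X2) : Submodule R (Z1 d1) :=
  (LinearMap.range d0).comap (Z1 d1).subtype

/-- `H¹` -/
abbrev H1 (d0 : X0 →ₗ[R] X1) (d1 : X1 →ₗ[R] X2) : Type v₂ := Z1 d1 ⧸ B1 d0 d1

/-- `H²` -/
abbrev H2 (d1 : X1 →ₗ[R] X2) : Type v₃ := X2 ⧸ LinearMap.range d1

lemma H1_mk_eq_zero (d0 : X0 →ₗ[R] X1) (d1 : X1 →ₗ[R] X2) (x : Z1 d1) :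
    (Submodule.Quotient.mk x : H1 d0 d1) = 0 ↔ ∃ x0, d0 x0 = (x : X1) := by
  rw [Submodule.Quotient.mk_eq_zero, Submodule.mem_comap, LinearMap.mem_range]
  rfl

lemma H1_mk_eq (d0 : X0 →ₗ[R] X1) (d1 : X1 →ₗ[R] X2) (x x' : Z1 d1) :
    (Submodule.Quotient.mk x : H1 d0 d1) = Submodule.Quotient.mk x' ↔
      ∃ x0, d0 x0 = (x : X1) - x' := by
  rw [Submodule.Quotient.eq, Submodule.mem_comap, LinearMap.mem_range]
  rfl

lemma H2_mk_eq_zero (d1 : X1 →ₗ[R] X2) (x : X2) :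
    (Submodule.Quotient.mk x : H2 d1) = 0 ↔ ∃ x1, d1 x1 = x := by
  rw [Submodule.Quotient.mk_eq_zero, LinearMap.mem_range]

lemma H2_mk_eq (d1 : X1 →ₗ[R] X2) (x x' : X2) :
    (Submodule.Quotient.mk x : H2 d1) = Submodule.Quotient.mk x' ↔ ∃ x1, d1 x1 = x - x' := by
  rw [Submodule.Quotient.eq, LinearMap.mem_range]

end defs

section nine

variable {Rx : Type u₁} {Ry : Type u₂} {Rz : Type u₃} [Ring Rx] [Ring Ry] [Ring Rz]
  {X0 : Type v₁} {X1 : Type v₂} {X2 : Type v₃} {Y0 : Type v₄} {Y1 : Type v₅} {Y2 : Type v₆}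
  {Z0 : Type v₇} {Z1' : Type v₈} {Z2 : Type v₉}
  [AddCommGroup X0] [Module Rx X0] [AddCommGroup X1] [Module Rx X1] [AddCommGroup X2] [Module Rx X2]
  [AddCommGroup Y0] [Module Ry Y0] [AddCommGroup Y1] [Module Ry Y1] [AddCommGroup Y2] [Module Ry Y2]
  [AddCommGroup Z0] [Module Rz Z0] [AddCommGroup Z1'] [Module Rz Z1'] [AddCommGroup Z2]
  [Module Rz Z2]
  (dX0 : X0 →ₗ[Rx] X1) (dX1 : X1 →ₗ[Rx] X2) (dY0 : Y0 →ₗ[Ry] Y1) (dY1 : Y1 →ₗ[Ry] Y2)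
  (dZ0 : Z0 →ₗ[Rz] Z1') (dZ1 : Z1' →ₗ[Rz] Z2)
  (hX : ∀ x, dX1 (dX0 x) = 0) (hY : ∀ y, dY1 (dY0 y) = 0) (hZ : ∀ z, dZ1 (dZ0 z) = 0)
  (a0 : X0 →+ Y0) (a1 : X1 →+ Y1) (a2 : X2 →+ Y2)
  (b0 : Y0 →+ Z0) (b1 : Y1 →+ Z1') (b2 : Y2 →+ Z2)
  (ha01 : ∀ x, a1 (dX0 x) = dY0 (a0 x)) (ha12 : ∀ x, a2 (dX1 x) = dY1 (a1 x))
  (hb01 : ∀ y, b1 (dY0 y) = dZ0 (b0 y)) (hb12 : ∀ y, b2 (dY1 y) = dZ1 (b1 y))
  (ia0 : Function.Injective a0) (ia1 : Function.Injective a1) (ia2 : Function.Injective a2)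
  (ex0 : ∀ y, b0 y = 0 ↔ ∃ x, a0 x = y) (ex1 : ∀ y, b1 y = 0 ↔ ∃ x, a1 x = y)
  (ex2 : ∀ y, b2 y = 0 ↔ ∃ x, a2 x = y)
  (sb0 : Function.Surjective b0) (sb1 : Function.Surjective b1)
  (α0 : H0 dX0 → H0 dY0) (α1 : H1 dX0 dX1 → H1 dY0 dY1) (α2 : H2 dX1 → H2 dY1)
  (β0 : H0 dY0 → H0 dZ0) (β1 : H1 dY0 dY1 → H1 dZ0 dZ1) (β2 : H2 dY1 → H2 dZ1)
  (sα0 : ∀ x : H0 dX0, ((α0 x : H0 dY0) : Y0) = a0 x)
  (sα1 : ∀ (x : Z1 dX1) (y : Z1 dY1), (y : Y1) = a1 x →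
    α1 (Submodule.Quotient.mk x) = Submodule.Quotient.mk y)
  (sα2 : ∀ x : X2, α2 (Submodule.Quotient.mk x) = Submodule.Quotient.mk (a2 x))
  (sβ0 : ∀ y : H0 dY0, ((β0 y : H0 dZ0) : Z0) = b0 y)
  (sβ1 : ∀ (y : Z1 dY1) (z : Z1 dZ1), (z : Z1') = b1 y →
    β1 (Submodule.Quotient.mk y) = Submodule.Quotient.mk z)
  (sβ2 : ∀ y : Y2, β2 (Submodule.Quotient.mk y) = Submodule.Quotient.mk (b2 y))

include ia0 sα0 in
theorem α0_injective : Function.Injective α0 := by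
  intro x x' h
  apply Subtype.ext
  apply ia0
  rw [← sα0, ← sα0, h]

include ha01 ia1 ex0 sα0 sβ0 in
theorem exact_α0_β0 : Function.Exact α0 β0 := by
  intro y
  constructor
  · intro h
    have h1 : b0 (y : Y0) = 0 := by
      rw [← sβ0, h]; rfl
    obtain ⟨x, hx⟩ := (ex0 _).mp h1
    have hx0 : dX0 x = 0 := by
      apply ia1
      rw [ha01, hx, map_zero]
      exact y.2
    refine ⟨⟨x, hx0⟩, ?_⟩
    apply Subtype.ext
    rw [sα0]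
    exact hx
  · rintro ⟨x, rfl⟩
    apply Subtype.ext
    rw [sβ0, sα0]
    exact (ex0 _).mpr ⟨_, rfl⟩

include ha12 hb01 hb12 hY ia2 ex1 sb0 sα1 sβ1 in
theorem exact_α1_β1 : Function.Exact α1 β1 := by
  intro c
  obtain ⟨y, rfl⟩ := Submodule.Quotient.mk_surjective _ c
  have hy : dY1 (y : Y1) = 0 := y.2
  have hbz : b1 (y : Y1) ∈ Z1 dZ1 := by
    rw [LinearMap.mem_ker, ← hb12, hy, map_zero]
  rw [sβ1 y ⟨b1 y, hbz⟩ rfl]
  constructor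
  · intro h
    obtain ⟨z0, hz0⟩ := (H1_mk_eq_zero dZ0 dZ1 _).mp h
    obtain ⟨y0, rfl⟩ := sb0 z0
    have h1 : b1 ((y : Y1) - dY0 y0) = 0 := by
      rw [map_sub, hb01, hz0, sub_self]
    obtain ⟨x, hx⟩ := (ex1 _).mp h1
    have hx1 : dX1 x = 0 := by
      apply ia2
      rw [ha12, hx, map_sub, hy, hY, sub_zero, map_zero]
    refine ⟨Submodule.Quotient.mk ⟨x, hx1⟩, ?_⟩
    have hmem : a1 x ∈ Z1 dY1 := by
      rw [LinearMap.mem_ker, ← ha12, hx1, map_zero]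
    rw [sα1 ⟨x, hx1⟩ ⟨a1 x, hmem⟩ rfl, H1_mk_eq]
    refine ⟨-y0, ?_⟩
    show dY0 (-y0) = a1 x - (y : Y1)
    rw [hx, map_neg]; abel
  · rintro ⟨c', hc'⟩
    obtain ⟨x, rfl⟩ := Submodule.Quotient.mk_surjective _ c'
    have hx1 : dX1 (x : X1) = 0 := x.2
    have hmem : a1 x ∈ Z1 dY1 := by
      rw [LinearMap.mem_ker, ← ha12, hx1, map_zero]
    rw [sα1 x ⟨a1 x, hmem⟩ rfl, H1_mk_eq] at hc'
    obtain ⟨y0, hy0⟩ := hc'
    rw [H1_mk_eq_zero]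
    refine ⟨b0 (-y0), ?_⟩
    show dZ0 (b0 (-y0)) = b1 (y : Y1)
    have h2 : (y : Y1) = a1 x - dY0 y0 := by
      have : dY0 y0 = a1 x - (y : Y1) := hy0
      rw [this]; abel
    rw [← hb01, h2, map_sub, map_neg, (ex1 _).mpr ⟨_, rfl⟩, zero_sub, map_neg]

include hb12 ex2 sb1 sα2 sβ2 ha12 in
theorem exact_α2_β2 : Function.Exact α2 β2 := by
  intro c
  obtain ⟨y, rfl⟩ := Submodule.Quotient.mk_surjective _ c
  rw [sβ2]
  constructor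
  · intro h
    obtain ⟨z1, hz1⟩ := (H2_mk_eq_zero dZ1 _).mp h
    obtain ⟨y1, rfl⟩ := sb1 z1
    have h1 : b2 (y - dY1 y1) = 0 := by
      rw [map_sub, hb12, hz1, sub_self]
    obtain ⟨x, hx⟩ := (ex2 _).mp h1
    refine ⟨Submodule.Quotient.mk x, ?_⟩
    rw [sα2, H2_mk_eq]
    refine ⟨-y1, ?_⟩
    rw [hx, map_neg]; abel
  · rintro ⟨c', hc'⟩
    obtain ⟨x, rfl⟩ := Submodule.Quotient.mk_surjective _ c'
    rw [sα2, H2_mk_eq] at hc'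
    obtain ⟨y1, hy1⟩ := hc'
    rw [H2_mk_eq_zero]
    refine ⟨b1 (-y1), ?_⟩
    have h2 : y = a2 x - dY1 y1 := by rw [hy1]; abel
    rw [← hb12, h2, map_sub, map_neg, (ex2 _).mpr ⟨_, rfl⟩, zero_sub, map_neg]

/-! ### The connecting maps -/

include ha01 ha12 hb01 hY ia1 ia2 ex0 ex1 sb0 sα1 sβ0 hZ in
theorem exists_δ0 : ∃ δ0 : H0 dZ0 →+ H1 dX0 dX1,
    Function.Exact β0 δ0 ∧ Function.Exact δ0 α1 := by
  classical
  -- lifting data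
  have hlift : ∀ z : H0 dZ0, ∃ (y : Y0) (x : Z1 dX1), b0 y = (z : Z0) ∧ a1 (x : X1) = dY0 y := by
    intro z
    obtain ⟨y, hy⟩ := sb0 (z : Z0)
    have h1 : b1 (dY0 y) = 0 := by
      rw [hb01, hy]; exact z.2
    obtain ⟨x, hx⟩ := (ex1 _).mp h1
    have hx1 : dX1 x = 0 := by
      apply ia2
      rw [ha12, hx, hY, map_zero]
    exact ⟨y, ⟨x, hx1⟩, hy, hx⟩
  -- well-definedness
  have hwd : ∀ (z : H0 dZ0) (y y' : Y0) (x x' : Z1 dX1), b0 y = (z : Z0) → a1 (x : X1) = dY0 y →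
      b0 y' = (z : Z0) → a1 (x' : X1) = dY0 y' →
      (Submodule.Quotient.mk x : H1 dX0 dX1) = Submodule.Quotient.mk x' := by
    intro z y y' x x' hy hx hy' hx'
    have h1 : b0 (y - y') = 0 := by rw [map_sub, hy, hy', sub_self]
    obtain ⟨x0, hx0⟩ := (ex0 _).mp h1
    rw [H1_mk_eq]
    refine ⟨x0, ?_⟩
    apply ia1
    rw [ha01, hx0, map_sub, map_sub, hx, hx']
  choose Y X hYb hXa using hlift
  have hadd : ∀ z z' : H0 dZ0, (Submodule.Quotient.mk (X (z + z')) : H1 dX0 dX1) =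
      Submodule.Quotient.mk (X z) + Submodule.Quotient.mk (X z') := by
    intro z z'
    rw [← Submodule.Quotient.mk_add]
    refine hwd (z + z') (Y (z + z')) (Y z + Y z') _ _ (hYb _) (hXa _) ?_ ?_
    · rw [map_add, hYb, hYb]; rfl
    · rw [Submodule.coe_add, map_add, hXa, hXa, map_add]
  refine ⟨AddMonoidHom.mk' (fun z => Submodule.Quotient.mk (X z)) hadd, ?_, ?_⟩
  · intro z
    show (Submodule.Quotient.mk (X z) : H1 dX0 dX1) = 0 ↔ _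
    constructor
    · intro h
      obtain ⟨x0, hx0⟩ := (H1_mk_eq_zero dX0 dX1 _).mp h
      have hmem : Y z - a0 x0 ∈ LinearMap.ker dY0 := by
        rw [LinearMap.mem_ker, map_sub, ← hXa, ← ha01, hx0, sub_self]
      refine ⟨⟨Y z - a0 x0, hmem⟩, ?_⟩
      apply Subtype.ext
      rw [sβ0]
      show b0 (Y z - a0 x0) = (z : Z0)
      rw [map_sub, hYb, (ex0 _).mpr ⟨_, rfl⟩, sub_zero]
    · rintro ⟨y, rfl⟩
      have hy : dY0 (y : Y0) = 0 := y.2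
      have h0 : (0 : X1) ∈ Z1 dX1 := Submodule.zero_mem _
      rw [hwd (β0 y) (Y (β0 y)) (y : Y0) (X (β0 y)) ⟨0, h0⟩ (hYb _) (hXa _) (sβ0 y).symm
        (by rw [hy]; exact map_zero a1)]
      exact (H1_mk_eq_zero dX0 dX1 _).mpr ⟨0, map_zero _⟩
  · intro c
    obtain ⟨x, rfl⟩ := Submodule.Quotient.mk_surjective _ c
    have hx1 : dX1 (x : X1) = 0 := x.2
    have hmem : a1 x ∈ Z1 dY1 := by
      rw [LinearMap.mem_ker, ← ha12, hx1, map_zero]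
    rw [sα1 x ⟨a1 x, hmem⟩ rfl]
    constructor
    · intro h
      obtain ⟨y, hy⟩ := (H1_mk_eq_zero dY0 dY1 _).mp h
      have hz : b0 y ∈ LinearMap.ker dZ0 := by
        rw [LinearMap.mem_ker, ← hb01, hy]
        exact (ex1 _).mpr ⟨_, rfl⟩
      refine ⟨⟨b0 y, hz⟩, ?_⟩
      show (Submodule.Quotient.mk (X ⟨b0 y, hz⟩) : H1 dX0 dX1) = _
      exact hwd ⟨b0 y, hz⟩ (Y _) y (X _) x (hYb _) (hXa _) rfl hy.symm
    · rintro ⟨z, hz⟩
      have hz' : (Submodule.Quotient.mk (X z) : H1 dX0 dX1) = Submodule.Quotient.mk x := hz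
      rw [H1_mk_eq] at hz'
      obtain ⟨x0, hx0⟩ := hz'
      rw [H1_mk_eq_zero]
      refine ⟨Y z - a0 x0, ?_⟩
      show dY0 (Y z - a0 x0) = a1 (x : X1)
      rw [map_sub, ← hXa, ← ha01, hx0, map_sub]; abel

include ha12 hb01 hb12 ia2 ex1 ex2 sb0 sb1 sα2 sβ1 hY hZ in
theorem exists_δ1 : ∃ δ1 : H1 dZ0 dZ1 →+ H2 dX1,
    Function.Exact β1 δ1 ∧ Function.Exact δ1 α2 := by
  classical
  have hlift : ∀ c : H1 dZ0 dZ1, ∃ (z : Z1 dZ1) (y : Y1) (x : X2),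
      Submodule.Quotient.mk z = c ∧ b1 y = (z : Z1') ∧ a2 x = dY1 y := by
    intro c
    obtain ⟨z, rfl⟩ := Submodule.Quotient.mk_surjective _ c
    obtain ⟨y, hy⟩ := sb1 (z : Z1')
    have h1 : b2 (dY1 y) = 0 := by
      rw [hb12, hy]; exact z.2
    obtain ⟨x, hx⟩ := (ex2 _).mp h1
    exact ⟨z, y, x, rfl, hy, hx⟩
  have hwd : ∀ (z z' : Z1 dZ1) (y y' : Y1) (x x' : X2),
      (Submodule.Quotient.mk z : H1 dZ0 dZ1) = Submodule.Quotient.mk z' →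
      b1 y = (z : Z1') → a2 x = dY1 y → b1 y' = (z' : Z1') → a2 x' = dY1 y' →
      (Submodule.Quotient.mk x : H2 dX1) = Submodule.Quotient.mk x' := by
    intro z z' y y' x x' hzz hy hx hy' hx'
    obtain ⟨z0, hz0⟩ := (H1_mk_eq dZ0 dZ1 z z').mp hzz
    obtain ⟨y0, rfl⟩ := sb0 z0
    have h1 : b1 (y - y' - dY0 y0) = 0 := by
      rw [map_sub, map_sub, hy, hy', hb01, hz0, sub_self]
    obtain ⟨x1, hx1⟩ := (ex1 _).mp h1
    rw [H2_mk_eq]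
    refine ⟨x1, ?_⟩
    apply ia2
    rw [ha12, hx1, map_sub, map_sub, hY, sub_zero, map_sub, hx, hx']
  choose Zc Yc Xc hZc hYc hXc using hlift
  have hadd : ∀ c c' : H1 dZ0 dZ1, (Submodule.Quotient.mk (Xc (c + c')) : H2 dX1) =
      Submodule.Quotient.mk (Xc c) + Submodule.Quotient.mk (Xc c') := by
    intro c c'
    rw [← Submodule.Quotient.mk_add]
    refine hwd (Zc (c + c')) (Zc c + Zc c') (Yc (c + c')) (Yc c + Yc c') _ _ ?_ (hYc _) (hXc _)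
      ?_ ?_
    · rw [hZc, Submodule.Quotient.mk_add, hZc, hZc]
    · rw [map_add, hYc, hYc]; rfl
    · rw [map_add, hXc, hXc, map_add]
  refine ⟨AddMonoidHom.mk' (fun c => Submodule.Quotient.mk (Xc c)) hadd, ?_, ?_⟩
  · intro c
    show (Submodule.Quotient.mk (Xc c) : H2 dX1) = 0 ↔ _
    constructor
    · intro h
      obtain ⟨x1, hx1⟩ := (H2_mk_eq_zero dX1 _).mp h
      have hmem : Yc c - a1 x1 ∈ Z1 dY1 := by
        rw [LinearMap.mem_ker, map_sub, ← hXc, ← ha12, hx1, sub_self]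
      refine ⟨Submodule.Quotient.mk ⟨Yc c - a1 x1, hmem⟩, ?_⟩
      have hz : b1 (Yc c - a1 x1) = (Zc c : Z1') := by
        rw [map_sub, hYc, (ex1 _).mpr ⟨_, rfl⟩, sub_zero]
      rw [sβ1 ⟨Yc c - a1 x1, hmem⟩ (Zc c) hz.symm, hZc]
    · rintro ⟨c', rfl⟩
      obtain ⟨y, rfl⟩ := Submodule.Quotient.mk_surjective _ c'
      have hy : dY1 (y : Y1) = 0 := y.2
      have hbz : b1 (y : Y1) ∈ Z1 dZ1 := by
        rw [LinearMap.mem_ker, ← hb12, hy, map_zero]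
      have h1 := sβ1 y ⟨b1 y, hbz⟩ rfl
      rw [hwd (Zc _) ⟨b1 y, hbz⟩ (Yc _) (y : Y1) (Xc _) 0 (by rw [hZc, h1]) (hYc _) (hXc _) rfl
        (by rw [hy]; exact map_zero a2)]
      rfl
  · intro c
    obtain ⟨x, rfl⟩ := Submodule.Quotient.mk_surjective _ c
    rw [sα2]
    constructor
    · intro h
      obtain ⟨y, hy⟩ := (H2_mk_eq_zero dY1 _).mp h
      have hz : b1 y ∈ Z1 dZ1 := by
        rw [LinearMap.mem_ker, ← hb12, hy]
        exact (ex2 _).mpr ⟨_, rfl⟩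
      refine ⟨Submodule.Quotient.mk ⟨b1 y, hz⟩, ?_⟩
      show (Submodule.Quotient.mk (Xc _) : H2 dX1) = _
      exact hwd (Zc _) ⟨b1 y, hz⟩ (Yc _) y (Xc _) x (hZc _) (hYc _) (hXc _) rfl hy.symm
    · rintro ⟨c', hc'⟩
      have hc'' : (Submodule.Quotient.mk (Xc c') : H2 dX1) = Submodule.Quotient.mk x := hc'
      rw [H2_mk_eq] at hc''
      obtain ⟨x1, hx1⟩ := hc''
      rw [H2_mk_eq_zero]
      refine ⟨Yc c' - a1 x1, ?_⟩
      rw [map_sub, ← hXc, ← ha12, hx1, map_sub]; abel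

end nine

end Groth.Agent.Lib.Helper19.Nine
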