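import Groth.Prelude.Def_CotT2
import Mathlib

/-!
# The adapted presentation of `C` over `A` for a tower `A → B → C`, and its two morphisms
-/

set_option autoImplicit false
set_option linter.unusedSectionVars false
set_option linter.style.haveILetI false
universe u v w t w' t'

open MvPolynomial

namespace Groth.Agent.Lib.Helper19.Nine

open CotT

variable {A B C : Type u} [CommRing A] [CommRing B] [CommRing C] [Algebra A B] [Algebra B C]
  [Algebra A C] [IsScalarTower A B C]
  {ι : Type w} {σ : Type t} {ι' : Type w'} {σ' : Type t'}
  (P : Algebra.Presentation A B ι σ) (Q : Algebra.Presentation B C ι' σ')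

/-- the adapted presentation of `C` over `A`: the variables of `Q` and of `P`, the relations of
`P` and lifts of the relations of `Q` -/
noncomputable def adapt : Algebra.Presentation A C (ι' ⊕ ι) (σ ⊕ σ') where
  toGenerators := Q.toGenerators.comp P.toGenerators
  relation := Sum.elim (fun s => MvPolynomial.rename Sum.inr (P.relation s)) (Q.compRelationAux P)
  span_range_relation_eq_ker := by
    rw [← Q.span_range_relation_eq_ker_comp P]
    congr 1
    rw [Set.Sum.elim_range, Set.Sum.elim_range, Set.union_comm]

lemma adapt_rel_inl (s : σ) :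
    rel (adapt P Q) (Sum.inl s) = MvPolynomial.rename Sum.inr (P.relation s) := rfl

lemma adapt_rel_inr (s' : σ') : rel (adapt P Q) (Sum.inr s') = Q.compRelationAux P s' := rfl

/-- `P → adapt` over `A = A`, `B → C` -/
noncomputable def h12 : PresHom P (adapt P Q) where
  hom := Q.toGenerators.toComp P.toGenerators
  relVal s := Finsupp.single (Sum.inl s) 1
  jmap_relVal s := by
    rw [jmap_single, one_mul, adapt_rel_inl]
    show _ = (Q.toGenerators.toComp P.toGenerators).toAlgHom (rel P s)
    rw [Algebra.Generators.toComp_toAlgHom]

/-- `adapt → Q` over `A → B`, `C = C` -/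
noncomputable def h23 : PresHom (adapt P Q) Q where
  hom := Q.toGenerators.ofComp P.toGenerators
  relVal := Sum.elim (fun _ => 0) (fun s' => Finsupp.single s' 1)
  jmap_relVal s := by
    rcases s with s | s'
    · rw [Sum.elim_inl, map_zero, adapt_rel_inl]
      show _ = (Q.toGenerators.ofComp P.toGenerators).toAlgHom
        (MvPolynomial.rename Sum.inr (P.relation s))
      rw [Algebra.Generators.toAlgHom_ofComp_rename]
      have : algebraMap P.Ring B (P.relation s) = 0 := algebraMap_rel P s
      rw [this, map_zero]
      rfl
    · rw [Sum.elim_inr, jmap_single, one_mul, adapt_rel_inr]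
      exact (Q.comp_aeval_relation_inl P s').symm

lemma h12_ringHom_apply (x : P.toExtension.Ring) :
    (h12 P Q).ringHom x = MvPolynomial.rename Sum.inr x := by
  show (Q.toGenerators.toComp P.toGenerators).toAlgHom x = _
  rw [Algebra.Generators.toComp_toAlgHom]

lemma h23_ringHom_rename (x : P.toExtension.Ring) :
    (h23 P Q).ringHom (MvPolynomial.rename Sum.inr x) =
      MvPolynomial.C (algebraMap P.toExtension.Ring B x) :=
  Algebra.Generators.toAlgHom_ofComp_rename Q.toGenerators P.toGenerators x

lemma h23_ringHom_surjective : Function.Surjective (h23 P Q).ringHom :=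
  Algebra.Generators.toAlgHom_ofComp_surjective Q.toGenerators P.toGenerators

lemma h23_ringHom_h12 (x : P.toExtension.Ring) :
    (h23 P Q).ringHom ((h12 P Q).ringHom x) = MvPolynomial.C (algebraMap P.toExtension.Ring B x) := by
  rw [h12_ringHom_apply, h23_ringHom_rename]

/-- the kernel of `S → B[Y]` is generated by the relations of `P` -/
lemma ker_h23_ringHom :
    RingHom.ker (h23 P Q).ringHom = Ideal.map (h12 P Q).ringHom P.toExtension.ker :=
  (Algebra.Generators.map_toComp_ker Q.toGenerators P.toGenerators).symm

lemma h12_relModMap_single (s : σ) (r : P.toExtension.Ring) :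
    (h12 P Q).relModMap (Finsupp.single s r) =
      Finsupp.single (Sum.inl s) ((h12 P Q).ringHom r) := by
  rw [PresHom.relModMap_single]
  show (h12 P Q).ringHom r • Finsupp.single (Sum.inl s) 1 = _
  rw [Finsupp.smul_single, smul_eq_mul, mul_one]

lemma h23_relModMap_single_inl (s : σ) (r : (adapt P Q).toExtension.Ring) :
    (h23 P Q).relModMap (Finsupp.single (Sum.inl s) r) = 0 := by
  rw [PresHom.relModMap_single]
  show (h23 P Q).ringHom r • (0 : relMod Q) = 0
  rw [smul_zero]

lemma h23_relModMap_single_inr (s' : σ') (r : (adapt P Q).toExtension.Ring) :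
    (h23 P Q).relModMap (Finsupp.single (Sum.inr s') r) =
      Finsupp.single s' ((h23 P Q).ringHom r) := by
  rw [PresHom.relModMap_single]
  show (h23 P Q).ringHom r • Finsupp.single s' 1 = _
  rw [Finsupp.smul_single, smul_eq_mul, mul_one]

lemma h23_relModMap_h12 (f : relMod P) : (h23 P Q).relModMap ((h12 P Q).relModMap f) = 0 := by
  induction f using Finsupp.induction_linear with
  | zero => simp
  | add f g hf hg => rw [map_add, map_add, hf, hg, add_zero]
  | single s r => rw [h12_relModMap_single, h23_relModMap_single_inl]

end Groth.Agent.Lib.Helper19.Nine
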