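import Groth.Agent.Lib.Helper19NineB

/-!
# Degrees `0` and `1` of the short exact sequence of dual complexes for the adapted presentation
-/

set_option autoImplicit false
set_option linter.unusedSectionVars false
set_option linter.style.haveILetI false
universe u v w t w' t' m

open MvPolynomial TensorProduct

namespace Groth.Agent.Lib.Helper19.Nine

open CotT

section general

variable {A : Type u} {B : Type v} {ι : Type w} {σ : Type t}
variable {A' : Type*} {B' : Type*} {ι' : Type*} {σ' : Type*}
variable [CommRing A] [CommRing B] [Algebra A B] [CommRing A'] [CommRing B'] [Algebra A' B']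
variable [Algebra A A'] [Algebra B B'] [Algebra A B'] [IsScalarTower A A' B'] [IsScalarTower A B B']
variable {P : Algebra.Presentation A B ι σ} {P' : Algebra.Presentation A' B' ι' σ'}
  (h : PresHom P P')

lemma L1map_basis (s : σ) : h.L1map (L1basis P s) = (1 : B') ⊗ₜ h.relVal s := by
  rw [L1basis_apply, PresHom.L1map_tmul, map_one, PresHom.relModMap_single, map_one, one_smul]

lemma L0map_basis (i : ι) :
    h.L0map (P.cotangentSpaceBasis i) =
      (1 : B') ⊗ₜ KaehlerDifferential.D A' P'.toExtension.Ring (h.hom.val i) := by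
  rw [Algebra.Generators.cotangentSpaceBasis_apply, PresHom.L0map_apply]
  refine (Algebra.Extension.CotangentSpace.map_tmul h.hom.toExtensionHom (1 : B)
    (MvPolynomial.X i : P.toExtension.Ring)).trans ?_
  rw [map_one]
  congr 2
  show h.hom.toAlgHom (MvPolynomial.X i) = _
  rw [Algebra.Generators.Hom.toAlgHom_X]

end general

section adapted

variable {A B C : Type u} [CommRing A] [CommRing B] [CommRing C] [Algebra A B] [Algebra B C]
  [Algebra A C] [IsScalarTower A B C]
  {ι : Type w} {σ : Type t} {ι' : Type w'} {σ' : Type t'}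
  (P : Algebra.Presentation A B ι σ) (Q : Algebra.Presentation B C ι' σ')
  (M : Type m) [AddCommGroup M] [Module C M] [Module B M] [IsScalarTower B C M]

/-! ### degree 1 -/

lemma L1map_h12_basis (s : σ) :
    (h12 P Q).L1map (L1basis P s) = L1basis (adapt P Q) (Sum.inl s) := by
  rw [L1map_basis, L1basis_apply]; rfl

lemma L1map_h23_basis_inl (s : σ) :
    (h23 P Q).L1map (L1basis (adapt P Q) (Sum.inl s)) = 0 := by
  rw [L1map_basis]
  show (1 : C) ⊗ₜ (0 : relMod Q) = 0
  rw [TensorProduct.tmul_zero]

lemma L1map_h23_basis_inr (s' : σ') :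
    (h23 P Q).L1map (L1basis (adapt P Q) (Sum.inr s')) = L1basis Q s' := by
  rw [L1map_basis, L1basis_apply]; rfl

theorem pull1_h23_injective : Function.Injective ((h23 P Q).pull1 M) := by
  rw [injective_iff_map_eq_zero]
  intro ψ hψ
  refine (L1basis Q).ext fun s' => ?_
  have := LinearMap.congr_fun hψ (L1basis (adapt P Q) (Sum.inr s'))
  rw [PresHom.pull1_apply, L1map_h23_basis_inr] at this
  rw [this]; rfl

theorem pull1_exact (ψ : L1 (adapt P Q) →ₗ[C] M) :
    (h12 P Q).pull1 M ψ = 0 ↔ ∃ ψ₃, (h23 P Q).pull1 M ψ₃ = ψ := by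
  constructor
  · intro hψ
    refine ⟨(L1basis Q).constr C (fun s' => ψ (L1basis (adapt P Q) (Sum.inr s'))), ?_⟩
    refine (L1basis (adapt P Q)).ext fun s => ?_
    rcases s with s | s'
    · rw [PresHom.pull1_apply, L1map_h23_basis_inl, map_zero]
      have := LinearMap.congr_fun hψ (L1basis P s)
      rw [PresHom.pull1_apply, L1map_h12_basis] at this
      rw [this]; rfl
    · rw [PresHom.pull1_apply, L1map_h23_basis_inr, Module.Basis.constr_basis]
  · rintro ⟨ψ₃, rfl⟩
    refine (L1basis P).ext fun s => ?_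
    rw [PresHom.pull1_apply, PresHom.pull1_apply, L1map_h12_basis, L1map_h23_basis_inl, map_zero]
    rfl

theorem pull1_h12_surjective : Function.Surjective ((h12 P Q).pull1 M) := by
  intro χ
  refine ⟨(L1basis (adapt P Q)).constr C (Sum.elim (fun s => χ (L1basis P s)) (fun _ => 0)), ?_⟩
  refine (L1basis P).ext fun s => ?_
  rw [PresHom.pull1_apply, L1map_h12_basis, Module.Basis.constr_basis, Sum.elim_inl]

/-! ### degree 0 -/

lemma L0map_h12_basis (i : ι) :
    (h12 P Q).L0map (P.cotangentSpaceBasis i) = (adapt P Q).cotangentSpaceBasis (Sum.inr i) := by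
  rw [L0map_basis, Algebra.Generators.cotangentSpaceBasis_apply]; rfl

lemma L0map_h23_basis_inl (i' : ι') :
    (h23 P Q).L0map ((adapt P Q).cotangentSpaceBasis (Sum.inl i')) = Q.cotangentSpaceBasis i' := by
  rw [L0map_basis, Algebra.Generators.cotangentSpaceBasis_apply]; rfl

lemma L0map_h23_basis_inr (i : ι) :
    (h23 P Q).L0map ((adapt P Q).cotangentSpaceBasis (Sum.inr i)) = 0 := by
  rw [L0map_basis]
  have : (h23 P Q).hom.val (Sum.inr i) = algebraMap B Q.toExtension.Ring (P.val i) := rfl
  rw [this, Derivation.map_algebraMap, TensorProduct.tmul_zero]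

theorem pull0_h23_injective : Function.Injective ((h23 P Q).pull0 M) := by
  rw [injective_iff_map_eq_zero]
  intro ψ hψ
  refine (Q.cotangentSpaceBasis).ext fun i' => ?_
  have := LinearMap.congr_fun hψ ((adapt P Q).cotangentSpaceBasis (Sum.inl i'))
  rw [PresHom.pull0_apply, L0map_h23_basis_inl] at this
  rw [this]; rfl

theorem pull0_exact (ψ : L0 (adapt P Q) →ₗ[C] M) :
    (h12 P Q).pull0 M ψ = 0 ↔ ∃ ψ₃, (h23 P Q).pull0 M ψ₃ = ψ := by
  constructor
  · intro hψ
    refine ⟨(Q.cotangentSpaceBasis).constr C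
      (fun i' => ψ ((adapt P Q).cotangentSpaceBasis (Sum.inl i'))), ?_⟩
    refine ((adapt P Q).cotangentSpaceBasis).ext fun i => ?_
    rcases i with i' | i
    · rw [PresHom.pull0_apply, L0map_h23_basis_inl, Module.Basis.constr_basis]
    · rw [PresHom.pull0_apply, L0map_h23_basis_inr, map_zero]
      have := LinearMap.congr_fun hψ (P.cotangentSpaceBasis i)
      rw [PresHom.pull0_apply, L0map_h12_basis] at this
      rw [this]; rfl
  · rintro ⟨ψ₃, rfl⟩
    refine (P.cotangentSpaceBasis).ext fun i => ?_
    rw [PresHom.pull0_apply, PresHom.pull0_apply, L0map_h12_basis, L0map_h23_basis_inr, map_zero]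
    rfl

theorem pull0_h12_surjective : Function.Surjective ((h12 P Q).pull0 M) := by
  intro χ
  refine ⟨((adapt P Q).cotangentSpaceBasis).constr C
    (Sum.elim (fun _ => 0) (fun i => χ (P.cotangentSpaceBasis i))), ?_⟩
  refine (P.cotangentSpaceBasis).ext fun i => ?_
  rw [PresHom.pull0_apply, L0map_h12_basis, Module.Basis.constr_basis, Sum.elim_inr]

end adapted

end Groth.Agent.Lib.Helper19.Nine
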