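import Mathlib

/-!
# A flatness statement for polynomial rings in terms of coefficient extraction

`S = A[Y, X]` over `R = A[X]`: a combination `∑ sᵢ • Φ xᵢ` with `∑ sᵢ * j xᵢ = 0` lies in the
`S`-span of `Φ (ker j)`.
-/

set_option autoImplicit false
set_option linter.unusedSectionVars false
universe u w w' v v'

open MvPolynomial

namespace Groth.Agent.Lib.Helper19.Nine

section flat

variable {A : Type u} [CommRing A] {ι : Type w} {ι' : Type w'}

/-- extraction of the coefficient of a monomial in the first set of variables -/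
noncomputable def cf (m : ι' →₀ ℕ) : MvPolynomial (ι' ⊕ ι) A →+ MvPolynomial ι A :=
  (MvPolynomial.coeffAddMonoidHom m).comp
    ((sumAlgEquiv A ι' ι : MvPolynomial (ι' ⊕ ι) A →+* MvPolynomial ι' (MvPolynomial ι A)) :
      MvPolynomial (ι' ⊕ ι) A →+ MvPolynomial ι' (MvPolynomial ι A))

lemma cf_apply (m : ι' →₀ ℕ) (s : MvPolynomial (ι' ⊕ ι) A) :
    cf m s = MvPolynomial.coeff m (sumAlgEquiv A ι' ι s) := rfl

lemma sumAlgEquiv_rename_inr (r : MvPolynomial ι A) :
    sumAlgEquiv A ι' ι (rename Sum.inr r) = C r :=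
  AlgHom.congr_fun (sumAlgEquiv_comp_rename_inr (R := A) (S₁ := ι') (S₂ := ι)) r

lemma cf_mul_rename (m : ι' →₀ ℕ) (s : MvPolynomial (ι' ⊕ ι) A) (r : MvPolynomial ι A) :
    cf m (s * rename Sum.inr r) = cf m s * r := by
  rw [cf_apply, map_mul, sumAlgEquiv_rename_inr, mul_comm, MvPolynomial.coeff_C_mul, cf_apply,
    mul_comm]

/-- the monomials in the first set of variables -/
noncomputable def Ymon (m : ι' →₀ ℕ) : MvPolynomial (ι' ⊕ ι) A :=
  (sumAlgEquiv A ι' ι).symm (monomial m 1)

lemma eq_sum_Ymon (s : MvPolynomial (ι' ⊕ ι) A) (T : Finset (ι' →₀ ℕ))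
    (hT : (sumAlgEquiv A ι' ι s).support ⊆ T) :
    s = ∑ m ∈ T, Ymon m * rename Sum.inr (cf m s) := by
  apply (sumAlgEquiv A ι' ι).injective
  rw [map_sum]
  have h1 : ∀ m ∈ T, sumAlgEquiv A ι' ι (Ymon m * rename Sum.inr (cf m s)) =
      monomial m (coeff m (sumAlgEquiv A ι' ι s)) := by
    intro m _
    rw [map_mul, Ymon, AlgEquiv.apply_symm_apply, sumAlgEquiv_rename_inr, cf_apply, mul_comm,
      C_mul_monomial, mul_one]
  rw [Finset.sum_congr rfl h1]
  conv_lhs => rw [← MvPolynomial.support_sum_monomial_coeff (sumAlgEquiv A ι' ι s)]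
  refine Finset.sum_subset hT fun m _ hm => ?_
  rw [MvPolynomial.notMem_support_iff.mp hm, monomial_zero]

end flat

section abstract

variable {R : Type u} {S : Type w} [CommRing R] [CommRing S] (ιr : R →+* S) {I : Type w'}
  (cfA : I → S →+ R) (Y : I → S) (supp : S → Finset I)
  (h1 : ∀ m s r, cfA m (s * ιr r) = cfA m s * r)
  (h2 : ∀ (s : S) (T : Finset I), supp s ⊆ T → s = ∑ m ∈ T, Y m * ιr (cfA m s))
  {F : Type v} [AddCommGroup F] [Module R F] {N : Type v'} [AddCommGroup N] [Module S N]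

include h1 h2 in
/-- **Flatness in elementary form**, for a ring `S` with coefficient extraction maps to `R`. -/
theorem flat_span_abstract (Φ : F →+ N) (hΦ : ∀ (r : R) (x : F), Φ (r • x) = ιr r • Φ x)
    (j : F →ₗ[R] R) (c : F →₀ S) (hc : (c.sum fun x s => s * ιr (j x)) = 0) :
    (c.sum fun x s => s • Φ x) ∈ Submodule.span S (Φ '' (LinearMap.ker j : Set F)) := by
  classical
  set T : Finset I := c.support.biUnion fun x => supp (c x) with hTdef
  have hT : ∀ x ∈ c.support, supp (c x) ⊆ T := fun x hx =>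
    Finset.subset_biUnion_of_mem (fun x => supp (c x)) hx
  let u : I → F := fun m => ∑ x ∈ c.support, cfA m (c x) • x
  have hu : ∀ m, u m ∈ LinearMap.ker j := by
    intro m
    rw [LinearMap.mem_ker, map_sum]
    have h3 : ∀ x ∈ c.support, j (cfA m (c x) • x) = cfA m (c x * ιr (j x)) := by
      intro x _
      rw [map_smul, smul_eq_mul, h1]
    rw [Finset.sum_congr rfl h3, ← map_sum]
    have : ∑ x ∈ c.support, c x * ιr (j x) = 0 := hc
    rw [this]
    exact map_zero (cfA m)
  have hexp : (c.sum fun x s => s • Φ x) = ∑ m ∈ T, Y m • Φ (u m) := by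
    rw [Finsupp.sum]
    have h3 : ∀ x ∈ c.support, c x • Φ x = ∑ m ∈ T, Y m • Φ (cfA m (c x) • x) := by
      intro x hx
      conv_lhs => rw [h2 (c x) T (hT x hx), Finset.sum_smul]
      refine Finset.sum_congr rfl fun m _ => ?_
      rw [mul_smul, hΦ]
    rw [Finset.sum_congr rfl h3, Finset.sum_comm]
    refine Finset.sum_congr rfl fun m _ => ?_
    rw [← Finset.smul_sum, ← map_sum]
  rw [hexp]
  refine Submodule.sum_mem _ fun m _ => ?_
  exact Submodule.smul_mem _ _ (Submodule.subset_span ⟨u m, hu m, rfl⟩)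

end abstract


end Groth.Agent.Lib.Helper19.Nine
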