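import Groth.Agent.Lib.Helper19NineB
import Groth.Agent.Lib.Helper19NineD

/-!
# Relations of the adapted presentation: lifting and kernel of `Q₂' → Q₃`
-/

set_option autoImplicit false
set_option linter.unusedSectionVars false
set_option linter.style.haveILetI false
universe u v w t w' t' m

open MvPolynomial

namespace Groth.Agent.Lib.Helper19.Nine

open CotT

variable {A B C : Type u} [CommRing A] [CommRing B] [CommRing C] [Algebra A B] [Algebra B C]
  [Algebra A C] [IsScalarTower A B C]
  {ι : Type w} {σ : Type t} {ι' : Type w'} {σ' : Type t'}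
  (P : Algebra.Presentation A B ι σ) (Q : Algebra.Presentation B C ι' σ')

/-- the span of the image of `F₁` in `F₂'` -/
noncomputable def imF : Submodule (adapt P Q).toExtension.Ring (relMod (adapt P Q)) :=
  Submodule.span _ (Set.range (h12 P Q).relModMap)

/-- the span of the image of `Q₁` in `F₂'` -/
noncomputable def imQ : Submodule (adapt P Q).toExtension.Ring (relMod (adapt P Q)) :=
  Submodule.span _ ((h12 P Q).relModMap '' (relKer P : Set (relMod P)))

lemma h23_relModMap_apply (x : relMod (adapt P Q)) (s' : σ') :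
    (h23 P Q).relModMap x s' = (h23 P Q).ringHom (x (Sum.inr s')) := by
  classical
  induction x using Finsupp.induction_linear with
  | zero => simp
  | add x y hx hy => rw [map_add, Finsupp.add_apply, hx, hy, Finsupp.add_apply, map_add]
  | single s r =>
    rcases s with s | s''
    · rw [h23_relModMap_single_inl, Finsupp.zero_apply, Finsupp.single_apply,
        if_neg (by simp), map_zero]
    · rw [h23_relModMap_single_inr, Finsupp.single_apply, Finsupp.single_apply]
      by_cases h : s'' = s'
      · rw [if_pos h, if_pos (by rw [h])]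
      · rw [if_neg h, if_neg (by simpa using h), map_zero]

lemma h23_relModMap_surjective : Function.Surjective (h23 P Q).relModMap := by
  intro y
  induction y using Finsupp.induction_linear with
  | zero => exact ⟨0, map_zero _⟩
  | add x y hx hy =>
    obtain ⟨x', rfl⟩ := hx
    obtain ⟨y', rfl⟩ := hy
    exact ⟨x' + y', map_add _ _ _⟩
  | single s' r =>
    obtain ⟨r', rfl⟩ := h23_ringHom_surjective P Q r
    exact ⟨Finsupp.single (Sum.inr s') r', h23_relModMap_single_inr P Q s' r'⟩

lemma h23_relModMap_imF (x : relMod (adapt P Q)) (hx : x ∈ imF P Q) :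
    (h23 P Q).relModMap x = 0 := by
  induction hx using Submodule.span_induction with
  | mem x hx =>
    obtain ⟨f, rfl⟩ := hx
    exact h23_relModMap_h12 P Q f
  | zero => exact map_zero _
  | add x y _ _ hx hy => rw [map_add, hx, hy, add_zero]
  | smul r x _ hx => rw [LinearMap.map_smulₛₗ, hx, smul_zero]

/-- elements of the kernel of `S → B[Y]` come from the image of `F₁` -/
lemma exists_imF_of_mem_ker (z : (adapt P Q).toExtension.Ring)
    (hz : z ∈ RingHom.ker (h23 P Q).ringHom) :
    ∃ g ∈ imF P Q, jmap (adapt P Q) g = z := by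
  rw [ker_h23_ringHom, Ideal.map] at hz
  induction hz using Submodule.span_induction with
  | mem z hz =>
    obtain ⟨k, hk, rfl⟩ := hz
    have hk' : k ∈ LinearMap.range (jmap P) := by rw [range_jmap]; exact hk
    obtain ⟨f, rfl⟩ := hk'
    exact ⟨(h12 P Q).relModMap f, Submodule.subset_span ⟨f, rfl⟩, (h12 P Q).jmap_relModMap f⟩
  | zero => exact ⟨0, Submodule.zero_mem _, map_zero _⟩
  | add x y _ _ hx hy =>
    obtain ⟨g₁, hg₁, rfl⟩ := hx
    obtain ⟨g₂, hg₂, rfl⟩ := hy
    exact ⟨g₁ + g₂, Submodule.add_mem _ hg₁ hg₂, map_add _ _ _⟩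
  | smul a x _ hx =>
    obtain ⟨g₁, hg₁, rfl⟩ := hx
    exact ⟨a • g₁, Submodule.smul_mem _ _ hg₁, map_smul _ _ _⟩

/-- (A) relations of `Q` lift to relations of the adapted presentation -/
theorem exists_relKer_lift (q₃ : relMod Q) (hq₃ : q₃ ∈ relKer Q) :
    ∃ q' ∈ relKer (adapt P Q), (h23 P Q).relModMap q' = q₃ := by
  obtain ⟨f, rfl⟩ := h23_relModMap_surjective P Q q₃
  have h1 : jmap (adapt P Q) f ∈ RingHom.ker (h23 P Q).ringHom := by
    rw [RingHom.mem_ker, ← (h23 P Q).jmap_relModMap]
    exact hq₃
  obtain ⟨g, hg, hgj⟩ := exists_imF_of_mem_ker P Q _ h1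
  refine ⟨f - g, ?_, ?_⟩
  · show jmap (adapt P Q) (f - g) = 0
    rw [map_sub, hgj, sub_self]
  · rw [map_sub, h23_relModMap_imF P Q g hg, sub_zero]

/-- (C) trivial relations of `Q` lift to trivial relations of the adapted presentation -/
theorem exists_trivRel_lift (y : relMod Q) (hy : y ∈ trivRel Q) :
    ∃ y' ∈ trivRel (adapt P Q), (h23 P Q).relModMap y' = y := by
  induction hy using Submodule.span_induction with
  | mem y hy =>
    obtain ⟨a, b, rfl⟩ := hy
    obtain ⟨a', rfl⟩ := h23_relModMap_surjective P Q a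
    obtain ⟨b', rfl⟩ := h23_relModMap_surjective P Q b
    refine ⟨jmap (adapt P Q) a' • b' - jmap (adapt P Q) b' • a',
      Submodule.subset_span ⟨a', b', rfl⟩, ?_⟩
    rw [map_sub, LinearMap.map_smulₛₗ, LinearMap.map_smulₛₗ, (h23 P Q).jmap_relModMap,
      (h23 P Q).jmap_relModMap]
  | zero => exact ⟨0, Submodule.zero_mem _, map_zero _⟩
  | add x y _ _ hx hy =>
    obtain ⟨x', hx', rfl⟩ := hx
    obtain ⟨y', hy', rfl⟩ := hy
    exact ⟨x' + y', Submodule.add_mem _ hx' hy', map_add _ _ _⟩
  | smul r x _ hx =>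
    obtain ⟨x', hx', rfl⟩ := hx
    obtain ⟨r', rfl⟩ := h23_ringHom_surjective P Q r
    exact ⟨r' • x', Submodule.smul_mem _ _ hx', LinearMap.map_smulₛₗ _ _ _⟩

/-- (B1) the kernel of `F₂' → F₃` -/
theorem mem_sup_of_relModMap_eq_zero (x : relMod (adapt P Q))
    (hx : (h23 P Q).relModMap x = 0) : x ∈ trivRel (adapt P Q) ⊔ imF P Q := by
  classical
  rw [← Finsupp.sum_single x]
  refine Submodule.sum_mem _ fun s _ => ?_
  rcases s with s | s'
  · refine Submodule.mem_sup_right ?_
    have : Finsupp.single (Sum.inl s) (x (Sum.inl s)) =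
        x (Sum.inl s) • (h12 P Q).relModMap (Finsupp.single s 1) := by
      rw [h12_relModMap_single, map_one, Finsupp.smul_single, smul_eq_mul, mul_one]
    rw [this]
    exact Submodule.smul_mem _ _ (Submodule.subset_span ⟨_, rfl⟩)
  · have h1 : x (Sum.inr s') ∈ RingHom.ker (h23 P Q).ringHom := by
      rw [RingHom.mem_ker, ← h23_relModMap_apply, hx, Finsupp.zero_apply]
    obtain ⟨g, hg, hgj⟩ := exists_imF_of_mem_ker P Q _ h1
    have : Finsupp.single (Sum.inr s') (x (Sum.inr s')) =
        (jmap (adapt P Q) g • Finsupp.single (Sum.inr s') 1 -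
          jmap (adapt P Q) (Finsupp.single (Sum.inr s') 1) • g) +
        jmap (adapt P Q) (Finsupp.single (Sum.inr s') 1) • g := by
      rw [sub_add_cancel, hgj, Finsupp.smul_single, smul_eq_mul, mul_one]
    rw [this]
    exact Submodule.add_mem _ (Submodule.mem_sup_left (Submodule.subset_span ⟨_, _, rfl⟩))
      (Submodule.mem_sup_right (Submodule.smul_mem _ _ hg))

lemma trivRel_le_relKer' : trivRel (adapt P Q) ≤ relKer (adapt P Q) := trivRel_le_relKer _

/-- (B) relations of the adapted presentation mapping to zero are, modulo trivial relations,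
combinations of relations of `P` -/
theorem mem_sup_imQ (x : relMod (adapt P Q)) (hxk : x ∈ relKer (adapt P Q))
    (hx : (h23 P Q).relModMap x = 0) : x ∈ trivRel (adapt P Q) ⊔ imQ P Q := by
  have h1 := mem_sup_of_relModMap_eq_zero P Q x hx
  obtain ⟨t, ht, g, hg, rfl⟩ := Submodule.mem_sup.mp h1
  refine Submodule.add_mem _ (Submodule.mem_sup_left ht) (Submodule.mem_sup_right ?_)
  have hgj : jmap (adapt P Q) g = 0 := by
    have h2 : jmap (adapt P Q) (t + g) = 0 := hxk
    have h3 : jmap (adapt P Q) t = 0 := trivRel_le_relKer' P Q ht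
    rw [map_add, h3, zero_add] at h2
    exact h2
  obtain ⟨c, rfl⟩ := (Finsupp.mem_span_range_iff_exists_finsupp).mp hg
  have hc : (c.sum fun f s => s * (h12 P Q).ringHom (jmap P f)) = 0 := by
    rw [← hgj, map_finsuppSum]
    refine Finsupp.sum_congr fun f _ => ?_
    rw [map_smul, smul_eq_mul, (h12 P Q).jmap_relModMap]
  exact flat_span_abstract (R := P.toExtension.Ring) (S := (adapt P Q).toExtension.Ring)
    (h12 P Q).ringHom
    (fun m => (cf (A := A) (ι := ι) (ι' := ι') m :
      (adapt P Q).toExtension.Ring →+ P.toExtension.Ring))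
    (fun m => (Ymon (A := A) (ι := ι) (ι' := ι') m : (adapt P Q).toExtension.Ring))
    (fun s => (sumAlgEquiv A ι' ι (s : MvPolynomial (ι' ⊕ ι) A)).support)
    (fun m s r => by
      rw [h12_ringHom_apply]
      exact cf_mul_rename m s r)
    (fun s T hT => by
      have := eq_sum_Ymon (A := A) (ι := ι) (ι' := ι') s T hT
      refine this.trans (Finset.sum_congr rfl fun m _ => ?_)
      rw [h12_ringHom_apply]
      rfl)
    ((h12 P Q).relModMap : relMod P →+ relMod (adapt P Q))
    (fun r f => by
      show (h12 P Q).relModMap (r • f) = _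
      rw [LinearMap.map_smulₛₗ]
      rfl)
    (jmap P) c hc

end Groth.Agent.Lib.Helper19.Nine
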