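import Groth.Agent.Lib.Helper19NineE
import Groth.Agent.Lib.Helper19KosApi

/-!
# Degree `2` of the short exact sequence of dual complexes for the adapted presentation
-/

set_option autoImplicit false
set_option linter.unusedSectionVars false
set_option linter.style.haveILetI false
universe u v w t w' t' m

open MvPolynomial TensorProduct

namespace Groth.Agent.Lib.Helper19.Nine

open CotT Groth.Agent.Lib.Helper19.Kos

section general

variable {A : Type u} {B : Type v} {ι : Type w} {σ : Type t}
variable {A' : Type*} {B' : Type*} {ι' : Type*} {σ' : Type*}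
variable [CommRing A] [CommRing B] [Algebra A B] [CommRing A'] [CommRing B'] [Algebra A' B']
variable [Algebra A A'] [Algebra B B'] [Algebra A B'] [IsScalarTower A A' B'] [IsScalarTower A B B']
variable {P : Algebra.Presentation A B ι σ} {P' : Algebra.Presentation A' B' ι' σ'}
  (h : PresHom P P')

lemma L2map_mk2 (q : relKer P) :
    h.L2map (mk2 (S := P.toExtension.Ring) (B := B) (f := rel P) q) =
      mk2 (S := P'.toExtension.Ring) (B := B') (f := rel P') (h.relKerMap q) := by
  show h.L2map (Submodule.Quotient.mk ((1 : B) ⊗ₜ q)) = _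
  rw [PresHom.L2map_mk_tmul, map_one]
  rfl

end general

section adapted

variable {A B C : Type u} [CommRing A] [CommRing B] [CommRing C] [Algebra A B] [Algebra B C]
  [Algebra A C] [IsScalarTower A B C]
  {ι : Type w} {σ : Type t} {ι' : Type w'} {σ' : Type t'}
  (P : Algebra.Presentation A B ι σ) (Q : Algebra.Presentation B C ι' σ')
  (M : Type m) [AddCommGroup M] [Module C M] [Module B M] [IsScalarTower B C M]

theorem pull2_h23_injective : Function.Injective ((h23 P Q).pull2 M) := by
  letI modR3 : Module Q.toExtension.Ring M := Module.compHom M (algebraMap Q.toExtension.Ring C)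
  haveI towR3 : IsScalarTower Q.toExtension.Ring C M := IsScalarTower.of_compHom _ C M
  rw [injective_iff_map_eq_zero]
  intro ψ₃ hψ₃
  apply L2_ext (S := Q.toExtension.Ring) (B := C) (f := rel Q)
  intro q₃
  obtain ⟨q', hq', hq'₃⟩ := exists_relKer_lift P Q q₃.1 q₃.2
  have h1 : (h23 P Q).relKerMap ⟨q', hq'⟩ = q₃ := Subtype.ext hq'₃
  rw [at2_apply, ← h1, ← L2map_mk2]
  have h2 := LinearMap.congr_fun hψ₃ (mk2 (S := (adapt P Q).toExtension.Ring) (B := C)
    (f := rel (adapt P Q)) ⟨q', hq'⟩)
  exact h2

theorem pull2_exact (ψ : L2 (adapt P Q) →ₗ[C] M) :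
    (h12 P Q).pull2 M ψ = 0 ↔ ∃ ψ₃, (h23 P Q).pull2 M ψ₃ = ψ := by
  letI modS : Module (adapt P Q).toExtension.Ring M :=
    Module.compHom M (algebraMap (adapt P Q).toExtension.Ring C)
  haveI towS : IsScalarTower (adapt P Q).toExtension.Ring C M := IsScalarTower.of_compHom _ C M
  letI modR3 : Module Q.toExtension.Ring M := Module.compHom M (algebraMap Q.toExtension.Ring C)
  haveI towR3 : IsScalarTower Q.toExtension.Ring C M := IsScalarTower.of_compHom _ C M
  have hsmul : ∀ (s : (adapt P Q).toExtension.Ring) (x : M),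
      (h23 P Q).ringHom s • x = s • x := by
    intro s x
    show algebraMap Q.toExtension.Ring C ((h23 P Q).ringHom s) • x =
      algebraMap (adapt P Q).toExtension.Ring C s • x
    rw [(h23 P Q).algebraMap_ringHom]
    rfl
  constructor
  · intro hψ
    -- the values of `ψ` on relations
    obtain ⟨g'', hg''⟩ : ∃ g'' : relKer (adapt P Q) →ₗ[(adapt P Q).toExtension.Ring] M,
        ∀ q, g'' q = ψ (mk2 (S := (adapt P Q).toExtension.Ring) (B := C)
          (f := rel (adapt P Q)) q) :=
      ⟨at2 (S := (adapt P Q).toExtension.Ring) (B := C) (f := rel (adapt P Q)) ψ, fun q => rfl⟩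
    have h0 : ∀ q₁ : relKer P, g'' ((h12 P Q).relKerMap q₁) = 0 := by
      intro q₁
      rw [hg'', ← L2map_mk2]
      have h2 := LinearMap.congr_fun hψ (mk2 (S := P.toExtension.Ring) (B := B) (f := rel P) q₁)
      rw [PresHom.pull2_apply] at h2
      exact h2
    have htriv : ∀ q : relKer (adapt P Q), (q : relMod (adapt P Q)) ∈ trivRel (adapt P Q) →
        g'' q = 0 := by
      intro q hq
      rw [hg'', mk2_eq_zero_of_mem_F0 (algebraMap_rel (adapt P Q)) q hq]
      exact map_zero ψ
    have hK : ∀ q' : relKer (adapt P Q),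
        (h23 P Q).relModMap (q' : relMod (adapt P Q)) = 0 → g'' q' = 0 := by
      intro q' hq'
      have hmem := mem_sup_imQ P Q q'.1 q'.2 hq'
      have hle : trivRel (adapt P Q) ⊔ imQ P Q ≤
          Submodule.map (relKer (adapt P Q)).subtype (LinearMap.ker g'') := by
        refine sup_le ?_ ?_
        · intro y hy
          exact ⟨⟨y, trivRel_le_relKer' P Q hy⟩, htriv _ hy, rfl⟩
        · refine Submodule.span_le.mpr ?_
          rintro _ ⟨q₁, hq₁, rfl⟩
          exact ⟨(h12 P Q).relKerMap ⟨q₁, hq₁⟩, h0 _, rfl⟩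
      obtain ⟨q'', hq'', hqq⟩ := hle hmem
      have : q'' = q' := Subtype.ext hqq
      rw [← this]
      exact hq''
    have key : ∀ q' q'' : relKer (adapt P Q),
        (h23 P Q).relModMap (q' : relMod (adapt P Q)) =
          (h23 P Q).relModMap (q'' : relMod (adapt P Q)) → g'' q' = g'' q'' := by
      intro q' q'' hqq
      rw [← sub_eq_zero, ← map_sub]
      apply hK
      rw [Submodule.coe_sub, map_sub, hqq, sub_self]
    have hlift : ∀ q₃ : relKer Q, ∃ q' : relKer (adapt P Q),
        (h23 P Q).relModMap (q' : relMod (adapt P Q)) = q₃ := by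
      intro q₃
      obtain ⟨q', hq', hq'₃⟩ := exists_relKer_lift P Q q₃.1 q₃.2
      exact ⟨⟨q', hq'⟩, hq'₃⟩
    choose lift hlift' using hlift
    obtain ⟨g₃, hg₃⟩ : ∃ g₃ : relKer Q →ₗ[Q.toExtension.Ring] M, ∀ q₃, g₃ q₃ = g'' (lift q₃) :=
      ⟨{ toFun := fun q₃ => g'' (lift q₃)
         map_add' := fun q q' => by
          rw [← map_add]
          apply key
          rw [hlift', Submodule.coe_add, Submodule.coe_add (lift q) (lift q'), map_add, hlift',
            hlift']
         map_smul' := fun r q => by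
          obtain ⟨s, rfl⟩ := h23_ringHom_surjective P Q r
          rw [RingHom.id_apply, hsmul, ← map_smul]
          apply key
          rw [hlift', Submodule.coe_smul, Submodule.coe_smul s (lift q), LinearMap.map_smulₛₗ,
            hlift'] }, fun q₃ => rfl⟩
    have hg₃t : ∀ q₃ : relKer Q, (q₃ : relMod Q) ∈ trivRel Q → g₃ q₃ = 0 := by
      intro q₃ hq₃
      obtain ⟨y', hy', hy'₃⟩ := exists_trivRel_lift P Q q₃.1 hq₃
      rw [hg₃, key (lift q₃) ⟨y', trivRel_le_relKer' P Q hy'⟩ (by rw [hlift']; exact hy'₃.symm)]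
      exact htriv _ hy'
    refine ⟨lift2 (S := Q.toExtension.Ring) (B := C) (f := rel Q) g₃ hg₃t, ?_⟩
    apply L2_ext (S := (adapt P Q).toExtension.Ring) (B := C) (f := rel (adapt P Q))
    intro q'
    rw [at2_apply]
    show (lift2 (S := Q.toExtension.Ring) (B := C) (f := rel Q) g₃ hg₃t)
      ((h23 P Q).L2map (mk2 (S := (adapt P Q).toExtension.Ring) (B := C)
          (f := rel (adapt P Q)) q')) = _
    rw [L2map_mk2, ← at2_apply, at2_lift2]
    refine (hg₃ _).trans ((key _ _ ?_).trans (hg'' q'))
    rw [hlift']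
    rfl
  · rintro ⟨ψ₃, rfl⟩
    letI modR1 : Module P.toExtension.Ring M := Module.compHom M (algebraMap P.toExtension.Ring B)
    haveI towR1 : IsScalarTower P.toExtension.Ring B M := IsScalarTower.of_compHom _ B M
    apply L2_ext (S := P.toExtension.Ring) (B := B) (f := rel P)
    intro q₁
    rw [at2_apply]
    show ψ₃ ((h23 P Q).L2map ((h12 P Q).L2map
      (mk2 (S := P.toExtension.Ring) (B := B) (f := rel P) q₁))) = _
    rw [L2map_mk2, L2map_mk2]
    have : (h23 P Q).relKerMap ((h12 P Q).relKerMap q₁) = 0 :=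
      Subtype.ext (h23_relModMap_h12 P Q q₁.1)
    have h0 : ∀ q : relKer Q, q = 0 →
        mk2 (S := Q.toExtension.Ring) (B := C) (f := rel Q) q = 0 := by
      rintro q rfl
      exact mk2_eq_zero_of_mem_F0 (algebraMap_rel Q) 0 (Submodule.zero_mem _)
    refine (congrArg ψ₃ (h0 _ this)).trans ?_
    exact map_zero ψ₃

end adapted

end Groth.Agent.Lib.Helper19.Nine
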