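import Groth.Agent.Lib.Helper19NineA
import Groth.Agent.Lib.Helper19NineC
import Groth.Agent.Lib.Helper19NineF

/-!
# The nine-term sequence for the adapted presentation
-/

set_option autoImplicit false
set_option linter.unusedSectionVars false
set_option linter.style.haveILetI false
universe u v w t w' t' m

open MvPolynomial TensorProduct

namespace Groth.Agent.Lib.Helper19.Nine

open CotT

section general

variable {A : Type u} {B : Type v} {ι : Type w} {σ : Type t}
variable {A' : Type*} {B' : Type*} {ι' : Type*} {σ' : Type*}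
variable [CommRing A] [CommRing B] [Algebra A B] [CommRing A'] [CommRing B'] [Algebra A' B']
variable [Algebra A A'] [Algebra B B'] [Algebra A B'] [IsScalarTower A A' B'] [IsScalarTower A B B']
variable {P : Algebra.Presentation A B ι σ} {P' : Algebra.Presentation A' B' ι' σ'}
  (h : PresHom P P')
  (M' : Type m) [AddCommGroup M'] [Module B' M'] [Module B M'] [IsScalarTower B B' M']

lemma T0pull_coe (x : T0 P' M') : ((h.T0pull M' x : T0 P M') : L0 P →ₗ[B] M') = h.pull0 M' x := rfl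

lemma T1pull_mk (x : cocycles1 P' M') :
    h.T1pull M' (Submodule.Quotient.mk x) = Submodule.Quotient.mk (h.cocycles1Pull M' x) := rfl

lemma T1pull_mk' (x : cocycles1 P' M') (y : cocycles1 P M')
    (hy : (y : L1 P →ₗ[B] M') = h.pull1 M' x) :
    h.T1pull M' (Submodule.Quotient.mk x) = Submodule.Quotient.mk y := by
  rw [T1pull_mk]
  congr 1
  exact Subtype.ext hy.symm

lemma T2pull_mk (x : L2 P' →ₗ[B'] M') :
    h.T2pull M' (Submodule.Quotient.mk x) = Submodule.Quotient.mk (h.pull2 M' x) := rfl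

lemma d2Star_d1Star (P : Algebra.Presentation A B ι σ) (M : Type m) [AddCommGroup M] [Module B M]
    (x : L0 P →ₗ[B] M) : d2Star P M (d1Star P M x) = 0 :=
  LinearMap.congr_fun (d2Star_comp_d1Star P M) x

end general

section adapted

variable {A B C : Type u} [CommRing A] [CommRing B] [CommRing C] [Algebra A B] [Algebra B C]
  [Algebra A C] [IsScalarTower A B C]
  {ι : Type w} {σ : Type t} {ι' : Type w'} {σ' : Type t'}
  (P : Algebra.Presentation A B ι σ) (Q : Algebra.Presentation B C ι' σ')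
  (M : Type m) [AddCommGroup M] [Module C M] [Module B M] [IsScalarTower B C M]

theorem nine_adapt :
    Function.Injective ((h23 P Q).T0pull M) ∧
    Function.Exact ((h23 P Q).T0pull M) ((h12 P Q).T0pull M) ∧
    Function.Exact ((h23 P Q).T1pull M) ((h12 P Q).T1pull M) ∧
    Function.Exact ((h23 P Q).T2pull M) ((h12 P Q).T2pull M) ∧
    ∃ (δ₀ : T0 P M →+ T1 Q M) (δ₁ : T1 P M →+ T2 Q M),
      Function.Exact ((h12 P Q).T0pull M) δ₀ ∧ Function.Exact δ₀ ((h23 P Q).T1pull M) ∧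
      Function.Exact ((h12 P Q).T1pull M) δ₁ ∧ Function.Exact δ₁ ((h23 P Q).T2pull M) := by
  have hX := d2Star_d1Star Q M
  have hY := d2Star_d1Star (adapt P Q) M
  have hZ := d2Star_d1Star P M
  have ha01 : ∀ x, ((h23 P Q).pull1 M).toAddMonoidHom (d1Star Q M x) =
      d1Star (adapt P Q) M (((h23 P Q).pull0 M).toAddMonoidHom x) := (h23 P Q).pull1_d1Star M
  have ha12 : ∀ x, ((h23 P Q).pull2 M).toAddMonoidHom (d2Star Q M x) =
      d2Star (adapt P Q) M (((h23 P Q).pull1 M).toAddMonoidHom x) := (h23 P Q).pull2_d2Star M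
  have hb01 : ∀ x, ((h12 P Q).pull1 M).toAddMonoidHom (d1Star (adapt P Q) M x) =
      d1Star P M (((h12 P Q).pull0 M).toAddMonoidHom x) := (h12 P Q).pull1_d1Star M
  have hb12 : ∀ x, ((h12 P Q).pull2 M).toAddMonoidHom (d2Star (adapt P Q) M x) =
      d2Star P M (((h12 P Q).pull1 M).toAddMonoidHom x) := (h12 P Q).pull2_d2Star M
  have ia0 : Function.Injective ((h23 P Q).pull0 M).toAddMonoidHom := pull0_h23_injective P Q M
  have ia1 : Function.Injective ((h23 P Q).pull1 M).toAddMonoidHom := pull1_h23_injective P Q M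
  have ia2 : Function.Injective ((h23 P Q).pull2 M).toAddMonoidHom := pull2_h23_injective P Q M
  have ex0 : ∀ y, ((h12 P Q).pull0 M).toAddMonoidHom y = 0 ↔
      ∃ x, ((h23 P Q).pull0 M).toAddMonoidHom x = y := pull0_exact P Q M
  have ex1 : ∀ y, ((h12 P Q).pull1 M).toAddMonoidHom y = 0 ↔
      ∃ x, ((h23 P Q).pull1 M).toAddMonoidHom x = y := pull1_exact P Q M
  have ex2 : ∀ y, ((h12 P Q).pull2 M).toAddMonoidHom y = 0 ↔
      ∃ x, ((h23 P Q).pull2 M).toAddMonoidHom x = y := pull2_exact P Q M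
  have sb0 : Function.Surjective ((h12 P Q).pull0 M).toAddMonoidHom := pull0_h12_surjective P Q M
  have sb1 : Function.Surjective ((h12 P Q).pull1 M).toAddMonoidHom := pull1_h12_surjective P Q M
  have sα0 := T0pull_coe (h23 P Q) M
  have sα1 := T1pull_mk' (h23 P Q) M
  have sα2 := T2pull_mk (h23 P Q) M
  have sβ0 := T0pull_coe (h12 P Q) M
  have sβ1 := T1pull_mk' (h12 P Q) M
  have sβ2 := T2pull_mk (h12 P Q) M
  refine ⟨?_, ?_, ?_, ?_, ?_⟩
  · exact α0_injective (d1Star Q M) (d1Star (adapt P Q) M) _ ia0 ((h23 P Q).T0pull M) sα0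
  · exact exact_α0_β0 (d1Star Q M) (d1Star (adapt P Q) M) (d1Star P M) _ _ _ ha01 ia1 ex0
      ((h23 P Q).T0pull M) ((h12 P Q).T0pull M) sα0 sβ0
  · exact exact_α1_β1 (d1Star Q M) (d2Star Q M) (d1Star (adapt P Q) M) (d2Star (adapt P Q) M)
      (d1Star P M) (d2Star P M) hY _ _ _ _ _ ha12 hb01 hb12 ia2 ex1 sb0
      ((h23 P Q).T1pull M) ((h12 P Q).T1pull M) sα1 sβ1
  · exact exact_α2_β2 (d2Star Q M) (d2Star (adapt P Q) M) (d2Star P M) _ _ _ _ ha12 hb12 ex2 sb1
      ((h23 P Q).T2pull M) ((h12 P Q).T2pull M) sα2 sβ2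
  · obtain ⟨δ₀, h1, h2⟩ := exists_δ0 (d1Star Q M) (d2Star Q M) (d1Star (adapt P Q) M)
      (d2Star (adapt P Q) M) (d1Star P M) (d2Star P M) hY hZ _ _ _ _ _ ha01 ha12 hb01 ia1 ia2 ex0
      ex1 sb0 ((h23 P Q).T1pull M) ((h12 P Q).T0pull M) sα1 sβ0
    obtain ⟨δ₁, h3, h4⟩ := exists_δ1 (dX1 := d2Star Q M) (dY0 := d1Star (adapt P Q) M)
      (dY1 := d2Star (adapt P Q) M) (dZ0 := d1Star P M) (dZ1 := d2Star P M) hY hZ _ _ _ _ _ ha12
      hb01 hb12 ia2 ex1 ex2 sb0 sb1 ((h23 P Q).T2pull M) ((h12 P Q).T1pull M) sα2 sβ1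
    exact ⟨δ₀, δ₁, h1, h2, h3, h4⟩

end adapted

end Groth.Agent.Lib.Helper19.Nine
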