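import Groth.Agent.Lib.Helper19NineG

/-!
# Composition of morphisms of presentations: the induced maps on `Tⁱ` compose
-/

set_option autoImplicit false
set_option linter.unusedSectionVars false
set_option linter.style.haveILetI false
universe m

open MvPolynomial TensorProduct

namespace Groth.Agent.Lib.Helper19.Nine

open CotT Groth.Agent.Lib.Helper19.Kos

section comp

variable {A₁ B₁ A₂ B₂ A₃ B₃ : Type*} {ι₁ σ₁ ι₂ σ₂ ι₃ σ₃ : Type*}
  [CommRing A₁] [CommRing B₁] [Algebra A₁ B₁] [CommRing A₂] [CommRing B₂] [Algebra A₂ B₂]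
  [CommRing A₃] [CommRing B₃] [Algebra A₃ B₃]
  [Algebra A₁ A₂] [Algebra B₁ B₂] [Algebra A₁ B₂] [IsScalarTower A₁ A₂ B₂] [IsScalarTower A₁ B₁ B₂]
  [Algebra A₂ A₃] [Algebra B₂ B₃] [Algebra A₂ B₃] [IsScalarTower A₂ A₃ B₃] [IsScalarTower A₂ B₂ B₃]
  [Algebra A₁ A₃] [Algebra B₁ B₃] [Algebra A₁ B₃] [IsScalarTower A₁ A₃ B₃] [IsScalarTower A₁ B₁ B₃]
  [IsScalarTower B₁ B₂ B₃]
  {P₁ : Algebra.Presentation A₁ B₁ ι₁ σ₁} {P₂ : Algebra.Presentation A₂ B₂ ι₂ σ₂}
  {P₃ : Algebra.Presentation A₃ B₃ ι₃ σ₃}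
  (h : PresHom P₁ P₃) (h₁ : PresHom P₁ P₂) (h₂ : PresHom P₂ P₃)
  (hR : ∀ x, h.ringHom x = h₂.ringHom (h₁.ringHom x))
  (hV : ∀ s, h.relVal s = h₂.relModMap (h₁.relVal s))

include hR hV in
lemma relModMap_comp (f : relMod P₁) : h.relModMap f = h₂.relModMap (h₁.relModMap f) := by
  induction f using Finsupp.induction_linear with
  | zero => rw [map_zero, map_zero, map_zero]
  | add x y hx hy => rw [map_add, map_add, map_add, hx, hy]
  | single s r =>
    rw [PresHom.relModMap_single, PresHom.relModMap_single, LinearMap.map_smulₛₗ, hR, hV]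

include hR hV in
lemma L1map_comp (x : L1 P₁) : h.L1map x = h₂.L1map (h₁.L1map x) := by
  induction x using TensorProduct.induction_on with
  | zero => rw [map_zero, map_zero, map_zero]
  | add x y hx hy => rw [map_add, map_add, map_add, hx, hy]
  | tmul b f =>
    rw [PresHom.L1map_tmul, PresHom.L1map_tmul, PresHom.L1map_tmul,
      relModMap_comp h h₁ h₂ hR hV, ← IsScalarTower.algebraMap_apply]

include hR hV in
lemma L2map_comp (x : L2 P₁) : h.L2map x = h₂.L2map (h₁.L2map x) := by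
  induction x using Submodule.Quotient.induction_on with
  | H z =>
    induction z using TensorProduct.induction_on with
    | zero => simp
    | add x y hx hy =>
      rw [Submodule.Quotient.mk_add, map_add, map_add, map_add, hx, hy]
    | tmul b q =>
      rw [PresHom.L2map_mk_tmul, PresHom.L2map_mk_tmul, PresHom.L2map_mk_tmul,
        ← IsScalarTower.algebraMap_apply]
      congr 2
      exact Subtype.ext (relModMap_comp h h₁ h₂ hR hV q)

lemma L0map_tmul_D {A : Type*} {B : Type*} {ι : Type*} {σ : Type*}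
    {A' : Type*} {B' : Type*} {ι' : Type*} {σ' : Type*}
    [CommRing A] [CommRing B] [Algebra A B] [CommRing A'] [CommRing B'] [Algebra A' B']
    [Algebra A A'] [Algebra B B'] [Algebra A B'] [IsScalarTower A A' B'] [IsScalarTower A B B']
    {P : Algebra.Presentation A B ι σ} {P' : Algebra.Presentation A' B' ι' σ'}
    (h : PresHom P P') (b : B) (r : P.toExtension.Ring) :
    h.L0map (b ⊗ₜ KaehlerDifferential.D A P.toExtension.Ring r) =
      algebraMap B B' b ⊗ₜ KaehlerDifferential.D A' P'.toExtension.Ring (h.ringHom r) := by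
  rw [PresHom.L0map_apply]
  exact Algebra.Extension.CotangentSpace.map_tmul h.hom.toExtensionHom b r

include hR in
lemma L0map_comp_basis (i : ι₁) :
    h.L0map (P₁.cotangentSpaceBasis i) = h₂.L0map (h₁.L0map (P₁.cotangentSpaceBasis i)) := by
  rw [Algebra.Generators.cotangentSpaceBasis_apply]
  refine (L0map_tmul_D h 1 (X i : P₁.toExtension.Ring)).trans ?_
  refine Eq.trans ?_ (congrArg h₂.L0map (L0map_tmul_D h₁ 1 (X i : P₁.toExtension.Ring)).symm)
  refine Eq.trans ?_ (L0map_tmul_D h₂ _ _).symm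
  rw [hR, ← IsScalarTower.algebraMap_apply]

variable (M : Type m) [AddCommGroup M] [Module B₃ M] [Module B₂ M] [Module B₁ M]
  [IsScalarTower B₂ B₃ M] [IsScalarTower B₁ B₂ M] [IsScalarTower B₁ B₃ M]

include hR in
theorem pull0_comp (ψ : L0 P₃ →ₗ[B₃] M) : h.pull0 M ψ = h₁.pull0 M (h₂.pull0 M ψ) := by
  refine (P₁.cotangentSpaceBasis).ext fun i => ?_
  show ψ (h.L0map _) = ψ (h₂.L0map (h₁.L0map _))
  rw [L0map_comp_basis h h₁ h₂ hR]

include hR hV in
theorem pull1_comp (ψ : L1 P₃ →ₗ[B₃] M) : h.pull1 M ψ = h₁.pull1 M (h₂.pull1 M ψ) := by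
  refine LinearMap.ext fun x => ?_
  show ψ (h.L1map _) = ψ (h₂.L1map (h₁.L1map _))
  rw [L1map_comp h h₁ h₂ hR hV]

include hR hV in
theorem pull2_comp (ψ : L2 P₃ →ₗ[B₃] M) : h.pull2 M ψ = h₁.pull2 M (h₂.pull2 M ψ) := by
  refine LinearMap.ext fun x => ?_
  show ψ (h.L2map _) = ψ (h₂.L2map (h₁.L2map _))
  rw [L2map_comp h h₁ h₂ hR hV]

include hR in
theorem T0pull_comp (x : T0 P₃ M) : h.T0pull M x = h₁.T0pull M (h₂.T0pull M x) :=
  Subtype.ext (pull0_comp h h₁ h₂ hR M x)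

include hR hV in
theorem T1pull_comp (x : T1 P₃ M) : h.T1pull M x = h₁.T1pull M (h₂.T1pull M x) := by
  obtain ⟨c, rfl⟩ := Submodule.Quotient.mk_surjective _ x
  rw [T1pull_mk, T1pull_mk, T1pull_mk]
  congr 1
  exact Subtype.ext (pull1_comp h h₁ h₂ hR hV M c)

include hR hV in
theorem T2pull_comp (x : T2 P₃ M) : h.T2pull M x = h₁.T2pull M (h₂.T2pull M x) := by
  obtain ⟨ψ, rfl⟩ := Submodule.Quotient.mk_surjective _ x
  rw [T2pull_mk, T2pull_mk, T2pull_mk, pull2_comp h h₁ h₂ hR hV M ψ]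

end comp

end Groth.Agent.Lib.Helper19.Nine
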