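import Groth.Agent.Lib.Helper19NineH
import Groth.Agent.Lib.Helper19CotTIndep

/-!
# Morphisms of presentations of one algebra: the maps on `T⁰`, `T¹` are mutually inverse
-/

set_option autoImplicit false
set_option linter.unusedSectionVars false
set_option linter.style.haveILetI false
universe u w m

open MvPolynomial TensorProduct

namespace Groth.Agent.Lib.Helper19.Nine

open CotT Groth.Agent.Lib.Helper19.Kos Groth.Agent.Lib.Helper19.CotTIndep

variable {A B : Type u} [CommRing A] [CommRing B] [Algebra A B] {ι σ ι' σ' : Type w}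
  {P : Algebra.Presentation A B ι σ} {P' : Algebra.Presentation A B ι' σ'}
  (h : PresHom P P') (g : PresHom P' P)
  (M : Type m) [AddCommGroup M] [Module B M]

section T0

variable [Module A M] [IsScalarTower A B M]

lemma T0pull_derToT0 (D : Derivation A B M) :
    h.T0pull M (derToT0 P' M D) = derToT0 P M D := by
  refine Subtype.ext ((P.cotangentSpaceBasis).ext fun i => ?_)
  show derLift P' M D (h.L0map (P.cotangentSpaceBasis i)) = derLift P M D (P.cotangentSpaceBasis i)
  rw [L0map_basis, derLift_basis, derLift_tmul_D, one_smul, algebraMap_toExtension]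
  exact congrArg D (h.hom.aeval_val i)

end T0

theorem T0pull_T0pull (x : T0 P M) : h.T0pull M (g.T0pull M x) = x := by
  letI : Module A M := Module.compHom M (algebraMap A B)
  haveI : IsScalarTower A B M := IsScalarTower.of_compHom A B M
  obtain ⟨D, rfl⟩ := (Groth.Agent.S12286.result A B ι σ P M).2 x
  rw [T0pull_derToT0, T0pull_derToT0]

lemma T1pull_homToT1 (φ : P'.toExtension.Cotangent →ₗ[B] M) :
    h.T1pull M (homToT1 P' M φ) =
      homToT1 P M (φ ∘ₗ Algebra.Extension.Cotangent.map h.hom.toExtensionHom) := by
  show h.T1pull M (Submodule.Quotient.mk _) = Submodule.Quotient.mk _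
  rw [T1pull_mk]
  congr 1
  apply Subtype.ext
  refine LinearMap.ext fun y => ?_
  show φ (toCot P' (h.L1map y)) = φ (Algebra.Extension.Cotangent.map h.hom.toExtensionHom (toCot P y))
  rw [PresHom.toCot_L1map, PresHom.cotMap_apply]

theorem T1pull_T1pull (x : T1 P M) : h.T1pull M (g.T1pull M x) = x := by
  have hS := Groth.Agent.S12289.result A B ι σ P M
  obtain ⟨φ, rfl⟩ := hS.2.2 x
  rw [T1pull_homToT1, T1pull_homToT1, ← sub_eq_zero, ← map_sub, ← LinearMap.mem_ker, hS.2.1]
  have key := C1map_comp (M := M) h.hom.toExtensionHom g.hom.toExtensionHom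
    (Submodule.Quotient.mk φ)
  rw [C1map_mk, C1map_mk, Submodule.Quotient.eq] at key
  exact key

end Groth.Agent.Lib.Helper19.Nine
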