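import Groth.Agent.Lib.Helper19NineI
import Groth.Agent.Lib.Helper19KosInv

/-!
# Morphisms of presentations of one algebra: the map on `T²` is the abstract pull-back
-/

set_option autoImplicit false
set_option linter.unusedSectionVars false
set_option linter.style.haveILetI false
universe u u' v w t t' m

open MvPolynomial TensorProduct

namespace Groth.Agent.Lib.Helper19.Nine

open CotT Groth.Agent.Lib.Helper19.Kos

section kos

variable {S : Type u} {S' : Type u'} {B : Type v} [CommRing S] [CommRing S'] [CommRing B]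
  [Algebra S B] [Algebra S' B] [Algebra S S'] [IsScalarTower S S' B]
  {σ : Type t} {σ' : Type t'} {f : σ → S} {f' : σ' → S'}
  (hf : ∀ s, algebraMap S B (f s) = 0) (hf' : ∀ s, algebraMap S' B (f' s) = 0)
  (r : S' →ₐ[S] S) (hr : ∀ x, algebraMap S B (r x) = algebraMap S' B x)
  {v : σ → (σ' →₀ S')} (hv : ∀ s, jm S' f' (v s) = algebraMap S S' (f s))
  {w : σ' → (σ →₀ S)} (hw : ∀ s, jm S f (w s) = (r : S' →+* S) (f' s))

/-- pulling back along the retraction and then along the inclusion is the identity of `T²` -/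
theorem pull_pull_eq (M : Type m) [AddCommGroup M] [Module B M] (x : T2 S B f hf M) :
    pull (algebraMap S S') v hf hf' hτ_of_tower hv M
      (pull (r : S' →+* S) w hf' hf hr hw M x) = x := by
  letI : Module S M := Module.compHom M (algebraMap S B)
  haveI : IsScalarTower S B M := IsScalarTower.of_compHom S B M
  letI : Module S' M := Module.compHom M (algebraMap S' B)
  haveI : IsScalarTower S' B M := IsScalarTower.of_compHom S' B M
  obtain ⟨ψ, rfl⟩ := Submodule.Quotient.mk_surjective _ x
  rw [pull_mk, pull_mk, Submodule.Quotient.eq, mem_range_lcomp_d2_iff]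
  obtain ⟨G, hG⟩ := exists_extend_sub (μ (v := v) (w := w) r) (jm_μ r hv hw) (at2 ψ)
  refine ⟨G, fun q => ?_⟩
  have hq : μ (v := v) (w := w) r q ∈ Q S f := by
    rw [mem_Q, jm_μ r hv hw]; exact q.2
  have e1 : at2 ((ψ ∘ₗ Λ (r : S' →+* S) w hf hr hw) ∘ₗ Λ (algebraMap S S') v hf' hτ_of_tower hv
      - ψ) q =
      at2 ((ψ ∘ₗ Λ (r : S' →+* S) w hf hr hw) ∘ₗ Λ (algebraMap S S') v hf' hτ_of_tower hv) q
        - at2 ψ q := rfl
  rw [hG q hq, e1, at2_comp_Λ, at2_comp_Λ]
  rfl

end kos

section bridge

variable {A : Type u} {B : Type v} [CommRing A] [CommRing B] [Algebra A B]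
  {ι : Type w} {σ : Type t} {ι' : Type u'} {σ' : Type t'}
  {P : Algebra.Presentation A B ι σ} {P' : Algebra.Presentation A B ι' σ'}
  (h : PresHom P P')
  (M : Type m) [AddCommGroup M] [Module B M]

lemma hτ_presHom (x : P.toExtension.Ring) :
    algebraMap P'.toExtension.Ring B (h.ringHom x) = algebraMap P.toExtension.Ring B x :=
  h.algebraMap_ringHom x

lemma hv_presHom (s : σ) :
    jm P'.toExtension.Ring (rel P') (h.relVal s) = h.ringHom (rel P s) :=
  h.jmap_relVal s

lemma pull2_eq_comp_Λ (ψ : L2 P' →ₗ[B] M) :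
    h.pull2 M ψ = ψ ∘ₗ Λ h.ringHom h.relVal (algebraMap_rel P') (hτ_presHom h) (hv_presHom h) := by
  letI : Module P.toExtension.Ring M := Module.compHom M (algebraMap P.toExtension.Ring B)
  haveI : IsScalarTower P.toExtension.Ring B M := IsScalarTower.of_compHom _ B M
  letI : Module P'.toExtension.Ring M := Module.compHom M (algebraMap P'.toExtension.Ring B)
  haveI : IsScalarTower P'.toExtension.Ring B M := IsScalarTower.of_compHom _ B M
  apply L2_ext (S := P.toExtension.Ring) (B := B) (f := rel P)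
  intro q
  refine Eq.trans ?_ (at2_comp_Λ (τ := h.ringHom) (v := h.relVal) (algebraMap_rel P')
    (hτ_presHom h) (hv_presHom h) ψ q).symm
  show ψ (h.L2map (mk2 (S := P.toExtension.Ring) (B := B) (f := rel P) q)) = _
  rw [L2map_mk2]
  rfl

theorem T2pull_eq_pull (x : T2 P' M) :
    h.T2pull M x = pull h.ringHom h.relVal (algebraMap_rel P) (algebraMap_rel P') (hτ_presHom h)
      (hv_presHom h) M x := by
  obtain ⟨ψ, rfl⟩ := Submodule.Quotient.mk_surjective _ x
  rw [T2pull_mk, pull2_eq_comp_Λ]
  rfl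

end bridge

end Groth.Agent.Lib.Helper19.Nine
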