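import Groth.Agent.Lib.Helper19NineJ

/-!
# Comparison of the adapted presentation with the choice-free presentation
-/

set_option autoImplicit false
set_option linter.unusedSectionVars false
set_option linter.style.haveILetI false
universe u w t m

open MvPolynomial TensorProduct

namespace Groth.Agent.Lib.Helper19.Nine

open CotT Groth.Agent.Lib.Helper19.Kos

section toCanon

variable {A B : Type u} [CommRing A] [CommRing B] [Algebra A B] {ι : Type w} {σ : Type t}
  (P : Algebra.Presentation A B ι σ)

lemma toCanon_aux (t : σ) :
    (Algebra.Generators.defaultHom P.toGenerators (canon A B).toGenerators).toExtensionHom.toRingHom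
      (rel P t) ∈ (Algebra.Generators.self A B).ker := by
  have h1 := (P.toGenerators.defaultHom (canon A B).toGenerators).toExtensionHom.algebraMap_toRingHom
    (rel P t)
  rw [algebraMap_rel, map_zero] at h1
  exact h1

/-- the canonical morphism from a presentation to the choice-free presentation -/
noncomputable def toCanon : PresHom P (canon A B) where
  hom := Algebra.Generators.defaultHom _ _
  relVal t := Finsupp.single ⟨_, toCanon_aux P t⟩ 1
  jmap_relVal t := by
    rw [jmap_single, one_mul]
    rfl

lemma toCanon_relVal (t : σ) :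
    (toCanon P).relVal t = Finsupp.single ⟨(toCanon P).ringHom (rel P t), toCanon_aux P t⟩ 1 := rfl

lemma toCanon_ringHom_X (i : ι) :
    (toCanon P).ringHom (X i : MvPolynomial ι A) = (X (P.val i) : MvPolynomial B A) := by
  show (Algebra.Generators.defaultHom P.toGenerators (canon A B).toGenerators).toAlgHom (X i) = _
  rw [Algebra.Generators.Hom.toAlgHom_X]
  rfl

end toCanon

section compare

variable (A B C : Type u) [CommRing A] [CommRing B] [CommRing C] [Algebra A B] [Algebra B C]
  [Algebra A C] [IsScalarTower A B C]

/-- the adapted presentation built from the two choice-free presentations -/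
noncomputable abbrev Pad : Algebra.Presentation A C (C ⊕ B) (CanonRels A B ⊕ CanonRels B C) :=
  adapt (canon A B) (canon B C)

/-- the retraction `adapted → canonical` -/
noncomputable def rr : PresHom (Pad A B C) (canon A C) := toCanon (Pad A B C)

/-! ### `canonHom A B A C = rr ∘ h12` -/

lemma hβ_toAlgHom :
    (canonHom A B A C).hom.toAlgHom =
      (rr A B C).hom.toAlgHom.comp (h12 (canon A B) (canon B C)).hom.toAlgHom := by
  refine MvPolynomial.algHom_ext fun b => ?_
  rw [AlgHom.comp_apply, Algebra.Generators.Hom.toAlgHom_X, Algebra.Generators.Hom.toAlgHom_X]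
  show _ = (rr A B C).hom.toAlgHom (X (Sum.inr b))
  rw [Algebra.Generators.Hom.toAlgHom_X]
  rfl

lemma hβ_ringHom (x : (canon A B).toExtension.Ring) :
    (canonHom A B A C).ringHom x =
      (rr A B C).ringHom ((h12 (canon A B) (canon B C)).ringHom x) :=
  AlgHom.congr_fun (hβ_toAlgHom A B C) x

lemma hβ_relVal (s : CanonRels A B) :
    (canonHom A B A C).relVal s =
      (rr A B C).relModMap ((h12 (canon A B) (canon B C)).relVal s) := by
  show _ = (rr A B C).relModMap (Finsupp.single (Sum.inl s) 1)
  rw [PresHom.relModMap_single, map_one, one_smul]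
  show Finsupp.single _ 1 = Finsupp.single _ 1
  congr 1
  apply Subtype.ext
  show (canonHom A B A C).ringHom (rel (canon A B) s) =
    (rr A B C).ringHom (rel (Pad A B C) (Sum.inl s))
  rw [hβ_ringHom, adapt_rel_inl, h12_ringHom_apply]

/-! ### `canonHom A C B C = h23 ∘ κ` -/

/-- the inclusion of generators `canonical → adapted` -/
noncomputable def κhom :
    Algebra.Generators.Hom (canon A C).toGenerators (Pad A B C).toGenerators where
  val c := (X (Sum.inl c) : MvPolynomial (C ⊕ B) A)
  aeval_val c := by
    rw [aeval_X]; rfl

lemma κhom_toAlgHom : (κhom A B C).toAlgHom = rename Sum.inl := by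
  rw [rename_eq_aeval]; rfl

lemma hα_toAlgHom :
    (canonHom A C B C).hom.toAlgHom =
      (h23 (canon A B) (canon B C)).hom.toAlgHom.comp (κhom A B C).toAlgHom := by
  refine MvPolynomial.algHom_ext fun c => ?_
  rw [AlgHom.comp_apply, Algebra.Generators.Hom.toAlgHom_X, Algebra.Generators.Hom.toAlgHom_X]
  show _ = (h23 (canon A B) (canon B C)).hom.toAlgHom (X (Sum.inl c))
  rw [Algebra.Generators.Hom.toAlgHom_X]
  rfl

lemma sIdx_aux (k : CanonRels A C) :
    (canonHom A C B C).ringHom (rel (canon A C) k) ∈ (Algebra.Generators.self B C).ker := by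
  have h1 := (canonHom A C B C).algebraMap_ringHom (rel (canon A C) k)
  rw [algebraMap_rel, map_zero] at h1
  exact h1

/-- the relation of `canon B C` attached to a relation of `canon A C` -/
noncomputable def sIdx (k : CanonRels A C) : CanonRels B C :=
  ⟨(canonHom A C B C).ringHom (rel (canon A C) k), sIdx_aux A B C k⟩

lemma hα_relVal_eq (k : CanonRels A C) :
    (canonHom A C B C).relVal k = Finsupp.single (sIdx A B C k) 1 := rfl

lemma z_mem (k : CanonRels A C) :
    (κhom A B C).toExtensionHom.toRingHom (rel (canon A C) k) -
      rel (Pad A B C) (Sum.inr (sIdx A B C k)) ∈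
        RingHom.ker (h23 (canon A B) (canon B C)).ringHom := by
  rw [RingHom.mem_ker, map_sub, sub_eq_zero]
  have h1 := (h23 (canon A B) (canon B C)).jmap_relVal (Sum.inr (sIdx A B C k))
  have h2 : (h23 (canon A B) (canon B C)).relVal (Sum.inr (sIdx A B C k)) =
    Finsupp.single (sIdx A B C k) 1 := rfl
  rw [h2, jmap_single, one_mul] at h1
  refine Eq.trans ?_ h1
  exact (AlgHom.congr_fun (hα_toAlgHom A B C) (rel (canon A C) k)).symm

/-- the correction term of `κ` on relations -/
noncomputable def gK (k : CanonRels A C) : relMod (Pad A B C) :=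
  (exists_imF_of_mem_ker (canon A B) (canon B C) _ (z_mem A B C k)).choose

lemma gK_mem (k : CanonRels A C) : gK A B C k ∈ imF (canon A B) (canon B C) :=
  (exists_imF_of_mem_ker (canon A B) (canon B C) _ (z_mem A B C k)).choose_spec.1

lemma jmap_gK (k : CanonRels A C) :
    jmap (Pad A B C) (gK A B C k) =
      (κhom A B C).toExtensionHom.toRingHom (rel (canon A C) k) -
        rel (Pad A B C) (Sum.inr (sIdx A B C k)) :=
  (exists_imF_of_mem_ker (canon A B) (canon B C) _ (z_mem A B C k)).choose_spec.2

/-- the inclusion `canonical → adapted` -/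
noncomputable def κ : PresHom (canon A C) (Pad A B C) where
  hom := κhom A B C
  relVal k := Finsupp.single (Sum.inr (sIdx A B C k)) 1 + gK A B C k
  jmap_relVal k := by
    rw [map_add, jmap_single, one_mul, jmap_gK, add_sub_cancel]

lemma κ_ringHom (x : (canon A C).toExtension.Ring) :
    (κ A B C).ringHom x = rename Sum.inl x :=
  AlgHom.congr_fun (κhom_toAlgHom A B C) x

lemma hα_ringHom (x : (canon A C).toExtension.Ring) :
    (canonHom A C B C).ringHom x =
      (h23 (canon A B) (canon B C)).ringHom ((κ A B C).ringHom x) :=
  AlgHom.congr_fun (hα_toAlgHom A B C) x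

lemma hα_relVal (k : CanonRels A C) :
    (canonHom A C B C).relVal k =
      (h23 (canon A B) (canon B C)).relModMap ((κ A B C).relVal k) := by
  show _ = (h23 (canon A B) (canon B C)).relModMap
    (Finsupp.single (Sum.inr (sIdx A B C k)) 1 + gK A B C k)
  rw [map_add, h23_relModMap_single_inr, map_one,
    h23_relModMap_imF (canon A B) (canon B C) _ (gK_mem A B C k), add_zero, hα_relVal_eq]

end compare

end Groth.Agent.Lib.Helper19.Nine
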