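import Groth.Agent.Lib.Helper19NineK

/-!
# The comparison maps between the adapted and the choice-free presentation are mutually inverse
-/

set_option autoImplicit false
set_option linter.unusedSectionVars false
set_option linter.style.haveILetI false
universe u w t m

open MvPolynomial TensorProduct

namespace Groth.Agent.Lib.Helper19.Nine

open CotT Groth.Agent.Lib.Helper19.Kos

theorem formallySmooth_of_eq_rename_inl {A : Type*} [CommRing A] {ι κ : Type*}
    (φ : MvPolynomial ι A →+* MvPolynomial (ι ⊕ κ) A) (hφ : ∀ p, φ p = rename Sum.inl p) :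
    letI := φ.toAlgebra
    Algebra.FormallySmooth (MvPolynomial ι A) (MvPolynomial (ι ⊕ κ) A) := by
  letI := φ.toAlgebra
  let e₀ : MvPolynomial (ι ⊕ κ) A ≃ₐ[A] MvPolynomial κ (MvPolynomial ι A) :=
    (renameEquiv A (Equiv.sumComm ι κ)).trans (sumAlgEquiv A κ ι)
  have he₀ : ∀ p : MvPolynomial ι A, e₀ (φ p) = C p := by
    intro p
    rw [hφ]
    show sumAlgEquiv A κ ι (rename (Equiv.sumComm ι κ) (rename Sum.inl p)) = C p
    rw [rename_rename]
    have : (⇑(Equiv.sumComm ι κ) ∘ Sum.inl) = Sum.inr := by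
      funext i; rfl
    rw [this]
    exact AlgHom.congr_fun (sumAlgEquiv_comp_rename_inr (R := A) (S₁ := κ) (S₂ := ι)) p
  let e : MvPolynomial (ι ⊕ κ) A ≃ₐ[MvPolynomial ι A] MvPolynomial κ (MvPolynomial ι A) :=
    AlgEquiv.ofRingEquiv (f := e₀.toRingEquiv) (fun p => he₀ p)
  exact Algebra.FormallySmooth.of_equiv e.symm

section compare

variable (A B C : Type u) [CommRing A] [CommRing B] [CommRing C] [Algebra A B] [Algebra B C]
  [Algebra A C] [IsScalarTower A B C]

lemma rr_κ_toAlgHom :
    (rr A B C).hom.toAlgHom.comp (κ A B C).hom.toAlgHom = AlgHom.id A _ := by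
  refine MvPolynomial.algHom_ext fun c => ?_
  rw [AlgHom.comp_apply, Algebra.Generators.Hom.toAlgHom_X]
  show (rr A B C).hom.toAlgHom (X (Sum.inl c)) = _
  rw [Algebra.Generators.Hom.toAlgHom_X]
  rfl

lemma rr_κ_ringHom (x : (canon A C).toExtension.Ring) :
    (rr A B C).ringHom ((κ A B C).ringHom x) = x :=
  AlgHom.congr_fun (rr_κ_toAlgHom A B C) x

variable (M : Type m) [AddCommGroup M] [Module C M]

theorem κ_rr_T0 (y : T0 (canon A C) M) : (κ A B C).T0pull M ((rr A B C).T0pull M y) = y :=
  T0pull_T0pull (κ A B C) (rr A B C) M y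

theorem rr_κ_T0 (y : T0 (Pad A B C) M) : (rr A B C).T0pull M ((κ A B C).T0pull M y) = y :=
  T0pull_T0pull (rr A B C) (κ A B C) M y

theorem κ_rr_T1 (y : T1 (canon A C) M) : (κ A B C).T1pull M ((rr A B C).T1pull M y) = y :=
  T1pull_T1pull (κ A B C) (rr A B C) M y

theorem rr_κ_T1 (y : T1 (Pad A B C) M) : (rr A B C).T1pull M ((κ A B C).T1pull M y) = y :=
  T1pull_T1pull (rr A B C) (κ A B C) M y

theorem κ_rr_T2 (y : T2 (canon A C) M) : (κ A B C).T2pull M ((rr A B C).T2pull M y) = y := by
  letI algSS' : Algebra (canon A C).toExtension.Ring (Pad A B C).toExtension.Ring :=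
    (κ A B C).ringHom.toAlgebra
  haveI tow : IsScalarTower (canon A C).toExtension.Ring (Pad A B C).toExtension.Ring C :=
    IsScalarTower.of_algebraMap_eq (fun x => ((κ A B C).algebraMap_ringHom x).symm)
  let rAlg : (Pad A B C).toExtension.Ring →ₐ[(canon A C).toExtension.Ring]
      (canon A C).toExtension.Ring :=
    { (rr A B C).ringHom with commutes' := fun x => rr_κ_ringHom A B C x }
  rw [T2pull_eq_pull, T2pull_eq_pull]
  exact pull_pull_eq (algebraMap_rel (canon A C)) (algebraMap_rel (Pad A B C)) rAlg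
    (hτ_presHom (rr A B C)) (hv := hv_presHom (κ A B C)) (hw := hv_presHom (rr A B C)) M y

theorem κ_T2pull_injective : Function.Injective ((κ A B C).T2pull M) := by
  letI algSS' : Algebra (canon A C).toExtension.Ring (Pad A B C).toExtension.Ring :=
    (κ A B C).ringHom.toAlgebra
  haveI tow : IsScalarTower (canon A C).toExtension.Ring (Pad A B C).toExtension.Ring C :=
    IsScalarTower.of_algebraMap_eq (fun x => ((κ A B C).algebraMap_ringHom x).symm)
  let rAlg : (Pad A B C).toExtension.Ring →ₐ[(canon A C).toExtension.Ring]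
      (canon A C).toExtension.Ring :=
    { (rr A B C).ringHom with commutes' := fun x => rr_κ_ringHom A B C x }
  haveI fs : Algebra.FormallySmooth (canon A C).toExtension.Ring (Pad A B C).toExtension.Ring :=
    formallySmooth_of_eq_rename_inl (κ A B C).ringHom (κ_ringHom A B C)
  have key := pull_injective (algebraMap_rel (canon A C)) (algebraMap_rel (Pad A B C)) rAlg
    (hτ_presHom (rr A B C)) (hv := hv_presHom (κ A B C)) (hw := hv_presHom (rr A B C))
    (Groth.Agent.Lib.Helper19.CotTIndep.jm_span_of_presentation (Pad A B C)) M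
  intro x y hxy
  apply key
  rw [T2pull_eq_pull, T2pull_eq_pull] at hxy
  exact hxy

theorem rr_κ_T2 (y : T2 (Pad A B C) M) : (rr A B C).T2pull M ((κ A B C).T2pull M y) = y := by
  apply κ_T2pull_injective A B C M
  rw [κ_rr_T2]

end compare

end Groth.Agent.Lib.Helper19.Nine
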