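import Mathlib
import Groth.Agent.Lib.Helper28ComplNagata

/-!
# Successive approximation for the node `uv = α` (helper19)

`D` a complete Noetherian local ring, algebra over `A`, `𝔞 = 𝔪 D` for an ideal `𝔪` of `A`.
If `u v ∈ 𝔞`, `m_D = (u, v) + 𝔞` and `D = A + m_D`, then `u, v` can be corrected modulo `𝔞`
to `u', v'` with `u' v'` the limit of a Cauchy sequence from `𝔪`.
-/

set_option autoImplicit false
universe u v

open IsLocalRing

namespace Groth.Agent.Lib.Helper19.NodeApprox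

variable {A : Type u} {D : Type v} [CommRing A] [CommRing D] [Algebra A D] [IsLocalRing D]
  (𝔪 : Ideal A) (u v : D)
  (hgen : maximalIdeal D = Ideal.span {u, v} ⊔ 𝔪.map (algebraMap A D))
  (hres : ∀ d : D, ∃ a : A, d - algebraMap A D a ∈ maximalIdeal D)

include hgen hres in
lemma decomp (u' v' : D) (hu' : u' - u ∈ 𝔪.map (algebraMap A D))
    (hv' : v' - v ∈ 𝔪.map (algebraMap A D)) (d : D) :
    ∃ (a : A) (p q r : D), r ∈ 𝔪.map (algebraMap A D) ∧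
      d = algebraMap A D a + u' * p + v' * q + r := by
  obtain ⟨a, ha⟩ := hres d
  rw [hgen] at ha
  obtain ⟨y, hy, r₀, hr₀, hyr⟩ := Submodule.mem_sup.1 ha
  obtain ⟨p, q, hpq⟩ := Ideal.mem_span_pair.1 hy
  refine ⟨a, p, q, r₀ - (u' - u) * p - (v' - v) * q, ?_, ?_⟩
  · exact Ideal.sub_mem _ (Ideal.sub_mem _ hr₀ (Ideal.mul_mem_right _ _ hu'))
      (Ideal.mul_mem_right _ _ hv')
  · have h1 : d = algebraMap A D a + (y + r₀) := by rw [hyr]; ring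
    rw [h1, ← hpq]; ring

include hgen hres in
lemma step (u' v' : D) (hu' : u' - u ∈ 𝔪.map (algebraMap A D))
    (hv' : v' - v ∈ 𝔪.map (algebraMap A D)) (n : ℕ) (ε : D)
    (hε : ε ∈ (𝔪.map (algebraMap A D)) ^ n) :
    ∃ (a : A) (P Q ε' : D), a ∈ 𝔪 ^ n ∧ P ∈ (𝔪.map (algebraMap A D)) ^ n ∧
      Q ∈ (𝔪.map (algebraMap A D)) ^ n ∧ ε' ∈ (𝔪.map (algebraMap A D)) ^ (n + 1) ∧
      ε = algebraMap A D a + u' * P + v' * Q + ε' := by
  set 𝔞 : Ideal D := 𝔪.map (algebraMap A D) with h𝔞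
  let T : Ideal D :=
    { carrier := {ε | ∃ (a : A) (P Q ε' : D), a ∈ 𝔪 ^ n ∧ P ∈ 𝔞 ^ n ∧ Q ∈ 𝔞 ^ n ∧
        ε' ∈ 𝔞 ^ (n + 1) ∧ ε = algebraMap A D a + u' * P + v' * Q + ε'}
      add_mem' := by
        rintro _ _ ⟨a, P, Q, ε', ha, hP, hQ, hε', rfl⟩ ⟨a₂, P₂, Q₂, ε₂, ha₂, hP₂, hQ₂, hε₂, rfl⟩
        refine ⟨a + a₂, P + P₂, Q + Q₂, ε' + ε₂, Ideal.add_mem _ ha ha₂, Ideal.add_mem _ hP hP₂,
          Ideal.add_mem _ hQ hQ₂, Ideal.add_mem _ hε' hε₂, ?_⟩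
        rw [map_add]; ring
      zero_mem' := ⟨0, 0, 0, 0, Ideal.zero_mem _, Ideal.zero_mem _, Ideal.zero_mem _,
        Ideal.zero_mem _, by rw [map_zero]; ring⟩
      smul_mem' := by
        rintro d _ ⟨a, P, Q, ε', ha, hP, hQ, hε', rfl⟩
        obtain ⟨b, p, q, r, hr, hd⟩ := decomp 𝔪 u v hgen hres u' v' hu' hv' d
        have hamap : algebraMap A D a ∈ 𝔞 ^ n := by
          rw [h𝔞, ← Ideal.map_pow]; exact Ideal.mem_map_of_mem _ ha
        refine ⟨b * a, p * algebraMap A D a + d * P, q * algebraMap A D a + d * Q,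
          r * algebraMap A D a + d * ε', Ideal.mul_mem_left _ _ ha, ?_, ?_, ?_, ?_⟩
        · exact Ideal.add_mem _ (Ideal.mul_mem_left _ _ hamap) (Ideal.mul_mem_left _ _ hP)
        · exact Ideal.add_mem _ (Ideal.mul_mem_left _ _ hamap) (Ideal.mul_mem_left _ _ hQ)
        · refine Ideal.add_mem _ ?_ (Ideal.mul_mem_left _ _ hε')
          rw [pow_succ']
          exact Ideal.mul_mem_mul hr hamap
        · rw [smul_eq_mul, map_mul]
          linear_combination (algebraMap A D a) * hd }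
  have hle : 𝔞 ^ n ≤ T := by
    rw [h𝔞, ← Ideal.map_pow, Ideal.map_le_iff_le_comap]
    intro a ha
    exact ⟨a, 0, 0, 0, ha, Ideal.zero_mem _, Ideal.zero_mem _, Ideal.zero_mem _, by ring⟩
  exact hle hε

include hgen hres in
theorem exists_approx [IsNoetherianRing D] [IsAdicComplete (maximalIdeal D) D]
    (huv : u * v ∈ 𝔪.map (algebraMap A D)) :
    ∃ (u' v' : D) (α : ℕ → A), (∀ n, α n ∈ 𝔪) ∧ (∀ n, α (n + 1) - α n ∈ 𝔪 ^ (n + 1)) ∧
      u' - u ∈ 𝔪.map (algebraMap A D) ∧ v' - v ∈ 𝔪.map (algebraMap A D) ∧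
      ∀ n, u' * v' - algebraMap A D (α n) ∈ (𝔪.map (algebraMap A D)) ^ (n + 1) := by
  set 𝔞 : Ideal D := 𝔪.map (algebraMap A D) with h𝔞
  have h𝔞le : 𝔞 ≤ maximalIdeal D := by rw [hgen]; exact le_sup_right
  haveI : IsAdicComplete 𝔞 D := Groth.Agent.Lib.Helper28.isAdicComplete_of_le (maximalIdeal D) 𝔞 h𝔞le
  -- the invariant
  let Inv : ℕ → D × D × A → Prop := fun n t =>
    t.1 - u ∈ 𝔞 ∧ t.2.1 - v ∈ 𝔞 ∧ t.2.2 ∈ 𝔪 ∧ t.1 * t.2.1 - algebraMap A D t.2.2 ∈ 𝔞 ^ (n + 1)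
  have hstep : ∀ (n : ℕ) (t : D × D × A), Inv n t → ∃ t' : D × D × A, Inv (n + 1) t' ∧
      t'.1 - t.1 ∈ 𝔞 ^ (n + 1) ∧ t'.2.1 - t.2.1 ∈ 𝔞 ^ (n + 1) ∧ t'.2.2 - t.2.2 ∈ 𝔪 ^ (n + 1) := by
    rintro n ⟨un, vn, αn⟩ ⟨h1, h2, h3, h4⟩
    obtain ⟨a, P, Q, ε', ha, hP, hQ, hε', he⟩ := step 𝔪 u v hgen hres un vn h1 h2 (n + 1) _ h4
    have hle1 : 𝔞 ^ (n + 1) ≤ 𝔞 := Ideal.pow_le_self (Nat.succ_ne_zero n)
    refine ⟨(un - Q, vn - P, αn + a), ⟨?_, ?_, ?_, ?_⟩, ?_, ?_, ?_⟩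
    · show un - Q - u ∈ 𝔞
      have : un - Q - u = (un - u) - Q := by ring
      rw [this]; exact Ideal.sub_mem _ h1 (hle1 hQ)
    · show vn - P - v ∈ 𝔞
      have : vn - P - v = (vn - v) - P := by ring
      rw [this]; exact Ideal.sub_mem _ h2 (hle1 hP)
    · exact Ideal.add_mem _ h3 (Ideal.pow_le_self (Nat.succ_ne_zero n) ha)
    · show (un - Q) * (vn - P) - algebraMap A D (αn + a) ∈ 𝔞 ^ (n + 1 + 1)
      have he' : un * vn - algebraMap A D αn = algebraMap A D a + un * P + vn * Q + ε' := he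
      have : (un - Q) * (vn - P) - algebraMap A D (αn + a) = ε' + P * Q := by
        rw [map_add]; linear_combination he'
      rw [this]
      refine Ideal.add_mem _ hε' ?_
      have h5 : P * Q ∈ 𝔞 ^ (n + 1) * 𝔞 ^ (n + 1) := Ideal.mul_mem_mul hP hQ
      rw [← pow_add] at h5
      exact Ideal.pow_le_pow_right (by omega) h5
    · show un - Q - un ∈ _
      rw [sub_sub_cancel_left]; exact neg_mem hQ
    · show vn - P - vn ∈ _
      rw [sub_sub_cancel_left]; exact neg_mem hP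
    · show αn + a - αn ∈ _
      rw [add_sub_cancel_left]; exact ha
  have h0 : Inv 0 (u, v, 0) := by
    refine ⟨?_, ?_, Ideal.zero_mem _, ?_⟩
    · show u - u ∈ 𝔞
      rw [sub_self]; exact Ideal.zero_mem _
    · show v - v ∈ 𝔞
      rw [sub_self]; exact Ideal.zero_mem _
    · show u * v - algebraMap A D 0 ∈ 𝔞 ^ (0 + 1)
      rw [map_zero, sub_zero, zero_add, pow_one]; exact huv
  -- the sequence
  let s : (n : ℕ) → {t : D × D × A // Inv n t} := fun n =>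
    Nat.rec (motive := fun n => {t : D × D × A // Inv n t}) ⟨(u, v, 0), h0⟩
      (fun n t => ⟨(hstep n t.1 t.2).choose, (hstep n t.1 t.2).choose_spec.1⟩) n
  have hs : ∀ n, (s (n + 1)).1.1 - (s n).1.1 ∈ 𝔞 ^ (n + 1) ∧
      (s (n + 1)).1.2.1 - (s n).1.2.1 ∈ 𝔞 ^ (n + 1) ∧
      (s (n + 1)).1.2.2 - (s n).1.2.2 ∈ 𝔪 ^ (n + 1) := fun n =>
    (hstep n (s n).1 (s n).2).choose_spec.2
  -- Cauchy
  have hcauchy : ∀ (f : ℕ → D), (∀ n, f (n + 1) - f n ∈ 𝔞 ^ (n + 1)) →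
      ∀ {m n : ℕ}, m ≤ n → f m ≡ f n [SMOD (𝔞 ^ m • ⊤ : Submodule D D)] := by
    intro f hf m n hmn
    rw [SModEq.sub_mem, smul_eq_mul, Ideal.mul_top]
    induction n, hmn using Nat.le_induction with
    | base => rw [sub_self]; exact Ideal.zero_mem _
    | succ n hmn ih =>
      have : f m - f (n + 1) = (f m - f n) - (f (n + 1) - f n) := by ring
      rw [this]
      exact Ideal.sub_mem _ ih (Ideal.pow_le_pow_right (by omega) (hf n))
  obtain ⟨u', hu'⟩ := IsPrecomplete.prec' (I := 𝔞) (fun n => (s n).1.1)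
    (fun {m n} hmn => hcauchy (fun n => (s n).1.1) (fun n => (hs n).1) hmn)
  obtain ⟨v', hv'⟩ := IsPrecomplete.prec' (I := 𝔞) (fun n => (s n).1.2.1)
    (fun {m n} hmn => hcauchy (fun n => (s n).1.2.1) (fun n => (hs n).2.1) hmn)
  have hu'' : ∀ n, (s n).1.1 - u' ∈ 𝔞 ^ n := fun n => by
    have := hu' n
    rwa [SModEq.sub_mem, smul_eq_mul, Ideal.mul_top] at this
  have hv'' : ∀ n, (s n).1.2.1 - v' ∈ 𝔞 ^ n := fun n => by
    have := hv' n
    rwa [SModEq.sub_mem, smul_eq_mul, Ideal.mul_top] at this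
  refine ⟨u', v', fun n => (s n).1.2.2, fun n => (s n).2.2.2.1, fun n => (hs n).2.2, ?_, ?_, ?_⟩
  · have h1 := hu'' 1
    rw [pow_one] at h1
    have : u' - u = ((s 1).1.1 - u) - ((s 1).1.1 - u') := by ring
    rw [this]; exact Ideal.sub_mem _ (s 1).2.1 h1
  · have h1 := hv'' 1
    rw [pow_one] at h1
    have : v' - v = ((s 1).1.2.1 - v) - ((s 1).1.2.1 - v') := by ring
    rw [this]; exact Ideal.sub_mem _ (s 1).2.2.1 h1
  · intro n
    have h1 := hu'' (n + 1)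
    have h2 := hv'' (n + 1)
    have h3 : (s (n + 1)).1.1 * (s (n + 1)).1.2.1 - algebraMap A D (s (n + 1)).1.2.2 ∈
        𝔞 ^ (n + 1 + 1) := (s (n + 1)).2.2.2.2
    have h4 : algebraMap A D ((s (n + 1)).1.2.2 - (s n).1.2.2) ∈ 𝔞 ^ (n + 1) := by
      rw [h𝔞, ← Ideal.map_pow]; exact Ideal.mem_map_of_mem _ (hs n).2.2
    have : u' * v' - algebraMap A D (s n).1.2.2 =
        ((s (n + 1)).1.1 * (s (n + 1)).1.2.1 - algebraMap A D (s (n + 1)).1.2.2)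
        + algebraMap A D ((s (n + 1)).1.2.2 - (s n).1.2.2)
        - ((s (n + 1)).1.1 - u') * (s (n + 1)).1.2.1 - u' * ((s (n + 1)).1.2.1 - v') := by
      rw [map_sub]; ring
    rw [this]
    refine Ideal.sub_mem _ (Ideal.sub_mem _ (Ideal.add_mem _
      (Ideal.pow_le_pow_right (by omega) h3) h4) (Ideal.mul_mem_right _ _ h1))
      (Ideal.mul_mem_left _ _ h2)

end Groth.Agent.Lib.Helper19.NodeApprox
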