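import Mathlib
import Groth.Agent.Lib.Helper19NodeApproxA
import Groth.Agent.Lib.Helper19ComplFlatMap
import Groth.Agent.Lib.Helper19ComplDim
import Groth.Agent.Lib.Helper19ComplDim2
import Groth.Agent.Lib.Helper19PsLiftComplete
import Groth.Agent.Lib.Helper19FSAdicLocal

/-!
# The node `xy = α` over completions: the surjection (helper19)
-/

set_option autoImplicit false
universe u

open IsLocalRing

namespace Groth.Agent.Lib.Helper19.NodeApprox

lemma cauchy_of_succ {R : Type*} [CommRing R] (I : Ideal R) (f : ℕ → R)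
    (hf : ∀ n, f (n + 1) - f n ∈ I ^ (n + 1)) {m n : ℕ} (hmn : m ≤ n) :
    f m ≡ f n [SMOD (I ^ m • ⊤ : Submodule R R)] := by
  rw [SModEq.sub_mem, smul_eq_mul, Ideal.mul_top]
  induction n, hmn using Nat.le_induction with
  | base => rw [sub_self]; exact Ideal.zero_mem _
  | succ n hmn ih =>
    have : f m - f (n + 1) = (f m - f n) - (f (n + 1) - f n) := by ring
    rw [this]
    exact Ideal.sub_mem _ ih (Ideal.pow_le_pow_right (by omega) (hf n))

section

variable (A B : Type u) [CommRing A] [IsLocalRing A] [IsNoetherianRing A]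
  [CommRing B] [IsLocalRing B] [IsNoetherianRing B] [Algebra A B] [IsLocalHom (algebraMap A B)]

lemma map_maximalIdeal_le : (maximalIdeal A).map (algebraMap A B) ≤ maximalIdeal B :=
  IsLocalRing.map_maximalIdeal_le (algebraMap A B)

/-- the induced map on completions -/
noncomputable def ι : AdicCompletion (maximalIdeal A) A →+* AdicCompletion (maximalIdeal B) B :=
  FSch.complMap (maximalIdeal A) (maximalIdeal B) (algebraMap A B) (map_maximalIdeal_le A B)

lemma evalₐ_ι (n : ℕ) (x : AdicCompletion (maximalIdeal A) A) :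
    AdicCompletion.evalₐ (maximalIdeal B) n (ι A B x) =
      Ideal.quotientMap (maximalIdeal B ^ n) (algebraMap A B)
        (FSch.pow_le_comap_pow_of_map_le _ _ _ (map_maximalIdeal_le A B) n)
        (AdicCompletion.evalₐ (maximalIdeal A) n x) :=
  Groth.Agent.Lib.Helper19.evalₐ_complMap _ _ _ _ n x

lemma ι_algebraMap (a : A) :
    ι A B (algebraMap A (AdicCompletion (maximalIdeal A) A) a) =
      algebraMap A (AdicCompletion (maximalIdeal B) B) a := by
  apply AdicCompletion.ext_evalₐ
  intro n
  rw [evalₐ_ι, AdicCompletion.algebraMap_apply, AdicCompletion.evalₐ_of,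
    AdicCompletion.algebraMap_apply, AdicCompletion.evalₐ_of, Ideal.quotientMap_mk]
  rfl

lemma ι_comp_algebraMap :
    (ι A B).comp (algebraMap A (AdicCompletion (maximalIdeal A) A)) =
      algebraMap A (AdicCompletion (maximalIdeal B) B) :=
  RingHom.ext (ι_algebraMap A B)

lemma map_ι_map (J : Ideal A) :
    Ideal.map (ι A B) (J.map (algebraMap A (AdicCompletion (maximalIdeal A) A))) =
      J.map (algebraMap A (AdicCompletion (maximalIdeal B) B)) := by
  rw [Ideal.map_map, ι_comp_algebraMap]

end

section Main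

variable (A B : Type u) [CommRing A] [IsLocalRing A] [IsNoetherianRing A]
  [CommRing B] [IsLocalRing B] [IsNoetherianRing B] [Algebra A B] [IsLocalHom (algebraMap A B)]

local notation "Â" => AdicCompletion (maximalIdeal A) A
local notation "B̂" => AdicCompletion (maximalIdeal B) B

/-- the data produced by successive approximation -/
theorem exists_node_data
    (hres : Function.Bijective (IsLocalRing.ResidueField.map (algebraMap A B)))
    (u v : B) (huv : u * v ∈ (maximalIdeal A).map (algebraMap A B))
    (hgen : maximalIdeal B = Ideal.span {u, v} ⊔ (maximalIdeal A).map (algebraMap A B)) :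
    ∃ (α : Â) (u' v' : B̂),
      α ∈ (maximalIdeal A).map (algebraMap A Â) ∧
      u' - algebraMap B B̂ u ∈ (maximalIdeal A).map (algebraMap A B̂) ∧
      v' - algebraMap B B̂ v ∈ (maximalIdeal A).map (algebraMap A B̂) ∧
      u' * v' = ι A B α ∧
      maximalIdeal B̂ = Ideal.span {u', v'} ⊔ (maximalIdeal A).map (algebraMap A B̂) ∧
      (∀ d : B̂, ∃ a : A, d - algebraMap A B̂ a ∈ maximalIdeal B̂) := by
  have hAB : algebraMap A B̂ = (algebraMap B B̂).comp (algebraMap A B) := rfl
  have hmD : maximalIdeal B̂ = (maximalIdeal B).map (algebraMap B B̂) :=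
    AdicCompletion.maximalIdeal_eq_map
  set 𝔞 : Ideal B̂ := (maximalIdeal A).map (algebraMap A B̂) with h𝔞
  have h𝔞' : 𝔞 = ((maximalIdeal A).map (algebraMap A B)).map (algebraMap B B̂) := by
    rw [h𝔞, hAB, Ideal.map_map]
  have huvD : algebraMap B B̂ u * algebraMap B B̂ v ∈ 𝔞 := by
    rw [← map_mul, h𝔞']; exact Ideal.mem_map_of_mem _ huv
  have hgenD : maximalIdeal B̂ = Ideal.span {algebraMap B B̂ u, algebraMap B B̂ v} ⊔ 𝔞 := by
    have h1 : (maximalIdeal B).map (algebraMap B B̂) =
        (Ideal.span {u, v} ⊔ (maximalIdeal A).map (algebraMap A B)).map (algebraMap B B̂) :=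
      congrArg (Ideal.map (algebraMap B B̂)) hgen
    rw [hmD, h1, Ideal.map_sup, Ideal.map_span, Set.image_pair, ← h𝔞']
  have hresD : ∀ d : B̂, ∃ a : A, d - algebraMap A B̂ a ∈ maximalIdeal B̂ := by
    intro d
    obtain ⟨b, hb⟩ := Groth.Agent.Lib.Helper19.exists_sub_algebraMap_mem_map B (maximalIdeal B) d
    rw [← hmD] at hb
    obtain ⟨a', ha'⟩ := hres.2 (IsLocalRing.residue B b)
    obtain ⟨a, rfl⟩ := IsLocalRing.residue_surjective a'
    rw [IsLocalRing.ResidueField.map_residue] at ha'
    have h1 : algebraMap A B a - b ∈ maximalIdeal B := by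
      rw [← Ideal.Quotient.eq]; exact ha'
    refine ⟨a, ?_⟩
    have : d - algebraMap A B̂ a = (d - algebraMap B B̂ b) - algebraMap B B̂ (algebraMap A B a - b) := by
      rw [map_sub]; show _ = d - _ - (algebraMap A B̂ a - _); ring
    rw [this]
    refine Ideal.sub_mem _ hb ?_
    rw [hmD]; exact Ideal.mem_map_of_mem _ h1
  obtain ⟨u', v', α, hαm, hαc, hu', hv', happ⟩ :=
    exists_approx (maximalIdeal A) (algebraMap B B̂ u) (algebraMap B B̂ v) hgenD hresD huvD
  -- the limit of `α`
  let αseq : AdicCompletion.AdicCauchySequence (maximalIdeal A) A :=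
    ⟨α, fun {m n} hmn => cauchy_of_succ (maximalIdeal A) α hαc hmn⟩
  let αh : Â := AdicCompletion.mk (maximalIdeal A) A αseq
  have hfgA : (maximalIdeal A).FG := IsNoetherian.noetherian _
  have hαh : ∀ n, αh - algebraMap A Â (α n) ∈ ((maximalIdeal A).map (algebraMap A Â)) ^ n := by
    intro n
    rw [← Ideal.map_pow]
    apply mem_map_pow_of_evalₐ_eq_zero (maximalIdeal A) hfgA
    rw [map_sub, AdicCompletion.evalₐ_mk, AdicCompletion.algebraMap_apply, AdicCompletion.evalₐ_of,
      Algebra.algebraMap_self, RingHom.id_apply]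
    exact sub_self _
  have h𝔞le : 𝔞 ≤ maximalIdeal B̂ := by rw [hgenD]; exact le_sup_right
  haveI : IsAdicComplete 𝔞 B̂ :=
    Groth.Agent.Lib.Helper28.isAdicComplete_of_le (maximalIdeal B̂) 𝔞 h𝔞le
  have hprod : u' * v' = ι A B αh := by
    have hH : IsHausdorff 𝔞 B̂ := inferInstance
    rw [← sub_eq_zero]
    apply hH.haus
    intro n
    rw [SModEq.zero, smul_eq_mul, Ideal.mul_top]
    have h1 : ι A B (αh - algebraMap A Â (α n)) ∈ 𝔞 ^ n := by
      have h2 := Ideal.mem_map_of_mem (ι A B) (hαh n)
      rw [Ideal.map_pow, map_ι_map] at h2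
      exact h2
    have h3 : u' * v' - ι A B αh =
        (u' * v' - algebraMap A B̂ (α n)) - ι A B (αh - algebraMap A Â (α n)) := by
      rw [map_sub, ι_algebraMap]; ring
    rw [h3]
    exact Ideal.sub_mem _ (Ideal.pow_le_pow_right (Nat.le_succ n) (happ n)) h1
  refine ⟨αh, u', v', ?_, hu', hv', hprod, ?_, hresD⟩
  · have h1 := hαh 1
    rw [pow_one] at h1
    have : αh = (αh - algebraMap A Â (α 1)) + algebraMap A Â (α 1) := by ring
    rw [this]
    exact Ideal.add_mem _ h1 (Ideal.mem_map_of_mem _ (hαm 1))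
  · rw [hgenD]
    apply le_antisymm
    · refine sup_le ?_ le_sup_right
      rw [Ideal.span_le]
      rintro x (rfl | rfl)
      · have : algebraMap B B̂ u = u' - (u' - algebraMap B B̂ u) := by ring
        rw [this]
        exact Ideal.sub_mem _ (Ideal.mem_sup_left (Ideal.subset_span (by simp)))
          (Ideal.mem_sup_right hu')
      · have : algebraMap B B̂ v = v' - (v' - algebraMap B B̂ v) := by ring
        rw [this]
        exact Ideal.sub_mem _ (Ideal.mem_sup_left (Ideal.subset_span (by simp)))
          (Ideal.mem_sup_right hv')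
    · refine sup_le ?_ le_sup_right
      rw [Ideal.span_le]
      rintro x hx
      rcases hx with hx | hx
      · rw [hx]
        have : u' = algebraMap B B̂ u + (u' - algebraMap B B̂ u) := by ring
        rw [this]
        exact Ideal.add_mem _ (Ideal.mem_sup_left (Ideal.subset_span (by simp)))
          (Ideal.mem_sup_right hu')
      · rw [Set.mem_singleton_iff.1 hx]
        have : v' = algebraMap B B̂ v + (v' - algebraMap B B̂ v) := by ring
        rw [this]
        exact Ideal.add_mem _ (Ideal.mem_sup_left (Ideal.subset_span (by simp)))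
          (Ideal.mem_sup_right hv')

end Main

end Groth.Agent.Lib.Helper19.NodeApprox
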