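import Mathlib
import Groth.Agent.Lib.Helper19NodeApproxB

/-!
# The node `xy = α` over completions: the map from the power series model (helper19)
-/

set_option autoImplicit false
universe u

open IsLocalRing

namespace Groth.Agent.Lib.Helper19.NodeApprox

section

variable (A B : Type u) [CommRing A] [IsLocalRing A] [IsNoetherianRing A]
  [CommRing B] [IsLocalRing B] [IsNoetherianRing B] [Algebra A B] [IsLocalHom (algebraMap A B)]

local notation "Â" => AdicCompletion (maximalIdeal A) A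
local notation "B̂" => AdicCompletion (maximalIdeal B) B

/-- the model ring `Â[[x,y]]/(xy - α)` -/
abbrev Model (α : Â) : Type u :=
  MvPowerSeries (Fin 2) Â ⧸ Ideal.span
    {(MvPowerSeries.X 0 * MvPowerSeries.X 1 - MvPowerSeries.C α : MvPowerSeries (Fin 2) Â)}

theorem exists_algHom_of_data (α : Â) (u' v' : B̂) (hu' : u' ∈ maximalIdeal B̂)
    (hv' : v' ∈ maximalIdeal B̂) (hprod : u' * v' = ι A B α) :
    ∃ (ψ₀ : MvPowerSeries (Fin 2) Â →+* B̂) (ψ : Model A α →ₐ[A] B̂),
      (∀ g, ψ (Ideal.Quotient.mk _ g) = ψ₀ g) ∧ ψ₀ (MvPowerSeries.X 0) = u' ∧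
      ψ₀ (MvPowerSeries.X 1) = v' ∧ ∀ c : Â, ψ₀ (MvPowerSeries.C c) = ι A B c := by
  letI : Algebra Â B̂ := (ι A B).toAlgebra
  obtain ⟨φ, hφ⟩ := exists_algHom_X_eq_of_isAdicComplete (Λ := Â) (σ := Fin 2) (E := B̂)
    (maximalIdeal B̂) ![u', v'] (by
      intro s
      fin_cases s
      · exact hu'
      · exact hv')
  have hφC : ∀ c : Â, φ (MvPowerSeries.C c) = ι A B c := by
    intro c
    have h1 : (MvPowerSeries.C c : MvPowerSeries (Fin 2) Â) =
        algebraMap Â (MvPowerSeries (Fin 2) Â) c := by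
      rw [MvPowerSeries.algebraMap_apply, Algebra.algebraMap_self, RingHom.id_apply]
    rw [h1, AlgHom.commutes]
    rfl
  have hφ0 : φ (MvPowerSeries.X 0) = u' := hφ 0
  have hφ1 : φ (MvPowerSeries.X 1) = v' := hφ 1
  have hker : ∀ g ∈ Ideal.span
      {(MvPowerSeries.X 0 * MvPowerSeries.X 1 - MvPowerSeries.C α : MvPowerSeries (Fin 2) Â)},
      (φ : MvPowerSeries (Fin 2) Â →+* B̂) g = 0 := by
    intro g hg
    obtain ⟨c, rfl⟩ := Ideal.mem_span_singleton'.1 hg
    show φ (c * (MvPowerSeries.X 0 * MvPowerSeries.X 1 - MvPowerSeries.C α)) = 0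
    rw [map_mul, map_sub, map_mul, hφ0, hφ1, hφC, hprod, sub_self, mul_zero]
  let ψr : Model A α →+* B̂ := Ideal.Quotient.lift _ (φ : MvPowerSeries (Fin 2) Â →+* B̂) hker
  refine ⟨(φ : MvPowerSeries (Fin 2) Â →+* B̂),
    { toRingHom := ψr
      commutes' := fun a => ?_ }, fun g => rfl, hφ0, hφ1, hφC⟩
  have h1 : algebraMap A (Model A α) a =
      Ideal.Quotient.mk _ (MvPowerSeries.C (algebraMap A Â a)) := by
    rw [← MvPowerSeries.algebraMap_apply]
    rfl
  show ψr (algebraMap A (Model A α) a) = _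
  rw [h1]
  show φ (MvPowerSeries.C (algebraMap A Â a)) = _
  rw [hφC, ι_algebraMap]

end

section Surj

variable (A B : Type u) [CommRing A] [IsLocalRing A] [IsNoetherianRing A]
  [CommRing B] [IsLocalRing B] [IsNoetherianRing B] [Algebra A B] [IsLocalHom (algebraMap A B)]

local notation "Â" => AdicCompletion (maximalIdeal A) A
local notation "B̂" => AdicCompletion (maximalIdeal B) B

lemma ι_mem_of_mem_maximalIdeal (c : Â) (hc : c ∈ maximalIdeal Â) :
    ι A B c ∈ (maximalIdeal A).map (algebraMap A B̂) := by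
  rw [AdicCompletion.maximalIdeal_eq_map] at hc
  have := Ideal.mem_map_of_mem (ι A B) hc
  rwa [map_ι_map] at this

theorem surjective_of_data (u' v' : B̂)
    (hgen' : maximalIdeal B̂ = Ideal.span {u', v'} ⊔ (maximalIdeal A).map (algebraMap A B̂))
    (hres' : ∀ d : B̂, ∃ a : A, d - algebraMap A B̂ a ∈ maximalIdeal B̂)
    (ψ₀ : MvPowerSeries (Fin 2) Â →+* B̂) (h0 : ψ₀ (MvPowerSeries.X 0) = u')
    (h1 : ψ₀ (MvPowerSeries.X 1) = v') (hC : ∀ c : Â, ψ₀ (MvPowerSeries.C c) = ι A B c) :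
    Function.Surjective ψ₀ := by
  have h𝔞le : (maximalIdeal A).map (algebraMap A B̂) ≤ maximalIdeal B̂ := by
    rw [hgen']; exact le_sup_right
  have hu'm : u' ∈ maximalIdeal B̂ := by
    rw [hgen']; exact Ideal.mem_sup_left (Ideal.subset_span (by simp))
  have hv'm : v' ∈ maximalIdeal B̂ := by
    rw [hgen']; exact Ideal.mem_sup_left (Ideal.subset_span (by simp))
  have hmC : ∀ g : MvPowerSeries (Fin 2) Â, g ∈ maximalIdeal (MvPowerSeries (Fin 2) Â) ↔
      MvPowerSeries.constantCoeff g ∈ maximalIdeal Â := by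
    intro g
    rw [maximalIdeal_eq_coeffIdeal, mem_coeffIdeal_one]
  have hle : (maximalIdeal (MvPowerSeries (Fin 2) Â)).map ψ₀ ≤ maximalIdeal B̂ := by
    rw [Ideal.map_le_iff_le_comap]
    intro g hg
    rw [Ideal.mem_comap]
    have hg0 := (hmC g).1 hg
    have h2 : g - MvPowerSeries.C (MvPowerSeries.constantCoeff g) ∈ varsIdeal (Fin 2) Â := by
      have := mem_varsIdeal_pow_of_coeff_eq_zero (σ := Fin 2) (Λ := Â) 1
        (g - MvPowerSeries.C (MvPowerSeries.constantCoeff g)) (by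
          intro β hβ
          have hβ0 : β = 0 := (Finsupp.degree_eq_zero_iff β).1 (by omega)
          subst hβ0
          rw [map_sub, MvPowerSeries.coeff_zero_C, MvPowerSeries.coeff_zero_eq_constantCoeff_apply,
            sub_self])
      rwa [pow_one] at this
    have h3 : ψ₀ (g - MvPowerSeries.C (MvPowerSeries.constantCoeff g)) ∈ maximalIdeal B̂ := by
      have h4 : Ideal.map ψ₀ (varsIdeal (Fin 2) Â) ≤ maximalIdeal B̂ := by
        rw [Ideal.map_span, Ideal.span_le]
        rintro _ ⟨_, ⟨s, rfl⟩, rfl⟩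
        fin_cases s
        · show ψ₀ (MvPowerSeries.X 0) ∈ _
          rw [h0]; exact hu'm
        · show ψ₀ (MvPowerSeries.X 1) ∈ _
          rw [h1]; exact hv'm
      exact h4 (Ideal.mem_map_of_mem _ h2)
    have h5 : ψ₀ g = ψ₀ (MvPowerSeries.C (MvPowerSeries.constantCoeff g)) +
        ψ₀ (g - MvPowerSeries.C (MvPowerSeries.constantCoeff g)) := by
      rw [← map_add]; congr 1; ring
    rw [h5, hC]
    exact Ideal.add_mem _ (h𝔞le (ι_mem_of_mem_maximalIdeal A B _ hg0)) h3
  have hge : maximalIdeal B̂ ≤ (maximalIdeal (MvPowerSeries (Fin 2) Â)).map ψ₀ := by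
    rw [hgen']
    refine sup_le ?_ ?_
    · rw [Ideal.span_le]
      rintro x hx
      rcases hx with hx | hx
      · rw [hx, ← h0]
        refine Ideal.mem_map_of_mem _ ((hmC _).2 ?_)
        rw [MvPowerSeries.constantCoeff_X]; exact Ideal.zero_mem _
      · rw [Set.mem_singleton_iff.1 hx, ← h1]
        refine Ideal.mem_map_of_mem _ ((hmC _).2 ?_)
        rw [MvPowerSeries.constantCoeff_X]; exact Ideal.zero_mem _
    · rw [Ideal.map_le_iff_le_comap]
      intro a ha
      rw [Ideal.mem_comap, ← ι_algebraMap, ← hC]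
      refine Ideal.mem_map_of_mem _ ((hmC _).2 ?_)
      rw [MvPowerSeries.constantCoeff_C, AdicCompletion.maximalIdeal_eq_map]
      exact Ideal.mem_map_of_mem _ ha
  have heq : (maximalIdeal (MvPowerSeries (Fin 2) Â)).map ψ₀ = maximalIdeal B̂ :=
    le_antisymm hle hge
  haveI : IsPrecomplete (maximalIdeal (MvPowerSeries (Fin 2) Â)) (MvPowerSeries (Fin 2) Â) :=
    (isAdicComplete_mvPowerSeries (σ := Fin 2) (Λ := Â)).toIsPrecomplete
  haveI : IsHausdorff ((maximalIdeal (MvPowerSeries (Fin 2) Â)).map ψ₀) B̂ := by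
    rw [heq]; infer_instance
  apply surjective_of_mk_map_comp_surjective ψ₀
    (I := maximalIdeal (MvPowerSeries (Fin 2) Â))
  intro y
  obtain ⟨d, rfl⟩ := Ideal.Quotient.mk_surjective y
  obtain ⟨a, ha⟩ := hres' d
  refine ⟨MvPowerSeries.C (algebraMap A Â a), ?_⟩
  rw [RingHom.comp_apply, hC, ι_algebraMap, Ideal.Quotient.eq, heq, ← neg_sub]
  exact neg_mem ha

theorem exists_surjection
    (hres : Function.Bijective (IsLocalRing.ResidueField.map (algebraMap A B)))
    (u v : B) (huv : u * v ∈ (maximalIdeal A).map (algebraMap A B))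
    (hgen : maximalIdeal B = Ideal.span {u, v} ⊔ (maximalIdeal A).map (algebraMap A B)) :
    ∃ (α : Â) (_ : α ∈ (maximalIdeal A).map (algebraMap A Â)) (ψ : Model A α →ₐ[A] B̂),
      Function.Surjective ψ ∧
        ψ (Ideal.Quotient.mk _ (MvPowerSeries.X 0)) - algebraMap B B̂ u ∈
          (maximalIdeal A).map (algebraMap A B̂) ∧
        ψ (Ideal.Quotient.mk _ (MvPowerSeries.X 1)) - algebraMap B B̂ v ∈
          (maximalIdeal A).map (algebraMap A B̂) := by
  obtain ⟨α, u', v', hα, hu', hv', hprod, hgen', hres'⟩ := exists_node_data A B hres u v huv hgen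
  have hu'm : u' ∈ maximalIdeal B̂ := by
    rw [hgen']; exact Ideal.mem_sup_left (Ideal.subset_span (by simp))
  have hv'm : v' ∈ maximalIdeal B̂ := by
    rw [hgen']; exact Ideal.mem_sup_left (Ideal.subset_span (by simp))
  obtain ⟨ψ₀, ψ, hψ, h0, h1, hC⟩ := exists_algHom_of_data A B α u' v' hu'm hv'm hprod
  have hsurj := surjective_of_data A B u' v' hgen' hres' ψ₀ h0 h1 hC
  refine ⟨α, hα, ψ, ?_, ?_, ?_⟩
  · intro d
    obtain ⟨g, hg⟩ := hsurj d
    exact ⟨Ideal.Quotient.mk _ g, (hψ g).trans hg⟩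
  · rw [hψ, h0]; exact hu'
  · rw [hψ, h1]; exact hv'

end Surj

end Groth.Agent.Lib.Helper19.NodeApprox
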