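import Mathlib

/-!
# Generic lemmas for the node isomorphism (helper19)

* `injective_of_surjective_ringEnd`: a surjective endomorphism of a Noetherian ring is injective;
* `ker_map_eq_map_C`: kernel of the coefficientwise map of power series rings (f.g. kernel);
* `injective_of_flat_of_ker_le`: a surjection onto a flat algebra which is injective modulo an ideal
  in the radical is injective.
-/

set_option autoImplicit false
universe u v

namespace Groth.Agent.Lib.Helper19.NodeApprox

theorem injective_of_surjective_ringEnd {R : Type*} [CommRing R] [IsNoetherianRing R]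
    (f : R →+* R) (hf : Function.Surjective f) : Function.Injective f := by
  let K : ℕ →o Ideal R :=
    { toFun := fun n => RingHom.ker (f ^ n)
      monotone' := by
        intro m n hmn x hx
        rw [RingHom.mem_ker] at hx ⊢
        obtain ⟨d, rfl⟩ := Nat.exists_eq_add_of_le hmn
        rw [add_comm, pow_add, RingHom.mul_def, RingHom.comp_apply, hx, map_zero] }
  have hsurj : ∀ n : ℕ, Function.Surjective (f ^ n) := by
    intro n
    induction n with
    | zero => rw [pow_zero]; exact Function.surjective_id
    | succ n ih =>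
      rw [pow_succ, RingHom.mul_def]
      exact ih.comp hf
  obtain ⟨n, hn⟩ := monotone_stabilizes_iff_noetherian.2 (inferInstance : IsNoetherian R R) K
  rw [injective_iff_map_eq_zero]
  intro x hx
  obtain ⟨y, rfl⟩ := hsurj n x
  have h1 : y ∈ K (n + 1) := by
    show y ∈ RingHom.ker (f ^ (n + 1))
    rw [RingHom.mem_ker, pow_succ', RingHom.mul_def, RingHom.comp_apply]
    exact hx
  have h2 : y ∈ K n := by rw [hn (n + 1) (Nat.le_succ n)]; exact h1
  exact h2

theorem ker_map_eq_map_C {σ : Type*} {R R' : Type*} [CommRing R] [CommRing R'] (q : R →+* R')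
    (hfg : (RingHom.ker q).FG) :
    RingHom.ker (MvPowerSeries.map (σ := σ) q) =
      (RingHom.ker q).map (MvPowerSeries.C (σ := σ) (R := R)) := by
  classical
  obtain ⟨l, m, hm0⟩ := Submodule.fg_iff_exists_fin_generating_family.1 hfg
  have hm : Ideal.span (Set.range m) = RingHom.ker q := hm0
  apply le_antisymm
  · intro g hg
    rw [RingHom.mem_ker] at hg
    have h1 : ∀ β : σ →₀ ℕ, ∃ c : Fin l → R, ∑ i, c i * m i = MvPowerSeries.coeff β g := by
      intro β
      have h2 : MvPowerSeries.coeff β g ∈ Ideal.span (Set.range m) := by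
        rw [hm, RingHom.mem_ker, ← MvPowerSeries.coeff_map, hg, map_zero]
      exact (Ideal.mem_span_range_iff_exists_fun).1 h2
    choose c hc using h1
    have h3 : g = ∑ i, MvPowerSeries.C (m i) * (show MvPowerSeries σ R from fun β => c β i) := by
      ext β
      rw [map_sum, ← hc β]
      refine Finset.sum_congr rfl fun i _ => ?_
      rw [MvPowerSeries.coeff_C_mul, mul_comm]
      rfl
    rw [h3]
    refine Ideal.sum_mem _ fun i _ => Ideal.mul_mem_right _ _ (Ideal.mem_map_of_mem _ ?_)
    rw [← hm]; exact Ideal.subset_span ⟨i, rfl⟩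
  · rw [Ideal.map_le_iff_le_comap]
    intro r hr
    rw [Ideal.mem_comap, RingHom.mem_ker, MvPowerSeries.map_C, (RingHom.mem_ker).1 hr, map_zero]

theorem injective_of_flat_of_ker_le {R Q D : Type*} [CommRing R] [CommRing Q] [CommRing D]
    [Algebra R Q] [Algebra R D] [Module.Flat R D] [IsNoetherianRing Q]
    (I : Ideal R) (hI : I.FG) (hjac : I.map (algebraMap R Q) ≤ Ideal.jacobson ⊥)
    (ψ : Q →+* D) (hψ : ∀ r : R, ψ (algebraMap R Q r) = algebraMap R D r)
    (hs : Function.Surjective ψ) (hker : RingHom.ker ψ ≤ I.map (algebraMap R Q)) :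
    Function.Injective ψ := by
  classical
  obtain ⟨l, m, hm0⟩ := Submodule.fg_iff_exists_fin_generating_family.1 hI
  have hm : Ideal.span (Set.range m) = I := hm0
  have hmap : I.map (algebraMap R Q) = Ideal.span (Set.range fun i => algebraMap R Q (m i)) := by
    rw [← hm, Ideal.map_span, ← Set.range_comp]; rfl
  have hsmul : ∀ (r : R) (q : Q), ψ (r • q) = r • ψ q := fun r q => by
    rw [Algebra.smul_def, map_mul, hψ, Algebra.smul_def]
  have key : RingHom.ker ψ ≤ I.map (algebraMap R Q) • RingHom.ker ψ := by
    intro n hn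
    have hn' := hker hn
    rw [hmap] at hn'
    obtain ⟨q, hq⟩ := (Ideal.mem_span_range_iff_exists_fun).1 hn'
    have hrel : ∑ i, m i • ψ (q i) = 0 := by
      have : ψ n = 0 := hn
      rw [← hq, map_sum] at this
      rw [← this]
      refine Finset.sum_congr rfl fun i _ => ?_
      rw [map_mul, hψ, Algebra.smul_def, mul_comm]
    obtain ⟨k, a, y, hxy, hay⟩ := Module.Flat.isTrivialRelation_of_sum_smul_eq_zero (R := R) (M := D)
      (f := m) (x := fun i => ψ (q i)) hrel
    choose y' hy' using fun j => hs (y j)
    have hni : ∀ i, q i - ∑ j, a i j • y' j ∈ RingHom.ker ψ := by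
      intro i
      have hxi : ψ (q i) = ∑ j, a i j • y j := hxy i
      rw [RingHom.mem_ker, map_sub, map_sum, hxi, sub_eq_zero]
      refine Finset.sum_congr rfl fun j _ => ?_
      rw [hsmul, hy']
    have hn2 : n = ∑ i, algebraMap R Q (m i) * (q i - ∑ j, a i j • y' j) := by
      have h0 : ∑ i, algebraMap R Q (m i) * ∑ j, a i j • y' j = 0 := by
        have : ∑ i, algebraMap R Q (m i) * ∑ j, a i j • y' j =
            ∑ j, (∑ i, m i * a i j) • y' j := by
          simp_rw [Finset.mul_sum, Finset.sum_smul]
          rw [Finset.sum_comm]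
          refine Finset.sum_congr rfl fun j _ => Finset.sum_congr rfl fun i _ => ?_
          rw [mul_smul, Algebra.smul_def (m i)]
        rw [this]
        refine Finset.sum_eq_zero fun j _ => ?_
        rw [hay j, zero_smul]
      rw [← hq]
      simp_rw [mul_sub]
      rw [Finset.sum_sub_distrib, h0, sub_zero]
      refine Finset.sum_congr rfl fun i _ => mul_comm _ _
    rw [hn2]
    refine Ideal.sum_mem _ fun i _ => ?_
    rw [smul_eq_mul]
    exact Ideal.mul_mem_mul (Ideal.mem_map_of_mem _ (hm ▸ Ideal.subset_span ⟨i, rfl⟩)) (hni i)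
  have hfgN : (RingHom.ker ψ).FG := IsNoetherian.noetherian _
  have hbot := Submodule.eq_bot_of_le_smul_of_le_jacobson_bot (I.map (algebraMap R Q))
    (RingHom.ker ψ) hfgN key hjac
  exact (RingHom.injective_iff_ker_eq_bot ψ).2 hbot

end Groth.Agent.Lib.Helper19.NodeApprox
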