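import Mathlib
import Groth.Agent.Lib.Helper19NodeApproxC
import Groth.Agent.Lib.Helper19NodeApproxD
import Groth.Agent.Lib.Helper28ComplQuot

/-!
# The node `xy = α` over completions: the isomorphism in the flat case (helper19)
-/

set_option autoImplicit false
universe u

open IsLocalRing

namespace Groth.Agent.Lib.Helper19.NodeApprox

section

variable (A B : Type u) [CommRing A] [IsLocalRing A] [IsNoetherianRing A]
  [CommRing B] [IsLocalRing B] [IsNoetherianRing B] [Algebra A B] [IsLocalHom (algebraMap A B)]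

local notation "Â" => AdicCompletion (maximalIdeal A) A
local notation "B̂" => AdicCompletion (maximalIdeal B) B

lemma map_le_maximalIdeal_compl :
    (maximalIdeal A).map (algebraMap A B̂) ≤ maximalIdeal B̂ := by
  have hAB : algebraMap A B̂ = (algebraMap B B̂).comp (algebraMap A B) := rfl
  rw [hAB, ← Ideal.map_map, AdicCompletion.maximalIdeal_eq_map]
  exact Ideal.map_mono (map_maximalIdeal_le A B)

/-- flatness of the map on completions -/
theorem flat_ι [Module.Flat A B] :
    letI : Algebra Â B̂ := (ι A B).toAlgebra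
    Module.Flat Â B̂ := by
  letI : Algebra Â B̂ := (ι A B).toAlgebra
  haveI : IsScalarTower A Â B̂ := IsScalarTower.of_algebraMap_eq (fun a => (ι_algebraMap A B a).symm)
  haveI : IsScalarTower A B B̂ := IsScalarTower.of_algebraMap_eq (fun a => rfl)
  haveI : Module.Flat A B̂ := Module.Flat.trans A B B̂
  apply flat_of_adic_quotients (P := A) (Q := B̂) (Pc := Â) (Qc := B̂) (maximalIdeal A)
  · intro n x
    exact exists_sub_of_mem_map_pow (maximalIdeal A) (IsNoetherian.noetherian _) n x
  · intro n y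
    refine ⟨y, ?_⟩
    rw [Algebra.algebraMap_self, RingHom.id_apply, sub_self]
    exact Ideal.zero_mem _
  · intro n q hq
    rwa [Algebra.algebraMap_self, RingHom.id_apply] at hq
  · rw [IsLocalRing.jacobson_eq_maximalIdeal ⊥ bot_ne_top]
    exact map_le_maximalIdeal_compl A B

end

/-- two surjections onto the same Noetherian ring with comparable kernels have equal kernels -/
theorem ker_le_of_surjective_of_ker_le {C N : Type*} [CommRing C] [CommRing N] [IsNoetherianRing N]
    (π θ : C →+* N) (hπ : Function.Surjective π) (hθ : Function.Surjective θ)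
    (hle : RingHom.ker π ≤ RingHom.ker θ) : RingHom.ker θ ≤ RingHom.ker π := by
  let θb : N →+* N := π.liftOfRightInverse (Function.surjInv hπ)
    (Function.rightInverse_surjInv hπ) ⟨θ, hle⟩
  have hθb : ∀ x, θb (π x) = θ x := fun x =>
    π.liftOfRightInverse_comp_apply (Function.surjInv hπ) (Function.rightInverse_surjInv hπ)
      ⟨θ, hle⟩ x
  have hsurj : Function.Surjective θb := by
    intro y
    obtain ⟨x, rfl⟩ := hθ y
    exact ⟨π x, hθb x⟩
  have hinj := injective_of_surjective_ringEnd θb hsurj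
  intro x hx
  rw [RingHom.mem_ker] at hx ⊢
  apply hinj
  rw [hθb, hx, map_zero]

section Iso

variable (A B : Type u) [CommRing A] [IsLocalRing A] [IsNoetherianRing A]
  [CommRing B] [IsLocalRing B] [IsNoetherianRing B] [Algebra A B] [IsLocalHom (algebraMap A B)]

local notation "Â" => AdicCompletion (maximalIdeal A) A
local notation "B̂" => AdicCompletion (maximalIdeal B) B

/-- the residue map of the completion -/
noncomputable def ρ : Â →+* ResidueField A :=
  (AdicCompletion.evalOneₐ (maximalIdeal A)).toRingHom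

lemma ρ_algebraMap (a : A) : ρ A (algebraMap A Â a) = residue A a := rfl

lemma ker_ρ : RingHom.ker (ρ A) = (maximalIdeal A).map (algebraMap A Â) :=
  AdicCompletion.ker_evalOneₐ_eq_map (maximalIdeal A) (IsNoetherian.noetherian _)

lemma ρ_surjective : Function.Surjective (ρ A) := by
  intro y
  obtain ⟨a, rfl⟩ := residue_surjective y
  exact ⟨algebraMap A Â a, rfl⟩

/-- the special fibre model `k[[x,y]]/(xy)` -/
abbrev NodeK : Type u :=
  MvPowerSeries (Fin 2) (ResidueField A) ⧸ Ideal.span
    {(MvPowerSeries.X 0 * MvPowerSeries.X 1 : MvPowerSeries (Fin 2) (ResidueField A))}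

/-- the reduction map `Â[[x,y]] → k[[x,y]]/(xy)` -/
noncomputable def πK : MvPowerSeries (Fin 2) Â →+* NodeK A :=
  (Ideal.Quotient.mk _).comp (MvPowerSeries.map (σ := Fin 2) (ρ A))

lemma map_ρ_surjective : Function.Surjective (MvPowerSeries.map (σ := Fin 2) (ρ A)) := by
  intro g
  choose c hc using fun β => ρ_surjective A (MvPowerSeries.coeff β g)
  refine ⟨fun β => c β, ?_⟩
  ext β
  rw [MvPowerSeries.coeff_map]
  exact hc β

lemma πK_surjective : Function.Surjective (πK A) :=
  Ideal.Quotient.mk_surjective.comp (map_ρ_surjective A)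

lemma ker_πK : RingHom.ker (πK A) =
    Ideal.span {(MvPowerSeries.X 0 * MvPowerSeries.X 1 : MvPowerSeries (Fin 2) Â)} ⊔
      (RingHom.ker (ρ A)).map (MvPowerSeries.C (σ := Fin 2) (R := Â)) := by
  have h1 : RingHom.ker (πK A) = Ideal.comap (MvPowerSeries.map (σ := Fin 2) (ρ A))
      (Ideal.span {(MvPowerSeries.X 0 * MvPowerSeries.X 1 :
        MvPowerSeries (Fin 2) (ResidueField A))}) := by
    ext g
    rw [RingHom.mem_ker, Ideal.mem_comap]
    show Ideal.Quotient.mk _ (MvPowerSeries.map (ρ A) g) = 0 ↔ _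
    rw [Ideal.Quotient.eq_zero_iff_mem]
  have h2 : Ideal.span {(MvPowerSeries.X 0 * MvPowerSeries.X 1 :
      MvPowerSeries (Fin 2) (ResidueField A))} =
      Ideal.map (MvPowerSeries.map (σ := Fin 2) (ρ A))
        (Ideal.span {(MvPowerSeries.X 0 * MvPowerSeries.X 1 : MvPowerSeries (Fin 2) Â)}) := by
    rw [Ideal.map_span, Set.image_singleton, map_mul, MvPowerSeries.map_X, MvPowerSeries.map_X]
  rw [h1, h2, Ideal.comap_map_of_surjective _ (map_ρ_surjective A), ← RingHom.ker_eq_comap_bot,
    ker_map_eq_map_C (ρ A) (IsNoetherian.noetherian _)]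

end Iso

section Inj

variable (A B : Type u) [CommRing A] [IsLocalRing A] [IsNoetherianRing A]
  [CommRing B] [IsLocalRing B] [IsNoetherianRing B] [Algebra A B] [IsLocalHom (algebraMap A B)]

local notation "Â" => AdicCompletion (maximalIdeal A) A
local notation "B̂" => AdicCompletion (maximalIdeal B) B

theorem injective_of_fibre [Module.Flat A B] (α : Â)
    (hα : α ∈ (maximalIdeal A).map (algebraMap A Â)) (u' v' : B̂)
    (hprod : u' * v' = ι A B α)
    (ψ₀ : MvPowerSeries (Fin 2) Â →+* B̂) (ψ : Model A α →ₐ[A] B̂)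
    (hψ : ∀ g, ψ (Ideal.Quotient.mk _ g) = ψ₀ g)
    (h0 : ψ₀ (MvPowerSeries.X 0) = u') (h1 : ψ₀ (MvPowerSeries.X 1) = v')
    (hC : ∀ c : Â, ψ₀ (MvPowerSeries.C c) = ι A B c) (hsurj : Function.Surjective ψ₀)
    (ε : (B̂ ⧸ (Ideal.map (algebraMap A B) (maximalIdeal A)).map (algebraMap B B̂)) ≃+* NodeK A)
    (hε : ∀ a : A, ε (Ideal.Quotient.mk _ (algebraMap B B̂ (algebraMap A B a))) =
      Ideal.Quotient.mk _ (MvPowerSeries.C (residue A a))) :
    Function.Injective ψ := by
  have hAB : algebraMap A B̂ = (algebraMap B B̂).comp (algebraMap A B) := rfl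
  have h𝔞 : (maximalIdeal A).map (algebraMap A B̂) = (Ideal.map (algebraMap A B) (maximalIdeal A)).map (algebraMap B B̂) := by
    rw [hAB, Ideal.map_map]
  have hιker : ∀ c : Â, c ∈ RingHom.ker (ρ A) → ι A B c ∈ (Ideal.map (algebraMap A B) (maximalIdeal A)).map (algebraMap B B̂) := by
    intro c hc
    rw [ker_ρ, ← AdicCompletion.maximalIdeal_eq_map] at hc
    rw [← h𝔞]
    exact ι_mem_of_mem_maximalIdeal A B c hc
  -- the map θ
  let θ : MvPowerSeries (Fin 2) Â →+* NodeK A :=
    (ε : _ →+* NodeK A).comp ((Ideal.Quotient.mk ((Ideal.map (algebraMap A B) (maximalIdeal A)).map (algebraMap B B̂))).comp ψ₀)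
  have hθ : ∀ g, θ g = ε (Ideal.Quotient.mk _ (ψ₀ g)) := fun g => rfl
  have hθsurj : Function.Surjective θ :=
    ε.surjective.comp (Ideal.Quotient.mk_surjective.comp hsurj)
  have hθ0 : ∀ g, θ g = 0 ↔ ψ₀ g ∈ (Ideal.map (algebraMap A B) (maximalIdeal A)).map (algebraMap B B̂) := by
    intro g
    rw [hθ, map_eq_zero_iff ε ε.injective, Ideal.Quotient.eq_zero_iff_mem]
  have hle : RingHom.ker (πK A) ≤ RingHom.ker θ := by
    rw [ker_πK]
    refine sup_le ?_ ?_
    · rw [Ideal.span_le]
      rintro _ rfl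
      rw [SetLike.mem_coe, RingHom.mem_ker, hθ0, map_mul, h0, h1, hprod]
      apply hιker
      rw [ker_ρ]; exact hα
    · rw [Ideal.map_le_iff_le_comap]
      intro c hc
      rw [Ideal.mem_comap, RingHom.mem_ker, hθ0, hC]
      exact hιker c hc
  have hge := ker_le_of_surjective_of_ker_le (πK A) θ (πK_surjective A) hθsurj hle
  -- the kernel of ψ
  letI : Algebra Â B̂ := (ι A B).toAlgebra
  haveI : Module.Flat Â B̂ := flat_ι A B
  have hmk : ∀ c : Â, algebraMap Â (Model A α) c =
      Ideal.Quotient.mk _ (MvPowerSeries.C c) := by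
    intro c
    have : (MvPowerSeries.C c : MvPowerSeries (Fin 2) Â) =
        algebraMap Â (MvPowerSeries (Fin 2) Â) c := by
      rw [MvPowerSeries.algebraMap_apply, Algebra.algebraMap_self, RingHom.id_apply]
    rw [this]; rfl
  have hker : RingHom.ker (ψ : Model A α →+* B̂) ≤
      (maximalIdeal Â).map (algebraMap Â (Model A α)) := by
    intro q hq
    obtain ⟨g, rfl⟩ := Ideal.Quotient.mk_surjective q
    have hq' : ψ₀ g = 0 := by
      have : ψ (Ideal.Quotient.mk _ g) = 0 := hq
      rwa [hψ] at this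
    have hg : g ∈ RingHom.ker (πK A) := by
      apply hge
      rw [RingHom.mem_ker, hθ0, hq']
      exact Ideal.zero_mem _
    rw [ker_πK] at hg
    obtain ⟨g₁, hg₁, g₂, hg₂, rfl⟩ := Submodule.mem_sup.1 hg
    rw [map_add]
    refine Ideal.add_mem _ ?_ ?_
    · obtain ⟨h, rfl⟩ := Ideal.mem_span_singleton'.1 hg₁
      rw [map_mul]
      refine Ideal.mul_mem_left _ _ ?_
      have h2 : (Ideal.Quotient.mk (Ideal.span {(MvPowerSeries.X 0 * MvPowerSeries.X 1 -
          MvPowerSeries.C α : MvPowerSeries (Fin 2) Â)})) (MvPowerSeries.X 0 * MvPowerSeries.X 1) =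
          Ideal.Quotient.mk _ (MvPowerSeries.C α) := by
        rw [Ideal.Quotient.eq]
        exact Ideal.subset_span rfl
      rw [h2, ← hmk]
      refine Ideal.mem_map_of_mem _ ?_
      rw [AdicCompletion.maximalIdeal_eq_map]; exact hα
    · have h3 : Ideal.map (Ideal.Quotient.mk (Ideal.span {(MvPowerSeries.X 0 * MvPowerSeries.X 1 -
          MvPowerSeries.C α : MvPowerSeries (Fin 2) Â)}))
          ((RingHom.ker (ρ A)).map (MvPowerSeries.C (σ := Fin 2) (R := Â))) ≤
          (maximalIdeal Â).map (algebraMap Â (Model A α)) := by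
        rw [Ideal.map_map, ker_ρ, ← AdicCompletion.maximalIdeal_eq_map]
        refine le_of_eq ?_
        congr 1
      exact h3 (Ideal.mem_map_of_mem _ hg₂)
  have hjac : (maximalIdeal Â).map (algebraMap Â (Model A α)) ≤ Ideal.jacobson ⊥ := by
    have h4 : (maximalIdeal Â).map (algebraMap Â (Model A α)) ≤
        Ideal.map (Ideal.Quotient.mk (Ideal.span {(MvPowerSeries.X 0 * MvPowerSeries.X 1 -
          MvPowerSeries.C α : MvPowerSeries (Fin 2) Â)}))
          (maximalIdeal (MvPowerSeries (Fin 2) Â)) := by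
      rw [Ideal.map_le_iff_le_comap]
      intro c hc
      rw [Ideal.mem_comap, hmk]
      refine Ideal.mem_map_of_mem _ ?_
      rw [maximalIdeal_eq_coeffIdeal, mem_coeffIdeal_one, MvPowerSeries.constantCoeff_C]
      exact hc
    refine h4.trans ?_
    have h5 := Ideal.map_jacobson_of_surjective (I := RingHom.ker (Ideal.Quotient.mk (Ideal.span
      {(MvPowerSeries.X 0 * MvPowerSeries.X 1 - MvPowerSeries.C α : MvPowerSeries (Fin 2) Â)})))
      (f := Ideal.Quotient.mk (Ideal.span {(MvPowerSeries.X 0 * MvPowerSeries.X 1 -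
        MvPowerSeries.C α : MvPowerSeries (Fin 2) Â)})) Ideal.Quotient.mk_surjective le_rfl
    rw [(Ideal.map_eq_bot_iff_le_ker _).2 le_rfl] at h5
    rw [← h5]
    refine Ideal.map_mono ?_
    have h6 : maximalIdeal (MvPowerSeries (Fin 2) Â) = Ideal.jacobson ⊥ :=
      (IsLocalRing.jacobson_eq_maximalIdeal ⊥ bot_ne_top).symm
    rw [h6]
    exact Ideal.jacobson_mono bot_le
  have := injective_of_flat_of_ker_le (R := Â) (Q := Model A α) (D := B̂) (maximalIdeal Â)
    (IsNoetherian.noetherian _) hjac (ψ : Model A α →+* B̂) (fun c => by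
      rw [hmk]
      show ψ (Ideal.Quotient.mk _ (MvPowerSeries.C c)) = _
      rw [hψ, hC]; rfl)
    (fun d => by
      obtain ⟨g, hg⟩ := hsurj d
      exact ⟨Ideal.Quotient.mk _ g, (hψ g).trans hg⟩) hker
  exact this

end Inj

section Final

variable (A B : Type u) [CommRing A] [IsLocalRing A] [IsNoetherianRing A]
  [CommRing B] [IsLocalRing B] [IsNoetherianRing B] [Algebra A B] [IsLocalHom (algebraMap A B)]

local notation "Â" => AdicCompletion (maximalIdeal A) A
local notation "B̂" => AdicCompletion (maximalIdeal B) B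

theorem exists_iso [Module.Flat A B]
    (hres : Function.Bijective (IsLocalRing.ResidueField.map (algebraMap A B)))
    (u v : B) (huv : u * v ∈ (maximalIdeal A).map (algebraMap A B))
    (hgen : maximalIdeal B = Ideal.span {u, v} ⊔ (maximalIdeal A).map (algebraMap A B))
    (hfib : ∃ e : AdicCompletion ((maximalIdeal B).map (Ideal.Quotient.mk
          ((maximalIdeal A).map (algebraMap A B))))
          (B ⧸ (maximalIdeal A).map (algebraMap A B)) ≃+* NodeK A,
      ∀ a : A, e (algebraMap (B ⧸ (maximalIdeal A).map (algebraMap A B)) _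
          (Ideal.Quotient.mk _ (algebraMap A B a))) =
        Ideal.Quotient.mk _ (MvPowerSeries.C (residue A a))) :
    ∃ (α : Â) (_ : α ∈ (maximalIdeal A).map (algebraMap A Â)) (ψ : Model A α ≃ₐ[A] B̂),
      ψ (Ideal.Quotient.mk _ (MvPowerSeries.X 0)) - algebraMap B B̂ u ∈
          (maximalIdeal A).map (algebraMap A B̂) ∧
        ψ (Ideal.Quotient.mk _ (MvPowerSeries.X 1)) - algebraMap B B̂ v ∈
          (maximalIdeal A).map (algebraMap A B̂) := by
  obtain ⟨α, u', v', hα, hu', hv', hprod, hgen', hres'⟩ := exists_node_data A B hres u v huv hgen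
  have hu'm : u' ∈ maximalIdeal B̂ := by
    rw [hgen']; exact Ideal.mem_sup_left (Ideal.subset_span (by simp))
  have hv'm : v' ∈ maximalIdeal B̂ := by
    rw [hgen']; exact Ideal.mem_sup_left (Ideal.subset_span (by simp))
  obtain ⟨ψ₀, ψ, hψ, h0, h1, hC⟩ := exists_algHom_of_data A B α u' v' hu'm hv'm hprod
  have hsurj := surjective_of_data A B u' v' hgen' hres' ψ₀ h0 h1 hC
  obtain ⟨e, he⟩ := hfib
  obtain ⟨e₁, he₁⟩ := Groth.Agent.Lib.Helper28.exists_ringEquiv_adicCompletion_quotient
    (maximalIdeal B) ((maximalIdeal A).map (algebraMap A B))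
  have hinj := injective_of_fibre A B α hα u' v' hprod ψ₀ ψ hψ h0 h1 hC hsurj (e₁.trans e)
    (fun a => by
      rw [RingEquiv.trans_apply, he₁]
      exact he a)
  have hsurjψ : Function.Surjective ψ := by
    intro d
    obtain ⟨g, hg⟩ := hsurj d
    exact ⟨Ideal.Quotient.mk _ g, (hψ g).trans hg⟩
  refine ⟨α, hα, AlgEquiv.ofBijective ψ ⟨hinj, hsurjψ⟩, ?_, ?_⟩
  · rw [AlgEquiv.ofBijective_apply, hψ, h0]; exact hu'
  · rw [AlgEquiv.ofBijective_apply, hψ, h1]; exact hv'

end Final

end Groth.Agent.Lib.Helper19.NodeApprox
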