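import Mathlib
import Groth.Agent.Lib.Helper19NodeApproxE
import Groth.Agent.Lib.Helper19PsDim

/-!
# The node `xy = α` over completions: from a fibre isomorphism only (helper19)

Generalisation of `NodeApprox.exists_iso`: the elements `u, v` are taken in the completion `B̂`,
and are produced from the isomorphism of the completed fibre with `k[[x,y]]/(xy)`.
-/

set_option autoImplicit false
universe u

open IsLocalRing

namespace Groth.Agent.Lib.Helper19.NodeApprox

section Data

variable (A B : Type u) [CommRing A] [IsLocalRing A] [IsNoetherianRing A]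
  [CommRing B] [IsLocalRing B] [IsNoetherianRing B] [Algebra A B] [IsLocalHom (algebraMap A B)]

local notation "Â" => AdicCompletion (maximalIdeal A) A
local notation "B̂" => AdicCompletion (maximalIdeal B) B

/-- the data produced by successive approximation, starting from elements of the completion -/
theorem exists_node_data' (u v : B̂)
    (huvD : u * v ∈ (maximalIdeal A).map (algebraMap A B̂))
    (hgenD : maximalIdeal B̂ = Ideal.span {u, v} ⊔ (maximalIdeal A).map (algebraMap A B̂))
    (hresD : ∀ d : B̂, ∃ a : A, d - algebraMap A B̂ a ∈ maximalIdeal B̂) :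
    ∃ (α : Â) (u' v' : B̂),
      α ∈ (maximalIdeal A).map (algebraMap A Â) ∧
      u' - u ∈ (maximalIdeal A).map (algebraMap A B̂) ∧
      v' - v ∈ (maximalIdeal A).map (algebraMap A B̂) ∧
      u' * v' = ι A B α ∧
      maximalIdeal B̂ = Ideal.span {u', v'} ⊔ (maximalIdeal A).map (algebraMap A B̂) := by
  set 𝔞 : Ideal B̂ := (maximalIdeal A).map (algebraMap A B̂) with h𝔞
  obtain ⟨u', v', α, hαm, hαc, hu', hv', happ⟩ :=
    exists_approx (maximalIdeal A) u v hgenD hresD huvD
  let αseq : AdicCompletion.AdicCauchySequence (maximalIdeal A) A :=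
    ⟨α, fun {m n} hmn => cauchy_of_succ (maximalIdeal A) α hαc hmn⟩
  let αh : Â := AdicCompletion.mk (maximalIdeal A) A αseq
  have hfgA : (maximalIdeal A).FG := IsNoetherian.noetherian _
  have hαh : ∀ n, αh - algebraMap A Â (α n) ∈ ((maximalIdeal A).map (algebraMap A Â)) ^ n := by
    intro n
    rw [← Ideal.map_pow]
    apply mem_map_pow_of_evalₐ_eq_zero (maximalIdeal A) hfgA
    rw [map_sub, AdicCompletion.evalₐ_mk, AdicCompletion.algebraMap_apply, AdicCompletion.evalₐ_of,
      Algebra.algebraMap_self, RingHom.id_apply]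
    exact sub_self _
  have h𝔞le : 𝔞 ≤ maximalIdeal B̂ := by rw [hgenD]; exact le_sup_right
  haveI : IsAdicComplete 𝔞 B̂ :=
    Groth.Agent.Lib.Helper28.isAdicComplete_of_le (maximalIdeal B̂) 𝔞 h𝔞le
  have hprod : u' * v' = ι A B αh := by
    have hH : IsHausdorff 𝔞 B̂ := inferInstance
    rw [← sub_eq_zero]
    apply hH.haus
    intro n
    rw [SModEq.zero, smul_eq_mul, Ideal.mul_top]
    have h1 : ι A B (αh - algebraMap A Â (α n)) ∈ 𝔞 ^ n := by
      have h2 := Ideal.mem_map_of_mem (ι A B) (hαh n)
      rw [Ideal.map_pow, map_ι_map] at h2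
      exact h2
    have h3 : u' * v' - ι A B αh =
        (u' * v' - algebraMap A B̂ (α n)) - ι A B (αh - algebraMap A Â (α n)) := by
      rw [map_sub, ι_algebraMap]; ring
    rw [h3]
    exact Ideal.sub_mem _ (Ideal.pow_le_pow_right (Nat.le_succ n) (happ n)) h1
  refine ⟨αh, u', v', ?_, hu', hv', hprod, ?_⟩
  · have h1 := hαh 1
    rw [pow_one] at h1
    have : αh = (αh - algebraMap A Â (α 1)) + algebraMap A Â (α 1) := by ring
    rw [this]
    exact Ideal.add_mem _ h1 (Ideal.mem_map_of_mem _ (hαm 1))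
  · rw [hgenD]
    apply le_antisymm
    · refine sup_le ?_ le_sup_right
      rw [Ideal.span_le]
      rintro x hx
      rcases hx with hx | hx
      · rw [hx]
        have : u = u' - (u' - u) := by ring
        rw [this]
        exact Ideal.sub_mem _ (Ideal.mem_sup_left (Ideal.subset_span (by simp)))
          (Ideal.mem_sup_right hu')
      · rw [Set.mem_singleton_iff.1 hx]
        have : v = v' - (v' - v) := by ring
        rw [this]
        exact Ideal.sub_mem _ (Ideal.mem_sup_left (Ideal.subset_span (by simp)))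
          (Ideal.mem_sup_right hv')
    · refine sup_le ?_ le_sup_right
      rw [Ideal.span_le]
      rintro x hx
      rcases hx with hx | hx
      · rw [hx]
        have : u' = u + (u' - u) := by ring
        rw [this]
        exact Ideal.add_mem _ (Ideal.mem_sup_left (Ideal.subset_span (by simp)))
          (Ideal.mem_sup_right hu')
      · rw [Set.mem_singleton_iff.1 hx]
        have : v' = v + (v' - v) := by ring
        rw [this]
        exact Ideal.add_mem _ (Ideal.mem_sup_left (Ideal.subset_span (by simp)))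
          (Ideal.mem_sup_right hv')

end Data

section Fibre

variable (A B : Type u) [CommRing A] [IsLocalRing A] [IsNoetherianRing A]
  [CommRing B] [IsLocalRing B] [IsNoetherianRing B] [Algebra A B] [IsLocalHom (algebraMap A B)]

local notation "Â" => AdicCompletion (maximalIdeal A) A
local notation "B̂" => AdicCompletion (maximalIdeal B) B
local notation "𝔟" => Ideal.map (algebraMap B (AdicCompletion (maximalIdeal B) B)) (Ideal.map (algebraMap A B) (maximalIdeal A))

/-- the constant coefficient on `k[[x,y]]/(xy)` -/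
noncomputable def ccK : NodeK A →+* ResidueField A :=
  Ideal.Quotient.lift _ (MvPowerSeries.constantCoeff (σ := Fin 2) (R := ResidueField A)) (by
    intro g hg
    obtain ⟨c, rfl⟩ := Ideal.mem_span_singleton'.1 hg
    rw [map_mul, map_mul, MvPowerSeries.constantCoeff_X, zero_mul, mul_zero])

lemma ccK_mk (g : MvPowerSeries (Fin 2) (ResidueField A)) :
    ccK A (Ideal.Quotient.mk _ g) = MvPowerSeries.constantCoeff g := rfl

/-- the isomorphism `Â[[x,y]]/(xy - α) ≅ B̂` from flatness and an isomorphism of the completed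
fibre with `k[[x,y]]/(xy)`. -/
theorem exists_iso_of_fibre [Module.Flat A B]
    (ε : (B̂ ⧸ (Ideal.map (algebraMap A B) (maximalIdeal A)).map (algebraMap B B̂)) ≃+* NodeK A)
    (hε : ∀ a : A, ε (Ideal.Quotient.mk _ (algebraMap B B̂ (algebraMap A B a))) =
      Ideal.Quotient.mk _ (MvPowerSeries.C (residue A a))) :
    ∃ (α : Â) (_ : α ∈ (maximalIdeal A).map (algebraMap A Â)) (ψ : Model A α ≃ₐ[A] B̂), True := by
  have hAB : algebraMap A B̂ = (algebraMap B B̂).comp (algebraMap A B) := rfl
  have h𝔞 : (maximalIdeal A).map (algebraMap A B̂) = 𝔟 := by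
    rw [hAB, Ideal.map_map]
  let π : B̂ →+* NodeK A := (ε : (B̂ ⧸ 𝔟) →+* NodeK A).comp (Ideal.Quotient.mk 𝔟)
  have hπsurj : Function.Surjective π := ε.surjective.comp Ideal.Quotient.mk_surjective
  have hπker : ∀ d : B̂, π d = 0 → d ∈ 𝔟 := by
    intro d hd
    have : ε (Ideal.Quotient.mk 𝔟 d) = 0 := hd
    rw [map_eq_zero_iff ε ε.injective] at this
    exact Ideal.Quotient.eq_zero_iff_mem.mp this
  have hπ𝔟 : ∀ d ∈ 𝔟, π d = 0 := by
    intro d hd
    change ε (Ideal.Quotient.mk 𝔟 d) = 0
    rw [Ideal.Quotient.eq_zero_iff_mem.mpr hd, map_zero]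
  have hπA : ∀ a : A, π (algebraMap A B̂ a) = Ideal.Quotient.mk _ (MvPowerSeries.C (residue A a)) :=
    fun a => hε a
  -- the residue character
  let χ : B̂ →+* ResidueField A := (ccK A).comp π
  have hχsurj : Function.Surjective χ := by
    intro c
    obtain ⟨a, rfl⟩ := residue_surjective c
    refine ⟨algebraMap A B̂ a, ?_⟩
    change ccK A (π (algebraMap A B̂ a)) = _
    rw [hπA, ccK_mk, MvPowerSeries.constantCoeff_C]
  have hχker : RingHom.ker χ = maximalIdeal B̂ :=
    IsLocalRing.eq_maximalIdeal (RingHom.ker_isMaximal_of_surjective χ hχsurj)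
  have hmem : ∀ d : B̂, d ∈ maximalIdeal B̂ ↔ χ d = 0 := by
    intro d; rw [← hχker, RingHom.mem_ker]
  -- the lifts of the variables
  obtain ⟨u, hu⟩ := hπsurj (Ideal.Quotient.mk _ (MvPowerSeries.X 0))
  obtain ⟨v, hv⟩ := hπsurj (Ideal.Quotient.mk _ (MvPowerSeries.X 1))
  have huvD : u * v ∈ (maximalIdeal A).map (algebraMap A B̂) := by
    rw [h𝔞]
    apply hπker
    rw [map_mul, hu, hv, ← map_mul, Ideal.Quotient.eq_zero_iff_mem]
    exact Ideal.subset_span rfl
  have hresD : ∀ d : B̂, ∃ a : A, d - algebraMap A B̂ a ∈ maximalIdeal B̂ := by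
    intro d
    obtain ⟨a, ha⟩ := residue_surjective (χ d)
    refine ⟨a, ?_⟩
    rw [hmem, map_sub, sub_eq_zero]
    change χ d = ccK A (π (algebraMap A B̂ a))
    rw [hπA, ccK_mk, MvPowerSeries.constantCoeff_C, ha]
  have hgenD : maximalIdeal B̂ = Ideal.span {u, v} ⊔ (maximalIdeal A).map (algebraMap A B̂) := by
    apply le_antisymm
    · intro d hd
      rw [hmem] at hd
      obtain ⟨g, hg⟩ := Ideal.Quotient.mk_surjective (π d)
      have hg0 : MvPowerSeries.constantCoeff g = 0 := by
        rw [← ccK_mk, hg]; exact hd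
      have hgm : g ∈ maximalIdeal (MvPowerSeries (Fin 2) (ResidueField A)) := by
        rw [mem_maximalIdeal, mem_nonunits_iff, MvPowerSeries.isUnit_iff_constantCoeff, hg0]
        exact not_isUnit_zero
      rw [Groth.Agent.Lib.Helper19.maximalIdeal_mvPowerSeries_eq] at hgm
      obtain ⟨c, hc⟩ := (Ideal.mem_span_range_iff_exists_fun).1 hgm
      rw [Fin.sum_univ_two] at hc
      obtain ⟨d₀, hd₀⟩ := hπsurj (Ideal.Quotient.mk _ (c 0))
      obtain ⟨d₁, hd₁⟩ := hπsurj (Ideal.Quotient.mk _ (c 1))
      have hz : d - (d₀ * u + d₁ * v) ∈ 𝔟 := by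
        apply hπker
        rw [map_sub, map_add, map_mul, map_mul, hu, hv, hd₀, hd₁, ← hg, ← map_mul, ← map_mul,
          ← map_add, ← map_sub, hc, sub_self, map_zero]
      have : d = (d₀ * u + d₁ * v) + (d - (d₀ * u + d₁ * v)) := by ring
      rw [this]
      refine Ideal.add_mem _ (Ideal.mem_sup_left ?_) (Ideal.mem_sup_right (h𝔞 ▸ hz))
      exact Ideal.add_mem _ (Ideal.mul_mem_left _ _ (Ideal.subset_span (by simp)))
        (Ideal.mul_mem_left _ _ (Ideal.subset_span (by simp)))
    · refine sup_le ?_ (map_le_maximalIdeal_compl A B)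
      rw [Ideal.span_le]
      rintro x hx
      rcases hx with hx | hx
      · rw [hx, SetLike.mem_coe, hmem]
        change ccK A (π u) = 0
        rw [hu, ccK_mk, MvPowerSeries.constantCoeff_X]
      · rw [Set.mem_singleton_iff.1 hx, SetLike.mem_coe, hmem]
        change ccK A (π v) = 0
        rw [hv, ccK_mk, MvPowerSeries.constantCoeff_X]
  obtain ⟨α, u', v', hα, hu', hv', hprod, hgen'⟩ := exists_node_data' A B u v huvD hgenD hresD
  have hu'm : u' ∈ maximalIdeal B̂ := by
    rw [hgen']; exact Ideal.mem_sup_left (Ideal.subset_span (by simp))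
  have hv'm : v' ∈ maximalIdeal B̂ := by
    rw [hgen']; exact Ideal.mem_sup_left (Ideal.subset_span (by simp))
  obtain ⟨ψ₀, ψ, hψ, h0, h1, hC⟩ := exists_algHom_of_data A B α u' v' hu'm hv'm hprod
  have hsurj := surjective_of_data A B u' v' hgen' hresD ψ₀ h0 h1 hC
  have hinj := injective_of_fibre A B α hα u' v' hprod ψ₀ ψ hψ h0 h1 hC hsurj ε hε
  have hsurjψ : Function.Surjective ψ := by
    intro d
    obtain ⟨g, hg⟩ := hsurj d
    exact ⟨Ideal.Quotient.mk _ g, (hψ g).trans hg⟩
  exact ⟨α, hα, AlgEquiv.ofBijective ψ ⟨hinj, hsurjψ⟩, trivial⟩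

end Fibre

end Groth.Agent.Lib.Helper19.NodeApprox
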