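import Mathlib
import Groth.Prelude.Def_CurvBase

set_option autoImplicit false
set_option linter.style.haveILetI false

namespace Groth.Agent.Lib.Helper3.NodeSemi

universe u
open IsLocalRing

section ComplMap

variable {B A : Type*} [CommRing B] [CommRing A] (ψ : B →+* A) (I : Ideal B) (J : Ideal A)
  (h : I ≤ J.comap ψ)

include h in
theorem pow_le_comap (n : ℕ) : I ^ n ≤ (J ^ n).comap ψ :=
  (Ideal.pow_right_mono h n).trans (Ideal.le_comap_pow ψ n)

include h in
theorem compat {m n : ℕ} (hle : m ≤ n) :
    (Ideal.Quotient.factorPow J hle).comp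
      ((Ideal.quotientMap (J ^ n) ψ (pow_le_comap ψ I J h n)).comp
        (AdicCompletion.evalₐ I n).toRingHom) =
      (Ideal.quotientMap (J ^ m) ψ (pow_le_comap ψ I J h m)).comp
        (AdicCompletion.evalₐ I m).toRingHom := by
  refine RingHom.ext fun x => ?_
  obtain ⟨s, rfl⟩ := AdicCompletion.mk_surjective I B x
  simp only [RingHom.coe_comp, Function.comp_apply, AlgHom.toRingHom_eq_coe, RingHom.coe_coe,
    AdicCompletion.evalₐ_mk, Ideal.quotientMap_mk]
  rw [Ideal.Quotient.factor_mk, Ideal.Quotient.eq, ← map_sub]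
  have h1 : s.val n - s.val m ∈ I ^ m := by
    have := s.2 hle
    rw [SModEq.sub_mem] at this
    have h2 : s.val m - s.val n ∈ I ^ m := by simpa using this
    have := Ideal.neg_mem_iff (I ^ m) |>.mpr h2
    simpa using this
  exact pow_le_comap ψ I J h m h1

/-- the map induced on adic completions by a ring map compatible with the ideals -/
noncomputable def complMap : AdicCompletion I B →+* AdicCompletion J A :=
  AdicCompletion.liftRingHom J
    (fun n => (Ideal.quotientMap (J ^ n) ψ (pow_le_comap ψ I J h n)).comp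
      (AdicCompletion.evalₐ I n).toRingHom)
    (fun hle => compat ψ I J h hle)

theorem evalₐ_complMap (n : ℕ) (x : AdicCompletion I B) :
    AdicCompletion.evalₐ J n (complMap ψ I J h x) =
      Ideal.quotientMap (J ^ n) ψ (pow_le_comap ψ I J h n) (AdicCompletion.evalₐ I n x) :=
  AdicCompletion.evalₐ_liftRingHom J _ (fun hle => compat ψ I J h hle) n x

theorem complMap_algebraMap (b : B) :
    complMap ψ I J h (algebraMap B (AdicCompletion I B) b) =
      algebraMap A (AdicCompletion J A) (ψ b) := by
  apply AdicCompletion.ext_evalₐ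
  intro n
  rw [evalₐ_complMap]
  change Ideal.quotientMap (J ^ n) ψ _ (AdicCompletion.evalₐ I n (AdicCompletion.of I B b)) =
    AdicCompletion.evalₐ J n (AdicCompletion.of J A (ψ b))
  rw [AdicCompletion.evalₐ_of, AdicCompletion.evalₐ_of, Ideal.quotientMap_mk]

end ComplMap

section ComplEquiv

variable {B A : Type*} [CommRing B] [CommRing A] (ψ : B ≃+* A) (I : Ideal B) (J : Ideal A)
  (h : J = I.map (ψ : B →+* A))

include h in
theorem le_comap_of_eq : I ≤ J.comap (ψ : B →+* A) := by
  rw [h]; exact Ideal.le_comap_map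

include h in
theorem le_comap_symm_of_eq : J ≤ I.comap (ψ.symm : A →+* B) := by
  rw [h]
  intro a ha
  rw [Ideal.mem_comap]
  rw [Ideal.mem_map_iff_of_surjective (ψ : B →+* A) ψ.surjective] at ha
  obtain ⟨b, hb, rfl⟩ := ha
  simpa using hb

/-- a ring isomorphism compatible with the ideals induces an isomorphism of completions -/
noncomputable def complEquiv : AdicCompletion I B ≃+* AdicCompletion J A :=
  RingEquiv.ofRingHom (complMap (ψ : B →+* A) I J (le_comap_of_eq ψ I J h))
    (complMap (ψ.symm : A →+* B) J I (le_comap_symm_of_eq ψ I J h))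
    (by
      refine RingHom.ext fun x => ?_
      apply AdicCompletion.ext_evalₐ
      intro n
      simp only [RingHom.coe_comp, Function.comp_apply, RingHom.id_apply]
      rw [evalₐ_complMap, evalₐ_complMap]
      obtain ⟨b, hb⟩ := Ideal.Quotient.mk_surjective (AdicCompletion.evalₐ J n x)
      rw [← hb, Ideal.quotientMap_mk, Ideal.quotientMap_mk]
      simp)
    (by
      refine RingHom.ext fun x => ?_
      apply AdicCompletion.ext_evalₐ
      intro n
      simp only [RingHom.coe_comp, Function.comp_apply, RingHom.id_apply]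
      rw [evalₐ_complMap, evalₐ_complMap]
      obtain ⟨b, hb⟩ := Ideal.Quotient.mk_surjective (AdicCompletion.evalₐ I n x)
      rw [← hb, Ideal.quotientMap_mk, Ideal.quotientMap_mk]
      simp)

theorem complEquiv_algebraMap (b : B) :
    complEquiv ψ I J h (algebraMap B (AdicCompletion I B) b) =
      algebraMap A (AdicCompletion J A) (ψ b) :=
  complMap_algebraMap (ψ : B →+* A) I J (le_comap_of_eq ψ I J h) b

end ComplEquiv

section Twist

variable (K : Type u) [Field K]

/-- twisting the coefficients of the ordinary double point ring by a field automorphism -/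
noncomputable def psEquiv (σ : K ≃+* K) : MvPowerSeries (Fin 2) K ≃+* MvPowerSeries (Fin 2) K :=
  RingEquiv.ofRingHom (MvPowerSeries.map (σ : K →+* K)) (MvPowerSeries.map (σ.symm : K →+* K))
    (by
      rw [← MvPowerSeries.map_comp]
      have : (σ : K →+* K).comp (σ.symm : K →+* K) = RingHom.id K := by ext; simp
      rw [this, MvPowerSeries.map_id])
    (by
      rw [← MvPowerSeries.map_comp]
      have : (σ.symm : K →+* K).comp (σ : K →+* K) = RingHom.id K := by ext; simp
      rw [this, MvPowerSeries.map_id])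

theorem psEquiv_apply (σ : K ≃+* K) (f : MvPowerSeries (Fin 2) K) :
    psEquiv K σ f = MvPowerSeries.map (σ : K →+* K) f := rfl

noncomputable def twist (σ : K ≃+* K) :
    (MvPowerSeries (Fin 2) K ⧸
      Ideal.span {(MvPowerSeries.X 0 * MvPowerSeries.X 1 : MvPowerSeries (Fin 2) K)}) ≃+*
    (MvPowerSeries (Fin 2) K ⧸
      Ideal.span {(MvPowerSeries.X 0 * MvPowerSeries.X 1 : MvPowerSeries (Fin 2) K)}) :=
  Ideal.quotientEquiv _ _ (psEquiv K σ) (by
    rw [Ideal.map_span, Set.image_singleton]
    congr 2
    change _ = psEquiv K σ _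
    rw [psEquiv_apply, map_mul, MvPowerSeries.map_X, MvPowerSeries.map_X])

theorem twist_mk_C (σ : K ≃+* K) (c : K) :
    twist K σ (Ideal.Quotient.mk _ (MvPowerSeries.C c)) =
      Ideal.Quotient.mk _ (MvPowerSeries.C (σ c)) := by
  unfold twist
  rw [Ideal.quotientEquiv_mk]
  congr 1
  change psEquiv K σ _ = _
  rw [psEquiv_apply, MvPowerSeries.map_C]
  rfl

end Twist

section Main

variable {K : Type u} [Field K] {A B : Type u} [CommRing A] [CommRing B] [Algebra K A]
  [Algebra K B] [IsLocalRing A] [IsLocalRing B]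

/-- ordinary double points transfer along semilinear isomorphisms -/
theorem isOrdDoublePt_of_semilinear (ψ : B ≃+* A) (σ : K ≃+* K)
    (hψ : ∀ c, ψ (algebraMap K B c) = algebraMap K A (σ c))
    (hA : Curv2.IsOrdDoublePt K A) : Curv2.IsOrdDoublePt K B := by
  obtain ⟨e, he⟩ := hA
  have hm : maximalIdeal A = (maximalIdeal B).map (ψ : B →+* A) := by
    have h1 : ((maximalIdeal B).map (ψ : B →+* A)).IsMaximal :=
      Ideal.map_isMaximal_of_equiv ψ
    exact (IsLocalRing.eq_maximalIdeal h1).symm
  refine ⟨(complEquiv ψ (maximalIdeal B) (maximalIdeal A) hm).trans (e.trans (twist K σ.symm)),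
    fun c => ?_⟩
  rw [RingEquiv.trans_apply, RingEquiv.trans_apply, complEquiv_algebraMap, hψ, he, twist_mk_C]
  simp

end Main

end Groth.Agent.Lib.Helper3.NodeSemi
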