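import Mathlib
import Groth.Agent.Lib.Helper19NodeApproxF
import Groth.Agent.Lib.Helper3NodeSemi
import Groth.Prelude.Def_CurvBase

/-!
# The node `xy = α` over completions from an ordinary double point on the fibre ring (helper19)
-/

set_option autoImplicit false
universe u

open IsLocalRing

namespace Groth.Agent.Lib.Helper19.NodeApprox

section

variable (A B : Type u) [CommRing A] [IsLocalRing A] [IsNoetherianRing A]
  [CommRing B] [IsLocalRing B] [IsNoetherianRing B] [Algebra A B] [IsLocalHom (algebraMap A B)]

local notation "Â" => AdicCompletion (maximalIdeal A) A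
local notation "B̂" => AdicCompletion (maximalIdeal B) B

/-- the `k`-algebra structure on the fibre ring `B/m_A B`. -/
noncomputable abbrev fibAlg : Algebra (ResidueField A) (B ⧸ (maximalIdeal A).map (algebraMap A B)) :=
  (Ideal.quotientMap ((maximalIdeal A).map (algebraMap A B)) (algebraMap A B)
    Ideal.le_comap_map).toAlgebra

attribute [local instance] fibAlg

theorem exists_iso_of_ordDoublePt [Module.Flat A B]
    [IsLocalRing (B ⧸ (maximalIdeal A).map (algebraMap A B))]
    (hodp : Curv2.IsOrdDoublePt (ResidueField A) (B ⧸ (maximalIdeal A).map (algebraMap A B))) :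
    ∃ (α : Â) (_ : α ∈ maximalIdeal Â) (e : B̂ ≃+* Model A α),
      ∀ a : A, e (algebraMap B B̂ (algebraMap A B a)) =
        Ideal.Quotient.mk _ (MvPowerSeries.C (algebraMap A Â a)) := by
  obtain ⟨e₀, he₀⟩ := hodp
  obtain ⟨e₁, he₁⟩ := Groth.Agent.Lib.Helper28.exists_ringEquiv_adicCompletion_quotient
    (maximalIdeal B) ((maximalIdeal A).map (algebraMap A B))
  have hm : maximalIdeal (B ⧸ (maximalIdeal A).map (algebraMap A B)) =
      ((maximalIdeal B).map (Ideal.Quotient.mk ((maximalIdeal A).map (algebraMap A B)))).map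
        ((RingEquiv.refl (B ⧸ (maximalIdeal A).map (algebraMap A B)) : _ →+* _)) := by
    have hJle : (maximalIdeal A).map (algebraMap A B) ≤ maximalIdeal B := by
      rw [Ideal.map_le_iff_le_comap]
      intro a ha
      rw [Ideal.mem_comap]
      exact map_nonunit (algebraMap A B) a ha
    have h1 : ((maximalIdeal B).map
        (Ideal.Quotient.mk ((maximalIdeal A).map (algebraMap A B)))).IsMaximal := by
      rcases Ideal.map_eq_top_or_isMaximal_of_surjective
        (Ideal.Quotient.mk ((maximalIdeal A).map (algebraMap A B)))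
        Ideal.Quotient.mk_surjective (maximalIdeal.isMaximal B) with h | h
      · exfalso
        have h3 : Ideal.comap (Ideal.Quotient.mk ((maximalIdeal A).map (algebraMap A B)))
            ((maximalIdeal B).map (Ideal.Quotient.mk ((maximalIdeal A).map (algebraMap A B)))) =
            maximalIdeal B := by
          rw [Ideal.comap_map_of_surjective _ Ideal.Quotient.mk_surjective, ← RingHom.ker_eq_comap_bot,
            Ideal.mk_ker]
          exact sup_eq_left.mpr hJle
        rw [h, Ideal.comap_top] at h3
        exact (maximalIdeal.isMaximal B).ne_top h3.symm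
      · exact h
    have h2 : Ideal.map ((RingEquiv.refl (B ⧸ (maximalIdeal A).map (algebraMap A B)) : _ →+* _))
        ((maximalIdeal B).map (Ideal.Quotient.mk ((maximalIdeal A).map (algebraMap A B)))) =
        (maximalIdeal B).map (Ideal.Quotient.mk ((maximalIdeal A).map (algebraMap A B))) :=
      Ideal.map_id _
    rw [h2]
    exact (IsLocalRing.eq_maximalIdeal h1).symm
  let e₂ := Groth.Agent.Lib.Helper3.NodeSemi.complEquiv
    (RingEquiv.refl (B ⧸ (maximalIdeal A).map (algebraMap A B)))
    ((maximalIdeal B).map (Ideal.Quotient.mk ((maximalIdeal A).map (algebraMap A B))))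
    (maximalIdeal (B ⧸ (maximalIdeal A).map (algebraMap A B))) hm
  let ε : (B̂ ⧸ (Ideal.map (algebraMap A B) (maximalIdeal A)).map (algebraMap B B̂)) ≃+* NodeK A :=
    (e₁.trans e₂).trans e₀
  have hε : ∀ a : A, ε (Ideal.Quotient.mk _ (algebraMap B B̂ (algebraMap A B a))) =
      Ideal.Quotient.mk _ (MvPowerSeries.C (residue A a)) := by
    intro a
    change e₀ (e₂ (e₁ _)) = _
    rw [he₁, Groth.Agent.Lib.Helper3.NodeSemi.complEquiv_algebraMap]
    exact he₀ (residue A a)
  obtain ⟨α, hα, ψ, -⟩ := exists_iso_of_fibre A B ε hε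
  refine ⟨α, ?_, ψ.symm.toRingEquiv, fun a => ?_⟩
  · rw [AdicCompletion.maximalIdeal_eq_map]; exact hα
  · have h1 : algebraMap B B̂ (algebraMap A B a) = algebraMap A B̂ a := rfl
    rw [h1]
    change ψ.symm (algebraMap A B̂ a) = _
    rw [AlgEquiv.commutes, ← MvPowerSeries.algebraMap_apply]
    rfl

end

end Groth.Agent.Lib.Helper19.NodeApprox
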