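import Mathlib

/-!
# Flatness of `P/(f)` and the deformed node `S[x,y]/(xy - c)`
-/

set_option autoImplicit false
universe u

open TensorProduct

namespace Groth.Agent.Lib.Helper19.NodeDef

section FlatQuot

variable {R P : Type u} [CommRing R] [CommRing P] [Algebra R P] [Module.Flat R P]

/-- the multiplication map `I ⊗ P → P` -/
noncomputable def toP (I : Ideal R) : I ⊗[R] P →ₗ[R] P :=
  (TensorProduct.lid R P).toLinearMap ∘ₗ LinearMap.rTensor P I.subtype

omit [Module.Flat R P] in
lemma toP_tmul (I : Ideal R) (a : I) (p : P) : toP I (a ⊗ₜ[R] p) = (a : R) • p := by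
  simp [toP]

lemma toP_injective (I : Ideal R) : Function.Injective (toP (P := P) I) := by
  refine (TensorProduct.lid R P).injective.comp ?_
  exact Module.Flat.rTensor_preserves_injective_linearMap I.subtype Subtype.val_injective

omit [Module.Flat R P] in
lemma toP_mem (I : Ideal R) (z : I ⊗[R] P) : toP I z ∈ I.map (algebraMap R P) := by
  induction z with
  | zero => rw [map_zero]; exact Ideal.zero_mem _
  | tmul a p =>
    rw [toP_tmul, Algebra.smul_def]
    exact Ideal.mul_mem_right _ _ (Ideal.mem_map_of_mem _ a.2)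
  | add x y hx hy => rw [map_add]; exact Ideal.add_mem _ hx hy

omit [Module.Flat R P] in
lemma exists_toP_eq (I : Ideal R) (q : P) (hq : q ∈ I.map (algebraMap R P)) :
    ∃ z : I ⊗[R] P, toP I z = q := by
  have h1 : q ∈ I • (⊤ : Submodule R P) := by
    rw [Ideal.smul_top_eq_map, Submodule.restrictScalars_mem]
    exact hq
  refine Submodule.smul_induction_on h1 ?_ ?_
  · intro a ha p _
    exact ⟨(⟨a, ha⟩ : I) ⊗ₜ[R] p, toP_tmul I _ p⟩
  · rintro x y ⟨zx, rfl⟩ ⟨zy, rfl⟩
    exact ⟨zx + zy, map_add _ _ _⟩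

omit [Module.Flat R P] in
lemma toP_lTensor_mulLeft (I : Ideal R) (f : P) (z : I ⊗[R] P) :
    toP I (LinearMap.lTensor I (LinearMap.mulLeft R f) z) = f * toP I z := by
  induction z with
  | zero => simp
  | tmul a p =>
    rw [LinearMap.lTensor_tmul, toP_tmul, toP_tmul, LinearMap.mulLeft_apply, mul_smul_comm]
  | add x y hx hy => rw [map_add, map_add, hx, hy, map_add, mul_add]

/-- If `f` is a nonzerodivisor on `P / I P` for every ideal `I` of the base, then `P / (f)` is
flat. -/
theorem flat_quotient_of_regular_mod (f : P)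
    (h : ∀ (I : Ideal R) (q : P), f * q ∈ I.map (algebraMap R P) → q ∈ I.map (algebraMap R P)) :
    Module.Flat R (P ⧸ Ideal.span {f}) := by
  rw [Module.Flat.iff_rTensor_injective']
  intro I
  rw [injective_iff_map_eq_zero]
  intro z hz
  let mkL : P →ₗ[R] (P ⧸ Ideal.span {f}) := (Ideal.Quotient.mkₐ R (Ideal.span {f})).toLinearMap
  have hmkL : ∀ p, mkL p = Ideal.Quotient.mk _ p := fun p => rfl
  have hsurj : Function.Surjective (LinearMap.lTensor I mkL) :=
    LinearMap.lTensor_surjective _ Ideal.Quotient.mk_surjective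
  obtain ⟨z', rfl⟩ := hsurj z
  have hcomm : ∀ w : I ⊗[R] P,
      (TensorProduct.lid R (P ⧸ Ideal.span {f}))
        (LinearMap.rTensor (P ⧸ Ideal.span {f}) I.subtype (LinearMap.lTensor I mkL w)) =
      mkL (toP I w) := by
    intro w
    induction w with
    | zero => simp
    | tmul a p =>
      rw [LinearMap.lTensor_tmul, LinearMap.rTensor_tmul, TensorProduct.lid_tmul, toP_tmul,
        map_smul]
      rfl
    | add x y hx hy => simp only [map_add, hx, hy]
  have hw : mkL (toP I z') = 0 := by
    rw [← hcomm, hz, map_zero]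
  rw [hmkL, Ideal.Quotient.eq_zero_iff_mem, Ideal.mem_span_singleton'] at hw
  obtain ⟨q, hq⟩ := hw
  have hq' : q ∈ I.map (algebraMap R P) := by
    apply h I q
    rw [mul_comm, hq]
    exact toP_mem I z'
  obtain ⟨q', rfl⟩ := exists_toP_eq I q hq'
  have hz' : z' = LinearMap.lTensor I (LinearMap.mulLeft R f) q' := by
    apply toP_injective I
    rw [toP_lTensor_mulLeft, ← hq, mul_comm]
  rw [hz', ← LinearMap.comp_apply, ← LinearMap.lTensor_comp]
  have hzero : mkL ∘ₗ LinearMap.mulLeft R f = 0 := by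
    ext p
    rw [LinearMap.comp_apply, LinearMap.mulLeft_apply, hmkL, LinearMap.zero_apply,
      Ideal.Quotient.eq_zero_iff_mem]
    exact Ideal.mul_mem_right _ _ (Ideal.mem_span_singleton_self f)
  rw [hzero, LinearMap.lTensor_zero, LinearMap.zero_apply]

end FlatQuot

section Node

open MvPolynomial

variable {S : Type u} [CommRing S]

/-- the equation of the deformed node -/
noncomputable def nodeEq (c : S) : MvPolynomial (Fin 2) S := X 0 * X 1 - C c

lemma monomial_mul_eq_zero (s : Fin 2 →₀ ℕ) (q : MvPolynomial (Fin 2) S)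
    (h : monomial s (1 : S) * q = 0) : q = 0 := by
  ext m
  have := congrArg (coeff (s + m)) h
  rw [coeff_monomial_mul, one_mul, coeff_zero] at this
  rw [this, coeff_zero]

lemma X0X1_eq_monomial :
    (X 0 * X 1 : MvPolynomial (Fin 2) S) =
      monomial (Finsupp.single 0 1 + Finsupp.single 1 1) (1 : S) := by
  rw [X, X, monomial_mul, one_mul]

/-- `xy - c` is a nonzerodivisor on `S[x, y]` for nilpotent `c` -/
lemma nodeEq_mul_eq_zero (c : S) (hc : IsNilpotent c) (q : MvPolynomial (Fin 2) S)
    (h : nodeEq c * q = 0) : q = 0 := by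
  have h1 : (X 0 * X 1 : MvPolynomial (Fin 2) S) * q = C c * q := by
    rw [nodeEq, sub_mul, sub_eq_zero] at h
    exact h
  have h2 : ∀ n : ℕ, (X 0 * X 1 : MvPolynomial (Fin 2) S) ^ n * q = C c ^ n * q := by
    intro n
    induction n with
    | zero => simp
    | succ n ih =>
      rw [pow_succ, mul_assoc, h1, ← mul_assoc, mul_comm _ (C c), mul_assoc, ih, ← mul_assoc,
        ← pow_succ']
  obtain ⟨n, hn⟩ := hc
  have h3 := h2 n
  rw [← C_pow, hn, C_0, zero_mul, X0X1_eq_monomial, monomial_pow, one_pow] at h3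
  exact monomial_mul_eq_zero _ q h3

/-- `xy - c` is a nonzerodivisor on `(S/I)[x, y]` for nilpotent `c` -/
lemma mem_map_of_nodeEq_mul_mem (c : S) (hc : IsNilpotent c) (I : Ideal S)
    (q : MvPolynomial (Fin 2) S)
    (h : nodeEq c * q ∈ I.map (algebraMap S (MvPolynomial (Fin 2) S))) :
    q ∈ I.map (algebraMap S (MvPolynomial (Fin 2) S)) := by
  have hker : RingHom.ker (MvPolynomial.map (σ := Fin 2) (Ideal.Quotient.mk I)) =
      I.map (algebraMap S (MvPolynomial (Fin 2) S)) := by
    rw [MvPolynomial.ker_map, Ideal.mk_ker]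
    rfl
  rw [← hker, RingHom.mem_ker] at h ⊢
  rw [map_mul] at h
  have h1 : MvPolynomial.map (σ := Fin 2) (Ideal.Quotient.mk I) (nodeEq c) =
      nodeEq (Ideal.Quotient.mk I c) := by
    simp [nodeEq]
  rw [h1] at h
  exact nodeEq_mul_eq_zero _ (hc.map _) _ h

/-- the deformed node `S[x, y] / (xy - c)` -/
abbrev NodeRing (c : S) : Type u := MvPolynomial (Fin 2) S ⧸ Ideal.span {nodeEq c}

/-- `S[x, y] / (xy - c)` is flat over `S` when `c` is nilpotent. -/
theorem flat_nodeRing (c : S) (hc : IsNilpotent c) : Module.Flat S (NodeRing c) :=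
  flat_quotient_of_regular_mod (nodeEq c) (fun I q h => mem_map_of_nodeEq_mul_mem c hc I q h)

end Node

end Groth.Agent.Lib.Helper19.NodeDef
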