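import Groth.Agent.Lib.Helper19DefAffE
import Groth.Agent.Lib.Helper19NodeDefA

/-!
# The deformations `xy = c` of the node over Artinian bases
-/

set_option autoImplicit false
universe u

open CategoryTheory CategoryTheory.Limits AlgebraicGeometry ArtFun ArtFun.Art
open Groth.Agent.Lib.Helper19.DefAff MvPolynomial

namespace Groth.Agent.Lib.Helper19.NodeDef

variable {k : Type u} [Field k]

/-- the coordinate ring of the node -/
abbrev NodeB (k : Type u) [Field k] : Type u :=
  MvPolynomial (Fin 2) k ⧸ Ideal.span {(X 0 * X 1 : MvPolynomial (Fin 2) k)}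

variable (R : Art k k) (c : R) (hc : c ∈ IsLocalRing.maximalIdeal R)

/-- reduction of polynomials to the node -/
noncomputable def redP : MvPolynomial (Fin 2) R →+* NodeB k :=
  (Ideal.Quotient.mk _).comp (MvPolynomial.map (σ := Fin 2) (R.res : R →+* k))

include hc in
lemma redP_nodeEq : redP R (nodeEq c) = 0 := by
  have h0 : R.res c = 0 := (R.mem_maximalIdeal_iff c).1 hc
  rw [redP, RingHom.comp_apply, nodeEq, map_sub, map_mul, map_X, map_X, map_C]
  change Ideal.Quotient.mk _ (X 0 * X 1 - C (R.res c)) = 0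
  rw [h0, C_0, sub_zero, Ideal.Quotient.eq_zero_iff_mem]
  exact Ideal.mem_span_singleton_self _

/-- the reduction map of the deformed node -/
noncomputable def rhoNode : NodeRing c →+* NodeB k :=
  Ideal.Quotient.lift _ (redP R) (by
    intro a ha
    obtain ⟨b, rfl⟩ := Ideal.mem_span_singleton'.1 ha
    rw [map_mul, redP_nodeEq R c hc, mul_zero])

lemma rhoNode_mk (q : MvPolynomial (Fin 2) R) :
    rhoNode R c hc (Ideal.Quotient.mk _ q) = redP R q := Ideal.Quotient.lift_mk _ _ _

lemma rhoNode_algebraMap (a : R) :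
    rhoNode R c hc (algebraMap R (NodeRing c) a) = algebraMap k (NodeB k) (R.res a) := by
  change rhoNode R c hc (Ideal.Quotient.mk _ (C a)) = _
  rw [rhoNode_mk, redP, RingHom.comp_apply, map_C]
  rfl

lemma rhoNode_surjective : Function.Surjective (rhoNode R c hc) := by
  intro b
  obtain ⟨q, rfl⟩ := Ideal.Quotient.mk_surjective b
  obtain ⟨q', rfl⟩ := MvPolynomial.map_surjective (σ := Fin 2) (R.res : R →+* k) R.res_surjective q
  exact ⟨Ideal.Quotient.mk _ q', rhoNode_mk R c hc q'⟩

lemma mk_X0X1 : (Ideal.Quotient.mk (Ideal.span {nodeEq c}) (X 0 * X 1) : NodeRing c) =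
    algebraMap R (NodeRing c) c := by
  change _ = Ideal.Quotient.mk _ (C c)
  rw [Ideal.Quotient.eq]
  exact Ideal.mem_span_singleton_self _

lemma ker_rhoNode :
    RingHom.ker (rhoNode R c hc) =
      Ideal.map (algebraMap R (NodeRing c)) (IsLocalRing.maximalIdeal R) := by
  apply le_antisymm
  · intro x hx
    obtain ⟨q, rfl⟩ := Ideal.Quotient.mk_surjective x
    rw [RingHom.mem_ker, rhoNode_mk, redP, RingHom.comp_apply, Ideal.Quotient.eq_zero_iff_mem,
      Ideal.mem_span_singleton'] at hx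
    obtain ⟨g, hg⟩ := hx
    obtain ⟨g', rfl⟩ := MvPolynomial.map_surjective (σ := Fin 2) (R.res : R →+* k)
      R.res_surjective g
    have h1 : q - g' * (X 0 * X 1) ∈
        RingHom.ker (MvPolynomial.map (σ := Fin 2) (R.res : R →+* k)) := by
      rw [RingHom.mem_ker, map_sub, map_mul, map_mul, map_X, map_X, ← hg, sub_self]
    rw [MvPolynomial.ker_map] at h1
    have hker : RingHom.ker (R.res : R →+* k) = IsLocalRing.maximalIdeal R := by
      ext a
      rw [R.mem_maximalIdeal_iff, RingHom.mem_ker]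
      rfl
    rw [hker] at h1
    have h2 : Ideal.Quotient.mk (Ideal.span {nodeEq c}) (q - g' * (X 0 * X 1)) ∈
        Ideal.map (algebraMap R (NodeRing c)) (IsLocalRing.maximalIdeal R) := by
      have := Ideal.mem_map_of_mem (Ideal.Quotient.mk (Ideal.span {nodeEq c})) h1
      rw [Ideal.map_map] at this
      exact this
    have h3 : Ideal.Quotient.mk (Ideal.span {nodeEq c}) q =
        Ideal.Quotient.mk (Ideal.span {nodeEq c}) (q - g' * (X 0 * X 1)) +
          Ideal.Quotient.mk _ g' * algebraMap R (NodeRing c) c := by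
      rw [← mk_X0X1, ← map_mul, ← map_add, sub_add_cancel]
    rw [h3]
    exact Ideal.add_mem _ h2 (Ideal.mul_mem_left _ _ (Ideal.mem_map_of_mem _ hc))
  · rw [Ideal.map_le_iff_le_comap]
    intro a ha
    rw [Ideal.mem_comap, RingHom.mem_ker, rhoNode_algebraMap, (R.mem_maximalIdeal_iff a).1 ha,
      map_zero]

include hc in
lemma isNilpotent_of_mem_maximalIdeal : IsNilpotent c := by
  obtain ⟨n, hn⟩ := isNilpotent_maximalIdeal R
  refine ⟨n, ?_⟩
  have : c ^ n ∈ IsLocalRing.maximalIdeal R ^ n := Ideal.pow_mem_pow hc n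
  rw [hn] at this
  exact this

/-- the deformation `xy = c` of the node over `R` -/
noncomputable def nodeDef :
    DefSch (Spec (CommRingCat.of (NodeB k))) (Spec.map (CommRingCat.ofHom (algebraMap k (NodeB k))))
      R :=
  haveI : Module.Flat R (NodeRing c) := flat_nodeRing c (isNilpotent_of_mem_maximalIdeal R c hc)
  ofAlg (NodeRing c) (rhoNode R c hc) (rhoNode_algebraMap R c hc) (rhoNode_surjective R c hc)
    (ker_rhoNode R c hc)

section Functoriality

variable {R} {R' : Art k k} (g : R ⟶ R')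

lemma map_mem_maximalIdeal {a : R} (ha : a ∈ IsLocalRing.maximalIdeal R) :
    g a ∈ IsLocalRing.maximalIdeal R' := by
  rw [R'.mem_maximalIdeal_iff, Art.res_app g, (R.mem_maximalIdeal_iff a).1 ha]

/-- the map of deformed nodes induced by a map of bases -/
noncomputable def nodeMap : NodeRing c →+* NodeRing (g c) :=
  Ideal.Quotient.lift _
    ((Ideal.Quotient.mk _).comp (MvPolynomial.map (σ := Fin 2) (g.toAlgHom : R →+* R'))) (by
    intro a ha
    obtain ⟨b, rfl⟩ := Ideal.mem_span_singleton'.1 ha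
    rw [map_mul]
    have : (Ideal.Quotient.mk (Ideal.span {nodeEq (g c)})).comp
        (MvPolynomial.map (σ := Fin 2) (g.toAlgHom : R →+* R')) (nodeEq c) = 0 := by
      have h1 : MvPolynomial.map (σ := Fin 2) (g.toAlgHom : R →+* R') (nodeEq c) =
          nodeEq (g c) := by
        rw [nodeEq, map_sub, map_mul, map_X, map_X, map_C]
        rfl
      rw [RingHom.comp_apply, h1, Ideal.Quotient.eq_zero_iff_mem]
      exact Ideal.mem_span_singleton_self _
    rw [this, mul_zero])

lemma nodeMap_mk (q : MvPolynomial (Fin 2) R) :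
    nodeMap c g (Ideal.Quotient.mk _ q) =
      Ideal.Quotient.mk _ (MvPolynomial.map (σ := Fin 2) (g.toAlgHom : R →+* R') q) :=
  Ideal.Quotient.lift_mk _ _ _

/-- base change of the deformed node -/
theorem nodeDef_baseChange :
    Nonempty (((nodeDef R c hc).baseChange g).Iso
      (nodeDef R' (g c) (map_mem_maximalIdeal g hc))) := by
  have : Module.Flat R (NodeRing c) := flat_nodeRing c (isNilpotent_of_mem_maximalIdeal R c hc)
  have : Module.Flat R' (NodeRing (g c)) :=
    flat_nodeRing (g c) (isNilpotent_of_mem_maximalIdeal R' (g c) (map_mem_maximalIdeal g hc))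
  refine baseChange_ofAlg_iso g (NodeRing c) (rhoNode R c hc) _ _ _ (NodeRing (g c))
    (rhoNode R' (g c) (map_mem_maximalIdeal g hc)) _ _ _ (nodeMap c g) ?_ ?_
  · intro a
    change nodeMap c g (Ideal.Quotient.mk _ (C a)) = Ideal.Quotient.mk _ (C (g a))
    rw [nodeMap_mk, map_C]
    rfl
  · intro b
    obtain ⟨q, rfl⟩ := Ideal.Quotient.mk_surjective b
    rw [nodeMap_mk, rhoNode_mk, rhoNode_mk, redP, redP, RingHom.comp_apply, RingHom.comp_apply,
      MvPolynomial.map_map]
    have : (R'.res : R' →+* k).comp (g.toAlgHom : R →+* R') = (R.res : R →+* k) := by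
      ext a
      exact Art.res_app g a
    rw [this]

end Functoriality

section Scaling

variable (u : R) (hu : R.res u = 1)

/-- the coordinate change `x ↦ u x` -/
noncomputable def scaleP : MvPolynomial (Fin 2) R →ₐ[R] MvPolynomial (Fin 2) R :=
  MvPolynomial.aeval (fun i : Fin 2 => if i = 0 then C u * X 0 else X i)

lemma scaleP_nodeEq : scaleP R u (nodeEq (u * c)) = C u * nodeEq c := by
  rw [nodeEq, map_sub, map_mul, scaleP, aeval_X, aeval_X, nodeEq]
  have : (MvPolynomial.aeval (fun i : Fin 2 => if i = 0 then C u * X 0 else X i))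
      ((C (u * c) : MvPolynomial (Fin 2) R)) = C (u * c) := by
    rw [← algebraMap_eq, AlgHom.commutes]
  rw [this, if_pos rfl, if_neg (by decide), C_mul]
  ring

/-- the isomorphism `xy = uc` to `xy = c` -/
noncomputable def scaleNode : NodeRing (u * c) →ₐ[R] NodeRing c :=
  Ideal.Quotient.liftₐ _ ((Ideal.Quotient.mkₐ R _).comp (scaleP R u)) (by
    intro a ha
    obtain ⟨b, rfl⟩ := Ideal.mem_span_singleton'.1 ha
    rw [map_mul, AlgHom.comp_apply (Ideal.Quotient.mkₐ R _) (scaleP R u) (nodeEq (u * c)),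
      scaleP_nodeEq, Ideal.Quotient.mkₐ_eq_mk, (Ideal.Quotient.eq_zero_iff_mem).2
        (Ideal.mul_mem_left _ _ (Ideal.mem_span_singleton_self _)), mul_zero])

lemma scaleNode_mk (q : MvPolynomial (Fin 2) R) :
    scaleNode R c u (Ideal.Quotient.mk _ q) = Ideal.Quotient.mk _ (scaleP R u q) := rfl

include hu in
lemma redP_scaleP (q : MvPolynomial (Fin 2) R) : redP R (scaleP R u q) = redP R q := by
  induction q using MvPolynomial.induction_on with
  | C a =>
    rw [scaleP, ← algebraMap_eq, AlgHom.commutes]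
  | add p q hp hq => rw [map_add, map_add, map_add, hp, hq]
  | mul_X p i hp =>
    rw [map_mul, map_mul, map_mul, hp, scaleP, aeval_X]
    congr 1
    fin_cases i
    · simp only [Fin.zero_eta, if_pos]
      rw [redP, RingHom.comp_apply, RingHom.comp_apply, map_mul, map_C, map_X]
      change Ideal.Quotient.mk _ (C (R.res u) * X 0) = _
      rw [hu, C_1, one_mul]
    · simp

include hu in
/-- scaling the parameter by a unit congruent to one gives an isomorphic deformation -/
theorem nodeDef_scale_iso (huc : u * c ∈ IsLocalRing.maximalIdeal R) :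
    Nonempty ((nodeDef R c hc).Iso (nodeDef R (u * c) huc)) := by
  have : Module.Flat R (NodeRing c) := flat_nodeRing c (isNilpotent_of_mem_maximalIdeal R c hc)
  have : Module.Flat R (NodeRing (u * c)) :=
    flat_nodeRing (u * c) (isNilpotent_of_mem_maximalIdeal R (u * c) huc)
  refine iso_of_algHom (NodeRing c) (rhoNode R c hc) _ _ _ (NodeRing (u * c))
    (rhoNode R (u * c) huc) _ _ _ (scaleNode R c u) ?_
  intro b
  obtain ⟨q, rfl⟩ := Ideal.Quotient.mk_surjective b
  rw [scaleNode_mk, rhoNode_mk, rhoNode_mk, redP_scaleP R u hu]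

end Scaling

section NonIso

/-- the origin of the deformed node, as a map to `R / (c)` -/
noncomputable def originNode : NodeRing c →ₐ[R] R ⧸ Ideal.span {c} :=
  Ideal.Quotient.liftₐ _ (MvPolynomial.aeval (fun _ : Fin 2 => (0 : R ⧸ Ideal.span {c}))) (by
    intro a ha
    obtain ⟨b, rfl⟩ := Ideal.mem_span_singleton'.1 ha
    rw [map_mul, nodeEq, map_sub, map_mul, aeval_X, zero_mul, zero_sub, ← algebraMap_eq,
      AlgHom.commutes, Ideal.Quotient.algebraMap_eq,
      (Ideal.Quotient.eq_zero_iff_mem).2 (Ideal.mem_span_singleton_self c), neg_zero, mul_zero])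

lemma originNode_mk_X (i : Fin 2) : originNode R c (Ideal.Quotient.mk _ (X i)) = 0 := by
  change MvPolynomial.aeval (fun _ : Fin 2 => (0 : R ⧸ Ideal.span {c})) (X i) = 0
  rw [aeval_X]

lemma exists_originNode_eq (x : NodeRing c) (i : Fin 2)
    (hx : rhoNode R c hc x = rhoNode R c hc (Ideal.Quotient.mk _ (X i))) :
    ∃ a ∈ IsLocalRing.maximalIdeal R, originNode R c x = Ideal.Quotient.mk _ a := by
  have h1 : x - Ideal.Quotient.mk _ (X i) ∈ RingHom.ker (rhoNode R c hc) := by
    rw [RingHom.mem_ker, map_sub, hx, sub_self]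
  rw [ker_rhoNode] at h1
  have h2 := Ideal.mem_map_of_mem (originNode R c : NodeRing c →+* R ⧸ Ideal.span {c}) h1
  rw [Ideal.map_map] at h2
  have h3 : (originNode R c : NodeRing c →+* R ⧸ Ideal.span {c}).comp
      (algebraMap R (NodeRing c)) = Ideal.Quotient.mk (Ideal.span {c}) := by
    ext a
    exact (originNode R c).commutes a
  rw [h3, Ideal.mem_map_iff_of_surjective _ Ideal.Quotient.mk_surjective] at h2
  obtain ⟨a, ha, hax⟩ := h2
  refine ⟨a, ha, ?_⟩
  rw [hax]
  change originNode R c x = originNode R c (x - Ideal.Quotient.mk _ (X i))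
  rw [map_sub, originNode_mk_X, sub_zero]

/-- two deformed nodes are isomorphic only if the parameters agree modulo `c₁` and `m²` -/
theorem exists_of_nodeDef_iso (c₁ c₂ : R) (h₁ : c₁ ∈ IsLocalRing.maximalIdeal R)
    (h₂ : c₂ ∈ IsLocalRing.maximalIdeal R) (e : (nodeDef R c₁ h₁).Iso (nodeDef R c₂ h₂)) :
    ∃ a b z : R, a ∈ IsLocalRing.maximalIdeal R ∧ b ∈ IsLocalRing.maximalIdeal R ∧
      c₂ = a * b + c₁ * z := by
  have : Module.Flat R (NodeRing c₁) :=
    flat_nodeRing c₁ (isNilpotent_of_mem_maximalIdeal R c₁ h₁)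
  have : Module.Flat R (NodeRing c₂) :=
    flat_nodeRing c₂ (isNilpotent_of_mem_maximalIdeal R c₂ h₂)
  obtain ⟨ψ, hψ⟩ := exists_algHom_of_iso (NodeRing c₁) (rhoNode R c₁ h₁) _ _ _ (NodeRing c₂)
    (rhoNode R c₂ h₂) _ _ _ e
  have hred : ∀ i : Fin 2, rhoNode R c₁ h₁ (ψ (Ideal.Quotient.mk _ (X i))) =
      rhoNode R c₁ h₁ (Ideal.Quotient.mk _ (X i)) := by
    intro i
    rw [hψ, rhoNode_mk, rhoNode_mk]
  obtain ⟨a, ha, hxa⟩ := exists_originNode_eq R c₁ h₁ _ 0 (hred 0)
  obtain ⟨b, hb, hyb⟩ := exists_originNode_eq R c₁ h₁ _ 1 (hred 1)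
  have hprod : ψ (Ideal.Quotient.mk _ (X 0)) * ψ (Ideal.Quotient.mk _ (X 1)) =
      algebraMap R (NodeRing c₁) c₂ := by
    rw [← map_mul, ← map_mul, mk_X0X1, AlgHom.commutes]
  have h3 := congrArg (originNode R c₁) hprod
  rw [map_mul, hxa, hyb, AlgHom.commutes, Ideal.Quotient.algebraMap_eq, ← map_mul,
    Ideal.Quotient.eq, Ideal.mem_span_singleton'] at h3
  obtain ⟨z, hz⟩ := h3
  refine ⟨a, b, -z, ha, hb, ?_⟩
  have : c₂ = a * b - z * c₁ := by rw [hz]; ring
  rw [this]
  ring

end NonIso

end Groth.Agent.Lib.Helper19.NodeDef
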