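import Mathlib

/-!
# The Artinian quotients `A / (t^N)` of a curve at a rational point
-/

set_option autoImplicit false
universe u

namespace Groth.Agent.Lib.Helper19.NonSmooth

open IsLocalRing

section Quot

variable {k : Type u} [Field k] [IsAlgClosed k] {A : Type u} [CommRing A] [IsDomain A]
  [Algebra k A] [Algebra.FiniteType k A] (t : A) (ht : (Ideal.span {t}).IsMaximal)

include ht in
/-- the residue field at the point is `k` -/
lemma bijective_algebraMap_quot : Function.Bijective (algebraMap k (A ⧸ Ideal.span {t})) := by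
  letI := Ideal.Quotient.field (Ideal.span {t})
  haveI : Module.Finite k (A ⧸ Ideal.span {t}) :=
    finite_of_finite_type_of_isJacobsonRing k (A ⧸ Ideal.span {t})
  exact IsAlgClosed.algebraMap_bijective_of_isIntegral

/-- `A_N = A / (t^N)` -/
abbrev AN (N : ℕ) : Type u := A ⧸ Ideal.span {t ^ N}

/-- the class of `t` -/
abbrev tbar (N : ℕ) : AN t N := Ideal.Quotient.mk _ t

lemma tbar_pow (N : ℕ) : tbar t N ^ N = 0 := by
  rw [tbar, ← map_pow, Ideal.Quotient.eq_zero_iff_mem]
  exact Ideal.mem_span_singleton_self _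

include ht in
lemma not_isUnit_t : ¬ IsUnit t := by
  intro h
  exact ht.ne_top (Ideal.span_singleton_eq_top.2 h)

include ht in
lemma span_pow_le (N : ℕ) (hN : N ≠ 0) : Ideal.span {t ^ N} ≤ Ideal.span {t} := by
  rw [Ideal.span_singleton_le_iff_mem]
  obtain ⟨m, rfl⟩ := Nat.exists_eq_succ_of_ne_zero hN
  rw [pow_succ]
  exact Ideal.mul_mem_left _ _ (Ideal.mem_span_singleton_self t)

include ht in
lemma nontrivial_AN (N : ℕ) (hN : N ≠ 0) : Nontrivial (AN t N) := by
  apply Ideal.Quotient.nontrivial_iff.2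
  intro h
  exact ht.ne_top (top_le_iff.1 (h ▸ span_pow_le t ht N hN))

include ht in
lemma isMaximal_span_tbar (N : ℕ) (hN : N ≠ 0) : (Ideal.span {tbar t N}).IsMaximal := by
  have h1 : Ideal.span {tbar t N} = Ideal.map (Ideal.Quotient.mk (Ideal.span {t ^ N})) (Ideal.span {t}) := by
    rw [Ideal.map_span, Set.image_singleton]
  rw [h1]
  haveI := ht
  apply Ideal.IsMaximal.map_of_surjective_of_ker_le Ideal.Quotient.mk_surjective
  rw [Ideal.mk_ker]
  exact span_pow_le t ht N hN

include ht in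
theorem isLocalRing_AN (N : ℕ) (hN : N ≠ 0) : IsLocalRing (AN t N) := by
  haveI := nontrivial_AN t ht N hN
  apply IsLocalRing.of_unique_max_ideal
  refine ⟨Ideal.span {tbar t N}, isMaximal_span_tbar t ht N hN, ?_⟩
  intro M hM
  have h1 : tbar t N ∈ M := by
    have : tbar t N ^ N ∈ M := by rw [tbar_pow]; exact M.zero_mem
    exact hM.isPrime.mem_of_pow_mem N this
  have h2 : Ideal.span {tbar t N} ≤ M := (Ideal.span_singleton_le_iff_mem _).2 h1
  exact ((isMaximal_span_tbar t ht N hN).eq_of_le hM.ne_top h2).symm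

include ht in
lemma maximalIdeal_AN (N : ℕ) (hN : N ≠ 0) [IsLocalRing (AN t N)] :
    maximalIdeal (AN t N) = Ideal.span {tbar t N} :=
  (IsLocalRing.eq_maximalIdeal (isMaximal_span_tbar t ht N hN)).symm

include ht in
theorem isArtinianRing_AN [IsNoetherianRing A] (N : ℕ) (hN : N ≠ 0) [IsLocalRing (AN t N)] :
    IsArtinianRing (AN t N) := by
  rw [isArtinianRing_iff_isNilpotent_maximalIdeal]
  refine ⟨N, ?_⟩
  rw [maximalIdeal_AN t ht N hN, Ideal.span_singleton_pow, tbar_pow, Ideal.zero_eq_bot,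
    Ideal.span_singleton_eq_bot]

/-- the augmentation `A_N → k` -/
noncomputable def resN (N : ℕ) (hN : N ≠ 0) : AN t N →ₐ[k] k :=
  ((AlgEquiv.ofBijective (Algebra.ofId k (A ⧸ Ideal.span {t}))
    (bijective_algebraMap_quot t ht)).symm : (A ⧸ Ideal.span {t}) →ₐ[k] k).comp
    (Ideal.Quotient.factorₐ k (span_pow_le t ht N hN))

include ht in
lemma tbar_pow_ne_zero (ht0 : t ≠ 0) (N n : ℕ) (hn : n < N) : tbar t N ^ n ≠ 0 := by
  intro h
  rw [tbar, ← map_pow, Ideal.Quotient.eq_zero_iff_mem, Ideal.mem_span_singleton] at h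
  obtain ⟨c, hc⟩ := h
  obtain ⟨m, rfl⟩ := Nat.exists_eq_add_of_lt hn
  have h1 : t ^ n * 1 = t ^ n * (t ^ (m + 1) * c) := by
    rw [mul_one, ← mul_assoc, ← pow_add]
    convert hc using 2
    ring
  have h2 := mul_left_cancel₀ (pow_ne_zero n ht0) h1
  have h3 : IsUnit t := by
    refine isUnit_iff_exists_inv.2 ⟨t ^ m * c, ?_⟩
    rw [h2]
    ring
  exact not_isUnit_t t ht h3

include ht in
/-- a functional picking out the coefficient of `t^n` -/
lemma exists_functional (ht0 : t ≠ 0) (N n : ℕ) (hn : n < N) :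
    ∃ lam : AN t N →ₗ[k] k, lam (tbar t N ^ n) = 1 := by
  have h1 := tbar_pow_ne_zero t ht ht0 N n hn
  have h2 : ¬ ∀ φ : Module.Dual k (AN t N), φ (tbar t N ^ n) = 0 := by
    rw [Module.forall_dual_apply_eq_zero_iff]
    exact h1
  push Not at h2
  obtain ⟨φ, hφ⟩ := h2
  refine ⟨(φ (tbar t N ^ n))⁻¹ • φ, ?_⟩
  rw [LinearMap.smul_apply, smul_eq_mul, inv_mul_cancel₀ hφ]

end Quot

end Groth.Agent.Lib.Helper19.NonSmooth
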