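import Groth.Agent.Lib.Helper19NodeDefB
import Groth.Agent.Lib.Helper19NonSmoothA
import Groth.Agent.Lib.Helper19FibreProd
import Groth.Agent.Lib.Helper19Prorep

/-!
# The deformation functor of the node is not pro-representable
-/

set_option autoImplicit false
universe u

open CategoryTheory CategoryTheory.Limits AlgebraicGeometry ArtFun ArtFun.Art
open Groth.Agent.Lib.Helper19.DefAff Groth.Agent.Lib.Helper19.NonSmooth
open Groth.Agent.Lib.Helper19

namespace Groth.Agent.Lib.Helper19.NodeDef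

variable (k : Type u) [Field k]

lemma isMaximal_span_X : (Ideal.span {(Polynomial.X : Polynomial k)}).IsMaximal :=
  PrincipalIdealRing.isMaximal_of_irreducible Polynomial.irreducible_X

/-- the truncated polynomial ring `k[s]/(s^N)` -/
abbrev TN (N : ℕ) : Type u := AN (Polynomial.X : Polynomial k) N

/-- the class of `s` -/
noncomputable abbrev sN (N : ℕ) : TN k N := tbar (Polynomial.X : Polynomial k) N

lemma span_pow_le_span_pow {M N : ℕ} (h : N ≤ M) :
    Ideal.span {(Polynomial.X : Polynomial k) ^ M} ≤ Ideal.span {(Polynomial.X : Polynomial k) ^ N} := by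
  rw [Ideal.span_singleton_le_iff_mem, Ideal.mem_span_singleton]
  exact pow_dvd_pow _ h

/-- truncation on the level of rings -/
noncomputable def truncN {M N : ℕ} (h : N ≤ M) : TN k M →ₐ[k] TN k N :=
  Ideal.Quotient.factorₐ k (span_pow_le_span_pow k h)

lemma truncN_sN {M N : ℕ} (h : N ≤ M) : truncN k h (sN k M) = sN k N := rfl

lemma truncN_surjective {M N : ℕ} (h : N ≤ M) : Function.Surjective (truncN k h) :=
  Ideal.Quotient.factor_surjective (span_pow_le_span_pow k h)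

lemma exists_of_truncN_eq_zero {M N : ℕ} (h : N ≤ M) (x : TN k M) (hx : truncN k h x = 0) :
    ∃ r : TN k M, x = r * sN k M ^ N := by
  obtain ⟨q, rfl⟩ := Ideal.Quotient.mk_surjective x
  have h1 : (Ideal.Quotient.mk (Ideal.span {(Polynomial.X : Polynomial k) ^ N}) q) = 0 := hx
  rw [Ideal.Quotient.eq_zero_iff_mem, Ideal.mem_span_singleton'] at h1
  obtain ⟨r, rfl⟩ := h1
  exact ⟨Ideal.Quotient.mk _ r, by rw [map_mul, map_pow]⟩

variable [IsAlgClosed k]

lemma resN_sN (N : ℕ) (hN : N ≠ 0) :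
    resN (Polynomial.X : Polynomial k) (isMaximal_span_X k) N hN (sN k N) = (0 : k) := by
  change ((AlgEquiv.ofBijective
    (Algebra.ofId k (Polynomial k ⧸ Ideal.span {(Polynomial.X : Polynomial k)}))
    (bijective_algebraMap_quot (Polynomial.X : Polynomial k) (isMaximal_span_X k))).symm)
      (Ideal.Quotient.mk _ (Polynomial.X : Polynomial k)) = (0 : k)
  rw [(Ideal.Quotient.eq_zero_iff_mem).2 (Ideal.mem_span_singleton_self _), map_zero]

omit [IsAlgClosed k] in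
lemma exists_of_mem_maximalIdeal_TN (M : ℕ) (hM : M ≠ 0) [IsLocalRing (TN k M)] (x : TN k M)
    (hx : x ∈ IsLocalRing.maximalIdeal (TN k M)) : ∃ r : TN k M, x = r * sN k M := by
  rw [maximalIdeal_AN (Polynomial.X : Polynomial k) (isMaximal_span_X k) M hM] at hx
  obtain ⟨r, hr⟩ := Ideal.mem_span_singleton'.1 hx
  exact ⟨r, hr.symm⟩

/-- `k[s]/(s^N)` as an object -/
noncomputable def TObj (N : ℕ) (hN : N ≠ 0) : Art k k :=
  haveI := isLocalRing_AN (Polynomial.X : Polynomial k) (isMaximal_span_X k) N hN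
  haveI := isArtinianRing_AN (Polynomial.X : Polynomial k) (isMaximal_span_X k) N hN
  Art.of (TN k N) (resN (Polynomial.X : Polynomial k) (isMaximal_span_X k) N hN)
    (fun c => ⟨algebraMap k _ c, by rw [AlgHom.commutes]; rfl⟩)

/-- the class of `s` in the object `k[s]/(s^N)` -/
noncomputable def sT (N : ℕ) (hN : N ≠ 0) : (TObj k N hN : Type u) := sN k N

lemma res_sT (N : ℕ) (hN : N ≠ 0) : (TObj k N hN).res (sT k N hN) = 0 := resN_sN k N hN

lemma sT_pow (N : ℕ) (hN : N ≠ 0) : sT k N hN ^ N = 0 :=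
  tbar_pow (Polynomial.X : Polynomial k) N

/-- the truncation `k[s]/(s^M) → k[s]/(s^N)` -/
noncomputable def truncHom {M N : ℕ} (hM : M ≠ 0) (hN : N ≠ 0) (h : N ≤ M) :
    TObj k M hM ⟶ TObj k N hN :=
  ⟨truncN k h, by
    apply Ideal.Quotient.algHom_ext
    apply Polynomial.algHom_ext
    change (TObj k N hN).res (sT k N hN) = (TObj k M hM).res (sT k M hM)
    rw [res_sT, res_sT]⟩

lemma truncHom_sT {M N : ℕ} (hM : M ≠ 0) (hN : N ≠ 0) (h : N ≤ M) :
    truncHom k hM hN h (sT k M hM) = sT k N hN := rfl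

lemma truncHom_surjective {M N : ℕ} (hM : M ≠ 0) (hN : N ≠ 0) (h : N ≤ M) :
    Function.Surjective (truncHom k hM hN h) := truncN_surjective k h

lemma exists_of_truncHom_eq_zero {M N : ℕ} (hM : M ≠ 0) (hN : N ≠ 0) (h : N ≤ M)
    (x : TObj k M hM) (hx : truncHom k hM hN h x = 0) :
    ∃ r : TObj k M hM, x = r * sT k M hM ^ N := exists_of_truncN_eq_zero k h x hx

lemma exists_of_mem_maximalIdeal {M : ℕ} (hM : M ≠ 0) (x : TObj k M hM)
    (hx : x ∈ IsLocalRing.maximalIdeal (TObj k M hM)) : ∃ r : TObj k M hM, x = r * sT k M hM :=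
  @exists_of_mem_maximalIdeal_TN k _ M hM
    (isLocalRing_AN (Polynomial.X : Polynomial k) (isMaximal_span_X k) M hM) x hx

lemma exists_functional_sT (N n : ℕ) (hN : N ≠ 0) (hn : n < N) :
    ∃ lam : (TObj k N hN : Type u) →ₗ[k] k, lam (sT k N hN ^ n) = 1 :=
  exists_functional (Polynomial.X : Polynomial k) (isMaximal_span_X k) Polynomial.X_ne_zero N n hn

section Example

/-- `A' = k[s]/(s³)` -/
noncomputable abbrev A3 : Art k k := TObj k 3 (by norm_num)

/-- `A = k[s]/(s²)` -/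
noncomputable abbrev A2 : Art k k := TObj k 2 (by norm_num)

/-- the truncation `A' → A` -/
noncomputable abbrev p32 : A3 k ⟶ A2 k := truncHom k (by norm_num) (by norm_num) (by norm_num)

lemma p32_surjective : Function.Surjective (p32 k) := truncHom_surjective k _ _ _

/-- `s ∈ A'` -/
noncomputable abbrev s3 : (A3 k : Type u) := sT k 3 (by norm_num)

lemma s3_pow_three : s3 k ^ 3 = 0 := sT_pow k 3 (by norm_num)

lemma p32_s3_sq : p32 k (s3 k ^ 2) = 0 := by
  have h1 : p32 k (s3 k ^ 2) = (p32 k (s3 k)) ^ 2 := map_pow (p32 k).toAlgHom _ _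
  rw [h1]
  exact sT_pow k 2 (by norm_num)

/-- the fibre product `C = A' ×_A A'` -/
noncomputable abbrev CObj : Art k k := pullbackObj (p32 k) (p32 k) (p32_surjective k)

/-- first projection -/
noncomputable abbrev q₁ : CObj k ⟶ A3 k := pullbackObjFst (p32 k) (p32 k) (p32_surjective k)

/-- second projection -/
noncomputable abbrev q₂ : CObj k ⟶ A3 k := pullbackObjSnd (p32 k) (p32 k) (p32_surjective k)

/-- `c₁ = (s, s)` -/
noncomputable def c₁ : (CObj k : Type u) := ⟨(s3 k, s3 k), rfl⟩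

/-- `c₂ = (s, s + s²)` -/
noncomputable def c₂ : (CObj k : Type u) := ⟨(s3 k, s3 k + s3 k ^ 2), by
  change p32 k (s3 k) = p32 k (s3 k + s3 k ^ 2)
  have : p32 k (s3 k + s3 k ^ 2) = p32 k (s3 k) + p32 k (s3 k ^ 2) := map_add (p32 k).toAlgHom _ _
  rw [this, p32_s3_sq, add_zero]⟩

lemma q₁_c₁ : q₁ k (c₁ k) = s3 k := rfl
lemma q₂_c₁ : q₂ k (c₁ k) = s3 k := rfl
lemma q₁_c₂ : q₁ k (c₂ k) = s3 k := rfl
lemma q₂_c₂ : q₂ k (c₂ k) = s3 k + s3 k ^ 2 := rfl

lemma s3_mem : s3 k ∈ IsLocalRing.maximalIdeal (A3 k) := by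
  rw [(A3 k).mem_maximalIdeal_iff]
  exact res_sT k 3 _

lemma c₁_mem : c₁ k ∈ IsLocalRing.maximalIdeal (CObj k) := by
  rw [(CObj k).mem_maximalIdeal_iff]
  exact res_sT k 3 (by norm_num)

lemma c₂_mem : c₂ k ∈ IsLocalRing.maximalIdeal (CObj k) := by
  rw [(CObj k).mem_maximalIdeal_iff]
  exact res_sT k 3 (by norm_num)

lemma s3_sq_ne_zero : s3 k ^ 2 ≠ 0 :=
  tbar_pow_ne_zero (Polynomial.X : Polynomial k) (isMaximal_span_X k) Polynomial.X_ne_zero 3 2
    (by norm_num)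

lemma exists_diff (w : CObj k) : ∃ r : A3 k, q₂ k w - q₁ k w = r * s3 k ^ 2 := by
  apply exists_of_truncHom_eq_zero k (by norm_num) (by norm_num) (by norm_num)
  have h1 : p32 k (q₂ k w - q₁ k w) = p32 k (q₂ k w) - p32 k (q₁ k w) :=
    map_sub (p32 k).toAlgHom _ _
  rw [h1, sub_eq_zero]
  exact w.2.symm

lemma exists_of_mem (w : CObj k) (hw : w ∈ IsLocalRing.maximalIdeal (CObj k)) (q : CObj k ⟶ A3 k) :
    ∃ r : A3 k, q w = r * s3 k :=
  exists_of_mem_maximalIdeal k (by norm_num) _ (map_mem_maximalIdeal q hw)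

/-- `c₂` is not congruent to a product modulo `c₁` -/
theorem not_exists_decomp :
    ¬ ∃ a b z : CObj k, a ∈ IsLocalRing.maximalIdeal (CObj k) ∧
      b ∈ IsLocalRing.maximalIdeal (CObj k) ∧ c₂ k = a * b + c₁ k * z := by
  rintro ⟨a, b, z, ha, hb, h⟩
  have h1 : q₁ k (c₂ k) = q₁ k a * q₁ k b + q₁ k (c₁ k) * q₁ k z := by
    rw [h, map_add, map_mul, map_mul]
  have h2 : q₂ k (c₂ k) = q₂ k a * q₂ k b + q₂ k (c₁ k) * q₂ k z := by
    rw [h, map_add, map_mul, map_mul]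
  rw [q₁_c₂, q₁_c₁] at h1
  rw [q₂_c₂, q₂_c₁] at h2
  obtain ⟨r₁, hr₁⟩ := exists_diff k a
  obtain ⟨r₂, hr₂⟩ := exists_diff k b
  obtain ⟨r₃, hr₃⟩ := exists_diff k z
  obtain ⟨t₁, ht₁⟩ := exists_of_mem k b hb (q₁ k)
  obtain ⟨t₂, ht₂⟩ := exists_of_mem k a ha (q₂ k)
  have h3 : s3 k ^ 2 = q₂ k a * (q₂ k b - q₁ k b) + q₁ k b * (q₂ k a - q₁ k a) +
      s3 k * (q₂ k z - q₁ k z) := by
    linear_combination h2 - h1
  rw [hr₁, hr₂, hr₃, ht₁, ht₂] at h3
  have h4 : s3 k ^ 2 = (t₂ * r₂ + t₁ * r₁ + r₃) * s3 k ^ 3 := by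
    rw [h3]
    ring
  rw [s3_pow_three, mul_zero] at h4
  exact s3_sq_ne_zero k h4

omit [IsAlgClosed k] in
lemma nodeDef_congr (R : Art k k) {c c' : R} (h : c = c') (hc : c ∈ IsLocalRing.maximalIdeal R)
    (hc' : c' ∈ IsLocalRing.maximalIdeal R) :
    Nonempty ((nodeDef R c hc).Iso (nodeDef R c' hc')) := by
  subst h
  exact ⟨DefSch.Iso.refl _⟩

/-- **The deformation functor of the node is not pro-representable.** -/
theorem not_isProrepresentable_node :
    ¬ ArtFun.IsProrepresentable (ArtFun.defFunctor (Λ := k) (Spec (CommRingCat.of (NodeB k)))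
      (Spec.map (CommRingCat.ofHom (algebraMap k (NodeB k))))) := by
  rintro ⟨P⟩
  have hLE := isLeftExact_of_isUniversal P.family P.universal
  have hfp := isFibreProd_pullbackObj (p32 k) (p32 k) (p32_surjective k)
  have hinj := (hLE (q₁ k) (q₂ k) (p32 k) (p32 k) hfp).1
  have hcl : (nodeDef (CObj k) (c₁ k) (c₁_mem k)).cl = (nodeDef (CObj k) (c₂ k) (c₂_mem k)).cl := by
    apply hinj
    apply FibProd.ext
    · change (ArtFun.defFunctor _ _).map (q₁ k) (nodeDef (CObj k) (c₁ k) (c₁_mem k)).cl =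
        (ArtFun.defFunctor _ _).map (q₁ k) (nodeDef (CObj k) (c₂ k) (c₂_mem k)).cl
      rw [defFunctor_map_cl, defFunctor_map_cl]
      obtain ⟨e₁⟩ := nodeDef_baseChange (c₁ k) (c₁_mem k) (q₁ k)
      obtain ⟨e₂⟩ := nodeDef_baseChange (c₂ k) (c₂_mem k) (q₁ k)
      obtain ⟨e₃⟩ := nodeDef_congr k (A3 k) ((q₁_c₁ k).trans (q₁_c₂ k).symm)
        (map_mem_maximalIdeal (q₁ k) (c₁_mem k)) (map_mem_maximalIdeal (q₁ k) (c₂_mem k))
      exact Quotient.sound ⟨(e₁.trans e₃).trans e₂.symm⟩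
    · change (ArtFun.defFunctor _ _).map (q₂ k) (nodeDef (CObj k) (c₁ k) (c₁_mem k)).cl =
        (ArtFun.defFunctor _ _).map (q₂ k) (nodeDef (CObj k) (c₂ k) (c₂_mem k)).cl
      rw [defFunctor_map_cl, defFunctor_map_cl]
      obtain ⟨e₁⟩ := nodeDef_baseChange (c₁ k) (c₁_mem k) (q₂ k)
      obtain ⟨e₂⟩ := nodeDef_baseChange (c₂ k) (c₂_mem k) (q₂ k)
      have hu : (A3 k).res (1 + s3 k) = 1 := by
        rw [map_add, map_one, res_sT, add_zero]
      have hmem : (1 + s3 k) * q₂ k (c₁ k) ∈ IsLocalRing.maximalIdeal (A3 k) :=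
        Ideal.mul_mem_left _ _ (map_mem_maximalIdeal (q₂ k) (c₁_mem k))
      obtain ⟨e₃⟩ := nodeDef_scale_iso (A3 k) (q₂ k (c₁ k))
        (map_mem_maximalIdeal (q₂ k) (c₁_mem k)) (1 + s3 k) hu hmem
      have heq : (1 + s3 k) * q₂ k (c₁ k) = q₂ k (c₂ k) := by
        rw [q₂_c₁, q₂_c₂]
        ring
      obtain ⟨e₄⟩ := nodeDef_congr k (A3 k) heq hmem (map_mem_maximalIdeal (q₂ k) (c₂_mem k))
      exact Quotient.sound ⟨((e₁.trans e₃).trans e₄).trans e₂.symm⟩
  obtain ⟨e⟩ := Quotient.exact hcl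
  exact not_exists_decomp k (exists_of_nodeDef_iso (CObj k) (c₁ k) (c₂ k) _ _ e)

end Example

end Groth.Agent.Lib.Helper19.NodeDef
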