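import Mathlib
import Groth.Agent.Lib.Helper19NodeApproxA

/-!
# Successive approximation for the node `Q(u,v) = α`, `Q` a nondegenerate binary quadratic form
(helper19)

`D` a complete Noetherian local ring, algebra over `A`, `𝔞 = 𝔪 D` for an ideal `𝔪` of `A`,
`Q = a u² + b uv + c v²` with `b² - 4ac` invertible in `A`.
If `Q(u,v) ∈ 𝔞`, `m_D = (u, v) + 𝔞` and `D = A + m_D`, then `u, v` can be corrected modulo `𝔞`
to `u', v'` with `Q(u',v')` the limit of a Cauchy sequence from `𝔪`.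
-/

set_option autoImplicit false
universe u v

open IsLocalRing

namespace Groth.Agent.Lib.Helper19.NodeQ

open Groth.Agent.Lib.Helper19.NodeApprox

variable {A : Type u} {D : Type v} [CommRing A] [CommRing D] [Algebra A D] [IsLocalRing D]
  (𝔪 : Ideal A) (a b c w : A) (hw : w * (b ^ 2 - 4 * a * c) = 1) (u v : D)
  (hgen : maximalIdeal D = Ideal.span {u, v} ⊔ 𝔪.map (algebraMap A D))
  (hres : ∀ d : D, ∃ r : A, d - algebraMap A D r ∈ maximalIdeal D)

/-- the value of the quadratic form -/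
def qf (x y : D) : D :=
  algebraMap A D a * x ^ 2 + algebraMap A D b * x * y + algebraMap A D c * y ^ 2

include hw hgen hres in
theorem exists_approx [IsNoetherianRing D] [IsAdicComplete (maximalIdeal D) D]
    (huv : qf a b c u v ∈ 𝔪.map (algebraMap A D)) :
    ∃ (u' v' : D) (α : ℕ → A), (∀ n, α n ∈ 𝔪) ∧ (∀ n, α (n + 1) - α n ∈ 𝔪 ^ (n + 1)) ∧
      u' - u ∈ 𝔪.map (algebraMap A D) ∧ v' - v ∈ 𝔪.map (algebraMap A D) ∧
      ∀ n, qf a b c u' v' - algebraMap A D (α n) ∈ (𝔪.map (algebraMap A D)) ^ (n + 1) := by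
  set 𝔞 : Ideal D := 𝔪.map (algebraMap A D) with h𝔞
  have h𝔞le : 𝔞 ≤ maximalIdeal D := by rw [hgen]; exact le_sup_right
  haveI : IsAdicComplete 𝔞 D := Groth.Agent.Lib.Helper28.isAdicComplete_of_le (maximalIdeal D) 𝔞 h𝔞le
  have hw' : algebraMap A D w * (algebraMap A D b ^ 2 - 4 * algebraMap A D a * algebraMap A D c)
      = 1 := by
    have := congrArg (algebraMap A D) hw
    rw [map_mul, map_sub, map_pow, map_mul, map_mul, map_one] at this
    have h4 : algebraMap A D 4 = 4 := map_ofNat (algebraMap A D) 4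
    rwa [h4] at this
  -- the invariant
  let Inv : ℕ → D × D × A → Prop := fun n t =>
    t.1 - u ∈ 𝔞 ∧ t.2.1 - v ∈ 𝔞 ∧ t.2.2 ∈ 𝔪 ∧ qf a b c t.1 t.2.1 - algebraMap A D t.2.2 ∈ 𝔞 ^ (n + 1)
  have hstep : ∀ (n : ℕ) (t : D × D × A), Inv n t → ∃ t' : D × D × A, Inv (n + 1) t' ∧
      t'.1 - t.1 ∈ 𝔞 ^ (n + 1) ∧ t'.2.1 - t.2.1 ∈ 𝔞 ^ (n + 1) ∧ t'.2.2 - t.2.2 ∈ 𝔪 ^ (n + 1) := by
    rintro n ⟨un, vn, αn⟩ ⟨h1, h2, h3, h4⟩
    obtain ⟨r, P, Q, ε', hr, hP, hQ, hε', he⟩ := step 𝔪 u v hgen hres un vn h1 h2 (n + 1) _ h4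
    have hle1 : 𝔞 ^ (n + 1) ≤ 𝔞 := Ideal.pow_le_self (Nat.succ_ne_zero n)
    -- the corrections
    set δu : D := algebraMap A D w * (2 * algebraMap A D c * P - algebraMap A D b * Q) with hδu
    set δv : D := algebraMap A D w * (2 * algebraMap A D a * Q - algebraMap A D b * P) with hδv
    have hδum : δu ∈ 𝔞 ^ (n + 1) :=
      Ideal.mul_mem_left _ _ (Ideal.sub_mem _ (Ideal.mul_mem_left _ _ hP) (Ideal.mul_mem_left _ _ hQ))
    have hδvm : δv ∈ 𝔞 ^ (n + 1) :=
      Ideal.mul_mem_left _ _ (Ideal.sub_mem _ (Ideal.mul_mem_left _ _ hQ) (Ideal.mul_mem_left _ _ hP))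
    refine ⟨(un + δu, vn + δv, αn + r), ⟨?_, ?_, ?_, ?_⟩, ?_, ?_, ?_⟩
    · show un + δu - u ∈ 𝔞
      have : un + δu - u = (un - u) + δu := by ring
      rw [this]; exact Ideal.add_mem _ h1 (hle1 hδum)
    · show vn + δv - v ∈ 𝔞
      have : vn + δv - v = (vn - v) + δv := by ring
      rw [this]; exact Ideal.add_mem _ h2 (hle1 hδvm)
    · exact Ideal.add_mem _ h3 (Ideal.pow_le_self (Nat.succ_ne_zero n) hr)
    · show qf a b c (un + δu) (vn + δv) - algebraMap A D (αn + r) ∈ 𝔞 ^ (n + 1 + 1)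
      have he' : qf a b c un vn - algebraMap A D αn = algebraMap A D r + un * P + vn * Q + ε' := he
      have h5 : 2 * algebraMap A D a * δu + algebraMap A D b * δv = -P := by
        rw [hδu, hδv]; linear_combination (-P) * hw'
      have h6 : algebraMap A D b * δu + 2 * algebraMap A D c * δv = -Q := by
        rw [hδu, hδv]; linear_combination (-Q) * hw'
      have : qf a b c (un + δu) (vn + δv) - algebraMap A D (αn + r) = ε' + qf a b c δu δv := by
        rw [map_add]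
        unfold qf at he' ⊢
        linear_combination he' + un * h5 + vn * h6
      rw [this]
      refine Ideal.add_mem _ hε' ?_
      have hsq : ∀ x ∈ 𝔞 ^ (n + 1), ∀ y ∈ 𝔞 ^ (n + 1), x * y ∈ 𝔞 ^ (n + 1 + 1) := by
        intro x hx y hy
        have h5 : x * y ∈ 𝔞 ^ (n + 1) * 𝔞 ^ (n + 1) := Ideal.mul_mem_mul hx hy
        rw [← pow_add] at h5
        exact Ideal.pow_le_pow_right (by omega) h5
      unfold qf
      refine Ideal.add_mem _ (Ideal.add_mem _ ?_ ?_) ?_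
      · rw [pow_two]; exact Ideal.mul_mem_left _ _ (hsq _ hδum _ hδum)
      · rw [mul_assoc]; exact Ideal.mul_mem_left _ _ (hsq _ hδum _ hδvm)
      · rw [pow_two]; exact Ideal.mul_mem_left _ _ (hsq _ hδvm _ hδvm)
    · show un + δu - un ∈ _
      rw [add_sub_cancel_left]; exact hδum
    · show vn + δv - vn ∈ _
      rw [add_sub_cancel_left]; exact hδvm
    · show αn + r - αn ∈ _
      rw [add_sub_cancel_left]; exact hr
  have h0 : Inv 0 (u, v, 0) := by
    refine ⟨?_, ?_, Ideal.zero_mem _, ?_⟩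
    · show u - u ∈ 𝔞
      rw [sub_self]; exact Ideal.zero_mem _
    · show v - v ∈ 𝔞
      rw [sub_self]; exact Ideal.zero_mem _
    · show qf a b c u v - algebraMap A D 0 ∈ 𝔞 ^ (0 + 1)
      rw [map_zero, sub_zero, zero_add, pow_one]; exact huv
  -- the sequence
  let s : (n : ℕ) → {t : D × D × A // Inv n t} := fun n =>
    Nat.rec (motive := fun n => {t : D × D × A // Inv n t}) ⟨(u, v, 0), h0⟩
      (fun n t => ⟨(hstep n t.1 t.2).choose, (hstep n t.1 t.2).choose_spec.1⟩) n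
  have hs : ∀ n, (s (n + 1)).1.1 - (s n).1.1 ∈ 𝔞 ^ (n + 1) ∧
      (s (n + 1)).1.2.1 - (s n).1.2.1 ∈ 𝔞 ^ (n + 1) ∧
      (s (n + 1)).1.2.2 - (s n).1.2.2 ∈ 𝔪 ^ (n + 1) := fun n =>
    (hstep n (s n).1 (s n).2).choose_spec.2
  -- Cauchy
  have hcauchy : ∀ (f : ℕ → D), (∀ n, f (n + 1) - f n ∈ 𝔞 ^ (n + 1)) →
      ∀ {m n : ℕ}, m ≤ n → f m ≡ f n [SMOD (𝔞 ^ m • ⊤ : Submodule D D)] := by
    intro f hf m n hmn
    rw [SModEq.sub_mem, smul_eq_mul, Ideal.mul_top]
    induction n, hmn using Nat.le_induction with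
    | base => rw [sub_self]; exact Ideal.zero_mem _
    | succ n hmn ih =>
      have : f m - f (n + 1) = (f m - f n) - (f (n + 1) - f n) := by ring
      rw [this]
      exact Ideal.sub_mem _ ih (Ideal.pow_le_pow_right (by omega) (hf n))
  obtain ⟨u', hu'⟩ := IsPrecomplete.prec' (I := 𝔞) (fun n => (s n).1.1)
    (fun {m n} hmn => hcauchy (fun n => (s n).1.1) (fun n => (hs n).1) hmn)
  obtain ⟨v', hv'⟩ := IsPrecomplete.prec' (I := 𝔞) (fun n => (s n).1.2.1)
    (fun {m n} hmn => hcauchy (fun n => (s n).1.2.1) (fun n => (hs n).2.1) hmn)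
  have hu'' : ∀ n, (s n).1.1 - u' ∈ 𝔞 ^ n := fun n => by
    have := hu' n
    rwa [SModEq.sub_mem, smul_eq_mul, Ideal.mul_top] at this
  have hv'' : ∀ n, (s n).1.2.1 - v' ∈ 𝔞 ^ n := fun n => by
    have := hv' n
    rwa [SModEq.sub_mem, smul_eq_mul, Ideal.mul_top] at this
  refine ⟨u', v', fun n => (s n).1.2.2, fun n => (s n).2.2.2.1, fun n => (hs n).2.2, ?_, ?_, ?_⟩
  · have h1 := hu'' 1
    rw [pow_one] at h1
    have : u' - u = ((s 1).1.1 - u) - ((s 1).1.1 - u') := by ring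
    rw [this]; exact Ideal.sub_mem _ (s 1).2.1 h1
  · have h1 := hv'' 1
    rw [pow_one] at h1
    have : v' - v = ((s 1).1.2.1 - v) - ((s 1).1.2.1 - v') := by ring
    rw [this]; exact Ideal.sub_mem _ (s 1).2.2.1 h1
  · intro n
    have h1 := hu'' (n + 1)
    have h2 := hv'' (n + 1)
    have h3 : qf a b c (s (n + 1)).1.1 (s (n + 1)).1.2.1 - algebraMap A D (s (n + 1)).1.2.2 ∈
        𝔞 ^ (n + 1 + 1) := (s (n + 1)).2.2.2.2
    have h4 : algebraMap A D ((s (n + 1)).1.2.2 - (s n).1.2.2) ∈ 𝔞 ^ (n + 1) := by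
      rw [h𝔞, ← Ideal.map_pow]; exact Ideal.mem_map_of_mem _ (hs n).2.2
    -- `qf` is Lipschitz
    have hlip : ∀ x y x' y' : D, qf a b c x' y' - qf a b c x y =
        (x' - x) * (algebraMap A D a * (x' + x) + algebraMap A D b * y') +
        (y' - y) * (algebraMap A D b * x + algebraMap A D c * (y' + y)) := by
      intro x y x' y'; unfold qf; ring
    have : qf a b c u' v' - algebraMap A D (s n).1.2.2 =
        (qf a b c (s (n + 1)).1.1 (s (n + 1)).1.2.1 - algebraMap A D (s (n + 1)).1.2.2)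
        + algebraMap A D ((s (n + 1)).1.2.2 - (s n).1.2.2)
        - (qf a b c (s (n + 1)).1.1 (s (n + 1)).1.2.1 - qf a b c u' v') := by
      rw [map_sub]; ring
    rw [this, hlip]
    refine Ideal.sub_mem _ (Ideal.add_mem _
      (Ideal.pow_le_pow_right (by omega) h3) h4) (Ideal.add_mem _ (Ideal.mul_mem_right _ _ h1)
      (Ideal.mul_mem_right _ _ h2))

end Groth.Agent.Lib.Helper19.NodeQ
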