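import Mathlib
import Groth.Agent.Lib.Helper19NodeQA
import Groth.Agent.Lib.Helper19NodeApproxF

/-!
# The node `Q(x,y) = α` over completions: data and the map from the power series model (helper19)
-/

set_option autoImplicit false
universe u

open IsLocalRing

namespace Groth.Agent.Lib.Helper19.NodeQ

open Groth.Agent.Lib.Helper19.NodeApprox

section Data

variable (A B : Type u) [CommRing A] [IsLocalRing A] [IsNoetherianRing A]
  [CommRing B] [IsLocalRing B] [IsNoetherianRing B] [Algebra A B] [IsLocalHom (algebraMap A B)]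
  (a b c w : A) (hw : w * (b ^ 2 - 4 * a * c) = 1)

local notation "Â" => AdicCompletion (maximalIdeal A) A
local notation "B̂" => AdicCompletion (maximalIdeal B) B

include hw in
/-- the data produced by successive approximation, starting from elements of the completion -/
theorem exists_node_data' (u v : B̂)
    (huvD : qf (A := A) a b c u v ∈ (maximalIdeal A).map (algebraMap A B̂))
    (hgenD : maximalIdeal B̂ = Ideal.span {u, v} ⊔ (maximalIdeal A).map (algebraMap A B̂))
    (hresD : ∀ d : B̂, ∃ r : A, d - algebraMap A B̂ r ∈ maximalIdeal B̂) :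
    ∃ (α : Â) (u' v' : B̂),
      α ∈ (maximalIdeal A).map (algebraMap A Â) ∧
      u' - u ∈ (maximalIdeal A).map (algebraMap A B̂) ∧
      v' - v ∈ (maximalIdeal A).map (algebraMap A B̂) ∧
      qf (A := A) a b c u' v' = ι A B α ∧
      maximalIdeal B̂ = Ideal.span {u', v'} ⊔ (maximalIdeal A).map (algebraMap A B̂) := by
  set 𝔞 : Ideal B̂ := (maximalIdeal A).map (algebraMap A B̂) with h𝔞
  obtain ⟨u', v', α, hαm, hαc, hu', hv', happ⟩ :=
    exists_approx (maximalIdeal A) a b c w hw u v hgenD hresD huvD
  let αseq : AdicCompletion.AdicCauchySequence (maximalIdeal A) A :=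
    ⟨α, fun {m n} hmn => cauchy_of_succ (maximalIdeal A) α hαc hmn⟩
  let αh : Â := AdicCompletion.mk (maximalIdeal A) A αseq
  have hfgA : (maximalIdeal A).FG := IsNoetherian.noetherian _
  have hαh : ∀ n, αh - algebraMap A Â (α n) ∈ ((maximalIdeal A).map (algebraMap A Â)) ^ n := by
    intro n
    rw [← Ideal.map_pow]
    apply mem_map_pow_of_evalₐ_eq_zero (maximalIdeal A) hfgA
    rw [map_sub, AdicCompletion.evalₐ_mk, AdicCompletion.algebraMap_apply, AdicCompletion.evalₐ_of,
      Algebra.algebraMap_self, RingHom.id_apply]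
    exact sub_self _
  have h𝔞le : 𝔞 ≤ maximalIdeal B̂ := by rw [hgenD]; exact le_sup_right
  haveI : IsAdicComplete 𝔞 B̂ :=
    Groth.Agent.Lib.Helper28.isAdicComplete_of_le (maximalIdeal B̂) 𝔞 h𝔞le
  have hprod : qf (A := A) a b c u' v' = ι A B αh := by
    have hH : IsHausdorff 𝔞 B̂ := inferInstance
    rw [← sub_eq_zero]
    apply hH.haus
    intro n
    rw [SModEq.zero, smul_eq_mul, Ideal.mul_top]
    have h1 : ι A B (αh - algebraMap A Â (α n)) ∈ 𝔞 ^ n := by
      have h2 := Ideal.mem_map_of_mem (ι A B) (hαh n)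
      rw [Ideal.map_pow, map_ι_map] at h2
      exact h2
    have h3 : qf (A := A) a b c u' v' - ι A B αh =
        (qf (A := A) a b c u' v' - algebraMap A B̂ (α n)) - ι A B (αh - algebraMap A Â (α n)) := by
      rw [map_sub, ι_algebraMap]; ring
    rw [h3]
    exact Ideal.sub_mem _ (Ideal.pow_le_pow_right (Nat.le_succ n) (happ n)) h1
  refine ⟨αh, u', v', ?_, hu', hv', hprod, ?_⟩
  · have h1 := hαh 1
    rw [pow_one] at h1
    have : αh = (αh - algebraMap A Â (α 1)) + algebraMap A Â (α 1) := by ring
    rw [this]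
    exact Ideal.add_mem _ h1 (Ideal.mem_map_of_mem _ (hαm 1))
  · rw [hgenD]
    apply le_antisymm
    · refine sup_le ?_ le_sup_right
      rw [Ideal.span_le]
      rintro x hx
      rcases hx with hx | hx
      · rw [hx]
        have : u = u' - (u' - u) := by ring
        rw [this]
        exact Ideal.sub_mem _ (Ideal.mem_sup_left (Ideal.subset_span (by simp)))
          (Ideal.mem_sup_right hu')
      · rw [Set.mem_singleton_iff.1 hx]
        have : v = v' - (v' - v) := by ring
        rw [this]
        exact Ideal.sub_mem _ (Ideal.mem_sup_left (Ideal.subset_span (by simp)))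
          (Ideal.mem_sup_right hv')
    · refine sup_le ?_ le_sup_right
      rw [Ideal.span_le]
      rintro x hx
      rcases hx with hx | hx
      · rw [hx]
        have : u' = u + (u' - u) := by ring
        rw [this]
        exact Ideal.add_mem _ (Ideal.mem_sup_left (Ideal.subset_span (by simp)))
          (Ideal.mem_sup_right hu')
      · rw [Set.mem_singleton_iff.1 hx]
        have : v' = v + (v' - v) := by ring
        rw [this]
        exact Ideal.add_mem _ (Ideal.mem_sup_left (Ideal.subset_span (by simp)))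
          (Ideal.mem_sup_right hv')

end Data

section Model

variable (A B : Type u) [CommRing A] [IsLocalRing A] [IsNoetherianRing A]
  [CommRing B] [IsLocalRing B] [IsNoetherianRing B] [Algebra A B] [IsLocalHom (algebraMap A B)]
  (a b c : A)

local notation "Â" => AdicCompletion (maximalIdeal A) A
local notation "B̂" => AdicCompletion (maximalIdeal B) B

/-- the quadratic form as a power series over `R`, coefficients `a b c : R` -/
noncomputable def qps {R : Type*} [CommRing R] (a b c : R) : MvPowerSeries (Fin 2) R :=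
  MvPowerSeries.C a * MvPowerSeries.X 0 ^ 2 + MvPowerSeries.C b * MvPowerSeries.X 0 *
    MvPowerSeries.X 1 + MvPowerSeries.C c * MvPowerSeries.X 1 ^ 2

lemma map_qps {R R' : Type*} [CommRing R] [CommRing R'] (q : R →+* R') (a b c : R) :
    MvPowerSeries.map (σ := Fin 2) q (qps a b c) = qps (q a) (q b) (q c) := by
  unfold qps
  simp only [map_add, map_mul, map_pow, MvPowerSeries.map_C, MvPowerSeries.map_X]

/-- the model ring `Â[[x,y]]/(Q - α)` -/
abbrev Model (α : Â) : Type u :=
  MvPowerSeries (Fin 2) Â ⧸ Ideal.span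
    {(qps (algebraMap A Â a) (algebraMap A Â b) (algebraMap A Â c) - MvPowerSeries.C α :
      MvPowerSeries (Fin 2) Â)}

theorem exists_algHom_of_data (α : Â) (u' v' : B̂) (hu' : u' ∈ maximalIdeal B̂)
    (hv' : v' ∈ maximalIdeal B̂) (hprod : qf (A := A) a b c u' v' = ι A B α) :
    ∃ (ψ₀ : MvPowerSeries (Fin 2) Â →+* B̂) (ψ : Model A a b c α →ₐ[A] B̂),
      (∀ g, ψ (Ideal.Quotient.mk _ g) = ψ₀ g) ∧ ψ₀ (MvPowerSeries.X 0) = u' ∧
      ψ₀ (MvPowerSeries.X 1) = v' ∧ ∀ r : Â, ψ₀ (MvPowerSeries.C r) = ι A B r := by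
  letI : Algebra Â B̂ := (ι A B).toAlgebra
  obtain ⟨φ, hφ⟩ := exists_algHom_X_eq_of_isAdicComplete (Λ := Â) (σ := Fin 2) (E := B̂)
    (maximalIdeal B̂) ![u', v'] (by
      intro s
      fin_cases s
      · exact hu'
      · exact hv')
  have hφC : ∀ r : Â, φ (MvPowerSeries.C r) = ι A B r := by
    intro r
    have h1 : (MvPowerSeries.C r : MvPowerSeries (Fin 2) Â) =
        algebraMap Â (MvPowerSeries (Fin 2) Â) r := by
      rw [MvPowerSeries.algebraMap_apply, Algebra.algebraMap_self, RingHom.id_apply]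
    rw [h1, AlgHom.commutes]
    rfl
  have hφ0 : φ (MvPowerSeries.X 0) = u' := hφ 0
  have hφ1 : φ (MvPowerSeries.X 1) = v' := hφ 1
  have hφq : φ (qps (algebraMap A Â a) (algebraMap A Â b) (algebraMap A Â c)) =
      qf (A := A) a b c u' v' := by
    unfold qps qf
    simp only [map_add, map_mul, map_pow, hφ0, hφ1, hφC, ι_algebraMap]
  have hker : ∀ g ∈ Ideal.span
      {(qps (algebraMap A Â a) (algebraMap A Â b) (algebraMap A Â c) - MvPowerSeries.C α :
        MvPowerSeries (Fin 2) Â)},
      (φ : MvPowerSeries (Fin 2) Â →+* B̂) g = 0 := by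
    intro g hg
    obtain ⟨r, rfl⟩ := Ideal.mem_span_singleton'.1 hg
    show φ (r * (qps (algebraMap A Â a) (algebraMap A Â b) (algebraMap A Â c) -
      MvPowerSeries.C α)) = 0
    rw [map_mul, map_sub, hφq, hφC, hprod, sub_self, mul_zero]
  let ψr : Model A a b c α →+* B̂ :=
    Ideal.Quotient.lift _ (φ : MvPowerSeries (Fin 2) Â →+* B̂) hker
  refine ⟨(φ : MvPowerSeries (Fin 2) Â →+* B̂),
    { toRingHom := ψr
      commutes' := fun r => ?_ }, fun g => rfl, hφ0, hφ1, hφC⟩
  have h1 : algebraMap A (Model A a b c α) r =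
      Ideal.Quotient.mk _ (MvPowerSeries.C (algebraMap A Â r)) := by
    rw [← MvPowerSeries.algebraMap_apply]
    rfl
  show ψr (algebraMap A (Model A a b c α) r) = _
  rw [h1]
  show φ (MvPowerSeries.C (algebraMap A Â r)) = _
  rw [hφC, ι_algebraMap]

end Model

end Groth.Agent.Lib.Helper19.NodeQ
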