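import Mathlib
import Groth.Agent.Lib.Helper19NodeQB

/-!
# The node `Q(x,y) = α` over completions: injectivity from the fibre (helper19)
-/

set_option autoImplicit false
universe u

open IsLocalRing

namespace Groth.Agent.Lib.Helper19.NodeQ

open Groth.Agent.Lib.Helper19.NodeApprox

section Iso

variable (A : Type u) [CommRing A] [IsLocalRing A] [IsNoetherianRing A] (a b c : A)

local notation "Â" => AdicCompletion (maximalIdeal A) A

/-- the special fibre model `k[[x,y]]/(q̄)` -/
abbrev NodeK : Type u :=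
  MvPowerSeries (Fin 2) (ResidueField A) ⧸ Ideal.span
    {(qps (residue A a) (residue A b) (residue A c) : MvPowerSeries (Fin 2) (ResidueField A))}

/-- the reduction map `Â[[x,y]] → k[[x,y]]/(q̄)` -/
noncomputable def πK : MvPowerSeries (Fin 2) Â →+* NodeK A a b c :=
  (Ideal.Quotient.mk _).comp (MvPowerSeries.map (σ := Fin 2) (ρ A))

lemma πK_surjective : Function.Surjective (πK A a b c) :=
  Ideal.Quotient.mk_surjective.comp (map_ρ_surjective A)

lemma ker_πK : RingHom.ker (πK A a b c) =
    Ideal.span {(qps (algebraMap A Â a) (algebraMap A Â b) (algebraMap A Â c) :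
      MvPowerSeries (Fin 2) Â)} ⊔
      (RingHom.ker (ρ A)).map (MvPowerSeries.C (σ := Fin 2) (R := Â)) := by
  have h1 : RingHom.ker (πK A a b c) = Ideal.comap (MvPowerSeries.map (σ := Fin 2) (ρ A))
      (Ideal.span {(qps (residue A a) (residue A b) (residue A c) :
        MvPowerSeries (Fin 2) (ResidueField A))}) := by
    ext g
    rw [RingHom.mem_ker, Ideal.mem_comap]
    show Ideal.Quotient.mk _ (MvPowerSeries.map (ρ A) g) = 0 ↔ _
    rw [Ideal.Quotient.eq_zero_iff_mem]
  have h2 : Ideal.span {(qps (residue A a) (residue A b) (residue A c) :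
      MvPowerSeries (Fin 2) (ResidueField A))} =
      Ideal.map (MvPowerSeries.map (σ := Fin 2) (ρ A))
        (Ideal.span {(qps (algebraMap A Â a) (algebraMap A Â b) (algebraMap A Â c) :
          MvPowerSeries (Fin 2) Â)}) := by
    rw [Ideal.map_span, Set.image_singleton, map_qps, ρ_algebraMap, ρ_algebraMap, ρ_algebraMap]
  rw [h1, h2, Ideal.comap_map_of_surjective _ (map_ρ_surjective A), ← RingHom.ker_eq_comap_bot,
    ker_map_eq_map_C (ρ A) (IsNoetherian.noetherian _)]

end Iso

section Inj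

variable (A B : Type u) [CommRing A] [IsLocalRing A] [IsNoetherianRing A]
  [CommRing B] [IsLocalRing B] [IsNoetherianRing B] [Algebra A B] [IsLocalHom (algebraMap A B)]
  (a b c : A)

local notation "Â" => AdicCompletion (maximalIdeal A) A
local notation "B̂" => AdicCompletion (maximalIdeal B) B
local notation "qÂ" => qps (algebraMap A (AdicCompletion (maximalIdeal A) A) a)
  (algebraMap A (AdicCompletion (maximalIdeal A) A) b)
  (algebraMap A (AdicCompletion (maximalIdeal A) A) c)

theorem injective_of_fibre [Module.Flat A B] (α : Â)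
    (hα : α ∈ (maximalIdeal A).map (algebraMap A Â)) (u' v' : B̂)
    (hprod : qf (A := A) a b c u' v' = ι A B α)
    (ψ₀ : MvPowerSeries (Fin 2) Â →+* B̂) (ψ : Model A a b c α →ₐ[A] B̂)
    (hψ : ∀ g, ψ (Ideal.Quotient.mk _ g) = ψ₀ g)
    (h0 : ψ₀ (MvPowerSeries.X 0) = u') (h1 : ψ₀ (MvPowerSeries.X 1) = v')
    (hC : ∀ r : Â, ψ₀ (MvPowerSeries.C r) = ι A B r) (hsurj : Function.Surjective ψ₀)
    (ε : (B̂ ⧸ (Ideal.map (algebraMap A B) (maximalIdeal A)).map (algebraMap B B̂)) ≃+*
      NodeK A a b c)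
    (hε : ∀ r : A, ε (Ideal.Quotient.mk _ (algebraMap B B̂ (algebraMap A B r))) =
      Ideal.Quotient.mk _ (MvPowerSeries.C (residue A r))) :
    Function.Injective ψ := by
  have hAB : algebraMap A B̂ = (algebraMap B B̂).comp (algebraMap A B) := rfl
  have h𝔞 : (maximalIdeal A).map (algebraMap A B̂) = (Ideal.map (algebraMap A B) (maximalIdeal A)).map (algebraMap B B̂) := by
    rw [hAB, Ideal.map_map]
  have hιker : ∀ r : Â, r ∈ RingHom.ker (ρ A) → ι A B r ∈ (Ideal.map (algebraMap A B) (maximalIdeal A)).map (algebraMap B B̂) := by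
    intro r hr
    rw [ker_ρ, ← AdicCompletion.maximalIdeal_eq_map] at hr
    rw [← h𝔞]
    exact ι_mem_of_mem_maximalIdeal A B r hr
  have hψq : ψ₀ qÂ = qf (A := A) a b c u' v' := by
    unfold qps qf
    simp only [map_add, map_mul, map_pow, h0, h1, hC, ι_algebraMap]
  -- the map θ
  let θ : MvPowerSeries (Fin 2) Â →+* NodeK A a b c :=
    (ε : _ →+* NodeK A a b c).comp ((Ideal.Quotient.mk ((Ideal.map (algebraMap A B) (maximalIdeal A)).map (algebraMap B B̂))).comp ψ₀)
  have hθ : ∀ g, θ g = ε (Ideal.Quotient.mk _ (ψ₀ g)) := fun g => rfl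
  have hθsurj : Function.Surjective θ :=
    ε.surjective.comp (Ideal.Quotient.mk_surjective.comp hsurj)
  have hθ0 : ∀ g, θ g = 0 ↔ ψ₀ g ∈ (Ideal.map (algebraMap A B) (maximalIdeal A)).map (algebraMap B B̂) := by
    intro g
    rw [hθ, map_eq_zero_iff ε ε.injective, Ideal.Quotient.eq_zero_iff_mem]
  have hle : RingHom.ker (πK A a b c) ≤ RingHom.ker θ := by
    rw [ker_πK]
    refine sup_le ?_ ?_
    · rw [Ideal.span_le]
      rintro _ rfl
      rw [SetLike.mem_coe, RingHom.mem_ker, hθ0, hψq, hprod]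
      apply hιker
      rw [ker_ρ]; exact hα
    · rw [Ideal.map_le_iff_le_comap]
      intro r hr
      rw [Ideal.mem_comap, RingHom.mem_ker, hθ0, hC]
      exact hιker r hr
  have hge := ker_le_of_surjective_of_ker_le (πK A a b c) θ (πK_surjective A a b c) hθsurj hle
  -- the kernel of ψ
  letI : Algebra Â B̂ := (ι A B).toAlgebra
  haveI : Module.Flat Â B̂ := flat_ι A B
  have hmk : ∀ r : Â, algebraMap Â (Model A a b c α) r =
      Ideal.Quotient.mk _ (MvPowerSeries.C r) := by
    intro r
    have : (MvPowerSeries.C r : MvPowerSeries (Fin 2) Â) =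
        algebraMap Â (MvPowerSeries (Fin 2) Â) r := by
      rw [MvPowerSeries.algebraMap_apply, Algebra.algebraMap_self, RingHom.id_apply]
    rw [this]; rfl
  have hker : RingHom.ker (ψ : Model A a b c α →+* B̂) ≤
      (maximalIdeal Â).map (algebraMap Â (Model A a b c α)) := by
    intro q hq
    obtain ⟨g, rfl⟩ := Ideal.Quotient.mk_surjective q
    have hq' : ψ₀ g = 0 := by
      have : ψ (Ideal.Quotient.mk _ g) = 0 := hq
      rwa [hψ] at this
    have hg : g ∈ RingHom.ker (πK A a b c) := by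
      apply hge
      rw [RingHom.mem_ker, hθ0, hq']
      exact Ideal.zero_mem _
    rw [ker_πK] at hg
    obtain ⟨g₁, hg₁, g₂, hg₂, rfl⟩ := Submodule.mem_sup.1 hg
    rw [map_add]
    refine Ideal.add_mem _ ?_ ?_
    · obtain ⟨h, rfl⟩ := Ideal.mem_span_singleton'.1 hg₁
      rw [map_mul]
      refine Ideal.mul_mem_left _ _ ?_
      have h2 : (Ideal.Quotient.mk (Ideal.span {(qÂ -
          MvPowerSeries.C α : MvPowerSeries (Fin 2) Â)})) qÂ =
          Ideal.Quotient.mk _ (MvPowerSeries.C α) := by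
        rw [Ideal.Quotient.eq]
        exact Ideal.subset_span rfl
      rw [h2, ← hmk]
      refine Ideal.mem_map_of_mem _ ?_
      rw [AdicCompletion.maximalIdeal_eq_map]; exact hα
    · have h3 : Ideal.map (Ideal.Quotient.mk (Ideal.span {(qÂ -
          MvPowerSeries.C α : MvPowerSeries (Fin 2) Â)}))
          ((RingHom.ker (ρ A)).map (MvPowerSeries.C (σ := Fin 2) (R := Â))) ≤
          (maximalIdeal Â).map (algebraMap Â (Model A a b c α)) := by
        rw [Ideal.map_map, ker_ρ, ← AdicCompletion.maximalIdeal_eq_map]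
        refine le_of_eq ?_
        congr 1
      exact h3 (Ideal.mem_map_of_mem _ hg₂)
  have hjac : (maximalIdeal Â).map (algebraMap Â (Model A a b c α)) ≤ Ideal.jacobson ⊥ := by
    have h4 : (maximalIdeal Â).map (algebraMap Â (Model A a b c α)) ≤
        Ideal.map (Ideal.Quotient.mk (Ideal.span {(qÂ -
          MvPowerSeries.C α : MvPowerSeries (Fin 2) Â)}))
          (maximalIdeal (MvPowerSeries (Fin 2) Â)) := by
      rw [Ideal.map_le_iff_le_comap]
      intro r hr
      rw [Ideal.mem_comap, hmk]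
      refine Ideal.mem_map_of_mem _ ?_
      rw [maximalIdeal_eq_coeffIdeal, mem_coeffIdeal_one, MvPowerSeries.constantCoeff_C]
      exact hr
    refine h4.trans ?_
    have h5 := Ideal.map_jacobson_of_surjective (I := RingHom.ker (Ideal.Quotient.mk (Ideal.span
      {(qÂ - MvPowerSeries.C α : MvPowerSeries (Fin 2) Â)})))
      (f := Ideal.Quotient.mk (Ideal.span {(qÂ -
        MvPowerSeries.C α : MvPowerSeries (Fin 2) Â)})) Ideal.Quotient.mk_surjective le_rfl
    rw [(Ideal.map_eq_bot_iff_le_ker _).2 le_rfl] at h5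
    rw [← h5]
    refine Ideal.map_mono ?_
    have h6 : maximalIdeal (MvPowerSeries (Fin 2) Â) = Ideal.jacobson ⊥ :=
      (IsLocalRing.jacobson_eq_maximalIdeal ⊥ bot_ne_top).symm
    rw [h6]
    exact Ideal.jacobson_mono bot_le
  have := injective_of_flat_of_ker_le (R := Â) (Q := Model A a b c α) (D := B̂) (maximalIdeal Â)
    (IsNoetherian.noetherian _) hjac (ψ : Model A a b c α →+* B̂) (fun r => by
      rw [hmk]
      show ψ (Ideal.Quotient.mk _ (MvPowerSeries.C r)) = _
      rw [hψ, hC]; rfl)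
    (fun d => by
      obtain ⟨g, hg⟩ := hsurj d
      exact ⟨Ideal.Quotient.mk _ g, (hψ g).trans hg⟩) hker
  exact this

end Inj

end Groth.Agent.Lib.Helper19.NodeQ
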