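import Mathlib
import Groth.Agent.Lib.Helper19NodeQE
import Groth.Agent.Lib.Helper19PsDim

/-!
# The node `Q(x,y) = α` over completions: from a fibre isomorphism only (helper19)
-/

set_option autoImplicit false
universe u

open IsLocalRing

namespace Groth.Agent.Lib.Helper19.NodeQ

open Groth.Agent.Lib.Helper19.NodeApprox

section Fibre

variable (A B : Type u) [CommRing A] [IsLocalRing A] [IsNoetherianRing A]
  [CommRing B] [IsLocalRing B] [IsNoetherianRing B] [Algebra A B] [IsLocalHom (algebraMap A B)]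
  (a b c w : A) (hw : w * (b ^ 2 - 4 * a * c) = 1)

local notation "Â" => AdicCompletion (maximalIdeal A) A
local notation "B̂" => AdicCompletion (maximalIdeal B) B
local notation "𝔟" => Ideal.map (algebraMap B (AdicCompletion (maximalIdeal B) B)) (Ideal.map (algebraMap A B) (maximalIdeal A))

/-- the constant coefficient on `k[[x,y]]/(q̄)` -/
noncomputable def ccK : NodeK A a b c →+* ResidueField A :=
  Ideal.Quotient.lift _ (MvPowerSeries.constantCoeff (σ := Fin 2) (R := ResidueField A)) (by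
    intro g hg
    obtain ⟨r, rfl⟩ := Ideal.mem_span_singleton'.1 hg
    unfold qps
    simp only [map_mul, map_add, map_pow, MvPowerSeries.constantCoeff_X]
    ring)

lemma ccK_mk (g : MvPowerSeries (Fin 2) (ResidueField A)) :
    ccK A a b c (Ideal.Quotient.mk _ g) = MvPowerSeries.constantCoeff g := rfl

include hw in
/-- the isomorphism `Â[[x,y]]/(Q - α) ≅ B̂` from flatness and an isomorphism of the completed
fibre with `k[[x,y]]/(q̄)`. -/
theorem exists_iso_of_fibre [Module.Flat A B]
    (ε : (B̂ ⧸ (Ideal.map (algebraMap A B) (maximalIdeal A)).map (algebraMap B B̂)) ≃+*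
      NodeK A a b c)
    (hε : ∀ r : A, ε (Ideal.Quotient.mk _ (algebraMap B B̂ (algebraMap A B r))) =
      Ideal.Quotient.mk _ (MvPowerSeries.C (residue A r))) :
    ∃ (α : Â) (_ : α ∈ (maximalIdeal A).map (algebraMap A Â)) (ψ : Model A a b c α ≃ₐ[A] B̂),
      True := by
  have hAB : algebraMap A B̂ = (algebraMap B B̂).comp (algebraMap A B) := rfl
  have h𝔞 : (maximalIdeal A).map (algebraMap A B̂) = 𝔟 := by
    rw [hAB, Ideal.map_map]
  let π : B̂ →+* NodeK A a b c :=
    (ε : (B̂ ⧸ 𝔟) →+* NodeK A a b c).comp (Ideal.Quotient.mk 𝔟)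
  have hπsurj : Function.Surjective π := ε.surjective.comp Ideal.Quotient.mk_surjective
  have hπker : ∀ d : B̂, π d = 0 → d ∈ 𝔟 := by
    intro d hd
    have : ε (Ideal.Quotient.mk 𝔟 d) = 0 := hd
    rw [map_eq_zero_iff ε ε.injective] at this
    exact Ideal.Quotient.eq_zero_iff_mem.mp this
  have hπA : ∀ r : A, π (algebraMap A B̂ r) =
      Ideal.Quotient.mk _ (MvPowerSeries.C (residue A r)) := fun r => hε r
  -- the residue character
  let χ : B̂ →+* ResidueField A := (ccK A a b c).comp π
  have hχsurj : Function.Surjective χ := by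
    intro r'
    obtain ⟨r, rfl⟩ := residue_surjective r'
    refine ⟨algebraMap A B̂ r, ?_⟩
    change ccK A a b c (π (algebraMap A B̂ r)) = _
    rw [hπA, ccK_mk, MvPowerSeries.constantCoeff_C]
  have hχker : RingHom.ker χ = maximalIdeal B̂ :=
    IsLocalRing.eq_maximalIdeal (RingHom.ker_isMaximal_of_surjective χ hχsurj)
  have hmem : ∀ d : B̂, d ∈ maximalIdeal B̂ ↔ χ d = 0 := by
    intro d; rw [← hχker, RingHom.mem_ker]
  -- the lifts of the variables
  obtain ⟨u, hu⟩ := hπsurj (Ideal.Quotient.mk _ (MvPowerSeries.X 0))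
  obtain ⟨v, hv⟩ := hπsurj (Ideal.Quotient.mk _ (MvPowerSeries.X 1))
  have huvD : qf (A := A) a b c u v ∈ (maximalIdeal A).map (algebraMap A B̂) := by
    rw [h𝔞]
    apply hπker
    unfold qf
    simp only [map_add, map_mul, map_pow, hu, hv, hπA]
    simp only [← map_mul, ← map_pow, ← map_add]
    rw [Ideal.Quotient.eq_zero_iff_mem]
    exact Ideal.subset_span rfl
  have hresD : ∀ d : B̂, ∃ r : A, d - algebraMap A B̂ r ∈ maximalIdeal B̂ := by
    intro d
    obtain ⟨r, hr⟩ := residue_surjective (χ d)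
    refine ⟨r, ?_⟩
    rw [hmem, map_sub, sub_eq_zero]
    change χ d = ccK A a b c (π (algebraMap A B̂ r))
    rw [hπA, ccK_mk, MvPowerSeries.constantCoeff_C, hr]
  have hgenD : maximalIdeal B̂ = Ideal.span {u, v} ⊔ (maximalIdeal A).map (algebraMap A B̂) := by
    apply le_antisymm
    · intro d hd
      rw [hmem] at hd
      obtain ⟨g, hg⟩ := Ideal.Quotient.mk_surjective (π d)
      have hg0 : MvPowerSeries.constantCoeff g = 0 := by
        rw [← ccK_mk A a b c, hg]; exact hd
      have hgm : g ∈ maximalIdeal (MvPowerSeries (Fin 2) (ResidueField A)) := by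
        rw [mem_maximalIdeal, mem_nonunits_iff, MvPowerSeries.isUnit_iff_constantCoeff, hg0]
        exact not_isUnit_zero
      rw [Groth.Agent.Lib.Helper19.maximalIdeal_mvPowerSeries_eq] at hgm
      obtain ⟨e, he⟩ := (Ideal.mem_span_range_iff_exists_fun).1 hgm
      rw [Fin.sum_univ_two] at he
      obtain ⟨d₀, hd₀⟩ := hπsurj (Ideal.Quotient.mk _ (e 0))
      obtain ⟨d₁, hd₁⟩ := hπsurj (Ideal.Quotient.mk _ (e 1))
      have hz : d - (d₀ * u + d₁ * v) ∈ 𝔟 := by
        apply hπker
        rw [map_sub, map_add, map_mul, map_mul, hu, hv, hd₀, hd₁, ← hg, ← map_mul, ← map_mul,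
          ← map_add, ← map_sub, he, sub_self, map_zero]
      have : d = (d₀ * u + d₁ * v) + (d - (d₀ * u + d₁ * v)) := by ring
      rw [this]
      refine Ideal.add_mem _ (Ideal.mem_sup_left ?_) (Ideal.mem_sup_right (h𝔞 ▸ hz))
      exact Ideal.add_mem _ (Ideal.mul_mem_left _ _ (Ideal.subset_span (by simp)))
        (Ideal.mul_mem_left _ _ (Ideal.subset_span (by simp)))
    · refine sup_le ?_ (map_le_maximalIdeal_compl A B)
      rw [Ideal.span_le]
      rintro x hx
      rcases hx with hx | hx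
      · rw [hx, SetLike.mem_coe, hmem]
        change ccK A a b c (π u) = 0
        rw [hu, ccK_mk, MvPowerSeries.constantCoeff_X]
      · rw [Set.mem_singleton_iff.1 hx, SetLike.mem_coe, hmem]
        change ccK A a b c (π v) = 0
        rw [hv, ccK_mk, MvPowerSeries.constantCoeff_X]
  obtain ⟨α, u', v', hα, hu', hv', hprod, hgen'⟩ :=
    exists_node_data' A B a b c w hw u v huvD hgenD hresD
  have hu'm : u' ∈ maximalIdeal B̂ := by
    rw [hgen']; exact Ideal.mem_sup_left (Ideal.subset_span (by simp))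
  have hv'm : v' ∈ maximalIdeal B̂ := by
    rw [hgen']; exact Ideal.mem_sup_left (Ideal.subset_span (by simp))
  obtain ⟨ψ₀, ψ, hψ, h0, h1, hC⟩ := exists_algHom_of_data A B a b c α u' v' hu'm hv'm hprod
  have hsurj := surjective_of_data A B u' v' hgen' hresD ψ₀ h0 h1 hC
  have hinj := injective_of_fibre A B a b c α hα u' v' hprod ψ₀ ψ hψ h0 h1 hC hsurj ε hε
  have hsurjψ : Function.Surjective ψ := by
    intro d
    obtain ⟨g, hg⟩ := hsurj d
    exact ⟨Ideal.Quotient.mk _ g, (hψ g).trans hg⟩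
  exact ⟨α, hα, AlgEquiv.ofBijective ψ ⟨hinj, hsurjψ⟩, trivial⟩

end Fibre

end Groth.Agent.Lib.Helper19.NodeQ
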