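import Mathlib
import Groth.Agent.Lib.Helper19NodeQF
import Groth.Agent.Lib.Helper19NodeApproxG
import Groth.Agent.Lib.Helper3NodeSemi

/-!
# The node `Q(x,y) = α` over completions from a quadratic singularity of the fibre ring (helper19)
-/

set_option autoImplicit false
universe u

open IsLocalRing

namespace Groth.Agent.Lib.Helper19.NodeQ

open Groth.Agent.Lib.Helper19.NodeApprox

section

variable (A B : Type u) [CommRing A] [IsLocalRing A] [IsNoetherianRing A]
  [CommRing B] [IsLocalRing B] [IsNoetherianRing B] [Algebra A B] [IsLocalHom (algebraMap A B)]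
  (a b c w : A) (hw : w * (b ^ 2 - 4 * a * c) = 1)

local notation "Â" => AdicCompletion (maximalIdeal A) A
local notation "B̂" => AdicCompletion (maximalIdeal B) B

attribute [local instance] fibAlg

include hw in
theorem exists_iso_of_quadratic [Module.Flat A B]
    [IsLocalRing (B ⧸ (maximalIdeal A).map (algebraMap A B))]
    (e₀ : AdicCompletion (maximalIdeal (B ⧸ (maximalIdeal A).map (algebraMap A B)))
      (B ⧸ (maximalIdeal A).map (algebraMap A B)) ≃+* NodeK A a b c)
    (he₀ : ∀ r : ResidueField A, e₀ (algebraMap (B ⧸ (maximalIdeal A).map (algebraMap A B)) _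
        (algebraMap (ResidueField A) (B ⧸ (maximalIdeal A).map (algebraMap A B)) r)) =
      Ideal.Quotient.mk _ (MvPowerSeries.C r)) :
    ∃ (α : Â) (_ : α ∈ maximalIdeal Â) (e : B̂ ≃+* Model A a b c α),
      ∀ r : A, e (algebraMap B B̂ (algebraMap A B r)) =
        Ideal.Quotient.mk _ (MvPowerSeries.C (algebraMap A Â r)) := by
  obtain ⟨e₁, he₁⟩ := Groth.Agent.Lib.Helper28.exists_ringEquiv_adicCompletion_quotient
    (maximalIdeal B) ((maximalIdeal A).map (algebraMap A B))
  have hm : maximalIdeal (B ⧸ (maximalIdeal A).map (algebraMap A B)) =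
      ((maximalIdeal B).map (Ideal.Quotient.mk ((maximalIdeal A).map (algebraMap A B)))).map
        ((RingEquiv.refl (B ⧸ (maximalIdeal A).map (algebraMap A B)) : _ →+* _)) := by
    have hJle : (maximalIdeal A).map (algebraMap A B) ≤ maximalIdeal B := by
      rw [Ideal.map_le_iff_le_comap]
      intro r hr
      rw [Ideal.mem_comap]
      exact map_nonunit (algebraMap A B) r hr
    have h1 : ((maximalIdeal B).map
        (Ideal.Quotient.mk ((maximalIdeal A).map (algebraMap A B)))).IsMaximal := by
      rcases Ideal.map_eq_top_or_isMaximal_of_surjective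
        (Ideal.Quotient.mk ((maximalIdeal A).map (algebraMap A B)))
        Ideal.Quotient.mk_surjective (maximalIdeal.isMaximal B) with h | h
      · exfalso
        have h3 : Ideal.comap (Ideal.Quotient.mk ((maximalIdeal A).map (algebraMap A B)))
            ((maximalIdeal B).map (Ideal.Quotient.mk ((maximalIdeal A).map (algebraMap A B)))) =
            maximalIdeal B := by
          rw [Ideal.comap_map_of_surjective _ Ideal.Quotient.mk_surjective, ← RingHom.ker_eq_comap_bot,
            Ideal.mk_ker]
          exact sup_eq_left.mpr hJle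
        rw [h, Ideal.comap_top] at h3
        exact (maximalIdeal.isMaximal B).ne_top h3.symm
      · exact h
    have h2 : Ideal.map ((RingEquiv.refl (B ⧸ (maximalIdeal A).map (algebraMap A B)) : _ →+* _))
        ((maximalIdeal B).map (Ideal.Quotient.mk ((maximalIdeal A).map (algebraMap A B)))) =
        (maximalIdeal B).map (Ideal.Quotient.mk ((maximalIdeal A).map (algebraMap A B))) :=
      Ideal.map_id _
    rw [h2]
    exact (IsLocalRing.eq_maximalIdeal h1).symm
  let e₂ := Groth.Agent.Lib.Helper3.NodeSemi.complEquiv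
    (RingEquiv.refl (B ⧸ (maximalIdeal A).map (algebraMap A B)))
    ((maximalIdeal B).map (Ideal.Quotient.mk ((maximalIdeal A).map (algebraMap A B))))
    (maximalIdeal (B ⧸ (maximalIdeal A).map (algebraMap A B))) hm
  let ε : (B̂ ⧸ (Ideal.map (algebraMap A B) (maximalIdeal A)).map (algebraMap B B̂)) ≃+*
      NodeK A a b c := (e₁.trans e₂).trans e₀
  have hε : ∀ r : A, ε (Ideal.Quotient.mk _ (algebraMap B B̂ (algebraMap A B r))) =
      Ideal.Quotient.mk _ (MvPowerSeries.C (residue A r)) := by
    intro r
    change e₀ (e₂ (e₁ _)) = _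
    rw [he₁, Groth.Agent.Lib.Helper3.NodeSemi.complEquiv_algebraMap]
    exact he₀ (residue A r)
  obtain ⟨α, hα, ψ, -⟩ := exists_iso_of_fibre A B a b c w hw ε hε
  refine ⟨α, ?_, ψ.symm.toRingEquiv, fun r => ?_⟩
  · rw [AdicCompletion.maximalIdeal_eq_map]; exact hα
  · have h1 : algebraMap B B̂ (algebraMap A B r) = algebraMap A B̂ r := rfl
    rw [h1]
    change ψ.symm (algebraMap A B̂ r) = _
    rw [AlgEquiv.commutes, ← MvPowerSeries.algebraMap_apply]
    rfl

end

end Groth.Agent.Lib.Helper19.NodeQ
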