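import Groth.Agent.Lib.Helper19RigidC

/-!
# Rigid algebras: flat deformations over Artinian local rings are trivial
-/

set_option autoImplicit false
universe u

namespace Groth.Agent.Lib.Helper19.Rigid

open IsLocalRing TensorProduct

variable {k : Type u} [Field k] {A : Type u} [CommRing A] [Algebra k A] [IsLocalRing A]
  [IsArtinianRing A]
  {B' B₀ : Type u} [CommRing B'] [Algebra k B'] [Algebra A B'] [IsScalarTower k A B']
  [Module.Flat A B'] [CommRing B₀] [Algebra k B₀]

omit [IsArtinianRing A] in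
lemma mem_maximalIdeal_iff_res (res : A →ₐ[k] k) (a : A) : a ∈ maximalIdeal A ↔ res a = 0 := by
  have hs : Function.Surjective res := fun c => ⟨algebraMap k A c, by rw [AlgHom.commutes]; rfl⟩
  have hmax : (RingHom.ker (res : A →+* k)).IsMaximal :=
    RingHom.ker_isMaximal_of_surjective (res : A →+* k) hs
  rw [← IsLocalRing.eq_maximalIdeal hmax, RingHom.mem_ker]
  rfl

omit [IsArtinianRing A] in
lemma sub_res_mem (res : A →ₐ[k] k) (a : A) : a - algebraMap k A (res a) ∈ maximalIdeal A := by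
  rw [mem_maximalIdeal_iff_res res, map_sub, AlgHom.commutes, sub_eq_zero]
  rfl

/-- the comparison map `A ⊗ B₀ → B'` attached to a section -/
noncomputable def compMap (σ : B₀ →ₐ[k] B') : A ⊗[k] B₀ →ₐ[A] B' :=
  Algebra.TensorProduct.lift (Algebra.ofId A B') σ (fun _ _ => Commute.all _ _)

omit [IsLocalRing A] [IsArtinianRing A] [Module.Flat A B'] in
lemma compMap_tmul (σ : B₀ →ₐ[k] B') (a : A) (b : B₀) :
    compMap σ (a ⊗ₜ b) = algebraMap A B' a * σ b := by
  simp [compMap, Algebra.ofId_apply]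

/-- the reduction map `A ⊗ B₀ → B₀` -/
noncomputable def redMap (res : A →ₐ[k] k) : A ⊗[k] B₀ →ₐ[k] B₀ :=
  Algebra.TensorProduct.lift ((Algebra.ofId k B₀).comp res) (AlgHom.id k B₀)
    (fun _ _ => Commute.all _ _)

omit [IsLocalRing A] [IsArtinianRing A] in
lemma redMap_tmul (res : A →ₐ[k] k) (a : A) (b : B₀) :
    redMap (B₀ := B₀) res (a ⊗ₜ b) = res a • b := by
  simp [redMap, Algebra.ofId_apply, Algebra.smul_def]

omit [IsArtinianRing A] in
lemma sub_redMap_mem (res : A →ₐ[k] k) (x : A ⊗[k] B₀) :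
    x - (1 : A) ⊗ₜ[k] (redMap res x) ∈ maximalIdeal A • (⊤ : Submodule A (A ⊗[k] B₀)) := by
  induction x with
  | zero =>
    rw [map_zero, tmul_zero, sub_zero]
    exact Submodule.zero_mem _
  | add x y hx hy =>
    rw [map_add, tmul_add]
    have : x + y - ((1 : A) ⊗ₜ[k] (redMap res x) + (1 : A) ⊗ₜ[k] (redMap res y)) =
        (x - (1 : A) ⊗ₜ[k] (redMap res x)) + (y - (1 : A) ⊗ₜ[k] (redMap res y)) := by abel
    rw [this]
    exact Submodule.add_mem _ hx hy
  | tmul a b =>
    rw [redMap_tmul, ← smul_tmul]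
    have h1 : a ⊗ₜ[k] b - (res a • (1 : A)) ⊗ₜ[k] b =
        (a - algebraMap k A (res a)) • ((1 : A) ⊗ₜ[k] b) := by
      rw [smul_tmul', smul_eq_mul, mul_one, sub_tmul, Algebra.algebraMap_eq_smul_one]
    rw [h1]
    exact Submodule.smul_mem_smul (sub_res_mem res a) Submodule.mem_top

/-- **Triviality of deformations of a rigid algebra.** -/
theorem exists_equiv_of_rigid (hT : ∀ X : Exal.Ext k B₀ B₀, X.IsTrivial) (res : A →ₐ[k] k)
    (ρ : B' →ₐ[k] B₀) (hρs : Function.Surjective ρ)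
    (hρk : RingHom.ker ρ = KB B' (maximalIdeal A)) :
    ∃ (σ : B₀ →ₐ[k] B') (Φ : A ⊗[k] B₀ ≃ₐ[A] B'), (∀ b, ρ (σ b) = b) ∧
      (∀ (a : A) (b : B₀), Φ (a ⊗ₜ b) = algebraMap A B' a * σ b) := by
  obtain ⟨σ, hσ⟩ := exists_section_of_rigid hT ρ hρs hρk
  have hmem : ∀ y : B', y ∈ maximalIdeal A • (⊤ : Submodule A B') ↔ ρ y = 0 := by
    intro y
    rw [Ideal.smul_top_eq_map, Submodule.restrictScalars_mem]
    change y ∈ KB B' (maximalIdeal A) ↔ _
    rw [← hρk, RingHom.mem_ker]
  have hρalg : ∀ a : A, ρ (algebraMap A B' a) = algebraMap k B₀ (res a) := by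
    intro a
    have h1 : algebraMap A B' (a - algebraMap k A (res a)) ∈ RingHom.ker ρ := by
      rw [hρk]
      exact Ideal.mem_map_of_mem _ (sub_res_mem res a)
    rw [RingHom.mem_ker, map_sub, map_sub, sub_eq_zero, ← IsScalarTower.algebraMap_apply] at h1
    rw [h1, AlgHom.commutes]
  have hρΦ : ∀ x : A ⊗[k] B₀, ρ (compMap σ x) = redMap res x := by
    intro x
    induction x with
    | zero => simp
    | add x y hx hy => rw [map_add, map_add, map_add, hx, hy]
    | tmul a b =>
      rw [compMap_tmul, map_mul, hρalg, hσ, redMap_tmul, Algebra.smul_def]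
  have hnil : IsNilpotent (maximalIdeal A) := by
    have h := IsArtinianRing.isNilpotent_jacobson_bot (R := A)
    rwa [IsLocalRing.jacobson_eq_maximalIdeal ⊥ bot_ne_top] at h
  have hbij : Function.Bijective (compMap (A := A) σ).toLinearMap := by
    apply bijective_of_flat_of_nilpotent (maximalIdeal A) hnil
    · intro y
      refine ⟨(1 : A) ⊗ₜ[k] ρ y, ?_⟩
      rw [hmem, map_sub]
      change ρ y - ρ (compMap σ ((1 : A) ⊗ₜ[k] ρ y)) = 0
      rw [compMap_tmul, map_one, one_mul, hσ, sub_self]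
    · intro x hx
      rw [hmem] at hx
      change ρ (compMap σ x) = 0 at hx
      rw [hρΦ] at hx
      have h1 := sub_redMap_mem res x
      rwa [hx, tmul_zero, sub_zero] at h1
  exact ⟨σ, AlgEquiv.ofBijective (compMap (A := A) σ) hbij, hσ, fun a b => compMap_tmul σ a b⟩

end Groth.Agent.Lib.Helper19.Rigid
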