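import Groth.Agent.Lib.Helper19NonSmoothA
import Groth.Agent.Lib.Helper19RigidD

/-!
# The reductions `A_N ⊗_A B` of a flat family and their triviality when the fibre is rigid
-/

set_option autoImplicit false
universe u

namespace Groth.Agent.Lib.Helper19.NonSmooth

open IsLocalRing TensorProduct

section Red

variable {k : Type u} [Field k] {A : Type u} [CommRing A] [Algebra k A] (t : A)
  {B B₀ : Type u} [CommRing B] [Algebra A B] [Algebra k B] [IsScalarTower k A B]
  [CommRing B₀] [Algebra k B₀] [Algebra A B₀] [IsScalarTower k A B₀]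
  (π : B →ₐ[A] B₀) (hπs : Function.Surjective π)
  (hπk : RingHom.ker π = Ideal.span {algebraMap A B t})

include hπk in
lemma algebraMap_t_eq_zero : algebraMap A B₀ t = 0 := by
  have h1 : algebraMap A B t ∈ RingHom.ker π := by
    rw [hπk]; exact Ideal.mem_span_singleton_self _
  rw [RingHom.mem_ker, AlgHom.commutes] at h1
  exact h1

variable (B₀) in
/-- `A_N → B₀` -/
noncomputable def fN (h0 : algebraMap A B₀ t = 0) (N : ℕ) (hN : N ≠ 0) : AN t N →ₐ[A] B₀ :=
  Ideal.Quotient.liftₐ (Ideal.span {t ^ N}) (Algebra.ofId A B₀) (by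
    intro a ha
    obtain ⟨c, rfl⟩ := Ideal.mem_span_singleton'.1 ha
    obtain ⟨m, rfl⟩ := Nat.exists_eq_succ_of_ne_zero hN
    rw [map_mul, map_pow, Algebra.ofId_apply, Algebra.ofId_apply, h0, pow_succ, mul_zero, mul_zero])

lemma fN_mk (h0 : algebraMap A B₀ t = 0) (N : ℕ) (hN : N ≠ 0) (a : A) :
    fN t B₀ h0 N hN (Ideal.Quotient.mk _ a) = algebraMap A B₀ a := rfl

/-- the reduction map `A_N ⊗ B → B₀` as an `A`-algebra map -/
noncomputable def rhoA (h0 : algebraMap A B₀ t = 0) (N : ℕ) (hN : N ≠ 0) :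
    AN t N ⊗[A] B →ₐ[A] B₀ :=
  Algebra.TensorProduct.lift (fN t B₀ h0 N hN) π (fun _ _ => Commute.all _ _)

lemma rhoA_tmul (h0 : algebraMap A B₀ t = 0) (N : ℕ) (hN : N ≠ 0) (a : AN t N) (b : B) :
    rhoA t π h0 N hN (a ⊗ₜ b) = fN t B₀ h0 N hN a * π b := by
  simp [rhoA]

/-- the reduction map `A_N ⊗ B → B₀` as a `k`-algebra map -/
noncomputable def rhoN (h0 : algebraMap A B₀ t = 0) (N : ℕ) (hN : N ≠ 0) :
    AN t N ⊗[A] B →ₐ[k] B₀ :=
  { (rhoA t π h0 N hN).toRingHom with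
    commutes' := fun c => by
      change rhoA t π h0 N hN (algebraMap k (AN t N ⊗[A] B) c) = algebraMap k B₀ c
      rw [Algebra.TensorProduct.algebraMap_apply, rhoA_tmul, map_one, mul_one,
        IsScalarTower.algebraMap_apply k A (AN t N), IsScalarTower.algebraMap_apply k A B₀]
      rfl }

lemma rhoN_tmul (h0 : algebraMap A B₀ t = 0) (N : ℕ) (hN : N ≠ 0) (a : AN t N) (b : B) :
    rhoN (k := k) t π h0 N hN (a ⊗ₜ b) = fN t B₀ h0 N hN a * π b :=
  rhoA_tmul t π h0 N hN a b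

include hπs in
lemma rhoN_surjective (h0 : algebraMap A B₀ t = 0) (N : ℕ) (hN : N ≠ 0) :
    Function.Surjective (rhoN (k := k) t π h0 N hN) := by
  intro b₀
  obtain ⟨b, rfl⟩ := hπs b₀
  refine ⟨1 ⊗ₜ b, ?_⟩
  rw [rhoN_tmul, map_one, one_mul]

lemma exists_one_tmul (N : ℕ) (x : AN t N ⊗[A] B) : ∃ b : B, x = 1 ⊗ₜ b := by
  induction x with
  | zero => exact ⟨0, by rw [tmul_zero]⟩
  | tmul a b =>
    obtain ⟨a', rfl⟩ := Ideal.Quotient.mk_surjective a
    refine ⟨a' • b, ?_⟩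
    rw [tmul_smul, smul_tmul', ← Ideal.Quotient.algebraMap_eq, Algebra.algebraMap_eq_smul_one]
  | add x y hx hy =>
    obtain ⟨b, rfl⟩ := hx
    obtain ⟨b', rfl⟩ := hy
    exact ⟨b + b', by rw [tmul_add]⟩

include hπk in
lemma ker_rhoN (h0 : algebraMap A B₀ t = 0) (N : ℕ) (hN : N ≠ 0) :
    RingHom.ker (rhoN (k := k) t π h0 N hN) =
      Ideal.map (algebraMap (AN t N) (AN t N ⊗[A] B)) (Ideal.span {tbar t N}) := by
  rw [Ideal.map_span, Set.image_singleton]
  apply le_antisymm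
  · intro x hx
    obtain ⟨b, rfl⟩ := exists_one_tmul t N x
    rw [RingHom.mem_ker, rhoN_tmul, map_one, one_mul] at hx
    have hb : b ∈ RingHom.ker π := hx
    rw [hπk] at hb
    obtain ⟨b', rfl⟩ := Ideal.mem_span_singleton'.1 hb
    rw [Ideal.mem_span_singleton']
    refine ⟨1 ⊗ₜ b', ?_⟩
    rw [Algebra.TensorProduct.algebraMap_apply, Algebra.TensorProduct.tmul_mul_tmul, one_mul, mul_one,
      mul_comm, ← Algebra.smul_def, tmul_smul, smul_tmul']
    congr 1
    rw [tbar, ← Ideal.Quotient.algebraMap_eq, Algebra.algebraMap_eq_smul_one]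
    rfl
  · rw [Ideal.span_singleton_le_iff_mem, RingHom.mem_ker, Algebra.TensorProduct.algebraMap_apply,
      rhoN_tmul, map_one, mul_one]
    exact (fN_mk t h0 N hN t).trans h0

end Red

end Groth.Agent.Lib.Helper19.NonSmooth
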