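import Groth.Agent.Lib.Helper19RetrPolyA

/-!
# Base change of polynomial retractions of the cotangent complex
-/

set_option autoImplicit false
set_option linter.unusedSectionVars false
universe u w t

open MvPolynomial TensorProduct

namespace Groth.Agent.Lib.Helper19.RetrPoly

variable {R S : Type u} [CommRing R] [CommRing S] [Algebra R S] {ι : Type w} {σ : Type t} [Fintype ι]
  (P : Algebra.Presentation R S ι σ) (T : Type u) [CommRing T] [Algebra R T]

lemma map_ker_baseChange :
    Ideal.map (MvPolynomial.map (algebraMap R T)) P.toGenerators.ker =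
      (P.baseChange T).toGenerators.ker := by
  have h1 : P.toGenerators.ker = Ideal.span (Set.range P.relation) :=
    P.span_range_relation_eq_ker.symm
  have h2 : (P.baseChange T).toGenerators.ker = Ideal.span (Set.range (P.baseChange T).relation) :=
    (P.baseChange T).span_range_relation_eq_ker.symm
  rw [h1, h2, Ideal.map_span, ← Set.range_comp]
  rfl

/-- retractions up to `c` base change -/
theorem hasRetrPoly_baseChange (c : MvPolynomial ι R) (h : HasRetrPoly P.toGenerators c) :
    HasRetrPoly (P.baseChange T).toGenerators (MvPolynomial.map (algebraMap R T) c) := by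
  obtain ⟨q, hq, hqr⟩ := h
  have hspan_eq : Ideal.span (Set.range (P.baseChange T).relation) =
      (P.baseChange T).toGenerators.ker := (P.baseChange T).span_range_relation_eq_ker
  have hmap : ∀ x ∈ P.toGenerators.ker,
      MvPolynomial.map (algebraMap R T) x ∈ (P.baseChange T).toGenerators.ker := by
    intro x hx
    rw [← map_ker_baseChange]
    exact Ideal.mem_map_of_mem _ hx
  have hmap2 : ∀ x ∈ P.toGenerators.ker ^ 2,
      MvPolynomial.map (algebraMap R T) x ∈ (P.baseChange T).toGenerators.ker ^ 2 := by
    intro x hx
    rw [← map_ker_baseChange, ← Ideal.map_pow]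
    exact Ideal.mem_map_of_mem _ hx
  refine ⟨fun i => MvPolynomial.map (algebraMap R T) (q i), fun i => hmap _ (hq i), ?_⟩
  intro r' hr'
  have hspan : r' ∈ Submodule.span (MvPolynomial ι T) (Set.range (P.baseChange T).relation) := by
    rw [← hspan_eq] at hr'
    exact hr'
  have hspanK : ∀ x, x ∈ Submodule.span (MvPolynomial ι T) (Set.range (P.baseChange T).relation) →
      x ∈ (P.baseChange T).toGenerators.ker := by
    intro x hx
    rw [← hspan_eq]
    exact hx
  clear hr'
  induction hspan using Submodule.span_induction with
  | mem x hx =>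
    obtain ⟨j, rfl⟩ := hx
    change (∑ i, pderiv i (MvPolynomial.map (algebraMap R T) (P.relation j)) *
      MvPolynomial.map (algebraMap R T) (q i)) -
      MvPolynomial.map (algebraMap R T) c * MvPolynomial.map (algebraMap R T) (P.relation j) ∈ _
    have h1 := hmap2 _ (hqr (P.relation j) (P.relation_mem_ker j))
    rw [map_sub, map_sum, map_mul] at h1
    simp_rw [map_mul, ← pderiv_map] at h1
    exact h1
  | zero =>
    simp only [map_zero, zero_mul, Finset.sum_const_zero, mul_zero, sub_zero]
    exact Ideal.zero_mem _
  | add x y hx hy ihx ihy =>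
    have h1 : (∑ i, pderiv i (x + y) * MvPolynomial.map (algebraMap R T) (q i)) -
        MvPolynomial.map (algebraMap R T) c * (x + y) =
        ((∑ i, pderiv i x * MvPolynomial.map (algebraMap R T) (q i)) -
          MvPolynomial.map (algebraMap R T) c * x) +
        ((∑ i, pderiv i y * MvPolynomial.map (algebraMap R T) (q i)) -
          MvPolynomial.map (algebraMap R T) c * y) := by
      simp_rw [map_add, add_mul]
      rw [Finset.sum_add_distrib]
      ring
    rw [h1]
    exact Ideal.add_mem _ ihx ihy
  | smul a x hx ihx =>
    have e1 : ∑ i, pderiv i (a • x) * MvPolynomial.map (algebraMap R T) (q i) =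
        a * (∑ i, pderiv i x * MvPolynomial.map (algebraMap R T) (q i)) +
        x * (∑ i, pderiv i a * MvPolynomial.map (algebraMap R T) (q i)) := by
      rw [Finset.mul_sum, Finset.mul_sum, ← Finset.sum_add_distrib]
      apply Finset.sum_congr rfl
      intro i _
      rw [smul_eq_mul, Derivation.leibniz, smul_eq_mul, smul_eq_mul]
      ring
    have h1 : (∑ i, pderiv i (a • x) * MvPolynomial.map (algebraMap R T) (q i)) -
        MvPolynomial.map (algebraMap R T) c * (a • x) =
        a * ((∑ i, pderiv i x * MvPolynomial.map (algebraMap R T) (q i)) -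
          MvPolynomial.map (algebraMap R T) c * x) +
        x * (∑ i, pderiv i a * MvPolynomial.map (algebraMap R T) (q i)) := by
      rw [e1, smul_eq_mul]
      ring
    rw [h1]
    refine Ideal.add_mem _ (Ideal.mul_mem_left _ _ ihx) ?_
    rw [pow_two]
    refine Ideal.mul_mem_mul (hspanK x hx) (Ideal.sum_mem _ fun i _ => ?_)
    exact Ideal.mul_mem_left _ _ (hmap _ (hq i))

end Groth.Agent.Lib.Helper19.RetrPoly
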