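import Groth.Agent.Lib.Helper19RetrPolyA

/-!
# Extracting a coefficient: from a retraction over `T ⊗ B₀` to a retraction over `B₀`
-/

set_option autoImplicit false
set_option linter.unusedSectionVars false
universe u w t

open MvPolynomial TensorProduct

namespace Groth.Agent.Lib.Helper19.RetrPoly

section Coeff

variable {k : Type u} [CommRing k] {T : Type u} [CommRing T] [Algebra k T] {ι : Type w}

/-- apply a linear functional to the coefficients of a polynomial -/
noncomputable def coeffMap (lam : T →ₗ[k] k) : MvPolynomial ι T →ₗ[k] MvPolynomial ι k :=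
  (TensorProduct.lid k (MvPolynomial ι k)).toLinearMap ∘ₗ (lam.rTensor (MvPolynomial ι k)) ∘ₗ
    ((MvPolynomial.algebraTensorAlgEquiv k T).symm.toLinearEquiv.toLinearMap.restrictScalars k)

lemma coeffMap_smul_map (lam : T →ₗ[k] k) (a : T) (p : MvPolynomial ι k) :
    coeffMap lam (a • MvPolynomial.map (algebraMap k T) p) = lam a • p := by
  have h1 : (MvPolynomial.algebraTensorAlgEquiv k T).symm (a • MvPolynomial.map (algebraMap k T) p) =
      a ⊗ₜ[k] p := by
    rw [AlgEquiv.symm_apply_eq, MvPolynomial.algebraTensorAlgEquiv_tmul]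
  change (TensorProduct.lid k (MvPolynomial ι k)) ((lam.rTensor (MvPolynomial ι k))
    ((MvPolynomial.algebraTensorAlgEquiv k T).symm (a • MvPolynomial.map (algebraMap k T) p))) = _
  rw [h1, LinearMap.rTensor_tmul, TensorProduct.lid_tmul]

lemma exists_sum_smul_map (x : MvPolynomial ι T) :
    ∃ (n : ℕ) (a : Fin n → T) (p : Fin n → MvPolynomial ι k),
      x = ∑ j, a j • MvPolynomial.map (algebraMap k T) (p j) := by
  obtain ⟨z, rfl⟩ := (MvPolynomial.algebraTensorAlgEquiv k T).surjective x
  induction z with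
  | zero => exact ⟨0, Fin.elim0, Fin.elim0, by simp⟩
  | tmul a p =>
    refine ⟨1, fun _ => a, fun _ => p, ?_⟩
    rw [MvPolynomial.algebraTensorAlgEquiv_tmul]
    simp
  | add x y hx hy =>
    obtain ⟨n, a, p, h⟩ := hx
    obtain ⟨m, b, r, h'⟩ := hy
    refine ⟨n + m, Fin.append a b, Fin.append p r, ?_⟩
    rw [map_add, h, h', Fin.sum_univ_add]
    simp

lemma coeffMap_map_mul (lam : T →ₗ[k] k) (p : MvPolynomial ι k) (x : MvPolynomial ι T) :
    coeffMap lam (MvPolynomial.map (algebraMap k T) p * x) = p * coeffMap lam x := by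
  obtain ⟨n, a, r, rfl⟩ := exists_sum_smul_map (k := k) x
  rw [Finset.mul_sum, map_sum, map_sum, Finset.mul_sum]
  apply Finset.sum_congr rfl
  intro j _
  rw [mul_smul_comm, ← map_mul, coeffMap_smul_map, coeffMap_smul_map, mul_smul_comm]

lemma coeffMap_C (lam : T →ₗ[k] k) (a : T) : coeffMap (ι := ι) lam (C a) = C (lam a) := by
  have h1 : (C a : MvPolynomial ι T) = a • MvPolynomial.map (algebraMap k T) (1 : MvPolynomial ι k) := by
    rw [map_one, MvPolynomial.smul_eq_C_mul, mul_one]
  rw [h1, coeffMap_smul_map, MvPolynomial.smul_eq_C_mul, mul_one]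

lemma coeffMap_mem (lam : T →ₗ[k] k) (I₀ : Ideal (MvPolynomial ι k)) (x : MvPolynomial ι T)
    (hx : x ∈ Ideal.map (MvPolynomial.map (algebraMap k T)) I₀) : coeffMap lam x ∈ I₀ := by
  have key : ∀ a : MvPolynomial ι T, coeffMap lam (a * x) ∈ I₀ := by
    rw [Ideal.map] at hx
    induction hx using Submodule.span_induction with
    | mem x hx =>
      obtain ⟨r₀, hr₀, rfl⟩ := hx
      intro a
      rw [mul_comm, coeffMap_map_mul]
      exact Ideal.mul_mem_right _ _ hr₀
    | zero =>
      intro a
      rw [mul_zero, map_zero]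
      exact Ideal.zero_mem _
    | add x y _ _ ihx ihy =>
      intro a
      rw [mul_add, map_add]
      exact Ideal.add_mem _ (ihx a) (ihy a)
    | smul b x _ ihx =>
      intro a
      rw [smul_eq_mul, ← mul_assoc]
      exact ihx (a * b)
  have := key 1
  rwa [one_mul] at this

end Coeff

section Main

variable {k : Type u} [CommRing k] {B₀ : Type u} [CommRing B₀] [Algebra k B₀] {ι : Type w} [Fintype ι]
  (P₀ : Algebra.Generators k B₀ ι) {T : Type u} [CommRing T] [Algebra k T]
  {S' : Type u} [CommRing S'] [Algebra T S'] (G : Algebra.Generators T S' ι)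

/-- from a retraction up to `c` over `T` to an honest retraction over `k`, when a `k`-linear
functional sends `c` to `1` -/
theorem hasRetrPoly_of_baseChange
    (hG : G.ker = Ideal.map (MvPolynomial.map (algebraMap k T)) P₀.ker)
    (lam : T →ₗ[k] k) (c : T) (hc : lam c = 1) (h : HasRetrPoly G (C c)) :
    HasRetrPoly P₀ 1 := by
  obtain ⟨q, hq, hqr⟩ := h
  refine ⟨fun i => coeffMap lam (q i), fun i => ?_, fun r hr => ?_⟩
  · apply coeffMap_mem
    rw [← hG]
    exact hq i
  · have hmr : MvPolynomial.map (algebraMap k T) r ∈ G.ker := by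
      rw [hG]
      exact Ideal.mem_map_of_mem _ hr
    have h1 := hqr _ hmr
    have h2 : (∑ i, pderiv i (MvPolynomial.map (algebraMap k T) r) * q i) -
        C c * MvPolynomial.map (algebraMap k T) r ∈
        Ideal.map (MvPolynomial.map (algebraMap k T)) (P₀.ker ^ 2) := by
      rw [Ideal.map_pow, ← hG]
      exact h1
    have h3 := coeffMap_mem lam _ _ h2
    rw [map_sub, map_sum] at h3
    have h4 : ∀ i, coeffMap lam (pderiv i (MvPolynomial.map (algebraMap k T) r) * q i) =
        pderiv i r * coeffMap lam (q i) := by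
      intro i
      rw [pderiv_map, coeffMap_map_mul]
    simp_rw [h4] at h3
    rw [mul_comm (C c), coeffMap_map_mul, coeffMap_C, hc, map_one, mul_one] at h3
    rw [one_mul]
    exact h3

end Main

end Groth.Agent.Lib.Helper19.RetrPoly
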