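import Groth.Agent.Lib.Helper19TorsRetrB
import Groth.Agent.Lib.Helper19CotTIndep

/-!
# Smoothness away from `τ` and uniform `τ`-power torsion of `T¹`
-/

set_option autoImplicit false
set_option linter.unusedSectionVars false
set_option linter.style.haveILetI false
universe u

namespace Groth.Agent.Lib.Helper19.TorsRetr

open Groth.Agent.Lib.Helper19.CotTIndep

variable (A B : Type u) [CommRing A] [CommRing B] [Algebra A B] [Algebra.FinitePresentation A B]

/-- the chosen finite presentation -/
noncomputable abbrev P0 := Algebra.Presentation.ofFinitePresentation A B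

instance cotangent_finite : Module.Finite B (P0 A B).toExtension.Cotangent :=
  Algebra.Extension.Cotangent.finite (P0 A B).toGenerators.fg_ker_of_finitePresentation

variable {B} in
theorem smooth_iff_hasRetr [IsNoetherianRing B] (τ : B) :
    (∀ q : PrimeSpectrum B, τ ∉ q.asIdeal → q ∈ Algebra.smoothLocus A B) ↔
      HasRetr τ (P0 A B).toExtension.cotangentComplex := by
  let d := (P0 A B).toExtension.cotangentComplex
  let p := (P0 A B).toExtension.toKaehler
  have hex : Function.Exact d p := (P0 A B).toExtension.exact_cotangentComplex_toKaehler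
  have hp : Function.Surjective p := (P0 A B).toExtension.toKaehler_surjective
  haveI : Module.Free B (P0 A B).toExtension.CotangentSpace :=
    Module.Free.of_basis (P0 A B).toGenerators.cotangentSpaceBasis
  haveI : IsNoetherian B (P0 A B).toExtension.Cotangent := isNoetherian_of_isNoetherianRing_of_finite _ _
  have h1 : (∀ q : PrimeSpectrum B, τ ∉ q.asIdeal → q ∈ Algebra.smoothLocus A B) ↔
      (↑(PrimeSpectrum.basicOpen τ) : Set (PrimeSpectrum B)) ⊆ Algebra.smoothLocus A B :=
    Iff.rfl
  have h2 : (↑(PrimeSpectrum.basicOpen τ) : Set (PrimeSpectrum B)) ⊆ Algebra.smoothLocus A B ↔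
      Subsingleton (LocalizedModule (Submonoid.powers τ) (Algebra.H1Cotangent A B)) ∧
        Module.Projective (Localization.Away τ) (LocalizedModule.Away τ Ω[B⁄A]) := by
    rw [Algebra.smoothLocus_eq_compl_support_inter, Set.subset_inter_iff, Set.subset_compl_comm,
      PrimeSpectrum.basicOpen_eq_zeroLocus_compl, compl_compl,
      ← LocalizedModule.subsingleton_iff_support_subset,
      ← PrimeSpectrum.basicOpen_eq_zeroLocus_compl, Module.basicOpen_subset_freeLocus_iff]
  let e : LinearMap.ker d ≃ₗ[B] Algebra.H1Cotangent A B := (P0 A B).toGenerators.equivH1Cotangent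
  have h3 : Subsingleton (LocalizedModule (Submonoid.powers τ) (Algebra.H1Cotangent A B)) ↔
      Subsingleton (LocalizedModule (Submonoid.powers τ) (LinearMap.ker d)) := by
    rw [LocalizedModule.subsingleton_iff, LocalizedModule.subsingleton_iff]
    constructor
    · intro h x
      obtain ⟨r, hr, hrx⟩ := h (e x)
      refine ⟨r, hr, ?_⟩
      apply e.injective
      rw [map_smul, hrx, map_zero]
    · intro h x
      obtain ⟨r, hr, hrx⟩ := h (e.symm x)
      refine ⟨r, hr, ?_⟩
      apply e.symm.injective
      rw [map_smul, hrx, map_zero]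
  rw [h1, h2, h3]
  constructor
  · rintro ⟨ha, hb⟩
    exact hasRetr_of_kerTors_of_hasSec (kerTors_of_subsingleton τ ha)
      (hasSec_of_projective τ hp hb) hex
  · intro h
    exact ⟨subsingleton_of_kerTors τ (kerTors_of_hasRetr h),
      projective_of_hasSec (hasSec_of_hasRetr h hex hp)⟩

/-- `T¹` of the choice-free presentation in terms of the finite presentation -/
noncomputable def T1equiv (M : Type u) [AddCommGroup M] [Module B M] :
    CotT.T1 (CotT.canon A B) M ≃ₗ[B]
      (((P0 A B).toExtension.Cotangent →ₗ[B] M) ⧸
        LinearMap.range (LinearMap.lcomp B M (P0 A B).toExtension.cotangentComplex)) :=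
  (T1equivC1 (CotT.canon A B) M).trans
    (C1equiv
      (Algebra.Generators.defaultHom (CotT.canon A B).toGenerators
        (P0 A B).toGenerators).toExtensionHom
      (Algebra.Generators.defaultHom (P0 A B).toGenerators
        (CotT.canon A B).toGenerators).toExtensionHom)

variable {B} in
theorem T1_torsion_iff_hasRetr (τ : B) :
    (∃ n₀ : ℕ, ∀ (M : Type u) [AddCommGroup M] [Module B M] [Module.Finite B M],
      ∀ x : CotT.T1 (CotT.canon A B) M, τ ^ n₀ • x = 0) ↔
      HasRetr τ (P0 A B).toExtension.cotangentComplex := by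
  rw [hasRetr_iff_forall_smul_eq_zero]
  constructor
  · rintro ⟨n₀, h⟩
    refine ⟨n₀, fun M _ _ _ x => ?_⟩
    have h1 := h M ((T1equiv A B M).symm x)
    rw [← map_smul] at h1
    exact (T1equiv A B M).symm.injective (by rw [h1, map_zero])
  · rintro ⟨n₀, h⟩
    refine ⟨n₀, fun M _ _ _ x => ?_⟩
    have h1 := h M (T1equiv A B M x)
    rw [← map_smul] at h1
    exact (T1equiv A B M).injective (by rw [h1, map_zero])

end Groth.Agent.Lib.Helper19.TorsRetr
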