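import Groth.Agent.Lib.Helper19NonSmoothB
import Groth.Agent.Lib.Helper19RetrPolyB
import Groth.Agent.Lib.Helper19RetrPolyC
import Groth.Agent.Lib.Helper19TorsRetrC

/-!
# A flat family over a curve with rigid singular special fibre is not smooth away from the point
-/

set_option autoImplicit false
set_option linter.unusedSectionVars false
universe u w t'

namespace Groth.Agent.Lib.Helper19.NonSmooth

open IsLocalRing TensorProduct MvPolynomial
open Groth.Agent.Lib.Helper19.RetrPoly Groth.Agent.Lib.Helper19.Rigid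

section Gens

variable {k : Type u} [CommRing k] {B₀ : Type u} [CommRing B₀] [Algebra k B₀] {ι : Type w}
  {σ' : Type t'} [Fintype ι] (P₀ : Algebra.Presentation k B₀ ι σ')
  {T : Type u} [CommRing T] [Algebra k T] {S' : Type u} [CommRing S'] [Algebra T S'] [Algebra k S']
  [IsScalarTower k T S']

/-- generators of `S' ≅ T ⊗ B₀` over `T` induced by generators of `B₀` -/
theorem exists_generators (sec : B₀ →ₐ[k] S') (Φ : T ⊗[k] B₀ ≃ₐ[T] S')
    (hΦ : ∀ (a : T) (b : B₀), Φ (a ⊗ₜ b) = algebraMap T S' a * sec b) :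
    ∃ G : Algebra.Generators T S' ι,
      G.ker = Ideal.map (MvPolynomial.map (algebraMap k T)) P₀.toGenerators.ker := by
  let v : ι → S' := fun i => sec (P₀.val i)
  let ψ : MvPolynomial ι T →ₐ[T] S' := aeval v
  let ψ' : MvPolynomial ι T →ₐ[T] T ⊗[k] B₀ := aeval (P₀.baseChange T).val
  have hcomp : ψ = (Φ : T ⊗[k] B₀ →ₐ[T] S').comp ψ' := by
    apply MvPolynomial.algHom_ext
    intro i
    change aeval v (X i) = Φ (aeval (P₀.baseChange T).val (X i))
    rw [aeval_X, aeval_X]
    change sec (P₀.val i) = Φ ((1 : T) ⊗ₜ[k] P₀.val i)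
    rw [hΦ, map_one, one_mul]
  have hψ' : Function.Surjective ψ' := (P₀.baseChange T).toGenerators.aeval_val_surjective
  have hψ : Function.Surjective ψ := by
    rw [hcomp]
    exact Φ.surjective.comp hψ'
  refine ⟨Algebra.Generators.ofSurjective v hψ, ?_⟩
  rw [map_ker_baseChange, Algebra.Generators.ker_eq_ker_aeval_val,
    Algebra.Generators.ker_eq_ker_aeval_val]
  ext x
  rw [RingHom.mem_ker, RingHom.mem_ker]
  change ψ x = 0 ↔ ψ' x = 0
  rw [hcomp]
  change Φ (ψ' x) = 0 ↔ _
  rw [map_eq_zero_iff Φ Φ.injective]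

end Gens

section Main

variable {k : Type u} [Field k] [IsAlgClosed k] {A : Type u} [CommRing A] [IsDomain A] [Algebra k A]
  [Algebra.FiniteType k A] (t : A) (ht : (Ideal.span {t}).IsMaximal) (ht0 : t ≠ 0)
  {B B₀ : Type u} [CommRing B] [Algebra A B] [Algebra.FiniteType A B] [Module.Flat A B]
  [Algebra k B] [IsScalarTower k A B]
  [CommRing B₀] [Algebra k B₀] [Algebra.FiniteType k B₀] [Algebra A B₀] [IsScalarTower k A B₀]
  (π : B →ₐ[A] B₀) (hπs : Function.Surjective π)
  (hπk : RingHom.ker π = Ideal.span {algebraMap A B t})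

include ht ht0 hπs hπk in
/-- If the special fibre `B₀` of the flat family `B/A` is rigid and the family is smooth away from the special fibre,
then `B₀` is smooth. -/
theorem smooth_of_rigid (hT : ∀ X : Exal.Ext k B₀ B₀, X.IsTrivial)
    (hsm : ∀ q : PrimeSpectrum B, algebraMap A B t ∉ q.asIdeal → q ∈ Algebra.smoothLocus A B) :
    Algebra.Smooth k B₀ := by
  haveI : IsNoetherianRing A := Algebra.FiniteType.isNoetherianRing k A
  haveI : Algebra.FinitePresentation A B := Algebra.FinitePresentation.of_finiteType.1 inferInstance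
  haveI : IsNoetherianRing B := Algebra.FiniteType.isNoetherianRing A B
  haveI : IsNoetherianRing B₀ := Algebra.FiniteType.isNoetherianRing k B₀
  haveI : Algebra.FinitePresentation k B₀ := Algebra.FinitePresentation.of_finiteType.1 inferInstance
  -- step 1: a retraction up to `t^n` for the family
  obtain ⟨n, l, hl⟩ := (TorsRetr.smooth_iff_hasRetr A (algebraMap A B t)).1 hsm
  let P := TorsRetr.P0 A B
  have h1 : HasRetrN (algebraMap A B t) n P.toExtension.cotangentComplex := ⟨l, hl⟩
  have h2 : HasRetrPoly P.toGenerators (C t ^ n) := by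
    refine (hasRetrN_iff_hasRetrPoly P.toGenerators (algebraMap A B t) n (C t ^ n) ?_).1 h1
    rw [algebraMap_ofMv, map_pow, aeval_C]
  -- step 2: reduce modulo `t^N`
  let N := n + 1
  have hN : N ≠ 0 := Nat.succ_ne_zero n
  haveI : IsLocalRing (AN t N) := isLocalRing_AN t ht N hN
  haveI : IsArtinianRing (AN t N) := isArtinianRing_AN t ht N hN
  let PN := P.baseChange (AN t N)
  have h3 : HasRetrPoly PN.toGenerators (C (tbar t N) ^ n) := by
    have := hasRetrPoly_baseChange P (AN t N) (C t ^ n) h2
    rw [map_pow, map_C] at this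
    exact this
  let τN : AN t N ⊗[A] B := algebraMap (AN t N) (AN t N ⊗[A] B) (tbar t N)
  have h4 : HasRetrN τN n PN.toGenerators.toExtension.cotangentComplex := by
    refine (hasRetrN_iff_hasRetrPoly PN.toGenerators τN n (C (tbar t N) ^ n) ?_).2 h3
    rw [algebraMap_ofMv, map_pow, aeval_C]
  -- step 3: the reduction is a trivial deformation
  have h0 := algebraMap_t_eq_zero t π hπk
  obtain ⟨sec, Φ, hsec, hΦ⟩ := exists_equiv_of_rigid (A := AN t N) (B' := AN t N ⊗[A] B) hT
    (resN t ht N hN) (rhoN (k := k) t π h0 N hN) (rhoN_surjective t π hπs h0 N hN)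
    (by rw [ker_rhoN t π hπk h0 N hN, maximalIdeal_AN t ht N hN])
  let P₀ := TorsRetr.P0 k B₀
  obtain ⟨G, hG⟩ := exists_generators P₀ sec Φ hΦ
  -- step 4: change of presentation
  haveI : Module.Finite (AN t N ⊗[A] B) PN.toGenerators.toExtension.Cotangent :=
    Algebra.Extension.Cotangent.finite PN.toGenerators.fg_ker_of_finitePresentation
  haveI : Module.Finite (AN t N ⊗[A] B) G.toExtension.Cotangent :=
    Algebra.Extension.Cotangent.finite G.fg_ker_of_finitePresentation
  have h5 : HasRetrN (N := G.toExtension.Cotangent) (W := G.toExtension.CotangentSpace) τN n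
      G.toExtension.cotangentComplex :=
    hasRetrN_of_homs (P₁ := PN.toGenerators.toExtension) (P₂ := G.toExtension)
      (Algebra.Generators.defaultHom PN.toGenerators G).toExtensionHom
      (Algebra.Generators.defaultHom G PN.toGenerators).toExtensionHom τN n h4
  have h6 : HasRetrPoly G (C (tbar t N ^ n)) := by
    refine (hasRetrN_iff_hasRetrPoly G τN n (C (tbar t N ^ n)) ?_).1 h5
    rw [algebraMap_ofMv, aeval_C, map_pow]
  -- step 5: extract the coefficient of `t^n`
  obtain ⟨lam, hlam⟩ := exists_functional (k := k) t ht ht0 N n (Nat.lt_succ_self n)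
  have h7 : HasRetrPoly P₀.toGenerators 1 :=
    hasRetrPoly_of_baseChange P₀.toGenerators G hG lam (tbar t N ^ n) hlam h6
  have h8 : HasRetrN (1 : B₀) 0 P₀.toExtension.cotangentComplex := by
    refine (hasRetrN_iff_hasRetrPoly P₀.toGenerators 1 0 1 ?_).2 h7
    rw [algebraMap_ofMv, map_one, pow_zero]
  obtain ⟨l₀, hl₀⟩ := h8
  have h9 : TorsRetr.HasRetr (1 : B₀) P₀.toExtension.cotangentComplex := ⟨0, l₀, hl₀⟩
  have h10 := (TorsRetr.smooth_iff_hasRetr k (1 : B₀)).2 h9
  have h11 : Algebra.smoothLocus k B₀ = Set.univ := by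
    ext q
    simp only [Set.mem_univ, iff_true]
    exact h10 q (fun h => q.isPrime.ne_top ((Ideal.eq_top_iff_one _).2 h))
  rw [Algebra.smoothLocus_eq_univ_iff] at h11
  exact ⟨h11, inferInstance⟩

end Main

end Groth.Agent.Lib.Helper19.NonSmooth
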