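import Mathlib

/-!
# Additivity of length of `A/(ab, J)` when `a` is regular modulo `J`
-/

set_option autoImplicit false

namespace Groth.Agent.Lib.Helper19NormLength

variable {A : Type*} [CommRing A]

/-- `ℓ(A/(ab,J)) = ℓ(A/(a,J)) + ℓ(A/(b,J))` when `a` is a nonzerodivisor modulo `J`. -/
theorem length_mul_eq (a b : A) (J : Ideal A) (hreg : ∀ x, a * x ∈ J → x ∈ J) :
    Module.length A (A ⧸ (Ideal.span {a * b} ⊔ J)) =
      Module.length A (A ⧸ (Ideal.span {a} ⊔ J)) + Module.length A (A ⧸ (Ideal.span {b} ⊔ J)) := by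
  set I₁ : Ideal A := Ideal.span {a} ⊔ J with hI₁
  set I₂ : Ideal A := Ideal.span {b} ⊔ J with hI₂
  set I₃ : Ideal A := Ideal.span {a * b} ⊔ J with hI₃
  have ha1 : a ∈ I₁ := Ideal.mem_sup_left (Ideal.mem_span_singleton_self a)
  have h31 : I₃ ≤ I₁ := by
    refine sup_le ?_ le_sup_right
    rw [Ideal.span_singleton_le_iff_mem]
    exact Ideal.mul_mem_right _ _ ha1
  let g : (A ⧸ I₃) →ₗ[A] (A ⧸ I₁) := Submodule.mapQ I₃ I₁ LinearMap.id (by simpa using h31)
  have hg : Function.Surjective g := by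
    intro y
    obtain ⟨x, rfl⟩ := Submodule.Quotient.mk_surjective _ y
    exact ⟨Submodule.Quotient.mk x, rfl⟩
  have h23 : I₂ ≤ Submodule.comap (LinearMap.mulLeft A a) I₃ := by
    intro y hy
    rw [Submodule.mem_comap, LinearMap.mulLeft_apply]
    obtain ⟨y1, hy1, y2, hy2, rfl⟩ := Submodule.mem_sup.mp hy
    obtain ⟨c, rfl⟩ := Ideal.mem_span_singleton'.mp hy1
    have : a * (c * b + y2) = c * (a * b) + a * y2 := by ring
    rw [this]
    exact Ideal.add_mem _
      (Ideal.mem_sup_left (Ideal.mul_mem_left _ _ (Ideal.mem_span_singleton_self _)))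
      (Ideal.mem_sup_right (Ideal.mul_mem_left _ _ hy2))
  let f : (A ⧸ I₂) →ₗ[A] (A ⧸ I₃) := Submodule.mapQ I₂ I₃ (LinearMap.mulLeft A a) h23
  have hf : Function.Injective f := by
    rw [← LinearMap.ker_eq_bot, LinearMap.ker_eq_bot']
    intro y hy
    obtain ⟨x, rfl⟩ := Submodule.Quotient.mk_surjective _ y
    change (Submodule.Quotient.mk (a * x) : A ⧸ I₃) = 0 at hy
    rw [Submodule.Quotient.mk_eq_zero] at hy ⊢
    obtain ⟨x1, hx1, x2, hx2, hsum⟩ := Submodule.mem_sup.mp hy
    obtain ⟨c, rfl⟩ := Ideal.mem_span_singleton'.mp hx1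
    have h1 : a * (x - c * b) ∈ J := by
      have : a * (x - c * b) = x2 := by
        have : a * (x - c * b) = a * x - c * (a * b) := by ring
        rw [this, ← hsum]; ring
      rw [this]; exact hx2
    have h2 := hreg _ h1
    have : x = c * b + (x - c * b) := by ring
    rw [this]
    exact Ideal.add_mem _
      (Ideal.mem_sup_left (Ideal.mul_mem_left _ _ (Ideal.mem_span_singleton_self _)))
      (Ideal.mem_sup_right h2)
  have hex : Function.Exact f g := by
    intro y
    constructor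
    · intro hy
      obtain ⟨x, rfl⟩ := Submodule.Quotient.mk_surjective _ y
      change (Submodule.Quotient.mk x : A ⧸ I₁) = 0 at hy
      rw [Submodule.Quotient.mk_eq_zero] at hy
      obtain ⟨x1, hx1, x2, hx2, rfl⟩ := Submodule.mem_sup.mp hy
      obtain ⟨c, rfl⟩ := Ideal.mem_span_singleton'.mp hx1
      refine ⟨Submodule.Quotient.mk c, ?_⟩
      change (Submodule.Quotient.mk (a * c) : A ⧸ I₃) = Submodule.Quotient.mk (c * a + x2)
      rw [Submodule.Quotient.eq]
      have : a * c - (c * a + x2) = -x2 := by ring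
      rw [this]
      exact neg_mem (Ideal.mem_sup_right hx2)
    · rintro ⟨z, rfl⟩
      obtain ⟨x, rfl⟩ := Submodule.Quotient.mk_surjective _ z
      change (Submodule.Quotient.mk (a * x) : A ⧸ I₁) = 0
      rw [Submodule.Quotient.mk_eq_zero]
      exact Ideal.mul_mem_right _ _ ha1
  rw [Module.length_eq_add_of_exact f g hf hg hex, add_comm]

end Groth.Agent.Lib.Helper19NormLength
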