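import Mathlib
import Groth.Prelude.Def_W4bk4hartshdef114Obs

/-!
# Obstruction theories bound the number of relations (helper19)

Core derivation lemma, and the bound `I.spanFinrank ≤ dim V` for `A = P/I`, `I ≤ m_P²`, given an
obstruction theory (in the sense of `W4bk4hartshdef114.ObsTheory`) with values in `V`.
-/

set_option autoImplicit false
universe u

open scoped TensorProduct

namespace Groth.Agent.Lib.Helper19

/-- Core derivation lemma: two ring maps `π, v : P → B` whose difference takes values in an ideal `M`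
of square zero killed by `π(m)` agree on `m²`.  Hence if `v` kills `I ≤ m²`, so does `π`. -/
theorem map_eq_zero_of_le_sq {P B : Type*} [CommRing P] [CommRing B] (m I : Ideal P) (hI : I ≤ m ^ 2)
    (π v : P →+* B) (M : Ideal B)
    (hv : ∀ x ∈ I, v x = 0) (hd : ∀ x, π x - v x ∈ M)
    (hmM : ∀ x ∈ m, ∀ y ∈ M, π x * y = 0) (hMM : ∀ a ∈ M, ∀ b ∈ M, a * b = 0) :
    ∀ x ∈ I, π x = 0 := by
  have key : ∀ x ∈ m ^ 2, π x = v x := by
    intro x hx
    rw [pow_two] at hx
    refine Submodule.mul_induction_on hx ?_ ?_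
    · intro a ha b hb
      have h1 : π a * (π b - v b) = 0 := hmM a ha _ (hd b)
      have h2 : π b * (π a - v a) = 0 := hmM b hb _ (hd a)
      have h3 : (π a - v a) * (π b - v b) = 0 := hMM _ (hd a) _ (hd b)
      have : π (a * b) - v (a * b) = π a * (π b - v b) + π b * (π a - v a) - (π a - v a) * (π b - v b) := by
        rw [map_mul, map_mul]; ring
      rw [h1, h2, h3] at this
      exact sub_eq_zero.1 (by simpa using this)
    · intro a b ha hb
      rw [map_add, map_add, ha, hb]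
  intro x hx
  rw [key x (hI hx), hv x hx]

namespace W4

open W4bk4hartshdef114

variable {k : Type u} [Field k]

/-- A small extension stays small after dividing by an ideal inside the kernel. -/
theorem isSmallExt_quot {C' : Type u} [CommRing C'] [Algebra k C'] {J : Ideal C'}
    (hJ : IsSmallExt k C' J) (K : Ideal C') (hK : K ≤ J) :
    IsSmallExt k (C' ⧸ K) (J.map (Ideal.Quotient.mkₐ k K)) := by
  obtain ⟨hloc, hart, hresid, hann, htop⟩ := hJ
  haveI := hloc
  haveI := hart
  have hKtop : K ≠ ⊤ := fun h => htop (top_le_iff.1 (h ▸ hK))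
  haveI : Nontrivial (C' ⧸ K) := Ideal.Quotient.nontrivial_iff.2 hKtop
  haveI hloc' : IsLocalRing (C' ⧸ K) :=
    IsLocalRing.of_surjective' (Ideal.Quotient.mk K) Ideal.Quotient.mk_surjective
  have hnonunit : ∀ a : C', Ideal.Quotient.mk K a ∈ nonunits (C' ⧸ K) ↔ a ∈ nonunits C' := by
    intro a
    constructor
    · intro h hu
      exact h (hu.map (Ideal.Quotient.mk K))
    · intro h hu
      obtain ⟨b, hb⟩ := hu.exists_right_inv
      obtain ⟨b', rfl⟩ := Ideal.Quotient.mk_surjective b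
      have h1 : a * b' - 1 ∈ K := by
        rw [← Ideal.Quotient.eq_zero_iff_mem, map_sub, map_mul, hb, map_one, sub_self]
      have h2 : a * b' - 1 ∈ IsLocalRing.maximalIdeal C' :=
        IsLocalRing.le_maximalIdeal hKtop h1
      have h3 : IsUnit (a * b') := by
        apply IsLocalRing.isUnit_of_mem_nonunits_one_sub_self
        have : 1 - a * b' ∈ IsLocalRing.maximalIdeal C' := by
          have := (IsLocalRing.maximalIdeal C').neg_mem h2
          simpa using this
        exact (IsLocalRing.mem_maximalIdeal _).1 this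
      exact h (isUnit_of_mul_isUnit_left h3)
  refine ⟨hloc', ?_, ?_, ?_, ?_⟩
  · exact Function.Surjective.isArtinianRing (f := Ideal.Quotient.mk K) Ideal.Quotient.mk_surjective
  · intro x
    obtain ⟨a, rfl⟩ := Ideal.Quotient.mk_surjective x
    obtain ⟨c, hc⟩ := hresid a
    refine ⟨c, ?_⟩
    have : Ideal.Quotient.mk K a - algebraMap k (C' ⧸ K) c = Ideal.Quotient.mk K (a - algebraMap k C' c) := by
      rw [map_sub]; rfl
    rw [this, hnonunit]
    exact hc
  · intro x j hx hj
    obtain ⟨a, rfl⟩ := Ideal.Quotient.mk_surjective x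
    rw [hnonunit] at hx
    obtain ⟨b, hb, rfl⟩ := (Ideal.mem_map_iff_of_surjective (Ideal.Quotient.mkₐ k K)
      (Ideal.Quotient.mkₐ_surjective k K)).1 hj
    change Ideal.Quotient.mk K a * Ideal.Quotient.mk K b = 0
    rw [← map_mul, hann a b hx hb, map_zero]
  · intro h
    apply htop
    have h1 : (1 : C' ⧸ K) ∈ J.map (Ideal.Quotient.mkₐ k K) := h ▸ Submodule.mem_top
    obtain ⟨b, hb, hb1⟩ := (Ideal.mem_map_iff_of_surjective (Ideal.Quotient.mkₐ k K)
      (Ideal.Quotient.mkₐ_surjective k K)).1 h1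
    have h2 : b - 1 ∈ K := by
      rw [← Ideal.Quotient.eq_zero_iff_mem, map_sub, map_one]
      exact sub_eq_zero.2 hb1
    have : (1 : C') ∈ J := by
      have := J.sub_mem hb (hK h2)
      simpa using this
    exact (Ideal.eq_top_iff_one J).2 this

/-- The kernel of a functional on the kernel `J` of a small extension, as an ideal of `C'`. -/
def kerIdeal {C' : Type u} [CommRing C'] [Algebra k C'] {J : Ideal C'}
    (hJ : IsSmallExt k C' J) (φ : ↥J →ₗ[k] k) : Ideal C' where
  carrier := {x | ∃ h : x ∈ J, φ ⟨x, h⟩ = 0}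
  add_mem' := by
    rintro a b ⟨ha, ha0⟩ ⟨hb, hb0⟩
    refine ⟨J.add_mem ha hb, ?_⟩
    have : (⟨a + b, J.add_mem ha hb⟩ : ↥J) = ⟨a, ha⟩ + ⟨b, hb⟩ := rfl
    rw [this, map_add, ha0, hb0, add_zero]
  zero_mem' := ⟨J.zero_mem, by
    have : (⟨0, J.zero_mem⟩ : ↥J) = 0 := rfl
    rw [this, map_zero]⟩
  smul_mem' := by
    rintro c x ⟨hx, hx0⟩
    obtain ⟨a, ha⟩ := hJ.2.2.1 c
    have h0 : (c - algebraMap k C' a) * x = 0 := hJ.2.2.2.1 _ _ ha hx
    have h1 : c • x = a • x := by
      rw [smul_eq_mul, Algebra.smul_def]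
      have := sub_eq_zero.1 (by rw [← sub_mul]; exact h0 : c * x - algebraMap k C' a * x = 0)
      exact this
    refine ⟨J.smul_mem c hx, ?_⟩
    have : (⟨c • x, J.smul_mem c hx⟩ : ↥J) = a • ⟨x, hx⟩ := by
      apply Subtype.ext
      exact h1
    rw [this, map_smul, hx0, smul_zero]

theorem mem_kerIdeal {C' : Type u} [CommRing C'] [Algebra k C'] {J : Ideal C'}
    (hJ : IsSmallExt k C' J) (φ : ↥J →ₗ[k] k) (j : ↥J) : (j : C') ∈ kerIdeal hJ φ ↔ φ j = 0 := by
  constructor
  · rintro ⟨h, h0⟩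
    exact h0
  · intro h
    exact ⟨j.2, h⟩

theorem kerIdeal_le {C' : Type u} [CommRing C'] [Algebra k C'] {J : Ideal C'}
    (hJ : IsSmallExt k C' J) (φ : ↥J →ₗ[k] k) : kerIdeal hJ φ ≤ J := by
  rintro x ⟨h, _⟩
  exact h

/-- If the obstruction dies under a functional `φ` (with `φ j₀ = 1`), the map lifts modulo `ker φ`. -/
theorem exists_lift_of_lTensor_eq_zero {A V : Type u} [CommRing A] [Algebra k A]
    [AddCommGroup V] [Module k V] (T : ObsTheory k A V)
    (C' : Type u) [CommRing C'] [Algebra k C'] (J : Ideal C') (hJ : IsSmallExt k C' J)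
    (u : A →ₐ[k] C' ⧸ J) (φ : ↥J →ₗ[k] k) (j₀ : ↥J) (hj₀ : φ j₀ = 1)
    (hφ : LinearMap.lTensor V φ (T.obs C' J u) = 0) :
    ∃ u' : A →ₐ[k] C' ⧸ kerIdeal hJ φ,
      (Ideal.Quotient.mkₐ k (J.map (Ideal.Quotient.mkₐ k (kerIdeal hJ φ)))).comp u' =
        ((DoubleQuot.quotQuotEquivQuotOfLEₐ k (kerIdeal_le hJ φ)).symm : (C' ⧸ J) →ₐ[k] _).comp u := by
  have hq := T.obs_quot C' J (kerIdeal hJ φ) hJ (kerIdeal_le hJ φ) u
  have hfac : idealToQuot k J (kerIdeal hJ φ) =
      (LinearMap.toSpanSingleton k _ (idealToQuot k J (kerIdeal hJ φ) j₀)) ∘ₗ φ := by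
    apply LinearMap.ext
    intro j
    rw [LinearMap.comp_apply, LinearMap.toSpanSingleton_apply]
    have h1 : φ (j - φ j • j₀) = 0 := by
      rw [map_sub, map_smul, hj₀, smul_eq_mul, mul_one, sub_self]
    have h2 : ((j - φ j • j₀ : ↥J) : C') ∈ kerIdeal hJ φ := (mem_kerIdeal hJ φ _).2 h1
    have h3 : idealToQuot k J (kerIdeal hJ φ) (j - φ j • j₀) = 0 := by
      apply Subtype.ext
      change Ideal.Quotient.mk _ ((j - φ j • j₀ : ↥J) : C') = 0
      exact Ideal.Quotient.eq_zero_iff_mem.2 h2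
    rw [map_sub, map_smul] at h3
    exact sub_eq_zero.1 h3
  rw [hfac, LinearMap.lTensor_comp, LinearMap.comp_apply, hφ, map_zero] at hq
  exact (T.obs_eq_zero_iff (C' ⧸ kerIdeal hJ φ) _ (isSmallExt_quot hJ _ (kerIdeal_le hJ φ)) _).1 hq

end W4

/-- Dimension bound and complete-intersection conclusion from a bound on the number of generators. -/
theorem dim_bound_of_spanFinrank_le {P : Type*} [CommRing P] [IsLocalRing P] [IsNoetherianRing P]
    (I : Ideal P) (hI : I ≠ ⊤) (r : ℕ) (h : I.spanFinrank ≤ r) :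
    ringKrullDim P ≤ ringKrullDim (P ⧸ I) + (r : WithBot ℕ∞) ∧
      (ringKrullDim (P ⧸ I) + (r : WithBot ℕ∞) = ringKrullDim P →
        ∃ s : Finset P, Ideal.span (s : Set P) = I ∧
          ringKrullDim (P ⧸ I) + (s.card : WithBot ℕ∞) = ringKrullDim P) := by
  have h0 : ringKrullDim P ≤ ringKrullDim (P ⧸ I) + (I.spanFinrank : WithBot ℕ∞) := by
    apply ringKrullDim_le_ringKrullDim_quotient_add_spanFinrank
    rw [IsLocalRing.ringJacobson_eq_maximalIdeal]
    exact IsLocalRing.le_maximalIdeal hI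
  have h1 : ringKrullDim (P ⧸ I) + (I.spanFinrank : WithBot ℕ∞) ≤ ringKrullDim (P ⧸ I) + (r : WithBot ℕ∞) := by
    gcongr
  refine ⟨h0.trans h1, fun heq => ?_⟩
  have hfg : (I : Submodule P P).FG := IsNoetherian.noetherian I
  have hfin : (Submodule.generators (I : Submodule P P)).Finite := Submodule.FG.finite_generators hfg
  refine ⟨hfin.toFinset, ?_, ?_⟩
  · rw [Set.Finite.coe_toFinset]
    exact Submodule.span_generators _
  · have hcard : hfin.toFinset.card = I.spanFinrank := by
      rw [← Set.ncard_eq_toFinset_card _ hfin]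
      exact Submodule.FG.generators_ncard hfg
    rw [hcard]
    exact le_antisymm (h1.trans heq.le) h0

section Pres

open W4bk4hartshdef114

variable {k : Type u} [Field k] {P : Type u} [CommRing P] [IsLocalRing P] [IsNoetherianRing P] [Algebra k P]

/-- `L_N = m I + m^N`. -/
def relIdeal (I : Ideal P) (N : ℕ) : Ideal P :=
  IsLocalRing.maximalIdeal P • I ⊔ IsLocalRing.maximalIdeal P ^ N

theorem relIdeal_le_max (I : Ideal P) {N : ℕ} (hN : 1 ≤ N) : relIdeal I N ≤ IsLocalRing.maximalIdeal P := by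
  refine sup_le ?_ ?_
  · exact (Ideal.mul_le_left : IsLocalRing.maximalIdeal P * I ≤ IsLocalRing.maximalIdeal P)
  · calc IsLocalRing.maximalIdeal P ^ N ≤ IsLocalRing.maximalIdeal P ^ 1 := Ideal.pow_le_pow_right hN
      _ = IsLocalRing.maximalIdeal P := pow_one _

theorem isSmallExt_rel (hres : Function.Surjective (algebraMap k (IsLocalRing.ResidueField P)))
    (I : Ideal P) (hI : I ≤ IsLocalRing.maximalIdeal P) {N : ℕ} (hN : 1 ≤ N) :
    IsSmallExt k (P ⧸ relIdeal I N) (I.map (Ideal.Quotient.mk (relIdeal I N))) := by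
  set L := relIdeal I N with hL
  have hLm : L ≤ IsLocalRing.maximalIdeal P := relIdeal_le_max I hN
  have hLtop : L ≠ ⊤ := fun h => (IsLocalRing.maximalIdeal.isMaximal P).ne_top (top_le_iff.1 (h ▸ hLm))
  haveI : Nontrivial (P ⧸ L) := Ideal.Quotient.nontrivial_iff.2 hLtop
  haveI hloc : IsLocalRing (P ⧸ L) :=
    IsLocalRing.of_surjective' (Ideal.Quotient.mk L) Ideal.Quotient.mk_surjective
  have hnonunit : ∀ a : P, Ideal.Quotient.mk L a ∈ nonunits (P ⧸ L) ↔ a ∈ IsLocalRing.maximalIdeal P := by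
    intro a
    rw [IsLocalRing.mem_maximalIdeal]
    constructor
    · intro h hu
      exact h (hu.map (Ideal.Quotient.mk L))
    · intro h hu
      obtain ⟨b, hb⟩ := hu.exists_right_inv
      obtain ⟨b', rfl⟩ := Ideal.Quotient.mk_surjective b
      have h1 : a * b' - 1 ∈ L := by
        rw [← Ideal.Quotient.eq_zero_iff_mem, map_sub, map_mul, hb, map_one, sub_self]
      have h2 : a * b' - 1 ∈ IsLocalRing.maximalIdeal P := hLm h1
      have h3 : IsUnit (a * b') := by
        apply IsLocalRing.isUnit_of_mem_nonunits_one_sub_self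
        have : 1 - a * b' ∈ IsLocalRing.maximalIdeal P := by
          have := (IsLocalRing.maximalIdeal P).neg_mem h2
          simpa using this
        exact (IsLocalRing.mem_maximalIdeal _).1 this
      exact h (isUnit_of_mul_isUnit_left h3)
  have hmax : IsLocalRing.maximalIdeal (P ⧸ L) ≤ (IsLocalRing.maximalIdeal P).map (Ideal.Quotient.mk L) := by
    intro x hx
    obtain ⟨a, rfl⟩ := Ideal.Quotient.mk_surjective x
    exact Ideal.mem_map_of_mem _ ((hnonunit a).1 ((IsLocalRing.mem_maximalIdeal _).1 hx))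
  refine ⟨hloc, ?_, ?_, ?_, ?_⟩
  · rw [isArtinianRing_iff_isNilpotent_maximalIdeal]
    refine ⟨N, ?_⟩
    rw [Ideal.zero_eq_bot, ← le_bot_iff]
    calc IsLocalRing.maximalIdeal (P ⧸ L) ^ N
        ≤ ((IsLocalRing.maximalIdeal P).map (Ideal.Quotient.mk L)) ^ N := Ideal.pow_right_mono hmax _
      _ = (IsLocalRing.maximalIdeal P ^ N).map (Ideal.Quotient.mk L) := by rw [← Ideal.map_pow]
      _ ≤ L.map (Ideal.Quotient.mk L) := Ideal.map_mono le_sup_right
      _ = ⊥ := Ideal.map_quotient_self _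
  · intro x
    obtain ⟨a, rfl⟩ := Ideal.Quotient.mk_surjective x
    obtain ⟨c, hc⟩ := hres (IsLocalRing.residue P a)
    refine ⟨c, ?_⟩
    have h1 : Ideal.Quotient.mk L a - algebraMap k (P ⧸ L) c = Ideal.Quotient.mk L (a - algebraMap k P c) := by
      rw [map_sub]; rfl
    rw [h1, hnonunit]
    rw [← IsLocalRing.residue_eq_zero_iff, map_sub, ← hc]
    exact sub_eq_zero.2 rfl
  · intro x j hx hj
    obtain ⟨a, rfl⟩ := Ideal.Quotient.mk_surjective x
    rw [hnonunit] at hx
    obtain ⟨b, hb, rfl⟩ := (Ideal.mem_map_iff_of_surjective (Ideal.Quotient.mk L)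
      Ideal.Quotient.mk_surjective).1 hj
    rw [← map_mul, Ideal.Quotient.eq_zero_iff_mem]
    exact le_sup_left (a := IsLocalRing.maximalIdeal P • I) (Submodule.smul_mem_smul hx hb)
  · intro h
    have h1 : (1 : P ⧸ L) ∈ I.map (Ideal.Quotient.mk L) := h ▸ Submodule.mem_top
    obtain ⟨b, hb, hb1⟩ := (Ideal.mem_map_iff_of_surjective (Ideal.Quotient.mk L)
      Ideal.Quotient.mk_surjective).1 h1
    have h2 : b - 1 ∈ L := by
      rw [← Ideal.Quotient.eq_zero_iff_mem, map_sub, map_one]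
      exact sub_eq_zero.2 hb1
    have : (1 : P) ∈ IsLocalRing.maximalIdeal P := by
      have := (IsLocalRing.maximalIdeal P).sub_mem (hI hb) (hLm h2)
      simpa using this
    exact (IsLocalRing.maximalIdeal.isMaximal P).ne_top ((Ideal.eq_top_iff_one _).2 this)

/-- The canonical map `P/I → (P/L_N)/(image of I)`. -/
noncomputable def relHom (I : Ideal P) (N : ℕ) :
    (P ⧸ I) →ₐ[k] (P ⧸ relIdeal I N) ⧸ (I.map (Ideal.Quotient.mk (relIdeal I N))) :=
  Ideal.Quotient.liftₐ I ((Ideal.Quotient.mkₐ k _).comp (Ideal.Quotient.mkₐ k (relIdeal I N))) (by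
    intro a ha
    change Ideal.Quotient.mk _ (Ideal.Quotient.mk (relIdeal I N) a) = 0
    exact Ideal.Quotient.eq_zero_iff_mem.2 (Ideal.mem_map_of_mem _ ha))

theorem relHom_mk (I : Ideal P) (N : ℕ) (a : P) :
    relHom (k := k) I N (Ideal.Quotient.mk I a) =
      Ideal.Quotient.mk _ (Ideal.Quotient.mk (relIdeal I N) a) := rfl

/-- Injectivity of `(J_N)^∨ → V`: a functional killing the obstruction of the canonical map vanishes. -/
theorem functional_eq_zero_of_lTensor_eq_zero
    (hres : Function.Surjective (algebraMap k (IsLocalRing.ResidueField P)))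
    (I : Ideal P) (hI : I ≤ IsLocalRing.maximalIdeal P ^ 2) {N : ℕ} (hN : 1 ≤ N)
    {V : Type u} [AddCommGroup V] [Module k V] (T : ObsTheory k (P ⧸ I) V)
    (φ : ↥(I.map (Ideal.Quotient.mk (relIdeal I N))) →ₗ[k] k)
    (hφ : LinearMap.lTensor V φ (T.obs _ _ (relHom I N)) = 0) : φ = 0 := by
  by_contra hne
  obtain ⟨j, hj⟩ : ∃ j, φ j ≠ 0 := by
    by_contra h
    push Not at h
    exact hne (LinearMap.ext h)
  have hIm : I ≤ IsLocalRing.maximalIdeal P := hI.trans (Ideal.pow_le_self two_ne_zero)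
  have hJ : IsSmallExt k (P ⧸ relIdeal I N) (I.map (Ideal.Quotient.mk (relIdeal I N))) :=
    isSmallExt_rel hres I hIm hN
  have hj₀ : φ ((φ j)⁻¹ • j) = 1 := by rw [map_smul, smul_eq_mul, inv_mul_cancel₀ hj]
  obtain ⟨u', hu'⟩ := W4.exists_lift_of_lTensor_eq_zero T (P ⧸ relIdeal I N) _ hJ (relHom I N) φ _ hj₀ hφ
  have hcore := map_eq_zero_of_le_sq (IsLocalRing.maximalIdeal P) I hI
    ((Ideal.Quotient.mk (W4.kerIdeal hJ φ)).comp (Ideal.Quotient.mk (relIdeal I N)))
    (u'.toRingHom.comp (Ideal.Quotient.mk I))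
    ((I.map (Ideal.Quotient.mk (relIdeal I N))).map (Ideal.Quotient.mkₐ k (W4.kerIdeal hJ φ))) ?_ ?_ ?_ ?_
  · apply hj
    obtain ⟨b, hb, hbj⟩ := (Ideal.mem_map_iff_of_surjective (Ideal.Quotient.mk (relIdeal I N))
      Ideal.Quotient.mk_surjective).1 j.2
    have h1 : Ideal.Quotient.mk (relIdeal I N) b ∈ W4.kerIdeal hJ φ :=
      Ideal.Quotient.eq_zero_iff_mem.1 (hcore b hb)
    have : (j : P ⧸ relIdeal I N) ∈ W4.kerIdeal hJ φ := hbj ▸ h1
    exact (W4.mem_kerIdeal hJ φ j).1 this
  · intro x hx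
    change u' (Ideal.Quotient.mk I x) = 0
    rw [Ideal.Quotient.eq_zero_iff_mem.2 hx, map_zero]
  · intro x
    rw [← Ideal.Quotient.eq_zero_iff_mem, map_sub, sub_eq_zero]
    have h := AlgHom.congr_fun hu' (Ideal.Quotient.mk I x)
    exact h.symm
  · intro x hx y hy
    obtain ⟨y', hy', rfl⟩ := (Ideal.mem_map_iff_of_surjective (Ideal.Quotient.mkₐ k (W4.kerIdeal hJ φ))
      (Ideal.Quotient.mkₐ_surjective k _)).1 hy
    obtain ⟨b, hb, rfl⟩ := (Ideal.mem_map_iff_of_surjective (Ideal.Quotient.mk (relIdeal I N))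
      Ideal.Quotient.mk_surjective).1 hy'
    change Ideal.Quotient.mk _ (Ideal.Quotient.mk (relIdeal I N) x) *
      Ideal.Quotient.mk _ (Ideal.Quotient.mk (relIdeal I N) b) = 0
    rw [← map_mul, ← map_mul]
    have : x * b ∈ relIdeal I N :=
      le_sup_left (a := IsLocalRing.maximalIdeal P • I) (Submodule.smul_mem_smul hx hb)
    rw [Ideal.Quotient.eq_zero_iff_mem.2 this, map_zero]
  · intro a ha b hb
    obtain ⟨a', ha', rfl⟩ := (Ideal.mem_map_iff_of_surjective (Ideal.Quotient.mkₐ k (W4.kerIdeal hJ φ))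
      (Ideal.Quotient.mkₐ_surjective k _)).1 ha
    obtain ⟨a'', ha'', rfl⟩ := (Ideal.mem_map_iff_of_surjective (Ideal.Quotient.mk (relIdeal I N))
      Ideal.Quotient.mk_surjective).1 ha'
    obtain ⟨b', hb', rfl⟩ := (Ideal.mem_map_iff_of_surjective (Ideal.Quotient.mkₐ k (W4.kerIdeal hJ φ))
      (Ideal.Quotient.mkₐ_surjective k _)).1 hb
    obtain ⟨b'', hb'', rfl⟩ := (Ideal.mem_map_iff_of_surjective (Ideal.Quotient.mk (relIdeal I N))
      Ideal.Quotient.mk_surjective).1 hb'
    change Ideal.Quotient.mk _ (Ideal.Quotient.mk (relIdeal I N) a'') *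
      Ideal.Quotient.mk _ (Ideal.Quotient.mk (relIdeal I N) b'') = 0
    rw [← map_mul, ← map_mul]
    have : a'' * b'' ∈ relIdeal I N :=
      le_sup_left (a := IsLocalRing.maximalIdeal P • I) (Submodule.smul_mem_smul (hIm ha'') hb'')
    rw [Ideal.Quotient.eq_zero_iff_mem.2 this, map_zero]

/-- The kernel `J_N` of the `N`-th canonical small extension is finite-dimensional of dimension `≤ dim V`. -/
theorem finrank_relKer_le
    (hres : Function.Surjective (algebraMap k (IsLocalRing.ResidueField P)))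
    (I : Ideal P) (hI : I ≤ IsLocalRing.maximalIdeal P ^ 2) {N : ℕ} (hN : 1 ≤ N)
    {V : Type u} [AddCommGroup V] [Module k V] [Module.Finite k V] (T : ObsTheory k (P ⧸ I) V) :
    Module.Finite k ↥(I.map (Ideal.Quotient.mk (relIdeal I N))) ∧
      Module.finrank k ↥(I.map (Ideal.Quotient.mk (relIdeal I N))) ≤ Module.finrank k V := by
  let Φ : Module.Dual k ↥(I.map (Ideal.Quotient.mk (relIdeal I N))) →ₗ[k] V :=
    (TensorProduct.rid k V).toLinearMap ∘ₗ
      ((LinearMap.lTensorHom V).flip (T.obs _ _ (relHom I N)))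
  have hinj : Function.Injective Φ := by
    rw [← LinearMap.ker_eq_bot, LinearMap.ker_eq_bot']
    intro φ h
    apply functional_eq_zero_of_lTensor_eq_zero hres I hI hN T φ
    have h1 : (TensorProduct.rid k V) (LinearMap.lTensor V φ (T.obs _ _ (relHom I N))) = 0 := h
    exact (TensorProduct.rid k V).map_eq_zero_iff.1 h1
  haveI hfd : Module.Finite k (Module.Dual k ↥(I.map (Ideal.Quotient.mk (relIdeal I N)))) :=
    Module.Finite.of_injective Φ hinj
  haveI hf : Module.Finite k ↥(I.map (Ideal.Quotient.mk (relIdeal I N))) := (Module.finite_dual_iff k).1 hfd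
  refine ⟨hf, ?_⟩
  rw [← Subspace.dual_finrank_eq]
  exact LinearMap.finrank_le_finrank_of_injective hinj

/-- Generic final step (Artin–Rees + Nakayama): if all the spaces `J_N = I (P/L_N)` have dimension `≤ r`,
then `I` is generated by at most `r` elements. -/
theorem spanFinrank_le_of_forall_finrank_le (I : Ideal P) (r : ℕ)
    (h : ∀ N, 1 ≤ N → Module.Finite k ↥(I.map (Ideal.Quotient.mk (relIdeal I N))) ∧
      Module.finrank k ↥(I.map (Ideal.Quotient.mk (relIdeal I N))) ≤ r) :
    I.spanFinrank ≤ r := by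
  obtain ⟨c, hc⟩ := Ideal.exists_pow_inf_eq_pow_smul (IsLocalRing.maximalIdeal P) (I : Submodule P P)
  have hN : 1 ≤ c + 1 := Nat.le_add_left 1 c
  have hAR : ∀ x ∈ I, x ∈ relIdeal I (c + 1) → x ∈ IsLocalRing.maximalIdeal P • I := by
    intro x hxI hxL
    obtain ⟨a, ha, b, hb, rfl⟩ := Submodule.mem_sup.1 hxL
    have haI : a ∈ I := (Ideal.mul_le_right : IsLocalRing.maximalIdeal P * I ≤ I) ha
    have hbI : b ∈ I := by
      have := I.sub_mem hxI haI
      simpa using this
    have hb' : b ∈ (IsLocalRing.maximalIdeal P ^ (c + 1) • (⊤ : Submodule P P) ⊓ I : Submodule P P) := by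
      refine ⟨?_, hbI⟩
      have : (IsLocalRing.maximalIdeal P ^ (c + 1) • (⊤ : Submodule P P)) = IsLocalRing.maximalIdeal P ^ (c + 1) := by
        rw [smul_eq_mul, Ideal.mul_top]
      rw [this]
      exact hb
    rw [hc (c + 1) (Nat.le_succ c), Nat.add_sub_cancel_left, pow_one] at hb'
    exact Submodule.add_mem _ ha (Submodule.smul_mono le_rfl inf_le_right hb')
  obtain ⟨hfin, hle⟩ := h (c + 1) hN
  haveI := hfin
  let b := Module.finBasis k ↥(I.map (Ideal.Quotient.mk (relIdeal I (c + 1))))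
  have hex : ∀ i, ∃ g ∈ I, Ideal.Quotient.mk (relIdeal I (c + 1)) g = (b i : P ⧸ relIdeal I (c + 1)) :=
    fun i => (Ideal.mem_map_iff_of_surjective (Ideal.Quotient.mk (relIdeal I (c + 1)))
      Ideal.Quotient.mk_surjective).1 (b i).2
  choose g hgI hgb using hex
  have hsup : I ≤ Ideal.span (Set.range g) ⊔ IsLocalRing.maximalIdeal P • I := by
    intro x hx
    let y : ↥(I.map (Ideal.Quotient.mk (relIdeal I (c + 1)))) :=
      ⟨Ideal.Quotient.mk _ x, Ideal.mem_map_of_mem _ hx⟩
    let z : P := ∑ i, algebraMap k P (b.repr y i) * g i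
    have hz : z ∈ Ideal.span (Set.range g) :=
      Ideal.sum_mem _ fun i _ => Ideal.mul_mem_left _ _ (Ideal.subset_span ⟨i, rfl⟩)
    have hzI : z ∈ I := Ideal.sum_mem _ fun i _ => Ideal.mul_mem_left _ _ (hgI i)
    have hmk : Ideal.Quotient.mk (relIdeal I (c + 1)) z = Ideal.Quotient.mk _ x := by
      have h1 : (y : P ⧸ relIdeal I (c + 1)) = ∑ i, b.repr y i • (b i : P ⧸ relIdeal I (c + 1)) := by
        conv_lhs => rw [← b.sum_repr y]
        rw [Submodule.coe_sum]
        rfl
      change _ = (y : P ⧸ relIdeal I (c + 1))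
      rw [h1, map_sum]
      refine Finset.sum_congr rfl fun i _ => ?_
      rw [map_mul, hgb i, Algebra.smul_def]
      rfl
    have hxz : x - z ∈ relIdeal I (c + 1) := by
      rw [← Ideal.Quotient.eq_zero_iff_mem, map_sub, hmk, sub_self]
    have := hAR (x - z) (I.sub_mem hx hzI) hxz
    have hx' : x = z + (x - z) := by ring
    rw [hx']
    exact Submodule.add_mem_sup hz this
  have hle' : I ≤ Ideal.span (Set.range g) :=
    Submodule.le_of_le_smul_of_le_jacobson_bot (IsNoetherian.noetherian I)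
      (IsLocalRing.maximalIdeal_le_jacobson ⊥) hsup
  have heq : Ideal.span (Set.range g) = I :=
    le_antisymm (Ideal.span_le.2 (by rintro _ ⟨i, rfl⟩; exact hgI i)) hle'
  calc I.spanFinrank = (Ideal.span (Set.range g)).spanFinrank := by rw [heq]
    _ ≤ (Set.range g).ncard := Submodule.spanFinrank_span_le_ncard_of_finite (Set.finite_range g)
    _ ≤ Nat.card (Fin (Module.finrank k ↥(I.map (Ideal.Quotient.mk (relIdeal I (c + 1)))))) := by
        rw [← Set.ncard_univ, ← Set.image_univ]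
        exact Set.ncard_image_le Set.finite_univ
    _ = Module.finrank k ↥(I.map (Ideal.Quotient.mk (relIdeal I (c + 1)))) := by simp
    _ ≤ r := hle

/-- **Generator bound**: if `P/I` (with `I ≤ m²`) has an obstruction theory with values in `V`, then
`I` is generated by at most `dim V` elements. -/
theorem spanFinrank_le_of_obsTheory
    (hres : Function.Surjective (algebraMap k (IsLocalRing.ResidueField P)))
    (I : Ideal P) (hI : I ≤ IsLocalRing.maximalIdeal P ^ 2)
    {V : Type u} [AddCommGroup V] [Module k V] [Module.Finite k V] (T : ObsTheory k (P ⧸ I) V) :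
    I.spanFinrank ≤ Module.finrank k V :=
  spanFinrank_le_of_forall_finrank_le I _ fun _ hN => finrank_relKer_le hres I hI hN T

end Pres

end Groth.Agent.Lib.Helper19
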