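import Groth.Agent.Lib.Helper19EqLiftE

/-!
# Obstructions for semismall extensions I: the obstruction maps (helper19)

Generalisation of `Helper19EqLiftB` from principal small extensions to surjections `A' → A` whose
kernel `K` is killed by the augmentation ideal of `A'`.  For every `k`-linear functional `ℓ` on `A'`
and lifts `F'` of the equations of a presented deformation over `A`, a relation `c₀` among the
equations of `B₀` lifts to a family `c'` over `A'` with `∑ c'_s F'_s ∈ K[X]`; the class in `B₀` of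
the polynomial obtained by applying `ℓ` coefficientwise only depends on `c₀`.
-/

set_option autoImplicit false
set_option linter.unusedSectionVars false
universe u

open TensorProduct

namespace Groth.Agent.Lib.Helper19.ObsDef

open Groth.Agent.Lib.Helper19.DefGlue Groth.Agent.Lib.Helper19.Kos Groth.Agent.Lib.Helper19.EqLift

section cf

variable {k A' : Type*} [Field k] [CommRing A'] [Algebra k A'] {ι : Type*}

/-- coefficientwise application of a functional -/
noncomputable def cf (ℓ : A' →ₗ[k] k) : MvPolynomial ι A' →ₗ[k] MvPolynomial ι k :=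
  (AddMonoidAlgebra.coeffLinearEquiv k).symm.toLinearMap ∘ₗ Finsupp.mapRange.linearMap ℓ ∘ₗ
    (AddMonoidAlgebra.coeffLinearEquiv k).toLinearMap

lemma coeff_cf (ℓ : A' →ₗ[k] k) (x : MvPolynomial ι A') (m : ι →₀ ℕ) :
    (cf ℓ x).coeff m = ℓ (x.coeff m) := rfl

lemma cf_add_fun (ℓ ℓ' : A' →ₗ[k] k) (x : MvPolynomial ι A') :
    cf (ℓ + ℓ') x = cf ℓ x + cf ℓ' x := by
  ext m
  rw [MvPolynomial.coeff_add, coeff_cf, coeff_cf, coeff_cf, LinearMap.add_apply]

lemma cf_smul_fun (c : k) (ℓ : A' →ₗ[k] k) (x : MvPolynomial ι A') :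
    cf (c • ℓ) x = c • cf ℓ x := by
  ext m
  rw [MvPolynomial.coeff_smul, coeff_cf, coeff_cf, LinearMap.smul_apply]

lemma cf_comp {A'' : Type*} [CommRing A''] [Algebra k A''] (g : A' →ₐ[k] A'') (ℓ : A'' →ₗ[k] k)
    (x : MvPolynomial ι A') :
    cf ℓ (MvPolynomial.map (g : A' →+* A'') x) = cf (ℓ ∘ₗ g.toLinearMap) x := by
  ext m
  rw [coeff_cf, coeff_cf, MvPolynomial.coeff_map]
  rfl

lemma cf_C (ℓ : A' →ₗ[k] k) (a : A') :
    cf ℓ (MvPolynomial.C a : MvPolynomial ι A') = MvPolynomial.C (ℓ a) := by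
  classical
  ext m
  rw [coeff_cf, MvPolynomial.coeff_C, MvPolynomial.coeff_C]
  split_ifs
  · rfl
  · exact map_zero ℓ

end cf

variable {k B₀ : Type u} [Field k] [CommRing B₀] [Algebra k B₀] {ι σ : Type u}
  {P : Algebra.Presentation k B₀ ι σ}
  {A' A : Type u} [CommRing A'] [CommRing A] [Algebra k A'] {res' : A' →+* k} {res : A →+* k}
  {pr : A' →+* A} {E : Type u} [CommRing E] [Algebra A E] {ρ : E →+* B₀}

/-- the coefficient functional with values in the ring of the presentation -/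
noncomputable def cfP (P : Algebra.Presentation k B₀ ι σ) (ℓ : A' →ₗ[k] k) :
    MvPolynomial ι A' →ₗ[k] P.toExtension.Ring :=
  (cf ℓ : MvPolynomial ι A' →ₗ[k] MvPolynomial ι k)

lemma cfP_add_fun (ℓ ℓ' : A' →ₗ[k] k) (x : MvPolynomial ι A') :
    cfP P (ℓ + ℓ') x = cfP P ℓ x + cfP P ℓ' x := cf_add_fun ℓ ℓ' x

lemma cfP_smul_fun (c : k) (ℓ : A' →ₗ[k] k) (x : MvPolynomial ι A') :
    cfP P (c • ℓ) x = c • cfP P ℓ x := cf_smul_fun c ℓ x

lemma cfP_comp {A'' : Type u} [CommRing A''] [Algebra k A''] (g : A' →ₐ[k] A'') (ℓ : A'' →ₗ[k] k)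
    (x : MvPolynomial ι A') :
    cfP P ℓ (MvPolynomial.map (g : A' →+* A'') x) = cfP P (ℓ ∘ₗ g.toLinearMap) x :=
  cf_comp g ℓ x

lemma cfP_C (ℓ : A' →ₗ[k] k) (a : A') :
    cfP P ℓ (MvPolynomial.C a : MvPolynomial ι A') = (MvPolynomial.C (ℓ a) : MvPolynomial ι k) :=
  cf_C ℓ a

/-- the data of a presented deformation over the target of a semismall extension -/
structure SData (P : Algebra.Presentation k B₀ ι σ) (res' : A' →+* k) (res : A →+* k)
    (pr : A' →+* A) (ρ : E →+* B₀) where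
  hpr : Function.Surjective pr
  hres : ∀ a, res (pr a) = res' a
  hres' : ∀ c : k, res' (algebraMap k A' c) = c
  hsemi : ∀ a ∈ RingHom.ker res', ∀ x ∈ RingHom.ker pr, a * x = 0
  hnil : IsNilpotent (RingHom.ker res)
  hD : IsDefo res ρ
  p : Pres P res ρ
  F : σ → MvPolynomial ι A
  hF1 : ∀ s, p.π (F s) = 0
  hF2 : ∀ s, rd P res (F s) = CotT.rel P s

namespace SData

variable (D : SData P res' res pr ρ)

/-- reduction of polynomials along the extension -/
noncomputable def qd (_ : SData P res' res pr ρ) : MvPolynomial ι A' →+* MvPolynomial ι A :=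
  MvPolynomial.map pr

include D in
lemma hsurj' : Function.Surjective res' := fun c => ⟨algebraMap k A' c, D.hres' c⟩

include D in
lemma hsurj : Function.Surjective res := by
  intro c
  obtain ⟨a, rfl⟩ := D.hsurj' c
  exact ⟨pr a, D.hres a⟩

lemma qd_surjective : Function.Surjective D.qd := MvPolynomial.map_surjective pr D.hpr

lemma qd_C (a : A') : D.qd (MvPolynomial.C a) = MvPolynomial.C (pr a) := MvPolynomial.map_C pr a

lemma rd_qd (x : MvPolynomial ι A') : rd P res (D.qd x) = rd P res' x := by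
  change MvPolynomial.map res (MvPolynomial.map pr x) = MvPolynomial.map res' x
  rw [MvPolynomial.map_map]
  have : res.comp pr = res' := RingHom.ext D.hres
  rw [this]

lemma ker_qd : RingHom.ker D.qd = (RingHom.ker pr).map MvPolynomial.C :=
  MvPolynomial.ker_map pr

lemma mem_ker_qd_iff (x : MvPolynomial ι A') :
    x ∈ RingHom.ker D.qd ↔ ∀ m, x.coeff m ∈ RingHom.ker pr := by
  rw [D.ker_qd]
  exact MvPolynomial.mem_map_C_iff

include D in
lemma ker_pr_le : RingHom.ker pr ≤ RingHom.ker res' := by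
  intro a ha
  rw [RingHom.mem_ker, ← D.hres, (RingHom.mem_ker).1 ha, map_zero]

lemma rd_eq_zero_of_qd_eq_zero (x : MvPolynomial ι A') (hx : D.qd x = 0) : rd P res' x = 0 := by
  rw [← D.rd_qd, hx, map_zero]

include D in
/-- elements of the kernel are multiplied through the augmentation -/
lemma mul_eq_smul (x : A') (hx : x ∈ RingHom.ker pr) (b : A') : x * b = res' b • x := by
  have h1 : b - algebraMap k A' (res' b) ∈ RingHom.ker res' := by
    rw [RingHom.mem_ker, map_sub, D.hres', sub_self]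
  have h2 := D.hsemi _ h1 x hx
  rw [sub_mul] at h2
  rw [mul_comm, sub_eq_zero.1 h2, Algebra.smul_def]

include D in
/-- the coefficient functional is semilinear on `K[X]` -/
theorem cf_mul (ℓ : A' →ₗ[k] k) (x y : MvPolynomial ι A') (hx : D.qd x = 0) :
    cfP P ℓ (x * y) = cfP P ℓ x * rd P res' y := by
  classical
  have hx' := (D.mem_ker_qd_iff x).1 hx
  apply MvPolynomial.ext (σ := ι) (R := k)
  intro m
  change ℓ (MvPolynomial.coeff m (x * y)) = MvPolynomial.coeff m ((cf ℓ x : MvPolynomial ι k) * (MvPolynomial.map res' y : MvPolynomial ι k))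
  rw [MvPolynomial.coeff_mul, MvPolynomial.coeff_mul, map_sum]
  refine Finset.sum_congr rfl fun q _ => ?_
  rw [coeff_cf, D.mul_eq_smul _ (hx' q.1), map_smul, smul_eq_mul, mul_comm]
  congr 1

include D in
lemma cf_mul' (ℓ : A' →ₗ[k] k) (x y : MvPolynomial ι A') (hx : D.qd x = 0) :
    cfP P ℓ (y * x) = rd P res' y * cfP P ℓ x := by
  rw [mul_comm, D.cf_mul ℓ x y hx, mul_comm]

section lifts

variable (F' : σ → MvPolynomial ι A') (hF' : ∀ s, D.qd (F' s) = D.F s)

include hF' in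
lemma rd_F' (s : σ) : rd P res' (F' s) = CotT.rel P s := by
  rw [← D.rd_qd, hF', D.hF2]

include hF' in
lemma pi_qd_eq_zero (y : MvPolynomial ι A') (hy : y ∈ Ideal.span (Set.range F')) :
    D.p.π (D.qd y) = 0 := by
  have h : Ideal.span (Set.range F') ≤
      RingHom.ker ((D.p.π : MvPolynomial ι A →+* E).comp D.qd) := by
    rw [Ideal.span_le]
    rintro _ ⟨s, rfl⟩
    rw [SetLike.mem_coe, RingHom.mem_ker, RingHom.comp_apply, hF']
    exact D.hF1 s
  exact h hy

include hF' in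
lemma pi0_rd_eq_zero (y : MvPolynomial ι A') (hy : y ∈ Ideal.span (Set.range F')) :
    pi0 P (rd P res' y) = 0 := by
  rw [← D.rd_qd, ← D.p.compat, pi_qd_eq_zero D F' hF' y hy, map_zero]

include hF' in
/-- `qd` maps the ideal of the lifted equations onto the kernel of the presentation -/
lemma exists_lift_of_mem_ker (y : MvPolynomial ι A) (hy : D.p.π y = 0) :
    ∃ y' ∈ Ideal.span (Set.range F'), D.qd y' = y := by
  have hker := ker_eq_span D.hsurj D.hnil D.hD D.p D.F D.hF1 D.hF2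
  have hy' : y ∈ Ideal.span (Set.range D.F) := by
    rw [← hker]
    exact hy
  obtain ⟨c, rfl⟩ := exists_jm_eq D.F y hy'
  obtain ⟨c', rfl⟩ := mr_surjective D.qd D.qd_surjective c
  refine ⟨jm (MvPolynomial ι A') F' c', jm_mem_span F' c', ?_⟩
  rw [jm_mr]
  have : (fun s => D.qd (F' s)) = D.F := funext hF'
  rw [this]

lemma qd_smul (a : A') (h : MvPolynomial ι A') : D.qd (a • h) = pr a • D.qd h := by
  rw [Algebra.smul_def, Algebra.smul_def, map_mul, MvPolynomial.algebraMap_eq,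
    MvPolynomial.algebraMap_eq, D.qd_C]

include hF' in
/-- **Key lemma**: `𝔪' I' ∩ K[X] ⊆ K[X] I'` for the ideal `I'` of any lifts of the equations. -/
theorem mul_inf_ker_le (x : MvPolynomial ι A')
    (hx : x ∈ RingHom.ker (rd P res') * Ideal.span (Set.range F')) (hx0 : D.qd x = 0) :
    x ∈ RingHom.ker D.qd * Ideal.span (Set.range F') := by
  classical
  set I' := Ideal.span (Set.range F') with hI'
  set N := I'.restrictScalars A' with hN
  have h1 : x ∈ (RingHom.ker res') • N := Data.mem_smul_of_mem_mul I' x hx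
  have hxN : x ∈ N := Submodule.smul_le_right h1
  have h2 : (⟨x, hxN⟩ : N) ∈ (RingHom.ker res') • (⊤ : Submodule A' N) :=
    (Submodule.mem_smul_top_iff _ N ⟨x, hxN⟩).2 h1
  obtain ⟨s, a, ha, hsum⟩ := Rigid.exists_sum_of_mem_smul_top _ _ h2
  have hsum' : x = ∑ i ∈ s, a i • (i : MvPolynomial ι A') := by
    have h3 := congrArg (Subtype.val) hsum
    rw [Submodule.coe_sum] at h3
    simpa using h3
  have := flat_ker D.hD D.p
  let xx : s → LinearMap.ker D.p.π.toLinearMap := fun i =>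
    ⟨D.qd ((i : N) : MvPolynomial ι A'), pi_qd_eq_zero D F' hF' _ (i : N).2⟩
  have hrel : ∑ i : s, pr (a i) • xx i = 0 := by
    apply Subtype.ext
    rw [Submodule.coe_sum]
    simp only [Submodule.coe_smul, Submodule.coe_zero]
    rw [← hx0, hsum', map_sum, ← Finset.sum_coe_sort s]
    refine Finset.sum_congr rfl fun i _ => ?_
    rw [qd_smul]
  obtain ⟨n, b, Y, hxY, hfb⟩ := Module.Flat.isTrivialRelation_of_sum_smul_eq_zero hrel
  choose Y' hY'1 hY'2 using fun j => exists_lift_of_mem_ker D F' hF' (Y j).1 (Y j).2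
  choose b' hb' using fun (i : s) j => D.hpr (b i j)
  have hT2 : ∀ i : s, D.qd (((i : N) : MvPolynomial ι A') - ∑ j, b' i j • Y' j) = 0 := by
    intro i
    rw [map_sub, map_sum]
    have h3 := congrArg Subtype.val (hxY i)
    rw [Submodule.coe_sum] at h3
    simp only [Submodule.coe_smul] at h3
    change D.qd ((i : N) : MvPolynomial ι A') = _ at h3
    rw [h3, sub_eq_zero]
    refine Finset.sum_congr rfl fun j _ => ?_
    rw [qd_smul, hb', hY'2]
  have hd : ∀ j, ∑ i : s, a i * b' i j ∈ RingHom.ker pr := by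
    intro j
    rw [RingHom.mem_ker, map_sum, ← hfb j]
    refine Finset.sum_congr rfl fun i _ => ?_
    rw [map_mul, hb']
  have hkill : ∀ (a₀ : A') (z : MvPolynomial ι A'), a₀ ∈ RingHom.ker res' → D.qd z = 0 →
      a₀ • z = 0 := by
    intro a₀ z ha₀ hz
    ext m
    rw [MvPolynomial.coeff_smul, MvPolynomial.coeff_zero, smul_eq_mul]
    exact D.hsemi a₀ ha₀ _ ((D.mem_ker_qd_iff z).1 hz m)
  have hx2 : x = ∑ j, MvPolynomial.C (∑ i : s, a i * b' i j) * Y' j := by
    rw [hsum', ← Finset.sum_coe_sort s]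
    have h4 : ∀ i : s, a i • ((i : N) : MvPolynomial ι A') = ∑ j, (a i * b' i j) • Y' j := by
      intro i
      have h5 : ((i : N) : MvPolynomial ι A') =
          (((i : N) : MvPolynomial ι A') - ∑ j, b' i j • Y' j) + ∑ j, b' i j • Y' j := by
        ring
      rw [h5, smul_add, hkill _ _ (ha i) (hT2 i), zero_add, Finset.smul_sum]
      refine Finset.sum_congr rfl fun j _ => ?_
      rw [smul_smul]
    rw [Finset.sum_congr rfl fun i _ => h4 i, Finset.sum_comm]
    refine Finset.sum_congr rfl fun j _ => ?_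
    rw [← Finset.sum_smul, Algebra.smul_def, MvPolynomial.algebraMap_eq]
  rw [hx2]
  refine Ideal.sum_mem _ fun j _ => ?_
  refine Ideal.mul_mem_mul ?_ (hY'1 j)
  rw [RingHom.mem_ker, D.qd_C, (RingHom.mem_ker).1 (hd j), map_zero]

include hF' in
/-- the coefficient functionals of elements of `K[X] I'` vanish in `B₀` -/
lemma pi0_cf_eq_zero_of_mem_mul (ℓ : A' →ₗ[k] k) (x : MvPolynomial ι A')
    (hx : x ∈ RingHom.ker D.qd * Ideal.span (Set.range F')) : pi0 P (cfP P ℓ x) = 0 := by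
  refine Submodule.mul_induction_on hx ?_ ?_
  · intro u hu y hy
    rw [D.cf_mul ℓ u y hu, map_mul, pi0_rd_eq_zero D F' hF' y hy, mul_zero]
  · intro y z hy hz
    rw [map_add, map_add, hy, hz, add_zero]

include hF' in
/-- **Lemma W**: a lifted family reducing to zero has obstruction zero. -/
theorem pi0_cf_eq_zero_of_mr_eq_zero (ℓ : A' →ₗ[k] k) (c' : σ →₀ MvPolynomial ι A')
    (h1 : D.qd (jm (MvPolynomial ι A') F' c') = 0) (h2 : mr (rd P res') c' = 0) :
    pi0 P (cfP P ℓ (jm (MvPolynomial ι A') F' c')) = 0 := by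
  have h3 : jm (MvPolynomial ι A') F' c' ∈
      RingHom.ker (rd P res') * Ideal.span (Set.range F') :=
    jm_mem_mul F' _ c' ((mr_eq_zero_iff _ c').1 h2)
  exact pi0_cf_eq_zero_of_mem_mul D F' hF' ℓ _ (mul_inf_ker_le D F' hF' _ h3 h1)

include hF' in
/-- every relation lifts to a family whose value lies in `K[X]` -/
theorem exists_W (c₀ : σ →₀ P.toExtension.Ring)
    (hc₀ : jm P.toExtension.Ring (CotT.rel P) c₀ = 0) :
    ∃ c' : σ →₀ MvPolynomial ι A',
      mr (rd P res') c' = c₀ ∧ D.qd (jm (MvPolynomial ι A') F' c') = 0 := by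
  obtain ⟨c, hc1, hc2⟩ := exists_relation_lift D.hsurj D.hnil D.hD D.p D.F D.hF1 D.hF2 c₀ hc₀
  obtain ⟨c', rfl⟩ := mr_surjective D.qd D.qd_surjective c
  have hF : (fun s => D.qd (F' s)) = D.F := funext hF'
  refine ⟨c', ?_, by rw [jm_mr, hF, hc2]⟩
  have h3 : (rd P res).comp D.qd = rd P res' := RingHom.ext fun x => D.rd_qd x
  rw [← hc1, mr_comp, h3]

/-- the obstruction of a relation with respect to a functional (depends on the lifts `F'`) -/
noncomputable def obs (ℓ : A' →ₗ[k] k) (c₀ : Q P.toExtension.Ring (CotT.rel P)) : B₀ :=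
  pi0 P (cfP P ℓ (jm (MvPolynomial ι A') F' (Classical.choose (exists_W D F' hF' c₀.1 c₀.2))))

theorem obs_eq (ℓ : A' →ₗ[k] k) (c₀ : Q P.toExtension.Ring (CotT.rel P))
    (c' : σ →₀ MvPolynomial ι A') (h1 : mr (rd P res') c' = c₀.1)
    (h2 : D.qd (jm (MvPolynomial ι A') F' c') = 0) :
    obs D F' hF' ℓ c₀ = pi0 P (cfP P ℓ (jm (MvPolynomial ι A') F' c')) := by
  obtain ⟨h3, h4⟩ := Classical.choose_spec (exists_W D F' hF' c₀.1 c₀.2)
  set c'₀ := Classical.choose (exists_W D F' hF' c₀.1 c₀.2) with hc'₀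
  have h5 := pi0_cf_eq_zero_of_mr_eq_zero D F' hF' ℓ (c'₀ - c')
    (by rw [map_sub, map_sub, h4, h2, sub_self]) (by rw [map_sub, h3, h1, sub_self])
  rw [map_sub, map_sub, map_sub, sub_eq_zero] at h5
  exact h5

/-- the obstruction map `Q → B₀` of a functional -/
noncomputable def obsₗ (ℓ : A' →ₗ[k] k) :
    Q P.toExtension.Ring (CotT.rel P) →ₗ[P.toExtension.Ring] B₀ where
  toFun := obs D F' hF' ℓ
  map_add' a b := by
    obtain ⟨ca, ha1, ha2⟩ := exists_W D F' hF' a.1 a.2
    obtain ⟨cb, hb1, hb2⟩ := exists_W D F' hF' b.1 b.2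
    rw [obs_eq D F' hF' ℓ a ca ha1 ha2, obs_eq D F' hF' ℓ b cb hb1 hb2,
      obs_eq D F' hF' ℓ (a + b) (ca + cb) (by rw [map_add, ha1, hb1]; rfl)
        (by rw [map_add, map_add, ha2, hb2, add_zero]), map_add, map_add, map_add]
  map_smul' g a := by
    obtain ⟨ca, ha1, ha2⟩ := exists_W D F' hF' a.1 a.2
    obtain ⟨G, rfl⟩ := rd_surjective P res' D.hsurj' g
    rw [RingHom.id_apply, obs_eq D F' hF' ℓ a ca ha1 ha2,
      obs_eq D F' hF' ℓ (rd P res' G • a) (G • ca) (by rw [mr_smul, ha1]; rfl)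
        (by rw [map_smul, smul_eq_mul, map_mul, ha2, mul_zero]), map_smul, smul_eq_mul,
      D.cf_mul' ℓ _ G ha2, map_mul, Algebra.smul_def]

lemma obsₗ_apply (ℓ : A' →ₗ[k] k) (c₀ : Q P.toExtension.Ring (CotT.rel P)) :
    obsₗ D F' hF' ℓ c₀ = obs D F' hF' ℓ c₀ := rfl

/-- the obstruction map kills the trivial relations -/
theorem obsₗ_eq_zero_of_mem_F0 (ℓ : A' →ₗ[k] k) (q : Q P.toExtension.Ring (CotT.rel P))
    (hq : (q : σ →₀ P.toExtension.Ring) ∈ F0 P.toExtension.Ring (CotT.rel P)) :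
    obsₗ D F' hF' ℓ q = 0 := by
  have key : F0 P.toExtension.Ring (CotT.rel P) ≤
      Submodule.map (Q P.toExtension.Ring (CotT.rel P)).subtype
        (LinearMap.ker (obsₗ D F' hF' ℓ)) := by
    refine Submodule.span_le.mpr ?_
    rintro _ ⟨a, b, rfl⟩
    have hyQ : jm P.toExtension.Ring (CotT.rel P) a • b - jm P.toExtension.Ring (CotT.rel P) b • a ∈
        Q P.toExtension.Ring (CotT.rel P) :=
      F0_le_Q _ _ (kos_mem_F0 _ _ a b)
    refine ⟨⟨_, hyQ⟩, ?_, rfl⟩
    rw [SetLike.mem_coe, LinearMap.mem_ker, obsₗ_apply]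
    obtain ⟨a', rfl⟩ := mr_surjective (rd P res') (rd_surjective P res' D.hsurj') a
    obtain ⟨b', rfl⟩ := mr_surjective (rd P res') (rd_surjective P res' D.hsurj') b
    have hF : (fun s => rd P res' (F' s)) = CotT.rel P := funext (rd_F' D F' hF')
    have hz : jm (MvPolynomial ι A') F'
        (jm (MvPolynomial ι A') F' a' • b' - jm (MvPolynomial ι A') F' b' • a') = 0 := by
      rw [map_sub, map_smul, map_smul, smul_eq_mul, smul_eq_mul, mul_comm, sub_self]
    rw [obs_eq D F' hF' ℓ _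
      (jm (MvPolynomial ι A') F' a' • b' - jm (MvPolynomial ι A') F' b' • a') ?_ ?_,
      hz, map_zero, map_zero]
    · rw [map_sub, mr_smul, mr_smul, jm_mr, jm_mr, hF]
    · rw [hz, map_zero]
  obtain ⟨q', hq', hqq'⟩ := key hq
  have : q' = q := Subtype.ext hqq'
  rw [← this]
  exact hq'

/-- additivity in the functional -/
lemma obsₗ_add_fun (ℓ ℓ' : A' →ₗ[k] k) :
    obsₗ D F' hF' (ℓ + ℓ') = obsₗ D F' hF' ℓ + obsₗ D F' hF' ℓ' := by
  apply LinearMap.ext
  intro a
  obtain ⟨ca, ha1, ha2⟩ := exists_W D F' hF' a.1 a.2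
  rw [LinearMap.add_apply, obsₗ_apply, obsₗ_apply, obsₗ_apply, obs_eq D F' hF' _ a ca ha1 ha2,
    obs_eq D F' hF' _ a ca ha1 ha2, obs_eq D F' hF' _ a ca ha1 ha2, cfP_add_fun, map_add]

/-- homogeneity in the functional -/
lemma obsₗ_smul_fun (c : k) (ℓ : A' →ₗ[k] k) (a : Q P.toExtension.Ring (CotT.rel P)) :
    obsₗ D F' hF' (c • ℓ) a = c • obsₗ D F' hF' ℓ a := by
  obtain ⟨ca, ha1, ha2⟩ := exists_W D F' hF' a.1 a.2
  rw [obsₗ_apply, obsₗ_apply, obs_eq D F' hF' _ a ca ha1 ha2,
    obs_eq D F' hF' _ a ca ha1 ha2, cfP_smul_fun, Algebra.smul_def, Algebra.smul_def, map_mul]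
  congr 1
  exact (IsScalarTower.algebraMap_apply k P.toExtension.Ring B₀ c).symm

end lifts

end SData

end Groth.Agent.Lib.Helper19.ObsDef
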