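import Groth.Agent.Lib.Helper19ObsDefA

/-!
# Obstructions for semismall extensions II: classes in `T²` (helper19)

The class in `T²(P, B₀)` of the obstruction map of a functional is independent of the lifts of the
equations, is linear in the functional and natural in the extension.
-/

set_option autoImplicit false
set_option linter.unusedSectionVars false
universe u

open TensorProduct

namespace Groth.Agent.Lib.Helper19.ObsDef

open Groth.Agent.Lib.Helper19.DefGlue Groth.Agent.Lib.Helper19.Kos Groth.Agent.Lib.Helper19.EqLift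
  Groth.Agent.Lib.Helper19.CotTwo

variable {k B₀ : Type u} [Field k] [CommRing B₀] [Algebra k B₀] {ι σ : Type u}

section cls

variable (P : Algebra.Presentation k B₀ ι σ)

/-- maps on the relation module killing the trivial relations -/
noncomputable abbrev Kil : Submodule P.toExtension.Ring
    (Q P.toExtension.Ring (CotT.rel P) →ₗ[P.toExtension.Ring] B₀) :=
  killing (jm P.toExtension.Ring (CotT.rel P)) B₀

/-- restrictions of maps on the free module -/
noncomputable abbrev Res : Submodule P.toExtension.Ring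
    (Q P.toExtension.Ring (CotT.rel P) →ₗ[P.toExtension.Ring] B₀) :=
  restr (jm P.toExtension.Ring (CotT.rel P)) B₀

/-- the class map, linear over the polynomial ring -/
noncomputable def clsS : Kil P →ₗ[P.toExtension.Ring] CotT.T2 P B₀ :=
  ((T2equivT2' (S := P.toExtension.Ring) (B := B₀) (f := CotT.rel P)
      (CotT.algebraMap_rel P) B₀).symm.toLinearMap : _ →ₗ[P.toExtension.Ring] CotT.T2 P B₀) ∘ₗ
    ((Res P).mkQ.submoduleMap (Kil P))

lemma clsS_eq_zero_iff (g : Kil P) : clsS P g = 0 ↔ (g : _ →ₗ[P.toExtension.Ring] B₀) ∈ Res P := by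
  rw [clsS, LinearMap.comp_apply]
  change (T2equivT2' (S := P.toExtension.Ring) (B := B₀) (f := CotT.rel P)
      (CotT.algebraMap_rel P) B₀).symm _ = 0 ↔ _
  rw [LinearEquiv.map_eq_zero_iff]
  constructor
  · intro h
    have h1 := congrArg Subtype.val h
    change (Res P).mkQ (g : _ →ₗ[P.toExtension.Ring] B₀) = 0 at h1
    rwa [Submodule.mkQ_apply, Submodule.Quotient.mk_eq_zero] at h1
  · intro h
    apply Subtype.ext
    change (Res P).mkQ (g : _ →ₗ[P.toExtension.Ring] B₀) = 0
    rwa [Submodule.mkQ_apply, Submodule.Quotient.mk_eq_zero]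

/-- the class in `T²` of a map on the relation module killing the trivial relations -/
noncomputable def cls (g : Q P.toExtension.Ring (CotT.rel P) →ₗ[P.toExtension.Ring] B₀)
    (hg : g ∈ Kil P) : CotT.T2 P B₀ := clsS P ⟨g, hg⟩

lemma cls_congr {g g' : Q P.toExtension.Ring (CotT.rel P) →ₗ[P.toExtension.Ring] B₀}
    (h : g = g') (hg : g ∈ Kil P) (hg' : g' ∈ Kil P) : cls P g hg = cls P g' hg' := by
  subst h
  rfl

lemma cls_add (g g' : Q P.toExtension.Ring (CotT.rel P) →ₗ[P.toExtension.Ring] B₀)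
    (hg : g ∈ Kil P) (hg' : g' ∈ Kil P) :
    cls P (g + g') ((Kil P).add_mem hg hg') = cls P g hg + cls P g' hg' := by
  rw [cls, cls, cls, ← map_add]
  rfl

lemma cls_sub (g g' : Q P.toExtension.Ring (CotT.rel P) →ₗ[P.toExtension.Ring] B₀)
    (hg : g ∈ Kil P) (hg' : g' ∈ Kil P) :
    cls P (g - g') ((Kil P).sub_mem hg hg') = cls P g hg - cls P g' hg' := by
  rw [cls, cls, cls, ← map_sub]
  rfl

lemma smul_eq_algebraMap_smul (c : k)
    (g : Q P.toExtension.Ring (CotT.rel P) →ₗ[P.toExtension.Ring] B₀) :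
    c • g = (algebraMap k P.toExtension.Ring c) • g := by
  apply LinearMap.ext
  intro q
  rw [LinearMap.smul_apply, LinearMap.smul_apply, algebraMap_smul]

lemma smul_mem_Kil (c : k) (g : Q P.toExtension.Ring (CotT.rel P) →ₗ[P.toExtension.Ring] B₀)
    (hg : g ∈ Kil P) : c • g ∈ Kil P := by
  rw [smul_eq_algebraMap_smul]
  exact (Kil P).smul_mem _ hg

lemma cls_smul (c : k) (g : Q P.toExtension.Ring (CotT.rel P) →ₗ[P.toExtension.Ring] B₀)
    (hg : g ∈ Kil P) : cls P (c • g) (smul_mem_Kil P c g hg) = c • cls P g hg := by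
  have h1 : cls P (c • g) (smul_mem_Kil P c g hg) =
      cls P ((algebraMap k P.toExtension.Ring c) • g) ((Kil P).smul_mem _ hg) :=
    cls_congr P (smul_eq_algebraMap_smul P c g) _ _
  rw [h1, cls, cls]
  have h2 : (⟨(algebraMap k P.toExtension.Ring c) • g, (Kil P).smul_mem _ hg⟩ : Kil P) =
      (algebraMap k P.toExtension.Ring c) • (⟨g, hg⟩ : Kil P) := rfl
  rw [h2, map_smul, algebraMap_smul]

lemma cls_eq_zero_iff (g : Q P.toExtension.Ring (CotT.rel P) →ₗ[P.toExtension.Ring] B₀)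
    (hg : g ∈ Kil P) : cls P g hg = 0 ↔
      ∃ G : (σ →₀ P.toExtension.Ring) →ₗ[P.toExtension.Ring] B₀,
        ∀ q : Q P.toExtension.Ring (CotT.rel P), G q = g q := by
  rw [cls, clsS_eq_zero_iff]
  exact mem_restr g

lemma cls_eq_cls_of_sub_mem
    (g g' : Q P.toExtension.Ring (CotT.rel P) →ₗ[P.toExtension.Ring] B₀)
    (hg : g ∈ Kil P) (hg' : g' ∈ Kil P) (h : g - g' ∈ Res P) : cls P g hg = cls P g' hg' := by
  rw [← sub_eq_zero, ← cls_sub, cls, clsS_eq_zero_iff]
  exact h

end cls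

variable {P : Algebra.Presentation k B₀ ι σ}
  {A' A : Type u} [CommRing A'] [CommRing A] [Algebra k A'] {res' : A' →+* k} {res : A →+* k}
  {pr : A' →+* A} {E : Type u} [CommRing E] [Algebra A E] {ρ : E →+* B₀}

namespace SData

variable (D : SData P res' res pr ρ)

section lifts

variable (F' : σ → MvPolynomial ι A') (hF' : ∀ s, D.qd (F' s) = D.F s)
  (F'' : σ → MvPolynomial ι A') (hF'' : ∀ s, D.qd (F'' s) = D.F s)

lemma obsₗ_mem_Kil (ℓ : A' →ₗ[k] k) : obsₗ D F' hF' ℓ ∈ Kil P :=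
  (mem_killing _).2 fun q hq => obsₗ_eq_zero_of_mem_F0 D F' hF' ℓ q hq

/-- the correction map attached to two families of lifts -/
noncomputable def corr (ℓ : A' →ₗ[k] k) : (σ →₀ P.toExtension.Ring) →ₗ[P.toExtension.Ring] B₀ :=
  Finsupp.linearCombination P.toExtension.Ring
    (fun s => pi0 P (cfP P ℓ (F' s - F'' s)))

lemma corr_single (ℓ : A' →ₗ[k] k) (s : σ) (x : P.toExtension.Ring) :
    corr F' F'' ℓ (Finsupp.single s x) = pi0 P x * pi0 P (cfP P ℓ (F' s - F'' s)) := by
  rw [corr, Finsupp.linearCombination_single, Algebra.smul_def]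

include hF' hF'' in
lemma pi0_cfP_jm_sub (ℓ : A' →ₗ[k] k) (c' : σ →₀ MvPolynomial ι A') :
    pi0 P (cfP P ℓ (jm (MvPolynomial ι A') (fun s => F' s - F'' s) c')) =
      corr F' F'' ℓ (mr (rd P res') c') := by
  induction c' using Finsupp.induction_linear with
  | zero => simp
  | add x y hx hy => rw [map_add, map_add, map_add, map_add, map_add, hx, hy]
  | single s x =>
    have hd : D.qd (F' s - F'' s) = 0 := by rw [map_sub, hF', hF'', sub_self]
    rw [jm_single, D.cf_mul' ℓ _ x hd, map_mul, mr_single, corr_single]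

include hF' hF'' in
/-- changing the lifts changes the obstruction map by a restriction -/
theorem obsₗ_sub_mem_Res (ℓ : A' →ₗ[k] k) :
    obsₗ D F' hF' ℓ - obsₗ D F'' hF'' ℓ ∈ Res P := by
  refine (mem_restr _).2 ⟨corr F' F'' ℓ, fun q' => ?_⟩
  obtain ⟨q, rfl⟩ : ∃ q : Q P.toExtension.Ring (CotT.rel P), q = q' := ⟨q', rfl⟩
  change corr F' F'' ℓ (q : σ →₀ P.toExtension.Ring) = obsₗ D F' hF' ℓ q - obsₗ D F'' hF'' ℓ q
  obtain ⟨c', h1, h2⟩ := exists_W D F' hF' q.1 q.2
  have hF : (fun s => D.qd (F' s)) = D.F := funext hF'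
  have hF2 : (fun s => D.qd (F'' s)) = D.F := funext hF''
  have h2' : D.qd (jm (MvPolynomial ι A') F'' c') = 0 := by
    rw [jm_mr, hF2, ← hF, ← jm_mr]
    exact h2
  rw [obsₗ_apply, obsₗ_apply, obs_eq D F' hF' ℓ q c' h1 h2,
    obs_eq D F'' hF'' ℓ q c' h1 h2', ← map_sub, ← map_sub, ← jm_sub_family,
    pi0_cfP_jm_sub D F' hF' F'' hF'' ℓ c', h1]

/-- the linear map from functionals to `T²` -/
noncomputable def Lmap : (A' →ₗ[k] k) →ₗ[k] CotT.T2 P B₀ where
  toFun ℓ := cls P (obsₗ D F' hF' ℓ) (obsₗ_mem_Kil D F' hF' ℓ)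
  map_add' ℓ ℓ' := by
    rw [← cls_add]
    exact cls_congr P (obsₗ_add_fun D F' hF' ℓ ℓ') _ _
  map_smul' c ℓ := by
    rw [RingHom.id_apply, ← cls_smul]
    refine cls_congr P (LinearMap.ext fun a => ?_) _ _
    rw [obsₗ_smul_fun, LinearMap.smul_apply]

lemma Lmap_apply (ℓ : A' →ₗ[k] k) :
    Lmap D F' hF' ℓ = cls P (obsₗ D F' hF' ℓ) (obsₗ_mem_Kil D F' hF' ℓ) := rfl

include hF'' in
theorem Lmap_indep : Lmap D F' hF' = Lmap D F'' hF'' := by
  apply LinearMap.ext
  intro ℓ
  rw [Lmap_apply, Lmap_apply]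
  exact cls_eq_cls_of_sub_mem P _ _ _ _ (obsₗ_sub_mem_Res D F' hF' F'' hF'' ℓ)

end lifts

section natural

variable {A'' : Type u} [CommRing A''] [Algebra k A''] {res'' : A'' →+* k} {pr'' : A'' →+* A}
  (D'' : SData P res'' res pr'' ρ) (hF : D''.F = D.F)
  (g : A' →ₐ[k] A'') (hg : ∀ a, pr'' (g a) = pr a)
  (F' : σ → MvPolynomial ι A') (hF' : ∀ s, D.qd (F' s) = D.F s)

include D D'' hg in
lemma res''_g (a : A') : res'' (g a) = res' a := by
  rw [← D''.hres, hg, D.hres]

include hg in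
lemma qd''_map (x : MvPolynomial ι A') :
    D''.qd (MvPolynomial.map (g : A' →+* A'') x) = D.qd x := by
  change MvPolynomial.map pr'' (MvPolynomial.map (g : A' →+* A'') x) = MvPolynomial.map pr x
  rw [MvPolynomial.map_map]
  have : pr''.comp (g : A' →+* A'') = pr := RingHom.ext hg
  rw [this]

include D D'' hg in
lemma rd''_map (x : MvPolynomial ι A') :
    rd P res'' (MvPolynomial.map (g : A' →+* A'') x) = rd P res' x := by
  change MvPolynomial.map res'' (MvPolynomial.map (g : A' →+* A'') x) = MvPolynomial.map res' x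
  rw [MvPolynomial.map_map]
  have : res''.comp (g : A' →+* A'') = res' := RingHom.ext (res''_g D D'' g hg)
  rw [this]

include hF hg hF' in
lemma hF'_push (s : σ) : D''.qd (MvPolynomial.map (g : A' →+* A'') (F' s)) = D''.F s := by
  rw [qd''_map D D'' g hg, hF', hF]

/-- naturality of the obstruction maps along a morphism of extensions -/
theorem obsₗ_natural (ℓ : A'' →ₗ[k] k) :
    obsₗ D'' (fun s => MvPolynomial.map (g : A' →+* A'') (F' s))
        (hF'_push D D'' hF g hg F' hF') ℓ =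
      obsₗ D F' hF' (ℓ ∘ₗ g.toLinearMap) := by
  apply LinearMap.ext
  intro q
  obtain ⟨c', h1, h2⟩ := exists_W D F' hF' q.1 q.2
  have h3 : mr (rd P res'') (mr (MvPolynomial.map (g : A' →+* A'')) c') = q.1 := by
    have : (rd P res'').comp (MvPolynomial.map (g : A' →+* A'')) = rd P res' :=
      RingHom.ext (rd''_map D D'' g hg)
    rw [mr_comp, ← h1, this]
  have h4 : jm (MvPolynomial ι A'') (fun s => MvPolynomial.map (g : A' →+* A'') (F' s))
      (mr (MvPolynomial.map (g : A' →+* A'')) c') =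
        MvPolynomial.map (g : A' →+* A'') (jm (MvPolynomial ι A') F' c') :=
    (jm_mr (MvPolynomial.map (g : A' →+* A'')) F' c').symm
  have h5 : D''.qd (jm (MvPolynomial ι A'') (fun s => MvPolynomial.map (g : A' →+* A'') (F' s))
      (mr (MvPolynomial.map (g : A' →+* A'')) c')) = 0 := by
    rw [h4, qd''_map D D'' g hg, h2]
  rw [obsₗ_apply, obsₗ_apply, obs_eq D'' _ _ ℓ q _ h3 h5, obs_eq D F' hF' _ q c' h1 h2, h4,
    cfP_comp]

include hF hg in
theorem Lmap_natural (F'' : σ → MvPolynomial ι A'') (hF'' : ∀ s, D''.qd (F'' s) = D''.F s)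
    (ℓ : A'' →ₗ[k] k) :
    Lmap D'' F'' hF'' ℓ = Lmap D F' hF' (ℓ ∘ₗ g.toLinearMap) := by
  rw [Lmap_indep D'' F'' hF'' (fun s => MvPolynomial.map (g : A' →+* A'') (F' s))
    (hF'_push D D'' hF g hg F' hF'), Lmap_apply, Lmap_apply]
  exact cls_congr P (obsₗ_natural D D'' hF g hg F' hF' ℓ) _ _

end natural

end SData

end Groth.Agent.Lib.Helper19.ObsDef
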