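import Groth.Agent.Lib.Helper19ObsDefB

/-!
# Obstructions for semismall extensions III: vanishing obstruction classes give a lift (helper19)

Generalisation of `Helper19EqLiftC/D`: if the classes in `T²` attached to the coordinate
functionals of a basis of the kernel vanish, the lifts of the equations can be corrected so that
the quotient of the polynomial ring is a flat lift of the given deformation.
-/

set_option autoImplicit false
set_option linter.unusedSectionVars false
universe u

open TensorProduct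

namespace Groth.Agent.Lib.Helper19.ObsDef

open Groth.Agent.Lib.Helper19.DefGlue Groth.Agent.Lib.Helper19.Kos Groth.Agent.Lib.Helper19.EqLift
  Groth.Agent.Lib.Helper19.CotTwo

variable {k B₀ : Type u} [Field k] [CommRing B₀] [Algebra k B₀] {ι σ : Type u}
  {P : Algebra.Presentation k B₀ ι σ}
  {A' A : Type u} [CommRing A'] [CommRing A] [Algebra k A'] {res' : A' →+* k} {res : A →+* k}
  {pr : A' →+* A} {E : Type u} [CommRing E] [Algebra A E] {ρ : E →+* B₀}

section family

variable {S : Type*} [CommRing S] {σ : Type*}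

lemma jm_sum_family {J : Type*} (s : Finset J) (H : J → σ → S) (c : σ →₀ S) :
    jm S (fun t => ∑ j ∈ s, H j t) c = ∑ j ∈ s, jm S (H j) c := by
  induction c using Finsupp.induction_linear with
  | zero => simp
  | add x y hx hy => rw [map_add, hx, hy, ← Finset.sum_add_distrib]; simp
  | single t x =>
    rw [jm_single, Finset.mul_sum]
    refine Finset.sum_congr rfl fun j _ => ?_
    rw [jm_single]

end family

namespace SData

variable (D : SData P res' res pr ρ)

/-- a coordinate system on the kernel of the extension -/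
structure Coord (D : SData P res' res pr ρ) (J : Type) [Fintype J] [DecidableEq J] where
  b : J → A'
  r : J → (A' →ₗ[k] k)
  hb : ∀ j, b j ∈ RingHom.ker pr
  hr : ∀ i j, r i (b j) = if i = j then 1 else 0
  hspan : ∀ x ∈ RingHom.ker pr, x = ∑ j, r j x • b j

variable {J : Type} [Fintype J] [DecidableEq J] (c : D.Coord J)

include c in
lemma qd_C_b (j : J) : D.qd (MvPolynomial.C (c.b j)) = 0 := by
  rw [D.qd_C, (RingHom.mem_ker).1 (c.hb j), map_zero]

include c in
lemma rd_C_b (j : J) : rd P res' (MvPolynomial.C (c.b j) : MvPolynomial ι A') = 0 :=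
  D.rd_eq_zero_of_qd_eq_zero _ (qd_C_b D c j)

lemma cfP_C_b_mul (i j : J) (w : MvPolynomial ι A') :
    cfP P (c.r i) (MvPolynomial.C (c.b j) * w) = if i = j then rd P res' w else 0 := by
  rw [D.cf_mul _ _ w (qd_C_b D c j), cfP_C, c.hr]
  split_ifs
  · rw [MvPolynomial.C_1]
    exact one_mul _
  · rw [MvPolynomial.C_0]
    exact zero_mul _

/-- the coordinates of an element of `K[X]` -/
lemma eq_sum_C_b_mul (z : MvPolynomial ι A') (hz : D.qd z = 0) (w : J → MvPolynomial ι A')
    (hw : ∀ j, rd P res' (w j) = cfP P (c.r j) z) :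
    z = ∑ j, MvPolynomial.C (c.b j) * w j := by
  ext m
  rw [MvPolynomial.coeff_sum]
  have h1 := c.hspan _ ((D.mem_ker_qd_iff z).1 hz m)
  rw [h1]
  refine Finset.sum_congr rfl fun j _ => ?_
  rw [MvPolynomial.coeff_C_mul, D.mul_eq_smul _ (c.hb j)]
  congr 1
  have h2 := congrArg (MvPolynomial.coeff m) (hw j)
  change MvPolynomial.coeff m (MvPolynomial.map res' (w j)) = (c.r j) (MvPolynomial.coeff m z) at h2
  rw [MvPolynomial.coeff_map] at h2
  rw [← h2]

section lifts

variable (F' : σ → MvPolynomial ι A') (hF' : ∀ s, D.qd (F' s) = D.F s)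

include c in
/-- lifts of the equations all of whose coordinate obstructions vanish -/
theorem exists_good_lifts (h0 : ∀ j, Lmap D F' hF' (c.r j) = 0) :
    ∃ F'' : σ → MvPolynomial ι A', (∀ s, D.qd (F'' s) = D.F s) ∧
      ∀ c' : σ →₀ MvPolynomial ι A', D.qd (jm (MvPolynomial ι A') F'' c') = 0 →
        ∀ j, pi0 P (cfP P (c.r j) (jm (MvPolynomial ι A') F'' c')) = 0 := by
  classical
  have hG : ∀ j, ∃ G : (σ →₀ P.toExtension.Ring) →ₗ[P.toExtension.Ring] B₀,
      ∀ q : Q P.toExtension.Ring (CotT.rel P), G q = obsₗ D F' hF' (c.r j) q := by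
    intro j
    exact (cls_eq_zero_iff P _ (obsₗ_mem_Kil D F' hF' (c.r j))).1 (h0 j)
  choose G hG using hG
  have hh : ∀ j s, ∃ h' : MvPolynomial ι A',
      pi0 P (rd P res' h') = G j (Finsupp.single s 1) := by
    intro j s
    obtain ⟨h₀, hh₀⟩ := pi0_surjective P (G j (Finsupp.single s 1))
    obtain ⟨h', rfl⟩ := rd_surjective P res' D.hsurj' h₀
    exact ⟨h', hh₀⟩
  choose h' hh' using hh
  have hF'' : ∀ s, D.qd (F' s - ∑ j, MvPolynomial.C (c.b j) * h' j s) = D.F s := by
    intro s
    rw [map_sub, map_sum, hF']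
    have : ∀ j ∈ Finset.univ, D.qd (MvPolynomial.C (c.b j) * h' j s) = 0 := by
      intro j _
      rw [map_mul, qd_C_b D c j, zero_mul]
    rw [Finset.sum_eq_zero this, sub_zero]
  refine ⟨fun s => F' s - ∑ j, MvPolynomial.C (c.b j) * h' j s, hF'', ?_⟩
  intro c' hc' i
  have hFq : (fun s => D.qd (F' s)) = D.F := funext hF'
  have hFq'' : (fun s => D.qd (F' s - ∑ j, MvPolynomial.C (c.b j) * h' j s)) = D.F := funext hF''
  have hc'1 : D.qd (jm (MvPolynomial ι A') F' c') = 0 := by
    rw [jm_mr, hFq, ← hFq'', ← jm_mr]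
    exact hc'
  have hrel : (fun s => rd P res' (F' s)) = CotT.rel P := funext (rd_F' D F' hF')
  have hc₀ : mr (rd P res') c' ∈ Q P.toExtension.Ring (CotT.rel P) := by
    rw [mem_Q, ← hrel, ← jm_mr]
    exact D.rd_eq_zero_of_qd_eq_zero _ hc'1
  have h1 : jm (MvPolynomial ι A') F' c' =
      jm (MvPolynomial ι A') (fun s => F' s - ∑ j, MvPolynomial.C (c.b j) * h' j s) c' +
        ∑ j, MvPolynomial.C (c.b j) * jm (MvPolynomial ι A') (h' j) c' := by
    rw [jm_sub_family, jm_sum_family]
    have : ∀ j, jm (MvPolynomial ι A') (fun s => MvPolynomial.C (c.b j) * h' j s) c' =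
        MvPolynomial.C (c.b j) * jm (MvPolynomial ι A') (h' j) c' := fun j => jm_mul_family _ _ _
    rw [Finset.sum_congr rfl fun j _ => this j]
    ring
  have h2 := obs_eq D F' hF' (c.r i) ⟨_, hc₀⟩ c' rfl hc'1
  rw [← obsₗ_apply, ← hG, h1, map_add, map_add, map_sum] at h2
  have h3 : ∀ c₀ : σ →₀ P.toExtension.Ring,
      G i c₀ = pi0 P (jm P.toExtension.Ring (fun s => rd P res' (h' i s)) c₀) := by
    intro c₀
    induction c₀ using Finsupp.induction_linear with
    | zero => simp
    | add x y hx hy => rw [map_add, map_add, map_add, hx, hy]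
    | single s x =>
      have : (Finsupp.single s x : σ →₀ P.toExtension.Ring) = x • Finsupp.single s 1 := by
        rw [Finsupp.smul_single, smul_eq_mul, mul_one]
      rw [this, map_smul, ← hh', map_smul, jm_single, smul_eq_mul, map_mul, map_mul, map_one,
        one_mul, Algebra.smul_def]
  have h4 : ∑ j, cfP P (c.r i) (MvPolynomial.C (c.b j) * jm (MvPolynomial ι A') (h' j) c') =
      rd P res' (jm (MvPolynomial ι A') (h' i) c') := by
    rw [Finset.sum_congr rfl fun j _ => cfP_C_b_mul D c i j _, Finset.sum_ite_eq Finset.univ i]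
    simp
  rw [h4, jm_mr] at h2
  have h5 := h3 (mr (rd P res') c')
  change G i (mr (rd P res') c') = _ at h2
  rw [h5] at h2
  exact (add_eq_right.mp h2.symm)

end lifts

section liftAlg

variable (F'' : σ → MvPolynomial ι A') (hF'' : ∀ s, D.qd (F'' s) = D.F s)
  (hstar : ∀ c' : σ →₀ MvPolynomial ι A', D.qd (jm (MvPolynomial ι A') F'' c') = 0 →
    ∀ j, pi0 P (cfP P (c.r j) (jm (MvPolynomial ι A') F'' c')) = 0)

include hF'' in
/-- elements of the kernel of `k[X] → B₀` are reductions of elements of `I''` -/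
lemma exists_rd_jm_eq (w₀ : P.toExtension.Ring) (hw₀ : pi0 P w₀ = 0) :
    ∃ g' : σ →₀ MvPolynomial ι A', rd P res' (jm (MvPolynomial ι A') F'' g') = w₀ := by
  have h1 : w₀ ∈ RingHom.ker (pi0 P) := hw₀
  rw [ker_pi0] at h1
  obtain ⟨g₀, hg₀⟩ := exists_jm_eq (CotT.rel P) _ h1
  obtain ⟨g', rfl⟩ := mr_surjective (rd P res') (rd_surjective P res' D.hsurj') g₀
  refine ⟨g', ?_⟩
  have hrel : (fun s => rd P res' (F'' s)) = CotT.rel P := funext (rd_F' D F'' hF'')
  rw [jm_mr, hrel, hg₀]

include hF'' in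
lemma exists_sub_mem_ker_rd (G' : MvPolynomial ι A') (hG : pi0 P (rd P res' G') = 0) :
    ∃ g' : σ →₀ MvPolynomial ι A', rd P res' (G' - jm (MvPolynomial ι A') F'' g') = 0 := by
  obtain ⟨g', hg'⟩ := exists_rd_jm_eq D F'' hF'' _ hG
  exact ⟨g', by rw [map_sub, hg', sub_self]⟩

include c hF'' hstar in
/-- `I'' ∩ 𝔪' A'[X] ⊆ 𝔪' I''` -/
theorem mem_mul_of_mem_span_of_rd_eq_zero (x : MvPolynomial ι A')
    (hx : x ∈ Ideal.span (Set.range F'')) (hx0 : rd P res' x = 0) :
    x ∈ RingHom.ker (rd P res') * Ideal.span (Set.range F'') := by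
  have hker := ker_eq_span D.hsurj D.hnil D.hD D.p D.F D.hF1 D.hF2
  have h1 : D.p.π (D.qd x) = 0 := pi_qd_eq_zero D F'' hF'' x hx
  have h2 : rd P res (D.qd x) = 0 := by rw [D.rd_qd, hx0]
  have h3 := mem_mul_of_pi_eq_zero_of_rd_eq_zero D.hD D.p _ h1 h2
  rw [hker] at h3
  obtain ⟨μ, hμ1, hμ2⟩ := exists_jm_eq_of_mem_mul D.F _ _ h3
  obtain ⟨μ', rfl⟩ := mr_surjective D.qd D.qd_surjective μ
  have hμ' : ∀ s, μ' s ∈ RingHom.ker (rd P res') := by
    intro s
    rw [RingHom.mem_ker, ← D.rd_qd]
    exact hμ1 s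
  obtain ⟨c', rfl⟩ := exists_jm_eq F'' x hx
  have hF : (fun s => D.qd (F'' s)) = D.F := funext hF''
  have h4 : D.qd (jm (MvPolynomial ι A') F'' (c' - μ')) = 0 := by
    rw [map_sub, map_sub, jm_mr D.qd F'' μ', hF, hμ2, sub_self]
  have h5 := hstar _ h4
  choose g' hg' using fun j => exists_rd_jm_eq D F'' hF'' _ (h5 j)
  have h6 := eq_sum_C_b_mul D c _ h4 (fun j => jm (MvPolynomial ι A') F'' (g' j)) hg'
  have h7 : jm (MvPolynomial ι A') F'' c' = jm (MvPolynomial ι A') F'' μ' +
      ∑ j, MvPolynomial.C (c.b j) * jm (MvPolynomial ι A') F'' (g' j) := by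
    rw [← h6, map_sub]
    ring
  rw [h7]
  refine Ideal.add_mem _ (jm_mem_mul F'' _ μ' hμ') (Ideal.sum_mem _ fun j _ => ?_)
  exact Ideal.mul_mem_mul ((RingHom.mem_ker).2 (rd_C_b D c j)) (jm_mem_span F'' (g' j))

/-- the lifted algebra -/
abbrev LiftAlg (_ : SData P res' res pr ρ) (F'' : σ → MvPolynomial ι A') : Type u :=
  MvPolynomial ι A' ⧸ Ideal.span (Set.range F'')

/-- the comparison map to the given deformation -/
noncomputable def theta : LiftAlg D F'' →+* E :=
  Ideal.Quotient.lift (Ideal.span (Set.range F''))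
    ((D.p.π : MvPolynomial ι A →+* E).comp D.qd) (fun x hx => pi_qd_eq_zero D F'' hF'' x hx)

lemma theta_mk (x : MvPolynomial ι A') :
    theta D F'' hF'' (Ideal.Quotient.mk _ x) = D.p.π (D.qd x) := rfl

lemma theta_algebraMap (a : A') :
    theta D F'' hF'' (algebraMap A' (LiftAlg D F'') a) = algebraMap A E (pr a) := by
  change theta D F'' hF'' (Ideal.Quotient.mk _ (algebraMap A' (MvPolynomial ι A') a)) = _
  rw [theta_mk, MvPolynomial.algebraMap_eq, D.qd_C, ← MvPolynomial.algebraMap_eq,
    AlgHom.commutes]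

lemma theta_surjective : Function.Surjective (theta D F'' hF'') := by
  intro e
  obtain ⟨x, rfl⟩ := D.p.surj e
  obtain ⟨x', rfl⟩ := D.qd_surjective x
  exact ⟨Ideal.Quotient.mk _ x', rfl⟩

include c hF'' hstar in
theorem flat_liftAlg [IsLocalRing A'] [IsArtinianRing A']
    (hm : RingHom.ker res' = IsLocalRing.maximalIdeal A') :
    Module.Flat A' (LiftAlg D F'') := by
  set I'' := Ideal.span (Set.range F'') with hI''
  let N : Submodule A' (MvPolynomial ι A') := I''.restrictScalars A'
  let π' : MvPolynomial ι A' →ₗ[A'] LiftAlg D F'' := (Ideal.Quotient.mkₐ A' I'').toLinearMap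
  have hπ' : Function.Surjective π' := Ideal.Quotient.mk_surjective
  have hex : Function.Exact N.subtype π' := by
    intro x
    constructor
    · intro hx
      have : x ∈ I'' := Ideal.Quotient.eq_zero_iff_mem.1 hx
      exact ⟨⟨x, this⟩, rfl⟩
    · rintro ⟨y, rfl⟩
      exact Ideal.Quotient.eq_zero_iff_mem.2 y.2
  have hinf : N ⊓ (IsLocalRing.maximalIdeal A') • (⊤ : Submodule A' (MvPolynomial ι A')) ≤
      (IsLocalRing.maximalIdeal A') • N := by
    rintro x ⟨hx1, hx2⟩
    rw [← hm] at hx2 ⊢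
    rw [SetLike.mem_coe, Ideal.smul_top_eq_map] at hx2
    change x ∈ Ideal.map (algebraMap A' (MvPolynomial ι A')) (RingHom.ker res') at hx2
    rw [MvPolynomial.algebraMap_eq, ← ker_rd P res'] at hx2
    exact Data.mem_smul_of_mem_mul I'' x
      (mem_mul_of_mem_span_of_rd_eq_zero D c F'' hF'' hstar x hx1 hx2)
  have hk := rTensor_quotient_injective_of_inf_le N (IsLocalRing.maximalIdeal A') hinf
  exact Groth.Agent.Lib.Helper3.flat_of_rTensor_residue_injective N.subtype π' hπ' hex hk

include c hstar in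
theorem isDefo_liftAlg [IsLocalRing A'] [IsArtinianRing A']
    (hm : RingHom.ker res' = IsLocalRing.maximalIdeal A') :
    IsDefo res' (ρ.comp (theta D F'' hF'')) where
  flat := flat_liftAlg D c F'' hF'' hstar hm
  hc := by
    intro a
    rw [RingHom.comp_apply, theta_algebraMap, D.hD.hc, D.hres]
  hs := D.hD.hs.comp (theta_surjective D F'' hF'')
  hk := by
    apply le_antisymm
    · intro x hx
      obtain ⟨G', rfl⟩ := Ideal.Quotient.mk_surjective x
      have h1 : pi0 P (rd P res' G') = 0 := by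
        rw [← D.rd_qd, ← D.p.compat]
        exact hx
      obtain ⟨g', hg'⟩ := exists_sub_mem_ker_rd D F'' hF'' G' h1
      have h2 : G' - jm (MvPolynomial ι A') F'' g' ∈ RingHom.ker (rd P res') := hg'
      rw [ker_rd] at h2
      have h3 : (Ideal.Quotient.mk (Ideal.span (Set.range F'')) G' : LiftAlg D F'') =
          Ideal.Quotient.mk _ (G' - jm (MvPolynomial ι A') F'' g') := by
        rw [map_sub, Ideal.Quotient.eq_zero_iff_mem.2 (jm_mem_span F'' g'), sub_zero]
      rw [h3]
      have h4 := Ideal.mem_map_of_mem (Ideal.Quotient.mk (Ideal.span (Set.range F''))) h2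
      rw [Ideal.map_map] at h4
      exact h4
    · rw [Ideal.map_le_iff_le_comap]
      intro a ha
      rw [Ideal.mem_comap, RingHom.mem_ker, RingHom.comp_apply, theta_algebraMap, D.hD.hc, D.hres,
        (RingHom.mem_ker).1 ha, map_zero]

end liftAlg

/-- **Lifting.** A ring-level deformation lifts along a semismall extension when the obstruction
classes of the coordinate functionals vanish. -/
theorem exists_lift_of_Lmap_eq_zero (F' : σ → MvPolynomial ι A')
    (hF' : ∀ s, D.qd (F' s) = D.F s) (h0 : ∀ j, Lmap D F' hF' (c.r j) = 0)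
    [IsLocalRing A'] [IsArtinianRing A']
    (hm : RingHom.ker res' = IsLocalRing.maximalIdeal A') :
    ∃ (E' : Type u) (_ : CommRing E') (_ : Algebra A' E') (ρ' : E' →+* B₀) (θ : E' →+* E),
      IsDefo res' ρ' ∧ (∀ a, θ (algebraMap A' E' a) = algebraMap A E (pr a)) ∧
        ∀ b, ρ (θ b) = ρ' b := by
  obtain ⟨F'', hF'', hstar⟩ := exists_good_lifts D c F' hF' h0
  exact ⟨D.LiftAlg F'', inferInstance, inferInstance, ρ.comp (D.theta F'' hF''),
    D.theta F'' hF'', D.isDefo_liftAlg c F'' hF'' hstar hm, D.theta_algebraMap F'' hF'',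
    fun b => rfl⟩

end SData

end Groth.Agent.Lib.Helper19.ObsDef
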