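import Groth.Agent.Lib.Helper19ObsDefC

/-!
# Obstructions for semismall extensions IV: a lift kills the obstruction classes (helper19)
-/

set_option autoImplicit false
set_option linter.unusedSectionVars false
universe u

open TensorProduct

namespace Groth.Agent.Lib.Helper19.ObsDef

open Groth.Agent.Lib.Helper19.DefGlue Groth.Agent.Lib.Helper19.Kos Groth.Agent.Lib.Helper19.EqLift
  Groth.Agent.Lib.Helper19.CotTwo

variable {k B₀ : Type u} [Field k] [CommRing B₀] [Algebra k B₀] {ι σ : Type u}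
  {P : Algebra.Presentation k B₀ ι σ}
  {A' A : Type u} [CommRing A'] [CommRing A] [Algebra k A'] {res' : A' →+* k} {res : A →+* k}
  {pr : A' →+* A} {E : Type u} [CommRing E] [Algebra A E] {ρ : E →+* B₀}

namespace SData

variable (D : SData P res' res pr ρ) {J : Type} [Fintype J] [DecidableEq J] (c : D.Coord J)

include c in
/-- the coordinates of a vanishing combination of the basis lie in the augmentation ideal -/
lemma mem_ker_res'_of_sum_eq_zero (a : J → A') (h : ∑ j, a j * c.b j = 0) (i : J) :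
    a i ∈ RingHom.ker res' := by
  have h1 : ∑ j, res' (a j) • c.b j = 0 := by
    rw [← h]
    refine Finset.sum_congr rfl fun j _ => ?_
    rw [mul_comm, D.mul_eq_smul _ (c.hb j)]
  have h2 := congrArg (c.r i) h1
  rw [map_sum, map_zero] at h2
  have h3 : ∀ j ∈ Finset.univ, (c.r i) (res' (a j) • c.b j) = if i = j then res' (a j) else 0 := by
    intro j _
    rw [map_smul, c.hr, smul_eq_mul]
    split_ifs
    · rw [mul_one]
    · rw [mul_zero]
  rw [Finset.sum_congr rfl h3, Finset.sum_ite_eq Finset.univ i] at h2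
  simpa using h2

variable {E' : Type u} [CommRing E'] [Algebra A' E'] {ρ' : E' →+* B₀}

include c in
/-- in a flat module, a vanishing combination of the basis has coefficients in `𝔪' E'` -/
lemma mem_ker_of_sum_smul_eq_zero (hD' : IsDefo res' ρ') (e : J → E')
    (h : ∑ j, c.b j • e j = 0) (i : J) : ρ' (e i) = 0 := by
  haveI := hD'.flat
  obtain ⟨n, a, y, hey, hab⟩ := Module.Flat.isTrivialRelation_of_sum_smul_eq_zero
    (R := A') (M := E') (f := c.b) (x := e) h
  have h1 : ∀ l, a i l ∈ RingHom.ker res' := by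
    intro l
    refine mem_ker_res'_of_sum_eq_zero D c (fun j => a j l) ?_ i
    rw [← hab l]
    refine Finset.sum_congr rfl fun j _ => ?_
    rw [mul_comm]
  have h2 : e i ∈ RingHom.ker ρ' := by
    rw [hD'.hk, hey i]
    refine Ideal.sum_mem _ fun l _ => ?_
    rw [Algebra.smul_def]
    exact Ideal.mul_mem_right _ _ (Ideal.mem_map_of_mem _ (h1 l))
  exact h2

variable (hD' : IsDefo res' ρ') (hnil' : IsNilpotent (RingHom.ker res'))
  (θ : E' →+* E) (hθa : ∀ a, θ (algebraMap A' E' a) = algebraMap A E (pr a))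
  (hθρ : ∀ b, ρ (θ b) = ρ' b) (hθs : Function.Surjective θ)
  (hθk : RingHom.ker θ = (RingHom.ker pr).map (algebraMap A' E'))

include hD' hnil' hθa hθρ hθs in
/-- the presentation of the deformation lifts to the lifted deformation -/
theorem exists_pres_lift : ∃ pp' : Pres P res' ρ', ∀ x, θ (pp'.π x) = D.p.π (D.qd x) := by
  choose e he using fun i => hθs (D.p.π (MvPolynomial.X i))
  let π' : MvPolynomial ι A' →ₐ[A'] E' := MvPolynomial.aeval e
  have hcomp : θ.comp (π' : MvPolynomial ι A' →+* E') =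
      (D.p.π : MvPolynomial ι A →+* E).comp D.qd := by
    apply MvPolynomial.ringHom_ext
    · intro a
      rw [RingHom.comp_apply, RingHom.comp_apply, D.qd_C]
      change θ (MvPolynomial.aeval e (MvPolynomial.C a)) = D.p.π (MvPolynomial.C (pr a))
      rw [MvPolynomial.aeval_C, hθa, ← MvPolynomial.algebraMap_eq, AlgHom.commutes]
    · intro i
      rw [RingHom.comp_apply, RingHom.comp_apply]
      change θ (MvPolynomial.aeval e (MvPolynomial.X i)) = D.p.π (D.qd (MvPolynomial.X i))
      rw [MvPolynomial.aeval_X, he]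
      congr 1
      exact (MvPolynomial.map_X pr i).symm
  have hθπ : ∀ x, θ (π' x) = D.p.π (D.qd x) := fun x => RingHom.congr_fun hcomp x
  have hc : ∀ x, ρ' (π' x) = pi0 P (rd P res' x) := by
    intro x
    rw [← hθρ, hθπ, D.p.compat, D.rd_qd]
  refine ⟨⟨π', ?_, hc⟩, hθπ⟩
  refine Rigid.surjective_of_nilpotent (RingHom.ker res') hnil' π'.toLinearMap ?_
  intro y
  obtain ⟨g, hg⟩ := pi0_surjective P (ρ' y)
  obtain ⟨G, rfl⟩ := rd_surjective P res' D.hsurj' g
  refine ⟨G, ?_⟩
  have h1 : y - π' G ∈ RingHom.ker ρ' := by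
    rw [RingHom.mem_ker, map_sub, hc, hg, sub_self]
  rw [hD'.hk] at h1
  rw [Ideal.smul_top_eq_map]
  exact h1

include hθk in
/-- lifts of the equations inside the kernel of the lifted presentation -/
theorem exists_lifts_in_ker (pp' : Pres P res' ρ')
    (hpp' : ∀ x, θ (pp'.π x) = D.p.π (D.qd x)) :
    ∃ F' : σ → MvPolynomial ι A', (∀ s, D.qd (F' s) = D.F s) ∧ ∀ s, pp'.π (F' s) = 0 := by
  have key : ∀ s, ∃ F' : MvPolynomial ι A', D.qd F' = D.F s ∧ pp'.π F' = 0 := by
    intro s
    obtain ⟨G, hG⟩ := D.qd_surjective (D.F s)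
    have h1 : pp'.π G ∈ RingHom.ker θ := by
      rw [RingHom.mem_ker, hpp', hG, D.hF1]
    have h2 : (RingHom.ker pr).map (algebraMap A' E') =
        (RingHom.ker D.qd).map (pp'.π : MvPolynomial ι A' →+* E') := by
      rw [D.ker_qd, Ideal.map_map]
      congr 1
      ext a
      exact (pp'.π.commutes a).symm
    rw [hθk, h2] at h1
    obtain ⟨x, hx, hx'⟩ := (Ideal.mem_map_iff_of_surjective
      (pp'.π : MvPolynomial ι A' →+* E') pp'.surj).1 h1
    refine ⟨G - x, ?_, ?_⟩
    · rw [map_sub, hG, (RingHom.mem_ker).1 hx, sub_zero]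
    · rw [map_sub]
      exact sub_eq_zero.2 hx'.symm
  choose F' h1 h2 using key
  exact ⟨F', h1, h2⟩

include c hD' in
/-- for lifts inside the kernel of a flat lift all obstruction maps vanish -/
theorem obsₗ_eq_zero_of_lifts_in_ker (pp' : Pres P res' ρ')
    (F' : σ → MvPolynomial ι A') (hF' : ∀ s, D.qd (F' s) = D.F s) (hF'0 : ∀ s, pp'.π (F' s) = 0)
    (ℓ : A' →ₗ[k] k) : obsₗ D F' hF' ℓ = 0 := by
  apply LinearMap.ext
  intro q
  obtain ⟨c', h1, h2⟩ := exists_W D F' hF' q.1 q.2
  rw [obsₗ_apply, obs_eq D F' hF' ℓ q c' h1 h2, LinearMap.zero_apply]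
  set z := jm (MvPolynomial ι A') F' c' with hz
  have hπz : pp'.π z = 0 := by
    have : Ideal.span (Set.range F') ≤ RingHom.ker (pp'.π : MvPolynomial ι A' →+* E') := by
      rw [Ideal.span_le]
      rintro _ ⟨s, rfl⟩
      exact hF'0 s
    exact this (jm_mem_span F' c')
  choose w hw using fun j => rd_surjective P res' D.hsurj' (cfP P (c.r j) z)
  have h3 := eq_sum_C_b_mul D c z h2 w hw
  have h4 : ∑ j, c.b j • pp'.π (w j) = 0 := by
    rw [← hπz, h3, map_sum]
    refine Finset.sum_congr rfl fun j _ => ?_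
    rw [map_mul, ← MvPolynomial.algebraMap_eq, AlgHom.commutes, Algebra.smul_def]
  have h5 : ∀ j, pi0 P (rd P res' (w j)) = 0 := by
    intro j
    rw [← pp'.compat]
    exact mem_ker_of_sum_smul_eq_zero D c hD' (fun j => pp'.π (w j)) h4 j
  rw [h3, map_sum, map_sum]
  refine Finset.sum_eq_zero fun j _ => ?_
  rw [D.cf_mul ℓ _ (w j) (qd_C_b D c j), map_mul, h5 j, mul_zero]

include c hD' hnil' hθa hθρ hθs hθk in
/-- **A lift kills the obstruction classes.** -/
theorem Lmap_eq_zero_of_lift (F' : σ → MvPolynomial ι A') (hF' : ∀ s, D.qd (F' s) = D.F s)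
    (ℓ : A' →ₗ[k] k) : Lmap D F' hF' ℓ = 0 := by
  obtain ⟨pp', hpp'⟩ := exists_pres_lift D hD' hnil' θ hθa hθρ hθs
  obtain ⟨F'', hF'', hF''0⟩ := exists_lifts_in_ker D θ hθk pp' hpp'
  rw [Lmap_indep D F' hF' F'' hF'', Lmap_apply]
  have h0 := obsₗ_eq_zero_of_lifts_in_ker D c hD' pp' F'' hF'' hF''0 ℓ
  rw [cls_congr P h0 _ ((Kil P).zero_mem), cls_eq_zero_iff]
  exact ⟨0, fun q => rfl⟩

end SData

end Groth.Agent.Lib.Helper19.ObsDef
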