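import Mathlib

/-!
# Tensors from maps on the dual (helper19)

For a finite-dimensional space `K` over a field, a linear map `L : K^∨ → V` determines the tensor
in `V ⊗ K` whose contraction with every functional `φ` is `L φ`.
-/

set_option autoImplicit false
universe u

open TensorProduct

namespace Groth.Agent.Lib.Helper19.ObsDef

section tens

variable {k : Type*} [Field k] {V K K' : Type*} [AddCommGroup V] [Module k V]
  [AddCommGroup K] [Module k K] [Module.Finite k K]
  [AddCommGroup K'] [Module k K'] [Module.Finite k K']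

/-- contraction of a tensor against a functional -/
noncomputable def evT (φ : Module.Dual k K) : V ⊗[k] K →ₗ[k] V :=
  (TensorProduct.rid k V).toLinearMap ∘ₗ LinearMap.lTensor V φ

lemma evT_tmul (φ : Module.Dual k K) (v : V) (x : K) : evT φ (v ⊗ₜ[k] x) = φ x • v := by
  rw [evT, LinearMap.comp_apply, LinearMap.lTensor_tmul]
  exact TensorProduct.rid_tmul _ _

lemma sum_evT_coord (z : V ⊗[k] K) :
    ∑ j, evT ((Module.finBasis k K).coord j) z ⊗ₜ[k] (Module.finBasis k K) j = z := by
  induction z using TensorProduct.induction_on with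
  | zero => simp
  | tmul v x =>
    have h1 : ∀ j ∈ Finset.univ, evT ((Module.finBasis k K).coord j) (v ⊗ₜ[k] x) ⊗ₜ[k]
        (Module.finBasis k K) j = v ⊗ₜ[k] ((Module.finBasis k K).coord j x • (Module.finBasis k K) j) := by
      intro j _
      rw [evT_tmul, TensorProduct.smul_tmul]
    rw [Finset.sum_congr rfl h1, ← TensorProduct.tmul_sum]
    congr 1
    exact (Module.finBasis k K).sum_repr x
  | add x y hx hy =>
    simp only [map_add, TensorProduct.add_tmul, Finset.sum_add_distrib]
    rw [hx, hy]

theorem eq_zero_of_evT_eq_zero (z : V ⊗[k] K) (h : ∀ φ : Module.Dual k K, evT φ z = 0) :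
    z = 0 := by
  rw [← sum_evT_coord z]
  refine Finset.sum_eq_zero fun j _ => ?_
  rw [h, TensorProduct.zero_tmul]

/-- the tensor attached to a map on the dual -/
noncomputable def tensorOfDual (L : Module.Dual k K →ₗ[k] V) : V ⊗[k] K :=
  ∑ j, L ((Module.finBasis k K).coord j) ⊗ₜ[k] (Module.finBasis k K) j

theorem evT_tensorOfDual (L : Module.Dual k K →ₗ[k] V) (φ : Module.Dual k K) :
    evT φ (tensorOfDual L) = L φ := by
  rw [tensorOfDual, map_sum]
  have h1 : ∀ j ∈ Finset.univ, evT φ (L ((Module.finBasis k K).coord j) ⊗ₜ[k]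
      (Module.finBasis k K) j) = L (φ ((Module.finBasis k K) j) • (Module.finBasis k K).coord j) := by
    intro j _
    rw [evT_tmul, map_smul]
  rw [Finset.sum_congr rfl h1, ← map_sum, (Module.finBasis k K).sum_dual_apply_smul_coord φ]

theorem tensorOfDual_eq_zero_iff (L : Module.Dual k K →ₗ[k] V) : tensorOfDual L = 0 ↔ L = 0 := by
  constructor
  · intro h
    apply LinearMap.ext
    intro φ
    rw [← evT_tensorOfDual L φ, h, map_zero, LinearMap.zero_apply]
  · rintro rfl
    apply eq_zero_of_evT_eq_zero
    intro φ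
    rw [evT_tensorOfDual, LinearMap.zero_apply]

lemma evT_lTensor (q : K →ₗ[k] K') (ψ : Module.Dual k K') (z : V ⊗[k] K) :
    evT ψ (LinearMap.lTensor V q z) = evT (ψ ∘ₗ q) z := by
  rw [evT, evT, LinearMap.comp_apply, LinearMap.comp_apply, LinearMap.lTensor_comp,
    LinearMap.comp_apply]

theorem lTensor_tensorOfDual (q : K →ₗ[k] K') (L : Module.Dual k K →ₗ[k] V) :
    LinearMap.lTensor V q (tensorOfDual L) = tensorOfDual (L ∘ₗ Module.Dual.transpose q) := by
  rw [← sub_eq_zero]
  apply eq_zero_of_evT_eq_zero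
  intro ψ
  rw [map_sub, evT_lTensor, evT_tensorOfDual, evT_tensorOfDual, LinearMap.comp_apply,
    Module.Dual.transpose_apply, sub_self]

end tens

end Groth.Agent.Lib.Helper19.ObsDef
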