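import Groth.Agent.Lib.Helper19ObsDefD
import Groth.Agent.Lib.Helper19ObsDefE
import Groth.Agent.Lib.Helper19ArtBasic

/-!
# Obstructions for semismall extensions V: the obstruction of a deformation class (helper19)

Choices attached to a class `u ∈ Def_{B₀}(C)` (a representative, a presentation, lifted equations)
and to a semismall extension `p : C' → C`; the resulting linear map from the dual of the kernel to
`T²(P, B₀)`, its independence and naturality.
-/

set_option autoImplicit false
set_option linter.unusedSectionVars false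
set_option linter.style.haveILetI false
universe u

open CategoryTheory CategoryTheory.Limits AlgebraicGeometry ArtFun ArtFun.Art TensorProduct

namespace Groth.Agent.Lib.Helper19.ObsDef

open Groth.Agent.Lib.Helper19 Groth.Agent.Lib.Helper19.DefAff Groth.Agent.Lib.Helper19.DefGlue
  Groth.Agent.Lib.Helper19.Kos Groth.Agent.Lib.Helper19.CotTwo Groth.Agent.Lib.Helper19.EqLift

section general

variable {R S M : Type*} [CommRing R] [CommRing S] [Algebra R S] [CommRing M] [Algebra R M]

/-- the kernel of `M → S ⊗ M` for a quotient `S` of `R` -/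
theorem ker_includeRight (hs : Function.Surjective (algebraMap R S)) :
    RingHom.ker (Algebra.TensorProduct.includeRight : M →ₐ[R] S ⊗[R] M).toRingHom =
      (RingHom.ker (algebraMap R S)).map (algebraMap R M) := by
  set I' := (RingHom.ker (algebraMap R S)).map (algebraMap R M) with hI'
  apply le_antisymm
  · intro x hx
    have hx' : ((1 : S) ⊗ₜ[R] x : S ⊗[R] M) = 0 := hx
    let e := Ideal.quotientKerAlgEquivOfSurjective (f := Algebra.ofId R S) hs
    have hk : ∀ a ∈ RingHom.ker (Algebra.ofId R S), (Algebra.ofId R (M ⧸ I')) a = 0 := by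
      intro a ha
      change Ideal.Quotient.mk I' (algebraMap R M a) = 0
      exact Ideal.Quotient.eq_zero_iff_mem.2 (Ideal.mem_map_of_mem _ ha)
    let f₁ : S →ₐ[R] M ⧸ I' :=
      (Ideal.Quotient.liftₐ (RingHom.ker (Algebra.ofId R S)) (Algebra.ofId R (M ⧸ I')) hk).comp
        (e.symm : S →ₐ[R] _)
    let f₂ : M →ₐ[R] M ⧸ I' := Ideal.Quotient.mkₐ R I'
    have h1 := congrArg (Algebra.TensorProduct.productMap f₁ f₂) hx'
    rw [Algebra.TensorProduct.productMap_apply_tmul, map_one, one_mul, map_zero] at h1
    exact Ideal.Quotient.eq_zero_iff_mem.1 h1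
  · rw [Ideal.map_le_iff_le_comap]
    intro r hr
    rw [Ideal.mem_comap, RingHom.mem_ker]
    change ((1 : S) ⊗ₜ[R] (algebraMap R M r) : S ⊗[R] M) = 0
    rw [Algebra.algebraMap_eq_smul_one, ← TensorProduct.smul_tmul, Algebra.smul_def, mul_one,
      (RingHom.mem_ker).1 hr, TensorProduct.zero_tmul]

theorem includeRight_surjective (hs : Function.Surjective (algebraMap R S)) :
    Function.Surjective (Algebra.TensorProduct.includeRight : M →ₐ[R] S ⊗[R] M) := by
  intro t
  induction t using TensorProduct.induction_on with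
  | zero => exact ⟨0, map_zero _⟩
  | tmul s m =>
    obtain ⟨r, rfl⟩ := hs s
    refine ⟨r • m, ?_⟩
    change ((1 : S) ⊗ₜ[R] (r • m) : S ⊗[R] M) = _
    rw [← TensorProduct.smul_tmul, Algebra.smul_def, mul_one]
  | add x y hx hy =>
    obtain ⟨a, rfl⟩ := hx
    obtain ⟨b, rfl⟩ := hy
    exact ⟨a + b, map_add _ _ _⟩

end general

variable {k B₀ : Type u} [Field k] [CommRing B₀] [Algebra k B₀] {ι σ : Type u}

section congr

variable {P : Algebra.Presentation k B₀ ι σ}
  {A' A : Type u} [CommRing A'] [CommRing A] [Algebra k A'] {res' : A' →+* k} {res : A →+* k}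
  {pr : A' →+* A} {E : Type u} [CommRing E] [Algebra A E] {ρ : E →+* B₀}
  (D : SData P res' res pr ρ) (F' : σ → MvPolynomial ι A') (hF' : ∀ s, D.qd (F' s) = D.F s)

/-- the obstruction map only depends on the restriction of the functional to the kernel -/
theorem SData.obsₗ_congr (ℓ ℓ' : A' →ₗ[k] k) (h : ∀ x ∈ RingHom.ker pr, ℓ x = ℓ' x) :
    D.obsₗ F' hF' ℓ = D.obsₗ F' hF' ℓ' := by
  apply LinearMap.ext
  intro q
  obtain ⟨c', h1, h2⟩ := D.exists_W F' hF' q.1 q.2
  rw [SData.obsₗ_apply, SData.obsₗ_apply, D.obs_eq F' hF' ℓ q c' h1 h2,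
    D.obs_eq F' hF' ℓ' q c' h1 h2]
  congr 1
  apply MvPolynomial.ext (σ := ι) (R := k)
  intro m
  change ℓ _ = ℓ' _
  exact h _ ((D.mem_ker_qd_iff _).1 h2 m)

theorem SData.Lmap_congr (ℓ ℓ' : A' →ₗ[k] k) (h : ∀ x ∈ RingHom.ker pr, ℓ x = ℓ' x) :
    D.Lmap F' hF' ℓ = D.Lmap F' hF' ℓ' := by
  rw [SData.Lmap_apply, SData.Lmap_apply]
  exact cls_congr P (D.obsₗ_congr F' hF' ℓ ℓ' h) _ _

end congr

variable (P : Algebra.Presentation k B₀ ι σ)

section chosen

variable {C : Art k k} (u : (G k k B₀).obj C)

/-- a representative of a deformation class -/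
noncomputable def rep : DefSch (Λ := k) (Spec (CommRingCat.of B₀))
    (Spec.map (CommRingCat.ofHom (algebraMap k B₀))) C := Quotient.out u

lemma rep_cl : (rep u).cl = u := Quotient.out_eq u

lemma hnilC (C : Art k k) : IsNilpotent (RingHom.ker C.res.toRingHom) := by
  rw [ker_res_toRingHom]
  exact isNilpotent_maximalIdeal C

/-- the chosen presentation of the ring of the representative -/
noncomputable def presOf : Pres P C.res.toRingHom (rhoG (rep u)) :=
  (exists_pres (P := P) C.res_surjective (hnilC C) (isDefo_GRing (rep u))).some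

/-- the chosen lifted equations -/
noncomputable def eqsOf : σ → MvPolynomial ι C :=
  Classical.choose (exists_rel_lift C.res_surjective (isDefo_GRing (rep u)) (presOf P u))

lemma eqsOf_spec1 (s : σ) : (presOf P u).π (eqsOf P u s) = 0 :=
  (Classical.choose_spec
    (exists_rel_lift C.res_surjective (isDefo_GRing (rep u)) (presOf P u))).1 s

lemma eqsOf_spec2 (s : σ) : rd P C.res.toRingHom (eqsOf P u s) = CotT.rel P s :=
  (Classical.choose_spec
    (exists_rel_lift C.res_surjective (isDefo_GRing (rep u)) (presOf P u))).2 s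

variable {C' : Art k k} (p : C' ⟶ C) (hp : IsSemismallExt p)

/-- the semismall data of a class and an extension -/
noncomputable def sdata : SData P C'.res.toRingHom C.res.toRingHom (p.toAlgHom : C' →+* C)
    (rhoG (rep u)) where
  hpr := hp.1
  hres := fun a => res_app p a
  hres' := fun c => by
    change C'.res (algebraMap k C' c) = c
    rw [AlgHom.commutes]
    rfl
  hsemi := fun a ha x hx => by
    have h1 : a ∈ IsLocalRing.maximalIdeal C' := by rwa [← ker_res_toRingHom]
    have : a * x ∈ IsLocalRing.maximalIdeal C' * RingHom.ker p.toAlgHom :=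
      Ideal.mul_mem_mul h1 hx
    rwa [hp.2, Ideal.mem_bot] at this
  hnil := hnilC C
  hD := isDefo_GRing (rep u)
  p := presOf P u
  F := eqsOf P u
  hF1 := eqsOf_spec1 P u
  hF2 := eqsOf_spec2 P u

/-- the chosen lifts of the equations -/
noncomputable def liftsOf : σ → MvPolynomial ι C' := fun s =>
  Classical.choose ((sdata P u p hp).qd_surjective (eqsOf P u s))

lemma liftsOf_spec (s : σ) :
    (sdata P u p hp).qd (liftsOf P u p hp s) = (sdata P u p hp).F s :=
  Classical.choose_spec ((sdata P u p hp).qd_surjective (eqsOf P u s))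

/-- the obstruction map on functionals -/
noncomputable def LmapC : (C' →ₗ[k] k) →ₗ[k] CotT.T2 P B₀ :=
  (sdata P u p hp).Lmap (liftsOf P u p hp) (liftsOf_spec P u p hp)

end chosen

end Groth.Agent.Lib.Helper19.ObsDef
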