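import Groth.Agent.Lib.Helper19ObsDefF

/-!
# Obstructions for semismall extensions VI: the obstruction theory of `Def_{B₀}` (helper19)

The deformation functor of `Spec B₀` has an obstruction theory with values in `T²(P, B₀)`.
-/

set_option autoImplicit false
set_option linter.unusedSectionVars false
set_option linter.style.haveILetI false
universe u

open CategoryTheory CategoryTheory.Limits AlgebraicGeometry ArtFun ArtFun.Art TensorProduct

namespace Groth.Agent.Lib.Helper19.ObsDef

open Groth.Agent.Lib.Helper19 Groth.Agent.Lib.Helper19.DefAff Groth.Agent.Lib.Helper19.DefGlue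
  Groth.Agent.Lib.Helper19.Kos Groth.Agent.Lib.Helper19.CotTwo Groth.Agent.Lib.Helper19.EqLift

variable {k B₀ : Type u} [Field k] [CommRing B₀] [Algebra k B₀] {ι σ : Type u}

section ringData

variable {C' C : Art k k} (p : C' ⟶ C)
  {E' : Type u} [CommRing E'] [Algebra C' E'] {ρ' : E' →+* B₀}
  {E : Type u} [CommRing E] [Algebra C E] {ρ : E →+* B₀}

/-- an isomorphism of the base change with a deformation over the target gives ring-level data -/
theorem ring_data_of_iso (hp : Function.Surjective p) (hD' : IsDefo C'.res.toRingHom ρ')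
    (hD : IsDefo C.res.toRingHom ρ) (e₀ : ((ofDefo hD').baseChange p).Iso (ofDefo hD)) :
    ∃ θ : E' →+* E, (∀ a, θ (algebraMap C' E' a) = algebraMap C E (p a)) ∧
      (∀ b, ρ (θ b) = ρ' b) ∧ Function.Surjective θ ∧
        RingHom.ker θ = (RingHom.ker (p.toAlgHom : C' →+* C)).map (algebraMap C' E') := by
  letI : Algebra C' C := (p.toAlgHom : C' →+* C).toAlgebra
  have hres : ∀ r, C.res.toRingHom (algebraMap C' C r) = C'.res.toRingHom r := fun r => res_app p r
  have hBC : IsDefo C.res.toRingHom (bcRho C'.res.toRingHom C.res.toRingHom hres ρ' hD'.hc) :=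
    hD'.baseChange C C'.res.toRingHom C.res.toRingHom hres ρ' C'.res_surjective
  have hinc : ∀ b : C', ((1 : C) ⊗ₜ[C'] (algebraMap C' E' b) : C ⊗[C'] E') =
      algebraMap C (C ⊗[C'] E') (algebraMap C' C b) := by
    intro b
    rw [Algebra.TensorProduct.algebraMap_apply, Algebra.algebraMap_self_apply,
      Algebra.algebraMap_eq_smul_one, ← TensorProduct.smul_tmul, Algebra.smul_def, mul_one]
  obtain ⟨i₁⟩ := baseChange_ofDefo_iso p hD' hBC
    (Algebra.TensorProduct.includeRight : E' →ₐ[C'] C ⊗[C'] E').toRingHom (fun b => hinc b)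
    (fun b => bcRho_one_tmul C'.res.toRingHom C.res.toRingHom hres ρ' hD'.hc b)
  obtain ⟨ψ, hψ, hψb⟩ := exists_algHom_of_ofDefo_iso hD hBC (e₀.symm.trans i₁)
  have hs : Function.Surjective (algebraMap C' C) := hp
  refine ⟨(ψ : C ⊗[C'] E' →+* E).comp
    (Algebra.TensorProduct.includeRight : E' →ₐ[C'] C ⊗[C'] E').toRingHom, ?_, ?_, ?_, ?_⟩
  · intro a
    rw [RingHom.comp_apply]
    change ψ ((1 : C) ⊗ₜ[C'] (algebraMap C' E' a)) = _
    rw [hinc, AlgHom.commutes]
    rfl
  · intro b
    rw [RingHom.comp_apply]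
    change ρ (ψ ((1 : C) ⊗ₜ[C'] b)) = _
    rw [hψ, bcRho_one_tmul]
  · exact hψb.surjective.comp (includeRight_surjective hs)
  · have hkk : RingHom.ker (p.toAlgHom : C' →+* C) = RingHom.ker (algebraMap C' C) := rfl
    rw [hkk, ← ker_includeRight (M := E') hs]
    ext x
    rw [RingHom.mem_ker, RingHom.mem_ker, RingHom.comp_apply]
    constructor
    · intro h
      exact hψb.injective (h.trans (map_zero ψ).symm)
    · intro h
      rw [h]
      exact map_zero ψ

end ringData

variable (P : Algebra.Presentation k B₀ ι σ)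

variable {C C' : Art k k} (u : (G k k B₀).obj C) (p : C' ⟶ C) (hp : IsSemismallExt p)

instance finite_ker : Module.Finite k ↥(RingHom.ker p.toAlgHom) := by
  haveI : Module.Finite k C' := finite_art C'
  haveI : IsNoetherian k C' := inferInstance
  exact Module.Finite.of_injective
    ((Submodule.subtype (RingHom.ker p.toAlgHom)).restrictScalars k) Subtype.val_injective

lemma exists_retr : ∃ r : C' →ₗ[k] ↥(RingHom.ker p.toAlgHom),
    ∀ x : ↥(RingHom.ker p.toAlgHom), r (x : C') = x := by
  obtain ⟨g, hg⟩ := LinearMap.exists_leftInverse_of_injective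
    ((Submodule.subtype (RingHom.ker p.toAlgHom)).restrictScalars k)
    (LinearMap.ker_eq_bot.2 Subtype.val_injective)
  exact ⟨g, fun x => LinearMap.congr_fun hg x⟩

/-- a linear retraction onto the kernel -/
noncomputable def retr : C' →ₗ[k] ↥(RingHom.ker p.toAlgHom) := Classical.choose (exists_retr p)

lemma retr_apply (x : ↥(RingHom.ker p.toAlgHom)) : retr p (x : C') = x :=
  Classical.choose_spec (exists_retr p) x

/-- the obstruction map on the dual of the kernel -/
noncomputable def LK : Module.Dual k ↥(RingHom.ker p.toAlgHom) →ₗ[k] CotT.T2 P B₀ :=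
  LmapC P u p hp ∘ₗ Module.Dual.transpose (retr p)

lemma LK_apply (φ : Module.Dual k ↥(RingHom.ker p.toAlgHom)) :
    LK P u p hp φ = LmapC P u p hp (φ ∘ₗ retr p) := rfl

lemma LmapC_eq_LK (ℓ : C' →ₗ[k] k) : LmapC P u p hp ℓ =
    LK P u p hp (ℓ ∘ₗ (Submodule.subtype (RingHom.ker p.toAlgHom)).restrictScalars k) := by
  rw [LK_apply]
  apply SData.Lmap_congr
  intro x hx
  rw [LinearMap.comp_apply, LinearMap.comp_apply]
  have := retr_apply p ⟨x, hx⟩
  change retr p x = ⟨x, hx⟩ at this
  rw [this]
  rfl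

/-- the obstruction of a deformation class along a semismall extension -/
noncomputable def obsDef : CotT.T2 P B₀ ⊗[k] ↥(RingHom.ker p.toAlgHom) :=
  tensorOfDual (LK P u p hp)

/-- the coordinate system given by a basis of the kernel -/
noncomputable def coordOf :
    (sdata P u p hp).Coord (Fin (Module.finrank k ↥(RingHom.ker p.toAlgHom))) where
  b := fun j => ((Module.finBasis k ↥(RingHom.ker p.toAlgHom)) j : C')
  r := fun j => ((Module.finBasis k ↥(RingHom.ker p.toAlgHom)).coord j) ∘ₗ retr p
  hb := fun j => ((Module.finBasis k ↥(RingHom.ker p.toAlgHom)) j).2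
  hr := fun i j => by
    rw [LinearMap.comp_apply, retr_apply, Module.Basis.coord_apply, Module.Basis.repr_self,
      Finsupp.single_apply]
    simp only [eq_comm]
  hspan := fun x hx => by
    have h1 := (Module.finBasis k ↥(RingHom.ker p.toAlgHom)).sum_repr ⟨x, hx⟩
    have h2 := congrArg (Subtype.val) h1
    rw [Submodule.coe_sum] at h2
    change _ = x at h2
    rw [← h2]
    refine Finset.sum_congr rfl fun j _ => ?_
    rw [LinearMap.comp_apply]
    have := retr_apply p ⟨x, hx⟩
    change retr p x = ⟨x, hx⟩ at this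
    rw [h2, this]
    rfl

theorem obsDef_eq_zero_iff :
    obsDef P u p hp = 0 ↔ ∃ u' : (G k k B₀).obj C', (G k k B₀).map p u' = u := by
  rw [obsDef, tensorOfDual_eq_zero_iff]
  constructor
  · intro h
    have h0 : ∀ j, (sdata P u p hp).Lmap (liftsOf P u p hp) (liftsOf_spec P u p hp)
        ((coordOf P u p hp).r j) = 0 := by
      intro j
      have := LinearMap.congr_fun h ((Module.finBasis k ↥(RingHom.ker p.toAlgHom)).coord j)
      exact this
    obtain ⟨E', _, _, ρ', θ, hD', hθa, hθρ⟩ := SData.exists_lift_of_Lmap_eq_zero (sdata P u p hp)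
      (coordOf P u p hp) (liftsOf P u p hp) (liftsOf_spec P u p hp) h0 (ker_res_toRingHom C')
    obtain ⟨j⟩ := baseChange_ofDefo_iso p hD' (isDefo_GRing (rep u)) θ hθa hθρ
    obtain ⟨i⟩ := nonempty_iso_ofDefo (rep u)
    refine ⟨(ofDefo hD').cl, ?_⟩
    rw [← rep_cl u]
    exact Quotient.sound ⟨j.trans i.symm⟩
  · rintro ⟨u', hu'⟩
    induction u' using Quotient.inductionOn with
    | h ξ' =>
      have h1 : (ξ'.baseChange p).cl = (rep u).cl := by
        rw [rep_cl u]
        exact hu'
      obtain ⟨e⟩ := Quotient.exact h1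
      obtain ⟨i'⟩ := nonempty_iso_ofDefo ξ'
      obtain ⟨i⟩ := nonempty_iso_ofDefo (rep u)
      have e₀ : ((ofDefo (isDefo_GRing ξ')).baseChange p).Iso (ofDefo (isDefo_GRing (rep u))) :=
        ((i'.symm.baseChange p).trans e).trans i
      obtain ⟨θ, hθa, hθρ, hθs, hθk⟩ := ring_data_of_iso p hp.1 (isDefo_GRing ξ')
        (isDefo_GRing (rep u)) e₀
      apply LinearMap.ext
      intro φ
      rw [LK_apply, LinearMap.zero_apply]
      exact SData.Lmap_eq_zero_of_lift (sdata P u p hp) (coordOf P u p hp) (isDefo_GRing ξ')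
        (hnilC C') θ hθa hθρ hθs hθk (liftsOf P u p hp) (liftsOf_spec P u p hp) _

end Groth.Agent.Lib.Helper19.ObsDef
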