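import Groth.Agent.Lib.Helper19ObsDefG

/-!
# Obstructions for semismall extensions VII: compatibility with quotients (helper19)
-/

set_option autoImplicit false
set_option linter.unusedSectionVars false
set_option linter.style.haveILetI false
universe u

open CategoryTheory CategoryTheory.Limits AlgebraicGeometry ArtFun ArtFun.Art TensorProduct

namespace Groth.Agent.Lib.Helper19.ObsDef

open Groth.Agent.Lib.Helper19 Groth.Agent.Lib.Helper19.DefAff Groth.Agent.Lib.Helper19.DefGlue
  Groth.Agent.Lib.Helper19.Kos Groth.Agent.Lib.Helper19.CotTwo Groth.Agent.Lib.Helper19.EqLift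

variable {k B₀ : Type u} [Field k] [CommRing B₀] [Algebra k B₀] {ι σ : Type u}
  (P : Algebra.Presentation k B₀ ι σ)
  {C C' : Art k k} (u : (G k k B₀).obj C) (p : C' ⟶ C) (hp : IsSemismallExt p)

theorem LK_quot (K : Ideal C') (hK : K ≤ IsLocalRing.maximalIdeal C')
    (hKJ : K ≤ RingHom.ker p.toAlgHom) (hq : IsSemismallExt (quotFactor hK p hKJ)) :
    LK P u (quotFactor hK p hKJ) hq =
      LK P u p hp ∘ₗ Module.Dual.transpose ((kerToQuot hK p hKJ).restrictScalars k) := by
  apply LinearMap.ext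
  intro ψ
  rw [LinearMap.comp_apply, Module.Dual.transpose_apply, LK_apply, LK_apply]
  have hnat := SData.Lmap_natural (sdata P u p hp) (sdata P u (quotFactor hK p hKJ) hq) rfl
    (quotMk C' K hK).toAlgHom (fun a => rfl) (liftsOf P u p hp) (liftsOf_spec P u p hp)
    (liftsOf P u (quotFactor hK p hKJ) hq) (liftsOf_spec P u (quotFactor hK p hKJ) hq)
    (ψ ∘ₗ retr (quotFactor hK p hKJ))
  change LmapC P u (quotFactor hK p hKJ) hq (ψ ∘ₗ retr (quotFactor hK p hKJ)) = _
  rw [LmapC, hnat]
  apply SData.Lmap_congr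
  intro x hx
  rw [LinearMap.comp_apply, LinearMap.comp_apply, LinearMap.comp_apply, LinearMap.comp_apply]
  have h1 := retr_apply p ⟨x, hx⟩
  change retr p x = ⟨x, hx⟩ at h1
  rw [h1]
  have h2 := retr_apply (quotFactor hK p hKJ) (kerToQuot hK p hKJ ⟨x, hx⟩)
  congr 1

theorem obsDef_quot (K : Ideal C') (hK : K ≤ IsLocalRing.maximalIdeal C')
    (hKJ : K ≤ RingHom.ker p.toAlgHom) (hq : IsSemismallExt (quotFactor hK p hKJ)) :
    obsDef P u (quotFactor hK p hKJ) hq =
      LinearMap.lTensor (CotT.T2 P B₀) ((kerToQuot hK p hKJ).restrictScalars k)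
        (obsDef P u p hp) := by
  rw [obsDef, obsDef, lTensor_tensorOfDual, LK_quot P u p hp K hK hKJ hq]

/-- **The obstruction theory of the deformation functor of `Spec B₀`**, with values in
`T²(P, B₀)`. -/
noncomputable def obsTheoryDef : ObsTheory (G k k B₀) (CotT.T2 P B₀) where
  obs := fun {_ _} p hp u => obsDef P u p hp
  obs_eq_zero_iff := fun p hp u => obsDef_eq_zero_iff P u p hp
  obs_quot := fun p hp K hK hKJ hq u => obsDef_quot P u p hp K hK hKJ hq

end Groth.Agent.Lib.Helper19.ObsDef
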