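import Mathlib
import Groth.Agent.Lib.Helper19Der

/-!
# Derivations into the residue field and the cotangent space (helper19)

For a local `k`-algebra `R` with residue field `k`, the `k`-derivations `R → k` are the dual of
`𝔪/𝔪²`; in particular their dimension is the embedding dimension.
-/

set_option autoImplicit false
set_option linter.unusedSectionVars false
universe u

namespace Groth.Agent.Lib.Helper19.ObsDef

open IsLocalRing

section DerCot

variable {k R : Type u} [Field k] [CommRing R] [IsLocalRing R] [Algebra k R]
  [Algebra R k] [IsScalarTower k R k]

lemma algebraMap_surjective_of_tower : Function.Surjective (algebraMap R k) := by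
  intro c
  refine ⟨algebraMap k R c, ?_⟩
  rw [← IsScalarTower.algebraMap_apply k R k c]
  rfl

lemma algebraMap_algebraMap (c : k) : algebraMap R k (algebraMap k R c) = c := by
  rw [← IsScalarTower.algebraMap_apply k R k c]
  rfl

lemma mem_max_iff (x : R) : x ∈ maximalIdeal R ↔ algebraMap R k x = 0 :=
  Groth.Agent.Lib.Helper19.algebraMap_eq_zero_iff_mem
    (algebraMap_surjective_of_tower (k := k) (R := R)) x

lemma sub_mem_max (r : R) : r - algebraMap k R (algebraMap R k r) ∈ maximalIdeal R := by
  rw [mem_max_iff (k := k), map_sub, algebraMap_algebraMap, sub_self]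

/-- a derivation kills the scalars -/
lemma der_algebraMap (D : Derivation k R k) (c : k) : D (algebraMap k R c) = 0 :=
  D.map_algebraMap c

/-- the restriction of a derivation to the maximal ideal, as an `R`-linear map -/
noncomputable def derRestrict (D : Derivation k R k) : maximalIdeal R →ₗ[R] k where
  toFun x := D (x : R)
  map_add' x y := by rw [Submodule.coe_add, map_add]
  map_smul' r x := by
    rw [Submodule.coe_smul, smul_eq_mul, D.leibniz, RingHom.id_apply]
    have h0 : ((x : R) • D r : k) = 0 := by
      rw [Algebra.smul_def, (mem_max_iff (k := k) (x : R)).1 x.2, zero_mul]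
    rw [h0, add_zero]

lemma derRestrict_le (D : Derivation k R k) :
    (maximalIdeal R • ⊤ : Submodule R (maximalIdeal R)) ≤ LinearMap.ker (derRestrict D) := by
  rw [Submodule.smul_le]
  intro r hr x _
  rw [LinearMap.mem_ker, map_smul, Algebra.smul_def, (mem_max_iff (k := k) r).1 hr, zero_mul]

/-- the functional on the cotangent space attached to a derivation -/
noncomputable def derToDual : Derivation k R k →ₗ[k] Module.Dual k (CotangentSpace R) where
  toFun D := (Submodule.liftQ _ (derRestrict D) (derRestrict_le D)).restrictScalars k
  map_add' D D' := by
    apply LinearMap.ext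
    intro w
    obtain ⟨x, rfl⟩ := Ideal.toCotangent_surjective _ w
    rfl
  map_smul' c D := by
    apply LinearMap.ext
    intro w
    obtain ⟨x, rfl⟩ := Ideal.toCotangent_surjective _ w
    rfl

lemma derToDual_toCotangent (D : Derivation k R k) (x : maximalIdeal R) :
    derToDual D (Ideal.toCotangent (maximalIdeal R) x) = D (x : R) := rfl

lemma derToDual_injective : Function.Injective (derToDual (k := k) (R := R)) := by
  rw [injective_iff_map_eq_zero]
  intro D hD
  ext r
  have h1 : D (r - algebraMap k R (algebraMap R k r)) = 0 := by
    rw [← derToDual_toCotangent D ⟨_, sub_mem_max (k := k) r⟩, hD, LinearMap.zero_apply]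
  rw [map_sub, der_algebraMap, sub_zero] at h1
  rw [h1]
  rfl

/-- the projection of `R` onto the maximal ideal along the scalars -/
noncomputable def projMax : R →ₗ[k] maximalIdeal R where
  toFun r := ⟨r - algebraMap k R (algebraMap R k r), sub_mem_max (k := k) r⟩
  map_add' a b := by
    apply Subtype.ext
    change a + b - algebraMap k R (algebraMap R k (a + b)) =
      (a - algebraMap k R (algebraMap R k a)) + (b - algebraMap k R (algebraMap R k b))
    rw [map_add, map_add]
    ring
  map_smul' c a := by
    apply Subtype.ext
    change c • a - algebraMap k R (algebraMap R k (c • a)) =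
      c • (a - algebraMap k R (algebraMap R k a))
    rw [Algebra.smul_def c a, map_mul, algebraMap_algebraMap, map_mul, Algebra.smul_def, mul_sub]

lemma projMax_coe (r : R) :
    ((projMax (k := k) r : maximalIdeal R) : R) = r - algebraMap k R (algebraMap R k r) := rfl

lemma projMax_of_mem (x : maximalIdeal R) : projMax (k := k) (x : R) = x := by
  apply Subtype.ext
  rw [projMax_coe, (mem_max_iff (k := k) (x : R)).1 x.2, map_zero, sub_zero]

lemma toCotangent_projMax_mul (a b : R) :
    Ideal.toCotangent (maximalIdeal R) (projMax (k := k) (a * b)) =
      algebraMap R k a • Ideal.toCotangent (maximalIdeal R) (projMax (k := k) b) +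
        algebraMap R k b • Ideal.toCotangent (maximalIdeal R) (projMax (k := k) a) := by
  have h1 : projMax (k := k) (a * b) =
      (projMax (k := k) a : R) • projMax (k := k) b +
        (algebraMap R k a • projMax (k := k) b + algebraMap R k b • projMax (k := k) a) := by
    apply Subtype.ext
    change a * b - algebraMap k R (algebraMap R k (a * b)) =
      (a - algebraMap k R (algebraMap R k a)) * (b - algebraMap k R (algebraMap R k b)) +
        (algebraMap R k a • (b - algebraMap k R (algebraMap R k b)) +
          algebraMap R k b • (a - algebraMap k R (algebraMap R k a)))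
    rw [map_mul, map_mul, Algebra.smul_def, Algebra.smul_def]
    ring
  rw [h1, map_add, map_add, map_smul, LinearMap.map_smul_of_tower, LinearMap.map_smul_of_tower]
  have h2 : (projMax (k := k) a : R) • Ideal.toCotangent (maximalIdeal R) (projMax (k := k) b) = 0 :=
    Ideal.Cotangent.smul_eq_zero_of_mem (projMax (k := k) a).2 _
  rw [h2, zero_add]

lemma derToDual_surjective : Function.Surjective (derToDual (k := k) (R := R)) := by
  intro φ
  let dl : R →ₗ[k] k := φ ∘ₗ ((Ideal.toCotangent (maximalIdeal R)).restrictScalars k) ∘ₗ projMax (k := k)
  have hleib : ∀ a b : R, dl (a * b) = a • dl b + b • dl a := by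
    intro a b
    change φ (Ideal.toCotangent (maximalIdeal R) (projMax (k := k) (a * b))) =
      a • φ (Ideal.toCotangent (maximalIdeal R) (projMax (k := k) b)) +
        b • φ (Ideal.toCotangent (maximalIdeal R) (projMax (k := k) a))
    rw [toCotangent_projMax_mul, map_add, map_smul, map_smul, Algebra.smul_def a,
      Algebra.smul_def b, smul_eq_mul, smul_eq_mul]
  refine ⟨Derivation.mk' dl hleib, ?_⟩
  apply LinearMap.ext
  intro w
  obtain ⟨x, rfl⟩ := Ideal.toCotangent_surjective _ w
  rw [derToDual_toCotangent]
  change φ (Ideal.toCotangent (maximalIdeal R) (projMax (k := k) (x : R))) = _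
  rw [projMax_of_mem]

/-- derivations into the residue field are the dual of the cotangent space -/
noncomputable def derEquivDual : Derivation k R k ≃ₗ[k] Module.Dual k (CotangentSpace R) :=
  LinearEquiv.ofBijective derToDual ⟨derToDual_injective, derToDual_surjective⟩

lemma residue_algebraMap_bijective :
    Function.Bijective (algebraMap k (ResidueField R)) := by
  refine ⟨(algebraMap k (ResidueField R)).injective, ?_⟩
  intro y
  obtain ⟨r, rfl⟩ := IsLocalRing.residue_surjective y
  refine ⟨algebraMap R k r, ?_⟩
  rw [IsScalarTower.algebraMap_apply k R (ResidueField R)]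
  change IsLocalRing.residue R _ = IsLocalRing.residue R r
  rw [← sub_eq_zero, ← map_sub, IsLocalRing.residue_eq_zero_iff, ← neg_sub]
  exact neg_mem (sub_mem_max (k := k) r)

instance isScalarTower_cotangentSpace : IsScalarTower k (ResidueField R) (CotangentSpace R) := by
  apply IsScalarTower.of_algebraMap_smul
  intro c w
  rw [IsScalarTower.algebraMap_apply k R (ResidueField R), algebraMap_smul, algebraMap_smul]

theorem finrank_cotangentSpace_eq :
    Module.finrank k (CotangentSpace R) =
      Module.finrank (ResidueField R) (CotangentSpace R) := by
  have h1 : Module.finrank k (ResidueField R) = 1 := by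
    have e : k ≃ₗ[k] ResidueField R :=
      (AlgEquiv.ofBijective (Algebra.ofId k (ResidueField R))
        residue_algebraMap_bijective).toLinearEquiv
    rw [← e.finrank_eq, Module.finrank_self]
  rw [← Module.finrank_mul_finrank k (ResidueField R) (CotangentSpace R), h1, one_mul]

/-- **the dimension of the space of derivations into the residue field is the embedding
dimension** -/
theorem finrank_derivation_eq :
    Module.finrank k (Derivation k R k) =
      Module.finrank (ResidueField R) (CotangentSpace R) := by
  rw [derEquivDual.finrank_eq, Subspace.dual_finrank_eq, finrank_cotangentSpace_eq]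

end DerCot

end Groth.Agent.Lib.Helper19.ObsDef
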