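import Groth.Agent.Lib.Helper19Obs

set_option autoImplicit false
universe u v w

open CategoryTheory ArtFun ArtFun.Art
open scoped TensorProduct

namespace Groth.Agent.Lib.Helper19

section ObsTransport

variable {k : Type u} [Field k]

/-- Transport of an obstruction theory along a universal family. -/
noncomputable def obsTheoryOfUniversal {F : Art k k ⥤ Type v} {R : Type u} [CommRing R] [Algebra k R]
    {resR : R →ₐ[k] k} (ξ : Family R resR F) (hu : IsUniversal ξ)
    {V : Type u} [AddCommGroup V] [Module k V] (T : ObsTheory (hR R resR) V) : ObsTheory F V where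
  obs {C' C} p hp u := T.obs p hp (Classical.choose ((hu C).2 u))
  obs_eq_zero_iff := by
    intro C' C p hp u
    have hφ := Classical.choose_spec ((hu C).2 u)
    rw [T.obs_eq_zero_iff]
    constructor
    · rintro ⟨φ', hφ'⟩
      have hφ'' : HomSet.map p (show HomSet R resR C' from φ') = Classical.choose ((hu C).2 u) := hφ'
      refine ⟨ξ.app C' (show HomSet R resR C' from φ'), ?_⟩
      have h1 := ξ.natural p (show HomSet R resR C' from φ')
      rw [← h1, hφ'', hφ]
    · rintro ⟨u', hu'⟩
      obtain ⟨φ', rfl⟩ := (hu C').2 u'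
      refine ⟨φ', ?_⟩
      change HomSet.map p φ' = _
      apply (hu C).1
      have h1 := ξ.natural p φ'
      rw [h1, hu']
      exact hφ.symm
  obs_quot := by
    intro C' C p hp K hK hKJ hq u
    exact T.obs_quot p hp K hK hKJ hq _

/-- Transport of an obstruction theory along an isomorphism of obstruction spaces. -/
noncomputable def obsTheoryCongr {F : Art k k ⥤ Type v} {V V' : Type u} [AddCommGroup V] [Module k V]
    [AddCommGroup V'] [Module k V'] (e : V ≃ₗ[k] V') (T : ObsTheory F V) : ObsTheory F V' where
  obs {C' C} p hp u := LinearMap.rTensor _ e.toLinearMap (T.obs p hp u)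
  obs_eq_zero_iff := by
    intro C' C p hp u
    rw [← T.obs_eq_zero_iff p hp u]
    exact (LinearEquiv.rTensor (↥(RingHom.ker p.toAlgHom)) e).map_eq_zero_iff
  obs_quot := by
    intro C' C p hp K hK hKJ hq u
    rw [T.obs_quot p hp K hK hKJ hq u]
    have h1 := LinearMap.rTensor_comp_lTensor (f := e.toLinearMap)
      (g := (kerToQuot hK p hKJ).restrictScalars k)
    have h2 := LinearMap.lTensor_comp_rTensor (f := e.toLinearMap)
      (g := (kerToQuot hK p hKJ).restrictScalars k)
    have := congrArg (fun f => f (T.obs p hp u)) (h1.trans h2.symm)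
    exact this

attribute [local instance] isAdicComplete_field

/-- A pro-representable functor has an obstruction theory with finite-dimensional obstruction space. -/
theorem exists_hasObsTheory_of_isProrepresentable (F : Art k k ⥤ Type v) (hF : IsProrepresentable F) :
    ∃ n : ℕ, HasObsTheory F (Fin n → k) := by
  obtain ⟨⟨R, ξ, hu⟩⟩ := hF
  obtain ⟨r, g, -, hg, hgk⟩ := exists_presentation_cring (hk0 (k := k)) R
  have hJ : RingHom.ker g ≤ IsLocalRing.maximalIdeal (MvPowerSeries (Fin r) k) ^ 2 := by
    intro s hs
    have h1 := hgk s (RingHom.mem_ker.1 hs)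
    rw [relSq, IsLocalRing.maximalIdeal_eq_bot, Ideal.map_bot, sup_bot_eq] at h1
    exact h1
  let T₀ := obsTheoryOfPres R.res g (RingHom.ker g) hg (fun s => (RingHom.mem_ker (f := g)).symm) hJ
  let T₁ := obsTheoryOfUniversal ξ hu T₀
  let b := Module.finBasis k (Module.Dual k (RelMod (RingHom.ker g)))
  exact ⟨_, ⟨obsTheoryCongr b.equivFun T₁⟩⟩

end ObsTransport

end Groth.Agent.Lib.Helper19
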