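import Groth.Agent.Lib.Helper19ObsBound
import Groth.Agent.Lib.Helper19ObsTransport

/-!
# Obstruction theories of functors of Artin rings bound the number of relations (helper19)
-/

set_option autoImplicit false
universe u v w

open CategoryTheory ArtFun ArtFun.Art
open scoped TensorProduct

namespace Groth.Agent.Lib.Helper19

section ObsVersal

variable {k : Type u} [Field k]

/-- Pull-back of an obstruction theory along a versal family `h_R → F`. -/
noncomputable def obsTheoryOfVersal {F : Art k k ⥤ Type v} {R : Type u} [CommRing R] [Algebra k R]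
    {resR : R →ₐ[k] k} (ξ : Family R resR F) (hv : IsVersal ξ)
    {V : Type u} [AddCommGroup V] [Module k V] (T : ObsTheory F V) : ObsTheory (hR R resR) V where
  obs {C' C} p hp φ := T.obs p hp (ξ.app C (show HomSet R resR C from φ))
  obs_eq_zero_iff := by
    intro C' C p hp φ
    rw [T.obs_eq_zero_iff]
    constructor
    · rintro ⟨u', hu'⟩
      obtain ⟨ψ, hψ, -⟩ := hv p hp.1 (show HomSet R resR C from φ) u' hu'
      exact ⟨ψ, hψ⟩
    · rintro ⟨φ', hφ'⟩
      refine ⟨ξ.app C' (show HomSet R resR C' from φ'), ?_⟩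
      have h1 := ξ.natural p (show HomSet R resR C' from φ')
      rw [← h1]
      have hφ'' : HomSet.map p (show HomSet R resR C' from φ') = (show HomSet R resR C from φ) := hφ'
      rw [hφ'']
  obs_quot := by
    intro C' C p hp K hK hKJ hq φ
    exact T.obs_quot p hp K hK hKJ hq _

end ObsVersal

section KerIdeal

variable {k : Type u} [Field k]

/-- The kernel of a functional on the kernel of a semismall extension, as an ideal. -/
def kerIdealArt {C' C : Art k k} (p : C' ⟶ C) (hp : IsSemismallExt p)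
    (φ : ↥(RingHom.ker p.toAlgHom) →ₗ[k] k) : Ideal C' where
  carrier := {x | ∃ h : x ∈ RingHom.ker p.toAlgHom, φ ⟨x, h⟩ = 0}
  add_mem' := by
    rintro a b ⟨ha, ha0⟩ ⟨hb, hb0⟩
    refine ⟨(RingHom.ker p.toAlgHom).add_mem ha hb, ?_⟩
    have : (⟨a + b, (RingHom.ker p.toAlgHom).add_mem ha hb⟩ : ↥(RingHom.ker p.toAlgHom)) = ⟨a, ha⟩ + ⟨b, hb⟩ := rfl
    rw [this, map_add, ha0, hb0, add_zero]
  zero_mem' := ⟨(RingHom.ker p.toAlgHom).zero_mem, by
    have : (⟨0, (RingHom.ker p.toAlgHom).zero_mem⟩ : ↥(RingHom.ker p.toAlgHom)) = 0 := rfl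
    rw [this, map_zero]⟩
  smul_mem' := by
    rintro c x ⟨hx, hx0⟩
    have hm : c - algebraMap k C' (C'.res c) ∈ IsLocalRing.maximalIdeal C' := by
      rw [Art.mem_maximalIdeal_iff, map_sub, AlgHom.commutes, Algebra.algebraMap_self, RingHom.id_apply, sub_self]
    have h0 : (c - algebraMap k C' (C'.res c)) * x = 0 := by
      have : (c - algebraMap k C' (C'.res c)) * x ∈ IsLocalRing.maximalIdeal C' * RingHom.ker p.toAlgHom :=
        Ideal.mul_mem_mul hm hx
      rwa [hp.2, Ideal.mem_bot] at this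
    have h1 : c • x = (C'.res c) • x := by
      rw [smul_eq_mul, Algebra.smul_def]
      have := sub_eq_zero.1 (by rw [← sub_mul]; exact h0 : c * x - algebraMap k C' (C'.res c) * x = 0)
      exact this
    refine ⟨(RingHom.ker p.toAlgHom).smul_mem c hx, ?_⟩
    have : (⟨c • x, (RingHom.ker p.toAlgHom).smul_mem c hx⟩ : ↥(RingHom.ker p.toAlgHom)) = (C'.res c) • ⟨x, hx⟩ := by
      apply Subtype.ext
      exact h1
    rw [this, map_smul, hx0, smul_zero]

theorem mem_kerIdealArt {C' C : Art k k} (p : C' ⟶ C) (hp : IsSemismallExt p)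
    (φ : ↥(RingHom.ker p.toAlgHom) →ₗ[k] k) (j : ↥(RingHom.ker p.toAlgHom)) :
    (j : C') ∈ kerIdealArt p hp φ ↔ φ j = 0 := by
  constructor
  · rintro ⟨h, h0⟩
    exact h0
  · intro h
    exact ⟨j.2, h⟩

theorem kerIdealArt_le {C' C : Art k k} (p : C' ⟶ C) (hp : IsSemismallExt p)
    (φ : ↥(RingHom.ker p.toAlgHom) →ₗ[k] k) : kerIdealArt p hp φ ≤ RingHom.ker p.toAlgHom := by
  rintro x ⟨h, _⟩
  exact h

theorem isSemismallExt_quotFactor {C' C : Art k k} (p : C' ⟶ C) (hp : IsSemismallExt p)
    {K : Ideal C'} (hK : K ≤ IsLocalRing.maximalIdeal C') (hKJ : K ≤ RingHom.ker p.toAlgHom) :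
    IsSemismallExt (quotFactor hK p hKJ) := by
  refine ⟨?_, ?_⟩
  · intro c
    obtain ⟨a, rfl⟩ := hp.1 c
    exact ⟨quotMk C' K hK a, rfl⟩
  · rw [← le_bot_iff, Ideal.mul_le]
    intro x hx y hy
    obtain ⟨a, rfl⟩ := quotMk_surjective C' K hK x
    obtain ⟨b, rfl⟩ := quotMk_surjective C' K hK y
    have ha : a ∈ IsLocalRing.maximalIdeal C' := by
      rw [Art.mem_maximalIdeal_iff] at hx ⊢
      rw [← Art.res_app (quotMk C' K hK) a]
      exact hx
    have hb : b ∈ RingHom.ker p.toAlgHom := by
      rw [RingHom.mem_ker] at hy ⊢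
      have h1 : (quotFactor hK p hKJ).toAlgHom (quotMk C' K hK b) = p.toAlgHom b := rfl
      rw [← h1]
      exact hy
    have : a * b = 0 := by
      have : a * b ∈ IsLocalRing.maximalIdeal C' * RingHom.ker p.toAlgHom := Ideal.mul_mem_mul ha hb
      rwa [hp.2, Ideal.mem_bot] at this
    rw [Ideal.mem_bot]
    have h2 : quotMk C' K hK a * quotMk C' K hK b = quotMk C' K hK (a * b) :=
      (map_mul (quotMk C' K hK).toAlgHom a b).symm
    rw [h2, this]
    exact map_zero (quotMk C' K hK).toAlgHom

/-- If the obstruction dies under a functional `φ` (with `φ j₀ = 1`), the element lifts modulo `ker φ`. -/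
theorem exists_lift_of_lTensor_eq_zero_art {F : Art k k ⥤ Type v} {V : Type u} [AddCommGroup V] [Module k V]
    (T : ObsTheory F V) {C' C : Art k k} (p : C' ⟶ C) (hp : IsSemismallExt p) (u : F.obj C)
    (φ : ↥(RingHom.ker p.toAlgHom) →ₗ[k] k) (j₀ : ↥(RingHom.ker p.toAlgHom)) (hj₀ : φ j₀ = 1)
    (hφ : LinearMap.lTensor V φ (T.obs p hp u) = 0) :
    ∃ u' : F.obj (quot C' (kerIdealArt p hp φ) ((kerIdealArt_le p hp φ).trans (ker_le_maximalIdeal p))),
      F.map (quotFactor ((kerIdealArt_le p hp φ).trans (ker_le_maximalIdeal p)) p (kerIdealArt_le p hp φ)) u' = u := by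
  have hK := (kerIdealArt_le p hp φ).trans (ker_le_maximalIdeal p)
  have hKJ := kerIdealArt_le p hp φ
  have hq := isSemismallExt_quotFactor p hp hK hKJ
  have hobs := T.obs_quot p hp _ hK hKJ hq u
  have hfac : (kerToQuot hK p hKJ).restrictScalars k =
      (LinearMap.toSpanSingleton k _ (kerToQuot hK p hKJ j₀)) ∘ₗ φ := by
    apply LinearMap.ext
    intro j
    rw [LinearMap.comp_apply, LinearMap.toSpanSingleton_apply]
    have h1 : φ (j - φ j • j₀) = 0 := by
      rw [map_sub, map_smul, hj₀, smul_eq_mul, mul_one, sub_self]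
    have h2 : ((j - φ j • j₀ : ↥(RingHom.ker p.toAlgHom)) : C') ∈ kerIdealArt p hp φ :=
      (mem_kerIdealArt p hp φ _).2 h1
    have h3 : kerToQuot hK p hKJ (j - φ j • j₀) = 0 := by
      apply Subtype.ext
      change Ideal.Quotient.mk _ ((j - φ j • j₀ : ↥(RingHom.ker p.toAlgHom)) : C') = 0
      exact Ideal.Quotient.eq_zero_iff_mem.2 h2
    rw [map_sub, map_smul] at h3
    exact sub_eq_zero.1 h3
  rw [hfac, LinearMap.lTensor_comp, LinearMap.comp_apply, hφ, map_zero] at hobs
  exact (T.obs_eq_zero_iff _ hq u).1 hobs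

end KerIdeal

section PresArt

variable {k : Type u} [Field k] {P : Type u} [CommRing P] [IsLocalRing P] [Algebra k P]
  (resP : P →ₐ[k] k)

theorem resP_surjective : Function.Surjective resP := fun c => ⟨algebraMap k P c, by
  rw [AlgHom.commutes, Algebra.algebraMap_self, RingHom.id_apply]⟩

theorem resP_eq_zero_iff (x : P) : resP x = 0 ↔ x ∈ IsLocalRing.maximalIdeal P := by
  have hmax : (RingHom.ker (resP : P →+* k)).IsMaximal :=
    RingHom.ker_isMaximal_of_surjective (resP : P →+* k) (resP_surjective resP)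
  have := IsLocalRing.eq_maximalIdeal hmax
  rw [← this, RingHom.mem_ker]
  rfl

include resP in
theorem hres_of_resP : Function.Surjective (algebraMap k (IsLocalRing.ResidueField P)) := by
  intro y
  obtain ⟨x, rfl⟩ := IsLocalRing.residue_surjective y
  refine ⟨resP x, ?_⟩
  have h1 : x - algebraMap k P (resP x) ∈ IsLocalRing.maximalIdeal P := by
    rw [← resP_eq_zero_iff resP, map_sub, AlgHom.commutes, Algebra.algebraMap_self, RingHom.id_apply, sub_self]
  have h2 := (IsLocalRing.residue_eq_zero_iff _).2 h1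
  rw [map_sub, sub_eq_zero] at h2
  rw [h2]
  rfl

variable [IsNoetherianRing P]

/-- `P/L` as an object of `Art k k`, when `m^N ≤ L ≤ m`. -/
noncomputable def artOfLocQuot (L : Ideal P) (N : ℕ) (hN : IsLocalRing.maximalIdeal P ^ N ≤ L)
    (hL : L ≤ IsLocalRing.maximalIdeal P) : Art k k :=
  haveI : Nontrivial (P ⧸ L) := Ideal.Quotient.nontrivial_iff.2
    (fun h => (IsLocalRing.maximalIdeal.isMaximal P).ne_top (top_le_iff.1 (h ▸ hL)))
  haveI : IsLocalRing (P ⧸ L) :=
    IsLocalRing.of_surjective' (Ideal.Quotient.mk L) Ideal.Quotient.mk_surjective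
  { carrier := P ⧸ L
    isLocalRing := inferInstance
    isArtinianRing := by
      rw [isArtinianRing_iff_isNilpotent_maximalIdeal]
      refine ⟨N, ?_⟩
      rw [Ideal.zero_eq_bot, ← le_bot_iff]
      have hmax : IsLocalRing.maximalIdeal (P ⧸ L) ≤ (IsLocalRing.maximalIdeal P).map (Ideal.Quotient.mk L) := by
        intro x hx
        obtain ⟨a, rfl⟩ := Ideal.Quotient.mk_surjective x
        refine Ideal.mem_map_of_mem _ ?_
        rw [IsLocalRing.mem_maximalIdeal] at hx ⊢
        exact fun hu => hx (hu.map (Ideal.Quotient.mk L))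
      calc IsLocalRing.maximalIdeal (P ⧸ L) ^ N
          ≤ ((IsLocalRing.maximalIdeal P).map (Ideal.Quotient.mk L)) ^ N := Ideal.pow_right_mono hmax _
        _ = (IsLocalRing.maximalIdeal P ^ N).map (Ideal.Quotient.mk L) := by rw [← Ideal.map_pow]
        _ ≤ L.map (Ideal.Quotient.mk L) := Ideal.map_mono hN
        _ = ⊥ := Ideal.map_quotient_self _
    res := Ideal.Quotient.liftₐ L resP (fun a ha => (resP_eq_zero_iff resP a).2 (hL ha))
    res_surjective := fun c => by
      obtain ⟨a, ha⟩ := resP_surjective resP c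
      exact ⟨Ideal.Quotient.mk L a, ha⟩ }

end PresArt

section RelArt

variable {k : Type u} [Field k] {P : Type u} [CommRing P] [IsLocalRing P] [IsNoetherianRing P] [Algebra k P]
  (resP : P →ₐ[k] k) (I : Ideal P) (hI : I ≤ IsLocalRing.maximalIdeal P) {N : ℕ} (hN : 1 ≤ N)

/-- `C'_N = P/(mI + m^N)` as an object. -/
noncomputable def relArt : Art k k :=
  artOfLocQuot resP (relIdeal I N) N le_sup_right (relIdeal_le_max I hN)

/-- The projection `P → C'_N`. -/
noncomputable def relMk : P →ₐ[k] (relArt resP I hN) :=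
  show P →ₐ[k] (P ⧸ relIdeal I N) from Ideal.Quotient.mkₐ k (relIdeal I N)

theorem relMk_surjective : Function.Surjective (relMk resP I hN) :=
  Ideal.Quotient.mkₐ_surjective k (relIdeal I N)

theorem relMk_eq_zero_iff (x : P) : relMk resP I hN x = 0 ↔ x ∈ relIdeal I N :=
  Ideal.Quotient.eq_zero_iff_mem

theorem res_relMk (x : P) : (relArt resP I hN).res (relMk resP I hN x) = resP x := rfl

/-- The image of `I` in `C'_N`. -/
noncomputable def relK : Ideal (relArt resP I hN) := I.map (relMk resP I hN)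

theorem mem_relK_iff (y : relArt resP I hN) :
    y ∈ relK resP I hN ↔ ∃ b ∈ I, relMk resP I hN b = y :=
  Ideal.mem_map_iff_of_surjective (relMk resP I hN) (relMk_surjective resP I hN)

include hI in
theorem relK_le_max : relK resP I hN ≤ IsLocalRing.maximalIdeal (relArt resP I hN) := by
  intro y hy
  obtain ⟨b, hb, rfl⟩ := (mem_relK_iff resP I hN y).1 hy
  rw [Art.mem_maximalIdeal_iff, res_relMk]
  exact (resP_eq_zero_iff resP b).2 (hI hb)

/-- `C_N = C'_N / I C'_N`. -/
noncomputable def relC : Art k k := quot (relArt resP I hN) (relK resP I hN) (relK_le_max resP I hI hN)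

/-- The projection `C'_N → C_N`. -/
noncomputable def relP : relArt resP I hN ⟶ relC resP I hI hN :=
  quotMk (relArt resP I hN) (relK resP I hN) (relK_le_max resP I hI hN)

theorem ker_relP : RingHom.ker (relP resP I hI hN).toAlgHom = relK resP I hN :=
  Ideal.Quotient.mkₐ_ker k (relK resP I hN)

theorem mem_maximalIdeal_relArt (a : P) :
    relMk resP I hN a ∈ IsLocalRing.maximalIdeal (relArt resP I hN) ↔
      a ∈ IsLocalRing.maximalIdeal P := by
  rw [Art.mem_maximalIdeal_iff, ← resP_eq_zero_iff resP, res_relMk]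

theorem relMk_mul_eq_zero {a b : P} (ha : a ∈ IsLocalRing.maximalIdeal P) (hb : b ∈ I) :
    relMk resP I hN a * relMk resP I hN b = 0 := by
  rw [← map_mul, relMk_eq_zero_iff]
  exact le_sup_left (a := IsLocalRing.maximalIdeal P • I) (Submodule.smul_mem_smul ha hb)

theorem relP_semismall : IsSemismallExt (relP resP I hI hN) := by
  refine ⟨quotMk_surjective _ _ _, ?_⟩
  rw [ker_relP, ← le_bot_iff, Ideal.mul_le]
  intro x hx y hy
  obtain ⟨a, rfl⟩ := relMk_surjective resP I hN x
  obtain ⟨b, hb, rfl⟩ := (mem_relK_iff resP I hN y).1 hy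
  rw [mem_maximalIdeal_relArt] at hx
  rw [Ideal.mem_bot]
  exact relMk_mul_eq_zero resP I hN hx hb

variable {R : Type u} [CommRing R] [Algebra k R] (resR : R →ₐ[k] k) (g : P →ₐ[k] R)
  (hg : Function.Surjective g) (hcomp : resR.comp g = resP) (hker : ∀ x, g x = 0 ↔ x ∈ I)

/-- The canonical point `R → C_N`. -/
noncomputable def relU : HomSet R resR (relC resP I hI hN) :=
  ⟨AlgHom.liftOfSurjective g hg
      ((relP resP I hI hN).toAlgHom.comp (relMk resP I hN)) (by
        intro x hx
        have hx' : x ∈ I := (hker x).1 hx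
        rw [RingHom.mem_ker]
        change (relP resP I hI hN).toAlgHom (relMk resP I hN x) = 0
        rw [← RingHom.mem_ker, ker_relP]
        exact Ideal.mem_map_of_mem _ hx'), by
    apply AlgHom.ext
    intro y
    obtain ⟨x, rfl⟩ := hg y
    rw [AlgHom.comp_apply, AlgHom.liftOfSurjective_apply]
    have h1 : resR (g x) = resP x := AlgHom.congr_fun hcomp x
    rw [h1]
    exact Art.res_app (relP resP I hI hN) _⟩

theorem relU_apply (x : P) :
    (relU resP I hI hN resR g hg hcomp hker).1 (g x) =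
      (relP resP I hI hN).toAlgHom (relMk resP I hN x) :=
  AlgHom.liftOfSurjective_apply _ _ _ _ _

/-- Injectivity of `(ker p_N)^∨ → V` when `I ≤ m²`. -/
theorem functional_eq_zero_art (hI2 : I ≤ IsLocalRing.maximalIdeal P ^ 2)
    {V : Type u} [AddCommGroup V] [Module k V] (T : ObsTheory (hR R resR) V)
    (φ : ↥(RingHom.ker (relP resP I hI hN).toAlgHom) →ₗ[k] k)
    (hφ : LinearMap.lTensor V φ (T.obs (relP resP I hI hN) (relP_semismall resP I hI hN)
      (relU resP I hI hN resR g hg hcomp hker)) = 0) : φ = 0 := by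
  by_contra hne
  obtain ⟨j, hj⟩ : ∃ j, φ j ≠ 0 := by
    by_contra h
    push Not at h
    exact hne (LinearMap.ext h)
  have hj₀ : φ ((φ j)⁻¹ • j) = 1 := by rw [map_smul, smul_eq_mul, inv_mul_cancel₀ hj]
  obtain ⟨u', hu'⟩ := exists_lift_of_lTensor_eq_zero_art T (relP resP I hI hN) (relP_semismall resP I hI hN)
    (relU resP I hI hN resR g hg hcomp hker) φ _ hj₀ hφ
  have hKJ := kerIdealArt_le (relP resP I hI hN) (relP_semismall resP I hI hN) φ
  have hK := hKJ.trans (ker_le_maximalIdeal (relP resP I hI hN))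
  have hu'' : HomSet.map (quotFactor hK (relP resP I hI hN) hKJ)
      (show HomSet R resR (quot (relArt resP I hN) _ hK) from u') =
      relU resP I hI hN resR g hg hcomp hker := hu'
  have hcore := map_eq_zero_of_le_sq (IsLocalRing.maximalIdeal P) I hI2
    (((quotMk (relArt resP I hN) _ hK).toAlgHom.comp (relMk resP I hN) : P →ₐ[k] _) : P →+* _)
    (((show HomSet R resR (quot (relArt resP I hN) _ hK) from u').1.comp g : P →ₐ[k] _) : P →+* _)
    (RingHom.ker (quotFactor hK (relP resP I hI hN) hKJ).toAlgHom) ?_ ?_ ?_ ?_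
  · apply hj
    have hj1 : (j : relArt resP I hN) ∈ relK resP I hN := by
      rw [← ker_relP resP I hI hN]; exact j.2
    obtain ⟨b, hb, hbj⟩ := (mem_relK_iff resP I hN _).1 hj1
    have h1 : quotMk (relArt resP I hN) _ hK (relMk resP I hN b) = 0 := hcore b hb
    rw [quotMk_eq_zero_iff, hbj] at h1
    exact (mem_kerIdealArt _ _ φ j).1 h1
  · intro x hx
    change (show HomSet R resR (quot (relArt resP I hN) _ hK) from u').1 (g x) = 0
    rw [(hker x).2 hx, map_zero]
  · intro x
    rw [RingHom.mem_ker, map_sub, sub_eq_zero]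
    have h1 := AlgHom.congr_fun (congrArg Subtype.val hu'') (g x)
    rw [relU_apply] at h1
    exact h1.symm
  · intro x hx y hy
    obtain ⟨y', rfl⟩ := quotMk_surjective (relArt resP I hN) _ hK y
    have hy' : y' ∈ relK resP I hN := by
      rw [← ker_relP resP I hI hN, RingHom.mem_ker]
      exact RingHom.mem_ker.1 hy
    obtain ⟨b, hb, rfl⟩ := (mem_relK_iff resP I hN _).1 hy'
    change quotMk (relArt resP I hN) _ hK (relMk resP I hN x) * quotMk (relArt resP I hN) _ hK (relMk resP I hN b) = 0
    have h2 : quotMk (relArt resP I hN) _ hK (relMk resP I hN x) * quotMk (relArt resP I hN) _ hK (relMk resP I hN b) =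
        quotMk (relArt resP I hN) _ hK (relMk resP I hN x * relMk resP I hN b) :=
      (map_mul (quotMk (relArt resP I hN) _ hK).toAlgHom _ _).symm
    rw [h2, relMk_mul_eq_zero resP I hN hx hb]
    exact map_zero (quotMk (relArt resP I hN) _ hK).toAlgHom
  · intro a ha b hb
    obtain ⟨a', rfl⟩ := quotMk_surjective (relArt resP I hN) _ hK a
    obtain ⟨b', rfl⟩ := quotMk_surjective (relArt resP I hN) _ hK b
    have ha' : a' ∈ relK resP I hN := by
      rw [← ker_relP resP I hI hN, RingHom.mem_ker]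
      exact RingHom.mem_ker.1 ha
    have hb' : b' ∈ relK resP I hN := by
      rw [← ker_relP resP I hI hN, RingHom.mem_ker]
      exact RingHom.mem_ker.1 hb
    obtain ⟨a'', ha'', rfl⟩ := (mem_relK_iff resP I hN _).1 ha'
    obtain ⟨b'', hb'', rfl⟩ := (mem_relK_iff resP I hN _).1 hb'
    have h2 : quotMk (relArt resP I hN) _ hK (relMk resP I hN a'') * quotMk (relArt resP I hN) _ hK (relMk resP I hN b'') =
        quotMk (relArt resP I hN) _ hK (relMk resP I hN a'' * relMk resP I hN b'') :=
      (map_mul (quotMk (relArt resP I hN) _ hK).toAlgHom _ _).symm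
    rw [h2, relMk_mul_eq_zero resP I hN (hI ha'') hb'']
    exact map_zero (quotMk (relArt resP I hN) _ hK).toAlgHom

/-- The kernel of `p_N` is (`k`-linearly) the image of `I` in `P/L_N`. -/
noncomputable def kerRelPEquiv :
    ↥(RingHom.ker (relP resP I hI hN).toAlgHom) ≃ₗ[k] ↥(I.map (Ideal.Quotient.mk (relIdeal I N))) where
  toFun j := ⟨(show P ⧸ relIdeal I N from j.1), by
    have hj1 : (j : relArt resP I hN) ∈ relK resP I hN := by
      rw [← ker_relP resP I hI hN]; exact j.2
    obtain ⟨b, hb, hbj⟩ := (mem_relK_iff resP I hN _).1 hj1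
    rw [← hbj]
    exact Ideal.mem_map_of_mem (Ideal.Quotient.mk (relIdeal I N)) hb⟩
  invFun j := ⟨(show (relArt resP I hN) from j.1), by
    rw [ker_relP]
    obtain ⟨b, hb, hbj⟩ := (Ideal.mem_map_iff_of_surjective (Ideal.Quotient.mk (relIdeal I N))
      Ideal.Quotient.mk_surjective).1 j.2
    rw [← hbj]
    exact Ideal.mem_map_of_mem (relMk resP I hN) hb⟩
  map_add' _ _ := rfl
  map_smul' _ _ := rfl
  left_inv _ := rfl
  right_inv _ := rfl

include hI hN hg hcomp hker in
theorem finrank_relKer_le_art (hI2 : I ≤ IsLocalRing.maximalIdeal P ^ 2)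
    {V : Type u} [AddCommGroup V] [Module k V] [Module.Finite k V] (T : ObsTheory (hR R resR) V) :
    Module.Finite k ↥(I.map (Ideal.Quotient.mk (relIdeal I N))) ∧
      Module.finrank k ↥(I.map (Ideal.Quotient.mk (relIdeal I N))) ≤ Module.finrank k V := by
  let Φ : Module.Dual k ↥(RingHom.ker (relP resP I hI hN).toAlgHom) →ₗ[k] V :=
    (TensorProduct.rid k V).toLinearMap ∘ₗ
      ((LinearMap.lTensorHom V).flip (T.obs (relP resP I hI hN) (relP_semismall resP I hI hN)
        (relU resP I hI hN resR g hg hcomp hker)))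
  have hinj : Function.Injective Φ := by
    rw [← LinearMap.ker_eq_bot, LinearMap.ker_eq_bot']
    intro φ h
    apply functional_eq_zero_art resP I hI hN resR g hg hcomp hker hI2 T φ
    have h1 : (TensorProduct.rid k V) (LinearMap.lTensor V φ (T.obs (relP resP I hI hN)
      (relP_semismall resP I hI hN) (relU resP I hI hN resR g hg hcomp hker))) = 0 := h
    exact (TensorProduct.rid k V).map_eq_zero_iff.1 h1
  haveI hfd : Module.Finite k (Module.Dual k ↥(RingHom.ker (relP resP I hI hN).toAlgHom)) :=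
    Module.Finite.of_injective Φ hinj
  haveI hf : Module.Finite k ↥(RingHom.ker (relP resP I hI hN).toAlgHom) := (Module.finite_dual_iff k).1 hfd
  refine ⟨Module.Finite.equiv (kerRelPEquiv resP I hI hN), ?_⟩
  rw [← (kerRelPEquiv resP I hI hN).finrank_eq, ← Subspace.dual_finrank_eq]
  exact LinearMap.finrank_le_finrank_of_injective hinj

end RelArt

section MainArt

variable {k : Type u} [Field k] {P : Type u} [CommRing P] [IsLocalRing P] [IsNoetherianRing P] [Algebra k P]

/-- **Generator bound, functor form**: if `g : P → R` is a surjection of augmented `k`-algebras from a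
Noetherian local ring with kernel `I ≤ m²` and `h_R` has an obstruction theory with values in `V`, then
`I` is generated by at most `dim V` elements. -/
theorem spanFinrank_le_of_obsTheory_art (resP : P →ₐ[k] k) (I : Ideal P)
    (hI2 : I ≤ IsLocalRing.maximalIdeal P ^ 2)
    {R : Type u} [CommRing R] [Algebra k R] (resR : R →ₐ[k] k) (g : P →ₐ[k] R)
    (hg : Function.Surjective g) (hcomp : resR.comp g = resP) (hker : ∀ x, g x = 0 ↔ x ∈ I)
    {V : Type u} [AddCommGroup V] [Module k V] [Module.Finite k V] (T : ObsTheory (hR R resR) V) :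
    I.spanFinrank ≤ Module.finrank k V :=
  spanFinrank_le_of_forall_finrank_le I _ fun _ hN =>
    finrank_relKer_le_art resP I (hI2.trans (Ideal.pow_le_self two_ne_zero)) hN resR g hg hcomp hker hI2 T

end MainArt

end Groth.Agent.Lib.Helper19
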