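import Groth.Agent.Lib.Helper19ObsDefH
import Groth.Agent.Lib.Helper19ObsDefI
import Groth.Agent.Lib.Helper19DefHullAff
import Groth.Agent.Lib.Helper19PsDim
import Groth.Agent.Lib.Helper19RegLift
import Groth.Agent.Lib.Helper19ObsDim

/-!
# The tangent space of `Def_{B₀}` is `T¹` and the dimension of a hull (helper19)
-/

set_option autoImplicit false
set_option linter.unusedSectionVars false
set_option linter.style.haveILetI false
universe u v

open CategoryTheory CategoryTheory.Limits AlgebraicGeometry ArtFun ArtFun.Art TensorProduct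

namespace Groth.Agent.Lib.Helper19.ObsDef

open Groth.Agent.Lib.Helper19 Groth.Agent.Lib.Helper19.DefAff Groth.Agent.Lib.Helper19.DefGlue
  Groth.Agent.Lib.Helper19.DefDual Groth.Agent.Lib.Helper19.DefTan
  Groth.Agent.Lib.Helper19.ExalT1 Groth.Agent.Lib.Helper19.CotTIndep

attribute [local instance] Exal.opModule Exal.isCentralScalar_opModule

section tangentT1

variable {Λ k : Type u} [CommRing Λ] [Field k] [Algebra Λ k]
variable {B₀ : Type u} [CommRing B₀] [Algebra k B₀]
variable {ι σ : Type u} (P : Algebra.Presentation k B₀ ι σ)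

/-- extensions with the same first-order deformation class are equivalent -/
theorem equiv_of_Psi_eq {X Y : Exal.Ext k B₀ B₀} (h : Psi Λ X = Psi Λ Y) :
    Nonempty (X.Equiv Y) := by
  obtain ⟨e⟩ := Quotient.exact h
  have e' : (defOfExt X).Iso (defOfExt Y) := ⟨e.iso, e.hom_f, e.i_hom⟩
  obtain ⟨θ⟩ := extOfDef_equiv_of_iso e'
  obtain ⟨θX⟩ := extOfDef_defOfExt X
  obtain ⟨θY⟩ := extOfDef_defOfExt Y
  exact ⟨(θX.symm.trans θ.symm).trans θY⟩

variable [T : TangentStr (G Λ k B₀)]

theorem ker_tanMap_eq :
    LinearMap.ker (tanMap (Λ := Λ) P) =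
      (LinearMap.range (LinearMap.lcomp B₀ B₀ P.toExtension.cotangentComplex)).restrictScalars k := by
  apply le_antisymm _ (range_le_ker_tanMap P)
  intro φ hφ
  rw [LinearMap.mem_ker, ← map_zero (tanMap (Λ := Λ) P), tanMap_apply, tanMap_apply] at hφ
  have h1 : PsiPhi Λ P φ = PsiPhi Λ P 0 := hφ
  obtain ⟨θ⟩ := equiv_of_Psi_eq (Λ := Λ) h1
  have h2 : Φ P B₀ φ = Φ P B₀ 0 := Quotient.sound ⟨θ⟩
  rw [Φ_eq_iff, sub_zero] at h2
  exact h2

/-- the tangent space of the deformation functor of `Spec B₀` has the dimension of `T¹` -/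
theorem finrank_tangentSpace_eq_T1 :
    Module.finrank k (TangentSpace (G Λ k B₀)) = Module.finrank k (CotT.T1 P B₀) := by
  let W := LinearMap.range (LinearMap.lcomp B₀ B₀ P.toExtension.cotangentComplex)
  let e1 : ((P.toExtension.Cotangent →ₗ[B₀] B₀) ⧸ LinearMap.ker (tanMap (Λ := Λ) P)) ≃ₗ[k]
      TangentSpace (G Λ k B₀) :=
    (tanMap (Λ := Λ) P).quotKerEquivOfSurjective (tanMap_surjective P)
  let e2 : ((P.toExtension.Cotangent →ₗ[B₀] B₀) ⧸ LinearMap.ker (tanMap (Λ := Λ) P)) ≃ₗ[k]
      ((P.toExtension.Cotangent →ₗ[B₀] B₀) ⧸ W.restrictScalars k) :=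
    Submodule.quotEquivOfEq _ _ (ker_tanMap_eq P)
  let e3 : ((P.toExtension.Cotangent →ₗ[B₀] B₀) ⧸ W.restrictScalars k) ≃ₗ[k]
      C1 P.toExtension B₀ := Submodule.Quotient.restrictScalarsEquiv k W
  let e4 : C1 P.toExtension B₀ ≃ₗ[k] CotT.T1 P B₀ := (T1equivC1 P B₀).symm.restrictScalars k
  rw [← e1.finrank_eq, e2.finrank_eq, e3.finrank_eq, e4.finrank_eq]

end tangentT1

section tangentHull

variable {k : Type u} [Field k] {F : Art k k ⥤ Type v} [T : TangentStr F]

/-- the characteristic map of a family on derivations -/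
noncomputable def derToTangent (R : CRing k k) (ξ : Family R.carrier R.res F)
    [Algebra R.carrier k] [IsScalarTower k R.carrier k]
    (hres : ∀ r, algebraMap R.carrier k r = R.res r) :
    Derivation k R.carrier k →ₗ[k] TangentSpace F where
  toFun := fun D => TangentSpace.mk (ξ.app (dual k k) (derHomSet R.res hres D))
  map_add' := by
    intro D₁ D₂
    rw [← derHomSet2_plus R.res hres D₁ D₂, ξ.natural, ← tangent_add_eq,
      ← ξ.natural, ← ξ.natural, derHomSet2_pr₁, derHomSet2_pr₂]
  map_smul' := by
    intro c D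
    rw [RingHom.id_apply, tangent_smul_eq, ← derHomSet_scale R.res hres c D, ξ.natural]
    rfl

theorem derToTangent_bijective (R : CRing k k) (ξ : Family R.carrier R.res F)
    [Algebra R.carrier k] [IsScalarTower k R.carrier k]
    (hres : ∀ r, algebraMap R.carrier k r = R.res r)
    (hb : Function.Bijective (ξ.app (dual k k))) :
    Function.Bijective (derToTangent R ξ hres) := by
  constructor
  · intro D D' h
    have h1 : derHomSet R.res hres D = derHomSet R.res hres D' := hb.1 h
    ext r
    have h2 := congrArg (fun φ : HomSet R.carrier R.res (dual k k) => dsnd (φ.1 r)) h1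
    exact h2
  · intro x
    obtain ⟨φ, hφ⟩ := hb.2 x.val
    obtain ⟨D, rfl⟩ := derHomSet_surjective R.res hres φ
    exact ⟨D, hφ⟩

/-- the tangent space of a functor with a hull has the embedding dimension of the hull -/
theorem finrank_tangentSpace_eq_embdim (H : Hull F) :
    Module.finrank k (TangentSpace F) =
      Module.finrank (IsLocalRing.ResidueField H.ring.carrier)
        (IsLocalRing.CotangentSpace H.ring.carrier) := by
  letI : Algebra H.ring.carrier k := (H.ring.res : H.ring.carrier →+* k).toAlgebra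
  haveI : IsScalarTower k H.ring.carrier k :=
    IsScalarTower.of_algebraMap_eq (fun r => (H.ring.res.commutes r).symm)
  have hres : ∀ r, algebraMap H.ring.carrier k r = H.ring.res r := fun _ => rfl
  let e := LinearEquiv.ofBijective (derToTangent H.ring H.family hres)
    (derToTangent_bijective H.ring H.family hres H.miniversal.2)
  rw [← e.finrank_eq]
  exact finrank_derivation_eq (k := k) (R := H.ring.carrier)

/-- a smooth functor has the trivial obstruction theory -/
noncomputable def obsTheoryOfSmooth (hF : IsSmoothFunctor F) : ObsTheory F PUnit.{u + 1} where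
  obs := fun {_ _} _ _ _ => 0
  obs_eq_zero_iff := fun p hp u => ⟨fun _ => hF p hp.1 u, fun _ => rfl⟩
  obs_quot := fun _ _ _ _ _ _ _ => Subsingleton.elim _ _

end tangentHull

end Groth.Agent.Lib.Helper19.ObsDef
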