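import Mathlib
import Groth.Agent.Lib.Helper19DerivDim

set_option autoImplicit false
universe u

namespace Groth.Agent.Lib.Helper19.OmegaFreeRegular

open IsLocalRing

variable {k R : Type u} [Field k] [CommRing R] [Algebra k R] [IsLocalRing R]

/-- the retraction `R → k` when `k → κ` is surjective -/
noncomputable def cHom (hres : Function.Surjective (algebraMap k (ResidueField R))) : R →+* k :=
  ((RingEquiv.ofBijective (algebraMap k (ResidueField R))
    ⟨(algebraMap k (ResidueField R)).injective, hres⟩).symm : ResidueField R →+* k).comp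
    (residue R)

theorem cHom_algebraMap (hres : Function.Surjective (algebraMap k (ResidueField R))) (a : k) :
    cHom hres (algebraMap k R a) = a := by
  unfold cHom
  rw [RingHom.comp_apply]
  have h1 : residue R (algebraMap k R a) = algebraMap k (ResidueField R) a := rfl
  rw [h1]
  exact (RingEquiv.ofBijective (algebraMap k (ResidueField R))
    ⟨(algebraMap k (ResidueField R)).injective, hres⟩).symm_apply_apply a

theorem sub_cHom_mem (hres : Function.Surjective (algebraMap k (ResidueField R))) (r : R) :
    r - algebraMap k R (cHom hres r) ∈ maximalIdeal R := by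
  rw [← residue_eq_zero_iff, map_sub, sub_eq_zero]
  have h1 : residue R (algebraMap k R (cHom hres r)) = algebraMap k (ResidueField R) (cHom hres r) :=
    rfl
  rw [h1]
  unfold cHom
  rw [RingHom.comp_apply]
  exact ((RingEquiv.ofBijective (algebraMap k (ResidueField R))
    ⟨(algebraMap k (ResidueField R)).injective, hres⟩).apply_symm_apply _).symm

theorem cHom_eq_zero (hres : Function.Surjective (algebraMap k (ResidueField R))) (r : R)
    (hr : r ∈ maximalIdeal R) : cHom hres r = 0 := by
  unfold cHom
  rw [RingHom.comp_apply, (residue_eq_zero_iff r).2 hr, map_zero]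

/-- the `k`-algebra retraction -/
noncomputable def cAlg (hres : Function.Surjective (algebraMap k (ResidueField R))) : R →ₐ[k] k :=
  { cHom hres with commutes' := fun a => cHom_algebraMap hres a }

theorem cAlg_apply (hres : Function.Surjective (algebraMap k (ResidueField R))) (r : R) :
    cAlg hres r = cHom hres r := rfl

/-- the derivation `R → R/𝔪²`, `r ↦ r - c(r)` -/
noncomputable def delta (hres : Function.Surjective (algebraMap k (ResidueField R))) :
    Derivation k R (R ⧸ (maximalIdeal R) ^ 2) where
  toLinearMap := (Ideal.Quotient.mkₐ k ((maximalIdeal R) ^ 2)).toLinearMap ∘ₗ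
    (LinearMap.id - (Algebra.linearMap k R) ∘ₗ (cAlg hres).toLinearMap)
  map_one_eq_zero' := by
    simp
  leibniz' := by
    intro a b
    simp only [LinearMap.coe_comp, Function.comp_apply, LinearMap.sub_apply, LinearMap.id_apply,
      AlgHom.toLinearMap_apply, Algebra.linearMap_apply, Ideal.Quotient.mkₐ_eq_mk, cAlg_apply]
    have h1 : ∀ (r : R) (z : R), r • (Ideal.Quotient.mk ((maximalIdeal R) ^ 2) z)
        = Ideal.Quotient.mk ((maximalIdeal R) ^ 2) (r * z) := fun r z => rfl
    rw [h1, h1, ← map_add, Ideal.Quotient.eq, map_mul, map_mul]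
    have h2 : a * b - algebraMap k R (cHom hres a) * algebraMap k R (cHom hres b)
        - (a * (b - algebraMap k R (cHom hres b)) + b * (a - algebraMap k R (cHom hres a)))
        = -((a - algebraMap k R (cHom hres a)) * (b - algebraMap k R (cHom hres b))) := by ring
    rw [h2, pow_two]
    exact Ideal.neg_mem_iff _ |>.2 (Ideal.mul_mem_mul (sub_cHom_mem hres a) (sub_cHom_mem hres b))

theorem delta_apply (hres : Function.Surjective (algebraMap k (ResidueField R))) (r : R) :
    delta hres r = Ideal.Quotient.mk _ (r - algebraMap k R (cHom hres r)) := rfl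

theorem delta_of_mem (hres : Function.Surjective (algebraMap k (ResidueField R))) (r : R)
    (hr : r ∈ maximalIdeal R) : delta hres r = Ideal.Quotient.mk _ r := by
  rw [delta_apply, cHom_eq_zero hres r hr, map_zero, sub_zero]

theorem smul_delta_eq_zero (hres : Function.Surjective (algebraMap k (ResidueField R))) (x r : R)
    (hx : x ∈ maximalIdeal R) : x • delta hres r = 0 := by
  rw [delta_apply]
  show Ideal.Quotient.mk ((maximalIdeal R) ^ 2) (x * _) = 0
  rw [Ideal.Quotient.eq_zero_iff_mem, pow_two]
  exact Ideal.mul_mem_mul hx (sub_cHom_mem hres r)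

/-- Every differential is `d y` for some `y ∈ 𝔪`, modulo `𝔪 Ω`. -/
theorem exists_mem_maximalIdeal (hres : Function.Surjective (algebraMap k (ResidueField R)))
    (ω : Ω[R⁄k]) : ∃ y ∈ maximalIdeal R, KaehlerDifferential.D k R y - ω ∈
      (maximalIdeal R) • (⊤ : Submodule R (Ω[R⁄k])) := by
  have hω : ω ∈ Submodule.span R (Set.range (KaehlerDifferential.D k R)) := by
    rw [KaehlerDifferential.span_range_derivation]; exact Submodule.mem_top
  induction hω using Submodule.span_induction with
  | mem ω h =>
    obtain ⟨r, rfl⟩ := h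
    refine ⟨r - algebraMap k R (cHom hres r), sub_cHom_mem hres r, ?_⟩
    rw [map_sub, Derivation.map_algebraMap, sub_zero, sub_self]
    exact Submodule.zero_mem _
  | zero => exact ⟨0, Submodule.zero_mem _, by simp⟩
  | add ω₁ ω₂ _ _ h₁ h₂ =>
    obtain ⟨y₁, hy₁, h₁⟩ := h₁
    obtain ⟨y₂, hy₂, h₂⟩ := h₂
    refine ⟨y₁ + y₂, Ideal.add_mem _ hy₁ hy₂, ?_⟩
    rw [map_add, add_sub_add_comm]
    exact Submodule.add_mem _ h₁ h₂
  | smul a ω _ h =>
    obtain ⟨y, hy, h⟩ := h
    refine ⟨a * y, Ideal.mul_mem_left _ _ hy, ?_⟩
    rw [Derivation.leibniz]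
    have h1 : a • KaehlerDifferential.D k R y + y • KaehlerDifferential.D k R a - a • ω
        = a • (KaehlerDifferential.D k R y - ω) + y • KaehlerDifferential.D k R a := by
      rw [smul_sub]; abel
    rw [h1]
    exact Submodule.add_mem _ (Submodule.smul_mem _ _ h)
      (Submodule.smul_mem_smul hy Submodule.mem_top)

end Groth.Agent.Lib.Helper19.OmegaFreeRegular
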