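import Mathlib

set_option autoImplicit false
universe u

namespace Groth.Agent.Lib.Helper19.OmegaNonfree

/-- Projective-cover lemma: over a local ring, a surjection from a finitely generated module onto a
projective module whose kernel lies in `𝔪 • ⊤` is injective. -/
theorem injective_of_ker_le_smul_top {S : Type*} [CommRing S] [IsLocalRing S]
    {N P : Type*} [AddCommGroup N] [Module S N] [Module.Finite S N]
    [AddCommGroup P] [Module S P] [Module.Projective S P]
    (π : N →ₗ[S] P) (hπ : Function.Surjective π)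
    (hker : LinearMap.ker π ≤ (IsLocalRing.maximalIdeal S) • (⊤ : Submodule S N)) :
    Function.Injective π := by
  obtain ⟨s, hs⟩ := Module.projective_lifting_property π LinearMap.id hπ
  have hs' : ∀ x, π (s x) = x := fun x => LinearMap.congr_fun hs x
  have htop : (⊤ : Submodule S N) ≤ LinearMap.range s := by
    apply Submodule.le_of_le_smul_of_le_jacobson_bot (I := IsLocalRing.maximalIdeal S)
      Module.Finite.fg_top
    · rw [IsLocalRing.jacobson_eq_maximalIdeal ⊥ bot_ne_top]
    · intro x _
      have h1 : x - s (π x) ∈ LinearMap.ker π := by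
        rw [LinearMap.mem_ker, map_sub, hs', sub_self]
      have h2 : x = s (π x) + (x - s (π x)) := by abel
      rw [h2]
      exact Submodule.add_mem_sup ⟨_, rfl⟩ (hker h1)
  rw [← LinearMap.ker_eq_bot, eq_bot_iff]
  intro w hw
  obtain ⟨m, rfl⟩ := htop (Submodule.mem_top : w ∈ ⊤)
  rw [LinearMap.mem_ker, hs'] at hw
  rw [hw, map_zero]
  exact Submodule.zero_mem _

theorem mk_eq_zero_iff' {A : Type*} [CommRing A] {S : Submonoid A} {M : Type*} [AddCommGroup M]
    [Module A M] (m : M) (s : S) : LocalizedModule.mk m s = 0 ↔ ∃ c : S, c • m = 0 := by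
  rw [← LocalizedModule.zero_mk (1 : S), LocalizedModule.mk_eq]
  simp

section
variable {A : Type u} [CommRing A] {N₁ N₂ M : Type u} [AddCommGroup N₁] [Module A N₁]
  [AddCommGroup N₂] [Module A N₂] [AddCommGroup M] [Module A M]
  (φ : N₁ →ₗ[A] N₂) (π : N₂ →ₗ[A] M)

/-- if `φ = 0` then `M ≃ N₂` is free -/
theorem free_of_eq_zero [Module.Free A N₂] (hex : Function.Exact φ π)
    (hsurj : Function.Surjective π) (h0 : φ = 0) : Module.Free A M := by
  have hinj : Function.Injective π := by
    rw [← LinearMap.ker_eq_bot, eq_bot_iff]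
    intro x hx
    obtain ⟨y, rfl⟩ := (hex x).1 hx
    rw [h0, LinearMap.zero_apply]
    exact Submodule.zero_mem _
  exact Module.Free.of_equiv (LinearEquiv.ofBijective π ⟨hinj, hsurj⟩)

/-- if some coordinate of the generator of the image is a unit, `M` is free (local ring) -/
theorem free_of_isUnit [IsLocalRing A] (hex : Function.Exact φ π) (hsurj : Function.Surjective π)
    (b₁ : Module.Basis (Fin 1) A N₁) {ι : Type*} [Fintype ι] (b₂ : Module.Basis ι A N₂) (i : ι)
    (hu : IsUnit (b₂.repr (φ (b₁ 0)) i)) : Module.Free A M := by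
  classical
  obtain ⟨c, hc⟩ := hu.exists_left_inv
  let ρ : N₂ →ₗ[A] N₁ := (LinearMap.toSpanSingleton A N₁ (b₁ 0)) ∘ₗ (c • (b₂.coord i))
  have hρ : ρ ∘ₗ φ = LinearMap.id := by
    apply b₁.ext
    intro k
    have hk : k = 0 := Subsingleton.elim _ _
    subst hk
    simp only [ρ, LinearMap.comp_apply, LinearMap.smul_apply, Module.Basis.coord_apply,
      LinearMap.toSpanSingleton_apply, LinearMap.id_apply, smul_eq_mul, hc, one_smul]
  obtain ⟨e, he1, he2⟩ := hex.splitInjectiveEquiv hsurj ⟨ρ, hρ⟩
  haveI : Module.Free A N₂ := Module.Free.of_basis b₂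
  haveI : Module.Finite A N₂ := Module.Finite.of_basis b₂
  haveI : Module.Projective A M :=
    Module.Projective.of_split (e.symm.toLinearMap ∘ₗ LinearMap.inr A N₁ M) π (by
      ext m
      rw [he2]
      simp)
  haveI : Module.Finite A M := Module.Finite.of_surjective π hsurj
  exact Module.free_of_flat_of_isLocalRing

/-- Key: if all coordinates of the generator lie in the prime `Q` and `M_Q` is free, then `φ = 0`. -/
theorem eq_zero_of_free_localized [IsDomain A] (hex : Function.Exact φ π)
    (hsurj : Function.Surjective π)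
    (b₁ : Module.Basis (Fin 1) A N₁) {ι : Type*} [Fintype ι] (b₂ : Module.Basis ι A N₂)
    (Q : Ideal A) [Q.IsPrime] (hJ : ∀ i, b₂.repr (φ (b₁ 0)) i ∈ Q)
    (hfree : Module.Free (Localization.AtPrime Q) (LocalizedModule Q.primeCompl M)) :
    φ = 0 := by
  classical
  haveI : Module.Finite A N₂ := Module.Finite.of_basis b₂
  haveI : Module.Finite (Localization.AtPrime Q) (LocalizedModule Q.primeCompl N₂) :=
    inferInstance
  let π' := LocalizedModule.map Q.primeCompl π
  have hπ' : Function.Surjective π' := LocalizedModule.map_surjective _ π hsurj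
  -- elements `mk (φ x) t` lie in `𝔪 • ⊤`
  have hmem : ∀ (x : N₁) (t : Q.primeCompl),
      LocalizedModule.mk (φ x) t ∈ (IsLocalRing.maximalIdeal (Localization.AtPrime Q)) •
        (⊤ : Submodule (Localization.AtPrime Q) (LocalizedModule Q.primeCompl N₂)) := by
    intro x t
    have hx : x = (b₁.repr x 0) • b₁ 0 := by
      conv_lhs => rw [← b₁.sum_repr x]
      simp
    have h1 : φ x = ∑ i, ((b₁.repr x 0) * b₂.repr (φ (b₁ 0)) i) • b₂ i := by
      conv_lhs => rw [hx, map_smul, ← b₂.sum_repr (φ (b₁ 0)), Finset.smul_sum]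
      simp only [smul_smul]
    have h4 : LocalizedModule.mk (φ x) t = (Localization.mk 1 t : Localization.AtPrime Q) •
        LocalizedModule.mkLinearMap Q.primeCompl N₂ (φ x) := by
      rw [LocalizedModule.mkLinearMap_apply, LocalizedModule.mk_smul_mk, one_smul, mul_one]
    rw [h4]
    refine Submodule.smul_mem _ _ ?_
    rw [h1, map_sum]
    refine Submodule.sum_mem _ (fun i _ => ?_)
    rw [map_smul]
    have h5 : ∀ (a : A) (z : LocalizedModule Q.primeCompl N₂),
        a • z = algebraMap A (Localization.AtPrime Q) a • z :=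
      fun a z => (algebraMap_smul (Localization.AtPrime Q) a z).symm
    rw [h5]
    refine Submodule.smul_mem_smul ?_ Submodule.mem_top
    rw [← Localization.AtPrime.map_eq_maximalIdeal]
    exact Ideal.mem_map_of_mem _ (Q.mul_mem_left _ (hJ i))
  have hker : LinearMap.ker π' ≤ (IsLocalRing.maximalIdeal (Localization.AtPrime Q)) •
      (⊤ : Submodule (Localization.AtPrime Q) (LocalizedModule Q.primeCompl N₂)) := by
    intro y hy
    induction y using LocalizedModule.induction_on with
    | h n t =>
      rw [LinearMap.mem_ker, LocalizedModule.map_mk, mk_eq_zero_iff'] at hy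
      obtain ⟨c, hc⟩ := hy
      have h1 : π (c • n) = 0 := by
        rw [Submonoid.smul_def, map_smul]; exact hc
      obtain ⟨x, hx⟩ := (hex _).1 h1
      have h2 : LocalizedModule.mk n t = LocalizedModule.mk (φ x) (c * t) := by
        rw [hx, LocalizedModule.mk_cancel_common_left]
      rw [h2]
      exact hmem x _
  have hinj := injective_of_ker_le_smul_top π' hπ' hker
  -- hence `φ (b₁ 0)` is zero in the localization
  have h0 : LocalizedModule.mk (φ (b₁ 0)) (1 : Q.primeCompl) = 0 := by
    apply hinj
    show π' _ = π' 0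
    rw [map_zero π']
    show LocalizedModule.map Q.primeCompl π _ = 0
    rw [LocalizedModule.map_mk, hex.apply_apply_eq_zero, LocalizedModule.zero_mk]
  rw [mk_eq_zero_iff'] at h0
  obtain ⟨c, hc⟩ := h0
  have hc0 : (c : A) ≠ 0 := by
    intro h
    exact c.2 (h ▸ Q.zero_mem)
  have h1 : φ (b₁ 0) = 0 := by
    apply b₂.repr.injective
    ext i
    have h2 := congrArg (fun z => b₂.repr z i) hc
    simp only [Submonoid.smul_def, map_smul, Finsupp.smul_apply, smul_eq_mul, map_zero,
      Finsupp.zero_apply] at h2
    rcases mul_eq_zero.1 h2 with h | h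
    · exact absurd h hc0
    · simpa using h
  apply b₁.ext
  intro k
  have hk : k = 0 := Subsingleton.elim _ _
  subst hk
  rw [h1, LinearMap.zero_apply]

end

end Groth.Agent.Lib.Helper19.OmegaNonfree
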