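import Mathlib

/-!
# 1-generic bilinear maps: the dimension bound

Coordinates: a family of `w` bilinear forms `coef l : Fin m → Fin n → k` on `k^m × k^n` over an
algebraically closed field with `w + 1 < m + n` has a common zero `(α, β)` with `α ≠ 0`, `β ≠ 0`.

Proof: Segre ring `R = k[a_i b_j] ⊆ k[a, b]`; the origin `𝔪` has height `≥ m + n - 1` (explicit
chain of primes); if there were no nontrivial zero then `𝔪` would be the only maximal ideal
containing the `w` forms (Nullstellensatz + rank one matrices factor), so `𝔪` is minimal over them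
(Jacobson), and Krull's height theorem gives `ht 𝔪 ≤ w`.
-/

namespace Groth.Agent.Lib.Helper19.OneGeneric

open MvPolynomial

noncomputable section

variable (k : Type*) [Field k] (m n : ℕ)

abbrev σ := Fin m ⊕ Fin n
abbrev S := MvPolynomial (σ m n) k

open Classical in
/-- kill the variables in `T`. -/
def kill (T : Set (σ m n)) : S k m n →ₐ[k] S k m n :=
  aeval (fun v => if v ∈ T then 0 else X v)

/-- evaluation at the origin -/
def ev0 : S k m n →ₐ[k] k := aeval (fun _ => 0)

def gens : Set (S k m n) :=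
  Set.range fun p : Fin m × Fin n => (X (Sum.inl p.1) * X (Sum.inr p.2) : S k m n)

abbrev R : Subalgebra k (S k m n) := Algebra.adjoin k (gens k m n)

def zz (i : Fin m) (j : Fin n) : R k m n :=
  ⟨X (Sum.inl i) * X (Sum.inr j), Algebra.subset_adjoin ⟨(i, j), rfl⟩⟩

instance : Algebra.FiniteType k (R k m n) :=
  Algebra.FiniteType.adjoin_of_finite (Set.finite_range _)

instance : IsNoetherianRing (R k m n) := Algebra.FiniteType.isNoetherianRing k _

instance : IsJacobsonRing (R k m n) := isJacobsonRing_of_finiteType (A := k)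

variable {k m n}

lemma kill_comp_kill {T T' : Set (σ m n)} (h : T ⊆ T') :
    (kill k m n T').comp (kill k m n T) = kill k m n T' := by
  classical
  apply MvPolynomial.algHom_ext
  intro v
  simp only [kill, AlgHom.comp_apply, aeval_X]
  split_ifs with h1 h2
  · simp
  · exact absurd (h h1) h2
  · simp [*]
  · simp [*]

lemma ev0_comp_kill (T : Set (σ m n)) :
    (ev0 k m n).comp (kill k m n T) = ev0 k m n := by
  classical
  apply MvPolynomial.algHom_ext
  intro v
  simp only [kill, ev0, AlgHom.comp_apply, aeval_X]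
  split_ifs <;> simp

lemma kill_mul (T : Set (σ m n)) (u v : σ m n) (hu : u ∉ T) (hv : v ∉ T) :
    kill k m n T (X u * X v) = X u * X v := by
  classical
  simp [kill, hu, hv]

lemma kill_mul_left (T : Set (σ m n)) (u v : σ m n) (hu : u ∈ T) :
    kill k m n T (X u * X v) = 0 := by
  classical
  simp [kill, hu]

lemma kill_mul_right (T : Set (σ m n)) (u v : σ m n) (hv : v ∈ T) :
    kill k m n T (X u * X v) = 0 := by
  classical
  simp [kill, hv]

variable (k m n)

/-- the maximal ideal of the origin in the Segre ring -/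
def mm : Ideal (R k m n) := RingHom.ker ((ev0 k m n).comp (R k m n).val)

/-- the primes obtained by killing variables -/
def PP (T : Set (σ m n)) : Ideal (R k m n) := RingHom.ker ((kill k m n T).comp (R k m n).val)

instance : (mm k m n).IsMaximal := by
  unfold mm
  apply RingHom.ker_isMaximal_of_surjective
  intro c
  exact ⟨algebraMap k _ c, by simp⟩

instance (T : Set (σ m n)) : (PP k m n T).IsPrime := by
  unfold PP
  exact RingHom.ker_isPrime _

variable {k m n}

lemma PP_mono {T T' : Set (σ m n)} (h : T ⊆ T') : PP k m n T ≤ PP k m n T' := by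
  intro r hr
  simp only [PP, RingHom.mem_ker, AlgHom.comp_apply, Subalgebra.coe_val] at hr ⊢
  rw [← kill_comp_kill h, AlgHom.comp_apply, hr, map_zero]

lemma PP_le_mm (T : Set (σ m n)) : PP k m n T ≤ mm k m n := by
  intro r hr
  simp only [PP, mm, RingHom.mem_ker, AlgHom.comp_apply, Subalgebra.coe_val] at hr ⊢
  rw [← ev0_comp_kill T, AlgHom.comp_apply, hr, map_zero]

lemma PP_lt {T T' : Set (σ m n)} (h : T ⊆ T') (i : Fin m) (j : Fin n)
    (hi : Sum.inl i ∉ T) (hj : Sum.inr j ∉ T) (h' : Sum.inl i ∈ T' ∨ Sum.inr j ∈ T') :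
    PP k m n T < PP k m n T' := by
  refine lt_of_le_of_ne (PP_mono h) ?_
  intro heq
  have h1 : zz k m n i j ∈ PP k m n T' := by
    simp only [PP, RingHom.mem_ker, AlgHom.comp_apply, Subalgebra.coe_val, zz]
    rcases h' with h' | h'
    · exact kill_mul_left _ _ _ h'
    · exact kill_mul_right _ _ _ h'
  rw [← heq] at h1
  simp only [PP, RingHom.mem_ker, AlgHom.comp_apply, Subalgebra.coe_val, zz] at h1
  rw [kill_mul _ _ _ hi hj] at h1
  exact mul_ne_zero (X_ne_zero _) (X_ne_zero _) h1

/-- the rank function ordering the variables -/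
def rho (m n : ℕ) : σ m n → ℕ
  | Sum.inr j => if j.val = 0 then m + n else j.val - 1
  | Sum.inl i => if i.val = 0 then m + n - 2 else n + i.val - 2

def TT (m n t : ℕ) : Set (σ m n) := {v | rho m n v < t}

lemma TT_mono (t : ℕ) : TT m n t ⊆ TT m n (t + 1) := fun v hv => by
  simp only [TT, Set.mem_setOf_eq] at hv ⊢; omega

lemma le_height_PP (hm : 0 < m) (hn : 0 < n) (t : ℕ) (ht : t + 1 ≤ m + n) :
    (t : ℕ∞) ≤ (PP k m n (TT m n t)).height := by
  induction t with
  | zero => simp
  | succ t ih =>
    have ih' := ih (by omega)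
    have hlt : PP k m n (TT m n t) < PP k m n (TT m n (t + 1)) := by
      by_cases h1 : t + 1 < n
      · -- variable `inr (t+1)`, witness `a_0 b_{t+1}`
        refine PP_lt (TT_mono t) ⟨0, hm⟩ ⟨t + 1, h1⟩ ?_ ?_ (Or.inr ?_)
        · simp only [TT, rho, Set.mem_setOf_eq]; simp; omega
        · simp only [TT, rho, Set.mem_setOf_eq]; simp
        · simp only [TT, rho, Set.mem_setOf_eq]; simp
      · by_cases h2 : t + 2 < m + n
        · -- variable `inl (t - n + 2)`, witness `a_i b_0`
          refine PP_lt (TT_mono t) ⟨t + 2 - n, by omega⟩ ⟨0, hn⟩ ?_ ?_ (Or.inl ?_)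
          · simp only [TT, rho, Set.mem_setOf_eq]
            have : t + 2 - n ≠ 0 := by omega
            simp [this]; omega
          · simp only [TT, rho, Set.mem_setOf_eq]; simp; omega
          · simp only [TT, rho, Set.mem_setOf_eq]
            have : t + 2 - n ≠ 0 := by omega
            simp [this]; omega
        · -- variable `inl 0`, witness `a_0 b_0`
          refine PP_lt (TT_mono t) ⟨0, hm⟩ ⟨0, hn⟩ ?_ ?_ (Or.inl ?_)
          · simp only [TT, rho, Set.mem_setOf_eq]; simp; omega
          · simp only [TT, rho, Set.mem_setOf_eq]; simp; omega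
          · simp only [TT, rho, Set.mem_setOf_eq]; simp; omega
    calc ((t + 1 : ℕ) : ℕ∞) = (t : ℕ∞) + 1 := by push_cast; rfl
      _ ≤ (PP k m n (TT m n t)).height + 1 := by gcongr
      _ ≤ (PP k m n (TT m n (t + 1))).height := Ideal.height_add_one_le_of_lt_of_isPrime hlt

lemma le_height_mm (hm : 0 < m) (hn : 0 < n) :
    ((m + n - 1 : ℕ) : ℕ∞) ≤ (mm k m n).height :=
  (le_height_PP hm hn (m + n - 1) (by omega)).trans (Ideal.height_mono (PP_le_mm _))


/-! ### characters -/

section chars

variable [IsAlgClosed k]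

lemma exists_char (M : Ideal (R k m n)) [M.IsMaximal] :
    ∃ χ : R k m n →ₐ[k] k, RingHom.ker χ = M := by
  letI := Ideal.Quotient.field M
  haveI : Algebra.FiniteType k (R k m n ⧸ M) := inferInstance
  haveI : Module.Finite k (R k m n ⧸ M) := finite_of_finite_type_of_isJacobsonRing k _
  haveI : Algebra.IsIntegral k (R k m n ⧸ M) := inferInstance
  have hbij : Function.Bijective (algebraMap k (R k m n ⧸ M)) :=
    IsAlgClosed.algebraMap_bijective_of_isIntegral
  let e : k ≃ₐ[k] (R k m n ⧸ M) := AlgEquiv.ofBijective (Algebra.ofId k _) hbij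
  refine ⟨(e.symm : _ →ₐ[k] k).comp (Ideal.Quotient.mkₐ k M), ?_⟩
  ext r
  simp [RingHom.mem_ker, Ideal.Quotient.eq_zero_iff_mem]

lemma rank_one (χ : R k m n →ₐ[k] k) (i i' : Fin m) (j j' : Fin n) :
    χ (zz k m n i j) * χ (zz k m n i' j') = χ (zz k m n i j') * χ (zz k m n i' j) := by
  rw [← map_mul, ← map_mul]
  congr 1
  apply Subtype.ext
  simp only [zz, MulMemClass.mk_mul_mk]
  ring

/-- the bilinear form with coefficients `c` as an element of the Segre ring -/
def ff (c : Fin m → Fin n → k) : R k m n := ∑ i, ∑ j, c i j • zz k m n i j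

lemma zz_mem_mm (i : Fin m) (j : Fin n) : zz k m n i j ∈ mm k m n := by
  simp [mm, RingHom.mem_ker, zz, ev0]

lemma ff_mem_mm (c : Fin m → Fin n → k) : ff c ∈ mm k m n := by
  unfold ff
  refine Ideal.sum_mem _ fun i _ => Ideal.sum_mem _ fun j _ => ?_
  rw [Algebra.smul_def]
  exact Ideal.mul_mem_left _ _ (zz_mem_mm i j)

lemma char_ff (χ : R k m n →ₐ[k] k) (c : Fin m → Fin n → k) :
    χ (ff c) = ∑ i, ∑ j, c i j * χ (zz k m n i j) := by
  simp [ff, map_sum, map_smul]

theorem exists_zero (hm : 0 < m) (hn : 0 < n) (w : ℕ) (coef : Fin w → Fin m → Fin n → k)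
    (hw : w + 1 < m + n) :
    ∃ (α : Fin m → k) (β : Fin n → k), α ≠ 0 ∧ β ≠ 0 ∧
      ∀ l, ∑ i, ∑ j, coef l i j * (α i * β j) = 0 := by
  classical
  by_contra hno
  have hno' : ∀ (α : Fin m → k) (β : Fin n → k), α ≠ 0 → β ≠ 0 →
      ∃ l, ∑ i, ∑ j, coef l i j * (α i * β j) ≠ 0 := by
    intro α β hα hβ
    by_contra h
    exact hno ⟨α, β, hα, hβ, fun l => by_contra fun hl => h ⟨l, hl⟩⟩
  set J : Ideal (R k m n) := Ideal.span (Set.range fun l => ff (coef l)) with hJdef
  -- every maximal ideal containing J is mm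
  have key : ∀ M : Ideal (R k m n), M.IsMaximal → J ≤ M → M = mm k m n := by
    intro M hM hJM
    obtain ⟨χ, hχ⟩ := exists_char M
    have hf : ∀ l, χ (ff (coef l)) = 0 := fun l => by
      have : ff (coef l) ∈ M := hJM (Ideal.subset_span ⟨l, rfl⟩)
      rwa [← hχ, RingHom.mem_ker] at this
    have hz : ∀ i j, χ (zz k m n i j) = 0 := by
      by_contra hne
      have hne' : ∃ i0 j0, χ (zz k m n i0 j0) ≠ 0 := by
        by_contra h
        exact hne fun i j => by_contra fun hij => h ⟨i, j, hij⟩
      obtain ⟨i0, j0, h0⟩ := hne'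
      set α : Fin m → k := fun i => χ (zz k m n i j0) with hα
      set β : Fin n → k := fun j => χ (zz k m n i0 j) / χ (zz k m n i0 j0) with hβ
      have hαβ : ∀ i j, α i * β j = χ (zz k m n i j) := by
        intro i j
        simp only [hα, hβ]
        rw [mul_div_assoc', eq_comm, eq_div_iff h0]
        exact rank_one χ i i0 j j0
      have hα0 : α ≠ 0 := fun h => h0 (by simpa [hα] using congrFun h i0)
      have hβ0 : β ≠ 0 := fun h => by
        have := congrFun h j0
        simp [hβ, h0] at this
      obtain ⟨l, hl⟩ := hno' α β hα0 hβ0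
      apply hl
      rw [← hf l, char_ff]
      simp only [hαβ]
    have hχ' : χ = (ev0 k m n).comp (R k m n).val := by
      apply AlgHom.adjoin_ext
      rintro _ ⟨⟨i, j⟩, rfl⟩
      have := hz i j
      simp only [zz] at this
      rw [this]
      simp [ev0]
    rw [← hχ, hχ']
    rfl
  have hJ : J ≤ mm k m n := Ideal.span_le.mpr (by rintro _ ⟨l, rfl⟩; exact ff_mem_mm _)
  have hmin : mm k m n ∈ J.minimalPrimes := by
    refine (show Minimal (fun q : Ideal (R k m n) ↦ q.IsPrime ∧ J ≤ q) _ from
      ⟨⟨inferInstance, hJ⟩, ?_⟩)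
    rintro P ⟨hP, hJP⟩ hPm
    have hjac : P.jacobson = P := IsJacobsonRing.out inferInstance hP.isRadical
    rw [← hjac]
    apply le_sInf
    rintro M ⟨hPM, hM⟩
    rw [key M hM (hJP.trans hPM)]
  have hle := Ideal.height_le_card_of_mem_minimalPrimes_span_finset
    (s := Finset.univ.image (fun l => ff (coef l))) (p := mm k m n) (by
      have hcoe : ((Finset.univ.image (fun l => ff (coef l)) : Finset (R k m n)) : Set (R k m n))
          = Set.range fun l => ff (coef l) := by
        simp
      rw [hcoe]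
      exact hmin)
  have hcard : ((Finset.univ.image (fun l => ff (coef l))).card : ℕ∞) ≤ (w : ℕ∞) := by
    exact_mod_cast (Finset.card_image_le.trans (by simp))
  have := (le_height_mm (k := k) hm hn).trans (hle.trans hcard)
  have h2 : m + n - 1 ≤ w := by exact_mod_cast this
  omega

end chars

end

end Groth.Agent.Lib.Helper19.OneGeneric
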