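import Groth.Agent.Lib.Helper19PBasisSec

/-!
# Extending derivations along a `p`-basis (EGA 0_IV 21.2.x) (helper19)

Derivations `B → L` extending `D : A → L` are `A`-algebra sections of `B ⋉ L → B`, where `A` acts on
the trivial square-zero extension through `a ↦ (a, D a)`; then apply the universal property.
-/

set_option autoImplicit false
set_option linter.style.haveILetI false
set_option linter.unusedSectionVars false
universe u v

namespace Groth.Agent.Lib.Helper19.PBasis

open TrivSqZeroExt

section OpModule

variable {B : Type u} [CommRing B] (L : Type v) [AddCommGroup L] [Module B L]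

/-- the right action of a commutative ring on a module, equal to the left action -/
@[reducible] def opModule : Module Bᵐᵒᵖ L :=
  Module.compHom L ((RingEquiv.toOpposite B).symm.toRingHom : Bᵐᵒᵖ →+* B)

theorem isCentral : letI := opModule (B := B) L; IsCentralScalar B L := by
  letI := opModule (B := B) L
  exact ⟨fun b l => rfl⟩

end OpModule

section Der

variable (p : ℕ) [Fact p.Prime] {A B : Type u} [CommRing A] [CommRing B] [Algebra A B] [CharP B p]
  {ι : Type u} (x : ι → B)
  (L : Type v) [AddCommGroup L] [Module B L] [Module A L] [IsScalarTower A B L]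
  (D : Derivation ℤ A L)

theorem derivation_pow_p_eq_zero (D' : Derivation ℤ B L) (b : B) : D' (b ^ p) = 0 := by
  rw [Derivation.leibniz_pow, ← Nat.cast_smul_eq_nsmul B, CharP.cast_eq_zero, zero_smul]

theorem derivation_ext_of_gen (hgen : Algebra.adjoin A (Set.range x) = ⊤)
    {D₁ D₂ : Derivation ℤ B L} (hA : ∀ a : A, D₁ (algebraMap A B a) = D₂ (algebraMap A B a))
    (hxi : ∀ i, D₁ (x i) = D₂ (x i)) : D₁ = D₂ := by
  ext b
  have hb : b ∈ Algebra.adjoin A (Set.range x) := by rw [hgen]; trivial
  induction hb using Algebra.adjoin_induction with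
  | mem z hz =>
    obtain ⟨i, rfl⟩ := hz
    exact hxi i
  | algebraMap a => exact hA a
  | add c d _ _ hc hd => rw [map_add, map_add, hc, hd]
  | mul c d _ _ hc hd => rw [Derivation.leibniz, Derivation.leibniz, hc, hd]

/-- existence and uniqueness of the extension of a derivation with prescribed values on a
`p`-basis -/
theorem existsUnique_derivation_of_isPBasis (hinj : Function.Injective (algebraMap A B))
    (hpow : ∀ b : B, b ^ p ∈ Set.range (algebraMap A B)) (hx : EGA41.IsPBasis p A x)
    (hD : ∀ (a : A) (b : B), algebraMap A B a = b ^ p → D a = 0) (y : ι → L) :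
    ∃! D' : Derivation ℤ B L, (∀ a : A, D' (algebraMap A B a) = D a) ∧ ∀ i, D' (x i) = y i := by
  have hgen := (data_of_isPBasis_of_pow_mem p x hinj hpow hx).2
  letI := opModule (B := B) L
  haveI := isCentral (B := B) L
  let ρ : A →+* TrivSqZeroExt B L :=
    { toFun := fun a => inl (algebraMap A B a) + inr (D a)
      map_one' := by
        ext
        · simp
        · simp
      map_mul' := fun a b => by
        ext
        · simp
        · simp only [snd_add, snd_inl, snd_inr, zero_add, snd_mul, fst_add, fst_inl, fst_inr,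
            add_zero, Derivation.leibniz, op_smul_eq_smul, algebraMap_smul]
      map_zero' := by
        ext
        · simp
        · simp
      map_add' := fun a b => by
        ext
        · simp
        · simp only [snd_add, snd_inl, snd_inr, zero_add, map_add] }
  letI : Algebra A (TrivSqZeroExt B L) := ρ.toAlgebra
  have hρ : ∀ a : A, algebraMap A (TrivSqZeroExt B L) a = inl (algebraMap A B a) + inr (D a) :=
    fun a => rfl
  let q : TrivSqZeroExt B L →ₐ[A] B :=
    { toFun := fst
      map_one' := fst_one
      map_mul' := fst_mul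
      map_zero' := fst_zero
      map_add' := fst_add
      commutes' := fun a => by
        rw [hρ]
        simp }
  have hq : ∀ e, q e = fst e := fun e => rfl
  let z : ι → TrivSqZeroExt B L := fun i => inl (x i) + inr (y i)
  have hz : ∀ (i : ι) (a : A), algebraMap A B a = x i ^ p →
      algebraMap A (TrivSqZeroExt B L) a = z i ^ p := by
    intro i a ha
    rw [hρ, hD a (x i) ha]
    ext
    · simp [z, fst_pow, ha]
    · rw [snd_pow, ← Nat.cast_smul_eq_nsmul B, CharP.cast_eq_zero, zero_smul]
      simp
  obtain ⟨v, hv, -⟩ := existsUnique_algHom_of_pow_mem p x hinj hpow hx z hz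
  have hqv : q.comp v = AlgHom.id A B := by
    refine algHom_ext_of_gen x hgen fun i => ?_
    rw [AlgHom.comp_apply, hv i, hq]
    simp [z]
  have hfst : ∀ b : B, fst (v b) = b := fun b =>
    congrArg (fun f : B →ₐ[A] B => f b) hqv
  let D'l : B →ₗ[ℤ] L :=
    ((sndHom B L).toAddMonoidHom.comp v.toRingHom.toAddMonoidHom).toIntLinearMap
  have hD'l : ∀ b, D'l b = snd (v b) := fun b => rfl
  let D' : Derivation ℤ B L := Derivation.mk' D'l (fun b c => by
    rw [hD'l, hD'l, hD'l, map_mul, snd_mul, hfst, hfst, op_smul_eq_smul])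
  have hD' : ∀ b, D' b = snd (v b) := fun b => rfl
  refine ⟨D', ⟨fun a => ?_, fun i => ?_⟩, ?_⟩
  · rw [hD', AlgHom.commutes, hρ]
    simp
  · rw [hD', hv i]
    simp [z]
  · rintro D₁ ⟨h1, h2⟩
    refine derivation_ext_of_gen x L hgen (fun a => ?_) (fun i => ?_)
    · rw [h1, hD', AlgHom.commutes, hρ]
      simp
    · rw [h2, hD', hv i]
      simp [z]

/-- EGA 0_IV 21.2.? : extension of derivations along a `p`-basis -/
theorem derivation_extends_of_isPBasis (hinj : Function.Injective (algebraMap A B))
    (hpow : ∀ b : B, b ^ p ∈ Set.range (algebraMap A B)) (hx : EGA41.IsPBasis p A x) :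
    ((∃ D' : Derivation ℤ B L, ∀ a : A, D' (algebraMap A B a) = D a) ↔
      ∀ (a : A) (b : B), algebraMap A B a = b ^ p → D a = 0) ∧
    ((∀ (a : A) (b : B), algebraMap A B a = b ^ p → D a = 0) →
      ∀ y : ι → L, ∃! D' : Derivation ℤ B L,
        (∀ a : A, D' (algebraMap A B a) = D a) ∧ ∀ i, D' (x i) = y i) := by
  refine ⟨⟨?_, fun h => ?_⟩, fun h y => existsUnique_derivation_of_isPBasis p x L D hinj hpow hx h y⟩
  · rintro ⟨D', hD'⟩ a b hab
    rw [← hD', hab, derivation_pow_p_eq_zero]
  · obtain ⟨D', ⟨h1, -⟩, -⟩ := existsUnique_derivation_of_isPBasis p x L D hinj hpow hx h 0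
    exact ⟨D', h1⟩

end Der

end Groth.Agent.Lib.Helper19.PBasis
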