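import Groth.Agent.Lib.Helper19PBasisUP

/-!
# `p`-bases over a perfect ring: formal smoothness and unique liftings (EGA 0_IV 21.2.7)
(helper19)
-/

set_option autoImplicit false
set_option linter.style.haveILetI false
set_option linter.unusedSectionVars false
universe u v w

namespace Groth.Agent.Lib.Helper19.PBasis

open Groth.Agent.Lib.Helper7.PPow

section Perfect

variable (p : ℕ) [Fact p.Prime] {A B : Type u} [CommRing A] [CharP A p] [PerfectRing A p]
  [CommRing B] [Algebra A B] [CharP B p]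

/-- over a perfect base, `A[B^p]` consists of `p`-th powers -/
theorem exists_pow_eq_of_mem_pPowerSubalgebra {c : B} (hc : c ∈ EGA41.pPowerSubalgebra p A B) :
    ∃ b : B, b ^ p = c := by
  rw [EGA41.pPowerSubalgebra] at hc
  induction hc using Algebra.adjoin_induction with
  | mem c hc =>
    obtain ⟨b, rfl⟩ := hc
    exact ⟨b, rfl⟩
  | algebraMap a =>
    refine ⟨algebraMap A B ((frobeniusEquiv A p).symm a), ?_⟩
    rw [← map_pow, frobeniusEquiv_symm_pow_p]
  | add c d _ _ hc hd =>
    obtain ⟨b, rfl⟩ := hc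
    obtain ⟨b', rfl⟩ := hd
    exact ⟨b + b', add_pow_char b b' p⟩
  | mul c d _ _ hc hd =>
    obtain ⟨b, rfl⟩ := hc
    obtain ⟨b', rfl⟩ := hd
    exact ⟨b * b', mul_pow b b' p⟩

variable [IsReduced B]

theorem pow_p_injective {b b' : B} (h : b ^ p = b' ^ p) : b = b' :=
  frobenius_inj B p h

/-- the `p`-th root of an element of `A[B^p]` -/
noncomputable def root (c : EGA41.pPowerSubalgebra p A B) : B :=
  Classical.choose (exists_pow_eq_of_mem_pPowerSubalgebra p c.2)

theorem root_pow (c : EGA41.pPowerSubalgebra p A B) : root p c ^ p = (c : B) :=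
  Classical.choose_spec (exists_pow_eq_of_mem_pPowerSubalgebra p c.2)

theorem root_eq {c : EGA41.pPowerSubalgebra p A B} {b : B} (h : b ^ p = (c : B)) :
    root p c = b :=
  pow_p_injective p ((root_pow p c).trans h.symm)

/-- the `p`-th root as a ring homomorphism -/
noncomputable def rootHom : EGA41.pPowerSubalgebra p A B →+* B where
  toFun := root p
  map_one' := root_eq p (by simp)
  map_mul' c d := root_eq p (by rw [mul_pow, root_pow, root_pow]; rfl)
  map_zero' := root_eq p (by
    have : p ≠ 0 := (Fact.out : p.Prime).ne_zero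
    simp [this])
  map_add' c d := root_eq p (by rw [add_pow_char, root_pow, root_pow]; rfl)

theorem rootHom_pow (c : EGA41.pPowerSubalgebra p A B) : rootHom p c ^ p = (c : B) :=
  root_pow p c

theorem rootHom_algebraMap (a : A) :
    rootHom p (algebraMap A (EGA41.pPowerSubalgebra p A B) a) =
      algebraMap A B ((frobeniusEquiv A p).symm a) := by
  refine root_eq p ?_
  rw [← map_pow, frobeniusEquiv_symm_pow_p]
  rfl

theorem rootHom_pow_mem (b : B) (h : b ^ p ∈ EGA41.pPowerSubalgebra p A B) :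
    rootHom p ⟨b ^ p, h⟩ = b :=
  root_eq p rfl

end Perfect

section Frob

variable (p : ℕ) [Fact p.Prime] {E : Type v} {E₀ : Type w} [CommRing E] [CommRing E₀] [CharP E p]
  (π : E →+* E₀) (hπ : Function.Surjective π) (hK : RingHom.ker π ^ 2 = ⊥)

include hK in
theorem ker_le_ker_frobenius : RingHom.ker π ≤ RingHom.ker (frobenius E p) := by
  intro k hk
  rw [RingHom.mem_ker, frobenius_def]
  have h2 : k ^ 2 ∈ RingHom.ker π ^ 2 := Ideal.pow_mem_pow hk 2
  rw [hK, Ideal.mem_bot] at h2
  have hp : 2 ≤ p := (Fact.out : p.Prime).two_le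
  rw [← Nat.sub_add_cancel hp, pow_add, h2, mul_zero]

/-- the lift `E₀ → E` of Frobenius through a square-zero surjection in characteristic `p` -/
noncomputable def frobLift : E₀ →+* E :=
  π.liftOfRightInverse (Function.surjInv hπ) (Function.rightInverse_surjInv hπ)
    ⟨frobenius E p, ker_le_ker_frobenius p π hK⟩

theorem frobLift_apply (e : E) : frobLift p π hπ hK (π e) = e ^ p := by
  unfold frobLift
  rw [RingHom.liftOfRightInverse_comp_apply]
  rfl

theorem map_frobLift (y : E₀) : π (frobLift p π hπ hK y) = y ^ p := by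
  obtain ⟨e, rfl⟩ := hπ y
  rw [frobLift_apply, map_pow]

end Frob

section SquareZero

variable (p : ℕ) [Fact p.Prime] {A B : Type u} [CommRing A] [CharP A p] [PerfectRing A p]
  [CommRing B] [Algebra A B] [CharP B p] [IsReduced B] {ι : Type u} (x : ι → B)

/-- the trivial case -/
theorem existsUnique_lift_of_subsingleton {E : Type v} {E₀ : Type w} [CommRing E] [CommRing E₀]
    [Algebra A E] [Algebra A E₀] [Subsingleton E] (π : E →ₐ[A] E₀) (hπ : Function.Surjective π)
    (v : B →ₐ[A] E₀) (z : ι → E) :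
    ∃! w : B →ₐ[A] E, π.comp w = v ∧ ∀ i, w (x i) = z i := by
  haveI : Subsingleton E₀ := hπ.subsingleton
  refine ⟨AlgHom.ofLinearMap 0 (Subsingleton.elim _ _) (fun _ _ => Subsingleton.elim _ _),
    ⟨AlgHom.ext fun b => Subsingleton.elim _ _, fun i => Subsingleton.elim _ _⟩,
    fun w' _ => AlgHom.ext fun b => Subsingleton.elim _ _⟩

/-- the square-zero case of the unique lifting -/
theorem existsUnique_lift_sqZero (hx : EGA41.IsPBasis p A x)
    {E : Type v} {E₀ : Type w} [CommRing E] [CommRing E₀]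
    [Algebra A E] [Algebra A E₀] (π : E →ₐ[A] E₀) (hπ : Function.Surjective π)
    (hK : RingHom.ker π.toRingHom ^ 2 = ⊥)
    (v : B →ₐ[A] E₀) (z : ι → E) (hz : ∀ i, π (z i) = v (x i)) :
    ∃! w : B →ₐ[A] E, π.comp w = v ∧ ∀ i, w (x i) = z i := by
  rcases subsingleton_or_nontrivial E with hE | hE
  · exact existsUnique_lift_of_subsingleton x π hπ v z
  have hpE : ((p : ℕ) : E) = 0 := by
    rw [← map_natCast (algebraMap A E), CharP.cast_eq_zero A p, map_zero]
  haveI : CharP E p := charP_of_cast_eq_zero E p hpE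
  obtain ⟨hli, hgen⟩ := data_of_isPBasis p x hx
  set φ : E₀ →+* E := frobLift p π.toRingHom hπ hK with hφ
  have hφ1 : ∀ e : E, φ (π e) = e ^ p := fun e => frobLift_apply p π.toRingHom hπ hK e
  have hφ2 : ∀ y : E₀, π (φ y) = y ^ p := fun y => map_frobLift p π.toRingHom hπ hK y
  -- the structure map on `A[B^p]`
  let w₀r : EGA41.pPowerSubalgebra p A B →+* E := (φ.comp v.toRingHom).comp (rootHom p)
  have hw₀ : ∀ c, w₀r c = φ (v (rootHom p c)) := fun c => rfl
  have hw₀A : ∀ a : A, w₀r (algebraMap A _ a) = algebraMap A E a := by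
    intro a
    rw [hw₀, rootHom_algebraMap, AlgHom.commutes, ← π.commutes, hφ1, ← map_pow,
      frobeniusEquiv_symm_pow_p]
  have hπw₀ : ∀ c, π (w₀r c) = v c := by
    intro c
    rw [hw₀, hφ2, ← map_pow, rootHom_pow]
  letI : Algebra (EGA41.pPowerSubalgebra p A B) E := w₀r.toAlgebra
  haveI : IsScalarTower A (EGA41.pPowerSubalgebra p A B) E :=
    IsScalarTower.of_algebraMap_eq fun a => (hw₀A a).symm
  have hzp : ∀ i, algebraMap (EGA41.pPowerSubalgebra p A B) E
      ⟨x i ^ p, pow_mem_pPowerSubalgebra p (x i)⟩ = z i ^ p := by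
    intro i
    change w₀r _ = _
    rw [hw₀, rootHom_pow_mem, ← hz i, hφ1]
  obtain ⟨w', hw', -⟩ := existsUnique_algHom p x
    (fun i => (⟨x i ^ p, pow_mem_pPowerSubalgebra p (x i)⟩ : EGA41.pPowerSubalgebra p A B))
    (fun i => rfl) hli hgen z hzp
  have hall : ∀ b : B, b ∈ Algebra.adjoin (EGA41.pPowerSubalgebra p A B) (Set.range x) := by
    intro b; rw [hgen]; trivial
  refine ⟨w'.restrictScalars A, ⟨?_, fun i => hw' i⟩, ?_⟩
  · ext b
    change π (w' b) = v b
    induction hall b using Algebra.adjoin_induction with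
    | mem y hy =>
      obtain ⟨i, rfl⟩ := hy
      rw [hw' i, hz i]
    | algebraMap c =>
      rw [AlgHom.commutes]
      exact hπw₀ c
    | add c d _ _ hc hd => rw [map_add, map_add, map_add, hc, hd]
    | mul c d _ _ hc hd => rw [map_mul, map_mul, map_mul, hc, hd]
  · rintro w₁ ⟨h1, h2⟩
    ext b
    change w₁ b = w' b
    induction hall b using Algebra.adjoin_induction with
    | mem y hy =>
      obtain ⟨i, rfl⟩ := hy
      rw [hw' i, h2 i]
    | algebraMap c =>
      rw [AlgHom.commutes]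
      change w₁ (c : B) = w₀r c
      rw [hw₀, ← rootHom_pow p c, map_pow, ← hφ1]
      congr 2
      exact congrArg (fun f : B →ₐ[A] E₀ => f (rootHom p c)) h1
    | add c d _ _ hc hd => rw [map_add, map_add, hc, hd]
    | mul c d _ _ hc hd => rw [map_mul, map_mul, hc, hd]

end SquareZero

end Groth.Agent.Lib.Helper19.PBasis

namespace Groth.Agent.Lib.Helper19.PBasis

section Nilpotent

variable (p : ℕ) [Fact p.Prime] {A B : Type u} [CommRing A] [CharP A p] [PerfectRing A p]
  [CommRing B] [Algebra A B] [CharP B p] [IsReduced B] {ι : Type u} (x : ι → B)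

/-- unique lifting along a surjection with nilpotent kernel -/
theorem existsUnique_lift_nilpotent (hx : EGA41.IsPBasis p A x) (N : ℕ) :
    ∀ {E : Type v} {E₀ : Type w} [CommRing E] [CommRing E₀]
    [Algebra A E] [Algebra A E₀] (π : E →ₐ[A] E₀) (_ : Function.Surjective π)
    (_ : RingHom.ker π.toRingHom ^ N = ⊥)
    (v : B →ₐ[A] E₀) (z : ι → E) (_ : ∀ i, π (z i) = v (x i)),
    ∃! w : B →ₐ[A] E, π.comp w = v ∧ ∀ i, w (x i) = z i := by
  induction N with
  | zero =>
    intro E E₀ _ _ _ _ π hπ hK v z hz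
    rw [pow_zero, Ideal.one_eq_top] at hK
    haveI : Subsingleton E := by
      rw [← not_nontrivial_iff_subsingleton]
      intro h
      exact top_ne_bot hK
    exact existsUnique_lift_of_subsingleton x π hπ v z
  | succ N ih =>
    intro E E₀ _ _ _ _ π hπ hK v z hz
    rcases Nat.eq_zero_or_pos N with hN | hN
    · subst hN
      rw [zero_add, pow_one] at hK
      refine existsUnique_lift_sqZero p x hx π hπ ?_ v z hz
      rw [hK, eq_bot_iff]
      exact Ideal.pow_le_self (by norm_num)
    set K := RingHom.ker π.toRingHom with hKdef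
    let π₁ : E →ₐ[A] E ⧸ K ^ N := Ideal.Quotient.mkₐ A (K ^ N)
    have hKle : ∀ a ∈ K ^ N, π a = 0 := by
      intro a ha
      have : a ∈ K := Ideal.pow_le_self (Nat.pos_iff_ne_zero.mp hN) ha
      exact this
    let π₂ : E ⧸ K ^ N →ₐ[A] E₀ := Ideal.Quotient.liftₐ (K ^ N) π hKle
    have hπ₂ : ∀ e : E, π₂ (π₁ e) = π e := fun e => rfl
    have hπ₂s : Function.Surjective π₂ := by
      intro y
      obtain ⟨e, rfl⟩ := hπ y
      exact ⟨π₁ e, rfl⟩
    have hK₂ : RingHom.ker π₂.toRingHom ^ N = ⊥ := by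
      have h1 : RingHom.ker π₂.toRingHom ≤ K.map (Ideal.Quotient.mk (K ^ N)) := by
        intro y hy
        obtain ⟨e, rfl⟩ := Ideal.Quotient.mk_surjective y
        have he : e ∈ K := by
          rw [RingHom.mem_ker] at hy
          exact hy
        exact Ideal.mem_map_of_mem _ he
      rw [eq_bot_iff]
      refine (Ideal.pow_right_mono h1 N).trans ?_
      rw [← Ideal.map_pow, Ideal.map_quotient_self]
    have hK₁ : RingHom.ker π₁.toRingHom ^ 2 = ⊥ := by
      have : RingHom.ker π₁.toRingHom = K ^ N := Ideal.mk_ker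
      rw [this, ← pow_mul, eq_bot_iff, ← hK]
      exact Ideal.pow_le_pow_right (by omega)
    obtain ⟨w', ⟨hw'1, hw'2⟩, hw'u⟩ := ih π₂ hπ₂s hK₂ v (fun i => π₁ (z i))
      (fun i => by rw [hπ₂, hz i])
    obtain ⟨w, ⟨hw1, hw2⟩, hwu⟩ := existsUnique_lift_sqZero p x hx π₁
      Ideal.Quotient.mk_surjective hK₁ w' z (fun i => (hw'2 i).symm)
    have hcomp : π₂.comp π₁ = π := AlgHom.ext fun e => rfl
    refine ⟨w, ⟨?_, hw2⟩, ?_⟩
    · rw [← hcomp, AlgHom.comp_assoc, hw1, hw'1]
    · rintro w₁ ⟨h1, h2⟩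
      apply hwu
      refine ⟨?_, h2⟩
      apply hw'u
      refine ⟨?_, fun i => ?_⟩
      · rw [← AlgHom.comp_assoc, hcomp, h1]
      · rw [AlgHom.comp_apply, h2 i]

/-- EGA 0_IV 21.2.7 (discrete case): unique lifting for a `p`-basis over a perfect ring -/
theorem existsUnique_lift_of_isNilpotent (hx : EGA41.IsPBasis p A x)
    (E : Type v) [CommRing E] [Algebra A E] (R : Ideal E) (hR : IsNilpotent R)
    (v : B →ₐ[A] E ⧸ R) (z : ι → E) (hz : ∀ i, Ideal.Quotient.mk R (z i) = v (x i)) :
    ∃! w : B →ₐ[A] E, (Ideal.Quotient.mkₐ A R).comp w = v ∧ ∀ i, w (x i) = z i := by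
  obtain ⟨N, hN⟩ := hR
  refine existsUnique_lift_nilpotent p x hx N (Ideal.Quotient.mkₐ A R)
    Ideal.Quotient.mk_surjective ?_ v z hz
  have : RingHom.ker (Ideal.Quotient.mkₐ A R).toRingHom = R := Ideal.mk_ker
  rw [this]
  exact hN

theorem formallySmooth_of_isPBasis_perfect (hx : EGA41.IsPBasis p A x) :
    Algebra.FormallySmooth A B := by
  refine Algebra.FormallySmooth.of_comp_surjective fun E _ _ I hI f => ?_
  obtain ⟨w, ⟨hw, -⟩, -⟩ := existsUnique_lift_of_isNilpotent p x hx E I ⟨2, hI⟩ f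
    (fun i => Function.surjInv Ideal.Quotient.mk_surjective (f (x i)))
    (fun i => Function.surjInv_eq Ideal.Quotient.mk_surjective (f (x i)))
  exact ⟨w, hw⟩

end Nilpotent

end Groth.Agent.Lib.Helper19.PBasis
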