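import Groth.Agent.Lib.Helper19PBasisUP
import Groth.Prelude.Def_FSRel

/-!
# Sections of extensions over a ring with a `p`-basis (EGA 0_IV 21.2.x) (helper19)
-/

set_option autoImplicit false
set_option linter.style.haveILetI false
universe u v w

namespace Groth.Agent.Lib.Helper19.PBasis

open Groth.Agent.Lib.Helper7.PPow

section Sections

variable (p : ℕ) [Fact p.Prime] {A B : Type u} [CommRing A] [CommRing B] [Algebra A B] [CharP B p]
  {ι : Type u} (x : ι → B)

theorem natCast_eq_zero_of_injective (hinj : Function.Injective (algebraMap A B)) :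
    ((p : ℕ) : A) = 0 := by
  apply hinj
  rw [map_natCast, map_zero]
  exact CharP.cast_eq_zero B p

/-- a section forces the compatibility condition on `p`-th powers -/
theorem cond_of_section (hinj : Function.Injective (algebraMap A B))
    {E : Type w} [CommRing E] [Algebra A E] (q : E →ₐ[A] B)
    (hK : RingHom.ker q.toRingHom ^ p = ⊥) (v : B →ₐ[A] E) (hv : q.comp v = AlgHom.id A B)
    (z : E) (a : A) (h : algebraMap A B a = q z ^ p) : algebraMap A E a = z ^ p := by
  haveI : Nontrivial B := CharP.nontrivial_of_char_ne_one (R := B) (v := p)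
    (Nat.Prime.one_lt Fact.out).ne'
  haveI : Nontrivial E := q.toRingHom.domain_nontrivial
  have hpE : ((p : ℕ) : E) = 0 := by
    rw [← map_natCast (algebraMap A E), natCast_eq_zero_of_injective p hinj, map_zero]
  haveI : CharP E p := charP_of_cast_eq_zero E p hpE
  have hy : z - v (q z) ∈ RingHom.ker q.toRingHom := by
    rw [RingHom.mem_ker]
    change q (z - v (q z)) = 0
    rw [map_sub]
    have : q (v (q z)) = q z := congrArg (fun f : B →ₐ[A] B => f (q z)) hv
    rw [this, sub_self]
  have h0 : (z - v (q z)) ^ p = 0 := by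
    have := Ideal.pow_mem_pow hy p
    rwa [hK] at this
  rw [sub_pow_char, sub_eq_zero] at h0
  rw [h0, ← map_pow, ← h, AlgHom.commutes]

/-- EGA 0_IV 21.2.? : sections of `q : E → B` when `B` has a `p`-basis over `A ⊇ B^p` -/
theorem sections_of_isPBasis (hinj : Function.Injective (algebraMap A B))
    (hpow : ∀ b : B, b ^ p ∈ Set.range (algebraMap A B)) (hx : EGA41.IsPBasis p A x)
    {E : Type w} [CommRing E] [Algebra A E] (q : E →ₐ[A] B) (hq : Function.Surjective q)
    (hK : RingHom.ker q.toRingHom ^ p = ⊥) :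
    ((∃ v : B →ₐ[A] E, q.comp v = AlgHom.id A B) ↔
      ∀ (z : E) (a : A), algebraMap A B a = q z ^ p → algebraMap A E a = z ^ p) ∧
    ((∀ (z : E) (a : A), algebraMap A B a = q z ^ p → algebraMap A E a = z ^ p) →
      ∀ z : ι → E, (∀ i, q (z i) = x i) →
        (∃! v : B →ₐ[A] E, ∀ i, v (x i) = z i) ∧
          ∀ v : B →ₐ[A] E, (∀ i, v (x i) = z i) → q.comp v = AlgHom.id A B) := by
  have hgen := (data_of_isPBasis_of_pow_mem p x hinj hpow hx).2
  have key : (∀ (z : E) (a : A), algebraMap A B a = q z ^ p → algebraMap A E a = z ^ p) →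
      ∀ z : ι → E, (∀ i, q (z i) = x i) →
        (∃! v : B →ₐ[A] E, ∀ i, v (x i) = z i) ∧
          ∀ v : B →ₐ[A] E, (∀ i, v (x i) = z i) → q.comp v = AlgHom.id A B := by
    intro hc z hz
    refine ⟨existsUnique_algHom_of_pow_mem p x hinj hpow hx z ?_, fun v hv => ?_⟩
    · intro i a ha
      exact hc (z i) a (by rw [hz i]; exact ha)
    · refine algHom_ext_of_gen x hgen fun i => ?_
      rw [AlgHom.comp_apply, hv i, hz i, AlgHom.id_apply]
  refine ⟨⟨?_, fun hc => ?_⟩, key⟩
  · rintro ⟨v, hv⟩ z a h
    exact cond_of_section p hinj q hK v hv z a h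
  · obtain ⟨⟨v, hv, _⟩, h2⟩ := key hc (fun i => Function.surjInv hq (x i))
      (fun i => Function.surjInv_eq hq (x i))
    exact ⟨v, h2 v hv⟩

/-- EGA 0_IV 21.2.? : `B` with a `p`-basis over `A ⊇ B^p` is formally smooth over `A` relative to
`R = B^p`. -/
theorem isFormallySmoothRel_of_isPBasis {R : Type u} [CommRing R] [Algebra R A] [Algebra R B]
    [IsScalarTower R A B] (hinj : Function.Injective (algebraMap A B))
    (hpow : ∀ b : B, b ^ p ∈ Set.range (algebraMap A B))
    (hR : Set.range (algebraMap R B) = Set.range fun b : B => b ^ p)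
    (hx : EGA41.IsPBasis p A x) : EGA41.IsFormallySmoothRel R A B := by
  intro C _ _ _ _ J hJ u₀ ⟨u, hu⟩
  have hgen := (data_of_isPBasis_of_pow_mem p x hinj hpow hx).2
  have hzC : ∀ (i : ι) (a : A), algebraMap A B a = x i ^ p → algebraMap A C a = u (x i) ^ p := by
    intro i a ha
    have : x i ^ p ∈ Set.range (algebraMap R B) := by rw [hR]; exact ⟨x i, rfl⟩
    obtain ⟨r, hr⟩ := this
    have har : a = algebraMap R A r := by
      apply hinj
      rw [ha, ← hr, ← IsScalarTower.algebraMap_apply]
    rw [← map_pow, ← hr, AlgHom.commutes, har, ← IsScalarTower.algebraMap_apply]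
  obtain ⟨v, hv, _⟩ := existsUnique_algHom_of_pow_mem p x hinj hpow hx (fun i => u (x i)) hzC
  refine ⟨v, algHom_ext_of_gen x hgen fun i => ?_⟩
  rw [AlgHom.comp_apply, hv i]
  have := congrArg (fun f : B →ₐ[R] C ⧸ J => f (x i)) hu
  simpa using this

end Sections

end Groth.Agent.Lib.Helper19.PBasis
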