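import Mathlib
import Groth.Prelude.Def_EGA41
import Groth.Agent.Lib.Helper7PBasis

/-!
# The universal property of a `p`-basis (helper19)

If `B` is generated as an `R`-algebra by a family `x` whose reduced monomials are linearly
independent over `R` and `x i ^ p = a i ∈ R`, then `B = R[X_i]/(X_i^p - a_i)`, so `R`-algebra maps
`B → E` correspond to families `z` in `E` with `z i ^ p = a i`. (Built on helper7's
`Helper7PBasis`.)
-/

set_option autoImplicit false
universe u v w

namespace Groth.Agent.Lib.Helper19.PBasis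

open MvPolynomial Groth.Agent.Lib.Helper7.PPow

section Core

variable {R : Type u} {B : Type v} [CommRing R] [CommRing B] [Algebra R B] (p : ℕ) [Fact p.Prime]
  {ι : Type*} (x : ι → B) (a : ι → R)

/-- the kernel of the presentation is contained in the kernel of any evaluation compatible with
the relations -/
theorem ker_aeval_le (ha : ∀ i, algebraMap R B (a i) = x i ^ p)
    (hli : LinearIndependent R
      (fun e : {e : ι →₀ ℕ // ∀ i, e i < p} => e.1.prod fun i n => x i ^ n))
    {E : Type w} [CommRing E] [Algebra R E] (z : ι → E)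
    (hz : ∀ i, algebraMap R E (a i) = z i ^ p) :
    RingHom.ker (aeval x : MvPolynomial ι R →ₐ[R] B).toRingHom ≤
      RingHom.ker (aeval z : MvPolynomial ι R →ₐ[R] E).toRingHom := by
  intro f hf
  rw [RingHom.mem_ker] at hf ⊢
  change aeval x f = 0 at hf
  change aeval z f = 0
  obtain ⟨g, hg, hfg⟩ := exists_reduced_sub_mem_relIdeal p a f
  have h1 : aeval x g = 0 := by
    have := aeval_eq_zero_of_mem_relIdeal p x a ha hfg
    rwa [map_sub, hf, zero_sub, neg_eq_zero] at this
  have h2 := eq_zero_of_reduced_of_aeval_eq_zero p x hli hg h1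
  rw [h2, sub_zero] at hfg
  exact aeval_eq_zero_of_mem_relIdeal p z a hz hfg

/-- **Universal property of a `p`-basis.** -/
theorem existsUnique_algHom (ha : ∀ i, algebraMap R B (a i) = x i ^ p)
    (hli : LinearIndependent R
      (fun e : {e : ι →₀ ℕ // ∀ i, e i < p} => e.1.prod fun i n => x i ^ n))
    (hgen : Algebra.adjoin R (Set.range x) = ⊤)
    {E : Type w} [CommRing E] [Algebra R E] (z : ι → E)
    (hz : ∀ i, algebraMap R E (a i) = z i ^ p) :
    ∃! v : B →ₐ[R] E, ∀ i, v (x i) = z i := by
  have hsurj : Function.Surjective (aeval x : MvPolynomial ι R →ₐ[R] B) := by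
    rw [← AlgHom.range_eq_top, ← Algebra.adjoin_range_eq_range_aeval, hgen]
  refine ⟨AlgHom.liftOfSurjective _ hsurj (aeval z) (ker_aeval_le p x a ha hli z hz),
    fun i => ?_, fun v hv => ?_⟩
  · have : x i = (aeval x : MvPolynomial ι R →ₐ[R] B) (X i) := (aeval_X x i).symm
    rw [this, AlgHom.liftOfSurjective_apply, aeval_X]
  · refine AlgHom.ext_of_adjoin_eq_top hgen ?_
    rintro _ ⟨i, rfl⟩
    have : x i = (aeval x : MvPolynomial ι R →ₐ[R] B) (X i) := (aeval_X x i).symm
    rw [hv i, this, AlgHom.liftOfSurjective_apply, aeval_X]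

/-- uniqueness alone needs only generation -/
theorem algHom_ext_of_gen (hgen : Algebra.adjoin R (Set.range x) = ⊤)
    {E : Type w} [CommRing E] [Algebra R E] {v₁ v₂ : B →ₐ[R] E}
    (h : ∀ i, v₁ (x i) = v₂ (x i)) : v₁ = v₂ := by
  refine AlgHom.ext_of_adjoin_eq_top hgen ?_
  rintro _ ⟨i, rfl⟩
  exact h i

end Core

section Bridge

variable (p : ℕ) [Fact p.Prime] {A B : Type u} [CommRing A] [CommRing B] [Algebra A B] [CharP B p]
  {ι : Type u} (x : ι → B)

/-- data of a `p`-basis over the `p`-power subalgebra -/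
theorem data_of_isPBasis (hx : EGA41.IsPBasis p A x) :
    LinearIndependent (EGA41.pPowerSubalgebra p A B)
      (fun e : {e : ι →₀ ℕ // ∀ i, e i < p} => e.1.prod fun i n => x i ^ n) ∧
    Algebra.adjoin (EGA41.pPowerSubalgebra p A B) (Set.range x) = ⊤ :=
  ⟨hx.1, (adjoin_eq_top_iff_isPGenerating p x).2 hx.2⟩

theorem pPowerSubalgebra_le_range (hpow : ∀ b : B, b ^ p ∈ Set.range (algebraMap A B))
    (c : B) (hc : c ∈ EGA41.pPowerSubalgebra p A B) : c ∈ Set.range (algebraMap A B) := by
  have : EGA41.pPowerSubalgebra p A B ≤ (⊥ : Subalgebra A B) := by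
    rw [EGA41.pPowerSubalgebra]
    refine Algebra.adjoin_le ?_
    rintro _ ⟨b, rfl⟩
    exact Algebra.mem_bot.2 (hpow b)
  exact Algebra.mem_bot.1 (this hc)

/-- data of a `p`-basis over `A` itself when `A → B` is injective with image containing `B^p` -/
theorem data_of_isPBasis_of_pow_mem (hinj : Function.Injective (algebraMap A B))
    (hpow : ∀ b : B, b ^ p ∈ Set.range (algebraMap A B)) (hx : EGA41.IsPBasis p A x) :
    LinearIndependent A
      (fun e : {e : ι →₀ ℕ // ∀ i, e i < p} => e.1.prod fun i n => x i ^ n) ∧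
    Algebra.adjoin A (Set.range x) = ⊤ := by
  obtain ⟨h1, h2⟩ := data_of_isPBasis p x hx
  constructor
  · refine LinearIndependent.restrict_scalars (R := A) (K := EGA41.pPowerSubalgebra p A B) ?_ h1
    intro r s hrs
    apply hinj
    have := congrArg (Subtype.val) hrs
    simpa [Algebra.smul_def] using this
  · rw [eq_top_iff]
    intro b hbt
    clear hbt
    have hb : b ∈ Algebra.adjoin (EGA41.pPowerSubalgebra p A B) (Set.range x) := by
      rw [h2]; trivial
    induction hb using Algebra.adjoin_induction with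
    | mem z hz => exact Algebra.subset_adjoin hz
    | algebraMap r =>
      obtain ⟨a, ha⟩ := pPowerSubalgebra_le_range p hpow r.1 r.2
      change (r : B) ∈ _
      rw [← ha]
      exact Subalgebra.algebraMap_mem _ a
    | add a c _ _ ha hc => exact add_mem ha hc
    | mul a c _ _ ha hc => exact mul_mem ha hc

/-- universal property, `A → B` injective with image containing `B^p` -/
theorem existsUnique_algHom_of_pow_mem (hinj : Function.Injective (algebraMap A B))
    (hpow : ∀ b : B, b ^ p ∈ Set.range (algebraMap A B)) (hx : EGA41.IsPBasis p A x)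
    {E : Type w} [CommRing E] [Algebra A E] (z : ι → E)
    (hz : ∀ (i : ι) (a : A), algebraMap A B a = x i ^ p → algebraMap A E a = z i ^ p) :
    ∃! v : B →ₐ[A] E, ∀ i, v (x i) = z i := by
  obtain ⟨h1, h2⟩ := data_of_isPBasis_of_pow_mem p x hinj hpow hx
  choose a ha using fun i => hpow (x i)
  exact existsUnique_algHom p x a ha h1 h2 z (fun i => hz i (a i) (ha i))

end Bridge

end Groth.Agent.Lib.Helper19.PBasis
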