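import Groth.Agent.Lib.Helper7PField

/-!
# `p`-independence over a decreasing family of subfields (EGA 0_IV 21.8.x-type) (helper19)

Let `k` be a field of characteristic `p`, `(L_α)` a decreasing directed family of subfields of `k`
containing `k^p` with `⋂ L_α = E₀`.  A finite family which is `p`-free over `E₀` is `p`-free over
`L_α` for `α` large.
-/

set_option autoImplicit false
set_option linter.style.haveILetI false
set_option linter.unusedSectionVars false
universe u v

namespace Groth.Agent.Lib.Helper19.PDescend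

open MvPolynomial KaehlerDifferential Groth.Agent.Lib.Helper7.PPow

variable {k : Type u} [Field k] (p : ℕ) [Fact p.Prime] [CharP k p]

theorem algebraMap_comp_inclusion {L L' : Subfield k} (h : L ≤ L') :
    (algebraMap ↥L' k).comp (Subfield.inclusion h) = algebraMap ↥L k := by
  ext c
  rfl

theorem aeval_map_inclusion {L L' : Subfield k} (h : L ≤ L') {σ : Type*} (x : σ → k)
    (g : MvPolynomial σ ↥L) : aeval x (map (Subfield.inclusion h) g) = aeval x g := by
  rw [aeval_def, eval₂_map, algebraMap_comp_inclusion, ← aeval_def]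

theorem map_mem_restrictDegree {R S : Type*} [CommSemiring R] [CommSemiring S] (f : R →+* S)
    {σ : Type*} {n : ℕ} {g : MvPolynomial σ R} (hg : g ∈ restrictDegree σ R n) :
    map f g ∈ restrictDegree σ S n := by
  rw [mem_restrictDegree] at hg ⊢
  intro s hs i
  exact hg s (support_map_subset f g hs) i

theorem inclusion_injective {L L' : Subfield k} (h : L ≤ L') :
    Function.Injective (Subfield.inclusion h) := by
  intro a b hab
  apply Subtype.ext
  exact congrArg (fun c : ↥L' => (c : k)) hab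

/-- `p`-freeness over a bigger subfield implies `p`-freeness over a smaller one -/
theorem pfree_mono {L L' : Subfield k} (h : L ≤ L') {σ : Type*} {x : σ → k}
    (hx : PFree ↥L' p x) : PFree ↥L p x := by
  intro g hg h0
  have h1 := map_mem_restrictDegree (Subfield.inclusion h) hg
  have h2 : aeval x (map (Subfield.inclusion h) g) = 0 := by
    rw [aeval_map_inclusion]; exact h0
  have h3 := hx _ h1 h2
  exact map_injective _ (inclusion_injective h) (h3.trans (map_zero _).symm)

/-- uniqueness of the reduced representation, across subfields -/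
theorem eq_map_of_aeval_eq {L L' : Subfield k} (h : L ≤ L') {σ : Type*} {x : σ → k}
    (hx : PFree ↥L' p x) {g' : MvPolynomial σ ↥L'} (hg' : g' ∈ restrictDegree σ ↥L' (p - 1))
    {g : MvPolynomial σ ↥L} (hg : g ∈ restrictDegree σ ↥L (p - 1))
    (he : aeval x g' = aeval x g) : g' = map (Subfield.inclusion h) g := by
  have h1 := map_mem_restrictDegree (Subfield.inclusion h) hg
  have h2 : aeval x (g' - map (Subfield.inclusion h) g) = 0 := by
    rw [map_sub, aeval_map_inclusion, he, sub_self]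
  exact sub_eq_zero.1 (hx _ (Submodule.sub_mem _ hg' h1) h2)

/-- elements of `E[x]` have a reduced representation -/
theorem exists_reduced_of_mem_adjoin {E : Type*} [Field E] [Algebra E k]
    (hE : ∀ y : k, y ^ p ∈ Set.range (algebraMap E k)) {σ : Type*} (x : σ → k) {y : k}
    (hy : y ∈ Algebra.adjoin E (Set.range x)) :
    ∃ g ∈ restrictDegree σ E (p - 1), aeval x g = y := by
  rw [Algebra.adjoin_range_eq_range_aeval] at hy
  obtain ⟨f, rfl⟩ := hy
  choose a ha using fun i => hE (x i)
  obtain ⟨g, hg, hfg⟩ := exists_reduced_sub_mem_relIdeal p a f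
  refine ⟨g, hg, ?_⟩
  have := aeval_eq_zero_of_mem_relIdeal p x a ha hfg
  rw [map_sub, sub_eq_zero] at this
  exact this.symm

/-- converse of `PFree.option_elim` -/
theorem notMem_adjoin_of_pfree_option {E : Type*} [Field E] [Algebra E k]
    (hE : ∀ y : k, y ^ p ∈ Set.range (algebraMap E k)) {σ : Type*} {x : σ → k} {y : k}
    (hxy : PFree E p (fun o : Option σ => o.elim y x)) :
    y ∉ Algebra.adjoin E (Set.range x) := by
  intro hy
  have hli := linearIndependent_D_of_pfree (k := E) p hE hxy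
  have h1 := hli.notMem_span_image (s := Set.range (some : σ → Option σ)) (x := none)
    (by rintro ⟨i, hi⟩; exact Option.some_ne_none i hi)
  apply h1
  have h2 := D_mem_span_of_mem_adjoin (k := E) (E := E) (K := k)
    (fun e => Derivation.map_algebraMap _ e) hy
  refine Submodule.span_mono ?_ h2
  rintro _ ⟨_, ⟨i, rfl⟩, rfl⟩
  exact ⟨some i, ⟨i, rfl⟩, rfl⟩

section family

variable {ι : Type*} [Preorder ι] [IsDirected ι (fun a b => a ≤ b)]
  (L : ι → Subfield k) (hL : Antitone L) (E₀ : Subfield k) (hinf : ⨅ α, L α = E₀)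
  (hE₀ : ∀ y : k, y ^ p ∈ E₀)

include hL hinf hE₀

theorem pow_mem_range_of_family (α : ι) (y : k) : y ^ p ∈ Set.range (algebraMap ↥(L α) k) := by
  have h1 : E₀ ≤ L α := by rw [← hinf]; exact iInf_le _ α
  exact ⟨⟨y ^ p, h1 (hE₀ y)⟩, rfl⟩

/-- the key step: an element outside `E₀[x]` is outside `L_α[x]` for `α` large -/
theorem exists_notMem_adjoin {σ : Type*} (x : σ → k) (α₁ : ι) (hx : PFree ↥(L α₁) p x) (y : k)
    (hy : y ∉ Algebra.adjoin ↥E₀ (Set.range x)) :
    ∃ α, α₁ ≤ α ∧ y ∉ Algebra.adjoin ↥(L α) (Set.range x) := by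
  by_contra hcon
  push_neg at hcon
  have hEα := pow_mem_range_of_family p L hL E₀ hinf hE₀
  obtain ⟨g₁, hg₁, hy₁⟩ := exists_reduced_of_mem_adjoin p (hEα α₁) x (hcon α₁ le_rfl)
  have hcoeff : ∀ e, ((coeff e g₁ : ↥(L α₁)) : k) ∈ E₀ := by
    intro e
    rw [← hinf, Subfield.mem_iInf]
    intro β
    obtain ⟨γ, hγ₁, hγβ⟩ := exists_ge_ge α₁ β
    obtain ⟨gγ, hgγ, hyγ⟩ := exists_reduced_of_mem_adjoin p (hEα γ) x (hcon γ hγ₁)
    have := eq_map_of_aeval_eq p (hL hγ₁) hx hg₁ hgγ (hy₁.trans hyγ.symm)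
    rw [this, coeff_map]
    exact hL hγβ (coeff e gγ).2
  apply hy
  rw [← hy₁, aeval_def, eval₂_eq]
  refine Subalgebra.sum_mem _ fun e _ => ?_
  refine Subalgebra.mul_mem _ ?_ ?_
  · have h5 : algebraMap ↥(L α₁) k (coeff e g₁) =
        algebraMap ↥E₀ k ⟨((coeff e g₁ : ↥(L α₁)) : k), hcoeff e⟩ := rfl
    rw [h5]
    exact Subalgebra.algebraMap_mem _ _
  · exact Subalgebra.prod_mem _ fun i _ =>
      Subalgebra.pow_mem _ (Algebra.subset_adjoin (Set.mem_range_self i)) _

/-- **EGA 0_IV 21.8.x**: a finite `p`-free family over `E₀ = ⋂ L_α` is `p`-free over `L_α` for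
`α` large -/
theorem exists_pfree_of_finite (σ : Type v) [Finite σ] :
    ∀ (x : σ → k), PFree ↥E₀ p x → ∀ α₀ : ι, ∃ α, α₀ ≤ α ∧ PFree ↥(L α) p x := by
  have hEα := pow_mem_range_of_family p L hL E₀ hinf hE₀
  have hE₀' : ∀ y : k, y ^ p ∈ Set.range (algebraMap ↥E₀ k) := fun y => ⟨⟨y ^ p, hE₀ y⟩, rfl⟩
  refine Finite.induction_empty_option
    (P := fun σ => ∀ (x : σ → k), PFree ↥E₀ p x → ∀ α₀ : ι, ∃ α, α₀ ≤ α ∧ PFree ↥(L α) p x)
    ?_ ?_ ?_ σ
  · intro σ τ e ih x hx α₀
    obtain ⟨α, hα, h⟩ := ih (x ∘ e) (hx.comp_injective p e.injective) α₀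
    refine ⟨α, hα, ?_⟩
    have := h.comp_injective p e.symm.injective
    have hc : (x ∘ e) ∘ e.symm = x := by
      funext t
      simp
    rwa [hc] at this
  · intro x _ α₀
    exact ⟨α₀, le_rfl, pfree_empty p x⟩
  · intro σ _ ih x hx α₀
    obtain ⟨α₁, hα₁, h₁⟩ := ih (x ∘ some) (hx.comp_injective p (Option.some_injective σ)) α₀
    have hx' : (fun o : Option σ => o.elim (x none) (x ∘ some)) = x := by
      funext o
      cases o <;> rfl
    have hy : x none ∉ Algebra.adjoin ↥E₀ (Set.range (x ∘ some)) := by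
      apply notMem_adjoin_of_pfree_option p hE₀'
      rw [hx']
      exact hx
    obtain ⟨α, hα, hyα⟩ := exists_notMem_adjoin p L hL E₀ hinf hE₀ (x ∘ some) α₁ h₁ (x none) hy
    refine ⟨α, hα₁.trans hα, ?_⟩
    have h2 : PFree ↥(L α) p (x ∘ some) := pfree_mono p (hL hα) h₁
    have := PFree.option_elim p (hEα α) h2 hyα
    rwa [hx'] at this

end family

end Groth.Agent.Lib.Helper19.PDescend
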