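import Groth.Agent.Lib.Helper19PPOps

/-!
# Quasi-regularity of the family `ζ`, the monomial basis of `P^m`, and differential smoothness
(helper19)
-/

set_option autoImplicit false
set_option linter.style.haveILetI false
set_option linter.unusedSectionVars false
universe u w

namespace Groth.Agent.Lib.Helper19.PPBasis

open TensorProduct KaehlerDifferential MvPolynomial
  Groth.Agent.Lib.Helper19.SymGr Groth.Agent.Lib.Helper19.SymDiag
  Groth.Agent.Lib.Helper19.QRegDiag Groth.Agent.Lib.Helper19.QRegWeak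
  Groth.Agent.Lib.Helper19.QRegSpan Groth.Agent.Lib.Helper19.QRegConv
  Groth.Agent.Lib.Helper19.DiagDescent Groth.Agent.Lib.Helper19.DerPair
  Groth.Agent.Lib.Helper19.CharZeroSmooth Groth.Agent.Lib.Helper19.PPMono
  Groth.Agent.Lib.Helper19.PPDual Groth.Agent.Lib.Helper19.PPOps

variable (A B : Type u) [CommRing A] [CommRing B] [Algebra A B]

variable {ι : Type w} [Fintype ι] [DecidableEq ι] (z : ι → B)

/-- quasi-regularity of the family `ζ` -/
def QRz : Prop := ∀ (n : ℕ) (Q : MvPolynomial ι (B ⊗[A] B)), Q.IsHomogeneous n →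
  eval (zeta A B z) Q ∈ KaehlerDifferential.ideal A B ^ (n + 1) →
    ∀ d, Q.coeff d ∈ KaehlerDifferential.ideal A B

theorem eq_zero_of_tmul_one_mem (c : B)
    (h : c ⊗ₜ[A] (1 : B) ∈ KaehlerDifferential.ideal A B) : c = 0 := by
  have := (mem_ideal_iff A B _).1 h
  change Algebra.TensorProduct.lmul' A (c ⊗ₜ[A] (1 : B)) = 0 at this
  rwa [Algebra.TensorProduct.lmul'_apply_tmul, mul_one] at this

section ind

variable {A B z}

/-- linear independence of the monomials of degree `≤ m` modulo `I^(m+1)` -/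
theorem eq_zero_of_sum_mem (hqr : QRz A B z) (m : ℕ)
    [Fintype {p : ι → ℕ // ∑ i, p i ≤ m}] (c : {p : ι → ℕ // ∑ i, p i ≤ m} → B)
    (hc : ∑ t, (c t ⊗ₜ[A] (1 : B)) * mono (zeta A B z) t.1 ∈
      KaehlerDifferential.ideal A B ^ (m + 1)) : ∀ t, c t = 0 := by
  classical
  suffices h : ∀ n, ∀ t : {p : ι → ℕ // ∑ i, p i ≤ m}, ∑ i, t.1 i = n → c t = 0 from
    fun t => h _ t rfl
  intro n
  induction n using Nat.strong_induction_on with
  | _ n ih =>
    intro t₀ ht₀
    have hnm : n ≤ m := ht₀ ▸ t₀.2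
    let f : {p : ι → ℕ // ∑ i, p i ≤ m} → (ι →₀ ℕ) := fun t => Finsupp.equivFunOnFinite.symm t.1
    have hf : Function.Injective f := fun s t h =>
      Subtype.ext (Finsupp.equivFunOnFinite.symm.injective h)
    let F := Finset.univ.filter fun t : {p : ι → ℕ // ∑ i, p i ≤ m} => ∑ i, t.1 i = n
    let Q : MvPolynomial ι (B ⊗[A] B) := ∑ t ∈ F, monomial (f t) (c t ⊗ₜ[A] (1 : B))
    have hQ : Q.IsHomogeneous n := by
      apply IsHomogeneous.sum
      intro t ht
      apply isHomogeneous_monomial
      rw [Finsupp.degree_eq_sum]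
      exact (Finset.mem_filter.1 ht).2
    have hevQ : eval (zeta A B z) Q = ∑ t ∈ F, (c t ⊗ₜ[A] (1 : B)) * mono (zeta A B z) t.1 := by
      rw [map_sum]
      refine Finset.sum_congr rfl fun t _ => ?_
      rw [eval_monomial, Finsupp.prod_fintype _ _ (fun i => pow_zero _)]
      rfl
    have hev : eval (zeta A B z) Q ∈ KaehlerDifferential.ideal A B ^ (n + 1) := by
      rw [hevQ]
      have hsplit := Finset.sum_filter_add_sum_filter_not Finset.univ
        (fun t : {p : ι → ℕ // ∑ i, p i ≤ m} => ∑ i, t.1 i = n)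
        (fun t => (c t ⊗ₜ[A] (1 : B)) * mono (zeta A B z) t.1)
      have h1 : ∑ t ∈ F, (c t ⊗ₜ[A] (1 : B)) * mono (zeta A B z) t.1 =
          ∑ t, (c t ⊗ₜ[A] (1 : B)) * mono (zeta A B z) t.1 -
            ∑ t ∈ Finset.univ.filter (fun t : {p : ι → ℕ // ∑ i, p i ≤ m} => ¬ ∑ i, t.1 i = n),
              (c t ⊗ₜ[A] (1 : B)) * mono (zeta A B z) t.1 := by
        rw [← hsplit]; ring
      rw [h1]
      refine Ideal.sub_mem _ (Ideal.pow_le_pow_right (Nat.succ_le_succ hnm) hc) ?_
      refine Ideal.sum_mem _ fun t ht => ?_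
      have hne : ¬ ∑ i, t.1 i = n := (Finset.mem_filter.1 ht).2
      rcases Nat.lt_or_gt_of_ne hne with hlt | hgt
      · rw [ih _ hlt t rfl, TensorProduct.zero_tmul, zero_mul]
        exact Ideal.zero_mem _
      · apply Ideal.mul_mem_left
        exact Ideal.pow_le_pow_right hgt (mono_mem _ _ (zeta_mem A B z) t.1)
    have hcoeff := hqr n Q hQ hev (f t₀)
    have hco : Q.coeff (f t₀) = c t₀ ⊗ₜ[A] (1 : B) := by
      rw [coeff_sum, Finset.sum_eq_single t₀]
      · rw [coeff_monomial, if_pos rfl]
      · intro t _ hne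
        rw [coeff_monomial, if_neg]
        intro h
        exact hne (hf h)
      · intro h
        exact absurd (show t₀ ∈ F from Finset.mem_filter.2 ⟨Finset.mem_univ _, ht₀⟩) h
    rw [hco] at hcoeff
    exact eq_zero_of_tmul_one_mem A B _ hcoeff

end ind

section basis

variable (hz : Submodule.span B (Set.range fun i => KaehlerDifferential.D A B (z i)) = ⊤)

/-- the class of `ζ^p` in `P^m` -/
noncomputable def monoP (m : ℕ) (t : {p : ι → ℕ // ∑ i, p i ≤ m}) : PP16.P m A B :=
  Ideal.Quotient.mk _ (mono (zeta A B z) t.1)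

theorem monoP_eq (m : ℕ) (t : {p : ι → ℕ // ∑ i, p i ≤ m}) :
    monoP A B z m t =
      ∏ i, (PP16.dn m A B (z i) - algebraMap B (PP16.P m A B) (z i)) ^ (t.1 i) := by
  rw [monoP, mono, map_prod]
  refine Finset.prod_congr rfl fun i _ => ?_
  rw [map_pow, zeta, map_sub]
  rfl

theorem smul_mk (m : ℕ) (b : B) (x : B ⊗[A] B) :
    b • (Ideal.Quotient.mk (KaehlerDifferential.ideal A B ^ (m + 1)) x : PP16.P m A B) =
      Ideal.Quotient.mk _ ((b ⊗ₜ[A] (1 : B)) * x) := by
  rw [Algebra.smul_def]
  change Ideal.Quotient.mk _ (b ⊗ₜ[A] (1 : B)) * Ideal.Quotient.mk _ x = _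
  rw [← map_mul]

include hz in
theorem span_monoP (m : ℕ) : ⊤ ≤ Submodule.span B (Set.range (monoP A B z m)) := by
  intro y _
  obtain ⟨x, rfl⟩ := Ideal.Quotient.mk_surjective y
  let mkL : B ⊗[A] B →ₗ[B] PP16.P m A B :=
    (Ideal.Quotient.mkₐ B (KaehlerDifferential.ideal A B ^ (m + 1))).toLinearMap
  have hx : x ∈ (KaehlerDifferential.ideal A B ^ (m + 1 - (m + 1))).restrictScalars B := by
    rw [Nat.sub_self, pow_zero, Ideal.one_eq_top]; trivial
  have hx' := pow_le_Wspan A B z hz (m + 1) (m + 1) le_rfl hx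
  rw [Nat.sub_self] at hx'
  have hle : Wspan A B z 0 (m + 1) ⊔
      (KaehlerDifferential.ideal A B ^ (m + 1)).restrictScalars B ≤
      (Submodule.span B (Set.range (monoP A B z m))).comap mkL := by
    refine sup_le ?_ ?_
    · rw [Wspan, Submodule.span_le]
      rintro _ ⟨p, _, hp, rfl⟩
      exact Submodule.subset_span ⟨⟨p, Nat.lt_succ_iff.1 hp⟩, rfl⟩
    · intro y hy
      have h0 : mkL y = 0 := Ideal.Quotient.eq_zero_iff_mem.2 hy
      rw [Submodule.mem_comap, h0]
      exact Submodule.zero_mem _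
  exact hle hx'

variable {A B z}

theorem linearIndependent_monoP (hqr : QRz A B z) (m : ℕ) :
    LinearIndependent B (monoP A B z m) := by
  classical
  haveI := finite_multiIndex (ι := ι) m
  haveI : Fintype {p : ι → ℕ // ∑ i, p i ≤ m} := Fintype.ofFinite _
  rw [Fintype.linearIndependent_iff]
  intro c hc
  apply eq_zero_of_sum_mem hqr m c
  rw [← Ideal.Quotient.eq_zero_iff_mem, map_sum, ← hc]
  refine Finset.sum_congr rfl fun t _ => ?_
  rw [monoP, smul_mk]

include hz in
/-- the monomial basis of `P^m` -/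
theorem exists_basis (hqr : QRz A B z) (m : ℕ) :
    ∃ b : Module.Basis {p : ι → ℕ // ∑ i, p i ≤ m} B (PP16.P m A B),
      ∀ t, b t = monoP A B z m t :=
  ⟨Module.Basis.mk (linearIndependent_monoP hqr m) (span_monoP A B z hz m),
    fun t => Module.Basis.mk_apply _ _ t⟩

end basis

section fromSmooth

variable {A B z}

/-- an `R/J`-linear functional on `I/I²` from a `B`-linear functional on `Ω` -/
noncomputable def functionalOf (φ : Ω[B⁄A] →ₗ[B] B) :
    (KaehlerDifferential.ideal A B).Cotangent →ₗ[(B ⊗[A] B) ⧸ KaehlerDifferential.ideal A B]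
      (B ⊗[A] B) ⧸ KaehlerDifferential.ideal A B :=
  { toFun := fun ω => quotEquiv A B (φ (kOfCot A B ω))
    map_add' := fun a b => by rw [map_add, map_add, map_add]
    map_smul' := fun c ω => by
      obtain ⟨b, rfl⟩ := (quotRingEquiv A B).surjective c
      rw [quot_smul, map_smul, map_smul, RingHom.id_apply, smul_eq_mul, smul_eq_mul, map_mul]
      rfl }

theorem functionalOf_apply (φ : Ω[B⁄A] →ₗ[B] B) (x : KaehlerDifferential.ideal A B) :
    functionalOf φ ((KaehlerDifferential.ideal A B).toCotangent x) =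
      quotEquiv A B (φ (toK A B x)) := rfl

theorem qrz_of_isDiffSmooth (hB : PP16.IsDiffSmooth A B)
    (b : Module.Basis ι B (KaehlerDifferential A B))
    (hb : ∀ i, b i = KaehlerDifferential.D A B (z i)) : QRz A B z := by
  classical
  intro n Q hQ hev d
  rcases Nat.eq_zero_or_pos n with h0 | hn
  · subst h0
    have hC : Q = C (Q.coeff 0) :=
      (totalDegree_eq_zero_iff_eq_C).1 (Nat.le_zero.1 (hQ.totalDegree_le))
    rw [hC, eval_C, zero_add, pow_one] at hev
    rw [hC, coeff_C]
    split_ifs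
    · exact hev
    · exact Ideal.zero_mem _
  · let e := Fintype.equivFin ι
    let x' : Fin (Fintype.card ι) → KaehlerDifferential.ideal A B :=
      fun k => ⟨zeta A B z (e.symm k), zeta_mem A B z _⟩
    have hμ : ∀ i j : Fin (Fintype.card ι),
        functionalOf (b.coord (e.symm i)) ((KaehlerDifferential.ideal A B).toCotangent (x' j)) =
          if i = j then Ideal.Quotient.mk _ (1 : B ⊗[A] B) else 0 := by
      intro i j
      rw [functionalOf_apply]
      change quotEquiv A B (b.coord (e.symm i) (KaehlerDifferential.D A B (z (e.symm j)))) = _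
      rw [← hb, Module.Basis.coord_apply, Module.Basis.repr_self, Finsupp.single_apply]
      by_cases h : i = j
      · rw [if_pos h, if_pos (by rw [h]), map_one, map_one]
      · rw [if_neg h, if_neg (fun h' => h (e.symm.injective h').symm), map_zero]
    have hinj := fun (κ : Type u) [Fintype κ] [Nonempty κ] =>
      symToGr_injective_of_isDiffSmooth A B hB κ
    have hfe : ((fun k => (x' k : B ⊗[A] B)) ∘ e) = zeta A B z := by
      funext i
      simp [x']
    have := qr_of_symToGr_injective (KaehlerDifferential.ideal A B) hinj (Fintype.card ι)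
      (fun k => functionalOf (b.coord (e.symm k))) x' 1 hμ n hn (rename e Q)
      (hQ.rename_isHomogeneous)
      (by rw [eval_rename, hfe]; exact hev) (d.mapDomain e)
    rwa [one_pow, one_mul, coeff_rename_mapDomain e e.injective] at this

end fromSmooth

section fromDual

variable {A B z}
variable (hz : Submodule.span B (Set.range fun i => KaehlerDifferential.D A B (z i)) = ⊤)
  (Dp : (ι → ℕ) → (B →ₗ[A] B))
  (hord : ∀ p, Diff16.IsDiffOpLE A B B B (∑ i, p i) (Dp p))
  (hDz : ∀ p q : ι → ℕ, Dp p (∏ i, z i ^ q i) =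
        ((∏ i, Nat.choose (q i) (p i) : ℕ) : B) * ∏ i, z i ^ (q i - p i))

include hord hDz in
theorem qrz_of_dual : QRz A B z := by
  classical
  intro n Q hQ hev d
  by_cases hdn : d.degree = n
  swap
  · rw [hQ.coeff_eq_zero hdn]
    exact Ideal.zero_mem _
  have hdn' : ∑ i, d i = n := by rw [← hdn, Finsupp.degree_eq_sum]
  have := coeff_mem_of_dual (S := B) (R := B ⊗[A] B) (Algebra.TensorProduct.lmul'' A)
    (zeta A B z)
    (fun i => by
      have h : zeta A B z i ∈
          RingHom.ker (Algebra.TensorProduct.lmul'' A : B ⊗[A] B →ₐ[B] B) := by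
        rw [ker_lmul]; exact zeta_mem A B z i
      exact (RingHom.mem_ker).1 h)
    n d (linB A B (Dp ⇑d))
    (fun y hy => by
      rw [ker_lmul] at hy
      have := (isDiffOpLE_iff_linB A B _ (Dp ⇑d)).1 (hord ⇑d)
      rw [hdn'] at this
      exact this y hy)
    (fun d' _ => by
      have := linB_mono_zeta A B z (Dp ⇑d) ⇑d (hDz ⇑d) ⇑d'
      rw [mono] at this
      rw [this]
      by_cases h : d' = d
      · rw [if_pos h, if_pos (by rw [h])]
      · rw [if_neg h, if_neg (fun h' => h (DFunLike.coe_injective h'))])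
    Q hQ (by rw [ker_lmul]; exact hev)
  rwa [ker_lmul] at this

end fromDual

section toSmooth

variable {A B z}
variable (hz : Submodule.span B (Set.range fun i => KaehlerDifferential.D A B (z i)) = ⊤)

include hz

theorem mem_span_zeta_classes (v : (KaehlerDifferential.ideal A B).Cotangent) :
    v ∈ Submodule.span (B ⊗[A] B) (Set.range fun i =>
      (KaehlerDifferential.ideal A B).toCotangent ⟨zeta A B z i, zeta_mem A B z i⟩) := by
  have hv : kOfCot A B v ∈
      Submodule.span B (Set.range fun i => KaehlerDifferential.D A B (z i)) := by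
    rw [hz]; trivial
  have key : ∀ ω : Ω[B⁄A],
      ω ∈ Submodule.span B (Set.range fun i => KaehlerDifferential.D A B (z i)) →
      cotOfK' A B ω ∈ Submodule.span (B ⊗[A] B) (Set.range fun i =>
        (KaehlerDifferential.ideal A B).toCotangent ⟨zeta A B z i, zeta_mem A B z i⟩) := by
    intro ω hω
    induction hω using Submodule.span_induction with
    | mem y hy =>
      obtain ⟨i, rfl⟩ := hy
      exact Submodule.subset_span ⟨i, rfl⟩
    | zero => rw [map_zero]; exact Submodule.zero_mem _
    | add y y' _ _ hy hy' => rw [map_add]; exact Submodule.add_mem _ hy hy'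
    | smul c y _ hy =>
      rw [← algebraMap_smul (B ⊗[A] B) c y, map_smul]
      exact Submodule.smul_mem _ _ hy
  exact key _ hv

theorem linearIndependent_D (hqr : QRz A B z) :
    LinearIndependent B (fun i => KaehlerDifferential.D A B (z i)) := by
  classical
  rw [Fintype.linearIndependent_iff]
  intro c hc
  let y : KaehlerDifferential.ideal A B :=
    ∑ i, (algebraMap B (B ⊗[A] B) (c i)) • ⟨zeta A B z i, zeta_mem A B z i⟩
  have hy : toK A B y = 0 := by
    rw [← hc, map_sum]
    refine Finset.sum_congr rfl fun i _ => ?_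
    rw [map_smul, toK_zeta, algebraMap_smul]
  have hy2 : (y : B ⊗[A] B) ∈ KaehlerDifferential.ideal A B ^ 2 := by
    rw [← Ideal.toCotangent_eq_zero]
    exact hy
  have hyc : (y : B ⊗[A] B) = ∑ i, (c i ⊗ₜ[A] (1 : B)) * zeta A B z i := by
    rw [Submodule.coe_sum]
    refine Finset.sum_congr rfl fun i _ => ?_
    rw [Submodule.coe_smul, smul_eq_mul]
    rfl
  let Q : MvPolynomial ι (B ⊗[A] B) := ∑ i, C (c i ⊗ₜ[A] (1 : B)) * X i
  have hQ : Q.IsHomogeneous 1 := by
    apply IsHomogeneous.sum
    intro i _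
    have := (isHomogeneous_C ι (c i ⊗ₜ[A] (1 : B))).mul (isHomogeneous_X (B ⊗[A] B) i)
    rwa [zero_add] at this
  have hev : eval (zeta A B z) Q ∈ KaehlerDifferential.ideal A B ^ (1 + 1) := by
    have : eval (zeta A B z) Q = (y : B ⊗[A] B) := by
      rw [hyc, map_sum]
      refine Finset.sum_congr rfl fun i _ => ?_
      rw [map_mul, eval_C, eval_X]
    rw [this]
    exact hy2
  intro i
  have hcoeff := hqr 1 Q hQ hev (Finsupp.single i 1)
  have hco : Q.coeff (Finsupp.single i 1) = c i ⊗ₜ[A] (1 : B) := by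
    rw [coeff_sum, Finset.sum_eq_single i]
    · rw [coeff_C_mul, coeff_X, if_pos rfl, mul_one]
    · intro j _ hne
      rw [coeff_C_mul, coeff_X, if_neg, mul_zero]
      intro h
      exact hne ((Finsupp.single_left_inj one_ne_zero).1 h)
    · intro h
      exact absurd (Finset.mem_univ i) h
  rw [hco] at hcoeff
  exact eq_zero_of_tmul_one_mem A B _ hcoeff

theorem exists_basis_D (hqr : QRz A B z) :
    ∃ b : Module.Basis ι B (KaehlerDifferential A B), ∀ i, b i = KaehlerDifferential.D A B (z i) :=
  ⟨Module.Basis.mk (linearIndependent_D hz hqr) (le_of_eq hz.symm),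
    fun i => Module.Basis.mk_apply _ _ i⟩

theorem isDiffSmooth_of_qrz (hqr : QRz A B z) : PP16.IsDiffSmooth A B := by
  classical
  obtain ⟨b, hb⟩ := exists_basis_D hz hqr
  haveI : Module.Free B (KaehlerDifferential A B) := Module.Free.of_basis b
  refine isDiffSmooth_of_projective_of_injective A B inferInstance fun κ _ _ => ?_
  rw [injective_iff_map_eq_zero]
  intro σ hσ
  let e := Fintype.equivFin ι
  let x' : Fin (Fintype.card ι) → KaehlerDifferential.ideal A B :=
    fun k => ⟨zeta A B z (e.symm k), zeta_mem A B z _⟩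
  have hsp : ∀ v : (KaehlerDifferential.ideal A B).Cotangent,
      v ∈ Submodule.span (B ⊗[A] B) (Set.range fun k =>
        (KaehlerDifferential.ideal A B).toCotangent (x' k)) := by
    intro v
    refine Submodule.span_mono ?_ (mem_span_zeta_classes hz v)
    rintro _ ⟨i, rfl⟩
    refine ⟨e i, ?_⟩
    change (KaehlerDifferential.ideal A B).toCotangent ⟨zeta A B z (e.symm (e i)), _⟩ = _
    simp only [Equiv.symm_apply_apply]
  choose c hc using fun v => (Submodule.mem_span_range_iff_exists_fun (B ⊗[A] B)).1 (hsp v)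
  have hl := pow_smul_mem_span (KaehlerDifferential.ideal A B) κ x' 1 c
    (fun v => by rw [one_smul]; exact (hc v).symm) σ
  rw [one_pow, one_smul] at hl
  refine eq_zero_of_mem_span_Tx (KaehlerDifferential.ideal A B) κ x' ?_ σ hl hσ
  intro Q hQ hev d
  have := hqr (Fintype.card κ) (rename e.symm Q) hQ.rename_isHomogeneous
    (by rw [eval_rename]; exact hev) (d.mapDomain e.symm)
  rwa [coeff_rename_mapDomain e.symm e.symm.injective] at this

end toSmooth

end Groth.Agent.Lib.Helper19.PPBasis
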