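import Groth.Agent.Lib.Helper19PPBasis

/-!
# Construction of the divided-power operators `D_p` from the monomial basis of `P^m` (helper19)
-/

set_option autoImplicit false
set_option linter.style.haveILetI false
set_option linter.unusedSectionVars false
universe u w

namespace Groth.Agent.Lib.Helper19.PPDivPow

open TensorProduct KaehlerDifferential MvPolynomial
  Groth.Agent.Lib.Helper19.DiagDescent Groth.Agent.Lib.Helper19.DerPair
  Groth.Agent.Lib.Helper19.CharZeroSmooth Groth.Agent.Lib.Helper19.PPMono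
  Groth.Agent.Lib.Helper19.PPDual Groth.Agent.Lib.Helper19.PPOps
  Groth.Agent.Lib.Helper19.PPBasis

variable (A B : Type u) [CommRing A] [CommRing B] [Algebra A B]

section opOf

/-- the operator `b ↦ φ (d^m b)` attached to a `B`-linear form on `P^m` -/
noncomputable def opOf (m : ℕ) (φ : PP16.P m A B →ₗ[B] B) : B →ₗ[A] B :=
  (φ.restrictScalars A).comp (PP16.dn m A B).toLinearMap

theorem opOf_apply (m : ℕ) (φ : PP16.P m A B →ₗ[B] B) (b : B) :
    opOf A B m φ b = φ (PP16.dn m A B b) := rfl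

theorem linB_opOf (m : ℕ) (φ : PP16.P m A B →ₗ[B] B) (x : B ⊗[A] B) :
    linB A B (opOf A B m φ) x = φ (Ideal.Quotient.mk _ x) := by
  induction x using TensorProduct.induction_on with
  | zero => simp
  | tmul a b =>
    rw [linB_tmul, opOf_apply, ← smul_eq_mul, ← map_smul]
    congr 1
    change a • (Ideal.Quotient.mk (KaehlerDifferential.ideal A B ^ (m + 1))
      ((1 : B) ⊗ₜ[A] b) : PP16.P m A B) = _
    rw [smul_mk, Algebra.TensorProduct.tmul_mul_tmul, mul_one, one_mul]
  | add x y hx hy => rw [map_add, map_add, map_add, hx, hy]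

theorem isDiffOpLE_opOf (m : ℕ) (φ : PP16.P m A B →ₗ[B] B) :
    Diff16.IsDiffOpLE A B B B m (opOf A B m φ) := by
  rw [isDiffOpLE_iff_linB]
  intro x hx
  rw [linB_opOf, Ideal.Quotient.eq_zero_iff_mem.2 hx, map_zero]

end opOf

variable {ι : Type w} [Fintype ι] [DecidableEq ι] (z : ι → B)

theorem one_tmul_expand (q : ι → ℕ) :
    (1 : B) ⊗ₜ[A] (∏ i, z i ^ q i) =
      ∑ r ∈ Fintype.piFinset (fun i => Finset.range (q i + 1)),
        (∏ i, (z i ^ (q i - r i) * (((q i).choose (r i) : ℕ) : B))) • mono (zeta A B z) r := by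
  have h1 : (1 : B) ⊗ₜ[A] (∏ i, z i ^ q i) =
      ∏ i, (zeta A B z i + z i ⊗ₜ[A] (1 : B)) ^ q i := by
    have : ∀ i, zeta A B z i + z i ⊗ₜ[A] (1 : B) = (1 : B) ⊗ₜ[A] z i := fun i => by
      rw [zeta, sub_add_cancel]
    simp_rw [this, Algebra.TensorProduct.tmul_pow, one_pow]
    rw [prod_tmul, Finset.prod_const_one]
  rw [h1, prod_add_pow]
  refine Finset.sum_congr rfl fun r _ => ?_
  rw [Algebra.smul_def, mono, map_prod, ← Finset.prod_mul_distrib]
  refine Finset.prod_congr rfl fun i _ => ?_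
  rw [map_mul, map_pow, map_natCast, Algebra.TensorProduct.algebraMap_apply]
  change _ = ((z i ⊗ₜ[A] (1 : B)) ^ (q i - r i) * _) * _
  ring

variable {A B z}
variable (hz : Submodule.span B (Set.range fun i => KaehlerDifferential.D A B (z i)) = ⊤)

include hz

theorem exists_dividedPowerOperators (hqr : QRz A B z) :
    ∃ Dp : (ι → ℕ) → (B →ₗ[A] B),
      (∀ p, Diff16.IsDiffOpLE A B B B (∑ i, p i) (Dp p)) ∧
      ∀ p q : ι → ℕ, Dp p (∏ i, z i ^ q i) =
          ((∏ i, Nat.choose (q i) (p i) : ℕ) : B) * ∏ i, z i ^ (q i - p i) := by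
  classical
  choose β hβ using fun m => exists_basis hz hqr m
  let Dp : (ι → ℕ) → (B →ₗ[A] B) := fun p =>
    opOf A B (∑ i, p i) ((β (∑ i, p i)).coord ⟨p, le_rfl⟩)
  refine ⟨Dp, fun p => isDiffOpLE_opOf A B _ _, fun p q => ?_⟩
  have hpair : ∀ r : ι → ℕ, linB A B (Dp p) (mono (zeta A B z) r) = if r = p then 1 else 0 := by
    intro r
    rw [linB_opOf]
    by_cases hr : ∑ i, r i ≤ ∑ i, p i
    · have : (Ideal.Quotient.mk (KaehlerDifferential.ideal A B ^ (∑ i, p i + 1))
          (mono (zeta A B z) r) : PP16.P (∑ i, p i) A B) = β (∑ i, p i) ⟨r, hr⟩ := by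
        rw [hβ]; rfl
      rw [this, Module.Basis.coord_apply, Module.Basis.repr_self, Finsupp.single_apply]
      by_cases hrp : r = p
      · subst hrp
        rw [if_pos rfl, if_pos rfl]
      · rw [if_neg hrp, if_neg]
        intro h
        exact hrp (congrArg Subtype.val h)
    · have hmem : mono (zeta A B z) r ∈ KaehlerDifferential.ideal A B ^ (∑ i, p i + 1) :=
        Ideal.pow_le_pow_right (Nat.succ_le_of_lt (not_le.1 hr))
          (mono_mem _ _ (zeta_mem A B z) r)
      rw [Ideal.Quotient.eq_zero_iff_mem.2 hmem, map_zero, if_neg]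
      rintro rfl
      exact hr le_rfl
  rw [← linB_one_tmul A B (Dp p), one_tmul_expand, map_sum]
  simp_rw [map_smul, hpair, smul_eq_mul, mul_ite, mul_one, mul_zero]
  rw [Finset.sum_ite_eq']
  split_ifs with hmem
  · rw [Finset.prod_mul_distrib, Nat.cast_prod, mul_comm]
  · rw [Fintype.mem_piFinset] at hmem
    push_neg at hmem
    obtain ⟨i, hi⟩ := hmem
    rw [Finset.mem_range, not_lt] at hi
    have : (q i).choose (p i) = 0 := Nat.choose_eq_zero_of_lt hi
    rw [Finset.prod_eq_zero (Finset.mem_univ i) this, Nat.cast_zero, zero_mul]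

end Groth.Agent.Lib.Helper19.PPDivPow
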