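import Groth.Agent.Lib.Helper19PPMono

/-!
# Pairing of divided-power operators with the monomials in `ζ` (helper19)
-/

set_option autoImplicit false
set_option linter.style.haveILetI false
set_option linter.unusedSectionVars false
universe u v w

namespace Groth.Agent.Lib.Helper19.PPDual

open TensorProduct KaehlerDifferential MvPolynomial
  Groth.Agent.Lib.Helper19.DiagDescent Groth.Agent.Lib.Helper19.DerPair
  Groth.Agent.Lib.Helper19.CharZeroSmooth Groth.Agent.Lib.Helper19.PPMono

section abstract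

variable {S : Type u} {R : Type v} [CommRing S] [CommRing R] [Algebra S R] (μ : R →ₐ[S] S)
  {ι : Type w} [Fintype ι]

/-- If a functional `U` kills `J^(n+1)` and is dual to the monomial `x^d` among the monomials of
degree `n`, then the coefficient at `d` of a homogeneous relation mod `J^(n+1)` lies in `J`. -/
theorem coeff_mem_of_dual (x : ι → R) (hx : ∀ i, μ (x i) = 0) (n : ℕ) (d : ι →₀ ℕ)
    (U : R →ₗ[S] S) (hU : ∀ y ∈ RingHom.ker μ ^ (n + 1), U y = 0)
    (hpair : ∀ d' : ι →₀ ℕ, d'.degree = n → U (∏ i, x i ^ d' i) = if d' = d then 1 else 0)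
    (Q : MvPolynomial ι R) (hQ : Q.IsHomogeneous n) (hev : eval x Q ∈ RingHom.ker μ ^ (n + 1)) :
    Q.coeff d ∈ RingHom.ker μ := by
  classical
  have hxJ : ∀ i, x i ∈ RingHom.ker μ := fun i => (RingHom.mem_ker).2 (hx i)
  have h0 : U (eval x Q) = 0 := hU _ hev
  rw [MvPolynomial.eval_eq', map_sum] at h0
  have hterm : ∀ d' ∈ Q.support, U (Q.coeff d' * ∏ i, x i ^ d' i) =
      if d' = d then μ (Q.coeff d) else 0 := by
    intro d' hd'
    have hdeg : d'.degree = n := by
      have := hQ (mem_support_iff.1 hd')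
      rw [← this, Finsupp.degree_eq_weight_one]
      rfl
    have hdeg' : ∑ i, d' i = n := by
      rw [← hdeg, Finsupp.degree_eq_sum]
    have hmem : ∏ i, x i ^ d' i ∈ RingHom.ker μ ^ n := by
      rw [← hdeg']; exact mono_mem _ x hxJ d'
    have h1 : Q.coeff d' * ∏ i, x i ^ d' i =
        (Q.coeff d' - algebraMap S R (μ (Q.coeff d'))) * ∏ i, x i ^ d' i +
          μ (Q.coeff d') • ∏ i, x i ^ d' i := by
      rw [Algebra.smul_def]; ring
    rw [h1, map_add, hU, zero_add, map_smul, hpair d' hdeg, smul_eq_mul]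
    · by_cases hdd : d' = d
      · subst hdd
        rw [if_pos rfl, if_pos rfl, mul_one]
      · rw [if_neg hdd, if_neg hdd, mul_zero]
    · rw [pow_succ']
      exact Ideal.mul_mem_mul (sub_algebraMap_mem_ker μ _) hmem
  rw [Finset.sum_congr rfl hterm, Finset.sum_ite_eq' Q.support d] at h0
  by_cases hsupp : d ∈ Q.support
  · rw [if_pos hsupp] at h0
    exact (RingHom.mem_ker).2 h0
  · rw [notMem_support_iff.1 hsupp]
    exact Ideal.zero_mem _

end abstract

variable (A B : Type u) [CommRing A] [CommRing B] [Algebra A B]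

section pairing

variable {ι : Type w} [Fintype ι] [DecidableEq ι] (z : ι → B)

theorem prod_tmul {κ : Type*} (s : Finset κ) (a b : κ → B) :
    ∏ i ∈ s, (a i ⊗ₜ[A] b i) = (∏ i ∈ s, a i) ⊗ₜ[A] (∏ i ∈ s, b i) := by
  classical
  induction s using Finset.induction_on with
  | empty => simp [Algebra.TensorProduct.one_def]
  | insert k s hk ih =>
    rw [Finset.prod_insert hk, Finset.prod_insert hk, Finset.prod_insert hk, ih,
      Algebra.TensorProduct.tmul_mul_tmul]

theorem mono_zeta_expand (q : ι → ℕ) :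
    mono (zeta A B z) q = ∑ r ∈ Fintype.piFinset (fun i => Finset.range (q i + 1)),
      (∏ i, ((-z i) ^ (q i - r i) * (((q i).choose (r i) : ℕ) : B))) ⊗ₜ[A] (∏ i, z i ^ r i) := by
  have h1 : mono (zeta A B z) q =
      ∏ i, ((1 : B) ⊗ₜ[A] z i + (-z i) ⊗ₜ[A] (1 : B)) ^ q i := by
    rw [mono]
    refine Finset.prod_congr rfl fun i _ => ?_
    rw [zeta, TensorProduct.neg_tmul, sub_eq_add_neg]
  rw [h1, prod_add_pow]
  refine Finset.sum_congr rfl fun r _ => ?_
  rw [← prod_tmul]
  refine Finset.prod_congr rfl fun i _ => ?_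
  rw [Algebra.TensorProduct.tmul_pow, Algebra.TensorProduct.tmul_pow, one_pow, one_pow,
    Algebra.TensorProduct.natCast_def, Algebra.TensorProduct.tmul_mul_tmul,
    Algebra.TensorProduct.tmul_mul_tmul, one_mul, mul_one, mul_one]

/-- an operator with the values of `D_p` on the monomials `z^q` is dual to `ζ^p` -/
theorem linB_mono_zeta (D : B →ₗ[A] B) (p : ι → ℕ)
    (hD : ∀ q : ι → ℕ, D (∏ i, z i ^ q i) =
      ((∏ i, Nat.choose (q i) (p i) : ℕ) : B) * ∏ i, z i ^ (q i - p i)) (q : ι → ℕ) :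
    linB A B D (mono (zeta A B z) q) = if q = p then 1 else 0 := by
  rw [mono_zeta_expand, map_sum]
  have hterm : ∀ r ∈ Fintype.piFinset (fun i => Finset.range (q i + 1)),
      linB A B D ((∏ i, ((-z i) ^ (q i - r i) * (((q i).choose (r i) : ℕ) : B))) ⊗ₜ[A]
        (∏ i, z i ^ r i)) =
      ∏ i, (((-z i) ^ (q i - r i) * (((q i).choose (r i) : ℕ) : B)) *
        ((((r i).choose (p i) : ℕ) : B) * z i ^ (r i - p i))) := by
    intro r _
    rw [linB_tmul, hD, Nat.cast_prod, ← Finset.prod_mul_distrib, ← Finset.prod_mul_distrib]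
  have hpu := Finset.prod_univ_sum (fun i => Finset.range (q i + 1))
    (fun i k => ((-z i) ^ (q i - k) * (((q i).choose k : ℕ) : B)) *
      ((((k).choose (p i) : ℕ) : B) * z i ^ (k - p i)))
  rw [Finset.sum_congr rfl hterm, ← hpu]
  simp_rw [sv_identity]
  by_cases hqp : q = p
  · subst hqp
    rw [if_pos rfl]
    apply Finset.prod_eq_one
    intro i _
    rw [if_pos rfl]
  · rw [if_neg hqp]
    obtain ⟨i, hi⟩ := Function.ne_iff.1 hqp
    exact Finset.prod_eq_zero (Finset.mem_univ i) (if_neg hi)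

variable (hz : Submodule.span B (Set.range fun i => KaehlerDifferential.D A B (z i)) = ⊤)

include hz

/-- a finite-order operator with the values of `D_p` on the `z^q` has order at most `|p|` -/
theorem isDiffOpLE_of_values (D : B →ₗ[A] B) (p : ι → ℕ) (k : ℕ)
    (hk : Diff16.IsDiffOpLE A B B B k D)
    (hD : ∀ q : ι → ℕ, D (∏ i, z i ^ q i) =
      ((∏ i, Nat.choose (q i) (p i) : ℕ) : B) * ∏ i, z i ^ (q i - p i)) :
    Diff16.IsDiffOpLE A B B B (∑ i, p i) D := by
  rw [isDiffOpLE_iff_linB]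
  intro x hx
  rw [isDiffOpLE_iff_linB] at hk
  refine eq_zero_of_forall_mono A B z hz (linB A B D) (∑ i, p i + 1)
    (max (k + 1) (∑ i, p i + 1)) (le_max_right _ _) ?_ ?_ hx
  · intro q hq _
    rw [linB_mono_zeta A B z D p hD, if_neg]
    rintro rfl
    omega
  · intro y hy
    exact hk y (Ideal.pow_le_pow_right (le_max_left _ _) hy)

end pairing

end Groth.Agent.Lib.Helper19.PPDual
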