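import Groth.Agent.Lib.Helper19CharZeroSmooth
import Groth.Agent.Lib.Helper4DiffOpLin

/-!
# Monomials in `ζ_i = 1 ⊗ z_i - z_i ⊗ 1` in `B ⊗[A] B` and linearised differential operators
(helper19)
-/

set_option autoImplicit false
set_option linter.style.haveILetI false
set_option linter.unusedSectionVars false
universe u w

namespace Groth.Agent.Lib.Helper19.PPMono

open TensorProduct KaehlerDifferential MvPolynomial
  Groth.Agent.Lib.Helper19.DiagDescent Groth.Agent.Lib.Helper19.DerPair
  Groth.Agent.Lib.Helper19.CharZeroSmooth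

section algebra

variable {S : Type*} [CommRing S]

theorem prod_add_pow {ι : Type w} [Fintype ι] [DecidableEq ι] (a b : ι → S) (q : ι → ℕ) :
    ∏ i, (a i + b i) ^ q i =
      ∑ r ∈ Fintype.piFinset (fun i => Finset.range (q i + 1)),
        ∏ i, (a i ^ r i * b i ^ (q i - r i) * ((q i).choose (r i) : S)) := by
  simp_rw [add_pow]
  exact Finset.prod_univ_sum _ _

theorem sv_identity (z : S) (n s : ℕ) :
    ∑ k ∈ Finset.range (n + 1),
      ((-z) ^ (n - k) * ((n.choose k : ℕ) : S)) * (((k.choose s : ℕ) : S) * z ^ (k - s)) =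
      if n = s then 1 else 0 := by
  have h : ((Polynomial.X + Polynomial.C z) + Polynomial.C (-z)) ^ n =
      (Polynomial.X : Polynomial S) ^ n := by
    congr 1
    rw [add_assoc, ← Polynomial.C_add, add_neg_cancel, Polynomial.C_0, add_zero]
  rw [add_pow] at h
  have h2 := congrArg (fun f => Polynomial.coeff f s) h
  simp only [Polynomial.finset_sum_coeff, Polynomial.coeff_X_pow] at h2
  have h3 : (if n = s then (1 : S) else 0) = if s = n then 1 else 0 := by
    simp only [eq_comm]
  rw [h3, ← h2]
  refine Finset.sum_congr rfl fun k _ => ?_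
  rw [← Polynomial.C_eq_natCast, ← Polynomial.C_pow, Polynomial.coeff_mul_C,
    Polynomial.coeff_mul_C, Polynomial.coeff_X_add_C_pow]
  ring

end algebra

variable (A B : Type u) [CommRing A] [CommRing B] [Algebra A B]

section zeta

variable {ι : Type w} (z : ι → B)

/-- `ζ_i = 1 ⊗ z_i - z_i ⊗ 1` -/
noncomputable def zeta (i : ι) : B ⊗[A] B := (1 : B) ⊗ₜ[A] z i - z i ⊗ₜ[A] (1 : B)

theorem zeta_mem (i : ι) : zeta A B z i ∈ KaehlerDifferential.ideal A B :=
  KaehlerDifferential.one_smul_sub_smul_one_mem_ideal A (z i)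

theorem toK_zeta (i : ι) : toK A B ⟨zeta A B z i, zeta_mem A B z i⟩ =
    KaehlerDifferential.D A B (z i) := rfl

end zeta

section linB

/-- the `B`-linearisation `a ⊗ b ↦ a * D b` as a `B`-linear map -/
noncomputable def linB (D : B →ₗ[A] B) : B ⊗[A] B →ₗ[B] B :=
  TensorProduct.AlgebraTensorModule.lift ((LinearMap.lsmul B (B →ₗ[A] B)).flip D)

theorem linB_tmul (D : B →ₗ[A] B) (a b : B) : linB A B D (a ⊗ₜ[A] b) = a * D b := rfl

theorem linearize_eq_linB (D : B →ₗ[A] B) (x : B ⊗[A] B) :
    Diff16.linearize A B B B D x = linB A B D x := by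
  induction x using TensorProduct.induction_on with
  | zero => simp
  | tmul a b => rw [Groth.Agent.Lib.Helper4.linearize_tmul, linB_tmul, smul_eq_mul]
  | add x y hx hy => rw [map_add, map_add, hx, hy]

theorem isDiffOpLE_iff_linB (n : ℕ) (D : B →ₗ[A] B) :
    Diff16.IsDiffOpLE A B B B n D ↔
      ∀ x ∈ (KaehlerDifferential.ideal A B) ^ (n + 1), linB A B D x = 0 := by
  rw [Groth.Agent.Lib.Helper4.isDiffOpLE_iff_linearize]
  simp only [linearize_eq_linB]

theorem linB_add (D D' : B →ₗ[A] B) : linB A B (D + D') = linB A B D + linB A B D' := by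
  apply TensorProduct.AlgebraTensorModule.ext
  intro a b
  simp only [linB_tmul, LinearMap.add_apply, mul_add]

theorem linB_sub (D D' : B →ₗ[A] B) : linB A B (D - D') = linB A B D - linB A B D' := by
  apply TensorProduct.AlgebraTensorModule.ext
  intro a b
  simp only [linB_tmul, LinearMap.sub_apply, mul_sub]

theorem linB_smul (c : B) (D : B →ₗ[A] B) : linB A B (c • D) = c • linB A B D := by
  apply TensorProduct.AlgebraTensorModule.ext
  intro a b
  simp only [linB_tmul, LinearMap.smul_apply, smul_eq_mul]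
  ring

theorem linB_zero : linB A B (0 : B →ₗ[A] B) = 0 := by
  apply TensorProduct.AlgebraTensorModule.ext
  intro a b
  simp only [linB_tmul, LinearMap.zero_apply, mul_zero]

theorem linB_sum {κ : Type*} (s : Finset κ) (D : κ → (B →ₗ[A] B)) :
    linB A B (∑ k ∈ s, D k) = ∑ k ∈ s, linB A B (D k) := by
  classical
  induction s using Finset.induction_on with
  | empty => simp [linB_zero]
  | insert a s ha ih => rw [Finset.sum_insert ha, Finset.sum_insert ha, linB_add, ih]

theorem linB_one_tmul (D : B →ₗ[A] B) (b : B) : linB A B D ((1 : B) ⊗ₜ[A] b) = D b := by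
  rw [linB_tmul, one_mul]

theorem eq_zero_of_linB_eq_zero (D : B →ₗ[A] B) (h : ∀ x, linB A B D x = 0) : D = 0 := by
  ext b
  rw [← linB_one_tmul, h, LinearMap.zero_apply]

end linB

section spanning

variable {ι : Type w} [Fintype ι] [DecidableEq ι] (z : ι → B)
  (hz : Submodule.span B (Set.range fun i => KaehlerDifferential.D A B (z i)) = ⊤)

include hz

theorem ideal_le_span_sup_sq :
    KaehlerDifferential.ideal A B ≤
      Ideal.span (Set.range (zeta A B z)) ⊔ KaehlerDifferential.ideal A B ^ 2 := by
  intro x hx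
  have hv : toK A B ⟨x, hx⟩ ∈
      Submodule.span B (Set.range fun i => KaehlerDifferential.D A B (z i)) := by
    rw [hz]; trivial
  obtain ⟨c, hc⟩ := (Submodule.mem_span_range_iff_exists_fun B).1 hv
  let y : KaehlerDifferential.ideal A B :=
    ∑ i, (algebraMap B (B ⊗[A] B) (c i)) • ⟨zeta A B z i, zeta_mem A B z i⟩
  have hy : toK A B y = toK A B ⟨x, hx⟩ := by
    rw [← hc, map_sum]
    refine Finset.sum_congr rfl fun i _ => ?_
    rw [map_smul, toK_zeta, algebraMap_smul]
  have hsub : ((⟨x, hx⟩ - y : KaehlerDifferential.ideal A B) : B ⊗[A] B) ∈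
      KaehlerDifferential.ideal A B ^ 2 := by
    rw [← Ideal.toCotangent_eq_zero, map_sub, sub_eq_zero]
    exact hy.symm
  have hx' : x = (y : B ⊗[A] B) + ((⟨x, hx⟩ - y : KaehlerDifferential.ideal A B) : B ⊗[A] B) := by
    rw [Submodule.coe_sub]
    ring
  rw [hx']
  refine Submodule.add_mem_sup ?_ hsub
  rw [Submodule.coe_sum]
  refine Ideal.sum_mem _ fun i _ => ?_
  rw [Submodule.coe_smul, smul_eq_mul]
  exact Ideal.mul_mem_left _ _ (Ideal.subset_span ⟨i, rfl⟩)

/-- the ideal generated by the monomials of degree `n` in the `ζ_i` -/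
noncomputable def Kn (n : ℕ) : Ideal (B ⊗[A] B) :=
  Ideal.span {y | ∃ p : ι → ℕ, ∑ i, p i = n ∧ y = mono (zeta A B z) p}

omit hz in
theorem Kn_le_pow (n : ℕ) : Kn A B z n ≤ KaehlerDifferential.ideal A B ^ n := by
  rw [Kn, Ideal.span_le]
  rintro _ ⟨p, hp, rfl⟩
  rw [← hp]
  exact mono_mem _ _ (zeta_mem A B z) p

omit hz in
theorem mono_mul_zeta (p : ι → ℕ) (i : ι) :
    mono (zeta A B z) p * zeta A B z i = mono (zeta A B z) (Function.update p i (p i + 1)) := by
  rw [mono_update, pow_succ, ← mul_assoc]
  congr 1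
  have := mono_update (zeta A B z) p i (p i)
  rw [Function.update_eq_self] at this
  exact this

theorem pow_le_Kn_sup (n : ℕ) :
    KaehlerDifferential.ideal A B ^ n ≤ Kn A B z n ⊔ KaehlerDifferential.ideal A B ^ (n + 1) := by
  induction n with
  | zero =>
    have h1 : (1 : B ⊗[A] B) ∈ Kn A B z 0 := by
      apply Ideal.subset_span
      refine ⟨fun _ => 0, by simp, ?_⟩
      simp [mono]
    have hK : Kn A B z 0 = ⊤ := (Ideal.eq_top_iff_one _).2 h1
    rw [hK]
    exact le_trans le_top le_sup_left
  | succ n ih =>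
    have hI2 : KaehlerDifferential.ideal A B ^ 2 ≤ KaehlerDifferential.ideal A B := by
      rw [pow_two]; exact Ideal.mul_le_left
    have hspan : Ideal.span (Set.range (zeta A B z)) ≤ KaehlerDifferential.ideal A B := by
      rw [Ideal.span_le]
      rintro _ ⟨i, rfl⟩
      exact zeta_mem A B z i
    calc KaehlerDifferential.ideal A B ^ (n + 1)
        = KaehlerDifferential.ideal A B ^ n * KaehlerDifferential.ideal A B := pow_succ _ _
      _ ≤ (Kn A B z n ⊔ KaehlerDifferential.ideal A B ^ (n + 1)) *
          (Ideal.span (Set.range (zeta A B z)) ⊔ KaehlerDifferential.ideal A B ^ 2) :=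
        Ideal.mul_mono ih (ideal_le_span_sup_sq A B z hz)
      _ ≤ Kn A B z (n + 1) ⊔ KaehlerDifferential.ideal A B ^ (n + 1 + 1) := by
        rw [Ideal.sup_mul, Ideal.mul_sup, Ideal.mul_sup]
        refine sup_le (sup_le ?_ ?_) (sup_le ?_ ?_)
        · refine le_trans ?_ le_sup_left
          rw [Kn, Ideal.span_mul_span', Ideal.span_le]
          rintro _ ⟨_, ⟨p, hp, rfl⟩, _, ⟨i, rfl⟩, rfl⟩
          apply Ideal.subset_span
          refine ⟨Function.update p i (p i + 1), ?_, mono_mul_zeta A B z p i⟩
          rw [Finset.sum_update_of_mem (Finset.mem_univ i), ← hp,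
            ← Finset.sum_sdiff (Finset.singleton_subset_iff.2 (Finset.mem_univ i)),
            Finset.sum_singleton]
          ring
        · refine le_trans ?_ le_sup_right
          calc Kn A B z n * KaehlerDifferential.ideal A B ^ 2
              ≤ KaehlerDifferential.ideal A B ^ n * KaehlerDifferential.ideal A B ^ 2 :=
                Ideal.mul_mono_left (Kn_le_pow A B z n)
            _ = KaehlerDifferential.ideal A B ^ (n + 1 + 1) := by rw [← pow_add]
        · refine le_trans ?_ le_sup_right
          calc KaehlerDifferential.ideal A B ^ (n + 1) * Ideal.span (Set.range (zeta A B z))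
              ≤ KaehlerDifferential.ideal A B ^ (n + 1) * KaehlerDifferential.ideal A B :=
                Ideal.mul_mono_right hspan
            _ = KaehlerDifferential.ideal A B ^ (n + 1 + 1) := (pow_succ _ _).symm
        · refine le_trans ?_ le_sup_right
          calc KaehlerDifferential.ideal A B ^ (n + 1) * KaehlerDifferential.ideal A B ^ 2
              ≤ KaehlerDifferential.ideal A B ^ (n + 1) * KaehlerDifferential.ideal A B :=
                Ideal.mul_mono_right hI2
            _ = KaehlerDifferential.ideal A B ^ (n + 1 + 1) := (pow_succ _ _).symm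

/-- the `B`-span of the monomials of degree in `[n, N)` -/
noncomputable def Wspan (n N : ℕ) : Submodule B (B ⊗[A] B) :=
  Submodule.span B {y | ∃ p : ι → ℕ, n ≤ ∑ i, p i ∧ ∑ i, p i < N ∧ y = mono (zeta A B z) p}

omit hz in
theorem Wspan_anti {n n' : ℕ} (h : n ≤ n') (N : ℕ) : Wspan A B z n' N ≤ Wspan A B z n N := by
  apply Submodule.span_mono
  rintro _ ⟨p, h1, h2, rfl⟩
  exact ⟨p, h.trans h1, h2, rfl⟩

theorem pow_le_Wspan (N : ℕ) : ∀ k, k ≤ N →
    (KaehlerDifferential.ideal A B ^ (N - k)).restrictScalars B ≤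
      Wspan A B z (N - k) N ⊔ (KaehlerDifferential.ideal A B ^ N).restrictScalars B := by
  intro k
  induction k with
  | zero =>
    intro _
    rw [Nat.sub_zero]
    exact le_sup_right
  | succ k ih =>
    intro hk
    have ih' := ih (Nat.le_of_succ_le hk)
    obtain ⟨n, hn⟩ : ∃ n, N - (k + 1) = n := ⟨_, rfl⟩
    have hn1 : N - k = n + 1 := by omega
    rw [hn]
    rw [hn1] at ih'
    have hnN : n < N := by omega
    have key : ∀ y ∈ Kn A B z n, ∀ r : B ⊗[A] B, r * y ∈
        Wspan A B z n N ⊔ (KaehlerDifferential.ideal A B ^ N).restrictScalars B := by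
      intro y hy
      induction hy using Submodule.span_induction with
      | mem y hy =>
        obtain ⟨p, hp, rfl⟩ := hy
        intro r
        have h1 : r * mono (zeta A B z) p =
            (Algebra.TensorProduct.lmul'' A r) • mono (zeta A B z) p +
              (r - algebraMap B (B ⊗[A] B) (Algebra.TensorProduct.lmul'' A r)) *
                mono (zeta A B z) p := by
          rw [Algebra.smul_def]; ring
        rw [h1]
        refine Submodule.add_mem _ ?_ ?_
        · refine Submodule.smul_mem _ _ (Submodule.mem_sup_left (Submodule.subset_span ?_))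
          exact ⟨p, hp.ge, hp ▸ hnN, rfl⟩
        · have h2 : (r - algebraMap B (B ⊗[A] B) (Algebra.TensorProduct.lmul'' A r)) *
              mono (zeta A B z) p ∈ KaehlerDifferential.ideal A B ^ (n + 1) := by
            rw [pow_succ']
            refine Ideal.mul_mem_mul ?_ (hp ▸ mono_mem _ _ (zeta_mem A B z) p)
            rw [← ker_lmul]
            exact sub_algebraMap_mem_ker _ r
          have h3 := ih' h2
          exact (sup_le_sup_right (Wspan_anti A B z (Nat.le_succ n) N) _) h3
      | zero => intro r; rw [mul_zero]; exact Submodule.zero_mem _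
      | add y y' _ _ h h' => intro r; rw [mul_add]; exact Submodule.add_mem _ (h r) (h' r)
      | smul t y _ h => intro r; rw [smul_eq_mul, ← mul_assoc]; exact h (r * t)
    intro x hx
    have hx' := pow_le_Kn_sup A B z hz n hx
    obtain ⟨y, hy, y', hy', rfl⟩ := Submodule.mem_sup.1 hx'
    refine Submodule.add_mem _ ?_ ?_
    · have := key y hy 1
      rwa [one_mul] at this
    · have h3 := ih' hy'
      exact (sup_le_sup_right (Wspan_anti A B z (Nat.le_succ n) N) _) h3

/-- a `B`-linear map killing the monomials of degree in `[n, N)` and `I^N` kills `I^n` -/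
theorem eq_zero_of_forall_mono {X : Type*} [AddCommGroup X] [Module B X]
    (u : B ⊗[A] B →ₗ[B] X) (n N : ℕ) (hnN : n ≤ N)
    (h1 : ∀ p : ι → ℕ, n ≤ ∑ i, p i → ∑ i, p i < N → u (mono (zeta A B z) p) = 0)
    (h2 : ∀ y ∈ KaehlerDifferential.ideal A B ^ N, u y = 0)
    {x : B ⊗[A] B} (hx : x ∈ KaehlerDifferential.ideal A B ^ n) : u x = 0 := by
  have h := pow_le_Wspan A B z hz N (N - n) (Nat.sub_le _ _)
  rw [Nat.sub_sub_self hnN] at h
  have hx' := h hx
  have hle : Wspan A B z n N ⊔ (KaehlerDifferential.ideal A B ^ N).restrictScalars B ≤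
      LinearMap.ker u := by
    refine sup_le ?_ ?_
    · rw [Wspan, Submodule.span_le]
      rintro _ ⟨p, hp1, hp2, rfl⟩
      exact h1 p hp1 hp2
    · intro y hy
      exact h2 y hy
  exact hle hx'

end spanning

end Groth.Agent.Lib.Helper19.PPMono
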