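import Groth.Agent.Lib.Helper19PPDual

/-!
# Expansion of differential operators in the divided-power operators `D_p` (helper19)
-/

set_option autoImplicit false
set_option linter.style.haveILetI false
set_option linter.unusedSectionVars false
universe u w

namespace Groth.Agent.Lib.Helper19.PPOps

open TensorProduct KaehlerDifferential MvPolynomial
  Groth.Agent.Lib.Helper19.DiagDescent Groth.Agent.Lib.Helper19.DerPair
  Groth.Agent.Lib.Helper19.CharZeroSmooth Groth.Agent.Lib.Helper19.PPMono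
  Groth.Agent.Lib.Helper19.PPDual

variable (A B : Type u) [CommRing A] [CommRing B] [Algebra A B]

variable {ι : Type w} [Fintype ι] [DecidableEq ι]

theorem finite_multiIndex (m : ℕ) : Finite {p : ι → ℕ // ∑ i, p i ≤ m} := by
  have hle : ∀ (p : {p : ι → ℕ // ∑ i, p i ≤ m}) (i : ι), p.1 i < m + 1 := fun p i =>
    Nat.lt_succ_of_le
      ((Finset.single_le_sum (f := p.1) (fun _ _ => Nat.zero_le _) (Finset.mem_univ i)).trans p.2)
  have : Function.Injective
      (fun (p : {p : ι → ℕ // ∑ i, p i ≤ m}) (i : ι) => (⟨p.1 i, hle p i⟩ : Fin (m + 1))) := by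
    intro p q h
    apply Subtype.ext
    funext i
    have := congrFun h i
    exact Fin.mk.inj_iff.1 this
  exact Finite.of_injective _ this

variable (z : ι → B)
  (hz : Submodule.span B (Set.range fun i => KaehlerDifferential.D A B (z i)) = ⊤)
  (Dp : (ι → ℕ) → (B →ₗ[A] B))
  (hord : ∀ p, Diff16.IsDiffOpLE A B B B (∑ i, p i) (Dp p))
  (hDz : ∀ p q : ι → ℕ, Dp p (∏ i, z i ^ q i) =
        ((∏ i, Nat.choose (q i) (p i) : ℕ) : B) * ∏ i, z i ^ (q i - p i))

include hz hord hDz

theorem existsUnique_expansion (m : ℕ) (D : B →ₗ[A] B)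
    (hD : Diff16.IsDiffOpLE A B B B m D) :
    ∃! a : {p : ι → ℕ // ∑ i, p i ≤ m} →₀ B, D = a.sum fun p c => c • Dp p.1 := by
  classical
  haveI := finite_multiIndex (ι := ι) m
  haveI : Fintype {p : ι → ℕ // ∑ i, p i ≤ m} := Fintype.ofFinite _
  have hsum : ∀ a : {p : ι → ℕ // ∑ i, p i ≤ m} →₀ B,
      (a.sum fun p c => c • Dp p.1) = ∑ t, a t • Dp t.1 := by
    intro a
    apply Finsupp.sum_fintype
    intro i
    rw [zero_smul]
  have hpair : ∀ (a : {p : ι → ℕ // ∑ i, p i ≤ m} →₀ B) (t : {p : ι → ℕ // ∑ i, p i ≤ m}),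
      linB A B (∑ s, a s • Dp s.1) (mono (zeta A B z) t.1) = a t := by
    intro a t
    rw [linB_sum, LinearMap.sum_apply, Finset.sum_eq_single t]
    · rw [linB_smul, LinearMap.smul_apply, linB_mono_zeta A B z (Dp t.1) t.1 (hDz t.1), if_pos rfl,
        smul_eq_mul, mul_one]
    · intro s _ hs
      rw [linB_smul, LinearMap.smul_apply, linB_mono_zeta A B z (Dp s.1) s.1 (hDz s.1), if_neg,
        smul_zero]
      intro h
      exact hs (Subtype.ext h.symm)
    · intro h
      exact absurd (Finset.mem_univ t) h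
  let a : {p : ι → ℕ // ∑ i, p i ≤ m} →₀ B :=
    Finsupp.equivFunOnFinite.symm (fun t => linB A B D (mono (zeta A B z) t.1))
  have ha : ∀ t, a t = linB A B D (mono (zeta A B z) t.1) := fun t => rfl
  refine ⟨a, ?_, ?_⟩
  · change D = a.sum fun p c => c • Dp p.1
    rw [hsum, ← sub_eq_zero]
    apply eq_zero_of_linB_eq_zero
    intro x
    have hx : x ∈ KaehlerDifferential.ideal A B ^ 0 := by
      rw [pow_zero, Ideal.one_eq_top]; trivial
    refine eq_zero_of_forall_mono A B z hz _ 0 (m + 1) (Nat.zero_le _) ?_ ?_ hx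
    · intro q _ hq
      rw [linB_sub, LinearMap.sub_apply, hpair a ⟨q, Nat.lt_succ_iff.1 hq⟩, ha, sub_self]
    · intro y hy
      rw [linB_sub, LinearMap.sub_apply, (isDiffOpLE_iff_linB A B m D).1 hD y hy, linB_sum,
        LinearMap.sum_apply, zero_sub, neg_eq_zero]
      refine Finset.sum_eq_zero fun t _ => ?_
      rw [linB_smul, LinearMap.smul_apply,
        (isDiffOpLE_iff_linB A B _ (Dp t.1)).1 (hord t.1) y
          (Ideal.pow_le_pow_right (Nat.succ_le_succ t.2) hy), smul_zero]
  · intro a' ha'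
    change D = a'.sum fun p c => c • Dp p.1 at ha'
    rw [hsum] at ha'
    ext t
    rw [ha, ha', hpair]

end Groth.Agent.Lib.Helper19.PPOps
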