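import Groth.Agent.Lib.Helper19PPBasis

/-!
# `P^n` as a truncated polynomial algebra when the monomials `ζ^p` form a basis (helper19)
-/

set_option autoImplicit false
set_option linter.style.haveILetI false
set_option linter.unusedSectionVars false
universe u

namespace Groth.Agent.Lib.Helper19.PPPoly

open TensorProduct KaehlerDifferential MvPolynomial
  Groth.Agent.Lib.Helper19.DerPair Groth.Agent.Lib.Helper19.PPMono
  Groth.Agent.Lib.Helper19.PPBasis

variable {A B : Type u} [CommRing A] [CommRing B] [Algebra A B]
variable {ι : Type} [Fintype ι] [DecidableEq ι] (z : ι → B)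

/-- the images of the `ζ_i` in `P^n` -/
noncomputable def zetaBar (n : ℕ) (i : ι) : PP16.P n A B :=
  PP16.dn n A B (z i) - algebraMap B (PP16.P n A B) (z i)

theorem aeval_monomial_zetaBar (n : ℕ) (d : ι →₀ ℕ) (c : B) :
    aeval (zetaBar (A := A) z n) (monomial d c) =
      c • (Ideal.Quotient.mk (KaehlerDifferential.ideal A B ^ (n + 1)) (mono (zeta A B z) ⇑d) :
        PP16.P n A B) := by
  rw [aeval_monomial, Algebra.smul_def, Finsupp.prod_fintype _ _ (fun i => pow_zero _), mono,
    map_prod]
  congr 1

variable (hz : Submodule.span B (Set.range fun i => KaehlerDifferential.D A B (z i)) = ⊤)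
  (hqr : QRz A B z)

include hz hqr

theorem aeval_zetaBar (n : ℕ) :
    Function.Surjective (aeval (R := B) (zetaBar (A := A) z n)) ∧
      RingHom.ker (aeval (R := B) (zetaBar (A := A) z n)).toRingHom =
        Ideal.span (Set.range (X : ι → MvPolynomial ι B)) ^ (n + 1) := by
  classical
  obtain ⟨β, hβ⟩ := exists_basis hz hqr n
  have hlow : ∀ (p : ι → ℕ) (hp : ∑ i, p i ≤ n),
      (Ideal.Quotient.mk (KaehlerDifferential.ideal A B ^ (n + 1)) (mono (zeta A B z) p) :
        PP16.P n A B) = β ⟨p, hp⟩ := fun p hp => (hβ ⟨p, hp⟩).symm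
  have hhigh : ∀ (p : ι → ℕ), n < ∑ i, p i →
      (Ideal.Quotient.mk (KaehlerDifferential.ideal A B ^ (n + 1)) (mono (zeta A B z) p) :
        PP16.P n A B) = 0 := fun p hp =>
    Ideal.Quotient.eq_zero_iff_mem.2
      (Ideal.pow_le_pow_right (Nat.succ_le_of_lt hp) (mono_mem _ _ (zeta_mem A B z) p))
  have hrepr : ∀ (f : MvPolynomial ι B) (t : {p : ι → ℕ // ∑ i, p i ≤ n}),
      β.repr (aeval (zetaBar (A := A) z n) f) t = f.coeff (Finsupp.equivFunOnFinite.symm t.1) := by
    intro f t
    induction f using MvPolynomial.induction_on' with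
    | monomial d c =>
      rw [aeval_monomial_zetaBar, map_smul, Finsupp.smul_apply, coeff_monomial]
      by_cases hd : ∑ i, d i ≤ n
      · rw [hlow _ hd, Module.Basis.repr_self, Finsupp.single_apply, smul_eq_mul]
        by_cases h : d = Finsupp.equivFunOnFinite.symm t.1
        · rw [if_pos h, if_pos, mul_one]
          apply Subtype.ext
          change ⇑d = t.1
          rw [h]
          rfl
        · rw [if_neg h, if_neg, mul_zero]
          intro h'
          apply h
          rw [← h']
          ext i
          rfl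
      · rw [hhigh _ (not_le.1 hd), map_zero, Finsupp.zero_apply, smul_zero, if_neg]
        intro h
        apply hd
        rw [h]
        exact t.2
    | add p q hp hq => rw [map_add, map_add, Finsupp.add_apply, hp, hq, coeff_add]
  constructor
  · have hrange : (⊤ : Submodule B (PP16.P n A B)) ≤
        LinearMap.range (aeval (R := B) (zetaBar (A := A) z n)).toLinearMap := by
      rw [← β.span_eq, Submodule.span_le]
      rintro _ ⟨t, rfl⟩
      refine ⟨monomial (Finsupp.equivFunOnFinite.symm t.1) 1, ?_⟩
      change aeval (zetaBar (A := A) z n) (monomial (Finsupp.equivFunOnFinite.symm t.1) (1 : B)) = _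
      rw [aeval_monomial_zetaBar, one_smul]
      exact hlow t.1 t.2
    intro y
    obtain ⟨f, hf⟩ := hrange (Submodule.mem_top (x := y))
    exact ⟨f, hf⟩
  · ext f
    rw [RingHom.mem_ker, ← idealOfVars, mem_pow_idealOfVars_iff']
    change aeval (zetaBar (A := A) z n) f = 0 ↔ _
    rw [← β.repr.map_eq_zero_iff]
    constructor
    · intro h d hd
      have hd' : ∑ i, d i ≤ n := by
        rw [← Finsupp.degree_eq_sum]; exact Nat.lt_succ_iff.1 hd
      have := hrepr f ⟨⇑d, hd'⟩
      rw [h, Finsupp.zero_apply] at this
      rw [this]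
      congr 1
      ext i
      rfl
    · intro h
      ext t
      rw [hrepr, Finsupp.zero_apply]
      apply h
      rw [Finsupp.degree_eq_sum]
      exact Nat.lt_succ_of_le t.2

end Groth.Agent.Lib.Helper19.PPPoly
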