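import Mathlib

/-!
# Picard group of polynomial rings over a product of valuation rings (helper19)

Part A: polynomial rings in finitely many variables over a GCD domain are GCD domains, and a
patching lemma for polynomials over a product ring.
-/

set_option autoImplicit false
universe u
open MvPolynomial

namespace Groth.Agent.Lib.Helper19PicProd

/-- transfer of the GCD property along a multiplicative equivalence. -/
lemma isGCDMonoid_of_mulEquiv {α β : Type*} [CommMonoidWithZero α] [CommMonoidWithZero β]
    (e : α ≃* β) [h : IsGCDMonoid β] : IsGCDMonoid α := by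
  rw [isGCDMonoid_iff_exists_gcd] at h ⊢
  obtain ⟨hc, hg⟩ := h
  refine ⟨?_, ?_⟩
  · have := hc
    exact e.injective.isCancelMulZero e (map_zero e) (map_mul e)
  · intro a b
    obtain ⟨c, hc'⟩ := hg (e a) (e b)
    refine ⟨e.symm c, fun d => ?_⟩
    have h1 := hc' (e d)
    rw [map_dvd_iff e, map_dvd_iff e] at h1
    rw [h1]
    rw [← map_dvd_iff e.symm, e.symm_apply_apply]

instance isGCDMonoid_mvPolynomial_fin (K : Type*) [CommRing K] [IsDomain K] [IsGCDMonoid K] (n : ℕ) :
    IsGCDMonoid (MvPolynomial (Fin n) K) := by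
  induction n with
  | zero =>
    exact isGCDMonoid_of_mulEquiv (MvPolynomial.isEmptyAlgEquiv K (Fin 0)).toMulEquiv
  | succ n ih =>
    exact isGCDMonoid_of_mulEquiv (MvPolynomial.finSuccEquiv K n).toMulEquiv

section Patch
variable {ι : Type*} (R : ι → Type*) [∀ i, CommRing (R i)] (n : ℕ)

/-- the projection to the `i`-th factor on polynomial rings. -/
noncomputable abbrev prj (i : ι) : MvPolynomial (Fin n) (∀ i, R i) →+* MvPolynomial (Fin n) (R i) :=
  MvPolynomial.map (Pi.evalRingHom R i)

lemma coeff_prj (i : ι) (P : MvPolynomial (Fin n) (∀ i, R i)) (m : Fin n →₀ ℕ) :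
    coeff m (prj R n i P) = (coeff m P) i := by
  rw [coeff_map]
  rfl

lemma eq_of_prj_eq {P Q : MvPolynomial (Fin n) (∀ i, R i)} (h : ∀ i, prj R n i P = prj R n i Q) :
    P = Q := by
  ext m i
  rw [← coeff_prj, ← coeff_prj, h i]

lemma totalDegree_prj_le (i : ι) (P : MvPolynomial (Fin n) (∀ i, R i)) :
    (prj R n i P).totalDegree ≤ P.totalDegree := by
  have h : (MvPolynomial.map (Pi.evalRingHom R i) P).support ⊆ P.support :=
    support_map_subset (Pi.evalRingHom R i) P
  exact Finset.sup_mono h

/-- patching a family of polynomials of bounded degree. -/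
lemma exists_prj_eq (d : ℕ) (p : ∀ i, MvPolynomial (Fin n) (R i))
    (hp : ∀ i, (p i).totalDegree ≤ d) :
    ∃ P : MvPolynomial (Fin n) (∀ i, R i), ∀ i, prj R n i P = p i := by
  classical
  have hfin : {m : Fin n →₀ ℕ | Finsupp.degree m ≤ d}.Finite := Finsupp.finite_of_degree_le d
  refine ⟨∑ m ∈ hfin.toFinset, monomial m (fun i => coeff m (p i)), fun i => ?_⟩
  ext m
  rw [coeff_prj, coeff_sum]
  simp only [coeff_monomial]
  rw [Finset.sum_ite_eq' hfin.toFinset m]
  by_cases hm : m ∈ hfin.toFinset
  · rw [if_pos hm]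
  · rw [if_neg hm]
    change (0 : R i) = coeff m (p i)
    by_contra hne
    apply hm
    rw [Set.Finite.mem_toFinset]
    change Finsupp.degree m ≤ d
    have hmem : m ∈ (p i).support := mem_support_iff.2 (Ne.symm hne)
    have h1 := le_totalDegree hmem
    rw [Finsupp.degree_apply]
    exact h1.trans (hp i)

end Patch

/-- degree bound for a rank-one factorization over a domain. -/
lemma totalDegree_le_of_factorization {K : Type*} [CommRing K] [IsDomain K] {σ : Type*} {N : ℕ}
    (v w : Fin N → MvPolynomial σ K) (d : ℕ) (h1 : ∑ a, v a * w a = 1)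
    (hd : ∀ a b, (v a * w b).totalDegree ≤ d) :
    (∀ a, (v a).totalDegree ≤ d) ∧ ∀ b, (w b).totalDegree ≤ d := by
  have hex : ∃ a₀, v a₀ * w a₀ ≠ 0 := by
    by_contra hcon
    have : ∑ a, v a * w a = 0 := Finset.sum_eq_zero fun a _ => by
      by_contra ha
      exact hcon ⟨a, ha⟩
    rw [this] at h1
    exact zero_ne_one h1
  obtain ⟨a₀, ha₀⟩ := hex
  have hv₀ : v a₀ ≠ 0 := left_ne_zero_of_mul ha₀
  have hw₀ : w a₀ ≠ 0 := right_ne_zero_of_mul ha₀
  constructor
  · intro a
    by_cases ha : v a = 0
    · rw [ha, totalDegree_zero]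
      exact Nat.zero_le d
    · have := hd a a₀
      rw [totalDegree_mul_of_isDomain ha hw₀] at this
      omega
  · intro b
    by_cases hb : w b = 0
    · rw [hb, totalDegree_zero]
      exact Nat.zero_le d
    · have := hd a₀ b
      rw [totalDegree_mul_of_isDomain hv₀ hb] at this
      omega

end Groth.Agent.Lib.Helper19PicProd
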