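import Mathlib
import Groth.Agent.Lib.Helper19PicProdA

/-!
# Picard group of polynomial rings over a product of valuation rings (helper19)

Part B: a retract `M` of `S^N` whose base change to `T` is free of rank one gives a rank-one
factorization over `T` of the idempotent matrix.
-/

set_option autoImplicit false
universe u
open TensorProduct

namespace Groth.Agent.Lib.Helper19PicProd

section
variable {S T M : Type*} [CommRing S] [CommRing T] [Algebra S T] [AddCommGroup M] [Module S M]
  {N : ℕ} (g : (Fin N → S) →ₗ[S] M) (f : M →ₗ[S] (Fin N → S)) (hgf : g ∘ₗ f = LinearMap.id)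

/-- the `a`-th coordinate functional, base changed. -/
noncomputable def coordT (a : Fin N) : T ⊗[S] M →ₗ[T] T :=
  LinearMap.liftBaseChange T ((Algebra.linearMap S T) ∘ₗ (LinearMap.proj a) ∘ₗ f)

lemma coordT_tmul (a : Fin N) (t : T) (x : M) :
    coordT (T := T) f a (t ⊗ₜ[S] x) = t * algebraMap S T (f x a) := by
  unfold coordT
  rw [LinearMap.liftBaseChange_tmul]
  rfl

include hgf in
lemma eq_sum_coordT (z : T ⊗[S] M) :
    z = ∑ a, coordT (T := T) f a z • ((1 : T) ⊗ₜ[S] g (Pi.single a 1)) := by
  induction z using TensorProduct.induction_on with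
  | zero => simp
  | add x y hx hy =>
    conv_lhs => rw [hx, hy]
    rw [← Finset.sum_add_distrib]
    refine Finset.sum_congr rfl fun a _ => ?_
    rw [map_add, add_smul]
  | tmul t x =>
    have hx : x = ∑ a, f x a • g (Pi.single a 1) := by
      have h1 : g (f x) = x := LinearMap.congr_fun hgf x
      conv_lhs => rw [← h1]
      have h2 : f x = ∑ a, f x a • (Pi.single a 1 : Fin N → S) := by
        funext b
        simp [Finset.sum_apply, Pi.single_apply]
      conv_lhs => rw [h2]
      rw [map_sum]
      refine Finset.sum_congr rfl fun a _ => ?_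
      rw [map_smul]
    conv_lhs => rw [hx, tmul_sum]
    refine Finset.sum_congr rfl fun a _ => ?_
    rw [coordT_tmul, TensorProduct.smul_tmul', smul_eq_mul, mul_one, tmul_smul,
      TensorProduct.smul_tmul', Algebra.smul_def, mul_comm]

include hgf in
/-- **rank-one factorization of the idempotent after base change.** -/
theorem exists_factorization (θ : T ⊗[S] M ≃ₗ[T] T) :
    ∃ v w : Fin N → T, (∀ a b, algebraMap S T (f (g (Pi.single b 1)) a) = v a * w b) ∧
      ∑ a, v a * w a = 1 := by
  let t₀ : T ⊗[S] M := θ.symm 1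
  refine ⟨fun a => coordT (T := T) f a t₀, fun b => θ ((1 : T) ⊗ₜ[S] g (Pi.single b 1)), ?_, ?_⟩
  · intro a b
    have h1 : (1 : T) ⊗ₜ[S] g (Pi.single b 1) = θ ((1 : T) ⊗ₜ[S] g (Pi.single b 1)) • t₀ := by
      apply θ.injective
      rw [map_smul, LinearEquiv.apply_symm_apply, smul_eq_mul, mul_one]
    have h2 := coordT_tmul (T := T) f a 1 (g (Pi.single b 1))
    rw [one_mul] at h2
    rw [← h2]
    conv_lhs => rw [h1]
    rw [map_smul, smul_eq_mul, mul_comm]
  · have h1 := eq_sum_coordT (T := T) g f hgf t₀
    have h2 := congrArg θ h1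
    rw [LinearEquiv.apply_symm_apply, map_sum] at h2
    refine Eq.symm (h2.trans ?_)
    refine Finset.sum_congr rfl fun a _ => ?_
    rw [map_smul, smul_eq_mul]

end

end Groth.Agent.Lib.Helper19PicProd
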