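import Mathlib
import Groth.Agent.Lib.Helper19PicProdB

/-!
# Picard group of polynomial rings over a product of valuation rings (helper19)

Part C: every invertible module over `(∏ R_i)[x_1, …, x_n]`, `R_i` valuation rings, is free.
-/

set_option autoImplicit false
universe u
open TensorProduct MvPolynomial

namespace Groth.Agent.Lib.Helper19PicProd

section
variable {S M : Type*} [CommRing S] [AddCommGroup M] [Module S M]
  {N : ℕ} (g : (Fin N → S) →ₗ[S] M) (f : M →ₗ[S] (Fin N → S)) (hgf : g ∘ₗ f = LinearMap.id)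
  (hf : Function.Injective f)

include hgf hf in
/-- a retract of `S^N` whose idempotent matrix has a rank-one factorization is free of rank one. -/
theorem free_of_factorization (V W : Fin N → S)
    (h1 : ∀ a b, f (g (Pi.single b 1)) a = V a * W b) (h2 : ∑ a, V a * W a = 1) :
    Module.Free S M := by
  have hfg : ∀ (y : Fin N → S) (b : Fin N), f (g y) b = V b * ∑ a, W a * y a := by
    intro y b
    have hy : y = ∑ a, y a • (Pi.single a 1 : Fin N → S) := by
      funext c
      simp [Finset.sum_apply, Pi.single_apply]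
    conv_lhs => rw [hy]
    rw [map_sum, map_sum, Finset.sum_apply, Finset.mul_sum]
    refine Finset.sum_congr rfl fun a _ => ?_
    rw [map_smul, map_smul, Pi.smul_apply, h1, smul_eq_mul]
    ring
  have hVV : ∑ a, W a * V a = 1 := by
    rw [← h2]
    exact Finset.sum_congr rfl fun a _ => mul_comm _ _
  let φ : S →ₗ[S] M := LinearMap.toSpanSingleton S M (g V)
  let ψ : M →ₗ[S] S := ∑ a, W a • ((LinearMap.proj a) ∘ₗ f)
  have hψ : ∀ x, ψ x = ∑ a, W a * f x a := by
    intro x
    simp [ψ, LinearMap.sum_apply]
  have hφ : ∀ s, φ s = s • g V := fun s => rfl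
  refine Module.Free.of_equiv (LinearEquiv.ofLinear φ ψ ?_ ?_)
  · ext x
    apply hf
    funext b
    change f (φ (ψ x)) b = f x b
    rw [hφ, map_smul, Pi.smul_apply, hfg, hVV, mul_one, hψ, smul_eq_mul]
    have hx : f x = f (g (f x)) := by
      have := LinearMap.congr_fun hgf x
      exact congrArg f this.symm
    conv_rhs => rw [hx, hfg]
    ring
  · ext
    change ψ (φ 1) = 1
    rw [hφ, one_smul, hψ]
    have : ∀ a, W a * f (g V) a = W a * V a := by
      intro a
      rw [hfg, hVV, mul_one]
    rw [Finset.sum_congr rfl fun a _ => this a, hVV]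

end

section Main
variable {ι : Type u} (R : ι → Type u) [∀ i, CommRing (R i)] [∀ i, IsDomain (R i)]
  [∀ i, ValuationRing (R i)] (n : ℕ)

theorem free_of_invertible (M : Type u) [AddCommGroup M]
    [Module (MvPolynomial (Fin n) (∀ i, R i)) M]
    [Module.Invertible (MvPolynomial (Fin n) (∀ i, R i)) M] :
    Module.Free (MvPolynomial (Fin n) (∀ i, R i)) M := by
  classical
  obtain ⟨N, g, f, -, hf, hgf⟩ :=
    Module.Finite.exists_comp_eq_id_of_projective (MvPolynomial (Fin n) (∀ i, R i)) M
  let e : Fin N → Fin N → MvPolynomial (Fin n) (∀ i, R i) := fun a b => f (g (Pi.single b 1)) a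
  let d : ℕ := Finset.univ.sup (fun ab : Fin N × Fin N => (e ab.1 ab.2).totalDegree)
  have hd : ∀ a b, (e a b).totalDegree ≤ d := fun a b =>
    Finset.le_sup (f := fun ab : Fin N × Fin N => (e ab.1 ab.2).totalDegree) (Finset.mem_univ (a, b))
  have key : ∀ i, ∃ v w : Fin N → MvPolynomial (Fin n) (R i),
      (∀ a b, prj R n i (e a b) = v a * w b) ∧ ∑ a, v a * w a = 1 := by
    intro i
    letI : Algebra (MvPolynomial (Fin n) (∀ i, R i)) (MvPolynomial (Fin n) (R i)) :=
      (prj R n i).toAlgebra
    have hfree : Module.Free (MvPolynomial (Fin n) (R i))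
        (MvPolynomial (Fin n) (R i) ⊗[MvPolynomial (Fin n) (∀ i, R i)] M) := inferInstance
    obtain ⟨θ⟩ := Module.Invertible.free_iff_linearEquiv.1 hfree
    exact exists_factorization g f hgf θ
  choose v w hvw1 hvw2 using key
  have hdeg : ∀ i, (∀ a, (v i a).totalDegree ≤ d) ∧ ∀ b, (w i b).totalDegree ≤ d := by
    intro i
    refine totalDegree_le_of_factorization (v i) (w i) d (hvw2 i) fun a b => ?_
    rw [← hvw1 i a b]
    exact (totalDegree_prj_le R n i (e a b)).trans (hd a b)
  have hV : ∀ a, ∃ P : MvPolynomial (Fin n) (∀ i, R i), ∀ i, prj R n i P = v i a := fun a =>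
    exists_prj_eq R n d (fun i => v i a) fun i => (hdeg i).1 a
  have hW : ∀ b, ∃ P : MvPolynomial (Fin n) (∀ i, R i), ∀ i, prj R n i P = w i b := fun b =>
    exists_prj_eq R n d (fun i => w i b) fun i => (hdeg i).2 b
  choose V hV using hV
  choose W hW using hW
  refine free_of_factorization g f hgf hf V W ?_ ?_
  · intro a b
    apply eq_of_prj_eq R n
    intro i
    rw [map_mul, hV, hW]
    exact hvw1 i a b
  · apply eq_of_prj_eq R n
    intro i
    rw [map_sum, map_one, ← hvw2 i]
    refine Finset.sum_congr rfl fun a _ => ?_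
    rw [map_mul, hV, hW]

end Main

end Groth.Agent.Lib.Helper19PicProd
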