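import Mathlib.CategoryTheory.Monoidal.Braided.Basic
import Mathlib.CategoryTheory.Monoidal.NaturalTransformation
import Mathlib.CategoryTheory.Groupoid
import Mathlib.CategoryTheory.Equivalence
import Mathlib.CategoryTheory.Whiskering

set_option autoImplicit false
set_option linter.style.haveILetI false

universe v u

open CategoryTheory MonoidalCategory

namespace Groth.Agent.Lib.Helper19.Picardify

set_option genSizeOfSpec false in
set_option genInjectivity false in
/-- Objects of the free Picard category on `A`: formal expressions built from objects of `A`,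
a unit, tensor products and formal inverses. -/
inductive PObj (A : Type u) : Type u
  | of : A → PObj A
  | unit : PObj A
  | tensor : PObj A → PObj A → PObj A
  | inv : PObj A → PObj A

variable {A : Type u} [Category.{v} A] [MonoidalCategory A] [SymmetricCategory A]

/-- Formal morphisms. -/
inductive PHom : PObj A → PObj A → Type (max u v)
  | of {a b : A} (f : a ⟶ b) : PHom (.of a) (.of b)
  | id (X : PObj A) : PHom X X
  | comp {X Y Z : PObj A} (f : PHom X Y) (g : PHom Y Z) : PHom X Z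
  | tensor {W X Y Z : PObj A} (f : PHom W Y) (g : PHom X Z) : PHom (W.tensor X) (Y.tensor Z)
  | inv {X Y : PObj A} (f : PHom X Y) : PHom Y X
  | α (X Y Z : PObj A) : PHom ((X.tensor Y).tensor Z) (X.tensor (Y.tensor Z))
  | l (X : PObj A) : PHom (PObj.unit.tensor X) X
  | r (X : PObj A) : PHom (X.tensor PObj.unit) X
  | β (X Y : PObj A) : PHom (X.tensor Y) (Y.tensor X)
  | μ (a b : A) : PHom ((PObj.of a).tensor (PObj.of b)) (PObj.of (a ⊗ b))
  | ε : PHom PObj.unit (PObj.of (𝟙_ A))
  | η (X : PObj A) : PHom PObj.unit (X.tensor X.inv)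

open PHom in
/-- The relations. -/
inductive HomEquiv : ∀ {X Y : PObj A}, PHom X Y → PHom X Y → Prop
  | refl {X Y} (f : PHom X Y) : HomEquiv f f
  | symm {X Y} (f g : PHom X Y) : HomEquiv f g → HomEquiv g f
  | trans {X Y} {f g h : PHom X Y} : HomEquiv f g → HomEquiv g h → HomEquiv f h
  | comp {X Y Z} {f f' : PHom X Y} {g g' : PHom Y Z} :
      HomEquiv f f' → HomEquiv g g' → HomEquiv (f.comp g) (f'.comp g')
  | tensor {W X Y Z} {f f' : PHom W X} {g g' : PHom Y Z} :
      HomEquiv f f' → HomEquiv g g' → HomEquiv (f.tensor g) (f'.tensor g')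
  | inv {X Y} {f f' : PHom X Y} : HomEquiv f f' → HomEquiv f.inv f'.inv
  | comp_id {X Y} (f : PHom X Y) : HomEquiv (f.comp (PHom.id _)) f
  | id_comp {X Y} (f : PHom X Y) : HomEquiv ((PHom.id _).comp f) f
  | assoc {X Y U V : PObj A} (f : PHom X U) (g : PHom U V) (h : PHom V Y) :
      HomEquiv ((f.comp g).comp h) (f.comp (g.comp h))
  | comp_inv {X Y} (f : PHom X Y) : HomEquiv (f.comp f.inv) (PHom.id _)
  | inv_comp {X Y} (f : PHom X Y) : HomEquiv (f.inv.comp f) (PHom.id _)
  | id_tensor_id {X Y} : HomEquiv ((PHom.id X).tensor (PHom.id Y)) (PHom.id _)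
  | tensor_comp_tensor {X₁ Y₁ Z₁ X₂ Y₂ Z₂ : PObj A} (f₁ : PHom X₁ Y₁) (f₂ : PHom X₂ Y₂)
      (g₁ : PHom Y₁ Z₁) (g₂ : PHom Y₂ Z₂) :
      HomEquiv ((f₁.tensor f₂).comp (g₁.tensor g₂)) ((f₁.comp g₁).tensor (f₂.comp g₂))
  | α_natural {X₁ X₂ X₃ Y₁ Y₂ Y₃} (f₁ : PHom X₁ Y₁) (f₂ : PHom X₂ Y₂) (f₃ : PHom X₃ Y₃) :
      HomEquiv (((f₁.tensor f₂).tensor f₃).comp (PHom.α Y₁ Y₂ Y₃))
        ((PHom.α X₁ X₂ X₃).comp (f₁.tensor (f₂.tensor f₃)))
  | r_natural {X Y} (f : PHom X Y) :
      HomEquiv ((f.tensor (PHom.id PObj.unit)).comp (PHom.r Y)) ((PHom.r X).comp f)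
  | l_natural {X Y} (f : PHom X Y) :
      HomEquiv (((PHom.id PObj.unit).tensor f).comp (PHom.l Y)) ((PHom.l X).comp f)
  | pentagon {W X Y Z} :
      HomEquiv
        (((PHom.α W X Y).tensor (PHom.id Z)).comp
          ((PHom.α W (X.tensor Y) Z).comp ((PHom.id W).tensor (PHom.α X Y Z))))
        ((PHom.α (W.tensor X) Y Z).comp (PHom.α W X (Y.tensor Z)))
  | triangle {X Y} :
      HomEquiv ((PHom.α X PObj.unit Y).comp ((PHom.id X).tensor (PHom.l Y)))
        ((PHom.r X).tensor (PHom.id Y))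
  | β_natural {W X Y Z} (f : PHom W X) (g : PHom Y Z) :
      HomEquiv ((f.tensor g).comp (PHom.β X Z)) ((PHom.β W Y).comp (g.tensor f))
  | hexagon_forward (X Y Z : PObj A) :
      HomEquiv ((PHom.α X Y Z).comp ((PHom.β X (Y.tensor Z)).comp (PHom.α Y Z X)))
        (((PHom.β X Y).tensor (PHom.id Z)).comp
          ((PHom.α Y X Z).comp ((PHom.id Y).tensor (PHom.β X Z))))
  | hexagon_reverse (X Y Z : PObj A) :
      HomEquiv ((PHom.α X Y Z).inv.comp ((PHom.β (X.tensor Y) Z).comp (PHom.α Z X Y).inv))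
        (((PHom.id X).tensor (PHom.β Y Z)).comp
          ((PHom.α X Z Y).inv.comp ((PHom.β X Z).tensor (PHom.id Y))))
  | symmetry (X Y : PObj A) : HomEquiv ((PHom.β X Y).comp (PHom.β Y X)) (PHom.id _)
  | of_id (a : A) : HomEquiv (PHom.of (𝟙 a)) (PHom.id _)
  | of_comp {a b c : A} (f : a ⟶ b) (g : b ⟶ c) :
      HomEquiv (PHom.of (f ≫ g)) ((PHom.of f).comp (PHom.of g))
  | μ_natural_left {a b : A} (f : a ⟶ b) (c : A) :
      HomEquiv (((PHom.of f).tensor (PHom.id (PObj.of c))).comp (PHom.μ b c))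
        ((PHom.μ a c).comp (PHom.of (f ▷ c)))
  | μ_natural_right {a b : A} (c : A) (f : a ⟶ b) :
      HomEquiv (((PHom.id (PObj.of c)).tensor (PHom.of f)).comp (PHom.μ c b))
        ((PHom.μ c a).comp (PHom.of (c ◁ f)))
  | μ_assoc (a b c : A) :
      HomEquiv (((PHom.μ a b).tensor (PHom.id (PObj.of c))).comp
          ((PHom.μ (a ⊗ b) c).comp (PHom.of (α_ a b c).hom)))
        ((PHom.α (PObj.of a) (PObj.of b) (PObj.of c)).comp
          (((PHom.id (PObj.of a)).tensor (PHom.μ b c)).comp (PHom.μ a (b ⊗ c))))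
  | μ_left_unit (a : A) :
      HomEquiv (PHom.l (PObj.of a))
        (((PHom.ε).tensor (PHom.id (PObj.of a))).comp
          ((PHom.μ (𝟙_ A) a).comp (PHom.of (λ_ a).hom)))
  | μ_right_unit (a : A) :
      HomEquiv (PHom.r (PObj.of a))
        (((PHom.id (PObj.of a)).tensor (PHom.ε)).comp
          ((PHom.μ a (𝟙_ A)).comp (PHom.of (ρ_ a).hom)))
  | μ_braided (a b : A) :
      HomEquiv ((PHom.μ a b).comp (PHom.of (β_ a b).hom))
        ((PHom.β (PObj.of a) (PObj.of b)).comp (PHom.μ b a))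

instance setoidHom (X Y : PObj A) : Setoid (PHom X Y) :=
  ⟨HomEquiv, ⟨HomEquiv.refl, HomEquiv.symm _ _, HomEquiv.trans⟩⟩

open HomEquiv

instance categoryPObj : Category.{max u v} (PObj A) where
  Hom X Y := Quotient (setoidHom X Y)
  id X := ⟦PHom.id X⟧
  comp := Quotient.map₂ PHom.comp (fun _ _ hf _ _ hg ↦ HomEquiv.comp hf hg)
  id_comp := by
    rintro X Y ⟨f⟩
    exact Quotient.sound (id_comp f)
  comp_id := by
    rintro X Y ⟨f⟩
    exact Quotient.sound (comp_id f)
  assoc := by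
    rintro W X Y Z ⟨f⟩ ⟨g⟩ ⟨h⟩
    exact Quotient.sound (assoc f g h)

/-- The morphism of the quotient category attached to a formal morphism. -/
abbrev homMk {X Y : PObj A} (f : PHom X Y) : X ⟶ Y := ⟦f⟧

lemma homMk_comp {X Y Z : PObj A} (f : PHom X Y) (g : PHom Y Z) :
    homMk (f.comp g) = homMk f ≫ homMk g := rfl

lemma homMk_id (X : PObj A) : homMk (PHom.id X) = 𝟙 X := rfl

lemma homMk_sound {X Y : PObj A} {f g : PHom X Y} (h : HomEquiv f g) : homMk f = homMk g :=
  Quotient.sound h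

/-- the isomorphism attached to a formal morphism -/
def isoMk {X Y : PObj A} (f : PHom X Y) : X ≅ Y where
  hom := homMk f
  inv := homMk f.inv
  hom_inv_id := Quotient.sound (comp_inv f)
  inv_hom_id := Quotient.sound (inv_comp f)

instance : MonoidalCategoryStruct (PObj A) where
  tensorObj X Y := PObj.tensor X Y
  tensorHom := Quotient.map₂ PHom.tensor (fun _ _ hf _ _ hg ↦ HomEquiv.tensor hf hg)
  whiskerLeft X _ _ f :=
    Quotient.map (fun f ↦ PHom.tensor (PHom.id X) f)
      (fun _ _ h ↦ HomEquiv.tensor (HomEquiv.refl _) h) f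
  whiskerRight f Y :=
    Quotient.map (fun f ↦ PHom.tensor f (PHom.id Y))
      (fun _ _ h ↦ HomEquiv.tensor h (HomEquiv.refl _)) f
  tensorUnit := PObj.unit
  associator X Y Z := isoMk (PHom.α X Y Z)
  leftUnitor X := isoMk (PHom.l X)
  rightUnitor X := isoMk (PHom.r X)

lemma homMk_tensor {W X Y Z : PObj A} (f : PHom W Y) (g : PHom X Z) :
    homMk (f.tensor g) = homMk f ⊗ₘ homMk g := rfl

lemma homMk_whiskerLeft (X : PObj A) {Y Z : PObj A} (f : PHom Y Z) :
    homMk ((PHom.id X).tensor f) = X ◁ homMk f := rfl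

lemma homMk_whiskerRight {Y Z : PObj A} (f : PHom Y Z) (X : PObj A) :
    homMk (f.tensor (PHom.id X)) = homMk f ▷ X := rfl

instance : MonoidalCategory (PObj A) :=
  MonoidalCategory.ofTensorHom
    (id_tensorHom_id := fun _ _ => Quotient.sound id_tensor_id)
    (id_tensorHom := by
      rintro X Y₁ Y₂ ⟨f⟩
      rfl)
    (tensorHom_id := by
      rintro X₁ X₂ ⟨f⟩ Y
      rfl)
    (tensorHom_comp_tensorHom := by
      rintro X₁ Y₁ Z₁ X₂ Y₂ Z₂ ⟨f₁⟩ ⟨f₂⟩ ⟨g₁⟩ ⟨g₂⟩
      exact Quotient.sound (tensor_comp_tensor _ _ _ _))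
    (associator_naturality := by
      rintro X₁ X₂ X₃ Y₁ Y₂ Y₃ ⟨f₁⟩ ⟨f₂⟩ ⟨f₃⟩
      exact Quotient.sound (α_natural _ _ _))
    (leftUnitor_naturality := by
      rintro X Y ⟨f⟩
      exact Quotient.sound (l_natural _))
    (rightUnitor_naturality := by
      rintro X Y ⟨f⟩
      exact Quotient.sound (r_natural _))
    (pentagon := fun _ _ _ _ => Quotient.sound pentagon)
    (triangle := fun _ _ => Quotient.sound triangle)

lemma tensorObj_eq (X Y : PObj A) : X ⊗ Y = PObj.tensor X Y := rfl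
lemma tensorUnit_eq : 𝟙_ (PObj A) = PObj.unit := rfl

lemma associator_hom_eq (X Y Z : PObj A) : (α_ X Y Z).hom = homMk (PHom.α X Y Z) := rfl
lemma associator_inv_eq (X Y Z : PObj A) : (α_ X Y Z).inv = homMk (PHom.α X Y Z).inv := rfl
lemma leftUnitor_hom_eq (X : PObj A) : (λ_ X).hom = homMk (PHom.l X) := rfl
lemma rightUnitor_hom_eq (X : PObj A) : (ρ_ X).hom = homMk (PHom.r X) := rfl

instance : SymmetricCategory (PObj A) where
  braiding X Y :=
    { hom := homMk (PHom.β X Y)
      inv := homMk (PHom.β Y X)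
      hom_inv_id := Quotient.sound (symmetry X Y)
      inv_hom_id := Quotient.sound (symmetry Y X) }
  braiding_naturality_right := by
    rintro X Y Z ⟨f⟩
    exact Quotient.sound (β_natural (PHom.id X) f)
  braiding_naturality_left := by
    rintro X Y ⟨f⟩ Z
    exact Quotient.sound (β_natural f (PHom.id Z))
  hexagon_forward X Y Z := Quotient.sound (hexagon_forward X Y Z)
  hexagon_reverse X Y Z := Quotient.sound (hexagon_reverse X Y Z)
  symmetry X Y := Quotient.sound (symmetry X Y)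

lemma braiding_hom_eq (X Y : PObj A) : (β_ X Y).hom = homMk (PHom.β X Y) := rfl

instance : IsGroupoid (PObj A) where
  all_isIso := by
    rintro X Y ⟨f⟩
    exact (isoMk f).isIso_hom

lemma homMk_inv {X Y : PObj A} (f : PHom X Y) : homMk f.inv = CategoryTheory.inv (homMk f) := by
  symm
  exact IsIso.inv_eq_of_hom_inv_id (isoMk f).hom_inv_id

variable (A) in
/-- The canonical functor `A ⥤ PObj A`. -/
def incl : A ⥤ PObj A where
  obj := PObj.of
  map f := homMk (PHom.of f)
  map_id a := Quotient.sound (of_id a)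
  map_comp f g := Quotient.sound (of_comp f g)

lemma incl_obj (a : A) : (incl A).obj a = PObj.of a := rfl
lemma incl_map {a b : A} (f : a ⟶ b) : (incl A).map f = homMk (PHom.of f) := rfl

instance : (incl A).LaxBraided where
  ε := homMk PHom.ε
  μ a b := homMk (PHom.μ a b)
  μ_natural_left f c := Quotient.sound (μ_natural_left f c)
  μ_natural_right c f := Quotient.sound (μ_natural_right c f)
  associativity a b c := Quotient.sound (μ_assoc a b c)
  left_unitality a := Quotient.sound (μ_left_unit a)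
  right_unitality a := Quotient.sound (μ_right_unit a)
  braided a b := Quotient.sound (μ_braided a b)

lemma incl_ε : Functor.LaxMonoidal.ε (incl A) = homMk PHom.ε := rfl
lemma incl_μ (a b : A) : Functor.LaxMonoidal.μ (incl A) a b = homMk (PHom.μ a b) := rfl

end Groth.Agent.Lib.Helper19.Picardify
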