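import Groth.Agent.Lib.Helper19PicardifyA

set_option autoImplicit false
set_option linter.style.haveILetI false

universe v u

open CategoryTheory MonoidalCategory

namespace Groth.Agent.Lib.Helper19.Picardify

section General

variable {C : Type u} [Category.{v} C] [MonoidalCategory C]

/-- an object with a two-sided tensor inverse gives an equivalence `tensorLeft X`. -/
def tensorLeftEquiv {X X' : C} (e : 𝟙_ C ≅ X ⊗ X') (e' : 𝟙_ C ≅ X' ⊗ X) : C ≌ C :=
  CategoryTheory.Equivalence.mk (tensorLeft X) (tensorLeft X')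
    (NatIso.ofComponents (fun Y => (λ_ Y).symm ≪≫ whiskerRightIso e' Y ≪≫ α_ X' X Y)
      (by
        intro Y Y' f
        simp
        rw [← associator_naturality_right, ← whisker_exchange_assoc,
          ← leftUnitor_inv_naturality_assoc]))
    (NatIso.ofComponents (fun Y => (α_ X X' Y).symm ≪≫ whiskerRightIso e.symm Y ≪≫ λ_ Y)
      (by
        intro Y Y' f
        simp
        rw [← leftUnitor_naturality, ← whisker_exchange_assoc,
          ← associator_inv_naturality_right_assoc]))

lemma tensorLeft_isEquivalence {X X' : C} (e : 𝟙_ C ≅ X ⊗ X') (e' : 𝟙_ C ≅ X' ⊗ X) :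
    (tensorLeft X).IsEquivalence :=
  (tensorLeftEquiv e e').isEquivalence_functor

/-- an object with a two-sided tensor inverse gives an equivalence `tensorRight X`. -/
def tensorRightEquiv {X X' : C} (e : 𝟙_ C ≅ X ⊗ X') (e' : 𝟙_ C ≅ X' ⊗ X) : C ≌ C :=
  CategoryTheory.Equivalence.mk (tensorRight X) (tensorRight X')
    (NatIso.ofComponents (fun Y => (ρ_ Y).symm ≪≫ whiskerLeftIso Y e ≪≫ (α_ Y X X').symm)
      (by
        intro Y Y' f
        simp
        rw [← associator_inv_naturality_left, whisker_exchange_assoc,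
          ← rightUnitor_inv_naturality_assoc]))
    (NatIso.ofComponents (fun Y => α_ Y X' X ≪≫ whiskerLeftIso Y e'.symm ≪≫ ρ_ Y)
      (by
        intro Y Y' f
        simp
        rw [← rightUnitor_naturality, whisker_exchange_assoc,
          ← associator_naturality_left_assoc]))

lemma tensorRight_isEquivalence {X X' : C} (e : 𝟙_ C ≅ X ⊗ X') (e' : 𝟙_ C ≅ X' ⊗ X) :
    (tensorRight X).IsEquivalence :=
  (tensorRightEquiv e e').isEquivalence_functor

end General

variable {A : Type u} [Category.{v} A] [MonoidalCategory A] [SymmetricCategory A]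

/-- the formal unit isomorphism `𝟙 ≅ X ⊗ X⁻¹`. -/
def etaIso (X : PObj A) : 𝟙_ (PObj A) ≅ X ⊗ X.inv := isoMk (PHom.η X)

lemma etaIso_hom (X : PObj A) : (etaIso X).hom = homMk (PHom.η X) := rfl

theorem picard (X : PObj A) :
    (tensorLeft X).IsEquivalence ∧ (tensorRight X).IsEquivalence :=
  ⟨tensorLeft_isEquivalence (etaIso X) (etaIso X ≪≫ β_ X X.inv),
    tensorRight_isEquivalence (etaIso X) (etaIso X ≪≫ β_ X X.inv)⟩

end Groth.Agent.Lib.Helper19.Picardify
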