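import Groth.Agent.Lib.Helper19PicardifyB

set_option autoImplicit false
set_option linter.style.haveILetI false

universe v u v' u'

open CategoryTheory MonoidalCategory

namespace Groth.Agent.Lib.Helper19.Picardify

variable {A : Type u} [Category.{v} A] [MonoidalCategory A] [SymmetricCategory A]
variable {P : Type u'} [Category.{v'} P] [MonoidalCategory P] [SymmetricCategory P] [IsGroupoid P]
variable (hP : ∀ X : P, (tensorLeft X).IsEquivalence ∧ (tensorRight X).IsEquivalence)

include hP in
lemma essSurj_tensorLeft (Y : P) : (tensorLeft Y).EssSurj := by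
  haveI := (hP Y).1
  infer_instance

/-- a chosen tensor inverse -/
noncomputable def invObj (Y : P) : P :=
  haveI := essSurj_tensorLeft hP Y
  (tensorLeft Y).objPreimage (𝟙_ P)

/-- the chosen isomorphism `𝟙 ≅ Y ⊗ Y⁻¹` -/
noncomputable def etaP (Y : P) : 𝟙_ P ≅ Y ⊗ invObj hP Y :=
  haveI := essSurj_tensorLeft hP Y
  ((tensorLeft Y).objObjPreimageIso (𝟙_ P)).symm

variable (Φ : A ⥤ P) [Φ.LaxBraided]

/-- the extension on objects -/
noncomputable def projObj : PObj A → P
  | PObj.of a => Φ.obj a
  | PObj.unit => 𝟙_ P
  | PObj.tensor X Y => projObj X ⊗ projObj Y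
  | PObj.inv X => invObj hP (projObj X)

open Functor.LaxMonoidal in
/-- the extension on formal morphisms -/
noncomputable def projMapAux : ∀ {X Y : PObj A}, PHom X Y → (projObj hP Φ X ⟶ projObj hP Φ Y)
  | _, _, PHom.of f => Φ.map f
  | _, _, PHom.id _ => 𝟙 _
  | _, _, PHom.comp f g => projMapAux f ≫ projMapAux g
  | _, _, PHom.tensor f g => projMapAux f ⊗ₘ projMapAux g
  | _, _, PHom.inv f => CategoryTheory.inv (projMapAux f)
  | _, _, PHom.α _ _ _ => (α_ _ _ _).hom
  | _, _, PHom.l _ => (λ_ _).hom
  | _, _, PHom.r _ => (ρ_ _).hom
  | _, _, PHom.β _ _ => (β_ _ _).hom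
  | _, _, PHom.μ a b => μ Φ a b
  | _, _, PHom.ε => ε Φ
  | _, _, PHom.η X => (etaP hP (projObj hP Φ X)).hom

set_option backward.isDefEq.respectTransparency false in
open Functor.LaxMonoidal in
lemma projMapAux_sound {X Y : PObj A} {f g : PHom X Y} (h : HomEquiv f g) :
    projMapAux hP Φ f = projMapAux hP Φ g := by
  induction h with
  | refl => rfl
  | symm _ _ _ h => exact h.symm
  | trans _ _ h₁ h₂ => exact h₁.trans h₂
  | comp _ _ h₁ h₂ => dsimp only [projMapAux]; rw [h₁, h₂]
  | tensor _ _ h₁ h₂ => dsimp only [projMapAux]; rw [h₁, h₂]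
  | inv _ h => dsimp only [projMapAux]; congr 1
  | comp_id => dsimp only [projMapAux]; rw [Category.comp_id]
  | id_comp => dsimp only [projMapAux]; rw [Category.id_comp]
  | assoc => dsimp only [projMapAux]; rw [Category.assoc]
  | comp_inv => dsimp only [projMapAux]; rw [IsIso.hom_inv_id]
  | inv_comp => dsimp only [projMapAux]; rw [IsIso.inv_hom_id]
  | id_tensor_id => dsimp only [projMapAux]; rw [MonoidalCategory.id_tensorHom_id]; rfl
  | tensor_comp_tensor =>
    dsimp only [projMapAux]; rw [MonoidalCategory.tensorHom_comp_tensorHom]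
  | α_natural => dsimp only [projMapAux]; rw [MonoidalCategory.associator_naturality]
  | r_natural =>
    dsimp only [projMapAux, projObj]
    rw [MonoidalCategory.tensorHom_id, MonoidalCategory.rightUnitor_naturality]
  | l_natural =>
    dsimp only [projMapAux, projObj]
    rw [MonoidalCategory.id_tensorHom, MonoidalCategory.leftUnitor_naturality]
  | pentagon =>
    dsimp only [projMapAux, projObj]
    rw [MonoidalCategory.tensorHom_id, MonoidalCategory.id_tensorHom, MonoidalCategory.pentagon]
  | triangle =>
    dsimp only [projMapAux, projObj]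
    rw [MonoidalCategory.tensorHom_id, MonoidalCategory.id_tensorHom, MonoidalCategory.triangle]
  | β_natural =>
    dsimp only [projMapAux, projObj]
    rw [BraidedCategory.braiding_naturality]
  | hexagon_forward =>
    dsimp only [projMapAux, projObj]
    rw [MonoidalCategory.tensorHom_id, MonoidalCategory.id_tensorHom,
      BraidedCategory.hexagon_forward]
  | hexagon_reverse =>
    dsimp only [projMapAux, projObj]
    rw [MonoidalCategory.tensorHom_id, MonoidalCategory.id_tensorHom, IsIso.Iso.inv_hom,
      IsIso.Iso.inv_hom, IsIso.Iso.inv_hom, BraidedCategory.hexagon_reverse]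
  | symmetry => dsimp only [projMapAux, projObj]; rw [SymmetricCategory.symmetry]
  | of_id => dsimp only [projMapAux, projObj]; rw [Φ.map_id]
  | of_comp => dsimp only [projMapAux]; exact Φ.map_comp _ _
  | μ_natural_left =>
    dsimp only [projMapAux, projObj]
    rw [MonoidalCategory.tensorHom_id, μ_natural_left]
  | μ_natural_right =>
    dsimp only [projMapAux, projObj]
    rw [MonoidalCategory.id_tensorHom, μ_natural_right]
  | μ_assoc =>
    dsimp only [projMapAux, projObj]
    rw [MonoidalCategory.tensorHom_id, MonoidalCategory.id_tensorHom, associativity]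
  | μ_left_unit =>
    dsimp only [projMapAux, projObj]
    rw [MonoidalCategory.tensorHom_id, left_unitality]
  | μ_right_unit =>
    dsimp only [projMapAux, projObj]
    rw [MonoidalCategory.id_tensorHom, right_unitality]
  | μ_braided =>
    dsimp only [projMapAux, projObj]
    rw [Functor.LaxBraided.braided]

/-- the extension functor -/
noncomputable def project : PObj A ⥤ P where
  obj := projObj hP Φ
  map {X Y} := Quotient.lift (projMapAux hP Φ) (fun _ _ h => projMapAux_sound hP Φ h)
  map_id _ := rfl
  map_comp := by rintro _ _ _ ⟨_⟩ ⟨_⟩; rfl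

lemma project_obj (X : PObj A) : (project hP Φ).obj X = projObj hP Φ X := rfl

lemma project_map_homMk {X Y : PObj A} (f : PHom X Y) :
    (project hP Φ).map (homMk f) = projMapAux hP Φ f := rfl

lemma project_map_tensorHom {W X Y Z : PObj A} (f : W ⟶ Y) (g : X ⟶ Z) :
    (project hP Φ).map (f ⊗ₘ g) = (project hP Φ).map f ⊗ₘ (project hP Φ).map g := by
  induction f using Quotient.inductionOn with | _ f
  induction g using Quotient.inductionOn with | _ g
  rfl

lemma project_map_whiskerLeft (X : PObj A) {Y Z : PObj A} (f : Y ⟶ Z) :
    (project hP Φ).map (X ◁ f) = (project hP Φ).obj X ◁ (project hP Φ).map f := by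
  rw [← MonoidalCategory.id_tensorHom, project_map_tensorHom, Functor.map_id,
    MonoidalCategory.id_tensorHom]

lemma project_map_whiskerRight {Y Z : PObj A} (f : Y ⟶ Z) (X : PObj A) :
    (project hP Φ).map (f ▷ X) = (project hP Φ).map f ▷ (project hP Φ).obj X := by
  rw [← MonoidalCategory.tensorHom_id, project_map_tensorHom, Functor.map_id,
    MonoidalCategory.tensorHom_id]

set_option backward.isDefEq.respectTransparency false in
noncomputable instance : (project hP Φ).LaxBraided where
  ε := 𝟙 _
  μ _ _ := 𝟙 _
  μ_natural_left f X' := by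
    rw [project_map_whiskerRight]
    exact (Category.comp_id _).trans (Category.id_comp _).symm
  μ_natural_right X' f := by
    rw [project_map_whiskerLeft]
    exact (Category.comp_id _).trans (Category.id_comp _).symm
  associativity X Y Z := by
    rw [associator_hom_eq, project_map_homMk]
    dsimp only [projMapAux]
    rw [MonoidalCategory.id_whiskerRight, MonoidalCategory.whiskerLeft_id]
    simp only [Category.id_comp, Category.comp_id]
    rfl
  left_unitality X := by
    rw [leftUnitor_hom_eq, project_map_homMk]
    dsimp only [projMapAux]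
    rw [MonoidalCategory.id_whiskerRight]
    simp only [Category.id_comp]
    rfl
  right_unitality X := by
    rw [rightUnitor_hom_eq, project_map_homMk]
    dsimp only [projMapAux]
    rw [MonoidalCategory.whiskerLeft_id]
    simp only [Category.id_comp]
    rfl
  braided X Y := by
    rw [braiding_hom_eq, project_map_homMk]
    dsimp only [projMapAux]
    exact (Category.id_comp _).trans (Category.comp_id _).symm

lemma project_ε : Functor.LaxMonoidal.ε (project hP Φ) = 𝟙 _ := rfl
lemma project_μ (X Y : PObj A) : Functor.LaxMonoidal.μ (project hP Φ) X Y = 𝟙 _ := rfl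

/-- the comparison `incl ⋙ project ≅ Φ` -/
noncomputable def projectIso : incl A ⋙ project hP Φ ≅ Φ :=
  NatIso.ofComponents (fun a => Iso.refl _) (by
    intro a b f
    exact (Category.comp_id _).trans (Category.id_comp _).symm)

lemma projectIso_hom_app (a : A) : (projectIso hP Φ).hom.app a = 𝟙 _ := rfl

set_option backward.isDefEq.respectTransparency false in
instance : NatTrans.IsMonoidal (projectIso hP Φ).hom where
  unit := by
    rw [projectIso_hom_app, Functor.LaxMonoidal.comp_ε, project_ε, incl_ε, project_map_homMk]
    dsimp only [projMapAux]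
    simp only [Category.id_comp, Category.comp_id]
  tensor a b := by
    rw [projectIso_hom_app, projectIso_hom_app, projectIso_hom_app, Functor.LaxMonoidal.comp_μ,
      project_μ, incl_μ, project_map_homMk]
    dsimp only [projMapAux]
    rw [MonoidalCategory.id_tensorHom_id]
    simp only [Category.comp_id]
    exact (Category.id_comp _).trans (Category.id_comp _).symm

end Groth.Agent.Lib.Helper19.Picardify
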