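import Groth.Agent.Lib.Helper19PicardifyC

set_option autoImplicit false
set_option linter.style.haveILetI false

universe v u v' u'

open CategoryTheory MonoidalCategory

namespace Groth.Agent.Lib.Helper19.Picardify

variable {A : Type u} [Category.{v} A] [MonoidalCategory A] [SymmetricCategory A]
variable {P : Type u'} [Category.{v'} P] [MonoidalCategory P] [SymmetricCategory P] [IsGroupoid P]
variable (hP : ∀ X : P, (tensorLeft X).IsEquivalence ∧ (tensorRight X).IsEquivalence)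
variable (Ψ Ψ' : PObj A ⥤ P) [Ψ.LaxBraided] [Ψ'.LaxBraided]
variable (τ : incl A ⋙ Ψ ⟶ incl A ⋙ Ψ')

open Functor.LaxMonoidal

include hP in
lemma full_tensorLeft (Y : P) : (tensorLeft Y).Full := by
  haveI := (hP Y).1
  infer_instance

include hP in
lemma faithful_tensorLeft (Y : P) : (tensorLeft Y).Faithful := by
  haveI := (hP Y).1
  infer_instance

/-- the unit component -/
noncomputable def thetaUnit : Ψ.obj (𝟙_ (PObj A)) ⟶ Ψ'.obj (𝟙_ (PObj A)) :=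
  CategoryTheory.inv (ε Ψ) ≫ ε Ψ'

/-- the auxiliary morphism determining the component at a formal inverse -/
noncomputable def thetaInvAux (X : PObj A) (t : Ψ.obj X ⟶ Ψ'.obj X) :
    Ψ'.obj X ⊗ Ψ.obj X.inv ⟶ Ψ'.obj X ⊗ Ψ'.obj X.inv :=
  CategoryTheory.inv (t ▷ Ψ.obj X.inv) ≫ μ Ψ X X.inv ≫ CategoryTheory.inv (Ψ.map (etaIso X).hom) ≫
    thetaUnit Ψ Ψ' ≫ Ψ'.map (etaIso X).hom ≫ CategoryTheory.inv (μ Ψ' X X.inv)

/-- the components of the extension -/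
noncomputable def thetaApp : ∀ X : PObj A, Ψ.obj X ⟶ Ψ'.obj X
  | PObj.of a => τ.app a
  | PObj.unit => thetaUnit Ψ Ψ'
  | PObj.tensor X Y =>
      CategoryTheory.inv (μ Ψ X Y) ≫ (thetaApp X ⊗ₘ thetaApp Y) ≫ μ Ψ' X Y
  | PObj.inv X =>
      haveI := full_tensorLeft hP (Ψ'.obj X)
      (tensorLeft (Ψ'.obj X)).preimage (thetaInvAux Ψ Ψ' X (thetaApp X))

lemma thetaApp_of (a : A) : thetaApp hP Ψ Ψ' τ (PObj.of a) = τ.app a := rfl

lemma thetaApp_unit : thetaApp hP Ψ Ψ' τ (𝟙_ (PObj A)) = thetaUnit Ψ Ψ' := rfl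

lemma thetaApp_tensor (X Y : PObj A) :
    thetaApp hP Ψ Ψ' τ (X ⊗ Y) =
      CategoryTheory.inv (μ Ψ X Y) ≫ (thetaApp hP Ψ Ψ' τ X ⊗ₘ thetaApp hP Ψ Ψ' τ Y) ≫ μ Ψ' X Y :=
  rfl

lemma whiskerLeft_thetaApp_inv (X : PObj A) :
    Ψ'.obj X ◁ thetaApp hP Ψ Ψ' τ X.inv = thetaInvAux Ψ Ψ' X (thetaApp hP Ψ Ψ' τ X) := by
  haveI := full_tensorLeft hP (Ψ'.obj X)
  exact (tensorLeft (Ψ'.obj X)).map_preimage (thetaInvAux Ψ Ψ' X (thetaApp hP Ψ Ψ' τ X))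

@[reassoc]
lemma eps_thetaUnit : ε Ψ ≫ thetaUnit Ψ Ψ' = ε Ψ' := by
  rw [thetaUnit, IsIso.hom_inv_id_assoc]

@[reassoc]
lemma mu_thetaApp (X Y : PObj A) :
    μ Ψ X Y ≫ thetaApp hP Ψ Ψ' τ (X ⊗ Y) =
      (thetaApp hP Ψ Ψ' τ X ⊗ₘ thetaApp hP Ψ Ψ' τ Y) ≫ μ Ψ' X Y := by
  rw [thetaApp_tensor, IsIso.hom_inv_id_assoc]

@[reassoc]
lemma eta_thetaApp (X : PObj A) :
    Ψ.map (etaIso X).hom ≫ thetaApp hP Ψ Ψ' τ (X ⊗ X.inv) =
      thetaUnit Ψ Ψ' ≫ Ψ'.map (etaIso X).hom := by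
  rw [thetaApp_tensor, tensorHom_def, whiskerLeft_thetaApp_inv, thetaInvAux,
    IsIso.hom_inv_id_assoc]
  simp only [Category.assoc, IsIso.inv_hom_id, Category.comp_id, IsIso.hom_inv_id_assoc,
    IsIso.inv_hom_id_assoc]

local notation "θ" => thetaApp hP Ψ Ψ' τ

theorem thetaApp_naturality_aux [NatTrans.IsMonoidal τ] {X Y : PObj A} (f : PHom X Y) :
    Ψ.map (homMk f) ≫ θ Y = θ X ≫ Ψ'.map (homMk f) := by
  induction f with
  | of f => exact τ.naturality f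
  | id X =>
    rw [homMk_id, Ψ.map_id, Ψ'.map_id, Category.id_comp, Category.comp_id]
  | comp f g hf hg =>
    rw [homMk_comp, Ψ.map_comp, Ψ'.map_comp, Category.assoc, hg, reassoc_of% hf]
  | @tensor W X Y Z f g hf hg =>
    change Ψ.map (homMk f ⊗ₘ homMk g) ≫ θ (Y ⊗ Z) = θ (W ⊗ X) ≫ Ψ'.map (homMk f ⊗ₘ homMk g)
    rw [← cancel_epi (μ Ψ W X), ← μ_natural_assoc, mu_thetaApp,
      tensorHom_comp_tensorHom_assoc, hf, hg, ← tensorHom_comp_tensorHom_assoc, μ_natural,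
      ← mu_thetaApp_assoc]
  | inv f hf =>
    rw [homMk_inv, Functor.map_inv, Functor.map_inv, IsIso.inv_comp_eq, ← Category.assoc,
      IsIso.eq_comp_inv, hf]
  | α X Y Z =>
    change Ψ.map (α_ X Y Z).hom ≫ θ (X ⊗ (Y ⊗ Z)) = θ ((X ⊗ Y) ⊗ Z) ≫ Ψ'.map (α_ X Y Z).hom
    rw [← cancel_epi (μ Ψ (X ⊗ Y) Z), ← cancel_epi (μ Ψ X Y ▷ Ψ.obj Z)]
    calc μ Ψ X Y ▷ Ψ.obj Z ≫ μ Ψ (X ⊗ Y) Z ≫ Ψ.map (α_ X Y Z).hom ≫ θ (X ⊗ (Y ⊗ Z))
        = (α_ _ _ _).hom ≫ Ψ.obj X ◁ μ Ψ Y Z ≫ μ Ψ X (Y ⊗ Z) ≫ θ (X ⊗ (Y ⊗ Z)) := by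
          rw [associativity_assoc]
      _ = (α_ _ _ _).hom ≫ (θ X ⊗ₘ (θ Y ⊗ₘ θ Z)) ≫ Ψ'.obj X ◁ μ Ψ' Y Z ≫ μ Ψ' X (Y ⊗ Z) := by
          rw [mu_thetaApp, whiskerLeft_comp_tensorHom_assoc, mu_thetaApp,
            ← tensorHom_comp_whiskerLeft_assoc]
      _ = ((θ X ⊗ₘ θ Y) ⊗ₘ θ Z) ≫ μ Ψ' X Y ▷ Ψ'.obj Z ≫ μ Ψ' (X ⊗ Y) Z ≫
            Ψ'.map (α_ X Y Z).hom := by
          rw [associativity, associator_naturality_assoc]
      _ = μ Ψ X Y ▷ Ψ.obj Z ≫ μ Ψ (X ⊗ Y) Z ≫ θ ((X ⊗ Y) ⊗ Z) ≫ Ψ'.map (α_ X Y Z).hom := by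
          rw [mu_thetaApp_assoc, whiskerRight_comp_tensorHom_assoc, mu_thetaApp,
            ← tensorHom_comp_whiskerRight_assoc]
  | l X =>
    change Ψ.map (λ_ X).hom ≫ θ X = θ (𝟙_ _ ⊗ X) ≫ Ψ'.map (λ_ X).hom
    rw [← cancel_epi (μ Ψ (𝟙_ _) X), ← cancel_epi (ε Ψ ▷ Ψ.obj X), ← left_unitality_assoc,
      mu_thetaApp_assoc, whiskerRight_comp_tensorHom_assoc, thetaApp_unit, eps_thetaUnit,
      tensorHom_def'_assoc, ← left_unitality, leftUnitor_naturality]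
  | r X =>
    change Ψ.map (ρ_ X).hom ≫ θ X = θ (X ⊗ 𝟙_ _) ≫ Ψ'.map (ρ_ X).hom
    rw [← cancel_epi (μ Ψ X (𝟙_ _)), ← cancel_epi (Ψ.obj X ◁ ε Ψ), ← right_unitality_assoc,
      mu_thetaApp_assoc, whiskerLeft_comp_tensorHom_assoc, thetaApp_unit, eps_thetaUnit,
      tensorHom_def_assoc, ← right_unitality, rightUnitor_naturality]
  | β X Y =>
    change Ψ.map (β_ X Y).hom ≫ θ (Y ⊗ X) = θ (X ⊗ Y) ≫ Ψ'.map (β_ X Y).hom
    rw [← cancel_epi (μ Ψ X Y), Functor.LaxBraided.braided_assoc, mu_thetaApp,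
      mu_thetaApp_assoc, Functor.LaxBraided.braided, BraidedCategory.braiding_naturality_assoc]
  | μ a b =>
    have h := NatTrans.IsMonoidal.tensor (τ := τ) a b
    rw [Functor.LaxMonoidal.comp_μ, Functor.LaxMonoidal.comp_μ] at h
    change Ψ.map (μ (incl A) a b) ≫ τ.app (a ⊗ b) =
      θ ((incl A).obj a ⊗ (incl A).obj b) ≫ Ψ'.map (μ (incl A) a b)
    rw [← cancel_epi (μ Ψ ((incl A).obj a) ((incl A).obj b)), mu_thetaApp_assoc]
    rw [Category.assoc] at h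
    exact h
  | ε =>
    have h := NatTrans.IsMonoidal.unit (τ := τ)
    rw [Functor.LaxMonoidal.comp_ε, Functor.LaxMonoidal.comp_ε] at h
    change Ψ.map (ε (incl A)) ≫ τ.app (𝟙_ A) = thetaUnit Ψ Ψ' ≫ Ψ'.map (ε (incl A))
    rw [← cancel_epi (ε Ψ), eps_thetaUnit_assoc]
    rw [Category.assoc] at h
    exact h
  | η X => exact eta_thetaApp hP Ψ Ψ' τ X

theorem thetaApp_naturality [NatTrans.IsMonoidal τ] {X Y : PObj A} (f : X ⟶ Y) :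
    Ψ.map f ≫ θ Y = θ X ≫ Ψ'.map f := by
  induction f using Quotient.inductionOn with | _ f
  exact thetaApp_naturality_aux hP Ψ Ψ' τ f

/-- the extended natural transformation -/
noncomputable def theta [NatTrans.IsMonoidal τ] : Ψ ⟶ Ψ' where
  app := thetaApp hP Ψ Ψ' τ
  naturality _ _ f := thetaApp_naturality hP Ψ Ψ' τ f

lemma theta_app [NatTrans.IsMonoidal τ] (X : PObj A) :
    (theta hP Ψ Ψ' τ).app X = thetaApp hP Ψ Ψ' τ X := rfl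

instance [NatTrans.IsMonoidal τ] : NatTrans.IsMonoidal (theta hP Ψ Ψ' τ) where
  unit := eps_thetaUnit Ψ Ψ'
  tensor X Y := mu_thetaApp hP Ψ Ψ' τ X Y

lemma whiskerLeft_theta [NatTrans.IsMonoidal τ] :
    Functor.whiskerLeft (incl A) (theta hP Ψ Ψ' τ) = τ := by
  ext a
  rfl

theorem theta_unique [NatTrans.IsMonoidal τ] (θ' : Ψ ⟶ Ψ') [NatTrans.IsMonoidal θ']
    (h : Functor.whiskerLeft (incl A) θ' = τ) : θ' = theta hP Ψ Ψ' τ := by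
  ext X
  rw [theta_app]
  induction X with
  | of a => exact congr_app h a
  | unit =>
    have h1 := NatTrans.IsMonoidal.unit (τ := θ')
    change θ'.app (𝟙_ _) = thetaUnit Ψ Ψ'
    rw [thetaUnit, IsIso.eq_inv_comp, h1]
  | tensor X Y hX hY =>
    have h1 := NatTrans.IsMonoidal.tensor (τ := θ') X Y
    change θ'.app (X ⊗ Y) = θ (X ⊗ Y)
    rw [thetaApp_tensor, IsIso.eq_inv_comp, h1, hX, hY]
  | inv X hX =>
    haveI := faithful_tensorLeft hP (Ψ'.obj X)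
    apply (tensorLeft (Ψ'.obj X)).map_injective
    change Ψ'.obj X ◁ θ'.app X.inv = Ψ'.obj X ◁ θ X.inv
    rw [whiskerLeft_thetaApp_inv, thetaInvAux, IsIso.eq_inv_comp, ← tensorHom_def, ← hX]
    have h1 := NatTrans.IsMonoidal.tensor (τ := θ') X X.inv
    have h2 := θ'.naturality (etaIso X).hom
    have h3 := NatTrans.IsMonoidal.unit (τ := θ')
    rw [← cancel_mono (μ Ψ' X X.inv), ← h1]
    simp only [Category.assoc, IsIso.inv_hom_id, Category.comp_id]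
    congr 1
    rw [IsIso.eq_inv_comp, h2, thetaUnit, ← h3, IsIso.inv_hom_id_assoc]

end Groth.Agent.Lib.Helper19.Picardify
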