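import Mathlib
import Groth.Prelude.Def_DeRham
import Groth.Agent.Lib.Helper19CartanD

/-!
# Algebraic Poincaré lemma for polynomial rings in characteristic zero (Euler field homotopy)
-/

set_option autoImplicit false

namespace Groth.Agent.Lib.Helper19.PoincarePoly

open exteriorPower MvPolynomial
open Groth.Agent.Lib.Helper19.Cartan

universe u

variable (k : Type u) [Field k] (n : ℕ)

/-- the Euler vector field `Σ X_i ∂/∂X_i` -/
noncomputable def θ : Derivation k (MvPolynomial (Fin n) k) (MvPolynomial (Fin n) k) :=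
  ∑ i, (X i : MvPolynomial (Fin n) k) • (pderiv i : Derivation k _ _)

lemma θ_monomial (s : Fin n →₀ ℕ) (c : k) :
    θ k n (monomial s c) = (((∑ i, s i : ℕ)) : ℤ) • monomial s c := by
  rw [natCast_zsmul, Finset.sum_smul]
  have hcoe : ⇑(θ k n) = ∑ i, ⇑((X i : MvPolynomial (Fin n) k) • (pderiv i : Derivation k _ _)) :=
    map_sum Derivation.coeFnAddMonoidHom _ _
  rw [hcoe, Finset.sum_apply]
  refine Finset.sum_congr rfl fun i _ => ?_
  rw [Derivation.smul_apply, smul_eq_mul]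
  exact X_mul_pderiv_monomial

/-- graded pieces (as sets of monomials) -/
def 𝓜 (w : ℤ) : Set (MvPolynomial (Fin n) k) :=
  {m | ∃ (s : Fin n →₀ ℕ) (c : k), (((∑ i, s i : ℕ)) : ℤ) = w ∧ m = monomial s c}

lemma hθ (w : ℤ) (m : MvPolynomial (Fin n) k) (hm : m ∈ 𝓜 k n w) : θ k n m = w • m := by
  obtain ⟨s, c, rfl, rfl⟩ := hm
  exact θ_monomial k n s c

lemma hspan : AddSubmonoid.closure (⋃ w, 𝓜 k n w) = ⊤ := by
  rw [eq_top_iff]
  intro p _
  rw [← p.support_sum_monomial_coeff]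
  refine AddSubmonoid.sum_mem _ fun v _ => AddSubmonoid.subset_closure ?_
  exact Set.mem_iUnion.mpr ⟨_, v, _, rfl, rfl⟩

lemma weight_zero_gen_eq_zero (q : ℕ) (w₀ : ℤ) (w : Fin (q + 1) → ℤ)
    (b₀ : MvPolynomial (Fin n) k) (b : Fin (q + 1) → MvPolynomial (Fin n) k)
    (hw : w₀ + ∑ j, w j = 0) (hb₀ : b₀ ∈ 𝓜 k n w₀) (hb : ∀ j, b j ∈ 𝓜 k n (w j)) :
    DeRham.gen (KaehlerDifferential.D k (MvPolynomial (Fin n) k)) (q + 1) b₀ b = 0 := by
  have h0 : 0 ≤ w₀ := by
    obtain ⟨s, c, rfl, -⟩ := hb₀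
    exact Int.natCast_nonneg _
  have hj : ∀ j, 0 ≤ w j := by
    intro j
    obtain ⟨s, c, h, -⟩ := hb j
    rw [← h]
    exact Int.natCast_nonneg _
  have hw0 : w 0 = 0 := by
    have h1 : w 0 ≤ ∑ j, w j := Finset.single_le_sum (fun j _ => hj j) (Finset.mem_univ 0)
    have := hj 0
    omega
  obtain ⟨s, c, hs, hm⟩ := hb 0
  rw [hw0] at hs
  have hs0 : s = 0 := by
    ext i
    have h1 : s i ≤ ∑ i, s i := Finset.single_le_sum (fun _ _ => Nat.zero_le _) (Finset.mem_univ i)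
    have h2 : (∑ i, s i) = 0 := by exact_mod_cast hs
    simp only [Finsupp.coe_zero, Pi.zero_apply]
    omega
  unfold DeRham.gen
  rw [AlternatingMap.map_coord_zero (i := 0), smul_zero]
  rw [hm, hs0]
  exact Derivation.map_algebraMap _ c

variable {k n}
variable
    (d : ExteriorAlgebra (MvPolynomial (Fin n) k) (Ω[MvPolynomial (Fin n) k⁄k]) →ₗ[k]
      ExteriorAlgebra (MvPolynomial (Fin n) k) (Ω[MvPolynomial (Fin n) k⁄k]))
    (h0 : ∀ a : MvPolynomial (Fin n) k,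
      d (algebraMap (MvPolynomial (Fin n) k) _ a) =
        ExteriorAlgebra.ι (MvPolynomial (Fin n) k) (KaehlerDifferential.D k (MvPolynomial (Fin n) k) a))
    (hdeg : ∀ (p : ℕ) (ω : ExteriorAlgebra (MvPolynomial (Fin n) k) (Ω[MvPolynomial (Fin n) k⁄k])),
      ω ∈ ⋀[MvPolynomial (Fin n) k]^p (Ω[MvPolynomial (Fin n) k⁄k]) →
        d ω ∈ ⋀[MvPolynomial (Fin n) k]^(p + 1) (Ω[MvPolynomial (Fin n) k⁄k]))
    (hder : ∀ (p : ℕ) (ω η : ExteriorAlgebra (MvPolynomial (Fin n) k) (Ω[MvPolynomial (Fin n) k⁄k])),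
      ω ∈ ⋀[MvPolynomial (Fin n) k]^p (Ω[MvPolynomial (Fin n) k⁄k]) →
        d (ω * η) = d ω * η + (-1) ^ p * ω * d η)
    (hdd : ∀ ω, d (d ω) = 0)

/-- the family of differentials induced by `d` -/
noncomputable def dfam (p : ℕ) :
    ↥(⋀[MvPolynomial (Fin n) k]^p (Ω[MvPolynomial (Fin n) k⁄k])) →ₗ[k]
      ↥(⋀[MvPolynomial (Fin n) k]^(p + 1) (Ω[MvPolynomial (Fin n) k⁄k])) where
  toFun ω := ⟨d ω.1, hdeg p ω.1 ω.2⟩
  map_add' x y := Subtype.ext (by simp)
  map_smul' c x := Subtype.ext (by simp)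

include h0 hder hdd in
lemma d_ιMulti (p : ℕ) (b : Fin p → MvPolynomial (Fin n) k) :
    d (ExteriorAlgebra.ιMulti (MvPolynomial (Fin n) k) p
      (fun i => KaehlerDifferential.D k (MvPolynomial (Fin n) k) (b i))) = 0 := by
  induction p with
  | zero =>
    rw [ExteriorAlgebra.ιMulti_zero_apply, ← map_one (algebraMap (MvPolynomial (Fin n) k) _), h0]
    simp
  | succ p ih =>
    rw [ExteriorAlgebra.ιMulti_succ_apply]
    have hmem : ExteriorAlgebra.ι (MvPolynomial (Fin n) k)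
        (KaehlerDifferential.D k (MvPolynomial (Fin n) k) (b 0)) ∈
        ⋀[MvPolynomial (Fin n) k]^1 (Ω[MvPolynomial (Fin n) k⁄k]) := by
      show _ ∈ LinearMap.range (ExteriorAlgebra.ι (MvPolynomial (Fin n) k)) ^ 1
      rw [pow_one]
      exact ⟨_, rfl⟩
    rw [hder 1 _ _ hmem, ← h0, hdd, zero_mul, zero_add]
    have : Matrix.vecTail (fun i => KaehlerDifferential.D k (MvPolynomial (Fin n) k) (b i)) =
        fun i => KaehlerDifferential.D k (MvPolynomial (Fin n) k) (Matrix.vecTail b i) := rfl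
    rw [this, ih, mul_zero]

include h0 hder hdd in
lemma isDiff_dfam : DeRham.IsDiff (KaehlerDifferential.D k (MvPolynomial (Fin n) k))
    (dfam d hdeg) := by
  refine ⟨fun p b₀ b => Subtype.ext ?_, fun p => LinearMap.ext fun x => Subtype.ext (hdd x.1)⟩
  show d ((DeRham.gen (KaehlerDifferential.D k (MvPolynomial (Fin n) k)) p b₀ b).1) = _
  unfold DeRham.gen
  rw [Submodule.coe_smul, exteriorPower.ιMulti_apply_coe, exteriorPower.ιMulti_apply_coe,
    Algebra.smul_def]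
  have hmem : algebraMap (MvPolynomial (Fin n) k)
      (ExteriorAlgebra (MvPolynomial (Fin n) k) (Ω[MvPolynomial (Fin n) k⁄k])) b₀ ∈
      ⋀[MvPolynomial (Fin n) k]^0 (Ω[MvPolynomial (Fin n) k⁄k]) := by
    show _ ∈ LinearMap.range (ExteriorAlgebra.ι (MvPolynomial (Fin n) k)) ^ 0
    rw [pow_zero]
    exact Submodule.algebraMap_mem b₀
  rw [hder 0 _ _ hmem, h0, d_ιMulti d h0 hder hdd, mul_zero, add_zero,
    ExteriorAlgebra.ιMulti_succ_apply]
  congr 1

include h0 hdeg hder hdd in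
theorem poincare [CharZero k] (p : ℕ)
    (ω : ExteriorAlgebra (MvPolynomial (Fin n) k) (Ω[MvPolynomial (Fin n) k⁄k]))
    (hω : ω ∈ ⋀[MvPolynomial (Fin n) k]^(p + 1) (Ω[MvPolynomial (Fin n) k⁄k]))
    (hdω : d ω = 0) :
    ∃ η ∈ ⋀[MvPolynomial (Fin n) k]^p (Ω[MvPolynomial (Fin n) k⁄k]), d η = ω := by
  have hD := isDiff_dfam d h0 hdeg hder hdd
  have hy : (⟨ω, hω⟩ : ↥(⋀[MvPolynomial (Fin n) k]^(p + 1) (Ω[MvPolynomial (Fin n) k⁄k]))) ∈
      DeRham.cocycles (dfam d hdeg) (p + 1) := by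
    show dfam d hdeg (p + 1) ⟨ω, hω⟩ = 0
    exact Subtype.ext hdω
  obtain ⟨y₀, hy₀, -, h2⟩ := exists_weight_zero_cohomologous (θ k n) (dfam d hdeg) hD (𝓜 k n)
    (hθ k n) (hspan k n) (p + 1) ⊥
    (fun w₀ w b₀ b hw hb₀ hb => by
      rw [weight_zero_gen_eq_zero k n p w₀ w b₀ b hw hb₀ hb]; exact zero_mem _)
    ⟨ω, hω⟩ hy
  rw [AddSubgroup.mem_bot] at hy₀
  rw [hy₀, sub_zero] at h2
  obtain ⟨η, hη⟩ := h2
  exact ⟨η.1, η.2, congrArg Subtype.val hη⟩

include h0 in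
theorem const_of_closed [CharZero k] (a : MvPolynomial (Fin n) k)
    (ha : d (algebraMap (MvPolynomial (Fin n) k) _ a) = 0) : ∃ c : k, a = C c := by
  rw [h0, ExteriorAlgebra.ι_eq_zero_iff] at ha
  have hp : ∀ i, pderiv i a = 0 := by
    intro i
    have := Derivation.liftKaehlerDifferential_comp_D (pderiv i : Derivation k _ _) a
    rw [ha, map_zero] at this
    exact this.symm
  refine ⟨coeff 0 a, ?_⟩
  ext m
  rw [coeff_C]
  split_ifs with hm
  · rw [← hm]
  · have : ∃ i, m i ≠ 0 := by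
      by_contra hcon
      apply hm
      ext i
      by_contra hi
      exact hcon ⟨i, fun h => hi (by simp [h])⟩
    obtain ⟨i, hi⟩ := this
    have h1 := coeff_pderiv a (m - Finsupp.single i 1) (i := i)
    rw [hp i, coeff_zero] at h1
    have h2 : m - Finsupp.single i 1 + Finsupp.single i 1 = m := by
      ext j
      by_cases hj : j = i
      · subst hj; simp; omega
      · simp [Finsupp.single_apply, hj, Ne.symm hj]
    rw [h2] at h1
    have h3 : (((m - Finsupp.single i 1 : Fin n →₀ ℕ) i : ℕ) : k) + 1 ≠ 0 := by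
      have := Nat.succ_ne_zero ((m - Finsupp.single i 1 : Fin n →₀ ℕ) i)
      exact_mod_cast this
    exact (mul_eq_zero.mp h1.symm).resolve_right h3

end Groth.Agent.Lib.Helper19.PoincarePoly
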