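import Mathlib

/-!
# Transfer of "Prüfer" and "semilocal" along ring isomorphisms
-/

namespace Groth.Agent.Lib.Helper19PruferTransfer

variable {A B : Type*} [CommRing A] [CommRing B] [IsDomain A] [IsDomain B]

theorem prufer_of_ringEquiv (e : A ≃+* B)
    (h : ∀ (q : Ideal B) [q.IsPrime], ValuationRing (Localization.AtPrime q))
    (p : Ideal A) [p.IsPrime] : ValuationRing (Localization.AtPrime p) := by
  set q : Ideal B := Ideal.comap (e.symm : B →+* A) p with hq
  have hqprime : q.IsPrime := Ideal.comap_isPrime _ _
  have H : Submonoid.map (e.symm : B ≃+* A).toMonoidHom q.primeCompl = p.primeCompl := by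
    ext x
    constructor
    · rintro ⟨b, hb, rfl⟩
      exact hb
    · intro hx
      refine ⟨e x, ?_, by simp⟩
      show e x ∉ q
      rw [hq, Ideal.mem_comap]
      simpa using hx
  let f : Localization.AtPrime q ≃+* Localization.AtPrime p :=
    IsLocalization.ringEquivOfRingEquiv (Localization.AtPrime q) (Localization.AtPrime p) e.symm H
  have := h q
  exact Function.Surjective.valuationRing (f : Localization.AtPrime q →+* Localization.AtPrime p)
    f.surjective

theorem finite_maximalSpectrum_of_ringEquiv (e : A ≃+* B) (h : Finite (MaximalSpectrum B)) :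
    Finite (MaximalSpectrum A) := by
  let φ : MaximalSpectrum A → MaximalSpectrum B := fun m =>
    ⟨Ideal.comap (e.symm : B →+* A) m.asIdeal,
      Ideal.comap_isMaximal_of_surjective _ e.symm.surjective⟩
  have hφ : Function.Injective φ := by
    intro m m' hmm
    have h1 : Ideal.comap (e.symm : B →+* A) m.asIdeal = Ideal.comap (e.symm : B →+* A) m'.asIdeal :=
      congrArg MaximalSpectrum.asIdeal hmm
    apply MaximalSpectrum.ext
    ext x
    have h2 := Ideal.ext_iff.mp h1 (e x)
    simpa [Ideal.mem_comap] using h2
  exact Finite.of_injective φ hφ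

end Groth.Agent.Lib.Helper19PruferTransfer
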