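import Groth.Agent.Lib.Helper19PowerSeries
import Mathlib

/-!
# Continuous homomorphisms from a power series ring to a discrete algebra (EGA 0_IV 19.?)
(helper19)
-/

set_option autoImplicit false
universe u

namespace Groth.Agent.Lib.Helper19

open MvPowerSeries

theorem continuous_algHom_mvPowerSeries_iff_nilpotent (A : Type u) [CommRing A] (𝔞 : Ideal A)
    (n : ℕ) (E : Type u) [CommRing E] [Algebra A E]
    (hE : ∃ k : ℕ, (𝔞 ^ k).map (algebraMap A E) = ⊥) :
    (∀ f : MvPowerSeries (Fin n) A →ₐ[A] E,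
      (∃ m : ℕ, ∀ x ∈ (𝔞.map (MvPowerSeries.C : A →+* MvPowerSeries (Fin n) A) ⊔
        RingHom.ker (MvPowerSeries.constantCoeff : MvPowerSeries (Fin n) A →+* A)) ^ m, f x = 0) →
      ∀ i, IsNilpotent (f (MvPowerSeries.X i))) ∧
    ∀ z : Fin n → E, (∀ i, IsNilpotent (z i)) →
      ∃! g : MvPowerSeries (Fin n) A →ₐ[A] E,
        (∃ m : ℕ, ∀ x ∈ (𝔞.map (MvPowerSeries.C : A →+* MvPowerSeries (Fin n) A) ⊔
          RingHom.ker (MvPowerSeries.constantCoeff : MvPowerSeries (Fin n) A →+* A)) ^ m, g x = 0) ∧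
        ∀ i, g (MvPowerSeries.X i) = z i := by
  classical
  constructor
  · rintro f ⟨m, hm⟩ i
    refine ⟨m, ?_⟩
    rw [← map_pow]
    apply hm
    apply Ideal.pow_mem_pow
    apply Ideal.mem_sup_right
    rw [RingHom.mem_ker]
    exact MvPowerSeries.constantCoeff_X i
  · intro z hz
    obtain ⟨k, hk⟩ := hE
    set 𝔫 : Ideal E := Ideal.span (Set.range z) with h𝔫
    have h𝔫fg : 𝔫.FG := ⟨Finset.univ.image z, by rw [h𝔫]; simp⟩
    have h𝔫nil : IsNilpotent 𝔫 := by
      rw [Ideal.FG.isNilpotent_iff_le_nilradical h𝔫fg, h𝔫, Ideal.span_le]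
      rintro _ ⟨i, rfl⟩
      exact hz i
    obtain ⟨N, hN⟩ := h𝔫nil
    rw [Ideal.zero_eq_bot] at hN
    obtain ⟨g, hg⟩ := exists_algHom_X_eq (Λ := A) 𝔫 N hN z
      (fun i => Ideal.subset_span ⟨i, rfl⟩)
    refine ⟨g, ⟨⟨k + N, ?_⟩, hg⟩, ?_⟩
    · intro x hx
      have h1 : (𝔞.map (MvPowerSeries.C : A →+* MvPowerSeries (Fin n) A)).map g.toRingHom ≤
          𝔞.map (algebraMap A E) := by
        rw [Ideal.map_map]
        apply le_of_eq
        congr 1
        ext a
        change g (MvPowerSeries.C a) = algebraMap A E a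
        exact g.commutes a
      have h2 : (RingHom.ker (MvPowerSeries.constantCoeff :
          MvPowerSeries (Fin n) A →+* A)).map g.toRingHom ≤ 𝔫 := by
        rw [Ideal.map_le_iff_le_comap]
        intro y hy
        rw [Ideal.mem_comap]
        have hy' : y ∈ varsIdeal (Fin n) A ^ 1 := by
          apply mem_varsIdeal_pow_of_coeff_eq_zero
          intro α hα
          have : α = 0 := by
            have h0 : Finsupp.degree α = 0 := by omega
            exact (Finsupp.degree_eq_zero_iff α).mp h0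
          rw [this]
          exact hy
        rw [pow_one] at hy'
        have h3 : (varsIdeal (Fin n) A).map g.toRingHom ≤ 𝔫 := by
          rw [varsIdeal, Ideal.map_span, Ideal.span_le]
          rintro _ ⟨_, ⟨s, rfl⟩, rfl⟩
          change g (X s) ∈ 𝔫
          rw [hg]
          exact Ideal.subset_span ⟨s, rfl⟩
        exact h3 (Ideal.mem_map_of_mem _ hy')
      have h4 : g x ∈ ((𝔞.map (MvPowerSeries.C : A →+* MvPowerSeries (Fin n) A) ⊔
          RingHom.ker (MvPowerSeries.constantCoeff :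
            MvPowerSeries (Fin n) A →+* A)) ^ (k + N)).map g.toRingHom :=
        Ideal.mem_map_of_mem _ hx
      rw [Ideal.map_pow, Ideal.map_sup] at h4
      have h5 := Ideal.pow_right_mono (sup_le_sup h1 h2) (k + N) h4
      have h6 := Ideal.sup_pow_add_le_pow_sup_pow h5
      rw [← Ideal.map_pow, hk, hN, bot_sup_eq, Ideal.mem_bot] at h6
      exact h6
    · rintro g' ⟨-, hg'⟩
      symm
      apply algHom_ext_of_X 𝔫 N hN g g'
      · intro s
        rw [hg]
        exact Ideal.subset_span ⟨s, rfl⟩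
      · intro s
        rw [hg, hg']

end Groth.Agent.Lib.Helper19
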