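import Groth.Agent.Lib.Helper19ExalT1C
import Groth.Agent.Lib.Helper19PsLiftComplete
import Groth.Agent.Lib.Helper19PowerSeries
import Groth.Agent.Lib.Helper28ComplNagata

/-!
# Extensions of a quotient of a power series ring by a simple module (helper19)
-/

set_option autoImplicit false
set_option linter.unusedSectionVars false
set_option linter.style.haveILetI false
universe u

open Exal

namespace Groth.Agent.Lib.Helper19.PsExtClass

open Groth.Agent.Lib.Helper19.ExalT1

attribute [local instance] Exal.opModule Exal.isCentralScalar_opModule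

variable {Λ : Type u} [CommRing Λ] [IsLocalRing Λ] [IsNoetherianRing Λ]
  [IsAdicComplete (IsLocalRing.maximalIdeal Λ) Λ]
  (d : ℕ) (J : Ideal (MvPowerSeries (Fin d) Λ))
  (hJ : J ≤ Ideal.span (Set.range (MvPowerSeries.X : Fin d → MvPowerSeries (Fin d) Λ)) ^ 2)

/-- the ideal of the variables is proper -/
lemma one_notMem_span_X :
    (1 : MvPowerSeries (Fin d) Λ) ∉
      Ideal.span (Set.range (MvPowerSeries.X : Fin d → MvPowerSeries (Fin d) Λ)) := by
  intro h
  have hle : Ideal.span (Set.range (MvPowerSeries.X : Fin d → MvPowerSeries (Fin d) Λ)) ≤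
      RingHom.ker (MvPowerSeries.constantCoeff (σ := Fin d) (R := Λ)) := by
    rw [Ideal.span_le]
    rintro _ ⟨i, rfl⟩
    exact MvPowerSeries.constantCoeff_X i
  have h1 := hle h
  rw [RingHom.mem_ker, map_one] at h1
  exact one_ne_zero h1

include hJ in
lemma J_ne_top : J ≠ ⊤ := by
  intro h
  apply one_notMem_span_X (Λ := Λ) d
  have : (1 : MvPowerSeries (Fin d) Λ) ∈ J := by rw [h]; trivial
  exact Ideal.pow_le_self two_ne_zero (hJ this)

include hJ in
lemma isLocalRing_quotient : IsLocalRing (MvPowerSeries (Fin d) Λ ⧸ J) := by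
  haveI : Nontrivial (MvPowerSeries (Fin d) Λ ⧸ J) :=
    Ideal.Quotient.nontrivial_iff.2 (J_ne_top d J hJ)
  exact IsLocalRing.of_surjective' (Ideal.Quotient.mk J) Ideal.Quotient.mk_surjective


variable (L : Type u) [AddCommGroup L] [Module (MvPowerSeries (Fin d) Λ ⧸ J) L]
  [Module (MvPowerSeries (Fin d) Λ) L]
  [IsScalarTower (MvPowerSeries (Fin d) Λ) (MvPowerSeries (Fin d) Λ ⧸ J) L]
  [IsSimpleModule (MvPowerSeries (Fin d) Λ ⧸ J) L]

include hJ in
/-- the variables act as zero on a simple module -/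
lemma smul_eq_zero_of_mem_span_X (a : MvPowerSeries (Fin d) Λ)
    (ha : a ∈ Ideal.span (Set.range (MvPowerSeries.X : Fin d → MvPowerSeries (Fin d) Λ)))
    (z : L) : a • z = 0 := by
  haveI := isLocalRing_quotient d J hJ
  obtain ⟨I, hI, ⟨e⟩⟩ := isSimpleModule_iff_quot_maximal.mp
    (inferInstance : IsSimpleModule (MvPowerSeries (Fin d) Λ ⧸ J) L)
  have hIm : I = IsLocalRing.maximalIdeal (MvPowerSeries (Fin d) Λ ⧸ J) :=
    IsLocalRing.eq_maximalIdeal hI
  have hmem : Ideal.Quotient.mk J a ∈ I := by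
    rw [hIm, IsLocalRing.mem_maximalIdeal, mem_nonunits_iff]
    intro hu
    obtain ⟨b, hb⟩ := hu.exists_right_inv
    obtain ⟨q, rfl⟩ := Ideal.Quotient.mk_surjective b
    rw [← map_mul, ← map_one (Ideal.Quotient.mk J), Ideal.Quotient.eq] at hb
    have h1 : a * q - 1 ∈
        Ideal.span (Set.range (MvPowerSeries.X : Fin d → MvPowerSeries (Fin d) Λ)) :=
      Ideal.pow_le_self two_ne_zero (hJ hb)
    apply one_notMem_span_X (Λ := Λ) d
    have h2 := Ideal.sub_mem _ (Ideal.mul_mem_right q _ ha) h1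
    rwa [sub_sub_cancel] at h2
  rw [← algebraMap_smul (MvPowerSeries (Fin d) Λ ⧸ J) a z]
  apply e.injective
  rw [map_smul, map_zero]
  obtain ⟨y, hy⟩ := Ideal.Quotient.mk_surjective (e z)
  rw [← hy]
  change Ideal.Quotient.mk I (Ideal.Quotient.mk J a * y) = 0
  rw [Ideal.Quotient.eq_zero_iff_mem]
  exact Ideal.mul_mem_right _ _ hmem


include hJ in
/-- (a) the quotient map lifts to every extension -/
theorem exists_lift (X : Exal.Ext Λ (MvPowerSeries (Fin d) Λ ⧸ J) L) :
    ∃ u : MvPowerSeries (Fin d) Λ →ₐ[Λ] X.E, ∀ p, X.proj (u p) = Ideal.Quotient.mk J p := by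
  haveI := isLocalRing_quotient d J hJ
  haveI : IsAdicComplete (IsLocalRing.maximalIdeal (MvPowerSeries (Fin d) Λ))
      (MvPowerSeries (Fin d) Λ) := isAdicComplete_mvPowerSeries
  haveI : IsAdicComplete (IsLocalRing.maximalIdeal (MvPowerSeries (Fin d) Λ ⧸ J))
      (MvPowerSeries (Fin d) Λ ⧸ J) :=
    Groth.Agent.Lib.Helper28.isAdicComplete_quotient_local J
  have hsq : RingHom.ker X.proj.toRingHom ^ 2 = ⊥ := by
    rw [eq_bot_iff, pow_two, Ideal.mul_le]
    intro a ha b hb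
    obtain ⟨z, rfl⟩ := (X.isExtension.exact a).1 ha
    obtain ⟨z', rfl⟩ := (X.isExtension.exact b).1 hb
    rw [Ideal.mem_bot]
    exact incl_mul_incl X z z'
  have hfg : (RingHom.ker X.proj.toRingHom).FG := by
    haveI : Nontrivial L := IsSimpleModule.nontrivial (MvPowerSeries (Fin d) Λ ⧸ J) L
    obtain ⟨z₀, hz₀⟩ := exists_ne (0 : L)
    have hcyc := IsSimpleModule.toSpanSingleton_surjective (MvPowerSeries (Fin d) Λ ⧸ J) hz₀
    refine ⟨{X.incl z₀}, ?_⟩
    rw [Finset.coe_singleton]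
    apply le_antisymm
    · rw [Ideal.span_le, Set.singleton_subset_iff]
      exact proj_incl X z₀
    · intro a ha
      obtain ⟨z, rfl⟩ := (X.isExtension.exact a).1 ha
      obtain ⟨r, rfl⟩ := hcyc z
      obtain ⟨e, rfl⟩ := X.isExtension.proj_surjective r
      rw [LinearMap.toSpanSingleton_apply, ← X.isExtension.mul_incl]
      exact Ideal.mul_mem_left _ _ (Ideal.subset_span rfl)
  obtain ⟨l, hl⟩ := exists_mvPowerSeries_lift_of_sqZero (R := Λ)
    (Ideal.Quotient.mkₐ Λ J) (Ideal.Quotient.mkₐ_surjective Λ J) X.proj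
    X.isExtension.proj_surjective hsq hfg
  exact ⟨l, fun p => AlgHom.congr_fun hl p⟩


lemma mem_J_of_mem_ker (i : RingHom.ker (algebraMap (MvPowerSeries (Fin d) Λ)
    (MvPowerSeries (Fin d) Λ ⧸ J))) : (i : MvPowerSeries (Fin d) Λ) ∈ J := by
  have hker : RingHom.ker (algebraMap (MvPowerSeries (Fin d) Λ)
      (MvPowerSeries (Fin d) Λ ⧸ J)) = J := by
    rw [Ideal.Quotient.algebraMap_eq, Ideal.mk_ker]
  have h2 : (i : MvPowerSeries (Fin d) Λ) ∈ RingHom.ker (algebraMap (MvPowerSeries (Fin d) Λ)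
      (MvPowerSeries (Fin d) Λ ⧸ J)) := i.2
  generalize (i : MvPowerSeries (Fin d) Λ) = x at h2
  rw [hker] at h2
  exact h2

lemma mem_ker_of_mem_J {j : MvPowerSeries (Fin d) Λ} (hj : j ∈ J) :
    j ∈ RingHom.ker (algebraMap (MvPowerSeries (Fin d) Λ) (MvPowerSeries (Fin d) Λ ⧸ J)) := by
  rw [Ideal.Quotient.algebraMap_eq, Ideal.mk_ker]
  exact hj

include hJ in
/-- (b) two extensions with lifts are equivalent iff the lifts agree on `J` -/
theorem equiv_iff (X X' : Exal.Ext Λ (MvPowerSeries (Fin d) Λ ⧸ J) L)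
    (u : MvPowerSeries (Fin d) Λ →ₐ[Λ] X.E) (u' : MvPowerSeries (Fin d) Λ →ₐ[Λ] X'.E)
    (hu : ∀ p, X.proj (u p) = Ideal.Quotient.mk J p)
    (hu' : ∀ p, X'.proj (u' p) = Ideal.Quotient.mk J p) :
    Nonempty (X.Equiv X') ↔ ∀ j ∈ J, ∃ z : L, X.incl z = u j ∧ X'.incl z = u' j := by
  letI : Module Λ L := Module.compHom L (algebraMap Λ (MvPowerSeries (Fin d) Λ))
  haveI : IsScalarTower Λ (MvPowerSeries (Fin d) Λ) L := ⟨fun a r m => by
    change (a • r) • m = algebraMap Λ (MvPowerSeries (Fin d) Λ) a • (r • m)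
    rw [Algebra.smul_def, mul_smul]⟩
  have hsurj : Function.Surjective (algebraMap (MvPowerSeries (Fin d) Λ)
      (MvPowerSeries (Fin d) Λ ⧸ J)) := Ideal.Quotient.mk_surjective
  have c := compEquiv hsurj X u hu
  have c' := compEquiv hsurj X' u' hu'
  constructor
  · rintro ⟨θ⟩
    obtain ⟨D, hD⟩ := exists_der_of_equiv hsurj (wOf X u hu) (wOf X' u' hu')
      ((c.trans θ).trans c'.symm)
    have hD2 : ∀ x ∈ Ideal.span (Set.range
        (MvPowerSeries.X : Fin d → MvPowerSeries (Fin d) Λ)) ^ 2, D x = 0 := by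
      intro x hx
      rw [pow_two] at hx
      refine Submodule.mul_induction_on hx ?_ ?_
      · intro a ha b hb
        rw [Derivation.leibniz, smul_eq_zero_of_mem_span_X d J hJ L a ha,
          smul_eq_zero_of_mem_span_X d J hJ L b hb, add_zero]
      · intro x y hx hy
        rw [map_add, hx, hy, add_zero]
    intro j hj
    have hj' := mem_ker_of_mem_J d J hj
    refine ⟨wOf X u hu ⟨j, hj'⟩, incl_wOf X u hu ⟨j, hj'⟩, ?_⟩
    have e1 : wOf X u hu ⟨j, hj'⟩ = wOf X' u' hu' ⟨j, hj'⟩ := by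
      rw [hD, LinearMap.add_apply, derRestr_apply, hD2 j (hJ hj), add_zero]
    rw [e1]
    exact incl_wOf X' u' hu' ⟨j, hj'⟩
  · intro h
    have hw : wOf X u hu = wOf X' u' hu' := by
      apply LinearMap.ext
      intro i
      obtain ⟨z, hz, hz'⟩ := h i (mem_J_of_mem_ker d J i)
      have h1 : wOf X u hu i = z :=
        X.isExtension.incl_injective ((incl_wOf X u hu i).trans hz.symm)
      have h2 : wOf X' u' hu' i = z :=
        X'.isExtension.incl_injective ((incl_wOf X' u' hu' i).trans hz'.symm)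
      rw [h1, h2]
    rw [hw] at c
    exact ⟨c.symm.trans c'⟩

/-- (c) every linear map on `J` comes from an extension with a lift -/
theorem exists_ext_of_linearMap (δ : J →ₗ[MvPowerSeries (Fin d) Λ] L) :
    ∃ (X : Exal.Ext Λ (MvPowerSeries (Fin d) Λ ⧸ J) L)
      (u : MvPowerSeries (Fin d) Λ →ₐ[Λ] X.E),
      (∀ p, X.proj (u p) = Ideal.Quotient.mk J p) ∧ ∀ j : J, X.incl (δ j) = u j := by
  letI : Module Λ L := Module.compHom L (algebraMap Λ (MvPowerSeries (Fin d) Λ))
  haveI : IsScalarTower Λ (MvPowerSeries (Fin d) Λ) L := ⟨fun a r m => by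
    change (a • r) • m = algebraMap Λ (MvPowerSeries (Fin d) Λ) a • (r • m)
    rw [Algebra.smul_def, mul_smul]⟩
  have hsurj : Function.Surjective (algebraMap (MvPowerSeries (Fin d) Λ)
      (MvPowerSeries (Fin d) Λ ⧸ J)) := Ideal.Quotient.mk_surjective
  have hker : RingHom.ker (algebraMap (MvPowerSeries (Fin d) Λ)
      (MvPowerSeries (Fin d) Λ ⧸ J)) = J := by
    rw [Ideal.Quotient.algebraMap_eq, Ideal.mk_ker]
  let w : RingHom.ker (algebraMap (MvPowerSeries (Fin d) Λ)
      (MvPowerSeries (Fin d) Λ ⧸ J)) →ₗ[MvPowerSeries (Fin d) Λ] L :=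
    δ ∘ₗ (LinearEquiv.ofEq _ _ hker).toLinearMap
  have hw : ∀ (j : MvPowerSeries (Fin d) Λ) (hj : j ∈ J), w ⟨j, mem_ker_of_mem_J d J hj⟩ =
      δ ⟨j, hj⟩ := fun j hj => rfl
  refine ⟨ExalT1.ext (A := Λ) hsurj w, shiftLift hsurj w (0 : Derivation Λ _ L),
    shiftLift_proj hsurj w 0, ?_⟩
  rintro ⟨j, hj⟩
  have h2 := incl_wOf (ExalT1.ext (A := Λ) hsurj w) (shiftLift hsurj w 0)
    (shiftLift_proj hsurj w 0) ⟨j, mem_ker_of_mem_J d J hj⟩
  have h3 := wOf_shiftLift hsurj w (0 : Derivation Λ (MvPowerSeries (Fin d) Λ) L)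
  have hz : derRestr (B := MvPowerSeries (Fin d) Λ ⧸ J)
      (0 : Derivation Λ (MvPowerSeries (Fin d) Λ) L) = 0 := by
    apply LinearMap.ext; intro i; rfl
  rw [hz, add_zero] at h3
  rw [h3, hw j hj] at h2
  exact h2

end Groth.Agent.Lib.Helper19.PsExtClass
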