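import Mathlib
import Groth.Agent.Lib.Helper19FinLenLocal

/-!
# Lengths over a local ring with a coefficient field; a freeness criterion over a complete ring
-/

set_option autoImplicit false
set_option linter.style.haveILetI false
universe u v

open IsLocalRing

namespace Helper19PsFree

section Length

variable {A : Type u} [CommRing A] [IsLocalRing A] {k : Type v} [Field k] [Algebra k A]

/-- `A ⧸ 𝔪` is one-dimensional over a field `k` mapping onto the residue field. -/
theorem finrank_quotient_maximalIdeal
    (hk : Function.Surjective (IsLocalRing.residue A ∘ algebraMap k A)) :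
    Module.finrank k (A ⧸ maximalIdeal A) = 1 := by
  let f : k →ₗ[k] (A ⧸ maximalIdeal A) :=
    { toFun := fun c => Ideal.Quotient.mk _ (algebraMap k A c)
      map_add' := fun a b => by simp
      map_smul' := fun a b => by
        simp only [smul_eq_mul, map_mul, RingHom.id_apply]
        rw [Algebra.smul_def]
        rfl }
  have hinj : Function.Injective f := by
    have : Function.Injective ((Ideal.Quotient.mk (maximalIdeal A)).comp (algebraMap k A)) :=
      RingHom.injective _
    exact this
  have hsurj : Function.Surjective f := hk
  have e : k ≃ₗ[k] (A ⧸ maximalIdeal A) := LinearEquiv.ofBijective f ⟨hinj, hsurj⟩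
  rw [← e.finrank_eq, Module.finrank_self]


/-- A module isomorphic to the residue field has length one over a coefficient field. -/
theorem length_eq_one_of_equiv
    (hk : Function.Surjective (IsLocalRing.residue A ∘ algebraMap k A))
    (X : Type u) [AddCommGroup X] [Module A X] [Module k X] [IsScalarTower k A X]
    (e : X ≃ₗ[A] A ⧸ maximalIdeal A) : Module.length k X = 1 := by
  let x₀ : X := e.symm 1
  let f : k →ₗ[k] X := LinearMap.toSpanSingleton k X x₀
  have hsmul : ∀ (a : A) (x : X), a ∈ maximalIdeal A → a • x = 0 := by
    intro a x ha
    apply e.injective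
    rw [map_smul, map_zero]
    obtain ⟨b, hb⟩ := Ideal.Quotient.mk_surjective (e x)
    rw [← hb, ← Ideal.Quotient.mk_eq_mk, ← Submodule.Quotient.mk_smul, Submodule.Quotient.mk_eq_zero]
    exact Ideal.mul_mem_right _ _ ha
  have hsurj : Function.Surjective f := by
    intro x
    obtain ⟨a, ha⟩ := Ideal.Quotient.mk_surjective (e x)
    obtain ⟨c, hc⟩ := hk (IsLocalRing.residue A a)
    refine ⟨c, ?_⟩
    show c • x₀ = x
    have hx : x = a • x₀ := by
      apply e.injective
      rw [map_smul, e.apply_symm_apply, ← ha]
      show Ideal.Quotient.mk _ a = a • (Ideal.Quotient.mk _ (1 : A))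
      rw [Algebra.smul_def, Ideal.Quotient.algebraMap_eq, ← map_mul, mul_one]
    have hdiff : algebraMap k A c - a ∈ maximalIdeal A := by
      have h1 : IsLocalRing.residue A (algebraMap k A c - a) = 0 := by
        rw [map_sub]
        have : IsLocalRing.residue A (algebraMap k A c) = IsLocalRing.residue A a := hc
        rw [this, sub_self]
      exact (IsLocalRing.residue_eq_zero_iff _).1 h1
    have h2 := hsmul _ x₀ hdiff
    rw [sub_smul, sub_eq_zero, algebraMap_smul] at h2
    rw [hx, h2]
  have hinj : Function.Injective f := by
    rw [← LinearMap.ker_eq_bot, LinearMap.ker_eq_bot']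
    intro c hc
    by_contra hc0
    have h1 : x₀ = 0 := by
      have : c⁻¹ • (c • x₀) = 0 := by
        have : c • x₀ = 0 := hc
        rw [this, smul_zero]
      rwa [smul_smul, inv_mul_cancel₀ hc0, one_smul] at this
    have h2 : e x₀ = 1 := e.apply_symm_apply 1
    rw [h1, map_zero] at h2
    have : Nontrivial (A ⧸ maximalIdeal A) := Ideal.Quotient.nontrivial_iff.mpr
      (IsLocalRing.maximalIdeal.isMaximal A).ne_top
    exact zero_ne_one h2
  have e' : k ≃ₗ[k] X := LinearEquiv.ofBijective f ⟨hinj, hsurj⟩
  rw [← e'.length_eq]
  exact Module.length_eq_one k k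

/-- Over a local ring with a coefficient field, length equals dimension over the field. -/
theorem length_eq_length
    (hk : Function.Surjective (IsLocalRing.residue A ∘ algebraMap k A))
    (M : Type u) [AddCommGroup M] [Module A M] (hM : IsFiniteLength A M) :
    ∀ [Module k M] [IsScalarTower k A M], Module.length k M = Module.length A M := by
  refine Groth.Agent.Lib.Helper19FinLenLocal.induction_on_isFiniteLength
    (motive := fun M _ _ => ∀ [Module k M] [IsScalarTower k A M],
      Module.length k M = Module.length A M) ?_ ?_ M hM
  · intro M _ _ _ _ _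
    rw [Module.length_eq_zero, Module.length_eq_zero]
  · intro M _ _ N e hN ih _ _
    have h1 := Module.length_eq_add_of_exact (N.subtype.restrictScalars k)
      (N.mkQ.restrictScalars k) N.injective_subtype N.mkQ_surjective
      (LinearMap.exact_subtype_mkQ N)
    have h2 := Module.length_eq_add_of_exact N.subtype N.mkQ N.injective_subtype N.mkQ_surjective
      (LinearMap.exact_subtype_mkQ N)
    rw [h1, h2, ih, length_eq_one_of_equiv hk (M ⧸ N) e]
    congr 1
    rw [e.length_eq]
    haveI : IsSimpleModule A (A ⧸ maximalIdeal A) :=
      isSimpleModule_iff_isCoatom.2 (Ideal.isMaximal_def.1 (IsLocalRing.maximalIdeal.isMaximal A))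
    exact (Module.length_eq_one_iff.2 inferInstance).symm

end Length

end Helper19PsFree
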