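import Mathlib

/-!
# A freeness criterion: regular sequence + complete + separated
-/

set_option autoImplicit false
set_option linter.style.haveILetI false
universe u v

open IsLocalRing

namespace Helper19PsFree

section Pi

variable {P : Type u} [CommRing P] (I : Ideal P)

theorem mem_smul_top_pi {d : ℕ} (J : Ideal P) (x : Fin d → P) :
    x ∈ J • (⊤ : Submodule P (Fin d → P)) ↔ ∀ i, x i ∈ J := by
  constructor
  · intro hx
    refine Submodule.smul_induction_on hx ?_ ?_
    · intro r hr v _ i
      show r * v i ∈ J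
      exact Ideal.mul_mem_right _ _ hr
    · intro v w hv hw i
      exact J.add_mem (hv i) (hw i)
  · intro hx
    rw [pi_eq_sum_univ x]
    refine Submodule.sum_mem _ fun i _ => ?_
    exact Submodule.smul_mem_smul (hx i) Submodule.mem_top

theorem isPrecomplete_pi [IsPrecomplete I P] (d : ℕ) : IsPrecomplete I (Fin d → P) := by
  refine ⟨fun f hf => ?_⟩
  have hcoord : ∀ i : Fin d, ∃ L : P, ∀ n, (fun n => f n i) n ≡ L [SMOD (I ^ n • ⊤ : Submodule P P)] := by
    intro i
    apply IsPrecomplete.prec'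
    intro m n hmn
    have h1 := hf hmn
    rw [SModEq.sub_mem] at h1 ⊢
    rw [mem_smul_top_pi] at h1
    have h2 := h1 i
    rw [smul_eq_mul, Ideal.mul_top]
    exact h2
  choose L hL using hcoord
  refine ⟨L, fun n => ?_⟩
  rw [SModEq.sub_mem, mem_smul_top_pi]
  intro i
  have h1 := hL i n
  rw [SModEq.sub_mem, smul_eq_mul, Ideal.mul_top] at h1
  exact h1

end Pi

section Krull

variable {P : Type u} [CommRing P] [IsNoetherianRing P] [IsLocalRing P]

theorem mem_of_forall_mem_sup_span_pow (J : Ideal P) (y : P) (hy : y ∈ maximalIdeal P) (x : P)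
    (h : ∀ t : ℕ, x ∈ J ⊔ Ideal.span {y ^ t}) : x ∈ J := by
  have hne : Ideal.span {y} ≠ ⊤ := by
    intro htop
    have : Ideal.span {y} ≤ maximalIdeal P := (Ideal.span_singleton_le_iff_mem _).2 hy
    rw [htop] at this
    exact (IsLocalRing.maximalIdeal.isMaximal P).ne_top (top_le_iff.mp this)
  have hK := Ideal.iInf_pow_smul_eq_bot_of_isLocalRing (R := P) (M := P ⧸ J) (Ideal.span {y}) hne
  have hx : (Ideal.Quotient.mk J x : P ⧸ J) ∈
      (⨅ i : ℕ, Ideal.span {y} ^ i • (⊤ : Submodule P (P ⧸ J))) := by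
    rw [Submodule.mem_iInf]
    intro t
    obtain ⟨j, hj, z, hz, hjz⟩ := Submodule.mem_sup.1 (h t)
    obtain ⟨a, rfl⟩ := Ideal.mem_span_singleton'.1 hz
    rw [← hjz, map_add, Ideal.Quotient.eq_zero_iff_mem.2 hj, zero_add, mul_comm]
    have : (Ideal.Quotient.mk J (y ^ t * a) : P ⧸ J) = (y ^ t) • (Ideal.Quotient.mk J a) := by
      rw [Algebra.smul_def, Ideal.Quotient.algebraMap_eq, ← map_mul]
    rw [this]
    refine Submodule.smul_mem_smul ?_ Submodule.mem_top
    rw [Ideal.span_singleton_pow]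
    exact Ideal.mem_span_singleton_self _
  rw [hK, Submodule.mem_bot] at hx
  exact Ideal.Quotient.eq_zero_iff_mem.1 hx

end Krull

end Helper19PsFree
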