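import Mathlib
import Groth.Agent.Lib.Helper19PsFreeB

/-!
# A freeness criterion: regular sequence + complete + separated (main abstract lemma)
-/

set_option autoImplicit false
set_option linter.style.haveILetI false
universe u v

open IsLocalRing

namespace Helper19PsFree

variable {P : Type u} [CommRing P] [IsNoetherianRing P] [IsLocalRing P]
  {M : Type v} [AddCommGroup M] [Module P M] {n d : ℕ} (y : Fin n → P)

/-- the ideal generated by the first `j` of the `y`'s -/
def II (j : ℕ) : Ideal P := Ideal.span (y '' {l : Fin n | (l : ℕ) < j})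

theorem II_n : II y n = Ideal.span (Set.range y) := by
  unfold II
  congr 1
  ext z
  constructor
  · rintro ⟨l, _, rfl⟩; exact ⟨l, rfl⟩
  · rintro ⟨l, rfl⟩; exact ⟨l, l.2, rfl⟩

theorem II_zero : II y 0 = ⊥ := by
  unfold II
  have : {l : Fin n | (l : ℕ) < 0} = ∅ := by ext l; simp
  rw [this, Set.image_empty, Ideal.span_empty]

theorem II_succ (j : ℕ) (hj : j < n) : II y (j + 1) = II y j ⊔ Ideal.span {y ⟨j, hj⟩} := by
  unfold II
  rw [← Ideal.span_union]
  congr 1
  ext z
  constructor
  · rintro ⟨l, hl, rfl⟩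
    have hl' : (l : ℕ) < j + 1 := hl
    by_cases h : (l : ℕ) < j
    · exact Or.inl ⟨l, h, rfl⟩
    · right
      have : l = ⟨j, hj⟩ := Fin.ext (by simp only; omega)
      rw [this]; rfl
  · rintro (⟨l, hl, rfl⟩ | hz)
    · exact ⟨l, Nat.lt_succ_of_lt hl, rfl⟩
    · rw [Set.mem_singleton_iff] at hz
      exact ⟨⟨j, hj⟩, Nat.lt_succ_self j, hz.symm⟩

variable (b : Fin d → M)

theorem lc_mem (J : Ideal P) (s : Fin d → P) (hs : ∀ i, s i ∈ J) :
    ∑ i, s i • b i ∈ J • (⊤ : Submodule P M) :=
  Submodule.sum_mem _ fun i _ => Submodule.smul_mem_smul (hs i) Submodule.mem_top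

theorem injective_of_regular (hy : ∀ i, y i ∈ maximalIdeal P)
    (hreg : ∀ (j : ℕ) (hj : j < n) (m : M),
      y ⟨j, hj⟩ • m ∈ II y j • (⊤ : Submodule P M) → m ∈ II y j • (⊤ : Submodule P M))
    (hindep : ∀ r : Fin d → P, ∑ i, r i • b i ∈ Ideal.span (Set.range y) • (⊤ : Submodule P M) →
      ∀ i, r i ∈ Ideal.span (Set.range y)) :
    Function.Injective (fun r : Fin d → P => ∑ i, r i • b i) := by
  -- the claim `C j`
  have hC : ∀ k : ℕ, k ≤ n → ∀ r : Fin d → P,
      ∑ i, r i • b i ∈ II y (n - k) • (⊤ : Submodule P M) → ∀ i, r i ∈ II y (n - k) := by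
    intro k
    induction k with
    | zero =>
      intro _ r hr
      rw [Nat.sub_zero, II_n] at hr ⊢
      exact hindep r hr
    | succ k ih =>
      intro hk r hr
      obtain ⟨j, hjdef⟩ : ∃ j, j = n - (k + 1) := ⟨_, rfl⟩
      have hj : j < n := by omega
      have hj1 : n - k = j + 1 := by omega
      rw [← hjdef] at hr ⊢
      have ihj : ∀ r : Fin d → P,
          ∑ i, r i • b i ∈ II y (j + 1) • (⊤ : Submodule P M) → ∀ i, r i ∈ II y (j + 1) := by
        have := ih (by omega)
        rwa [hj1] at this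
      -- the sub-claim
      have hD : ∀ t : ℕ, ∀ r : Fin d → P, ∑ i, r i • b i ∈ II y j • (⊤ : Submodule P M) →
          ∀ i, r i ∈ II y j ⊔ Ideal.span {y ⟨j, hj⟩ ^ t} := by
        intro t
        induction t with
        | zero =>
          intro r _ i
          rw [pow_zero, Ideal.span_singleton_one, sup_top_eq]
          trivial
        | succ t iht =>
          intro r hr i
          have h1 : ∀ i, r i ∈ II y j ⊔ Ideal.span {y ⟨j, hj⟩} := by
            have := ihj r (Submodule.smul_mono_left (by rw [II_succ y j hj]; exact le_sup_left) hr)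
            intro i
            rw [← II_succ y j hj]
            exact this i
          have h2 : ∀ i, ∃ s ∈ II y j, ∃ a : P, s + a * y ⟨j, hj⟩ = r i := by
            intro i
            obtain ⟨s, hs, z, hz, hsz⟩ := Submodule.mem_sup.1 (h1 i)
            obtain ⟨a, rfl⟩ := Ideal.mem_span_singleton'.1 hz
            exact ⟨s, hs, a, hsz⟩
          choose s hs a hsa using h2
          have hsum : ∑ i, r i • b i = ∑ i, s i • b i + y ⟨j, hj⟩ • ∑ i, a i • b i := by
            rw [Finset.smul_sum, ← Finset.sum_add_distrib]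
            refine Finset.sum_congr rfl fun i _ => ?_
            rw [← hsa i, add_smul, smul_smul, mul_comm]
          have h3 : y ⟨j, hj⟩ • ∑ i, a i • b i ∈ II y j • (⊤ : Submodule P M) := by
            have : y ⟨j, hj⟩ • ∑ i, a i • b i = ∑ i, r i • b i - ∑ i, s i • b i := by
              rw [hsum]; abel
            rw [this]
            exact Submodule.sub_mem _ hr (lc_mem b _ s hs)
          have h4 := iht a (hreg j hj _ h3) i
          obtain ⟨s', hs', z, hz, hsz⟩ := Submodule.mem_sup.1 h4
          obtain ⟨a', rfl⟩ := Ideal.mem_span_singleton'.1 hz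
          rw [← hsa i, ← hsz]
          have : s i + (s' + a' * y ⟨j, hj⟩ ^ t) * y ⟨j, hj⟩ =
              (s i + s' * y ⟨j, hj⟩) + a' * y ⟨j, hj⟩ ^ (t + 1) := by ring
          rw [this]
          refine Submodule.add_mem_sup ((II y j).add_mem (hs i) (Ideal.mul_mem_right _ _ hs')) ?_
          exact Ideal.mem_span_singleton'.2 ⟨a', rfl⟩
      intro i
      exact mem_of_forall_mem_sup_span_pow (II y j) (y ⟨j, hj⟩) (hy _) (r i)
        (fun t => hD t r hr i)
  -- conclude
  have h0 := hC n le_rfl
  rw [Nat.sub_self, II_zero] at h0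
  let Φ : (Fin d → P) →ₗ[P] M := Fintype.linearCombination P b
  have hΦ : ∀ r, Φ r = ∑ i, r i • b i := fun r => Fintype.linearCombination_apply P b r
  have : (fun r : Fin d → P => ∑ i, r i • b i) = Φ := by ext r; exact (hΦ r).symm
  rw [this, ← LinearMap.ker_eq_bot, LinearMap.ker_eq_bot']
  intro r hr
  ext i
  have := h0 r (by rw [← hΦ, hr]; exact Submodule.zero_mem _) i
  simpa using this

omit [IsNoetherianRing P] [IsLocalRing P] in
theorem surjective_of_complete [IsPrecomplete (Ideal.span (Set.range y)) P]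
    [IsHausdorff (Ideal.span (Set.range y)) M]
    (hspan : ∀ m : M, ∃ r : Fin d → P,
      m - ∑ i, r i • b i ∈ Ideal.span (Set.range y) • (⊤ : Submodule P M)) :
    Function.Surjective (fun r : Fin d → P => ∑ i, r i • b i) := by
  let Φ : (Fin d → P) →ₗ[P] M := Fintype.linearCombination P b
  have hΦ : ∀ r, Φ r = ∑ i, r i • b i := fun r => Fintype.linearCombination_apply P b r
  have : (fun r : Fin d → P => ∑ i, r i • b i) = Φ := by ext r; exact (hΦ r).symm
  rw [this]
  haveI : IsPrecomplete (Ideal.span (Set.range y)) (Fin d → P) := isPrecomplete_pi _ d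
  apply surjective_of_mkQ_comp_surjective (I := Ideal.span (Set.range y))
  intro z
  obtain ⟨m, rfl⟩ := Submodule.mkQ_surjective _ z
  obtain ⟨r, hr⟩ := hspan m
  refine ⟨r, ?_⟩
  rw [LinearMap.comp_apply, hΦ]
  symm
  rw [Submodule.mkQ_apply, Submodule.mkQ_apply, Submodule.Quotient.eq]
  exact hr

end Helper19PsFree
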