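import Mathlib
import Groth.Agent.Lib.Helper19PsFreeC
import Groth.Agent.Lib.Helper19SopRegular

/-!
# Initial segments of a system of parameters of a regular local ring form a regular sequence
-/

set_option autoImplicit false
set_option linter.style.haveILetI false
universe u v

open IsLocalRing Module RingTheory.Sequence

namespace Helper19PsFree

section Regular

variable {A : Type u} [CommRing A] [IsRegularLocalRing A]

theorem ofList_take_ofFn {n : ℕ} (x : Fin n → A) (j : ℕ) :
    Ideal.ofList ((List.ofFn x).take j) = Ideal.span (x '' {l : Fin n | (l : ℕ) < j}) := by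
  unfold Ideal.ofList
  congr 1
  ext a
  simp only [Set.mem_ofPred_eq, List.mem_take_iff_getElem, List.length_ofFn, List.getElem_ofFn,
    Set.mem_image]
  constructor
  · rintro ⟨i, hi, rfl⟩
    have h1 : i < j := lt_of_lt_of_le hi (min_le_left _ _)
    have h2 : i < n := lt_of_lt_of_le hi (min_le_right _ _)
    exact ⟨⟨i, h2⟩, h1, rfl⟩
  · rintro ⟨l, hl, rfl⟩
    exact ⟨l, lt_min hl l.2, rfl⟩

theorem regular_initial (n : ℕ) (hn : ringKrullDim A = n) (x : Fin n → A)
    (hrad : (Ideal.span (Set.range x)).radical = maximalIdeal A)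
    (j : ℕ) (hj : j < n) (a : A)
    (ha : x ⟨j, hj⟩ * a ∈ Ideal.span (x '' {l : Fin n | (l : ℕ) < j})) :
    a ∈ Ideal.span (x '' {l : Fin n | (l : ℕ) < j}) := by
  have hNoeth : IsNoetherianRing A := inferInstance
  let xs : List A := List.ofFn x
  have hxs_ideal : Ideal.ofList xs = Ideal.span (Set.range x) :=
    Groth.Agent.Lib.Helper5.ofList_ofFn_eq_span_range x
  have hxs_len : xs.length = n := List.length_ofFn
  have hm : ∀ i, x i ∈ maximalIdeal A := by
    intro i
    rw [← hrad]
    exact Ideal.le_radical (Ideal.subset_span ⟨i, rfl⟩)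
  have hmem : ∀ y ∈ xs, y ∈ maximalIdeal A := by
    intro y hy
    obtain ⟨i, rfl⟩ := (List.mem_ofFn' x y).mp hy
    exact hm _
  have hCM : LocCoh.IsCohenMacaulayModule A A :=
    (Groth.Agent.Lib.Helper5.isCohenMacaulayLocalRing_of_isRegularLocalRing A).supportDim_eq_depth
  have hItop : Ideal.span (Set.range x) ≠ ⊤ := by
    intro h
    rw [h, Ideal.radical_top] at hrad
    exact (maximalIdeal.isMaximal A).ne_top hrad.symm
  have hdim0 : Module.supportDim A (A ⧸ (Ideal.ofList xs • (⊤ : Submodule A A))) = 0 := by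
    have h1 : (Ideal.ofList xs • (⊤ : Submodule A A)) = Ideal.span (Set.range x) := by
      rw [hxs_ideal]
      exact Ideal.mul_top _
    rw [Module.supportDim_eq_of_equiv (Submodule.quotEquivOfEq _ _ h1),
      Module.supportDim_quotient_eq_ringKrullDim]
    exact Groth.Agent.Lib.Helper19SopRegular.ringKrullDim_quotient_eq_zero _ hItop hrad.ge
  have hreg : IsWeaklyRegular A xs := by
    refine ((Groth.Agent.Lib.Helper5.isWeaklyRegular_iff_of_isCohenMacaulayModule xs A hCM hmem).1).mpr ?_
    rw [hdim0, Module.supportDim_self_eq_ringKrullDim, hn, hxs_len, zero_add]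
  rw [isWeaklyRegular_iff_Fin] at hreg
  have hlen : j < xs.length := by rw [hxs_len]; exact hj
  have h1 := hreg ⟨j, hlen⟩
  have hget : xs[j] = x ⟨j, hj⟩ := List.getElem_ofFn _
  simp only [Fin.getElem_fin] at h1
  rw [hget] at h1
  have hJ : (Ideal.ofList (xs.take j) • (⊤ : Submodule A A)) =
      Ideal.span (x '' {l : Fin n | (l : ℕ) < j}) := by
    rw [ofList_take_ofFn]; exact Ideal.mul_top _
  have h2 : (Submodule.Quotient.mk a : A ⧸ (Ideal.ofList (xs.take j) • (⊤ : Submodule A A))) = 0 := by
    apply h1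
    simp only [smul_zero]
    rw [← Submodule.Quotient.mk_smul, Submodule.Quotient.mk_eq_zero, hJ]
    exact ha
  rw [Submodule.Quotient.mk_eq_zero, hJ] at h2
  exact h2

end Regular

end Helper19PsFree
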