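import Mathlib
import Groth.Agent.Lib.Helper19PsFreeA
import Groth.Agent.Lib.Helper19PsFreeD
import Groth.Agent.Lib.Helper19PsDim
import Groth.Agent.Lib.Helper19CohenPresA

/-!
# A complete regular local ring is finite free over the power series ring on a system of parameters
-/

set_option autoImplicit false
set_option linter.style.haveILetI false
universe u v

open IsLocalRing Module

namespace Helper19PsFree

section Main

variable (A : Type u) [CommRing A] [IsRegularLocalRing A]
  [IsAdicComplete (IsLocalRing.maximalIdeal A) A] (n : ℕ) (hn : ringKrullDim A = n)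
  (k : Type v) [Field k] [Algebra k A]
  (hk : Function.Surjective (IsLocalRing.residue A ∘ algebraMap k A))
  (x : Fin n → A) (hx : (Ideal.span (Set.range x)).radical = IsLocalRing.maximalIdeal A)
  (φ : MvPowerSeries (Fin n) k →ₐ[k] A) (hφ : ∀ i, φ (MvPowerSeries.X i) = x i)

include hx in
theorem isFiniteLength_quotient : IsFiniteLength A (A ⧸ Ideal.span (Set.range x)) := by
  have hNoeth : IsNoetherianRing A := inferInstance
  have hItop : Ideal.span (Set.range x) ≠ ⊤ := by
    intro h
    rw [h, Ideal.radical_top] at hx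
    exact (maximalIdeal.isMaximal A).ne_top hx.symm
  have hdim : ringKrullDim (A ⧸ Ideal.span (Set.range x)) = 0 :=
    Groth.Agent.Lib.Helper19SopRegular.ringKrullDim_quotient_eq_zero _ hItop hx.ge
  haveI : Nontrivial (A ⧸ Ideal.span (Set.range x)) := Ideal.Quotient.nontrivial_iff.mpr hItop
  haveI : Ring.KrullDimLE 0 (A ⧸ Ideal.span (Set.range x)) :=
    (ringKrullDimZero_iff_ringKrullDim_eq_zero).2 hdim
  haveI : IsArtinianRing (A ⧸ Ideal.span (Set.range x)) :=
    IsNoetherianRing.isArtinianRing_of_krullDimLE_zero
  haveI : IsArtinian A (A ⧸ Ideal.span (Set.range x)) :=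
    isArtinian_of_surjective_algebraMap (R := A ⧸ Ideal.span (Set.range x))
      (Ideal.Quotient.mk_surjective)
  rw [isFiniteLength_iff_isNoetherian_isArtinian]
  exact ⟨inferInstance, inferInstance⟩

local notation "PP" => MvPowerSeries (Fin n) k

include hn hk hx hφ in
theorem main :
    ∃ (d : ℕ) (b : Fin d → A), (d : ℕ∞) = Module.length A (A ⧸ Ideal.span (Set.range x)) ∧
      Function.Bijective (fun r : Fin d → MvPowerSeries (Fin n) k => ∑ i, φ (r i) * b i) := by
  classical
  have hNoeth : IsNoetherianRing A := inferInstance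
  have hItop : Ideal.span (Set.range x) ≠ ⊤ := by
    intro h
    rw [h, Ideal.radical_top] at hx
    exact (maximalIdeal.isMaximal A).ne_top hx.symm
  letI algPA : Algebra PP A := φ.toRingHom.toAlgebra
  have hsmul : ∀ (r : PP) (a : A), r • a = φ r * a := fun r a => rfl
  have halg : ∀ r : PP, algebraMap PP A r = φ r := fun r => rfl
  let y : Fin n → PP := MvPowerSeries.X
  have hyx : (algebraMap PP A ∘ y) = x := funext hφ
  have hφC : ∀ c : k, φ (MvPowerSeries.C c) = algebraMap k A c := by
    intro c
    have := φ.commutes c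
    rwa [MvPowerSeries.algebraMap_apply, Algebra.algebraMap_self, RingHom.id_apply] at this
  -- ideal identification
  have hid : ∀ S : Set (Fin n), ∀ a : A,
      a ∈ Ideal.span (y '' S) • (⊤ : Submodule PP A) ↔ a ∈ Ideal.span (x '' S) := by
    intro S a
    rw [Ideal.smul_top_eq_map, Submodule.restrictScalars_mem, Ideal.map_span, Set.image_image]
    have : (fun l => algebraMap PP A (y l)) = x := funext hφ
    rw [this]
  have hidr : ∀ a : A,
      a ∈ Ideal.span (Set.range y) • (⊤ : Submodule PP A) ↔ a ∈ Ideal.span (Set.range x) := by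
    intro a
    have := hid Set.univ a
    rwa [Set.image_univ, Set.image_univ] at this
  have hmax : Ideal.span (Set.range y) = maximalIdeal PP :=
    (Groth.Agent.Lib.Helper19.maximalIdeal_mvPowerSeries_eq k n).symm
  have key : ∀ g : PP, MvPowerSeries.constantCoeff g = 0 → g ∈ maximalIdeal PP := by
    intro g hg
    rw [mem_maximalIdeal, mem_nonunits_iff, MvPowerSeries.isUnit_iff_constantCoeff, hg]
    exact not_isUnit_zero
  -- the quotient
  have hV : IsFiniteLength A (A ⧸ Ideal.span (Set.range x)) := isFiniteLength_quotient A n x hx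
  have hlen : Module.length k (A ⧸ Ideal.span (Set.range x)) =
      Module.length A (A ⧸ Ideal.span (Set.range x)) :=
    length_eq_length hk (A ⧸ Ideal.span (Set.range x)) hV
  have hVk : IsFiniteLength k (A ⧸ Ideal.span (Set.range x)) := by
    rw [← Module.length_ne_top_iff, hlen, Module.length_ne_top_iff]; exact hV
  haveI : Module.Finite k (A ⧸ Ideal.span (Set.range x)) := by
    rw [isFiniteLength_iff_isNoetherian_isArtinian] at hVk
    haveI := hVk.1
    infer_instance
  let bV : Basis (Fin (Module.finrank k (A ⧸ Ideal.span (Set.range x)))) k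
      (A ⧸ Ideal.span (Set.range x)) := Module.finBasis k (A ⧸ Ideal.span (Set.range x))
  have hb : ∀ i, ∃ a : A, Ideal.Quotient.mk (Ideal.span (Set.range x)) a = bV i :=
    fun i => Ideal.Quotient.mk_surjective _
  choose b hb using hb
  have hmksmul : ∀ (c : k) (a : A), Ideal.Quotient.mk (Ideal.span (Set.range x))
      (algebraMap k A c * a) = c • Ideal.Quotient.mk (Ideal.span (Set.range x)) a := by
    intro c a
    rw [← Algebra.smul_def]
    rfl
  refine ⟨Module.finrank k (A ⧸ Ideal.span (Set.range x)), b, ?_, ?_⟩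
  · rw [← hlen, Module.length_eq_finrank]
  have hfun : (fun r : Fin (Module.finrank k (A ⧸ Ideal.span (Set.range x))) → PP =>
      ∑ i, φ (r i) * b i) = (fun r => ∑ i, r i • b i) := rfl
  rw [hfun]
  haveI hPre : IsPrecomplete (Ideal.span (Set.range y)) PP := by
    haveI := Groth.Agent.Lib.Helper19.isAdicComplete_field (k := k)
    have h := Groth.Agent.Lib.Helper19.isAdicComplete_mvPowerSeries (Λ := k) (σ := Fin n)
    rw [Groth.Agent.Lib.Helper19.maximalIdeal_mvPowerSeries_eq] at h
    exact h.toIsPrecomplete
  haveI hHaus : IsHausdorff (Ideal.span (Set.range y)) A := by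
    refine ⟨fun a ha => ?_⟩
    have h1 : ∀ t : ℕ, a ∈ Ideal.span (Set.range x) ^ t := by
      intro t
      have h2 := ha t
      rw [SModEq.zero] at h2
      rw [Ideal.smul_top_eq_map, Submodule.restrictScalars_mem, Ideal.map_pow, Ideal.map_span,
        ← Set.range_comp, hyx] at h2
      exact h2
    have h4 := Ideal.iInf_pow_eq_bot_of_isLocalRing (Ideal.span (Set.range x)) hItop
    have : a ∈ (⨅ t, Ideal.span (Set.range x) ^ t) := (Submodule.mem_iInf _).2 h1
    rw [h4] at this
    exact this
  have hy : ∀ i, y i ∈ maximalIdeal PP := by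
    intro i
    rw [← hmax]
    exact Ideal.subset_span ⟨i, rfl⟩
  have hreg : ∀ (j : ℕ) (hj : j < n) (m : A),
      y ⟨j, hj⟩ • m ∈ II y j • (⊤ : Submodule PP A) → m ∈ II y j • (⊤ : Submodule PP A) := by
    intro j hj m hm
    unfold II at hm ⊢
    rw [hid] at hm ⊢
    rw [hsmul, hφ] at hm
    exact regular_initial n hn x hx j hj m hm
  have hindep : ∀ r : Fin (Module.finrank k (A ⧸ Ideal.span (Set.range x))) → PP,
      ∑ i, r i • b i ∈ Ideal.span (Set.range y) • (⊤ : Submodule PP A) →
      ∀ i, r i ∈ Ideal.span (Set.range y) := by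
    intro r hr
    rw [hidr] at hr
    have hφI : ∀ g : PP, g ∈ maximalIdeal PP → φ g ∈ Ideal.span (Set.range x) := by
      intro g hg
      rw [← hmax] at hg
      have := Ideal.mem_map_of_mem (algebraMap PP A) hg
      rw [Ideal.map_span, ← Set.range_comp, hyx] at this
      exact this
    have hc : ∀ i, r i - MvPowerSeries.C (MvPowerSeries.constantCoeff (r i)) ∈ maximalIdeal PP := by
      intro i
      apply key
      rw [map_sub, MvPowerSeries.constantCoeff_C, sub_self]
    have h3 : ∑ i, (MvPowerSeries.constantCoeff (r i)) • bV i = 0 := by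
      have h4 : ∑ i, algebraMap k A (MvPowerSeries.constantCoeff (r i)) * b i ∈
          Ideal.span (Set.range x) := by
        have : ∑ i, algebraMap k A (MvPowerSeries.constantCoeff (r i)) * b i =
            ∑ i, r i • b i -
              ∑ i, φ (r i - MvPowerSeries.C (MvPowerSeries.constantCoeff (r i))) * b i := by
          rw [← Finset.sum_sub_distrib]
          refine Finset.sum_congr rfl fun i _ => ?_
          rw [hsmul, map_sub, hφC]; ring
        rw [this]
        exact Ideal.sub_mem _ hr (Ideal.sum_mem _ fun i _ => Ideal.mul_mem_right _ _ (hφI _ (hc i)))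
      have h5 := (Ideal.Quotient.eq_zero_iff_mem).2 h4
      rw [map_sum] at h5
      rw [← h5]
      refine Finset.sum_congr rfl fun i _ => ?_
      rw [hmksmul, hb i]
    have h5 := Fintype.linearIndependent_iff.1 bV.linearIndependent _ h3
    intro i
    rw [hmax]
    exact key _ (h5 i)
  have hspan : ∀ m : A, ∃ r : Fin (Module.finrank k (A ⧸ Ideal.span (Set.range x))) → PP,
      m - ∑ i, r i • b i ∈ Ideal.span (Set.range y) • (⊤ : Submodule PP A) := by
    intro m
    refine ⟨fun i => MvPowerSeries.C
      (bV.repr (Ideal.Quotient.mk (Ideal.span (Set.range x)) m) i), ?_⟩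
    rw [hidr, ← Ideal.Quotient.eq_zero_iff_mem, map_sub, map_sum, sub_eq_zero]
    conv_lhs => rw [← bV.sum_repr (Ideal.Quotient.mk (Ideal.span (Set.range x)) m)]
    refine Finset.sum_congr rfl fun i _ => ?_
    rw [hsmul, hφC, hmksmul, hb i]
  exact ⟨injective_of_regular y b hy hreg hindep, surjective_of_complete y b hspan⟩

end Main

end Helper19PsFree
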