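import Groth.Agent.Lib.Helper19PsIso
import Groth.Agent.Lib.Helper19FormalBij

set_option autoImplicit false
universe u v w

open CategoryTheory ArtFun ArtFun.Art

namespace Groth.Agent.Lib.Helper19

section PsHull

variable {Λ : Type u} {k : Type u} [CommRing Λ] [Field k] [Algebra Λ k]

/-- A functor with a miniversal family has `F(k)` a point. -/
theorem h0_of_isMiniversal {R : Type u} [CommRing R] [Algebra Λ R] {resR : R →ₐ[Λ] k}
    {F : Art Λ k ⥤ Type v} (η : Family R resR F) (hη : IsMiniversal η) : H0 F := by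
  apply h0_of_surjective η
  intro x
  obtain ⟨t, ht⟩ := hη.2.2 (F.map baseToDual x)
  refine ⟨HomSet.map (toBase _) t, ?_⟩
  rw [η.natural, ht, ← map_comp_apply']
  have : baseToDual ≫ toBase (dual Λ k) = 𝟙 (base Λ k) := (eq_toBase _).trans (eq_toBase _).symm
  rw [this, map_id_apply']

variable [IsLocalRing Λ] [IsNoetherianRing Λ] [IsAdicComplete (IsLocalRing.maximalIdeal Λ) Λ]
  (hk : Function.Surjective (algebraMap Λ k))

include hk in
/-- A family over a power series ring which is bijective on tangent spaces is miniversal, when a hull exists. -/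
theorem isMiniversal_of_hasHull_of_powerSeries [Module.Finite Λ k] {F : Art Λ k ⥤ Type v}
    (hF : HasHull F) (R : CRing Λ k) (n : ℕ) (e : R.carrier ≃ₐ[Λ] MvPowerSeries (Fin n) Λ)
    (ξ : Family R.carrier R.res F) (hξ : Function.Bijective (TangentSpace.ofFamily ξ)) :
    IsMiniversal ξ := by
  obtain ⟨⟨H, η, hηv, hηb⟩⟩ := hF
  have h0 : H0 F := h0_of_isMiniversal η ⟨hηv, hηb⟩
  have hsm : IsSmoothFunctor (hR R.carrier R.res) :=
    (isSmoothFunctor_hR_iff_powerSeries hk R).2 ⟨n, ⟨e⟩⟩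
  obtain ⟨u, hu, huξ⟩ := exists_along_toFormalElt_eq h0 H η hηv R ξ.toFormalElt
  have hfam : η.along u hu = ξ := toFormalElt_injective R huξ
  let ζ : Family R.carrier R.res (hR H.carrier H.res) := (Family.self _ _).along u hu
  have hηζ : ∀ (A : Art Λ k) (φ : HomSet R.carrier R.res A), η.app A (ζ.app A φ) = ξ.app A φ := by
    intro A φ
    rw [← hfam]
    rfl
  have hζs : Function.Surjective (ζ.app (dual Λ k)) := by
    intro t
    obtain ⟨t', ht'⟩ := hξ.2 (η.app _ t)
    refine ⟨t', ?_⟩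
    apply hηb.1
    rw [hηζ]
    exact ht'
  have hFl : IsLeftExact (hR H.carrier H.res) := isLeftExact_hR _ _
  have hζv : IsVersal ζ := by
    rw [isVersal_iff_tangent_surjective_and_exists_lift (h0_hR _ _)
      (fun B A A' A'' p' p'' f' f'' h _ => (hFl p' p'' f' f'' h).2)
      (fun B A' p' p'' h => hFl p' p'' _ _ h)]
    exact ⟨hζs, fun B A μ hμ φ y _ => hsm μ hμ.1 φ⟩
  refine ⟨?_, hξ⟩
  intro B A μ hμ φ y hy
  rw [← hηζ] at hy
  obtain ⟨χ, hχ1, hχ2⟩ := hηv μ hμ (ζ.app A φ) y hy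
  obtain ⟨ψ, hψ1, hψ2⟩ := hζv μ hμ φ χ hχ1
  refine ⟨ψ, hψ1, ?_⟩
  rw [← hηζ, hψ2, hχ2]

end PsHull

end Groth.Agent.Lib.Helper19
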