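import Groth.Agent.Lib.Helper19PsLiftComplete

/-!
# Rings complete along a nonzerodivisor with a coefficient ring are power series rings (helper19)
-/

set_option autoImplicit false
universe u v

namespace Groth.Agent.Lib.Helper19

open PowerSeries

/-- Let `A` be a `B`-algebra, complete along the nonzerodivisor `x`, such that `B → A ⧸ (x)` is
bijective. Then `B[[T]] → A`, `T ↦ x`, is a bijective `B`-algebra map. -/
theorem exists_powerSeries_algHom_bijective (B : Type u) (A : Type v) [CommRing B]
    [CommRing A] [Algebra B A] (x : A) (hx : x ∈ nonZeroDivisors A)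
    [IsAdicComplete (Ideal.span {x}) A]
    (hB : Function.Bijective ((Ideal.Quotient.mk (Ideal.span {x})).comp (algebraMap B A))) :
    ∃ φ : PowerSeries B →ₐ[B] A, φ PowerSeries.X = x ∧ Function.Bijective φ := by
  classical
  set I : Ideal A := Ideal.span {x} with hI
  obtain ⟨φ, hφ⟩ := exists_algHom_X_eq_of_isAdicComplete (Λ := B) (σ := Unit) I
    (fun _ => x) (fun _ => Ideal.mem_span_singleton_self x)
  have hφX : φ (PowerSeries.X : PowerSeries B) = x := hφ ()
  have hφC : ∀ b : B, φ (PowerSeries.C b) = algebraMap B A b := fun b => φ.commutes b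
  have hconst : ∀ f : PowerSeries B,
      Ideal.Quotient.mk I (φ f) = Ideal.Quotient.mk I (algebraMap B A (PowerSeries.constantCoeff f)) := by
    intro f
    conv_lhs => rw [PowerSeries.eq_shift_mul_X_add_const f]
    rw [map_add, map_mul, hφX, hφC, map_add, map_mul]
    have : Ideal.Quotient.mk I x = 0 :=
      Ideal.Quotient.eq_zero_iff_mem.mpr (Ideal.mem_span_singleton_self x)
    rw [this, mul_zero, zero_add]
  have hconst0 : ∀ f : PowerSeries B, φ f = 0 → PowerSeries.constantCoeff f = 0 := by
    intro f hf
    apply hB.1
    rw [RingHom.comp_apply, ← hconst f, hf, map_zero, map_zero]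
  have hinj : Function.Injective φ := by
    rw [injective_iff_map_eq_zero]
    have key : ∀ (n : ℕ) (f : PowerSeries B), φ f = 0 → PowerSeries.coeff n f = 0 := by
      intro n
      induction n with
      | zero =>
        intro f hf
        rw [PowerSeries.coeff_zero_eq_constantCoeff_apply, hconst0 f hf]
      | succ n ih =>
        intro f hf
        have h0 : PowerSeries.constantCoeff f = 0 := hconst0 f hf
        have hdec := PowerSeries.eq_shift_mul_X_add_const f
        rw [h0, map_zero, add_zero] at hdec
        have hg : φ (PowerSeries.mk fun p => PowerSeries.coeff (p + 1) f) = 0 := by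
          have : φ (PowerSeries.mk fun p => PowerSeries.coeff (p + 1) f) * x = 0 := by
            rw [← hφX, ← map_mul, ← hdec, hf]
          exact (mem_nonZeroDivisors_iff_right.mp hx) _ this
        have := ih _ hg
        rwa [PowerSeries.coeff_mk] at this
    intro f hf
    ext n
    rw [key n f hf, map_zero]
  have hsurj : Function.Surjective φ := by
    have hmap : (Ideal.span {(PowerSeries.X : PowerSeries B)}).map φ.toRingHom = I := by
      rw [Ideal.map_span, Set.image_singleton]
      change Ideal.span {φ PowerSeries.X} = I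
      rw [hφX]
    haveI : IsHausdorff ((Ideal.span {(PowerSeries.X : PowerSeries B)}).map φ.toRingHom) A := by
      rw [hmap]; infer_instance
    apply surjective_of_mk_map_comp_surjective
      (I := Ideal.span {(PowerSeries.X : PowerSeries B)}) φ.toRingHom
    rw [hmap]
    intro y
    obtain ⟨b, hb⟩ := hB.2 y
    refine ⟨PowerSeries.C b, ?_⟩
    change Ideal.Quotient.mk I (φ (PowerSeries.C b)) = y
    rw [hφC]
    exact hb
  exact ⟨φ, hφX, hinj, hsurj⟩

/-- Truncation estimate for a `B`-algebra map out of a power series ring. -/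
theorem algHom_sub_trunc_mem {B : Type u} {A : Type v} [CommRing B] [CommRing A] [Algebra B A]
    (φ : PowerSeries B →ₐ[B] A) (n : ℕ) (f : PowerSeries B) :
    φ f - (Finset.range n).sum (fun i => algebraMap B A (PowerSeries.coeff i f) *
      φ PowerSeries.X ^ i) ∈ Ideal.span {φ PowerSeries.X} ^ n := by
  classical
  induction n generalizing f with
  | zero => simp
  | succ n ih =>
    set g : PowerSeries B := PowerSeries.mk fun p => PowerSeries.coeff (p + 1) f with hg
    have hdec := PowerSeries.eq_shift_mul_X_add_const f
    have hφC : ∀ b : B, φ (PowerSeries.C b) = algebraMap B A b := fun b => φ.commutes b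
    have e1 : φ f = φ g * φ PowerSeries.X + algebraMap B A (PowerSeries.coeff 0 f) := by
      conv_lhs => rw [hdec]
      rw [map_add, map_mul, hφC, PowerSeries.coeff_zero_eq_constantCoeff_apply]
    have e2 : (Finset.range (n + 1)).sum (fun i => algebraMap B A (PowerSeries.coeff i f) *
        φ PowerSeries.X ^ i) =
        φ PowerSeries.X * (Finset.range n).sum (fun i => algebraMap B A (PowerSeries.coeff i g) *
          φ PowerSeries.X ^ i) + algebraMap B A (PowerSeries.coeff 0 f) := by
      rw [Finset.sum_range_succ', pow_zero, mul_one, Finset.mul_sum]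
      congr 1
      refine Finset.sum_congr rfl fun i _ => ?_
      rw [hg, PowerSeries.coeff_mk, pow_succ]
      ring
    have e3 : φ f - (Finset.range (n + 1)).sum (fun i => algebraMap B A (PowerSeries.coeff i f) *
        φ PowerSeries.X ^ i) =
        φ PowerSeries.X * (φ g - (Finset.range n).sum (fun i =>
          algebraMap B A (PowerSeries.coeff i g) * φ PowerSeries.X ^ i)) := by
      rw [e1, e2]; ring
    rw [e3, pow_succ']
    exact Ideal.mul_mem_mul (Ideal.mem_span_singleton_self _) (ih g)

end Groth.Agent.Lib.Helper19

namespace Groth.Agent.Lib.Helper19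

open IsLocalRing

/-- A complete DVR with a coefficient field `K` and uniformizer `x` is `K[[X]]`. -/
theorem exists_powerSeries_algHom_of_dvr (K : Type u) (A : Type v) [Field K]
    [CommRing A] [IsDomain A] [IsDiscreteValuationRing A] [Algebra K A]
    [IsAdicComplete (maximalIdeal A) A]
    (hK : Function.Bijective ((residue A).comp (algebraMap K A)))
    (x : A) (hx : maximalIdeal A = Ideal.span {x}) :
    ∃ φ : PowerSeries K →ₐ[K] A, φ PowerSeries.X = x ∧ Function.Bijective φ ∧
      ∀ (f : PowerSeries K) (n : ℕ),
        φ f - (Finset.range n).sum (fun i => algebraMap K A (PowerSeries.coeff i f) * x ^ i) ∈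
          maximalIdeal A ^ n := by
  have hx0 : x ≠ 0 := by
    rintro rfl
    apply IsDiscreteValuationRing.not_a_field A
    rw [hx]
    simp
  have hxnzd : x ∈ nonZeroDivisors A := mem_nonZeroDivisors_of_ne_zero hx0
  haveI : IsAdicComplete (Ideal.span {x}) A := hx ▸ (inferInstance : IsAdicComplete (maximalIdeal A) A)
  have hB : Function.Bijective ((Ideal.Quotient.mk (Ideal.span {x})).comp (algebraMap K A)) := by
    constructor
    · intro a b hab
      apply hK.1
      simp only [RingHom.comp_apply] at hab ⊢
      rw [Ideal.Quotient.eq, ← hx] at hab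
      exact (Ideal.Quotient.eq).mpr hab
    · intro y
      obtain ⟨y₀, rfl⟩ := Ideal.Quotient.mk_surjective y
      obtain ⟨a, ha⟩ := hK.2 (residue A y₀)
      refine ⟨a, ?_⟩
      simp only [RingHom.comp_apply] at ha ⊢
      rw [Ideal.Quotient.eq, ← hx]
      exact (Ideal.Quotient.eq).mp ha
  obtain ⟨φ, hφX, hφ⟩ := exists_powerSeries_algHom_bijective K A x hxnzd hB
  refine ⟨φ, hφX, hφ, fun f n => ?_⟩
  have := algHom_sub_trunc_mem φ n f
  rw [hφX, ← hx] at this
  exact this

theorem exists_powerSeries_algEquiv_of_dvr (K : Type u) (A : Type v) [Field K]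
    [CommRing A] [IsDomain A] [IsDiscreteValuationRing A]
    [IsAdicComplete (IsLocalRing.maximalIdeal A) A]
    [Algebra K A] (hK : Function.Bijective (algebraMap K (IsLocalRing.ResidueField A)))
    (x : A) (hx : IsLocalRing.maximalIdeal A = Ideal.span {x}) :
    ∃ e : PowerSeries K ≃ₐ[K] A, e PowerSeries.X = x := by
  have hK' : Function.Bijective ((residue A).comp (algebraMap K A)) := hK
  obtain ⟨φ, hφX, hφ, -⟩ := exists_powerSeries_algHom_of_dvr K A hK' x hx
  exact ⟨AlgEquiv.ofBijective φ hφ, hφX⟩

end Groth.Agent.Lib.Helper19
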