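import Groth.Agent.Lib.Helper19PsLiftComplete

/-!
# `A` complete along a nonzerodivisor `x` with `A/x` formally smooth is `(A/x)[[T]]` (helper19)
-/

set_option autoImplicit false
universe u

namespace Groth.Agent.Lib.Helper19

open PowerSeries

theorem exists_powerSeries_algEquiv_of_formallySmooth_quotient (k A : Type u) [CommRing k]
    [CommRing A] [Algebra k A] (x : A) (hx : x ∈ nonZeroDivisors A)
    [IsAdicComplete (Ideal.span {x}) A] [Algebra.FormallySmooth k (A ⧸ Ideal.span {x})] :
    ∃ e : PowerSeries (A ⧸ Ideal.span {x}) ≃ₐ[k] A,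
      e PowerSeries.X = x ∧
      ∀ f : PowerSeries (A ⧸ Ideal.span {x}),
        Ideal.Quotient.mk (Ideal.span {x}) (e f) = PowerSeries.constantCoeff f := by
  classical
  set I : Ideal A := Ideal.span {x} with hI
  obtain ⟨s, hs⟩ := Algebra.FormallySmooth.exists_mkₐ_comp_eq_of_isAdicComplete
    (R := k) (A := A ⧸ I) (S := A) (I := I) (AlgHom.id k (A ⧸ I))
  have hs' : ∀ b : A ⧸ I, Ideal.Quotient.mk I (s b) = b := fun b => AlgHom.congr_fun hs b
  letI algBA : Algebra (A ⧸ I) A := s.toRingHom.toAlgebra
  haveI : IsScalarTower k (A ⧸ I) A := IsScalarTower.of_algebraMap_eq fun r => by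
    change algebraMap k A r = s (algebraMap k (A ⧸ I) r)
    rw [s.commutes]
  obtain ⟨φ, hφ⟩ := exists_algHom_X_eq_of_isAdicComplete (Λ := A ⧸ I) (σ := Unit) I
    (fun _ => x) (fun _ => Ideal.mem_span_singleton_self x)
  have hφX : φ (PowerSeries.X : PowerSeries (A ⧸ I)) = x := hφ ()
  have hφC : ∀ b : A ⧸ I, φ (PowerSeries.C b) = s b := fun b => by
    have := φ.commutes b
    exact this
  -- reduction modulo x is the constant coefficient
  have hconst : ∀ f : PowerSeries (A ⧸ I),
      Ideal.Quotient.mk I (φ f) = PowerSeries.constantCoeff f := by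
    intro f
    conv_lhs => rw [PowerSeries.eq_shift_mul_X_add_const f]
    rw [map_add, map_mul, hφX, hφC, map_add, map_mul, hs']
    have : Ideal.Quotient.mk I x = 0 :=
      Ideal.Quotient.eq_zero_iff_mem.mpr (Ideal.mem_span_singleton_self x)
    rw [this, mul_zero, zero_add]
  -- injectivity
  have hinj : Function.Injective φ := by
    rw [injective_iff_map_eq_zero]
    have key : ∀ (n : ℕ) (f : PowerSeries (A ⧸ I)), φ f = 0 → PowerSeries.coeff n f = 0 := by
      intro n
      induction n with
      | zero =>
        intro f hf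
        rw [PowerSeries.coeff_zero_eq_constantCoeff_apply, ← hconst f, hf, map_zero]
      | succ n ih =>
        intro f hf
        have h0 : PowerSeries.constantCoeff f = 0 := by rw [← hconst f, hf, map_zero]
        have hdec := PowerSeries.eq_shift_mul_X_add_const f
        rw [h0, map_zero, add_zero] at hdec
        have hg : φ (PowerSeries.mk fun p => PowerSeries.coeff (p + 1) f) = 0 := by
          have : φ (PowerSeries.mk fun p => PowerSeries.coeff (p + 1) f) * x = 0 := by
            rw [← hφX, ← map_mul, ← hdec, hf]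
          exact (mem_nonZeroDivisors_iff_right.mp hx) _ this
        have := ih _ hg
        rwa [PowerSeries.coeff_mk] at this
    intro f hf
    ext n
    rw [key n f hf, map_zero]
  -- surjectivity
  have hsurj : Function.Surjective φ := by
    have hmap : (Ideal.span {(PowerSeries.X : PowerSeries (A ⧸ I))}).map φ.toRingHom = I := by
      rw [Ideal.map_span, Set.image_singleton]
      change Ideal.span {φ PowerSeries.X} = I
      rw [hφX]
    haveI : IsHausdorff ((Ideal.span {(PowerSeries.X : PowerSeries (A ⧸ I))}).map φ.toRingHom) A := by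
      rw [hmap]; infer_instance
    apply surjective_of_mk_map_comp_surjective
      (I := Ideal.span {(PowerSeries.X : PowerSeries (A ⧸ I))}) φ.toRingHom
    rw [hmap]
    intro b
    refine ⟨PowerSeries.C b, ?_⟩
    change Ideal.Quotient.mk I (φ (PowerSeries.C b)) = b
    rw [hφC, hs']
  let φk : PowerSeries (A ⧸ I) →ₐ[k] A := φ.restrictScalars k
  refine ⟨AlgEquiv.ofBijective φk ⟨hinj, hsurj⟩, hφX, hconst⟩

end Groth.Agent.Lib.Helper19
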