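import Mathlib

/-!
# Spectral spaces: patch compactness consequences, chain bounds

(helper19) Topological input for Scheiderer's theorem (S0469/S0470).
-/

set_option autoImplicit false
universe u
open TopologicalSpace Topology

namespace Groth.Agent.Lib.Helper19Spec

section Patch
variable {X : Type u} [TopologicalSpace X]

/-- the constructible topology of a spectral space is compact (un-bundled from the type synonym). -/
lemma patch_compact [CompactSpace X] [QuasiSober X] [PrespectralSpace X] [QuasiSeparatedSpace X] :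
    @CompactSpace X (constructibleTopology X) := by
  have h : CompactSpace (WithConstructibleTopology X) := inferInstance
  exact @Function.Surjective.compactSpace (WithConstructibleTopology X) X _ (constructibleTopology X)
    WithTopology.ofTopology (WithTopology.continuous_ofTopology _) h (WithTopology.ofTopology_surjective _)

lemma patch_isClosed_of_qc {s : Set X} (ho : IsOpen s) (hc : IsCompact s) :
    IsClosed[constructibleTopology X] s := by
  have h : IsOpen[constructibleTopology X] sᶜ :=
    IsCompact.isOpen_constructibleTopology_of_isClosed (by rwa [compl_compl]) ho.isClosed_compl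
  exact (@isOpen_compl_iff X s (constructibleTopology X)).1 h

lemma patch_isClosed_of_isClosed [PrespectralSpace X] {s : Set X} (hs : IsClosed s) :
    IsClosed[constructibleTopology X] s := by
  rw [← @isOpen_compl_iff X s (constructibleTopology X)]
  obtain ⟨B, hB, hBu⟩ := PrespectralSpace.isTopologicalBasis.open_eq_sUnion hs.isOpen_compl
  rw [hBu]
  exact @isOpen_sUnion X (constructibleTopology X) B
    (fun t ht => (hB ht).2.isOpen_constructibleTopology_of_isOpen (hB ht).1)

/-- **Patch compactness**: a family of quasi-compact opens, closed under finite intersections, whose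
total intersection misses a closed set, has a member missing that closed set. -/
theorem exists_disjoint_of_iInter [CompactSpace X] [QuasiSober X] [PrespectralSpace X]
    [QuasiSeparatedSpace X] (S : Set (Opens X)) (hne : S.Nonempty)
    (hqc : ∀ V ∈ S, IsCompact (V : Set X)) (hinf : ∀ V ∈ S, ∀ W ∈ S, V ⊓ W ∈ S)
    (C : Set X) (hC : IsClosed C) (h : ∀ x, (∀ V ∈ S, x ∈ V) → x ∉ C) :
    ∃ V ∈ S, ∀ x, x ∈ V → x ∉ C := by
  have : Nonempty S := hne.to_subtype
  have hcpt := patch_compact (X := X)
  have key := @IsCompact.elim_directed_family_closed X (constructibleTopology X) Set.univ S _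
    (@isCompact_univ X (constructibleTopology X) hcpt) (fun V => ((V : Opens X) : Set X) ∩ C)
    (fun V => @IsClosed.inter X ((V : Opens X) : Set X) C (constructibleTopology X)
      (patch_isClosed_of_qc (V : Opens X).isOpen (hqc _ V.2)) (patch_isClosed_of_isClosed hC))
    (by
      rw [Set.univ_inter, Set.eq_empty_iff_forall_notMem]
      intro x hx
      rw [Set.mem_iInter] at hx
      exact h x (fun V hV => (hx ⟨V, hV⟩).1) (hx (Classical.arbitrary _)).2)
    (by
      intro V W
      refine ⟨⟨(V : Opens X) ⊓ (W : Opens X), hinf _ V.2 _ W.2⟩, ?_, ?_⟩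
      · intro x hx
        exact ⟨hx.1.1, hx.2⟩
      · intro x hx
        exact ⟨hx.1.2, hx.2⟩)
  obtain ⟨V, hV⟩ := key
  refine ⟨V, V.2, fun x hx hxC => ?_⟩
  rw [Set.univ_inter, Set.eq_empty_iff_forall_notMem] at hV
  exact hV x ⟨hx, hxC⟩

end Patch

section CB
variable {X : Type u} [TopologicalSpace X]

/-- `CB D T`: every strict specialization chain of points of `T` has at most `D` members. -/
def CB : ℕ → Set X → Prop
  | 0, T => ∀ x, x ∉ T
  | (D + 1), T => ∀ e ∈ T, CB D {x | x ∈ T ∧ x ⤳ e ∧ x ≠ e}

lemma cb_mono (D : ℕ) : ∀ {T T' : Set X}, T' ⊆ T → CB D T → CB D T' := by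
  induction D with
  | zero => exact fun h hT x hx => hT x (h hx)
  | succ D ih =>
    intro T T' h hT e he
    exact ih (fun x (hx : x ∈ T' ∧ x ⤳ e ∧ x ≠ e) => (⟨h hx.1, hx.2⟩ : x ∈ T ∧ x ⤳ e ∧ x ≠ e))
      (hT e (h he))

lemma cb_step (D : ℕ) {T : Set X} (U : Set X) (hT : CB (D + 1) T) :
    CB D {x | x ∈ T ∧ x ∈ U ∧ ∃ e, e ∈ T ∧ e ∉ U ∧ x ⤳ e} := by
  cases D with
  | zero =>
    rintro x ⟨hxT, hxU, e, heT, heU, hxe⟩
    exact hT e heT x ⟨hxT, hxe, fun h => heU (h ▸ hxU)⟩
  | succ D =>
    rintro e' ⟨he'T, he'U, e, heT, heU, he'e⟩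
    refine cb_mono D ?_ (hT e heT e' ⟨he'T, he'e, fun h => heU (h ▸ he'U)⟩)
    rintro x ⟨⟨hxT, hxU, -⟩, hxe', hne⟩
    exact ⟨⟨hxT, hxe'.trans he'e, fun h => heU (h ▸ hxU)⟩, hxe', hne⟩

/-- the irreducible closed set `closure {x}`. -/
def cl (x : X) : IrreducibleCloseds X := ⟨closure {x}, isIrreducible_singleton.closure, isClosed_closure⟩

lemma cl_lt [T0Space X] {x e : X} (h : x ⤳ e) (hne : x ≠ e) : cl e < cl x := by
  have h1 : cl e ≤ cl x := by
    change closure {e} ⊆ closure {x}
    exact specializes_iff_closure_subset.1 h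
  refine lt_of_le_of_ne h1 (fun heq => hne ?_)
  have h2 : closure {x} ⊆ closure {e} := by
    have : (cl x : Set X) ⊆ cl e := by rw [heq]
    exact this
  exact (h.antisymm (specializes_iff_closure_subset.2 h2)).eq

lemma cb_of_coheight [T0Space X] : ∀ (D : ℕ) (T : Set X),
    (∀ x ∈ T, Order.coheight (cl x) < (D : ℕ∞)) → CB D T
  | 0, T, h => fun x hx => absurd (h x hx) (by simp)
  | (D + 1), T, h => fun e he => cb_of_coheight D _ (by
      rintro x ⟨hxT, hxe, hne⟩
      have h1 := Order.coheight_add_one_le (cl_lt hxe hne)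
      have h2 := h e he
      have h3 : Order.coheight (cl x) + 1 < (D : ℕ∞) + 1 := by
        refine lt_of_le_of_lt h1 ?_
        exact_mod_cast h2
      have h4 : Order.coheight (cl x) ≠ ⊤ := by
        intro htop
        rw [htop] at h3
        simp at h3
      lift Order.coheight (cl x) to ℕ using h4 with a ha
      norm_cast at h3 ⊢
      omega)

theorem cb_univ_of_dim_le [T0Space X] (d : ℕ) (hd : topologicalKrullDim X ≤ d) :
    CB (d + 1) (Set.univ : Set X) := by
  apply cb_of_coheight
  intro x _
  have h1 : (Order.coheight (cl x) : WithBot ℕ∞) ≤ (d : ℕ∞) :=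
    (Order.coheight_le_krullDim (cl x)).trans hd
  have h2 : Order.coheight (cl x) ≤ (d : ℕ∞) := WithBot.coe_le_coe.1 h1
  refine lt_of_le_of_lt h2 ?_
  exact_mod_cast Nat.lt_succ_self d

end CB

end Groth.Agent.Lib.Helper19Spec
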