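import Mathlib
import Groth.Prelude.Def_LocCohZ
import Groth.Agent.Lib.Helper23AffVanish2

/-!
# Mayer–Vietoris for `HE` on opens: exactness, gluing, naturality of the connecting map

(helper19) for S0469/S0470.
-/

set_option autoImplicit false
universe u
open CategoryTheory CategoryTheory.Limits Opposite TopologicalSpace Abelian

namespace Groth.Agent.Lib.Helper19Spec

section Abstract

universe w v' u'
variable {C : Type u'} [Category.{v'} C] [Abelian C] [HasExt.{w} C]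
variable {A₁ A₂ A₃ A₄ : C} (a : A₁ ⟶ A₂) (b : A₁ ⟶ A₃) (c : A₂ ⟶ A₄) (d : A₃ ⟶ A₄)
    (w : biprod.lift a (-b) ≫ biprod.desc c d = 0)
    (hT : (ShortComplex.mk (biprod.lift a (-b)) (biprod.desc c d) w).ShortExact)
    (F : C) (n : ℕ)

include hT in
/-- a class on `A₄` vanishing on `A₂` and `A₃` is a coboundary. -/
theorem mv_exists_delta (α : Ext.{w} A₄ F (n + 1))
    (hα₁ : (Ext.mk₀ c).comp α (zero_add (n + 1)) = 0) (hα₂ : (Ext.mk₀ d).comp α (zero_add (n + 1)) = 0) :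
    ∃ γ : Ext.{w} A₁ F n, hT.extClass.comp γ (add_comm 1 n) = α := by
  have hg : (Ext.mk₀ (ShortComplex.mk (biprod.lift a (-b)) (biprod.desc c d) w).g).comp α
      (zero_add (n + 1)) = 0 := by
    apply Ext.biprodAddEquiv.injective
    ext
    · rw [Ext.biprodAddEquiv_apply_fst, Ext.mk₀_comp_mk₀_assoc, map_zero]
      dsimp
      rw [biprod.inl_desc]
      exact hα₁
    · rw [Ext.biprodAddEquiv_apply_snd, Ext.mk₀_comp_mk₀_assoc, map_zero]
      dsimp
      rw [biprod.inr_desc]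
      exact hα₂
  exact Ext.contravariant_sequence_exact₃ hT F α hg (add_comm 1 n)

/-- the connecting map kills restrictions from `A₂`. -/
theorem mv_delta_left (β₁ : Ext.{w} A₂ F n) :
    hT.extClass.comp ((Ext.mk₀ a).comp β₁ (zero_add n)) (add_comm 1 n) = 0 := by
  have e : (Ext.mk₀ a).comp β₁ (zero_add n) =
      (Ext.mk₀ (ShortComplex.mk (biprod.lift a (-b)) (biprod.desc c d) w).f).comp
        ((Ext.mk₀ biprod.fst).comp β₁ (zero_add n)) (zero_add n) := by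
    rw [Ext.mk₀_comp_mk₀_assoc]
    dsimp
    rw [biprod.lift_fst]
  rw [e, hT.extClass_comp_assoc]

include hT in
/-- gluing: classes on `A₂`, `A₃` agreeing on `A₁` come from `A₄`. -/
theorem mv_glue (β₁ : Ext.{w} A₂ F n) (β₂ : Ext.{w} A₃ F n)
    (h : (Ext.mk₀ a).comp β₁ (zero_add n) = (Ext.mk₀ b).comp β₂ (zero_add n)) :
    ∃ ζ : Ext.{w} A₄ F n, (Ext.mk₀ c).comp ζ (zero_add n) = β₁ ∧ (Ext.mk₀ d).comp ζ (zero_add n) = β₂ := by
  have hf : (Ext.mk₀ (ShortComplex.mk (biprod.lift a (-b)) (biprod.desc c d) w).f).comp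
      ((Ext.mk₀ biprod.fst).comp β₁ (zero_add n) + (Ext.mk₀ biprod.snd).comp β₂ (zero_add n))
      (zero_add n) = 0 := by
    rw [Ext.comp_add, Ext.mk₀_comp_mk₀_assoc, Ext.mk₀_comp_mk₀_assoc]
    dsimp
    rw [biprod.lift_fst, biprod.lift_snd, Ext.mk₀_neg, Ext.neg_comp, h, add_neg_cancel]
  obtain ⟨ζ, hζ⟩ := Ext.contravariant_sequence_exact₂ hT F _ hf
  dsimp at hζ
  refine ⟨ζ, ?_, ?_⟩
  · have h1 : (Ext.mk₀ c).comp ζ (zero_add n) =
        (Ext.mk₀ biprod.inl).comp ((Ext.mk₀ (biprod.desc c d)).comp ζ (zero_add n)) (zero_add n) := by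
      rw [Ext.mk₀_comp_mk₀_assoc, biprod.inl_desc]
    rw [h1, hζ, Ext.comp_add, Ext.mk₀_comp_mk₀_assoc, Ext.mk₀_comp_mk₀_assoc, biprod.inl_fst,
      biprod.inl_snd, Ext.mk₀_id_comp, Ext.mk₀_zero, Ext.zero_comp, add_zero]
  · have h1 : (Ext.mk₀ d).comp ζ (zero_add n) =
        (Ext.mk₀ biprod.inr).comp ((Ext.mk₀ (biprod.desc c d)).comp ζ (zero_add n)) (zero_add n) := by
      rw [Ext.mk₀_comp_mk₀_assoc, biprod.inr_desc]
    rw [h1, hζ, Ext.comp_add, Ext.mk₀_comp_mk₀_assoc, Ext.mk₀_comp_mk₀_assoc, biprod.inr_fst,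
      biprod.inr_snd, Ext.mk₀_id_comp, Ext.mk₀_zero, Ext.zero_comp, zero_add]

variable {A₁' A₂' A₃' A₄' : C} (a' : A₁' ⟶ A₂') (b' : A₁' ⟶ A₃') (c' : A₂' ⟶ A₄') (d' : A₃' ⟶ A₄')
    (w' : biprod.lift a' (-b') ≫ biprod.desc c' d' = 0)
    (hT' : (ShortComplex.mk (biprod.lift a' (-b')) (biprod.desc c' d') w').ShortExact)

/-- naturality of the Mayer–Vietoris connecting map. -/
theorem mv_delta_natural (φ₁ : A₁' ⟶ A₁) (φ₂ : A₂' ⟶ A₂) (φ₃ : A₃' ⟶ A₃) (φ₄ : A₄' ⟶ A₄)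
    (ha : φ₁ ≫ a = a' ≫ φ₂) (hb : φ₁ ≫ b = b' ≫ φ₃) (hc : φ₂ ≫ c = c' ≫ φ₄) (hd : φ₃ ≫ d = d' ≫ φ₄)
    (γ : Ext.{w} A₁ F n) :
    (Ext.mk₀ φ₄).comp (hT.extClass.comp γ (add_comm 1 n)) (zero_add (n + 1)) =
      hT'.extClass.comp ((Ext.mk₀ φ₁).comp γ (zero_add n)) (add_comm 1 n) := by
  let ψ : ShortComplex.mk (biprod.lift a' (-b')) (biprod.desc c' d') w' ⟶
      ShortComplex.mk (biprod.lift a (-b)) (biprod.desc c d) w :=
    { τ₁ := φ₁
      τ₂ := biprod.map φ₂ φ₃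
      τ₃ := φ₄
      comm₁₂ := by
        dsimp
        apply biprod.hom_ext
        · simp only [Category.assoc, biprod.lift_fst, biprod.map_fst, biprod.lift_fst_assoc, ha]
        · simp only [Category.assoc, biprod.lift_snd, biprod.map_snd, biprod.lift_snd_assoc,
            Preadditive.comp_neg, Preadditive.neg_comp, hb]
      comm₂₃ := by
        dsimp
        apply biprod.hom_ext'
        · simp only [biprod.inl_map_assoc, biprod.inl_desc, biprod.inl_desc_assoc, hc]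
        · simp only [biprod.inr_map_assoc, biprod.inr_desc, biprod.inr_desc_assoc, hd] }
  have hnat := ShortComplex.ShortExact.extClass_naturality hT' hT ψ
  rw [← Ext.comp_assoc _ _ _ (zero_add 1) (add_comm 1 n) (by omega), ← hnat,
    Ext.comp_assoc _ _ _ (add_zero 1) (zero_add n) (by omega)]

end Abstract

section Concrete
open Groth.Agent.Lib.Helper23.AffVanish

variable {X : TopCat.{u}} (F : CohTop.Ab X)

lemma fsm_comm {A B C D : Opens X} (h1 : A ≤ B) (h2 : B ≤ D) (h3 : A ≤ C) (h4 : C ≤ D) :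
    CohCx.freeSheafMap (J X) (homOfLE h1) ≫ CohCx.freeSheafMap (J X) (homOfLE h2) =
    CohCx.freeSheafMap (J X) (homOfLE h3) ≫ CohCx.freeSheafMap (J X) (homOfLE h4) := by
  rw [← CohFree.freeSheafMap_comp, ← CohFree.freeSheafMap_comp]
  exact congrArg (CohCx.freeSheafMap (J X)) (Subsingleton.elim _ _)

/-- the canonical Mayer–Vietoris square of two opens. -/
noncomputable abbrev sq (A B : Opens X) : (Opens.grothendieckTopology X).MayerVietorisSquare :=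
  mvSquare A B (A ⊔ B) le_sup_left le_sup_right le_rfl

/-- the Mayer–Vietoris connecting map `H^n(A ∩ B) → H^{n+1}(A ∪ B)`. -/
noncomputable def mvδ (A B : Opens X) (n : ℕ) (γ : HE F n (A ⊓ B)) : HE F (n + 1) (A ⊔ B) :=
  (sq A B).shortComplex_shortExact.extClass.comp γ (add_comm 1 n)

theorem exists_mvδ (A B : Opens X) (n : ℕ) (α : HE F (n + 1) (A ⊔ B))
    (h₁ : resE F (n + 1) (le_sup_left : A ≤ A ⊔ B) α = 0)
    (h₂ : resE F (n + 1) (le_sup_right : B ≤ A ⊔ B) α = 0) :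
    ∃ γ : HE F n (A ⊓ B), mvδ F A B n γ = α :=
  mv_exists_delta (CohCx.freeSheafMap (J X) (homOfLE (inf_le_left : A ⊓ B ≤ A)))
    (CohCx.freeSheafMap (J X) (homOfLE (inf_le_right : A ⊓ B ≤ B)))
    (CohCx.freeSheafMap (J X) (homOfLE (le_sup_left : A ≤ A ⊔ B)))
    (CohCx.freeSheafMap (J X) (homOfLE (le_sup_right : B ≤ A ⊔ B)))
    (sq A B).shortComplex.zero (sq A B).shortComplex_shortExact F n α h₁ h₂

theorem mvδ_res_left (A B : Opens X) (n : ℕ) (β : HE F n A) :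
    mvδ F A B n (resE F n (inf_le_left : A ⊓ B ≤ A) β) = 0 :=
  mv_delta_left (CohCx.freeSheafMap (J X) (homOfLE (inf_le_left : A ⊓ B ≤ A)))
    (CohCx.freeSheafMap (J X) (homOfLE (inf_le_right : A ⊓ B ≤ B)))
    (CohCx.freeSheafMap (J X) (homOfLE (le_sup_left : A ≤ A ⊔ B)))
    (CohCx.freeSheafMap (J X) (homOfLE (le_sup_right : B ≤ A ⊔ B)))
    (sq A B).shortComplex.zero (sq A B).shortComplex_shortExact F n β

theorem glue (A B : Opens X) (n : ℕ) (β₁ : HE F n A) (β₂ : HE F n B)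
    (h : resE F n (inf_le_left : A ⊓ B ≤ A) β₁ = resE F n (inf_le_right : A ⊓ B ≤ B) β₂) :
    ∃ ζ : HE F n (A ⊔ B), resE F n (le_sup_left : A ≤ A ⊔ B) ζ = β₁ ∧
      resE F n (le_sup_right : B ≤ A ⊔ B) ζ = β₂ :=
  mv_glue (CohCx.freeSheafMap (J X) (homOfLE (inf_le_left : A ⊓ B ≤ A)))
    (CohCx.freeSheafMap (J X) (homOfLE (inf_le_right : A ⊓ B ≤ B)))
    (CohCx.freeSheafMap (J X) (homOfLE (le_sup_left : A ≤ A ⊔ B)))
    (CohCx.freeSheafMap (J X) (homOfLE (le_sup_right : B ≤ A ⊔ B)))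
    (sq A B).shortComplex.zero (sq A B).shortComplex_shortExact F n β₁ β₂ h

theorem mvδ_natural {A B A' B' : Opens X} (hA : A' ≤ A) (hB : B' ≤ B) (n : ℕ) (γ : HE F n (A ⊓ B)) :
    resE F (n + 1) (sup_le_sup hA hB) (mvδ F A B n γ) =
      mvδ F A' B' n (resE F n (inf_le_inf hA hB) γ) :=
  mv_delta_natural (CohCx.freeSheafMap (J X) (homOfLE (inf_le_left : A ⊓ B ≤ A)))
    (CohCx.freeSheafMap (J X) (homOfLE (inf_le_right : A ⊓ B ≤ B)))
    (CohCx.freeSheafMap (J X) (homOfLE (le_sup_left : A ≤ A ⊔ B)))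
    (CohCx.freeSheafMap (J X) (homOfLE (le_sup_right : B ≤ A ⊔ B)))
    (sq A B).shortComplex.zero (sq A B).shortComplex_shortExact F n
    (CohCx.freeSheafMap (J X) (homOfLE (inf_le_left : A' ⊓ B' ≤ A')))
    (CohCx.freeSheafMap (J X) (homOfLE (inf_le_right : A' ⊓ B' ≤ B')))
    (CohCx.freeSheafMap (J X) (homOfLE (le_sup_left : A' ≤ A' ⊔ B')))
    (CohCx.freeSheafMap (J X) (homOfLE (le_sup_right : B' ≤ A' ⊔ B')))
    (sq A' B').shortComplex.zero (sq A' B').shortComplex_shortExact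
    (CohCx.freeSheafMap (J X) (homOfLE (inf_le_inf hA hB)))
    (CohCx.freeSheafMap (J X) (homOfLE hA))
    (CohCx.freeSheafMap (J X) (homOfLE hB))
    (CohCx.freeSheafMap (J X) (homOfLE (sup_le_sup hA hB)))
    (fsm_comm _ _ _ _) (fsm_comm _ _ _ _) (fsm_comm _ _ _ _) (fsm_comm _ _ _ _) γ

/-- cohomology of the empty open vanishes in all degrees. -/
theorem subsingleton_HE_of_eq_bot (n : ℕ) {W : Opens X} (hW : W = ⊥) : Subsingleton (HE F n W) := by
  subst hW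
  have hz : ∀ G : CohTop.Ab X, Subsingleton (ZU (⊥ : Opens X) ⟶ G) := fun G =>
    haveI := Groth.Agent.Lib.Helper16.ClosedEmb.subsingleton_of_eq_bot G (W := ⊥) rfl
    (CohFree.homEquivSect (J X) ⊥ G).toEquiv.subsingleton
  have hid : 𝟙 (ZU (⊥ : Opens X)) = 0 := (hz _).elim _ _
  refine ⟨fun x y => ?_⟩
  have hx : ∀ z : HE F n (⊥ : Opens X), z = 0 := fun z => by
    rw [← Ext.mk₀_id_comp z, hid, Ext.mk₀_zero, Ext.zero_comp]
  rw [hx x, hx y]

lemma resE_eq_zero_of_le (n : ℕ) {V O O' : Opens X} (h : O ≤ V) (h' : O' ≤ O) (ξ : HE F n V)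
    (hz : resE F n h ξ = 0) : resE F n (h'.trans h) ξ = 0 := by
  rw [← resE_resE F n h h', hz, map_zero]

end Concrete

end Groth.Agent.Lib.Helper19Spec
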