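import Mathlib
import Groth.Prelude.Def_LocCohZ
import Groth.Agent.Lib.Helper19SpecA
import Groth.Agent.Lib.Helper19SpecB

/-!
# Scheiderer's theorem via pro-opens

(helper19) A *pro-open* of a spectral space `X` is a family of quasi-compact opens closed under
binary intersections; it stands for the intersection `T` of its members, and the cohomology of `T`
is modelled by the colimit of the cohomologies of the members (no pullback to subspaces is used).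
-/

set_option autoImplicit false
universe u
open CategoryTheory CategoryTheory.Limits Opposite TopologicalSpace Abelian Topology

namespace Groth.Agent.Lib.Helper19Spec

open Groth.Agent.Lib.Helper23.AffVanish

variable {X : TopCat.{u}}

/-- a pro-open: a family of quasi-compact opens closed under binary intersection. -/
structure PO (X : TopCat.{u}) where
  S : Set (Opens X)
  qc : ∀ V ∈ S, IsCompact (V : Set X)
  inf_mem : ∀ V ∈ S, ∀ W ∈ S, V ⊓ W ∈ S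

namespace PO

/-- the intersection of the members. -/
def T (𝒱 : PO X) : Set X := {x | ∀ V ∈ 𝒱.S, x ∈ V}

/-- restriction of a pro-open to a quasi-compact open. -/
def restr [QuasiSeparatedSpace X] (𝒱 : PO X) (A : Opens X) (hA : IsCompact (A : Set X)) : PO X where
  S := {W | ∃ V ∈ 𝒱.S, W = V ⊓ A}
  qc := by
    rintro _ ⟨V, hV, rfl⟩
    exact QuasiSeparatedSpace.inter_isCompact _ _ V.isOpen (𝒱.qc V hV) A.isOpen hA
  inf_mem := by
    rintro _ ⟨V, hV, rfl⟩ _ ⟨W, hW, rfl⟩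
    exact ⟨V ⊓ W, 𝒱.inf_mem V hV W hW, (inf_inf_distrib_right V W A).symm⟩

lemma T_restr_subset [QuasiSeparatedSpace X] (𝒱 : PO X) (A : Opens X) (hA : IsCompact (A : Set X)) :
    (𝒱.restr A hA).T ⊆ 𝒱.T := by
  intro x hx V hV
  exact (hx (V ⊓ A) ⟨V, hV, rfl⟩).1

/-- the punctured neighbourhoods of `T \ U` inside `T ∩ U`. -/
def nbhd [QuasiSeparatedSpace X] (𝒱 : PO X) (U : Opens X) (hU : IsCompact (U : Set X)) : PO X where
  S := {W | ∃ V ∈ 𝒱.S, ∃ N : Opens X, IsCompact (N : Set X) ∧ (∀ x ∈ 𝒱.T, x ∉ U → x ∈ N) ∧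
    W = (V ⊓ N) ⊓ U}
  qc := by
    rintro _ ⟨V, hV, N, hN, -, rfl⟩
    exact QuasiSeparatedSpace.inter_isCompact _ _ (V ⊓ N).isOpen
      (QuasiSeparatedSpace.inter_isCompact _ _ V.isOpen (𝒱.qc V hV) N.isOpen hN) U.isOpen hU
  inf_mem := by
    rintro _ ⟨V, hV, N, hN, hTN, rfl⟩ _ ⟨V', hV', N', hN', hTN', rfl⟩
    refine ⟨V ⊓ V', 𝒱.inf_mem V hV V' hV', N ⊓ N',
      QuasiSeparatedSpace.inter_isCompact _ _ N.isOpen hN N'.isOpen hN',
      fun x hx hxU => ⟨hTN x hx hxU, hTN' x hx hxU⟩, ?_⟩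
    apply le_antisymm
    · exact le_inf (le_inf (inf_le_inf (inf_le_left.trans inf_le_left) (inf_le_left.trans inf_le_left))
        (inf_le_inf (inf_le_left.trans inf_le_right) (inf_le_left.trans inf_le_right)))
        (inf_le_left.trans inf_le_right)
    · exact le_inf (le_inf (le_inf (inf_le_left.trans (inf_le_left.trans inf_le_left))
        (inf_le_left.trans (inf_le_right.trans inf_le_left))) inf_le_right)
        (le_inf (le_inf (inf_le_left.trans (inf_le_left.trans inf_le_right))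
        (inf_le_left.trans (inf_le_right.trans inf_le_right))) inf_le_right)

end PO

section Cover

/-- a compact subset of a prespectral space missing the closure of a point lies in a quasi-compact
open missing the point. -/
lemma exists_qc_open_of_compact [PrespectralSpace X] (K : Set X) (hK : IsCompact K) (x : X)
    (h : ∀ e ∈ K, e ∉ closure ({x} : Set X)) :
    ∃ N : Opens X, IsCompact (N : Set X) ∧ K ⊆ N ∧ x ∉ N := by
  refine hK.induction_on (p := fun S => ∃ N : Opens X, IsCompact (N : Set X) ∧ S ⊆ N ∧ x ∉ N)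
    ⟨⊥, by simp, by simp, by simp⟩ ?_ ?_ ?_
  · rintro s t hst ⟨N, hN, htN, hx⟩
    exact ⟨N, hN, hst.trans htN, hx⟩
  · rintro s t ⟨N, hN, hsN, hx⟩ ⟨N', hN', htN', hx'⟩
    refine ⟨N ⊔ N', ?_, ?_, ?_⟩
    · rw [Opens.coe_sup]
      exact hN.union hN'
    · rw [Opens.coe_sup]
      exact Set.union_subset_union hsN htN'
    · rintro (h1 | h1)
      · exact hx h1
      · exact hx' h1
  · intro e he
    obtain ⟨N, ⟨hNo, hNc⟩, heN, hNsub⟩ := PrespectralSpace.isTopologicalBasis.exists_subset_of_mem_open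
      (h e he) isClosed_closure.isOpen_compl
    refine ⟨N, mem_nhdsWithin_of_mem_nhds (hNo.mem_nhds heN), ⟨N, hNo⟩, hNc, subset_rfl, ?_⟩
    intro hxN
    exact hNsub hxN (subset_closure rfl)

end Cover

theorem cb_nbhd [SpectralSpace X] (𝒱 : PO X) (D : ℕ) (hCB : CB (D + 1) 𝒱.T) (U : Opens X)
    (hU : IsCompact (U : Set X)) (V₀ : Opens X) (hV₀ : V₀ ∈ 𝒱.S) : CB D (𝒱.nbhd U hU).T := by
  refine cb_mono D ?_ (cb_step D (U : Set X) hCB)
  intro x hx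
  have h1 : ∀ V ∈ 𝒱.S, x ∈ V ∧ x ∈ U := by
    intro V hV
    have := hx ((V ⊓ ⊤) ⊓ U) ⟨V, hV, ⊤, isCompact_univ, fun _ _ _ => trivial, rfl⟩
    exact ⟨this.1.1, this.2⟩
  refine ⟨fun V hV => (h1 V hV).1, (h1 V₀ hV₀).2, ?_⟩
  by_contra hno
  push Not at hno
  obtain ⟨V₁, hV₁, hdis⟩ := exists_disjoint_of_iInter 𝒱.S ⟨V₀, hV₀⟩ 𝒱.qc 𝒱.inf_mem
    ((U : Set X)ᶜ ∩ closure ({x} : Set X)) (U.isOpen.isClosed_compl.inter isClosed_closure)
    (fun e he hC => hno e he hC.1 (specializes_iff_mem_closure.2 hC.2))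
  obtain ⟨N, hN, hKN, hxN⟩ := exists_qc_open_of_compact ((V₁ : Set X) ∩ (U : Set X)ᶜ)
    ((𝒱.qc V₁ hV₁).inter_right U.isOpen.isClosed_compl) x
    (fun e he hcl => hdis e he.1 ⟨he.2, hcl⟩)
  have := hx ((V₁ ⊓ N) ⊓ U) ⟨V₁, hV₁, N, hN, fun e he heU => hKN ⟨he V₁ hV₁, heU⟩, rfl⟩
  exact hxN this.1.2

variable (F : CohTop.Ab X)

/-- vanishing of the cohomology of a pro-open in degree `p` when chains have at most `D` points. -/
def VanishP (D p : ℕ) : Prop :=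
  ∀ 𝒱 : PO X, CB D 𝒱.T → ∀ V ∈ 𝒱.S, ∀ ξ : HE F p V, ∃ V' ∈ 𝒱.S, ∃ h : V' ≤ V, resE F p h ξ = 0

/-- surjectivity of restriction to a quasi-compact open in the top degree. -/
def SurjQ (D : ℕ) : Prop :=
  ∀ 𝒱 : PO X, CB (D + 1) 𝒱.T → ∀ U : Opens X, IsCompact (U : Set X) → ∀ V ∈ 𝒱.S,
    ∀ ξ : HE F D (V ⊓ U), ∃ V' ∈ 𝒱.S, ∃ h : V' ≤ V, ∃ ζ : HE F D V',
      resE F D (inf_le_left : V' ⊓ U ≤ V') ζ = resE F D (inf_le_inf_right U h) ξ

/-- kill-or-lift: the input of the Mayer–Vietoris step. -/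
def KL (D q : ℕ) : Prop :=
  ∀ 𝒱 : PO X, CB D 𝒱.T → ∀ A B : Opens X, IsCompact (A : Set X) → IsCompact (B : Set X) →
    ∀ V ∈ 𝒱.S, ∀ η : HE F q ((V ⊓ A) ⊓ (V ⊓ B)), ∃ V' ∈ 𝒱.S, ∃ h : V' ≤ V, ∃ ζ : HE F q (V' ⊓ A),
      resE F q (inf_le_left : (V' ⊓ A) ⊓ (V' ⊓ B) ≤ V' ⊓ A) ζ =
        resE F q (inf_le_inf (inf_le_inf_right A h) (inf_le_inf_right B h)) η

theorem vanishP_zero [SpectralSpace X] (p : ℕ) : VanishP F 0 p := by
  intro 𝒱 hCB V hV ξ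
  have h0 : ∀ x, x ∉ 𝒱.T := hCB
  obtain ⟨V₀, hV₀, hemp⟩ := exists_disjoint_of_iInter 𝒱.S ⟨V, hV⟩ 𝒱.qc 𝒱.inf_mem Set.univ isClosed_univ
    (fun x hx _ => h0 x hx)
  refine ⟨V ⊓ V₀, 𝒱.inf_mem V hV V₀ hV₀, inf_le_left, ?_⟩
  have hbot : V ⊓ V₀ = ⊥ := by
    rw [eq_bot_iff]
    intro x hx
    exact absurd trivial (hemp x hx.2)
  have := subsingleton_HE_of_eq_bot F p hbot
  exact Subsingleton.elim _ _

theorem kl_of_vanishP [QuasiSeparatedSpace X] (D q : ℕ) (hP : VanishP F D q) : KL F D q := by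
  intro 𝒱 hCB A B hA hB V hV η
  have hAB : IsCompact ((A ⊓ B : Opens X) : Set X) :=
    QuasiSeparatedSpace.inter_isCompact _ _ A.isOpen hA B.isOpen hB
  have hle : V ⊓ (A ⊓ B) ≤ (V ⊓ A) ⊓ (V ⊓ B) :=
    le_inf (inf_le_inf_left V inf_le_left) (inf_le_inf_left V inf_le_right)
  obtain ⟨_, ⟨V₁, hV₁, rfl⟩, h, hz⟩ := hP (𝒱.restr (A ⊓ B) hAB)
    (cb_mono D (𝒱.T_restr_subset _ hAB) hCB) (V ⊓ (A ⊓ B)) ⟨V, hV, rfl⟩ (resE F q hle η)
  refine ⟨V ⊓ V₁, 𝒱.inf_mem V hV V₁ hV₁, inf_le_left, 0, ?_⟩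
  rw [map_zero]
  rw [resE_resE] at hz
  have hle2 : (V ⊓ V₁ ⊓ A) ⊓ (V ⊓ V₁ ⊓ B) ≤ V₁ ⊓ (A ⊓ B) :=
    le_inf (inf_le_left.trans (inf_le_left.trans inf_le_right))
      (le_inf (inf_le_left.trans inf_le_right) (inf_le_right.trans inf_le_right))
  exact (resE_eq_zero_of_le F q _ hle2 η hz).symm

theorem kl_of_surjQ [QuasiSeparatedSpace X] (D : ℕ) (hQ : SurjQ F D) : KL F (D + 1) D := by
  intro 𝒱 hCB A B hA hB V hV η
  have hle : (V ⊓ A) ⊓ B ≤ (V ⊓ A) ⊓ (V ⊓ B) := le_inf inf_le_left (inf_le_inf inf_le_left le_rfl)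
  obtain ⟨_, ⟨V₁, hV₁, rfl⟩, h, ζ₀, hζ₀⟩ := hQ (𝒱.restr A hA)
    (cb_mono (D + 1) (𝒱.T_restr_subset _ hA) hCB) B hB (V ⊓ A) ⟨V, hV, rfl⟩ (resE F D hle η)
  have hle1 : V ⊓ V₁ ⊓ A ≤ V₁ ⊓ A := inf_le_inf_right A inf_le_right
  refine ⟨V ⊓ V₁, 𝒱.inf_mem V hV V₁ hV₁, inf_le_left, resE F D hle1 ζ₀, ?_⟩
  have hle2 : (V ⊓ V₁ ⊓ A) ⊓ (V ⊓ V₁ ⊓ B) ≤ (V₁ ⊓ A) ⊓ B :=
    le_inf (inf_le_left.trans hle1) (inf_le_right.trans inf_le_right)
  have h1 := congrArg (resE F D hle2) hζ₀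
  rw [resE_resE, resE_resE, resE_resE] at h1
  rw [resE_resE]
  exact h1

end Groth.Agent.Lib.Helper19Spec
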