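import Mathlib
import Groth.Prelude.Def_LocCohZ
import Groth.Agent.Lib.Helper19PullB
import Groth.Agent.Lib.Helper19SpecC
import Groth.Agent.Lib.Helper16SectSupp

/-!
# Sections of the inverse image on a pro-open of a spectral space (helper19)

For a pro-open `𝒱` of a spectral space `X` with intersection `T`, and a quasi-compact open `Q`:
sections of `F|_T` over `T ∩ Q` are the colimit of the sections of `F` over `V ∩ Q`, `V ∈ 𝒱`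
(`injPO`, `surjPO`).
-/

set_option autoImplicit false
universe u
open CategoryTheory CategoryTheory.Limits Opposite TopologicalSpace TopCat

namespace Groth.Agent.Lib.Helper19Pull

open Groth.Agent.Lib.Helper19Spec

variable {X : TopCat.{u}} [SpectralSpace X] (𝒱 : PO X) (F : CohTop.Ab X)

/-- injectivity: a section over an open `D ⊇ T ∩ Q` dying on `T` dies on some `V ∩ Q`. -/
theorem injPO (V₀ : Opens X) (hV₀ : V₀ ∈ 𝒱.S) (Q : Opens X) (hQ : IsCompact (Q : Set X)) (D : Opens X)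
    (hTD : ∀ z, z ∈ 𝒱.T → z ∈ Q → z ∈ D) (s : F.obj.obj (op D)) (hs : ηs (incl 𝒱.T) F D s = 0) :
    ∃ V' ∈ 𝒱.S, ∃ h : V' ⊓ Q ≤ D, V' ≤ V₀ ∧ rs F h s = 0 := by
  obtain ⟨O, hO, hTO, hz⟩ := exists_open_eq_zero 𝒱.T F D s hs
  obtain ⟨_, ⟨V₁, hV₁, rfl⟩, hdis⟩ := exists_disjoint_of_iInter (𝒱.restr Q hQ).S
    ⟨V₀ ⊓ Q, V₀, hV₀, rfl⟩ (𝒱.restr Q hQ).qc (𝒱.restr Q hQ).inf_mem ((O : Set X)ᶜ)
    O.isOpen.isClosed_compl (by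
      intro x hx hxO
      have hxT : x ∈ 𝒱.T := fun V hV => (hx (V ⊓ Q) ⟨V, hV, rfl⟩).1
      have hxQ : x ∈ Q := (hx (V₀ ⊓ Q) ⟨V₀, hV₀, rfl⟩).2
      exact hxO (hTO x hxT (hTD x hxT hxQ) |> fun h => h) )
  have hle : (V₀ ⊓ V₁) ⊓ Q ≤ O := by
    intro x hx
    by_contra hxO
    exact hdis x ⟨hx.1.2, hx.2⟩ hxO
  refine ⟨V₀ ⊓ V₁, 𝒱.inf_mem V₀ hV₀ V₁ hV₁, hle.trans hO, inf_le_left, ?_⟩
  rw [← rs_rs F hO hle, hz, map_zero]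

/-- surjectivity: every section of `F|_T` over `T ∩ U` comes from some `V ∩ U`. -/
theorem surjPO (V₀ : Opens X) (hV₀ : V₀ ∈ 𝒱.S) (U : Opens X) (hU : IsCompact (U : Set X))
    (t : ((CohTop.pull (incl 𝒱.T)).obj F).obj.obj (op ((Opens.map (incl 𝒱.T)).obj U))) :
    ∃ V ∈ 𝒱.S, ∃ s : F.obj.obj (op (V ⊓ U)), V ≤ V₀ ∧
      ηs (incl 𝒱.T) F (V ⊓ U) s = rs ((CohTop.pull (incl 𝒱.T)).obj F)
        (map_mono (incl 𝒱.T) (inf_le_right : V ⊓ U ≤ U)) t := by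
  have hTmem : ∀ z, z ∈ 𝒱.T → ∀ V ∈ 𝒱.S, z ∈ V := fun z hz V hV => hz V hV
  let PN : Opens X → Prop := fun N => ∃ V ∈ 𝒱.S, ∃ s : F.obj.obj (op ((V ⊓ N) ⊓ U)),
    ηs (incl 𝒱.T) F ((V ⊓ N) ⊓ U) s = rs ((CohTop.pull (incl 𝒱.T)).obj F)
      (map_mono (incl 𝒱.T) (inf_le_right : (V ⊓ N) ⊓ U ≤ U)) t
  have P_mono : ∀ N N' : Opens X, N' ≤ N → PN N → PN N' := by
    rintro N N' hNN ⟨V, hV, s, hs⟩
    refine ⟨V, hV, rs F (inf_le_inf_right U (inf_le_inf_left V hNN)) s, ?_⟩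
    rw [ηs_rs, hs, rs_rs]
  have P_bot : PN ⊥ := by
    refine ⟨V₀, hV₀, 0, ?_⟩
    have hbot : (Opens.map (incl 𝒱.T)).obj ((V₀ ⊓ ⊥) ⊓ U) = ⊥ := by
      rw [eq_bot_iff]
      intro x hx
      exact hx.1.2
    have := Groth.Agent.Lib.Helper16.ClosedEmb.subsingleton_of_eq_bot
      ((CohTop.pull (incl 𝒱.T)).obj F) hbot
    exact Subsingleton.elim _ _
  have P_sup : ∀ N N' : Opens X, IsCompact (N : Set X) → IsCompact (N' : Set X) → PN N → PN N' →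
      PN (N ⊔ N') := by
    rintro N N' hN hN' ⟨V, hV, s, hs⟩ ⟨V', hV', s', hs'⟩
    have hV₁ : V ⊓ V' ∈ 𝒱.S := 𝒱.inf_mem V hV V' hV'
    have hA : ((V ⊓ V') ⊓ N) ⊓ U ≤ (V ⊓ N) ⊓ U := inf_le_inf_right U (inf_le_inf_right N inf_le_left)
    have hB : ((V ⊓ V') ⊓ N') ⊓ U ≤ (V' ⊓ N') ⊓ U :=
      inf_le_inf_right U (inf_le_inf_right N' inf_le_right)
    have hsA : ηs (incl 𝒱.T) F _ (rs F hA s) = rs ((CohTop.pull (incl 𝒱.T)).obj F)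
        (map_mono (incl 𝒱.T) (inf_le_right : ((V ⊓ V') ⊓ N) ⊓ U ≤ U)) t := by
      rw [ηs_rs, hs, rs_rs]
    have hsB : ηs (incl 𝒱.T) F _ (rs F hB s') = rs ((CohTop.pull (incl 𝒱.T)).obj F)
        (map_mono (incl 𝒱.T) (inf_le_right : ((V ⊓ V') ⊓ N') ⊓ U ≤ U)) t := by
      rw [ηs_rs, hs', rs_rs]
    have hQ : IsCompact (((N ⊓ N') ⊓ U : Opens X) : Set X) :=
      QuasiSeparatedSpace.inter_isCompact _ _ (N ⊓ N').isOpen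
        (QuasiSeparatedSpace.inter_isCompact _ _ N.isOpen hN N'.isOpen hN') U.isOpen hU
    obtain ⟨V₂, hV₂, h, hV₂le, hz⟩ := injPO 𝒱 F (V ⊓ V') hV₁ ((N ⊓ N') ⊓ U) hQ
      ((((V ⊓ V') ⊓ N) ⊓ U) ⊓ (((V ⊓ V') ⊓ N') ⊓ U))
      (fun z hzT hzQ => ⟨⟨⟨hTmem z hzT _ hV₁, hzQ.1.1⟩, hzQ.2⟩, ⟨⟨hTmem z hzT _ hV₁, hzQ.1.2⟩, hzQ.2⟩⟩)
      (rs F inf_le_left (rs F hA s) - rs F inf_le_right (rs F hB s'))
      (by
        have e1 : ηs (incl 𝒱.T) F _ (rs F (inf_le_left : (((V ⊓ V') ⊓ N) ⊓ U) ⊓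
            (((V ⊓ V') ⊓ N') ⊓ U) ≤ _) (rs F hA s)) = rs ((CohTop.pull (incl 𝒱.T)).obj F)
            (map_mono (incl 𝒱.T) (inf_le_left.trans inf_le_right)) t := by
          rw [ηs_rs, hsA, rs_rs]
        have e2 : ηs (incl 𝒱.T) F _ (rs F (inf_le_right : (((V ⊓ V') ⊓ N) ⊓ U) ⊓
            (((V ⊓ V') ⊓ N') ⊓ U) ≤ _) (rs F hB s')) = rs ((CohTop.pull (incl 𝒱.T)).obj F)
            (map_mono (incl 𝒱.T) (inf_le_left.trans inf_le_right)) t := by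
          rw [ηs_rs, hsB, rs_rs]
        rw [map_sub, e1, e2, sub_self])
    have hA' : (V₂ ⊓ N) ⊓ U ≤ ((V ⊓ V') ⊓ N) ⊓ U := inf_le_inf_right U (inf_le_inf_right N hV₂le)
    have hB' : (V₂ ⊓ N') ⊓ U ≤ ((V ⊓ V') ⊓ N') ⊓ U := inf_le_inf_right U (inf_le_inf_right N' hV₂le)
    have hAB' : ((V₂ ⊓ N) ⊓ U) ⊓ ((V₂ ⊓ N') ⊓ U) ≤ V₂ ⊓ ((N ⊓ N') ⊓ U) :=
      le_inf (inf_le_left.trans (inf_le_left.trans inf_le_left))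
        (le_inf (le_inf (inf_le_left.trans (inf_le_left.trans inf_le_right))
          (inf_le_right.trans (inf_le_left.trans inf_le_right))) (inf_le_left.trans inf_le_right))
    have hab : rs F (inf_le_left : ((V₂ ⊓ N) ⊓ U) ⊓ ((V₂ ⊓ N') ⊓ U) ≤ _) (rs F hA' (rs F hA s)) =
        rs F inf_le_right (rs F hB' (rs F hB s')) := by
      have h1 := congrArg (rs F hAB') hz
      rw [map_zero, rs_rs, map_sub, sub_eq_zero] at h1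
      simp only [rs_rs] at h1 ⊢
      exact h1
    have hCA : (V₂ ⊓ N) ⊓ U ≤ (V₂ ⊓ (N ⊔ N')) ⊓ U :=
      inf_le_inf_right U (inf_le_inf_left V₂ le_sup_left)
    have hCB : (V₂ ⊓ N') ⊓ U ≤ (V₂ ⊓ (N ⊔ N')) ⊓ U :=
      inf_le_inf_right U (inf_le_inf_left V₂ le_sup_right)
    have hC : (V₂ ⊓ (N ⊔ N')) ⊓ U ≤ ((V₂ ⊓ N) ⊓ U) ⊔ ((V₂ ⊓ N') ⊓ U) := by
      rintro x ⟨⟨hx1, hx2 | hx2⟩, hx3⟩
      · exact Or.inl ⟨⟨hx1, hx2⟩, hx3⟩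
      · exact Or.inr ⟨⟨hx1, hx2⟩, hx3⟩
    obtain ⟨c, hca, hcb⟩ := Groth.Agent.Lib.Helper16.SectSupp.glue2 F _ _ _ hCA hCB hC _ _ hab
    refine ⟨V₂, hV₂, c, ?_⟩
    refine TopCat.Sheaf.eq_of_locally_eq₂ ((CohTop.pull (incl 𝒱.T)).obj F)
      (homOfLE (map_mono (incl 𝒱.T) hCA)) (homOfLE (map_mono (incl 𝒱.T) hCB)) ?_ _ _ ?_ ?_
    · rintro x ⟨⟨hx1, hx2 | hx2⟩, hx3⟩
      · exact Or.inl ⟨⟨hx1, hx2⟩, hx3⟩
      · exact Or.inr ⟨⟨hx1, hx2⟩, hx3⟩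
    · change rs _ (map_mono (incl 𝒱.T) hCA) (ηs (incl 𝒱.T) F _ c) = rs _ (map_mono (incl 𝒱.T) hCA) (rs _ _ t)
      have hca' : rs F hCA c = rs F hA' (rs F hA s) := hca
      rw [← ηs_rs (incl 𝒱.T) F hCA c, hca', ηs_rs, hsA]
      rw [rs_rs, rs_rs]
    · change rs _ (map_mono (incl 𝒱.T) hCB) (ηs (incl 𝒱.T) F _ c) = rs _ (map_mono (incl 𝒱.T) hCB) (rs _ _ t)
      have hcb' : rs F hCB c = rs F hB' (rs F hB s') := hcb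
      rw [← ηs_rs (incl 𝒱.T) F hCB c, hcb', ηs_rs, hsB]
      rw [rs_rs, rs_rs]
  -- local lifts
  have hloc : ∀ z : {z : X // z ∈ 𝒱.T ∧ z ∈ U}, ∃ N : Opens X, IsCompact (N : Set X) ∧ z.1 ∈ N ∧ PN N := by
    rintro ⟨z, hzT, hzU⟩
    obtain ⟨N₀, hN₀, hzN₀, s₀, hs₀⟩ := exists_local_lift_sub 𝒱.T F U t z hzT hzU
    obtain ⟨N, ⟨hNo, hNc⟩, hzN, hNsub⟩ :=
      PrespectralSpace.isTopologicalBasis.exists_subset_of_mem_open hzN₀ N₀.isOpen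
    refine ⟨⟨N, hNo⟩, hNc, hzN, V₀, hV₀, rs F (inf_le_left.trans (inf_le_right.trans hNsub)) s₀, ?_⟩
    rw [ηs_rs, hs₀, rs_rs]
  choose N hNc hzN hPN using hloc
  obtain ⟨_, ⟨V₁, hV₁, rfl⟩, hdis⟩ := exists_disjoint_of_iInter (𝒱.restr U hU).S
    ⟨V₀ ⊓ U, V₀, hV₀, rfl⟩ (𝒱.restr U hU).qc (𝒱.restr U hU).inf_mem (((⨆ z, N z : Opens X) : Set X)ᶜ)
    (⨆ z, N z).isOpen.isClosed_compl (by
      intro x hx hxO
      have hxT : x ∈ 𝒱.T := fun V hV => (hx (V ⊓ U) ⟨V, hV, rfl⟩).1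
      have hxU : x ∈ U := (hx (V₀ ⊓ U) ⟨V₀, hV₀, rfl⟩).2
      exact hxO (Opens.mem_iSup.mpr ⟨⟨x, hxT, hxU⟩, hzN _⟩))
  have hcov : ∃ M : Opens X, IsCompact (M : Set X) ∧ ((V₁ ⊓ U : Opens X) : Set X) ⊆ M ∧ PN M := by
    refine ((𝒱.restr U hU).qc (V₁ ⊓ U) ⟨V₁, hV₁, rfl⟩).induction_on
      (p := fun S => ∃ M : Opens X, IsCompact (M : Set X) ∧ S ⊆ M ∧ PN M) ?_ ?_ ?_ ?_
    · exact ⟨⊥, by simp, by simp, P_bot⟩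
    · rintro s t hst ⟨M, hM, htM, hP⟩
      exact ⟨M, hM, hst.trans htM, hP⟩
    · rintro s t ⟨M, hM, hsM, hP⟩ ⟨M', hM', htM', hP'⟩
      refine ⟨M ⊔ M', ?_, ?_, P_sup M M' hM hM' hP hP'⟩
      · rw [Opens.coe_sup]
        exact hM.union hM'
      · rw [Opens.coe_sup]
        exact Set.union_subset_union hsM htM'
    · intro x hx
      have hxO : x ∈ (⨆ z, N z : Opens X) := by
        by_contra hC
        exact hdis x hx hC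
      obtain ⟨z, hxz⟩ := Opens.mem_iSup.mp hxO
      exact ⟨N z, mem_nhdsWithin_of_mem_nhds ((N z).isOpen.mem_nhds hxz), N z, hNc z, subset_rfl, hPN z⟩
  obtain ⟨M, -, hVM, V, hV, s, hs⟩ := hcov
  have hV' : (V₀ ⊓ V) ⊓ V₁ ∈ 𝒱.S := 𝒱.inf_mem _ (𝒱.inf_mem V₀ hV₀ V hV) V₁ hV₁
  have hle : ((V₀ ⊓ V) ⊓ V₁) ⊓ U ≤ (V ⊓ M) ⊓ U := by
    rintro x ⟨⟨⟨-, hx2⟩, hx3⟩, hx4⟩
    exact ⟨⟨hx2, hVM ⟨hx3, hx4⟩⟩, hx4⟩
  refine ⟨(V₀ ⊓ V) ⊓ V₁, hV', rs F hle s, inf_le_left.trans inf_le_left, ?_⟩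
  rw [ηs_rs, hs, rs_rs]

end Groth.Agent.Lib.Helper19Pull
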