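import Mathlib
import Groth.Prelude.Def_LocCohZ
import Groth.Agent.Lib.Helper19PullB
import Groth.Agent.Lib.Helper16SectSupp
import Groth.Agent.Lib.Helper16Flasque
import Groth.Agent.Lib.Helper23AffVanish7

/-!
# Sheaves whose sections extend from the members of a basis of quasi-compact opens are acyclic (helper19)

`𝒦` a family of quasi-compact opens of `Z`, containing `⊤`, `⊥`, closed under `⊓`, `⊔` and forming a basis.
A sheaf `G` is `QCF` if `G(Z) → G(W)` is surjective for `W ∈ 𝒦`.  Such sheaves have `H^{n+1}(Z, G) = 0`.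
-/

set_option autoImplicit false
universe u
open CategoryTheory CategoryTheory.Limits Opposite TopologicalSpace TopCat Abelian

namespace Groth.Agent.Lib.Helper19Pull

open Groth.Agent.Lib.Helper23.AffVanish

/-- a basis of quasi-compact opens, stable under finite intersections and unions. -/
structure GoodBasis (Z : TopCat.{u}) where
  K : Set (Opens Z)
  top_mem : ⊤ ∈ K
  bot_mem : ⊥ ∈ K
  inf_mem : ∀ W W', W ∈ K → W' ∈ K → W ⊓ W' ∈ K
  sup_mem : ∀ W W', W ∈ K → W' ∈ K → W ⊔ W' ∈ K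
  compact : ∀ W ∈ K, IsCompact (W : Set Z)
  basis : ∀ (O : Opens Z) (z : Z), z ∈ O → ∃ W ∈ K, z ∈ W ∧ W ≤ O

variable {Z : TopCat.{u}} (𝒦 : GoodBasis Z)

/-- sections extend from the members of `𝒦` to the whole space. -/
def QCF (G : CohTop.Ab Z) : Prop :=
  ∀ W ∈ 𝒦.K, Function.Surjective (rs G (le_top : W ≤ ⊤))

lemma QCF.extend {G : CohTop.Ab Z} (hG : QCF 𝒦 G) {W W' : Opens Z} (hW : W ∈ 𝒦.K) (h : W ≤ W')
    (s : G.obj.obj (op W)) : ∃ s' : G.obj.obj (op W'), rs G h s' = s := by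
  obtain ⟨s₀, hs₀⟩ := hG W hW s
  exact ⟨rs G le_top s₀, by rw [rs_rs]; exact hs₀⟩

/-- the key lemma: sections over members of `𝒦` lift along an epimorphism with `QCF` kernel. -/
theorem exists_lift_of_QCF (S : ShortComplex (CohTop.Ab Z)) (hS : S.ShortExact) (h1 : QCF 𝒦 S.X₁)
    (W : Opens Z) (hW : W ∈ 𝒦.K) (t : S.X₃.obj.obj (op W)) :
    ∃ s : S.X₂.obj.obj (op W), (S.g.hom.app (op W)).hom s = t := by
  let PN : Opens Z → Prop := fun N => ∃ (hN : N ≤ W) (s : S.X₂.obj.obj (op N)),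
    (S.g.hom.app (op N)).hom s = rs S.X₃ hN t
  have hgf : ∀ (N : Opens Z) (e : S.X₁.obj.obj (op N)),
      (S.g.hom.app (op N)).hom ((S.f.hom.app (op N)).hom e) = 0 := by
    intro N e
    have := congrArg (fun φ => (φ.hom.app (op N)).hom e) S.zero
    exact this
  have P_bot : PN ⊥ := by
    refine ⟨bot_le, 0, ?_⟩
    have := Groth.Agent.Lib.Helper16.ClosedEmb.subsingleton_of_eq_bot S.X₃ (rfl : (⊥ : Opens Z) = ⊥)
    exact Subsingleton.elim _ _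
  have P_sup : ∀ N N' : Opens Z, N ∈ 𝒦.K → N' ∈ 𝒦.K → PN N → PN N' → PN (N ⊔ N') := by
    rintro N N' hN hN' ⟨hNW, s, hs⟩ ⟨hNW', s', hs'⟩
    have hd : (S.g.hom.app (op (N ⊓ N'))).hom
        (rs S.X₂ inf_le_left s - rs S.X₂ inf_le_right s') = 0 := by
      rw [map_sub, map_rs, map_rs, hs, hs', rs_rs, rs_rs, sub_self]
    obtain ⟨e, he⟩ := Groth.Agent.Lib.Helper16.SectSupp.exists_of_isKernel S hS (N ⊓ N') _ hd
    obtain ⟨e', he'⟩ := h1.extend 𝒦 (𝒦.inf_mem N N' hN hN') (inf_le_right : N ⊓ N' ≤ N') e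
    have hab : S.X₂.obj.map (homOfLE (inf_le_left : N ⊓ N' ≤ N)).op s =
        S.X₂.obj.map (homOfLE (inf_le_right : N ⊓ N' ≤ N')).op (s' + (S.f.hom.app (op N')).hom e') := by
      change rs S.X₂ inf_le_left s = rs S.X₂ inf_le_right (s' + (S.f.hom.app (op N')).hom e')
      rw [map_add, ← map_rs, he']
      have he2 : (S.f.hom.app (op (N ⊓ N'))).hom e =
          rs S.X₂ inf_le_left s - rs S.X₂ inf_le_right s' := he
      rw [he2]
      abel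
    obtain ⟨c, hca, hcb⟩ := Groth.Agent.Lib.Helper16.SectSupp.glue2 S.X₂ N N' (N ⊔ N') le_sup_left
      le_sup_right le_rfl _ _ hab
    refine ⟨sup_le hNW hNW', c, ?_⟩
    refine TopCat.Sheaf.eq_of_locally_eq₂ S.X₃ (homOfLE (le_sup_left : N ≤ N ⊔ N'))
      (homOfLE (le_sup_right : N' ≤ N ⊔ N')) le_rfl _ _ ?_ ?_
    · change rs S.X₃ le_sup_left ((S.g.hom.app (op (N ⊔ N'))).hom c) = rs S.X₃ le_sup_left (rs S.X₃ _ t)
      have hca' : rs S.X₂ le_sup_left c = s := hca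
      rw [← map_rs, hca', hs, rs_rs]
    · change rs S.X₃ le_sup_right ((S.g.hom.app (op (N ⊔ N'))).hom c) = rs S.X₃ le_sup_right (rs S.X₃ _ t)
      have hcb' : rs S.X₂ le_sup_right c = s' + (S.f.hom.app (op N')).hom e' := hcb
      rw [← map_rs, hcb', map_add, hgf, add_zero, hs', rs_rs]
  have hepi : Epi S.g := hS.epi_g
  have hloc : ∀ z : W, ∃ N : Opens Z, N ∈ 𝒦.K ∧ z.1 ∈ N ∧ PN N := by
    rintro ⟨z, hz⟩
    obtain ⟨V', hV', ⟨s, hs⟩, hzV'⟩ :=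
      (Groth.Agent.Lib.Helper16.ClosedEmb.locSurj_iff S.g).1 hepi W t z hz
    obtain ⟨N, hN, hzN, hNV'⟩ := 𝒦.basis V' z hzV'
    refine ⟨N, hN, hzN, hNV'.trans hV', rs S.X₂ hNV' s, ?_⟩
    have hs' : (S.g.hom.app (op V')).hom s = rs S.X₃ hV' t := hs
    rw [map_rs, hs', rs_rs]
  choose N hNK hzN hPN using hloc
  have hcov : ∃ M : Opens Z, M ∈ 𝒦.K ∧ ((W : Opens Z) : Set Z) ⊆ M ∧ PN M := by
    refine (𝒦.compact W hW).induction_on
      (p := fun A => ∃ M : Opens Z, M ∈ 𝒦.K ∧ A ⊆ M ∧ PN M) ?_ ?_ ?_ ?_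
    · exact ⟨⊥, 𝒦.bot_mem, by simp, P_bot⟩
    · rintro a b hab ⟨M, hM, hbM, hP⟩
      exact ⟨M, hM, hab.trans hbM, hP⟩
    · rintro a b ⟨M, hM, haM, hP⟩ ⟨M', hM', hbM', hP'⟩
      refine ⟨M ⊔ M', 𝒦.sup_mem M M' hM hM', ?_, P_sup M M' hM hM' hP hP'⟩
      rw [Opens.coe_sup]
      exact Set.union_subset_union haM hbM'
    · intro x hx
      exact ⟨N ⟨x, hx⟩, mem_nhdsWithin_of_mem_nhds ((N ⟨x, hx⟩).isOpen.mem_nhds (hzN ⟨x, hx⟩)),
        N ⟨x, hx⟩, hNK _, subset_rfl, hPN _⟩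
  obtain ⟨M, -, hWM, hMW, s, hs⟩ := hcov
  have hle : W ≤ M := hWM
  refine ⟨rs S.X₂ hle s, ?_⟩
  rw [map_rs, hs, rs_rs, rs_self]

lemma qcf_of_flasque (G : CohTop.Ab Z) [TopCat.Sheaf.IsFlasque G] : QCF 𝒦 G := by
  intro W _
  have hfl : Epi (G.obj.map (homOfLE (le_top : W ≤ ⊤)).op) := TopCat.Presheaf.IsFlasque.epi _
  rw [AddCommGrpCat.epi_iff_surjective] at hfl
  exact hfl

lemma qcf_of_shortExact (S : ShortComplex (CohTop.Ab Z)) (hS : S.ShortExact) (h1 : QCF 𝒦 S.X₁)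
    (h2 : QCF 𝒦 S.X₂) : QCF 𝒦 S.X₃ := by
  intro W hW t
  obtain ⟨s, hs⟩ := exists_lift_of_QCF 𝒦 S hS h1 W hW t
  obtain ⟨s', hs'⟩ := h2 W hW s
  refine ⟨(S.g.hom.app (op ⊤)).hom s', ?_⟩
  rw [← map_rs, hs', hs]

/-- `QCF` sheaves are acyclic. -/
theorem ext_eq_zero_of_QCF (G : CohTop.Ab Z) (hG : QCF 𝒦 G) (n : ℕ)
    (y : HE G (n + 1) (⊤ : Opens Z)) : y = 0 := by
  refine Groth.Agent.Lib.Helper16.Flasque.ext_vanish (fun G : CohTop.Ab Z => QCF 𝒦 G)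
    (ZU (⊤ : Opens Z))
    (fun I hI => by
      haveI := Groth.Agent.Lib.Helper16.Flasque.injective_isFlasque I
      exact qcf_of_flasque 𝒦 I)
    (fun S hS h1 h2 => qcf_of_shortExact 𝒦 S hS h1 h2)
    (fun S hS h1 x => ?_) n G hG y
  obtain ⟨s, hs⟩ := exists_lift_of_QCF 𝒦 S hS h1 ⊤ 𝒦.top_mem (CohFree.evalGen _ ⊤ S.X₃ x)
  refine ⟨CohFree.ofSect _ ⊤ S.X₂ s, ?_⟩
  apply (CohFree.homEquivSect _ ⊤ S.X₃).injective
  rw [CohFree.homEquivSect_apply, CohFree.homEquivSect_apply, ← hs]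
  change (S.g.hom.app (op ⊤)).hom (CohFree.evalGen _ ⊤ S.X₂ (CohFree.ofSect _ ⊤ S.X₂ s)) = _
  rw [CohFree.evalGen_ofSect]

end Groth.Agent.Lib.Helper19Pull
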