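import Mathlib
import Groth.Prelude.Def_LocCohZ
import Groth.Agent.Lib.Helper19PullC
import Groth.Agent.Lib.Helper19PullF
import Groth.Agent.Lib.Helper19PullG

/-!
# Cohomology of a pro-open of a spectral space as a colimit (helper19)
-/

set_option autoImplicit false
universe u
open CategoryTheory CategoryTheory.Limits Opposite TopologicalSpace TopCat Abelian

namespace Groth.Agent.Lib.Helper19Pull

open Groth.Agent.Lib.Helper19Spec Groth.Agent.Lib.Helper23.AffVanish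

variable {X : TopCat.{u}} [SpectralSpace X] (𝒱 : PO X)

lemma isCompact_T_inter (hne : 𝒱.S.Nonempty) (U : Opens X) (hU : IsCompact (U : Set X)) :
    IsCompact (𝒱.T ∩ (U : Set X)) := by
  apply isCompact_of_finite_subcover
  intro ι O hO hcov
  obtain ⟨V₀, hV₀⟩ := hne
  obtain ⟨_, ⟨V, hV, rfl⟩, hdis⟩ := exists_disjoint_of_iInter (𝒱.restr U hU).S
    ⟨V₀ ⊓ U, V₀, hV₀, rfl⟩ (𝒱.restr U hU).qc (𝒱.restr U hU).inf_mem ((⋃ i, O i)ᶜ)
    (isOpen_iUnion hO).isClosed_compl (by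
      intro x hx hxO
      apply hxO
      apply hcov
      exact ⟨fun W hW => (hx (W ⊓ U) ⟨W, hW, rfl⟩).1, (hx (V₀ ⊓ U) ⟨V₀, hV₀, rfl⟩).2⟩)
  have hc : IsCompact ((V ⊓ U : Opens X) : Set X) := (𝒱.restr U hU).qc _ ⟨V, hV, rfl⟩
  obtain ⟨t, ht⟩ := hc.elim_finite_subcover O hO (fun x hx => by
    by_contra h
    exact hdis x hx h)
  exact ⟨t, fun x hx => ht ⟨hx.1 V hV, hx.2⟩⟩

/-- the basis of `T` given by the traces of the quasi-compact opens. -/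
noncomputable def goodBasisT (hne : 𝒱.S.Nonempty) : GoodBasis (TopCat.of 𝒱.T) where
  K := {W | ∃ U : Opens X, IsCompact (U : Set X) ∧ W = (Opens.map (incl 𝒱.T)).obj U}
  top_mem := ⟨⊤, isCompact_univ, rfl⟩
  bot_mem := ⟨⊥, by simp, rfl⟩
  inf_mem := by
    rintro _ _ ⟨U, hU, rfl⟩ ⟨U', hU', rfl⟩
    exact ⟨U ⊓ U', QuasiSeparatedSpace.inter_isCompact _ _ U.isOpen hU U'.isOpen hU', rfl⟩
  sup_mem := by
    rintro _ _ ⟨U, hU, rfl⟩ ⟨U', hU', rfl⟩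
    refine ⟨U ⊔ U', ?_, rfl⟩
    rw [Opens.coe_sup]
    exact hU.union hU'
  compact := by
    rintro _ ⟨U, hU, rfl⟩
    rw [Subtype.isCompact_iff]
    convert isCompact_T_inter 𝒱 hne U hU using 1
    ext x
    constructor
    · rintro ⟨z, hz, rfl⟩
      exact ⟨z.2, hz⟩
    · rintro ⟨hxT, hxU⟩
      exact ⟨⟨x, hxT⟩, hxU, rfl⟩
  basis := by
    intro O z hz
    obtain ⟨O', hO', hOO'⟩ := isOpen_induced_iff.1 O.isOpen
    have hz' : z.1 ∈ O' := by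
      have : z ∈ Subtype.val ⁻¹' O' := by rw [hOO']; exact hz
      exact this
    obtain ⟨N, ⟨hNo, hNc⟩, hzN, hNsub⟩ :=
      PrespectralSpace.isTopologicalBasis.exists_subset_of_mem_open hz' hO'
    refine ⟨(Opens.map (incl 𝒱.T)).obj ⟨N, hNo⟩, ⟨⟨N, hNo⟩, hNc, rfl⟩, hzN, ?_⟩
    intro w hw
    have : w ∈ Subtype.val ⁻¹' O' := hNsub hw
    rw [hOO'] at this
    exact this

lemma T_subset (V : Opens X) (hV : V ∈ 𝒱.S) : 𝒱.T ⊆ (V : Set X) := fun _ hx => hx V hV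

/-- the inverse image on `T` of a flasque sheaf is `QCF`. -/
theorem qcf_pull (hne : 𝒱.S.Nonempty) (I : CohTop.Ab X) [TopCat.Sheaf.IsFlasque I] :
    QCF (goodBasisT 𝒱 hne) ((CohTop.pull (incl 𝒱.T)).obj I) := by
  rintro _ ⟨U, hU, rfl⟩ t
  obtain ⟨V₀, hV₀⟩ := hne
  obtain ⟨V, hV, s, -, hs⟩ := surjPO 𝒱 I V₀ hV₀ U hU t
  have hfl : Epi (I.obj.map (homOfLE (le_top : V ⊓ U ≤ ⊤)).op) := TopCat.Presheaf.IsFlasque.epi _
  rw [AddCommGrpCat.epi_iff_surjective] at hfl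
  obtain ⟨s', hs'⟩ := hfl s
  have hs'' : rs I (le_top : V ⊓ U ≤ ⊤) s' = s := hs'
  have htop : (⊤ : Opens (TopCat.of 𝒱.T)) ≤ (Opens.map (incl 𝒱.T)).obj (⊤ : Opens X) :=
    fun _ _ => trivial
  refine ⟨rs ((CohTop.pull (incl 𝒱.T)).obj I) htop (ηs (incl 𝒱.T) I ⊤ s'), ?_⟩
  have h1 : (Opens.map (incl 𝒱.T)).obj U ≤ (Opens.map (incl 𝒱.T)).obj (V ⊓ U) :=
    fun z hz => ⟨T_subset 𝒱 V hV z.2, hz⟩
  have h2 : (Opens.map (incl 𝒱.T)).obj (V ⊓ U) ≤ (Opens.map (incl 𝒱.T)).obj U :=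
    map_mono (incl 𝒱.T) inf_le_right
  have key : rs ((CohTop.pull (incl 𝒱.T)).obj I) h2 (rs ((CohTop.pull (incl 𝒱.T)).obj I) le_top
      (rs ((CohTop.pull (incl 𝒱.T)).obj I) htop (ηs (incl 𝒱.T) I ⊤ s'))) =
      rs ((CohTop.pull (incl 𝒱.T)).obj I) h2 t := by
    rw [← hs, ← hs'', ηs_rs, rs_rs, rs_rs]
  have e1 : rs ((CohTop.pull (incl 𝒱.T)).obj I) h1 (rs ((CohTop.pull (incl 𝒱.T)).obj I) h2 t) = t := by
    rw [rs_rs, rs_self]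
  have e2 : rs ((CohTop.pull (incl 𝒱.T)).obj I) h1 (rs ((CohTop.pull (incl 𝒱.T)).obj I) h2
      (rs ((CohTop.pull (incl 𝒱.T)).obj I) le_top
        (rs ((CohTop.pull (incl 𝒱.T)).obj I) htop (ηs (incl 𝒱.T) I ⊤ s')))) =
      rs ((CohTop.pull (incl 𝒱.T)).obj I) le_top
        (rs ((CohTop.pull (incl 𝒱.T)).obj I) htop (ηs (incl 𝒱.T) I ⊤ s')) := by
    rw [rs_rs (h := le_top) (h' := h2), rs_rs (h' := h1)]
  exact e2.symm.trans ((congrArg (rs ((CohTop.pull (incl 𝒱.T)).obj I) h1) key).trans e1)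

variable (P : Opens X → Prop) (hPS : ∀ V, P V ↔ V ∈ 𝒱.S)

include hPS in
lemma inj0_PO (F : CohTop.Ab X) : Inj0 𝒱.T P F := by
  intro V hV s hs
  obtain ⟨V', hV', h, hle, hz⟩ := injPO 𝒱 F V ((hPS V).1 hV) ⊤ isCompact_univ V
    (fun z hzT _ => hzT V ((hPS V).1 hV)) s hs
  refine ⟨V', (hPS V').2 hV', hle, ?_⟩
  have := congrArg (rs F (le_inf le_rfl le_top : V' ≤ V' ⊓ ⊤)) hz
  rw [rs_rs, map_zero] at this
  exact this

include hPS in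
lemma surj0_PO (F : CohTop.Ab X) : Surj0 𝒱.T P F := by
  intro t V₀ hV₀
  have htop : (Opens.map (incl 𝒱.T)).obj (⊤ : Opens X) ≤ (⊤ : Opens (TopCat.of 𝒱.T)) :=
    fun _ _ => trivial
  obtain ⟨V, hV, s, hle, hs⟩ := surjPO 𝒱 F V₀ ((hPS V₀).1 hV₀) ⊤ isCompact_univ
    (rs ((CohTop.pull (incl 𝒱.T)).obj F) htop t)
  refine ⟨V, (hPS V).2 hV, hle, rs F (le_inf le_rfl le_top : V ≤ V ⊓ ⊤) s, ?_⟩
  rw [ηs_rs, hs, rs_rs, rs_rs]

include hPS in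
/-- **Cohomology of a pro-open as a colimit.** -/
theorem nonempty_addEquiv_PO (hne : 𝒱.S.Nonempty) (F : CohTop.Ab X) (p : ℕ) :
    Nonempty ((colimit ((OP P).ι ⋙ (Sheaf.cohomologyPresheafFunctor (J X) p).obj F) :
        AddCommGrpCat.{u}) ≃+ CohTop.H ((CohTop.pull (incl 𝒱.T)).obj F) p) := by
  refine nonempty_addEquiv 𝒱.T P (fun V hV => T_subset 𝒱 V ((hPS V).1 hV))
    (fun V V' hV hV' => (hPS _).2 (𝒱.inf_mem V ((hPS V).1 hV) V' ((hPS V').1 hV')))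
    (by obtain ⟨V₀, hV₀⟩ := hne; exact ⟨V₀, (hPS V₀).2 hV₀⟩)
    (fun F => inj0_PO 𝒱 P hPS F) (fun F => surj0_PO 𝒱 P hPS F) ?_ F p
  intro I hI n y
  have := Groth.Agent.Lib.Helper16.Flasque.injective_isFlasque I
  exact ext_eq_zero_of_QCF (goodBasisT 𝒱 hne) _ (qcf_pull 𝒱 hne I) n y

end Groth.Agent.Lib.Helper19Pull
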