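import Mathlib
import Groth.Prelude.Def_PP16
import Groth.Agent.S3824

/-!
# Quasi-regular charts at the level of the ring (helper19)

For an ideal `J` of a ring `R`, an element `g` and a finite family `z` of elements of `R`, the predicate
`IsChart J g z` is the "shadow" in `R` of the statement "the images of the `z i` form a quasi-regular
sequence generating `J` in `R[1/g]`".  We prove both translations.
-/

set_option autoImplicit false
universe u

namespace Groth.Agent.Lib.Helper19.QRegChart

open MvPolynomial

variable {R : Type u} [CommRing R] (J : Ideal R)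

/-- the `R`-level shadow of "the `z i` are a quasi-regular system of generators of `J` in `R[1/g]`" -/
structure IsChart (g : R) {r : ℕ} (z : Fin r → R) : Prop where
  mem : ∀ i, z i ∈ J
  gen : ∀ y ∈ J, ∃ l : ℕ, g ^ l * y ∈ Ideal.span (Set.range z)
  qr : ∀ (n : ℕ) (Q : MvPolynomial (Fin r) R), Q.IsHomogeneous n → eval z Q ∈ J ^ (n + 1) →
    ∀ d, ∃ l : ℕ, g ^ l * Q.coeff d ∈ J

variable {J}

section transfer

variable (g : R) {r : ℕ} (z : Fin r → R)

local notation "S" => Localization.Away g
local notation "φ" => algebraMap R (Localization.Away g)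

theorem isUnit_pow (l : ℕ) : IsUnit ((algebraMap R (Localization.Away g)) (g ^ l)) :=
  IsLocalization.map_units (Localization.Away g) (⟨g ^ l, l, rfl⟩ : Submonoid.powers g)

theorem span_range_comp :
    Ideal.span (Set.range (fun i => algebraMap R (Localization.Away g) (z i))) =
      (Ideal.span (Set.range z)).map (algebraMap R (Localization.Away g)) := by
  rw [Ideal.map_span]
  congr 1
  ext y
  constructor
  · rintro ⟨i, rfl⟩; exact ⟨z i, ⟨i, rfl⟩, rfl⟩
  · rintro ⟨_, ⟨i, rfl⟩, rfl⟩; exact ⟨i, rfl⟩

theorem eval_map_comp (Q : MvPolynomial (Fin r) R) :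
    eval (fun i => algebraMap R (Localization.Away g) (z i))
      (map (algebraMap R (Localization.Away g)) Q) =
      algebraMap R (Localization.Away g) (eval z Q) := by
  rw [eval_map]
  have := eval₂_comp_left (algebraMap R (Localization.Away g)) (RingHom.id R) z Q
  rw [RingHom.comp_id] at this
  exact this.symm

/-- from a chart to a quasi-regular system of generators in the localization -/
theorem IsChart.span_eq (h : IsChart J g z) :
    Ideal.span (Set.range (fun i => algebraMap R (Localization.Away g) (z i))) =
      J.map (algebraMap R (Localization.Away g)) := by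
  rw [span_range_comp]
  apply le_antisymm
  · apply Ideal.map_mono
    rw [Ideal.span_le]
    rintro _ ⟨i, rfl⟩
    exact h.mem i
  · rw [Ideal.map_le_iff_le_comap]
    intro y hy
    obtain ⟨l, hl⟩ := h.gen y hy
    rw [Ideal.mem_comap]
    have h1 := Ideal.mem_map_of_mem (algebraMap R (Localization.Away g)) hl
    rw [map_mul] at h1
    exact (Ideal.unit_mul_mem_iff_mem _ (isUnit_pow g l)).1 h1

/-- clearing denominators of a polynomial over the localization -/
theorem exists_clear_denominators (n : ℕ) (P : MvPolynomial (Fin r) (Localization.Away g))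
    (hP : P.IsHomogeneous n) :
    ∃ (k : ℕ) (Q : MvPolynomial (Fin r) R), Q.IsHomogeneous n ∧
      map (algebraMap R (Localization.Away g)) Q =
        C (algebraMap R (Localization.Away g) (g ^ k)) * P := by
  classical
  obtain ⟨b, hb⟩ := IsLocalization.exist_integer_multiples (Submonoid.powers g) P.support P.coeff
  obtain ⟨b, k, rfl⟩ := b
  choose! c hc using hb
  refine ⟨k, ∑ d ∈ P.support, monomial d (c d), ?_, ?_⟩
  · apply IsHomogeneous.sum
    intro d hd
    apply isHomogeneous_monomial
    rw [Finsupp.degree_eq_weight_one]
    exact hP (mem_support_iff.1 hd)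
  · rw [map_sum]
    conv_rhs => rw [← support_sum_monomial_coeff P, Finset.mul_sum]
    refine Finset.sum_congr rfl fun d hd => ?_
    rw [map_monomial, C_mul_monomial, hc d hd]
    congr 1
    change g ^ k • P.coeff d = _
    rw [Algebra.smul_def]

/-- from a chart to a quasi-regular sequence in the localization -/
theorem IsChart.isQuasiRegular (h : IsChart J g z) :
    CAlgX.IsQuasiRegular (fun i => algebraMap R (Localization.Away g) (z i)) := by
  intro n P hP hmem d
  rw [h.span_eq] at hmem ⊢
  rw [← Ideal.map_pow] at hmem
  obtain ⟨k, Q, hQ, hQP⟩ := exists_clear_denominators g n P hP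
  have h1 : algebraMap R (Localization.Away g) (eval z Q) ∈
      (J ^ (n + 1)).map (algebraMap R (Localization.Away g)) := by
    rw [← eval_map_comp, hQP, map_mul, eval_C]
    exact Ideal.mul_mem_left _ _ hmem
  obtain ⟨m, ⟨k', rfl⟩, hm⟩ := (IsLocalization.algebraMap_mem_map_algebraMap_iff
    (Submonoid.powers g) (Localization.Away g) _ _).1 h1
  have hQ' : (C (g ^ k') * Q).IsHomogeneous n := by
    have := (isHomogeneous_C (Fin r) (g ^ k')).mul hQ
    rwa [zero_add] at this
  have hev : eval z (C (g ^ k') * Q) ∈ J ^ (n + 1) := by
    rw [map_mul, eval_C]; exact hm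
  obtain ⟨l, hl⟩ := h.qr n _ hQ' hev d
  rw [coeff_C_mul] at hl
  have h2 : algebraMap R (Localization.Away g) (Q.coeff d) ∈
      J.map (algebraMap R (Localization.Away g)) := by
    have := Ideal.mem_map_of_mem (algebraMap R (Localization.Away g)) hl
    rw [← mul_assoc, ← pow_add, map_mul] at this
    exact (Ideal.unit_mul_mem_iff_mem _ (isUnit_pow g _)).1 this
  have h3 : algebraMap R (Localization.Away g) (Q.coeff d) =
      algebraMap R (Localization.Away g) (g ^ k) * P.coeff d := by
    have := congrArg (coeff d) hQP
    rwa [coeff_map, coeff_C_mul] at this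
  rw [h3] at h2
  exact (Ideal.unit_mul_mem_iff_mem _ (isUnit_pow g k)).1 h2

/-- from a quasi-regular system of generators in the localization to a chart -/
theorem exists_isChart_of_isQuasiRegular (f : Fin r → Localization.Away g)
    (hf : CAlgX.IsQuasiRegular f)
    (hspan : Ideal.span (Set.range f) = J.map (algebraMap R (Localization.Away g))) :
    ∃ z : Fin r → R, IsChart J g z := by
  have hmem : ∀ i, f i ∈ J.map (algebraMap R (Localization.Away g)) :=
    fun i => hspan ▸ Ideal.subset_span ⟨i, rfl⟩
  have := fun i => (IsLocalization.mem_map_algebraMap_iff (Submonoid.powers g)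
    (Localization.Away g)).1 (hmem i)
  choose x hx using this
  let z : Fin r → R := fun i => ((x i).1 : R)
  have hunit : ∀ i, IsUnit (algebraMap R (Localization.Away g) ((x i).2 : R)) :=
    fun i => IsLocalization.map_units (Localization.Away g) (x i).2
  have hspan' : Ideal.span (Set.range (fun i => algebraMap R (Localization.Away g) (z i))) =
      Ideal.span (Set.range f) := by
    apply le_antisymm
    · rw [Ideal.span_le]; rintro _ ⟨i, rfl⟩
      rw [SetLike.mem_coe]
      change algebraMap R (Localization.Away g) ((x i).1 : R) ∈ _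
      rw [← hx i]
      exact Ideal.mul_mem_right _ _ (Ideal.subset_span ⟨i, rfl⟩)
    · rw [Ideal.span_le]; rintro _ ⟨i, rfl⟩
      have : f i * algebraMap R (Localization.Away g) ((x i).2 : R) ∈
          Ideal.span (Set.range fun i => algebraMap R (Localization.Away g) (z i)) := by
        rw [hx i]; exact Ideal.subset_span ⟨i, rfl⟩
      exact (Ideal.mul_unit_mem_iff_mem _ (hunit i)).1 this
  have hq : CAlgX.IsQuasiRegular (fun i => algebraMap R (Localization.Away g) (z i)) :=
    Groth.Agent.S3824.Aux.QI.main f _ hf hspan'
  refine ⟨z, fun i => (x i).1.2, ?_, ?_⟩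
  · intro y hy
    have : algebraMap R (Localization.Away g) y ∈
        (Ideal.span (Set.range z)).map (algebraMap R (Localization.Away g)) := by
      rw [← span_range_comp, hspan', hspan]; exact Ideal.mem_map_of_mem _ hy
    obtain ⟨m, ⟨l, rfl⟩, hm⟩ := (IsLocalization.algebraMap_mem_map_algebraMap_iff
      (Submonoid.powers g) (Localization.Away g) _ _).1 this
    exact ⟨l, hm⟩
  · intro n Q hQ hev d
    have h1 := hq n (map (algebraMap R (Localization.Away g)) Q) (hQ.map _) (by
      rw [eval_map_comp, hspan', hspan, ← Ideal.map_pow]; exact Ideal.mem_map_of_mem _ hev) d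
    rw [coeff_map, hspan', hspan] at h1
    obtain ⟨m, ⟨l, rfl⟩, hm⟩ := (IsLocalization.algebraMap_mem_map_algebraMap_iff
      (Submonoid.powers g) (Localization.Away g) _ _).1 h1
    exact ⟨l, hm⟩

end transfer

end Groth.Agent.Lib.Helper19.QRegChart
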