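import Groth.Agent.Lib.Helper19QRegConv

/-!
# Local quasi-regularity from `FG + projective conormal module` and an abstract quasi-regularity
hypothesis on local coordinate systems (helper19)
-/

set_option autoImplicit false
set_option linter.style.haveILetI false
universe u

namespace Groth.Agent.Lib.Helper19.QRegConv

open MvPolynomial Groth.Agent.Lib.Helper19.SymPow Groth.Agent.Lib.Helper19.SymGr
  Groth.Agent.Lib.Helper19.QRegMon Groth.Agent.Lib.Helper19.QRegChart

variable {R : Type u} [CommRing R] (J : Ideal R)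

theorem isLocallyQuasiRegular_of_fg_projective_of_qr (hFG : J.FG)
    (hproj : Module.Projective (R ⧸ J) J.Cotangent)
    (hqr : ∀ (r : ℕ) (μ : Fin r → (J.Cotangent →ₗ[R ⧸ J] R ⧸ J)) (x : Fin r → J) (g : R),
      (∀ i j, μ i (J.toCotangent (x j)) = if i = j then Ideal.Quotient.mk J g else 0) →
      ∀ n : ℕ, 0 < n → ∀ Q : MvPolynomial (Fin r) R, Q.IsHomogeneous n →
        eval (fun i => (x i : R)) Q ∈ J ^ (n + 1) → ∀ d, g ^ n * Q.coeff d ∈ J) :
    PP16.IsLocallyQuasiRegular R J := by
  classical
  intro P hP hJP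
  haveI : Module.Finite R J := Module.Finite.iff_fg.2 hFG
  haveI : Module.Finite R J.Cotangent :=
    Module.Finite.of_surjective J.toCotangent J.toCotangent_surjective
  haveI : Module.Finite (R ⧸ J) J.Cotangent := Module.Finite.of_restrictScalars_finite R _ _
  let Pbar := P.map (Ideal.Quotient.mk J)
  haveI : Pbar.IsPrime := Ideal.map_isPrime_of_surjective Ideal.Quotient.mk_surjective
    (by rw [Ideal.mk_ker]; exact hJP)
  obtain ⟨r, α, β, s, hs, h1, h2⟩ := exists_local_coords (A := R ⧸ J) (N := J.Cotangent) Pbar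
  obtain ⟨g, rfl⟩ := Ideal.Quotient.mk_surjective s
  have hgP : g ∉ P := fun h => hs (Ideal.mem_map_of_mem _ h)
  choose x hx using fun i : Fin r => Ideal.toCotangent_surjective J (β (Finsupp.single i 1))
  let μ : Fin r → (J.Cotangent →ₗ[R ⧸ J] R ⧸ J) := fun i =>
    (Finsupp.lapply i : (Fin r →₀ R ⧸ J) →ₗ[R ⧸ J] R ⧸ J) ∘ₗ α
  have hμ : ∀ i j, μ i (J.toCotangent (x j)) =
      if i = j then Ideal.Quotient.mk J g else 0 := by
    intro i j
    change (α (J.toCotangent (x j))) i = _
    rw [hx, h2, Finsupp.smul_apply, Finsupp.single_apply, smul_eq_mul]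
    by_cases h : i = j
    · rw [if_pos h, if_pos h.symm, mul_one]
    · rw [if_neg h, if_neg (Ne.symm h), mul_zero]
  have hrel : ∀ y : J, ∃ a : Fin r → R, g * (y : R) - ∑ i, a i * (x i : R) ∈ J ^ 2 := by
    intro y
    choose a ha using fun i => Ideal.Quotient.mk_surjective (α (J.toCotangent y) i)
    refine ⟨a, ?_⟩
    have h3 : J.toCotangent (g • y - ∑ i, a i • x i) = 0 := by
      rw [map_sub, map_smul, map_sum, ← mk_smul_cot, ← h1, sub_eq_zero]
      conv_lhs => rw [← Finsupp.univ_sum_single (α (J.toCotangent y)), map_sum]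
      refine Finset.sum_congr rfl fun i _ => ?_
      rw [← Finsupp.smul_single_one, map_smul, ← hx, ← ha i, mk_smul_cot, map_smul]
    rw [Ideal.toCotangent_eq_zero] at h3
    convert h3 using 1
    rw [Submodule.coe_sub, Submodule.coe_sum]
    simp
  -- Nakayama in the localization
  let φ := algebraMap R (Localization.Away g)
  let J' : Ideal (Localization.Away g) := J.map φ
  let X' : Ideal (Localization.Away g) := Ideal.span (Set.range fun i => φ (x i))
  have hJ'fg : J'.FG := hFG.map φ
  have hle : J' ≤ X' ⊔ J' • J' := by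
    rw [Ideal.map_le_iff_le_comap]
    intro y hy
    rw [Ideal.mem_comap]
    obtain ⟨a, ha⟩ := hrel ⟨y, hy⟩
    have h4 : φ (g ^ 1) * φ y ∈ X' ⊔ J' • J' := by
      have : φ (g ^ 1) * φ y =
          ∑ i, φ (a i) * φ (x i) + φ (g * y - ∑ i, a i * (x i : R)) := by
        simp [map_sub, map_sum, map_mul]
      rw [this]
      refine Submodule.add_mem_sup (Ideal.sum_mem _ fun i _ =>
        Ideal.mul_mem_left _ _ (Ideal.subset_span ⟨i, rfl⟩)) ?_
      rw [smul_eq_mul, ← pow_two, ← Ideal.map_pow]
      exact Ideal.mem_map_of_mem _ ha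
    exact (Ideal.unit_mul_mem_iff_mem _ (isUnit_pow g 1)).1 h4
  obtain ⟨t, ht1, ht2⟩ :=
    Submodule.exists_sub_one_mem_and_smul_le_of_fg_of_le_sup hJ'fg le_rfl hle
  obtain ⟨⟨c, ⟨_, k, rfl⟩⟩, hc⟩ := IsLocalization.surj (Submonoid.powers g) t
  simp only at hc
  have hcP : c ∉ P := by
    intro hcP
    have h5 : φ (c - g ^ k) ∈ J' := by
      rw [map_sub, ← hc]
      have : t * φ (g ^ k) - φ (g ^ k) = (t - 1) * φ (g ^ k) := by ring
      rw [this]
      exact Ideal.mul_mem_right _ _ ht1
    obtain ⟨m, ⟨l, rfl⟩, hm⟩ := (IsLocalization.algebraMap_mem_map_algebraMap_iff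
      (Submonoid.powers g) (Localization.Away g) _ _).1 h5
    have h6 : g ^ (l + k) ∈ P := by
      have e : g ^ (l + k) = g ^ l * c - g ^ l * (c - g ^ k) := by ring
      rw [e]
      exact sub_mem (Ideal.mul_mem_left _ _ hcP) (hJP hm)
    exact hgP (hP.mem_of_pow_mem _ h6)
  have hg₂ : g * c ∉ P := fun h => (hP.mem_or_mem h).elim hgP hcP
  have chart : IsChart J (g * c) (fun i => (x i : R)) :=
    { mem := fun i => (x i).2
      gen := by
        intro y hy
        have h7 : t • φ y ∈ X' :=
          ht2 (Submodule.smul_mem_pointwise_smul _ _ _ (Ideal.mem_map_of_mem _ hy))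
        have h8 : φ (c * y) ∈ (Ideal.span (Set.range fun i => (x i : R))).map φ := by
          rw [← span_range_comp, map_mul, ← hc]
          have : t * φ (g ^ k) * φ y = φ (g ^ k) * (t • φ y) := by
            rw [smul_eq_mul]; ring
          rw [this]
          exact Ideal.mul_mem_left _ _ h7
        obtain ⟨m, ⟨l, rfl⟩, hm⟩ := (IsLocalization.algebraMap_mem_map_algebraMap_iff
          (Submonoid.powers g) (Localization.Away g) _ _).1 h8
        refine ⟨l + 1, ?_⟩
        have e : (g * c) ^ (l + 1) * y = (g * c ^ l) * (g ^ l * (c * y)) := by ring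
        rw [e]
        exact Ideal.mul_mem_left _ _ hm
      qr := by
        intro n Q hQ hev d
        rcases Nat.eq_zero_or_pos n with rfl | hn
        · refine ⟨0, ?_⟩
          rw [pow_zero, one_mul]
          by_cases hd : d = 0
          · subst hd
            have h9 : Q.totalDegree = 0 := Nat.le_zero.1 hQ.totalDegree_le
            rw [totalDegree_eq_zero_iff_eq_C] at h9
            rw [h9, eval_C, zero_add, pow_one] at hev
            exact hev
          · rw [hQ.coeff_eq_zero (by
              rw [Ne, Finsupp.degree_eq_zero_iff]; exact hd)]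
            exact J.zero_mem
        · have := hqr r μ x g hμ n hn Q hQ hev d
          refine ⟨n, ?_⟩
          have e : (g * c) ^ n * Q.coeff d = c ^ n * (g ^ n * Q.coeff d) := by ring
          rw [e]
          exact Ideal.mul_mem_left _ _ this }
  exact ⟨g * c, hg₂, r, fun i => algebraMap R (Localization.Away (g * c)) (x i),
    chart.isQuasiRegular, chart.span_eq⟩



/-- the quasi-regularity hypothesis holds when `Sym = gr` -/
theorem qr_of_symToGr_injective
    (hinj : ∀ (ι : Type u) [Fintype ι] [Nonempty ι], Function.Injective (symToGr J ι))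
    (r : ℕ) (μ : Fin r → (J.Cotangent →ₗ[R ⧸ J] R ⧸ J)) (x : Fin r → J) (g : R)
    (hμ : ∀ i j, μ i (J.toCotangent (x j)) = if i = j then Ideal.Quotient.mk J g else 0)
    (n : ℕ) (hn : 0 < n) (Q : MvPolynomial (Fin r) R) (hQ : Q.IsHomogeneous n)
    (hev : eval (fun i => (x i : R)) Q ∈ J ^ (n + 1)) (d : Fin r →₀ ℕ) :
    g ^ n * Q.coeff d ∈ J := by
  haveI : Nonempty (ULift.{u} (Fin n)) := ⟨ULift.up ⟨0, hn⟩⟩
  have hcard : Fintype.card (ULift.{u} (Fin n)) = n := by simp
  have := coeff_mem_of_symToGr_injective J (ULift.{u} (Fin n)) (hinj _)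
    (fun i => (μ i).restrictScalars R) x g hμ Q
    (by rw [hcard]; exact hQ) (by rw [hcard]; exact hev) d
  rwa [hcard] at this

end Groth.Agent.Lib.Helper19.QRegConv
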