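import Groth.Agent.Lib.Helper19QRegConv2
import Groth.Agent.Lib.Helper19QRegDir

/-!
# `Sym = gr` from quasi-regularity of local coordinate systems of the conormal module (helper19)

No finiteness of the ideal is needed, only that `J/J²` is finite projective.
-/

set_option autoImplicit false
set_option linter.style.haveILetI false
universe u

namespace Groth.Agent.Lib.Helper19.QRegWeak

open MvPolynomial Groth.Agent.Lib.Helper19.SymPow Groth.Agent.Lib.Helper19.SymGr
  Groth.Agent.Lib.Helper19.QRegMon Groth.Agent.Lib.Helper19.QRegConv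
  Groth.Agent.Lib.Helper19.QRegDir

variable {R : Type u} [CommRing R] (J : Ideal R)

section sym

variable (ι : Type u) [Fintype ι] {r : ℕ} (x : Fin r → J)

/-- pure tensors in the classes of the `x i` -/
noncomputable def Tx (w : ι → Fin r) : SymmetricPower R ι J.Cotangent :=
  SymmetricPower.tprod R (fun i => J.toCotangent (x (w i)))

theorem Tx_eq_of_mon_eq (w w' : ι → Fin r) (h : mon w = mon w') : Tx J ι x w = Tx J ι x w' := by
  obtain ⟨e, he⟩ := exists_perm_of_mon_eq w w' h
  have : (fun i => J.toCotangent (x (w i))) =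
      fun i => (fun j => J.toCotangent (x (w' j))) (e i) := by
    funext i
    change J.toCotangent (x (w i)) = J.toCotangent (x (w' (e i)))
    rw [he i]
  rw [Tx, Tx, this]
  exact SymmetricPower.tprod_equiv e (fun j => J.toCotangent (x (w' j)))

theorem symToGr_sum_Tx [DecidableEq ι] (C : (ι → Fin r) → R) :
    ∃ hm : eval (fun i => (x i : R)) (∑ w, MvPolynomial.C (C w) * ∏ i, X (w i)) ∈
        J ^ Fintype.card ι,
      symToGr J ι (∑ w, C w • Tx J ι x w) = Submodule.Quotient.mk
        ⟨eval (fun i => (x i : R)) (∑ w, MvPolynomial.C (C w) * ∏ i, X (w i)), hm⟩ := by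
  classical
  have hmemP : ∀ w : ι → Fin r, ∏ i, (x (w i) : R) ∈ J ^ Fintype.card ι := fun w => by
    simpa using PP16.prod_mem_pow J Finset.univ (fun i => (x (w i) : R)) (fun i _ => (x (w i)).2)
  have hev : eval (fun i => (x i : R)) (∑ w, MvPolynomial.C (C w) * ∏ i, X (w i)) =
      ∑ w, C w * ∏ i, (x (w i) : R) := by
    simp [map_sum, map_prod]
  have hm : eval (fun i => (x i : R)) (∑ w, MvPolynomial.C (C w) * ∏ i, X (w i)) ∈
      J ^ Fintype.card ι := by
    rw [hev]
    exact Ideal.sum_mem _ fun w _ => Ideal.mul_mem_left _ _ (hmemP w)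
  refine ⟨hm, ?_⟩
  have hT : ∀ w, symToGr J ι (Tx J ι x w) =
      Submodule.Quotient.mk (⟨∏ i, (x (w i) : R), hmemP w⟩ : ↥(J ^ Fintype.card ι)) := by
    intro w
    rw [Tx]
    exact symToGr_tprod J ι (fun i => x (w i))
  simp only [map_sum, map_smul, hT]
  have e : ∑ w, C w • (Submodule.Quotient.mk
      (⟨∏ i, (x (w i) : R), hmemP w⟩ : ↥(J ^ Fintype.card ι)) :
      PP16.grJ R J (Fintype.card ι)) =
      Submodule.Quotient.mk (∑ w, C w •
        (⟨∏ i, (x (w i) : R), hmemP w⟩ : ↥(J ^ Fintype.card ι))) := by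
    rw [← Submodule.mkQ_apply, map_sum]
    refine Finset.sum_congr rfl fun d _ => ?_
    rw [map_smul]; rfl
  rw [e]
  congr 1
  apply Subtype.ext
  rw [Submodule.coe_sum]
  simp only [Submodule.coe_smul, smul_eq_mul]
  simp [map_prod]

theorem pow_smul_mem_span (g : R) (c : J.Cotangent → Fin r → R)
    (hc : ∀ v, g • v = ∑ i, c v i • J.toCotangent (x i)) (σ : SymmetricPower R ι J.Cotangent) :
    g ^ Fintype.card ι • σ ∈ Submodule.span R (Set.range (Tx J ι x)) := by
  classical
  have hσ : σ ∈ (⊤ : Submodule R _) := Submodule.mem_top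
  rw [← SymmetricPower.span_tprod_eq_top R ι _] at hσ
  induction hσ using Submodule.span_induction with
  | mem y hy =>
    obtain ⟨m, rfl⟩ := hy
    have h1 : g ^ Fintype.card ι • SymmetricPower.tprod R m =
        SymmetricPower.tprod R (fun i => g • m i) := by
      rw [MultilinearMap.map_smul_univ, Finset.prod_const, Finset.card_univ]
    rw [h1]
    apply tprod_mem_span_of_mem_span ι (fun i => J.toCotangent (x i))
    intro i
    rw [hc]
    exact Submodule.sum_mem _ fun j _ => Submodule.smul_mem _ _ (Submodule.subset_span ⟨j, rfl⟩)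
  | zero => rw [smul_zero]; exact Submodule.zero_mem _
  | add a b _ _ ha hb => rw [smul_add]; exact Submodule.add_mem _ ha hb
  | smul t a _ ha => rw [smul_comm]; exact Submodule.smul_mem _ _ ha

theorem pow_smul_eq_zero [Nonempty ι] (g : R) (c : J.Cotangent → Fin r → R)
    (hc : ∀ v, g • v = ∑ i, c v i • J.toCotangent (x i))
    (hqr : ∀ Q : MvPolynomial (Fin r) R, Q.IsHomogeneous (Fintype.card ι) →
      eval (fun i => (x i : R)) Q ∈ J ^ (Fintype.card ι + 1) →
        ∀ d, g ^ Fintype.card ι * Q.coeff d ∈ J)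
    (σ : SymmetricPower R ι J.Cotangent) (hσ : symToGr J ι σ = 0) :
    g ^ (Fintype.card ι + Fintype.card ι) • σ = 0 := by
  classical
  have hl := pow_smul_mem_span J ι x g c hc σ
  obtain ⟨C, hC⟩ := (Submodule.mem_span_range_iff_exists_fun R).1 hl
  set Q : MvPolynomial (Fin r) R := ∑ w, MvPolynomial.C (C w) * ∏ i, X (w i) with hQdef
  have hQ : Q.IsHomogeneous (Fintype.card ι) := by
    apply IsHomogeneous.sum
    intro w _
    rw [prod_X_eq_monomial, C_mul_monomial]
    exact isHomogeneous_monomial _ (degree_mon w)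
  obtain ⟨hm, hsum⟩ := symToGr_sum_Tx J ι x C
  have hev : eval (fun i => (x i : R)) Q ∈ J ^ (Fintype.card ι + 1) := by
    rw [hC, map_smul, hσ, smul_zero] at hsum
    have := (Submodule.Quotient.mk_eq_zero _).1 hsum.symm
    rwa [Submodule.mem_comap] at this
  have hco : ∀ d, Q.coeff d = ∑ w ∈ Finset.univ.filter (fun w : ι → Fin r => mon w = d), C w := by
    intro d
    rw [hQdef, coeff_sum, Finset.sum_filter]
    refine Finset.sum_congr rfl fun w _ => ?_
    rw [prod_X_eq_monomial, C_mul_monomial, coeff_monomial, mul_one]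
  have hL := hqr Q hQ hev
  let D : Finset (Fin r →₀ ℕ) := Finset.univ.image (fun w : ι → Fin r => mon w)
  rw [pow_add, mul_smul, ← hC, Finset.smul_sum,
    ← Finset.sum_fiberwise_of_maps_to (g := fun w : ι → Fin r => mon w) (t := D)
      (fun w _ => Finset.mem_image_of_mem _ (Finset.mem_univ w))]
  refine Finset.sum_eq_zero fun d hd => ?_
  obtain ⟨w₀, -, hw₀⟩ := Finset.mem_image.1 hd
  have hT : ∀ w ∈ Finset.univ.filter (fun w : ι → Fin r => mon w = d),
      g ^ Fintype.card ι • C w • Tx J ι x w = (g ^ Fintype.card ι * C w) • Tx J ι x w₀ := by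
    intro w hw
    rw [Tx_eq_of_mon_eq J ι x w w₀ ((Finset.mem_filter.1 hw).2.trans hw₀.symm), smul_smul]
  rw [Finset.sum_congr rfl hT, ← Finset.sum_smul, ← Finset.mul_sum, ← hco]
  apply smul_eq_zero_of_forall
  intro v
  exact smul_cot_eq_zero _ (hL d) v

end sym

theorem symToGr_injective_of_qr [Module.Finite (R ⧸ J) J.Cotangent]
    [Module.Projective (R ⧸ J) J.Cotangent]
    (hqr : ∀ (r : ℕ) (μ : Fin r → (J.Cotangent →ₗ[R ⧸ J] R ⧸ J)) (x : Fin r → J) (g : R),
      (∀ i j, μ i (J.toCotangent (x j)) = if i = j then Ideal.Quotient.mk J g else 0) →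
      ∀ n : ℕ, 0 < n → ∀ Q : MvPolynomial (Fin r) R, Q.IsHomogeneous n →
        eval (fun i => (x i : R)) Q ∈ J ^ (n + 1) → ∀ d, g ^ n * Q.coeff d ∈ J)
    (ι : Type u) [Fintype ι] [Nonempty ι] : Function.Injective (symToGr J ι) := by
  classical
  rw [injective_iff_map_eq_zero]
  intro σ hσ
  let 𝔞 : Ideal R := LinearMap.ker (LinearMap.toSpanSingleton R _ σ)
  have hmem : ∀ a : R, a ∈ 𝔞 ↔ a • σ = 0 := fun a => by
    rw [LinearMap.mem_ker, LinearMap.toSpanSingleton_apply]
  have hJ : J ≤ 𝔞 := fun a ha => (hmem a).2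
    (smul_eq_zero_of_forall a (fun v => smul_cot_eq_zero a ha v) σ)
  suffices h : 𝔞 = ⊤ by
    have := (hmem 1).1 (h ▸ Submodule.mem_top)
    rwa [one_smul] at this
  by_contra hne
  obtain ⟨m, hm, hle⟩ := Ideal.exists_le_maximal _ hne
  haveI := hm.isPrime
  let Pbar := m.map (Ideal.Quotient.mk J)
  haveI : Pbar.IsPrime := Ideal.map_isPrime_of_surjective Ideal.Quotient.mk_surjective
    (by rw [Ideal.mk_ker]; exact hJ.trans hle)
  obtain ⟨r, α, β, s, hs, h1, h2⟩ := exists_local_coords (A := R ⧸ J) (N := J.Cotangent) Pbar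
  obtain ⟨g, rfl⟩ := Ideal.Quotient.mk_surjective s
  have hgm : g ∉ m := fun h => hs (Ideal.mem_map_of_mem _ h)
  choose x hx using fun i : Fin r => Ideal.toCotangent_surjective J (β (Finsupp.single i 1))
  let μ : Fin r → (J.Cotangent →ₗ[R ⧸ J] R ⧸ J) := fun i =>
    (Finsupp.lapply i : (Fin r →₀ R ⧸ J) →ₗ[R ⧸ J] R ⧸ J) ∘ₗ α
  have hμ : ∀ i j, μ i (J.toCotangent (x j)) =
      if i = j then Ideal.Quotient.mk J g else 0 := by
    intro i j
    change (α (J.toCotangent (x j))) i = _
    rw [hx, h2, Finsupp.smul_apply, Finsupp.single_apply, smul_eq_mul]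
    by_cases h : i = j
    · rw [if_pos h, if_pos h.symm, mul_one]
    · rw [if_neg h, if_neg (Ne.symm h), mul_zero]
  choose c hc using fun (v : J.Cotangent) (i : Fin r) => Ideal.Quotient.mk_surjective (α v i)
  have hcv : ∀ v : J.Cotangent, g • v = ∑ i, c v i • J.toCotangent (x i) := by
    intro v
    rw [← mk_smul_cot, ← h1]
    conv_lhs => rw [← Finsupp.univ_sum_single (α v), map_sum]
    refine Finset.sum_congr rfl fun i _ => ?_
    rw [← Finsupp.smul_single_one, map_smul, ← hx, ← hc v i, mk_smul_cot]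
  have hn : 0 < Fintype.card ι := Fintype.card_pos
  have := pow_smul_eq_zero J ι x g c hcv
    (fun Q hQ hev d => hqr r μ x g hμ _ hn Q hQ hev d) σ hσ
  exact hgm (hm.isPrime.mem_of_pow_mem _ (hle ((hmem _).2 this)))

end Groth.Agent.Lib.Helper19.QRegWeak
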