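import Mathlib
import Groth.Prelude.Def_QuadGrp2

/-!
# An `R`-scheme whose points with values in affine `R`-schemes are `Hom_R(O, -)` is `Spec O` (helper19)

Generic Yoneda-on-affines lemma for the pinned binders `QuadGrp.LinRep`, `QuadGrp.CliffRep`:
if `X : Over (Spec R)` and `O` is an `R`-algebra with bijections
`(specOver R A ⟶ X) ≃ (O →ₐ[R] A)` natural in the `R`-algebra `A`, then `X.left ≅ Spec O` over `Spec R`.
-/

set_option autoImplicit false
universe u
open CategoryTheory AlgebraicGeometry Limits

namespace Groth.Agent.Lib.Helper19QRep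

variable {R : Type u} [CommRing R]

section Rep
variable (X : Over (Spec (CommRingCat.of R))) (O : Type u) [CommRing O] [Algebra R O]
  (e : ∀ (A : Type u) [CommRing A] [Algebra R A], (QuadGrp.specOver R A ⟶ X) ≃ (O →ₐ[R] A))

/-- the universal point. -/
noncomputable def univPt : QuadGrp.specOver R O ⟶ X := (e O).symm (AlgHom.id R O)

variable (he : ∀ (A B : Type u) [CommRing A] [Algebra R A] [CommRing B] [Algebra R B]
    (φ : A →ₐ[R] B) (y : QuadGrp.specOver R A ⟶ X),
    e B (QuadGrp.specOverMap R φ ≫ y) = φ.comp (e A y))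

include he in
lemma factor (A : Type u) [CommRing A] [Algebra R A] (y : QuadGrp.specOver R A ⟶ X) :
    QuadGrp.specOverMap R (e A y) ≫ univPt X O e = y := by
  apply (e A).injective
  rw [he, univPt, Equiv.apply_symm_apply, AlgHom.comp_id]

include he in
lemma mono_pts (A : Type u) [CommRing A] [Algebra R A] (ψ ψ' : O →ₐ[R] A)
    (h : QuadGrp.specOverMap R ψ ≫ univPt X O e = QuadGrp.specOverMap R ψ' ≫ univPt X O e) :
    ψ = ψ' := by
  have := congrArg (e A) h
  rwa [he, he, univPt, Equiv.apply_symm_apply, AlgHom.comp_id, AlgHom.comp_id] at this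

/-- the universal point as a morphism of schemes `Spec O ⟶ X`. -/
noncomputable def uL : Spec (CommRingCat.of O) ⟶ X.left := (univPt X O e).left

lemma uL_w : uL X O e ≫ X.hom = Spec.map (CommRingCat.ofHom (algebraMap R O)) :=
  Over.w (univPt X O e)

include he in
lemma factor_left (A : Type u) [CommRing A] [Algebra R A] (y : QuadGrp.specOver R A ⟶ X) :
    (Spec.map (CommRingCat.ofHom (e A y).toRingHom) : Spec (CommRingCat.of A) ⟶ Spec (CommRingCat.of O)) ≫
      uL X O e = (y.left : Spec (CommRingCat.of A) ⟶ X.left) :=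
  congrArg CommaMorphism.left (factor X O e he A y)

include he in
lemma mono_pts_left (A : Type u) [CommRing A] [Algebra R A] (ψ ψ' : O →ₐ[R] A)
    (h : (Spec.map (CommRingCat.ofHom ψ.toRingHom) : Spec (CommRingCat.of A) ⟶ Spec (CommRingCat.of O)) ≫
      uL X O e = Spec.map (CommRingCat.ofHom ψ'.toRingHom) ≫ uL X O e) : ψ = ψ' :=
  mono_pts X O e he A ψ ψ' (Over.OverMorphism.ext h)

include he in
theorem exists_factor (A : CommRingCat.{u}) (y : Spec A ⟶ X.left) :
    ∃ t : Spec A ⟶ Spec (CommRingCat.of O), t ≫ uL X O e = y := by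
  letI : Algebra R A := (Spec.preimage (y ≫ X.hom)).hom.toAlgebra
  have hy : y ≫ X.hom = Spec.map (CommRingCat.ofHom (algebraMap R A)) := by
    rw [RingHom.algebraMap_toAlgebra, CommRingCat.ofHom_hom, Spec.map_preimage]
  let y' : QuadGrp.specOver R A ⟶ X := Over.homMk y hy
  exact ⟨Spec.map (CommRingCat.ofHom (e A y').toRingHom), factor_left X O e he A y'⟩

include he in
theorem mono_affine (A : CommRingCat.{u}) (a b : Spec A ⟶ Spec (CommRingCat.of O))
    (h : a ≫ uL X O e = b ≫ uL X O e) : a = b := by
  have hw := uL_w X O e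
  letI : Algebra R A := (Spec.preimage (a ≫ Spec.map (CommRingCat.ofHom (algebraMap R O)))).hom.toAlgebra
  have halg : ∀ c : Spec A ⟶ Spec (CommRingCat.of O),
      c ≫ uL X O e = a ≫ uL X O e →
      ∃ γ : O →ₐ[R] A, (Spec.map (CommRingCat.ofHom γ.toRingHom) : Spec A ⟶ Spec (CommRingCat.of O)) = c := by
    intro c hc
    have h1 : c ≫ Spec.map (CommRingCat.ofHom (algebraMap R O)) =
        a ≫ Spec.map (CommRingCat.ofHom (algebraMap R O)) := by
      rw [← hw, ← Category.assoc, hc, Category.assoc]
    have h2 : (Spec.preimage c).hom.comp (algebraMap R O) = algebraMap R A := by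
      rw [RingHom.algebraMap_toAlgebra, ← h1]
      have : c ≫ Spec.map (CommRingCat.ofHom (algebraMap R O)) =
          Spec.map (CommRingCat.ofHom (algebraMap R O) ≫ Spec.preimage c) := by
        rw [Spec.map_comp, Spec.map_preimage]
      rw [this, Spec.preimage_map]
      rfl
    refine ⟨{ (Spec.preimage c).hom with commutes' := fun r => congrFun (congrArg DFunLike.coe h2) r }, ?_⟩
    change Spec.map (CommRingCat.ofHom (Spec.preimage c).hom) = c
    rw [CommRingCat.ofHom_hom, Spec.map_preimage]
  obtain ⟨α, hα⟩ := halg a rfl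
  obtain ⟨β, hβ⟩ := halg b h.symm
  have : α = β := by
    apply mono_pts_left X O e he
    rw [hα, hβ, h]
  rw [← hα, ← hβ, this]

include he in
theorem exists_factor' (T : Scheme.{u}) [IsAffine T] (y : T ⟶ X.left) :
    ∃ t : T ⟶ Spec (CommRingCat.of O), t ≫ uL X O e = y := by
  obtain ⟨t, ht⟩ := exists_factor X O e he Γ(T, ⊤) (T.isoSpec.inv ≫ y)
  refine ⟨T.isoSpec.hom ≫ t, ?_⟩
  rw [Category.assoc, ht, Iso.hom_inv_id_assoc]

include he in
theorem mono_affine' (T : Scheme.{u}) [IsAffine T] (a b : T ⟶ Spec (CommRingCat.of O))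
    (h : a ≫ uL X O e = b ≫ uL X O e) : a = b := by
  have := mono_affine X O e he Γ(T, ⊤) (T.isoSpec.inv ≫ a) (T.isoSpec.inv ≫ b)
    (by rw [Category.assoc, Category.assoc, h])
  exact (Iso.cancel_iso_inv_left _ _ _).mp this

include he in
theorem mono_all (T : Scheme.{u}) (a b : T ⟶ Spec (CommRingCat.of O))
    (h : a ≫ uL X O e = b ≫ uL X O e) : a = b := by
  refine T.affineCover.hom_ext a b fun i => ?_
  apply mono_affine' X O e he
  rw [Category.assoc, Category.assoc, h]

include he in
/-- the universal point is an isomorphism of schemes. -/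
theorem isIso_uL : IsIso (uL X O e) := by
  choose t ht using fun i : X.left.affineCover.I₀ =>
    exists_factor' X O e he (X.left.affineCover.X i) (X.left.affineCover.f i)
  have compat : ∀ i j, pullback.fst (X.left.affineCover.f i) (X.left.affineCover.f j) ≫ t i =
      pullback.snd _ _ ≫ t j := by
    intro i j
    apply mono_all X O e he
    rw [Category.assoc, Category.assoc, ht, ht, pullback.condition]
  let v : X.left ⟶ Spec (CommRingCat.of O) := X.left.affineCover.glueMorphisms t compat
  have hv : ∀ i, X.left.affineCover.f i ≫ v = t i := fun i =>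
    X.left.affineCover.ι_glueMorphisms t compat i
  have h1 : v ≫ uL X O e = 𝟙 _ := by
    refine X.left.affineCover.hom_ext _ _ fun i => ?_
    rw [← Category.assoc, hv, ht, Category.comp_id]
  have h2 : uL X O e ≫ v = 𝟙 _ := by
    apply mono_all X O e he
    rw [Category.assoc, h1, Category.comp_id, Category.id_comp]
  exact ⟨v, h2, h1⟩

include he in
/-- `X` is `Spec O` over `Spec R`. -/
theorem exists_iso : ∃ i : Spec (CommRingCat.of O) ≅ X.left,
    i.hom ≫ X.hom = Spec.map (CommRingCat.ofHom (algebraMap R O)) := by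
  haveI := isIso_uL X O e he
  exact ⟨asIso (uL X O e), uL_w X O e⟩

include he in
/-- transfer of isomorphism-invariant properties of the structure morphism. -/
theorem prop_iff (P : MorphismProperty Scheme.{u}) [P.RespectsIso] :
    P X.hom ↔ P (Spec.map (CommRingCat.ofHom (algebraMap R O))) := by
  obtain ⟨i, hi⟩ := exists_iso X O e he
  rw [← hi]
  exact (P.cancel_left_of_respectsIso i.hom X.hom).symm

include he in
theorem smooth_iff : Smooth X.hom ↔ Algebra.Smooth R O := by
  rw [prop_iff X O e he @Smooth, HasRingHomProperty.Spec_iff (P := @Smooth)]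
  rw [CommRingCat.hom_ofHom, RingHom.smooth_algebraMap]

end Rep

end Groth.Agent.Lib.Helper19QRep
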