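import Mathlib

/-!
# Quadratic forms given by matrices, hyperbolic systems (helper19)

`qf U x = xᵀ U x`, its polar form `pol U x y = xᵀ (U + Uᵀ) y`, and systems of `k` mutually orthogonal
hyperbolic pairs.
-/

set_option autoImplicit false
universe u
open Matrix

namespace Groth.Agent.Lib.Helper19QSplit

variable {B : Type*} [CommRing B] {ι : Type*} [Fintype ι] [DecidableEq ι] (U : Matrix ι ι B)

/-- the quadratic form `xᵀ U x`. -/
def qf (x : ι → B) : B := x ⬝ᵥ U *ᵥ x

/-- the non-symmetric bilinear form `xᵀ U y`. -/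
def bf (x y : ι → B) : B := x ⬝ᵥ U *ᵥ y

/-- the polar form. -/
def pol (x y : ι → B) : B := bf U x y + bf U y x

lemma qf_eq_bf (x : ι → B) : qf U x = bf U x x := rfl

lemma bf_add_left (x x' y : ι → B) : bf U (x + x') y = bf U x y + bf U x' y := by
  unfold bf; rw [add_dotProduct]

lemma bf_add_right (x y y' : ι → B) : bf U x (y + y') = bf U x y + bf U x y' := by
  unfold bf; rw [mulVec_add, dotProduct_add]

lemma bf_smul_left (c : B) (x y : ι → B) : bf U (c • x) y = c * bf U x y := by
  unfold bf; rw [smul_dotProduct, smul_eq_mul]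

lemma bf_smul_right (c : B) (x y : ι → B) : bf U x (c • y) = c * bf U x y := by
  unfold bf; rw [mulVec_smul, dotProduct_smul, smul_eq_mul]

lemma bf_zero_left (y : ι → B) : bf U 0 y = 0 := by unfold bf; rw [zero_dotProduct]

lemma bf_zero_right (x : ι → B) : bf U x 0 = 0 := by unfold bf; rw [mulVec_zero, dotProduct_zero]

lemma bf_neg_left (x y : ι → B) : bf U (-x) y = - bf U x y := by
  unfold bf; rw [neg_dotProduct]

lemma bf_neg_right (x y : ι → B) : bf U x (-y) = - bf U x y := by
  unfold bf; rw [mulVec_neg, dotProduct_neg]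

lemma pol_comm (x y : ι → B) : pol U x y = pol U y x := by unfold pol; ring

lemma pol_add_left (x x' y : ι → B) : pol U (x + x') y = pol U x y + pol U x' y := by
  unfold pol; rw [bf_add_left, bf_add_right]; ring

lemma pol_add_right (x y y' : ι → B) : pol U x (y + y') = pol U x y + pol U x y' := by
  unfold pol; rw [bf_add_left, bf_add_right]; ring

lemma pol_smul_left (c : B) (x y : ι → B) : pol U (c • x) y = c * pol U x y := by
  unfold pol; rw [bf_smul_left, bf_smul_right]; ring

lemma pol_smul_right (c : B) (x y : ι → B) : pol U x (c • y) = c * pol U x y := by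
  unfold pol; rw [bf_smul_left, bf_smul_right]; ring

lemma pol_zero_left (y : ι → B) : pol U 0 y = 0 := by
  unfold pol; rw [bf_zero_left, bf_zero_right, add_zero]

lemma pol_zero_right (x : ι → B) : pol U x 0 = 0 := by
  unfold pol; rw [bf_zero_left, bf_zero_right, add_zero]

lemma pol_neg_left (x y : ι → B) : pol U (-x) y = - pol U x y := by
  unfold pol; rw [bf_neg_left, bf_neg_right]; ring

lemma pol_sub_left (x x' y : ι → B) : pol U (x - x') y = pol U x y - pol U x' y := by
  rw [sub_eq_add_neg, pol_add_left, pol_neg_left, sub_eq_add_neg]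

lemma pol_sum_left {κ : Type*} (s : Finset κ) (x : κ → ι → B) (y : ι → B) :
    pol U (∑ i ∈ s, x i) y = ∑ i ∈ s, pol U (x i) y := by
  classical
  induction s using Finset.induction_on with
  | empty => simp [pol_zero_left]
  | insert a s ha ih => rw [Finset.sum_insert ha, Finset.sum_insert ha, pol_add_left, ih]

lemma pol_self (x : ι → B) : pol U x x = qf U x + qf U x := rfl

lemma qf_add (x y : ι → B) : qf U (x + y) = qf U x + qf U y + pol U x y := by
  unfold qf pol bf
  rw [mulVec_add, add_dotProduct, dotProduct_add, dotProduct_add]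
  ring

lemma qf_smul (c : B) (x : ι → B) : qf U (c • x) = c ^ 2 * qf U x := by
  rw [qf_eq_bf, bf_smul_left, bf_smul_right, qf_eq_bf]; ring

lemma qf_zero : qf U (0 : ι → B) = 0 := by rw [qf_eq_bf, bf_zero_left]

lemma pol_eq_dotProduct (x y : ι → B) : pol U x y = x ⬝ᵥ (U + Uᵀ) *ᵥ y := by
  unfold pol bf
  rw [add_mulVec, dotProduct_add]
  congr 1
  rw [dotProduct_mulVec, ← mulVec_transpose, dotProduct_comm]

section Map
variable {B' : Type*} [CommRing B'] (φ : B →+* B')

lemma map_bf (x y : ι → B) : φ (bf U x y) = bf (U.map φ) (φ ∘ x) (φ ∘ y) := by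
  unfold bf
  rw [RingHom.map_dotProduct]
  congr 1
  funext i
  exact RingHom.map_mulVec φ U y i

lemma map_qf (x : ι → B) : φ (qf U x) = qf (U.map φ) (φ ∘ x) := map_bf U φ x x

lemma map_pol (x y : ι → B) : φ (pol U x y) = pol (U.map φ) (φ ∘ x) (φ ∘ y) := by
  unfold pol; rw [map_add, map_bf, map_bf]

end Map

end Groth.Agent.Lib.Helper19QSplit
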