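import Mathlib
import Groth.Agent.Lib.Helper19QSplitA

/-!
# Hyperbolic systems and the orthogonal projection (helper19)
-/

set_option autoImplicit false
universe u
open Matrix

namespace Groth.Agent.Lib.Helper19QSplit

variable {B : Type*} [CommRing B] {ι : Type*} [Fintype ι] [DecidableEq ι] (U : Matrix ι ι B)

/-- a system of `k` mutually orthogonal hyperbolic pairs. -/
structure HypSys (k : ℕ) where
  e : Fin k → ι → B
  f : Fin k → ι → B
  qe : ∀ i, qf U (e i) = 0
  qff : ∀ i, qf U (f i) = 0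
  ef : ∀ i j, pol U (e i) (f j) = if i = j then 1 else 0
  ee : ∀ i j, pol U (e i) (e j) = 0
  ff : ∀ i j, pol U (f i) (f j) = 0

variable {U}

/-- the empty system. -/
def HypSys.empty : HypSys U 0 where
  e := Fin.elim0
  f := Fin.elim0
  qe := fun i => i.elim0
  qff := fun i => i.elim0
  ef := fun i => i.elim0
  ee := fun i => i.elim0
  ff := fun i => i.elim0

/-- transport along a ring homomorphism. -/
def HypSys.map {k : ℕ} (H : HypSys U k) {B' : Type*} [CommRing B'] (φ : B →+* B') :
    HypSys (U.map φ) k where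
  e := fun i => φ ∘ H.e i
  f := fun i => φ ∘ H.f i
  qe := fun i => by rw [← map_qf, H.qe, map_zero]
  qff := fun i => by rw [← map_qf, H.qff, map_zero]
  ef := fun i j => by
    rw [← map_pol, H.ef]
    split_ifs <;> simp
  ee := fun i j => by rw [← map_pol, H.ee, map_zero]
  ff := fun i j => by rw [← map_pol, H.ff, map_zero]

/-- orthogonality to a hyperbolic system. -/
def HypSys.Orth {k : ℕ} (H : HypSys U k) (v : ι → B) : Prop :=
  (∀ i, pol U v (H.e i) = 0) ∧ ∀ i, pol U v (H.f i) = 0

lemma HypSys.Orth.add {k : ℕ} {H : HypSys U k} {v w : ι → B} (hv : H.Orth v) (hw : H.Orth w) :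
    H.Orth (v + w) :=
  ⟨fun i => by rw [pol_add_left, hv.1, hw.1, add_zero],
   fun i => by rw [pol_add_left, hv.2, hw.2, add_zero]⟩

lemma HypSys.Orth.smul {k : ℕ} {H : HypSys U k} {v : ι → B} (c : B) (hv : H.Orth v) :
    H.Orth (c • v) :=
  ⟨fun i => by rw [pol_smul_left, hv.1, mul_zero], fun i => by rw [pol_smul_left, hv.2, mul_zero]⟩

lemma HypSys.Orth.map {k : ℕ} {H : HypSys U k} {v : ι → B} (hv : H.Orth v)
    {B' : Type*} [CommRing B'] (φ : B →+* B') : (H.map φ).Orth (φ ∘ v) :=
  ⟨fun i => by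
      change pol (U.map φ) (φ ∘ v) (φ ∘ H.e i) = 0
      rw [← map_pol, hv.1, map_zero],
   fun i => by
      change pol (U.map φ) (φ ∘ v) (φ ∘ H.f i) = 0
      rw [← map_pol, hv.2, map_zero]⟩

/-- the orthogonal projection onto the orthogonal complement of the system. -/
def HypSys.proj {k : ℕ} (H : HypSys U k) (v : ι → B) : ι → B :=
  v - ∑ i, pol U v (H.f i) • H.e i - ∑ i, pol U v (H.e i) • H.f i

lemma HypSys.orth_proj {k : ℕ} (H : HypSys U k) (v : ι → B) : H.Orth (H.proj v) := by
  constructor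
  · intro j
    unfold HypSys.proj
    rw [pol_sub_left, pol_sub_left, pol_sum_left, pol_sum_left]
    have h1 : ∑ i, pol U (pol U v (H.f i) • H.e i) (H.e j) = 0 :=
      Finset.sum_eq_zero fun i _ => by rw [pol_smul_left, H.ee, mul_zero]
    have h2 : ∑ i, pol U (pol U v (H.e i) • H.f i) (H.e j) = pol U v (H.e j) := by
      rw [Finset.sum_eq_single j]
      · rw [pol_smul_left, pol_comm U (H.f j), H.ef, if_pos rfl, mul_one]
      · intro i _ hij
        rw [pol_smul_left, pol_comm U (H.f i), H.ef, if_neg (Ne.symm hij), mul_zero]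
      · intro h; exact (h (Finset.mem_univ j)).elim
    rw [h1, h2]; ring
  · intro j
    unfold HypSys.proj
    rw [pol_sub_left, pol_sub_left, pol_sum_left, pol_sum_left]
    have h1 : ∑ i, pol U (pol U v (H.f i) • H.e i) (H.f j) = pol U v (H.f j) := by
      rw [Finset.sum_eq_single j]
      · rw [pol_smul_left, H.ef, if_pos rfl, mul_one]
      · intro i _ hij
        rw [pol_smul_left, H.ef, if_neg hij, mul_zero]
      · intro h; exact (h (Finset.mem_univ j)).elim
    have h2 : ∑ i, pol U (pol U v (H.e i) • H.f i) (H.f j) = 0 :=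
      Finset.sum_eq_zero fun i _ => by rw [pol_smul_left, H.ff, mul_zero]
    rw [h1, h2]; ring

lemma HypSys.proj_eq_self {k : ℕ} (H : HypSys U k) {v : ι → B} (hv : H.Orth v) : H.proj v = v := by
  unfold HypSys.proj
  have h1 : ∑ i, pol U v (H.f i) • H.e i = 0 :=
    Finset.sum_eq_zero fun i _ => by rw [hv.2, zero_smul]
  have h2 : ∑ i, pol U v (H.e i) • H.f i = 0 :=
    Finset.sum_eq_zero fun i _ => by rw [hv.1, zero_smul]
  rw [h1, h2, sub_zero, sub_zero]

lemma HypSys.map_proj {k : ℕ} (H : HypSys U k) {B' : Type*} [CommRing B'] (φ : B →+* B')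
    (v : ι → B) : φ ∘ H.proj v = (H.map φ).proj (φ ∘ v) := by
  funext a
  unfold HypSys.proj
  simp only [Function.comp_apply, Pi.sub_apply, Finset.sum_apply, Pi.smul_apply, smul_eq_mul,
    map_sub, map_sum, map_mul]
  congr 1
  · congr 1
    refine Finset.sum_congr rfl fun i _ => ?_
    rw [map_pol]
    rfl
  · refine Finset.sum_congr rfl fun i _ => ?_
    rw [map_pol]
    rfl

/-- adding a hyperbolic pair orthogonal to the system. -/
def HypSys.snoc {k : ℕ} (H : HypSys U k) (e' f' : ι → B) (he : H.Orth e') (hf : H.Orth f')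
    (qe' : qf U e' = 0) (qf' : qf U f' = 0) (hef : pol U e' f' = 1) : HypSys U (k + 1) where
  e := Fin.snoc H.e e'
  f := Fin.snoc H.f f'
  qe := fun i => by
    refine Fin.lastCases ?_ (fun i => ?_) i
    · rw [Fin.snoc_last]; exact qe'
    · rw [Fin.snoc_castSucc]; exact H.qe i
  qff := fun i => by
    refine Fin.lastCases ?_ (fun i => ?_) i
    · rw [Fin.snoc_last]; exact qf'
    · rw [Fin.snoc_castSucc]; exact H.qff i
  ef := fun i j => by
    refine Fin.lastCases ?_ (fun i => ?_) i <;> refine Fin.lastCases ?_ (fun j => ?_) j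
    · rw [Fin.snoc_last, Fin.snoc_last, if_pos rfl]; exact hef
    · rw [Fin.snoc_last, Fin.snoc_castSucc, if_neg (Fin.castSucc_lt_last j).ne']
      exact he.2 j
    · rw [Fin.snoc_last, Fin.snoc_castSucc, if_neg (Fin.castSucc_lt_last i).ne, pol_comm]
      exact hf.1 i
    · rw [Fin.snoc_castSucc, Fin.snoc_castSucc, H.ef]
      simp only [Fin.castSucc_inj]
  ee := fun i j => by
    refine Fin.lastCases ?_ (fun i => ?_) i <;> refine Fin.lastCases ?_ (fun j => ?_) j
    · rw [Fin.snoc_last, pol_self, qe', add_zero]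
    · rw [Fin.snoc_last, Fin.snoc_castSucc]; exact he.1 j
    · rw [Fin.snoc_last, Fin.snoc_castSucc, pol_comm]; exact he.1 i
    · rw [Fin.snoc_castSucc, Fin.snoc_castSucc]; exact H.ee i j
  ff := fun i j => by
    refine Fin.lastCases ?_ (fun i => ?_) i <;> refine Fin.lastCases ?_ (fun j => ?_) j
    · rw [Fin.snoc_last, pol_self, qf', add_zero]
    · rw [Fin.snoc_last, Fin.snoc_castSucc]; exact hf.2 j
    · rw [Fin.snoc_last, Fin.snoc_castSucc, pol_comm]; exact hf.2 i
    · rw [Fin.snoc_castSucc, Fin.snoc_castSucc]; exact H.ff i j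

end Groth.Agent.Lib.Helper19QSplit
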