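import Mathlib
import Groth.Agent.Lib.Helper19QSplitB

/-!
# Hyperbolic systems over a field: finding a nondegenerate plane in the orthogonal (helper19)
-/

set_option autoImplicit false
universe u
open Matrix

namespace Groth.Agent.Lib.Helper19QSplit

section Ring
variable {B : Type*} [CommRing B] {ι : Type*} [Fintype ι] [DecidableEq ι] {U : Matrix ι ι B}

lemma pol_sum_right {κ : Type*} (s : Finset κ) (x : ι → B) (y : κ → ι → B) :
    pol U x (∑ i ∈ s, y i) = ∑ i ∈ s, pol U x (y i) := by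
  rw [pol_comm, pol_sum_left]
  exact Finset.sum_congr rfl fun i _ => pol_comm U _ _

lemma HypSys.pol_proj_right {k : ℕ} (H : HypSys U k) {v : ι → B} (hv : H.Orth v) (y : ι → B) :
    pol U v (H.proj y) = pol U v y := by
  rw [pol_comm, pol_comm U v y]
  unfold HypSys.proj
  rw [pol_sub_left, pol_sub_left, pol_sum_left, pol_sum_left]
  have h1 : ∑ i, pol U (pol U y (H.f i) • H.e i) v = 0 :=
    Finset.sum_eq_zero fun i _ => by rw [pol_smul_left, pol_comm U (H.e i), hv.1, mul_zero]
  have h2 : ∑ i, pol U (pol U y (H.e i) • H.f i) v = 0 :=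
    Finset.sum_eq_zero fun i _ => by rw [pol_smul_left, pol_comm U (H.f i), hv.2, mul_zero]
  rw [h1, h2, sub_zero, sub_zero]

end Ring

section Field
variable {K : Type*} [Field K] {ι : Type*} [Fintype ι] [DecidableEq ι] {U : Matrix ι ι K}

/-- the polar form as a linear functional in the first variable. -/
def polL (U : Matrix ι ι K) (w : ι → K) : (ι → K) →ₗ[K] K where
  toFun v := pol U v w
  map_add' := fun x y => pol_add_left U x y w
  map_smul' := fun c x => by simp [pol_smul_left]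

lemma eq_zero_of_pol_eq_zero (hdet : (U + Uᵀ).det ≠ 0) {v : ι → K} (h : ∀ y, pol U v y = 0) :
    v = 0 := by
  refine Matrix.eq_zero_of_vecMul_eq_zero hdet ?_
  refine dotProduct_eq_zero _ fun y => ?_
  rw [← dotProduct_mulVec, ← pol_eq_dotProduct]
  exact h y

lemma HypSys.eq_zero_of_orth (hdet : (U + Uᵀ).det ≠ 0) {k : ℕ} (H : HypSys U k) {v : ι → K}
    (hv : H.Orth v) (h : ∀ w, H.Orth w → pol U v w = 0) : v = 0 :=
  eq_zero_of_pol_eq_zero hdet fun y => by
    rw [← H.pol_proj_right hv y]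
    exact h _ (H.orth_proj y)

lemma HypSys.exists_orth_ne_zero {k : ℕ} (H : HypSys U k) (hk : 2 * k + 1 < Fintype.card ι)
    (w₁ : ι → K) : ∃ w, w ≠ 0 ∧ H.Orth w ∧ pol U w w₁ = 0 := by
  let φ : (ι → K) →ₗ[K] (Option (Fin k ⊕ Fin k) → K) :=
    LinearMap.pi fun j => match j with
      | none => polL U w₁
      | some (Sum.inl i) => polL U (H.e i)
      | some (Sum.inr i) => polL U (H.f i)
  have hlt : Module.finrank K (Option (Fin k ⊕ Fin k) → K) < Module.finrank K (ι → K) := by
    rw [Module.finrank_fintype_fun_eq_card, Module.finrank_fintype_fun_eq_card]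
    simp only [Fintype.card_option, Fintype.card_sum, Fintype.card_fin]
    omega
  obtain ⟨w, hw, hw0⟩ :=
    Submodule.exists_mem_ne_zero_of_ne_bot (LinearMap.ker_ne_bot_of_finrank_lt (f := φ) hlt)
  have hw' : ∀ j, φ w j = 0 := fun j => congrFun (LinearMap.mem_ker.mp hw) j
  refine ⟨w, hw0, ⟨fun i => ?_, fun i => ?_⟩, ?_⟩
  · exact hw' (some (Sum.inl i))
  · exact hw' (some (Sum.inr i))
  · exact hw' none

/-- over a field, in the orthogonal of a hyperbolic system of corank at least two there is a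
plane on which the form is nondegenerate, with a first basis vector which is anisotropic. -/
theorem HypSys.exists_pair_field (hdet : (U + Uᵀ).det ≠ 0) {k : ℕ} (H : HypSys U k)
    (hk : 2 * k + 2 ≤ Fintype.card ι) :
    ∃ w₁ w₂, H.Orth w₁ ∧ H.Orth w₂ ∧ qf U w₁ ≠ 0 ∧
      pol U w₁ w₂ ^ 2 - 4 * qf U w₁ * qf U w₂ ≠ 0 := by
  have hd : ∃ w₁, H.Orth w₁ ∧ qf U w₁ ≠ 0 := by
    by_contra hcon
    have hq : ∀ w, H.Orth w → qf U w = 0 := fun w hw => by
      by_contra h; exact hcon ⟨w, hw, h⟩
    obtain ⟨w, hw0, hw, -⟩ := H.exists_orth_ne_zero (by omega) 0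
    refine hw0 (H.eq_zero_of_orth hdet hw fun w' hw' => ?_)
    have h := qf_add U w w'
    rw [hq _ (hw.add hw'), hq _ hw, hq _ hw'] at h
    simpa using h.symm
  obtain ⟨w₁, h₁, ha⟩ := hd
  refine ⟨w₁, ?_⟩
  by_contra hcon
  have hD : ∀ w, H.Orth w → pol U w₁ w ^ 2 - 4 * qf U w₁ * qf U w = 0 := fun w hw => by
    by_contra h; exact hcon ⟨w, h₁, hw, ha, h⟩
  by_cases h2 : (2 : K) = 0
  · have h4 : (4 : K) = 0 := by
      have : (4 : K) = 2 * 2 := by norm_num
      rw [this, h2, mul_zero]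
    have hw₁ : w₁ = 0 := H.eq_zero_of_orth hdet h₁ fun w hw => by
      have h := hD w hw
      rw [h4, zero_mul, zero_mul, sub_zero] at h
      exact pow_eq_zero_iff (two_ne_zero) |>.mp h
    exact ha (by rw [hw₁, qf_zero])
  · obtain ⟨w, hw0, hw, hp⟩ := H.exists_orth_ne_zero (by omega) w₁
    refine hw0 (H.eq_zero_of_orth hdet hw fun w' hw' => ?_)
    have E1 := hD w hw
    have E2 := hD w' hw'
    have E3 := hD (w + w') (hw.add hw')
    rw [pol_add_right, qf_add] at E3
    rw [pol_comm] at hp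
    have h4 : 4 * qf U w₁ * pol U w w' = 0 := by
      linear_combination E1 + E2 - E3 + 2 * pol U w₁ w' * hp
    have h4' : (4 : K) ≠ 0 := by
      have : (4 : K) = 2 * 2 := by norm_num
      rw [this]; exact mul_ne_zero h2 h2
    rcases mul_eq_zero.mp h4 with h | h
    · exact ((mul_ne_zero h4' ha) h).elim
    · exact h

end Field

end Groth.Agent.Lib.Helper19QSplit
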