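import Mathlib
import Groth.Agent.Lib.Helper19QSplitC

/-!
# Lifting a nondegenerate plane from the residue field at a prime (helper19)
-/

set_option autoImplicit false
universe u
open Matrix

namespace Groth.Agent.Lib.Helper19QSplit

variable {B : Type*} [CommRing B] {ι : Type*} [Fintype ι] [DecidableEq ι] {U : Matrix ι ι B}

/-- clearing denominators of finitely many vectors over the residue field of a prime. -/
lemma exists_lift_vectors (q : Ideal B) [q.IsPrime] {κ : Type*} [Finite κ]
    (f : κ → ι → q.ResidueField) :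
    ∃ s : B, s ∉ q ∧ ∃ w : κ → ι → B, ∀ j i,
      algebraMap B q.ResidueField (w j i) = algebraMap B q.ResidueField s * f j i := by
  obtain ⟨b, hb⟩ := IsLocalization.exist_integer_multiples_of_finite
    (nonZeroDivisors (B ⧸ q)) (fun p : κ × ι => f p.1 p.2)
  obtain ⟨s, hs⟩ := Ideal.Quotient.mk_surjective (b : B ⧸ q)
  have hsq : s ∉ q := by
    intro h
    have h0 : (b : B ⧸ q) = 0 := by rw [← hs]; exact Ideal.Quotient.eq_zero_iff_mem.mpr h
    exact (nonZeroDivisors.coe_ne_zero b) h0
  choose y hy using hb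
  choose w hw using fun p => Ideal.Quotient.mk_surjective (y p)
  refine ⟨s, hsq, fun j i => w (j, i), fun j i => ?_⟩
  have h1 := hy (j, i)
  rw [← hw (j, i), Ideal.algebraMap_quotient_residueField_mk, Algebra.smul_def, ← hs,
    Ideal.algebraMap_quotient_residueField_mk] at h1
  exact h1

lemma map_polarMatrix {B' : Type*} [CommRing B'] (φ : B →+* B') :
    (U.map φ + (U.map φ)ᵀ).det = φ (U + Uᵀ).det := by
  rw [RingHom.map_det, RingHom.mapMatrix_apply, Matrix.map_add _ (map_add φ), transpose_map]

/-- in the orthogonal of a hyperbolic system of corank at least two, over any ring with a given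
prime `q`, there is a pair of vectors spanning a plane nondegenerate at `q`, the first vector being
anisotropic at `q`. -/
theorem HypSys.exists_pair_prime (hdet : IsUnit (U + Uᵀ).det) {k : ℕ} (H : HypSys U k)
    (hk : 2 * k + 2 ≤ Fintype.card ι) (q : Ideal B) [q.IsPrime] :
    ∃ w₁ w₂, H.Orth w₁ ∧ H.Orth w₂ ∧ qf U w₁ ∉ q ∧
      pol U w₁ w₂ ^ 2 - 4 * qf U w₁ * qf U w₂ ∉ q := by
  let φ : B →+* q.ResidueField := algebraMap B q.ResidueField
  have hdetK : (U.map φ + (U.map φ)ᵀ).det ≠ 0 := by
    rw [map_polarMatrix]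
    exact (hdet.map φ).ne_zero
  obtain ⟨v₁, v₂, hv₁, hv₂, ha, hD⟩ := (H.map φ).exists_pair_field hdetK hk
  obtain ⟨s, hs, w, hw⟩ := exists_lift_vectors q (fun j : Bool => if j then v₁ else v₂)
  have hφs : φ s ≠ 0 := fun h => hs (Ideal.algebraMap_residueField_eq_zero.mp h)
  have e₁ : φ ∘ H.proj (w true) = φ s • v₁ := by
    rw [H.map_proj]
    have : φ ∘ w true = φ s • v₁ := by
      funext i
      have := hw true i
      simpa using this
    rw [this]
    exact (H.map φ).proj_eq_self (hv₁.smul _)
  have e₂ : φ ∘ H.proj (w false) = φ s • v₂ := by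
    rw [H.map_proj]
    have : φ ∘ w false = φ s • v₂ := by
      funext i
      have := hw false i
      simpa using this
    rw [this]
    exact (H.map φ).proj_eq_self (hv₂.smul _)
  refine ⟨H.proj (w true), H.proj (w false), H.orth_proj _, H.orth_proj _, fun h => ?_, fun h => ?_⟩
  · have h0 : φ (qf U (H.proj (w true))) = 0 := Ideal.algebraMap_residueField_eq_zero.mpr h
    rw [map_qf, e₁, qf_smul] at h0
    exact (mul_ne_zero (pow_ne_zero 2 hφs) ha) h0
  · have h0 : φ (pol U (H.proj (w true)) (H.proj (w false)) ^ 2 -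
        4 * qf U (H.proj (w true)) * qf U (H.proj (w false))) = 0 :=
      Ideal.algebraMap_residueField_eq_zero.mpr h
    rw [map_sub, map_pow, map_mul, map_mul, map_pol, map_qf, map_qf, e₁, e₂, qf_smul, qf_smul,
      pol_smul_left, pol_smul_right] at h0
    have h4 : φ 4 = 4 := map_ofNat φ 4
    rw [h4] at h0
    have : φ s ^ 4 * (pol (U.map φ) v₁ v₂ ^ 2 - 4 * qf (U.map φ) v₁ * qf (U.map φ) v₂) = 0 := by
      linear_combination h0
    exact (mul_ne_zero (pow_ne_zero 4 hφs) hD) this

end Groth.Agent.Lib.Helper19QSplit
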