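import Mathlib
import Groth.Agent.Lib.Helper19QSplitD

/-!
# Splitting off a hyperbolic plane after an étale extension (helper19)
-/

set_option autoImplicit false
universe u
open Matrix Polynomial

namespace Groth.Agent.Lib.Helper19QSplit

section Algebraic
variable {B : Type*} [CommRing B] {ι : Type*} [Fintype ι] [DecidableEq ι] {U : Matrix ι ι B}

/-- given a root `u` of `T² + bT + ac` with `a (2u + b)` invertible, the plane spanned by
`w₁, w₂` (with `a = q(w₁)`, `b = ⟨w₁,w₂⟩`, `c = q(w₂)`) contains a hyperbolic pair. -/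
theorem HypSys.nonempty_succ {k : ℕ} (H : HypSys U k) {w₁ w₂ : ι → B} (h₁ : H.Orth w₁)
    (h₂ : H.Orth w₂) (u t : B)
    (hu : u ^ 2 + pol U w₁ w₂ * u + qf U w₁ * qf U w₂ = 0)
    (ht : t * (qf U w₁ * (2 * u + pol U w₁ w₂)) = 1) : Nonempty (HypSys U (k + 1)) := by
  have he : H.Orth (u • w₁ + qf U w₁ • w₂) := (h₁.smul u).add (h₂.smul _)
  have qe : qf U (u • w₁ + qf U w₁ • w₂) = 0 := by
    rw [qf_add, qf_smul, qf_smul, pol_smul_left, pol_smul_right]
    linear_combination qf U w₁ * hu
  have pe : pol U (u • w₁ + qf U w₁ • w₂) w₁ = qf U w₁ * (2 * u + pol U w₁ w₂) := by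
    rw [pol_add_left, pol_smul_left, pol_smul_left, pol_self, pol_comm U w₂ w₁]
    ring
  have pef₀ : pol U (u • w₁ + qf U w₁ • w₂) (t • w₁) = 1 := by
    rw [pol_smul_right, pe, ht]
  have hf : H.Orth (t • w₁ + (-qf U (t • w₁)) • (u • w₁ + qf U w₁ • w₂)) :=
    (h₁.smul t).add (he.smul _)
  have qf' : qf U (t • w₁ + (-qf U (t • w₁)) • (u • w₁ + qf U w₁ • w₂)) = 0 := by
    rw [qf_add, qf_smul U (-qf U (t • w₁)), qe, pol_smul_right, pol_comm U (t • w₁), pef₀]
    ring
  have pef : pol U (u • w₁ + qf U w₁ • w₂)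
      (t • w₁ + (-qf U (t • w₁)) • (u • w₁ + qf U w₁ • w₂)) = 1 := by
    rw [pol_add_right, pef₀, pol_smul_right, pol_self, qe]
    ring
  exact ⟨H.snoc _ _ he hf qe qf' pef⟩

end Algebraic

section Etale

/-- the standard étale algebra in which `T² + bT + ac` acquires a root `u` with `a (2u + b)`
invertible; it has a prime over any prime `q` not containing `a (b² - 4ac)`. -/
theorem exists_etale_root {B : Type u} [CommRing B] (a b c : B) (q : Ideal B) [q.IsPrime]
    (ha : a ∉ q) (hD : b ^ 2 - 4 * a * c ∉ q) :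
    ∃ (B' : Type u) (_ : CommRing B') (_ : Algebra B B'), Algebra.Etale B B' ∧
      (∃ q' : Ideal B', q'.IsPrime ∧ q'.comap (algebraMap B B') = q) ∧
      ∃ u t : B', u ^ 2 + algebraMap B B' b * u + algebraMap B B' a * algebraMap B B' c = 0 ∧
        t * (algebraMap B B' a * (2 * u + algebraMap B B' b)) = 1 := by
  classical
  let f : B[X] := X ^ 2 + (C b * X + C (a * c))
  have hfm : f.Monic := monic_X_pow_add (lt_of_le_of_lt degree_linear_le (by norm_num))
  let P : StandardEtalePair B :=
    { f := f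
      monic_f := hfm
      g := C a * derivative f
      cond := ⟨C a, 0, 1, by ring⟩ }
  have hPf : ∀ {S : Type u} [CommRing S] [Algebra B S] (x : S),
      aeval x P.f = x ^ 2 + algebraMap B S b * x + algebraMap B S a * algebraMap B S c := by
    intro S _ _ x
    change aeval x (X ^ 2 + (C b * X + C (a * c)) : B[X]) = _
    simp [add_assoc]
  have hPg : ∀ {S : Type u} [CommRing S] [Algebra B S] (x : S),
      aeval x P.g = algebraMap B S a * (2 * x + algebraMap B S b) := by
    intro S _ _ x
    change aeval x (C a * derivative (X ^ 2 + (C b * X + C (a * c)) : B[X])) = _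
    simp
    ring
  refine ⟨P.Ring, inferInstance, inferInstance, inferInstance, ?_, ?_⟩
  · -- the prime over `q`
    let Ω := AlgebraicClosure q.ResidueField
    let ψ : B →+* Ω := algebraMap B Ω
    have hψ : ∀ r, ψ r = 0 ↔ r ∈ q := fun r => by
      change algebraMap B Ω r = 0 ↔ _
      rw [IsScalarTower.algebraMap_apply B q.ResidueField Ω, map_eq_zero_iff _
        (algebraMap q.ResidueField Ω).injective, Ideal.algebraMap_residueField_eq_zero]
    have hdeg : (f.map ψ).degree ≠ 0 := by
      rw [hfm.degree_map]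
      have : f.degree = 2 := by
        change (X ^ 2 + (C b * X + C (a * c)) : B[X]).degree = 2
        have : Nontrivial B :=
          ⟨⟨0, 1, fun h => ‹q.IsPrime›.ne_top ((Ideal.eq_top_iff_one q).mpr (h ▸ q.zero_mem))⟩⟩
        rw [degree_add_eq_left_of_degree_lt, degree_X_pow]
        · rfl
        · rw [degree_X_pow]
          exact lt_of_le_of_lt degree_linear_le (by norm_num)
      rw [this]; norm_num
    obtain ⟨x, hx⟩ := IsAlgClosed.exists_root (f.map ψ) hdeg
    have hx' : aeval x P.f = 0 := by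
      change aeval x f = 0
      rw [aeval_def, eval₂_eq_eval_map]
      exact hx
    have hroot := hx'
    rw [hPf] at hroot
    have hsq : (2 * x + ψ b) ^ 2 = ψ (b ^ 2 - 4 * a * c) := by
      have h4 : ψ 4 = 4 := map_ofNat ψ 4
      rw [map_sub, map_pow, map_mul, map_mul, h4]
      linear_combination 4 * hroot
    have hunit : IsUnit (aeval x P.g) := by
      rw [hPg]
      refine IsUnit.mk0 _ (mul_ne_zero (fun h => ha ((hψ a).mp h)) fun h => hD ((hψ _).mp ?_))
      rw [← hsq]
      change (2 * x + ψ b) = 0 at h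
      rw [h]; ring
    let χ : P.Ring →ₐ[B] Ω := P.lift x ⟨hx', hunit⟩
    refine ⟨RingHom.ker χ.toRingHom, RingHom.ker_isPrime _, ?_⟩
    ext r
    rw [Ideal.mem_comap, RingHom.mem_ker]
    change χ (algebraMap B P.Ring r) = 0 ↔ _
    rw [χ.commutes]
    exact hψ r
  · have hX : P.HasMap P.X := StandardEtalePair.hasMap_X
    have h1 := hX.1
    have h2 := hX.2
    rw [hPf] at h1
    rw [hPg] at h2
    obtain ⟨t, ht⟩ := h2.exists_left_inv
    exact ⟨P.X, t, h1, ht⟩

end Etale

end Groth.Agent.Lib.Helper19QSplit
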