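import Mathlib
import Groth.Agent.Lib.Helper19QSplitE

/-!
# Étale-local splitting of an ordinary quadratic form of even rank (helper19)
-/

set_option autoImplicit false
universe u
open Matrix Polynomial

namespace Groth.Agent.Lib.Helper19QSplit

section Step

/-- one step: after an étale extension with a prime over `q`, a hyperbolic system of corank at
least two can be enlarged. -/
theorem HypSys.exists_etale_succ {B : Type u} [CommRing B] {ι : Type*} [Fintype ι]
    [DecidableEq ι] {U : Matrix ι ι B} (hdet : IsUnit (U + Uᵀ).det) {k : ℕ} (H : HypSys U k)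
    (hk : 2 * k + 2 ≤ Fintype.card ι) (q : Ideal B) [q.IsPrime] :
    ∃ (B' : Type u) (_ : CommRing B') (_ : Algebra B B'), Algebra.Etale B B' ∧
      (∃ q' : Ideal B', q'.IsPrime ∧ q'.comap (algebraMap B B') = q) ∧
      Nonempty (HypSys (U.map (algebraMap B B')) (k + 1)) := by
  obtain ⟨w₁, w₂, h₁, h₂, ha, hD⟩ := H.exists_pair_prime hdet hk q
  obtain ⟨B', _, _, hE, hq', u, t, hu, ht⟩ :=
    exists_etale_root (qf U w₁) (pol U w₁ w₂) (qf U w₂) q ha hD
  refine ⟨B', inferInstance, inferInstance, hE, hq', ?_⟩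
  refine (H.map (algebraMap B B')).nonempty_succ (h₁.map _) (h₂.map _) u t ?_ ?_
  · rw [← map_pol, ← map_qf, ← map_qf]; exact hu
  · rw [← map_pol, ← map_qf]; exact ht

/-- étale-locally around any prime there is a hyperbolic system of any admissible size. -/
theorem exists_etale_hypSys {A : Type u} [CommRing A] {ι : Type*} [Fintype ι] [DecidableEq ι]
    (U : Matrix ι ι A) (hdet : IsUnit (U + Uᵀ).det) (k : ℕ) (hk : 2 * k ≤ Fintype.card ι)
    (p : Ideal A) [p.IsPrime] :
    ∃ (B : Type u) (_ : CommRing B) (_ : Algebra A B), Algebra.Etale A B ∧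
      (∃ q : Ideal B, q.IsPrime ∧ q.comap (algebraMap A B) = p) ∧
      Nonempty (HypSys (U.map (algebraMap A B)) k) := by
  induction k with
  | zero =>
    exact ⟨A, inferInstance, inferInstance, inferInstance, ⟨p, inferInstance, Ideal.comap_id p⟩,
      ⟨HypSys.empty⟩⟩
  | succ k ih =>
    obtain ⟨B, _, _, hE, ⟨q, hq, hqp⟩, ⟨H⟩⟩ := ih (by omega)
    have hdetB : IsUnit ((U.map (algebraMap A B)) + (U.map (algebraMap A B))ᵀ).det := by
      rw [map_polarMatrix]; exact hdet.map _
    obtain ⟨B', _, _, hE', ⟨q', hq', hq'q⟩, ⟨H'⟩⟩ := H.exists_etale_succ hdetB (by omega) q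
    letI : Algebra A B' := ((algebraMap B B').comp (algebraMap A B)).toAlgebra
    haveI : IsScalarTower A B B' := IsScalarTower.of_algebraMap_eq fun _ => rfl
    refine ⟨B', inferInstance, inferInstance, Algebra.Etale.comp A B B', ⟨q', hq', ?_⟩, ?_⟩
    · change q'.comap ((algebraMap B B').comp (algebraMap A B)) = p
      rw [← Ideal.comap_comap, hq'q, hqp]
    · have e : (U.map (algebraMap A B)).map (algebraMap B B') = U.map (algebraMap A B') := by
        ext i j; rfl
      exact ⟨e ▸ H'⟩

end Step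

section Matrix
variable {B : Type*} [CommRing B] {ι : Type*} [Fintype ι] [DecidableEq ι] {U : Matrix ι ι B}

lemma HypSys.qf_pair {k : ℕ} (H : HypSys U k) (a : Fin k) (x y : B) :
    qf U (x • H.e a + y • H.f a) = x * y := by
  rw [qf_add, qf_smul, qf_smul, H.qe, H.qff, pol_smul_left, pol_smul_right, H.ef, if_pos rfl]
  ring

lemma HypSys.pol_pair {k : ℕ} (H : HypSys U k) {a l : Fin k} (hal : a ≠ l) (x y x' y' : B) :
    pol U (x • H.e a + y • H.f a) (x' • H.e l + y' • H.f l) = 0 := by
  simp only [pol_add_left, pol_add_right, pol_smul_left, pol_smul_right, H.ee, H.ff, H.ef,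
    pol_comm U (H.f a) (H.e l), if_neg hal, if_neg (Ne.symm hal), mul_zero, add_zero]

lemma HypSys.qf_comb {k : ℕ} (H : HypSys U k) (x y : Fin k → B) :
    qf U (∑ l, (x l • H.e l + y l • H.f l)) = ∑ l, x l * y l := by
  classical
  have key : ∀ s : Finset (Fin k),
      qf U (∑ l ∈ s, (x l • H.e l + y l • H.f l)) = ∑ l ∈ s, x l * y l := by
    intro s
    induction s using Finset.induction_on with
    | empty => simp [qf_zero]
    | insert a s ha ih =>
      rw [Finset.sum_insert ha, Finset.sum_insert ha, qf_add, ih, H.qf_pair, pol_sum_right]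
      have h0 : ∑ i ∈ s, pol U (x a • H.e a + y a • H.f a) (x i • H.e i + y i • H.f i) = 0 :=
        Finset.sum_eq_zero fun l hl =>
          H.pol_pair (fun h : a = l => ha (by rw [h]; exact hl)) _ _ _ _
      rw [h0, add_zero]
  exact key Finset.univ

variable {m : ℕ} {V : Matrix (Fin m ⊕ Fin m) (Fin m ⊕ Fin m) B}

/-- the matrix whose columns are the vectors of a full hyperbolic system. -/
def HypSys.toMatrix (H : HypSys V m) : Matrix (Fin m ⊕ Fin m) (Fin m ⊕ Fin m) B :=
  Matrix.of fun i j => Sum.elim (fun l => H.e l i) (fun l => H.f l i) j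

lemma HypSys.toMatrix_mulVec (H : HypSys V m) (x : Fin m ⊕ Fin m → B) :
    H.toMatrix *ᵥ x = ∑ l, (x (Sum.inl l) • H.e l + x (Sum.inr l) • H.f l) := by
  funext i
  simp only [HypSys.toMatrix, mulVec, dotProduct, of_apply, Fintype.sum_sum_type, Sum.elim_inl,
    Sum.elim_inr, Finset.sum_apply, Pi.add_apply, Pi.smul_apply, smul_eq_mul,
    Finset.sum_add_distrib]
  congr 1 <;> exact Finset.sum_congr rfl fun l _ => mul_comm _ _

lemma HypSys.qf_toMatrix_mulVec (H : HypSys V m) (x : Fin m ⊕ Fin m → B) :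
    qf V (H.toMatrix *ᵥ x) = ∑ j, x (Sum.inl j) * x (Sum.inr j) := by
  rw [H.toMatrix_mulVec, H.qf_comb]

lemma HypSys.gram (H : HypSys V m) (j l : Fin m ⊕ Fin m) :
    (H.toMatrixᵀ * ((V + Vᵀ) * H.toMatrix)) j l = if j = l.swap then 1 else 0 := by
  have h1 : (H.toMatrixᵀ * ((V + Vᵀ) * H.toMatrix)) j l =
      pol V (fun i => H.toMatrix i j) (fun i => H.toMatrix i l) := by
    rw [pol_eq_dotProduct]; rfl
  rw [h1]
  rcases j with j | j <;> rcases l with l | l
  · change pol V (H.e j) (H.e l) = _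
    rw [H.ee]; simp
  · change pol V (H.e j) (H.f l) = _
    rw [H.ef]; simp
  · change pol V (H.f j) (H.e l) = _
    rw [pol_comm, H.ef]; simp [eq_comm]
  · change pol V (H.f j) (H.f l) = _
    rw [H.ff]; simp

lemma HypSys.isUnit_det_toMatrix (H : HypSys V m) : IsUnit H.toMatrix.det := by
  let J : Matrix (Fin m ⊕ Fin m) (Fin m ⊕ Fin m) B := H.toMatrixᵀ * ((V + Vᵀ) * H.toMatrix)
  have hJ : J * J = 1 := by
    ext j l
    rw [Matrix.mul_apply]
    simp only [J, H.gram, Matrix.one_apply]
    rw [Finset.sum_eq_single l.swap]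
    · simp only [if_true, mul_one]
      rcases j with j | j <;> rcases l with l | l <;> simp
    · intro p _ hp
      rw [if_neg hp, mul_zero]
    · intro h; exact (h (Finset.mem_univ _)).elim
  have h2 : (J * H.toMatrixᵀ * (V + Vᵀ)) * H.toMatrix = 1 := by
    rw [← hJ]
    simp only [J, Matrix.mul_assoc]
  exact Matrix.isUnit_det_of_left_inverse h2

end Matrix

section Cover

/-- a finite étale cover from étale neighbourhoods of all primes. -/
theorem exists_finite_etale_cover {A : Type u} [CommRing A]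
    (Pr : ∀ (B : Type u) [CommRing B] [Algebra A B], Prop)
    (h : ∀ p : PrimeSpectrum A, ∃ (B : Type u) (_ : CommRing B) (_ : Algebra A B),
      Algebra.Etale A B ∧ (∃ q : Ideal B, q.IsPrime ∧ q.comap (algebraMap A B) = p.asIdeal) ∧
      Pr B) :
    ∃ (n : ℕ) (B : Fin n → Type u) (_ : ∀ t, CommRing (B t)) (_ : ∀ t, Algebra A (B t)),
      (∀ t, Algebra.Etale A (B t)) ∧
      (∀ p : PrimeSpectrum A, ∃ (t : Fin n) (q : PrimeSpectrum (B t)),
        q.asIdeal.comap (algebraMap A (B t)) = p.asIdeal) ∧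
      ∀ t, Pr (B t) := by
  classical
  choose Bf instR instA hE hq hPr using h
  let W : PrimeSpectrum A → Set (PrimeSpectrum A) := fun p =>
    Set.range (PrimeSpectrum.comap (algebraMap A (Bf p)))
  have hWo : ∀ p, IsOpen (W p) := fun p => by
    have := hE p
    have : Module.Flat A (Bf p) := Algebra.Smooth.flat A (Bf p)
    exact (PrimeSpectrum.isOpenMap_comap_of_hasGoingDown_of_finitePresentation
      (R := A) (S := Bf p)).isOpen_range
  have hWp : ∀ p, p ∈ W p := fun p => by
    obtain ⟨q, hqp, hqc⟩ := hq p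
    exact ⟨⟨q, hqp⟩, PrimeSpectrum.ext hqc⟩
  obtain ⟨t, ht⟩ := isCompact_univ.elim_finite_subcover W hWo
    (fun p _ => Set.mem_iUnion.mpr ⟨p, hWp p⟩)
  let e : Fin t.card ≃ t := t.equivFin.symm
  refine ⟨t.card, fun i => Bf (e i).1, fun i => instR _, fun i => instA _, fun i => hE _,
    fun p => ?_, fun i => hPr _⟩
  have hp := ht (Set.mem_univ p)
  simp only [Set.mem_iUnion] at hp
  obtain ⟨i, hi, q, hq⟩ := hp
  obtain ⟨j, hj⟩ := e.surjective ⟨i, hi⟩
  have hij : (e j).1 = i := congrArg Subtype.val hj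
  subst hij
  refine ⟨j, q, ?_⟩
  rw [← hq]
  rfl

end Cover

end Groth.Agent.Lib.Helper19QSplit
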