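import Groth.Agent.S17014

/-!
# Helper25HalfDisc: the half-discriminant in odd rank and fibrewise non-degeneracy (helper25)
Builds on helper15's `Groth.Agent.S17014.Aux.HD`.
-/

set_option autoImplicit false

namespace Groth.Agent.Lib.Helper25.HalfDisc

open MvPolynomial Matrix QuadGrp
open Groth.Agent.S17014.Aux.HD

variable {m : ℕ}

/-- the principal minor of the polar matrix of a table obtained by deleting row and column `i` -/
noncomputable def minor {S : Type*} [CommRing S] (a : Sym2 (Fin (2 * m + 1)) → S) (i : Fin (2 * m + 1)) :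
    Matrix (Fin (2 * m)) (Fin (2 * m)) S :=
  (PM a).submatrix i.succAbove i.succAbove

theorem det_PM_of_row_zero {S : Type*} [CommRing S] (a : Sym2 (Fin (2 * m + 1)) → S)
    (i : Fin (2 * m + 1)) (h0 : ∀ j, j ≠ i → a s(i, j) = 0) :
    (PM a).det = 2 * a s(i, i) * (minor a i).det := by
  rw [Matrix.det_succ_row (PM a) i, Finset.sum_eq_single i]
  · have h1 : ((-1 : S)) ^ ((i : ℕ) + (i : ℕ)) = 1 := Even.neg_one_pow ⟨i, rfl⟩
    rw [h1, one_mul]
    simp only [PM, Matrix.of_apply, if_true]
    rfl
  · intro j _ hj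
    have : (PM a) i j = 0 := by
      simp only [PM, Matrix.of_apply]
      rw [if_neg (Ne.symm hj), h0 j hj]
    rw [this, mul_zero, zero_mul]
  · intro h
    exact absurd (Finset.mem_univ i) h

theorem eval_two {S : Type*} [CommRing S] {σ : Type*} (a : σ → S) :
    eval₂ (Int.castRingHom S) a (2 : MvPolynomial σ ℤ) = 2 := by
  rw [← map_ofNat C 2, eval₂_C]; simp

theorem halfDisc_of_row_zero_dom {S : Type*} [CommRing S] [IsDomain S] [CharZero S]
    (a : Sym2 (Fin (2 * m + 1)) → S)
    (i : Fin (2 * m + 1)) (h0 : ∀ j, j ≠ i → a s(i, j) = 0) :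
    eval₂ (Int.castRingHom S) a (halfDiscUniv (2 * m + 1)) = a s(i, i) * (minor a i).det := by
  have h1 := eval_disc a
  rw [disc_eq_two_mul, eval₂_mul, eval_two, det_PM_of_row_zero a i h0] at h1
  have : (2 : S) * (eval₂ (Int.castRingHom S) a (halfDiscUniv (2 * m + 1)) -
      a s(i, i) * (minor a i).det) = 0 := by
    linear_combination h1
  rcases mul_eq_zero.mp this with h | h
  · exact absurd h two_ne_zero
  · exact sub_eq_zero.mp h

theorem halfDisc_of_row_zero {R : Type*} [CommRing R]
    (a : Sym2 (Fin (2 * m + 1)) → R)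
    (i : Fin (2 * m + 1)) (h0 : ∀ j, j ≠ i → a s(i, j) = 0) :
    eval₂ (Int.castRingHom R) a (halfDiscUniv (2 * m + 1)) = a s(i, i) * (minor a i).det := by
  classical
  let ev : MvPolynomial R ℤ →+* R := eval₂Hom (Int.castRingHom R) id
  let a' : Sym2 (Fin (2 * m + 1)) → MvPolynomial R ℤ :=
    fun p => if (i ∈ p ∧ p ≠ s(i, i)) then 0 else X (a p)
  have ha : ev ∘ a' = a := by
    funext p
    simp only [Function.comp, a']
    split_ifs with h
    · obtain ⟨h1, h2⟩ := h
      obtain ⟨j, rfl⟩ := Sym2.mem_iff_exists.mp h1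
      have hj : j ≠ i := by
        rintro rfl
        exact h2 rfl
      rw [map_zero, h0 j hj]
    · simp [ev]
  have h0' : ∀ j, j ≠ i → a' s(i, j) = 0 := by
    intro j hj
    simp only [a']
    rw [if_pos]
    refine ⟨Sym2.mem_mk_left i j, ?_⟩
    intro h
    rw [Sym2.eq_iff] at h
    rcases h with ⟨_, h⟩ | ⟨_, h⟩
    · exact hj h
    · exact hj h
  have hcomp : ev.comp (Int.castRingHom (MvPolynomial R ℤ)) = Int.castRingHom R :=
    RingHom.ext_int _ _
  have h := congrArg ev (halfDisc_of_row_zero_dom a' i h0')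
  rw [map_mul, RingHom.map_det, eval₂_comp_left, hcomp, ha] at h
  rw [h]
  have h2 : ev (a' s(i, i)) = a s(i, i) := congrFun ha s(i, i)
  rw [h2]
  congr 2
  have h3 : (PM a').map ev = PM a := by
    rw [PM_map, ha]
  simp only [minor, RingHom.mapMatrix_apply, ← h3]
  rfl

section LemmaB

variable {m : ℕ} {R : Type*} [CommRing R] {M : Type*} [AddCommGroup M] [Module R M]

theorem PM_coeffs {n : ℕ} (b : Module.Basis (Fin n) R M) (Q : QuadraticForm R M) :
    PM (coeffs b (LinearEquiv.refl R R) Q) =
      LinearMap.BilinForm.toMatrix b (QuadraticMap.polarBilin Q) := by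
  ext k l
  rw [LinearMap.BilinForm.toMatrix_apply, QuadraticMap.polarBilin_apply_apply]
  simp only [PM, Matrix.of_apply, coeffs_mk, LinearEquiv.refl_apply]
  split_ifs with h
  · subst h; rw [QuadraticMap.polar_self, two_smul, two_mul]
  · rfl

/-- the endomorphism replacing the basis vector `b i` by `w` -/
noncomputable def repl (b : Module.Basis (Fin (2 * m + 1)) R M) (i : Fin (2 * m + 1)) (w : M) :
    M →ₗ[R] M :=
  b.constr ℕ (Function.update (⇑b) i w)

theorem repl_self (b : Module.Basis (Fin (2 * m + 1)) R M) (i : Fin (2 * m + 1)) (w : M) :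
    repl b i w (b i) = w := by
  rw [repl, Module.Basis.constr_basis, Function.update_self]

theorem repl_of_ne (b : Module.Basis (Fin (2 * m + 1)) R M) (i : Fin (2 * m + 1)) (w : M)
    (j : Fin (2 * m + 1)) (hj : j ≠ i) : repl b i w (b j) = b j := by
  rw [repl, Module.Basis.constr_basis, Function.update_of_ne hj]

theorem det_repl (b : Module.Basis (Fin (2 * m + 1)) R M) (i : Fin (2 * m + 1)) (w : M) :
    LinearMap.det (repl b i w) = b.repr w i := by
  rw [← LinearMap.det_toMatrix b]
  have h1 : LinearMap.toMatrix b b (repl b i w) =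
      (1 : Matrix (Fin (2 * m + 1)) (Fin (2 * m + 1)) R).updateCol i (fun k => b.repr w k) := by
    ext k l
    rw [LinearMap.toMatrix_apply, Matrix.updateCol_apply]
    by_cases hl : l = i
    · subst hl
      rw [repl_self, if_pos rfl]
    · rw [repl_of_ne b i w l hl, if_neg hl, Module.Basis.repr_self, Matrix.one_apply,
        Finsupp.single_apply]
      by_cases hkl : l = k
      · subst hkl; simp
      · rw [if_neg hkl, if_neg (Ne.symm hkl)]
  rw [h1, ← Matrix.cramer_apply, Matrix.cramer_one]
  rfl

theorem lemmaB (b : Module.Basis (Fin (2 * m + 1)) R M) (Q : QuadraticForm R M)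
    (w : M) (hw : ∀ v, QuadraticMap.polar Q w v = 0) (i : Fin (2 * m + 1)) :
    (b.repr w i) ^ 2 * halfDisc b (LinearEquiv.refl R R) Q =
      Q w * ((LinearMap.BilinForm.toMatrix b (QuadraticMap.polarBilin Q)).submatrix
        i.succAbove i.succAbove).det := by
  have h1 := main m b Q (repl b i w)
  rw [det_repl] at h1
  rw [← h1, halfDisc]
  have h0 : ∀ j, j ≠ i → coeffs b (LinearEquiv.refl R R) (Q.comp (repl b i w)) s(i, j) = 0 := by
    intro j hj
    rw [coeffs_mk, if_neg (Ne.symm hj)]
    simp only [LinearEquiv.refl_apply, QuadraticMap.polar, QuadraticMap.comp_apply, map_add]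
    rw [repl_self, repl_of_ne b i w j hj]
    exact hw (b j)
  rw [halfDisc_of_row_zero _ i h0, coeffs_mk, if_pos rfl]
  simp only [LinearEquiv.refl_apply, QuadraticMap.comp_apply, repl_self]
  congr 2
  ext j k
  simp only [minor, Matrix.submatrix_apply]
  rw [PM_coeffs, LinearMap.BilinForm.toMatrix_apply, LinearMap.BilinForm.toMatrix_apply,
    QuadraticMap.polarBilin_apply_apply, QuadraticMap.polarBilin_apply_apply]
  simp only [QuadraticMap.polar, QuadraticMap.comp_apply, map_add]
  rw [repl_of_ne b i w _ (Fin.succAbove_ne i j), repl_of_ne b i w _ (Fin.succAbove_ne i k)]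

end LemmaB

section Coord

variable {m : ℕ} {R : Type*} [CommRing R] {M : Type*} [AddCommGroup M] [Module R M]

/-- the polar matrix -/
noncomputable abbrev Mx {n : ℕ} (b : Module.Basis (Fin n) R M) (Q : QuadraticForm R M) :
    Matrix (Fin n) (Fin n) R :=
  LinearMap.BilinForm.toMatrix b (QuadraticMap.polarBilin Q)

theorem polar_basis {n : ℕ} (b : Module.Basis (Fin n) R M) (Q : QuadraticForm R M) (x : M)
    (k : Fin n) :
    QuadraticMap.polar Q x (b k) = ∑ l, b.repr x l * Mx b Q l k := by
  conv_lhs => rw [← b.sum_repr x]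
  rw [← QuadraticMap.polarBilin_apply_apply, map_sum, LinearMap.sum_apply]
  refine Finset.sum_congr rfl fun l _ => ?_
  rw [map_smul, LinearMap.smul_apply, smul_eq_mul]
  simp only [Mx, LinearMap.BilinForm.toMatrix_apply]

theorem polar_eq_zero_of_basis {n : ℕ} (b : Module.Basis (Fin n) R M) (Q : QuadraticForm R M)
    (x : M) (h : ∀ k, QuadraticMap.polar Q x (b k) = 0) (v : M) : QuadraticMap.polar Q x v = 0 := by
  have h1 : QuadraticMap.polarBilin Q x = 0 := by
    apply b.ext
    intro k
    rw [QuadraticMap.polarBilin_apply_apply, h k]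
    rfl
  rw [← QuadraticMap.polarBilin_apply_apply, h1]
  rfl

theorem det_Mx (b : Module.Basis (Fin (2 * m + 1)) R M) (Q : QuadraticForm R M) :
    (Mx b Q).det = 2 * halfDisc b (LinearEquiv.refl R R) Q := by
  have h1 := eval_disc (coeffs b (LinearEquiv.refl R R) Q)
  rw [disc_eq_two_mul, eval₂_mul, eval_two, PM_coeffs] at h1
  exact h1.symm

end Coord

section Field

variable {m : ℕ} {K : Type*} [Field K] {V : Type*} [AddCommGroup V] [Module K V]

theorem exists_ker_of_det_eq_zero {n : ℕ} (b : Module.Basis (Fin n) K V) (Q : QuadraticForm K V)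
    (h : (Mx b Q).det = 0) : ∃ w : V, w ≠ 0 ∧ ∀ v, QuadraticMap.polar Q w v = 0 := by
  obtain ⟨c, hc, hc0⟩ := Matrix.exists_vecMul_eq_zero_iff.mpr h
  refine ⟨b.equivFun.symm c, ?_, ?_⟩
  · intro h0
    apply hc
    have := congrArg b.equivFun h0
    rw [LinearEquiv.apply_symm_apply, map_zero] at this
    exact this
  · apply polar_eq_zero_of_basis b
    intro k
    rw [polar_basis]
    have h1 : ∀ l, b.repr (b.equivFun.symm c) l = c l := by
      intro l
      have := congrFun (b.equivFun.apply_symm_apply c) l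
      exact this
    simp only [h1]
    exact congrFun hc0 k

theorem eq_zero_of_minor (b : Module.Basis (Fin (2 * m + 1)) K V) (Q : QuadraticForm K V)
    (i : Fin (2 * m + 1))
    (hdet : ((Mx b Q).submatrix i.succAbove i.succAbove).det ≠ 0)
    (x : V) (hx : ∀ v, QuadraticMap.polar Q x v = 0) (hxi : b.repr x i = 0) : x = 0 := by
  have h1 : (fun j => b.repr x (i.succAbove j)) ᵥ* ((Mx b Q).submatrix i.succAbove i.succAbove)
      = 0 := by
    funext k
    have h2 := polar_basis b Q x (i.succAbove k)
    rw [hx, Fin.sum_univ_succAbove _ i, hxi, zero_mul, zero_add] at h2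
    exact h2.symm
  have h3 := Matrix.eq_zero_of_vecMul_eq_zero hdet h1
  apply b.repr.injective
  rw [map_zero]
  ext l
  rcases Fin.eq_self_or_eq_succAbove i l with rfl | ⟨j, rfl⟩
  · exact hxi
  · exact congrFun h3 j

theorem exists_ker_of_minor (b : Module.Basis (Fin (2 * m + 1)) K V) (Q : QuadraticForm K V)
    (i : Fin (2 * m + 1))
    (hdet : ((Mx b Q).submatrix i.succAbove i.succAbove).det = 0)
    (w : V) (hw : ∀ v, QuadraticMap.polar Q w v = 0) (hwi : b.repr w i ≠ 0) :
    ∃ x : V, x ≠ 0 ∧ (∀ v, QuadraticMap.polar Q x v = 0) ∧ b.repr x i = 0 := by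
  obtain ⟨y, hy, hy0⟩ := Matrix.exists_vecMul_eq_zero_iff.mpr hdet
  let c : Fin (2 * m + 1) → K := Fin.insertNth (α := fun _ => K) i (0 : K) y
  have hci : c i = 0 := Fin.insertNth_apply_same (α := fun _ => K) i (0 : K) y
  have hcs : ∀ j, c (i.succAbove j) = y j :=
    fun j => Fin.insertNth_apply_succAbove (α := fun _ => K) i (0 : K) y j
  have hrepr : ∀ l, b.repr (b.equivFun.symm c) l = c l := by
    intro l
    exact congrFun (b.equivFun.apply_symm_apply c) l
  refine ⟨b.equivFun.symm c, ?_, ?_, ?_⟩
  · intro h0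
    apply hy
    funext j
    have := hrepr (i.succAbove j)
    rw [h0, map_zero, hcs] at this
    exact this.symm
  · have hk : ∀ k, QuadraticMap.polar Q (b.equivFun.symm c) (b (i.succAbove k)) = 0 := by
      intro k
      rw [polar_basis, Fin.sum_univ_succAbove _ i, hrepr, hci, zero_mul, zero_add]
      simp only [hrepr, hcs]
      exact congrFun hy0 k
    have hi : QuadraticMap.polar Q (b.equivFun.symm c) (b i) = 0 := by
      have h1 : QuadraticMap.polar Q (b.equivFun.symm c) w = 0 := by
        rw [QuadraticMap.polar_comm]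
        exact hw _
      conv at h1 => 
        lhs
        rw [← b.sum_repr w]
      rw [← QuadraticMap.polarBilin_apply_apply, map_sum, Fin.sum_univ_succAbove _ i] at h1
      simp only [map_smul, QuadraticMap.polarBilin_apply_apply, hk, smul_eq_mul, mul_zero,
        Finset.sum_const_zero, add_zero] at h1
      rcases mul_eq_zero.mp h1 with h | h
      · exact absurd h hwi
      · exact h
    apply polar_eq_zero_of_basis b
    intro l
    rcases Fin.eq_self_or_eq_succAbove i l with rfl | ⟨j, rfl⟩
    · exact hi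
    · exact hk j
  · rw [hrepr, hci]

end Field

section Field2

variable {m : ℕ} {K : Type*} [Field K] {V : Type*} [AddCommGroup V] [Module K V]

theorem exists_repr_ne_zero {n : ℕ} (b : Module.Basis (Fin n) K V) (w : V) (hw : w ≠ 0) :
    ∃ i, b.repr w i ≠ 0 := by
  by_contra h
  push_neg at h
  apply hw
  apply b.repr.injective
  rw [map_zero]
  ext l
  exact h l

theorem polar_sub_smul (Q : QuadraticForm K V) (x w : V) (c : K)
    (hx : ∀ v, QuadraticMap.polar Q x v = 0) (hw : ∀ v, QuadraticMap.polar Q w v = 0) (v : V) :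
    QuadraticMap.polar Q (x - c • w) v = 0 := by
  rw [QuadraticMap.polar_sub_left, QuadraticMap.polar_smul_left, hx, hw, smul_zero, sub_zero]

theorem field_case_char_two (h2 : (2 : K) = 0)
    (b : Module.Basis (Fin (2 * m + 1)) K V) (Q : QuadraticForm K V) :
    halfDisc b (LinearEquiv.refl K K) Q ≠ 0 ↔ Q.Nondegenerate := by
  have hdet : (Mx b Q).det = 0 := by rw [det_Mx, h2, zero_mul]
  obtain ⟨w, hw0, hw⟩ := exists_ker_of_det_eq_zero b Q hdet
  obtain ⟨i, hi⟩ := exists_repr_ne_zero b w hw0
  have hB := lemmaB b Q w hw i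
  constructor
  · intro h
    have hne : (b.repr w i) ^ 2 * halfDisc b (LinearEquiv.refl K K) Q ≠ 0 :=
      mul_ne_zero (pow_ne_zero 2 hi) h
    rw [hB] at hne
    have hQw : Q w ≠ 0 := left_ne_zero_of_mul hne
    have hmin := right_ne_zero_of_mul hne
    have hker : ∀ x : V, (∀ v, QuadraticMap.polar Q x v = 0) →
        x = (b.repr x i / b.repr w i) • w := by
      intro x hx
      have h1 := eq_zero_of_minor b Q i hmin (x - (b.repr x i / b.repr w i) • w)
        (polar_sub_smul Q x w _ hx hw) (by
          rw [map_sub, map_smul, Finsupp.sub_apply, Finsupp.smul_apply, smul_eq_mul,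
            div_mul_cancel₀ _ hi, sub_self])
      exact sub_eq_zero.mp h1
    refine ⟨?_, ?_⟩
    · rw [Submodule.eq_bot_iff]
      intro x hx
      obtain ⟨hx1, hx2⟩ := hx
      have hx3 : ∀ v, QuadraticMap.polar Q x v = 0 := by
        intro v
        rw [← QuadraticMap.polarBilin_apply_apply, hx2]
        rfl
      have h3 := hker x hx3
      rw [h3, QuadraticMap.map_smul, smul_eq_mul] at hx1
      rcases mul_eq_zero.mp hx1 with h4 | h4
      · rcases mul_eq_zero.mp h4 with h5 | h5 <;> rw [h3, h5, zero_smul]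
      · exact absurd h4 hQw
    · rw [rank_submodule_le_one_iff']
      refine ⟨w, ?_⟩
      intro x hx
      have hx3 : ∀ v, QuadraticMap.polar Q x v = 0 := by
        intro v
        rw [← QuadraticMap.polarBilin_apply_apply, LinearMap.mem_ker.mp hx]
        rfl
      rw [Submodule.mem_span_singleton]
      exact ⟨_, (hker x hx3).symm⟩
  · intro hN
    have hQw : Q w ≠ 0 := by
      intro h0
      apply hw0
      have : w ∈ Q.radical := by
        refine ⟨h0, ?_⟩
        apply LinearMap.ext
        intro v
        rw [QuadraticMap.polarBilin_apply_apply, hw]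
        rfl
      rw [hN.radical_eq_bot] at this
      exact (Submodule.mem_bot K).mp this
    have hmin : ((Mx b Q).submatrix i.succAbove i.succAbove).det ≠ 0 := by
      intro h0
      obtain ⟨x, hx0, hx, hxi⟩ := exists_ker_of_minor b Q i h0 w hw hi
      obtain ⟨v₀, hv₀⟩ := (rank_submodule_le_one_iff' _).mp hN.rank_rad_polar_le
      have hmem : ∀ z : V, (∀ v, QuadraticMap.polar Q z v = 0) →
          z ∈ LinearMap.ker (QuadraticMap.polarBilin Q) := by
        intro z hz
        rw [LinearMap.mem_ker]
        apply LinearMap.ext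
        intro v
        rw [QuadraticMap.polarBilin_apply_apply, hz]
        rfl
      obtain ⟨α, hα⟩ := Submodule.mem_span_singleton.mp (hv₀ (hmem w hw))
      obtain ⟨β, hβ⟩ := Submodule.mem_span_singleton.mp (hv₀ (hmem x hx))
      have hα0 : α ≠ 0 := by
        rintro rfl
        rw [zero_smul] at hα
        exact hw0 hα.symm
      have hxw : x = (β / α) • w := by
        rw [← hα, smul_smul, div_mul_cancel₀ _ hα0, hβ]
      have h5 := hxi
      rw [hxw, map_smul, Finsupp.smul_apply, smul_eq_mul] at h5
      rcases mul_eq_zero.mp h5 with h6 | h6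
      · apply hx0
        rw [hxw, h6, zero_smul]
      · exact hi h6
    intro h0
    rw [h0, mul_zero] at hB
    exact mul_ne_zero hQw hmin hB.symm

theorem field_case (b : Module.Basis (Fin (2 * m + 1)) K V) (Q : QuadraticForm K V) :
    halfDisc b (LinearEquiv.refl K K) Q ≠ 0 ↔ Q.Nondegenerate := by
  by_cases h2 : (2 : K) = 0
  · exact field_case_char_two h2 b Q
  · haveI : Invertible (2 : K) := invertibleOfNonzero h2
    rw [← QuadraticMap.nondegenerate_polar_iff,
      LinearMap.nondegenerate_iff_det_ne_zero b]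
    change _ ↔ (Mx b Q).det ≠ 0
    rw [det_Mx]
    constructor
    · intro h
      exact mul_ne_zero h2 h
    · intro h
      exact right_ne_zero_of_mul h

end Field2

universe u v u'
open TensorProduct

section BaseChange

variable {R : Type u} [CommRing R] {M : Type v} [AddCommGroup M] [Module R M] [Module.Free R M]
  (A : Type u') [CommRing A] [Algebra R A]

theorem baseChangeForm_one_tmul (Q : QuadraticForm R M) (x : M) :
    baseChangeForm A Q ((1 : A) ⊗ₜ[R] x) = algebraMap R A (Q x) := by
  rw [baseChangeForm, LinearMap.compQuadraticMap_apply, baseChange_tmul]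
  simp [Algebra.algebraMap_eq_smul_one]

theorem polar_baseChangeForm (Q : QuadraticForm R M) (x y : M) :
    QuadraticMap.polar (baseChangeForm A Q) ((1 : A) ⊗ₜ[R] x) ((1 : A) ⊗ₜ[R] y) =
      algebraMap R A (QuadraticMap.polar Q x y) := by
  simp only [QuadraticMap.polar]
  rw [← TensorProduct.tmul_add, baseChangeForm_one_tmul, baseChangeForm_one_tmul,
    baseChangeForm_one_tmul, map_sub, map_sub]

theorem coeffs_baseChange {n : ℕ} (b : Module.Basis (Fin n) R M) (Q : QuadraticForm R M) :
    coeffs (Algebra.TensorProduct.basis A b) (LinearEquiv.refl A A) (baseChangeForm A Q) =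
      algebraMap R A ∘ coeffs b (LinearEquiv.refl R R) Q := by
  funext p
  induction p using Sym2.ind with
  | _ i j =>
    simp only [Function.comp, coeffs_mk, LinearEquiv.refl_apply, Algebra.TensorProduct.basis_apply]
    split_ifs
    · exact baseChangeForm_one_tmul A Q _
    · exact polar_baseChangeForm A Q _ _

theorem halfDisc_baseChange {n : ℕ} (b : Module.Basis (Fin n) R M) (Q : QuadraticForm R M) :
    halfDisc (Algebra.TensorProduct.basis A b) (LinearEquiv.refl A A) (baseChangeForm A Q) =
      algebraMap R A (halfDisc b (LinearEquiv.refl R R) Q) := by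
  rw [halfDisc, halfDisc, coeffs_baseChange, eval₂_comp_left]
  congr 1
  exact RingHom.ext_int _ _

end BaseChange

section Main

variable {R : Type u} [CommRing R] {M : Type v} [AddCommGroup M] [Module R M] [Module.Free R M]

theorem main_iff (m : ℕ) (b : Module.Basis (Fin (2 * m + 1)) R M) (Q : QuadraticForm R M) :
    IsUnit (halfDisc b (LinearEquiv.refl R R) Q) ↔
      ∀ (p : Ideal R) [p.IsPrime],
        QuadraticMap.Nondegenerate (Q := baseChangeForm p.ResidueField Q) := by
  constructor
  · intro h p _
    rw [← field_case (Algebra.TensorProduct.basis p.ResidueField b), halfDisc_baseChange]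
    exact (h.map (algebraMap R p.ResidueField)).ne_zero
  · intro h
    by_contra hu
    obtain ⟨I, hI, hmem⟩ := exists_max_ideal_of_mem_nonunits (show _ ∈ nonunits R from hu)
    haveI := hI.isPrime
    have h1 := h I
    rw [← field_case (Algebra.TensorProduct.basis I.ResidueField b), halfDisc_baseChange] at h1
    exact h1 ((Ideal.algebraMap_residueField_eq_zero).mpr hmem)

end Main

end Groth.Agent.Lib.Helper25.HalfDisc
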