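import Mathlib
import Groth.Agent.Lib.Helper19QSplitF
import Groth.Agent.Lib.Helper25HalfDisc

/-!
# Matrix quadratic forms as `QuadraticForm`s, and the half-discriminant under ring maps (helper19)
-/

set_option autoImplicit false
universe u
open Matrix

namespace Groth.Agent.Lib.Helper19QSplit

section Ext
variable {ι R M N : Type*} [LinearOrder ι] [CommRing R] [AddCommGroup M] [AddCommGroup N]
  [Module R M] [Module R N]

/-- a quadratic map on a free module is determined by its values and polar values on a basis. -/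
lemma quadraticMap_ext_basis (bm : Module.Basis ι R M) {Q₁ Q₂ : QuadraticMap R M N}
    (h1 : ∀ i, Q₁ (bm i) = Q₂ (bm i))
    (h2 : ∀ i j, QuadraticMap.polar Q₁ (bm i) (bm j) = QuadraticMap.polar Q₂ (bm i) (bm j)) :
    Q₁ = Q₂ := by
  rw [← QuadraticMap.toQuadraticMap_toBilin Q₁ bm, ← QuadraticMap.toQuadraticMap_toBilin Q₂ bm]
  congr 1
  refine bm.ext fun i => bm.ext fun j => ?_
  rw [QuadraticMap.toBilin_apply, QuadraticMap.toBilin_apply, h1, h2]

end Ext

section Form
variable {B : Type*} [CommRing B] {ι : Type*} [Fintype ι] [DecidableEq ι] (U : Matrix ι ι B)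

lemma polar_qf (x y : ι → B) : QuadraticMap.polar (qf U) x y = pol U x y := by
  unfold QuadraticMap.polar
  rw [qf_add]; ring

/-- the quadratic form `x ↦ xᵀ U x` as a `QuadraticForm`. -/
noncomputable def qfForm : QuadraticForm B (ι → B) :=
  QuadraticMap.ofPolar (qf U)
    (fun a x => by rw [qf_smul, smul_eq_mul]; ring)
    (fun x x' y => by rw [polar_qf, polar_qf, polar_qf, pol_add_left])
    (fun a x y => by rw [polar_qf, polar_qf, pol_smul_left, smul_eq_mul])

@[simp] lemma qfForm_apply (x : ι → B) : qfForm U x = qf U x := rfl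

lemma polar_qfForm (x y : ι → B) : QuadraticMap.polar (qfForm U) x y = pol U x y :=
  polar_qf U x y

lemma qf_single (i : ι) : qf U (Pi.single i 1) = U i i := by
  unfold qf
  rw [single_one_dotProduct, mulVec_single_one]
  rfl

lemma bf_single (i j : ι) : bf U (Pi.single i 1) (Pi.single j 1) = U i j := by
  unfold bf
  rw [single_one_dotProduct, mulVec_single_one]
  rfl

lemma pol_single (i j : ι) : pol U (Pi.single i 1) (Pi.single j 1) = U i j + U j i := by
  unfold pol
  rw [bf_single, bf_single]

lemma qfForm_map {B' : Type*} [CommRing B'] (φ : B →+* B') (x : ι → B) :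
    qfForm (U.map φ) (φ ∘ x) = φ (qfForm U x) := (map_qf U φ x).symm

end Form

section MatOf
variable {R : Type*} [CommRing R] {ι : Type*} [Fintype ι] [LinearOrder ι]

/-- the upper triangular matrix of a quadratic form on `ι → R`. -/
noncomputable def matOf (Q : QuadraticForm R (ι → R)) : Matrix ι ι R :=
  Matrix.of fun i j => if i = j then Q (Pi.single i 1)
    else if i < j then QuadraticMap.polar Q (Pi.single i 1) (Pi.single j 1) else 0

lemma qfForm_matOf (Q : QuadraticForm R (ι → R)) : qfForm (matOf Q) = Q := by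
  refine quadraticMap_ext_basis (Pi.basisFun R ι) (fun i => ?_) (fun i j => ?_)
  · rw [Pi.basisFun_apply, qfForm_apply, qf_single]
    simp [matOf]
  · rw [Pi.basisFun_apply, Pi.basisFun_apply, polar_qfForm, pol_single]
    simp only [matOf, Matrix.of_apply]
    obtain h | rfl | h := lt_trichotomy i j
    · rw [if_neg h.ne, if_pos h, if_neg h.ne', if_neg h.not_gt, add_zero]
    · simp only [if_true]
      rw [QuadraticMap.polar_self, two_smul]
    · rw [if_neg h.ne', if_neg h.not_gt, if_neg h.ne, if_pos h, zero_add,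
        QuadraticMap.polar_comm]

lemma qf_matOf (Q : QuadraticForm R (ι → R)) (x : ι → R) : qf (matOf Q) x = Q x := by
  rw [← qfForm_apply, qfForm_matOf]

end MatOf

section HalfDisc
open QuadGrp
variable {R S : Type*} [CommRing R] [CommRing S] {n : ℕ}

lemma coeffs_qfForm (U : Matrix (Fin n) (Fin n) R) (i j : Fin n) :
    coeffs (Pi.basisFun R (Fin n)) (LinearEquiv.refl R R) (qfForm U) (Sym2.mk i j) =
      if i = j then U i i else U i j + U j i := by
  rw [coeffs_mk]
  simp only [Pi.basisFun_apply, LinearEquiv.refl_apply, qfForm_apply, qf_single, polar_qfForm,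
    pol_single]

lemma coeffs_qfForm_map (φ : R →+* S) (U : Matrix (Fin n) (Fin n) R) :
    coeffs (Pi.basisFun S (Fin n)) (LinearEquiv.refl S S) (qfForm (U.map φ)) =
      φ ∘ coeffs (Pi.basisFun R (Fin n)) (LinearEquiv.refl R R) (qfForm U) := by
  funext p
  induction p using Sym2.ind with
  | _ i j =>
    rw [Function.comp_apply, coeffs_qfForm, coeffs_qfForm]
    split_ifs
    · rfl
    · simp [Matrix.map_apply]

lemma halfDisc_qfForm_map (φ : R →+* S) (U : Matrix (Fin n) (Fin n) R) :
    halfDisc (Pi.basisFun S (Fin n)) (LinearEquiv.refl S S) (qfForm (U.map φ)) =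
      φ (halfDisc (Pi.basisFun R (Fin n)) (LinearEquiv.refl R R) (qfForm U)) := by
  rw [halfDisc, halfDisc, coeffs_qfForm_map, MvPolynomial.eval₂_comp_left]
  congr 1
  exact RingHom.ext_int _ _

/-- fibrewise nondegeneracy from a unit half-discriminant. -/
lemma nondegenerate_of_isUnit_halfDisc {m : ℕ} (U : Matrix (Fin (2 * m + 1)) (Fin (2 * m + 1)) R)
    (hU : IsUnit (halfDisc (Pi.basisFun R (Fin (2 * m + 1))) (LinearEquiv.refl R R) (qfForm U)))
    {K : Type*} [Field K] (φ : R →+* K) : (qfForm (U.map φ)).Nondegenerate := by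
  rw [← Groth.Agent.Lib.Helper25.HalfDisc.field_case (Pi.basisFun K (Fin (2 * m + 1))),
    halfDisc_qfForm_map]
  exact (hU.map φ).ne_zero

end HalfDisc

end Groth.Agent.Lib.Helper19QSplit
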