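import Mathlib
import Groth.Agent.Lib.Helper19QSplitG

/-!
# Nondegenerate planes in the orthogonal of a hyperbolic system, for nondegenerate forms of any
rank (helper19)
-/

set_option autoImplicit false
universe u
open Matrix

namespace Groth.Agent.Lib.Helper19QSplit

section Field
variable {K : Type*} [Field K] {ι : Type*} [Fintype ι] [DecidableEq ι] {U : Matrix ι ι K}

/-- the polar kernel of a nondegenerate form meets the zero set of the form trivially. -/
lemma eq_zero_of_nondeg (hnd : (qfForm U).Nondegenerate) {v : ι → K} (h0 : qf U v = 0)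
    (h : ∀ y, pol U v y = 0) : v = 0 := by
  have hv : v ∈ (qfForm U).radical := by
    refine ⟨h0, LinearMap.ext fun y => ?_⟩
    rw [QuadraticMap.polarBilin_apply_apply, polar_qfForm]
    exact h y
  rw [hnd.radical_eq_bot] at hv
  exact (Submodule.mem_bot K).mp hv

/-- the polar kernel of a nondegenerate form is at most a line. -/
lemma exists_span_of_nondeg (hnd : (qfForm U).Nondegenerate) :
    ∃ r : ι → K, ∀ v : ι → K, (∀ y, pol U v y = 0) → ∃ c : K, c • r = v := by
  obtain ⟨r, hr⟩ := (rank_submodule_le_one_iff' _).mp hnd.rank_rad_polar_le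
  refine ⟨r, fun v hv => ?_⟩
  have hmem : v ∈ LinearMap.ker (qfForm U).polarBilin := by
    rw [LinearMap.mem_ker]
    refine LinearMap.ext fun y => ?_
    rw [QuadraticMap.polarBilin_apply_apply, polar_qfForm]
    exact hv y
  exact Submodule.mem_span_singleton.mp (hr hmem)

lemma HypSys.mem_polarKer_of_orth {k : ℕ} (H : HypSys U k) {v : ι → K} (hv : H.Orth v)
    (h : ∀ w, H.Orth w → pol U v w = 0) (y : ι → K) : pol U v y = 0 := by
  rw [← H.pol_proj_right hv y]
  exact h _ (H.orth_proj y)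

lemma HypSys.exists_orth_ne_zero_of_functional {k : ℕ} (H : HypSys U k)
    (hk : 2 * k + 1 < Fintype.card ι) (ℓ : (ι → K) →ₗ[K] K) :
    ∃ w, w ≠ 0 ∧ H.Orth w ∧ ℓ w = 0 := by
  let φ : (ι → K) →ₗ[K] (Option (Fin k ⊕ Fin k) → K) :=
    LinearMap.pi fun j => match j with
      | none => ℓ
      | some (Sum.inl i) => polL U (H.e i)
      | some (Sum.inr i) => polL U (H.f i)
  have hlt : Module.finrank K (Option (Fin k ⊕ Fin k) → K) < Module.finrank K (ι → K) := by
    rw [Module.finrank_fintype_fun_eq_card, Module.finrank_fintype_fun_eq_card]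
    simp only [Fintype.card_option, Fintype.card_sum, Fintype.card_fin]
    omega
  obtain ⟨w, hw, hw0⟩ :=
    Submodule.exists_mem_ne_zero_of_ne_bot (LinearMap.ker_ne_bot_of_finrank_lt (f := φ) hlt)
  have hw' : ∀ j, φ w j = 0 := fun j => congrFun (LinearMap.mem_ker.mp hw) j
  exact ⟨w, hw0, ⟨fun i => hw' (some (Sum.inl i)), fun i => hw' (some (Sum.inr i))⟩, hw' none⟩

lemma HypSys.exists_orth_ne_zero₀ {k : ℕ} (H : HypSys U k) (hk : 2 * k < Fintype.card ι) :
    ∃ w, w ≠ 0 ∧ H.Orth w := by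
  let φ : (ι → K) →ₗ[K] ((Fin k ⊕ Fin k) → K) :=
    LinearMap.pi fun j => match j with
      | Sum.inl i => polL U (H.e i)
      | Sum.inr i => polL U (H.f i)
  have hlt : Module.finrank K ((Fin k ⊕ Fin k) → K) < Module.finrank K (ι → K) := by
    rw [Module.finrank_fintype_fun_eq_card, Module.finrank_fintype_fun_eq_card]
    simp only [Fintype.card_sum, Fintype.card_fin]
    omega
  obtain ⟨w, hw, hw0⟩ :=
    Submodule.exists_mem_ne_zero_of_ne_bot (LinearMap.ker_ne_bot_of_finrank_lt (f := φ) hlt)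
  have hw' : ∀ j, φ w j = 0 := fun j => congrFun (LinearMap.mem_ker.mp hw) j
  exact ⟨w, hw0, ⟨fun i => hw' (Sum.inl i), fun i => hw' (Sum.inr i)⟩⟩

/-- an anisotropic vector in the orthogonal of a hyperbolic system which is not everything. -/
theorem HypSys.exists_anisotropic_field (hnd : (qfForm U).Nondegenerate) {k : ℕ}
    (H : HypSys U k) (hk : 2 * k + 1 ≤ Fintype.card ι) : ∃ v, H.Orth v ∧ qf U v ≠ 0 := by
  by_contra hcon
  have hq : ∀ w, H.Orth w → qf U w = 0 := fun w hw => by
    by_contra h; exact hcon ⟨w, hw, h⟩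
  obtain ⟨w, hw0, hw⟩ := H.exists_orth_ne_zero₀ (by omega)
  refine hw0 (eq_zero_of_nondeg hnd (hq w hw) (H.mem_polarKer_of_orth hw fun w' hw' => ?_))
  have h := qf_add U w w'
  rw [hq _ (hw.add hw'), hq _ hw, hq _ hw'] at h
  simpa using h.symm

/-- the general version of `exists_pair_field`, from a trivial polar kernel. -/
theorem HypSys.exists_pair_field_of_ker (hker : ∀ v : ι → K, (∀ y, pol U v y = 0) → v = 0)
    {k : ℕ} (H : HypSys U k) (hk : 2 * k + 2 ≤ Fintype.card ι) :
    ∃ w₁ w₂, H.Orth w₁ ∧ H.Orth w₂ ∧ qf U w₁ ≠ 0 ∧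
      pol U w₁ w₂ ^ 2 - 4 * qf U w₁ * qf U w₂ ≠ 0 := by
  have key : ∀ {v : ι → K}, H.Orth v → (∀ w, H.Orth w → pol U v w = 0) → v = 0 :=
    fun hv h => hker _ (H.mem_polarKer_of_orth hv h)
  have hd : ∃ w₁, H.Orth w₁ ∧ qf U w₁ ≠ 0 := by
    by_contra hcon
    have hq : ∀ w, H.Orth w → qf U w = 0 := fun w hw => by
      by_contra h; exact hcon ⟨w, hw, h⟩
    obtain ⟨w, hw0, hw, -⟩ := H.exists_orth_ne_zero (by omega) 0
    refine hw0 (key hw fun w' hw' => ?_)
    have h := qf_add U w w'
    rw [hq _ (hw.add hw'), hq _ hw, hq _ hw'] at h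
    simpa using h.symm
  obtain ⟨w₁, h₁, ha⟩ := hd
  refine ⟨w₁, ?_⟩
  by_contra hcon
  have hD : ∀ w, H.Orth w → pol U w₁ w ^ 2 - 4 * qf U w₁ * qf U w = 0 := fun w hw => by
    by_contra h; exact hcon ⟨w, h₁, hw, ha, h⟩
  by_cases h2 : (2 : K) = 0
  · have h4 : (4 : K) = 0 := by
      have : (4 : K) = 2 * 2 := by norm_num
      rw [this, h2, mul_zero]
    have hw₁ : w₁ = 0 := key h₁ fun w hw => by
      have h := hD w hw
      rw [h4, zero_mul, zero_mul, sub_zero] at h
      exact pow_eq_zero_iff (two_ne_zero) |>.mp h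
    exact ha (by rw [hw₁, qf_zero])
  · obtain ⟨w, hw0, hw, hp⟩ := H.exists_orth_ne_zero (by omega) w₁
    refine hw0 (key hw fun w' hw' => ?_)
    have E1 := hD w hw
    have E2 := hD w' hw'
    have E3 := hD (w + w') (hw.add hw')
    rw [pol_add_right, qf_add] at E3
    rw [pol_comm] at hp
    have h4 : 4 * qf U w₁ * pol U w w' = 0 := by
      linear_combination E1 + E2 - E3 + 2 * pol U w₁ w' * hp
    have h4' : (4 : K) ≠ 0 := by
      have : (4 : K) = 2 * 2 := by norm_num
      rw [this]; exact mul_ne_zero h2 h2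
    rcases mul_eq_zero.mp h4 with h | h
    · exact ((mul_ne_zero h4' ha) h).elim
    · exact h

/-- for a nondegenerate form (of any rank, in any characteristic), the orthogonal of a hyperbolic
system of corank at least three contains a nondegenerate plane with anisotropic first vector. -/
theorem HypSys.exists_pair_field_nondeg (hnd : (qfForm U).Nondegenerate) {k : ℕ}
    (H : HypSys U k) (hk : 2 * k + 3 ≤ Fintype.card ι) :
    ∃ w₁ w₂, H.Orth w₁ ∧ H.Orth w₂ ∧ qf U w₁ ≠ 0 ∧
      pol U w₁ w₂ ^ 2 - 4 * qf U w₁ * qf U w₂ ≠ 0 := by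
  by_cases h2 : (2 : K) = 0
  · -- characteristic two
    have h4 : (4 : K) = 0 := by
      have : (4 : K) = 2 * 2 := by norm_num
      rw [this, h2, mul_zero]
    -- a vector of the orthogonal outside the polar kernel
    have h1 : ∃ w, H.Orth w ∧ ¬ ∀ y, pol U w y = 0 := by
      by_contra hcon
      have hall : ∀ w, H.Orth w → ∀ y, pol U w y = 0 := fun w hw => by
        by_contra h; exact hcon ⟨w, hw, h⟩
      obtain ⟨r, hr⟩ := exists_span_of_nondeg hnd
      obtain ⟨w, hw0, hw, -⟩ := H.exists_orth_ne_zero_of_functional (by omega) 0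
      obtain ⟨i₀, hi₀⟩ := Function.ne_iff.mp hw0
      obtain ⟨w', hw'0, hw', hℓ⟩ :=
        H.exists_orth_ne_zero_of_functional (by omega) (LinearMap.proj i₀)
      obtain ⟨c, hc⟩ := hr w (hall w hw)
      obtain ⟨c', hc'⟩ := hr w' (hall w' hw')
      have hri : r i₀ ≠ 0 := by
        intro h
        apply hi₀
        rw [← hc]
        simp [h]
      have hc'0 : c' = 0 := by
        have : (c' • r) i₀ = 0 := by rw [hc']; exact hℓ
        rw [Pi.smul_apply, smul_eq_mul] at this
        exact (mul_eq_zero.mp this).resolve_right hri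
      apply hw'0
      rw [← hc', hc'0, zero_smul]
    obtain ⟨w, hw, hwk⟩ := h1
    have h2' : ∃ w', H.Orth w' ∧ pol U w w' ≠ 0 := by
      by_contra hcon
      exact hwk (H.mem_polarKer_of_orth hw fun w' hw' => by
        by_contra h; exact hcon ⟨w', hw', h⟩)
    obtain ⟨w', hw', hb⟩ := h2'
    have hD : ∀ x y : ι → K, pol U x y ^ 2 - 4 * qf U x * qf U y = pol U x y ^ 2 := by
      intro x y; rw [h4]; ring
    by_cases ha : qf U w = 0
    · by_cases hc : qf U w' = 0
      · refine ⟨w + w', w', hw.add hw', hw', ?_, ?_⟩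
        · rw [qf_add, ha, hc, zero_add, zero_add]; exact hb
        · rw [hD, pol_add_left, pol_self, hc, add_zero, add_zero]
          exact pow_ne_zero 2 hb
      · refine ⟨w', w, hw', hw, hc, ?_⟩
        rw [hD, pol_comm]
        exact pow_ne_zero 2 hb
    · refine ⟨w, w', hw, hw', ha, ?_⟩
      rw [hD]
      exact pow_ne_zero 2 hb
  · -- characteristic not two: the polar kernel is trivial
    refine H.exists_pair_field_of_ker (fun v hv => eq_zero_of_nondeg hnd ?_ hv) (by omega)
    have h := hv v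
    rw [pol_self, ← two_mul] at h
    exact (mul_eq_zero.mp h).resolve_left h2

end Field

section Prime
variable {B : Type*} [CommRing B] {ι : Type*} [Fintype ι] [DecidableEq ι] {U : Matrix ι ι B}

/-- lifting vectors orthogonal to a hyperbolic system from the residue field of a prime, up to a
common unit factor. -/
lemma HypSys.exists_lift_orth {k : ℕ} (H : HypSys U k) (q : Ideal B) [q.IsPrime]
    {κ : Type*} [Finite κ] (v : κ → ι → q.ResidueField)
    (hv : ∀ j, (H.map (algebraMap B q.ResidueField)).Orth (v j)) :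
    ∃ s : B, s ∉ q ∧ ∃ w : κ → ι → B, (∀ j, H.Orth (w j)) ∧
      ∀ j, (algebraMap B q.ResidueField) ∘ w j = algebraMap B q.ResidueField s • v j := by
  obtain ⟨s, hs, w, hw⟩ := exists_lift_vectors q v
  refine ⟨s, hs, fun j => H.proj (w j), fun j => H.orth_proj _, fun j => ?_⟩
  rw [H.map_proj]
  have : (algebraMap B q.ResidueField) ∘ w j = algebraMap B q.ResidueField s • v j := by
    funext i
    have := hw j i
    simpa using this
  rw [this]
  exact (H.map _).proj_eq_self ((hv j).smul _)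

theorem HypSys.exists_pair_prime_nondeg {k : ℕ} (H : HypSys U k)
    (hk : 2 * k + 3 ≤ Fintype.card ι) (q : Ideal B) [q.IsPrime]
    (hnd : (qfForm (U.map (algebraMap B q.ResidueField))).Nondegenerate) :
    ∃ w₁ w₂, H.Orth w₁ ∧ H.Orth w₂ ∧ qf U w₁ ∉ q ∧
      pol U w₁ w₂ ^ 2 - 4 * qf U w₁ * qf U w₂ ∉ q := by
  let φ : B →+* q.ResidueField := algebraMap B q.ResidueField
  obtain ⟨v₁, v₂, hv₁, hv₂, ha, hD⟩ := (H.map φ).exists_pair_field_nondeg hnd hk
  obtain ⟨s, hs, w, hwo, hw⟩ := H.exists_lift_orth q (fun j : Bool => cond j v₁ v₂)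
    (fun j => by
      cases j
      · exact hv₂
      · exact hv₁)
  have hφs : φ s ≠ 0 := fun h => hs (Ideal.algebraMap_residueField_eq_zero.mp h)
  have e₁ : φ ∘ w true = φ s • v₁ := hw true
  have e₂ : φ ∘ w false = φ s • v₂ := hw false
  refine ⟨w true, w false, hwo _, hwo _, fun h => ?_, fun h => ?_⟩
  · have h0 : φ (qf U (w true)) = 0 := Ideal.algebraMap_residueField_eq_zero.mpr h
    rw [map_qf, e₁, qf_smul] at h0
    exact (mul_ne_zero (pow_ne_zero 2 hφs) ha) h0
  · have h0 : φ (pol U (w true) (w false) ^ 2 - 4 * qf U (w true) * qf U (w false)) = 0 :=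
      Ideal.algebraMap_residueField_eq_zero.mpr h
    rw [map_sub, map_pow, map_mul, map_mul, map_pol, map_qf, map_qf, e₁, e₂, qf_smul, qf_smul,
      pol_smul_left, pol_smul_right] at h0
    have h4 : φ 4 = 4 := map_ofNat φ 4
    rw [h4] at h0
    have : φ s ^ 4 * (pol (U.map φ) v₁ v₂ ^ 2 - 4 * qf (U.map φ) v₁ * qf (U.map φ) v₂) = 0 := by
      linear_combination h0
    exact (mul_ne_zero (pow_ne_zero 4 hφs) hD) this

theorem HypSys.exists_anisotropic_prime {k : ℕ} (H : HypSys U k)
    (hk : 2 * k + 1 ≤ Fintype.card ι) (q : Ideal B) [q.IsPrime]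
    (hnd : (qfForm (U.map (algebraMap B q.ResidueField))).Nondegenerate) :
    ∃ v, H.Orth v ∧ qf U v ∉ q := by
  let φ : B →+* q.ResidueField := algebraMap B q.ResidueField
  obtain ⟨v, hv, ha⟩ := (H.map φ).exists_anisotropic_field hnd hk
  obtain ⟨s, hs, w, hwo, hw⟩ := H.exists_lift_orth q (fun _ : Unit => v) (fun _ => hv)
  have hφs : φ s ≠ 0 := fun h => hs (Ideal.algebraMap_residueField_eq_zero.mp h)
  refine ⟨w (), hwo _, fun h => ?_⟩
  have h0 : φ (qf U (w ())) = 0 := Ideal.algebraMap_residueField_eq_zero.mpr h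
  rw [map_qf, hw (), qf_smul] at h0
  exact (mul_ne_zero (pow_ne_zero 2 hφs) ha) h0

end Prime

end Groth.Agent.Lib.Helper19QSplit
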