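import Mathlib
import Groth.Agent.Lib.Helper19QSplitH

/-!
# Étale-local maximal hyperbolic systems for fibrewise nondegenerate forms (helper19)
-/

set_option autoImplicit false
universe u
open Matrix Polynomial

namespace Groth.Agent.Lib.Helper19QSplit

theorem HypSys.exists_etale_succ_of_nondeg {B : Type u} [CommRing B] {ι : Type*} [Fintype ι]
    [DecidableEq ι] {U : Matrix ι ι B} {k : ℕ} (H : HypSys U k)
    (hk : 2 * k + 3 ≤ Fintype.card ι) (q : Ideal B) [q.IsPrime]
    (hnd : (qfForm (U.map (algebraMap B q.ResidueField))).Nondegenerate) :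
    ∃ (B' : Type u) (_ : CommRing B') (_ : Algebra B B'), Algebra.Etale B B' ∧
      (∃ q' : Ideal B', q'.IsPrime ∧ q'.comap (algebraMap B B') = q) ∧
      Nonempty (HypSys (U.map (algebraMap B B')) (k + 1)) := by
  obtain ⟨w₁, w₂, h₁, h₂, ha, hD⟩ := H.exists_pair_prime_nondeg hk q hnd
  obtain ⟨B', _, _, hE, hq', u, t, hu, ht⟩ :=
    exists_etale_root (qf U w₁) (pol U w₁ w₂) (qf U w₂) q ha hD
  refine ⟨B', inferInstance, inferInstance, hE, hq', ?_⟩
  refine (H.map (algebraMap B B')).nonempty_succ (h₁.map _) (h₂.map _) u t ?_ ?_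
  · rw [← map_pol, ← map_qf, ← map_qf]; exact hu
  · rw [← map_pol, ← map_qf]; exact ht

/-- étale-locally around any prime, a fibrewise nondegenerate form has hyperbolic systems of any
size `k` with `2k + 1 ≤ rank`. -/
theorem exists_etale_hypSys_of_nondeg {A : Type u} [CommRing A] {ι : Type*} [Fintype ι]
    [DecidableEq ι] (U : Matrix ι ι A)
    (hnd : ∀ (K : Type u) [Field K] (φ : A →+* K), (qfForm (U.map φ)).Nondegenerate)
    (k : ℕ) (hk : 2 * k + 1 ≤ Fintype.card ι) (p : Ideal A) [p.IsPrime] :
    ∃ (B : Type u) (_ : CommRing B) (_ : Algebra A B), Algebra.Etale A B ∧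
      (∃ q : Ideal B, q.IsPrime ∧ q.comap (algebraMap A B) = p) ∧
      Nonempty (HypSys (U.map (algebraMap A B)) k) := by
  induction k with
  | zero =>
    exact ⟨A, inferInstance, inferInstance, inferInstance, ⟨p, inferInstance, Ideal.comap_id p⟩,
      ⟨HypSys.empty⟩⟩
  | succ k ih =>
    obtain ⟨B, _, _, hE, ⟨q, hq, hqp⟩, ⟨H⟩⟩ := ih (by omega)
    have hndB : (qfForm ((U.map (algebraMap A B)).map
        (algebraMap B q.ResidueField))).Nondegenerate := by
      have := hnd q.ResidueField ((algebraMap B q.ResidueField).comp (algebraMap A B))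
      rw [Matrix.map_map]
      exact this
    obtain ⟨B', _, _, hE', ⟨q', hq', hq'q⟩, ⟨H'⟩⟩ :=
      H.exists_etale_succ_of_nondeg (by omega) q hndB
    letI : Algebra A B' := ((algebraMap B B').comp (algebraMap A B)).toAlgebra
    haveI : IsScalarTower A B B' := IsScalarTower.of_algebraMap_eq fun _ => rfl
    refine ⟨B', inferInstance, inferInstance, Algebra.Etale.comp A B B', ⟨q', hq', ?_⟩, ?_⟩
    · change q'.comap ((algebraMap B B').comp (algebraMap A B)) = p
      rw [← Ideal.comap_comap, hq'q, hqp]
    · have e : (U.map (algebraMap A B)).map (algebraMap B B') = U.map (algebraMap A B') := by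
        ext i j; rfl
      exact ⟨e ▸ H'⟩

/-- the data of a maximal hyperbolic system together with an anisotropic vector orthogonal to
it, with unit value: a "split basis" in odd rank. -/
structure OddSplit {B : Type*} [CommRing B] {ι : Type*} [Fintype ι] [DecidableEq ι]
    (U : Matrix ι ι B) (m : ℕ) where
  H : HypSys U m
  v₀ : ι → B
  orth : H.Orth v₀
  unit : IsUnit (qf U v₀)

/-- transport of a split basis along a ring homomorphism. -/
def OddSplit.map {B : Type*} [CommRing B] {ι : Type*} [Fintype ι] [DecidableEq ι]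
    {U : Matrix ι ι B} {m : ℕ} (D : OddSplit U m) {B' : Type*} [CommRing B'] (φ : B →+* B') :
    OddSplit (U.map φ) m where
  H := D.H.map φ
  v₀ := φ ∘ D.v₀
  orth := D.orth.map φ
  unit := by rw [← map_qf]; exact D.unit.map φ

theorem exists_etale_oddSplit {A : Type u} [CommRing A] {ι : Type*} [Fintype ι]
    [DecidableEq ι] (U : Matrix ι ι A)
    (hnd : ∀ (K : Type u) [Field K] (φ : A →+* K), (qfForm (U.map φ)).Nondegenerate)
    (m : ℕ) (hm : 2 * m + 1 ≤ Fintype.card ι) (p : Ideal A) [p.IsPrime] :
    ∃ (B : Type u) (_ : CommRing B) (_ : Algebra A B), Algebra.Etale A B ∧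
      (∃ q : Ideal B, q.IsPrime ∧ q.comap (algebraMap A B) = p) ∧
      Nonempty (OddSplit (U.map (algebraMap A B)) m) := by
  obtain ⟨B, _, _, hE, ⟨q, hq, hqp⟩, ⟨H⟩⟩ := exists_etale_hypSys_of_nondeg U hnd m hm p
  have hndB : (qfForm ((U.map (algebraMap A B)).map
      (algebraMap B q.ResidueField))).Nondegenerate := by
    have := hnd q.ResidueField ((algebraMap B q.ResidueField).comp (algebraMap A B))
    rw [Matrix.map_map]
    exact this
  obtain ⟨v, hv, hc⟩ := H.exists_anisotropic_prime hm q hndB
  let c : B := qf (U.map (algebraMap A B)) v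
  let B' := Localization.Away c
  have hdisj : Disjoint (Submonoid.powers c : Set B) ↑q :=
    (Ideal.disjoint_powers_iff_notMem_of_isPrime c).mpr hc
  refine ⟨B', inferInstance, inferInstance, Algebra.Etale.comp A B B',
    ⟨q.map (algebraMap B B'), IsLocalization.isPrime_of_isPrime_disjoint (Submonoid.powers c) B' q
      hq hdisj, ?_⟩, ?_⟩
  · rw [IsScalarTower.algebraMap_eq A B B', ← Ideal.comap_comap]
    have : (q.map (algebraMap B B')).comap (algebraMap B B') = q :=
      IsLocalization.under_map_of_isPrime_disjoint (Submonoid.powers c) B' hq hdisj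
    rw [this, hqp]
  · have e : (U.map (algebraMap A B)).map (algebraMap B B') = U.map (algebraMap A B') := by
      rw [Matrix.map_map, IsScalarTower.algebraMap_eq A B B']
      rfl
    let D : OddSplit ((U.map (algebraMap A B)).map (algebraMap B B')) m :=
      { H := H.map (algebraMap B B')
        v₀ := (algebraMap B B') ∘ v
        orth := hv.map _
        unit := by
          rw [← map_qf]
          exact IsLocalization.Away.algebraMap_isUnit c }
    exact ⟨e ▸ D⟩

end Groth.Agent.Lib.Helper19QSplit
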