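import Mathlib
import Groth.Agent.Lib.Helper19QSplitI

/-!
# From a split basis in odd rank to a matrix (helper19)
-/

set_option autoImplicit false
universe u
open Matrix

namespace Groth.Agent.Lib.Helper19QSplit

section Pi
variable {ι : Type*} [Fintype ι] [DecidableEq ι] {T : Type*} {B : T → Type*}
  [∀ t, CommRing (B t)] {V : Matrix ι ι (∀ t, B t)}

/-- hyperbolic systems over a product ring, componentwise. -/
def HypSys.pi {k : ℕ} (H : ∀ t, HypSys (V.map (Pi.evalRingHom B t)) k) : HypSys V k where
  e := fun l i t => (H t).e l i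
  f := fun l i t => (H t).f l i
  qe := fun l => funext fun t =>
    (map_qf V (Pi.evalRingHom B t) (fun i t => (H t).e l i)).trans ((H t).qe l)
  qff := fun l => funext fun t =>
    (map_qf V (Pi.evalRingHom B t) (fun i t => (H t).f l i)).trans ((H t).qff l)
  ef := fun l l' => funext fun t =>
    ((map_pol V (Pi.evalRingHom B t) (fun i t => (H t).e l i)
      (fun i t => (H t).f l' i)).trans ((H t).ef l l')).trans (by split_ifs <;> rfl)
  ee := fun l l' => funext fun t =>
    (map_pol V (Pi.evalRingHom B t) (fun i t => (H t).e l i)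
      (fun i t => (H t).e l' i)).trans ((H t).ee l l')
  ff := fun l l' => funext fun t =>
    (map_pol V (Pi.evalRingHom B t) (fun i t => (H t).f l i)
      (fun i t => (H t).f l' i)).trans ((H t).ff l l')

/-- split bases over a product ring, componentwise. -/
def OddSplit.pi {m : ℕ} (D : ∀ t, OddSplit (V.map (Pi.evalRingHom B t)) m) : OddSplit V m where
  H := HypSys.pi fun t => (D t).H
  v₀ := fun i t => (D t).v₀ i
  orth :=
    ⟨fun l => funext fun t =>
      (map_pol V (Pi.evalRingHom B t) (fun i t => (D t).v₀ i)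
        (fun i t => (D t).H.e l i)).trans ((D t).orth.1 l),
     fun l => funext fun t =>
      (map_pol V (Pi.evalRingHom B t) (fun i t => (D t).v₀ i)
        (fun i t => (D t).H.f l i)).trans ((D t).orth.2 l)⟩
  unit := by
    rw [Pi.isUnit_iff]
    intro t
    have h := map_qf V (Pi.evalRingHom B t) (fun i t => (D t).v₀ i)
    have h' : qf V (fun i t => (D t).v₀ i) t =
        qf (V.map (Pi.evalRingHom B t)) (D t).v₀ := h
    rw [h']
    exact (D t).unit

end Pi

section Scale
variable {B : Type*} [CommRing B] {ι : Type*} [Fintype ι] [DecidableEq ι] {U : Matrix ι ι B}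

/-- rescaling the anisotropic vector. -/
def OddSplit.scale {m : ℕ} (D : OddSplit U m) (t : B) (ht : IsUnit t) : OddSplit U m where
  H := D.H
  v₀ := t • D.v₀
  orth := D.orth.smul t
  unit := by rw [qf_smul]; exact (ht.pow 2).mul D.unit

lemma OddSplit.qf_scale {m : ℕ} (D : OddSplit U m) (t : B) (ht : IsUnit t) :
    qf U (D.scale t ht).v₀ = t ^ 2 * qf U D.v₀ := qf_smul U t D.v₀

end Scale

section Comb
variable {B : Type*} [CommRing B] {ι : Type*} [Fintype ι] [DecidableEq ι] {U : Matrix ι ι B}

lemma HypSys.pol_comb_f {k : ℕ} (H : HypSys U k) (x y : Fin k → B) (j : Fin k) :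
    pol U (∑ l, (x l • H.e l + y l • H.f l)) (H.f j) = x j := by
  rw [pol_sum_left, Finset.sum_eq_single j]
  · rw [pol_add_left, pol_smul_left, pol_smul_left, H.ef, if_pos rfl, H.ff]; ring
  · intro l _ hl
    rw [pol_add_left, pol_smul_left, pol_smul_left, H.ef, if_neg hl, H.ff]; ring
  · intro h; exact (h (Finset.mem_univ j)).elim

lemma HypSys.pol_comb_e {k : ℕ} (H : HypSys U k) (x y : Fin k → B) (j : Fin k) :
    pol U (∑ l, (x l • H.e l + y l • H.f l)) (H.e j) = y j := by
  rw [pol_sum_left, Finset.sum_eq_single j]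
  · rw [pol_add_left, pol_smul_left, pol_smul_left, H.ee, pol_comm U (H.f j), H.ef, if_pos rfl]
    ring
  · intro l _ hl
    rw [pol_add_left, pol_smul_left, pol_smul_left, H.ee, pol_comm U (H.f l), H.ef,
      if_neg (Ne.symm hl)]
    ring
  · intro h; exact (h (Finset.mem_univ j)).elim

/-- the vector with given coordinates in a split basis. -/
def OddSplit.comb {m : ℕ} (D : OddSplit U m) (x : Option (Fin m ⊕ Fin m) → B) : ι → B :=
  x none • D.v₀ + ∑ l, (x (some (Sum.inl l)) • D.H.e l + x (some (Sum.inr l)) • D.H.f l)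

lemma OddSplit.qf_comb {m : ℕ} (D : OddSplit U m) (x : Option (Fin m ⊕ Fin m) → B) :
    qf U (D.comb x) = x none ^ 2 * qf U D.v₀ +
      ∑ l, x (some (Sum.inl l)) * x (some (Sum.inr l)) := by
  unfold OddSplit.comb
  rw [qf_add, qf_smul, D.H.qf_comb, pol_smul_left, pol_sum_right]
  have h0 : ∑ l, pol U D.v₀ (x (some (Sum.inl l)) • D.H.e l + x (some (Sum.inr l)) • D.H.f l)
      = 0 := Finset.sum_eq_zero fun l _ => by
    rw [pol_add_right, pol_smul_right, pol_smul_right, D.orth.1, D.orth.2]; ring
  rw [h0]; ring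

lemma OddSplit.pol_comb_f {m : ℕ} (D : OddSplit U m) (x : Option (Fin m ⊕ Fin m) → B)
    (j : Fin m) : pol U (D.comb x) (D.H.f j) = x (some (Sum.inl j)) := by
  unfold OddSplit.comb
  rw [pol_add_left, pol_smul_left, D.orth.2, mul_zero, zero_add]
  exact D.H.pol_comb_f _ _ j

lemma OddSplit.pol_comb_e {m : ℕ} (D : OddSplit U m) (x : Option (Fin m ⊕ Fin m) → B)
    (j : Fin m) : pol U (D.comb x) (D.H.e j) = x (some (Sum.inr j)) := by
  unfold OddSplit.comb
  rw [pol_add_left, pol_smul_left, D.orth.1, mul_zero, zero_add]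
  exact D.H.pol_comb_e _ _ j

/-- over a field, the coordinates of a vector in a split basis are unique. -/
lemma OddSplit.comb_injective {K : Type*} [Field K] {V : Matrix ι ι K} {m : ℕ}
    (D : OddSplit V m) (x : Option (Fin m ⊕ Fin m) → K) (hx : D.comb x = 0) : x = 0 := by
  have hf : ∀ j, x (some (Sum.inl j)) = 0 := fun j => by
    rw [← D.pol_comb_f x j, hx, pol_zero_left]
  have he : ∀ j, x (some (Sum.inr j)) = 0 := fun j => by
    rw [← D.pol_comb_e x j, hx, pol_zero_left]
  have hq := D.qf_comb x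
  rw [hx, qf_zero] at hq
  have hsum : ∑ l, x (some (Sum.inl l)) * x (some (Sum.inr l)) = 0 :=
    Finset.sum_eq_zero fun l _ => by rw [hf, zero_mul]
  rw [hsum, add_zero] at hq
  have h0 : x none = 0 := by
    have := (mul_eq_zero.mp hq.symm).resolve_right D.unit.ne_zero
    exact pow_eq_zero_iff (two_ne_zero) |>.mp this
  funext j
  rcases j with _ | (j | j)
  · exact h0
  · exact hf j
  · exact he j

/-- the matrix whose columns are the vectors of a split basis. -/
def OddSplit.toMatrix {m : ℕ} (D : OddSplit U m) : Matrix ι (Option (Fin m ⊕ Fin m)) B :=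
  Matrix.of fun i j => match j with
    | none => D.v₀ i
    | some (Sum.inl l) => D.H.e l i
    | some (Sum.inr l) => D.H.f l i

lemma OddSplit.toMatrix_mulVec {m : ℕ} (D : OddSplit U m) (x : Option (Fin m ⊕ Fin m) → B) :
    D.toMatrix *ᵥ x = D.comb x := by
  funext i
  simp only [OddSplit.toMatrix, OddSplit.comb, mulVec, dotProduct, of_apply, Fintype.sum_option,
    Fintype.sum_sum_type, Finset.sum_apply, Pi.add_apply, Pi.smul_apply, smul_eq_mul,
    Finset.sum_add_distrib]
  rw [mul_comm]
  congr 1
  congr 1 <;> exact Finset.sum_congr rfl fun l _ => mul_comm _ _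

lemma OddSplit.toMatrix_map {m : ℕ} (D : OddSplit U m) {B' : Type*} [CommRing B']
    (φ : B →+* B') : D.toMatrix.map φ = (D.map φ).toMatrix := by
  ext i j
  rcases j with _ | (j | j) <;> rfl

end Comb

section Det
variable {B : Type*} [CommRing B] {ι : Type*} [Fintype ι] [DecidableEq ι]

/-- a square matrix which is injective over all residue fields at maximal ideals has unit
determinant. -/
lemma isUnit_det_of_residue (g : Matrix ι ι B)
    (h : ∀ (𝔪 : Ideal B) [𝔪.IsMaximal] (x : ι → 𝔪.ResidueField),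
      (g.map (algebraMap B 𝔪.ResidueField)) *ᵥ x = 0 → x = 0) : IsUnit g.det := by
  by_contra hu
  obtain ⟨𝔪, hmax, hmem⟩ := exists_max_ideal_of_mem_nonunits (show g.det ∈ nonunits B from hu)
  have hdet : (g.map (algebraMap B 𝔪.ResidueField)).det = 0 := by
    rw [← RingHom.mapMatrix_apply, ← RingHom.map_det]
    exact Ideal.algebraMap_residueField_eq_zero.mpr hmem
  obtain ⟨v, hv0, hv⟩ := Matrix.exists_mulVec_eq_zero_iff.mpr hdet
  exact hv0 (h 𝔪 v hv)

variable {U : Matrix ι ι B}

/-- the square matrix of a split basis, after choosing an indexing of the basis. -/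
theorem OddSplit.exists_matrix {m : ℕ} (D : OddSplit U m) (σ : Option (Fin m ⊕ Fin m) ≃ ι) :
    ∃ g : Matrix ι ι B, IsUnit g.det ∧ ∀ x : ι → B,
      qf U (g *ᵥ x) = x (σ none) ^ 2 * qf U D.v₀ +
        ∑ l, x (σ (some (Sum.inl l))) * x (σ (some (Sum.inr l))) := by
  refine ⟨D.toMatrix.submatrix id σ.symm, ?_, fun x => ?_⟩
  · refine isUnit_det_of_residue _ fun 𝔪 _ x hx => ?_
    have h1 : (D.toMatrix.submatrix id σ.symm).map (algebraMap B 𝔪.ResidueField) =
        (D.map (algebraMap B 𝔪.ResidueField)).toMatrix.submatrix id σ.symm := by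
      rw [← D.toMatrix_map]; rfl
    rw [h1] at hx
    have h2 : (D.map (algebraMap B 𝔪.ResidueField)).toMatrix *ᵥ (x ∘ σ) = 0 := by
      have := Matrix.submatrix_mulVec_equiv (D.map (algebraMap B 𝔪.ResidueField)).toMatrix x
        (Equiv.refl ι) σ.symm
      simp only [Equiv.coe_refl, Equiv.symm_symm] at this
      rw [hx] at this
      exact this.symm
    rw [OddSplit.toMatrix_mulVec] at h2
    have h3 := (D.map (algebraMap B 𝔪.ResidueField)).comb_injective _ h2
    funext j
    have := congrFun h3 (σ.symm j)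
    simpa using this
  · have h2 : (D.toMatrix.submatrix id σ.symm) *ᵥ x = D.toMatrix *ᵥ (x ∘ σ) := by
      have := Matrix.submatrix_mulVec_equiv D.toMatrix x (Equiv.refl ι) σ.symm
      simpa using this
    rw [h2, D.toMatrix_mulVec, D.qf_comb]
    rfl

end Det

end Groth.Agent.Lib.Helper19QSplit
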