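import Mathlib
import Groth.Agent.Lib.Helper19QSplitJ

/-!
# A faithfully flat finitely presented algebra splitting a fibrewise nondegenerate form of odd
rank (helper19)
-/

set_option autoImplicit false
universe u
open Matrix Polynomial

namespace Groth.Agent.Lib.Helper19QSplit

/-- a single étale algebra, surjective on spectra, over which there is a split basis. -/
theorem exists_etale_cover_oddSplit {R : Type u} [CommRing R] {ι : Type*} [Fintype ι]
    [DecidableEq ι] (U : Matrix ι ι R)
    (hnd : ∀ (K : Type u) [Field K] (φ : R →+* K), (qfForm (U.map φ)).Nondegenerate)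
    (m : ℕ) (hm : 2 * m + 1 ≤ Fintype.card ι) :
    ∃ (B : Type u) (_ : CommRing B) (_ : Algebra R B), Algebra.Etale R B ∧
      Function.Surjective (PrimeSpectrum.comap (algebraMap R B)) ∧
      Nonempty (OddSplit (U.map (algebraMap R B)) m) := by
  obtain ⟨n, B, iR, iA, hE, hcov, hPr⟩ := exists_finite_etale_cover (A := R)
    (fun B _ _ => Nonempty (OddSplit (U.map (algebraMap R B)) m))
    (fun p => by
      obtain ⟨B, iR, iA, hE, hq, hD⟩ := exists_etale_oddSplit U hnd m hm p.asIdeal
      exact ⟨B, iR, iA, hE, hq, hD⟩)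
  refine ⟨∀ t, B t, inferInstance, inferInstance, inferInstance, fun p => ?_, ?_⟩
  · obtain ⟨t, q, hq⟩ := hcov p
    refine ⟨PrimeSpectrum.comap (Pi.evalRingHom B t) q, PrimeSpectrum.ext ?_⟩
    rw [PrimeSpectrum.comap_asIdeal, PrimeSpectrum.comap_asIdeal, Ideal.comap_comap]
    exact hq
  · have e : ∀ t, (U.map (algebraMap R (∀ t, B t))).map (Pi.evalRingHom B t) =
        U.map (algebraMap R (B t)) := fun t => by
      ext i j; rfl
    exact ⟨OddSplit.pi fun t => (e t).symm ▸ (hPr t).some⟩

/-- adjoining a square root of a unit. -/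
theorem exists_sqrt_extension {B : Type u} [CommRing B] [Nontrivial B] (c : B) (hc : IsUnit c) :
    ∃ (A : Type u) (_ : CommRing A) (_ : Algebra B A), Module.FaithfullyFlat B A ∧
      Algebra.FinitePresentation B A ∧ ∃ s : A, IsUnit s ∧ s ^ 2 * algebraMap B A c = 1 := by
  let f : B[X] := X ^ 2 - C c
  have hf : f.Monic := monic_X_pow_sub_C c two_ne_zero
  have hdeg : f.natDegree = 2 := natDegree_X_pow_sub_C
  let A := AdjoinRoot f
  have hnt : Nontrivial A := by
    refine ⟨⟨1, 0, fun h => ?_⟩⟩
    have h1 : AdjoinRoot.mk f 1 = 0 := by rw [map_one]; exact h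
    rw [AdjoinRoot.mk_eq_zero] at h1
    have h2 : f = 1 := hf.eq_one_of_isUnit (isUnit_of_dvd_one h1)
    rw [h2, natDegree_one] at hdeg
    exact absurd hdeg (by norm_num)
  have hfree : Module.Free B A := Module.Free.of_basis (AdjoinRoot.powerBasis' hf).basis
  have hroot : (AdjoinRoot.root f) ^ 2 = algebraMap B A c := by
    have h := AdjoinRoot.eval₂_root f
    change eval₂ (AdjoinRoot.of f) (AdjoinRoot.root f) (X ^ 2 - C c) = 0 at h
    rw [eval₂_sub, eval₂_pow, eval₂_X, eval₂_C, sub_eq_zero] at h
    exact h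
  have hcA : IsUnit (algebraMap B A c) := hc.map _
  have hrootU : IsUnit (AdjoinRoot.root f) := by
    have : IsUnit ((AdjoinRoot.root f) ^ 2) := hroot ▸ hcA
    exact (isUnit_pow_iff two_ne_zero).mp this
  obtain ⟨s, hs⟩ := hrootU.exists_left_inv
  refine ⟨A, inferInstance, inferInstance, inferInstance, inferInstance, s,
    IsUnit.of_mul_eq_one _ hs, ?_⟩
  rw [← hroot, ← mul_pow, hs, one_pow]

/-- **fppf-local splitting in odd rank**: over a faithfully flat finitely presented algebra
there is a split basis whose anisotropic vector has value one. -/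
theorem exists_fppf_oddSplit {R : Type u} [CommRing R] [Nontrivial R] {ι : Type*} [Fintype ι]
    [DecidableEq ι] (U : Matrix ι ι R)
    (hnd : ∀ (K : Type u) [Field K] (φ : R →+* K), (qfForm (U.map φ)).Nondegenerate)
    (m : ℕ) (hm : 2 * m + 1 ≤ Fintype.card ι) :
    ∃ (A : Type u) (_ : CommRing A) (_ : Algebra R A), Module.FaithfullyFlat R A ∧
      Algebra.FinitePresentation R A ∧
      ∃ D : OddSplit (U.map (algebraMap R A)) m, qf (U.map (algebraMap R A)) D.v₀ = 1 := by
  obtain ⟨B, _, _, hE, hsurj, ⟨D⟩⟩ := exists_etale_cover_oddSplit U hnd m hm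
  have hflat : Module.Flat R B := Algebra.Smooth.flat R B
  have hff : Module.FaithfullyFlat R B := Module.FaithfullyFlat.of_comap_surjective hsurj
  have hntB : Nontrivial B := by
    obtain ⟨q, -⟩ := hsurj (Classical.arbitrary (PrimeSpectrum R))
    exact q.nontrivial
  obtain ⟨A, _, _, hffA, hfpA, s, hsU, hs⟩ :=
    exists_sqrt_extension (qf (U.map (algebraMap R B)) D.v₀) D.unit
  letI : Algebra R A := ((algebraMap B A).comp (algebraMap R B)).toAlgebra
  haveI : IsScalarTower R B A := IsScalarTower.of_algebraMap_eq fun _ => rfl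
  have e : (U.map (algebraMap R B)).map (algebraMap B A) = U.map (algebraMap R A) := by
    ext i j; rfl
  refine ⟨A, inferInstance, inferInstance, Module.FaithfullyFlat.trans R B A,
    Algebra.FinitePresentation.trans R B A, ?_⟩
  let D' : OddSplit ((U.map (algebraMap R B)).map (algebraMap B A)) m :=
    (D.map (algebraMap B A)).scale s hsU
  have hD' : qf ((U.map (algebraMap R B)).map (algebraMap B A)) D'.v₀ = 1 := by
    change qf _ ((D.map (algebraMap B A)).scale s hsU).v₀ = 1
    rw [OddSplit.qf_scale]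
    change s ^ 2 * qf _ ((algebraMap B A) ∘ D.v₀) = 1
    rw [← map_qf]
    exact hs
  clear_value D'
  revert D' hD'
  rw [e]
  intro D' hD'
  exact ⟨D', hD'⟩

end Groth.Agent.Lib.Helper19QSplit
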