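import Mathlib
import Groth.Agent.Lib.Helper19QSplitK

/-!
# Base change of quadratic forms on `Fin n → R` in coordinates; the split form (helper19)
-/

set_option autoImplicit false
universe u
open Matrix TensorProduct QuadGrp

namespace Groth.Agent.Lib.Helper19QSplit

section Coord
variable {R : Type u} [CommRing R] {n : ℕ} (A : Type u) [CommRing A] [Algebra R A]

/-- coordinates on the base change of `Fin n → R`. -/
noncomputable def coordEquiv : A ⊗[R] (Fin n → R) ≃ₗ[A] (Fin n → A) :=
  TensorProduct.piScalarRight R A A (Fin n)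

lemma coordEquiv_one_tmul_single (i : Fin n) :
    coordEquiv (R := R) A ((1 : A) ⊗ₜ[R] (Pi.single i 1 : Fin n → R)) = Pi.single i 1 := by
  unfold coordEquiv
  rw [TensorProduct.piScalarRight_apply, TensorProduct.piScalarRightHom_tmul]
  funext j
  by_cases h : j = i
  · subst h; simp
  · simp [Pi.single_apply, h]

/-- a quadratic form over `A` with the base-changed values and polar values on the standard basis
is the base change, in coordinates. -/
theorem baseChangeForm_eq_of_basis (Q : QuadraticForm R (Fin n → R))
    (Q' : QuadraticForm A (Fin n → A))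
    (h1 : ∀ i, Q' (Pi.single i 1) = algebraMap R A (Q (Pi.single i 1)))
    (h2 : ∀ i j, QuadraticMap.polar Q' (Pi.single i 1) (Pi.single j 1) =
      algebraMap R A (QuadraticMap.polar Q (Pi.single i 1) (Pi.single j 1)))
    (z : A ⊗[R] (Fin n → R)) : baseChangeForm A Q z = Q' (coordEquiv A z) := by
  have key : baseChangeForm A Q = Q'.comp (coordEquiv (R := R) A).toLinearMap := by
    refine quadraticMap_ext_basis (Algebra.TensorProduct.basis A (Pi.basisFun R (Fin n)))
      (fun i => ?_) (fun i j => ?_)
    · rw [Algebra.TensorProduct.basis_apply, Pi.basisFun_apply,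
        Groth.Agent.Lib.Helper25.HalfDisc.baseChangeForm_one_tmul, QuadraticMap.comp_apply]
      change _ = Q' (coordEquiv A _)
      rw [coordEquiv_one_tmul_single, h1]
    · rw [Algebra.TensorProduct.basis_apply, Algebra.TensorProduct.basis_apply,
        Pi.basisFun_apply, Pi.basisFun_apply,
        Groth.Agent.Lib.Helper25.HalfDisc.polar_baseChangeForm]
      have hpol : QuadraticMap.polar (Q'.comp (coordEquiv (R := R) A).toLinearMap)
          ((1 : A) ⊗ₜ[R] (Pi.single i 1 : Fin n → R)) ((1 : A) ⊗ₜ[R] (Pi.single j 1 : Fin n → R)) =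
          QuadraticMap.polar Q' (Pi.single i 1) (Pi.single j 1) := by
        unfold QuadraticMap.polar
        rw [QuadraticMap.comp_apply, QuadraticMap.comp_apply, QuadraticMap.comp_apply]
        change Q' (coordEquiv A (_ + _)) - Q' (coordEquiv A _) - Q' (coordEquiv A _) = _
        rw [(coordEquiv (R := R) A).map_add, coordEquiv_one_tmul_single,
          coordEquiv_one_tmul_single]
      rw [hpol, h2]
  rw [key]
  rfl

lemma single_eq_comp (i : Fin n) :
    (Pi.single i 1 : Fin n → A) = (algebraMap R A) ∘ (Pi.single i 1 : Fin n → R) := by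
  funext j
  by_cases h : j = i
  · subst h; simp
  · simp [h]

/-- the matrix form: the base change of `Q` is `x ↦ xᵀ U_A x` in coordinates. -/
theorem baseChangeForm_eq_qf (Q : QuadraticForm R (Fin n → R)) (z : A ⊗[R] (Fin n → R)) :
    baseChangeForm A Q z = qf ((matOf Q).map (algebraMap R A)) (coordEquiv A z) := by
  refine baseChangeForm_eq_of_basis A Q (qfForm ((matOf Q).map (algebraMap R A)))
    (fun i => ?_) (fun i j => ?_) z
  · rw [single_eq_comp (R := R), qfForm_map, qfForm_matOf]
  · unfold QuadraticMap.polar
    rw [single_eq_comp (R := R), single_eq_comp (R := R) A j]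
    have hadd : (algebraMap R A) ∘ (Pi.single i 1 : Fin n → R) +
        (algebraMap R A) ∘ (Pi.single j 1 : Fin n → R) =
        (algebraMap R A) ∘ ((Pi.single i 1 : Fin n → R) + Pi.single j 1) := by
      funext k; simp
    rw [hadd, qfForm_map, qfForm_map, qfForm_map, qfForm_matOf, map_sub, map_sub]

end Coord

section Split
variable (R : Type u) [CommRing R]

/-- the indexing of the standard split basis in odd rank. -/
noncomputable def sigma (m : ℕ) : Option (Fin m ⊕ Fin m) ≃ Fin (2 * m + 1) :=
  Equiv.ofBijective
    (fun j => match j with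
      | none => ⟨0, by omega⟩
      | some (Sum.inl l) => ⟨2 * l.val + 1, by have := l.isLt; omega⟩
      | some (Sum.inr l) => ⟨2 * l.val + 2, by have := l.isLt; omega⟩)
    ⟨by
      intro a b h
      rcases a with _ | (a | a) <;> rcases b with _ | (b | b) <;>
        simp only [Fin.mk.injEq] at h <;> first
        | rfl
        | (exfalso; omega)
        | (have : a = b := Fin.ext (by omega); rw [this]),
     by
      intro j
      by_cases h0 : j.val = 0
      · exact ⟨none, Fin.ext h0.symm⟩
      · by_cases h1 : j.val % 2 = 1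
        · exact ⟨some (Sum.inl ⟨(j.val - 1) / 2, by have := j.isLt; omega⟩),
            Fin.ext (by simp only; omega)⟩
        · exact ⟨some (Sum.inr ⟨(j.val - 2) / 2, by have := j.isLt; omega⟩),
            Fin.ext (by simp only; omega)⟩⟩

lemma sigma_none (m : ℕ) : sigma m none = ⟨0, by omega⟩ := rfl
lemma sigma_inl (m : ℕ) (l : Fin m) :
    sigma m (some (Sum.inl l)) = ⟨2 * l.val + 1, by have := l.isLt; omega⟩ := rfl
lemma sigma_inr (m : ℕ) (l : Fin m) :
    sigma m (some (Sum.inr l)) = ⟨2 * l.val + 2, by have := l.isLt; omega⟩ := rfl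

/-- the split form in odd rank, in the indexing `sigma`. -/
theorem splitForm_odd_apply (m : ℕ) (x : Fin (2 * m + 1) → R) :
    splitForm R (2 * m + 1) x = x (sigma m none) ^ 2 +
      ∑ l, x (sigma m (some (Sum.inl l))) * x (sigma m (some (Sum.inr l))) := by
  have hmod : (2 * m + 1) % 2 = 1 := by omega
  have hdiv : (2 * m + 1) / 2 = m := by omega
  unfold splitForm
  rw [dif_pos hmod, QuadraticMap.add_apply, QuadraticMap.sum_apply, add_comm]
  congr 1
  · rw [QuadraticMap.comp_apply, QuadraticMap.sq_apply, LinearMap.proj_apply, sigma_none, sq]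
  · refine Fintype.sum_equiv (finCongr hdiv) _ _ fun i => ?_
    rw [QuadraticMap.linMulLin_apply, LinearMap.proj_apply, LinearMap.proj_apply, sigma_inl,
      sigma_inr]
    congr 1 <;> refine congrArg x (Fin.ext ?_) <;> simp only [finCongr_apply, Fin.val_cast] <;>
      omega

lemma splitForm_odd_map {A : Type u} [CommRing A] [Algebra R A] (m : ℕ)
    (x : Fin (2 * m + 1) → R) :
    splitForm A (2 * m + 1) ((algebraMap R A) ∘ x) =
      algebraMap R A (splitForm R (2 * m + 1) x) := by
  rw [splitForm_odd_apply, splitForm_odd_apply]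
  simp only [Function.comp_apply, map_add, map_pow, map_sum, map_mul]

/-- the base change of the split form, in coordinates. -/
theorem baseChangeForm_splitForm_odd (A : Type u) [CommRing A] [Algebra R A] (m : ℕ)
    (z : A ⊗[R] (Fin (2 * m + 1) → R)) :
    baseChangeForm A (splitForm R (2 * m + 1)) z =
      splitForm A (2 * m + 1) (coordEquiv A z) := by
  refine baseChangeForm_eq_of_basis A _ _ (fun i => ?_) (fun i j => ?_) z
  · rw [single_eq_comp (R := R), splitForm_odd_map]
  · unfold QuadraticMap.polar
    rw [single_eq_comp (R := R), single_eq_comp (R := R) A j]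
    have hadd : (algebraMap R A) ∘ (Pi.single i 1 : Fin (2 * m + 1) → R) +
        (algebraMap R A) ∘ (Pi.single j 1 : Fin (2 * m + 1) → R) =
        (algebraMap R A) ∘ ((Pi.single i 1 : Fin (2 * m + 1) → R) + Pi.single j 1) := by
      funext k; simp
    rw [hadd, splitForm_odd_map, splitForm_odd_map, splitForm_odd_map, map_sub, map_sub]

end Split

end Groth.Agent.Lib.Helper19QSplit
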