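import Mathlib
import Groth.Agent.Lib.Helper19QSplitL

/-!
# The coordinate ring of the orthogonal group of a matrix quadratic form (helper19)

For `U : Matrix (Fin n) (Fin n) R` the `R`-algebra `CoordRing U` represents
`A ↦ {P ∈ GL_n(A) | qf U_A (P x) = qf U_A x}`.
-/

set_option autoImplicit false
universe u
open Matrix MvPolynomial Groth.Agent.Lib.Helper19QSplit

namespace Groth.Agent.Lib.Helper19QRep

section MatrixLemmas
variable {B : Type*} [CommRing B] {n : ℕ}

lemma bf_mulVec (U P : Matrix (Fin n) (Fin n) B) (x y : Fin n → B) :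
    bf U (P *ᵥ x) (P *ᵥ y) = bf (Pᵀ * U * P) x y := by
  unfold bf
  rw [← mulVec_mulVec, ← mulVec_mulVec, dotProduct_mulVec x Pᵀ, vecMul_transpose]

lemma qf_mulVec (U P : Matrix (Fin n) (Fin n) B) (x : Fin n → B) :
    qf U (P *ᵥ x) = qf (Pᵀ * U * P) x := bf_mulVec U P x x

lemma pol_mulVec (U P : Matrix (Fin n) (Fin n) B) (x y : Fin n → B) :
    pol U (P *ᵥ x) (P *ᵥ y) = pol (Pᵀ * U * P) x y := by
  unfold pol; rw [bf_mulVec, bf_mulVec]

lemma bf_add_matrix (U V : Matrix (Fin n) (Fin n) B) (x y : Fin n → B) :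
    bf (U + V) x y = bf U x y + bf V x y := by
  unfold bf; rw [add_mulVec, dotProduct_add]

lemma bf_sub_matrix (U V : Matrix (Fin n) (Fin n) B) (x y : Fin n → B) :
    bf (U - V) x y = bf U x y - bf V x y := by
  unfold bf; rw [sub_mulVec, dotProduct_sub]

lemma qf_add_matrix (U V : Matrix (Fin n) (Fin n) B) (x : Fin n → B) :
    qf (U + V) x = qf U x + qf V x := bf_add_matrix U V x x

lemma qf_sub_matrix (U V : Matrix (Fin n) (Fin n) B) (x : Fin n → B) :
    qf (U - V) x = qf U x - qf V x := bf_sub_matrix U V x x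

lemma pol_add_matrix (U V : Matrix (Fin n) (Fin n) B) (x y : Fin n → B) :
    pol (U + V) x y = pol U x y + pol V x y := by
  unfold pol; rw [bf_add_matrix, bf_add_matrix]; ring

/-- the quadratic form of `W` vanishes identically. -/
def QZero (W : Matrix (Fin n) (Fin n) B) : Prop :=
  (∀ i, W i i = 0) ∧ ∀ i j, W i j + W j i = 0

lemma qf_eq_zero_of_qzero {W : Matrix (Fin n) (Fin n) B} (h : QZero W) (x : Fin n → B) :
    qf W x = 0 := by
  have h0 : qf W x = qf (matOf (qfForm W)) x := by rw [qf_matOf, qfForm_apply]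
  rw [h0]
  have : matOf (qfForm W) = 0 := by
    ext i j
    simp only [matOf, Matrix.of_apply, Matrix.zero_apply, qfForm_apply, qf_single, polar_qfForm,
      pol_single]
    split_ifs with h1 h2
    · subst h1; exact h.1 i
    · exact h.2 i j
    · rfl
  rw [this]
  unfold qf
  rw [zero_mulVec, dotProduct_zero]

lemma qzero_of_qf_eq_zero {W : Matrix (Fin n) (Fin n) B} (h : ∀ x, qf W x = 0) : QZero W := by
  refine ⟨fun i => ?_, fun i j => ?_⟩
  · rw [← qf_single W i]; exact h _
  · rw [← pol_single W i j]
    have := qf_add W (Pi.single i 1) (Pi.single j 1)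
    rw [h, h, h] at this
    rw [zero_add, zero_add] at this
    exact this.symm

lemma qzero_iff (W : Matrix (Fin n) (Fin n) B) : QZero W ↔ ∀ x, qf W x = 0 :=
  ⟨qf_eq_zero_of_qzero, qzero_of_qf_eq_zero⟩

/-- isometry condition in matrix form. -/
lemma isometry_iff_qzero (U P : Matrix (Fin n) (Fin n) B) :
    (∀ x, qf U (P *ᵥ x) = qf U x) ↔ QZero (Pᵀ * U * P - U) := by
  rw [qzero_iff]
  refine forall_congr' fun x => ?_
  rw [qf_sub_matrix, qf_mulVec, sub_eq_zero]

end MatrixLemmas

section Coord
variable {R : Type u} [CommRing R] {n : ℕ} (U : Matrix (Fin n) (Fin n) R)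

/-- the points: invertible matrices preserving the quadratic form `U_A`. -/
def IsoMat (A : Type*) [CommRing A] [Algebra R A] (P : Matrix (Fin n) (Fin n) A) : Prop :=
  IsUnit P.det ∧ ∀ x, qf (U.map (algebraMap R A)) (P *ᵥ x) = qf (U.map (algebraMap R A)) x

/-- variables: the matrix entries and the inverse of the determinant. -/
abbrev Var (n : ℕ) := (Fin n × Fin n) ⊕ Unit

/-- the generic matrix. -/
noncomputable def genMat (R : Type u) [CommRing R] (n : ℕ) :
    Matrix (Fin n) (Fin n) (MvPolynomial (Var n) R) :=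
  Matrix.of fun i j => X (Sum.inl (i, j))

/-- `Xᵀ U X - U`. -/
noncomputable def relMat : Matrix (Fin n) (Fin n) (MvPolynomial (Var n) R) :=
  (genMat R n)ᵀ * U.map (algebraMap R (MvPolynomial (Var n) R)) * genMat R n -
    U.map (algebraMap R (MvPolynomial (Var n) R))

/-- the relations. -/
noncomputable def rel : Var n → MvPolynomial (Var n) R
  | Sum.inl (i, j) => if i = j then relMat U i i else relMat U i j + relMat U j i
  | Sum.inr _ => (genMat R n).det * X (Sum.inr ()) - 1

/-- the ideal of relations. -/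
noncomputable def relIdeal : Ideal (MvPolynomial (Var n) R) := Ideal.span (Set.range (rel U))

/-- the coordinate ring of `O(U)`. -/
abbrev CoordRing := MvPolynomial (Var n) R ⧸ relIdeal U

instance finitePresentation : Algebra.FinitePresentation R (CoordRing U) := by
  apply Algebra.FinitePresentation.quotient
  exact ⟨(Set.finite_range (rel U)).toFinset, by rw [Set.Finite.coe_toFinset]; rfl⟩

variable (A : Type u) [CommRing A] [Algebra R A]

/-- matrix of an assignment of the variables. -/
def matOfVal (f : Var n → A) : Matrix (Fin n) (Fin n) A := Matrix.of fun i j => f (Sum.inl (i, j))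

lemma map_genMat (f : Var n → A) : (genMat R n).map (aeval f) = matOfVal A f := by
  ext i j
  simp [genMat, matOfVal]

lemma map_relMat (f : Var n → A) :
    (relMat U).map (aeval f) =
      (matOfVal A f)ᵀ * U.map (algebraMap R A) * matOfVal A f - U.map (algebraMap R A) := by
  have hU : (U.map (algebraMap R (MvPolynomial (Var n) R))).map (aeval f) =
      U.map (algebraMap R A) := by
    ext i j
    simp
  unfold relMat
  have hsub : ∀ V V' : Matrix (Fin n) (Fin n) (MvPolynomial (Var n) R),
      (V - V').map (aeval f : MvPolynomial (Var n) R →ₐ[R] A) = V.map (aeval f) - V'.map (aeval f) := by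
    intro V V'; ext i j; simp
  rw [hsub, Matrix.map_mul, Matrix.map_mul, transpose_map, map_genMat, hU]

lemma aeval_det_genMat (f : Var n → A) :
    aeval (R := R) f (genMat R n).det = (matOfVal A f).det := by
  rw [← map_genMat (R := R), ← AlgHom.mapMatrix_apply, ← AlgHom.map_det]

/-- the assignment satisfies the relations iff its matrix is an isometry with inverse determinant
the last variable. -/
lemma rel_vanish_iff (f : Var n → A) :
    (∀ v, aeval f (rel U v) = 0) ↔
      ((matOfVal A f).det * f (Sum.inr ()) = 1 ∧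
        ∀ x, qf (U.map (algebraMap R A)) (matOfVal A f *ᵥ x) = qf (U.map (algebraMap R A)) x) := by
  rw [isometry_iff_qzero, ← map_relMat]
  constructor
  · intro h
    refine ⟨?_, ⟨fun i => ?_, fun i j => ?_⟩⟩
    · have := h (Sum.inr ())
      simp only [rel, map_sub, map_mul, aeval_X, map_one, aeval_det_genMat] at this
      exact sub_eq_zero.mp this
    · have := h (Sum.inl (i, i))
      simpa [rel] using this
    · by_cases hij : i = j
      · subst hij
        have := h (Sum.inl (i, i))
        simp only [rel, if_true] at this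
        rw [Matrix.map_apply, this, add_zero]
      · have := h (Sum.inl (i, j))
        simp only [rel, if_neg hij, map_add] at this
        exact this
  · rintro ⟨h1, h2, h3⟩ v
    rcases v with ⟨i, j⟩ | u
    · by_cases hij : i = j
      · subst hij
        simp only [rel, if_true]
        exact h2 i
      · simp only [rel, if_neg hij, map_add]
        exact h3 i j
    · simp only [rel, map_sub, map_mul, aeval_X, map_one, aeval_det_genMat]
      exact sub_eq_zero.mpr h1

/-- the matrix of a point of the coordinate ring. -/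
noncomputable def homMat (ψ : CoordRing U →ₐ[R] A) : Matrix (Fin n) (Fin n) A :=
  Matrix.of fun i j => ψ (Ideal.Quotient.mk _ (X (Sum.inl (i, j))))

/-- the assignment of a point. -/
noncomputable def homVal (ψ : CoordRing U →ₐ[R] A) : Var n → A :=
  fun v => ψ (Ideal.Quotient.mk _ (X v))

lemma homMat_eq (ψ : CoordRing U →ₐ[R] A) : homMat U A ψ = matOfVal A (homVal U A ψ) := rfl

lemma comp_mk (ψ : CoordRing U →ₐ[R] A) :
    ψ.comp (Ideal.Quotient.mkₐ R (relIdeal U)) = aeval (homVal U A ψ) := by
  apply MvPolynomial.algHom_ext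
  intro v
  simp [homVal]

lemma homVal_rel (ψ : CoordRing U →ₐ[R] A) (v : Var n) : aeval (homVal U A ψ) (rel U v) = 0 := by
  rw [← comp_mk]
  change ψ (Ideal.Quotient.mk _ (rel U v)) = 0
  have hmem : rel U v ∈ relIdeal U := Ideal.subset_span ⟨v, rfl⟩
  rw [Ideal.Quotient.eq_zero_iff_mem.mpr hmem, map_zero]

lemma homMat_isoMat (ψ : CoordRing U →ₐ[R] A) : IsoMat U A (homMat U A ψ) := by
  have := (rel_vanish_iff U A (homVal U A ψ)).mp (homVal_rel U A ψ)
  rw [homMat_eq]
  exact ⟨IsUnit.of_mul_eq_one _ this.1, this.2⟩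

lemma homMat_det_mul (ψ : CoordRing U →ₐ[R] A) :
    (homMat U A ψ).det * homVal U A ψ (Sum.inr ()) = 1 :=
  ((rel_vanish_iff U A (homVal U A ψ)).mp (homVal_rel U A ψ)).1

lemma homMat_injective : Function.Injective (homMat U A) := by
  intro ψ ψ' h
  have hval : homVal U A ψ = homVal U A ψ' := by
    funext v
    rcases v with ⟨i, j⟩ | u
    · exact congrFun (congrFun h i) j
    · have h1 := homMat_det_mul U A ψ
      have h2 := homMat_det_mul U A ψ'
      rw [h] at h1
      calc homVal U A ψ (Sum.inr u) = homVal U A ψ (Sum.inr ()) * ((homMat U A ψ').det * homVal U A ψ' (Sum.inr ())) := by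
            rw [h2, mul_one]
        _ = ((homMat U A ψ').det * homVal U A ψ (Sum.inr ())) * homVal U A ψ' (Sum.inr ()) := by ring
        _ = homVal U A ψ' (Sum.inr u) := by rw [h1, one_mul]
  apply Ideal.Quotient.algHom_ext
  have := comp_mk U A ψ
  have h' := comp_mk U A ψ'
  rw [hval] at this
  exact this.trans h'.symm

lemma exists_hom_of_isoMat (P : Matrix (Fin n) (Fin n) A) (hP : IsoMat U A P) :
    ∃ ψ : CoordRing U →ₐ[R] A, homMat U A ψ = P := by
  obtain ⟨d, hd⟩ := hP.1
  let f : Var n → A := fun v => match v with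
    | Sum.inl (i, j) => P i j
    | Sum.inr _ => ((d⁻¹ : Aˣ) : A)
  have hfP : matOfVal A f = P := by ext i j; rfl
  have hrel : ∀ v, aeval f (rel U v) = 0 := by
    rw [rel_vanish_iff, hfP]
    refine ⟨?_, hP.2⟩
    change P.det * ((d⁻¹ : Aˣ) : A) = 1
    rw [← hd, Units.mul_inv]
  have hker : ∀ a ∈ relIdeal U, aeval f a = 0 := by
    intro a ha
    have : relIdeal U ≤ RingHom.ker (aeval f : MvPolynomial (Var n) R →ₐ[R] A) := by
      apply Ideal.span_le.mpr
      rintro _ ⟨v, rfl⟩
      exact hrel v
    exact this ha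
  refine ⟨Ideal.Quotient.liftₐ (relIdeal U) (aeval f) hker, ?_⟩
  ext i j
  simp only [homMat, Matrix.of_apply]
  change Ideal.Quotient.liftₐ (relIdeal U) (aeval f) hker (Ideal.Quotient.mk _ _) = _
  rw [Ideal.Quotient.liftₐ_apply, Ideal.Quotient.lift_mk]
  simp [f]

variable {A} in
lemma homMat_comp {B : Type u} [CommRing B] [Algebra R B] (φ : A →ₐ[R] B)
    (ψ : CoordRing U →ₐ[R] A) : homMat U B (φ.comp ψ) = (homMat U A ψ).map φ := by
  ext i j
  rfl

end Coord

end Groth.Agent.Lib.Helper19QRep
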