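import Mathlib
import Groth.Prelude.Def_QuadGrp2
import Groth.Agent.Lib.Helper19QRepA
import Groth.Agent.Lib.Helper19QRepB
import Groth.Agent.Lib.Helper18Quad2

/-!
# Points of the orthogonal group as matrices; the orthogonal group scheme is `Spec (CoordRing U)` (helper19)
-/

set_option autoImplicit false
universe u
open Matrix TensorProduct CategoryTheory AlgebraicGeometry MonObj Groth.Agent.Lib.Helper19QSplit

namespace Groth.Agent.Lib.Helper19QRep

section Mat
variable {R : Type u} [CommRing R] {n : ℕ} (A : Type u) [CommRing A] [Algebra R A]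

/-- an automorphism of `A ⊗ Rⁿ` in coordinates. -/
noncomputable def conjEquiv (g : (A ⊗[R] (Fin n → R)) ≃ₗ[A] (A ⊗[R] (Fin n → R))) :
    (Fin n → A) ≃ₗ[A] (Fin n → A) :=
  ((coordEquiv (R := R) A).symm.trans g).trans (coordEquiv A)

lemma conjEquiv_apply (g : (A ⊗[R] (Fin n → R)) ≃ₗ[A] (A ⊗[R] (Fin n → R))) (x : Fin n → A) :
    conjEquiv A g x = coordEquiv A (g ((coordEquiv (R := R) A).symm x)) := rfl

/-- the matrix of an automorphism of `A ⊗ Rⁿ`. -/
noncomputable def linMat (g : (A ⊗[R] (Fin n → R)) ≃ₗ[A] (A ⊗[R] (Fin n → R))) :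
    Matrix (Fin n) (Fin n) A :=
  LinearMap.toMatrix' (conjEquiv A g).toLinearMap

lemma linMat_mulVec (g : (A ⊗[R] (Fin n → R)) ≃ₗ[A] (A ⊗[R] (Fin n → R))) (x : Fin n → A) :
    linMat A g *ᵥ x = coordEquiv A (g ((coordEquiv (R := R) A).symm x)) := by
  unfold linMat
  rw [← Matrix.toLin'_apply, Matrix.toLin'_toMatrix']
  rfl

lemma linMat_mulVec_coord (g : (A ⊗[R] (Fin n → R)) ≃ₗ[A] (A ⊗[R] (Fin n → R)))
    (z : A ⊗[R] (Fin n → R)) :
    linMat A g *ᵥ (coordEquiv A z) = coordEquiv A (g z) := by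
  rw [linMat_mulVec, LinearEquiv.symm_apply_apply]

lemma linMat_apply (g : (A ⊗[R] (Fin n → R)) ≃ₗ[A] (A ⊗[R] (Fin n → R))) (i j : Fin n) :
    linMat A g i j = coordEquiv A (g ((1 : A) ⊗ₜ[R] (Pi.single j 1 : Fin n → R))) i := by
  unfold linMat
  rw [LinearMap.toMatrix'_apply]
  change conjEquiv A g _ i = _
  rw [conjEquiv_apply]
  have : (coordEquiv (R := R) A).symm (Pi.single j 1) = (1 : A) ⊗ₜ[R] (Pi.single j 1 : Fin n → R) := by
    rw [LinearEquiv.symm_apply_eq, coordEquiv_one_tmul_single]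
  rw [this]

lemma linMat_injective :
    Function.Injective (linMat (R := R) (n := n) A) := by
  intro g g' h
  apply LinearEquiv.ext
  intro z
  have h1 := linMat_mulVec_coord A g z
  rw [h, linMat_mulVec_coord] at h1
  exact ((coordEquiv A).injective h1).symm

lemma isUnit_det_linMat (g : (A ⊗[R] (Fin n → R)) ≃ₗ[A] (A ⊗[R] (Fin n → R))) :
    IsUnit (linMat A g).det := by
  unfold linMat
  rw [LinearMap.det_toMatrix']
  exact LinearEquiv.isUnit_det' (conjEquiv A g)

lemma isoMat_linMat (Q : QuadraticForm R (Fin n → R))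
    (g : (A ⊗[R] (Fin n → R)) ≃ₗ[A] (A ⊗[R] (Fin n → R))) (hg : g ∈ QuadGrp.orth Q A) :
    IsoMat (matOf Q) A (linMat A g) := by
  refine ⟨isUnit_det_linMat A g, fun x => ?_⟩
  rw [linMat_mulVec, ← baseChangeForm_eq_qf,
    Groth.Agent.Lib.Helper18Quad.bcf_of_mem_orth A Q g hg, baseChangeForm_eq_qf,
    LinearEquiv.apply_symm_apply]

lemma exists_orth_of_isoMat (Q : QuadraticForm R (Fin n → R)) (P : Matrix (Fin n) (Fin n) A)
    (hP : IsoMat (matOf Q) A P) :
    ∃ g : (A ⊗[R] (Fin n → R)) ≃ₗ[A] (A ⊗[R] (Fin n → R)), g ∈ QuadGrp.orth Q A ∧ linMat A g = P := by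
  let _ : Invertible P := Matrix.invertibleOfIsUnitDet P hP.1
  let g : (A ⊗[R] (Fin n → R)) ≃ₗ[A] (A ⊗[R] (Fin n → R)) :=
    ((coordEquiv (R := R) A).trans (Matrix.toLinearEquiv' P inferInstance)).trans (coordEquiv A).symm
  have hg : ∀ z, coordEquiv A (g z) = P *ᵥ coordEquiv A z := by
    intro z
    change coordEquiv A ((coordEquiv A).symm (Matrix.toLinearEquiv' P inferInstance (coordEquiv A z))) = _
    rw [LinearEquiv.apply_symm_apply]
    rfl
  refine ⟨g, Groth.Agent.Lib.Helper18Quad.mem_orth_of A Q g fun y => ?_, ?_⟩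
  · rw [baseChangeForm_eq_qf, baseChangeForm_eq_qf, hg, hP.2]
  · have : Matrix.toLin' (linMat A g) = Matrix.toLin' P := by
      apply LinearMap.ext
      intro x
      rw [Matrix.toLin'_apply, Matrix.toLin'_apply, linMat_mulVec, hg, LinearEquiv.apply_symm_apply]
    exact Matrix.toLin'.injective this

lemma coordEquiv_rTensor {B : Type u} [CommRing B] [Algebra R B] (φ : A →ₐ[R] B)
    (z : A ⊗[R] (Fin n → R)) (i : Fin n) :
    coordEquiv B (LinearMap.rTensor (Fin n → R) φ.toLinearMap z) i = φ (coordEquiv A z i) := by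
  induction z using TensorProduct.induction_on with
  | zero => simp
  | tmul a m =>
    rw [LinearMap.rTensor_tmul]
    unfold coordEquiv
    rw [TensorProduct.piScalarRight_apply, TensorProduct.piScalarRightHom_tmul,
      TensorProduct.piScalarRight_apply, TensorProduct.piScalarRightHom_tmul]
    simp
  | add x y hx hy =>
    rw [map_add, map_add, map_add, Pi.add_apply, Pi.add_apply, hx, hy, map_add]

lemma linMat_natural {B : Type u} [CommRing B] [Algebra R B] (φ : A →ₐ[R] B)
    (g : (A ⊗[R] (Fin n → R)) ≃ₗ[A] (A ⊗[R] (Fin n → R)))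
    (g' : (B ⊗[R] (Fin n → R)) ≃ₗ[B] (B ⊗[R] (Fin n → R)))
    (h : ∀ m : Fin n → R, g' ((1 : B) ⊗ₜ[R] m) =
      LinearMap.rTensor (Fin n → R) φ.toLinearMap (g ((1 : A) ⊗ₜ[R] m))) :
    linMat B g' = (linMat A g).map φ := by
  ext i j
  rw [Matrix.map_apply, linMat_apply, linMat_apply, h, coordEquiv_rTensor]

end Mat

section Rep
variable {R : Type u} [CommRing R] {n : ℕ} (Q : QuadraticForm R (Fin n → R))
  (G : Over (Spec (CommRingCat.of R))) [GrpObj G] (D : QuadGrp.OrthRep Q G)

include D in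
lemma exists_hom (A : Type u) [CommRing A] [Algebra R A] (y : QuadGrp.specOver R A ⟶ G) :
    ∃ ψ : CoordRing (matOf Q) →ₐ[R] A,
      homMat (matOf Q) A ψ = linMat A (D.pts A y).1 :=
  exists_hom_of_isoMat (matOf Q) A _ (isoMat_linMat A Q _ (D.pts A y).2)

/-- the point of the coordinate ring of a point of `G`. -/
noncomputable def repFun (A : Type u) [CommRing A] [Algebra R A] (y : QuadGrp.specOver R A ⟶ G) :
    CoordRing (matOf Q) →ₐ[R] A := (exists_hom Q G D A y).choose

lemma homMat_repFun (A : Type u) [CommRing A] [Algebra R A] (y : QuadGrp.specOver R A ⟶ G) :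
    homMat (matOf Q) A (repFun Q G D A y) =
      linMat A (D.pts A y).1 :=
  (exists_hom Q G D A y).choose_spec

lemma repFun_bijective (A : Type u) [CommRing A] [Algebra R A] :
    Function.Bijective (repFun Q G D A) := by
  constructor
  · intro y y' h
    have h1 := homMat_repFun Q G D A y
    rw [h, homMat_repFun] at h1
    exact (D.pts A).injective (Subtype.ext (linMat_injective A h1)).symm
  · intro ψ
    obtain ⟨g, hg, hgP⟩ := exists_orth_of_isoMat A Q _ (homMat_isoMat (matOf Q) A ψ)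
    refine ⟨(D.pts A).symm ⟨g, hg⟩, ?_⟩
    apply homMat_injective
    rw [homMat_repFun, MulEquiv.apply_symm_apply, hgP]

/-- points of `G` are points of the coordinate ring. -/
noncomputable def repEquiv (A : Type u) [CommRing A] [Algebra R A] :
    (QuadGrp.specOver R A ⟶ G) ≃ (CoordRing (matOf Q) →ₐ[R] A) :=
  Equiv.ofBijective _ (repFun_bijective Q G D A)

lemma repEquiv_natural (A B : Type u) [CommRing A] [Algebra R A] [CommRing B] [Algebra R B]
    (φ : A →ₐ[R] B) (y : QuadGrp.specOver R A ⟶ G) :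
    repEquiv Q G D B (QuadGrp.specOverMap R φ ≫ y) = φ.comp (repEquiv Q G D A y) := by
  apply homMat_injective
  change homMat _ B (repFun Q G D B _) = homMat _ B (φ.comp (repFun Q G D A y))
  rw [homMat_comp, homMat_repFun, homMat_repFun]
  exact linMat_natural A φ _ _ (D.natural A B φ y)

include D in
/-- the orthogonal group scheme is smooth iff its coordinate ring is. -/
theorem smooth_iff_coordRing :
    Smooth G.hom ↔ Algebra.Smooth R (CoordRing (matOf Q)) :=
  smooth_iff G (CoordRing (matOf Q)) (fun A _ _ => repEquiv Q G D A)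
    (fun A B _ _ _ _ φ y => repEquiv_natural Q G D A B φ y)

end Rep

end Groth.Agent.Lib.Helper19QRep
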