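import Mathlib
import Groth.Agent.Lib.Helper19QRepB

/-!
# Lifting isometries along square-zero extensions; formal smoothness of the orthogonal group
when the polar form is perfect (helper19)
-/

set_option autoImplicit false
universe u
open Matrix Groth.Agent.Lib.Helper19QSplit

namespace Groth.Agent.Lib.Helper19QRep

section Lift
variable {C C' : Type*} [CommRing C] [CommRing C'] {n : ℕ} (π : C →+* C')

lemma isUnit_of_map_of_sqzero (hπ : Function.Surjective π)
    (hker : ∀ a b, π a = 0 → π b = 0 → a * b = 0) (a : C) (ha : IsUnit (π a)) : IsUnit a := by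
  obtain ⟨c', hc'⟩ := ha.exists_right_inv
  obtain ⟨c, rfl⟩ := hπ c'
  have he : π (a * c - 1) = 0 := by rw [map_sub, map_mul, hc', map_one, sub_self]
  have hee := hker _ _ he he
  refine IsUnit.of_mul_eq_one (c * (1 - (a * c - 1))) ?_
  have : a * (c * (1 - (a * c - 1))) = 1 - (a * c - 1) * (a * c - 1) := by ring
  rw [this, hee, sub_zero]

lemma bf_eq_zero_of_ker (hker : ∀ a b, π a = 0 → π b = 0 → a * b = 0)
    (T : Matrix (Fin n) (Fin n) C) (v w : Fin n → C) (hv : ∀ i, π (v i) = 0)
    (hw : ∀ i, π (w i) = 0) : bf T v w = 0 := by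
  unfold bf dotProduct
  refine Finset.sum_eq_zero fun i _ => hker _ _ (hv i) ?_
  unfold mulVec dotProduct
  rw [map_sum]
  refine Finset.sum_eq_zero fun j _ => ?_
  rw [map_mul, hw j, mul_zero]

lemma mulVec_eq_zero_of_ker (hker : ∀ a b, π a = 0 → π b = 0 → a * b = 0)
    (T : Matrix (Fin n) (Fin n) C) (w : Fin n → C) (hT : ∀ i j, π (T i j) = 0)
    (hw : ∀ i, π (w i) = 0) : T *ᵥ w = 0 := by
  funext i
  unfold mulVec dotProduct
  exact Finset.sum_eq_zero fun j _ => hker _ _ (hT i j) (hw j)

/-- lifting an isometry along a surjection with square-zero kernel, when the polar form is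
perfect. -/
theorem exists_lift_isometry (hπ : Function.Surjective π)
    (hker : ∀ a b, π a = 0 → π b = 0 → a * b = 0)
    (U : Matrix (Fin n) (Fin n) C) (hU : IsUnit (U + Uᵀ).det)
    (P' : Matrix (Fin n) (Fin n) C') (hdet : IsUnit P'.det)
    (hiso : ∀ x, qf (U.map π) (P' *ᵥ x) = qf (U.map π) x) :
    ∃ P : Matrix (Fin n) (Fin n) C, P.map π = P' ∧ IsUnit P.det ∧ ∀ x, qf U (P *ᵥ x) = qf U x := by
  -- entrywise lift
  choose P₀f hP₀f using fun ij : Fin n × Fin n => hπ (P' ij.1 ij.2)
  set P₀ : Matrix (Fin n) (Fin n) C := Matrix.of fun i j => P₀f (i, j) with hP₀def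
  have hP₀ : P₀.map π = P' := by
    ext i j
    simp only [hP₀def, Matrix.map_apply, Matrix.of_apply]
    exact hP₀f (i, j)
  set W : Matrix (Fin n) (Fin n) C := P₀ᵀ * U * P₀ - U with hWdef
  have hWmap : W.map π = P'ᵀ * U.map π * P' - U.map π := by
    have hsub : ∀ V V' : Matrix (Fin n) (Fin n) C, (V - V').map π = V.map π - V'.map π := by
      intro V V'; ext i j; simp
    rw [hWdef, hsub, Matrix.map_mul, Matrix.map_mul, transpose_map, hP₀]
  have hWq : QZero (W.map π) := by
    rw [hWmap]; exact (isometry_iff_qzero _ _).mp hiso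
  have hW1 : ∀ i, π (W i i) = 0 := fun i => hWq.1 i
  have hW2 : ∀ i j, π (W i j + W j i) = 0 := fun i j => by
    have := hWq.2 i j
    simpa only [Matrix.map_apply, map_add] using this
  -- triangular representative
  set Wt : Matrix (Fin n) (Fin n) C := matOf (qfForm W) with hWtdef
  have hWtq : ∀ x, qf Wt x = qf W x := fun x => by rw [hWtdef, qf_matOf, qfForm_apply]
  have hWtker : ∀ i j, π (Wt i j) = 0 := by
    intro i j
    simp only [hWtdef, matOf, Matrix.of_apply, qfForm_apply, qf_single, polar_qfForm, pol_single]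
    split_ifs with h1 h2
    · subst h1; exact hW1 i
    · exact hW2 i j
    · exact map_zero π
  set S : Matrix (Fin n) (Fin n) C := U + Uᵀ with hSdef
  set H : Matrix (Fin n) (Fin n) C := -(S⁻¹ * Wt) with hHdef
  have hSH : S * H = -Wt := by
    rw [hHdef, Matrix.mul_neg, ← Matrix.mul_assoc, Matrix.mul_nonsing_inv S hU, Matrix.one_mul]
  have hHker : ∀ i j, π (H i j) = 0 := by
    intro i j
    simp only [hHdef, Matrix.neg_apply, Matrix.mul_apply, map_neg, map_sum, map_mul, hWtker,
      mul_zero, Finset.sum_const_zero, neg_zero]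
  have hHmap : H.map π = 0 := by
    ext i j
    simp only [Matrix.map_apply, Matrix.zero_apply]
    exact hHker i j
  have haddg : ∀ V V' : Matrix (Fin n) (Fin n) C, (V + V').map π = V.map π + V'.map π := by
    intro V V'; ext i j; simp
  have hadd : (P₀ + P₀ * H).map π = P' := by
    rw [haddg, Matrix.map_mul, hP₀, hHmap, Matrix.mul_zero, add_zero]
  refine ⟨P₀ + P₀ * H, hadd, ?_, ?_⟩
  · apply isUnit_of_map_of_sqzero π hπ hker
    have : π (P₀ + P₀ * H).det = P'.det := by
      rw [← hadd]
      exact RingHom.map_det π _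
    rw [this]
    exact hdet
  · intro x
    have hhker : ∀ i, π ((H *ᵥ x) i) = 0 := by
      intro i
      unfold mulVec dotProduct
      rw [map_sum]
      refine Finset.sum_eq_zero fun j _ => ?_
      rw [map_mul, hHker, zero_mul]
    have hT : P₀ᵀ * U * P₀ = W + U := by rw [hWdef, sub_add_cancel]
    have hsplit : (P₀ + P₀ * H) *ᵥ x = P₀ *ᵥ x + P₀ *ᵥ (H *ᵥ x) := by
      rw [add_mulVec, mulVec_mulVec]
    rw [hsplit, qf_add, qf_mulVec, qf_mulVec, pol_mulVec, hT, qf_add_matrix, pol_add_matrix]
    have e1 : qf (W + U) (H *ᵥ x) = 0 :=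
      bf_eq_zero_of_ker π hker _ _ _ hhker hhker
    have e2 : pol W x (H *ᵥ x) = 0 := by
      rw [pol_eq_dotProduct]
      have : (W + Wᵀ) *ᵥ (H *ᵥ x) = 0 := by
        apply mulVec_eq_zero_of_ker π hker _ _ _ hhker
        intro i j
        exact hW2 i j
      rw [this, dotProduct_zero]
    have e3 : pol U x (H *ᵥ x) = - qf W x := by
      rw [pol_eq_dotProduct, mulVec_mulVec, ← hSdef, hSH, neg_mulVec, dotProduct_neg]
      congr 1
      exact hWtq x
    rw [e1, e2, e3]
    ring

end Lift

section FS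
variable {R : Type u} [CommRing R] {n : ℕ} (U : Matrix (Fin n) (Fin n) R)

lemma map_map_mk {B : Type u} [CommRing B] [Algebra R B] (I : Ideal B) :
    (U.map (algebraMap R B)).map (Ideal.Quotient.mk I) = U.map (algebraMap R (B ⧸ I)) := by
  ext i j
  rfl

/-- the coordinate ring of the orthogonal group of a form with perfect polar form is formally
smooth. -/
theorem formallySmooth_coordRing (hU : IsUnit (U + Uᵀ).det) :
    Algebra.FormallySmooth R (CoordRing U) := by
  rw [Algebra.FormallySmooth.iff_comp_surjective]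
  intro B _ _ I hI ψ'
  have hker : ∀ a b : B, Ideal.Quotient.mk I a = 0 → Ideal.Quotient.mk I b = 0 → a * b = 0 := by
    intro a b ha hb
    rw [Ideal.Quotient.eq_zero_iff_mem] at ha hb
    have : a * b ∈ I ^ 2 := by rw [pow_two]; exact Ideal.mul_mem_mul ha hb
    rw [hI] at this
    exact this
  have hUB : IsUnit (U.map (algebraMap R B) + (U.map (algebraMap R B))ᵀ).det := by
    have : U.map (algebraMap R B) + (U.map (algebraMap R B))ᵀ = (U + Uᵀ).map (algebraMap R B) := by
      ext i j; simp
    rw [this, ← RingHom.mapMatrix_apply, ← RingHom.map_det]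
    exact hU.map _
  have hP' := homMat_isoMat U (B ⧸ I) ψ'
  obtain ⟨P, hP1, hP2, hP3⟩ := exists_lift_isometry (Ideal.Quotient.mk I)
    Ideal.Quotient.mk_surjective hker (U.map (algebraMap R B)) hUB (homMat U (B ⧸ I) ψ') hP'.1
    (by rw [map_map_mk]; exact hP'.2)
  obtain ⟨ψ, hψ⟩ := exists_hom_of_isoMat U B P ⟨hP2, hP3⟩
  refine ⟨ψ, ?_⟩
  apply homMat_injective
  rw [homMat_comp, hψ]
  exact hP1

end FS

end Groth.Agent.Lib.Helper19QRep
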