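import Mathlib
import Groth.Agent.Lib.Helper19QRepB
import Groth.Agent.S17013

/-!
# Odd rank: a formally smooth orthogonal group forces `2` to be a unit (helper19)
-/

set_option autoImplicit false
universe u
open Matrix Polynomial Groth.Agent.Lib.Helper19QSplit

namespace Groth.Agent.Lib.Helper19QRep

section Mu2
variable (k : Type u) [CommRing k]

/-- `k[t]/(t³)`. -/
abbrev Trunc3 := AdjoinRoot (X ^ 3 : k[X])

/-- the ideal `(t²)`. -/
noncomputable def sqIdeal : Ideal (Trunc3 k) := Ideal.span {(AdjoinRoot.root (X ^ 3 : k[X])) ^ 2}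

lemma root_pow_three : (AdjoinRoot.root (X ^ 3 : k[X])) ^ 3 = 0 := by
  have := AdjoinRoot.mk_self (f := (X ^ 3 : k[X]))
  rwa [map_pow, AdjoinRoot.mk_X] at this

lemma sqIdeal_sq : sqIdeal k ^ 2 = ⊥ := by
  unfold sqIdeal
  rw [Ideal.span_singleton_pow, ← pow_mul]
  have : (AdjoinRoot.root (X ^ 3 : k[X])) ^ (2 * 2) = 0 := by
    rw [show 2 * 2 = 3 + 1 from rfl, pow_add, root_pow_three, zero_mul]
  rw [this, Ideal.span_singleton_eq_bot]

lemma one_add_root_sq (h2 : (2 : k) = 0) :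
    Ideal.Quotient.mk (sqIdeal k) (1 + AdjoinRoot.root (X ^ 3 : k[X])) *
      Ideal.Quotient.mk (sqIdeal k) (1 + AdjoinRoot.root (X ^ 3 : k[X])) = 1 := by
  rw [← map_mul, ← map_one (Ideal.Quotient.mk (sqIdeal k)), Ideal.Quotient.eq]
  have h2' : (2 : Trunc3 k) = 0 := by
    have := congrArg (algebraMap k (Trunc3 k)) h2
    rwa [map_ofNat, map_zero] at this
  have : (1 + AdjoinRoot.root (X ^ 3 : k[X])) * (1 + AdjoinRoot.root (X ^ 3 : k[X])) - 1 =
      (AdjoinRoot.root (X ^ 3 : k[X])) ^ 2 + 2 * AdjoinRoot.root (X ^ 3 : k[X]) := by ring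
  rw [this, h2', zero_mul, add_zero]
  exact Ideal.subset_span rfl

lemma no_lift [Nontrivial k] (h2 : (2 : k) = 0) (μ : Trunc3 k)
    (hμ : Ideal.Quotient.mk (sqIdeal k) μ =
      Ideal.Quotient.mk (sqIdeal k) (1 + AdjoinRoot.root (X ^ 3 : k[X])))
    (hsq : μ * μ = 1) : False := by
  obtain ⟨p, rfl⟩ := AdjoinRoot.mk_surjective μ
  rw [Ideal.Quotient.eq, sqIdeal, Ideal.mem_span_singleton] at hμ
  obtain ⟨c, hc⟩ := hμ
  obtain ⟨c₀, rfl⟩ := AdjoinRoot.mk_surjective c
  have h1 : AdjoinRoot.mk (X ^ 3 : k[X]) (p - (1 + X) - X ^ 2 * c₀) = 0 := by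
    rw [map_sub, map_sub, map_add, map_one, AdjoinRoot.mk_X, map_mul, map_pow, AdjoinRoot.mk_X, hc]
    ring
  rw [AdjoinRoot.mk_eq_zero] at h1
  obtain ⟨d, hd⟩ := h1
  have hp : p = 1 + X + X ^ 2 * (c₀ + X * d) := by linear_combination hd
  have h2p : (2 : k[X]) = 0 := by
    have := congrArg (Polynomial.C : k →+* k[X]) h2
    rwa [map_ofNat, map_zero] at this
  have h3 : AdjoinRoot.mk (X ^ 3 : k[X]) (p * p - 1) = 0 := by
    rw [map_sub, map_mul, hsq, map_one, sub_self]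
  rw [AdjoinRoot.mk_eq_zero] at h3
  have h4 : p * p - 1 = X ^ 2 * (1 + X ^ 2 * (c₀ + X * d) ^ 2) := by
    rw [hp]
    linear_combination (X + X ^ 2 * (c₀ + X * d) + X ^ 3 * (c₀ + X * d)) * h2p
  rw [h4, Polynomial.X_pow_dvd_iff] at h3
  have h5 := h3 2 (by norm_num)
  rw [show (2 : ℕ) = 0 + 2 from rfl, Polynomial.coeff_X_pow_mul, Polynomial.coeff_add,
    Polynomial.coeff_one_zero, Polynomial.mul_coeff_zero] at h5
  simp at h5

end Mu2

lemma pow_odd_of_mul_self {M : Type*} [Monoid M] (a : M) (ha : a * a = 1) (m : ℕ) :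
    a ^ (2 * m + 1) = a := by
  rw [pow_succ, pow_mul, pow_two, ha, one_pow, one_mul]

section Det
open QuadGrp
variable {C : Type u} [CommRing C] {m : ℕ}

/-- in odd rank with unit half-discriminant, an isometry has determinant of square one. -/
lemma det_mul_det_eq_one (V : Matrix (Fin (2 * m + 1)) (Fin (2 * m + 1)) C)
    (hV : IsUnit (halfDisc (Pi.basisFun C (Fin (2 * m + 1))) (LinearEquiv.refl C C) (qfForm V)))
    (P : Matrix (Fin (2 * m + 1)) (Fin (2 * m + 1)) C) (hdet : IsUnit P.det)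
    (hiso : ∀ x, qf V (P *ᵥ x) = qf V x) : P.det * P.det = 1 := by
  let _ : Invertible P := Matrix.invertibleOfIsUnitDet P hdet
  let g : (Fin (2 * m + 1) → C) ≃ₗ[C] (Fin (2 * m + 1) → C) := Matrix.toLinearEquiv' P inferInstance
  have hg : g ∈ QuadGrp.O (qfForm V) := by
    intro x
    change qf V (Matrix.toLin' P x) = qf V x
    rw [Matrix.toLin'_apply, hiso]
  have h := Groth.Agent.S17013.result m (Pi.basisFun C (Fin (2 * m + 1))) (qfForm V) hV g hg
  have h' := congrArg (fun u : Cˣ => (u : C)) h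
  simp only [Units.val_mul, Units.val_one, LinearEquiv.coe_det] at h'
  have hdetg : LinearMap.det (g : (Fin (2 * m + 1) → C) →ₗ[C] (Fin (2 * m + 1) → C)) = P.det := by
    change LinearMap.det (Matrix.toLin' P) = P.det
    exact LinearMap.det_toLin' P
  rwa [hdetg] at h'

end Det

section Main
open QuadGrp
variable {R : Type u} [CommRing R] {m : ℕ}

theorem isUnit_two_of_formallySmooth (U : Matrix (Fin (2 * m + 1)) (Fin (2 * m + 1)) R)
    (hU : IsUnit (halfDisc (Pi.basisFun R (Fin (2 * m + 1))) (LinearEquiv.refl R R) (qfForm U)))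
    [Algebra.FormallySmooth R (CoordRing U)] : IsUnit (2 : R) := by
  by_contra h2
  let J : Ideal R := Ideal.span {(2 : R)}
  have hJ : J ≠ ⊤ := by
    rw [Ne, Ideal.span_singleton_eq_top]; exact h2
  let k := R ⧸ J
  have : Nontrivial k := Ideal.Quotient.nontrivial_iff.mpr hJ
  have hk2 : (2 : k) = 0 := by
    have : (Ideal.Quotient.mk J) 2 = 0 :=
      Ideal.Quotient.eq_zero_iff_mem.mpr (Ideal.subset_span rfl)
    rwa [map_ofNat] at this
  let C := Trunc3 k
  let I : Ideal C := sqIdeal k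
  let t : C := AdjoinRoot.root (X ^ 3 : k[X])
  let lam : C ⧸ I := Ideal.Quotient.mk I (1 + t)
  have hlam : lam * lam = 1 := one_add_root_sq k hk2
  -- the scalar isometry `lam`
  let P' : Matrix (Fin (2 * m + 1)) (Fin (2 * m + 1)) (C ⧸ I) := lam • (1 : Matrix _ _ _)
  have hP'det : P'.det = lam := by
    change (lam • (1 : Matrix (Fin (2 * m + 1)) (Fin (2 * m + 1)) (C ⧸ I))).det = lam
    rw [Matrix.det_smul, Matrix.det_one, mul_one, Fintype.card_fin]
    exact pow_odd_of_mul_self lam hlam m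
  have hP'iso : IsoMat U (C ⧸ I) P' := by
    refine ⟨?_, fun x => ?_⟩
    · rw [hP'det]; exact IsUnit.of_mul_eq_one _ hlam
    · change qf _ ((lam • (1 : Matrix _ _ _)) *ᵥ x) = _
      rw [Matrix.smul_mulVec, Matrix.one_mulVec, qf_smul, pow_two, hlam, one_mul]
  obtain ⟨ψ', hψ'⟩ := exists_hom_of_isoMat U (C ⧸ I) P' hP'iso
  obtain ⟨ψ, hψ⟩ := Algebra.FormallySmooth.comp_surjective R (CoordRing U) I (sqIdeal_sq k) ψ'
  have hP := homMat_isoMat U C ψ
  have hmap : (homMat U C ψ).map (Ideal.Quotient.mk I) = P' := by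
    rw [← hψ', ← hψ]
    exact (homMat_comp U (Ideal.Quotient.mkₐ R I) ψ).symm
  have hVunit : IsUnit (halfDisc (Pi.basisFun C (Fin (2 * m + 1))) (LinearEquiv.refl C C)
      (qfForm (U.map (algebraMap R C)))) := by
    rw [halfDisc_qfForm_map]; exact hU.map _
  have hsq := det_mul_det_eq_one (U.map (algebraMap R C)) hVunit (homMat U C ψ) hP.1 hP.2
  refine no_lift k hk2 (homMat U C ψ).det ?_ hsq
  change Ideal.Quotient.mk I (homMat U C ψ).det = lam
  rw [RingHom.map_det, RingHom.mapMatrix_apply, hmap, hP'det]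

end Main

end Groth.Agent.Lib.Helper19QRep
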