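import Mathlib
import Groth.Agent.Lib.Helper19QRepB
import Groth.Agent.Lib.Helper25HalfDisc

/-!
# Non-degeneracy and the polar matrix (helper19)
-/

set_option autoImplicit false
universe u
open Matrix Groth.Agent.Lib.Helper19QSplit

namespace Groth.Agent.Lib.Helper19QRep

open QuadGrp
variable {R : Type u} [CommRing R] {n : ℕ}

lemma polar_eq_pol (Q : QuadraticForm R (Fin n → R)) (x y : Fin n → R) :
    QuadraticMap.polar Q x y = pol (matOf Q) x y := by
  rw [← polar_qfForm, qfForm_matOf]

lemma polarMatrix_eq (Q : QuadraticForm R (Fin n → R)) :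
    matOf Q + (matOf Q)ᵀ =
      LinearMap.BilinForm.toMatrix (Pi.basisFun R (Fin n)) (QuadraticMap.polarBilin Q) := by
  ext i j
  rw [LinearMap.BilinForm.toMatrix_apply, QuadraticMap.polarBilin_apply_apply, Pi.basisFun_apply,
    Pi.basisFun_apply, polar_eq_pol, pol_single, Matrix.add_apply, Matrix.transpose_apply]

/-- a perfect polar form has invertible polar matrix. -/
theorem isUnit_det_of_isRegular (Q : QuadraticForm R (Fin n → R)) (h : IsRegular Q) :
    IsUnit (matOf Q + (matOf Q)ᵀ).det := by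
  choose x hx using fun i : Fin n => h.2 (LinearMap.proj i : (Fin n → R) →ₗ[R] R)
  apply Matrix.isUnit_det_of_left_inverse (B := Matrix.of x)
  ext i j
  rw [Matrix.mul_apply, Matrix.one_apply]
  have h1 : QuadraticMap.polarBilin Q (x i) (Pi.single j 1) = (Pi.single j 1 : Fin n → R) i := by
    rw [hx i]; rfl
  rw [QuadraticMap.polarBilin_apply_apply, polar_eq_pol, pol_eq_dotProduct, mulVec_single_one] at h1
  unfold dotProduct at h1
  simp only [Matrix.of_apply, Matrix.col_apply] at h1 ⊢
  rw [h1, Pi.single_apply]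

/-- in odd rank the determinant of the polar matrix is twice the half-discriminant. -/
theorem det_polar_odd {m : ℕ} (Q : QuadraticForm R (Fin (2 * m + 1) → R)) :
    (matOf Q + (matOf Q)ᵀ).det =
      2 * halfDisc (Pi.basisFun R (Fin (2 * m + 1))) (LinearEquiv.refl R R) Q := by
  rw [polarMatrix_eq, ← Groth.Agent.Lib.Helper25.HalfDisc.PM_coeffs,
    ← Groth.Agent.S17014.Aux.HD.eval_disc, Groth.Agent.S17014.Aux.HD.disc_eq_two_mul,
    MvPolynomial.eval₂_mul, Groth.Agent.Lib.Helper25.HalfDisc.eval_two]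
  rfl

theorem isUnit_det_polar (Q : QuadraticForm R (Fin n → R))
    (hQ : IsNondeg (Pi.basisFun R (Fin n)) (LinearEquiv.refl R R) Q)
    (h : Even n ∨ IsUnit (2 : R)) : IsUnit (matOf Q + (matOf Q)ᵀ).det := by
  rcases Nat.even_or_odd n with he | ho
  · exact isUnit_det_of_isRegular Q (hQ.1 he)
  · rcases h with he | h2
    · exact isUnit_det_of_isRegular Q (hQ.1 he)
    · have hs := hQ.2 ho
      obtain ⟨m, rfl⟩ := ho
      rw [det_polar_odd]
      exact h2.mul hs

end Groth.Agent.Lib.Helper19QRep
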