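import Mathlib
import Groth.Agent.Lib.Helper19PowerSeries
import Groth.Agent.Lib.Helper19PsLiftComplete
import Groth.Agent.Lib.Helper19Restricted2

set_option autoImplicit false
set_option linter.unusedSectionVars false
set_option linter.style.haveILetI false
universe u

namespace Groth.Agent.Lib.Helper19.QuadSing

section L1

variable {k : Type u} [CommRing k] {O : Type u} [CommRing O] [Algebra k O] (𝔪 : Ideal O)
  {S : Type u} [CommRing S] [Algebra k S] (𝔫 : Ideal S) (φ : O →ₐ[k] S)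
  (hmap : ∀ j (o : O), o ∈ 𝔪 ^ j → φ o ∈ 𝔫 ^ j)

/-- level maps. -/
noncomputable def lev (j : ℕ) : AdicCompletion 𝔪 O →ₐ[k] S ⧸ 𝔫 ^ j :=
  (Ideal.quotientMapₐ (𝔫 ^ j) φ (fun o ho => hmap j o ho)).comp
    ((AdicCompletion.evalₐ 𝔪 j).restrictScalars k)

theorem lev_mk (j : ℕ) (c : AdicCompletion.AdicCauchySequence 𝔪 O) :
    lev 𝔪 𝔫 φ hmap j (AdicCompletion.mk 𝔪 O c) = Ideal.Quotient.mk (𝔫 ^ j) (φ (c.val j)) := by
  unfold lev
  rw [AlgHom.comp_apply, AlgHom.restrictScalars_apply, AdicCompletion.evalₐ_mk]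
  rfl

theorem lev_compat {m n : ℕ} (hle : m ≤ n) :
    (Ideal.Quotient.factorₐ k (Ideal.pow_le_pow_right (I := 𝔫) hle)).comp (lev 𝔪 𝔫 φ hmap n) =
      lev 𝔪 𝔫 φ hmap m := by
  ext x
  induction x using AdicCompletion.induction_on with
  | _ c =>
    rw [AlgHom.comp_apply, lev_mk, lev_mk, Ideal.Quotient.factorₐ_apply_mk, Ideal.Quotient.eq,
      ← map_sub]
    refine hmap m _ ?_
    have := c.property hle
    rw [SModEq.sub_mem, smul_eq_mul, Ideal.mul_top] at this
    rw [← neg_sub]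
    exact neg_mem this

variable [IsAdicComplete 𝔫 S]

/-- the comparison map. -/
noncomputable def cmp : AdicCompletion 𝔪 O →ₐ[k] S :=
  IsAdicComplete.liftAlgHom 𝔫 (lev 𝔪 𝔫 φ hmap) (fun hle => lev_compat 𝔪 𝔫 φ hmap hle)

theorem mk_cmp (j : ℕ) (c : AdicCompletion.AdicCauchySequence 𝔪 O) :
    Ideal.Quotient.mk (𝔫 ^ j) (cmp 𝔪 𝔫 φ hmap (AdicCompletion.mk 𝔪 O c)) =
      Ideal.Quotient.mk (𝔫 ^ j) (φ (c.val j)) := by
  unfold cmp
  rw [IsAdicComplete.mk_liftAlgHom, lev_mk]

theorem cmp_injective (hinj : ∀ j (o : O), φ o ∈ 𝔫 ^ j → o ∈ 𝔪 ^ j) :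
    Function.Injective (cmp 𝔪 𝔫 φ hmap) := by
  rw [injective_iff_map_eq_zero]
  intro x hx
  induction x using AdicCompletion.induction_on with
  | _ c =>
    refine AdicCompletion.ext_evalₐ (fun j => ?_)
    rw [AdicCompletion.evalₐ_mk, map_zero, Ideal.Quotient.eq_zero_iff_mem]
    refine hinj j _ ?_
    have := mk_cmp 𝔪 𝔫 φ hmap j c
    rw [hx, map_zero] at this
    exact Ideal.Quotient.eq_zero_iff_mem.mp this.symm

theorem cmp_surjective (hinj : ∀ j (o : O), φ o ∈ 𝔫 ^ j → o ∈ 𝔪 ^ j)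
    (hsurj : ∀ j (s : S), ∃ o : O, φ o - s ∈ 𝔫 ^ j) :
    Function.Surjective (cmp 𝔪 𝔫 φ hmap) := by
  intro s
  choose o ho using fun j => hsurj j s
  have hc : AdicCompletion.IsAdicCauchy 𝔪 O o := by
    intro m n hle
    rw [SModEq.sub_mem, smul_eq_mul, Ideal.mul_top]
    refine hinj m _ ?_
    have : φ (o m - o n) = (φ (o m) - s) - (φ (o n) - s) := by rw [map_sub]; ring
    rw [this]
    exact Ideal.sub_mem _ (ho m) (Ideal.pow_le_pow_right hle (ho n))
  let c : AdicCompletion.AdicCauchySequence 𝔪 O := ⟨o, @hc⟩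
  refine ⟨AdicCompletion.mk 𝔪 O c, ?_⟩
  have hH : IsHausdorff 𝔫 S := inferInstance
  rw [← sub_eq_zero]
  apply hH.haus
  intro j
  rw [SModEq.zero, smul_eq_mul, Ideal.mul_top, ← Ideal.Quotient.eq_zero_iff_mem, map_sub,
    sub_eq_zero, mk_cmp, Ideal.Quotient.eq]
  exact ho j

include hmap in
theorem nonempty_algEquiv (hinj : ∀ j (o : O), φ o ∈ 𝔫 ^ j → o ∈ 𝔪 ^ j)
    (hsurj : ∀ j (s : S), ∃ o : O, φ o - s ∈ 𝔫 ^ j) :
    Nonempty (AdicCompletion 𝔪 O ≃ₐ[k] S) :=
  ⟨AlgEquiv.ofBijective (cmp 𝔪 𝔫 φ hmap)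
    ⟨cmp_injective 𝔪 𝔫 φ hmap hinj, cmp_surjective 𝔪 𝔫 φ hmap hinj hsurj⟩⟩

end L1

section PS

open Groth.Agent.Lib.Helper19

variable {k : Type u} [Field k] {N : ℕ}

theorem mem_maxIdeal_pow_iff (n : ℕ) (g : MvPowerSeries (Fin N) k) :
    g ∈ IsLocalRing.maximalIdeal (MvPowerSeries (Fin N) k) ^ n ↔
      ∀ α : Fin N →₀ ℕ, α.degree < n → MvPowerSeries.coeff α g = 0 := by
  rw [maximalIdeal_eq_coeffIdeal, ← coeffIdeal_eq_pow, mem_coeffIdeal,
    IsLocalRing.maximalIdeal_eq_bot]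
  constructor
  · intro h α hα
    have := h α
    have h1 : n - α.degree ≠ 0 := by omega
    rw [← Ideal.zero_eq_bot, zero_pow h1, Ideal.zero_eq_bot, Ideal.mem_bot] at this
    exact this
  · intro h α
    by_cases hα : α.degree < n
    · rw [h α hα]; exact zero_mem _
    · have : n - α.degree = 0 := by omega
      rw [this, pow_zero, Ideal.one_eq_top]; trivial

/-- translation `p(x) ↦ p(x + a)`. -/
noncomputable def tr (a : Fin N → k) : MvPolynomial (Fin N) k →ₐ[k] MvPolynomial (Fin N) k :=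
  MvPolynomial.aeval (fun i => MvPolynomial.X i + MvPolynomial.C (a i))

theorem tr_X (a : Fin N → k) (i : Fin N) :
    tr a (MvPolynomial.X i) = MvPolynomial.X i + MvPolynomial.C (a i) := by
  unfold tr
  rw [MvPolynomial.aeval_X]

theorem tr_tr_neg (a : Fin N → k) (p : MvPolynomial (Fin N) k) : tr a (tr (-a) p) = p := by
  have : (tr a).comp (tr (-a)) = AlgHom.id k _ := by
    apply MvPolynomial.algHom_ext
    intro i
    rw [AlgHom.comp_apply, tr_X, map_add, tr_X, AlgHom.id_apply, MvPolynomial.algHom_C]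
    simp
  exact AlgHom.congr_fun this p

theorem aeval_eq_constantCoeff_tr (a : Fin N → k) (p : MvPolynomial (Fin N) k) :
    MvPolynomial.aeval a p = MvPolynomial.constantCoeff (tr a p) := by
  induction p using MvPolynomial.induction_on with
  | C c => simp [tr]
  | add p q hp hq => rw [map_add, map_add, map_add, hp, hq]
  | mul_X p i hp =>
    rw [map_mul, map_mul, map_mul, hp, tr_X, MvPolynomial.aeval_X]
    simp

/-- `p ↦ p(x + a)` as a power series. -/
noncomputable def toPS (a : Fin N → k) : MvPolynomial (Fin N) k →ₐ[k] MvPowerSeries (Fin N) k :=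
  (MvPolynomial.coeToMvPowerSeries.algHom k).comp (tr a)

theorem toPS_apply (a : Fin N → k) (p : MvPolynomial (Fin N) k) :
    toPS a p = ((tr a p : MvPolynomial (Fin N) k) : MvPowerSeries (Fin N) k) := by
  unfold toPS
  simp only [AlgHom.comp_apply, MvPolynomial.coeToMvPowerSeries.algHom_apply,
    Algebra.algebraMap_self, MvPowerSeries.map_id, RingHom.id_apply]

theorem constantCoeff_toPS (a : Fin N → k) (p : MvPolynomial (Fin N) k) :
    MvPowerSeries.constantCoeff (toPS a p) = MvPolynomial.aeval a p := by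
  rw [toPS_apply, aeval_eq_constantCoeff_tr, ← MvPowerSeries.coeff_zero_eq_constantCoeff_apply,
    MvPolynomial.coeff_coe]
  rfl

/-- polynomials hit every power series modulo powers of the maximal ideal. -/
theorem exists_toPS_sub_mem (a : Fin N → k) (j : ℕ) (g : MvPowerSeries (Fin N) k) :
    ∃ p : MvPolynomial (Fin N) k,
      toPS a p - g ∈ IsLocalRing.maximalIdeal (MvPowerSeries (Fin N) k) ^ j := by
  refine ⟨tr (-a) (MvPowerSeries.truncTotal j g), ?_⟩
  rw [toPS_apply, tr_tr_neg, mem_maxIdeal_pow_iff]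
  intro α hα
  rw [map_sub, MvPolynomial.coeff_coe, MvPowerSeries.coeff_truncTotal _ hα, sub_self]

/-- the ideal of the point `a`. -/
noncomputable def ptIdeal (a : Fin N → k) : Ideal (MvPolynomial (Fin N) k) :=
  Ideal.span (Set.range fun i => MvPolynomial.X i - MvPolynomial.C (a i))

theorem mem_ptIdeal_pow_of_toPS_mem (a : Fin N → k) (j : ℕ) (q : MvPolynomial (Fin N) k)
    (h : toPS a q ∈ IsLocalRing.maximalIdeal (MvPowerSeries (Fin N) k) ^ j) :
    q ∈ ptIdeal a ^ j := by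
  rw [toPS_apply, mem_maxIdeal_pow_iff] at h
  have h1 : tr a q ∈ MvPolynomial.idealOfVars (Fin N) k ^ j := by
    rw [MvPolynomial.mem_pow_idealOfVars_iff']
    intro α hα
    have := h α hα
    rwa [MvPolynomial.coeff_coe] at this
  have h2 : q = tr (-a) (tr a q) := by
    have := tr_tr_neg (-a) q
    rw [neg_neg] at this
    exact this.symm
  rw [h2]
  have h3 : (MvPolynomial.idealOfVars (Fin N) k ^ j).map (tr (-a)) ≤ ptIdeal a ^ j := by
    rw [Ideal.map_pow]
    refine Ideal.pow_right_mono ?_ j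
    unfold MvPolynomial.idealOfVars
    rw [Ideal.map_span, Ideal.span_le]
    rintro _ ⟨_, ⟨i, rfl⟩, rfl⟩
    refine Ideal.subset_span ⟨i, ?_⟩
    show _ = tr (-a) (MvPolynomial.X i)
    rw [tr_X]
    simp [sub_eq_add_neg]
  exact h3 (Ideal.mem_map_of_mem _ h1)

theorem ptIdeal_le (a : Fin N → k) :
    ptIdeal a ≤ MvPolynomial.vanishingIdeal k {a} := by
  unfold ptIdeal
  rw [Ideal.span_le]
  rintro _ ⟨i, rfl⟩
  rw [SetLike.mem_coe, MvPolynomial.mem_vanishingIdeal_singleton_iff]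
  simp

end PS

section Compl

open Groth.Agent.Lib.Helper19

variable {k : Type u} [Field k] {N : ℕ} (f : MvPolynomial (Fin N) k)
  (P : Ideal (MvPolynomial (Fin N) k ⧸ Ideal.span {f})) [P.IsMaximal] (a : Fin N → k)
  (ha : P.comap (Ideal.Quotient.mk (Ideal.span {f})) = MvPolynomial.vanishingIdeal k {a})

/-- the model ring `k[[x]]/(f(x+a))`. -/
abbrev Sm : Type u := MvPowerSeries (Fin N) k ⧸ Ideal.span {toPS a f}

/-- its maximal ideal. -/
noncomputable def nS : Ideal (Sm f a) :=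
  (IsLocalRing.maximalIdeal (MvPowerSeries (Fin N) k)).map (Ideal.Quotient.mk _)

instance isAdicComplete_nS : IsAdicComplete (nS f a) (Sm f a) := by
  haveI : IsAdicComplete (IsLocalRing.maximalIdeal k) k := by
    rw [IsLocalRing.maximalIdeal_eq_bot]; infer_instance
  haveI : IsAdicComplete (IsLocalRing.maximalIdeal (MvPowerSeries (Fin N) k))
      (MvPowerSeries (Fin N) k) := isAdicComplete_mvPowerSeries
  exact isAdicComplete_quotient_of_isNoetherianRing _ _ _

/-- the map `k[x]/(f) → k[[x]]/(f(x+a))`. -/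
noncomputable def φB : (MvPolynomial (Fin N) k ⧸ Ideal.span {f}) →ₐ[k] Sm f a :=
  Ideal.Quotient.liftₐ (Ideal.span {f})
    ((Ideal.Quotient.mkₐ k (Ideal.span {toPS a f})).comp (toPS a)) (by
    intro x hx
    obtain ⟨c, rfl⟩ := Ideal.mem_span_singleton'.mp hx
    rw [AlgHom.comp_apply, map_mul, map_mul]
    have : Ideal.Quotient.mkₐ k (Ideal.span {toPS a f}) (toPS a f) = 0 :=
      Ideal.Quotient.eq_zero_iff_mem.mpr (Ideal.mem_span_singleton_self _)
    rw [this, mul_zero])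

theorem φB_mk (p : MvPolynomial (Fin N) k) :
    φB f a (Ideal.Quotient.mk _ p) = Ideal.Quotient.mk _ (toPS a p) := rfl

include ha in
theorem mk_mem_P_iff (p : MvPolynomial (Fin N) k) :
    Ideal.Quotient.mk (Ideal.span {f}) p ∈ P ↔ MvPolynomial.aeval a p = 0 := by
  rw [← Ideal.mem_comap, ha, MvPolynomial.mem_vanishingIdeal_singleton_iff]

include ha in
theorem isUnit_φB (y : P.primeCompl) : IsUnit (φB f a y) := by
  obtain ⟨y, hy⟩ := y
  obtain ⟨p, rfl⟩ := Ideal.Quotient.mk_surjective y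
  rw [φB_mk]
  refine IsUnit.map _ ?_
  rw [MvPowerSeries.isUnit_iff_constantCoeff, constantCoeff_toPS, isUnit_iff_ne_zero]
  intro h0
  exact hy ((mk_mem_P_iff f P a ha p).mpr h0)

/-- the map from the local ring. -/
noncomputable def φO : Localization.AtPrime P →ₐ[k] Sm f a :=
  IsLocalization.liftAlgHom (M := P.primeCompl) (f := φB f a) (isUnit_φB f P a ha)

theorem φO_algebraMap (b : MvPolynomial (Fin N) k ⧸ Ideal.span {f}) :
    φO f P a ha (algebraMap _ (Localization.AtPrime P) b) = φB f a b := by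
  unfold φO
  rw [IsLocalization.liftAlgHom_apply, IsLocalization.lift_eq]
  rfl

include ha in
theorem φB_mem_of_mem_P {b : MvPolynomial (Fin N) k ⧸ Ideal.span {f}} (hb : b ∈ P) :
    φB f a b ∈ nS f a := by
  obtain ⟨p, rfl⟩ := Ideal.Quotient.mk_surjective b
  rw [φB_mk]
  refine Ideal.mem_map_of_mem _ ?_
  rw [IsLocalRing.mem_maximalIdeal, mem_nonunits_iff, MvPowerSeries.isUnit_iff_constantCoeff,
    constantCoeff_toPS, (mk_mem_P_iff f P a ha p).mp hb]
  exact not_isUnit_zero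

theorem hmapO (j : ℕ) (o : Localization.AtPrime P)
    (ho : o ∈ IsLocalRing.maximalIdeal (Localization.AtPrime P) ^ j) :
    φO f P a ha o ∈ nS f a ^ j := by
  have h1 : IsLocalRing.maximalIdeal (Localization.AtPrime P) ≤
      Ideal.comap (φO f P a ha) (nS f a) := by
    rw [← Localization.AtPrime.map_eq_maximalIdeal, Ideal.map_le_iff_le_comap]
    intro b hb
    rw [Ideal.mem_comap, Ideal.mem_comap, φO_algebraMap]
    exact φB_mem_of_mem_P f P a ha hb
  exact Ideal.le_comap_pow _ j (Ideal.pow_right_mono h1 j ho)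

include ha in
theorem mem_P_pow_of_φB_mem (j : ℕ) (b : MvPolynomial (Fin N) k ⧸ Ideal.span {f})
    (hb : φB f a b ∈ nS f a ^ j) : b ∈ P ^ j := by
  obtain ⟨p, rfl⟩ := Ideal.Quotient.mk_surjective b
  rw [φB_mk, nS, ← Ideal.map_pow,
    Ideal.mem_map_iff_of_surjective _ Ideal.Quotient.mk_surjective] at hb
  obtain ⟨g, hg, hgp⟩ := hb
  rw [Ideal.Quotient.eq, Ideal.mem_span_singleton'] at hgp
  obtain ⟨v, hv⟩ := hgp
  obtain ⟨w, hw⟩ := exists_toPS_sub_mem a j (-v)
  have h1 : toPS a (p - f * w) ∈ IsLocalRing.maximalIdeal (MvPowerSeries (Fin N) k) ^ j := by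
    have : toPS a (p - f * w) = g - toPS a f * (toPS a w - (-v)) := by
      rw [map_sub, map_mul]
      have : toPS a p = g - v * toPS a f := by rw [hv]; ring
      rw [this]; ring
    rw [this]
    exact Ideal.sub_mem _ hg (Ideal.mul_mem_left _ _ hw)
  have h2 := Ideal.pow_right_mono (ptIdeal_le a) j (mem_ptIdeal_pow_of_toPS_mem a j _ h1)
  rw [← ha] at h2
  have h3 : Ideal.Quotient.mk (Ideal.span {f}) p = Ideal.Quotient.mk (Ideal.span {f}) (p - f * w) := by
    rw [Ideal.Quotient.eq]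
    have : p - (p - f * w) = w * f := by ring
    rw [this]
    exact Ideal.mem_span_singleton'.mpr ⟨w, rfl⟩
  rw [h3]
  have h4 := Ideal.mem_map_of_mem (Ideal.Quotient.mk (Ideal.span {f})) h2
  rwa [Ideal.map_pow, Ideal.map_comap_of_surjective _ Ideal.Quotient.mk_surjective] at h4

theorem hinjO (j : ℕ) (o : Localization.AtPrime P) (ho : φO f P a ha o ∈ nS f a ^ j) :
    o ∈ IsLocalRing.maximalIdeal (Localization.AtPrime P) ^ j := by
  obtain ⟨⟨b, s⟩, hbs⟩ := IsLocalization.surj P.primeCompl o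
  simp only at hbs
  have h1 : φB f a b ∈ nS f a ^ j := by
    rw [← φO_algebraMap f P a ha, ← hbs, map_mul]
    exact Ideal.mul_mem_right _ _ ho
  have h2 := mem_P_pow_of_φB_mem f P a ha j b h1
  have h3 : algebraMap _ (Localization.AtPrime P) b ∈
      IsLocalRing.maximalIdeal (Localization.AtPrime P) ^ j := by
    rw [← Localization.AtPrime.map_eq_maximalIdeal, ← Ideal.map_pow]
    exact Ideal.mem_map_of_mem _ h2
  rw [← hbs] at h3
  have hu : IsUnit (algebraMap _ (Localization.AtPrime P) (s : MvPolynomial (Fin N) k ⧸ Ideal.span {f})) :=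
    IsLocalization.map_units _ s
  exact (Ideal.mul_unit_mem_iff_mem _ hu).mp h3

theorem hsurjO (j : ℕ) (s : Sm f a) :
    ∃ o : Localization.AtPrime P, φO f P a ha o - s ∈ nS f a ^ j := by
  obtain ⟨g, rfl⟩ := Ideal.Quotient.mk_surjective (I := Ideal.span {toPS a f}) s
  obtain ⟨p, hp⟩ := exists_toPS_sub_mem a j g
  refine ⟨algebraMap _ _ (Ideal.Quotient.mk (Ideal.span {f}) p), ?_⟩
  rw [φO_algebraMap, φB_mk, ← map_sub, nS, ← Ideal.map_pow]
  exact Ideal.mem_map_of_mem _ hp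

include ha in
/-- **completion of the local ring of a hypersurface at a rational point.** -/
theorem nonempty_completion_equiv :
    Nonempty (AdicCompletion (R := Localization.AtPrime P)
      (IsLocalRing.maximalIdeal (Localization.AtPrime P))
      (Localization.AtPrime P) ≃ₐ[k] Sm f a) :=
  nonempty_algEquiv _ (nS f a) (φO f P a ha) (hmapO f P a ha) (hinjO f P a ha) (hsurjO f P a ha)

end Compl

end Groth.Agent.Lib.Helper19.QuadSing
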