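import Mathlib
import Groth.Agent.Lib.Helper19QuadSingA
import Groth.Agent.Lib.Helper19MorseTranslF
import Groth.Agent.Lib.Helper24Morse

set_option autoImplicit false
set_option linter.unusedSectionVars false
set_option linter.style.haveILetI false
universe u

namespace Groth.Agent.Lib.Helper19.QuadSing

open Groth.Agent.Lib.Helper19 Groth.Agent.Lib.Helper19.MorseTransl Groth.Agent.Lib.Helper24Morse
open MvPowerSeries

section Hess

variable {k : Type u} [Field k] {N : ℕ}

local notation "𝔫" => IsLocalRing.maximalIdeal (MvPowerSeries (Fin N) k)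

theorem hess_eq_coeff_pderiv (G : MvPowerSeries (Fin N) k) (i l : Fin N) :
    hess G i l = coeff (Finsupp.single l 1) (pderiv k i G) := by
  unfold hess
  rw [coeff_pderiv, add_comm (Finsupp.single i 1), Finsupp.single_apply, Finsupp.single_apply]
  by_cases h : i = l
  · subst h; simp
  · rw [if_neg h, if_neg (Ne.symm h)]

theorem constantCoeff_pderiv (G : MvPowerSeries (Fin N) k) (i : Fin N) :
    constantCoeff (pderiv k i G) = coeff (Finsupp.single i 1) G := by
  rw [← coeff_zero_eq_constantCoeff_apply, coeff_pderiv]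
  simp

theorem mem_n_iff (g : MvPowerSeries (Fin N) k) : g ∈ 𝔫 ↔ constantCoeff g = 0 := by
  rw [IsLocalRing.mem_maximalIdeal, mem_nonunits_iff, MvPowerSeries.isUnit_iff_constantCoeff,
    isUnit_iff_ne_zero, not_not]

theorem hess_eq_of_sub_mem {G G' : MvPowerSeries (Fin N) k} (h : G - G' ∈ 𝔫 ^ 3) :
    hess G = hess G' := by
  ext r s
  unfold hess
  congr 1
  rw [mem_maxIdeal_pow_iff] at h
  have := h (Finsupp.single r 1 + Finsupp.single s 1) (by
    rw [map_add, Finsupp.degree_single, Finsupp.degree_single]; norm_num)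
  rw [map_sub, sub_eq_zero] at this
  exact this

/-- NoLowTerms. -/
def NLT (G : MvPowerSeries (Fin N) k) : Prop :=
  constantCoeff G = 0 ∧ ∀ i, coeff (Finsupp.single i 1) G = 0

theorem NLT.mem_sq {G : MvPowerSeries (Fin N) k} (hG : NLT G) : G ∈ 𝔫 ^ 2 := by
  rw [mem_maxIdeal_pow_iff]
  intro α hα
  rcases degree_le_two_cases α (by omega) with h | ⟨i, h⟩ | ⟨i, j, _, h⟩
  · rw [h]; exact hG.1
  · rw [h]; exact hG.2 i
  · exfalso
    rw [h, map_add, Finsupp.degree_single, Finsupp.degree_single] at hα
    omega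

/-- if the variables lie in the ideal generated by the partials and `F`, the Hessian is
invertible. -/
theorem isUnit_det_hess_of_X_mem (F : MvPowerSeries (Fin N) k) (hF : NLT F)
    (h : ∀ i, (X i : MvPowerSeries (Fin N) k) ∈
      Ideal.span (Set.range fun j => pderiv k j F) ⊔ Ideal.span {F}) :
    IsUnit (hess F).det := by
  have h1 : ∀ i, ∃ (c : Fin N → MvPowerSeries (Fin N) k) (d : MvPowerSeries (Fin N) k),
      (X i : MvPowerSeries (Fin N) k) = ∑ j, c j * pderiv k j F + d * F := by
    intro i
    obtain ⟨g, hg, g', hg', hsum⟩ := Submodule.mem_sup.mp (h i)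
    obtain ⟨c, hc⟩ := (Ideal.mem_span_range_iff_exists_fun).mp hg
    obtain ⟨d, hd⟩ := Ideal.mem_span_singleton'.mp hg'
    exact ⟨c, d, by rw [hc, hd, hsum]⟩
  choose c d hcd using h1
  let C₀ : Matrix (Fin N) (Fin N) k := fun i j => constantCoeff (c i j)
  have hmul : C₀ * hess F = 1 := by
    ext i l
    rw [Matrix.mul_apply]
    have h2 := congrArg (coeff (Finsupp.single l 1)) (hcd i)
    rw [map_add, map_sum, linear_coeff_mul _ _ hF.1, hF.2 l, mul_zero, add_zero] at h2
    have h3 : ∀ j, coeff (Finsupp.single l 1) (c i j * pderiv k j F) = C₀ i j * hess F j l := by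
      intro j
      rw [linear_coeff_mul _ _ (by rw [constantCoeff_pderiv]; exact hF.2 j),
        hess_eq_coeff_pderiv]
    simp_rw [h3] at h2
    rw [← h2, coeff_X, Matrix.one_apply]
    by_cases hil : i = l
    · subst hil; simp
    · rw [if_neg hil, if_neg]
      intro h4
      exact hil (Finsupp.single_left_injective one_ne_zero h4).symm
  exact Matrix.isUnit_det_of_left_inverse hmul

/-- with invertible Hessian, every element of the maximal ideal is a combination of partials
modulo the square. -/
theorem exists_comb_of_isUnit_det (F : MvPowerSeries (Fin N) k) (hF : NLT F)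
    (hdet : IsUnit (hess F).det) (g : MvPowerSeries (Fin N) k) (hg : g ∈ 𝔫) :
    ∃ μ : Fin N → k, g - ∑ j, C (μ j) * pderiv k j F ∈ 𝔫 ^ 2 := by
  let gl : Fin N → k := fun l => coeff (Finsupp.single l 1) g
  let μ : Fin N → k := Matrix.vecMul gl (hess F)⁻¹
  have hμ : Matrix.vecMul μ (hess F) = gl := by
    rw [Matrix.vecMul_vecMul, Matrix.nonsing_inv_mul _ hdet, Matrix.vecMul_one]
  refine ⟨μ, ?_⟩
  rw [mem_maxIdeal_pow_iff]
  intro α hα
  rcases degree_le_two_cases α (by omega) with h | ⟨l, h⟩ | ⟨i, j, _, h⟩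
  · rw [h, coeff_zero_eq_constantCoeff_apply, map_sub, (mem_n_iff g).mp hg, map_sum]
    simp only [map_mul, constantCoeff_C, constantCoeff_pderiv, hF.2, mul_zero,
      Finset.sum_const_zero, sub_zero]
  · rw [h, map_sub, map_sum]
    have h3 : ∀ j, coeff (Finsupp.single l 1) (C (μ j) * pderiv k j F) = μ j * hess F j l := by
      intro j
      rw [coeff_C_mul, hess_eq_coeff_pderiv]
    simp_rw [h3]
    have := congrFun hμ l
    rw [Matrix.vecMul, dotProduct] at this
    rw [this]
    exact sub_self _
  · exfalso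
    rw [h, map_add, Finsupp.degree_single, Finsupp.degree_single] at hα
    omega

theorem pderiv_toPS (a : Fin N → k) (j : Fin N) (f : MvPolynomial (Fin N) k) :
    toPS a (MvPolynomial.pderiv j f) = pderiv k j (toPS a f) := by
  rw [toPS_apply, toPS_apply, pderiv_coe]
  congr 1
  induction f using MvPolynomial.induction_on with
  | C c => simp [tr]
  | add p q hp hq => rw [map_add, map_add, map_add, map_add, hp, hq]
  | mul_X p i hp =>
    rw [Derivation.leibniz, map_mul, Derivation.leibniz, map_add, smul_eq_mul, smul_eq_mul,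
      smul_eq_mul, smul_eq_mul, map_mul, map_mul, hp, tr_X, map_add, MvPolynomial.pderiv_C,
      add_zero, MvPolynomial.pderiv_X]
    congr 2
    by_cases hij : j = i
    · subst hij; simp
    · simp [Ne.symm hij]

end Hess

end Groth.Agent.Lib.Helper19.QuadSing
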