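import Mathlib
import Groth.Agent.Lib.Helper19QuadSingB

set_option autoImplicit false
set_option linter.unusedSectionVars false
set_option linter.style.haveILetI false
universe u

namespace Groth.Agent.Lib.Helper19.QuadSing

open Groth.Agent.Lib.Helper19 Groth.Agent.Lib.Helper19.MorseTransl Groth.Agent.Lib.Helper24Morse
open MvPowerSeries

section Subst

variable {k : Type u} [Field k] {N : ℕ}

local notation "𝔫" => IsLocalRing.maximalIdeal (MvPowerSeries (Fin N) k)

theorem n_eq_varsIdeal : 𝔫 = varsIdeal (Fin N) k := by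
  apply le_antisymm
  · intro g hg
    have := mem_varsIdeal_pow_of_coeff_eq_zero 1 g (by
      intro α hα
      have : α = 0 := (Finsupp.degree_eq_zero_iff α).mp (by omega)
      rw [this, coeff_zero_eq_constantCoeff_apply]
      exact (mem_n_iff g).mp hg)
    rwa [pow_one] at this
  · rw [varsIdeal, Ideal.span_le]
    rintro _ ⟨i, rfl⟩
    rw [SetLike.mem_coe, mem_n_iff, constantCoeff_X]

/-- Lemma C: an algebra endomorphism sending the variables into `𝔫` preserves powers of `𝔫`. -/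
theorem map_mem_pow (σ : MvPowerSeries (Fin N) k →ₐ[k] MvPowerSeries (Fin N) k)
    (hσ : ∀ i, σ (X i) ∈ 𝔫) (j : ℕ) {g : MvPowerSeries (Fin N) k} (hg : g ∈ 𝔫 ^ j) :
    σ g ∈ 𝔫 ^ j := by
  have h1 : 𝔫 ≤ Ideal.comap σ 𝔫 := by
    conv_lhs => rw [n_eq_varsIdeal]
    rw [varsIdeal, Ideal.span_le]
    rintro _ ⟨i, rfl⟩
    exact hσ i
  exact Ideal.le_comap_pow _ j (Ideal.pow_right_mono h1 j hg)

theorem constantCoeff_map (σ : MvPowerSeries (Fin N) k →ₐ[k] MvPowerSeries (Fin N) k)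
    (hσ : ∀ i, σ (X i) ∈ 𝔫) (g : MvPowerSeries (Fin N) k) :
    constantCoeff (σ g) = constantCoeff g := by
  have h1 : g - C (constantCoeff g) ∈ 𝔫 ^ 1 := by
    rw [pow_one, mem_n_iff]; simp
  have h2 := map_mem_pow σ hσ 1 h1
  rw [pow_one, mem_n_iff, map_sub, map_sub] at h2
  have h3 : σ (C (constantCoeff g)) = C (constantCoeff g) := σ.commutes _
  rw [h3, constantCoeff_C, sub_eq_zero] at h2
  exact h2

/-- the linear part of a family. -/
noncomputable def linPart (L : Fin N → Fin N → k) (i : Fin N) : MvPowerSeries (Fin N) k :=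
  ∑ r, C (L i r) * X r

theorem coeff_single_linPart (L : Fin N → Fin N → k) (i l : Fin N) :
    coeff (Finsupp.single l 1) (linPart L i) = L i l := by
  unfold linPart
  rw [map_sum]
  simp only [coeff_C_mul, coeff_X]
  rw [Finset.sum_eq_single l]
  · simp
  · intro r _ hr
    rw [if_neg, mul_zero]
    intro h
    exact hr (Finsupp.single_left_injective one_ne_zero h).symm
  · intro h; exact absurd (Finset.mem_univ l) h

theorem linPart_mem (L : Fin N → Fin N → k) (i : Fin N) : linPart L i ∈ 𝔫 := by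
  unfold linPart
  refine Ideal.sum_mem _ (fun r _ => Ideal.mul_mem_left _ _ ?_)
  rw [mem_n_iff, constantCoeff_X]

/-- Lemma A. -/
theorem sub_linPart_mem (y : Fin N → MvPowerSeries (Fin N) k) (hy : ∀ i, y i ∈ 𝔫) (i : Fin N) :
    y i - linPart (fun i r => coeff (Finsupp.single r 1) (y i)) i ∈ 𝔫 ^ 2 := by
  rw [mem_maxIdeal_pow_iff]
  intro α hα
  rcases degree_le_two_cases α (by omega) with h | ⟨l, h⟩ | ⟨i', j', _, h⟩
  · rw [h, coeff_zero_eq_constantCoeff_apply, map_sub, (mem_n_iff _).mp (hy i),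
      (mem_n_iff _).mp (linPart_mem _ i), sub_zero]
  · rw [h, map_sub, coeff_single_linPart, sub_self]
  · exfalso
    rw [h, map_add, Finsupp.degree_single, Finsupp.degree_single] at hα
    omega

/-- Lemma B. -/
theorem sub_Qv_mem (G : MvPowerSeries (Fin N) k) (hG : NLT G) :
    G - Qv (tri (VanCyc.quadPart G)) (fun i => X i) ∈ 𝔫 ^ 3 := by
  rw [mem_maxIdeal_pow_iff]
  intro α hα
  rw [map_sub, coeff_eq_of_low G hG.2 α (by omega), hG.1, map_zero, add_zero, coe_quadPoly,
    sub_self]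

/-- Lemma D. -/
theorem map_Qv (σ : MvPowerSeries (Fin N) k →ₐ[k] MvPowerSeries (Fin N) k)
    (c : Fin N → Fin N → k) (v : Fin N → MvPowerSeries (Fin N) k) :
    σ (Qv c v) = Qv c (fun i => σ (v i)) := by
  unfold Qv
  rw [map_sum]
  refine Finset.sum_congr rfl fun i _ => ?_
  rw [map_sum]
  refine Finset.sum_congr rfl fun j _ => ?_
  rw [map_mul, map_mul]
  congr 2
  exact σ.commutes _

/-- Lemma E. -/
theorem Qv_sub_Qv_mem (c : Fin N → Fin N → k) (u u' : Fin N → MvPowerSeries (Fin N) k)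
    (hu : ∀ i, u i ∈ 𝔫) (hu' : ∀ i, u' i ∈ 𝔫) (h : ∀ i, u i - u' i ∈ 𝔫 ^ 2) :
    Qv c u - Qv c u' ∈ 𝔫 ^ 3 := by
  unfold Qv
  rw [← Finset.sum_sub_distrib]
  refine Ideal.sum_mem _ fun i _ => ?_
  rw [← Finset.sum_sub_distrib]
  refine Ideal.sum_mem _ fun j _ => ?_
  have : C (c i j) * u i * u j - C (c i j) * u' i * u' j =
      C (c i j) * (u i * (u j - u' j) + (u i - u' i) * u' j) := by ring
  rw [this]
  refine Ideal.mul_mem_left _ _ (Ideal.add_mem _ ?_ ?_)
  · have : (𝔫 : Ideal (MvPowerSeries (Fin N) k)) ^ 3 = 𝔫 * 𝔫 ^ 2 := by rw [← pow_succ']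
    rw [this]
    exact Ideal.mul_mem_mul (hu i) (h j)
  · have : (𝔫 : Ideal (MvPowerSeries (Fin N) k)) ^ 3 = 𝔫 ^ 2 * 𝔫 := by rw [← pow_succ]
    rw [this]
    exact Ideal.mul_mem_mul (h i) (hu' j)

theorem pderiv_linPart (L : Fin N → Fin N → k) (i r : Fin N) :
    pderiv k r (linPart L i) = C (L i r) := by
  classical
  unfold linPart
  rw [map_sum]
  have h1 : ∀ b, pderiv k r (C (L i b) * X b) = if b = r then C (L i r) else 0 := by
    intro b
    rw [Derivation.leibniz, pderiv_C, smul_zero, add_zero, smul_eq_mul]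
    by_cases hb : b = r
    · subst hb; rw [pderiv_X_self, mul_one, if_pos rfl]
    · rw [pderiv_X_of_ne hb, mul_zero, if_neg hb]
  simp_rw [h1]
  rw [Finset.sum_ite_eq' Finset.univ r]
  simp

/-- Lemma G'. -/
theorem hess_Qv_linPart (c : Fin N → Fin N → k) (L : Fin N → Fin N → k) (r s : Fin N) :
    hess (Qv c (linPart L)) r s = ∑ i, ∑ j, c i j * (L i r * L j s + L i s * L j r) := by
  rw [hess_eq_coeff_pderiv]
  unfold Qv
  rw [map_sum, map_sum]
  refine Finset.sum_congr rfl fun i _ => ?_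
  rw [map_sum, map_sum]
  refine Finset.sum_congr rfl fun j _ => ?_
  have h1 : pderiv k r (C (c i j) * linPart L i * linPart L j) =
      C (c i j * L i r) * linPart L j + C (c i j * L j r) * linPart L i := by
    rw [mul_assoc, Derivation.leibniz, pderiv_C, smul_zero, add_zero, Derivation.leibniz,
      pderiv_linPart, pderiv_linPart, smul_eq_mul, smul_eq_mul, smul_eq_mul, map_mul, map_mul]
    ring
  rw [h1, map_add, coeff_C_mul, coeff_C_mul, coeff_single_linPart, coeff_single_linPart]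
  ring

theorem hess_Qv_linPart_eq (c : Fin N → Fin N → k) (L : Fin N → Fin N → k) :
    hess (Qv c (linPart L)) =
      (Matrix.of L).transpose * (Matrix.of fun i j => c i j + c j i) * Matrix.of L := by
  ext r s
  rw [hess_Qv_linPart]
  have e1 : ((Matrix.of L).transpose * (Matrix.of fun i j => c i j + c j i) * Matrix.of L) r s =
      ∑ i, ∑ j, (c i j * (L i r * L j s) + c j i * (L i r * L j s)) := by
    rw [Matrix.mul_apply]
    simp only [Matrix.mul_apply, Matrix.transpose_apply, Matrix.of_apply, Finset.sum_mul]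
    rw [Finset.sum_comm]
    refine Finset.sum_congr rfl fun i _ => Finset.sum_congr rfl fun j _ => by ring
  have e2 : (∑ i, ∑ j, c i j * (L i r * L j s + L i s * L j r)) =
      ∑ i, ∑ j, (c i j * (L i r * L j s) + c i j * (L i s * L j r)) := by
    refine Finset.sum_congr rfl fun i _ => Finset.sum_congr rfl fun j _ => by ring
  rw [e1, e2]
  simp only [Finset.sum_add_distrib]
  congr 1
  rw [Finset.sum_comm]
  refine Finset.sum_congr rfl fun i _ => Finset.sum_congr rfl fun j _ => by ring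

/-- the linear coefficients of an endomorphism. -/
noncomputable def linM (σ : MvPowerSeries (Fin N) k →ₐ[k] MvPowerSeries (Fin N) k) :
    Fin N → Fin N → k := fun i r => coeff (Finsupp.single r 1) (σ (X i))

/-- Conclusion I: transformation of the Hessian. -/
theorem hess_map (σ : MvPowerSeries (Fin N) k →ₐ[k] MvPowerSeries (Fin N) k)
    (hσ : ∀ i, σ (X i) ∈ 𝔫) (G : MvPowerSeries (Fin N) k) (hG : NLT G) :
    hess (σ G) = (Matrix.of (linM σ)).transpose * hess G * Matrix.of (linM σ) := by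
  set c := tri (VanCyc.quadPart G) with hc
  have h1 := sub_Qv_mem G hG
  have h2 := map_mem_pow σ hσ 3 h1
  rw [map_sub, map_Qv] at h2
  have h4 : Qv c (fun i => σ (X i)) - Qv c (linPart (linM σ)) ∈ 𝔫 ^ 3 :=
    Qv_sub_Qv_mem c _ _ hσ (linPart_mem _) (sub_linPart_mem (fun i => σ (X i)) hσ)
  have h5 : σ G - Qv c (linPart (linM σ)) ∈ 𝔫 ^ 3 := by
    have : σ G - Qv c (linPart (linM σ)) =
        (σ G - Qv c (fun i => σ (X i))) + (Qv c (fun i => σ (X i)) - Qv c (linPart (linM σ))) := by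
      ring
    rw [this]
    exact Ideal.add_mem _ h2 h4
  rw [hess_eq_of_sub_mem h5, hess_Qv_linPart_eq, ← polarMatrix_quadPart G, ← polar_tri]

/-- Lemma J. -/
theorem hess_mul (u g : MvPowerSeries (Fin N) k) (hg : NLT g) :
    hess (u * g) = constantCoeff u • hess g := by
  have h1 : u * g - C (constantCoeff u) * g ∈ 𝔫 ^ 3 := by
    have : u * g - C (constantCoeff u) * g = (u - C (constantCoeff u)) * g := by ring
    rw [this]
    have h3 : (𝔫 : Ideal (MvPowerSeries (Fin N) k)) ^ 3 = 𝔫 * 𝔫 ^ 2 := by rw [← pow_succ']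
    rw [h3]
    refine Ideal.mul_mem_mul ?_ hg.mem_sq
    rw [mem_n_iff]; simp
  rw [hess_eq_of_sub_mem h1]
  ext r s
  rw [Matrix.smul_apply]
  unfold hess
  rw [coeff_C_mul, smul_eq_mul, mul_assoc]

/-- Lemma K. -/
theorem hess_map_of_sub_mem (ρ : MvPowerSeries (Fin N) k →ₐ[k] MvPowerSeries (Fin N) k)
    (hρ : ∀ i, ρ (X i) - X i ∈ 𝔫 ^ 2) (g : MvPowerSeries (Fin N) k) (hg : NLT g) :
    hess (ρ g) = hess g := by
  have hρ' : ∀ i, ρ (X i) ∈ 𝔫 := by
    intro i
    have h1 : (X i : MvPowerSeries (Fin N) k) ∈ 𝔫 := by rw [mem_n_iff, constantCoeff_X]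
    have h2 := Ideal.pow_le_self (two_ne_zero) (hρ i)
    have : ρ (X i) = (ρ (X i) - X i) + X i := by ring
    rw [this]
    exact Ideal.add_mem _ h2 h1
  rw [hess_map ρ hρ' g hg]
  have hL : Matrix.of (linM ρ) = (1 : Matrix (Fin N) (Fin N) k) := by
    ext i r
    rw [Matrix.of_apply, linM]
    have h1 := (mem_maxIdeal_pow_iff 2 _).mp (hρ i) (Finsupp.single r 1)
      (by rw [Finsupp.degree_single]; norm_num)
    rw [map_sub, sub_eq_zero] at h1
    rw [h1, coeff_X, Matrix.one_apply]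
    by_cases hir : i = r
    · subst hir; simp
    · rw [if_neg hir, if_neg]
      intro h
      exact hir (Finsupp.single_left_injective one_ne_zero h).symm
  rw [hL, Matrix.transpose_one, Matrix.one_mul, Matrix.mul_one]

end Subst

section Lift

variable {k : Type u} [Field k] {N : ℕ}

local notation "𝔫" => IsLocalRing.maximalIdeal (MvPowerSeries (Fin N) k)

instance isAdicComplete_ps : IsAdicComplete 𝔫 (MvPowerSeries (Fin N) k) := by
  haveI : IsAdicComplete (IsLocalRing.maximalIdeal k) k := by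
    rw [IsLocalRing.maximalIdeal_eq_bot]; infer_instance
  exact isAdicComplete_mvPowerSeries

instance isAdicComplete_quot (g : MvPowerSeries (Fin N) k) :
    IsAdicComplete (Ideal.map (Ideal.Quotient.mk (Ideal.span {g})) 𝔫)
      (MvPowerSeries (Fin N) k ⧸ Ideal.span {g}) :=
  isAdicComplete_quotient_of_isNoetherianRing _ _ _

theorem not_isUnit_of_mem_map (g : MvPowerSeries (Fin N) k) (hg : g ∈ 𝔫)
    (x : MvPowerSeries (Fin N) k ⧸ Ideal.span {g})
    (hx : x ∈ Ideal.map (Ideal.Quotient.mk (Ideal.span {g})) 𝔫) : ¬ IsUnit x := by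
  intro hu
  obtain ⟨y, hy, rfl⟩ := (Ideal.mem_map_iff_of_surjective _ Ideal.Quotient.mk_surjective).mp hx
  obtain ⟨z, hz⟩ := hu.exists_right_inv
  obtain ⟨z, rfl⟩ := Ideal.Quotient.mk_surjective z
  rw [← map_mul, ← map_one (Ideal.Quotient.mk (Ideal.span {g})), Ideal.Quotient.eq] at hz
  have h1 : y * z - 1 ∈ 𝔫 := ((Ideal.span_singleton_le_iff_mem (I := 𝔫)).mpr hg) hz
  have h2 : (1 : MvPowerSeries (Fin N) k) ∈ 𝔫 := by
    have : (1 : MvPowerSeries (Fin N) k) = y * z - (y * z - 1) := by ring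
    rw [this]
    exact Ideal.sub_mem _ (Ideal.mul_mem_right _ _ hy) h1
  exact (Ideal.ne_top_iff_one _).mp (IsLocalRing.maximalIdeal.isMaximal _).ne_top h2

theorem mem_map_of_not_isUnit (g : MvPowerSeries (Fin N) k)
    (x : MvPowerSeries (Fin N) k ⧸ Ideal.span {g}) (hx : ¬ IsUnit x) :
    x ∈ Ideal.map (Ideal.Quotient.mk (Ideal.span {g})) 𝔫 := by
  obtain ⟨y, rfl⟩ := Ideal.Quotient.mk_surjective x
  refine Ideal.mem_map_of_mem _ ?_
  rw [IsLocalRing.mem_maximalIdeal, mem_nonunits_iff]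
  intro hy
  exact hx (hy.map _)

/-- lifting an isomorphism of quotients to an endomorphism of the power series ring. -/
theorem exists_lift (F g : MvPowerSeries (Fin N) k) (hF : F ∈ 𝔫) (hg : g ∈ 𝔫)
    (θ : (MvPowerSeries (Fin N) k ⧸ Ideal.span {F}) ≃ₐ[k]
      (MvPowerSeries (Fin N) k ⧸ Ideal.span {g})) :
    ∃ σ : MvPowerSeries (Fin N) k →ₐ[k] MvPowerSeries (Fin N) k, (∀ i, σ (X i) ∈ 𝔫) ∧
      ∀ x, Ideal.Quotient.mk (Ideal.span {g}) (σ x) = θ (Ideal.Quotient.mk (Ideal.span {F}) x) := by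
  have h1 : ∀ i, θ (Ideal.Quotient.mk (Ideal.span {F}) (X i)) ∈
      Ideal.map (Ideal.Quotient.mk (Ideal.span {g})) 𝔫 := by
    intro i
    apply mem_map_of_not_isUnit
    intro hu
    have h2 : IsUnit (Ideal.Quotient.mk (Ideal.span {F}) (X i : MvPowerSeries (Fin N) k)) := by
      have := hu.map θ.symm
      rwa [AlgEquiv.symm_apply_apply] at this
    refine not_isUnit_of_mem_map F hF _ (Ideal.mem_map_of_mem _ ?_) h2
    rw [mem_n_iff, constantCoeff_X]
  have h2 : ∀ i, ∃ y ∈ 𝔫, Ideal.Quotient.mk (Ideal.span {g}) y =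
      θ (Ideal.Quotient.mk (Ideal.span {F}) (X i)) := fun i =>
    (Ideal.mem_map_iff_of_surjective _ Ideal.Quotient.mk_surjective).mp (h1 i)
  choose y hy hyθ using h2
  obtain ⟨σ, hσ⟩ := exists_algHom_X_eq_of_isAdicComplete (Λ := k) 𝔫 y hy
  refine ⟨σ, fun i => by rw [hσ]; exact hy i, ?_⟩
  have := algHom_ext_of_X_of_isHausdorff (Λ := k)
    (Ideal.map (Ideal.Quotient.mk (Ideal.span {g})) 𝔫)
    ((Ideal.Quotient.mkₐ k (Ideal.span {g})).comp σ)
    (θ.toAlgHom.comp (Ideal.Quotient.mkₐ k (Ideal.span {F})))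
    (by
      intro s
      rw [AlgHom.comp_apply, hσ]
      exact Ideal.mem_map_of_mem _ (hy s))
    (by
      intro s
      rw [AlgHom.comp_apply, AlgHom.comp_apply, hσ]
      exact hyθ s)
  intro x
  exact AlgHom.congr_fun this x

/-- **invariance of non-degeneracy.** -/
theorem isUnit_det_hess_of_algEquiv [NeZero N] (F g : MvPowerSeries (Fin N) k) (hF : NLT F)
    (hg : NLT g) (hdet : IsUnit (hess g).det)
    (θ : (MvPowerSeries (Fin N) k ⧸ Ideal.span {F}) ≃ₐ[k]
      (MvPowerSeries (Fin N) k ⧸ Ideal.span {g})) : IsUnit (hess F).det := by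
  have hFn : F ∈ 𝔫 := (mem_n_iff F).mpr hF.1
  have hgn : g ∈ 𝔫 := (mem_n_iff g).mpr hg.1
  obtain ⟨σ, hσ, hσθ⟩ := exists_lift F g hFn hgn θ
  obtain ⟨τ, hτ, hτθ⟩ := exists_lift g F hgn hFn θ.symm
  -- σ F = u g
  have h1 : σ F ∈ Ideal.span {g} := by
    rw [← Ideal.Quotient.eq_zero_iff_mem, hσθ,
      Ideal.Quotient.eq_zero_iff_mem.mpr (Ideal.mem_span_singleton_self F), map_zero]
  obtain ⟨u, hu⟩ := Ideal.mem_span_singleton'.mp h1
  have h2 : τ g ∈ Ideal.span {F} := by
    rw [← Ideal.Quotient.eq_zero_iff_mem, hτθ,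
      Ideal.Quotient.eq_zero_iff_mem.mpr (Ideal.mem_span_singleton_self g), map_zero]
  obtain ⟨v, hv⟩ := Ideal.mem_span_singleton'.mp h2
  -- ρ = σ ∘ τ
  have h3 : ∀ i, (σ.comp τ) (X i) - X i ∈ 𝔫 ^ 2 := by
    intro i
    have : (σ.comp τ) (X i) - X i ∈ Ideal.span {g} := by
      rw [← Ideal.Quotient.eq, AlgHom.comp_apply, hσθ, hτθ, AlgEquiv.apply_symm_apply]
    exact ((Ideal.span_singleton_le_iff_mem (I := 𝔫 ^ 2)).mpr hg.mem_sq) this
  have h4 := hess_map_of_sub_mem (σ.comp τ) h3 g hg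
  have h5 : (σ.comp τ) g = (σ v * u) * g := by
    rw [AlgHom.comp_apply, ← hv, map_mul, ← hu]; ring
  rw [h5, hess_mul _ _ hg, map_mul] at h4
  have hu0 : constantCoeff u ≠ 0 := by
    intro h0
    rw [h0, mul_zero, zero_smul] at h4
    rw [← h4, Matrix.det_zero] at hdet
    exact not_isUnit_zero hdet
  -- compare Hessians of σ F = u g
  have h6 := hess_map σ hσ F hF
  rw [← hu, hess_mul _ _ hg] at h6
  have h7 : IsUnit (constantCoeff u • hess g).det := by
    rw [Matrix.det_smul]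
    exact (IsUnit.mk0 _ hu0).pow _ |>.mul hdet
  rw [h6, Matrix.det_mul, Matrix.det_mul] at h7
  exact isUnit_of_mul_isUnit_right (isUnit_of_mul_isUnit_left h7)

end Lift

end Groth.Agent.Lib.Helper19.QuadSing
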