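import Mathlib
import Groth.Agent.Lib.Helper19QuadSingC

set_option autoImplicit false
set_option linter.unusedSectionVars false
set_option linter.style.haveILetI false
universe u

namespace Groth.Agent.Lib.Helper19.QuadSing

open Groth.Agent.Lib.Helper19 Groth.Agent.Lib.Helper19.MorseTransl Groth.Agent.Lib.Helper24Morse
open MvPowerSeries

section Final

variable {k : Type u} [Field k] {N : ℕ} (f : MvPolynomial (Fin N) k)
  (P : Ideal (MvPolynomial (Fin N) k ⧸ Ideal.span {f})) [P.IsMaximal] (a : Fin N → k)
  (ha : P.comap (Ideal.Quotient.mk (Ideal.span {f})) = MvPolynomial.vanishingIdeal k {a})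
  (hP : ∀ j : Fin N, Ideal.Quotient.mk (Ideal.span {f}) (MvPolynomial.pderiv j f) ∈ P)

local notation "𝔫" => IsLocalRing.maximalIdeal (MvPowerSeries (Fin N) k)

/-- the Jacobian ideal in the local ring. -/
noncomputable def jac : Ideal (Localization.AtPrime P) :=
  Ideal.map (algebraMap (MvPolynomial (Fin N) k ⧸ Ideal.span {f}) (Localization.AtPrime P))
    (Ideal.span (Set.range fun j : Fin N =>
      Ideal.Quotient.mk (Ideal.span {f}) (MvPolynomial.pderiv j f)))

include ha hP in
theorem nlt_toPS : NLT (toPS a f) := by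
  constructor
  · rw [constantCoeff_toPS, ← mk_mem_P_iff f P a ha,
      Ideal.Quotient.eq_zero_iff_mem.mpr (Ideal.mem_span_singleton_self f)]
    exact P.zero_mem
  · intro i
    rw [← constantCoeff_pderiv, ← pderiv_toPS, constantCoeff_toPS, ← mk_mem_P_iff f P a ha]
    exact hP i

theorem toPS_X_sub_C (i : Fin N) :
    toPS a (MvPolynomial.X i - MvPolynomial.C (a i)) = (X i : MvPowerSeries (Fin N) k) := by
  rw [toPS_apply, map_sub, tr_X]
  simp [tr]

include ha in
theorem φO_jac_le :
    jac f P ≤ Ideal.comap (φO f P a ha)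
      ((Ideal.span (Set.range fun j => pderiv k j (toPS a f))).map
        (Ideal.Quotient.mk (Ideal.span {toPS a f}))) := by
  unfold jac
  rw [Ideal.map_le_iff_le_comap, Ideal.span_le]
  rintro _ ⟨j, rfl⟩
  rw [SetLike.mem_coe, Ideal.mem_comap, Ideal.mem_comap, φO_algebraMap, φB_mk, pderiv_toPS]
  exact Ideal.mem_map_of_mem _ (Ideal.subset_span ⟨j, rfl⟩)

include ha hP in
theorem isUnit_det_of_jac_eq
    (h : jac f P = IsLocalRing.maximalIdeal (Localization.AtPrime P)) :
    IsUnit (hess (toPS a f)).det := by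
  refine isUnit_det_hess_of_X_mem _ (nlt_toPS f P a ha hP) (fun i => ?_)
  have h1 : algebraMap _ (Localization.AtPrime P)
      (Ideal.Quotient.mk (Ideal.span {f}) (MvPolynomial.X i - MvPolynomial.C (a i))) ∈ jac f P := by
    rw [h, ← Localization.AtPrime.map_eq_maximalIdeal]
    refine Ideal.mem_map_of_mem _ ?_
    rw [mk_mem_P_iff f P a ha]
    simp
  have h2 := φO_jac_le f P a ha h1
  rw [Ideal.mem_comap, φO_algebraMap, φB_mk, toPS_X_sub_C,
    Ideal.mem_map_iff_of_surjective _ Ideal.Quotient.mk_surjective] at h2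
  obtain ⟨g, hg, hgX⟩ := h2
  rw [Ideal.Quotient.eq] at hgX
  have : (X i : MvPowerSeries (Fin N) k) = g + -(g - X i) := by ring
  rw [this]
  exact Submodule.add_mem_sup hg (Ideal.neg_mem_iff _ |>.mpr hgX)

include ha hP in
theorem jac_eq_of_isUnit_det (hdet : IsUnit (hess (toPS a f)).det) :
    jac f P = IsLocalRing.maximalIdeal (Localization.AtPrime P) := by
  have hF := nlt_toPS f P a ha hP
  apply le_antisymm
  · unfold jac
    rw [← Localization.AtPrime.map_eq_maximalIdeal]
    refine Ideal.map_mono ?_
    rw [Ideal.span_le]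
    rintro _ ⟨j, rfl⟩
    exact hP j
  · have hfg : Submodule.FG (R := Localization.AtPrime P) (M := Localization.AtPrime P)
        (IsLocalRing.maximalIdeal (Localization.AtPrime P)) :=
      IsNoetherian.noetherian _
    refine Submodule.le_of_le_smul_of_le_jacobson_bot (R := Localization.AtPrime P)
      (M := Localization.AtPrime P) (N := jac f P)
      (N' := IsLocalRing.maximalIdeal (Localization.AtPrime P))
      (I := IsLocalRing.maximalIdeal (Localization.AtPrime P)) hfg
      (IsLocalRing.maximalIdeal_le_jacobson (R := Localization.AtPrime P) ⊥) ?_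
    intro o ho
    have h1 := Ideal.pow_le_self one_ne_zero (hmapO f P a ha 1 o (by rwa [pow_one]))
    rw [nS, Ideal.mem_map_iff_of_surjective _ Ideal.Quotient.mk_surjective] at h1
    obtain ⟨g, hg, hgo⟩ := h1
    obtain ⟨μ, hμ⟩ := exists_comb_of_isUnit_det _ hF hdet g hg
    let o' : Localization.AtPrime P := ∑ j, μ j • algebraMap _ (Localization.AtPrime P)
      (Ideal.Quotient.mk (Ideal.span {f}) (MvPolynomial.pderiv j f))
    have ho' : o' ∈ jac f P := by
      refine Ideal.sum_mem _ fun j _ => ?_
      rw [Algebra.smul_def]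
      refine Ideal.mul_mem_left _ _ (Ideal.mem_map_of_mem _ (Ideal.subset_span ⟨j, rfl⟩))
    have h2 : φO f P a ha (o - o') ∈ nS f a ^ 2 := by
      rw [map_sub, ← hgo, map_sum]
      have : ∀ j, φO f P a ha (μ j • algebraMap _ (Localization.AtPrime P)
          (Ideal.Quotient.mk (Ideal.span {f}) (MvPolynomial.pderiv j f))) =
          Ideal.Quotient.mk (Ideal.span {toPS a f}) (C (μ j) * pderiv k j (toPS a f)) := by
        intro j
        rw [map_smul, φO_algebraMap, φB_mk, pderiv_toPS, ← MvPowerSeries.smul_eq_C_mul]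
        rfl
      simp_rw [this]
      rw [← map_sum, ← map_sub, nS, ← Ideal.map_pow]
      exact Ideal.mem_map_of_mem _ hμ
    have h3 := hinjO f P a ha 2 _ h2
    have : o = o' + (o - o') := by ring
    rw [this]
    refine Submodule.add_mem_sup ho' ?_
    rw [smul_eq_mul, ← pow_two]
    exact h3

end Final

end Groth.Agent.Lib.Helper19.QuadSing
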