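import Mathlib
import Groth.Agent.Lib.Helper5RLR
import Groth.Agent.Lib.Helper19ComplDVR

set_option autoImplicit false
universe u

open IsLocalRing

namespace Groth.Agent.Lib.Helper19.RLRDimTwo

/-- A regular local ring of dimension two is a UFD (elementary proof). -/
theorem ufd_of_dim_two (A : Type u) [CommRing A] [IsRegularLocalRing A]
    (hA : ringKrullDim A = 2) : ∃ _ : IsDomain A, UniqueFactorizationMonoid A := by
  haveI hd : IsDomain A := Groth.Agent.Lib.Helper5.isDomain_of_isRegularLocalRing A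
  refine ⟨hd, ?_⟩
  have hdim0 : ringKrullDim A ≠ 0 := by rw [hA]; norm_num
  obtain ⟨x, hxm, hx2, _⟩ :=
    Groth.Agent.Lib.Helper5.exists_mem_maximalIdeal_not_mem_sq_not_mem_minimalPrimes (R := A) hdim0
  have hne : Ideal.span {x} ≠ (⊤ : Ideal A) := by
    intro h
    rw [Ideal.span_singleton_eq_top] at h
    exact (IsLocalRing.mem_maximalIdeal x).1 hxm h
  haveI : IsLocalRing (A ⧸ Ideal.span {x}) := Groth.Agent.Lib.Helper5.isLocalRing_quotient hne
  obtain ⟨hreg, hdim⟩ := Groth.Agent.Lib.Helper5.isRegularLocalRing_quotient_span_singleton hxm hx2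
  have hdim1 : ringKrullDim (A ⧸ Ideal.span {x}) = 1 := by
    obtain ⟨d, hd'⟩ := Groth.Agent.Lib.Helper5.exists_nat_ringKrullDim_eq (A ⧸ Ideal.span {x})
    rw [hd', hA] at hdim
    rw [hd']
    have h1 : d + 1 = 2 := by exact_mod_cast hdim
    have h2 : d = 1 := by omega
    rw [h2]; rfl
  obtain ⟨hdq, hdvr⟩ :=
    (Groth.Agent.Lib.Helper19.isDiscreteValuationRing_iff_regular_dim_one _).2 ⟨hreg, hdim1⟩
  have hx0 : x ≠ 0 := by
    intro h
    exact hx2 (h ▸ Ideal.zero_mem _)
  have hxprime : Prime x := by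
    rw [← Ideal.span_singleton_prime hx0, ← Ideal.Quotient.isDomain_iff_prime]
    exact hdq
  rw [UniqueFactorizationMonoid.iff_exists_prime_mem_of_isPrime]
  intro Q hQ hQp
  by_cases hxQ : x ∈ Q
  · exact ⟨x, hxQ, hxprime⟩
  · -- `Q` is principal
    obtain ⟨gbar, hg⟩ := (IsPrincipalIdealRing.principal
      (Q.map (Ideal.Quotient.mk (Ideal.span {x})))).principal
    have hgmem : gbar ∈ Q.map (Ideal.Quotient.mk (Ideal.span {x})) := by
      rw [hg]; exact Submodule.mem_span_singleton_self _
    obtain ⟨f, hfQ, hf⟩ :=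
      (Ideal.mem_map_iff_of_surjective _ Ideal.Quotient.mk_surjective).1 hgmem
    have hle : Q ≤ Ideal.span {f} := by
      apply Submodule.le_of_le_smul_of_le_jacobson_bot (I := maximalIdeal A)
        (IsNoetherian.noetherian Q)
      · rw [IsLocalRing.jacobson_eq_maximalIdeal ⊥ bot_ne_top]
      · intro p hp
        have h1 : Ideal.Quotient.mk (Ideal.span {x}) p ∈
            Q.map (Ideal.Quotient.mk (Ideal.span {x})) := Ideal.mem_map_of_mem _ hp
        rw [hg, ← hf] at h1
        have h1' : Ideal.Quotient.mk (Ideal.span {x}) p ∈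
            Ideal.span {Ideal.Quotient.mk (Ideal.span {x}) f} := h1
        obtain ⟨abar, ha⟩ := Ideal.mem_span_singleton'.1 h1'
        obtain ⟨a, rfl⟩ := Ideal.Quotient.mk_surjective abar
        rw [← map_mul, Ideal.Quotient.eq, Ideal.mem_span_singleton'] at ha
        obtain ⟨q, hq⟩ := ha
        have hqx : q * x ∈ Q := by
          rw [hq]
          exact Ideal.sub_mem _ (Ideal.mul_mem_left _ _ hfQ) hp
        have hqQ : q ∈ Q := (hQp.mem_or_mem hqx).resolve_right hxQ
        have h2 : p = a * f + x • (-q) := by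
          rw [smul_eq_mul]
          linear_combination hq
        rw [h2]
        exact Submodule.add_mem_sup
          (Ideal.mul_mem_left _ _ (Ideal.mem_span_singleton_self f))
          (Submodule.smul_mem_smul hxm (Q.neg_mem hqQ))
    have hQeq : Q = Ideal.span {f} :=
      le_antisymm hle ((Ideal.span_singleton_le_iff_mem Q).2 hfQ)
    have hf0 : f ≠ 0 := by
      intro h
      apply hQ
      rw [hQeq, h]
      exact Ideal.span_singleton_eq_bot.2 rfl
    refine ⟨f, hfQ, ?_⟩
    rw [← Ideal.span_singleton_prime hf0, ← hQeq]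
    exact hQp

end Groth.Agent.Lib.Helper19.RLRDimTwo
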