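import Mathlib

/-!
# Weighted Gauss valuations on `A[X]` and integral closedness of valuative Rees algebras (helper19)
-/

set_option autoImplicit false

open Polynomial

namespace Groth.Agent.Lib.Helper19ReesVal

/-- an additive valuation-like function with values in `ℤ ∪ {∞}` -/
structure QVal (A : Type*) [CommRing A] where
  u : A → WithTop ℤ
  map_zero : u 0 = ⊤
  map_one : u 1 = 0
  map_mul : ∀ x y, u (x * y) = u x + u y
  map_add : ∀ x y, min (u x) (u y) ≤ u (x + y)
  map_add_of_lt : ∀ x y, u x < u y → u (x + y) = u x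
  ne_top : ∀ x, x ≠ 0 → u x ≠ ⊤

section Core

variable {A : Type*} [CommRing A] (U : QVal A) (p : ℕ)

theorem QVal.le_sum {ι : Type*} (s : Finset ι) (f : ι → A) (m : WithTop ℤ)
    (h : ∀ i ∈ s, m ≤ U.u (f i)) : m ≤ U.u (∑ i ∈ s, f i) := by
  classical
  induction s using Finset.induction_on with
  | empty => simp [U.map_zero]
  | insert a s ha ih =>
    rw [Finset.sum_insert ha]
    refine le_trans (le_min (h a (Finset.mem_insert_self _ _))
      (ih fun i hi => h i (Finset.mem_insert_of_mem hi))) (U.map_add _ _)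

theorem QVal.lt_sum {ι : Type*} (s : Finset ι) (f : ι → A) (m : ℤ)
    (h : ∀ i ∈ s, (m : WithTop ℤ) < U.u (f i)) : (m : WithTop ℤ) < U.u (∑ i ∈ s, f i) := by
  classical
  induction s using Finset.induction_on with
  | empty =>
    simp only [Finset.sum_empty, U.map_zero]
    exact WithTop.coe_lt_top m
  | insert a s ha ih =>
    rw [Finset.sum_insert ha]
    refine lt_of_lt_of_le (lt_min (h a (Finset.mem_insert_self _ _))
      (ih fun i hi => h i (Finset.mem_insert_of_mem hi))) (U.map_add _ _)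

/-- `W(w) ≥ c` for the weighted Gauss valuation `W(Σ w_k X^k) = min (u(w_k) - k p)` -/
def Ge (w : A[X]) (c : ℤ) : Prop :=
  ∀ k : ℕ, ((c + k * p : ℤ) : WithTop ℤ) ≤ U.u (w.coeff k)

/-- `W(w) = c`, attained first at index `k₀` -/
def Exact (w : A[X]) (c : ℤ) (k₀ : ℕ) : Prop :=
  Ge U p w c ∧ U.u (w.coeff k₀) = ((c + k₀ * p : ℤ) : WithTop ℤ) ∧
    ∀ k < k₀, ((c + k * p : ℤ) : WithTop ℤ) < U.u (w.coeff k)

variable {U p}

theorem Ge.mono {w : A[X]} {c c' : ℤ} (h : Ge U p w c) (hc : c' ≤ c) : Ge U p w c' := by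
  intro k
  refine le_trans ?_ (h k)
  exact_mod_cast (by omega : c' + k * p ≤ c + k * p)

theorem ge_zero (c : ℤ) : Ge U p (0 : A[X]) c := by
  intro k
  rw [coeff_zero, U.map_zero]
  exact le_top

theorem Ge.mul {w w' : A[X]} {c c' : ℤ} (h : Ge U p w c) (h' : Ge U p w' c') :
    Ge U p (w * w') (c + c') := by
  intro k
  rw [coeff_mul]
  apply U.le_sum
  rintro ⟨a, b⟩ hab
  rw [Finset.HasAntidiagonal.mem_antidiagonal] at hab
  simp only at hab ⊢
  rw [U.map_mul]
  have h1 := add_le_add (h a) (h' b)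
  refine le_trans ?_ h1
  rw [← WithTop.coe_add]
  have : c + c' + (k : ℤ) * p = c + a * p + (c' + b * p) := by
    rw [← hab]
    push_cast
    ring
  rw [this]

theorem Ge.sum {ι : Type*} (s : Finset ι) (f : ι → A[X]) (c : ℤ) (h : ∀ i ∈ s, Ge U p (f i) c) :
    Ge U p (∑ i ∈ s, f i) c := by
  intro k
  rw [finsetSum_coeff]
  exact U.le_sum _ _ _ fun i hi => h i hi k

theorem exact_one : Exact U p (1 : A[X]) 0 0 := by
  refine ⟨?_, ?_, ?_⟩
  · intro k
    rw [coeff_one]
    split_ifs with hk
    · subst hk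
      rw [U.map_one]
      simp
    · rw [U.map_zero]
      exact le_top
  · rw [coeff_one_zero, U.map_one]
    simp
  · intro k hk
    omega

theorem Exact.mul {w w' : A[X]} {c c' : ℤ} {k k' : ℕ} (h : Exact U p w c k)
    (h' : Exact U p w' c' k') : Exact U p (w * w') (c + c') (k + k') := by
  classical
  obtain ⟨hG, hE, hL⟩ := h
  obtain ⟨hG', hE', hL'⟩ := h'
  refine ⟨hG.mul hG', ?_, ?_⟩
  · rw [coeff_mul]
    have hmem : ((k, k') : ℕ × ℕ) ∈ Finset.HasAntidiagonal.antidiagonal (k + k') := by
      rw [Finset.HasAntidiagonal.mem_antidiagonal]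
    rw [← Finset.add_sum_erase _ _ hmem]
    have hmain : U.u (w.coeff k * w'.coeff k') = ((c + c' + (k + k' : ℕ) * p : ℤ) : WithTop ℤ) := by
      rw [U.map_mul, hE, hE', ← WithTop.coe_add]
      congr 1
      push_cast
      ring
    have hrest : ((c + c' + (k + k' : ℕ) * p : ℤ) : WithTop ℤ) <
        U.u (∑ x ∈ (Finset.HasAntidiagonal.antidiagonal (k + k')).erase (k, k'), w.coeff x.1 * w'.coeff x.2) := by
      apply U.lt_sum
      rintro ⟨a, b⟩ hab
      rw [Finset.mem_erase, Finset.HasAntidiagonal.mem_antidiagonal] at hab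
      obtain ⟨hne, hab⟩ := hab
      simp only at hab ⊢
      rw [U.map_mul]
      have hcase : a < k ∨ b < k' := by
        by_contra hcon
        rw [not_or] at hcon
        apply hne
        have : a = k := by omega
        have : b = k' := by omega
        simp [*]
      have hsum : c + c' + ((k + k' : ℕ) : ℤ) * p = c + a * p + (c' + b * p) := by
        rw [← hab]
        push_cast
        ring
      rw [hsum, WithTop.coe_add]
      rcases hcase with ha | hb
      · exact WithTop.add_lt_add_of_lt_of_le WithTop.coe_ne_top (hL a ha) (hG' b)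
      · exact WithTop.add_lt_add_of_le_of_lt WithTop.coe_ne_top (hG a) (hL' b hb)
    rw [U.map_add_of_lt _ _ (by rw [hmain]; exact hrest), hmain]
  · intro m hm
    rw [coeff_mul]
    apply U.lt_sum
    rintro ⟨a, b⟩ hab
    rw [Finset.HasAntidiagonal.mem_antidiagonal] at hab
    simp only at hab ⊢
    rw [U.map_mul]
    have hcase : a < k ∨ b < k' := by omega
    have hsum : c + c' + (m : ℤ) * p = c + a * p + (c' + b * p) := by
      rw [← hab]
      push_cast
      ring
    rw [hsum, WithTop.coe_add]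
    rcases hcase with ha | hb
    · exact WithTop.add_lt_add_of_lt_of_le WithTop.coe_ne_top (hL a ha) (hG' b)
    · exact WithTop.add_lt_add_of_le_of_lt WithTop.coe_ne_top (hG a) (hL' b hb)

theorem Exact.pow {w : A[X]} {c : ℤ} {k : ℕ} (h : Exact U p w c k) (n : ℕ) :
    Exact U p (w ^ n) (n * c) (n * k) := by
  induction n with
  | zero =>
    simp only [pow_zero, Nat.cast_zero, zero_mul]
    exact exact_one
  | succ n ih =>
    rw [pow_succ]
    have := ih.mul h
    have h1 : (n : ℤ) * c + c = ((n + 1 : ℕ) : ℤ) * c := by push_cast; ring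
    have h2 : n * k + k = (n + 1) * k := by ring
    rw [h1, h2] at this
    exact this

theorem Ge.pow {w : A[X]} {c : ℤ} (h : Ge U p w c) (n : ℕ) : Ge U p (w ^ n) (n * c) := by
  induction n with
  | zero =>
    simp only [pow_zero, Nat.cast_zero, zero_mul]
    exact exact_one.1
  | succ n ih =>
    rw [pow_succ]
    have := ih.mul h
    have h1 : (n : ℤ) * c + c = ((n + 1 : ℕ) : ℤ) * c := by push_cast; ring
    rw [h1] at this
    exact this

theorem Exact.add_ge {w w' : A[X]} {c c' : ℤ} {k : ℕ} (h : Exact U p w c k) (h' : Ge U p w' c')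
    (hc : c < c') : Exact U p (w + w') c k := by
  obtain ⟨hG, hE, hL⟩ := h
  have hlt : ∀ m : ℕ, ((c + m * p : ℤ) : WithTop ℤ) < U.u (w'.coeff m) := by
    intro m
    refine lt_of_lt_of_le ?_ (h' m)
    exact_mod_cast (by omega : c + m * p < c' + m * p)
  refine ⟨?_, ?_, ?_⟩
  · intro m
    rw [coeff_add]
    exact le_trans (le_min (hG m) (hlt m).le) (U.map_add _ _)
  · rw [coeff_add, U.map_add_of_lt _ _ (by rw [hE]; exact hlt k), hE]
  · intro m hm
    rw [coeff_add]
    exact lt_of_lt_of_le (lt_min (hL m hm) (hlt m)) (U.map_add _ _)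

theorem Exact.ne_zero {w : A[X]} {c : ℤ} {k : ℕ} (h : Exact U p w c k) : w ≠ 0 := by
  rintro rfl
  have := h.2.1
  rw [coeff_zero, U.map_zero] at this
  exact WithTop.coe_ne_top this.symm

/-- existence of an exact weight for a polynomial with a bad coefficient -/
theorem exists_exact (w : A[X]) (k₁ : ℕ)
    (hbad : U.u (w.coeff k₁) < (((k₁ * p : ℕ) : ℤ) : WithTop ℤ)) :
    ∃ (c : ℤ) (k₀ : ℕ), c < 0 ∧ Exact U p w c k₀ := by
  classical
  have hk₁ : k₁ ∈ w.support := by
    rw [mem_support_iff]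
    intro h0
    rw [h0, U.map_zero] at hbad
    exact not_top_lt hbad
  have hfin : ∀ k ∈ w.support, U.u (w.coeff k) ≠ ⊤ := fun k hk =>
    U.ne_top _ (mem_support_iff.mp hk)
  let g : ℕ → ℤ := fun k => (U.u (w.coeff k)).untopD 0 - k * p
  have hg : ∀ k ∈ w.support, U.u (w.coeff k) = ((g k + k * p : ℤ) : WithTop ℤ) := by
    intro k hk
    obtain ⟨n, hn⟩ := WithTop.ne_top_iff_exists.mp (hfin k hk)
    simp only [g]
    rw [← hn]
    simp
  obtain ⟨k₂, hk₂, hmin⟩ := Finset.exists_min_image w.support g ⟨k₁, hk₁⟩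
  set c := g k₂ with hc
  let T := w.support.filter fun k => g k = c
  have hTne : T.Nonempty := ⟨k₂, Finset.mem_filter.mpr ⟨hk₂, hc.symm⟩⟩
  set k₀ := T.min' hTne with hk₀
  have hk₀T : k₀ ∈ T := Finset.min'_mem T hTne
  have hk₀s : k₀ ∈ w.support := (Finset.mem_filter.mp hk₀T).1
  have hk₀g : g k₀ = c := (Finset.mem_filter.mp hk₀T).2
  refine ⟨c, k₀, ?_, ?_, ?_, ?_⟩
  · have h1 : g k₁ < 0 := by
      have := hg k₁ hk₁
      rw [this] at hbad
      have h2 : g k₁ + k₁ * p < ((k₁ * p : ℕ) : ℤ) := by exact_mod_cast hbad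
      push_cast at h2
      omega
    exact lt_of_le_of_lt (hmin k₁ hk₁) h1
  · intro k
    by_cases hk : k ∈ w.support
    · rw [hg k hk]
      exact_mod_cast (by have := hmin k hk; omega : c + k * p ≤ g k + k * p)
    · rw [notMem_support_iff.mp hk, U.map_zero]
      exact le_top
  · rw [hg k₀ hk₀s, hk₀g]
  · intro k hk
    by_cases hks : k ∈ w.support
    · rw [hg k hks]
      have h1 : c ≤ g k := hmin k hks
      have h2 : g k ≠ c := by
        intro h3
        have : k ∈ T := by simp [T, hks, h3]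
        have := Finset.min'_le T k this
        omega
      exact_mod_cast (by omega : c + k * p < g k + k * p)
    · rw [notMem_support_iff.mp hks, U.map_zero]
      exact WithTop.coe_lt_top _

/-- main contradiction: an integral-type equation forces `W(w) ≥ 0` -/
theorem ge_zero_of_equation (w : A[X]) (n : ℕ) (s : ℕ → A[X])
    (hs : ∀ j, Ge U p (s j) 0)
    (heq : w ^ n + ∑ j ∈ Finset.range n, s j * w ^ j = 0) (k₁ : ℕ) :
    (((k₁ * p : ℕ) : ℤ) : WithTop ℤ) ≤ U.u (w.coeff k₁) := by
  by_contra hcon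
  rw [not_le] at hcon
  obtain ⟨c, k₀, hc, hE⟩ := exists_exact w k₁ hcon
  have h1 := hE.pow n
  have h2 : Ge U p (∑ j ∈ Finset.range n, s j * w ^ j) ((n : ℤ) * c - c) := by
    apply Ge.sum
    intro j hj
    rw [Finset.mem_range] at hj
    have h3 := (hs j).mul (hE.1.pow j)
    refine h3.mono ?_
    have h4 : (j : ℤ) + 1 ≤ n := by exact_mod_cast hj
    nlinarith
  have h5 := h1.add_ge h2 (by omega)
  exact h5.ne_zero heq

end Core

end Groth.Agent.Lib.Helper19ReesVal

namespace Groth.Agent.Lib.Helper19ReesVal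

section Build

theorem qmul_add (q : ℕ) (a b : WithTop ℤ) (hq : 0 < q) :
    (q : WithTop ℤ) * (a + b) = (q : WithTop ℤ) * a + (q : WithTop ℤ) * b := by
  have hq0 : (q : WithTop ℤ) ≠ 0 := by exact_mod_cast hq.ne'
  induction a with
  | top => rw [WithTop.top_add, WithTop.mul_top hq0, WithTop.top_add]
  | coe a =>
    induction b with
    | top => rw [WithTop.add_top, WithTop.mul_top hq0, WithTop.add_top]
    | coe b =>
      have h1 : (q : WithTop ℤ) = ((q : ℤ) : WithTop ℤ) := by norm_cast
      rw [h1, ← WithTop.coe_add, ← WithTop.coe_mul, ← WithTop.coe_mul, ← WithTop.coe_mul,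
        ← WithTop.coe_add, mul_add]

theorem qmul_mono (q : ℕ) (a b : WithTop ℤ) (hq : 0 < q) (hab : a ≤ b) :
    (q : WithTop ℤ) * a ≤ (q : WithTop ℤ) * b := by
  have hq0 : (q : WithTop ℤ) ≠ 0 := by exact_mod_cast hq.ne'
  induction b with
  | top => rw [WithTop.mul_top hq0]; exact le_top
  | coe b =>
    induction a with
    | top => exact absurd hab (by simp)
    | coe a =>
      have h1 : (q : WithTop ℤ) = ((q : ℤ) : WithTop ℤ) := by norm_cast
      rw [h1, ← WithTop.coe_mul, ← WithTop.coe_mul, WithTop.coe_le_coe]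
      have : a ≤ b := WithTop.coe_le_coe.mp hab
      exact mul_le_mul_of_nonneg_left this (by positivity)

theorem qmul_lt_imp (q : ℕ) (a b : WithTop ℤ) (hq : 0 < q)
    (h : (q : WithTop ℤ) * a < (q : WithTop ℤ) * b) : a < b := by
  by_contra hcon
  rw [not_lt] at hcon
  exact absurd (qmul_mono q b a hq hcon) (not_le.mpr h)

/-- the `QVal` attached to `q · v` -/
noncomputable def mkQVal {A K : Type*} [CommRing A] [Field K] [Algebra A K]
    (hinj : Function.Injective (algebraMap A K)) (v : AddValuation K (WithTop ℤ)) (q : ℕ)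
    (hq : 0 < q) : QVal A where
  u x := (q : WithTop ℤ) * v (algebraMap A K x)
  map_zero := by
    have hq0 : (q : WithTop ℤ) ≠ 0 := by exact_mod_cast hq.ne'
    rw [map_zero, AddValuation.map_zero, WithTop.mul_top hq0]
  map_one := by rw [map_one, AddValuation.map_one, mul_zero]
  map_mul x y := by rw [map_mul, AddValuation.map_mul, qmul_add q _ _ hq]
  map_add x y := by
    rw [map_add]
    have h := v.map_add (algebraMap A K x) (algebraMap A K y)
    rcases min_le_iff.mp h with h1 | h1
    · exact le_trans (min_le_left _ _) (qmul_mono q _ _ hq h1)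
    · exact le_trans (min_le_right _ _) (qmul_mono q _ _ hq h1)
  map_add_of_lt x y h := by
    rw [map_add, v.map_add_eq_of_lt_left (qmul_lt_imp q _ _ hq h)]
  ne_top x hx := by
    have h1 : algebraMap A K x ≠ 0 := by
      rwa [Ne, map_eq_zero_iff _ hinj]
    have h2 : v (algebraMap A K x) ≠ ⊤ := by
      rwa [Ne, AddValuation.top_iff]
    obtain ⟨n, hn⟩ := WithTop.ne_top_iff_exists.mp h2
    rw [← hn]
    have h3 : (q : WithTop ℤ) = ((q : ℤ) : WithTop ℤ) := by norm_cast
    rw [h3, ← WithTop.coe_mul]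
    exact WithTop.coe_ne_top

end Build

section Closed

variable {A : Type*} [CommRing A]

theorem mem_of_isIntegral (S : Subalgebra A A[X]) {ι : Type*} (U : ι → QVal A) (p : ι → ℕ)
    (hS : ∀ w : A[X], w ∈ S ↔
      ∀ i k, (((k * p i : ℕ) : ℤ) : WithTop ℤ) ≤ (U i).u (w.coeff k))
    (w : A[X]) (hw : IsIntegral S w) : w ∈ S := by
  obtain ⟨P, hmonic, hP⟩ := hw
  rw [hS]
  intro i k
  apply ge_zero_of_equation (U := U i) (p := p i) w P.natDegree (fun j => (P.coeff j : A[X]))
  · intro j m
    have := (hS (P.coeff j : A[X])).mp (P.coeff j).2 i m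
    refine le_trans ?_ this
    exact_mod_cast (by push_cast; omega : (0 : ℤ) + m * p i ≤ ((m * p i : ℕ) : ℤ))
  · rw [eval₂_eq_sum_range, Finset.sum_range_succ] at hP
    have h1 : P.coeff P.natDegree = 1 := hmonic
    rw [h1, map_one, one_mul, add_comm] at hP
    exact hP

theorem isIntegrallyClosed_of_mem [IsDomain A] [IsIntegrallyClosed A] (S : Subalgebra A A[X])
    (h : ∀ w : A[X], IsIntegral S w → w ∈ S) : IsIntegrallyClosed S := by
  rw [isIntegrallyClosed_iff (FractionRing S)]
  intro x hx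
  have hinj : Function.Injective (algebraMap S (FractionRing A[X])) := by
    rw [IsScalarTower.algebraMap_eq S A[X] (FractionRing A[X])]
    exact (IsFractionRing.injective A[X] (FractionRing A[X])).comp Subtype.val_injective
  let φ : FractionRing S →ₐ[S] FractionRing A[X] := IsFractionRing.liftAlgHom (g := Algebra.ofId S _) hinj
  have hφinj : Function.Injective φ := φ.toRingHom.injective
  have h1 : IsIntegral S (φ x) := hx.map φ
  have h2 : IsIntegral A[X] (φ x) := h1.tower_top
  obtain ⟨w, hw⟩ := IsIntegrallyClosed.isIntegral_iff.mp h2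
  have h3 : IsIntegral S w := by
    rw [← isIntegral_algHom_iff (IsScalarTower.toAlgHom S A[X] (FractionRing A[X]))
      (IsFractionRing.injective A[X] (FractionRing A[X]))]
    show IsIntegral S (algebraMap A[X] (FractionRing A[X]) w)
    rw [hw]
    exact h1
  refine ⟨⟨w, h w h3⟩, ?_⟩
  apply hφinj
  rw [AlgHom.commutes, ← hw]
  rfl

end Closed

end Groth.Agent.Lib.Helper19ReesVal
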