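import Mathlib
import Groth.Prelude.Def_FrobAlg

/-!
# The relative Frobenius of an adic completion (F-finite Noetherian case)

For a Noetherian ring `A` of characteristic `p` whose Frobenius is finite, and any ideal `I`, the
relative Frobenius `Â ⊗_{A,F} A → Â` of the `I`-adic completion is bijective: the source is the
`I`-adic completion of the finite `A`-module `F_* A`, and the `I`-adic filtration of `F_* A` (the
ideals `(I^n)^{[p]}`) is cofinal with the `I`-adic filtration of `A`.
-/

set_option autoImplicit false
universe u

open TensorProduct FrobAlg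

namespace Groth.Agent.Lib.Helper19.RelFrobCompl

variable (p : ℕ) [Fact p.Prime] (A : Type u) [CommRing A] [CharP A p] (I : Ideal A)

theorem smul_twist (r : A) (m : Twist p A) : r • m = toTwist p A (r ^ p) * m := by
  rw [Algebra.smul_def, algebraMap_twist]

/-- elements of `I^n • F_*A` lie in `I^n`. -/
theorem symm_mem_pow {n : ℕ} {x : Twist p A}
    (hx : x ∈ (I ^ n • ⊤ : Submodule A (Twist p A))) : (toTwist p A).symm x ∈ I ^ n := by
  refine Submodule.smul_induction_on hx ?_ ?_
  · intro r hr m _
    rw [smul_twist, map_mul, RingEquiv.symm_apply_apply]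
    exact Ideal.mul_mem_right _ _ (Ideal.pow_mem_of_mem _ hr p (Fact.out : p.Prime).pos)
  · intro x y hx hy
    rw [map_add]
    exact Ideal.add_mem _ hx hy

/-- the additive map `F_*A / I^n F_*A → A / I^n`. -/
noncomputable def π (n : ℕ) : (Twist p A ⧸ (I ^ n • ⊤ : Submodule A (Twist p A))) →+ A ⧸ I ^ n :=
  (((I ^ n • ⊤ : Submodule A (Twist p A)).restrictScalars ℤ).liftQ
      (((Ideal.Quotient.mk (I ^ n)).toAddMonoidHom.comp
        ((toTwist p A).symm : Twist p A →+* A).toAddMonoidHom).toIntLinearMap)
      (by
        intro x hx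
        rw [LinearMap.mem_ker]
        change Ideal.Quotient.mk (I ^ n) ((toTwist p A).symm x) = 0
        rw [Ideal.Quotient.eq_zero_iff_mem]
        exact symm_mem_pow p A I hx)).toAddMonoidHom.comp
    (Submodule.Quotient.restrictScalarsEquiv ℤ
      (I ^ n • ⊤ : Submodule A (Twist p A))).symm.toLinearMap.toAddMonoidHom

theorem π_mk (n : ℕ) (x : Twist p A) :
    π p A I n (Submodule.Quotient.mk x) = Ideal.Quotient.mk (I ^ n) ((toTwist p A).symm x) := by
  rfl

/-- `I^m • F_*A` is stable under multiplication. -/
theorem mul_mem_smul_top {m : ℕ} (s : Twist p A) {x : Twist p A}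
    (hx : x ∈ (I ^ m • ⊤ : Submodule A (Twist p A))) :
    s * x ∈ (I ^ m • ⊤ : Submodule A (Twist p A)) := by
  refine Submodule.smul_induction_on hx ?_ ?_
  · intro r hr t _
    have : s * (r • t) = r • (s * t) := by
      rw [smul_twist, smul_twist]; ring
    rw [this]
    exact Submodule.smul_mem_smul hr Submodule.mem_top
  · intro x y hx hy
    rw [mul_add]
    exact Submodule.add_mem _ hx hy

theorem exists_pow_le [IsNoetherianRing A] (m : ℕ) :
    ∃ N : ℕ, m ≤ N ∧ ∀ x : Twist p A, (toTwist p A).symm x ∈ I ^ N →
      x ∈ (I ^ m • ⊤ : Submodule A (Twist p A)) := by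
  set J : Ideal A := Ideal.span ((fun r => r ^ p) '' ((I ^ m : Ideal A) : Set A)) with hJ
  have hJle : ∀ a ∈ J, toTwist p A a ∈ (I ^ m • ⊤ : Submodule A (Twist p A)) := by
    intro a ha
    refine Submodule.span_induction ?_ ?_ ?_ ?_ ha
    · rintro _ ⟨r, hr, rfl⟩
      have : toTwist p A (r ^ p) = r • (1 : Twist p A) := by rw [smul_twist, mul_one]
      rw [this]
      exact Submodule.smul_mem_smul hr Submodule.mem_top
    · rw [map_zero]; exact Submodule.zero_mem _
    · intro x y _ _ hx hy
      rw [map_add]; exact Submodule.add_mem _ hx hy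
    · intro s x _ hx
      rw [smul_eq_mul, map_mul]
      exact mul_mem_smul_top p A I _ hx
  have hrad : I ^ m ≤ J.radical := by
    intro r hr
    exact ⟨p, Ideal.subset_span ⟨r, hr, rfl⟩⟩
  obtain ⟨k, hk⟩ := Ideal.exists_pow_le_of_le_radical_of_fg hrad (IsNoetherian.noetherian _)
  refine ⟨max m (m * k), le_max_left _ _, fun x hx => ?_⟩
  have h1 : (toTwist p A).symm x ∈ J := by
    apply hk
    rw [← pow_mul]
    exact Ideal.pow_le_pow_right (le_max_right _ _) hx
  have := hJle _ h1
  rwa [RingEquiv.apply_symm_apply] at this

section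

variable [CharP (AdicCompletion I A) p]

theorem relFrob_tmul (b : AdicCompletion I A) (a : Twist p A) :
    relFrob p A (AdicCompletion I A) (b ⊗ₜ a) =
      b ^ p * algebraMap A (AdicCompletion I A) ((toTwist p A).symm a) := by
  simp [relFrob, frobHom, inclHom, Algebra.TensorProduct.lift_tmul]
  rfl

theorem π_eval_ofTensorProduct (n : ℕ) (z : AdicCompletion I A ⊗[A] Twist p A) :
    π p A I n (AdicCompletion.eval I (Twist p A) n (AdicCompletion.ofTensorProduct I (Twist p A) z)) =
      AdicCompletion.evalₐ I n (relFrob p A (AdicCompletion I A) z) := by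
  induction z using TensorProduct.induction_on with
  | zero => simp
  | add x y hx hy => simp only [map_add, hx, hy]
  | tmul b a =>
    rw [relFrob_tmul, AdicCompletion.ofTensorProduct_tmul]
    induction b using AdicCompletion.induction_on with
    | h c =>
      rw [map_mul, map_pow, AdicCompletion.evalₐ_mk, AlgHom.commutes]
      change π p A I n ((AdicCompletion.mk I A c • AdicCompletion.of I (Twist p A) a).val n) = _
      rw [AdicCompletion.smul_eval]
      change π p A I n (Submodule.Quotient.mk (c.val n • a)) = _
      rw [π_mk, smul_twist, map_mul, RingEquiv.symm_apply_apply, map_mul, map_pow]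
      rfl

theorem finite_twist (hF : (frobenius A p).Finite) : Module.Finite A (Twist p A) := hF

theorem relFrob_injective [IsNoetherianRing A] (hF : (frobenius A p).Finite) :
    Function.Injective (relFrob p A (AdicCompletion I A)) := by
  have := finite_twist p A hF
  rw [injective_iff_map_eq_zero]
  intro z hz
  apply (AdicCompletion.ofTensorProduct_bijective_of_finite_of_isNoetherian I (Twist p A)).injective
  rw [map_zero]
  apply AdicCompletion.ext
  intro m
  obtain ⟨N, hmN, hN⟩ := exists_pow_le p A I m
  have h1 := π_eval_ofTensorProduct p A I N z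
  rw [hz, map_zero] at h1
  set w := AdicCompletion.ofTensorProduct I (Twist p A) z with hw
  obtain ⟨x, hx⟩ := Submodule.Quotient.mk_surjective _ (AdicCompletion.eval I (Twist p A) N w)
  rw [← hx, π_mk, Ideal.Quotient.eq_zero_iff_mem] at h1
  have h2 := hN x h1
  have h3 : w.val m = AdicCompletion.transitionMap I (Twist p A) hmN (w.val N) :=
    (AdicCompletion.transitionMap_comp_eval_apply I (Twist p A) hmN w).symm
  rw [h3]
  change AdicCompletion.transitionMap I (Twist p A) hmN (AdicCompletion.eval I (Twist p A) N w) = _
  rw [← hx]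
  change Submodule.Quotient.mk x = _
  rw [AdicCompletion.val_zero_apply, Submodule.Quotient.mk_eq_zero]
  exact h2

omit [Fact p.Prime] [CharP A p] [CharP (AdicCompletion I A) p] in
theorem cauchy_sub_mem (c : AdicCompletion.AdicCauchySequence I A) {a b : ℕ} (hab : a ≤ b) :
    c.val b - c.val a ∈ I ^ a := by
  have h := c.property hab
  rw [SModEq.sub_mem] at h
  have h2 : c.val a - c.val b ∈ I ^ a := by
    simpa using h
  have h3 := Ideal.neg_mem_iff (I ^ a) |>.mpr h2
  rwa [neg_sub] at h3

theorem relFrob_surjective [IsNoetherianRing A] (hF : (frobenius A p).Finite) :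
    Function.Surjective (relFrob p A (AdicCompletion I A)) := by
  have := finite_twist p A hF
  intro y
  induction y using AdicCompletion.induction_on with
  | h c =>
    choose N hmN hN using exists_pow_le p A I
    have hc : ∀ m m' : ℕ, m ≤ m' →
        toTwist p A (c.val (N m)) ≡ toTwist p A (c.val (N m'))
          [SMOD (I ^ m • ⊤ : Submodule A (Twist p A))] := by
      intro m m' hmm'
      rw [SModEq.sub_mem]
      rcases le_total (N m) (N m') with h | h
      · apply hN m
        rw [map_sub, RingEquiv.symm_apply_apply, RingEquiv.symm_apply_apply]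
        have h5 := cauchy_sub_mem A I c h
        have h6 := Ideal.neg_mem_iff (I ^ N m) |>.mpr h5
        rwa [neg_sub] at h6
      · have h1 : toTwist p A (c.val (N m)) - toTwist p A (c.val (N m')) ∈
            (I ^ m' • ⊤ : Submodule A (Twist p A)) := by
          apply hN m'
          rw [map_sub, RingEquiv.symm_apply_apply, RingEquiv.symm_apply_apply]
          exact cauchy_sub_mem A I c h
        exact Submodule.smul_mono_left (Ideal.pow_le_pow_right hmm') h1
    let c' : AdicCompletion.AdicCauchySequence I (Twist p A) :=
      ⟨fun m => toTwist p A (c.val (N m)), fun {m n} hmn => hc m n hmn⟩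
    obtain ⟨z, hz⟩ := (AdicCompletion.ofTensorProduct_bijective_of_finite_of_isNoetherian I
      (Twist p A)).surjective (AdicCompletion.mk I (Twist p A) c')
    refine ⟨z, ?_⟩
    apply AdicCompletion.ext_evalₐ
    intro m
    rw [← π_eval_ofTensorProduct, hz, AdicCompletion.evalₐ_mk]
    change π p A I m (Submodule.Quotient.mk (toTwist p A (c.val (N m)))) = _
    rw [π_mk, RingEquiv.symm_apply_apply, Ideal.Quotient.eq]
    exact cauchy_sub_mem A I c (hmN m)

theorem relFrob_bijective [IsNoetherianRing A] (hF : (frobenius A p).Finite) :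
    Function.Bijective (relFrob p A (AdicCompletion I A)) :=
  ⟨relFrob_injective p A I hF, relFrob_surjective p A I hF⟩

end

end Groth.Agent.Lib.Helper19.RelFrobCompl
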