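import Mathlib
import Groth.Agent.Lib.Helper19RelNoetherA
import Groth.Agent.Lib.Helper5IntDim

/-!
# One elimination step of Nagata's normalization, with free exponent base (helper19)
-/

set_option autoImplicit false

open MvPolynomial

namespace Groth.Agent.Lib.Helper19RelNoether

section Step

variable {F : Type*} [Field F] {A : Type*} [CommRing A] [Algebra F A] {n : ℕ}

/-- the shifted family `Z_{j+1} - Z_0 ^ (D ^ (j+1))` -/
def shift {A : Type*} [CommRing A] {n : ℕ} (D : ℕ) (Z : Fin (n + 1) → A) : Fin n → A :=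
  fun j => Z j.succ - (Z 0) ^ (D ^ (j.1 + 1))

theorem step (D : ℕ) (Z : Fin (n + 1) → A)
    (hint : (aeval Z : MvPolynomial (Fin (n + 1)) F →ₐ[F] A).toRingHom.IsIntegral)
    (P : MvPolynomial (Fin (n + 1)) F) (hP0 : P ≠ 0) (hP : aeval Z P = 0)
    (hD : P.totalDegree + 2 ≤ D) :
    (aeval (shift D Z) : MvPolynomial (Fin n) F →ₐ[F] A).toRingHom.IsIntegral := by
  set Z' := shift D Z with hZ'
  let ψ : Polynomial (MvPolynomial (Fin n) F) →ₐ[F] A :=
    Polynomial.aevalTower (aeval Z') (Z 0)
  have hψ : (ψ.comp ((finSuccEquiv F n).toAlgHom.comp (T1 D (1 : F)))) = aeval Z := by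
    apply MvPolynomial.algHom_ext
    intro i
    rw [AlgHom.comp_apply, AlgHom.comp_apply, aeval_X, aeval_X]
    refine Fin.cases ?_ (fun j => ?_) i
    · rw [if_pos rfl]
      change ψ (finSuccEquiv F n (X 0)) = Z 0
      rw [finSuccEquiv_X_zero]
      exact Polynomial.aevalTower_X _ _
    · rw [if_neg (Fin.succ_ne_zero j), one_smul]
      change ψ (finSuccEquiv F n (X j.succ + X 0 ^ D ^ j.succ.1)) = Z j.succ
      rw [map_add, map_pow, finSuccEquiv_X_zero, finSuccEquiv_X_succ, map_add, map_pow]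
      change Polynomial.aevalTower (aeval Z') (Z 0) (Polynomial.C (X j)) +
        Polynomial.aevalTower (aeval Z') (Z 0) Polynomial.X ^ D ^ j.succ.1 = Z j.succ
      rw [Polynomial.aevalTower_X, Polynomial.aevalTower_C, aeval_X, hZ', Fin.val_succ]
      unfold shift
      ring
  set q := finSuccEquiv F n (T D P) with hq
  have hu : IsUnit q.leadingCoeff := T_leadingcoeff_isUnit D P hD hP0
  have hψq : ψ q = 0 := by
    have := congrArg (fun g => g P) hψ
    simp only [AlgHom.comp_apply] at this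
    rw [hP] at this
    exact this
  have hmon := Polynomial.monic_of_isUnit_leadingCoeff_inv_smul hu
  have hmem : (hu.unit⁻¹ : (MvPolynomial (Fin n) F)ˣ) • q ∈ RingHom.ker ψ.toRingHom := by
    rw [RingHom.mem_ker, Units.smul_def, Polynomial.smul_eq_C_mul, map_mul]
    change _ * ψ q = 0
    rw [hψq, mul_zero]
  have hψint : ψ.toRingHom.IsIntegral := by
    apply RingHom.IsIntegral.tower_top
      ((finSuccEquiv F n).toAlgHom.comp (T1 D (1 : F))).toRingHom ψ.toRingHom
    have : ψ.toRingHom.comp ((finSuccEquiv F n).toAlgHom.comp (T1 D (1 : F))).toRingHom =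
        (aeval Z : MvPolynomial (Fin (n + 1)) F →ₐ[F] A).toRingHom := by
      rw [← hψ]; rfl
    rw [this]
    exact hint
  have hkl := hψint.kerLift
  have hmk := Polynomial.Monic.quotient_isIntegral hmon hmem
  have hcomp : (aeval Z' : MvPolynomial (Fin n) F →ₐ[F] A).toRingHom =
      (RingHom.kerLift ψ.toRingHom).comp
        ((Ideal.Quotient.mkₐ (MvPolynomial (Fin n) F) (RingHom.ker ψ.toRingHom)).comp
          (Algebra.ofId (MvPolynomial (Fin n) F) (Polynomial (MvPolynomial (Fin n) F)))).toRingHom := by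
    ext t
    · change aeval Z' (C t) = ψ (Polynomial.C (C t))
      exact (Polynomial.aevalTower_C _ _ _).symm
    · change aeval Z' (X t) = ψ (Polynomial.C (X t))
      exact (Polynomial.aevalTower_C _ _ _).symm
  rw [hcomp]
  exact RingHom.IsIntegral.trans _ _ hmk hkl

theorem int_comp {m : ℕ} (Z : Fin n → A) (σ : Fin m → Fin n) (hσ : Function.Surjective σ)
    (hint : (aeval Z : MvPolynomial (Fin n) F →ₐ[F] A).toRingHom.IsIntegral) :
    (aeval (Z ∘ σ) : MvPolynomial (Fin m) F →ₐ[F] A).toRingHom.IsIntegral := by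
  have hcomp : (aeval (Z ∘ σ) : MvPolynomial (Fin m) F →ₐ[F] A).toRingHom =
      (aeval Z : MvPolynomial (Fin n) F →ₐ[F] A).toRingHom.comp
        (rename σ : MvPolynomial (Fin m) F →ₐ[F] MvPolynomial (Fin n) F).toRingHom := by
    ext t
    · change aeval (Z ∘ σ) (C t) = aeval Z (rename σ (C t))
      rw [aeval_rename]
    · change aeval (Z ∘ σ) (X t) = aeval Z (rename σ (X t))
      rw [aeval_rename]
  rw [hcomp]
  exact RingHom.IsIntegral.trans _ _
    (RingHom.isIntegral_of_surjective _ (rename_surjective σ hσ)) hint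

theorem exists_ker (Z : Fin n → A)
    (hint : (aeval Z : MvPolynomial (Fin n) F →ₐ[F] A).toRingHom.IsIntegral)
    (d : ℕ) (hdim : ringKrullDim A ≤ d) (hn : d < n) :
    ∃ P : MvPolynomial (Fin n) F, P ≠ 0 ∧ aeval Z P = 0 := by
  by_contra hcon
  push Not at hcon
  have hinj : Function.Injective (aeval Z : MvPolynomial (Fin n) F →ₐ[F] A) := by
    rw [injective_iff_map_eq_zero]
    intro P hP
    by_contra h0
    exact hcon P h0 hP
  letI : Algebra (MvPolynomial (Fin n) F) A :=
    (aeval Z : MvPolynomial (Fin n) F →ₐ[F] A).toRingHom.toAlgebra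
  haveI : Algebra.IsIntegral (MvPolynomial (Fin n) F) A := ⟨hint⟩
  have h1 := Groth.Agent.Lib.Helper5.ringKrullDim_eq_of_isIntegral_of_injective
    (MvPolynomial (Fin n) F) A hinj
  rw [MvPolynomial.ringKrullDim_of_isNoetherianRing, ringKrullDim_eq_zero_of_field,
    Nat.card_eq_fintype_card, Fintype.card_fin, zero_add] at h1
  rw [h1] at hdim
  have : (n : WithBot ℕ∞) ≤ (d : WithBot ℕ∞) := hdim
  have h2 : n ≤ d := by exact_mod_cast this
  omega

end Step

end Groth.Agent.Lib.Helper19RelNoether
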