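import Mathlib
import Groth.Agent.Lib.Helper19RelNoetherB

/-!
# Simultaneous Noether normalization for two fibres, with perturbations by `N`-th powers (helper19)
-/

set_option autoImplicit false

open MvPolynomial

namespace Groth.Agent.Lib.Helper19RelNoether

section Main

variable {R : Type*} [CommRing R] (N : ℕ) {d : ℕ} (x : Fin d → R)
variable {F₁ : Type*} [Field F₁] {A₁ : Type*} [CommRing A₁] [Algebra F₁ A₁] (ι₁ : R →+* A₁)
variable {F₂ : Type*} [Field F₂] {A₂ : Type*} [CommRing A₂] [Algebra F₂ A₂] (ι₂ : R →+* A₂)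

/-- the subring generated by the `N`-th powers -/
abbrev SN (R : Type*) [CommRing R] (N : ℕ) : Subring R :=
  Subring.closure (Set.range fun r : R => r ^ N)

theorem pow_mem_SN (r : R) (t : ℕ) : r ^ (N * t) ∈ SN R N := by
  rw [mul_comm, pow_mul]; exact Subring.subset_closure ⟨r ^ t, rfl⟩

theorem surj_case {n : ℕ} (Z : Fin n → R) (e : Fin d → Fin n) (hsurj : Function.Surjective e)
    (hZ : ∀ i, Z (e i) - x i ∈ SN R N)
    (hint₁ : (aeval (ι₁ ∘ Z) : MvPolynomial (Fin n) F₁ →ₐ[F₁] A₁).toRingHom.IsIntegral)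
    (hint₂ : (aeval (ι₂ ∘ Z) : MvPolynomial (Fin n) F₂ →ₐ[F₂] A₂).toRingHom.IsIntegral) :
    ∃ y : Fin d → R, (∀ i, y i ∈ SN R N) ∧
      (aeval (fun i => ι₁ (x i + y i)) : MvPolynomial (Fin d) F₁ →ₐ[F₁] A₁).toRingHom.IsIntegral ∧
      (aeval (fun i => ι₂ (x i + y i)) : MvPolynomial (Fin d) F₂ →ₐ[F₂] A₂).toRingHom.IsIntegral := by
  refine ⟨fun i => Z (e i) - x i, hZ, ?_, ?_⟩
  · have := int_comp (F := F₁) (ι₁ ∘ Z) e hsurj hint₁
    have e1 : (fun i => ι₁ (x i + (Z (e i) - x i))) = (ι₁ ∘ Z) ∘ e := by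
      funext i; simp
    rw [e1]; exact this
  · have := int_comp (F := F₂) (ι₂ ∘ Z) e hsurj hint₂
    have e1 : (fun i => ι₂ (x i + (Z (e i) - x i))) = (ι₂ ∘ Z) ∘ e := by
      funext i; simp
    rw [e1]; exact this

theorem shift_comp {A : Type*} [CommRing A] (ι : R →+* A) {n : ℕ} (D : ℕ) (Z : Fin (n + 1) → R) :
    shift D (ι ∘ Z) = ι ∘ shift D Z := by
  funext j
  simp only [shift, Function.comp_apply, map_sub, map_pow]

theorem main_induction (hN : 1 ≤ N) (h₁ : ringKrullDim A₁ ≤ d) (h₂ : ringKrullDim A₂ ≤ d) :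
    ∀ (n : ℕ) (Z : Fin n → R) (e : Fin d → Fin n), Function.Injective e →
      (∀ i, Z (e i) - x i ∈ SN R N) →
      (aeval (ι₁ ∘ Z) : MvPolynomial (Fin n) F₁ →ₐ[F₁] A₁).toRingHom.IsIntegral →
      (aeval (ι₂ ∘ Z) : MvPolynomial (Fin n) F₂ →ₐ[F₂] A₂).toRingHom.IsIntegral →
      ∃ y : Fin d → R, (∀ i, y i ∈ SN R N) ∧
        (aeval (fun i => ι₁ (x i + y i)) :
          MvPolynomial (Fin d) F₁ →ₐ[F₁] A₁).toRingHom.IsIntegral ∧
        (aeval (fun i => ι₂ (x i + y i)) :
          MvPolynomial (Fin d) F₂ →ₐ[F₂] A₂).toRingHom.IsIntegral := by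
  intro n
  induction n with
  | zero =>
    intro Z e _ hZ hint₁ hint₂
    exact surj_case N x ι₁ ι₂ Z e (fun j => j.elim0) hZ hint₁ hint₂
  | succ n IH =>
    intro Z e he hZ hint₁ hint₂
    by_cases hsurj : Function.Surjective e
    · exact surj_case N x ι₁ ι₂ Z e hsurj hZ hint₁ hint₂
    · have hdn : d < n + 1 := by
        have := Fintype.card_lt_of_injective_not_surjective e he hsurj
        simpa using this
      unfold Function.Surjective at hsurj
      push Not at hsurj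
      obtain ⟨j0, hj0⟩ := hsurj
      set σ : Equiv.Perm (Fin (n + 1)) := Equiv.swap 0 j0 with hσ
      have hint₁' := int_comp (F := F₁) (ι₁ ∘ Z) σ σ.surjective hint₁
      have hint₂' := int_comp (F := F₂) (ι₂ ∘ Z) σ σ.surjective hint₂
      obtain ⟨P₁, hP₁0, hP₁⟩ := exists_ker ((ι₁ ∘ Z) ∘ σ) hint₁' d h₁ hdn
      obtain ⟨P₂, hP₂0, hP₂⟩ := exists_ker ((ι₂ ∘ Z) ∘ σ) hint₂' d h₂ hdn
      set c : ℕ := P₁.totalDegree + P₂.totalDegree + 2 with hc
      set D : ℕ := N * c with hDdef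
      have hcD : c ≤ D := Nat.le_mul_of_pos_left c hN
      have s₁ := step D ((ι₁ ∘ Z) ∘ σ) hint₁' P₁ hP₁0 hP₁ (by omega)
      have s₂ := step D ((ι₂ ∘ Z) ∘ σ) hint₂' P₂ hP₂0 hP₂ (by omega)
      rw [Function.comp_assoc, shift_comp] at s₁ s₂
      have hne : ∀ i, σ (e i) ≠ 0 := by
        intro i h0
        have : e i = j0 := by
          have h1 : σ (σ (e i)) = σ 0 := congrArg σ h0
          rw [hσ, Equiv.swap_apply_self, Equiv.swap_apply_left] at h1
          exact h1
        exact hj0 i this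
      let e₂ : Fin d → Fin n := fun i => (σ (e i)).pred (hne i)
      have he₂ : Function.Injective e₂ := by
        intro i j hij
        have h1 : σ (e i) = σ (e j) := Fin.pred_inj.mp hij
        exact he (σ.injective h1)
      have hZ₂ : ∀ i, shift D (Z ∘ σ) (e₂ i) - x i ∈ SN R N := by
        intro i
        have h1 : (e₂ i).succ = σ (e i) := Fin.succ_pred _ _
        have h2 : shift D (Z ∘ σ) (e₂ i) - x i =
            (Z (e i) - x i) - (Z (σ 0)) ^ (D ^ ((e₂ i).1 + 1)) := by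
          unfold shift
          rw [Function.comp_apply, Function.comp_apply, h1, hσ, Equiv.swap_apply_self]
          ring
        rw [h2]
        refine Subring.sub_mem _ (hZ i) ?_
        have h3 : D ^ ((e₂ i).1 + 1) = N * (c * D ^ (e₂ i).1) := by
          rw [pow_succ, hDdef]; ring
        rw [h3]
        exact pow_mem_SN N _ _
      exact IH (shift D (Z ∘ σ)) e₂ he₂ hZ₂ s₁ s₂

end Main

end Groth.Agent.Lib.Helper19RelNoether
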