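import Mathlib

/-!
# Surjections from restricted power series rings

If `I` is a f.g. ideal of `A`, `B` an `A`-algebra which is `IB`-adically complete with `B/IB` of
finite type over `A/I`, then some `I`-adic completion of a polynomial ring surjects onto `B`.
-/

namespace Groth.Agent.Lib.Helper19

open Ideal

universe u v

theorem factorPow_evalₐ {R : Type*} [CommRing R] (J : Ideal R) {m n : ℕ} (hle : m ≤ n)
    (x : AdicCompletion J R) :
    Ideal.Quotient.factorPow J hle (AdicCompletion.evalₐ J n x) = AdicCompletion.evalₐ J m x := by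
  obtain ⟨c, rfl⟩ := AdicCompletion.mk_surjective J R x
  rw [AdicCompletion.evalₐ_mk, AdicCompletion.evalₐ_mk]
  simp only [Ideal.Quotient.factorPow, Ideal.Quotient.factor_mk]
  exact AdicCompletion.Ideal.mk_eq_mk J hle c

/-- Core statement: if `b : Fin r → B` generates `B` modulo `IB` as an `A`-algebra, and `B` is
`IB`-adically complete with `I` finitely generated, then the induced map from the `I`-adic
completion of `A[T_1..T_r]` to `B` is surjective. -/
theorem exists_surjective_of_aeval
    (A : Type u) [CommRing A] (I : Ideal A) (hI : I.FG)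
    (B : Type v) [CommRing B] [Algebra A B] [IsAdicComplete (I.map (algebraMap A B)) B]
    (r : ℕ) (b : Fin r → B)
    (hsurj : Function.Surjective ((Ideal.Quotient.mk (I.map (algebraMap A B))).comp
      (MvPolynomial.aeval b : MvPolynomial (Fin r) A →ₐ[A] B).toRingHom)) :
    ∃ (φ : AdicCompletion (I.map (MvPolynomial.C : A →+* MvPolynomial (Fin r) A))
        (MvPolynomial (Fin r) A) →ₐ[A] B), Function.Surjective φ := by
  classical
  set IB : Ideal B := I.map (algebraMap A B) with hIB
  set P := MvPolynomial (Fin r) A with hP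
  set J : Ideal P := I.map (MvPolynomial.C : A →+* P) with hJ
  let ψ : P →ₐ[A] B := MvPolynomial.aeval b
  -- ψ maps J into IB
  have hJmap : J.map ψ.toRingHom = IB := by
    rw [hJ, Ideal.map_map]
    congr 1
    ext a
    exact MvPolynomial.aeval_C b a
  have hJle : ∀ n : ℕ, J ^ n ≤ (IB ^ n).comap ψ.toRingHom := by
    intro n
    rw [← Ideal.map_le_iff_le_comap, Ideal.map_pow, hJmap]
  -- the compatible family
  let g : ∀ n : ℕ, AdicCompletion J P →+* B ⧸ IB ^ n := fun n =>
    (Ideal.quotientMap (IB ^ n) ψ.toRingHom (hJle n)).comp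
      (AdicCompletion.evalₐ J n : AdicCompletion J P →+* P ⧸ J ^ n)
  have hg : ∀ {m n : ℕ} (hle : m ≤ n), (Ideal.Quotient.factorPow IB hle).comp (g n) = g m := by
    intro m n hle
    ext x
    simp only [g, RingHom.comp_apply]
    have e1 : AdicCompletion.evalₐ J m x =
        Ideal.Quotient.factorPow J hle (AdicCompletion.evalₐ J n x) :=
      (factorPow_evalₐ J hle x).symm
    obtain ⟨p, hp⟩ := Ideal.Quotient.mk_surjective (AdicCompletion.evalₐ J n x)
    simp only [RingHom.coe_coe]
    rw [e1, ← hp]
    simp [Ideal.Quotient.factorPow]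
  let Φ₀ : AdicCompletion J P →+* B := IsAdicComplete.liftRingHom IB g hg
  have hΦ₀ : ∀ (n : ℕ) (x : AdicCompletion J P), Ideal.Quotient.mk (IB ^ n) (Φ₀ x) = g n x :=
    fun n x => IsAdicComplete.mk_liftRingHom IB g hg n x
  -- Φ₀ ∘ of = ψ
  have hΦof : ∀ p : P, Φ₀ (AdicCompletion.of J P p) = ψ p := by
    intro p
    have hH : IsHausdorff IB B := inferInstance
    rw [← sub_eq_zero]
    apply hH.haus
    intro n
    rw [SModEq.zero, smul_eq_mul, Ideal.mul_top, ← Ideal.Quotient.eq_zero_iff_mem, map_sub,
      hΦ₀, sub_eq_zero]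
    simp [g]
  let Φ : AdicCompletion J P →ₐ[A] B :=
    { Φ₀ with
      commutes' := fun a => by
        change Φ₀ (algebraMap A (AdicCompletion J P) a) = algebraMap A B a
        rw [AdicCompletion.algebraMap_apply, hΦof]
        exact ψ.commutes a }
  refine ⟨Φ, ?_⟩
  change Function.Surjective Φ₀
  -- completeness of the source
  have hJfg : J.FG := hI.map _
  haveI : IsAdicComplete J (AdicCompletion J P) := AdicCompletion.isAdicComplete hJfg
  set J' : Ideal (AdicCompletion J P) := J.map (algebraMap P (AdicCompletion J P)) with hJ'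
  haveI : IsPrecomplete J' (AdicCompletion J P) :=
    (IsPrecomplete.map_algebraMap_iff (I := J) (S := AdicCompletion J P)
      (M := AdicCompletion J P)).mpr inferInstance
  have hJ'map : J'.map Φ₀ = IB := by
    rw [hJ', Ideal.map_map, ← hJmap]
    congr 1
    exact RingHom.ext fun p => hΦof p
  haveI : IsHausdorff (J'.map Φ₀) B := by rw [hJ'map]; infer_instance
  apply surjective_of_mk_map_comp_surjective (I := J') Φ₀
  rw [hJ'map]
  intro y
  obtain ⟨p, hp⟩ := hsurj y
  refine ⟨AdicCompletion.of J P p, ?_⟩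
  rw [RingHom.comp_apply, hΦof]
  exact hp

theorem exists_surjective_restricted
    (A : Type u) [CommRing A] (I : Ideal A) (hI : I.FG)
    (B : Type v) [CommRing B] [Algebra A B] [IsAdicComplete (I.map (algebraMap A B)) B]
    (hft : (Ideal.quotientMap (I.map (algebraMap A B)) (algebraMap A B)
      Ideal.le_comap_map).FiniteType) :
    ∃ (r : ℕ) (φ : AdicCompletion (I.map (MvPolynomial.C : A →+* MvPolynomial (Fin r) A))
        (MvPolynomial (Fin r) A) →ₐ[A] B), Function.Surjective φ := by
  classical
  set IB : Ideal B := I.map (algebraMap A B) with hIB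
  letI alg : Algebra (A ⧸ I) (B ⧸ IB) :=
    (Ideal.quotientMap IB (algebraMap A B) Ideal.le_comap_map).toAlgebra
  have hft' : Algebra.FiniteType (A ⧸ I) (B ⧸ IB) := hft
  obtain ⟨r, f, hf⟩ := Algebra.FiniteType.iff_quotient_mvPolynomial''.mp hft'
  have hb : ∀ i : Fin r, ∃ b : B, Ideal.Quotient.mk IB b = f (MvPolynomial.X i) :=
    fun i => Ideal.Quotient.mk_surjective _
  choose b hb using hb
  refine ⟨r, exists_surjective_of_aeval A I hI B r b ?_⟩
  set P := MvPolynomial (Fin r) A with hP
  let ψ : P →ₐ[A] B := MvPolynomial.aeval b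
  intro y
  obtain ⟨q, rfl⟩ := hf y
  obtain ⟨q', rfl⟩ := MvPolynomial.map_surjective (Ideal.Quotient.mk I)
    Ideal.Quotient.mk_surjective q
  refine ⟨q', ?_⟩
  have : (Ideal.Quotient.mk IB).comp ψ.toRingHom =
      (f : MvPolynomial (Fin r) (A ⧸ I) →+* B ⧸ IB).comp
        (MvPolynomial.map (Ideal.Quotient.mk I)) := by
    apply MvPolynomial.ringHom_ext
    · intro a
      simp only [RingHom.comp_apply, MvPolynomial.map_C]
      have h1 : ψ.toRingHom (MvPolynomial.C a) = algebraMap A B a := MvPolynomial.aeval_C b a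
      rw [h1]
      have h2 : (f : MvPolynomial (Fin r) (A ⧸ I) →+* B ⧸ IB)
          (MvPolynomial.C (Ideal.Quotient.mk I a)) =
          algebraMap (A ⧸ I) (B ⧸ IB) (Ideal.Quotient.mk I a) := by
        rw [← MvPolynomial.algebraMap_eq]
        exact f.commutes _
      rw [h2]
      rfl
    · intro i
      simp only [RingHom.comp_apply, MvPolynomial.map_X]
      have h1 : ψ.toRingHom (MvPolynomial.X i) = b i := MvPolynomial.aeval_X b i
      rw [h1, hb]
      rfl
  exact congrArg (fun g => g q') this

/-- Variant with `B ⧸ IB` of finite type over `A`. -/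
theorem exists_surjective_restricted'
    (A : Type u) [CommRing A] (I : Ideal A) (hI : I.FG)
    (B : Type v) [CommRing B] [Algebra A B] [IsAdicComplete (I.map (algebraMap A B)) B]
    (hB : Algebra.FiniteType A (B ⧸ I.map (algebraMap A B))) :
    ∃ (r : ℕ) (φ : AdicCompletion (I.map (MvPolynomial.C : A →+* MvPolynomial (Fin r) A))
        (MvPolynomial (Fin r) A) →ₐ[A] B), Function.Surjective φ := by
  classical
  set IB : Ideal B := I.map (algebraMap A B) with hIB
  obtain ⟨r, f, hf⟩ := Algebra.FiniteType.iff_quotient_mvPolynomial''.mp hB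
  have hb : ∀ i : Fin r, ∃ b : B, Ideal.Quotient.mk IB b = f (MvPolynomial.X i) :=
    fun i => Ideal.Quotient.mk_surjective _
  choose b hb using hb
  refine ⟨r, exists_surjective_of_aeval A I hI B r b ?_⟩
  let ψ : MvPolynomial (Fin r) A →ₐ[A] B := MvPolynomial.aeval b
  have : (Ideal.Quotient.mkₐ A IB).comp ψ = f := by
    apply MvPolynomial.algHom_ext
    intro i
    simp only [AlgHom.comp_apply, Ideal.Quotient.mkₐ_eq_mk]
    rw [← hb]
    congr 1
    exact MvPolynomial.aeval_X b i
  intro y
  obtain ⟨q, rfl⟩ := hf y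
  exact ⟨q, congrArg (fun g => g q) this⟩

end Groth.Agent.Lib.Helper19
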