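import Groth.Agent.Lib.Helper19TorsRetrA
import Groth.Agent.Lib.Helper19CotTIndep

/-!
# Retractions of the cotangent complex up to a fixed power, in polynomial terms
-/

set_option autoImplicit false
set_option linter.unusedSectionVars false
universe u v w

open MvPolynomial

namespace Groth.Agent.Lib.Helper19.RetrPoly

open Groth.Agent.Lib.Helper19.CotTIndep

section General

variable {B : Type u} [CommRing B] (τ : B) (n : ℕ) {N W : Type v} [AddCommGroup N] [Module B N]
  [AddCommGroup W] [Module B W] (d : N →ₗ[B] W)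

/-- `d` has a retraction up to `τ ^ n` -/
def HasRetrN : Prop := ∃ l : W →ₗ[B] N, l ∘ₗ d = τ ^ n • LinearMap.id

lemma hasRetrN_iff_forall_smul_eq_zero [Module.Finite B N] :
    HasRetrN τ n d ↔ ∀ (M : Type v) [AddCommGroup M] [Module B M] [Module.Finite B M],
      ∀ x : (N →ₗ[B] M) ⧸ LinearMap.range (LinearMap.lcomp B M d), τ ^ n • x = 0 := by
  constructor
  · rintro ⟨l, hl⟩
    intro M _ _ _ x
    obtain ⟨φ, rfl⟩ := Submodule.Quotient.mk_surjective _ x
    rw [← Submodule.Quotient.mk_smul, Submodule.Quotient.mk_eq_zero]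
    refine ⟨φ ∘ₗ l, ?_⟩
    rw [LinearMap.lcomp_apply', LinearMap.comp_assoc, hl, LinearMap.comp_smul, LinearMap.comp_id]
  · intro h
    have h1 := h N (Submodule.Quotient.mk LinearMap.id)
    rw [← Submodule.Quotient.mk_smul, Submodule.Quotient.mk_eq_zero] at h1
    obtain ⟨l, hl⟩ := h1
    exact ⟨l, hl⟩

end General

section Indep

variable {R S : Type u} [CommRing R] [CommRing S] [Algebra R S]
  {P₁ P₂ : Algebra.Extension.{u} R S}

/-- independence of the extension -/
theorem hasRetrN_of_homs (f : P₁.Hom P₂) (g : P₂.Hom P₁) [Module.Finite S P₁.Cotangent]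
    [Module.Finite S P₂.Cotangent] (τ : S) (n : ℕ)
    (h : HasRetrN τ n P₁.cotangentComplex) : HasRetrN τ n P₂.cotangentComplex := by
  rw [hasRetrN_iff_forall_smul_eq_zero] at h ⊢
  intro M _ _ _ x
  have h1 := h M ((C1equiv (M := M) f g).symm x)
  rw [← map_smul] at h1
  exact (C1equiv (M := M) f g).symm.injective (by rw [h1, map_zero])

end Indep

section Poly

variable {R S : Type u} [CommRing R] [CommRing S] [Algebra R S] {ι : Type w} [Fintype ι]

/-- polynomial form of a retraction of the cotangent complex up to the class of `c` -/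
def HasRetrPoly (P : Algebra.Generators R S ι) (c : MvPolynomial ι R) : Prop :=
  ∃ q : ι → MvPolynomial ι R, (∀ i, q i ∈ P.ker) ∧
    ∀ r : MvPolynomial ι R, r ∈ P.ker → (∑ i, pderiv i r * q i) - c * r ∈ P.ker ^ 2

variable (P : Algebra.Generators R S ι)

/-- identity cast -/
def ofMv (x : MvPolynomial ι R) : P.toExtension.Ring := x

/-- identity cast -/
def toMv (x : P.toExtension.Ring) : MvPolynomial ι R := x

lemma algebraMap_ofMv (x : MvPolynomial ι R) :
    algebraMap P.toExtension.Ring S (ofMv P x) = aeval P.val x :=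
  Algebra.Generators.algebraMap_apply P x

lemma cotangentComplex_mk_eq_sum (r : P.toExtension.ker) :
    P.toExtension.cotangentComplex (Algebra.Extension.Cotangent.mk r) =
      ∑ i, (ofMv P (pderiv i (toMv P r.1))) • P.cotangentSpaceBasis i := by
  rw [Algebra.Extension.cotangentComplex_mk]
  conv_lhs => rw [← P.cotangentSpaceBasis.sum_repr
    (1 ⊗ₜ KaehlerDifferential.D R P.toExtension.Ring (r : P.toExtension.Ring))]
  apply Finset.sum_congr rfl
  intro i _
  have h1 := P.cotangentSpaceBasis_repr_one_tmul (toMv P r.1) i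
  rw [← algebraMap_smul S (ofMv P (pderiv i (toMv P r.1)))]
  congr 1
  exact h1.trans (Algebra.Generators.algebraMap_apply P _).symm

lemma apply_cotangentComplex_mk (l : P.toExtension.CotangentSpace →ₗ[S] P.toExtension.Cotangent)
    (q : ι → MvPolynomial ι R) (hq : ∀ i, q i ∈ P.ker)
    (hl : ∀ i, l (P.cotangentSpaceBasis i) =
      Algebra.Extension.Cotangent.mk (P := P.toExtension) ⟨q i, hq i⟩) (r : P.toExtension.ker) :
    l (P.toExtension.cotangentComplex (Algebra.Extension.Cotangent.mk r)) =
      Algebra.Extension.Cotangent.mk (P := P.toExtension)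
        ⟨ofMv P (∑ i, pderiv i (toMv P r.1) * q i),
          Ideal.sum_mem _ fun i _ => Ideal.mul_mem_left _ _ (hq i)⟩ := by
  rw [cotangentComplex_mk_eq_sum, map_sum]
  have h1 : ∀ i, l ((ofMv P (pderiv i (toMv P r.1))) • P.cotangentSpaceBasis i) =
      Algebra.Extension.Cotangent.mk (P := P.toExtension)
        ⟨ofMv P (pderiv i (toMv P r.1) * q i), Ideal.mul_mem_left _ _ (hq i)⟩ := by
    intro i
    rw [← algebraMap_smul S (ofMv P (pderiv i (toMv P r.1))), map_smul, hl,
      algebraMap_smul, ← map_smul]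
    rfl
  simp_rw [h1]
  rw [← map_sum]
  congr 1
  apply Subtype.ext
  rw [Submodule.coe_sum]
  rfl

theorem hasRetrN_iff_hasRetrPoly (τ : S) (n : ℕ) (c : MvPolynomial ι R)
    (hc : algebraMap P.toExtension.Ring S (ofMv P c) = τ ^ n) :
    HasRetrN τ n P.toExtension.cotangentComplex ↔ HasRetrPoly P c := by
  have hsm : ∀ r : P.toExtension.ker, τ ^ n • Algebra.Extension.Cotangent.mk (P := P.toExtension) r =
      Algebra.Extension.Cotangent.mk (P := P.toExtension)
        ⟨ofMv P (c * toMv P r.1), Ideal.mul_mem_left _ _ r.2⟩ := by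
    intro r
    rw [← hc, algebraMap_smul, ← map_smul]
    rfl
  constructor
  · rintro ⟨l, hl⟩
    choose q' hq' using fun i =>
      Algebra.Extension.Cotangent.mk_surjective (P := P.toExtension) (l (P.cotangentSpaceBasis i))
    refine ⟨fun i => toMv P (q' i).1, fun i => (q' i).2, fun r hr => ?_⟩
    have h1 := apply_cotangentComplex_mk P l (fun i => toMv P (q' i).1)
      (fun i => (q' i).2) (fun i => (hq' i).symm) ⟨r, hr⟩
    have h2 : l (P.toExtension.cotangentComplex
        (Algebra.Extension.Cotangent.mk (P := P.toExtension) ⟨r, hr⟩)) =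
        τ ^ n • Algebra.Extension.Cotangent.mk (P := P.toExtension) ⟨r, hr⟩ := LinearMap.congr_fun hl _
    rw [h2, hsm, Algebra.Extension.Cotangent.mk_eq_mk_iff_sub_mem] at h1
    have h3 := (Ideal.neg_mem_iff _).2 h1
    rw [neg_sub] at h3
    exact h3
  · rintro ⟨q, hq, hqr⟩
    let l : P.toExtension.CotangentSpace →ₗ[S] P.toExtension.Cotangent :=
      P.cotangentSpaceBasis.constr S
        (fun i => Algebra.Extension.Cotangent.mk (P := P.toExtension) ⟨q i, hq i⟩)
    have hl : ∀ i, l (P.cotangentSpaceBasis i) =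
        Algebra.Extension.Cotangent.mk (P := P.toExtension) ⟨q i, hq i⟩ :=
      fun i => P.cotangentSpaceBasis.constr_basis S _ i
    refine ⟨l, ?_⟩
    apply LinearMap.ext
    intro x
    obtain ⟨r, rfl⟩ := Algebra.Extension.Cotangent.mk_surjective x
    rw [LinearMap.comp_apply, apply_cotangentComplex_mk P l q hq hl r, LinearMap.smul_apply,
      LinearMap.id_apply, hsm, Algebra.Extension.Cotangent.mk_eq_mk_iff_sub_mem]
    exact hqr r.1 r.2

end Poly

end Groth.Agent.Lib.Helper19.RetrPoly
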