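import Mathlib
import Groth.Prelude.Def_CAlgX

/-!
# Adic formal smoothness descends along a linear retraction (helper19)
-/

set_option autoImplicit false
universe u

namespace Groth.Agent.Lib.Helper19

open TensorProduct

section

variable {R R' : Type u} [CommRing R] [CommRing R'] [Algebra R R']
  (ρ : R' →ₗ[R] R) (A : Type u) [CommRing A] [Algebra R A]

/-- The retraction `R' ⊗ A → A` induced by a linear retraction `R' → R`. -/
noncomputable def retr : R' ⊗[R] A →ₗ[R] A :=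
  (TensorProduct.lid R A).toLinearMap ∘ₗ (ρ.rTensor A)

theorem retr_tmul (r' : R') (a : A) : retr ρ A (r' ⊗ₜ a) = ρ r' • a := by
  simp [retr]

theorem retr_one_tmul_mul (a : A) (z : R' ⊗[R] A) :
    retr ρ A ((1 ⊗ₜ a) * z) = a * retr ρ A z := by
  induction z using TensorProduct.induction_on with
  | zero => simp
  | tmul r' b =>
    rw [Algebra.TensorProduct.tmul_mul_tmul, one_mul, retr_tmul, retr_tmul, mul_smul_comm]
  | add x y hx hy => rw [mul_add, map_add, hx, hy, map_add, mul_add]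

theorem retr_mem_of_mem_map (J : Ideal A) (z : R' ⊗[R] A)
    (hz : z ∈ J.map (Algebra.TensorProduct.includeRight : A →ₐ[R] R' ⊗[R] A)) :
    retr ρ A z ∈ J := by
  let K : Ideal (R' ⊗[R] A) :=
    { carrier := {z | ∀ w : R' ⊗[R] A, retr ρ A (w * z) ∈ J}
      add_mem' := fun {x y} hx hy w => by
        rw [mul_add, map_add]; exact J.add_mem (hx w) (hy w)
      zero_mem' := fun w => by simp
      smul_mem' := fun c x hx w => by
        rw [smul_eq_mul, ← mul_assoc]; exact hx (w * c) }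
  have hle : J.map (Algebra.TensorProduct.includeRight : A →ₐ[R] R' ⊗[R] A) ≤ K := by
    rw [Ideal.map_le_iff_le_comap]
    intro j hj w
    change retr ρ A (w * (1 ⊗ₜ j)) ∈ J
    rw [mul_comm, retr_one_tmul_mul]
    exact J.mul_mem_right _ hj
  have := hle hz 1
  rwa [one_mul] at this

end

theorem isAdicFormallySmooth_of_retraction {R S R' : Type u} [CommRing R] [CommRing S]
    [Algebra R S] (𝔫 : Ideal S) [CommRing R'] [Algebra R R'] (ρ : R' →ₗ[R] R)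
    (hρ : ∀ r : R, ρ (algebraMap R R' r) = r)
    (h : CAlgX.IsAdicFormallySmooth R' (R' ⊗[R] S)
      (𝔫.map (Algebra.TensorProduct.includeRight : S →ₐ[R] R' ⊗[R] S))) :
    CAlgX.IsAdicFormallySmooth R S 𝔫 := by
  intro A _ _ J hJ ψ hψ
  obtain ⟨k, hk⟩ := hψ
  have hρ1 : ρ 1 = 1 := by simpa using hρ 1
  let incA : A →ₐ[R] R' ⊗[R] A := Algebra.TensorProduct.includeRight
  let J' : Ideal (R' ⊗[R] A) := J.map incA
  have hJ' : J' ^ 2 = ⊥ := by
    rw [← Ideal.map_pow, hJ, Ideal.map_bot]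
  have hJJ : ∀ a ∈ J, ∀ b ∈ J, a * b = 0 := by
    intro a ha b hb
    have : a * b ∈ J ^ 2 := by rw [pow_two]; exact Ideal.mul_mem_mul ha hb
    rwa [hJ, Ideal.mem_bot] at this
  have hJJ' : ∀ a ∈ J', ∀ b ∈ J', a * b = 0 := by
    intro a ha b hb
    have : a * b ∈ J' ^ 2 := by rw [pow_two]; exact Ideal.mul_mem_mul ha hb
    rwa [hJ', Ideal.mem_bot] at this
  let gbar : A ⧸ J →ₐ[R] (R' ⊗[R] A) ⧸ J' :=
    Ideal.Quotient.liftₐ J ((Ideal.Quotient.mkₐ R J').comp incA) (fun a ha => by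
      simp only [AlgHom.comp_apply, Ideal.Quotient.mkₐ_eq_mk]
      exact Ideal.Quotient.eq_zero_iff_mem.mpr (Ideal.mem_map_of_mem _ ha))
  have hgbar : ∀ a : A, gbar (Ideal.Quotient.mk J a) = Ideal.Quotient.mk J' (1 ⊗ₜ a) := by
    intro a
    rfl
  let g : S →ₐ[R] (R' ⊗[R] A) ⧸ J' := gbar.comp ψ
  let ψ' : R' ⊗[R] S →ₐ[R'] (R' ⊗[R] A) ⧸ J' :=
    Algebra.TensorProduct.lift (Algebra.ofId R' ((R' ⊗[R] A) ⧸ J')) g (fun _ _ => Commute.all _ _)
  have hψ' : ∀ s, ψ' (1 ⊗ₜ s) = g s := by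
    intro s
    simp [ψ']
  have hkill : ∃ k : ℕ, ∀ x ∈ (𝔫.map (Algebra.TensorProduct.includeRight :
      S →ₐ[R] R' ⊗[R] S)) ^ k, ψ' x = 0 := by
    refine ⟨k, fun x hx => ?_⟩
    rw [← Ideal.map_pow] at hx
    have hle : (𝔫 ^ k).map (Algebra.TensorProduct.includeRight : S →ₐ[R] R' ⊗[R] S) ≤
        RingHom.ker ψ'.toRingHom := by
      rw [Ideal.map_le_iff_le_comap]
      intro s hs
      rw [Ideal.mem_comap, RingHom.mem_ker]
      change ψ' (1 ⊗ₜ s) = 0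
      rw [hψ' s]
      change gbar (ψ s) = 0
      rw [hk s hs, map_zero]
    exact hle hx
  obtain ⟨χ', hχ'⟩ := h (R' ⊗[R] A) J' hJ' ψ' hkill
  have hχ'mk : ∀ x, Ideal.Quotient.mk J' (χ' x) = ψ' x := fun x => by
    have := congrArg (fun f => f x) hχ'
    simpa using this
  -- decomposition
  have hdec : ∀ s : S, ∀ a : A, Ideal.Quotient.mk J a = ψ s → χ' (1 ⊗ₜ s) - 1 ⊗ₜ a ∈ J' := by
    intro s a ha
    rw [← Ideal.Quotient.eq, hχ'mk, hψ' s]
    change gbar (ψ s) = _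
    rw [← ha, hgbar]
  let θ : S →ₗ[R] A := (retr ρ A) ∘ₗ χ'.toLinearMap.restrictScalars R ∘ₗ
    (Algebra.TensorProduct.includeRight : S →ₐ[R] R' ⊗[R] S).toLinearMap
  have hθ : ∀ s, θ s = retr ρ A (χ' (1 ⊗ₜ s)) := fun s => rfl
  have hθdec : ∀ s : S, ∀ a : A, Ideal.Quotient.mk J a = ψ s →
      ∃ j ∈ J', χ' (1 ⊗ₜ s) = 1 ⊗ₜ a + j ∧ θ s = a + retr ρ A j ∧ retr ρ A j ∈ J := by
    intro s a ha
    refine ⟨χ' (1 ⊗ₜ s) - 1 ⊗ₜ a, hdec s a ha, by ring, ?_, retr_mem_of_mem_map ρ A J _ (hdec s a ha)⟩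
    rw [hθ, map_sub, retr_tmul, hρ1, one_smul]
    ring
  have hθone : θ 1 = 1 := by
    rw [hθ]
    have : (1 : R' ⊗[R] S) = 1 ⊗ₜ 1 := rfl
    rw [← this, map_one]
    have : (1 : R' ⊗[R] A) = 1 ⊗ₜ 1 := rfl
    rw [this, retr_tmul, hρ1, one_smul]
  have hθmul : ∀ s t, θ (s * t) = θ s * θ t := by
    intro s t
    obtain ⟨a, ha⟩ := Ideal.Quotient.mk_surjective (ψ s)
    obtain ⟨b, hb⟩ := Ideal.Quotient.mk_surjective (ψ t)
    obtain ⟨j, hj, hs1, hs2, hs3⟩ := hθdec s a ha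
    obtain ⟨l, hl, ht1, ht2, ht3⟩ := hθdec t b hb
    rw [hs2, ht2, hθ]
    have e1 : (1 : R') ⊗ₜ[R] (s * t) = (1 ⊗ₜ s) * (1 ⊗ₜ t) := by
      rw [Algebra.TensorProduct.tmul_mul_tmul, one_mul]
    rw [e1, map_mul, hs1, ht1]
    have e2 : ((1 : R') ⊗ₜ[R] a + j) * (1 ⊗ₜ b + l) =
        (1 ⊗ₜ a) * (1 ⊗ₜ b) + (1 ⊗ₜ a) * l + (1 ⊗ₜ b) * j + j * l := by ring
    rw [e2, hJJ' j hj l hl, add_zero]
    simp only [map_add, retr_one_tmul_mul, retr_tmul, hρ1, one_smul]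
    have e3 := hJJ _ hs3 _ ht3
    linear_combination (-1 : A) * e3
  let χ : S →ₐ[R] A :=
    AlgHom.ofLinearMap θ hθone hθmul
  refine ⟨χ, ?_⟩
  ext s
  obtain ⟨a, ha⟩ := Ideal.Quotient.mk_surjective (ψ s)
  obtain ⟨j, hj, hs1, hs2, hs3⟩ := hθdec s a ha
  change Ideal.Quotient.mk J (θ s) = ψ s
  rw [hs2, map_add, Ideal.Quotient.eq_zero_iff_mem.mpr hs3, add_zero, ha]

end Groth.Agent.Lib.Helper19
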