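import Groth.Prelude.Def_RedSub
import Mathlib

/-! Exchange lemma for words in simple reflections of a root pairing (helper19). -/

set_option autoImplicit false
open RedSub

namespace Groth.Agent.Lib.Helper19RootExchange

variable {idx M N : Type} [AddCommGroup M] [AddCommGroup N]

theorem reflectionPerm_reflectionPerm (P : RootPairing idx ℤ M N) (j i : idx) :
    P.reflectionPerm (P.reflectionPerm j i) =
      P.reflectionPerm j * P.reflectionPerm i * P.reflectionPerm j := by
  ext k
  apply P.root.injective
  rw [RootPairing.root_reflectionPerm, RootPairing.reflection_reflectionPerm,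
    Equiv.Perm.mul_apply, Equiv.Perm.mul_apply, RootPairing.root_reflectionPerm,
    RootPairing.root_reflectionPerm, RootPairing.root_reflectionPerm]
  rfl

theorem wordPerm_nil (P : RootPairing idx ℤ M N) : wordPerm P [] = 1 := rfl

theorem wordPerm_cons (P : RootPairing idx ℤ M N) (a : idx) (l : List idx) :
    wordPerm P (a :: l) = P.reflectionPerm a * wordPerm P l := by
  simp [wordPerm]

theorem wordPerm_append (P : RootPairing idx ℤ M N) (l l' : List idx) :
    wordPerm P (l ++ l') = wordPerm P l * wordPerm P l' := by
  simp [wordPerm]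

theorem reflectionPerm_wordPerm (P : RootPairing idx ℤ M N) (l : List idx) (a : idx) :
    P.reflectionPerm (wordPerm P l a) = wordPerm P l * P.reflectionPerm a * (wordPerm P l)⁻¹ := by
  induction l with
  | nil => simp [wordPerm_nil]
  | cons x l ih =>
    rw [wordPerm_cons, Equiv.Perm.mul_apply, reflectionPerm_reflectionPerm, ih, mul_inv_rev,
      RootPairing.reflectionPerm_inv]
    simp only [mul_assoc]

variable [Finite idx] (P : RootPairing idx ℤ M N) [P.IsReduced] (b : P.Base)

theorem mem_posRoots_iff (c : idx) : c ∈ posRoots P b ↔ b.IsPos c := by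
  constructor
  · intro hc
    by_contra hneg
    have h1 : b.IsPos (P.reflectionPerm c c) := by
      have := (RootPairing.Base.IsPos.neg_iff_not b c).mpr hneg
      exact this
    -- `-root c` has positive height and lies in minus the closure
    obtain ⟨f, hf, hf'⟩ : ∃ f : idx → ℕ, f.support ⊆ b.support ∧
        P.root c = ∑ j ∈ b.support, f j • P.root j := by
      have : ∀ m ∈ AddSubmonoid.closure (P.root '' b.support),
          ∃ f : idx → ℕ, f.support ⊆ b.support ∧ m = ∑ j ∈ b.support, f j • P.root j := by
        classical
        intro m hm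
        refine AddSubmonoid.closure_induction ?_ ⟨0, by simp⟩ ?_ hm
        · rintro - ⟨j, hj, rfl⟩
          exact ⟨Pi.single j 1, by simpa using hj, by
            rw [Finset.sum_eq_single j]
            · simp
            · intro k _ hk
              simp [Pi.single_apply, hk]
            · intro hj'
              exact absurd hj hj'⟩
        · intro _ _ _ _ ⟨f, hf, hf'⟩ ⟨g, hg, hg'⟩
          refine ⟨f + g, ?_, by simp [hf', hg', add_smul, Finset.sum_add_distrib]⟩
          exact (Function.support_add f g).trans (Set.union_subset_iff.mpr ⟨hf, hg⟩)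
      exact this _ hc
    have hh : b.height c = ∑ j ∈ b.support, (f j : ℤ) := by
      have heq : P.root c = ∑ j ∈ b.support, ((fun j => (f j : ℤ)) j) • P.root j := by
        rw [hf']
        refine Finset.sum_congr rfl fun j _ => ?_
        simp
      exact b.height_eq_sum heq
    have hpos : 0 ≤ b.height c := by
      rw [hh]
      exact Finset.sum_nonneg fun j _ => Int.natCast_nonneg _
    exact hneg ((b.isPos_iff' ).mpr hpos)
  · intro hc
    rcases b.root_mem_or_neg_mem c with h | h
    · exact h
    · exfalso
      obtain ⟨f, hf, hf'⟩ : ∃ f : idx → ℕ, f.support ⊆ b.support ∧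
          -P.root c = ∑ j ∈ b.support, f j • P.root j := by
        have : ∀ m ∈ AddSubmonoid.closure (P.root '' b.support),
            ∃ f : idx → ℕ, f.support ⊆ b.support ∧ m = ∑ j ∈ b.support, f j • P.root j := by
          classical
          intro m hm
          refine AddSubmonoid.closure_induction ?_ ⟨0, by simp⟩ ?_ hm
          · rintro - ⟨j, hj, rfl⟩
            exact ⟨Pi.single j 1, by simpa using hj, by
              rw [Finset.sum_eq_single j]
              · simp
              · intro k _ hk
                simp [Pi.single_apply, hk]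
              · intro hj'
                exact absurd hj hj'⟩
          · intro _ _ _ _ ⟨f, hf, hf'⟩ ⟨g, hg, hg'⟩
            refine ⟨f + g, ?_, by simp [hf', hg', add_smul, Finset.sum_add_distrib]⟩
            exact (Function.support_add f g).trans (Set.union_subset_iff.mpr ⟨hf, hg⟩)
        exact this _ h
      have heq : P.root c = ∑ j ∈ b.support, ((fun j => -(f j : ℤ)) j) • P.root j := by
        rw [← neg_neg (P.root c), hf', ← Finset.sum_neg_distrib]
        refine Finset.sum_congr rfl fun j _ => ?_
        simp
      have hh := b.height_eq_sum heq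
      have hle : b.height c ≤ 0 := by
        rw [hh]
        exact Finset.sum_nonpos fun j _ => by simp
      rw [RootPairing.Base.isPos_iff] at hc
      omega

theorem mem_negRoots_iff (c : idx) : c ∈ negRoots P b ↔ ¬ b.IsPos c := by
  rw [← RootPairing.Base.IsPos.neg_iff_not, ← mem_posRoots_iff]
  change -P.root c ∈ AddSubmonoid.closure (P.root '' (b.support : Set idx)) ↔
    P.root (P.reflectionPerm c c) ∈ AddSubmonoid.closure (P.root '' (b.support : Set idx))
  rw [RootPairing.root_reflectionPerm, RootPairing.reflection_apply_self]

theorem exchange (l : List idx) (hl : ∀ a ∈ l, a ∈ b.support) (c : idx)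
    (hc : c ∈ posRoots P b) (hneg : (wordPerm P l).symm c ∈ negRoots P b) :
    ∃ i : ℕ, i < l.length ∧
      P.reflectionPerm c * wordPerm P (l.take (i + 1)) = wordPerm P (l.take i) := by
  rw [mem_posRoots_iff] at hc
  rw [mem_negRoots_iff] at hneg
  -- β j = (wordPerm (take j))⁻¹ c
  let β : ℕ → idx := fun j => (wordPerm P (l.take j)).symm c
  have hβ0 : b.IsPos (β 0) := by
    change b.IsPos ((wordPerm P (l.take 0)).symm c)
    rw [List.take_zero, wordPerm_nil]
    exact hc
  have hβl : ¬ b.IsPos (β l.length) := by
    change ¬ b.IsPos ((wordPerm P (l.take l.length)).symm c)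
    rw [List.take_length]
    exact hneg
  -- first failure
  have hex : ∃ j, ¬ b.IsPos (β j) := ⟨_, hβl⟩
  classical
  let j₀ := Nat.find hex
  have hj₀ : ¬ b.IsPos (β j₀) := Nat.find_spec hex
  have hj₀pos : j₀ ≠ 0 := by
    intro h0
    rw [h0] at hj₀
    exact hj₀ hβ0
  obtain ⟨i, hi⟩ : ∃ i, j₀ = i + 1 := Nat.exists_eq_succ_of_ne_zero hj₀pos
  have hile : j₀ ≤ l.length := Nat.find_min' hex hβl
  have hilt : i < l.length := by omega
  have hβi : b.IsPos (β i) := by
    by_contra h
    have := Nat.find_min' hex h
    omega
  refine ⟨i, hilt, ?_⟩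
  -- take (i+1) = take i ++ [l[i]]
  have htake : l.take (i + 1) = l.take i ++ [l[i]] := by
    rw [List.take_succ_eq_append_getElem hilt]
  have hβstep : β (i + 1) = P.reflectionPerm l[i] (β i) := by
    change (wordPerm P (l.take (i + 1))).symm c = _
    rw [htake, wordPerm_append]
    change ((wordPerm P (l.take i) * wordPerm P [l[i]])⁻¹) c = _
    rw [mul_inv_rev, Equiv.Perm.mul_apply]
    have : wordPerm P [l[i]] = P.reflectionPerm l[i] := by
      simp [wordPerm]
    rw [this, RootPairing.reflectionPerm_inv]
    rfl
  have hmem : l[i] ∈ b.support := hl _ (List.getElem_mem hilt)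
  have heq : β i = l[i] := by
    by_contra hne
    have := hβi.reflectionPerm hmem hne
    rw [← hβstep, ← hi] at this
    exact hj₀ this
  -- c = w_i (l[i])
  have hc' : c = wordPerm P (l.take i) l[i] := by
    rw [← heq]
    change c = wordPerm P (l.take i) ((wordPerm P (l.take i)).symm c)
    rw [Equiv.apply_symm_apply]
  rw [htake, wordPerm_append, hc', reflectionPerm_wordPerm]
  have : wordPerm P [l[i]] = P.reflectionPerm l[i] := by
    simp [wordPerm]
  rw [this]
  have hsq : P.reflectionPerm l[i] * P.reflectionPerm l[i] = 1 := by
    rw [← sq, RootPairing.reflectionPerm_sq]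
  calc wordPerm P (l.take i) * P.reflectionPerm l[i] * (wordPerm P (l.take i))⁻¹ *
        (wordPerm P (l.take i) * P.reflectionPerm l[i])
      = wordPerm P (l.take i) * (P.reflectionPerm l[i] * P.reflectionPerm l[i]) := by
        group
    _ = wordPerm P (l.take i) := by rw [hsq, mul_one]

end Groth.Agent.Lib.Helper19RootExchange
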