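import Groth.Agent.Lib.Helper19DeformPb
import Mathlib.CategoryTheory.Limits.Shapes.FunctorToTypes

set_option autoImplicit false
universe u v

open CategoryTheory CategoryTheory.Limits ArtFun ArtFun.Art

namespace Groth.Agent.Lib.Helper19

section Smooth2

variable {Λ k : Type u} [CommRing Λ] [Field k] [Algebra Λ k]

/-- A smooth morphism between functors with one-point value on `k` is objectwise surjective. -/
theorem app_surjective_of_isSmooth {F G : Art Λ k ⥤ Type v} (hF : H0 F) (hG : H0 G) (η : F ⟶ G)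
    (hη : IsSmooth η) (A : Art Λ k) : Function.Surjective (η.app A) := by
  rw [isSmooth_iff] at hη
  intro y
  obtain ⟨x0⟩ := hF.1
  obtain ⟨z, -, hz⟩ := hη (toBase A) (toBase_surjective A) x0 y (h0_elim hG _ _)
  exact ⟨z, hz⟩

theorem isSmoothFunctor_iff_of_isSmooth {F G : Art Λ k ⥤ Type v} (hF : H0 F) (hG : H0 G) (η : F ⟶ G)
    (hη : IsSmooth η) : IsSmoothFunctor F ↔ IsSmoothFunctor G := by
  have hs := app_surjective_of_isSmooth hF hG η hη
  rw [isSmooth_iff] at hη
  constructor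
  · intro h B A μ hμ y
    obtain ⟨x, rfl⟩ := hs A y
    obtain ⟨x', rfl⟩ := h μ hμ x
    exact ⟨η.app B x', by rw [NatTrans.naturality_apply]⟩
  · intro h B A μ hμ x
    obtain ⟨y, hy⟩ := h μ hμ (η.app A x)
    obtain ⟨z, hz, -⟩ := hη μ hμ x y hy.symm
    exact ⟨z, hz⟩

theorem isSmoothFunctor_prod {F G : Art Λ k ⥤ Type v} (sF : IsSmoothFunctor F)
    (sG : IsSmoothFunctor G) : IsSmoothFunctor (F ⨯ G) := by
  intro B A μ hμ z
  obtain ⟨x, hx⟩ := sF μ hμ ((Limits.prod.fst (X := F) (Y := G)).app A z)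
  obtain ⟨y, hy⟩ := sG μ hμ ((Limits.prod.snd (X := F) (Y := G)).app A z)
  refine ⟨FunctorToTypes.prodMk x y, ?_⟩
  apply FunctorToTypes.prod_ext'
  · rw [NatTrans.naturality_apply, FunctorToTypes.prodMk_fst, hx]
  · rw [NatTrans.naturality_apply, FunctorToTypes.prodMk_snd, hy]

end Smooth2

end Groth.Agent.Lib.Helper19
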