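import Groth.Agent.Lib.Helper19Endo
import Groth.Agent.Lib.Helper19Smooth

set_option autoImplicit false
universe u v w

open CategoryTheory ArtFun ArtFun.Art

namespace Groth.Agent.Lib.Helper19

section SGA7

variable {Λ : Type u} {k : Type u} [CommRing Λ] [Field k] [Algebra Λ k]

/-- An endomorphism of a pair `(R, ξ)` with `ξ` injective on `k[ε]` is an automorphism. -/
theorem bijective_of_along_eq_of_tangent_injective {F : Art Λ k ⥤ Type v} (R : CRing Λ k)
    (ξ : Family R.carrier R.res F) (hinj : Function.Injective (ξ.app (dual Λ k)))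
    (α : R.carrier →ₐ[Λ] R.carrier) (hα : R.res.comp α = R.res) (hξ : ξ.along α hα = ξ) :
    Function.Bijective α := by
  have key : ∀ φ : HomSet R.carrier R.res (dual Λ k), φ.1.comp α = φ.1 := by
    intro φ
    have h1 := congrArg (fun w => w.app _ φ) hξ
    exact congrArg Subtype.val (hinj h1)
  have hs : Function.Surjective α :=
    surjective_of_tangent_restrict_injective α hα
      (fun φ₁ φ₂ h => Subtype.ext (by rw [← key φ₁, ← key φ₂, h]))
  exact ⟨ringHom_injective_of_surjective_endo α.toRingHom hs, hs⟩

/-- A morphism from a semi-homogeneous functor to a homogeneous one which is injective on tangent spaces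
is injective on every object. -/
theorem injective_app_of_tangent_injective' [Module.Finite Λ k] {F G : Art Λ k ⥤ Type v}
    (hF0 : H0 F) (hS1 : S1 F) (hEps : Heps F) (hG : RS G) (φ : F ⟶ G)
    (hd : Function.Injective (TangentSpace.map φ)) (A : Art Λ k) :
    Function.Injective (φ.app A) := by
  have key : Function.Injective (φ.app (base Λ k)) → Function.Injective (φ.app A) := by
    refine surjective_induction (fun A A' μ => Function.Injective (φ.app A) → Function.Injective (φ.app A'))
      ?_ ?_ ?_ (toBase A) (toBase_surjective A)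
    · intro A A' e he hA x₁ x₂ hx
      have := congrArg (G.map e) hx
      rw [← NatTrans.naturality_apply, ← NatTrans.naturality_apply] at this
      have h2 := congrArg (F.map (inv e)) (hA this)
      rwa [map_inv_map, map_inv_map] at h2
    · intro A A' μ hμ hA x₁ x₂ hx
      obtain ⟨t, hker, ht0, ht, htm⟩ := exists_gen_of_isSmallExt hμ
      have hxA : F.map μ x₁ = F.map μ x₂ := by
        apply hA
        rw [NatTrans.naturality_apply, NatTrans.naturality_apply, hx]
      have hP := isFibreProd_pullbackObj (toBase A') (toBase (dual Λ k)) (toBase_surjective _)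
      set P := pullbackObj (toBase A') (toBase (dual Λ k)) (toBase_surjective _)
      set r₁ : P ⟶ A' := pullbackObjFst _ _ _
      set r₂ : P ⟶ dual Λ k := pullbackObjSnd _ _ _
      set s : P ⟶ A' := shiftHom r₁ r₂ ht htm
      have hS : IsFibreProd r₁ s μ μ := isFibreProd_shift hP μ ht htm ht0 hker
      set Δ : A' ⟶ P := zeroSection hP
      have hΔ1 : Δ ≫ r₁ = 𝟙 A' := zeroSection_fst hP
      have hΔs : Δ ≫ s = 𝟙 A' := zeroSection_shift hP ht htm
      obtain ⟨z, hz1, hz2⟩ := (cmp_surjective_iff F hS).1 (hS1 r₁ s μ μ hS hμ.1) x₁ x₂ hxA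
      have e1 : φ.app P z = G.map Δ (φ.app A' x₁) := by
        apply (cmp_injective_iff G hS).1 (hG r₁ s μ μ hS hμ.1).1
        · rw [← NatTrans.naturality_apply, hz1, ← map_comp_apply', hΔ1, map_id_apply']
        · rw [← NatTrans.naturality_apply, hz2, ← map_comp_apply', hΔs, map_id_apply', hx]
      have e2 : φ.app P z = φ.app P (F.map Δ x₁) := by
        rw [e1, NatTrans.naturality_apply]
      have e3 : F.map r₂ z = F.map r₂ (F.map Δ x₁) := by
        apply hd
        change φ.app (dual Λ k) (F.map r₂ z) = φ.app (dual Λ k) (F.map r₂ (F.map Δ x₁))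
        rw [NatTrans.naturality_apply, NatTrans.naturality_apply, e2]
      have e4 : z = F.map Δ x₁ := by
        apply (cmp_injective_iff F hP).1 (hEps r₁ r₂ hP).1 _ _ _ e3
        rw [hz1, ← map_comp_apply', hΔ1, map_id_apply']
      rw [← hz2, e4, ← map_comp_apply', hΔs, map_id_apply']
    · intro A B' C p q hp hq hA
      exact hp (hq hA)
  apply key
  intro x y _
  exact h0_elim hF0 x y

/-- Smoothness of a composite whose second factor is injective on tangent spaces. -/
theorem isSmooth_comp_iff_of_tangent_injective [Module.Finite Λ k] {F G H : Art Λ k ⥤ Type v}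
    (φ : F ⟶ G) (ψ : G ⟶ H) (hF : H0 F) (hG0 : H0 G) (hG1 : S1 G) (hG2 : Heps G) (hH0 : H0 H)
    (hH : RS H) (hψ : Function.Injective (TangentSpace.map ψ)) :
    IsSmooth (φ ≫ ψ) ↔ (IsSmooth φ ∧ IsSmooth ψ) := by
  constructor
  · intro hs
    have hinj := injective_app_of_tangent_injective' hG0 hG1 hG2 hH ψ hψ
    have hsurj := app_surjective_of_isSmooth hF hH0 (φ ≫ ψ) hs
    rw [isSmooth_iff] at hs
    refine ⟨?_, ?_⟩
    · rw [isSmooth_iff]
      intro B A μ hμ x y e
      have e' : (φ ≫ ψ).app A x = H.map μ (ψ.app B y) := by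
        change ψ.app A (φ.app A x) = _
        rw [e, NatTrans.naturality_apply]
      obtain ⟨z, hz1, hz2⟩ := hs μ hμ x (ψ.app B y) e'
      exact ⟨z, hz1, hinj B hz2⟩
    · rw [isSmooth_iff]
      intro B A μ hμ x y e
      obtain ⟨w, hw⟩ := hsurj B y
      refine ⟨φ.app B w, ?_, hw⟩
      apply hinj A
      rw [NatTrans.naturality_apply, e]
      congr 1
  · rintro ⟨h1, h2⟩
    exact isSmooth_comp φ ψ h1 h2

end SGA7

end Groth.Agent.Lib.Helper19
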