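import Mathlib

/-!
# Element-wise criterion for quasi-isomorphisms of chain complexes of abelian groups
-/

set_option autoImplicit false
set_option linter.style.haveILetI false

universe u

open CategoryTheory Limits

namespace Groth.Agent.Lib.Helper19.SSetQI

section
variable {S₁ S₂ : ShortComplex AddCommGrpCat.{u}} (φ : S₁ ⟶ S₂)

lemma g_τ₂_apply (x : S₁.X₂) : S₂.g (φ.τ₂ x) = φ.τ₃ (S₁.g x) := by
  have := congr($(φ.comm₂₃) x)
  exact this

lemma f_τ₂_apply (x : S₁.X₁) : φ.τ₂ (S₁.f x) = S₂.f (φ.τ₁ x) := by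
  have := congr($(φ.comm₁₂) x)
  exact this.symm

/-- the induced map on kernels -/
def kmap : AddMonoidHom.ker S₁.g.hom →+ AddMonoidHom.ker S₂.g.hom :=
  (φ.τ₂.hom.comp (AddMonoidHom.ker S₁.g.hom).subtype).codRestrict _ (fun x => by
    change S₂.g (φ.τ₂ x.1) = 0
    rw [g_τ₂_apply]
    have : S₁.g x.1 = 0 := x.2
    rw [this, map_zero])

lemma kmap_coe (x : AddMonoidHom.ker S₁.g.hom) : ((kmap φ x : AddMonoidHom.ker S₂.g.hom) : S₂.X₂) = φ.τ₂ x.1 := rfl

lemma kmap_range_le : AddMonoidHom.range S₁.abToCycles ≤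
    (AddMonoidHom.range S₂.abToCycles).comap (kmap φ) := by
  rintro _ ⟨a, rfl⟩
  refine ⟨φ.τ₁ a, Subtype.ext ?_⟩
  change S₂.f (φ.τ₁ a) = φ.τ₂ (S₁.f a)
  rw [f_τ₂_apply]

/-- the induced map on homology quotients -/
def hmap : (AddMonoidHom.ker S₁.g.hom ⧸ AddMonoidHom.range S₁.abToCycles) →+
    (AddMonoidHom.ker S₂.g.hom ⧸ AddMonoidHom.range S₂.abToCycles) :=
  QuotientAddGroup.map _ _ (kmap φ) (kmap_range_le φ)

/-- the explicit left homology map data -/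
def mapData : ShortComplex.LeftHomologyMapData φ S₁.abLeftHomologyData S₂.abLeftHomologyData where
  φK := AddCommGrpCat.ofHom (kmap φ)
  φH := AddCommGrpCat.ofHom (hmap φ)
  commi := by ext x; rfl
  commf' := by
    ext x
    apply Subtype.ext
    change φ.τ₂ (S₁.f x) = S₂.f (φ.τ₁ x)
    rw [f_τ₂_apply]
  commπ := by ext x; rfl

theorem ab_quasiIso_iff :
    ShortComplex.QuasiIso φ ↔
      (∀ y : S₂.X₂, S₂.g y = 0 → ∃ x : S₁.X₂, S₁.g x = 0 ∧ ∃ b : S₂.X₁, φ.τ₂ x - y = S₂.f b) ∧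
      (∀ x : S₁.X₂, S₁.g x = 0 → (∃ b : S₂.X₁, φ.τ₂ x = S₂.f b) → ∃ a : S₁.X₁, x = S₁.f a) := by
  rw [(mapData φ).quasiIso_iff, ConcreteCategory.isIso_iff_bijective]
  change Function.Bijective (hmap φ) ↔ _
  constructor
  · rintro ⟨hinj, hsurj⟩
    constructor
    · intro y hy
      obtain ⟨h, hh⟩ := hsurj (QuotientAddGroup.mk (⟨y, hy⟩ : AddMonoidHom.ker S₂.g.hom))
      obtain ⟨x, rfl⟩ := QuotientAddGroup.mk_surjective h
      change (QuotientAddGroup.mk (kmap φ x) : _ ⧸ AddMonoidHom.range S₂.abToCycles) = _ at hh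
      rw [QuotientAddGroup.eq] at hh
      obtain ⟨b, hb⟩ := hh
      refine ⟨x.1, x.2, -b, ?_⟩
      have := congrArg Subtype.val hb
      change S₂.f b = -(φ.τ₂ x.1) + y at this
      rw [map_neg, this]
      abel
    · intro x hx ⟨b, hb⟩
      have h0 : hmap φ (QuotientAddGroup.mk (⟨x, hx⟩ : AddMonoidHom.ker S₁.g.hom)) = 0 := by
        change (QuotientAddGroup.mk (kmap φ ⟨x, hx⟩) : _ ⧸ AddMonoidHom.range S₂.abToCycles) = 0
        rw [QuotientAddGroup.eq_zero_iff]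
        exact ⟨b, Subtype.ext hb.symm⟩
      have h1 : hmap φ (QuotientAddGroup.mk (⟨x, hx⟩ : AddMonoidHom.ker S₁.g.hom)) = hmap φ 0 := by
        rw [h0, map_zero]
      have h2 := hinj h1
      rw [QuotientAddGroup.eq_zero_iff] at h2
      obtain ⟨a, ha⟩ := h2
      exact ⟨a, (congrArg Subtype.val ha).symm⟩
  · rintro ⟨hs, hi⟩
    constructor
    · rw [injective_iff_map_eq_zero]
      intro h hh
      obtain ⟨x, rfl⟩ := QuotientAddGroup.mk_surjective h
      change (QuotientAddGroup.mk (kmap φ x) : _ ⧸ AddMonoidHom.range S₂.abToCycles) = 0 at hh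
      rw [QuotientAddGroup.eq_zero_iff] at hh
      obtain ⟨b, hb⟩ := hh
      have hb' := congrArg Subtype.val hb
      change S₂.f b = φ.τ₂ x.1 at hb'
      obtain ⟨a, ha⟩ := hi x.1 x.2 ⟨b, hb'.symm⟩
      rw [QuotientAddGroup.eq_zero_iff]
      exact ⟨a, Subtype.ext ha.symm⟩
    · intro h
      obtain ⟨y, rfl⟩ := QuotientAddGroup.mk_surjective h
      obtain ⟨x, hx, b, hb⟩ := hs y.1 y.2
      refine ⟨QuotientAddGroup.mk (⟨x, hx⟩ : AddMonoidHom.ker S₁.g.hom), ?_⟩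
      change (QuotientAddGroup.mk (kmap φ ⟨x, hx⟩) : _ ⧸ AddMonoidHom.range S₂.abToCycles) = _
      rw [QuotientAddGroup.eq]
      refine ⟨-b, Subtype.ext ?_⟩
      change S₂.f (-b) = -(φ.τ₂ x) + y.1
      rw [map_neg, ← hb]
      abel

end

end Groth.Agent.Lib.Helper19.SSetQI

namespace Groth.Agent.Lib.Helper19.SSetQI

theorem quasiIsoAt_iff_elem {K L : ChainComplex AddCommGrpCat.{u} ℕ} (φ : K ⟶ L) (i j k : ℕ)
    (hi : (ComplexShape.down ℕ).prev j = i) (hk : (ComplexShape.down ℕ).next j = k) :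
    QuasiIsoAt φ j ↔
      (∀ y : L.X j, L.d j k y = 0 → ∃ x : K.X j, K.d j k x = 0 ∧
        ∃ b : L.X i, φ.f j x - y = L.d i j b) ∧
      (∀ x : K.X j, K.d j k x = 0 → (∃ b : L.X i, φ.f j x = L.d i j b) →
        ∃ a : K.X i, x = K.d i j a) := by
  rw [quasiIsoAt_iff' φ i j k hi hk, ab_quasiIso_iff]
  rfl

end Groth.Agent.Lib.Helper19.SSetQI
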