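import Groth.Agent.Lib.Helper19SSetQIA

/-!
# Free chains on a simplicial abelian group and the counit to the alternating face map complex
-/

set_option autoImplicit false
set_option linter.style.haveILetI false

universe u

open CategoryTheory Limits Simplicial

namespace Groth.Agent.Lib.Helper19.SSetQI

/-- the coefficient group `ℤ` in universe `u` -/
abbrev RZ : AddCommGrpCat.{u} := AddCommGrpCat.of (ULift.{u} ℤ)

/-- the unit element -/
def one : (RZ.{u} : Type u) := ULift.up 1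

/-- the morphism `ℤ ⟶ G` picking an element -/
def elt {G : AddCommGrpCat.{u}} (a : G) : RZ.{u} ⟶ G :=
  AddCommGrpCat.ofHom ((zmultiplesHom G a).comp AddEquiv.ulift.toAddMonoidHom)

@[simp] lemma elt_one {G : AddCommGrpCat.{u}} (a : G) : elt a one = a := by
  change (zmultiplesHom G a) (1 : ℤ) = a
  simp

lemma elt_comp {G H : AddCommGrpCat.{u}} (a : G) (h : G ⟶ H) : elt a ≫ h = elt (h a) := by
  ext x
  change h ((zmultiplesHom G a) x.down) = (zmultiplesHom H (h a)) x.down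
  simp

lemma hom_ext_one {G : AddCommGrpCat.{u}} {p q : RZ.{u} ⟶ G} (h : p one = q one) : p = q := by
  ext x
  obtain ⟨n⟩ := x
  have : (ULift.up n : ULift.{u} ℤ) = n • (one : ULift.{u} ℤ) := by
    apply ULift.ext
    simp [one]
  rw [this, map_zsmul, map_zsmul, h]

variable (A : SimplicialObject AddCommGrpCat.{u})

/-- the underlying simplicial set -/
abbrev US : SSet.{u} := A ⋙ forget AddCommGrpCat.{u}

/-- the alternating face map complex -/
noncomputable abbrev KC : ChainComplex AddCommGrpCat.{u} ℕ :=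
  (AlgebraicTopology.alternatingFaceMapComplex AddCommGrpCat.{u}).obj A

/-- the free chain complex on the underlying simplicial set -/
noncomputable abbrev SC : ChainComplex AddCommGrpCat.{u} ℕ := (US A).chainComplex RZ.{u}

/-- the counit in degree `n` -/
noncomputable def epsf (n : ℕ) : (SC A).X n ⟶ (KC A).X n :=
  Sigma.desc (fun a : (US A) _⦋n⦌ => elt (G := A _⦋n⦌) a)

lemma ι_epsf (n : ℕ) (a : (US A) _⦋n⦌) :
    (US A).ιChainComplex a ≫ epsf A n = elt (G := A _⦋n⦌) a := by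
  unfold epsf SSet.ιChainComplex
  exact Sigma.ι_desc (fun a : (US A) _⦋n⦌ => elt (G := A _⦋n⦌) a) a

end Groth.Agent.Lib.Helper19.SSetQI

namespace Groth.Agent.Lib.Helper19.SSetQI

variable (A : SimplicialObject AddCommGrpCat.{u})

lemma US_δ_apply {n : ℕ} (i : Fin (n + 2)) (a : (US A) _⦋n + 1⦌) :
    (US A).δ i a = (A.δ i) a := rfl

lemma epsf_comm (n : ℕ) :
    epsf A (n + 1) ≫ (KC A).d (n + 1) n = (SC A).d (n + 1) n ≫ epsf A n := by
  apply SSet.chainComplex_hom_ext
  intro a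
  rw [← Category.assoc, ι_epsf, SSet.ιChainComplex_d_assoc, Preadditive.sum_comp]
  change elt (G := A _⦋n + 1⦌) a ≫ (AlgebraicTopology.AlternatingFaceMapComplex.obj A).d (n + 1) n = _
  rw [AlgebraicTopology.AlternatingFaceMapComplex.obj_d_eq, Preadditive.comp_sum]
  refine Finset.sum_congr rfl (fun i _ => ?_)
  rw [Preadditive.comp_zsmul, Preadditive.zsmul_comp, ι_epsf, elt_comp]
  rfl

/-- the counit chain map -/
noncomputable def eps : SC A ⟶ KC A where
  f n := epsf A n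
  comm' i j hij := by
    have : j + 1 = i := hij
    subst this
    exact epsf_comm A j

end Groth.Agent.Lib.Helper19.SSetQI

namespace Groth.Agent.Lib.Helper19.SSetQI

/-- evaluation of morphisms at an element, as an additive map -/
def evalHom {M N : AddCommGrpCat.{u}} (x : M) : (M ⟶ N) →+ N :=
  (AddMonoidHom.eval x).comp AddCommGrpCat.homAddEquiv.toAddMonoidHom

lemma evalHom_apply {M N : AddCommGrpCat.{u}} (x : M) (g : M ⟶ N) : evalHom x g = g x := rfl

lemma sum_apply {M N : AddCommGrpCat.{u}} {ι : Type*} (s : Finset ι) (g : ι → (M ⟶ N)) (x : M) :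
    (∑ i ∈ s, g i) x = ∑ i ∈ s, (g i) x := by
  rw [← evalHom_apply, map_sum]
  rfl

lemma zsmul_hom_apply {M N : AddCommGrpCat.{u}} (n : ℤ) (g : M ⟶ N) (x : M) :
    (n • g) x = n • g x := rfl

variable (A : SimplicialObject AddCommGrpCat.{u})

/-- the generator `[a]` of the free chains -/
noncomputable def gen {n : ℕ} (a : A _⦋n⦌) : (SC A).X n := (US A).ιChainComplex (R := RZ.{u}) a one

/-- the normalized generator `[a] - [0]` -/
noncomputable def tau {n : ℕ} (a : A _⦋n⦌) : (SC A).X n := gen A a - gen A (0 : A _⦋n⦌)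

lemma tau_zero {n : ℕ} : tau A (0 : A _⦋n⦌) = 0 := sub_self _

lemma eps_gen {n : ℕ} (a : A _⦋n⦌) : (eps A).f n (gen A a) = a := by
  change ((US A).ιChainComplex (R := RZ.{u}) a ≫ epsf A n) one = a
  rw [ι_epsf, elt_one]

lemma eps_tau {n : ℕ} (a : A _⦋n⦌) : (eps A).f n (tau A a) = a := by
  unfold tau
  rw [map_sub, eps_gen, eps_gen, sub_zero]

lemma d_gen {n : ℕ} (a : A _⦋n + 1⦌) :
    (SC A).d (n + 1) n (gen A a) = ∑ i : Fin (n + 2), (-1 : ℤ) ^ (i : ℕ) • gen A ((A.δ i) a) := by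
  change ((US A).ιChainComplex (R := RZ.{u}) a ≫ (SC A).d (n + 1) n) one = _
  rw [SSet.ιChainComplex_d, sum_apply]
  rfl

lemma d_tau {n : ℕ} (a : A _⦋n + 1⦌) :
    (SC A).d (n + 1) n (tau A a) = ∑ i : Fin (n + 2), (-1 : ℤ) ^ (i : ℕ) • tau A ((A.δ i) a) := by
  unfold tau
  rw [map_sub, d_gen, d_gen, ← Finset.sum_sub_distrib]
  refine Finset.sum_congr rfl (fun i _ => ?_)
  rw [map_zero, smul_sub]

lemma d_tau_of_faces_zero {n : ℕ} (a : A _⦋n + 1⦌) (h : ∀ i : Fin (n + 2), (A.δ i) a = 0) :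
    (SC A).d (n + 1) n (tau A a) = 0 := by
  rw [d_tau]
  refine Finset.sum_eq_zero (fun i _ => ?_)
  rw [h i, tau_zero, smul_zero]

lemma d_tau_of_higher_faces_zero {n : ℕ} (y : A _⦋n + 1⦌)
    (h : ∀ j : Fin (n + 1), (A.δ j.succ) y = 0) :
    (SC A).d (n + 1) n (tau A y) = tau A ((A.δ 0) y) := by
  rw [d_tau, Fin.sum_univ_succ]
  have : ∑ j : Fin (n + 1), (-1 : ℤ) ^ (j.succ : ℕ) • tau A ((A.δ j.succ) y) = 0 := by
    refine Finset.sum_eq_zero (fun j _ => ?_)
    rw [h j, tau_zero, smul_zero]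
  rw [this, add_zero]
  simp

end Groth.Agent.Lib.Helper19.SSetQI

namespace Groth.Agent.Lib.Helper19.SSetQI

variable {A B : SimplicialObject AddCommGrpCat.{u}} (f : A ⟶ B)

/-- the map on free chains -/
noncomputable abbrev Sf : SC A ⟶ SC B :=
  SSet.chainComplexMap (Functor.whiskerRight f (forget AddCommGrpCat.{u})) RZ.{u}

/-- the map on alternating face map complexes -/
noncomputable abbrev Kf : KC A ⟶ KC B :=
  (AlgebraicTopology.alternatingFaceMapComplex AddCommGrpCat.{u}).map f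

lemma Kf_f_apply (n : ℕ) (a : A _⦋n⦌) : (Kf f).f n a = (f.app (Opposite.op ⦋n⦌)) a := rfl

lemma Sf_gen {n : ℕ} (a : A _⦋n⦌) : (Sf f).f n (gen A a) = gen B ((f.app (Opposite.op ⦋n⦌)) a) := by
  change ((US A).ιChainComplex (R := RZ.{u}) a ≫ (Sf f).f n) one = _
  rw [SSet.ι_chainComplexMap_f]
  rfl

lemma Sf_tau {n : ℕ} (a : A _⦋n⦌) : (Sf f).f n (tau A a) = tau B ((f.app (Opposite.op ⦋n⦌)) a) := by
  unfold tau
  rw [map_sub, Sf_gen, Sf_gen, map_zero]

lemma Sf_eps : Sf f ≫ eps B = eps A ≫ Kf f := by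
  ext n : 1
  apply SSet.chainComplex_hom_ext
  intro a
  change (US A).ιChainComplex a ≫ (Sf f).f n ≫ epsf B n = (US A).ιChainComplex a ≫ epsf A n ≫ (Kf f).f n
  rw [SSet.ι_chainComplexMap_f_assoc, ι_epsf, ← Category.assoc, ι_epsf, elt_comp]
  rfl

lemma Sf_eps_apply {n : ℕ} (w : (SC A).X n) :
    (eps B).f n ((Sf f).f n w) = (Kf f).f n ((eps A).f n w) := by
  have := congr($(Sf_eps f).f n w)
  exact this

lemma δ_naturality_apply {n : ℕ} (i : Fin (n + 2)) (a : A _⦋n + 1⦌) :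
    (B.δ i) ((f.app (Opposite.op ⦋n + 1⦌)) a) = (f.app (Opposite.op ⦋n⦌)) ((A.δ i) a) := by
  have := congr($(f.naturality (SimplexCategory.δ i).op) a)
  exact this.symm

end Groth.Agent.Lib.Helper19.SSetQI
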