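import Groth.Agent.Lib.Helper19SSetQIB

/-!
# Normalized representatives via the Dold-Kan projector
-/

set_option autoImplicit false
set_option linter.style.haveILetI false

universe u

open CategoryTheory Limits Simplicial AlgebraicTopology AlgebraicTopology.DoldKan

namespace Groth.Agent.Lib.Helper19.SSetQI

variable (A : SimplicialObject AddCommGrpCat.{u})

/-- the Dold-Kan projector -/
noncomputable abbrev Pinf : KC A ⟶ KC A := PInfty

lemma Pinf_higher_faces {n : ℕ} (c : A _⦋n + 1⦌) (j : Fin (n + 1)) :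
    (A.δ j.succ) ((Pinf A).f (n + 1) c) = 0 := by
  have h := (HigherFacesVanish.of_P (n + 1) n (X := A)) j (by omega)
  rw [← PInfty_f] at h
  have := congr($h c)
  exact this

lemma d_apply_eq {n : ℕ} (c : A _⦋n + 1⦌) :
    (KC A).d (n + 1) n c = ∑ i : Fin (n + 2), (-1 : ℤ) ^ (i : ℕ) • (A.δ i) c := by
  change (AlgebraicTopology.AlternatingFaceMapComplex.obj A).d (n + 1) n c = _
  rw [AlgebraicTopology.AlternatingFaceMapComplex.obj_d_eq, sum_apply]
  rfl

lemma d_of_higher_faces_zero {n : ℕ} (y : A _⦋n + 1⦌)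
    (h : ∀ j : Fin (n + 1), (A.δ j.succ) y = 0) : (KC A).d (n + 1) n y = (A.δ 0) y := by
  rw [d_apply_eq, Fin.sum_univ_succ]
  have : ∑ j : Fin (n + 1), (-1 : ℤ) ^ (j.succ : ℕ) • (A.δ j.succ) y = 0 := by
    refine Finset.sum_eq_zero (fun j _ => ?_)
    rw [h j, smul_zero]
  rw [this, add_zero]
  simp

lemma Pinf_comm_apply {n : ℕ} (c : (KC A).X (n + 1)) :
    (KC A).d (n + 1) n ((Pinf A).f (n + 1) c) = (Pinf A).f n ((KC A).d (n + 1) n c) := by
  have := congr($((Pinf A).comm (n + 1) n) c)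
  exact this

lemma Pinf_sub_eq_d {n : ℕ} (c : (KC A).X (n + 1)) (hc : (KC A).d (n + 1) n c = 0) :
    ∃ b : (KC A).X (n + 2), (Pinf A).f (n + 1) c - c = (KC A).d (n + 2) (n + 1) b := by
  let H := homotopyPInftyToId A
  have h := H.comm (n + 1)
  rw [Homotopy.dNext_succ_chainComplex, Homotopy.prevD_chainComplex] at h
  have h2 := congr($h c)
  refine ⟨H.hom (n + 1) (n + 2) c, ?_⟩
  rw [AddCommGrpCat.hom_add_apply, AddCommGrpCat.hom_add_apply] at h2
  have h3 : (H.hom n (n + 1)) ((KC A).d (n + 1) n c) = 0 := by rw [hc, map_zero]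
  have h4 : ((AlternatingFaceMapComplex.obj A).d (n + 1) n ≫ H.hom n (n + 1)) c = 0 := h3
  rw [h4, zero_add] at h2
  change (Pinf A).f (n + 1) c = (KC A).d (n + 2) (n + 1) (H.hom (n + 1) (n + 2) c) + c at h2
  rw [h2, add_sub_cancel_right]

lemma Pinf_eq_self_of_higher_faces_zero {n : ℕ} (x : A _⦋n + 1⦌)
    (h : ∀ j : Fin (n + 1), (A.δ j.succ) x = 0) : (Pinf A).f (n + 1) x = x := by
  have hv : HigherFacesVanish (n + 1) (elt (G := A _⦋n + 1⦌) x) := by
    intro j _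
    rw [elt_comp, h j]
    apply hom_ext_one
    rw [elt_one]
    rfl
  have h2 := hv.comp_P_eq_self
  rw [← PInfty_f] at h2
  have := congr($h2 one)
  change (Pinf A).f (n + 1) (elt (G := A _⦋n + 1⦌) x one) = elt (G := A _⦋n + 1⦌) x one at this
  rwa [elt_one] at this

theorem normalize_cycle {n : ℕ} (c : A _⦋n + 1⦌) (hc : (KC A).d (n + 1) n c = 0) :
    ∃ x : A _⦋n + 1⦌, (∀ i : Fin (n + 2), (A.δ i) x = 0) ∧
      ∃ b : (KC A).X (n + 2), x - c = (KC A).d (n + 2) (n + 1) b := by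
  refine ⟨(Pinf A).f (n + 1) c, ?_, Pinf_sub_eq_d A c hc⟩
  have hd : (KC A).d (n + 1) n ((Pinf A).f (n + 1) c) = 0 := by
    rw [Pinf_comm_apply, hc, map_zero]
  rw [d_of_higher_faces_zero A _ (Pinf_higher_faces A c)] at hd
  intro i
  refine Fin.cases hd (fun j => Pinf_higher_faces A c j) i

theorem normalized_boundary {n : ℕ} (x : A _⦋n⦌) (hx : (Pinf A).f n x = x) (y' : A _⦋n + 1⦌)
    (hy : (KC A).d (n + 1) n y' = x) :
    ∃ y : A _⦋n + 1⦌, (A.δ 0) y = x ∧ ∀ j : Fin (n + 1), (A.δ j.succ) y = 0 := by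
  refine ⟨(Pinf A).f (n + 1) y', ?_, Pinf_higher_faces A y'⟩
  rw [← d_of_higher_faces_zero A _ (Pinf_higher_faces A y'), Pinf_comm_apply, hy, hx]

lemma Pinf_zero_apply (x : A _⦋0⦌) : (Pinf A).f 0 x = x := rfl

end Groth.Agent.Lib.Helper19.SSetQI
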