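import Groth.Agent.Lib.Helper19SSetQIC

set_option autoImplicit false
set_option linter.style.haveILetI false

universe u

open CategoryTheory Limits Simplicial AlgebraicTopology

namespace Groth.Agent.Lib.Helper19.SSetQI

variable {X Y : SimplicialObject AddCommGrpCat.{u}} (f : X ⟶ Y)

lemma eps_comm_apply (A : SimplicialObject AddCommGrpCat.{u}) (n : ℕ) (w : (SC A).X (n + 1)) :
    (eps A).f n ((SC A).d (n + 1) n w) = (KC A).d (n + 1) n ((eps A).f (n + 1) w) := by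
  have := congr($((eps A).comm (n + 1) n) w)
  exact this.symm

lemma Kf_comm_apply (n : ℕ) (a : (KC X).X (n + 1)) :
    (Kf f).f n ((KC X).d (n + 1) n a) = (KC Y).d (n + 1) n ((Kf f).f (n + 1) a) := by
  have := congr($((Kf f).comm (n + 1) n) a)
  exact this.symm

theorem quasiIsoAt_succ (m : ℕ) (hS : QuasiIsoAt (Sf f) (m + 1)) : QuasiIsoAt (Kf f) (m + 1) := by
  obtain ⟨surjS, injS⟩ := (quasiIsoAt_iff_elem (Sf f) (m + 2) (m + 1) m (by simp) (by simp)).mp hS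
  rw [quasiIsoAt_iff_elem (Kf f) (m + 2) (m + 1) m (by simp) (by simp)]
  constructor
  · intro y hy
    obtain ⟨y₁, hy₁, b₁, hb₁⟩ := normalize_cycle Y y hy
    obtain ⟨w, hw, b₂, hb₂⟩ := surjS (tau Y y₁) (d_tau_of_faces_zero Y y₁ hy₁)
    refine ⟨(eps X).f (m + 1) w, ?_, b₁ + (eps Y).f (m + 2) b₂, ?_⟩
    · rw [← eps_comm_apply, hw, map_zero]
    · rw [← Sf_eps_apply, map_add, ← eps_comm_apply, ← hb₂, map_sub, eps_tau, ← hb₁]
      exact (sub_add_sub_cancel' _ _ _).symm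
  · rintro x hx ⟨b, hb⟩
    obtain ⟨x₁, hx₁, a₁, ha₁⟩ := normalize_cycle X x hx
    -- the image of `x₁`
    have hz : ∀ i : Fin (m + 2), (Y.δ i) ((f.app (Opposite.op ⦋m + 1⦌)) x₁) = 0 := by
      intro i
      rw [δ_naturality_apply, hx₁ i, map_zero]
    have hzP : (Pinf Y).f (m + 1) ((f.app (Opposite.op ⦋m + 1⦌)) x₁) =
        (f.app (Opposite.op ⦋m + 1⦌)) x₁ :=
      Pinf_eq_self_of_higher_faces_zero Y _ (fun j => hz j.succ)
    have hzb : (KC Y).d (m + 2) (m + 1) (b + (Kf f).f (m + 2) a₁) =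
        (f.app (Opposite.op ⦋m + 1⦌)) x₁ := by
      rw [map_add, ← hb, ← Kf_comm_apply, ← ha₁, map_sub, Kf_f_apply, Kf_f_apply]
      exact add_sub_cancel _ _
    obtain ⟨y, hy0, hyj⟩ := normalized_boundary Y _ hzP _ hzb
    have h1 : (Sf f).f (m + 1) (tau X x₁) = (SC Y).d (m + 2) (m + 1) (tau Y y) := by
      rw [Sf_tau, d_tau_of_higher_faces_zero Y y hyj, hy0]
    obtain ⟨a₂, ha₂⟩ := injS (tau X x₁) (d_tau_of_faces_zero X x₁ hx₁) ⟨tau Y y, h1⟩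
    refine ⟨(eps X).f (m + 2) a₂ - a₁, ?_⟩
    rw [map_sub, ← eps_comm_apply, ← ha₂, eps_tau, ← ha₁]
    exact (sub_sub_cancel _ _).symm

theorem quasiIsoAt_zero (hS : QuasiIsoAt (Sf f) 0) : QuasiIsoAt (Kf f) 0 := by
  obtain ⟨surjS, injS⟩ := (quasiIsoAt_iff_elem (Sf f) 1 0 0 (by simp) (by simp)).mp hS
  rw [quasiIsoAt_iff_elem (Kf f) 1 0 0 (by simp) (by simp)]
  have hd0 : ∀ (K : ChainComplex AddCommGrpCat.{u} ℕ) (a : K.X 0), K.d 0 0 a = 0 := by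
    intro K a
    rw [K.shape 0 0 (by simp)]
    rfl
  constructor
  · intro y _
    obtain ⟨w, -, b₂, hb₂⟩ := surjS (tau Y y) (hd0 _ _)
    refine ⟨(eps X).f 0 w, hd0 _ _, (eps Y).f 1 b₂, ?_⟩
    rw [← Sf_eps_apply, ← eps_comm_apply, ← hb₂, map_sub, eps_tau]
  · rintro x - ⟨b, hb⟩
    obtain ⟨y, hy0, hyj⟩ := normalized_boundary Y ((f.app (Opposite.op ⦋0⦌)) x) rfl b hb.symm
    have h1 : (Sf f).f 0 (tau X x) = (SC Y).d 1 0 (tau Y y) := by
      rw [Sf_tau, d_tau_of_higher_faces_zero Y y hyj, hy0]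
    obtain ⟨a₂, ha₂⟩ := injS (tau X x) (hd0 _ _) ⟨tau Y y, h1⟩
    refine ⟨(eps X).f 1 a₂, ?_⟩
    rw [← eps_comm_apply, ← ha₂, eps_tau]

theorem quasiIsoAt_Sf (g : (US Y) ⟶ (US X))
    (hX : Nonempty (SSet.Homotopy (Functor.whiskerRight f (forget AddCommGrpCat.{u}) ≫ g) (𝟙 _)) ∨
      Nonempty (SSet.Homotopy (𝟙 _) (Functor.whiskerRight f (forget AddCommGrpCat.{u}) ≫ g)))
    (hY : Nonempty (SSet.Homotopy (g ≫ Functor.whiskerRight f (forget AddCommGrpCat.{u})) (𝟙 _)) ∨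
      Nonempty (SSet.Homotopy (𝟙 _) (g ≫ Functor.whiskerRight f (forget AddCommGrpCat.{u}))))
    (n : ℕ) : QuasiIsoAt (Sf f) n := by
  have h1 : SSet.homologyMap (Functor.whiskerRight f (forget AddCommGrpCat.{u})) RZ.{u} n ≫
      SSet.homologyMap g RZ.{u} n = 𝟙 _ := by
    rw [← SSet.homologyMap_comp, ← SSet.homologyMap_id]
    rcases hX with ⟨⟨H⟩⟩ | ⟨⟨H⟩⟩
    · exact H.congr_homologyMap RZ.{u} n
    · exact (H.congr_homologyMap RZ.{u} n).symm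
  have h2 : SSet.homologyMap g RZ.{u} n ≫
      SSet.homologyMap (Functor.whiskerRight f (forget AddCommGrpCat.{u})) RZ.{u} n = 𝟙 _ := by
    rw [← SSet.homologyMap_comp, ← SSet.homologyMap_id]
    rcases hY with ⟨⟨H⟩⟩ | ⟨⟨H⟩⟩
    · exact H.congr_homologyMap RZ.{u} n
    · exact (H.congr_homologyMap RZ.{u} n).symm
  rw [quasiIsoAt_iff_isIso_homologyMap]
  exact ⟨⟨SSet.homologyMap g RZ.{u} n, h1, h2⟩⟩

theorem quasiIso_Kf (g : (US Y) ⟶ (US X))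
    (hX : Nonempty (SSet.Homotopy (Functor.whiskerRight f (forget AddCommGrpCat.{u}) ≫ g) (𝟙 _)) ∨
      Nonempty (SSet.Homotopy (𝟙 _) (Functor.whiskerRight f (forget AddCommGrpCat.{u}) ≫ g)))
    (hY : Nonempty (SSet.Homotopy (g ≫ Functor.whiskerRight f (forget AddCommGrpCat.{u})) (𝟙 _)) ∨
      Nonempty (SSet.Homotopy (𝟙 _) (g ≫ Functor.whiskerRight f (forget AddCommGrpCat.{u})))) :
    QuasiIso (Kf f) := by
  refine ⟨fun n => ?_⟩
  cases n with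
  | zero => exact quasiIsoAt_zero f (quasiIsoAt_Sf f g hX hY 0)
  | succ m => exact quasiIsoAt_succ f m (quasiIsoAt_Sf f g hX hY (m + 1))

end Groth.Agent.Lib.Helper19.SSetQI
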