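import Mathlib
import Groth.Prelude.Def_CohTop
import Groth.Agent.Lib.Helper19GVB

/-!
# Vanishing via extensions by zero, part A (helper19): concrete subsheaves of the sheaf of `ℤ`-valued functions

`SubF X` is a subsheaf of the sheaf `V ↦ (V → ℤ)` of all integer valued functions, given by subgroups
closed under restriction and of local nature.  `SubF.sheaf` is the associated abelian sheaf, `SubF.incl` and
`SubF.mul` are the maps induced by inclusions and by multiplication with an integer, `SubF.supp K A` is the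
subsheaf of functions in `K` supported in the open `A`.
-/

set_option autoImplicit false
set_option linter.style.haveILetI false
universe u
open CategoryTheory CategoryTheory.Limits Opposite TopologicalSpace

namespace Groth.Agent.Lib.Helper19SV

open Groth.Agent.Lib.Helper16.ClosedEmb Groth.Agent.Lib.Helper19GV

variable {X : TopCat.{u}}

/-- restriction of a function. -/
def resF {V V' : Opens X} (h : V' ≤ V) (f : V → ℤ) : V' → ℤ := fun x => f ⟨x.1, h x.2⟩

@[simp] lemma resF_apply {V V' : Opens X} (h : V' ≤ V) (f : V → ℤ) (x : V') :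
    resF h f x = f ⟨x.1, h x.2⟩ := rfl

/-- a subsheaf of the sheaf of `ℤ`-valued functions. -/
structure SubF (X : TopCat.{u}) where
  carrier : ∀ V : Opens X, AddSubgroup (V → ℤ)
  res : ∀ {V V' : Opens X} (h : V' ≤ V) (f : V → ℤ), f ∈ carrier V → resF h f ∈ carrier V'
  loc : ∀ (V : Opens X) (f : V → ℤ),
    (∀ x : V, ∃ (V' : Opens X) (h : V' ≤ V), x.1 ∈ V' ∧ resF h f ∈ carrier V') → f ∈ carrier V

namespace SubF

variable (K : SubF X)

/-- the underlying presheaf. -/
noncomputable def presheaf : (Opens X)ᵒᵖ ⥤ AddCommGrpCat.{u} where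
  obj V := AddCommGrpCat.of (K.carrier V.unop)
  map {V V'} i := AddCommGrpCat.ofHom
    { toFun := fun s => ⟨resF i.unop.le s.1, K.res i.unop.le s.1 s.2⟩
      map_zero' := rfl
      map_add' := fun _ _ => rfl }
  map_id _ := rfl
  map_comp _ _ := rfl

lemma presheaf_isSheaf : TopCat.Presheaf.IsSheaf K.presheaf := by
  rw [TopCat.Presheaf.isSheaf_iff_isSheaf_comp (forget AddCommGrpCat.{u})]
  refine TopCat.Presheaf.isSheaf_of_isSheafUniqueGluing_types _ (fun ι W sf hsf => ?_)
  have key : ∀ (i j : ι) (x : X) (hi : x ∈ W i) (hj : x ∈ W j),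
      (sf i : ↥(K.carrier (W i))).1 ⟨x, hi⟩ = (sf j : ↥(K.carrier (W j))).1 ⟨x, hj⟩ := by
    intro i j x hi hj
    have := congrFun (congrArg Subtype.val (hsf i j)) ⟨x, ⟨hi, hj⟩⟩
    exact this
  have hne : ∀ x : ↥(iSup W : Opens X), ∃ i, x.1 ∈ W i := fun x => Opens.mem_iSup.mp x.2
  let g : ↥(iSup W : Opens X) → ℤ := fun x =>
    (sf (hne x).choose : ↥(K.carrier (W (hne x).choose))).1 ⟨x.1, (hne x).choose_spec⟩
  have hg : ∀ i, resF (le_iSup W i) g = (sf i : ↥(K.carrier (W i))).1 := by
    intro i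
    funext x
    exact key _ _ _ _ _
  have hmem : g ∈ K.carrier (iSup W) := by
    refine K.loc _ g (fun x => ?_)
    obtain ⟨i, hi⟩ := hne x
    refine ⟨W i, le_iSup W i, hi, ?_⟩
    rw [hg i]
    exact (sf i : ↥(K.carrier (W i))).2
  refine ⟨(⟨g, hmem⟩ : ↥(K.carrier (iSup W))), ?_, ?_⟩
  · intro i
    exact Subtype.ext (hg i)
  · intro t ht
    apply Subtype.ext
    funext x
    obtain ⟨i, hi⟩ := hne x
    have h1 := congrFun (congrArg Subtype.val (ht i)) ⟨x.1, hi⟩
    have h2 := congrFun (hg i) ⟨x.1, hi⟩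
    exact h1.trans h2.symm

/-- the abelian sheaf attached to a `SubF`. -/
noncomputable def sheaf : CohTop.Ab X := ⟨K.presheaf, K.presheaf_isSheaf⟩

/-- sections of `K.sheaf` are elements of the carrier. -/
def val {V : Opens X} (s : K.sheaf.obj.obj (op V)) : V → ℤ := (s : ↥(K.carrier V)).1

lemma val_mem {V : Opens X} (s : K.sheaf.obj.obj (op V)) : K.val s ∈ K.carrier V :=
  (s : ↥(K.carrier V)).2

/-- build a section. -/
def sec {V : Opens X} (f : V → ℤ) (hf : f ∈ K.carrier V) : K.sheaf.obj.obj (op V) :=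
  (⟨f, hf⟩ : ↥(K.carrier V))

@[simp] lemma val_sec {V : Opens X} (f : V → ℤ) (hf : f ∈ K.carrier V) : K.val (K.sec f hf) = f := rfl

lemma val_injective {V : Opens X} : Function.Injective (K.val (V := V)) :=
  fun _ _ h => Subtype.ext h

lemma val_res {V V' : Opens X} (h : V' ≤ V) (s : K.sheaf.obj.obj (op V)) :
    K.val (K.sheaf.obj.map (homOfLE h).op s) = resF h (K.val s) := rfl

lemma val_zero {V : Opens X} : K.val (0 : K.sheaf.obj.obj (op V)) = 0 := rfl

lemma val_add {V : Opens X} (s t : K.sheaf.obj.obj (op V)) : K.val (s + t) = K.val s + K.val t := rfl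

end SubF

instance : LE (SubF X) := ⟨fun S T => ∀ V, S.carrier V ≤ T.carrier V⟩

lemma SubF.le_def {S T : SubF X} : S ≤ T ↔ ∀ V, S.carrier V ≤ T.carrier V := Iff.rfl

namespace SubF

variable {S T : SubF X}

/-- the inclusion map. -/
noncomputable def incl (h : S ≤ T) : S.sheaf ⟶ T.sheaf :=
  ⟨{ app := fun V => AddCommGrpCat.ofHom (AddSubgroup.inclusion (h V.unop))
     naturality := fun _ _ _ => rfl }⟩

@[simp] lemma val_incl (h : S ≤ T) {V : Opens X} (s : S.sheaf.obj.obj (op V)) :
    T.val ((incl h).hom.app (op V) s) = S.val s := rfl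

lemma incl_injective (h : S ≤ T) (V : Opens X) : Function.Injective ((incl h).hom.app (op V)) :=
  fun a b hab => S.val_injective (by rw [← val_incl h a, ← val_incl h b, hab])

instance mono_incl (h : S ≤ T) : Mono (incl h) := mono_of_injective _ (incl_injective h)

lemma incl_comp {R : SubF X} (h : S ≤ T) (h' : T ≤ R) :
    incl h ≫ incl h' = incl (fun V => (h V).trans (h' V)) := rfl

/-- multiplication by an integer. -/
noncomputable def mul (n : ℤ) (h : ∀ (V : Opens X) (f : V → ℤ), f ∈ S.carrier V → n • f ∈ T.carrier V) :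
    S.sheaf ⟶ T.sheaf :=
  ⟨{ app := fun V => AddCommGrpCat.ofHom
        { toFun := fun s => ⟨n • (s : ↥(S.carrier V.unop)).1, h _ _ (s : ↥(S.carrier V.unop)).2⟩
          map_zero' := Subtype.ext (smul_zero n)
          map_add' := fun _ _ => Subtype.ext (smul_add n _ _) }
     naturality := fun _ _ _ => rfl }⟩

@[simp] lemma val_mul (n : ℤ) (h : ∀ (V : Opens X) (f : V → ℤ), f ∈ S.carrier V → n • f ∈ T.carrier V)
    {V : Opens X} (s : S.sheaf.obj.obj (op V)) :
    T.val ((mul n h).hom.app (op V) s) = n • S.val s := rfl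

end SubF

end Groth.Agent.Lib.Helper19SV
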