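import Mathlib
import Groth.Prelude.Def_CohTop
import Groth.Agent.Lib.Helper19SVA
import Groth.Agent.S0468

/-!
# Vanishing via extensions by zero, part B (helper19): supports, exactness from sections, directed unions

* `SubF.supp K A`: the functions of `K` supported in the open `A`;
* `shortExact_of_sections`: a criterion for short exactness of abelian sheaves in terms of sections;
* `colim_closure'`: on a quasi-compact space with a basis of quasi-compact opens stable under intersections,
  vanishing of cohomology passes to directed colimits (from S0468);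
* `cv_of_directed`: vanishing of cohomology for a directed union of concrete subsheaves.
-/

set_option autoImplicit false
set_option linter.style.haveILetI false
universe u
open CategoryTheory CategoryTheory.Limits Opposite TopologicalSpace

namespace Groth.Agent.Lib.Helper19SV

open Groth.Agent.Lib.Helper16.ClosedEmb Groth.Agent.Lib.Helper19GV

variable {X : TopCat.{u}}

namespace SubF

/-- the functions of `K` supported in the open `A`. -/
def supp (K : SubF X) (A : Opens X) : SubF X where
  carrier V :=
    { carrier := {f | f ∈ K.carrier V ∧ ∀ x : V, f x ≠ 0 → x.1 ∈ A}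
      zero_mem' := ⟨(K.carrier V).zero_mem, fun x hx => absurd rfl hx⟩
      add_mem' := fun {a b} ha hb => ⟨(K.carrier V).add_mem ha.1 hb.1, fun x hx => by
        by_cases h : a x = 0
        · refine hb.2 x (fun hb0 => hx ?_)
          simp [h, hb0]
        · exact ha.2 x h⟩
      neg_mem' := fun {a} ha => ⟨(K.carrier V).neg_mem ha.1, fun x hx => ha.2 x (fun h => hx (by simp [h]))⟩ }
  res := fun {V V'} h f hf => ⟨K.res h f hf.1, fun x hx => hf.2 ⟨x.1, h x.2⟩ hx⟩
  loc := fun V f hf => by
    refine ⟨K.loc V f (fun x => ?_), fun x hx => ?_⟩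
    · obtain ⟨V', h, hxV', hmem⟩ := hf x
      exact ⟨V', h, hxV', hmem.1⟩
    · obtain ⟨V', h, hxV', hmem⟩ := hf x
      exact hmem.2 ⟨x.1, hxV'⟩ hx

lemma mem_supp {K : SubF X} {A V : Opens X} {f : V → ℤ} :
    f ∈ (K.supp A).carrier V ↔ f ∈ K.carrier V ∧ ∀ x : V, f x ≠ 0 → x.1 ∈ A := Iff.rfl

lemma supp_le (K : SubF X) (A : Opens X) : K.supp A ≤ K := fun _ _ hf => hf.1

lemma supp_mono (K : SubF X) {A B : Opens X} (h : A ≤ B) : K.supp A ≤ K.supp B :=
  fun _ _ hf => ⟨hf.1, fun x hx => h (hf.2 x hx)⟩

lemma supp_le_supp {K L : SubF X} (hKL : K ≤ L) {A B : Opens X} (h : A ≤ B) : K.supp A ≤ L.supp B :=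
  fun V _ hf => ⟨hKL V hf.1, fun x hx => h (hf.2 x hx)⟩

/-- a `SubF` all of whose sections vanish gives the zero sheaf. -/
lemma isZero_sheaf (K : SubF X) (h : ∀ (V : Opens X) (f : V → ℤ), f ∈ K.carrier V → f = 0) :
    IsZero K.sheaf := by
  refine isZero_of_sections (fun V => subsingleton_of_forall_eq 0 (fun s => ?_))
  apply K.val_injective
  rw [h V _ (K.val_mem s)]
  rfl

end SubF

lemma map_self {F : CohTop.Ab X} {V : Opens X} (h : V ≤ V) (t : F.obj.obj (op V)) :
    F.obj.map (homOfLE h).op t = t := by
  have : (homOfLE h).op = 𝟙 (op V) := Subsingleton.elim _ _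
  rw [this, F.obj.map_id]
  rfl

lemma epi_of_surjective {A B : CohTop.Ab X} (g : A ⟶ B)
    (hg : ∀ V : Opens X, Function.Surjective (g.hom.app (op V))) : Epi g := by
  rw [locSurj_iff]
  intro V t x hx
  obtain ⟨s, hs⟩ := hg V t
  exact ⟨V, le_rfl, ⟨s, hs.trans (map_self _ t).symm⟩, hx⟩

/-- short exactness from sections. -/
lemma shortExact_of_sections {A B C : CohTop.Ab X} (f : A ⟶ B) (g : B ⟶ C) (w : f ≫ g = 0)
    (hf : ∀ V : Opens X, Function.Injective (f.hom.app (op V))) [Epi g]
    (hex : ∀ (V : Opens X) (b : B.obj.obj (op V)), g.hom.app (op V) b = 0 →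
      ∃ a : A.obj.obj (op V), f.hom.app (op V) a = b) :
    (ShortComplex.mk f g w).ShortExact := by
  haveI : Mono f := mono_of_injective f hf
  let S := ShortComplex.mk f g w
  have hexact : S.Exact := by
    rw [S.exact_iff_epi_toCycles]
    apply epi_of_surjective
    intro V t
    have h0 : g.hom.app (op V) (S.iCycles.hom.app (op V) t) = 0 := by
      have := congrArg (fun m => m.hom.app (op V) t) S.iCycles_g
      exact this
    obtain ⟨a, ha⟩ := hex V _ h0
    refine ⟨a, ?_⟩
    apply injective_of_mono S.iCycles V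
    refine Eq.trans ?_ ha
    have := congrArg (fun m => m.hom.app (op V) a) S.toCycles_i
    exact this
  exact { exact := hexact, mono_f := ‹Mono f›, epi_g := ‹Epi g› }

/-- cohomology commutes with directed colimits (from S0468). -/
lemma colim_closure' [CompactSpace X] [PrespectralSpace X] [QuasiSeparatedSpace X]
    (N : ℕ) (ι : Type u) [Preorder ι] [IsDirected ι (· ≤ ·)] [Nonempty ι]
    (D : ι ⥤ CohTop.Ab X) (h : ∀ i, CV N (D.obj i)) : CV N (colimit D) := by
  intro p hp
  haveI := Groth.Agent.S0468.result (X := X) ⊤ isCompact_univ ι p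
  let Φ : CohTop.Ab X ⥤ AddCommGrpCat.{u} :=
    (Sheaf.cohomologyPresheafFunctor (Opens.grothendieckTopology X) p).flip.obj (op ⊤)
  have hc : IsColimit (Φ.mapCocone (colimit.cocone D)) := isColimitOfPreserves Φ (colimit.isColimit D)
  have e : ∀ F : CohTop.Ab X, (Φ.obj F) ≃+ CohTop.H F p := fun F =>
    E1Deg.extCongrLeft (E1Deg.freeSheafIsoConstant (Opens.grothendieckTopology X) isTerminalTop) F p
  have hsub : ∀ i, Subsingleton (Φ.obj (D.obj i)) := fun i =>
    @Function.Injective.subsingleton _ _ _ (e (D.obj i)).injective (h i p hp)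
  have h0 : Subsingleton (Φ.obj (colimit D)) := by
    refine subsingleton_of_forall_eq 0 (fun x => ?_)
    obtain ⟨i, y, hy⟩ := Concrete.isColimit_exists_rep _ hc x
    rw [← hy, @Subsingleton.elim _ (hsub i) y 0]
    exact map_zero _
  exact @Function.Injective.subsingleton _ _ _ (e (colimit D)).symm.injective h0

section Directed

variable [CompactSpace X] [PrespectralSpace X] [QuasiSeparatedSpace X]

/-- vanishing of cohomology for a directed union of concrete subsheaves. -/
lemma cv_of_directed (N : ℕ) (ι : Type u) [Preorder ι] [IsDirected ι (· ≤ ·)] [Nonempty ι]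
    (S : ι → SubF X) (hmono : ∀ i j, i ≤ j → S i ≤ S j) (T : SubF X) (hle : ∀ i, S i ≤ T)
    (hcov : ∀ (V : Opens X) (f : V → ℤ), f ∈ T.carrier V → ∀ x : V,
      ∃ (V' : Opens X) (h : V' ≤ V) (i : ι), x.1 ∈ V' ∧ resF h f ∈ (S i).carrier V')
    (hS : ∀ i, CV N (S i).sheaf) : CV N T.sheaf := by
  let D : ι ⥤ MonoOver T.sheaf :=
    { obj := fun i => MonoOver.mk (SubF.incl (hle i))
      map := fun {i j} h => MonoOver.homMk (SubF.incl (hmono i j (leOfHom h))) rfl
      map_id := fun _ => Subsingleton.elim _ _
      map_comp := fun _ _ => Subsingleton.elim _ _ }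
  let D' : ι ⥤ CohTop.Ab X := D ⋙ MonoOver.forget _ ⋙ Over.forget _
  let cc : Cocone D' := ⟨T.sheaf, { app := fun j => (D.obj j).obj.hom
                                    naturality := fun j j' g => by
                                      have := MonoOver.w (D.map g)
                                      simpa [D'] using this }⟩
  let f : colimit D' ⟶ T.sheaf := colimit.desc D' cc
  have hf : ∀ j, colimit.ι D' j ≫ f = (D.obj j).obj.hom := fun j => colimit.ι_desc cc j
  haveI : Mono f := IsGrothendieckAbelian.mono_of_isColimit_monoOver D (colimit.isColimit D') f hf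
  haveI : Epi f := by
    rw [locSurj_iff]
    intro V t x hx
    obtain ⟨V', h, i, hxV', hmem⟩ := hcov V (T.val t) (T.val_mem t) ⟨x, hx⟩
    refine ⟨V', h, ⟨(colimit.ι D' i).hom.app (op V') ((S i).sec _ hmem), ?_⟩, hxV'⟩
    have h1 := congrArg (fun m => m.hom.app (op V') ((S i).sec _ hmem)) (hf i)
    refine Eq.trans h1 ?_
    apply T.val_injective
    rfl
  haveI : IsIso f := isIso_of_mono_of_epi f
  exact cv_iso (asIso f) (colim_closure' N ι D' hS)

end Directed

end Groth.Agent.Lib.Helper19SV
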