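import Mathlib
import Groth.Prelude.Def_CohTop
import Groth.Agent.Lib.Helper19SVB
import Groth.Agent.Lib.Helper16SectSupp

/-!
# Vanishing via extensions by zero, part C (helper19): subsheaves of the constant sheaf

`LCtop X` is the sheaf of locally constant `ℤ`-valued functions, `LC A` the subsheaf of those supported in
the open `A` (a model of `j_! ℤ_A`).  For `K ≤ LCtop X` we define the opens `Vc K c` (the largest open on
which the constant `c` is a section of `K`) and `UN K n = ⋃_{1 ≤ c ≤ n} Vc K c`, and prove that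
`K.supp (UN K (n+1)) / K.supp (UN K n) ≅ LC (Vc K (n+1)) / LC (Vc K (n+1) ⊓ UN K n)`; this gives the
vanishing of cohomology for all `K` from the vanishing for all `LC A` (`cv_sub_LC`).
-/

set_option autoImplicit false
set_option linter.style.haveILetI false
universe u
open CategoryTheory CategoryTheory.Limits Opposite TopologicalSpace

namespace Groth.Agent.Lib.Helper19SV

open Groth.Agent.Lib.Helper16.ClosedEmb Groth.Agent.Lib.Helper19GV

variable {X : TopCat.{u}}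

/-- local constancy. -/
def IsLC {V : Opens X} (f : V → ℤ) : Prop :=
  ∀ x : V, ∃ V' : Opens X, x.1 ∈ V' ∧ ∀ y : V, y.1 ∈ V' → f y = f x

lemma isLC_const {V : Opens X} (c : ℤ) : IsLC (fun _ : V => c) := fun _ => ⟨⊤, trivial, fun _ _ => rfl⟩

/-- the sheaf of locally constant functions. -/
def LCtop (X : TopCat.{u}) : SubF X where
  carrier V :=
    { carrier := {f | IsLC f}
      zero_mem' := isLC_const 0
      add_mem' := fun {a b} ha hb x => by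
        obtain ⟨V₁, hx₁, h₁⟩ := ha x
        obtain ⟨V₂, hx₂, h₂⟩ := hb x
        exact ⟨V₁ ⊓ V₂, ⟨hx₁, hx₂⟩, fun y hy => by
          change a y + b y = a x + b x
          rw [h₁ y hy.1, h₂ y hy.2]⟩
      neg_mem' := fun {a} ha x => by
        obtain ⟨V₁, hx₁, h₁⟩ := ha x
        exact ⟨V₁, hx₁, fun y hy => by
          change - a y = - a x
          rw [h₁ y hy]⟩ }
  res := fun {V V'} h f hf x => by
    obtain ⟨V₁, hx₁, h₁⟩ := hf ⟨x.1, h x.2⟩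
    exact ⟨V₁, hx₁, fun y hy => h₁ ⟨y.1, h y.2⟩ hy⟩
  loc := fun V f hf x => by
    obtain ⟨V', h, hxV', hmem⟩ := hf x
    obtain ⟨V₁, hx₁, h₁⟩ := hmem ⟨x.1, hxV'⟩
    exact ⟨V' ⊓ V₁, ⟨hxV', hx₁⟩, fun y hy => h₁ ⟨y.1, hy.1⟩ hy.2⟩

lemma mem_LCtop {V : Opens X} {f : V → ℤ} : f ∈ (LCtop X).carrier V ↔ IsLC f := Iff.rfl

/-- the sheaf of locally constant functions supported in `A` (extension by zero of the constant sheaf). -/
def LC (A : Opens X) : SubF X := (LCtop X).supp A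

lemma mem_LC {A V : Opens X} {f : V → ℤ} :
    f ∈ (LC A).carrier V ↔ IsLC f ∧ ∀ x : V, f x ≠ 0 → x.1 ∈ A := Iff.rfl

section Strata

variable (K : SubF X)

/-- the largest open on which the constant function `c` is a section of `K`. -/
def Vc (c : ℤ) : Opens X := sSup {V : Opens X | (fun _ : V => c) ∈ K.carrier V}

lemma le_Vc {c : ℤ} {V : Opens X} (h : (fun _ : V => c) ∈ K.carrier V) : V ≤ Vc K c := le_sSup h

lemma const_mem_Vc (c : ℤ) : (fun _ : Vc K c => c) ∈ K.carrier (Vc K c) := by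
  refine K.loc _ _ (fun x => ?_)
  obtain ⟨V, hV, hxV⟩ := Opens.mem_sSup.mp x.2
  exact ⟨V, le_sSup hV, hxV, hV⟩

lemma const_mem_of_le {c : ℤ} {V : Opens X} (h : V ≤ Vc K c) : (fun _ : V => c) ∈ K.carrier V :=
  K.res h _ (const_mem_Vc K c)

lemma Vc_neg (c : ℤ) : Vc K (-c) = Vc K c := by
  apply le_antisymm
  · apply le_Vc
    have := (K.carrier _).neg_mem (const_mem_Vc K (-c))
    convert this using 1
    funext x
    simp
  · apply le_Vc
    exact (K.carrier _).neg_mem (const_mem_Vc K c)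

lemma Vc_natAbs (c : ℤ) : Vc K (c.natAbs : ℤ) = Vc K c := by
  rcases Int.natAbs_eq c with h | h
  · rw [← h]
  · rw [← Vc_neg, ← h]

lemma Vc_gcd (a b : ℤ) : Vc K a ⊓ Vc K b ≤ Vc K (Int.gcd a b : ℤ) := by
  apply le_Vc
  have h1 := const_mem_of_le K (inf_le_left : Vc K a ⊓ Vc K b ≤ Vc K a)
  have h2 := const_mem_of_le K (inf_le_right : Vc K a ⊓ Vc K b ≤ Vc K b)
  have h3 := (K.carrier _).add_mem ((K.carrier _).zsmul_mem h1 (Int.gcdA a b))
    ((K.carrier _).zsmul_mem h2 (Int.gcdB a b))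
  convert h3 using 1
  funext x
  rw [Int.gcd_eq_gcd_ab a b]
  simp [mul_comm]

/-- values of sections of `K` at `x` put `x` in the corresponding stratum. -/
lemma mem_Vc_of_mem (hK : K ≤ LCtop X) {V : Opens X} {f : V → ℤ} (hf : f ∈ K.carrier V) (x : V) :
    x.1 ∈ Vc K (f x) := by
  obtain ⟨V₁, hx₁, h₁⟩ := (hK V hf) x
  have hle : V ⊓ V₁ ≤ Vc K (f x) := by
    apply le_Vc
    have := K.res (inf_le_left : V ⊓ V₁ ≤ V) f hf
    convert this using 1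
    funext y
    exact (h₁ ⟨y.1, y.2.1⟩ y.2.2).symm
  exact hle ⟨x.2, hx₁⟩

/-- the union of the strata `Vc K c`, `1 ≤ c ≤ n`. -/
def UN (n : ℕ) : Opens X := sSup {V : Opens X | ∃ c : ℕ, 1 ≤ c ∧ c ≤ n ∧ V = Vc K (c : ℤ)}

lemma mem_UN {n : ℕ} {x : X} : x ∈ UN K n ↔ ∃ c : ℕ, 1 ≤ c ∧ c ≤ n ∧ x ∈ Vc K (c : ℤ) := by
  constructor
  · intro hx
    obtain ⟨V, ⟨c, h1, h2, rfl⟩, hxV⟩ := Opens.mem_sSup.mp hx
    exact ⟨c, h1, h2, hxV⟩
  · rintro ⟨c, h1, h2, hx⟩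
    exact Opens.mem_sSup.mpr ⟨_, ⟨c, h1, h2, rfl⟩, hx⟩

lemma UN_mono {n m : ℕ} (h : n ≤ m) : UN K n ≤ UN K m := by
  intro x hx
  obtain ⟨c, h1, h2, hxc⟩ := (mem_UN K).1 hx
  exact (mem_UN K).2 ⟨c, h1, h2.trans h, hxc⟩

lemma Vc_le_UN (n : ℕ) (hn : 1 ≤ n) : Vc K (n : ℤ) ≤ UN K n :=
  fun _ hx => (mem_UN K).2 ⟨n, hn, le_rfl, hx⟩

lemma UN_zero : UN K 0 = ⊥ := by
  ext x
  simp only [Opens.coe_bot, Set.mem_empty_iff_false, iff_false]
  intro hx
  obtain ⟨c, h1, h2, _⟩ := (mem_UN K).1 hx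
  omega

lemma mem_Vc_of_mem_UN_succ {n : ℕ} {x : X} (hx : x ∈ UN K (n + 1)) (hx' : x ∉ UN K n) :
    x ∈ Vc K ((n + 1 : ℕ) : ℤ) := by
  obtain ⟨c, h1, h2, hxc⟩ := (mem_UN K).1 hx
  by_cases hc : c ≤ n
  · exact absurd ((mem_UN K).2 ⟨c, h1, hc, hxc⟩) hx'
  · have : c = n + 1 := by omega
    rw [← this]
    exact hxc

/-- on the stratum `UN (n+1) ∖ UN n` all values of sections of `K` are multiples of `n + 1`. -/
lemma dvd_of_mem (hK : K ≤ LCtop X) {n : ℕ} {V : Opens X} {f : V → ℤ} (hf : f ∈ K.carrier V) (x : V)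
    (hx : x.1 ∈ UN K (n + 1)) (hx' : x.1 ∉ UN K n) : ((n + 1 : ℕ) : ℤ) ∣ f x := by
  by_cases h0 : f x = 0
  · rw [h0]
    exact dvd_zero _
  have h1 : x.1 ∈ Vc K (f x) := mem_Vc_of_mem K hK hf x
  have h2 : x.1 ∈ Vc K ((n + 1 : ℕ) : ℤ) := mem_Vc_of_mem_UN_succ K hx hx'
  have h3 : x.1 ∈ Vc K (Int.gcd (f x) ((n + 1 : ℕ) : ℤ) : ℤ) := Vc_gcd K _ _ ⟨h1, h2⟩
  have hg1 : 1 ≤ Int.gcd (f x) ((n + 1 : ℕ) : ℤ) :=
    Nat.one_le_iff_ne_zero.2 (fun h => h0 ((Int.gcd_eq_zero_iff.1 h).1))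
  have hg2 : Int.gcd (f x) ((n + 1 : ℕ) : ℤ) ≤ n + 1 := by
    have := Int.gcd_le_natAbs_right (f x) (b := ((n + 1 : ℕ) : ℤ)) (by
      exact_mod_cast Nat.succ_ne_zero n)
    rwa [Int.natAbs_natCast] at this
  by_cases hg : Int.gcd (f x) ((n + 1 : ℕ) : ℤ) ≤ n
  · exact absurd ((mem_UN K).2 ⟨_, hg1, hg, h3⟩) hx'
  · have hgeq : Int.gcd (f x) ((n + 1 : ℕ) : ℤ) = n + 1 := by omega
    have := Int.gcd_dvd_left (f x) ((n + 1 : ℕ) : ℤ)
    rw [hgeq] at this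
    exact this

end Strata

end Groth.Agent.Lib.Helper19SV
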