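import Mathlib
import Groth.Prelude.Def_CohTop
import Groth.Agent.Lib.Helper19SVC

/-!
# Vanishing via extensions by zero, part D (helper19): the filtration step and the key lemma

`cv_step`: passage from `K.supp U'` to `K.supp U` when `U = U' ∪ V₀`, the constant `n₀ ≠ 0` is a section of `K`
on `V₀` and all values of sections of `K` on `U ∖ U'` are multiples of `n₀`.
`cv_sub_LC`: if all `LC A` have vanishing cohomology in degrees `≥ N`, so do all subsheaves of the sheaf of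
locally constant functions.
-/

set_option autoImplicit false
set_option linter.style.haveILetI false
universe u
open CategoryTheory CategoryTheory.Limits Opposite TopologicalSpace

namespace Groth.Agent.Lib.Helper19SV

open Groth.Agent.Lib.Helper16.ClosedEmb Groth.Agent.Lib.Helper19GV Groth.Agent.Lib.Helper16.SectSupp

variable {X : TopCat.{u}}

lemma naturality_apply {A B : CohTop.Ab X} (g : A ⟶ B) {V V' : Opens X} (h : V' ≤ V)
    (s : A.obj.obj (op V)) :
    g.hom.app (op V') (A.obj.map (homOfLE h).op s) = B.obj.map (homOfLE h).op (g.hom.app (op V) s) :=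
  ConcreteCategory.congr_hom (g.hom.naturality (homOfLE h).op) s

/-- the filtration step. -/
lemma cv_step (N : ℕ) (K : SubF X) (hK : K ≤ LCtop X) (U' U V₀ : Opens X) (n₀ : ℤ) (hn₀ : n₀ ≠ 0)
    (ha : U' ≤ U) (hb : V₀ ≤ U) (hc : ∀ x : X, x ∈ U → x ∉ U' → x ∈ V₀)
    (hd : (fun _ : V₀ => n₀) ∈ K.carrier V₀)
    (he : ∀ (V : Opens X) (f : V → ℤ), f ∈ K.carrier V → ∀ x : V, x.1 ∈ U → x.1 ∉ U' → n₀ ∣ f x)
    (hLC : ∀ A : Opens X, CV N (LC A).sheaf) (h' : CV N (K.supp U').sheaf) :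
    CV N (K.supp U).sheaf := by
  -- first short exact sequence
  let i : (K.supp U').sheaf ⟶ (K.supp U).sheaf := SubF.incl (K.supp_mono ha)
  let S₁ : ShortComplex (CohTop.Ab X) := ShortComplex.mk i (cokernel.π i) (cokernel.condition i)
  have hS₁ : S₁.ShortExact :=
    { exact := ShortComplex.exact_cokernel i
      mono_f := (inferInstance : Mono i)
      epi_g := (inferInstance : Epi (cokernel.π i)) }
  -- multiplication by `n₀`
  have hmulK : ∀ (V : Opens X) (f : V → ℤ), f ∈ (LC V₀).carrier V → n₀ • f ∈ K.carrier V := by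
    intro V f hf
    refine K.loc V _ (fun x => ?_)
    obtain ⟨V₁, hx₁, h₁⟩ := hf.1 x
    by_cases h0 : f x = 0
    · refine ⟨V ⊓ V₁, inf_le_left, ⟨x.2, hx₁⟩, ?_⟩
      convert (K.carrier (V ⊓ V₁)).zero_mem using 1
      funext y
      change n₀ • f ⟨y.1, y.2.1⟩ = 0
      rw [h₁ ⟨y.1, y.2.1⟩ y.2.2, h0, smul_zero]
    · have hxV₀ : x.1 ∈ V₀ := hf.2 x h0
      refine ⟨V ⊓ V₁ ⊓ V₀, inf_le_left.trans inf_le_left, ⟨⟨x.2, hx₁⟩, hxV₀⟩, ?_⟩
      have := (K.carrier _).zsmul_mem (K.res (inf_le_right : V ⊓ V₁ ⊓ V₀ ≤ V₀) _ hd) (f x)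
      convert this using 1
      funext y
      change n₀ • f ⟨y.1, y.2.1.1⟩ = f x • n₀
      rw [h₁ ⟨y.1, y.2.1.1⟩ y.2.1.2, smul_eq_mul, smul_eq_mul, mul_comm]
  have hsuppmul : ∀ (V : Opens X) (f : V → ℤ) (x : V), (n₀ • f) x ≠ 0 → f x ≠ 0 := by
    intro V f x hx h0
    apply hx
    change n₀ • f x = 0
    rw [h0, smul_zero]
  have hmul : ∀ (V : Opens X) (f : V → ℤ), f ∈ (LC V₀).carrier V → n₀ • f ∈ (K.supp U).carrier V :=
    fun V f hf => ⟨hmulK V f hf, fun x hx => hb (hf.2 x (hsuppmul V f x hx))⟩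
  have hmul' : ∀ (V : Opens X) (f : V → ℤ), f ∈ (LC (V₀ ⊓ U')).carrier V →
      n₀ • f ∈ (K.supp U').carrier V :=
    fun V f hf => ⟨hmulK V f (SubF.supp_mono _ inf_le_left V hf),
      fun x hx => (hf.2 x (hsuppmul V f x hx)).2⟩
  let m : (LC V₀).sheaf ⟶ (K.supp U).sheaf := SubF.mul n₀ hmul
  let m' : (LC (V₀ ⊓ U')).sheaf ⟶ (K.supp U').sheaf := SubF.mul n₀ hmul'
  let j : (LC (V₀ ⊓ U')).sheaf ⟶ (LC V₀).sheaf := SubF.incl (SubF.supp_mono _ inf_le_left)
  have hjm : j ≫ m = m' ≫ i := rfl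
  let ψ : (LC V₀).sheaf ⟶ cokernel i := m ≫ cokernel.π i
  have w : j ≫ ψ = 0 := by
    change j ≫ m ≫ cokernel.π i = 0
    rw [← Category.assoc, hjm, Category.assoc, cokernel.condition, comp_zero]
  -- ψ is an epimorphism
  haveI : Epi ψ := by
    rw [locSurj_iff]
    intro V q x hx
    obtain ⟨V₁, hV₁, ⟨s, hs⟩, hxV₁⟩ := (locSurj_iff (cokernel.π i)).1 inferInstance V q x hx
    have hsK : (K.supp U).val s ∈ (K.supp U).carrier V₁ := (K.supp U).val_mem s
    obtain ⟨V₂, hx₂, h₂⟩ := (hK V₁ hsK.1) ⟨x, hxV₁⟩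
    -- reduction: if `s` restricted to `W` lies in `K.supp U'`, we are done
    have red : ∀ (W : Opens X) (hW : W ≤ V₁), x ∈ W →
        resF hW ((K.supp U).val s) ∈ (K.supp U').carrier W →
        ∃ (V' : Opens X) (h : V' ≤ V), (∃ t : ToType ((LC V₀).sheaf.obj.obj (op V')),
          ψ.hom.app (op V') t = (cokernel i).obj.map (homOfLE h).op q) ∧ x ∈ V' := by
      intro W hW hxW hmem
      refine ⟨W, hW.trans hV₁, ⟨0, ?_⟩, hxW⟩
      rw [map_zero]
      have h1 : (cokernel i).obj.map (homOfLE (hW.trans hV₁)).op q =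
          (cokernel i).obj.map (homOfLE hW).op ((cokernel i).obj.map (homOfLE hV₁).op q) :=
        (map_map_apply (cokernel i) (homOfLE hV₁) (homOfLE hW) (homOfLE (hW.trans hV₁)) q).symm
      rw [h1, ← hs, ← naturality_apply]
      have h2 : (K.supp U).sheaf.obj.map (homOfLE hW).op s =
          i.hom.app (op W) ((K.supp U').sec _ hmem) := by
        apply (K.supp U).val_injective
        rfl
      rw [h2]
      have := congrArg (fun φ => φ.hom.app (op W) ((K.supp U').sec _ hmem)) (cokernel.condition i)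
      exact this.symm
    by_cases hxU' : x ∈ U'
    · refine red (V₁ ⊓ V₂ ⊓ U') (inf_le_left.trans inf_le_left) ⟨⟨hxV₁, hx₂⟩, hxU'⟩ ?_
      exact ⟨K.res _ _ hsK.1, fun y _ => y.2.2⟩
    by_cases h0 : (K.supp U).val s ⟨x, hxV₁⟩ = 0
    · refine red (V₁ ⊓ V₂) inf_le_left ⟨hxV₁, hx₂⟩ ?_
      convert ((K.supp U').carrier (V₁ ⊓ V₂)).zero_mem using 1
      funext y
      change (K.supp U).val s ⟨y.1, y.2.1⟩ = 0
      rw [h₂ ⟨y.1, y.2.1⟩ y.2.2, h0]
    · have hxU : x ∈ U := hsK.2 ⟨x, hxV₁⟩ h0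
      have hxV₀ : x ∈ V₀ := hc x hxU hxU'
      obtain ⟨b, hb'⟩ := he V₁ _ hsK.1 ⟨x, hxV₁⟩ hxU hxU'
      let W : Opens X := V₁ ⊓ V₂ ⊓ V₀
      have hWV₁ : W ≤ V₁ := inf_le_left.trans inf_le_left
      have htmem : (fun _ : W => b) ∈ (LC V₀).carrier W := ⟨isLC_const b, fun y _ => y.2.2⟩
      refine ⟨W, hWV₁.trans hV₁, ⟨(LC V₀).sec _ htmem, ?_⟩, ⟨⟨hxV₁, hx₂⟩, hxV₀⟩⟩
      have h1 : (cokernel i).obj.map (homOfLE (hWV₁.trans hV₁)).op q =
          (cokernel i).obj.map (homOfLE hWV₁).op ((cokernel i).obj.map (homOfLE hV₁).op q) :=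
        (map_map_apply (cokernel i) (homOfLE hV₁) (homOfLE hWV₁) (homOfLE (hWV₁.trans hV₁)) q).symm
      rw [h1, ← hs, ← naturality_apply]
      change (cokernel.π i).hom.app (op W) (m.hom.app (op W) ((LC V₀).sec _ htmem)) = _
      congr 1
      apply (K.supp U).val_injective
      funext y
      change n₀ • b = (K.supp U).val s ⟨y.1, hWV₁ y.2⟩
      rw [h₂ ⟨y.1, hWV₁ y.2⟩ y.2.1.2, hb', smul_eq_mul]
  -- exactness in the middle
  have hex : ∀ (V : Opens X) (t : (LC V₀).sheaf.obj.obj (op V)), ψ.hom.app (op V) t = 0 →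
      ∃ a : (LC (V₀ ⊓ U')).sheaf.obj.obj (op V), j.hom.app (op V) a = t := by
    intro V t ht
    obtain ⟨s', hs'⟩ := exists_of_isKernel S₁ hS₁ V (m.hom.app (op V) t) ht
    have hval : (K.supp U').val s' = n₀ • (LC V₀).val t := by
      have := congrArg (K.supp U).val hs'
      exact this
    have hmem : (LC V₀).val t ∈ (LC (V₀ ⊓ U')).carrier V := by
      refine ⟨((LC V₀).val_mem t).1, fun x hx => ⟨((LC V₀).val_mem t).2 x hx, ?_⟩⟩
      apply ((K.supp U').val_mem s').2 x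
      rw [hval]
      change n₀ • (LC V₀).val t x ≠ 0
      rw [smul_eq_mul]
      exact mul_ne_zero hn₀ hx
    refine ⟨(LC (V₀ ⊓ U')).sec _ hmem, ?_⟩
    apply (LC V₀).val_injective
    rfl
  have hS₂ : (ShortComplex.mk j ψ w).ShortExact :=
    shortExact_of_sections j ψ w (SubF.incl_injective _) hex
  have hQ : CV N (cokernel i) :=
    cv_right (ShortComplex.mk j ψ w) hS₂ (hLC V₀) (cv_mono (Nat.le_succ N) (hLC (V₀ ⊓ U')))
  exact cv_ext S₁ hS₁ h' hQ

section Key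

variable [CompactSpace X] [PrespectralSpace X] [QuasiSeparatedSpace X]

/-- all subsheaves of the sheaf of locally constant functions have vanishing cohomology in degrees `≥ N`,
provided the sheaves `LC A` do. -/
theorem cv_sub_LC (N : ℕ) (hLC : ∀ A : Opens X, CV N (LC A).sheaf) (K : SubF X) (hK : K ≤ LCtop X) :
    CV N K.sheaf := by
  have hfilt : ∀ n : ℕ, CV N (K.supp (UN K n)).sheaf := by
    intro n
    induction n with
    | zero =>
      refine cv_zero (SubF.isZero_sheaf _ (fun V f hf => ?_))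
      funext x
      by_contra hx
      have := hf.2 x hx
      rw [UN_zero] at this
      exact this
    | succ n ih =>
      refine cv_step N K hK (UN K n) (UN K (n + 1)) (Vc K ((n + 1 : ℕ) : ℤ)) ((n + 1 : ℕ) : ℤ)
        (by exact_mod_cast Nat.succ_ne_zero n) (UN_mono K (Nat.le_succ n))
        (Vc_le_UN K (n + 1) (by omega)) (fun x hx hx' => mem_Vc_of_mem_UN_succ K hx hx')
        (const_mem_Vc K _) (fun V f hf x hx hx' => dvd_of_mem K hK hf x hx hx') hLC ih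
  refine cv_of_directed N (ULift.{u} ℕ) (fun n => K.supp (UN K n.down))
    (fun i j hij => K.supp_mono (UN_mono K (ULift.down_le.2 hij))) K
    (fun n => K.supp_le _) ?_ (fun n => hfilt n.down)
  intro V f hf x
  obtain ⟨V₁, hx₁, h₁⟩ := (hK V hf) x
  by_cases h0 : f x = 0
  · refine ⟨V ⊓ V₁, inf_le_left, ⟨0⟩, ⟨x.2, hx₁⟩, ?_⟩
    convert ((K.supp (UN K 0)).carrier (V ⊓ V₁)).zero_mem using 1
    funext y
    change f ⟨y.1, y.2.1⟩ = 0
    rw [h₁ ⟨y.1, y.2.1⟩ y.2.2, h0]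
  · refine ⟨V ⊓ V₁, inf_le_left, ⟨(f x).natAbs⟩, ⟨x.2, hx₁⟩, K.res _ _ hf, fun y _ => ?_⟩
    have hy : f ⟨y.1, y.2.1⟩ = f x := h₁ ⟨y.1, y.2.1⟩ y.2.2
    have h1 : y.1 ∈ Vc K (f ⟨y.1, y.2.1⟩) := mem_Vc_of_mem K hK hf ⟨y.1, y.2.1⟩
    rw [hy, ← Vc_natAbs] at h1
    exact (mem_UN K).2 ⟨(f x).natAbs, Nat.one_le_iff_ne_zero.2 (Int.natAbs_ne_zero.2 h0), le_rfl, h1⟩

end Key

end Groth.Agent.Lib.Helper19SV
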