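import Mathlib
import Groth.Prelude.Def_CohTop
import Groth.Prelude.Def_FreeSh
import Groth.Agent.Lib.Helper19SVD

/-!
# Vanishing via extensions by zero, part E (helper19): the free sheaf `ℤ_A` is `LC A`; the main theorem

* `freeIso A : CohCx.freeSheaf _ A ≅ (LC A).sheaf`;
* `vanishing_main`: on a quasi-compact space whose quasi-compact opens form a basis stable under pairwise
  intersections, if `H^p(X, ℤ_U) = 0` for `p > d` and all quasi-compact opens `U` then `H^p(X, F) = 0` for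
  `p > d` and all abelian sheaves `F`.
-/

set_option autoImplicit false
set_option linter.style.haveILetI false
universe u
open CategoryTheory CategoryTheory.Limits Opposite TopologicalSpace

namespace Groth.Agent.Lib.Helper19SV

open Groth.Agent.Lib.Helper16.ClosedEmb Groth.Agent.Lib.Helper19GV Groth.Agent.Lib.Helper16.SectSupp

variable {X : TopCat.{u}}

lemma free_subsingleton {α : Type u} [Subsingleton α] (p : FreeAbelianGroup α) (a : α) :
    ∃ c : ℤ, p = c • FreeAbelianGroup.of a := by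
  induction p using FreeAbelianGroup.induction_on with
  | zero => exact ⟨0, (zero_smul _ _).symm⟩
  | of x => exact ⟨1, by rw [one_smul, Subsingleton.elim x a]⟩
  | neg x ih =>
    obtain ⟨c, hc⟩ := ih
    exact ⟨-c, by rw [hc, neg_smul]⟩
  | add x y hx hy =>
    obtain ⟨c, hc⟩ := hx
    obtain ⟨c', hc'⟩ := hy
    exact ⟨c + c', by rw [hc, hc', add_smul]⟩

lemma free_isEmpty {α : Type u} [IsEmpty α] (p : FreeAbelianGroup α) : p = 0 := by
  induction p using FreeAbelianGroup.induction_on with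
  | zero => rfl
  | of x => exact isEmptyElim x
  | neg x ih => rw [ih, neg_zero]
  | add x y hx hy => rw [hx, hy, add_zero]

noncomputable instance locSurj_unit (A : Opens X) :
    Presheaf.IsLocallySurjective (Opens.grothendieckTopology X)
      ((CohFree.shAdj (Opens.grothendieckTopology X)).unit.app (CohFree.freePre A)) :=
  inferInstanceAs (Presheaf.IsLocallySurjective (Opens.grothendieckTopology X)
    (toSheafify (Opens.grothendieckTopology X) (CohFree.freePre A)))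

/-- local structure of the sections of the free sheaf `ℤ_A`. -/
lemma free_local (A V : Opens X) (t : (CohCx.freeSheaf (J X) A).obj.obj (op V)) (x : X) (hx : x ∈ V) :
    ∃ (V' : Opens X) (h : V' ≤ V), x ∈ V' ∧
      ((∃ (hA : V' ≤ A) (c : ℤ), (CohCx.freeSheaf (J X) A).obj.map (homOfLE h).op t =
          c • (CohCx.freeSheaf (J X) A).obj.map (homOfLE hA).op (CohFree.gen (J X) A)) ∨
        (CohCx.freeSheaf (J X) A).obj.map (homOfLE h).op t = 0) := by
  have h1 := Presheaf.imageSieve_mem (Opens.grothendieckTopology X)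
    ((CohFree.shAdj (Opens.grothendieckTopology X)).unit.app (CohFree.freePre A)) (U := op V) t
  obtain ⟨V', f, hf, hxV'⟩ := h1 x hx
  let u : FreeAbelianGroup (V' ⟶ A) →+ ((CohCx.freeSheaf (J X) A).obj.obj (op V')) :=
    (((CohFree.shAdj (J X)).unit.app (CohFree.freePre A)).app (op V')).hom
  have hp2 : ∃ p : FreeAbelianGroup (V' ⟶ A),
      u p = (CohCx.freeSheaf (J X) A).obj.map (homOfLE f.le).op t := hf
  obtain ⟨p, hp⟩ := hp2
  refine ⟨V', f.le, hxV', ?_⟩
  by_cases hA : V' ≤ A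
  · left
    obtain ⟨c, hc⟩ := free_subsingleton (α := (V' ⟶ A)) p (homOfLE hA)
    refine ⟨hA, c, ?_⟩
    have h2 : u p = c • u (FreeAbelianGroup.of (homOfLE hA)) := by rw [hc, map_zsmul]
    have h3 : u (FreeAbelianGroup.of (homOfLE hA)) =
        (CohCx.freeSheaf (J X) A).obj.map (homOfLE hA).op (CohFree.gen (J X) A) :=
      CohFree.unit_app_of (J X) A (T := op V') (homOfLE hA)
    rw [← hp, h2, h3]
  · right
    haveI : IsEmpty (V' ⟶ A) := ⟨fun g => hA g.le⟩
    rw [← hp, free_isEmpty (α := (V' ⟶ A)) p, map_zero]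

/-- the section `1` of `LC A` over `A`. -/
def oneLC (A : Opens X) : (LC A).sheaf.obj.obj (op A) :=
  (LC A).sec (fun _ => 1) ⟨isLC_const 1, fun x _ => x.2⟩

/-- the comparison map `ℤ_A ⟶ LC A`. -/
noncomputable def freeToLC (A : Opens X) : CohCx.freeSheaf (J X) A ⟶ (LC A).sheaf :=
  CohFree.ofSect (J X) A (LC A).sheaf (oneLC A)

lemma freeToLC_gen (A : Opens X) : (freeToLC A).hom.app (op A) (CohFree.gen (J X) A) = oneLC A :=
  CohFree.evalGen_ofSect (J X) A (LC A).sheaf (oneLC A)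

lemma val_zsmul (K : SubF X) {V : Opens X} (c : ℤ) (s : K.sheaf.obj.obj (op V)) :
    K.val (c • s) = c • K.val s :=
  AddSubgroup.coe_zsmul _ _ _

lemma freeToLC_smul_gen (A : Opens X) {V : Opens X} (hA : V ≤ A) (c : ℤ) :
    (LC A).val ((freeToLC A).hom.app (op V)
      (c • (CohCx.freeSheaf (J X) A).obj.map (homOfLE hA).op (CohFree.gen (J X) A))) = fun _ => c := by
  rw [map_zsmul, naturality_apply, freeToLC_gen, val_zsmul]
  funext y
  change c • (1 : ℤ) = c
  rw [smul_eq_mul, mul_one]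

lemma freeToLC_injective (A V : Opens X) : Function.Injective ((freeToLC A).hom.app (op V)) := by
  rw [injective_iff_map_eq_zero]
  intro t ht
  choose V' hV' hxV' hcase using fun x : V => free_local A V t x.1 x.2
  refine TopCat.Sheaf.eq_of_locally_eq' (CohCx.freeSheaf (J X) A) V' V (fun x => homOfLE (hV' x))
    (fun x hxV => Opens.mem_iSup.mpr ⟨⟨x, hxV⟩, hxV' ⟨x, hxV⟩⟩) t 0 (fun x => ?_)
  rw [map_zero]
  rcases hcase x with ⟨hA, c, hc⟩ | h0
  · have h1 : (freeToLC A).hom.app (op (V' x)) ((CohCx.freeSheaf (J X) A).obj.map (homOfLE (hV' x)).op t) = 0 := by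
      rw [naturality_apply, ht, map_zero]
    rw [hc] at h1
    have h2 := congrArg (LC A).val h1
    rw [freeToLC_smul_gen] at h2
    have h3 : c = 0 := congrFun h2 ⟨x.1, hxV' x⟩
    refine hc.trans ?_
    rw [h3, zero_smul]
  · exact h0

instance mono_freeToLC (A : Opens X) : Mono (freeToLC A) := mono_of_injective _ (freeToLC_injective A)

instance epi_freeToLC (A : Opens X) : Epi (freeToLC A) := by
  rw [locSurj_iff]
  intro V s x hx
  obtain ⟨V₁, hx₁, h₁⟩ := ((LC A).val_mem s).1 ⟨x, hx⟩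
  by_cases h0 : (LC A).val s ⟨x, hx⟩ = 0
  · refine ⟨V ⊓ V₁, inf_le_left, ⟨0, ?_⟩, ⟨hx, hx₁⟩⟩
    rw [map_zero]
    apply (LC A).val_injective
    funext y
    change (0 : ℤ) = (LC A).val s ⟨y.1, y.2.1⟩
    rw [h₁ ⟨y.1, y.2.1⟩ y.2.2, h0]
  · have hxA : x ∈ A := ((LC A).val_mem s).2 ⟨x, hx⟩ h0
    have hWA : V ⊓ V₁ ⊓ A ≤ A := inf_le_right
    refine ⟨V ⊓ V₁ ⊓ A, inf_le_left.trans inf_le_left,
      ⟨(LC A).val s ⟨x, hx⟩ • (CohCx.freeSheaf (J X) A).obj.map (homOfLE hWA).op (CohFree.gen (J X) A), ?_⟩,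
      ⟨⟨hx, hx₁⟩, hxA⟩⟩
    apply (LC A).val_injective
    rw [freeToLC_smul_gen]
    funext y
    exact (h₁ ⟨y.1, y.2.1.1⟩ y.2.1.2).symm

instance isIso_freeToLC (A : Opens X) : IsIso (freeToLC A) := isIso_of_mono_of_epi _

section Main

variable [CompactSpace X] [PrespectralSpace X] [QuasiSeparatedSpace X] (d : ℕ)
  (h : ∀ (U : Opens X), IsCompact (U : Set X) → ∀ p : ℕ, d < p →
    Subsingleton (CohTop.H (CohCx.freeSheaf (Opens.grothendieckTopology X) U) p))

include h in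
lemma cv_LC_compact (A : Opens X) (hA : IsCompact (A : Set X)) : CV (d + 1) (LC A).sheaf :=
  cv_iso (asIso (freeToLC A)) (fun p hp => h A hA p (by omega))

include h in
lemma cv_LC_all (A : Opens X) : CV (d + 1) (LC A).sheaf := by
  let ι : Type u := {V : Opens X // IsCompact (V : Set X) ∧ V ≤ A}
  haveI : Nonempty ι := ⟨⟨⊥, by simp, bot_le⟩⟩
  haveI : IsDirected ι (· ≤ ·) := ⟨fun V₁ V₂ => ⟨⟨V₁.1 ⊔ V₂.1, by
    rw [Opens.coe_sup]
    exact V₁.2.1.union V₂.2.1, sup_le V₁.2.2 V₂.2.2⟩, le_sup_left (a := V₁.1), le_sup_right (b := V₂.1)⟩⟩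
  refine cv_of_directed (d + 1) ι (fun V => LC V.1) (fun V₁ V₂ h12 => SubF.supp_mono _ h12) (LC A)
    (fun V => SubF.supp_mono _ V.2.2) ?_ (fun V => cv_LC_compact d h V.1 V.2.1)
  intro V f hf x
  obtain ⟨V₁, hx₁, h₁⟩ := hf.1 x
  by_cases h0 : f x = 0
  · refine ⟨V ⊓ V₁, inf_le_left, ⟨⊥, by simp, bot_le⟩, ⟨x.2, hx₁⟩, ?_⟩
    convert ((LC (⊥ : Opens X)).carrier (V ⊓ V₁)).zero_mem using 1
    funext y
    change f ⟨y.1, y.2.1⟩ = 0
    rw [h₁ ⟨y.1, y.2.1⟩ y.2.2, h0]
  · have hxA : x.1 ∈ A := hf.2 x h0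
    obtain ⟨v, ⟨hvo, hvc⟩, hxv, hvW⟩ :=
      (PrespectralSpace.isTopologicalBasis (X := X)).exists_subset_of_mem_open
        (show x.1 ∈ ((V ⊓ V₁ ⊓ A : Opens X) : Set X) from ⟨⟨x.2, hx₁⟩, hxA⟩) (V ⊓ V₁ ⊓ A).isOpen
    let B : Opens X := ⟨v, hvo⟩
    have hBW : B ≤ V ⊓ V₁ ⊓ A := hvW
    refine ⟨B, hBW.trans (inf_le_left.trans inf_le_left), ⟨B, hvc, hBW.trans inf_le_right⟩, hxv, ?_⟩
    exact ⟨(LCtop X).res _ _ hf.1, fun y _ => y.2⟩

/-- the kernel of a map out of a concrete sheaf, as a concrete subsheaf. -/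
def kerF (T : SubF X) {Q : CohTop.Ab X} (π : T.sheaf ⟶ Q) : SubF X where
  carrier V :=
    { carrier := {f | ∃ hf : f ∈ T.carrier V, π.hom.app (op V) (T.sec f hf) = 0}
      zero_mem' := ⟨(T.carrier V).zero_mem, map_zero _⟩
      add_mem' := fun {a b} ha hb => by
        obtain ⟨ha1, ha2⟩ := ha
        obtain ⟨hb1, hb2⟩ := hb
        refine ⟨(T.carrier V).add_mem ha1 hb1, ?_⟩
        have : T.sec (a + b) ((T.carrier V).add_mem ha1 hb1) = T.sec a ha1 + T.sec b hb1 := rfl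
        rw [this, map_add, ha2, hb2, add_zero]
      neg_mem' := fun {a} ha => by
        obtain ⟨ha1, ha2⟩ := ha
        refine ⟨(T.carrier V).neg_mem ha1, ?_⟩
        have : T.sec (-a) ((T.carrier V).neg_mem ha1) = - T.sec a ha1 := rfl
        rw [this, map_neg, ha2, neg_zero] }
  res := fun {V V'} hVV' f hf => by
    obtain ⟨hf1, hf2⟩ := hf
    refine ⟨T.res hVV' f hf1, ?_⟩
    have : T.sec (resF hVV' f) (T.res hVV' f hf1) = T.sheaf.obj.map (homOfLE hVV').op (T.sec f hf1) := rfl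
    rw [this, naturality_apply, hf2, map_zero]
  loc := fun V f hf => by
    have hfT : f ∈ T.carrier V := by
      refine T.loc V f (fun x => ?_)
      obtain ⟨V', hV', hxV', hmem⟩ := hf x
      exact ⟨V', hV', hxV', hmem.1⟩
    refine ⟨hfT, ?_⟩
    choose V' hV' hxV' hmem using hf
    refine TopCat.Sheaf.eq_of_locally_eq' Q V' V (fun x => homOfLE (hV' x))
      (fun x hxV => Opens.mem_iSup.mpr ⟨⟨x, hxV⟩, hxV' ⟨x, hxV⟩⟩) _ 0 (fun x => ?_)
    rw [map_zero]
    obtain ⟨h1, h2⟩ := hmem x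
    rw [← naturality_apply]
    exact h2

lemma kerF_le (T : SubF X) {Q : CohTop.Ab X} (π : T.sheaf ⟶ Q) : kerF T π ≤ T := fun _ _ hf => hf.1

include h in
lemma cv_quot (V : Opens X) (Q : CohTop.Ab X) (π : (LC V).sheaf ⟶ Q) [Epi π] : CV (d + 1) Q := by
  let j : (kerF (LC V) π).sheaf ⟶ (LC V).sheaf := SubF.incl (kerF_le _ π)
  have w : j ≫ π = 0 := by
    apply Sheaf.hom_ext
    ext W s
    obtain ⟨hf1, hf2⟩ := (kerF (LC V) π).val_mem s
    exact hf2
  have hex : ∀ (W : Opens X) (b : (LC V).sheaf.obj.obj (op W)), π.hom.app (op W) b = 0 →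
      ∃ a : (kerF (LC V) π).sheaf.obj.obj (op W), j.hom.app (op W) a = b := by
    intro W b hb
    have hmem : (LC V).val b ∈ (kerF (LC V) π).carrier W := ⟨(LC V).val_mem b, hb⟩
    exact ⟨(kerF (LC V) π).sec _ hmem, rfl⟩
  have hS := shortExact_of_sections j π w (SubF.incl_injective _) hex
  have hK : CV (d + 1) (kerF (LC V) π).sheaf :=
    cv_sub_LC (d + 1) (cv_LC_all d h) _ (fun W f hf => (kerF_le _ π W hf).1)
  exact cv_right _ hS (cv_LC_all d h V) (cv_mono (Nat.le_succ _) hK)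

include h in
/-- **Main theorem.** -/
theorem vanishing_main (F : CohTop.Ab X) : CV (d + 1) F := by
  refine zorn_all (C := CohTop.Ab X) (CV (d + 1)) (fun e h => cv_iso e h) (fun A h => cv_zero h)
    (fun S hS h1 h3 => cv_ext S hS h1 h3) (fun ι _ _ _ D hD => colim_closure' (d + 1) ι D hD) ?_ F
  intro F F' m _ hm
  obtain ⟨V, hV⟩ := exists_not_surjective m hm
  have : ∃ s : F.obj.obj (op V), ∀ t, m.hom.app (op V) t ≠ s := by
    by_contra hcon
    push Not at hcon
    exact hV hcon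
  obtain ⟨s, hs⟩ := this
  refine ⟨(LC V).sheaf, inv (freeToLC V) ≫ CohFree.ofSect (J X) V F s,
    fun Q π _ => cv_quot d h V Q π, ?_⟩
  rintro ⟨τ, hτ⟩
  apply hs (CohFree.evalGen (J X) V F' (freeToLC V ≫ τ))
  have h1 : (freeToLC V ≫ τ) ≫ m = CohFree.ofSect (J X) V F s := by
    rw [Category.assoc, hτ, IsIso.hom_inv_id_assoc]
  rw [← evalGen_comp, h1, CohFree.evalGen_ofSect]

end Main

end Groth.Agent.Lib.Helper19SV
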