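import Mathlib.Algebra.Homology.DerivedCategory.Ext.Map
import Mathlib.Algebra.Homology.DerivedCategory.Ext.EnoughInjectives
import Mathlib.Algebra.Homology.DerivedCategory.Ext.ExactSequences

/-!
# Functoriality of `Abelian.Ext.mapExactFunctor` in the exact functor

For abelian categories with enough injectives in the source:
* `mapExactFunctor_natTrans`: naturality with respect to a natural transformation of exact functors,
* `mapExactFunctor_compFunctor`: compatibility with composition of exact functors,
* `mapExactFunctor_idFunctor`: the identity functor acts as the identity.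
-/

universe w w' w'' v v' v'' u u' u''

namespace Groth.Agent.Lib.Helper22

open CategoryTheory Abelian Limits

section Induction

variable {C : Type u} [Category.{v} C] [Abelian C] [HasExt.{w} C] [EnoughInjectives C]

/-- Induction principle on Ext classes in a category with enough injectives: every class is
either of degree zero or a composite of a class of lower degree with the class of a short exact
sequence. -/
theorem ext_induction
    (P : ∀ {X Y : C} {n : ℕ}, Ext.{w} X Y n → Prop)
    (h0 : ∀ {X Y : C} (f : X ⟶ Y), P (Ext.mk₀ f))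
    (hcomp : ∀ {X : C} {n : ℕ} (S : ShortComplex C) (hS : S.ShortExact) (x : Ext.{w} X S.X₃ n),
      P x → P (x.comp hS.extClass rfl))
    {X Y : C} {n : ℕ} (x : Ext.{w} X Y n) : P x := by
  induction n generalizing X Y with
  | zero =>
    obtain ⟨f, rfl⟩ := (Ext.mk₀_bijective X Y).2 x
    exact h0 f
  | succ n ih =>
    let S := ShortComplex.mk _ _ (cokernel.condition (Injective.ι Y))
    have hS : S.ShortExact :=
      { exact := ShortComplex.exact_of_g_is_cokernel _ (cokernelIsCokernel S.f) }
    obtain ⟨y, hy⟩ := Ext.covariant_sequence_exact₁ X hS x (Ext.eq_zero_of_injective _) rfl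
    rw [← hy]
    exact hcomp S hS y (ih y)

end Induction

section Functoriality

variable {C : Type u} [Category.{v} C] [Abelian C] [HasExt.{w} C]
variable {D : Type u'} [Category.{v'} D] [Abelian D] [HasExt.{w'} D]

section

variable (F G : C ⥤ D) [F.Additive] [PreservesFiniteLimits F]
    [PreservesFiniteColimits F] [G.Additive] [PreservesFiniteLimits G] [PreservesFiniteColimits G]
    (τ : F ⟶ G)

theorem natTrans_step {X A B : C} {n : ℕ} (x : Ext.{w} X A n) (e : Ext.{w} A B 1)
    (hx : (x.mapExactFunctor F).comp (Ext.mk₀ (τ.app A)) (add_zero n) =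
      (Ext.mk₀ (τ.app X)).comp (x.mapExactFunctor G) (zero_add n))
    (he : (e.mapExactFunctor F).comp (Ext.mk₀ (τ.app B)) (add_zero 1) =
      (Ext.mk₀ (τ.app A)).comp (e.mapExactFunctor G) (zero_add 1)) :
    ((x.comp e rfl).mapExactFunctor F).comp (Ext.mk₀ (τ.app B)) (add_zero (n + 1)) =
      (Ext.mk₀ (τ.app X)).comp ((x.comp e rfl).mapExactFunctor G) (zero_add (n + 1)) := by
  rw [Ext.mapExactFunctor_comp, Ext.mapExactFunctor_comp,
    Ext.comp_assoc_of_third_deg_zero, he,
    ← Ext.comp_assoc_of_second_deg_zero, hx, Ext.comp_assoc (a₁ := 0) (a₂ := n) (a₃ := 1)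
      (a₁₂ := n) (a₂₃ := n + 1) (a := n + 1) _ _ _ (zero_add _) rfl (by lia)]

variable [EnoughInjectives C]

/-- Naturality of `mapExactFunctor` in the exact functor. -/
theorem mapExactFunctor_natTrans {X Y : C} {n : ℕ} (x : Ext.{w} X Y n) :
    (x.mapExactFunctor F).comp (Ext.mk₀ (τ.app Y)) (add_zero n) =
      (Ext.mk₀ (τ.app X)).comp (x.mapExactFunctor G) (zero_add n) := by
  induction x using ext_induction with
  | h0 f =>
    rw [Ext.mapExactFunctor_mk₀, Ext.mapExactFunctor_mk₀, Ext.mk₀_comp_mk₀, Ext.mk₀_comp_mk₀,
      τ.naturality]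
  | hcomp S hS x ih =>
    refine natTrans_step F G τ x hS.extClass ih ?_
    rw [Ext.mapExactFunctor_extClass, Ext.mapExactFunctor_extClass]
    exact ShortComplex.ShortExact.extClass_naturality (hS.map_of_exact F)
      (hS.map_of_exact G) (S.mapNatTrans τ)

end

section Comp

variable {E : Type u''} [Category.{v''} E] [Abelian E] [HasExt.{w''} E]
variable (F : C ⥤ D) [F.Additive] [PreservesFiniteLimits F] [PreservesFiniteColimits F]
variable (G : D ⥤ E) [G.Additive] [PreservesFiniteLimits G] [PreservesFiniteColimits G]
variable [PreservesFiniteLimits (F ⋙ G)] [PreservesFiniteColimits (F ⋙ G)]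
variable [EnoughInjectives C]

/-- `mapExactFunctor` is compatible with the composition of exact functors. -/
theorem mapExactFunctor_compFunctor {X Y : C} {n : ℕ} (x : Ext.{w} X Y n) :
    x.mapExactFunctor (F ⋙ G) = (x.mapExactFunctor F).mapExactFunctor G := by
  induction x using ext_induction with
  | h0 f =>
    rw [Ext.mapExactFunctor_mk₀, Ext.mapExactFunctor_mk₀, Ext.mapExactFunctor_mk₀]
    rfl
  | hcomp S hS x ih =>
    rw [Ext.mapExactFunctor_comp, Ext.mapExactFunctor_comp, Ext.mapExactFunctor_comp, ih]
    congr 1
    rw [Ext.mapExactFunctor_extClass, Ext.mapExactFunctor_extClass]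
    exact (Ext.mapExactFunctor_extClass G (hS.map_of_exact F)).symm

end Comp

section Id

variable [EnoughInjectives C]

/-- The identity functor acts as the identity on Ext classes. -/
theorem mapExactFunctor_idFunctor {X Y : C} {n : ℕ} (x : Ext.{w} X Y n) :
    x.mapExactFunctor (𝟭 C) = x := by
  induction x using ext_induction with
  | h0 f =>
    rw [Ext.mapExactFunctor_mk₀]
    rfl
  | hcomp S hS x ih =>
    rw [Ext.mapExactFunctor_comp, ih]
    congr 1
    rw [Ext.mapExactFunctor_extClass]
    rfl

end Id

end Functoriality

end Groth.Agent.Lib.Helper22
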