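import Mathlib
import Groth.Agent.Lib.Helper22ExtFunctor

/-!
# Helper19: a retract of exact functors induces a retract on Ext groups
-/

set_option autoImplicit false

universe w w' v v' u u'

open CategoryTheory Abelian Limits

namespace Groth.Agent.Lib.Helper19.SecDesc

variable {𝒜 : Type u} [Category.{v} 𝒜] [Abelian 𝒜] [HasExt.{w} 𝒜] [EnoughInjectives 𝒜]
variable {ℬ : Type u'} [Category.{v'} ℬ] [Abelian ℬ] [HasExt.{w'} ℬ] [EnoughInjectives ℬ]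
variable (Φ : 𝒜 ⥤ ℬ) [Φ.Additive] [PreservesFiniteLimits Φ] [PreservesFiniteColimits Φ]
variable (Ψ : ℬ ⥤ 𝒜) [Ψ.Additive] [PreservesFiniteLimits Ψ] [PreservesFiniteColimits Ψ]
variable (e : Φ ⋙ Ψ ≅ 𝟭 𝒜)

include e in
/-- If `Φ ⋙ Ψ ≅ 𝟭`, then `Ext ZA G n` is a retract of `Ext ZB (Φ G) n` whenever `ZB ≅ Φ ZA`. -/
theorem ext_retract {ZA : 𝒜} {ZB : ℬ} (u : ZB ≅ Φ.obj ZA) (G : 𝒜) (n : ℕ) :
    ∃ (a : Ext.{w} ZA G n →+ Ext.{w'} ZB (Φ.obj G) n)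
      (b : Ext.{w'} ZB (Φ.obj G) n →+ Ext.{w} ZA G n), ∀ x, b (a x) = x := by
  refine ⟨((Ext.mk₀ u.hom).precomp (Φ.obj G) (zero_add n)).comp (Φ.mapExtAddHom ZA G n),
    ((Ext.mk₀ (e.inv.app ZA ≫ Ψ.map u.inv)).precomp G (zero_add n)).comp
      (((Ext.mk₀ (e.hom.app G)).postcomp (Ψ.obj ZB) (add_zero n)).comp
        (Ψ.mapExtAddHom ZB (Φ.obj G) n)), fun x => ?_⟩
  change (Ext.mk₀ (e.inv.app ZA ≫ Ψ.map u.inv)).comp
    ((((Ext.mk₀ u.hom).comp (x.mapExactFunctor Φ) (zero_add n)).mapExactFunctor Ψ).comp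
      (Ext.mk₀ (e.hom.app G)) (add_zero n)) (zero_add n) = x
  rw [Ext.mapExactFunctor_comp, Ext.mapExactFunctor_mk₀,
    ← Groth.Agent.Lib.Helper22.mapExactFunctor_compFunctor Φ Ψ x,
    Ext.comp_assoc_of_third_deg_zero]
  have h1 := Groth.Agent.Lib.Helper22.mapExactFunctor_natTrans (Φ ⋙ Ψ) (𝟭 𝒜) e.hom x
  rw [Groth.Agent.Lib.Helper22.mapExactFunctor_idFunctor] at h1
  rw [h1, Ext.mk₀_comp_mk₀_assoc, Ext.mk₀_comp_mk₀_assoc]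
  have h2 : (e.inv.app ZA ≫ Ψ.map u.inv) ≫ Ψ.map u.hom ≫ e.hom.app ZA = 𝟙 ZA := by
    rw [Category.assoc, ← Ψ.map_comp_assoc, u.inv_hom_id, Ψ.map_id, Category.id_comp]
    exact e.inv_hom_id_app ZA
  have h3 : ((e.inv.app ZA ≫ Ψ.map u.inv) ≫ Ψ.map u.hom) ≫ (e.hom.app ZA : _ ⟶ (𝟭 𝒜).obj ZA) =
      𝟙 ZA := by rw [Category.assoc]; exact h2
  rw [h3]
  exact Ext.mk₀_id_comp x

end Groth.Agent.Lib.Helper19.SecDesc
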