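import Mathlib
import Groth.Prelude.Def_CohTop
import Groth.Agent.Lib.Helper19SecDescA

/-!
# Helper19: retracts of spaces induce retracts on sheaf cohomology (with pulled back coefficients)
-/

set_option autoImplicit false
set_option linter.style.haveILetI false

universe u

open CategoryTheory CategoryTheory.Limits Opposite TopologicalSpace Abelian

namespace Groth.Agent.Lib.Helper19.SecDesc

variable {X Y Z S : TopCat.{u}}

/-- The adjunction `f⁻¹ ⊣ f_*`. -/
noncomputable def adj (f : X ⟶ Y) : CohTop.pull f ⊣ CohTop.push f :=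
  TopCat.Sheaf.pullbackPushforwardAdjunction AddCommGrpCat.{u} f

instance pull_additive (f : X ⟶ Y) : (CohTop.pull f).Additive := (adj f).left_adjoint_additive

instance pull_preservesFiniteLimits (f : X ⟶ Y) : PreservesFiniteLimits (CohTop.pull f) := by
  unfold CohTop.pull TopCat.Sheaf.pullback
  apply Functor.sheafPullbackConstruction.preservesFiniteLimits

instance pull_preservesFiniteColimits (f : X ⟶ Y) : PreservesFiniteColimits (CohTop.pull f) :=
  haveI : PreservesColimitsOfSize.{0, 0} (CohTop.pull f) :=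
    (adj f).leftAdjoint_preservesColimits
  PreservesColimitsOfSize.preservesFiniteColimits.{0, 0} _

/-- Pushforward along a composite. -/
noncomputable def pushComp (f : X ⟶ Y) (g : Y ⟶ Z) :
    CohTop.push (f ≫ g) ≅ CohTop.push f ⋙ CohTop.push g :=
  NatIso.ofComponents (fun F => Iso.refl _) (fun φ => by
    ext U
    simp
    try rfl)

/-- Pushforward along the identity. -/
noncomputable def pushId (X : TopCat.{u}) : CohTop.push (𝟙 X) ≅ 𝟭 (CohTop.Ab X) :=
  NatIso.ofComponents (fun F => Iso.refl _) (fun φ => by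
    ext U
    simp
    try rfl)

/-- Global sections commute with pushforward. -/
noncomputable def gammaIso (r : Z ⟶ Y) :
    (sheafSections (Opens.grothendieckTopology Z) AddCommGrpCat.{u}).obj (op (⊤ : Opens Z)) ≅
      CohTop.push r ⋙
        (sheafSections (Opens.grothendieckTopology Y) AddCommGrpCat.{u}).obj (op (⊤ : Opens Y)) :=
  NatIso.ofComponents (fun F => Iso.refl _) (fun φ => by
    simp
    try rfl)

/-- Pullback along a composite. -/
noncomputable def pullComp (r : Z ⟶ Y) (g : Y ⟶ S) :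
    CohTop.pull (r ≫ g) ≅ CohTop.pull g ⋙ CohTop.pull r :=
  ((conjugateIsoEquiv (adj (r ≫ g)) ((adj g).comp (adj r))).symm (pushComp r g)).symm

/-- For a retraction `i ≫ r = 𝟙`, `r⁻¹` followed by `i⁻¹` is the identity. -/
noncomputable def retractIso (i : Y ⟶ Z) (r : Z ⟶ Y) (h : i ≫ r = 𝟙 Y) :
    CohTop.pull r ⋙ CohTop.pull i ≅ 𝟭 (CohTop.Ab Y) :=
  (conjugateIsoEquiv (Adjunction.id) ((adj r).comp (adj i))).symm
    ((pushId Y).symm ≪≫ eqToIso (by rw [h]) ≪≫ pushComp i r)

/-- The constant sheaf `ℤ`. -/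
noncomputable abbrev constZ (Y : TopCat.{u}) : CohTop.Ab Y :=
  (constantSheaf (Opens.grothendieckTopology Y) AddCommGrpCat.{u}).obj
    (AddCommGrpCat.of (ULift.{u} ℤ))

/-- The adjunction constant sheaf ⊣ global sections. -/
noncomputable abbrev adjC (Y : TopCat.{u}) :=
  constantSheafAdj (Opens.grothendieckTopology Y) AddCommGrpCat.{u} (T := (⊤ : Opens Y))
    isTerminalTop

/-- The inverse image of the constant sheaf is the constant sheaf. -/
noncomputable def constIso (r : Z ⟶ Y) : constZ Z ≅ (CohTop.pull r).obj (constZ Y) :=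
  (((conjugateIsoEquiv (adjC Z) ((adjC Y).comp (adj r))).symm (gammaIso r)).app
    (AddCommGrpCat.of (ULift.{u} ℤ))).symm

/-- Cohomology of `G` on `Y` is a retract of the cohomology of `r⁻¹ G` on `Z`, for a retraction
`i ≫ r = 𝟙 Y`. -/
theorem H_retract (i : Y ⟶ Z) (r : Z ⟶ Y) (h : i ≫ r = 𝟙 Y) (G : CohTop.Ab Y) (n : ℕ) :
    ∃ (a : CohTop.H G n →+ CohTop.H ((CohTop.pull r).obj G) n)
      (b : CohTop.H ((CohTop.pull r).obj G) n →+ CohTop.H G n), ∀ x, b (a x) = x :=
  ext_retract (CohTop.pull r) (CohTop.pull i) (retractIso i r h) (constIso r) G n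

/-- Isomorphic sheaves have isomorphic cohomology. -/
noncomputable def HCongr {G G' : CohTop.Ab Y} (e : G ≅ G') (n : ℕ) :
    CohTop.H G n ≃+ CohTop.H G' n where
  toFun := Sheaf.H.map e.hom n
  invFun := Sheaf.H.map e.inv n
  left_inv x := by
    rw [Sheaf.H.map_apply, Sheaf.H.map_apply, Ext.comp_assoc_of_third_deg_zero,
      Ext.mk₀_comp_mk₀, e.hom_inv_id, Ext.comp_mk₀_id]
  right_inv x := by
    rw [Sheaf.H.map_apply, Sheaf.H.map_apply, Ext.comp_assoc_of_third_deg_zero,
      Ext.mk₀_comp_mk₀, e.inv_hom_id, Ext.comp_mk₀_id]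
  map_add' := map_add _

/-- Generalized retract statement with coefficients pulled back from a base. -/
theorem H_retract_base (i : Y ⟶ Z) (r : Z ⟶ Y) (h : i ≫ r = 𝟙 Y) (g : Y ⟶ S) (g' : Z ⟶ S)
    (hg : g' = r ≫ g) (F : CohTop.Ab S) (n : ℕ) :
    ∃ (a : CohTop.H ((CohTop.pull g).obj F) n →+ CohTop.H ((CohTop.pull g').obj F) n)
      (b : CohTop.H ((CohTop.pull g').obj F) n →+ CohTop.H ((CohTop.pull g).obj F) n),
      ∀ x, b (a x) = x := by
  subst hg
  obtain ⟨a, b, hab⟩ := H_retract i r h ((CohTop.pull g).obj F) n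
  let c : CohTop.H ((CohTop.pull (r ≫ g)).obj F) n ≃+
      CohTop.H ((CohTop.pull r).obj ((CohTop.pull g).obj F)) n :=
    HCongr ((pullComp r g).app F) n
  refine ⟨c.symm.toAddMonoidHom.comp a, b.comp c.toAddMonoidHom, fun x => ?_⟩
  change b (c (c.symm (a x))) = x
  rw [c.apply_symm_apply, hab]

end Groth.Agent.Lib.Helper19.SecDesc
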