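import Mathlib

/-!
# Helper19: from a tower of retracts `B ◁ A₀ ◁ A₁ ◁ ⋯` to a decomposition `A_p ≃ K_p × K_{p+1}`,
`K₀ = B`.
-/

set_option autoImplicit false

universe u

namespace Groth.Agent.Lib.Helper19.SecDesc

/-- A retract `b ∘ a = id` of abelian groups splits the target as `A × ker b`. -/
noncomputable def retractEquiv {A A' : Type u} [AddCommGroup A] [AddCommGroup A'] (a : A →+ A')
    (b : A' →+ A) (h : ∀ x, b (a x) = x) : A' ≃+ A × b.ker where
  toFun x := (b x, ⟨x - a (b x), by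
    rw [AddMonoidHom.mem_ker, map_sub, h, sub_self]⟩)
  invFun y := a y.1 + y.2.1
  left_inv x := by simp
  right_inv y := by
    obtain ⟨y1, ⟨y2, hy2⟩⟩ := y
    rw [AddMonoidHom.mem_ker] at hy2
    ext
    · simp [h, hy2]
    · simp [h, hy2]
  map_add' x y := by
    ext
    · simp
    · simp only [map_add, Prod.mk_add_mk, AddMemClass.mk_add_mk]
      abel

/-- The recursive family `K₀ = B`, `K₁ = D₀`, `K_{p+2} = K_p × D_{p+1}`. -/
noncomputable def Kseq (B : AddCommGrpCat.{u}) (D : ℕ → AddCommGrpCat.{u}) : ℕ → AddCommGrpCat.{u}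
  | 0 => B
  | 1 => D 0
  | (p + 2) => AddCommGrpCat.of (Kseq B D p × D (p + 1))

theorem exists_K (B : Type u) [AddCommGroup B] (A : ℕ → Type u) [∀ p, AddCommGroup (A p)]
    (h0 : ∃ (a : B →+ A 0) (b : A 0 →+ B), ∀ x, b (a x) = x)
    (hs : ∀ p, ∃ (a : A p →+ A (p + 1)) (b : A (p + 1) →+ A p), ∀ x, b (a x) = x) :
    ∃ K : ℕ → AddCommGrpCat.{u}, Nonempty (K 0 ≃+ B) ∧ ∀ p, Nonempty (A p ≃+ K p × K (p + 1)) := by
  obtain ⟨a0, b0, h0⟩ := h0
  choose a b hab using hs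
  let D : ℕ → AddCommGrpCat.{u} := fun p =>
    Nat.casesOn p (AddCommGrpCat.of b0.ker) (fun p => AddCommGrpCat.of (b p).ker)
  refine ⟨Kseq (AddCommGrpCat.of B) D, ⟨AddEquiv.refl _⟩, fun p => ?_⟩
  induction p with
  | zero => exact ⟨retractEquiv a0 b0 h0⟩
  | succ p ih =>
    obtain ⟨e⟩ := ih
    let e1 : A (p + 1) ≃+ A p × (b p).ker := retractEquiv (a p) (b p) (hab p)
    let e2 : A p × (b p).ker ≃+
        (Kseq (AddCommGrpCat.of B) D p × Kseq (AddCommGrpCat.of B) D (p + 1)) × (b p).ker :=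
      AddEquiv.prodCongr e (AddEquiv.refl _)
    let e3 : (Kseq (AddCommGrpCat.of B) D p × Kseq (AddCommGrpCat.of B) D (p + 1)) × (b p).ker ≃+
        (Kseq (AddCommGrpCat.of B) D (p + 1) × Kseq (AddCommGrpCat.of B) D p) × (b p).ker :=
      AddEquiv.prodCongr AddEquiv.prodComm (AddEquiv.refl _)
    let e4 : (Kseq (AddCommGrpCat.of B) D (p + 1) × Kseq (AddCommGrpCat.of B) D p) × (b p).ker ≃+
        Kseq (AddCommGrpCat.of B) D (p + 1) × (Kseq (AddCommGrpCat.of B) D p × (b p).ker) :=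
      AddEquiv.prodAssoc
    exact ⟨e1.trans (e2.trans (e3.trans e4))⟩

end Groth.Agent.Lib.Helper19.SecDesc
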