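import Mathlib
import Groth.Prelude.Def_SpSeq

/-!
# Helper19: a spectral sequence starting at page one with a prescribed first page, degenerating at
page two, together with abutment data when the homology of the first page is concentrated in the
column `p = 0`.
-/

set_option autoImplicit false
set_option linter.style.haveILetI false

universe v u

open CategoryTheory CategoryTheory.Limits

namespace Groth.Agent.Lib.Helper19.SecDesc

variable {C : Type u} [Category.{v} C] [Abelian C]

/-- A complex with zero differentials. -/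
def zeroCx {κ : Type*} (c : ComplexShape κ) (X : κ → C) : HomologicalComplex C c where
  X := X
  d _ _ := 0
  shape _ _ _ := rfl
  d_comp_d' _ _ _ _ _ := zero_comp

/-- The homology of a complex with zero differentials. -/
noncomputable def zeroCxHomologyIso {κ : Type*} (c : ComplexShape κ) (X : κ → C) (j : κ) :
    (zeroCx c X).homology j ≅ X j :=
  (ShortComplex.HomologyData.ofZeros ((zeroCx c X).sc j) rfl rfl).left.homologyIso

section SS

variable (P : HomologicalComplex C (ComplexShape.up' (((1 : ℤ), (1 : ℤ) - 1) : ℤ × ℤ)))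

/-- The pages: `P` on page one, the homology of `P` with zero differentials afterwards. -/
noncomputable def pg (r : ℤ) : HomologicalComplex C (ComplexShape.up' ((r, 1 - r) : ℤ × ℤ)) :=
  if h : r = 1 then by subst h; exact P
  else zeroCx _ (fun pq => P.homology pq)

lemma pg_one : pg P 1 = P := by
  unfold pg
  rw [dif_pos rfl]

lemma pg_of_ne {r : ℤ} (h : r ≠ 1) : pg P r = zeroCx _ (fun pq => P.homology pq) := by
  unfold pg
  rw [dif_neg h]

/-- The degenerate spectral sequence. -/
noncomputable def degSS : CohomologicalSpectralSequence C 1 where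
  page r _ := pg P r
  iso r r' pq hrr' hr := by
    subst hrr'
    by_cases h : r = 1
    · subst h
      exact eqToIso (congrArg (fun K => K.homology pq) (pg_one P)) ≪≫
        (eqToIso (congrArg (fun K => K.X pq) (pg_of_ne P (by norm_num : ((1 : ℤ) + 1) ≠ 1)))).symm
    · have h' : r + 1 ≠ 1 := by omega
      exact eqToIso (congrArg (fun K => K.homology pq) (pg_of_ne P h)) ≪≫
        zeroCxHomologyIso _ _ pq ≪≫
        (eqToIso (congrArg (fun K => K.X pq) (pg_of_ne P h'))).symm

lemma degSS_page_one : (degSS P).page 1 le_rfl = P := pg_one P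

lemma degSS_d_eq_zero (r' : ℤ) (h₀ : 1 ≤ r') (h : 2 ≤ r') (x y : ℤ × ℤ) :
    ((degSS P).page r' h₀).d x y = 0 := by
  have e : (degSS P).page r' h₀ = zeroCx _ (fun pq => P.homology pq) :=
    pg_of_ne P (by omega)
  rw [e]
  rfl

/-- The objects on page two. -/
noncomputable def degSS_page_two_X (pq : ℤ × ℤ) (h : (1 : ℤ) ≤ 2) :
    ((degSS P).page 2 h).X pq ≅ P.homology pq :=
  eqToIso (congrArg (fun K => K.X pq) (pg_of_ne P (by norm_num : (2 : ℤ) ≠ 1)))

end SS

section Subquot

variable {X : C}

lemma isZero_subquot_of_eq (Z B : Subobject X) (h : B ≤ Z) (e : B = Z) :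
    IsZero (SpSeq.subquot Z B h) := by
  subst e
  unfold SpSeq.subquot
  have e : B.ofLE B h = 𝟙 _ := Subobject.ofLE_refl B
  haveI : IsIso (B.ofLE B h) := by rw [e]; infer_instance
  exact isZero_cokernel_of_epi _

lemma isZero_subquot_of_bot (Z B : Subobject X) (h : B ≤ Z) (e : Z = ⊥) :
    IsZero (SpSeq.subquot Z B h) := by
  subst e
  unfold SpSeq.subquot
  have hbot : IsZero ((⊥ : Subobject X) : C) := IsZero.of_iso (isZero_zero C) Subobject.botCoeIsoZero
  exact IsZero.of_epi (cokernel.π _) hbot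

/-- `⊤ / ⊥` is the whole object. -/
noncomputable def subquotTopBot (Z B : Subobject X) (h : B ≤ Z) (eZ : Z = ⊤) (eB : B = ⊥) :
    SpSeq.subquot Z B h ≅ X := by
  subst eZ
  subst eB
  have hbot : IsZero ((⊥ : Subobject X) : C) := IsZero.of_iso (isZero_zero C) Subobject.botCoeIsoZero
  have h0 : (⊥ : Subobject X).ofLE ⊤ h = 0 := hbot.eq_of_src _ _
  exact cokernelIsoOfEq h0 ≪≫ cokernelZeroIsoTarget ≪≫ asIso (⊤ : Subobject X).arrow

end Subquot

section Abut

variable (P : HomologicalComplex C (ComplexShape.up' (((1 : ℤ), (1 : ℤ) - 1) : ℤ × ℤ)))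
  (H : ℤ → C)

/-- The two-step filtration: everything in degrees `≤ 0`, zero afterwards. -/
noncomputable def degFil (n : ℤ) (p : ℤ) : Subobject (H n) := if p ≤ 0 then ⊤ else ⊥

lemma degFil_anti (n : ℤ) : Antitone (degFil H n) := by
  intro p p' h
  unfold degFil
  by_cases h' : p' ≤ 0
  · rw [if_pos h', if_pos (h.trans h')]
  · rw [if_neg h']
    exact bot_le

lemma degFil_of_le (n : ℤ) {p : ℤ} (h : p ≤ 0) : degFil H n p = ⊤ := if_pos h

lemma degFil_of_pos (n : ℤ) {p : ℤ} (h : 0 < p) : degFil H n p = ⊥ := if_neg (not_le.2 h)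

variable (h0 : ∀ q, P.homology (0, q) ≅ H q)
  (hne : ∀ p q, p ≠ 0 → IsZero (P.homology (p, q)))

/-- The abutment data. -/
noncomputable def degAbut : SpSeq.Abutment (degSS P) H where
  fil := degFil H
  anti := degFil_anti H
  rk _ := 2
  stat pq := ⟨by norm_num, fun r' h₀ hr' =>
    ⟨degSS_d_eq_zero P r' h₀ hr' _ _, degSS_d_eq_zero P r' h₀ hr' _ _⟩⟩
  β pq := by
    obtain ⟨p, q⟩ := pq
    refine degSS_page_two_X P (p, q) _ ≪≫ ?_
    by_cases hp : p = 0
    · subst hp
      refine h0 q ≪≫ eqToIso (congrArg H (zero_add q).symm) ≪≫ (subquotTopBot _ _ _ ?_ ?_).symm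
      · exact degFil_of_le H _ le_rfl
      · exact degFil_of_pos H _ (by norm_num)
    · refine IsZero.iso (hne p q hp) ?_
      rcases lt_or_gt_of_ne hp with h | h
      · refine isZero_subquot_of_eq _ _ _ ?_
        rw [degFil_of_le H _ (by omega : p + 1 ≤ 0), degFil_of_le H _ h.le]
      · exact isZero_subquot_of_bot _ _ _ (degFil_of_pos H _ h)

lemma degAbut_isFinite (n : ℤ) : (degAbut P H h0 hne).IsFinite n :=
  ⟨⟨0, (degFil_of_le H n (p := 0) le_rfl : degFil H n 0 = ⊤)⟩,
    ⟨1, (degFil_of_pos H n (p := 1) (by norm_num) : degFil H n 1 = ⊥)⟩⟩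

end Abut

/-- Existence of the degenerate spectral sequence with its abutment. -/
theorem exists_degSS (P : HomologicalComplex C (ComplexShape.up' (((1 : ℤ), (1 : ℤ) - 1) : ℤ × ℤ)))
    (H : ℤ → C) (h0 : ∀ q, Nonempty (P.homology (0, q) ≅ H q))
    (hne : ∀ p q, p ≠ 0 → IsZero (P.homology (p, q)))
    (hb : ∀ n : ℤ, Set.Finite {p : ℤ | ¬ IsZero (P.X (p, n - p))}) :
    ∃ (E : CohomologicalSpectralSequence C 1) (a : SpSeq.Abutment E H),
      (∀ n, a.IsFinite n) ∧ SpSeq.IsBounded E ∧ E.page 1 le_rfl = P := by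
  refine ⟨degSS P, degAbut P H (fun q => (h0 q).some) hne, degAbut_isFinite P H _ hne, ?_,
    degSS_page_one P⟩
  intro n
  have e := degSS_page_one P
  simpa only [e] using hb n

end Groth.Agent.Lib.Helper19.SecDesc
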