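import Mathlib
import Groth.Agent.Lib.Helper19SecDescD

/-!
# Helper19: the first page `X(p,q) = B(p,q) × L(p,q) × L(p+1,q)` with differential
`(b, x, y) ↦ (0, y, 0)`; its homology is `B`.
-/

set_option autoImplicit false
set_option linter.style.haveILetI false

universe v u

open CategoryTheory CategoryTheory.Limits

namespace Groth.Agent.Lib.Helper19.SecDesc

section mk

variable {C : Type u} [Category.{v} C] [Preadditive C]

/-- A complex of shape `up' a` from its differentials `X i ⟶ X (i + a)`. -/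
def mkUp' {κ : Type*} [Add κ] [IsRightCancelAdd κ] [DecidableEq κ] (a : κ) (X : κ → C)
    (d : ∀ i, X i ⟶ X (i + a)) (sq : ∀ i, d i ≫ d (i + a) = 0) :
    HomologicalComplex C (ComplexShape.up' a) where
  X := X
  d i j := if h : i + a = j then d i ≫ eqToHom (congrArg X h) else 0
  shape i j h := dif_neg h
  d_comp_d' i j k hij hjk := by
    change i + a = j at hij
    change j + a = k at hjk
    subst hij
    subst hjk
    rw [dif_pos rfl, dif_pos rfl, eqToHom_refl, eqToHom_refl, Category.comp_id, Category.comp_id,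
      sq]

lemma mkUp'_d {κ : Type*} [Add κ] [IsRightCancelAdd κ] [DecidableEq κ] (a : κ) (X : κ → C)
    (d : ∀ i, X i ⟶ X (i + a)) (sq : ∀ i, d i ≫ d (i + a) = 0) (i : κ) :
    (mkUp' a X d sq).d i (i + a) = d i := by
  change (if h : i + a = i + a then d i ≫ eqToHom (congrArg X h) else 0) = d i
  rw [dif_pos rfl, eqToHom_refl, Category.comp_id]

end mk

section Ab

variable (Bz L : ℤ × ℤ → AddCommGrpCat.{u})

/-- The bidegree of the first differential. -/
abbrev aa : ℤ × ℤ := ((1 : ℤ), (1 : ℤ) - 1)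

/-- The objects of the first page. -/
abbrev XX (pq : ℤ × ℤ) : AddCommGrpCat.{u} := AddCommGrpCat.of (Bz pq × L pq × L (pq + aa))

/-- The differential `(b, x, y) ↦ (0, y, 0)`. -/
def dHom (pq : ℤ × ℤ) :
    (Bz pq × L pq × L (pq + aa)) →+ (Bz (pq + aa) × L (pq + aa) × L (pq + aa + aa)) where
  toFun t := (0, t.2.2, 0)
  map_zero' := rfl
  map_add' s t := by
    ext
    · simp
    · rfl
    · simp

/-- The differential as a morphism. -/
def dd (pq : ℤ × ℤ) : XX Bz L pq ⟶ XX Bz L (pq + aa) := AddCommGrpCat.ofHom (dHom Bz L pq)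

lemma dd_sq (pq : ℤ × ℤ) : dd Bz L pq ≫ dd Bz L (pq + aa) = 0 := by
  apply AddCommGrpCat.hom_ext
  apply AddMonoidHom.ext
  intro t
  rfl

/-- The first page. -/
noncomputable def PP : HomologicalComplex AddCommGrpCat.{u} (ComplexShape.up' aa) :=
  mkUp' aa (XX Bz L) (dd Bz L) (dd_sq Bz L)

/-- The short complex around position `i + a`. -/
abbrev SS (i : ℤ × ℤ) : ShortComplex AddCommGrpCat.{u} :=
  ShortComplex.mk (dd Bz L i) (dd Bz L (i + aa)) (dd_sq Bz L i)

/-- Projection of the cycles to `Bz`. -/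
def psi (i : ℤ × ℤ) : AddMonoidHom.ker (SS Bz L i).g.hom →+ Bz (i + aa) :=
  (AddMonoidHom.fst _ _).comp (AddMonoidHom.ker (SS Bz L i).g.hom).subtype

lemma psi_surjective (i : ℤ × ℤ) : Function.Surjective (psi Bz L i) := by
  intro b
  exact ⟨⟨(b, 0, 0), rfl⟩, rfl⟩

lemma psi_ker (i : ℤ × ℤ) : (psi Bz L i).ker = AddMonoidHom.range (SS Bz L i).abToCycles := by
  ext ⟨⟨b, x, y⟩, h⟩
  have hy : y = 0 := by
    have h' : ((0 : Bz (i + aa + aa)), y, (0 : L (i + aa + aa + aa))) = 0 := h
    exact (Prod.ext_iff.1 (Prod.ext_iff.1 h').2).1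
  subst hy
  rw [AddMonoidHom.mem_ker, AddMonoidHom.mem_range]
  constructor
  · intro hb
    have hb' : b = 0 := hb
    subst hb'
    exact ⟨(0, 0, x), rfl⟩
  · rintro ⟨t, ht⟩
    have := congrArg (fun z => z.1.1) ht
    exact this.symm

/-- The homology of the short complex is `Bz`. -/
noncomputable def SSHomologyIso (i : ℤ × ℤ) : (SS Bz L i).homology ≅ Bz (i + aa) :=
  (SS Bz L i).abHomologyIso ≪≫
    AddEquiv.toAddCommGrpIso (X := AddCommGrpCat.of _) (Y := Bz (i + aa))
      ((QuotientAddGroup.quotientAddEquivOfEq (psi_ker Bz L i).symm).trans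
        (QuotientAddGroup.quotientKerEquivOfSurjective (psi Bz L i)
          (psi_surjective Bz L i)))

lemma rel_aa (i : ℤ × ℤ) : (ComplexShape.up' aa).Rel i (i + aa) := rfl

/-- The homology of the first page at `i + a` is `Bz (i + a)`. -/
noncomputable def PPHomologyIso' (i : ℤ × ℤ) : (PP Bz L).homology (i + aa) ≅ Bz (i + aa) :=
  ShortComplex.homologyMapIso
    ((PP Bz L).isoSc' i (i + aa) (i + aa + aa)
      ((ComplexShape.up' aa).prev_eq' (rel_aa i)) ((ComplexShape.up' aa).next_eq' (rel_aa (i + aa)))) ≪≫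
    ShortComplex.homologyMapIso
      (ShortComplex.isoMk (Iso.refl _) (Iso.refl _) (Iso.refl _)
        ((Category.id_comp _).trans
          ((mkUp'_d aa (XX Bz L) (dd Bz L) (dd_sq Bz L) i).symm.trans (Category.comp_id _).symm))
        ((Category.id_comp _).trans
          ((mkUp'_d aa (XX Bz L) (dd Bz L) (dd_sq Bz L) (i + aa)).symm.trans
            (Category.comp_id _).symm)) :
        (PP Bz L).sc' i (i + aa) (i + aa + aa) ≅ SS Bz L i) ≪≫
    SSHomologyIso Bz L i

theorem nonempty_PPHomologyIso (j : ℤ × ℤ) : Nonempty ((PP Bz L).homology j ≅ Bz j) := by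
  have e : j = (j - aa) + aa := by simp
  rw [e]
  exact ⟨PPHomologyIso' Bz L (j - aa)⟩

lemma isZero_XX (pq : ℤ × ℤ) (h1 : Subsingleton (Bz pq)) (h2 : Subsingleton (L pq))
    (h3 : Subsingleton (L (pq + aa))) : IsZero (XX Bz L pq) := by
  haveI : Subsingleton (XX Bz L pq) := inferInstanceAs (Subsingleton (Bz pq × L pq × L (pq + aa)))
  exact AddCommGrpCat.isZero_of_subsingleton _

end Ab

end Groth.Agent.Lib.Helper19.SecDesc
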