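import Mathlib
import Groth.Agent.Lib.Helper19SecDescC
import Groth.Agent.Lib.Helper19SecDescE

/-!
# Helper19: the spectral sequence attached to a tower of retracts of abelian groups
-/

set_option autoImplicit false
set_option linter.style.haveILetI false

universe u

open CategoryTheory CategoryTheory.Limits

namespace Groth.Agent.Lib.Helper19.SecDesc

variable (B : ℕ → AddCommGrpCat.{u}) (K : ℕ → ℕ → AddCommGrpCat.{u})

/-- The abutment. -/
noncomputable def HH (n : ℤ) : AddCommGrpCat.{u} :=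
  if 0 ≤ n then B n.toNat else AddCommGrpCat.of PUnit.{u + 1}

/-- The `B`-part of the first page, concentrated in the column `p = 0`. -/
noncomputable def BzF (pq : ℤ × ℤ) : AddCommGrpCat.{u} :=
  if pq.1 = 0 then HH B pq.2 else AddCommGrpCat.of PUnit.{u + 1}

/-- The `K`-part, in the range `1 ≤ p`, `0 ≤ q`. -/
noncomputable def LF (pq : ℤ × ℤ) : AddCommGrpCat.{u} :=
  if 1 ≤ pq.1 ∧ 0 ≤ pq.2 then K pq.2.toNat pq.1.toNat else AddCommGrpCat.of PUnit.{u + 1}

lemma LF_nat (m n : ℕ) (hm : 1 ≤ m) : LF K ((m : ℤ), (n : ℤ)) = K n m := by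
  unfold LF
  have h1 : (1 : ℤ) ≤ (((m : ℤ), (n : ℤ)) : ℤ × ℤ).1 := by
    change (1 : ℤ) ≤ (m : ℤ)
    exact_mod_cast hm
  have h2 : (0 : ℤ) ≤ (((m : ℤ), (n : ℤ)) : ℤ × ℤ).2 := Int.natCast_nonneg n
  rw [if_pos ⟨h1, h2⟩]
  simp

lemma LF_shift (m n : ℕ) : LF K (((m : ℤ), (n : ℤ)) + aa) = K n (m + 1) := by
  have e : (((m : ℤ), (n : ℤ)) + aa : ℤ × ℤ) = (((m + 1 : ℕ) : ℤ), (n : ℤ)) := by
    ext <;> simp
  rw [e, LF_nat K _ _ (by omega)]

lemma LF_of_not (pq : ℤ × ℤ) (h : ¬ (1 ≤ pq.1 ∧ 0 ≤ pq.2)) :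
    LF K pq = AddCommGrpCat.of PUnit.{u + 1} := if_neg h

lemma BzF_zero_nat (n : ℕ) : BzF B ((0 : ℤ), (n : ℤ)) = B n := by
  unfold BzF HH
  simp

lemma BzF_ne (pq : ℤ × ℤ) (h : pq.1 ≠ 0) : BzF B pq = AddCommGrpCat.of PUnit.{u + 1} := if_neg h

lemma BzF_zero (q : ℤ) : BzF B ((0 : ℤ), q) = HH B q := if_pos rfl

lemma nonempty_iso_of_eq {G1 G2 G3 G1' G2' G3' T : AddCommGrpCat.{u}} (e1 : G1 = G1')
    (e2 : G2 = G2') (e3 : G3 = G3') (h : Nonempty (AddCommGrpCat.of (G1' × G2' × G3') ≅ T)) :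
    Nonempty (AddCommGrpCat.of (G1 × G2 × G3) ≅ T) := by
  subst e1 e2 e3
  exact h

lemma subsingleton_of_eq_punit {G : AddCommGrpCat.{u}} (h : G = AddCommGrpCat.of PUnit.{u + 1}) :
    Subsingleton G := by
  subst h
  infer_instance

/-- The spectral sequence attached to a tower of retracts. -/
theorem exists_SS_of_retracts (A : ℕ → ℕ → Type u) [∀ p q, AddCommGroup (A p q)]
    (B : ℕ → Type u) [∀ q, AddCommGroup (B q)]
    (h0 : ∀ q, ∃ (a : B q →+ A 0 q) (b : A 0 q →+ B q), ∀ x, b (a x) = x)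
    (hs : ∀ p q, ∃ (a : A p q →+ A (p + 1) q) (b : A (p + 1) q →+ A p q), ∀ x, b (a x) = x) :
    ∃ (E : CohomologicalSpectralSequence AddCommGrpCat.{u} 1)
      (a : SpSeq.Abutment E (fun n : ℤ =>
        if 0 ≤ n then AddCommGrpCat.of (B n.toNat) else AddCommGrpCat.of PUnit.{u + 1})),
      (∀ n, a.IsFinite n) ∧ SpSeq.IsBounded E ∧
      ∀ p q : ℤ, Nonempty ((E.page 1 le_rfl).X (p, q) ≅
        (if 0 ≤ p ∧ 0 ≤ q then AddCommGrpCat.of (A p.toNat q.toNat)
         else AddCommGrpCat.of PUnit.{u + 1})) := by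
  choose K hK0 hK using fun q => exists_K (B q) (fun p => A p q) (h0 q) (fun p => hs p q)
  let Bc : ℕ → AddCommGrpCat.{u} := fun q => AddCommGrpCat.of (B q)
  let P := PP (BzF Bc) (LF K)
  have hhom : ∀ pq : ℤ × ℤ, Nonempty (P.homology pq ≅ BzF Bc pq) :=
    fun pq => nonempty_PPHomologyIso (BzF Bc) (LF K) pq
  obtain ⟨E, a, ha, hE, hP⟩ := exists_degSS P (HH Bc)
    (fun q => by
      obtain ⟨e⟩ := hhom (0, q)
      exact ⟨e ≪≫ eqToIso (BzF_zero Bc q)⟩)
    (fun p q hp => by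
      obtain ⟨e⟩ := hhom (p, q)
      have hz : IsZero (BzF Bc (p, q)) := by
        haveI := subsingleton_of_eq_punit (BzF_ne Bc (p, q) hp)
        exact AddCommGrpCat.isZero_of_subsingleton _
      exact IsZero.of_iso hz e)
    (fun n => by
      refine (Set.finite_Icc (0 : ℤ) (max n 0)).subset ?_
      intro p hp
      by_contra hnot
      apply hp
      have hcase : p < 0 ∨ max n 0 < p := by
        by_contra hc
        rw [not_or, not_lt, not_lt] at hc
        exact hnot ⟨hc.1, hc.2⟩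
      have hmax : n ≤ max n 0 := le_max_left _ _
      have hmax' : 0 ≤ max n 0 := le_max_right _ _
      refine isZero_XX (BzF Bc) (LF K) (p, n - p) ?_ ?_ ?_
      · apply subsingleton_of_eq_punit
        apply BzF_ne
        change p ≠ 0
        omega
      · apply subsingleton_of_eq_punit
        apply LF_of_not
        change ¬ (1 ≤ p ∧ 0 ≤ n - p)
        omega
      · apply subsingleton_of_eq_punit
        apply LF_of_not
        change ¬ (1 ≤ p + 1 ∧ 0 ≤ n - p + (1 - 1))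
        omega)
  refine ⟨E, a, ha, hE, fun p q => ?_⟩
  rw [hP]
  change Nonempty (AddCommGrpCat.of (BzF Bc (p, q) × LF K (p, q) × LF K ((p, q) + aa)) ≅ _)
  by_cases hpq : 0 ≤ p ∧ 0 ≤ q
  · rw [if_pos hpq]
    obtain ⟨hp, hq⟩ := hpq
    lift p to ℕ using hp
    lift q to ℕ using hq
    rw [Int.toNat_natCast, Int.toNat_natCast]
    obtain ⟨eA⟩ := hK q p
    rcases Nat.eq_zero_or_pos p with rfl | hp
    · refine nonempty_iso_of_eq (BzF_zero_nat Bc q)
        (LF_of_not K _ (by simp)) (LF_shift K 0 q) ?_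
      obtain ⟨e0⟩ := hK0 q
      let e1 : (B q × PUnit.{u + 1} × K q (0 + 1)) ≃+ (B q × K q (0 + 1)) :=
        AddEquiv.prodCongr (AddEquiv.refl _) AddEquiv.uniqueProd
      let e2 : (B q × K q (0 + 1)) ≃+ (K q 0 × K q (0 + 1)) :=
        AddEquiv.prodCongr e0.symm (AddEquiv.refl _)
      exact ⟨AddEquiv.toAddCommGrpIso (X := AddCommGrpCat.of _) (Y := AddCommGrpCat.of _)
        (e1.trans (e2.trans eA.symm))⟩
    · refine nonempty_iso_of_eq (BzF_ne Bc _ (by simp; omega))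
        (LF_nat K p q hp) (LF_shift K p q) ?_
      let e1 : (PUnit.{u + 1} × K q p × K q (p + 1)) ≃+ (K q p × K q (p + 1)) :=
        AddEquiv.uniqueProd
      exact ⟨AddEquiv.toAddCommGrpIso (X := AddCommGrpCat.of _) (Y := AddCommGrpCat.of _)
        (e1.trans eA.symm)⟩
  · rw [if_neg hpq]
    have hz : IsZero (AddCommGrpCat.of (BzF Bc (p, q) × LF K (p, q) × LF K ((p, q) + aa))) := by
      refine isZero_XX (BzF Bc) (LF K) (p, q) ?_ ?_ ?_
      · by_cases hp : p = 0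
        · subst hp
          have hq : ¬ 0 ≤ q := fun h => hpq ⟨le_rfl, h⟩
          apply subsingleton_of_eq_punit
          rw [BzF_zero]
          exact if_neg hq
        · exact subsingleton_of_eq_punit (BzF_ne Bc _ hp)
      · apply subsingleton_of_eq_punit
        apply LF_of_not
        change ¬ (1 ≤ p ∧ 0 ≤ q)
        omega
      · apply subsingleton_of_eq_punit
        apply LF_of_not
        change ¬ (1 ≤ p + 1 ∧ 0 ≤ q + (1 - 1))
        omega
    exact ⟨IsZero.iso hz (AddCommGrpCat.isZero_of_subsingleton _)⟩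

end Groth.Agent.Lib.Helper19.SecDesc
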