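import Mathlib
import Groth.Prelude.Def_EtCore
import Groth.Agent.S0101
import Groth.Agent.Lib.Helper19SecDescA

/-!
# Helper19: retracts of schemes induce retracts on etale cohomology (with pulled back coefficients)
-/

set_option autoImplicit false
set_option linter.style.haveILetI false

universe u

open CategoryTheory CategoryTheory.Limits Opposite AlgebraicGeometry Abelian

namespace Groth.Agent.Lib.Helper19.SecDescEt

open Groth.Agent.Lib.Helper19.SecDesc

variable {X Y Z S : Scheme.{u}}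

instance pull_preservesFiniteLimits (f : X ⟶ Y) : PreservesFiniteLimits (EtCoh.pull f) :=
  Groth.Agent.S0101.result f

/-- The first projection `W ×_Y Y ≅ W`. -/
noncomputable def fstIso (Y : Scheme.{u}) {W : Scheme.{u}} (a : W ⟶ Y) : pullback a (𝟙 Y) ≅ W :=
  asIso (pullback.fst a (𝟙 Y))

lemma fstIso_hom (Y : Scheme.{u}) {W : Scheme.{u}} (a : W ⟶ Y) :
    (fstIso Y a).hom = pullback.fst a (𝟙 Y) := rfl

/-- Base change along the identity, on objects. -/
noncomputable def bcId' (Y : Scheme.{u}) (A : Y.Etale) : (EtCoh.bc (𝟙 Y)).obj A ≅ A := by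
  refine MorphismProperty.Over.isoMk (fstIso Y (W := A.left) A.hom) ?_
  rw [fstIso_hom]
  exact (pullback.condition (f := (A.hom : A.left ⟶ Y)) (g := 𝟙 Y)).trans (Category.comp_id _)

/-- Base change along the identity is the identity. -/
noncomputable def bcId (Y : Scheme.{u}) : EtCoh.bc (𝟙 Y) ≅ 𝟭 Y.Etale :=
  NatIso.ofComponents (fun A => bcId' Y A)
    (by
      intro A B g
      apply MorphismProperty.Over.Hom.ext
      change ((EtCoh.bc (𝟙 Y)).map g).left ≫ pullback.fst (B.hom : B.left ⟶ Y) (𝟙 Y) =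
        pullback.fst (A.hom : A.left ⟶ Y) (𝟙 Y) ≫ g.left
      exact pullback.lift_fst _ _ _)

/-- Direct image along the identity. -/
noncomputable def pushId (Y : Scheme.{u}) : EtCoh.push (𝟙 Y) ≅ 𝟭 (EtCoh.Ab Y) :=
  Functor.sheafPushforwardContinuousId' (bcId Y) _ _

/-- For a retraction `i ≫ r = 𝟙`, `r⁻¹` followed by `i⁻¹` is the identity. -/
noncomputable def retractIso (i : Y ⟶ Z) (r : Z ⟶ Y) (h : i ≫ r = 𝟙 Y) :
    EtCoh.pull r ⋙ EtCoh.pull i ≅ 𝟭 (EtCoh.Ab Y) :=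
  (conjugateIsoEquiv (Adjunction.id) ((EtCoh.pullPushAdj r).comp (EtCoh.pullPushAdj i))).symm
    ((pushId Y).symm ≪≫ (EtCoh.pushCongr h).symm ≪≫ (EtCoh.pushComp r i).symm)

/-- Etale cohomology of `G` on `Y` is a retract of the cohomology of `r⁻¹ G` on `Z`. -/
theorem H_retract (i : Y ⟶ Z) (r : Z ⟶ Y) (h : i ≫ r = 𝟙 Y) (G : EtCoh.Ab Y) (n : ℕ) :
    ∃ (a : EtCoh.H Y G n →+ EtCoh.H Z ((EtCoh.pull r).obj G) n)
      (b : EtCoh.H Z ((EtCoh.pull r).obj G) n →+ EtCoh.H Y G n), ∀ x, b (a x) = x :=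
  ext_retract (EtCoh.pull r) (EtCoh.pull i) (retractIso i r h) (EtCore.pullConst r ℤ).symm G n

/-- Isomorphic sheaves have isomorphic cohomology. -/
noncomputable def HCongr {G G' : EtCoh.Ab Y} (e : G ≅ G') (n : ℕ) :
    EtCoh.H Y G n ≃+ EtCoh.H Y G' n where
  toFun := Sheaf.H.map e.hom n
  invFun := Sheaf.H.map e.inv n
  left_inv x := by
    rw [Sheaf.H.map_apply, Sheaf.H.map_apply, Ext.comp_assoc_of_third_deg_zero,
      Ext.mk₀_comp_mk₀, e.hom_inv_id, Ext.comp_mk₀_id]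
  right_inv x := by
    rw [Sheaf.H.map_apply, Sheaf.H.map_apply, Ext.comp_assoc_of_third_deg_zero,
      Ext.mk₀_comp_mk₀, e.inv_hom_id, Ext.comp_mk₀_id]
  map_add' := map_add _

/-- Generalized retract statement with coefficients pulled back from a base. -/
theorem H_retract_base (i : Y ⟶ Z) (r : Z ⟶ Y) (h : i ≫ r = 𝟙 Y) (g : Y ⟶ S) (g' : Z ⟶ S)
    (hg : g' = r ≫ g) (F : EtCoh.Ab S) (n : ℕ) :
    ∃ (a : EtCoh.H Y ((EtCoh.pull g).obj F) n →+ EtCoh.H Z ((EtCoh.pull g').obj F) n)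
      (b : EtCoh.H Z ((EtCoh.pull g').obj F) n →+ EtCoh.H Y ((EtCoh.pull g).obj F) n),
      ∀ x, b (a x) = x := by
  subst hg
  obtain ⟨a, b, hab⟩ := H_retract i r h ((EtCoh.pull g).obj F) n
  let c : EtCoh.H Z ((EtCoh.pull (r ≫ g)).obj F) n ≃+
      EtCoh.H Z ((EtCoh.pull r).obj ((EtCoh.pull g).obj F)) n :=
    HCongr ((EtCore.pullComp r g).app F) n
  refine ⟨c.symm.toAddMonoidHom.comp a, b.comp c.toAddMonoidHom, fun x => ?_⟩
  change b (c (c.symm (a x))) = x
  rw [c.apply_symm_apply, hab]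

end Groth.Agent.Lib.Helper19.SecDescEt
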