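import Mathlib.RingTheory.Etale.Field
import Mathlib.RingTheory.Smooth.Basic
import Mathlib.RingTheory.IntegralClosure.IsIntegralClosure.Basic
import Groth.Agent.Lib.Helper19SmallExt

set_option autoImplicit false
universe u v w

open CategoryTheory ArtFun ArtFun.Art

namespace Groth.Agent.Lib.Helper19

section Section

variable {Λ : Type u} {k : Type u} [CommRing Λ] [Field k] [Algebra Λ k]

/-- In the separable case, an object killed by the kernel of `Λ → k` has a section of its augmentation. -/
theorem exists_section_of_separable [Algebra.IsSeparable (↥(algebraMap Λ k).range) k]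
    (E : Art Λ k) (hE : ∀ r : Λ, algebraMap Λ k r = 0 → algebraMap Λ E r = 0) :
    ∃ σ : k →ₐ[Λ] E, ∀ c, E.res (σ c) = c := by
  have hint : Algebra.IsIntegral (↥(algebraMap Λ k).range) k :=
    ⟨Algebra.IsSeparable.isIntegral _⟩
  have hf : IsField ↥(algebraMap Λ k).range :=
    isField_of_isIntegral_of_isField (S := k) Subtype.val_injective (Field.toIsField k)
  letI : Field ↥(algebraMap Λ k).range := hf.toField
  haveI : Algebra.FormallyEtale (↥(algebraMap Λ k).range) k :=
    Algebra.FormallyEtale.of_isSeparable (↥(algebraMap Λ k).range) k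
  have hsurj : Function.Surjective (algebraMap Λ k).rangeRestrict :=
    (algebraMap Λ k).rangeRestrict_surjective
  have hker : RingHom.ker (algebraMap Λ k).rangeRestrict ≤ RingHom.ker (algebraMap Λ E) := by
    intro r hr
    rw [RingHom.mem_ker] at hr ⊢
    apply hE
    have := congrArg Subtype.val hr
    exact this
  let φ : ↥(algebraMap Λ k).range →+* E :=
    RingHom.liftOfSurjective (algebraMap Λ k).rangeRestrict hsurj ⟨algebraMap Λ E, hker⟩
  have hφ : ∀ r : Λ, φ ((algebraMap Λ k).rangeRestrict r) = algebraMap Λ E r := fun r =>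
    RingHom.liftOfRightInverse_comp_apply _ _ (Function.rightInverse_surjInv hsurj)
      ⟨algebraMap Λ E, hker⟩ r
  letI : Algebra (↥(algebraMap Λ k).range) E := φ.toAlgebra
  let res' : E →ₐ[↥(algebraMap Λ k).range] k :=
    { (E.res : E →+* k) with
      commutes' := fun x => by
        obtain ⟨r, rfl⟩ := hsurj x
        show E.res (φ ((algebraMap Λ k).rangeRestrict r)) = _
        rw [hφ, AlgHom.commutes]
        rfl }
  have hres's : Function.Surjective res' := E.res_surjective
  have hnil : IsNilpotent (RingHom.ker (res' : E →+* k)) := by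
    obtain ⟨n, hn⟩ := isNilpotent_maximalIdeal_of_artinian E
    refine ⟨n, ?_⟩
    have hk : RingHom.ker (res' : E →+* k) = IsLocalRing.maximalIdeal E := by
      ext x
      rw [RingHom.mem_ker, Art.mem_maximalIdeal_iff]
      rfl
    rw [hk, hn]
  let σ' : k →ₐ[↥(algebraMap Λ k).range] E :=
    Algebra.FormallySmooth.liftOfSurjective (AlgHom.id _ k) res' hres's hnil
  have hσ' : ∀ c, E.res (σ' c) = c := fun c =>
    Algebra.FormallySmooth.liftOfSurjective_apply (AlgHom.id _ k) res' hres's hnil c
  refine ⟨{ (σ' : k →+* E) with
      commutes' := fun r => by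
        have h1 : algebraMap Λ k r =
            algebraMap (↥(algebraMap Λ k).range) k ((algebraMap Λ k).rangeRestrict r) := rfl
        show σ' (algebraMap Λ k r) = algebraMap Λ E r
        rw [h1, σ'.commutes, ← hφ]
        rfl }, hσ'⟩

end Section

end Groth.Agent.Lib.Helper19
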