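import Mathlib
import Groth.Prelude.Def_GrSeg
import Groth.Prelude.Def_CAlg
import Groth.Agent.Lib.Helper28PolyCM
import Groth.Agent.Lib.Helper28Unmixed
import Groth.Agent.Lib.Helper28Depth
import Groth.Agent.Lib.Helper5CM2

/-!
# Segre products `k[X](a) # k[Y_1..Y_s](b)` (helper19)

The Segre product of `k[X]` with `S = k[Y_1, …, Y_s]` is `S` itself (via `X ↦ 1`), and
`k[X](a) # S(b)` is the submodule `S_{≥ b - a}` of `S`.
-/

set_option autoImplicit false
set_option linter.unusedSectionVars false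
set_option linter.unusedVariables false
universe u

namespace Groth.Agent.Lib.Helper19SegreOne

open MvPolynomial TensorProduct

section Poly

variable (k : Type u) [Field k] (s : ℕ)

/-- weighted degree with all weights `1 : ℤ`. -/
noncomputable def wdeg {σ : Type} (d : σ →₀ ℕ) : ℤ := Finsupp.weight (fun _ : σ => (1 : ℤ)) d

theorem wdeg_add {σ : Type} (d e : σ →₀ ℕ) : wdeg (d + e) = wdeg d + wdeg e := by
  unfold wdeg; rw [map_add]

theorem wdeg_single {σ : Type} (i : σ) (n : ℕ) : wdeg (Finsupp.single i n) = n := by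
  unfold wdeg; rw [Finsupp.weight_single]; simp

theorem wdeg_nonneg {σ : Type} (d : σ →₀ ℕ) : 0 ≤ wdeg d := by
  unfold wdeg
  rw [Finsupp.weight_apply, Finsupp.sum]
  refine Finset.sum_nonneg fun i _ => ?_
  simp

theorem wdeg_fin_one (d : Fin 1 →₀ ℕ) : wdeg d = d 0 := by
  unfold wdeg
  rw [Finsupp.weight_eq_sum]
  simp

theorem eq_single_of_fin_one (d : Fin 1 →₀ ℕ) : d = Finsupp.single 0 (d 0) := by
  refine Finsupp.ext fun i => ?_
  have : i = 0 := Subsingleton.elim _ _
  subst this
  simp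

/-- polynomials all of whose monomials have degree `≥ c`. -/
noncomputable def Jge (c : ℤ) : Submodule k (MvPolynomial (Fin s) k) where
  carrier := {f | ∀ d, coeff d f ≠ 0 → c ≤ wdeg d}
  zero_mem' := fun d hd => absurd (coeff_zero d) hd
  add_mem' := by
    intro f g hf hg d hd
    rw [coeff_add] at hd
    by_cases h : coeff d f = 0
    · rw [h, zero_add] at hd
      exact hg d hd
    · exact hf d h
  smul_mem' := by
    intro c f hf d hd
    rw [coeff_smul] at hd
    exact hf d (right_ne_zero_of_mul hd)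

variable {k s}

theorem mem_Jge {c : ℤ} {f : MvPolynomial (Fin s) k} :
    f ∈ Jge k s c ↔ ∀ d, coeff d f ≠ 0 → c ≤ wdeg d := Iff.rfl

theorem Jge_eq_top {c : ℤ} (hc : c ≤ 0) : Jge k s c = ⊤ := by
  rw [eq_top_iff]
  intro f _ d _
  exact hc.trans (wdeg_nonneg d)

theorem Jge_mono {c c' : ℤ} (h : c ≤ c') : Jge k s c' ≤ Jge k s c :=
  fun f hf d hd => h.trans (hf d hd)

theorem mul_mem_Jge {c c' : ℤ} {f g : MvPolynomial (Fin s) k} (hf : f ∈ Jge k s c)
    (hg : g ∈ Jge k s c') : f * g ∈ Jge k s (c + c') := by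
  classical
  intro d hd
  rw [coeff_mul] at hd
  obtain ⟨⟨u, v⟩, huv, H⟩ := Finset.exists_ne_zero_of_sum_ne_zero hd
  have h1 : coeff u f ≠ 0 := left_ne_zero_of_mul H
  have h2 : coeff v g ≠ 0 := right_ne_zero_of_mul H
  rw [← Finset.HasAntidiagonal.mem_antidiagonal.mp huv, wdeg_add]
  exact add_le_add (hf u h1) (hg v h2)

theorem homog_le_Jge {c j : ℤ} (h : c ≤ j) :
    weightedHomogeneousSubmodule k (fun _ : Fin s => (1 : ℤ)) j ≤ Jge k s c := by
  intro f hf d hd
  have : wdeg d = j := hf hd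
  rw [this]; exact h

theorem monomial_mem_homog (d : Fin s →₀ ℕ) (c : k) :
    monomial d c ∈ weightedHomogeneousSubmodule k (fun _ : Fin s => (1 : ℤ)) (wdeg d) :=
  isWeightedHomogeneous_monomial _ d c rfl

end Poly

section Theta

variable (k : Type u) [Field k] (s : ℕ)

/-- `X ↦ 1` on the first tensor factor. -/
noncomputable def theta :
    MvPolynomial (Fin 1) k ⊗[k] MvPolynomial (Fin s) k →ₐ[k] MvPolynomial (Fin s) k :=
  Algebra.TensorProduct.lift
    ((Algebra.ofId k (MvPolynomial (Fin s) k)).comp (aeval (fun _ : Fin 1 => (1 : k))))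
    (AlgHom.id k _) (fun _ _ => Commute.all _ _)

variable {k s}

theorem theta_monomial_tmul (e : Fin 1 →₀ ℕ) (c : k) (g : MvPolynomial (Fin s) k) :
    theta k s (monomial e c ⊗ₜ[k] g) = c • g := by
  rw [theta, Algebra.TensorProduct.lift_tmul, AlgHom.comp_apply, aeval_monomial]
  simp [Algebra.ofId_apply, smul_eq_C_mul]

variable (k s)

/-- a partial inverse of `theta` on the `(a,b)`-diagonal, `δ = a - b`. -/
noncomputable def eta (δ : ℤ) :
    MvPolynomial (Fin s) k →ₗ[k] MvPolynomial (Fin 1) k ⊗[k] MvPolynomial (Fin s) k :=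
  (basisMonomials (Fin s) k).constr k
    (fun d => monomial (Finsupp.single 0 (wdeg d + δ).toNat) (1 : k) ⊗ₜ[k] monomial d (1 : k))

variable {k s}

theorem eta_monomial (δ : ℤ) (d : Fin s →₀ ℕ) (c : k) :
    eta k s δ (monomial d c) =
      monomial (Finsupp.single 0 (wdeg d + δ).toNat) (1 : k) ⊗ₜ[k] monomial d c := by
  have h1 : monomial d c = c • (basisMonomials (Fin s) k) d := by
    rw [coe_basisMonomials, smul_monomial, smul_eq_mul, mul_one]
  rw [h1, map_smul, eta, Module.Basis.constr_basis, ← TensorProduct.tmul_smul, smul_monomial,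
    smul_eq_mul, mul_one, coe_basisMonomials, smul_monomial, smul_eq_mul, mul_one]

/-- homogeneous polynomials in one variable are monomials -/
theorem eq_monomial_of_mem_homog {i : ℤ} {x : MvPolynomial (Fin 1) k}
    (hx : x ∈ weightedHomogeneousSubmodule k (fun _ : Fin 1 => (1 : ℤ)) i) :
    x = monomial (Finsupp.single 0 i.toNat) (coeff (Finsupp.single 0 i.toNat) x) ∧
      (i < 0 → x = 0) := by
  classical
  have key : ∀ d, coeff d x ≠ 0 → d = Finsupp.single 0 i.toNat ∧ 0 ≤ i := by
    intro d hd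
    have h1 : wdeg d = i := hx hd
    rw [wdeg_fin_one] at h1
    constructor
    · rw [eq_single_of_fin_one d]
      congr 1
      omega
    · omega
  constructor
  · ext d
    rw [coeff_monomial]
    split_ifs with h
    · rw [h]
    · by_contra h0
      exact h (key d h0).1.symm
  · intro hi
    ext d
    rw [coeff_zero]
    by_contra h0
    have := (key d h0).2
    omega

theorem theta_tmul_mem_homog {i j : ℤ} {x : MvPolynomial (Fin 1) k} {y : MvPolynomial (Fin s) k}
    (hx : x ∈ weightedHomogeneousSubmodule k (fun _ : Fin 1 => (1 : ℤ)) i)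
    (hy : y ∈ weightedHomogeneousSubmodule k (fun _ : Fin s => (1 : ℤ)) j) :
    theta k s (x ⊗ₜ[k] y) ∈ weightedHomogeneousSubmodule k (fun _ : Fin s => (1 : ℤ)) j := by
  obtain ⟨hx1, -⟩ := eq_monomial_of_mem_homog hx
  rw [hx1, theta_monomial_tmul]
  exact Submodule.smul_mem _ _ hy

/-- the `(a,b)`-shifted diagonal of `k[X] ⊗ S`. -/
noncomputable def Wab (a b : ℤ) :
    Submodule k (MvPolynomial (Fin 1) k ⊗[k] MvPolynomial (Fin s) k) :=
  ⨆ n : ℤ, GrSeg.segrePiece k
    (fun n : ℤ => weightedHomogeneousSubmodule k (fun _ : Fin 1 => (1 : ℤ)) (n + a))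
    (fun n : ℤ => weightedHomogeneousSubmodule k (fun _ : Fin s => (1 : ℤ)) (n + b)) n

theorem eta_theta_tmul {i j : ℤ} {x : MvPolynomial (Fin 1) k} {y : MvPolynomial (Fin s) k}
    (hx : x ∈ weightedHomogeneousSubmodule k (fun _ : Fin 1 => (1 : ℤ)) i)
    (hy : y ∈ weightedHomogeneousSubmodule k (fun _ : Fin s => (1 : ℤ)) j) :
    eta k s (i - j) (theta k s (x ⊗ₜ[k] y)) = x ⊗ₜ[k] y ∧
      theta k s (x ⊗ₜ[k] y) ∈ Jge k s (j - i) := by
  obtain ⟨hx1, hx2⟩ := eq_monomial_of_mem_homog hx
  by_cases hi : i < 0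
  · rw [hx2 hi, TensorProduct.zero_tmul, map_zero, map_zero]
    exact ⟨rfl, Submodule.zero_mem _⟩
  push Not at hi
  set c := coeff (Finsupp.single 0 i.toNat) x with hc
  rw [hx1, theta_monomial_tmul]
  constructor
  · rw [map_smul]
    have h1 : eta k s (i - j) y = monomial (Finsupp.single 0 i.toNat) (1 : k) ⊗ₜ[k] y := by
      conv_lhs => rw [← support_sum_monomial_coeff y]
      rw [map_sum]
      conv_rhs => rw [← support_sum_monomial_coeff y, TensorProduct.tmul_sum]
      refine Finset.sum_congr rfl fun d hd => ?_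
      rw [eta_monomial]
      have h2 : wdeg d = j := hy (mem_support_iff.1 hd)
      rw [h2, show j + (i - j) = i by ring]
    rw [h1, TensorProduct.smul_tmul', smul_monomial, smul_eq_mul, mul_one]
  · refine Submodule.smul_mem _ _ (homog_le_Jge ?_ hy)
    omega

theorem eta_theta_of_mem_Wab {a b : ℤ}
    {w : MvPolynomial (Fin 1) k ⊗[k] MvPolynomial (Fin s) k} (hw : w ∈ Wab (k := k) (s := s) a b) :
    eta k s (a - b) (theta k s w) = w ∧ theta k s w ∈ Jge k s (b - a) := by
  have hle : Wab (k := k) (s := s) a b ≤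
      (LinearMap.eqLocus ((eta k s (a - b)).comp (theta k s).toLinearMap) LinearMap.id) ⊓
        (Jge k s (b - a)).comap (theta k s).toLinearMap := by
    refine iSup_le fun n => Submodule.span_le.2 ?_
    rintro _ ⟨x, hx, y, hy, rfl⟩
    have := eta_theta_tmul hx hy
    have e1 : n + a - (n + b) = a - b := by ring
    have e2 : n + b - (n + a) = b - a := by ring
    rw [e1, e2] at this
    exact ⟨this.1, this.2⟩
  exact hle hw

theorem exists_mem_Wab_theta_eq {a b : ℤ} {f : MvPolynomial (Fin s) k}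
    (hf : f ∈ Jge k s (b - a)) : ∃ w ∈ Wab (k := k) (s := s) a b, theta k s w = f := by
  refine ⟨∑ d ∈ f.support, monomial (Finsupp.single 0 (wdeg d + (a - b)).toNat) (1 : k) ⊗ₜ[k]
    monomial d (coeff d f), ?_, ?_⟩
  · refine Submodule.sum_mem _ fun d hd => ?_
    have h1 : b - a ≤ wdeg d := hf d (mem_support_iff.1 hd)
    refine Submodule.mem_iSup_of_mem (wdeg d - b) (Submodule.subset_span ?_)
    refine ⟨_, ?_, _, ?_, rfl⟩
    · refine isWeightedHomogeneous_monomial _ _ _ ?_
      show wdeg (Finsupp.single (0 : Fin 1) (wdeg d + (a - b)).toNat) = wdeg d - b + a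
      rw [wdeg_single]
      omega
    · have := monomial_mem_homog (k := k) d (coeff d f)
      show monomial d (coeff d f) ∈
        weightedHomogeneousSubmodule k (fun _ : Fin s => (1 : ℤ)) (wdeg d - b + b)
      rwa [show wdeg d - b + b = wdeg d by ring]
  · rw [map_sum]
    conv_rhs => rw [← support_sum_monomial_coeff f]
    refine Finset.sum_congr rfl fun d _ => ?_
    rw [theta_monomial_tmul, one_smul]

end Theta

section Act

variable {k : Type u} [Field k] {s : ℕ}

theorem act_eq_mul (x y : MvPolynomial (Fin 1) k ⊗[k] MvPolynomial (Fin s) k) :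
    GrSeg.act k (MvPolynomial (Fin 1) k) (MvPolynomial (Fin s) k) (MvPolynomial (Fin 1) k)
      (MvPolynomial (Fin s) k) x y = x * y := by
  induction x using TensorProduct.induction_on with
  | zero => simp
  | add x x' hx hx' => rw [map_add, LinearMap.add_apply, hx, hx', add_mul]
  | tmul r t =>
    induction y using TensorProduct.induction_on with
    | zero => simp
    | add y y' hy hy' => rw [map_add, hy, hy', mul_add]
    | tmul m n =>
      rw [GrSeg.act_tmul, Algebra.TensorProduct.tmul_mul_tmul, smul_eq_mul, smul_eq_mul]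

end Act

section Structure

variable {k : Type u} [Field k] {s : ℕ} {a b : ℤ}
  {P : Type u} [AddCommGroup P] [Module k P]
  (φ : P →ₗ[k] MvPolynomial (Fin 1) k ⊗[k] MvPolynomial (Fin s) k)

/-- the composite `P → k[X] ⊗ S → S`. -/
noncomputable def Theta : P →ₗ[k] MvPolynomial (Fin s) k := (theta k s).toLinearMap ∘ₗ φ

theorem Theta_apply (p : P) : Theta φ p = theta k s (φ p) := rfl

theorem Theta_injective (hinj : Function.Injective φ)
    (hrange : LinearMap.range φ = Wab (k := k) (s := s) a b) : Function.Injective (Theta φ) := by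
  rw [injective_iff_map_eq_zero]
  intro p hp
  have h1 : φ p ∈ Wab (k := k) (s := s) a b := by rw [← hrange]; exact ⟨p, rfl⟩
  have h2 := (eta_theta_of_mem_Wab h1).1
  rw [Theta_apply] at hp
  rw [hp, map_zero] at h2
  exact hinj (by rw [← h2, map_zero])

theorem range_Theta (hrange : LinearMap.range φ = Wab (k := k) (s := s) a b) :
    LinearMap.range (Theta φ) = Jge k s (b - a) := by
  apply le_antisymm
  · rintro _ ⟨p, rfl⟩
    have h1 : φ p ∈ Wab (k := k) (s := s) a b := by rw [← hrange]; exact ⟨p, rfl⟩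
    exact (eta_theta_of_mem_Wab h1).2
  · intro f hf
    obtain ⟨w, hw, rfl⟩ := exists_mem_Wab_theta_eq (a := a) (b := b) hf
    rw [← hrange] at hw
    obtain ⟨p, rfl⟩ := hw
    exact ⟨p, rfl⟩

end Structure

section DepthAbstract

open RingTheory.Sequence Pointwise

variable {R : Type u} [CommRing R] {I : Ideal R} {M : Type u} [AddCommGroup M] [Module R M]

theorem idealDepth_le_one_of_socle (hIM : I • (⊤ : Submodule R M) ≠ ⊤)
    (h : ∀ x ∈ I, IsSMulRegular M x → ∃ w : M, w ∉ x • (⊤ : Submodule R M) ∧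
      ∀ y ∈ I, y • w ∈ x • (⊤ : Submodule R M)) :
    LocCoh.idealDepth I M ≤ 1 := by
  rw [Groth.Agent.Lib.Helper28.idealDepth_eq_iSup_of_smul_top_ne_top I M hIM]
  refine iSup₂_le fun rs hrs => ?_
  obtain ⟨hreg, hmem⟩ := hrs
  match rs, hreg, hmem with
  | [], _, _ => simp
  | [x], _, _ => simp
  | x :: y :: rest, hreg, hmem =>
    exfalso
    obtain ⟨hx, hrest⟩ := (isWeaklyRegular_cons_iff M x (y :: rest)).mp hreg
    have hy := ((isWeaklyRegular_cons_iff (QuotSMulTop x M) y rest).mp hrest).1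
    obtain ⟨w, hw1, hw2⟩ := h x (hmem x List.mem_cons_self) hx
    have hyI : y ∈ I := hmem y (List.mem_cons_of_mem _ List.mem_cons_self)
    have h1 : y • (Submodule.Quotient.mk w : QuotSMulTop x M) = y • 0 := by
      rw [smul_zero, ← Submodule.Quotient.mk_smul, Submodule.Quotient.mk_eq_zero]
      exact hw2 y hyI
    have h2 := hy h1
    rw [Submodule.Quotient.mk_eq_zero] at h2
    exact hw1 h2

end DepthAbstract

section DepthConcrete

open RingTheory.Sequence Pointwise

variable {k : Type u} [Field k] {s : ℕ}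
  {T : Type u} [CommRing T] {P : Type u} [AddCommGroup P] [Module T P] [Module k P]
  (e : T →+* MvPolynomial (Fin s) k)
  (Θ : P →ₗ[k] MvPolynomial (Fin s) k)

theorem X_pow_mem_Jge (i0 : Fin s) (n : ℕ) : (X i0 : MvPolynomial (Fin s) k) ^ n ∈ Jge k s n := by
  rw [X_pow_eq_monomial]
  refine homog_le_Jge (le_of_eq ?_) (monomial_mem_homog _ _)
  rw [wdeg_single]

theorem X_pow_notMem_Jge (i0 : Fin s) (n : ℕ) {c : ℤ} (hc : (n : ℤ) < c) :
    (X i0 : MvPolynomial (Fin s) k) ^ n ∉ Jge k s c := by
  intro h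
  have := h (Finsupp.single i0 n) (by
    rw [X_pow_eq_monomial, coeff_monomial, if_pos rfl]; exact one_ne_zero)
  rw [wdeg_single] at this
  omega

theorem idealDepth_eq_one (hΘinj : Function.Injective Θ)
    (hΘmul : ∀ (t : T) (p : P), Θ (t • p) = e t * Θ p) {c : ℤ} (hc : 1 ≤ c)
    (hΘrange : LinearMap.range Θ = Jge k s c) (I : Ideal T)
    (hI1 : ∀ t ∈ I, e t ∈ Jge k s 1) (i0 : Fin s) (t0 : T) (ht0 : t0 ∈ I) (het0 : e t0 = X i0) :
    LocCoh.idealDepth I P = (1 : ℕ∞) := by
  have hmemr : ∀ p, Θ p ∈ Jge k s c := fun p => by rw [← hΘrange]; exact ⟨p, rfl⟩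
  have hsurj : ∀ f ∈ Jge k s c, ∃ p, Θ p = f := fun f hf => by
    rw [← hΘrange] at hf; exact hf
  obtain ⟨c₀, rfl⟩ : ∃ c₀ : ℕ, c = c₀ := ⟨c.toNat, by omega⟩
  have hc₀ : 1 ≤ c₀ := by exact_mod_cast hc
  obtain ⟨p0, hp0⟩ := hsurj _ (X_pow_mem_Jge (k := k) i0 c₀)
  -- (i)
  have hIM : I • (⊤ : Submodule T P) ≠ ⊤ := by
    intro htop
    have h1 : ∀ p ∈ I • (⊤ : Submodule T P), Θ p ∈ Jge k s (1 + c₀) := by
      intro p hp
      refine Submodule.smul_induction_on hp ?_ ?_
      · intro t ht p _
        rw [hΘmul]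
        exact mul_mem_Jge (hI1 t ht) (hmemr p)
      · intro x y hx hy
        rw [map_add]
        exact Submodule.add_mem _ hx hy
    have h2 := h1 p0 (by rw [htop]; exact Submodule.mem_top)
    rw [hp0] at h2
    exact X_pow_notMem_Jge i0 c₀ (by omega) h2
  apply le_antisymm
  · refine idealDepth_le_one_of_socle hIM ?_
    intro x hx hxreg
    have hex : e x ≠ 0 := by
      intro h0
      have h1 : x • p0 = x • (0 : P) := by
        apply hΘinj
        rw [hΘmul, hΘmul, h0, zero_mul, zero_mul]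
      have h2 := hxreg h1
      rw [h2, map_zero] at hp0
      exact pow_ne_zero _ (X_ne_zero i0) hp0.symm
    have hm : (X i0 : MvPolynomial (Fin s) k) ^ (c₀ - 1) ∈ Jge k s ((c₀ : ℤ) - 1) := by
      have := X_pow_mem_Jge (k := k) i0 (c₀ - 1)
      rwa [Nat.cast_sub hc₀, Nat.cast_one] at this
    have hmul : ∀ y ∈ I, e y * (X i0 : MvPolynomial (Fin s) k) ^ (c₀ - 1) ∈ Jge k s c₀ := by
      intro y hy
      have := mul_mem_Jge (hI1 y hy) hm
      rwa [show (1 : ℤ) + ((c₀ : ℤ) - 1) = c₀ by ring] at this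
    obtain ⟨w, hw⟩ := hsurj _ (hmul x hx)
    refine ⟨w, ?_, ?_⟩
    · intro hmem
      obtain ⟨p, -, hp⟩ := (Submodule.mem_smul_pointwise_iff_exists _ _ _).1 hmem
      have h1 : e x * Θ p = e x * (X i0 : MvPolynomial (Fin s) k) ^ (c₀ - 1) := by
        rw [← hΘmul, hp, hw]
      have h2 := mul_left_cancel₀ hex h1
      have h3 := hmemr p
      rw [h2] at h3
      exact X_pow_notMem_Jge i0 (c₀ - 1) (by omega) h3
    · intro y hy
      obtain ⟨p', hp'⟩ := hsurj _ (hmul y hy)
      refine (Submodule.mem_smul_pointwise_iff_exists _ _ _).2 ⟨p', Submodule.mem_top, ?_⟩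
      apply hΘinj
      rw [hΘmul, hΘmul, hp', hw]
      ring
  · rw [Groth.Agent.Lib.Helper28.one_le_idealDepth_iff hIM]
    refine ⟨t0, ht0, ?_⟩
    intro p p' hpp
    apply hΘinj
    have h1 : e t0 * Θ p = e t0 * Θ p' := by
      rw [← hΘmul, ← hΘmul]
      exact congrArg Θ hpp
    rw [het0] at h1
    exact mul_left_cancel₀ (X_ne_zero i0) h1

end DepthConcrete

section CM

variable {k : Type u} [Field k] {s : ℕ}
  {T : Type u} [CommRing T] {P : Type u} [AddCommGroup P] [Module T P] [Module k P]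
  (e : T ≃+* MvPolynomial (Fin s) k)
  (Θ : P →ₗ[k] MvPolynomial (Fin s) k)

/-- if `Θ` is bijective then `P` is free of rank one over `T`. -/
noncomputable def equivSelf (hΘ : Function.Bijective Θ)
    (hΘmul : ∀ (t : T) (p : P), Θ (t • p) = e t * Θ p) : P ≃ₗ[T] T :=
  LinearEquiv.ofBijective
    { toFun := fun p => e.symm (Θ p)
      map_add' := fun p p' => by rw [map_add, map_add]
      map_smul' := fun t p => by
        rw [hΘmul, map_mul, RingEquiv.symm_apply_apply, RingHom.id_apply, smul_eq_mul] }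
    ⟨e.symm.injective.comp hΘ.1, e.symm.surjective.comp hΘ.2⟩

theorem cm_localization (eP : P ≃ₗ[T] T) [hT : LocCoh.IsCohenMacaulayRing T] (q : Ideal T)
    [q.IsPrime] :
    LocCoh.IsCohenMacaulayModule (Localization.AtPrime q) (LocalizedModule q.primeCompl P) := by
  have hq := hT.isCohenMacaulayLocalRing_localization q
  have h1 : LocCoh.IsCohenMacaulayModule (Localization.AtPrime q) (Localization.AtPrime q) :=
    hq.supportDim_eq_depth
  let eq : LocalizedModule q.primeCompl P ≃ₗ[Localization.AtPrime q] Localization.AtPrime q :=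
    IsLocalizedModule.mapEquiv q.primeCompl (LocalizedModule.mkLinearMap q.primeCompl P)
      (Algebra.linearMap T (Localization.AtPrime q)) (Localization.AtPrime q) eP
  exact (Groth.Agent.Lib.Helper5.isCohenMacaulayModule_congr eq).2 h1

end CM

section Main

attribute [local instance] MvPolynomial.weightedGradedAlgebra

theorem main (k : Type u) [Field k] (s : ℕ) (h2s : 2 ≤ s) (T : Type u) [CommRing T] [Algebra k T]
    (𝒯 : ℤ → Submodule k T) [GradedAlgebra 𝒯]
    (ψ : T →ₐ[k] TensorProduct k (MvPolynomial (Fin 1) k) (MvPolynomial (Fin s) k))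
    (hT : GrSeg.IsSegreRing
      (MvPolynomial.weightedHomogeneousSubmodule k (fun _ : Fin 1 => (1 : ℤ)))
      (MvPolynomial.weightedHomogeneousSubmodule k (fun _ : Fin s => (1 : ℤ))) 𝒯 ψ)
    (mT : HomogeneousIdeal 𝒯)
    (hmT : mT.toIdeal = Ideal.span (⋃ n ∈ Set.Ioi (0 : ℤ), (𝒯 n : Set T))) (a b : ℤ)
    (P : Type u) [AddCommGroup P] [Module T P] [Module k P] [IsScalarTower k T P]
    (𝒬 : ℤ → AddSubgroup P) [DirectSum.Decomposition 𝒬]
    (φ : P →ₗ[k] TensorProduct k (MvPolynomial (Fin 1) k) (MvPolynomial (Fin s) k))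
    (hP : GrSeg.IsSegreMod ψ
      (fun n : ℤ => (MvPolynomial.weightedHomogeneousSubmodule k (fun _ : Fin 1 => (1 : ℤ))) (n + a))
      (fun n : ℤ => (MvPolynomial.weightedHomogeneousSubmodule k (fun _ : Fin s => (1 : ℤ))) (n + b))
      𝒬 φ) :
    (b ≤ a → (∀ (q : Ideal T) [q.IsPrime], Subsingleton (LocalizedModule q.primeCompl P) ∨
      LocCoh.IsCohenMacaulayModule (Localization.AtPrime q) (LocalizedModule q.primeCompl P))) ∧
    (a < b → LocCoh.idealDepth mT.toIdeal P = (1 : ℕ∞)) := by
  classical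
  -- range of ψ
  have hψrange : LinearMap.range ψ.toLinearMap = Wab (k := k) (s := s) 0 0 := by
    have h1 : Wab (k := k) (s := s) 0 0 = ⨆ n : ℤ, (𝒯 n).map ψ.toLinearMap := by
      unfold Wab
      simp only [add_zero]
      exact iSup_congr fun n => (hT.2 n).symm
    rw [h1, ← Submodule.map_iSup,
      (DirectSum.Decomposition.isInternal 𝒯).submodule_iSup_eq_top, Submodule.map_top]
  -- range of φ
  have hφrange : LinearMap.range φ = Wab (k := k) (s := s) a b := by
    apply le_antisymm
    · rintro _ ⟨p, rfl⟩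
      rw [← DirectSum.sum_support_decompose 𝒬 p, map_sum]
      refine Submodule.sum_mem _ fun n _ => ?_
      refine Submodule.mem_iSup_of_mem n ?_
      have := hP.image_piece n
      have h2 : φ (DirectSum.decompose 𝒬 p n : P) ∈ φ '' (𝒬 n : Set P) :=
        ⟨_, (DirectSum.decompose 𝒬 p n).2, rfl⟩
      rw [this] at h2
      exact h2
    · refine iSup_le fun n => ?_
      intro w hw
      have := hP.image_piece n
      have h2 : w ∈ φ '' (𝒬 n : Set P) := by rw [this]; exact hw
      obtain ⟨p, -, rfl⟩ := h2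
      exact ⟨p, rfl⟩
  -- the ring isomorphism
  have heinj : Function.Injective ((theta k s).comp ψ) := by
    have := Theta_injective (a := 0) (b := 0) ψ.toLinearMap hT.1 hψrange
    exact this
  have hesurj : Function.Surjective ((theta k s).comp ψ) := by
    have := range_Theta (a := 0) (b := 0) ψ.toLinearMap hψrange
    rw [sub_zero, Jge_eq_top le_rfl] at this
    exact LinearMap.range_eq_top.1 this
  let e : T ≃ₐ[k] MvPolynomial (Fin s) k := AlgEquiv.ofBijective ((theta k s).comp ψ) ⟨heinj, hesurj⟩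
  have he : ∀ t, e t = theta k s (ψ t) := fun t => rfl
  -- Θ
  have hΘinj := Theta_injective φ hP.injective hφrange
  have hΘrange := range_Theta φ hφrange
  have hΘmul : ∀ (t : T) (p : P), Theta φ (t • p) = e.toRingEquiv t * Theta φ p := by
    intro t p
    rw [Theta_apply, hP.map_smul, act_eq_mul, map_mul]
    rfl
  constructor
  · intro hba q hq
    right
    have hbij : Function.Bijective (Theta φ) := by
      refine ⟨hΘinj, ?_⟩
      rw [Jge_eq_top (by omega)] at hΘrange
      exact LinearMap.range_eq_top.1 hΘrange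
    have hk : LocCoh.IsCohenMacaulayRing k := Groth.Agent.Lib.Helper28.isCohenMacaulayRing_of_field k
    have hS : LocCoh.IsCohenMacaulayRing (MvPolynomial (Fin s) k) :=
      Groth.Agent.Lib.Helper28.isCohenMacaulayRing_mvPolynomial_fin s
    have hTcm : LocCoh.IsCohenMacaulayRing T :=
      Groth.Agent.Lib.Helper28.isCohenMacaulayRing_of_ringEquiv e.toRingEquiv.symm
    exact cm_localization (equivSelf e.toRingEquiv (Theta φ) hbij hΘmul) q
  · intro hab
    have hs : 0 < s := by omega
    let i0 : Fin s := ⟨0, hs⟩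
    -- elements of mT map into Jge 1
    have hI1 : ∀ t ∈ mT.toIdeal, e.toRingEquiv t ∈ Jge k s 1 := by
      intro t ht
      rw [hmT] at ht
      refine Submodule.span_induction ?_ ?_ ?_ ?_ ht
      · intro t ht
        simp only [Set.mem_iUnion, Set.mem_Ioi, SetLike.mem_coe] at ht
        obtain ⟨n, hn, htn⟩ := ht
        have h1 : ψ t ∈ (𝒯 n).map ψ.toLinearMap := ⟨t, htn, rfl⟩
        rw [hT.2 n] at h1
        have hle : GrSeg.segrePiece k
            (weightedHomogeneousSubmodule k (fun _ : Fin 1 => (1 : ℤ)))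
            (weightedHomogeneousSubmodule k (fun _ : Fin s => (1 : ℤ))) n ≤
            (Jge k s 1).comap (theta k s).toLinearMap := by
          refine Submodule.span_le.2 ?_
          rintro _ ⟨x, hx, y, hy, rfl⟩
          exact homog_le_Jge (by omega) (theta_tmul_mem_homog hx hy)
        exact hle h1
      · simp
      · intro x y _ _ hx hy
        rw [map_add]
        exact Submodule.add_mem _ hx hy
      · intro r x _ hx
        rw [smul_eq_mul, map_mul]
        have h0 : e.toRingEquiv r ∈ Jge k s 0 := by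
          rw [Jge_eq_top le_rfl]; exact Submodule.mem_top
        have := mul_mem_Jge h0 hx
        rwa [zero_add] at this
    -- an element of degree one
    have hX : (X 0 : MvPolynomial (Fin 1) k) ⊗ₜ[k] (X i0 : MvPolynomial (Fin s) k) ∈
        (𝒯 1).map ψ.toLinearMap := by
      rw [hT.2 1]
      refine Submodule.subset_span ⟨_, ?_, _, ?_, rfl⟩
      · refine isWeightedHomogeneous_monomial _ _ _ ?_
        rw [Finsupp.weight_single]; simp
      · refine isWeightedHomogeneous_monomial _ _ _ ?_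
        rw [Finsupp.weight_single]; simp
    obtain ⟨t0, ht0, hψt0⟩ := hX
    have ht0I : t0 ∈ mT.toIdeal := by
      rw [hmT]
      refine Ideal.subset_span ?_
      simp only [Set.mem_iUnion, Set.mem_Ioi, SetLike.mem_coe]
      exact ⟨1, one_pos, ht0⟩
    have het0 : e.toRingEquiv t0 = X i0 := by
      show theta k s (ψ t0) = X i0
      have : ψ t0 = (X 0 : MvPolynomial (Fin 1) k) ⊗ₜ[k] (X i0 : MvPolynomial (Fin s) k) := hψt0
      rw [this]
      show theta k s (monomial (Finsupp.single 0 1) (1 : k) ⊗ₜ[k] X i0) = X i0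
      rw [theta_monomial_tmul, one_smul]
    exact idealDepth_eq_one (e.toRingEquiv : T →+* MvPolynomial (Fin s) k) (Theta φ) hΘinj hΘmul
      (c := b - a) (by omega) hΘrange mT.toIdeal hI1 i0 t0 ht0I het0

end Main

end Groth.Agent.Lib.Helper19SegreOne
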