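import Mathlib

set_option autoImplicit false
set_option linter.unusedSectionVars false
universe u

namespace Groth.Agent.Lib.Helper19.Seidenberg

section Ext

variable {k : Type u} [CommRing k] {A : Type u} [CommRing A] [Algebra k A]
  (M : Submonoid A) (K : Type u) [CommRing K] [Algebra A K] [Algebra k K] [IsScalarTower k A K]
  [IsLocalization M K]

/-- extension of a derivation to a localization. -/
noncomputable def extDer (D : Derivation k A A) : Derivation k K K := by
  let ℓ : Ω[A⁄k] →ₗ[A] K := (Algebra.linearMap A K).comp D.liftKaehlerDifferential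
  have hu : ∀ x : M, IsUnit ((algebraMap A (Module.End A K)) ↑x) := by
    intro x
    have := IsLocalization.map_units K x
    rw [Module.End.isUnit_iff]
    constructor
    · intro a b hab
      simp only [Module.algebraMap_end_apply, Algebra.smul_def] at hab
      exact this.mul_left_cancel hab
    · intro b
      obtain ⟨u, hu⟩ := this
      refine ⟨↑u⁻¹ * b, ?_⟩
      simp only [Module.algebraMap_end_apply, Algebra.smul_def, ← hu]
      rw [← mul_assoc, Units.mul_inv, one_mul]
  let L : Ω[K⁄k] →ₗ[A] K :=
    IsLocalizedModule.lift M (KaehlerDifferential.map k k A K) ℓ hu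
  exact (LinearMap.extendScalarsOfIsLocalization M K L).compDer (KaehlerDifferential.D k K)

theorem extDer_algebraMap (D : Derivation k A A) (a : A) :
    extDer M K D (algebraMap A K a) = algebraMap A K (D a) := by
  unfold extDer
  rw [Derivation.coe_comp]
  simp only [LinearMap.coe_comp, Function.comp_apply, LinearMap.coe_restrictScalars,
    Derivation.coeFn_coe]
  rw [← KaehlerDifferential.map_D k k A K]
  rw [LinearMap.extendScalarsOfIsLocalization_apply', IsLocalizedModule.lift_apply]
  simp

end Ext

section Exp

variable {k : Type u} [Field k] [CharZero k] {K : Type u} [CommRing K] [Algebra k K]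
  (D : Derivation k K K)

/-- `exp(tD)` applied to `x`. -/
noncomputable def expFun (x : K) : PowerSeries K :=
  PowerSeries.mk fun n => ((n.factorial : k)⁻¹) • (((D : K →ₗ[k] K) ^ n) x)

theorem coeff_expFun (n : ℕ) (x : K) : PowerSeries.coeff n (expFun D x) =
    ((n.factorial : k)⁻¹) • (((D : K →ₗ[k] K) ^ n) x) := by
  unfold expFun
  rw [PowerSeries.coeff_mk]

theorem expFun_add (x y : K) : expFun D (x + y) = expFun D x + expFun D y := by
  ext n
  rw [map_add, coeff_expFun, coeff_expFun, coeff_expFun, map_add, smul_add]

theorem constantCoeff_expFun (x : K) : PowerSeries.constantCoeff (expFun D x) = x := by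
  rw [← PowerSeries.coeff_zero_eq_constantCoeff_apply, coeff_expFun]
  simp

theorem derivative_expFun (x : K) :
    PowerSeries.derivative K (expFun D x) = expFun D (D x) := by
  ext n
  rw [PowerSeries.coeff_derivative, coeff_expFun, coeff_expFun]
  have h1 : ((n : K) + 1) = algebraMap k K ((n : k) + 1) := by simp
  rw [h1, mul_comm, ← Algebra.smul_def, smul_smul, pow_succ, Module.End.mul_apply]
  congr 1
  rw [Nat.factorial_succ, Nat.cast_mul, mul_inv]
  have h2 : ((n : k) + 1) ≠ 0 := by exact_mod_cast Nat.succ_ne_zero n
  push_cast
  field_simp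

omit D in
theorem isUnit_natCast_succ (k : Type u) [Field k] [CharZero k] {K : Type u} [CommRing K]
    [Algebra k K] (n : ℕ) : IsUnit ((n : K) + 1) := by
  have h1 : ((n : K) + 1) = algebraMap k K ((n : k) + 1) := by simp
  rw [h1]
  have h2 : ((n : k) + 1) ≠ 0 := by exact_mod_cast Nat.succ_ne_zero n
  exact (IsUnit.mk0 _ h2).map (algebraMap k K)

theorem coeff_expFun_mul (n : ℕ) : ∀ a b : K,
    PowerSeries.coeff n (expFun D a * expFun D b) = PowerSeries.coeff n (expFun D (a * b)) := by
  induction n with
  | zero =>
    intro a b
    rw [PowerSeries.coeff_zero_eq_constantCoeff_apply, PowerSeries.coeff_zero_eq_constantCoeff_apply,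
      map_mul, constantCoeff_expFun, constantCoeff_expFun, constantCoeff_expFun]
  | succ n ih =>
    intro a b
    have h1 := PowerSeries.coeff_derivative (R := K) (expFun D a * expFun D b) n
    have h2 := PowerSeries.coeff_derivative (R := K) (expFun D (a * b)) n
    rw [Derivation.leibniz, derivative_expFun, derivative_expFun, smul_eq_mul, smul_eq_mul,
      map_add, ih, mul_comm (expFun D b), ih] at h1
    rw [derivative_expFun, Derivation.leibniz, expFun_add, map_add, smul_eq_mul, smul_eq_mul,
      mul_comm b] at h2
    rw [h2] at h1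
    exact ((isUnit_natCast_succ k n).mul_left_inj).mp h1.symm

theorem expFun_one : expFun D 1 = 1 := by
  ext n
  rw [coeff_expFun, PowerSeries.coeff_one]
  rcases n with _ | n
  · simp
  · rw [if_neg (Nat.succ_ne_zero n), pow_succ, Module.End.mul_apply]
    simp

/-- `exp(tD)` as a ring homomorphism. -/
noncomputable def expHom : K →+* PowerSeries K where
  toFun := expFun D
  map_one' := expFun_one D
  map_mul' a b := by
    ext n
    exact (coeff_expFun_mul D n a b).symm
  map_zero' := by
    ext n
    rw [coeff_expFun]
    simp
  map_add' := expFun_add D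

theorem expHom_apply (x : K) : expHom D x = expFun D x := rfl

end Exp

section Coeff

variable {A : Type u} [CommRing A] {K : Type u} [CommRing K] [Algebra A K]

/-- power series with coefficients in the image of `A`. -/
noncomputable abbrev psRange (A K : Type u) [CommRing A] [CommRing K] [Algebra A K] :
    Subring (PowerSeries K) := (PowerSeries.map (algebraMap A K)).range

theorem mem_psRange_iff (g : PowerSeries K) :
    g ∈ psRange A K ↔ ∀ j, PowerSeries.coeff j g ∈ (algebraMap A K).range := by
  constructor
  · rintro ⟨h, rfl⟩ j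
    exact ⟨PowerSeries.coeff j h, by rw [PowerSeries.coeff_map]⟩
  · intro hg
    choose a ha using hg
    refine ⟨PowerSeries.mk a, ?_⟩
    ext j
    rw [PowerSeries.coeff_map, PowerSeries.coeff_mk, ha]

theorem C_mem_psRange (a : A) : PowerSeries.C (algebraMap A K a) ∈ psRange A K := by
  refine ⟨PowerSeries.C a, ?_⟩
  rw [PowerSeries.map_C]

theorem mem_psRange_of_X_pow_mul (n : ℕ) (g : PowerSeries K)
    (h : PowerSeries.X ^ n * g ∈ psRange A K) : g ∈ psRange A K := by
  rw [mem_psRange_iff] at h ⊢
  intro j
  have := h (j + n)
  rwa [PowerSeries.coeff_X_pow_mul] at this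

theorem isAlmostIntegral_coeff (i : ℕ) : ∀ (y c₀ : PowerSeries K) (c : A), c ∈ nonZeroDivisors A →
    PowerSeries.constantCoeff c₀ = algebraMap A K c →
    (∀ n, c₀ * y ^ n ∈ psRange A K) → IsAlmostIntegral A (PowerSeries.coeff i y) := by
  induction i with
  | zero =>
    intro y c₀ c hc hc₀ hy
    refine ⟨c, hc, fun n => ?_⟩
    have := (mem_psRange_iff _).mp (hy n) 0
    rw [PowerSeries.coeff_zero_eq_constantCoeff_apply, map_mul, map_pow, hc₀] at this
    rw [Algebra.smul_def, PowerSeries.coeff_zero_eq_constantCoeff_apply]
    exact this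
  | succ i ih =>
    intro y c₀ c hc hc₀ hy
    set y0 := PowerSeries.constantCoeff y with hy0
    set z : PowerSeries K := PowerSeries.mk fun j => PowerSeries.coeff (j + 1) y with hz
    have hyz : y = PowerSeries.X * z + PowerSeries.C y0 := PowerSeries.eq_X_mul_shift_add_const y
    have hci : PowerSeries.coeff (i + 1) y = PowerSeries.coeff i z := by
      rw [hz, PowerSeries.coeff_mk]
    rw [hci]
    have hcy0 : ∀ l, PowerSeries.C (algebraMap A K c * y0 ^ l) ∈ psRange A K := by
      intro l
      have := (mem_psRange_iff _).mp (hy l) 0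
      rw [PowerSeries.coeff_zero_eq_constantCoeff_apply, map_mul, map_pow, hc₀] at this
      obtain ⟨a, ha⟩ := this
      rw [← ha]
      exact C_mem_psRange a
    refine ih z (PowerSeries.C (algebraMap A K c) * c₀) (c * c) (mul_mem hc hc) ?_ ?_
    · rw [map_mul, PowerSeries.constantCoeff_C, hc₀, map_mul]
    · intro n
      refine mem_psRange_of_X_pow_mul n _ ?_
      have h1 : PowerSeries.X ^ n * (PowerSeries.C (algebraMap A K c) * c₀ * z ^ n) =
          PowerSeries.C (algebraMap A K c) * c₀ * (y + -PowerSeries.C y0) ^ n := by
        have : y + -PowerSeries.C y0 = PowerSeries.X * z := by rw [hyz]; ring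
        rw [this, mul_pow]; ring
      rw [h1, add_pow, Finset.mul_sum]
      refine Subring.sum_mem _ (fun m _ => ?_)
      have h2 : PowerSeries.C (algebraMap A K c) * c₀ *
          (y ^ m * (-PowerSeries.C y0) ^ (n - m) * ((n.choose m : ℕ) : PowerSeries K)) =
          (c₀ * y ^ m) * ((-1) ^ (n - m) * PowerSeries.C (algebraMap A K c * y0 ^ (n - m))) *
            ((n.choose m : ℕ) : PowerSeries K) := by
        rw [map_mul, map_pow, neg_pow]
        ring
      rw [h2]
      refine Subring.mul_mem _ (Subring.mul_mem _ (hy m) (Subring.mul_mem _ ?_ (hcy0 _))) ?_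
      · exact Subring.pow_mem _ (Subring.neg_mem _ (Subring.one_mem _)) _
      · exact natCast_mem _ _

end Coeff

section Main

variable {k : Type u} [Field k] [CharZero k] {A : Type u} [CommRing A] [Algebra k A]
  [IsNoetherianRing A] (K : Type u) [CommRing K] [Algebra A K] [Algebra k K] [IsScalarTower k A K]
  [IsFractionRing A K] (D : Derivation k A A)

theorem pow_extDer (n : ℕ) : ∀ a : A,
    (((extDer (nonZeroDivisors A) K D : Derivation k K K) : K →ₗ[k] K) ^ n) (algebraMap A K a) =
      algebraMap A K (((D : A →ₗ[k] A) ^ n) a) := by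
  induction n with
  | zero => intro a; simp
  | succ n ih =>
    intro a
    rw [pow_succ, Module.End.mul_apply, pow_succ, Module.End.mul_apply]
    have : ((extDer (nonZeroDivisors A) K D : Derivation k K K) : K →ₗ[k] K) (algebraMap A K a) =
        algebraMap A K (D a) := extDer_algebraMap _ K D a
    rw [this, ih]
    rfl

theorem expFun_mem (a : A) :
    expFun (extDer (nonZeroDivisors A) K D) (algebraMap A K a) ∈ psRange A K := by
  rw [mem_psRange_iff]
  intro n
  rw [coeff_expFun, pow_extDer]
  refine ⟨((n.factorial : k)⁻¹) • (((D : A →ₗ[k] A) ^ n) a), ?_⟩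
  exact map_smul (IsScalarTower.toAlgHom k A K) _ _

theorem isIntegral_extDer {x : K} (hx : IsIntegral A x) :
    IsIntegral A (extDer (nonZeroDivisors A) K D x) := by
  obtain ⟨c, hc, hcx⟩ := hx.isAlmostIntegral
  have h1 : IsAlmostIntegral A (PowerSeries.coeff 1 (expFun (extDer (nonZeroDivisors A) K D) x)) := by
    refine isAlmostIntegral_coeff 1 _ (expFun (extDer (nonZeroDivisors A) K D) (algebraMap A K c)) c hc
      (constantCoeff_expFun _ _) ?_
    intro n
    obtain ⟨a, ha⟩ := hcx n
    have : expFun (extDer (nonZeroDivisors A) K D) (algebraMap A K c) *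
        expFun (extDer (nonZeroDivisors A) K D) x ^ n =
        expFun (extDer (nonZeroDivisors A) K D) (algebraMap A K a) := by
      rw [← expHom_apply, ← expHom_apply, ← expHom_apply, ← map_pow, ← map_mul, ha,
        Algebra.smul_def]
    rw [this]
    exact expFun_mem K D a
  rw [coeff_expFun] at h1
  simp only [Nat.factorial_one, Nat.cast_one, inv_one, one_smul, pow_one] at h1
  refine h1.isIntegral_of_nonZeroDivisors_le_comap ?_
  intro a ha
  exact (IsLocalization.map_units K ⟨a, ha⟩).mem_nonZeroDivisors

/-- the extended derivation on the integral closure. -/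
noncomputable def derInt : Derivation k ↥(integralClosure A K) ↥(integralClosure A K) :=
  Derivation.mk'
    { toFun := fun x => ⟨extDer (nonZeroDivisors A) K D x.1, isIntegral_extDer K D x.2⟩
      map_add' := by
        intro x y
        apply Subtype.ext
        simp
      map_smul' := by
        intro r x
        apply Subtype.ext
        simp }
    (by
      intro x y
      apply Subtype.ext
      simp [Derivation.leibniz])

theorem derInt_apply (x : ↥(integralClosure A K)) :
    ((derInt K D x : ↥(integralClosure A K)) : K) = extDer (nonZeroDivisors A) K D x.1 := rfl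

end Main

end Groth.Agent.Lib.Helper19.Seidenberg
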