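import Mathlib

/-! # Spreading out from the local ring at a prime to a basic open neighbourhood: basics -/

namespace Groth.Agent.Lib.LeadSpread

open TensorProduct

variable {R : Type*} [CommRing R] (p : Ideal R) [p.IsPrime] (M : Type*) [AddCommGroup M]
  [Module R M]

/-- every element of `R_p ⊗ M` becomes `1 ⊗ m` after scaling by some `s ∉ p` -/
theorem exists_smul_eq_tmul (x : Localization.AtPrime p ⊗[R] M) :
    ∃ (s : R) (_ : s ∉ p) (m : M), s • x = (1 : Localization.AtPrime p) ⊗ₜ[R] m := by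
  obtain ⟨⟨m, s⟩, h⟩ := IsLocalizedModule.surj p.primeCompl
    (TensorProduct.mk R (Localization.AtPrime p) M 1) x
  exact ⟨s.1, s.2, m, h⟩

variable {M}

theorem exists_smul_eq_of_tmul_eq {m m' : M}
    (h : (1 : Localization.AtPrime p) ⊗ₜ[R] m = (1 : Localization.AtPrime p) ⊗ₜ[R] m') :
    ∃ (s : R) (_ : s ∉ p), s • m = s • m' := by
  obtain ⟨c, hc⟩ := IsLocalizedModule.exists_of_eq (S := p.primeCompl)
    (f := TensorProduct.mk R (Localization.AtPrime p) M 1) h
  exact ⟨c.1, c.2, hc⟩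

omit [p.IsPrime] in
theorem tmul_eq_of_smul_eq (f : R) {s : R} (hs : s ∣ f) {m m' : M} (h : s • m = s • m')
    (r : Localization.Away f) : r ⊗ₜ[R] m = r ⊗ₜ[R] m' := by
  have hu : IsUnit (algebraMap R (Localization.Away f) s) :=
    isUnit_of_dvd_unit (map_dvd _ hs) (IsLocalization.Away.algebraMap_isUnit f)
  obtain ⟨v, hv⟩ := hu
  have hr : r = s • (r * ↑v⁻¹) := by
    rw [Algebra.smul_def, ← hv, mul_comm (v : Localization.Away f), mul_assoc, Units.inv_mul,
      mul_one]
  rw [hr, TensorProduct.smul_tmul, h, ← TensorProduct.smul_tmul]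

end Groth.Agent.Lib.LeadSpread
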