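import Mathlib
import Groth.Agent.Lib.Helper19SemiSNC
import Groth.Agent.Lib.LeadSpread

/-!
# Skolem–Noether over semilocal rings (helper19), part D: spreading out to a basic open of `Spec S`
(adapted from `LeadLocInnerZar`)
-/

set_option autoImplicit false
universe u v w

open TensorProduct Groth.Agent.Lib.LeadSpread

namespace Groth.Agent.Lib.Helper19SemiSN

variable {S : Type u} {R : Type v} [CommRing S] [CommRing R] [Algebra S R]
  (lam : R ≃ₐ[S] R) (hlam : ∀ r, lam (lam r) = r) (hfix : RInv.IsFixedRing S R lam.toRingEquiv)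
  {A : Type w} [Ring A] [Algebra S A] [Algebra R A] [IsScalarTower S R A] [IsAzumaya R A]
  (ψ : A ≃ₐ[R] A)

omit [IsAzumaya R A] in
theorem smul_comm_SR (s : S) (c : R) (z : A) : s • (c • z) = c • (s • z) := by
  calc s • (c • z) = (s • c) • z := (smul_assoc s c z).symm
    _ = (algebraMap S R s * c) • z := by rw [Algebra.smul_def s c]
    _ = (c * algebraMap S R s) • z := by rw [mul_comm]
    _ = c • (algebraMap S R s • z) := mul_smul _ _ _
    _ = c • (s • z) := by rw [algebraMap_smul]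

include hlam hfix in
theorem exists_away_unit_conj (p : Ideal S) [p.IsPrime] :
    ∃ (b : S) (_ : b ∉ p) (u : (Localization.Away b ⊗[S] A)ˣ),
      ∀ x : Localization.Away b ⊗[S] A,
        Algebra.TensorProduct.congr
          (AlgEquiv.refl : Localization.Away b ≃ₐ[Localization.Away b] Localization.Away b)
          (ψ.restrictScalars S) x = ↑u * x * ↑u⁻¹ := by
  classical
  let Sp := Localization.AtPrime p
  let φp : (Sp ⊗[S] A) ≃ₐ[Sp] (Sp ⊗[S] A) :=
    Algebra.TensorProduct.congr (AlgEquiv.refl : Sp ≃ₐ[Sp] Sp) (ψ.restrictScalars S)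
  have hφp : ∀ x : A, φp ((1 : Sp) ⊗ₜ[S] x) = (1 : Sp) ⊗ₜ[S] ψ x := fun x => by
    simp [φp]
  obtain ⟨u₀, hu₀⟩ := exists_unit_conj_local lam hlam hfix ψ Sp
  obtain ⟨s₁, hs₁, a, ha⟩ := exists_smul_eq_tmul p A (u₀ : Sp ⊗[S] A)
  obtain ⟨s₂, hs₂, b, hb⟩ := exists_smul_eq_tmul p A ((u₀⁻¹ : (Sp ⊗[S] A)ˣ) : Sp ⊗[S] A)
  have hab : (1 : Sp) ⊗ₜ[S] (a * b) = (1 : Sp) ⊗ₜ[S] ((s₁ * s₂) • (1 : A)) := by
    have h1 : (1 : Sp) ⊗ₜ[S] (a * b) = ((1 : Sp) ⊗ₜ[S] a) * ((1 : Sp) ⊗ₜ[S] b) := by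
      rw [Algebra.TensorProduct.tmul_mul_tmul, one_mul]
    rw [h1, ← ha, ← hb, smul_mul_smul_comm, Units.mul_inv, TensorProduct.tmul_smul,
      Algebra.TensorProduct.one_def]
  have hba : (1 : Sp) ⊗ₜ[S] (b * a) = (1 : Sp) ⊗ₜ[S] ((s₁ * s₂) • (1 : A)) := by
    have h1 : (1 : Sp) ⊗ₜ[S] (b * a) = ((1 : Sp) ⊗ₜ[S] b) * ((1 : Sp) ⊗ₜ[S] a) := by
      rw [Algebra.TensorProduct.tmul_mul_tmul, one_mul]
    rw [h1, ← ha, ← hb, smul_mul_smul_comm, Units.inv_mul, TensorProduct.tmul_smul,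
      Algebra.TensorProduct.one_def, mul_comm s₂ s₁]
  obtain ⟨s₃, hs₃, h3⟩ := exists_smul_eq_of_tmul_eq p hab
  obtain ⟨s₄, hs₄, h4⟩ := exists_smul_eq_of_tmul_eq p hba
  have hconj : ∀ x : A, (1 : Sp) ⊗ₜ[S] (ψ x * a) = (1 : Sp) ⊗ₜ[S] (a * x) := by
    intro x
    have h := hu₀ ((1 : Sp) ⊗ₜ[S] x)
    change φp ((1 : Sp) ⊗ₜ[S] x) = _ at h
    rw [hφp] at h
    have h' : ((1 : Sp) ⊗ₜ[S] ψ x) * (u₀ : Sp ⊗[S] A) = (u₀ : Sp ⊗[S] A) * ((1 : Sp) ⊗ₜ[S] x) := by
      rw [h, mul_assoc, Units.inv_mul, mul_one]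
    have h'' : ((1 : Sp) ⊗ₜ[S] ψ x) * ((1 : Sp) ⊗ₜ[S] a) =
        ((1 : Sp) ⊗ₜ[S] a) * ((1 : Sp) ⊗ₜ[S] x) := by
      rw [← ha, mul_smul_comm, smul_mul_assoc, h']
    rw [Algebra.TensorProduct.tmul_mul_tmul, Algebra.TensorProduct.tmul_mul_tmul, one_mul] at h''
    exact h''
  choose sx hsx1 hsx2 using fun x : A => exists_smul_eq_of_tmul_eq p (hconj x)
  obtain ⟨G, hG⟩ := (Module.Finite.fg_top : (⊤ : Submodule R A).FG)
  set s₅ : S := ∏ x ∈ G, sx x with hs₅def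
  have hs₅ : s₅ ∉ p := by
    rw [hs₅def]
    intro hmem
    obtain ⟨x, -, hx⟩ := (Ideal.IsPrime.prod_mem_iff (hp := ‹p.IsPrime›)).mp hmem
    exact hsx1 x hx
  have hall : ∀ x : A, s₅ • (ψ x * a) = s₅ • (a * x) := by
    intro x
    have hx : x ∈ Submodule.span R (G : Set A) := by rw [hG]; trivial
    induction hx using Submodule.span_induction with
    | mem y hy =>
      rw [hs₅def, ← Finset.mul_prod_erase G sx hy, mul_comm, mul_smul, mul_smul, hsx2 y]
    | zero => simp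
    | add y z _ _ hy hz => rw [map_add, add_mul, mul_add, smul_add, smul_add, hy, hz]
    | smul c y _ hy =>
      rw [map_smul, smul_mul_assoc, mul_smul_comm, smul_comm_SR s₅ c, smul_comm_SR s₅ c, hy]
  refine ⟨s₁ * s₂ * s₃ * s₄ * s₅, ?_, ?_⟩
  · intro hmem
    rcases (‹p.IsPrime›.mem_or_mem hmem) with h | h
    · rcases (‹p.IsPrime›.mem_or_mem h) with h | h
      · rcases (‹p.IsPrime›.mem_or_mem h) with h | h
        · rcases (‹p.IsPrime›.mem_or_mem h) with h | h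
          · exact hs₁ h
          · exact hs₂ h
        · exact hs₃ h
      · exact hs₄ h
    · exact hs₅ h
  set f := s₁ * s₂ * s₃ * s₄ * s₅ with hf
  have hd12 : s₁ * s₂ ∣ f := ⟨s₃ * s₄ * s₅, by rw [hf]; ring⟩
  have hd3 : s₃ ∣ f := ⟨s₁ * s₂ * s₄ * s₅, by rw [hf]; ring⟩
  have hd4 : s₄ ∣ f := ⟨s₁ * s₂ * s₃ * s₅, by rw [hf]; ring⟩
  have hd5 : s₅ ∣ f := ⟨s₁ * s₂ * s₃ * s₄, by rw [hf]; ring⟩
  have hu12 : IsUnit (algebraMap S (Localization.Away f) (s₁ * s₂)) :=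
    isUnit_of_dvd_unit (map_dvd _ hd12) (IsLocalization.Away.algebraMap_isUnit f)
  obtain ⟨w, hw⟩ := hu12
  let U : Localization.Away f ⊗[S] A := (1 : Localization.Away f) ⊗ₜ[S] a
  let V : Localization.Away f ⊗[S] A :=
    ((w⁻¹ : (Localization.Away f)ˣ) : Localization.Away f) ⊗ₜ[S] b
  have hone : ∀ r : Localization.Away f, r ⊗ₜ[S] ((s₁ * s₂) • (1 : A)) =
      ((w : Localization.Away f) * r) ⊗ₜ[S] (1 : A) := by
    intro r
    rw [← TensorProduct.smul_tmul, Algebra.smul_def, hw]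
  have hUV : U * V = 1 := by
    show ((1 : Localization.Away f) ⊗ₜ[S] a) *
      (((w⁻¹ : (Localization.Away f)ˣ) : Localization.Away f) ⊗ₜ[S] b) = 1
    rw [Algebra.TensorProduct.tmul_mul_tmul, one_mul, tmul_eq_of_smul_eq f hd3 h3, hone,
      Units.mul_inv, Algebra.TensorProduct.one_def]
  have hVU : V * U = 1 := by
    show (((w⁻¹ : (Localization.Away f)ˣ) : Localization.Away f) ⊗ₜ[S] b) *
      ((1 : Localization.Away f) ⊗ₜ[S] a) = 1
    rw [Algebra.TensorProduct.tmul_mul_tmul, mul_one, tmul_eq_of_smul_eq f hd4 h4, hone,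
      Units.mul_inv, Algebra.TensorProduct.one_def]
  refine ⟨⟨U, V, hUV, hVU⟩, ?_⟩
  intro y
  have key : Algebra.TensorProduct.congr
      (AlgEquiv.refl : Localization.Away f ≃ₐ[Localization.Away f] Localization.Away f)
      (ψ.restrictScalars S) y * U = U * y := by
    induction y using TensorProduct.induction_on with
    | zero => simp
    | tmul r x =>
      show Algebra.TensorProduct.congr
        (AlgEquiv.refl : Localization.Away f ≃ₐ[Localization.Away f] Localization.Away f)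
        (ψ.restrictScalars S) (r ⊗ₜ[S] x) * ((1 : Localization.Away f) ⊗ₜ[S] a) =
        ((1 : Localization.Away f) ⊗ₜ[S] a) * (r ⊗ₜ[S] x)
      rw [Algebra.TensorProduct.congr_apply, Algebra.TensorProduct.map_tmul,
        Algebra.TensorProduct.tmul_mul_tmul,
        Algebra.TensorProduct.tmul_mul_tmul, mul_one, one_mul]
      exact tmul_eq_of_smul_eq f hd5 (hall x) r
    | add y z hy hz => rw [map_add, add_mul, mul_add, hy, hz]
  show _ = U * y * V
  rw [← key, mul_assoc, hUV, mul_one]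

end Groth.Agent.Lib.Helper19SemiSN
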