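import Mathlib
import Groth.Prelude.Def_AzInv
import Groth.Agent.Lib.Helper19SemiSNE

/-!
# Skolem–Noether over semilocal rings (helper19), part F: base change of a `lam`-involution,
central fixed elements
-/

set_option autoImplicit false
universe u v w

open TensorProduct AzInv

namespace Groth.Agent.Lib.Helper19SemiSN

section BC

variable {S : Type u} {R : Type v} [CommRing S] [CommRing R] [Algebra S R]
  (lam : R ≃ₐ[S] R)
  {A : Type w} [Ring A] [Algebra S A] [Algebra R A] [IsScalarTower S R A]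
  (t : AzInv.LamInv R A lam) (S₁ : Type u) [CommRing S₁] [Algebra S S₁]

theorem bc_mul (x y : S₁ ⊗[S] A) :
    t.bc S lam S₁ (x * y) = t.bc S lam S₁ y * t.bc S lam S₁ x := by
  induction x using TensorProduct.induction_on with
  | zero => simp
  | tmul s a =>
    induction y using TensorProduct.induction_on with
    | zero => simp
    | tmul s' a' =>
      rw [Algebra.TensorProduct.tmul_mul_tmul, LamInv.bc_tmul, LamInv.bc_tmul, LamInv.bc_tmul,
        Algebra.TensorProduct.tmul_mul_tmul, t.map_mul, mul_comm]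
    | add y z hy hz => rw [mul_add, map_add, hy, hz, map_add, add_mul]
  | add x z hx hz => rw [add_mul, map_add, hx, hz, map_add, mul_add]

theorem bc_one : t.bc S lam S₁ (1 : S₁ ⊗[S] A) = 1 := by
  rw [Algebra.TensorProduct.one_def, LamInv.bc_tmul, t.map_one]

theorem bc_bc (x : S₁ ⊗[S] A) : t.bc S lam S₁ (t.bc S lam S₁ x) = x := by
  induction x using TensorProduct.induction_on with
  | zero => simp
  | tmul s a => rw [LamInv.bc_tmul, LamInv.bc_tmul, t.invol]
  | add x y hx hy => rw [map_add, map_add, hx, hy]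

/-- the map `S₁ ⊗[S] R → S₁ ⊗[S] A` -/
noncomputable def iota : S₁ ⊗[S] R →ₐ[S] S₁ ⊗[S] A :=
  Algebra.TensorProduct.map (AlgHom.id S S₁) (IsScalarTower.toAlgHom S R A)

@[simp] theorem iota_tmul (s : S₁) (r : R) :
    iota (S := S) (R := R) (A := A) S₁ (s ⊗ₜ[S] r) = s ⊗ₜ[S] algebraMap R A r := rfl

theorem bc_iota (r : S₁ ⊗[S] R) :
    t.bc S lam S₁ (iota (S := S) (R := R) (A := A) S₁ r) =
      iota (S := S) (R := R) (A := A) S₁ (Algebra.TensorProduct.congr (AlgEquiv.refl : S₁ ≃ₐ[S] S₁) lam r) := by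
  induction r using TensorProduct.induction_on with
  | zero => simp
  | tmul s r =>
    rw [iota_tmul, LamInv.bc_tmul, t.map_algebraMap, Algebra.TensorProduct.congr_apply,
      Algebra.TensorProduct.map_tmul, iota_tmul]
    rfl
  | add x y hx hy => simp only [map_add, hx, hy]

end BC

section Central

variable {S : Type u} {R : Type v} [CommRing S] [CommRing R] [Algebra S R]
  (lam : R ≃ₐ[S] R) (hlam : ∀ r, lam (lam r) = r) (hfix : RInv.IsFixedRing S R lam.toRingEquiv)
  {A : Type w} [Ring A] [Algebra S A] [Algebra R A] [IsScalarTower S R A] [IsAzumaya R A]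
  (t : AzInv.LamInv R A lam) (S₁ : Type u) [CommRing S₁] [Algebra S S₁]

attribute [local instance] Algebra.TensorProduct.rightAlgebra
attribute [local instance 10] algRA

theorem iota_eq_Xi (r : S₁ ⊗[S] R) :
    iota (S := S) (R := R) (A := A) S₁ r = Xi (S := S) (R := R) S₁ (r ⊗ₜ[R] (1 : A)) := by
  unfold Xi
  rw [Algebra.TensorProduct.lift_tmul, Xi1_apply, Xi2_apply]
  change _ = _ * (1 : S₁ ⊗[S] A)
  rw [mul_one]
  rfl

theorem iota_injective : Function.Injective (iota (S := S) (R := R) (A := A) S₁) := by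
  haveI : IsAzumaya (S₁ ⊗[S] R) ((S₁ ⊗[S] R) ⊗[R] A) :=
    Groth.Agent.Lib.LeadAzumaya.isAzumaya_baseChange (S₁ ⊗[S] R) A
  intro r r' h
  rw [iota_eq_Xi, iota_eq_Xi] at h
  have h2 := congrArg (XiInv (R := R) S₁) h
  rw [XiInv_Xi, XiInv_Xi] at h2
  exact FaithfulSMul.algebraMap_injective (S₁ ⊗[S] R) ((S₁ ⊗[S] R) ⊗[R] A) h2

/-- central elements of `S₁ ⊗[S] A` come from `S₁ ⊗[S] R` -/
theorem exists_iota_eq_of_central (z : S₁ ⊗[S] A) (hz : ∀ x, z * x = x * z) :
    ∃ r : S₁ ⊗[S] R, z = iota (S := S) (R := R) (A := A) S₁ r := by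
  haveI : IsAzumaya (S₁ ⊗[S] R) ((S₁ ⊗[S] R) ⊗[R] A) :=
    Groth.Agent.Lib.LeadAzumaya.isAzumaya_baseChange (S₁ ⊗[S] R) A
  obtain ⟨r, hr⟩ := exists_algebraMap_eq_of_central (T := S₁ ⊗[S] R)
    (XiInv (R := R) S₁ z) (by
      intro y
      have hy : y = XiInv (R := R) S₁ (Xi (S := S) (R := R) S₁ y) := (XiInv_Xi S₁ y).symm
      rw [hy, ← map_mul, ← map_mul, hz])
  refine ⟨r, ?_⟩
  rw [iota_eq_Xi, ← Xi_XiInv (R := R) S₁ z, hr]
  rfl

variable [Module.Flat S S₁]

include hlam hfix in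
/-- central elements of `S₁ ⊗[S] A` fixed by the base-changed involution come from `S₁` -/
theorem exists_tmul_one_eq (z : S₁ ⊗[S] A) (hz : ∀ x, z * x = x * z)
    (htz : t.bc S lam S₁ z = z) : ∃ s : S₁, z = s ⊗ₜ[S] (1 : A) := by
  have hfix' := Groth.Agent.S15586.result S R S₁ lam hlam hfix (Or.inl inferInstance)
  obtain ⟨r, rfl⟩ := exists_iota_eq_of_central (R := R) S₁ z hz
  rw [bc_iota] at htz
  have h1 := iota_injective (S := S) (R := R) (A := A) S₁ htz
  obtain ⟨s, hs⟩ := (hfix'.2 r).mp h1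
  refine ⟨s, ?_⟩
  rw [← hs, Algebra.TensorProduct.algebraMap_apply, iota_tmul, map_one]
  rfl

include hlam hfix in
theorem tmul_one_injective {s s' : S₁} (h : s ⊗ₜ[S] (1 : A) = s' ⊗ₜ[S] (1 : A)) : s = s' := by
  have hfix' := Groth.Agent.S15586.result S R S₁ lam hlam hfix (Or.inl inferInstance)
  apply hfix'.1
  apply iota_injective (R := R) (A := A) S₁
  rw [Algebra.TensorProduct.algebraMap_apply, Algebra.TensorProduct.algebraMap_apply, iota_tmul,
    iota_tmul, map_one]
  exact h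

end Central

end Groth.Agent.Lib.Helper19SemiSN
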