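import Groth.Agent.Lib.Helper19Section
import Groth.Agent.Lib.Helper19Sub
import Groth.Agent.Lib.Helper19Endo

set_option autoImplicit false
universe u v w

open CategoryTheory ArtFun ArtFun.Art

namespace Groth.Agent.Lib.Helper19

section SepCotangent

variable {Λ : Type u} {k : Type u} [CommRing Λ] [Field k] [Algebra Λ k]

/-- Given a section of the augmentation of an object with square-zero maximal ideal, every nonzero element of
the maximal ideal is detected by a tangent vector. -/
theorem exists_tangent_ne_zero_of_section (E : Art Λ k) (hE : IsLocalRing.maximalIdeal E ^ 2 = ⊥)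
    (σ : k →ₐ[Λ] E) (hσ : ∀ c, E.res (σ c) = c) (y : E) (hym : E.res y = 0) (hy0 : y ≠ 0) :
    ∃ t : E ⟶ dual Λ k, tder t y ≠ 0 := by
  letI : Module k E := Module.compHom E (σ : k →+* E)
  have hsmul : ∀ (c : k) (e : E), c • e = σ c * e := fun _ _ => rfl
  have hvnot : y ∉ Submodule.span k ({1} : Set E) := by
    intro hmem
    obtain ⟨c, hc⟩ := Submodule.mem_span_singleton.1 hmem
    rw [hsmul, mul_one] at hc
    have : E.res y = c := by rw [← hc, hσ]
    rw [hym] at this
    rw [← this, map_zero] at hc
    exact hy0 hc.symm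
  obtain ⟨f, hfy, hf1⟩ := Submodule.exists_dual_map_eq_bot_of_notMem hvnot inferInstance
  have hf1' : f 1 = 0 := by
    have : f 1 ∈ Submodule.map f (Submodule.span k ({1} : Set E)) :=
      Submodule.mem_map_of_mem (Submodule.subset_span rfl)
    rwa [hf1, Submodule.mem_bot] at this
  have hfσ : ∀ c : k, f (σ c) = 0 := by
    intro c
    have : σ c = c • (1 : E) := by rw [hsmul, mul_one]
    rw [this, map_smul, hf1', smul_zero]
  have hfσmul : ∀ (c : k) (e : E), f (σ c * e) = c * f e := by
    intro c e
    rw [← hsmul, map_smul, smul_eq_mul]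
  have hdecomp : ∀ a : E, a - σ (E.res a) ∈ IsLocalRing.maximalIdeal E := by
    intro a
    rw [Art.mem_maximalIdeal_iff, map_sub, hσ, sub_self]
  have hmul : ∀ a b : E, f (a * b) = E.res a * f b + E.res b * f a := by
    intro a b
    have h0 : (a - σ (E.res a)) * (b - σ (E.res b)) = 0 := by
      have : (a - σ (E.res a)) * (b - σ (E.res b)) ∈ IsLocalRing.maximalIdeal E ^ 2 := by
        rw [pow_two]; exact Ideal.mul_mem_mul (hdecomp a) (hdecomp b)
      rwa [hE, Ideal.mem_bot] at this
    have h1 : a * b = σ (E.res a) * b + σ (E.res b) * a - σ (E.res a * E.res b) := by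
      rw [map_mul]
      linear_combination h0
    rw [h1, map_sub, map_add, hfσ, sub_zero, hfσmul, hfσmul]
  refine ⟨⟨{ toFun := fun a => dmk (E.res a) (f a)
             map_one' := dual_ext (by rw [dfst_dmk, map_one, dfst_one])
               (by rw [dsnd_dmk, hf1', dsnd_one])
             map_mul' := fun a b => dual_ext
               (by rw [dfst_mul, dfst_dmk, dfst_dmk, dfst_dmk, map_mul])
               (by rw [dsnd_mul, dsnd_dmk, dsnd_dmk, dsnd_dmk, dfst_dmk, dfst_dmk, hmul])
             map_zero' := dual_ext (by rw [dfst_dmk, map_zero, dfst_zero])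
               (by rw [dsnd_dmk, map_zero, dsnd_zero])
             map_add' := fun a b => dual_ext
               (by rw [dfst_add, dfst_dmk, dfst_dmk, dfst_dmk, map_add])
               (by rw [dsnd_add, dsnd_dmk, dsnd_dmk, dsnd_dmk, map_add])
             commutes' := fun r => dual_ext
               (by rw [dfst_dmk, dfst_algebraMap, AlgHom.commutes])
               (by rw [dsnd_dmk, dsnd_algebraMap, ← σ.commutes, hfσ]) },
           AlgHom.ext fun _ => rfl⟩, ?_⟩
  exact hfy

/-- Tangent vectors kill `m_Λ A + m_A²`. -/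
lemma tder_eq_zero_of_mem {A : Art Λ k} (t : A ⟶ dual Λ k) (a : A)
    (ha : a ∈ Ideal.map (algebraMap Λ A) (RingHom.ker (algebraMap Λ k)) ⊔
      IsLocalRing.maximalIdeal A ^ 2) : tder t a = 0 := by
  have h1 : t.toAlgHom a ∈ Ideal.map t.toAlgHom
      (Ideal.map (algebraMap Λ A) (RingHom.ker (algebraMap Λ k)) ⊔
        IsLocalRing.maximalIdeal A ^ 2) := Ideal.mem_map_of_mem _ ha
  have h2 : Ideal.map t.toAlgHom
      (Ideal.map (algebraMap Λ A) (RingHom.ker (algebraMap Λ k)) ⊔
        IsLocalRing.maximalIdeal A ^ 2) = ⊥ := by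
    rw [eq_bot_iff, Ideal.map_sup, sup_le_iff]
    constructor
    · rw [Ideal.map_le_iff_le_comap, Ideal.map_le_iff_le_comap]
      intro r hr
      rw [Ideal.mem_comap, Ideal.mem_comap, Ideal.mem_bot, t.toAlgHom.commutes]
      apply dual_ext
      · rw [dfst_algebraMap, dfst_zero]; exact hr
      · rw [dsnd_algebraMap, dsnd_zero]
    · rw [Ideal.map_pow, ← maximalIdeal_dual_sq (Λ := Λ) (k := k)]
      exact Ideal.pow_right_mono
        (map_maximalIdeal_le A.res A.res_surjective (dual Λ k).res (dual Λ k).res_surjective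
          t.toAlgHom t.res_comp) 2
  rw [h2, Ideal.mem_bot] at h1
  show dsnd (t.toAlgHom a) = 0
  rw [h1, dsnd_zero]

/-- In the separable case, tangent vectors detect the relative cotangent space. -/
theorem exists_tangent_ne_zero_of_separable [Algebra.IsSeparable (↥(algebraMap Λ k).range) k]
    (B : Art Λ k) (b : B) (hbm : b ∈ IsLocalRing.maximalIdeal B)
    (hb : b ∉ Ideal.map (algebraMap Λ B) (RingHom.ker (algebraMap Λ k)) ⊔
      IsLocalRing.maximalIdeal B ^ 2) : ∃ t : B ⟶ dual Λ k, tder t b ≠ 0 := by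
  have hI : Ideal.map (algebraMap Λ B) (RingHom.ker (algebraMap Λ k)) ⊔
      IsLocalRing.maximalIdeal B ^ 2 ≤ IsLocalRing.maximalIdeal B :=
    sup_le (map_kerΛ_le_maximalIdeal B.res B.res_surjective) (Ideal.pow_le_self two_ne_zero)
  generalize hIdef : Ideal.map (algebraMap Λ B) (RingHom.ker (algebraMap Λ k)) ⊔
      IsLocalRing.maximalIdeal B ^ 2 = I at hb hI
  have hπs : Function.Surjective (quotMk B I hI) := quotMk_surjective B I hI
  have hE1 : ∀ r : Λ, algebraMap Λ k r = 0 → algebraMap Λ (quot B I hI) r = 0 := by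
    intro r hr
    rw [← (quotMk B I hI).toAlgHom.commutes]
    show quotMk B I hI (algebraMap Λ B r) = 0
    rw [quotMk_eq_zero_iff, ← hIdef]
    exact Ideal.mem_sup_left (Ideal.mem_map_of_mem _ hr)
  have hE2 : IsLocalRing.maximalIdeal (quot B I hI) ^ 2 = ⊥ := by
    rw [pow_two, eq_bot_iff, Ideal.mul_le]
    intro x hx x' hx'
    obtain ⟨a, rfl⟩ := hπs x
    obtain ⟨a', rfl⟩ := hπs x'
    rw [Art.mem_maximalIdeal_iff, Art.res_app, ← Art.mem_maximalIdeal_iff] at hx hx'
    rw [Ideal.mem_bot, ← hom_map_mul, quotMk_eq_zero_iff, ← hIdef]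
    apply Ideal.mem_sup_right
    rw [pow_two]
    exact Ideal.mul_mem_mul hx hx'
  obtain ⟨σ, hσ⟩ := exists_section_of_separable (quot B I hI) hE1
  have hy0 : quotMk B I hI b ≠ 0 := by
    intro h
    rw [quotMk_eq_zero_iff] at h
    exact hb h
  have hym : (quot B I hI).res (quotMk B I hI b) = 0 := by
    rw [Art.res_app, ← Art.mem_maximalIdeal_iff]
    exact hbm
  obtain ⟨t', ht'⟩ := exists_tangent_ne_zero_of_section (quot B I hI) hE2 σ hσ _ hym hy0
  exact ⟨quotMk B I hI ≫ t', ht'⟩

variable [Module.Finite Λ k]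

lemma map_maximalIdeal_eq_of_surjective {B A : Art Λ k} (f : B ⟶ A) (hf : Function.Surjective f) :
    Ideal.map f.toAlgHom (IsLocalRing.maximalIdeal B) = IsLocalRing.maximalIdeal A := by
  apply le_antisymm
    (map_maximalIdeal_le B.res B.res_surjective A.res A.res_surjective f.toAlgHom f.res_comp)
  intro a ha
  obtain ⟨b, rfl⟩ := hf a
  apply Ideal.mem_map_of_mem
  rw [Art.mem_maximalIdeal_iff] at ha ⊢
  rw [← Art.res_app f]
  exact ha

/-- Essential surjections and relative cotangent spaces, in the separable case. -/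
theorem essSurj_iff_cotangent_of_separable [Algebra.IsSeparable (↥(algebraMap Λ k).range) k]
    {A B : Art Λ k} (f : B ⟶ A) :
    (Function.Surjective f ∧ ∀ (C : Art Λ k) (g : C ⟶ B), Function.Surjective (g ≫ f) →
        Function.Surjective g) ↔
      (Ideal.map (algebraMap Λ A) (RingHom.ker (algebraMap Λ k)) ⊔
            Ideal.map f.toAlgHom (IsLocalRing.maximalIdeal B) ⊔ IsLocalRing.maximalIdeal A ^ 2 =
          IsLocalRing.maximalIdeal A ∧
        ∀ b ∈ IsLocalRing.maximalIdeal B,
          f b ∈ Ideal.map (algebraMap Λ A) (RingHom.ker (algebraMap Λ k)) ⊔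
            IsLocalRing.maximalIdeal A ^ 2 →
          b ∈ Ideal.map (algebraMap Λ B) (RingHom.ker (algebraMap Λ k)) ⊔
            IsLocalRing.maximalIdeal B ^ 2) := by
  have tf := fun {X Y : Art Λ k} (g : X ⟶ Y) =>
    (surjective_tfae_cotangent X.res X.res_surjective Y.res Y.res_surjective
      g.toAlgHom g.res_comp).out 0 2
  constructor
  · intro hess
    have hfs := hess.1
    have hbij := (essSurj_iff_tangent_bijective f).1 hess
    refine ⟨(tf f).1 hfs, ?_⟩
    intro b hbm hfb
    by_contra hb
    obtain ⟨t₀, ht₀⟩ := exists_tangent_ne_zero_of_separable B b hbm hb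
    obtain ⟨t, rfl⟩ := hbij.2 t₀
    apply ht₀
    rw [tder_comp]
    exact tder_eq_zero_of_mem t (f b) hfb
  · rintro ⟨h1, h2⟩
    have hfs : Function.Surjective f := (tf f).2 h1
    refine ⟨hfs, ?_⟩
    intro C g hg
    apply (tf g).2
    apply le_antisymm
    · exact sup_le (sup_le (map_kerΛ_le_maximalIdeal B.res B.res_surjective)
        (map_maximalIdeal_le C.res C.res_surjective B.res B.res_surjective g.toAlgHom g.res_comp))
        (Ideal.pow_le_self two_ne_zero)
    · intro b hbm
      have h3 := (tf (g ≫ f)).1 hg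
      have hfb : f b ∈ IsLocalRing.maximalIdeal A := by
        rw [Art.mem_maximalIdeal_iff, Art.res_app, ← Art.mem_maximalIdeal_iff]
        exact hbm
      have hmapJ : Ideal.map f.toAlgHom
          (Ideal.map (algebraMap Λ B) (RingHom.ker (algebraMap Λ k)) ⊔
            Ideal.map g.toAlgHom (IsLocalRing.maximalIdeal C) ⊔ IsLocalRing.maximalIdeal B ^ 2) =
          IsLocalRing.maximalIdeal A := by
        have e1 : Ideal.map f.toAlgHom
            (Ideal.map (algebraMap Λ B) (RingHom.ker (algebraMap Λ k))) =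
            Ideal.map (algebraMap Λ A) (RingHom.ker (algebraMap Λ k)) := by
          have := Ideal.map_map (I := RingHom.ker (algebraMap Λ k)) (algebraMap Λ B)
            (f.toAlgHom : B →+* A)
          rw [AlgHom.comp_algebraMap f.toAlgHom] at this
          exact this
        have e2 : Ideal.map f.toAlgHom (Ideal.map g.toAlgHom (IsLocalRing.maximalIdeal C)) =
            Ideal.map (g ≫ f).toAlgHom (IsLocalRing.maximalIdeal C) :=
          Ideal.map_mapₐ g.toAlgHom f.toAlgHom
        rw [Ideal.map_sup, Ideal.map_sup, e1, e2, Ideal.map_pow,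
          map_maximalIdeal_eq_of_surjective f hfs]
        exact h3
      rw [← hmapJ] at hfb
      obtain ⟨j, hj, hfj⟩ := (Ideal.mem_map_iff_of_surjective f.toAlgHom hfs).1 hfb
      have hjm : j ∈ IsLocalRing.maximalIdeal B :=
        (sup_le (sup_le (map_kerΛ_le_maximalIdeal B.res B.res_surjective)
          (map_maximalIdeal_le C.res C.res_surjective B.res B.res_surjective g.toAlgHom g.res_comp))
          (Ideal.pow_le_self two_ne_zero)) hj
      have hdiff : b - j ∈ Ideal.map (algebraMap Λ B) (RingHom.ker (algebraMap Λ k)) ⊔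
          IsLocalRing.maximalIdeal B ^ 2 := by
        apply h2 _ (Ideal.sub_mem _ hbm hjm)
        have : f (b - j) = 0 := by
          rw [hom_map_sub, sub_eq_zero]
          exact hfj.symm
        rw [this]
        exact Ideal.zero_mem _
      have hbj : b = (b - j) + j := by ring
      rw [hbj]
      apply Ideal.add_mem _ _ hj
      exact (sup_le (le_sup_of_le_left le_sup_left) le_sup_right :
        Ideal.map (algebraMap Λ B) (RingHom.ker (algebraMap Λ k)) ⊔
          IsLocalRing.maximalIdeal B ^ 2 ≤ _) hdiff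

end SepCotangent

end Groth.Agent.Lib.Helper19
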