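import Mathlib
import Groth.Agent.Lib.Helper6RegSm2
import Groth.Agent.Lib.Helper6SmReg

/-!
# Regular = smooth for finite type algebras over perfect fields, and differentials (helper19)
-/

set_option autoImplicit false
set_option linter.style.haveILetI false
set_option linter.unusedSectionVars false
universe u

open IsLocalRing KaehlerDifferential

namespace Groth.Agent.Lib.Helper19.SmVar

/-- a finite type algebra over a perfect field is regular iff it is (formally) smooth -/
theorem isRegularRing_iff_formallySmooth (k S : Type u) [Field k] [PerfectField k] [CommRing S]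
    [Algebra k S] [Algebra.FiniteType k S] :
    IsRegularRing S ↔ Algebra.FormallySmooth k S := by
  haveI : Algebra.FinitePresentation k S :=
    Algebra.FinitePresentation.of_finiteType.mp inferInstance
  haveI : IsNoetherianRing S := Algebra.FiniteType.isNoetherianRing k S
  constructor
  · intro h
    rw [← Algebra.smoothLocus_eq_univ_iff, Set.eq_univ_iff_forall]
    intro q
    haveI : IsRegularLocalRing (Localization.AtPrime q.asIdeal) :=
      IsRegularRing.isRegularLocalRing_localization q.asIdeal
    haveI : Algebra.EssFiniteType k q.asIdeal.ResidueField :=
      Algebra.EssFiniteType.comp k S _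
    haveI : Algebra.FormallySmooth k q.asIdeal.ResidueField :=
      Algebra.FormallySmooth.of_perfectField
    exact Groth.Agent.Lib.Helper6.RegSm.isSmoothAt_of_isRegularLocalRing k S q.asIdeal
  · intro h
    rw [isRegularRing_iff]
    intro q hq
    have h1 : (⟨q, hq⟩ : PrimeSpectrum S) ∈ Algebra.smoothLocus k S := by
      rw [Algebra.smoothLocus_eq_univ_iff.mpr h]; trivial
    haveI : Algebra.IsSmoothAt k q := h1
    exact Groth.Agent.Lib.Helper6.SmReg.isRegularLocalRing_of_isSmoothAt (R := k) q

/-- **Hartshorne II.8.17** (affine form): for a surjection `A → B` of finite type algebras over a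
perfect field with `A` regular, `B` is regular iff `Ω_{B/k}` is projective and the conormal
sequence is left exact -/
theorem isRegularRing_quotient_iff (k A B : Type u) [Field k] [PerfectField k] [CommRing A]
    [CommRing B] [Algebra k A] [Algebra.FiniteType k A] [IsRegularRing A] [Algebra A B]
    [Algebra k B] [IsScalarTower k A B] (hsurj : Function.Surjective (algebraMap A B)) :
    IsRegularRing B ↔
      (Module.Projective B (Ω[B⁄k]) ∧
        Function.Injective (KaehlerDifferential.kerCotangentToTensor k A B)) := by
  haveI : Algebra.FiniteType k B :=
    Algebra.FiniteType.of_surjective (IsScalarTower.toAlgHom k A B) hsurj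
  haveI : Algebra.FormallySmooth k A := (isRegularRing_iff_formallySmooth k A).mp inferInstance
  rw [isRegularRing_iff_formallySmooth k B,
    Algebra.FormallySmooth.kerCotangentToTensor_injective_iff hsurj]
  exact ⟨fun h => ⟨h.1, h.2⟩, fun h => ⟨h.1, h.2⟩⟩

end Groth.Agent.Lib.Helper19.SmVar
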