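import Groth.Agent.Lib.Helper28FlatNormal

/-!
# The dimension formula `dim B = dim A + dim B/m_A B` without flatness (helper28)

EGA 0_IV 16.3.9-type statement: for a local homomorphism of Noetherian local rings `A → B` such
that for `p ≠ m_A` no minimal prime of `pB` lies over `m_A`, `dim B = dim A + dim (B / m_A B)`.

* `ringKrullDim_quotient_eq_of_le_nilradical`, `ringKrullDim_quotient_succ_eq_of_notMem_minimalPrimes`;
* `NoMinimalOverMax`, `NoMinimalOverMax.quotient`;
* `ringKrullDim_eq_add_of_noMinimalOverMax_aux`.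
-/
set_option autoImplicit false
universe u v w u' v'

namespace Groth.Agent.Lib.Helper28
open RingTheory.Sequence CategoryTheory Abelian TensorProduct
open scoped Pointwise

section DimQuot

/-- Quotienting by an ideal of nilpotents does not change the Krull dimension. -/
theorem ringKrullDim_quotient_eq_of_le_nilradical {R : Type u} [CommRing R] (J : Ideal R)
    (hJ : J ≤ nilradical R) : ringKrullDim (R ⧸ J) = ringKrullDim R := by
  apply le_antisymm (ringKrullDim_quotient_le J)
  rw [ringKrullDim_quotient, ringKrullDim]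
  have huniv : PrimeSpectrum.zeroLocus (J : Set R) = Set.univ := by
    rw [Set.eq_univ_iff_forall]
    intro p
    rw [PrimeSpectrum.mem_zeroLocus]
    exact hJ.trans (nilradical_le_prime p.asIdeal)
  rw [huniv]
  exact (Order.krullDim_eq_of_orderIso (OrderIso.Set.univ (α := PrimeSpectrum R))).ge

/-- In a Noetherian local ring, killing an element of the maximal ideal outside all minimal primes
drops the dimension by exactly one. -/
theorem ringKrullDim_quotient_succ_eq_of_notMem_minimalPrimes {R : Type u} [CommRing R]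
    [IsNoetherianRing R] [IsLocalRing R] (I : Ideal R) (x : R) (hI : I = Ideal.span {x})
    (hx : x ∈ IsLocalRing.maximalIdeal R) (hn : ∀ p ∈ minimalPrimes R, x ∉ p) :
    ringKrullDim (R ⧸ I) + 1 = ringKrullDim R := by
  subst hI
  have h : Ideal.span {x} = x • (⊤ : Ideal R) := by
    simp [← Submodule.ideal_span_singleton_smul]
  rw [ringKrullDim_eq_of_ringEquiv (Ideal.quotientEquivAlgOfEq R h).toRingEquiv,
    ← Module.supportDim_quotient_eq_ringKrullDim, ← Module.supportDim_self_eq_ringKrullDim]
  apply Module.supportDim_quotSMulTop_succ_eq_of_notMem_minimalPrimes_of_mem_jacobson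
  · intro p hp
    rw [Module.annihilator_eq_bot.mpr inferInstance] at hp
    exact hn p hp
  · rw [Module.annihilator_eq_bot.mpr inferInstance, IsLocalRing.jacobson_eq_maximalIdeal ⊥ bot_ne_top]
    exact hx

end DimQuot

section DimFormula

/-- The hypothesis of EGA 0_IV 16.3.9/IV 6.1.?: no minimal prime of `pB` (`p ≠ m_A`) lies over
`m_A`. -/
def NoMinimalOverMax (A B : Type u) [CommRing A] [CommRing B] [IsLocalRing A] [Algebra A B] : Prop :=
  ∀ p : Ideal A, p.IsPrime → p ≠ IsLocalRing.maximalIdeal A →
    ∀ q ∈ (p.map (algebraMap A B)).minimalPrimes,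
      q.comap (algebraMap A B) ≠ IsLocalRing.maximalIdeal A

variable {A B : Type u} [CommRing A] [CommRing B] [IsNoetherianRing A] [IsNoetherianRing B]
  [IsLocalRing A] [IsLocalRing B] [Algebra A B] [IsLocalHom (algebraMap A B)]

omit [IsLocalRing B] [IsLocalHom (algebraMap A B)] in
/-- Existence of an element of `m_A` avoiding all minimal primes of `A` and of `B`. -/
theorem exists_mem_maximalIdeal_notMem_minimalPrimes (h : NoMinimalOverMax A B)
    (hdim : ringKrullDim A ≠ 0) :
    ∃ x ∈ IsLocalRing.maximalIdeal A, (∀ p ∈ minimalPrimes A, x ∉ p) ∧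
      ∀ Q ∈ minimalPrimes B, algebraMap A B x ∉ Q := by
  classical
  have hminA : ∀ p ∈ minimalPrimes A, p ≠ IsLocalRing.maximalIdeal A := by
    intro p hp e
    apply hdim
    rw [← IsLocalRing.maximalIdeal_height_eq_ringKrullDim, ← e]
    have : p.IsPrime := hp.1.1
    rw [Ideal.height_eq_zero_iff.mpr hp]
    rfl
  have hminB : ∀ Q ∈ minimalPrimes B, Q.comap (algebraMap A B) ≠ IsLocalRing.maximalIdeal A := by
    intro Q hQ
    have hQprime : Q.IsPrime := hQ.1.1
    obtain ⟨p, hp, hpQ⟩ := Ideal.exists_minimalPrimes_le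
      (bot_le : (⊥ : Ideal A) ≤ Q.comap (algebraMap A B))
    have hpprime : p.IsPrime := hp.1.1
    refine h p hpprime (hminA p hp) Q ⟨⟨hQprime, Ideal.map_le_iff_le_comap.mpr hpQ⟩, ?_⟩
    intro K hK hKQ
    exact hQ.2 ⟨hK.1, bot_le⟩ hKQ
  let s : Finset (Ideal A) := (minimalPrimes.finite_of_isNoetherianRing (R := A)).toFinset ∪
    ((minimalPrimes.finite_of_isNoetherianRing (R := B)).toFinset.image
      (Ideal.comap (algebraMap A B)))
  have hs : ∀ P ∈ s, P.IsPrime ∧ P ≠ IsLocalRing.maximalIdeal A := by
    intro P hP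
    rw [Finset.mem_union, Set.Finite.mem_toFinset, Finset.mem_image] at hP
    rcases hP with hP | ⟨Q, hQ, rfl⟩
    · exact ⟨hP.1.1, hminA P hP⟩
    · rw [Set.Finite.mem_toFinset] at hQ
      have : Q.IsPrime := hQ.1.1
      exact ⟨inferInstance, hminB Q hQ⟩
  have hnot : ¬ ((IsLocalRing.maximalIdeal A : Set A) ⊆ ⋃ P ∈ (s : Set (Ideal A)), (P : Set A)) := by
    intro hsub
    rw [Ideal.subset_union_prime (f := fun P : Ideal A => P) ⊤ ⊤
      (fun P hP _ _ => (hs P hP).1)] at hsub
    obtain ⟨P, hP, hle⟩ := hsub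
    exact (hs P hP).2 ((IsLocalRing.maximalIdeal.isMaximal A).eq_of_le (hs P hP).1.ne_top hle).symm
  obtain ⟨x, hx, hxs⟩ := Set.not_subset.mp hnot
  refine ⟨x, hx, ?_, ?_⟩
  · intro p hp hxp
    apply hxs
    simp only [Set.mem_iUnion]
    exact ⟨p, Finset.mem_coe.mpr (Finset.mem_union_left _ ((Set.Finite.mem_toFinset _).mpr hp)), hxp⟩
  · intro Q hQ hxQ
    apply hxs
    simp only [Set.mem_iUnion]
    exact ⟨Q.comap (algebraMap A B), Finset.mem_coe.mpr (Finset.mem_union_right _
      (Finset.mem_image.mpr ⟨Q, (Set.Finite.mem_toFinset _).mpr hQ, rfl⟩)), hxQ⟩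

omit [IsNoetherianRing A] [IsNoetherianRing B] [IsLocalRing A] [IsLocalRing B]
  [IsLocalHom (algebraMap A B)] in
/-- `(algebraMap A' B') ∘ mk = mk ∘ algebraMap A B`. -/
theorem algebraMap_quotient_comp_mk (I : Ideal A) :
    (algebraMap (A ⧸ I) (B ⧸ I.map (algebraMap A B))).comp (Ideal.Quotient.mk I) =
      (Ideal.Quotient.mk (I.map (algebraMap A B))).comp (algebraMap A B) := by
  ext a
  rfl

omit [IsNoetherianRing A] [IsNoetherianRing B] [IsLocalRing B] [IsLocalHom (algebraMap A B)] in
/-- The hypothesis passes to `A/I → B/IB`. -/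
theorem NoMinimalOverMax.quotient (h : NoMinimalOverMax A B) (I : Ideal A)
    [IsLocalRing (A ⧸ I)] :
    NoMinimalOverMax (A ⧸ I) (B ⧸ I.map (algebraMap A B)) := by
  intro p' hp' hp'ne q' hq' hcon
  have hmkA : Function.Surjective (Ideal.Quotient.mk I) := Ideal.Quotient.mk_surjective
  have hmkB : Function.Surjective (Ideal.Quotient.mk (I.map (algebraMap A B))) :=
    Ideal.Quotient.mk_surjective
  have hmax : (IsLocalRing.maximalIdeal (A ⧸ I)).comap (Ideal.Quotient.mk I)
      = IsLocalRing.maximalIdeal A := by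
    ext a
    rw [Ideal.mem_comap]
    exact Groth.Agent.Lib.Helper5.mk_mem_maximalIdeal_quotient_iff I a
  set p : Ideal A := p'.comap (Ideal.Quotient.mk I) with hp
  have hpprime : p.IsPrime := Ideal.comap_isPrime _ _
  have hpne : p ≠ IsLocalRing.maximalIdeal A := by
    intro e
    apply hp'ne
    rw [← Ideal.map_comap_of_surjective _ hmkA p', ← hp, e, ← hmax,
      Ideal.map_comap_of_surjective _ hmkA]
  have hIp : I ≤ p := by
    intro a ha
    rw [hp, Ideal.mem_comap, Ideal.Quotient.eq_zero_iff_mem.mpr ha]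
    exact p'.zero_mem
  have hq : q'.comap (Ideal.Quotient.mk (I.map (algebraMap A B)))
      ∈ (p.map (algebraMap A B)).minimalPrimes := by
    have h1 := Ideal.minimalPrimes_comap_of_surjective hmkB hq'
    have h2 : (p'.map (algebraMap (A ⧸ I) (B ⧸ I.map (algebraMap A B)))).comap
        (Ideal.Quotient.mk (I.map (algebraMap A B))) = p.map (algebraMap A B) := by
      rw [← Ideal.map_comap_of_surjective _ hmkA p', ← hp, Ideal.map_map,
        algebraMap_quotient_comp_mk, ← Ideal.map_map, Ideal.comap_map_of_surjective _ hmkB,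
        ← RingHom.ker_eq_comap_bot, Ideal.mk_ker, sup_eq_left]
      exact Ideal.map_mono hIp
    rw [h2] at h1
    exact h1
  apply h p hpprime hpne _ hq
  rw [Ideal.comap_comap, ← algebraMap_quotient_comp_mk, ← Ideal.comap_comap, hcon, hmax]

end DimFormula

section DimFormulaMain

/-- Cancelling `+ 1` in `WithBot ℕ∞`. -/
theorem withBot_enat_add_one_cancel {a : WithBot ℕ∞} {n : ℕ}
    (h : a + 1 = ((n + 1 : ℕ) : WithBot ℕ∞)) : a = (n : WithBot ℕ∞) := by
  apply withBot_enat_add_natCast_cancel (n := 1)
  have h1 : ((1 : ℕ) : WithBot ℕ∞) = 1 := rfl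
  rw [h1, h]
  push_cast
  rfl

theorem ringKrullDim_eq_add_of_noMinimalOverMax_aux (n : ℕ) :
    ∀ (A B : Type u) [CommRing A] [CommRing B] [IsNoetherianRing A] [IsNoetherianRing B]
      [IsLocalRing A] [IsLocalRing B] [Algebra A B] [IsLocalHom (algebraMap A B)],
      ringKrullDim A = n → NoMinimalOverMax A B →
      ringKrullDim B = ringKrullDim A +
        ringKrullDim (B ⧸ (IsLocalRing.maximalIdeal A).map (algebraMap A B)) := by
  induction n with
  | zero =>
    intro A B _ _ _ _ _ _ _ _ hdim _
    have hk : Ring.KrullDimLE 0 A := by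
      rw [Ring.krullDimLE_iff, hdim]
    have hnil : nilradical A = IsLocalRing.maximalIdeal A :=
      Ring.KrullDimLE.nilradical_eq_maximalIdeal A
    have hJ : (IsLocalRing.maximalIdeal A).map (algebraMap A B) ≤ nilradical B := by
      rw [Ideal.map_le_iff_le_comap, ← hnil]
      intro a ha
      rw [Ideal.mem_comap, mem_nilradical]
      exact (mem_nilradical.mp ha).map _
    rw [ringKrullDim_quotient_eq_of_le_nilradical _ hJ, hdim]
    simp only [Nat.cast_zero, zero_add]
  | succ n ih =>
    intro A B _ _ _ _ _ _ _ _ hdim h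
    have hdim0 : ringKrullDim A ≠ 0 := by
      rw [hdim]
      intro e
      have : ((n + 1 : ℕ) : WithBot ℕ∞) = ((0 : ℕ) : WithBot ℕ∞) := e
      have := Nat.cast_injective (R := WithBot ℕ∞) this
      omega
    obtain ⟨x, hx, hxA, hxB⟩ := exists_mem_maximalIdeal_notMem_minimalPrimes h hdim0
    set I : Ideal A := Ideal.span {x} with hI
    have hIne : I ≠ ⊤ := by
      intro e
      have : I ≤ IsLocalRing.maximalIdeal A := by
        rw [hI, Ideal.span_singleton_le_iff_mem]; exact hx
      rw [e] at this
      exact (IsLocalRing.maximalIdeal.isMaximal A).ne_top (top_le_iff.mp this)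
    have hxB' : algebraMap A B x ∈ IsLocalRing.maximalIdeal B := by
      have : IsLocalRing.maximalIdeal A ≤ (IsLocalRing.maximalIdeal B).comap (algebraMap A B) := by
        rw [IsLocalRing.maximalIdeal_comap]
      exact this hx
    have hIB : I.map (algebraMap A B) = Ideal.span {algebraMap A B x} := by
      rw [hI, Ideal.map_span, Set.image_singleton]
    have hIBne : I.map (algebraMap A B) ≠ ⊤ := by
      intro e
      have : I.map (algebraMap A B) ≤ IsLocalRing.maximalIdeal B := by
        rw [hIB, Ideal.span_singleton_le_iff_mem]; exact hxB'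
      rw [e] at this
      exact (IsLocalRing.maximalIdeal.isMaximal B).ne_top (top_le_iff.mp this)
    have hlocA : IsLocalRing (A ⧸ I) := Groth.Agent.Lib.Helper5.isLocalRing_quotient hIne
    have hlocB : IsLocalRing (B ⧸ I.map (algebraMap A B)) :=
      Groth.Agent.Lib.Helper5.isLocalRing_quotient hIBne
    have hlochom : IsLocalHom (algebraMap (A ⧸ I) (B ⧸ I.map (algebraMap A B))) := by
      refine ⟨fun abar hu => ?_⟩
      obtain ⟨a, rfl⟩ := Ideal.Quotient.mk_surjective abar
      have h1 : algebraMap (A ⧸ I) (B ⧸ I.map (algebraMap A B)) (Ideal.Quotient.mk I a)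
          = Ideal.Quotient.mk _ (algebraMap A B a) := rfl
      rw [h1] at hu
      have h2 : algebraMap A B a ∉ IsLocalRing.maximalIdeal B := by
        intro hmem
        have := (Groth.Agent.Lib.Helper5.mk_mem_maximalIdeal_quotient_iff
          (I.map (algebraMap A B)) (algebraMap A B a)).mpr hmem
        exact (IsLocalRing.mem_maximalIdeal _).mp this hu
      have h3 : IsUnit (algebraMap A B a) := by
        by_contra hnu
        exact h2 ((IsLocalRing.mem_maximalIdeal _).mpr hnu)
      exact (isUnit_of_map_unit (algebraMap A B) a h3).map _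
    have hdA := ringKrullDim_quotient_succ_eq_of_notMem_minimalPrimes I x hI hx hxA
    have hdB := ringKrullDim_quotient_succ_eq_of_notMem_minimalPrimes (I.map (algebraMap A B))
      (algebraMap A B x) hIB hxB' hxB
    have hdA' : ringKrullDim (A ⧸ I) = n := by
      apply withBot_enat_add_one_cancel
      rw [hdA, hdim]
    have key := ih (A ⧸ I) (B ⧸ I.map (algebraMap A B)) hdA' (h.quotient I)
    -- the fibres agree
    have hfib : ringKrullDim ((B ⧸ I.map (algebraMap A B)) ⧸
        (IsLocalRing.maximalIdeal (A ⧸ I)).map (algebraMap (A ⧸ I) (B ⧸ I.map (algebraMap A B))))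
        = ringKrullDim (B ⧸ (IsLocalRing.maximalIdeal A).map (algebraMap A B)) := by
      have hK : (IsLocalRing.maximalIdeal (A ⧸ I)).map
          (algebraMap (A ⧸ I) (B ⧸ I.map (algebraMap A B)))
          = ((IsLocalRing.maximalIdeal A).map (algebraMap A B)).map
            (Ideal.Quotient.mk (I.map (algebraMap A B))) := by
        rw [Groth.Agent.Lib.Helper5.maximalIdeal_quotient_eq_map, Ideal.map_map,
          algebraMap_quotient_comp_mk, ← Ideal.map_map]
      have hsup : I.map (algebraMap A B) ⊔ (IsLocalRing.maximalIdeal A).map (algebraMap A B)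
          = (IsLocalRing.maximalIdeal A).map (algebraMap A B) := by
        rw [sup_eq_right]
        apply Ideal.map_mono
        rw [hI, Ideal.span_singleton_le_iff_mem]; exact hx
      have gen : ∀ K : Ideal (B ⧸ I.map (algebraMap A B)),
          K = ((IsLocalRing.maximalIdeal A).map (algebraMap A B)).map
            (Ideal.Quotient.mk (I.map (algebraMap A B))) →
          ringKrullDim ((B ⧸ I.map (algebraMap A B)) ⧸ K)
            = ringKrullDim (B ⧸ (IsLocalRing.maximalIdeal A).map (algebraMap A B)) := by
        intro K hKeq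
        subst hKeq
        exact ringKrullDim_eq_of_ringEquiv
          ((DoubleQuot.quotQuotEquivQuotSup (I.map (algebraMap A B))
            ((IsLocalRing.maximalIdeal A).map (algebraMap A B))).trans
            (Ideal.quotEquivOfEq hsup))
      exact gen _ hK
    rw [hfib, hdA'] at key
    rw [← hdB, key, hdim]
    push_cast
    rw [add_right_comm]

end DimFormulaMain

end Groth.Agent.Lib.Helper28
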