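import Groth.Agent.Lib.Helper28Normal
import Groth.Prelude.Def_EGA4b
import Mathlib.RingTheory.Flat.EquationalCriterion
import Mathlib.RingTheory.Flat.Tensor
import Mathlib.RingTheory.HopkinsLevitzki

/-!
# Kollár's flatness criterion over an Artinian local base (helper28)

Let `(A, m)` be an Artinian local ring and `B` a Noetherian `A`-algebra which is `(S_1)`, with
`B_red` `(S_2)`, flat over `A` with reduced fibre in codimension `≤ 1`. Then `B/mB` is reduced and
`B` is flat over `A`.

The proof is elementwise: "big" ideals (all primes above have height `≥ 2`), a saturation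
statement `(I B : J) = I B` for big `J`, proved by induction along a composition series of `A`,
using regular sequences of length two in `B_red`.
-/

set_option autoImplicit false
universe u v w u' v'

namespace Groth.Agent.Lib.Helper28
open RingTheory.Sequence CategoryTheory Abelian TensorProduct
open scoped Pointwise

section HeightQuotNil

variable {B : Type u} {C : Type v} [CommRing B] [CommRing C]

theorem comap_map_eq_self_of_ker_le_nilradical {f : B →+* C} (hf : Function.Surjective f)
    (hker : RingHom.ker f ≤ nilradical B) (q : Ideal B) [q.IsPrime] :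
    (q.map f).comap f = q := by
  rw [Ideal.comap_map_of_surjective f hf, ← RingHom.ker_eq_comap_bot]
  exact sup_eq_left.mpr (hker.trans (nilradical_le_prime q))

theorem height_comap_le_aux {f : B →+* C} (hf : Function.Surjective f)
    (hker : RingHom.ker f ≤ nilradical B) (n : ℕ) :
    ∀ (Q : Ideal C) [Q.IsPrime], Q.height ≤ n → (Q.comap f).height ≤ n := by
  induction n with
  | zero =>
    intro Q hQ h
    have : (Q.comap f).IsPrime := Ideal.comap_isPrime f Q
    rw [Nat.cast_zero] at h ⊢
    rw [← Nat.cast_zero, Ideal.height_le_iff] at h ⊢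
    intro q1 hq1 hlt
    have hq1' : (q1.map f).IsPrime :=
      Ideal.map_isPrime_of_surjective hf (hker.trans (nilradical_le_prime q1))
    have hlt' : q1.map f < Q := by
      refine lt_of_le_of_ne (Ideal.map_le_iff_le_comap.mpr hlt.le) ?_
      intro he
      have := comap_map_eq_self_of_ker_le_nilradical hf hker q1
      rw [he] at this
      exact hlt.ne this.symm
    exact absurd (h _ hq1' hlt') (by simp)
  | succ n ih =>
    intro Q hQ h
    have : (Q.comap f).IsPrime := Ideal.comap_isPrime f Q
    rw [Ideal.height_le_iff] at h ⊢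
    intro q1 hq1 hlt
    have hq1' : (q1.map f).IsPrime :=
      Ideal.map_isPrime_of_surjective hf (hker.trans (nilradical_le_prime q1))
    have hlt' : q1.map f < Q := by
      refine lt_of_le_of_ne (Ideal.map_le_iff_le_comap.mpr hlt.le) ?_
      intro he
      have := comap_map_eq_self_of_ker_le_nilradical hf hker q1
      rw [he] at this
      exact hlt.ne this.symm
    have h1 := h _ hq1' hlt'
    have h2 : (q1.map f).height ≤ n := by
      rw [Nat.cast_succ] at h1
      exact (ENat.lt_add_one_iff (ENat.natCast_ne_top n)).mp h1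
    have h3 := ih (q1.map f) h2
    rw [comap_map_eq_self_of_ker_le_nilradical hf hker q1] at h3
    rw [Nat.cast_succ]
    exact (ENat.lt_add_one_iff (ENat.natCast_ne_top n)).mpr h3

/-- For a surjection with nilpotent kernel, heights of primes do not drop under `comap`. -/
theorem height_comap_le_of_ker_le_nilradical {f : B →+* C} (hf : Function.Surjective f)
    (hker : RingHom.ker f ≤ nilradical B) (Q : Ideal C) [Q.IsPrime] :
    (Q.comap f).height ≤ Q.height := by
  rcases eq_or_ne Q.height ⊤ with h | h
  · rw [h]; exact le_top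
  · obtain ⟨n, hn⟩ := ENat.ne_top_iff_exists.mp h
    rw [← hn]
    exact height_comap_le_aux hf hker n Q hn.symm.le

end HeightQuotNil

section Big

variable {B : Type u} [CommRing B]

/-- An ideal all of whose prime overideals have height at least two. -/
def BigIdeal (J : Ideal B) : Prop := ∀ (q : Ideal B) [q.IsPrime], J ≤ q → ¬ q.height ≤ 1

theorem BigIdeal.mul {J J' : Ideal B} (h : BigIdeal J) (h' : BigIdeal J') : BigIdeal (J * J') := by
  intro q hq hle
  rcases (Ideal.IsPrime.mul_le hq).mp hle with h1 | h1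
  · exact h q h1
  · exact h' q h1

theorem BigIdeal.mono {J J' : Ideal B} (hle : J ≤ J') (h : BigIdeal J) : BigIdeal J' :=
  fun q _ hq => h q (hle.trans hq)

theorem BigIdeal.map_mk_nilradical {J : Ideal B} (h : BigIdeal J) :
    BigIdeal (J.map (Ideal.Quotient.mk (nilradical B))) := by
  intro Q hQ hle hht
  have hker : RingHom.ker (Ideal.Quotient.mk (nilradical B)) ≤ nilradical B := by
    rw [Ideal.mk_ker]
  have : (Q.comap (Ideal.Quotient.mk (nilradical B))).IsPrime := Ideal.comap_isPrime _ Q
  exact h (Q.comap (Ideal.Quotient.mk (nilradical B))) (Ideal.map_le_iff_le_comap.mp hle)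
    ((height_comap_le_of_ker_le_nilradical Ideal.Quotient.mk_surjective hker Q).trans hht)

variable [IsNoetherianRing B]

omit [IsNoetherianRing B] in
theorem BigIdeal.natCast_le_supportDim {J : Ideal B} (h : BigIdeal J) (q : PrimeSpectrum B)
    (hq : J ≤ q.asIdeal) :
    ((2 : ℕ) : WithBot ℕ∞) ≤ Module.supportDim (Localization.AtPrime q.asIdeal)
      (LocalizedModule q.asIdeal.primeCompl B) := by
  rw [Module.supportDim_eq_of_equiv (localizedModuleSelfEquiv q.asIdeal),
    supportDim_localization_self]
  have h1 := h q.asIdeal hq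
  rw [not_le] at h1
  have h2 : (2 : ℕ∞) ≤ q.asIdeal.height := by
    have := Order.add_one_le_of_lt h1
    rwa [one_add_one_eq_two] at this
  have := WithBot.coe_le_coe.mpr h2
  simpa using this

theorem BigIdeal.exists_isSMulRegular (hS1 : LocCoh.HasSk 1 B B) {J : Ideal B} (h : BigIdeal J) :
    ∃ u ∈ J, IsSMulRegular B u := by
  by_cases hJ : J • (⊤ : Submodule B B) = ⊤
  · rw [smul_eq_mul, Ideal.mul_top] at hJ
    exact ⟨1, hJ ▸ Submodule.mem_top, fun x y hxy => by simpa using hxy⟩
  · have hd : ((1 : ℕ) : ℕ∞) ≤ LocCoh.idealDepth J B := by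
      apply le_idealDepth_of_hasSk B J 1 hS1
      intro q hq _
      refine le_trans ?_ (h.natCast_le_supportDim q hq)
      exact_mod_cast (by norm_num : (1 : ℕ) ≤ 2)
    exact (one_le_idealDepth_iff hJ).mp (by exact_mod_cast hd)

/-- In a Noetherian ring `C` with `(S_2)`, a big ideal contains a regular sequence of length two
(stated elementwise). -/
theorem BigIdeal.exists_regular_pair_self (hS2 : LocCoh.HasSk 2 B B) {J : Ideal B}
    (h : BigIdeal J) :
    ∃ u ∈ J, ∃ v ∈ J, (∀ z : B, u * z = 0 → z = 0) ∧
      (∀ z w : B, v * z = u * w → ∃ t, z = u * t) := by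
  by_cases hJ : J • (⊤ : Submodule B B) = ⊤
  · rw [smul_eq_mul, Ideal.mul_top] at hJ
    refine ⟨1, hJ ▸ Submodule.mem_top, 1, hJ ▸ Submodule.mem_top, fun z hz => by simpa using hz,
      fun z w _ => ⟨z, by simp⟩⟩
  · have hd : ((2 : ℕ) : ℕ∞) ≤ LocCoh.idealDepth J B := by
      apply le_idealDepth_of_hasSk B J 2 hS2
      intro q hq _
      exact h.natCast_le_supportDim q hq
    obtain ⟨rs, hlen, hmem, hreg⟩ := (natCast_le_idealDepth_iff hJ 2).mp hd
    match rs, hlen with
    | [u, v], _ =>
      have hregw := hreg.toIsWeaklyRegular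
      rw [isWeaklyRegular_cons_iff, isWeaklyRegular_cons_iff] at hregw
      obtain ⟨hu, hv, -⟩ := hregw
      refine ⟨u, hmem u (by simp), v, hmem v (by simp), ?_, ?_⟩
      · intro z hz
        apply hu
        change u • z = u • 0
        rw [smul_zero, smul_eq_mul, hz]
      · intro z w hzw
        have hzero : v • (Submodule.Quotient.mk z : QuotSMulTop u B) = 0 := by
          rw [← Submodule.Quotient.mk_smul, Submodule.Quotient.mk_eq_zero, smul_eq_mul, hzw,
            Submodule.mem_smul_pointwise_iff_exists]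
          exact ⟨w, Submodule.mem_top, rfl⟩
        have hz0 : (Submodule.Quotient.mk z : QuotSMulTop u B) = 0 := by
          apply hv
          change v • _ = v • (0 : QuotSMulTop u B)
          rw [hzero, smul_zero]
        rw [Submodule.Quotient.mk_eq_zero, Submodule.mem_smul_pointwise_iff_exists] at hz0
        obtain ⟨t, -, ht⟩ := hz0
        exact ⟨t, by rw [← ht, smul_eq_mul]⟩

/-- A big ideal of `B` contains elements `u, v` whose images in `B_red` form a regular sequence
(stated elementwise), provided `B_red` satisfies `(S_2)`. -/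
theorem BigIdeal.exists_regular_pair
    (hS2 : LocCoh.HasSk 2 (B ⧸ nilradical B) (B ⧸ nilradical B)) {J : Ideal B} (h : BigIdeal J) :
    ∃ u ∈ J, ∃ v ∈ J,
      (∀ z : B ⧸ nilradical B, Ideal.Quotient.mk (nilradical B) u * z = 0 → z = 0) ∧
      (∀ z w : B ⧸ nilradical B, Ideal.Quotient.mk (nilradical B) v * z =
        Ideal.Quotient.mk (nilradical B) u * w → ∃ t, z = Ideal.Quotient.mk (nilradical B) u * t) := by
  obtain ⟨u', hu', v', hv', h1, h2⟩ := (h.map_mk_nilradical).exists_regular_pair_self hS2
  obtain ⟨u, hu, rfl⟩ := (Ideal.mem_map_iff_of_surjective _ Ideal.Quotient.mk_surjective).mp hu'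
  obtain ⟨v, hv, rfl⟩ := (Ideal.mem_map_iff_of_surjective _ Ideal.Quotient.mk_surjective).mp hv'
  exact ⟨u, hu, v, hv, h1, h2⟩

end Big


section FlatColon

/-- For a flat module `F`, `(I' F : a) = (I' : a) F`. -/
theorem mem_colon_smul_top_of_flat {A : Type u} {F : Type v} [CommRing A] [AddCommGroup F]
    [Module A F] [Module.Flat A F] (I' : Ideal A) (a : A) (f : F)
    (h : a • f ∈ I' • (⊤ : Submodule A F)) :
    f ∈ (Submodule.colon I' {a} : Ideal A) • (⊤ : Submodule A F) := by
  classical
  have htop : (⊤ : Submodule A F) = Submodule.span A (Set.range (id : F → F)) := by simp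
  rw [htop, Submodule.mem_ideal_smul_span_iff_exists_sum] at h
  obtain ⟨c, hc, hsum⟩ := h
  let ι := Option c.support
  let g : ι → A := fun i => i.elim a (fun y => - c y)
  let x : ι → F := fun i => i.elim f (fun y => (y : F))
  have hrel : ∑ i, g i • x i = 0 := by
    rw [Fintype.sum_option]
    simp only [g, x, Option.elim_none, Option.elim_some, neg_smul, Finset.sum_neg_distrib]
    rw [← hsum, Finsupp.sum, ← Finset.sum_coe_sort c.support]
    simp
  obtain ⟨k, α, y, hx, hα⟩ := Module.Flat.isTrivialRelation_of_sum_smul_eq_zero hrel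
  have h0 : f = ∑ j, α none j • y j := hx none
  rw [h0]
  refine Submodule.sum_mem _ fun j _ => Submodule.smul_mem_smul ?_ Submodule.mem_top
  rw [Submodule.mem_colon_singleton]
  have h1 := hα j
  rw [Fintype.sum_option] at h1
  simp only [g, Option.elim_none, Option.elim_some, neg_mul, Finset.sum_neg_distrib] at h1
  have h2 : α none j • a = ∑ y : c.support, c y * α (some y) j := by
    rw [smul_eq_mul, mul_comm]
    linear_combination h1
  rw [h2]
  exact Submodule.sum_mem _ fun y _ => Ideal.mul_mem_right _ _ (hc y)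

end FlatColon

section LocalStep

variable {B : Type u} [CommRing B]

/-- If `x/1 ∈ Y B_q`, then `s x ∈ Y` for some `s ∉ q`. -/
theorem exists_notMem_mul_mem_of_algebraMap_mem_map (q : Ideal B) [q.IsPrime] (Y : Ideal B) (x : B)
    (h : algebraMap B (Localization.AtPrime q) x ∈ Y.map (algebraMap B (Localization.AtPrime q))) :
    ∃ s, s ∉ q ∧ s * x ∈ Y := by
  rw [IsLocalization.mem_map_algebraMap_iff q.primeCompl] at h
  obtain ⟨⟨⟨y, hy⟩, s⟩, hys⟩ := h
  simp only at hys
  rw [← map_mul, IsLocalization.eq_iff_exists q.primeCompl] at hys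
  obtain ⟨s', hs'⟩ := hys
  refine ⟨s' * s, fun hmem => ?_, ?_⟩
  · rcases Ideal.IsPrime.mem_or_mem inferInstance hmem with h1 | h1
    · exact s'.2 h1
    · exact s.2 h1
  · have : (s' : B) * (s : B) * x = s' * y := by
      rw [← hs']; ring
    rw [this]
    exact Ideal.mul_mem_left _ _ hy

/-- Uniformization over a finitely generated ideal. -/
theorem exists_notMem_forall_mul_mem [IsNoetherianRing B] (q : Ideal B) [hq : q.IsPrime]
    (X Y : Ideal B) (h : ∀ x ∈ X, ∃ s, s ∉ q ∧ s * x ∈ Y) :
    ∃ s, s ∉ q ∧ ∀ x ∈ X, s * x ∈ Y := by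
  classical
  obtain ⟨T, hT⟩ := (isNoetherianRing_iff_ideal_fg B).mp inferInstance X
  have hTX : ∀ t ∈ T, t ∈ X := fun t ht => hT ▸ Submodule.subset_span ht
  choose! σ hσ using h
  refine ⟨∏ t ∈ T, σ t, ?_, ?_⟩
  · intro hmem
    obtain ⟨t, ht, htq⟩ := (Ideal.IsPrime.prod_mem_iff (hp := hq)).mp hmem
    exact (hσ t (hTX t ht)).1 htq
  · intro x hx
    rw [← hT] at hx
    induction hx using Submodule.span_induction with
    | mem t ht =>
      have ht' : t ∈ T := ht
      rw [← Finset.mul_prod_erase T σ ht', mul_assoc, mul_comm (σ t), mul_assoc, mul_comm t]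
      exact Ideal.mul_mem_left _ _ (hσ t (hTX t ht')).2
    | zero => simp
    | add a b _ _ ha hb => rw [mul_add]; exact Y.add_mem ha hb
    | smul r a _ ha => rw [smul_eq_mul, mul_left_comm]; exact Ideal.mul_mem_left _ _ ha

end LocalStep


section KollarLocal

variable {A : Type u} [CommRing A] [IsLocalRing A]
  {B : Type u} [CommRing B] [Algebra A B]

/-- (L1) nilpotents die in the fibre local ring, hence lie in `m B` up to a unit of `B_q`. -/
theorem exists_notMem_mul_mem_of_isNilpotent (q : Ideal B) [q.IsPrime]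
    (hred : IsReduced (EGA4.FibLocRing A B q)) (n : B) (hn : IsNilpotent n) :
    ∃ s, s ∉ q ∧ s * n ∈ (IsLocalRing.maximalIdeal A).map (algebraMap A B) := by
  apply exists_notMem_mul_mem_of_algebraMap_mem_map q
  set P : Ideal (Localization.AtPrime q) :=
    (q.comap (algebraMap A B)).map (algebraMap A (Localization.AtPrime q)) with hP
  have h0 : Ideal.Quotient.mk P (algebraMap B (Localization.AtPrime q) n) = 0 := by
    have hnil : IsNilpotent (Ideal.Quotient.mk P (algebraMap B (Localization.AtPrime q) n)) :=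
      (hn.map (algebraMap B (Localization.AtPrime q))).map (Ideal.Quotient.mk P)
    exact hnil.eq_zero
  rw [Ideal.Quotient.eq_zero_iff_mem] at h0
  have hle : P ≤ ((IsLocalRing.maximalIdeal A).map (algebraMap A B)).map
      (algebraMap B (Localization.AtPrime q)) := by
    rw [hP, IsScalarTower.algebraMap_eq A B (Localization.AtPrime q), ← Ideal.map_map]
    apply Ideal.map_mono
    apply Ideal.map_mono
    exact IsLocalRing.le_maximalIdeal (Ideal.comap_isPrime (algebraMap A B) q).ne_top
  exact hle h0

/-- (L2) consequence of flatness of `B_q` over `A`. -/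
theorem exists_notMem_mul_mem_of_flat (q : Ideal B) [q.IsPrime]
    (hflat : Module.Flat A (Localization.AtPrime q)) (I' : Ideal A) (a : A) (ha : a ∉ I') (κ : B)
    (hκ : algebraMap A B a * κ ∈ I'.map (algebraMap A B)) :
    ∃ s, s ∉ q ∧ s * κ ∈ (IsLocalRing.maximalIdeal A).map (algebraMap A B) := by
  apply exists_notMem_mul_mem_of_algebraMap_mem_map q
  have h1 : a • (algebraMap B (Localization.AtPrime q) κ) ∈
      I' • (⊤ : Submodule A (Localization.AtPrime q)) := by
    rw [Ideal.smul_top_eq_map, Submodule.restrictScalars_mem,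
      IsScalarTower.algebraMap_eq A B (Localization.AtPrime q), ← Ideal.map_map]
    have := Ideal.mem_map_of_mem (algebraMap B (Localization.AtPrime q)) hκ
    rwa [map_mul, ← IsScalarTower.algebraMap_apply, ← Algebra.smul_def] at this
  have h2 := mem_colon_smul_top_of_flat I' a _ h1
  have hcolon : (Submodule.colon I' {a} : Ideal A) ≤ IsLocalRing.maximalIdeal A := by
    apply IsLocalRing.le_maximalIdeal
    intro htop
    have : (1 : A) ∈ (Submodule.colon I' {a} : Ideal A) := htop ▸ Submodule.mem_top
    rw [Submodule.mem_colon_singleton, one_smul] at this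
    exact ha this
  have h3 := Submodule.smul_mono_left (N := (⊤ : Submodule A (Localization.AtPrime q))) hcolon h2
  rw [Ideal.smul_top_eq_map, Submodule.restrictScalars_mem,
    IsScalarTower.algebraMap_eq A B (Localization.AtPrime q), ← Ideal.map_map] at h3
  exact h3

variable [IsNoetherianRing B]

theorem bigIdeal_colon_of_forall (Y X : Ideal B)
    (h : ∀ (q : Ideal B) [q.IsPrime], q.height ≤ 1 → ∀ x ∈ X, ∃ s, s ∉ q ∧ s * x ∈ Y) :
    BigIdeal (Submodule.colon Y (X : Set B)) := by
  intro q hq hle hht
  obtain ⟨s, hs, hsX⟩ := exists_notMem_forall_mul_mem q X Y (h q hht)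
  apply hs
  apply hle
  rw [Submodule.mem_colon]
  intro x hx
  exact hsX x hx

end KollarLocal


section KollarStep

variable {A : Type u} [CommRing A] [IsArtinianRing A] [IsLocalRing A]
  {B : Type u} [CommRing B] [Algebra A B]

theorem map_maximalIdeal_le_nilradical :
    (IsLocalRing.maximalIdeal A).map (algebraMap A B) ≤ nilradical B := by
  have hnil : IsNilpotent (IsLocalRing.maximalIdeal A) :=
    (IsLocalRing.jacobson_eq_maximalIdeal (⊥ : Ideal A) bot_ne_top) ▸
      IsArtinianRing.isNilpotent_jacobson_bot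
  obtain ⟨k, hk⟩ := hnil
  intro z hz
  rw [mem_nilradical]
  refine ⟨k, ?_⟩
  have h1 : z ^ k ∈ ((IsLocalRing.maximalIdeal A).map (algebraMap A B)) ^ k :=
    Ideal.pow_mem_pow hz k
  rw [← Ideal.map_pow, hk, Ideal.zero_eq_bot, Ideal.map_bot] at h1
  exact h1

omit [IsArtinianRing A] in
theorem algebraMap_mul_mem_map_of_forall_mul_mem (I' : Ideal A) (a : A)
    (hma : ∀ c ∈ IsLocalRing.maximalIdeal A, c * a ∈ I') (z : B)
    (hz : z ∈ (IsLocalRing.maximalIdeal A).map (algebraMap A B)) :
    algebraMap A B a * z ∈ I'.map (algebraMap A B) := by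
  have h1 : algebraMap A B a * z ∈
      (Ideal.span {a} * IsLocalRing.maximalIdeal A).map (algebraMap A B) := by
    rw [Ideal.map_mul]
    exact Ideal.mul_mem_mul (Ideal.mem_map_of_mem _ (Ideal.mem_span_singleton_self a)) hz
  refine Ideal.map_mono ?_ h1
  rw [Ideal.span_singleton_mul_le_iff]
  intro c hc
  rw [mul_comm]
  exact hma c hc

variable [IsNoetherianRing B]

/-- The hypotheses of Kollár's criterion, bundled. -/
structure KollarHyp (A : Type u) [CommRing A] [IsLocalRing A] (B : Type u) [CommRing B]
    [Algebra A B] : Prop where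
  hS1 : LocCoh.HasSk 1 B B
  hS2 : LocCoh.HasSk 2 (B ⧸ nilradical B) (B ⧸ nilradical B)
  hcodim : ∀ (q : Ideal B) [q.IsPrime], q.height ≤ 1 →
    Module.Flat A (Localization.AtPrime q) ∧ IsReduced (EGA4.FibLocRing A B q)

omit [IsArtinianRing A] in
theorem KollarHyp.bigIdeal_colon_nilradical (H : KollarHyp A B) :
    BigIdeal (Submodule.colon ((IsLocalRing.maximalIdeal A).map (algebraMap A B))
      (nilradical B : Set B)) := by
  apply bigIdeal_colon_of_forall
  intro q hq hht n hn
  exact exists_notMem_mul_mem_of_isNilpotent q (H.hcodim q hht).2 n (mem_nilradical.mp hn)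

omit [IsArtinianRing A] in
theorem KollarHyp.bigIdeal_colon_colon (H : KollarHyp A B) (I' : Ideal A) (a : A) (ha : a ∉ I') :
    BigIdeal (Submodule.colon ((IsLocalRing.maximalIdeal A).map (algebraMap A B))
      ((Submodule.colon (I'.map (algebraMap A B)) {algebraMap A B a} : Ideal B) : Set B)) := by
  apply bigIdeal_colon_of_forall
  intro q hq hht κ hκ
  rw [Submodule.mem_colon_singleton, smul_eq_mul, mul_comm] at hκ
  exact exists_notMem_mul_mem_of_flat q (H.hcodim q hht).1 I' a ha κ hκ

/-- The saturation property `P(I)`. -/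
def KollarSat (A : Type u) [CommRing A] (B : Type u) [CommRing B] [Algebra A B] (I : Ideal A) :
    Prop :=
  ∀ (x : B) (J : Ideal B), BigIdeal J → (∀ c ∈ J, c * x ∈ I.map (algebraMap A B)) →
    x ∈ I.map (algebraMap A B)

omit [IsArtinianRing A] [IsLocalRing A] in
theorem kollarSat_bot (hS1 : LocCoh.HasSk 1 B B) : KollarSat A B ⊥ := by
  intro x J hJ hx
  obtain ⟨u, hu, hreg⟩ := hJ.exists_isSMulRegular hS1
  have h0 := hx u hu
  rw [Ideal.map_bot, Ideal.mem_bot] at h0 ⊢
  apply hreg
  change u • x = u • 0
  rw [smul_zero, smul_eq_mul, h0]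

theorem kollarSat_step (H : KollarHyp A B) (I' : Ideal A) (a : A) (ha : a ∉ I')
    (hma : ∀ c ∈ IsLocalRing.maximalIdeal A, c * a ∈ I') (hP' : KollarSat A B I') :
    KollarSat A B (I' ⊔ Ideal.span {a}) := by
  intro x J hJ hx
  set φ := algebraMap A B with hφ
  set N := nilradical B with hN
  set π := Ideal.Quotient.mk N with hπ
  have hmem : ∀ z : B, z ∈ (I' ⊔ Ideal.span {a}).map φ ↔
      ∃ i ∈ I'.map φ, ∃ y : B, z = i + φ a * y := by
    intro z
    rw [Ideal.map_sup, Ideal.map_span, Set.image_singleton, Submodule.mem_sup]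
    constructor
    · rintro ⟨i, hi, w, hw, rfl⟩
      obtain ⟨y, rfl⟩ := Ideal.mem_span_singleton'.mp hw
      exact ⟨i, hi, y, by rw [mul_comm]⟩
    · rintro ⟨i, hi, y, rfl⟩
      exact ⟨i, hi, φ a * y, Ideal.mem_span_singleton'.mpr ⟨y, by rw [mul_comm]⟩, rfl⟩
  -- the auxiliary big ideals
  set mB := (IsLocalRing.maximalIdeal A).map φ with hmB
  set K : Ideal B := Submodule.colon (I'.map φ) {φ a} with hK
  set J1 : Ideal B := Submodule.colon mB (K : Set B) with hJ1
  set J2 : Ideal B := Submodule.colon mB (N : Set B) with hJ2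
  have hJ1big : BigIdeal J1 := H.bigIdeal_colon_colon I' a ha
  have hJ2big : BigIdeal J2 := H.bigIdeal_colon_nilradical
  have hmBN : mB ≤ N := map_maximalIdeal_le_nilradical
  -- the relation
  let ρ : B → B ⧸ N → Prop := fun c ybar => ∃ y : B, π y = ybar ∧ c * x - φ a * y ∈ I'.map φ
  have hρex : ∀ c ∈ J, ∃ ybar, ρ c ybar := by
    intro c hc
    obtain ⟨i, hi, y, hy⟩ := (hmem _).mp (hx c hc)
    exact ⟨π y, y, rfl, by rw [hy]; simpa using hi⟩
  have hρmul : ∀ (b c : B) (ybar : B ⧸ N), ρ c ybar → ρ (b * c) (π b * ybar) := by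
    rintro b c ybar ⟨y, rfl, hy⟩
    refine ⟨b * y, map_mul _ _ _, ?_⟩
    have : b * c * x - φ a * (b * y) = b * (c * x - φ a * y) := by ring
    rw [this]
    exact Ideal.mul_mem_left _ _ hy
  obtain ⟨u1, hu1, -, -, hu1reg, -⟩ := hJ1big.exists_regular_pair H.hS2
  have hρuniq : ∀ (c : B) (ybar ybar' : B ⧸ N), ρ c ybar → ρ c ybar' → ybar = ybar' := by
    rintro c _ _ ⟨y, rfl, hy⟩ ⟨y', rfl, hy'⟩
    have hdiff : (y - y') * φ a ∈ I'.map φ := by
      have : (y - y') * φ a = (c * x - φ a * y') - (c * x - φ a * y) := by ring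
      rw [this]
      exact Ideal.sub_mem _ hy' hy
    have hK' : y - y' ∈ K := by
      rw [hK, Submodule.mem_colon_singleton, smul_eq_mul]
      exact hdiff
    have h1 : u1 * (y - y') ∈ mB := by
      have := (Submodule.mem_colon.mp hu1) (y - y') hK'
      rwa [smul_eq_mul] at this
    have h2 : π u1 * (π y - π y') = 0 := by
      rw [← map_sub, ← map_mul, hπ, Ideal.Quotient.eq_zero_iff_mem]
      exact hmBN h1
    exact sub_eq_zero.mp (hu1reg _ h2)
  obtain ⟨u, hu, v, hv, hureg, hvreg⟩ := hJ.exists_regular_pair H.hS2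
  obtain ⟨yu, hyu⟩ := hρex u hu
  obtain ⟨yv, hyv⟩ := hρex v hv
  have h1 : π v * yu = π u * yv := by
    have e1 := hρmul v u yu hyu
    have e2 := hρmul u v yv hyv
    rw [mul_comm u v] at e2
    exact hρuniq _ _ _ e1 e2
  obtain ⟨tbar, htbar⟩ := hvreg yu yv h1
  obtain ⟨t, rfl⟩ := Ideal.Quotient.mk_surjective tbar
  have hall : ∀ c ∈ J, ρ c (π c * π t) := by
    intro c hc
    obtain ⟨yc, hyc⟩ := hρex c hc
    have e1 := hρmul u c yc hyc
    have e2 := hρmul c u yu hyu
    rw [mul_comm c u] at e2
    have e3 := hρuniq _ _ _ e1 e2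
    have e4 : π u * (yc - π c * π t) = 0 := by
      rw [mul_sub, e3, htbar]; ring
    have e5 := sub_eq_zero.mp (hureg _ e4)
    rwa [e5] at hyc
  -- conclude
  have hfinal : ∀ w ∈ J2 * J, w * (x - φ a * t) ∈ I'.map φ := by
    intro w hw
    refine Submodule.mul_induction_on hw ?_ ?_
    · intro c2 hc2 c hc
      obtain ⟨yc, hyc1, hyc2⟩ := hall c hc
      have hnil : yc - c * t ∈ N := by
        rw [← Ideal.Quotient.eq_zero_iff_mem, ← hπ, map_sub, map_mul, hyc1, sub_self]
      have h3 : c2 * (yc - c * t) ∈ mB := by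
        have := (Submodule.mem_colon.mp hc2) (yc - c * t) hnil
        rwa [smul_eq_mul] at this
      have h4 : φ a * (c2 * (yc - c * t)) ∈ I'.map φ :=
        algebraMap_mul_mem_map_of_forall_mul_mem I' a hma _ h3
      have : c2 * c * (x - φ a * t) = c2 * (c * x - φ a * yc) + φ a * (c2 * (yc - c * t)) := by
        ring
      rw [this]
      exact Ideal.add_mem _ (Ideal.mul_mem_left _ _ hyc2) h4
    · intro w1 w2 h1 h2
      rw [add_mul]; exact Ideal.add_mem _ h1 h2
  have hx' := hP' (x - φ a * t) (J2 * J) (hJ2big.mul hJ) hfinal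
  rw [hmem]
  exact ⟨x - φ a * t, hx', t, by ring⟩

end KollarStep


section KollarMain

variable {A : Type u} [CommRing A] [IsArtinianRing A] [IsLocalRing A]
  {B : Type u} [CommRing B] [Algebra A B]

/-- Decomposition of a nonzero ideal of an Artinian local ring: `I = I' + (a)` with `I' < I`,
`a ∉ I'`, `m a ⊆ I'`. -/
theorem exists_lt_sup_span_singleton (I : Ideal A) (hI : I ≠ ⊥) :
    ∃ (I' : Ideal A) (a : A), I' < I ∧ a ∉ I' ∧ I = I' ⊔ Ideal.span {a} ∧
      ∀ c ∈ IsLocalRing.maximalIdeal A, c * a ∈ I' := by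
  have hne : {I'' : Ideal A | I'' < I}.Nonempty := ⟨⊥, bot_lt_iff_ne_bot.mpr hI⟩
  obtain ⟨I', hI', hmax⟩ := (wellFounded_gt (α := Ideal A)).has_min _ hne
  have hmax' : ∀ I'' : Ideal A, I' < I'' → I'' ≤ I → I'' = I := by
    intro I'' h1 h2
    by_contra hne'
    exact hmax I'' (lt_of_le_of_ne h2 hne') h1
  have hI'lt : I' < I := hI'
  obtain ⟨a, haI, haI'⟩ := SetLike.exists_of_lt hI'lt
  have hsup : ∀ b ∈ I, b ∉ I' → I' ⊔ Ideal.span {b} = I := by
    intro b hbI hbI'
    apply hmax'
    · refine lt_of_le_of_ne le_sup_left fun h => hbI' ?_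
      rw [h]
      exact (le_sup_right : Ideal.span {b} ≤ _) (Ideal.mem_span_singleton_self b)
    · exact sup_le hI'lt.le ((Ideal.span_singleton_le_iff_mem I).mpr hbI)
  refine ⟨I', a, hI'lt, haI', (hsup a haI haI').symm, ?_⟩
  intro c hc
  by_contra hca
  have h1 := hsup (c * a) (Ideal.mul_mem_left _ _ haI) hca
  have ha' : a ∈ I' ⊔ Ideal.span {c * a} := h1 ▸ haI
  obtain ⟨i, hi, w, hw, hsum⟩ := Submodule.mem_sup.mp ha'
  obtain ⟨r, rfl⟩ := Ideal.mem_span_singleton'.mp hw
  have hunit : IsUnit (1 - r * c) := by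
    have hrc : r * c ∈ IsLocalRing.maximalIdeal A := Ideal.mul_mem_left _ _ hc
    by_contra hnu
    have h2 : 1 - r * c ∈ IsLocalRing.maximalIdeal A := (IsLocalRing.mem_maximalIdeal _).mpr hnu
    have h3 : (1 : A) ∈ IsLocalRing.maximalIdeal A := by
      have := Ideal.add_mem _ h2 hrc
      simpa using this
    exact (IsLocalRing.maximalIdeal.isMaximal A).ne_top ((Ideal.eq_top_iff_one _).mpr h3)
  have h4 : (1 - r * c) * a = i := by
    have : a = i + r * (c * a) := hsum.symm
    linear_combination this
  have h5 : (1 - r * c) * a ∈ I' := h4 ▸ hi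
  obtain ⟨w', hw'⟩ := hunit.exists_left_inv
  have : a = w' * ((1 - r * c) * a) := by rw [← mul_assoc, hw', one_mul]
  exact haI' (this ▸ Ideal.mul_mem_left _ _ h5)

variable [IsNoetherianRing B]

/-- Main saturation statement. -/
theorem KollarHyp.kollarSat (H : KollarHyp A B) : ∀ I : Ideal A, KollarSat A B I := by
  intro I
  induction I using WellFoundedLT.induction with
  | ind I ih =>
    by_cases hI : I = ⊥
    · rw [hI]; exact kollarSat_bot H.hS1
    · obtain ⟨I', a, hlt, ha, hsup, hma⟩ := exists_lt_sup_span_singleton I hI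
      rw [hsup]
      exact kollarSat_step H I' a ha hma (ih I' hlt)

/-- Kollár: the closed fibre is reduced. -/
theorem KollarHyp.isReduced_quotient (H : KollarHyp A B) :
    IsReduced (B ⧸ (IsLocalRing.maximalIdeal A).map (algebraMap A B)) := by
  rw [← Ideal.isRadical_iff_quotient_reduced]
  intro x hx
  obtain ⟨k, hk⟩ := hx
  have hxN : x ∈ nilradical B := by
    have h1 := map_maximalIdeal_le_nilradical (A := A) (B := B) hk
    rw [mem_nilradical] at h1 ⊢
    exact h1.of_pow
  apply H.kollarSat (IsLocalRing.maximalIdeal A) x _ H.bigIdeal_colon_nilradical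
  intro c hc
  have := (Submodule.mem_colon.mp hc) x hxN
  rwa [smul_eq_mul] at this

/-- Kollár: `(I' B : a) = m B` for consecutive ideals. -/
theorem KollarHyp.mem_map_maximalIdeal_of_mul_mem (H : KollarHyp A B) (I' : Ideal A) (a : A)
    (ha : a ∉ I') (b : B) (hb : algebraMap A B a * b ∈ I'.map (algebraMap A B)) :
    b ∈ (IsLocalRing.maximalIdeal A).map (algebraMap A B) := by
  apply H.kollarSat (IsLocalRing.maximalIdeal A) b _ (H.bigIdeal_colon_colon I' a ha)
  intro c hc
  have hbK : b ∈ (Submodule.colon (I'.map (algebraMap A B)) {algebraMap A B a} : Ideal B) := by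
    rw [Submodule.mem_colon_singleton, smul_eq_mul, mul_comm]
    exact hb
  have := (Submodule.mem_colon.mp hc) b hbK
  rwa [smul_eq_mul] at this

/-- Kollár: `B` is flat over `A`. -/
theorem KollarHyp.flat (H : KollarHyp A B) : Module.Flat A B := by
  rw [Module.Flat.iff_rTensor_injective']
  intro I
  induction I using WellFoundedLT.induction with
  | ind I ih =>
    by_cases hI : I = ⊥
    · subst hI
      have : Subsingleton ((⊥ : Ideal A) ⊗[A] B) := by
        refine ⟨fun x y => ?_⟩
        have h0 : ∀ z : (⊥ : Ideal A) ⊗[A] B, z = 0 := by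
          intro z
          induction z using TensorProduct.induction_on with
          | zero => rfl
          | tmul i b =>
            have : i = 0 := Subsingleton.elim _ _
            rw [this, TensorProduct.zero_tmul]
          | add z1 z2 h1 h2 => rw [h1, h2, add_zero]
        rw [h0 x, h0 y]
      exact Function.injective_of_subsingleton _
    · obtain ⟨I', a, hlt, ha, hsup, hma⟩ := exists_lt_sup_span_singleton I hI
      have haI : a ∈ I := by
        rw [hsup]
        exact (le_sup_right : Ideal.span {a} ≤ _) (Ideal.mem_span_singleton_self a)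
      let incl : I' →ₗ[A] I := Submodule.inclusion hlt.le
      have hcomp : I.subtype ∘ₗ incl = I'.subtype := by
        ext i; rfl
      -- every element of `I ⊗ B` is `incl z' + a ⊗ b`
      have hdecomp : ∀ z : I ⊗[A] B, ∃ (z' : I' ⊗[A] B) (b : B),
          z = LinearMap.rTensor B incl z' + (⟨a, haI⟩ : I) ⊗ₜ[A] b := by
        intro z
        induction z using TensorProduct.induction_on with
        | zero => exact ⟨0, 0, by simp⟩
        | tmul i b =>
          have hi : (i : A) ∈ I' ⊔ Ideal.span {a} := hsup ▸ i.2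
          obtain ⟨i', hi', w, hw, hsum⟩ := Submodule.mem_sup.mp hi
          obtain ⟨r, rfl⟩ := Ideal.mem_span_singleton'.mp hw
          refine ⟨(⟨i', hi'⟩ : I') ⊗ₜ[A] b, r • b, ?_⟩
          rw [LinearMap.rTensor_tmul, TensorProduct.tmul_smul, TensorProduct.smul_tmul',
            ← TensorProduct.add_tmul]
          congr 1
          apply Subtype.ext
          simp only [incl, Submodule.coe_add, Submodule.coe_inclusion, Submodule.coe_smul,
            smul_eq_mul]
          exact hsum.symm
        | add z1 z2 h1 h2 =>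
          obtain ⟨z1', b1, e1⟩ := h1
          obtain ⟨z2', b2, e2⟩ := h2
          refine ⟨z1' + z2', b1 + b2, ?_⟩
          rw [e1, e2, map_add, TensorProduct.tmul_add]
          abel
      rw [injective_iff_map_eq_zero]
      intro z hz
      obtain ⟨z', b, rfl⟩ := hdecomp z
      -- image in `B`
      have himg : ∀ w : I' ⊗[A] B,
          TensorProduct.lid A B (LinearMap.rTensor B I'.subtype w) ∈
            (I'.map (algebraMap A B)) := by
        intro w
        induction w using TensorProduct.induction_on with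
        | zero => simp
        | tmul i b' =>
          rw [LinearMap.rTensor_tmul, TensorProduct.lid_tmul, Submodule.subtype_apply,
            Algebra.smul_def]
          exact Ideal.mul_mem_right _ _ (Ideal.mem_map_of_mem _ i.2)
        | add w1 w2 h1 h2 =>
          rw [map_add, map_add]; exact Ideal.add_mem _ h1 h2
      have hz' := congrArg (TensorProduct.lid A B) hz
      rw [map_add, map_add, map_zero, ← LinearMap.rTensor_comp_apply, hcomp,
        LinearMap.rTensor_tmul, TensorProduct.lid_tmul, Submodule.subtype_apply,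
        Algebra.smul_def] at hz'
      have hab : algebraMap A B a * b ∈ I'.map (algebraMap A B) := by
        have : algebraMap A B a * b =
            - TensorProduct.lid A B (LinearMap.rTensor B I'.subtype z') := by
          linear_combination hz'
        rw [this]
        exact Ideal.neg_mem_iff _ |>.mpr (himg z')
      have hbm := H.mem_map_maximalIdeal_of_mul_mem I' a ha b hab
      -- `a ⊗ b` comes from `I' ⊗ B`
      have hrange : ∀ b' ∈ (IsLocalRing.maximalIdeal A) • (⊤ : Submodule A B),
          (⟨a, haI⟩ : I) ⊗ₜ[A] b' ∈ LinearMap.range (LinearMap.rTensor B incl) := by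
        intro b' hb'
        refine Submodule.smul_induction_on hb' ?_ ?_
        · intro c hc b'' _
          refine ⟨(⟨c * a, hma c hc⟩ : I') ⊗ₜ[A] b'', ?_⟩
          rw [LinearMap.rTensor_tmul, TensorProduct.tmul_smul, TensorProduct.smul_tmul']
          congr 1
        · intro x y hx hy
          rw [TensorProduct.tmul_add]
          exact Submodule.add_mem _ hx hy
      have hbm' : b ∈ (IsLocalRing.maximalIdeal A) • (⊤ : Submodule A B) := by
        rw [Ideal.smul_top_eq_map, Submodule.restrictScalars_mem]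
        exact hbm
      obtain ⟨z'', hz''⟩ := hrange b hbm'
      rw [← hz'', ← map_add] at hz ⊢
      rw [← LinearMap.rTensor_comp_apply, hcomp] at hz
      rw [(injective_iff_map_eq_zero _).mp (ih I' hlt) _ hz, map_zero]

end KollarMain

end Groth.Agent.Lib.Helper28
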