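import Mathlib
import Groth.Agent.Lib.Helper6RegSm2

set_option autoImplicit false
universe u
open TensorProduct KaehlerDifferential IsLocalRing

namespace Groth.Agent.Lib.Helper6.RatPt

variable (k B : Type u) [Field k] [CommRing B] [Algebra k B] [IsLocalRing B]

/-- For a local `k`-algebra with residue field `k`, the cotangent map
`m/m² → κ ⊗ Ω_{B/k}` has a retraction. -/
theorem exists_retraction (hres : Function.Bijective (algebraMap k (ResidueField B))) :
    ∃ l : ResidueField B ⊗[B] Ω[B⁄k] →ₗ[B] (RingHom.ker (algebraMap B (ResidueField B))).Cotangent,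
      l ∘ₗ kerCotangentToTensor k B (ResidueField B) = LinearMap.id := by
  let e : ResidueField B ≃ₐ[k] k := (AlgEquiv.ofBijective (Algebra.ofId k (ResidueField B)) hres).symm
  let g : ResidueField B →ₐ[k]
      B ⧸ (RingHom.ker (IsScalarTower.toAlgHom k B (ResidueField B)).toRingHom ^ 2) :=
    (Algebra.ofId k _).comp e.toAlgHom
  have hg : (IsScalarTower.toAlgHom k B (ResidueField B)).kerSquareLift.comp g = AlgHom.id k _ := by
    ext x
    obtain ⟨c, rfl⟩ := hres.2 x
    simp [g, e]
  have hsurj : Function.Surjective (algebraMap B (ResidueField B)) := residue_surjective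
  obtain ⟨l, hl⟩ := (retractionKerCotangentToTensorEquivSection (R := k) hsurj).symm ⟨g, hg⟩
  exact ⟨l, hl⟩

omit [Algebra k B] in
theorem finrank_aux (I : Ideal B) (hI : I = maximalIdeal B) (M : Type u) [AddCommGroup M]
    [Module B M] [Module (ResidueField B) M] [IsScalarTower B (ResidueField B) M]
    (f : I.Cotangent →ₗ[B] M) (hf : Function.Bijective f) :
    Module.finrank (ResidueField B) (CotangentSpace B) = Module.finrank (ResidueField B) M := by
  subst hI
  let f' : CotangentSpace B →ₗ[ResidueField B] M :=
    LinearMap.extendScalarsOfSurjective residue_surjective f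
  exact LinearEquiv.finrank_eq (LinearEquiv.ofBijective f' hf)

theorem kerCotangentToTensor_bijective
    (hres : Function.Bijective (algebraMap k (ResidueField B))) :
    Function.Bijective (kerCotangentToTensor k B (ResidueField B)) := by
  obtain ⟨l, hl⟩ := exists_retraction k B hres
  refine ⟨Function.LeftInverse.injective (g := l) (fun x => LinearMap.congr_fun hl x), ?_⟩
  have hex := KaehlerDifferential.exact_kerCotangentToTensor_mapBaseChange k B (ResidueField B)
    residue_surjective
  haveI : Subsingleton Ω[ResidueField B⁄k] :=
    KaehlerDifferential.subsingleton_of_surjective k (ResidueField B) hres.2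
  intro y
  exact (hex y).mp (Subsingleton.elim _ _)

theorem finrank_cotangentSpace_eq (hres : Function.Bijective (algebraMap k (ResidueField B))) :
    Module.finrank (ResidueField B) (CotangentSpace B) =
      Module.finrank (ResidueField B) (ResidueField B ⊗[B] Ω[B⁄k]) :=
  finrank_aux B _ (ker_residue (R := B)) _ _ (kerCotangentToTensor_bijective k B hres)

theorem isRegularLocalRing_of_free [Algebra.EssFiniteType k B]
    (hres : Function.Bijective (algebraMap k (ResidueField B)))
    (d : ℕ) (hd : ringKrullDim B = (d : WithBot ℕ∞)) [Module.Free B Ω[B⁄k]]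
    (hrank : Module.finrank B Ω[B⁄k] = d) : IsRegularLocalRing B := by
  haveI : IsNoetherianRing B := Algebra.EssFiniteType.isNoetherianRing k B
  rw [IsRegularLocalRing.iff_finrank_cotangentSpace, finrank_cotangentSpace_eq k B hres,
    Module.finrank_baseChange, hrank, hd]

open Groth.Agent.Lib.Helper6.RegSm in
theorem formallySmooth_of_isRegularLocalRing_of_perfectField [Algebra.EssFiniteType k B]
    [PerfectField k] [IsRegularLocalRing B] : Algebra.FormallySmooth k B := by
  let S₀ := Algebra.EssFiniteType.subalgebra k B
  let M := Algebra.EssFiniteType.submonoid k B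
  let q : Ideal S₀ := (maximalIdeal B).comap (algebraMap S₀ B)
  haveI : q.IsPrime := Ideal.comap_isPrime _ _
  have hM : M ≤ q.primeCompl := by
    intro x hx hxq
    have h1 : IsUnit (algebraMap S₀ B x) := hx
    exact (mem_maximalIdeal _).mp hxq h1
  haveI : IsLocalization.AtPrime B q := by
    refine IsLocalization.of_le M q.primeCompl hM ?_
    intro r hr
    by_contra hnu
    exact hr ((mem_maximalIdeal _).mpr hnu)
  let e : Localization.AtPrime q ≃ₐ[S₀] B := IsLocalization.algEquiv q.primeCompl _ _
  haveI : IsRegularLocalRing (Localization.AtPrime q) :=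
    IsRegularLocalRing.of_ringEquiv e.symm.toRingEquiv
  haveI : Algebra.EssFiniteType k q.ResidueField := Algebra.EssFiniteType.comp k S₀ _
  haveI : Algebra.FormallySmooth k q.ResidueField := Algebra.FormallySmooth.of_perfectField
  have hsm : Algebra.FormallySmooth k (Localization.AtPrime q) :=
    isSmoothAt_of_isRegularLocalRing k S₀ q
  exact Algebra.FormallySmooth.of_equiv (e.restrictScalars k)

theorem free_and_finrank_of_isRegularLocalRing [Algebra.EssFiniteType k B]
    (hres : Function.Bijective (algebraMap k (ResidueField B)))
    (d : ℕ) (hd : ringKrullDim B = (d : WithBot ℕ∞)) [PerfectField k] [IsRegularLocalRing B] :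
    Module.Free B Ω[B⁄k] ∧ Module.finrank B Ω[B⁄k] = d := by
  haveI := formallySmooth_of_isRegularLocalRing_of_perfectField k B
  haveI : Module.Free B Ω[B⁄k] := Module.free_of_flat_of_isLocalRing
  refine ⟨inferInstance, ?_⟩
  have h1 := (IsRegularLocalRing.iff_finrank_cotangentSpace B).mp inferInstance
  rw [finrank_cotangentSpace_eq k B hres, Module.finrank_baseChange, hd] at h1
  exact_mod_cast h1

end Groth.Agent.Lib.Helper6.RatPt
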