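import Mathlib

import Groth.Agent.Lib.Helper19SmVar
import Groth.Agent.Lib.Helper6RatPt
import Groth.Agent.Lib.Helper28FGDim
import Groth.Agent.Lib.Helper28Kollar
import Groth.Agent.Lib.Helper28DimFormula
import Groth.Agent.Lib.Helper28RegPow
import Groth.Agent.Lib.Helper5RLR

set_option autoImplicit false
set_option linter.style.haveILetI false
set_option linter.unusedSectionVars false
universe u

open IsLocalRing KaehlerDifferential TensorProduct

namespace Groth.Agent.Lib.Helper19.SmVar

theorem height_le_height_comap_of_surjective {B C : Type u} [CommRing B] [CommRing C] (f : B →+* C)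
    (hf : Function.Surjective f) (Q : Ideal C) [hQ : Q.IsPrime] :
    Q.height ≤ (Q.comap f).height := by
  haveI : (Q.comap f).IsPrime := Ideal.comap_isPrime f Q
  have h1 := PrimeSpectrum.height_eq_orderHeight (⟨Q, hQ⟩ : PrimeSpectrum C)
  have h2 := PrimeSpectrum.height_eq_orderHeight (PrimeSpectrum.comap f ⟨Q, hQ⟩)
  change Q.height = _ at h1
  change (Q.comap f).height = _ at h2
  rw [h1, h2]
  exact Order.height_le_height_apply_of_strictMono _
    (Groth.Agent.Lib.Helper28.comap_strictMono_of_surjective f hf) ⟨Q, hQ⟩

theorem height_eq_ringKrullDim_of_isMaximal (k A : Type u) [Field k] [CommRing A] [Algebra k A]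
    [Algebra.FiniteType k A] (hirr : (nilradical A).IsPrime) (m : Ideal A) [hm : m.IsMaximal] :
    ((m.height : ℕ∞) : WithBot ℕ∞) = ringKrullDim A := by
  haveI := hirr
  have hpm : nilradical A ≤ m := nilradical_le_prime m
  have hM : (m.map (Ideal.Quotient.mk (nilradical A))).IsMaximal :=
    Ideal.IsMaximal.map_of_surjective_of_ker_le Ideal.Quotient.mk_surjective
      (by rwa [Ideal.mk_ker])
  have hMp := hM.isPrime
  have hcm : (m.map (Ideal.Quotient.mk (nilradical A))).comap (Ideal.Quotient.mk (nilradical A))
      = m := by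
    rw [Ideal.comap_map_of_surjective _ Ideal.Quotient.mk_surjective, ← RingHom.ker_eq_comap_bot,
      Ideal.mk_ker]
    exact sup_eq_left.mpr hpm
  have h1 := Groth.Agent.Lib.Helper28.height_eq_ringKrullDim_quotient_of_isMaximal_of_finiteType
    k A (nilradical A) (m.map (Ideal.Quotient.mk (nilradical A)))
  rw [Groth.Agent.Lib.Helper28.ringKrullDim_quotient_eq_of_le_nilradical _ le_rfl] at h1
  rw [← h1]
  congr 1
  apply le_antisymm
  · have := Groth.Agent.Lib.Helper28.height_comap_le_of_ker_le_nilradical
      (f := Ideal.Quotient.mk (nilradical A)) Ideal.Quotient.mk_surjective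
      (by rw [Ideal.mk_ker]) (m.map (Ideal.Quotient.mk (nilradical A)))
    rwa [hcm] at this
  · have := height_le_height_comap_of_surjective (Ideal.Quotient.mk (nilradical A))
      Ideal.Quotient.mk_surjective (m.map (Ideal.Quotient.mk (nilradical A)))
    rwa [hcm] at this

theorem bijective_algebraMap_residueField (k A : Type u) [Field k] [IsAlgClosed k] [CommRing A]
    [Algebra k A] [Algebra.FiniteType k A] (m : Ideal A) [hm : m.IsMaximal] :
    Function.Bijective (algebraMap k (IsLocalRing.ResidueField (Localization.AtPrime m))) := by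
  letI : Field (A ⧸ m) := Ideal.Quotient.field m
  haveI : Algebra.FiniteType k (A ⧸ m) :=
    Algebra.FiniteType.of_surjective (Ideal.Quotient.mkₐ k m) Ideal.Quotient.mk_surjective
  haveI : Module.Finite k (A ⧸ m) := finite_of_finite_type_of_isJacobsonRing k (A ⧸ m)
  have h1 : Function.Bijective (algebraMap k (A ⧸ m)) :=
    IsAlgClosed.algebraMap_bijective_of_isIntegral
  have h2 := Ideal.bijective_algebraMap_quotient_residueField m
  have h3 : algebraMap k m.ResidueField =
      (algebraMap (A ⧸ m) m.ResidueField).comp (algebraMap k (A ⧸ m)) :=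
    IsScalarTower.algebraMap_eq k (A ⧸ m) m.ResidueField
  change Function.Bijective (algebraMap k m.ResidueField)
  rw [h3]
  exact h2.comp h1

/-- the rank of `Ω_{A/k}` at a maximal ideal is the rank of `Ω_{A_m/k}` -/
theorem rankAtStalk_kaehler_eq (k A : Type u) [Field k] [CommRing A] [Algebra k A]
    [Algebra.FiniteType k A] (m : Ideal A) [hm : m.IsMaximal] [Module.Flat A Ω[A⁄k]] :
    Module.Free (Localization.AtPrime m) Ω[Localization.AtPrime m⁄k] ∧
    Module.rankAtStalk Ω[A⁄k] ⟨m, hm.isPrime⟩ =
      Module.finrank (Localization.AtPrime m) Ω[Localization.AtPrime m⁄k] := by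
  haveI : Algebra.FormallyEtale A (Localization.AtPrime m) :=
    Algebra.FormallyEtale.of_isLocalization (Rₘ := Localization.AtPrime m) m.primeCompl
  have hbc : IsBaseChange (Localization.AtPrime m) (map k k A (Localization.AtPrime m)) :=
    KaehlerDifferential.isBaseChange_of_formallyEtale k A (Localization.AtPrime m)
  haveI : Module.Flat (Localization.AtPrime m) Ω[Localization.AtPrime m⁄k] :=
    Module.Flat.isBaseChange A (Localization.AtPrime m) Ω[A⁄k] _ hbc
  haveI : Algebra.EssFiniteType k (Localization.AtPrime m) :=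
    Algebra.EssFiniteType.comp k A _
  haveI : Module.Free (Localization.AtPrime m) Ω[Localization.AtPrime m⁄k] :=
    Module.free_of_flat_of_isLocalRing
  refine ⟨inferInstance, ?_⟩
  have h1 := Module.rankAtStalk_isBaseChange hbc (closedPoint (Localization.AtPrime m))
  have h2 : (closedPoint (Localization.AtPrime m)).comap
      (algebraMap A (Localization.AtPrime m)) = ⟨m, hm.isPrime⟩ :=
    PrimeSpectrum.ext (IsLocalization.AtPrime.under_maximalIdeal (Localization.AtPrime m) m)
  rw [h2] at h1
  rw [← h1, Module.rankAtStalk_eq_finrank_of_free]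
  rfl

/-- **Hartshorne II.8.15** (affine form) -/
theorem isReduced_and_isRegularRing_iff (k : Type u) [Field k]
    [IsAlgClosed k] (A : Type u) [CommRing A] [Algebra k A] [Algebra.FiniteType k A]
    (hirr : (nilradical A).IsPrime) (n : ℕ) (hn : ringKrullDim A = n) :
    (IsReduced A ∧ IsRegularRing A) ↔
      (Module.Projective A (Ω[A⁄k]) ∧
        ∀ (P : Ideal A) [P.IsPrime],
          Module.finrank P.ResidueField (P.ResidueField ⊗[A] Ω[A⁄k]) = n) := by
  haveI : IsNoetherianRing A := Algebra.FiniteType.isNoetherianRing k A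
  have hdim : ∀ (m : Ideal A) [m.IsMaximal],
      ringKrullDim (Localization.AtPrime m) = (n : WithBot ℕ∞) := by
    intro m hm
    rw [IsLocalization.AtPrime.ringKrullDim_eq_height m (Localization.AtPrime m),
      height_eq_ringKrullDim_of_isMaximal k A hirr m, hn]
  constructor
  · rintro ⟨-, hreg⟩
    haveI : Algebra.FormallySmooth k A := (isRegularRing_iff_formallySmooth k A).mp hreg
    haveI : Module.Projective A Ω[A⁄k] := Algebra.FormallySmooth.projective_kaehlerDifferential
    refine ⟨inferInstance, ?_⟩
    intro P hP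
    obtain ⟨m, hm, hPm⟩ := Ideal.exists_le_maximal P hP.ne_top
    haveI := hm
    have h1 : Module.finrank P.ResidueField (P.ResidueField ⊗[A] Ω[A⁄k]) =
        Module.rankAtStalk Ω[A⁄k] ⟨P, hP⟩ := Ideal.finrank_fiber_eq_rankAtStalk P
    rw [h1, Module.rankAtStalk_eq_of_le_of_finite_of_flat' Ω[A⁄k] hPm,
      (rankAtStalk_kaehler_eq k A m).2]
    haveI : IsRegularLocalRing (Localization.AtPrime m) :=
      IsRegularRing.isRegularLocalRing_localization m
    haveI : Algebra.EssFiniteType k (Localization.AtPrime m) :=
      Algebra.EssFiniteType.comp k A _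
    exact (Groth.Agent.Lib.Helper6.RatPt.free_and_finrank_of_isRegularLocalRing k
      (Localization.AtPrime m) (bijective_algebraMap_residueField k A m) n (hdim m)).2
  · rintro ⟨hproj, hrank⟩
    have hloc : ∀ (m : Ideal A) [m.IsMaximal], IsRegularLocalRing (Localization.AtPrime m) := by
      intro m hm
      haveI : Algebra.EssFiniteType k (Localization.AtPrime m) :=
        Algebra.EssFiniteType.comp k A _
      obtain ⟨hfree, h2⟩ := rankAtStalk_kaehler_eq k A m
      have h1 : Module.finrank m.ResidueField (m.ResidueField ⊗[A] Ω[A⁄k]) =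
        Module.rankAtStalk Ω[A⁄k] ⟨m, hm.isPrime⟩ := Ideal.finrank_fiber_eq_rankAtStalk m
      rw [hrank m, h2] at h1
      exact Groth.Agent.Lib.Helper6.RatPt.isRegularLocalRing_of_free k
        (Localization.AtPrime m) (bijective_algebraMap_residueField k A m) n (hdim m) h1.symm
    refine ⟨?_, Groth.Agent.Lib.Helper28.isRegularRing_of_forall_isMaximal hloc⟩
    refine isReduced_ofLocalizationMaximal A ?_
    intro m hm
    haveI := hloc m
    haveI : IsDomain (Localization.AtPrime m) :=
      Groth.Agent.Lib.Helper5.isDomain_of_isRegularLocalRing _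
    infer_instance

end Groth.Agent.Lib.Helper19.SmVar
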