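import Groth.Agent.Lib.Helper19ComplExtend
import Groth.Agent.Lib.Helper19PsLiftComplete
import Groth.Agent.Lib.Helper19InvFun
import Groth.Agent.Lib.Helper19ComplNoeth2
import Mathlib

/-!
# Completion of a smooth algebra along a section is a power series ring (helper19)
-/

set_option autoImplicit false
universe u

open MvPowerSeries

namespace Groth.Agent.Lib.Helper19

section SmoothSection

variable {R S : Type u} [CommRing R] [CommRing S] [Algebra R S]
variable (σ : S →ₐ[R] R)

/-- Projection onto the kernel of the section. -/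
noncomputable def secProj : S →ₗ[R] (RingHom.ker σ.toRingHom : Ideal S) where
  toFun s := ⟨s - algebraMap R S (σ s), by
    rw [RingHom.mem_ker]
    change σ (s - algebraMap R S (σ s)) = 0
    rw [map_sub, σ.commutes, Algebra.algebraMap_self_apply, sub_self]⟩
  map_add' s t := by
    apply Subtype.ext
    simp only [map_add, Submodule.coe_add]
    ring
  map_smul' r s := by
    apply Subtype.ext
    simp only [map_smul, RingHom.id_apply, Submodule.coe_smul_of_tower, smul_eq_mul, map_mul]
    rw [Algebra.smul_def, Algebra.smul_def]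
    ring

theorem secProj_coe (s : S) : ((secProj σ s : RingHom.ker σ.toRingHom) : S) =
    s - algebraMap R S (σ s) := rfl

theorem secProj_of_mem (s : S) (hs : s ∈ RingHom.ker σ.toRingHom) :
    secProj σ s = ⟨s, hs⟩ := by
  apply Subtype.ext
  rw [secProj_coe]
  have : σ s = 0 := hs
  rw [this, map_zero, sub_zero]

variable {d : ℕ} (e : (RingHom.ker σ.toRingHom).Cotangent ≃ₗ[R] (Fin d → R))

/-- The linear part. -/
noncomputable def secLin : S →ₗ[R] (Fin d → R) :=
  e.toLinearMap ∘ₗ ((RingHom.ker σ.toRingHom).toCotangent.restrictScalars R) ∘ₗ secProj σ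

theorem secLin_apply (s : S) :
    secLin σ e s = e ((RingHom.ker σ.toRingHom).toCotangent (secProj σ s)) := rfl

theorem secLin_mul (s t : S) :
    secLin σ e (s * t) = σ s • secLin σ e t + σ t • secLin σ e s := by
  set I := RingHom.ker σ.toRingHom with hI
  have hw : (s - algebraMap R S (σ s)) * (t - algebraMap R S (σ t)) ∈ I ^ 2 := by
    rw [pow_two]
    exact Ideal.mul_mem_mul (secProj σ s).2 (secProj σ t).2
  have hdec : secProj σ (s * t) =
      (⟨_, Ideal.pow_le_self (by norm_num) hw⟩ : I) + σ s • secProj σ t + σ t • secProj σ s := by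
    apply Subtype.ext
    simp only [Submodule.coe_add, Submodule.coe_smul_of_tower, secProj_coe, map_mul]
    rw [Algebra.smul_def, Algebra.smul_def]
    ring
  rw [secLin_apply, hdec, map_add, map_add, map_add, map_add]
  have h0 : I.toCotangent ⟨_, Ideal.pow_le_self (by norm_num) hw⟩ = 0 :=
    (I.toCotangent_eq_zero _).mpr hw
  rw [h0, map_zero, zero_add]
  have h1 : ∀ (r : R) (y : I), I.toCotangent (r • y) = r • I.toCotangent y := fun r y =>
    ((I.toCotangent.restrictScalars R).map_smul r y)
  rw [h1, h1, map_smul, map_smul]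
  rfl

theorem secLin_one : secLin σ e 1 = 0 := by
  have : secProj σ (1 : S) = 0 := by
    apply Subtype.ext
    rw [secProj_coe, map_one, map_one, sub_self]
    rfl
  rw [secLin_apply, this, map_zero, map_zero]

/-- The tail `∑ ℓ(s)_i X_i`. -/
noncomputable def secTail (s : S) : MvPowerSeries (Fin d) R :=
  ∑ i, secLin σ e s i • (X i : MvPowerSeries (Fin d) R)

theorem secTail_mem (s : S) : secTail σ e s ∈ augIdeal (Fin d) R := by
  refine Ideal.sum_mem _ fun i _ => ?_
  exact Submodule.smul_of_tower_mem _ _ (X_mem_coeffIdeal_one ⊥ i)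

theorem secTail_mul (s t : S) :
    secTail σ e (s * t) = σ s • secTail σ e t + σ t • secTail σ e s := by
  simp only [secTail, secLin_mul, Pi.add_apply, Pi.smul_apply, smul_eq_mul, add_smul, mul_smul,
    Finset.sum_add_distrib, Finset.smul_sum]

/-- The first-order approximation `S → R[[X]]`, as a linear map. -/
noncomputable def secPsi : S →ₗ[R] MvPowerSeries (Fin d) R :=
  (Algebra.linearMap R (MvPowerSeries (Fin d) R)).comp σ.toLinearMap +
    ∑ i, (LinearMap.toSpanSingleton R (MvPowerSeries (Fin d) R) (X i)).comp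
      ((LinearMap.proj i).comp (secLin σ e))

theorem secPsi_apply (s : S) :
    secPsi σ e s = algebraMap R (MvPowerSeries (Fin d) R) (σ s) + secTail σ e s := by
  simp [secPsi, secTail, LinearMap.sum_apply]

theorem secPsi_mul_sub (s t : S) :
    secPsi σ e (s * t) - secPsi σ e s * secPsi σ e t ∈ augIdeal (Fin d) R ^ 2 := by
  have e1 : secPsi σ e (s * t) - secPsi σ e s * secPsi σ e t =
      -(secTail σ e s * secTail σ e t) := by
    rw [secPsi_apply, secPsi_apply, secPsi_apply, secTail_mul, map_mul, map_mul,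
      Algebra.smul_def, Algebra.smul_def]
    ring
  rw [e1, pow_two]
  exact Ideal.neg_mem_iff _ |>.mpr (Ideal.mul_mem_mul (secTail_mem σ e s) (secTail_mem σ e t))

/-- The first-order approximation as an algebra map to `R[[X]] ⧸ (X)²`. -/
noncomputable def secPsi₂ : S →ₐ[R] MvPowerSeries (Fin d) R ⧸ (augIdeal (Fin d) R) ^ 2 :=
  AlgHom.ofLinearMap
    ((Ideal.Quotient.mkₐ R ((augIdeal (Fin d) R) ^ 2)).toLinearMap.comp (secPsi σ e))
    (by
      change Ideal.Quotient.mk _ (secPsi σ e 1) = 1
      rw [secPsi_apply, secTail]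
      simp [secLin_one])
    (by
      intro s t
      change Ideal.Quotient.mk _ (secPsi σ e (s * t)) =
        Ideal.Quotient.mk _ (secPsi σ e s) * Ideal.Quotient.mk _ (secPsi σ e t)
      rw [← map_mul, Ideal.Quotient.eq]
      exact secPsi_mul_sub σ e s t)

theorem secPsi₂_apply (s : S) : secPsi₂ σ e s = Ideal.Quotient.mk _ (secPsi σ e s) := rfl

/-- Power series in `aug ^ 2` have vanishing coefficients in degree one. -/
theorem coeff_single_eq_zero_of_mem_augIdeal_sq {g : MvPowerSeries (Fin d) R}
    (hg : g ∈ augIdeal (Fin d) R ^ 2) (j : Fin d) : coeff (Finsupp.single j 1) g = 0 := by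
  rw [← coeffIdeal_eq_pow (σ := Fin d) (⊥ : Ideal R) 2] at hg
  have := hg (Finsupp.single j 1)
  rw [Finsupp.degree_single] at this
  simpa using this

include e in
theorem nonempty_adicCompletion_algEquiv_mvPowerSeries [Algebra.Smooth R S] :
    Nonempty (AdicCompletion (RingHom.ker σ.toRingHom) S ≃ₐ[R] MvPowerSeries (Fin d) R) := by
  classical
  set I := RingHom.ker σ.toRingHom with hI
  -- completeness of the power series ring
  haveI hc1 : IsAdicComplete (augIdeal (Fin d) R) (MvPowerSeries (Fin d) R) := by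
    rw [augIdeal_eq_varsIdeal]
    infer_instance
  haveI hc2 : IsAdicComplete (augIdeal (Fin d) R ^ 2) (MvPowerSeries (Fin d) R) :=
    isAdicComplete_pow_two (augIdeal (Fin d) R)
  -- the lift
  obtain ⟨ψ, hψ⟩ := Algebra.FormallySmooth.exists_mkₐ_comp_eq_of_isAdicComplete (R := R)
    (A := S) (S := MvPowerSeries (Fin d) R) (I := augIdeal (Fin d) R ^ 2) (secPsi₂ σ e)
  have hψ' : ∀ s, ψ s - secPsi σ e s ∈ augIdeal (Fin d) R ^ 2 := by
    intro s
    have := AlgHom.congr_fun hψ s
    rw [AlgHom.comp_apply, secPsi₂_apply, Ideal.Quotient.mkₐ_eq_mk, Ideal.Quotient.eq] at this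
    exact this
  have hψI : ∀ s ∈ I, ψ s ∈ augIdeal (Fin d) R := by
    intro s hs
    have hσs : σ s = 0 := hs
    have h1 : secPsi σ e s ∈ augIdeal (Fin d) R := by
      rw [secPsi_apply, hσs, map_zero, zero_add]
      exact secTail_mem σ e s
    have := Ideal.add_mem _ (Ideal.pow_le_self (by norm_num) (hψ' s)) h1
    rwa [sub_add_cancel] at this
  have hmapI : I.map ψ.toRingHom ≤ augIdeal (Fin d) R :=
    Ideal.map_le_iff_le_comap.mpr fun s hs => hψI s hs
  obtain ⟨Ψ, hΨ⟩ := exists_algHom_adicCompletion I (augIdeal (Fin d) R) ψ hmapI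
  -- the parameters
  have hx : ∀ i : Fin d, ∃ y : I, I.toCotangent y = e.symm (Pi.single i 1) :=
    fun i => I.toCotangent_surjective _
  choose y hy using hx
  have hℓy : ∀ i, secLin σ e (y i : S) = Pi.single i 1 := by
    intro i
    rw [secLin_apply, secProj_of_mem σ _ (y i).2, Subtype.coe_eta, hy,
      LinearEquiv.apply_symm_apply]
  -- completeness of the completion
  have hσsurj : Function.Surjective σ := fun r => ⟨algebraMap R S r, by
    rw [σ.commutes, Algebra.algebraMap_self_apply]⟩
  have hIfg : I.FG := Algebra.FinitePresentation.ker_fG_of_surjective σ hσsurj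
  haveI h1 : IsAdicComplete I (AdicCompletion I S) := AdicCompletion.isAdicComplete hIfg
  haveI h2 : IsAdicComplete (I.map (algebraMap S (AdicCompletion I S))) (AdicCompletion I S) :=
    (IsAdicComplete.map_algebraMap_iff (I := I) (S := AdicCompletion I S)
      (M := AdicCompletion I S)).mpr h1
  have hyIh : ∀ i, AdicCompletion.of I S (y i : S) ∈ I.map (algebraMap S (AdicCompletion I S)) :=
    fun i => Ideal.mem_map_of_mem (algebraMap S (AdicCompletion I S)) (y i).2
  obtain ⟨φ, hφ⟩ := exists_algHom_X_eq_of_isAdicComplete (Λ := R) (σ := Fin d)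
    (I.map (algebraMap S (AdicCompletion I S))) (fun i => AdicCompletion.of I S (y i : S)) hyIh
  -- the composite is bijective
  have hθX : ∀ i, (Ψ.comp φ) (X i) = ψ (y i : S) := fun i => by
    rw [AlgHom.comp_apply, hφ, hΨ]
  have hθbij : Function.Bijective (Ψ.comp φ) := by
    apply bijective_of_isUnit_jacobian_det
    · intro i
      rw [hθX, ← mem_augIdeal]
      exact hψI _ (y i).2
    · have : (Matrix.of fun i j : Fin d => coeff (Finsupp.single j 1) ((Ψ.comp φ) (X i))) = 1 := by
        ext i j
        rw [Matrix.of_apply, hθX]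
        have hcoef := coeff_single_eq_zero_of_mem_augIdeal_sq (hψ' (y i : S)) j
        rw [map_sub, sub_eq_zero] at hcoef
        rw [hcoef, secPsi_apply, secTail, hℓy]
        have hσy : σ (y i : S) = 0 := (y i).2
        rw [hσy, map_zero, zero_add, map_sum]
        simp only [MvPowerSeries.coeff_smul, coeff_index_single_X, Pi.single_apply,
          Matrix.one_apply]
        simp [eq_comm]
      rw [this, Matrix.det_one]
      exact isUnit_one
  -- surjectivity of φ
  have hIle : I ≤ Ideal.span (Set.range fun i => (y i : S)) ⊔ I ^ 2 := by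
    intro s hs
    set s' : S := s - ∑ i, secLin σ e s i • (y i : S) with hs'
    have hs'I : s' ∈ I :=
      I.sub_mem hs (I.sum_mem fun i _ => Submodule.smul_of_tower_mem _ _ (y i).2)
    have hℓs' : secLin σ e s' = 0 := by
      rw [hs', map_sub, map_sum]
      simp only [map_smul, hℓy]
      rw [sub_eq_zero]
      ext j
      simp [Finset.sum_apply, Pi.single_apply]
    have h3 : I.toCotangent ⟨s', hs'I⟩ = 0 := by
      rw [secLin_apply, secProj_of_mem σ _ hs'I] at hℓs'
      exact e.map_eq_zero_iff.mp hℓs'
    have h4 : s' ∈ I ^ 2 := (I.toCotangent_eq_zero _).mp h3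
    have : s = ∑ i, secLin σ e s i • (y i : S) + s' := by rw [hs']; ring
    rw [this]
    refine Ideal.add_mem _ (Ideal.mem_sup_left ?_) (Ideal.mem_sup_right h4)
    refine Ideal.sum_mem _ fun i _ => ?_
    exact Submodule.smul_of_tower_mem _ _ (Ideal.subset_span ⟨i, rfl⟩)
  have hIhle : I.map (algebraMap S (AdicCompletion I S)) ≤
      Ideal.span (Set.range fun i => AdicCompletion.of I S (y i : S)) ⊔
        (I.map (algebraMap S (AdicCompletion I S))) ^ 2 := by
    refine (Ideal.map_mono hIle).trans ?_
    rw [Ideal.map_sup, Ideal.map_span, ← Set.range_comp, Ideal.map_pow]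
    exact le_rfl
  have hIh_eq := eq_span_of_le_span_sup_sq (I.map (algebraMap S (AdicCompletion I S)))
    (fun i => AdicCompletion.of I S (y i : S)) hyIh hIhle
  have hmapvars : (varsIdeal (Fin d) R).map φ.toRingHom =
      I.map (algebraMap S (AdicCompletion I S)) := by
    rw [hIh_eq, varsIdeal, Ideal.map_span, ← Set.range_comp]
    congr 2
    funext i
    exact hφ i
  have hsurj : Function.Surjective φ := by
    haveI : IsHausdorff ((varsIdeal (Fin d) R).map φ.toRingHom) (AdicCompletion I S) := by
      rw [hmapvars]; infer_instance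
    apply surjective_of_mk_map_comp_surjective (I := varsIdeal (Fin d) R) φ.toRingHom
    rw [hmapvars]
    intro yh
    obtain ⟨sh, rfl⟩ := Ideal.Quotient.mk_surjective yh
    obtain ⟨s₀, hs₀⟩ := Ideal.Quotient.mk_surjective (AdicCompletion.evalOneₐ I sh)
    refine ⟨C (σ s₀), ?_⟩
    rw [RingHom.comp_apply, Ideal.Quotient.eq, ← AdicCompletion.ker_evalOneₐ_eq_map I hIfg,
      RingHom.mem_ker]
    change AdicCompletion.evalOneₐ I (φ (C (σ s₀)) - sh) = 0
    have hφC : φ (C (σ s₀)) = AdicCompletion.of I S (algebraMap R S (σ s₀)) := by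
      have := φ.commutes (σ s₀)
      exact this
    rw [map_sub, hφC, AdicCompletion.evalOneₐ_of, ← hs₀, ← map_sub, Ideal.Quotient.eq_zero_iff_mem,
      ← Ideal.neg_mem_iff, neg_sub]
    exact (secProj σ s₀).2
  have hinj : Function.Injective φ := by
    have : Function.Injective (Ψ ∘ φ) := hθbij.1
    exact Function.Injective.of_comp this
  exact ⟨(AlgEquiv.ofBijective φ ⟨hinj, hsurj⟩).symm⟩

end SmoothSection

end Groth.Agent.Lib.Helper19
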