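import Mathlib
import Groth.Agent.Lib.Helper19DefKaehlerA
import Groth.Agent.Lib.Helper19ArtTestE
import Groth.Agent.Lib.Helper14NilFT

/-!
# Smoothness and lifting along small extensions of Artinian local rings (helper19)
-/

set_option autoImplicit false
set_option linter.style.haveILetI false
set_option linter.unusedSectionVars false
universe u

open IsLocalRing CategoryTheory AlgebraicGeometry

namespace Groth.Agent.Lib.Helper19.SmoothSmallExt


section Ring

variable {R S : Type u} [CommRing R] [IsNoetherianRing R] [CommRing S] [Algebra R S]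
  [Algebra.FiniteType R S] (q : Ideal S) [q.IsPrime]

/-- refined form of S2060 (⇐): it suffices to lift against small extensions `A → A ⧸ J` such that
the local ring `S_q` surjects onto `A ⧸ J` -/
theorem isSmoothAt_of_lift_surj
    (h : ∀ (A : Type u) [CommRing A] [IsLocalRing A] [IsArtinianRing A] [Algebra R A]
        (J : Ideal A) (t : A), J = Ideal.span {t} → (∀ a ∈ maximalIdeal A, a * t = 0) →
        J ^ 2 = ⊥ → ∀ [IsLocalRing (A ⧸ J)] (ψ : Localization.AtPrime q →ₐ[R] A ⧸ J),
          Function.Surjective ψ →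
          ∃ g' : S →ₐ[R] A, (Ideal.Quotient.mkₐ R J).comp g' =
            ψ.comp (IsScalarTower.toAlgHom R S (Localization.AtPrime q))) :
    Algebra.IsSmoothAt R q := by
  haveI : IsNoetherianRing S := Algebra.FiniteType.isNoetherianRing R S
  haveI : IsNoetherianRing (Localization.AtPrime q) :=
    IsLocalization.isNoetherianRing q.primeCompl _ inferInstance
  have hSS : ArtTest.SmallSectionHyp R (Localization.AtPrime q) := by
    apply ArtTest.smallSectionHyp_of_lift_core
    intro A _ _ _ _ J t hJ ht0 hmt hJsq hunit _ ψ hψsurj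
    obtain ⟨g', hg'⟩ := h A J t hJ hmt hJsq ψ hψsurj
    have hg'' : ∀ s, Ideal.Quotient.mk J (g' s) =
        ψ (algebraMap S (Localization.AtPrime q) s) := fun s => AlgHom.congr_fun hg' s
    have hu : ∀ y : q.primeCompl, IsUnit (g' y) := by
      intro y
      rw [← IsNilpotent.isUnit_quotient_mk_iff (I := J) ⟨2, hJsq⟩, hg'']
      exact (IsLocalization.map_units (Localization.AtPrime q) y).map ψ
    let χ : Localization.AtPrime q →ₐ[R] A :=
      IsLocalization.liftAlgHom (M := q.primeCompl) (f := g') hu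
    refine ⟨χ, ?_⟩
    apply AlgHom.coe_ringHom_injective
    apply IsLocalization.ringHom_ext q.primeCompl
    ext s
    change Ideal.Quotient.mk J (χ (algebraMap S (Localization.AtPrime q) s)) =
      ψ (algebraMap S (Localization.AtPrime q) s)
    have : χ (algebraMap S (Localization.AtPrime q) s) = g' s := IsLocalization.lift_eq hu s
    rw [this, hg'']
  exact ArtTest.isSmoothAt_of_isAdicFormallySmooth q
    (ArtTest.isAdicFormallySmooth_of_smallSectionHyp hSS)

omit [IsNoetherianRing R] [Algebra.FiniteType R S] in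
/-- for a maximal ideal `q`, a surjection from `S_q` onto a ring with nilpotent maximal ideal
restricts to a surjection from `S` -/
theorem surjective_comp_of_isMaximal [q.IsMaximal] {T : Type u} [CommRing T] [IsLocalRing T]
    (hT : IsNilpotent (maximalIdeal T)) (ψ : Localization.AtPrime q →+* T)
    (hψ : Function.Surjective ψ) :
    Function.Surjective (ψ.comp (algebraMap S (Localization.AtPrime q))) := by
  haveI : IsLocalHom ψ := IsLocalHom.of_surjective ψ hψ
  obtain ⟨N, hN⟩ := hT
  intro z
  obtain ⟨w, rfl⟩ := hψ z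
  obtain ⟨x, ⟨s, hs⟩, rfl⟩ := IsLocalization.exists_mk'_eq q.primeCompl w
  -- inverse of `s` modulo `q`
  obtain ⟨s', hs'⟩ : ∃ s' : S, s * s' - 1 ∈ q := by
    letI := Ideal.Quotient.field q
    have hne : Ideal.Quotient.mk q s ≠ 0 := by
      rw [Ne, Ideal.Quotient.eq_zero_iff_mem]; exact hs
    obtain ⟨s', hs'⟩ := Ideal.Quotient.mk_surjective (Ideal.Quotient.mk q s)⁻¹
    refine ⟨s', ?_⟩
    rw [← Ideal.Quotient.eq_zero_iff_mem, map_sub, map_mul, hs', mul_inv_cancel₀ hne, map_one,
      sub_self]
  set y : S := 1 - s * s' with hy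
  have hyq : y ∈ q := by
    have : y = -(s * s' - 1) := by ring
    rw [this]; exact q.neg_mem hs'
  set φ := ψ.comp (algebraMap S (Localization.AtPrime q)) with hφ
  have hφy : φ y ∈ maximalIdeal T := by
    have h1 : algebraMap S (Localization.AtPrime q) y ∈ maximalIdeal (Localization.AtPrime q) := by
      rw [← Localization.AtPrime.map_eq_maximalIdeal]
      exact Ideal.mem_map_of_mem _ hyq
    rw [mem_maximalIdeal, mem_nonunits_iff] at h1 ⊢
    intro hu
    exact h1 (isUnit_of_map_unit ψ _ hu)
  have hyN : φ y ^ N = 0 := by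
    have := Ideal.pow_mem_pow hφy N
    rw [hN] at this
    exact this
  -- `φ (s * s')` is a unit with inverse a polynomial in `φ y`
  have hgeom : φ (s * s') * φ (∑ i ∈ Finset.range N, y ^ i) = 1 := by
    have h2 : s * s' = 1 - y := by rw [hy]; ring
    rw [← map_mul, h2, mul_comm, geom_sum_mul_neg, map_sub, map_one, map_pow, hyN, sub_zero]
  refine ⟨x * s' * ∑ i ∈ Finset.range N, y ^ i, ?_⟩
  have h3 : ψ (IsLocalization.mk' (Localization.AtPrime q) x ⟨s, hs⟩) * φ s = φ x := by
    rw [hφ, RingHom.comp_apply, RingHom.comp_apply, ← map_mul, IsLocalization.mk'_spec]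
  calc φ (x * s' * ∑ i ∈ Finset.range N, y ^ i)
      = φ x * (φ s' * φ (∑ i ∈ Finset.range N, y ^ i)) := by rw [map_mul, map_mul, mul_assoc]
    _ = ψ (IsLocalization.mk' (Localization.AtPrime q) x ⟨s, hs⟩) *
          (φ (s * s') * φ (∑ i ∈ Finset.range N, y ^ i)) := by
        rw [← h3, map_mul]; ring
    _ = _ := by rw [hgeom, mul_one]

end Ring



section Scheme

/-- a morphism from the spectrum of a local ring factors through any affine open containing the
image of the closed point -/
theorem exists_eq_SpecMap_comp_fromSpec {X : Scheme.{u}} (B : CommRingCat.{u}) [IsLocalRing B]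
    (α : Spec B ⟶ X) {U : X.Opens} (hU : IsAffineOpen U)
    (hc : α.base (closedPoint B) ∈ U) :
    ∃ a : Γ(X, U) ⟶ B, α = Spec.map a ≫ hU.fromSpec := by
  have hrange : Set.range α.base ⊆ Set.range U.ι.base := by
    rw [Scheme.Opens.range_ι]
    rintro _ ⟨y, rfl⟩
    have hy : y ⤳ closedPoint B := IsLocalRing.specializes_closedPoint (R := B) y
    exact (hy.map α.base.hom.2).mem_open U.2 hc
  let l : Spec B ⟶ (U : Scheme.{u}) := IsOpenImmersion.lift U.ι α hrange
  have hl : l ≫ U.ι = α := IsOpenImmersion.lift_fac _ _ _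
  refine ⟨Spec.preimage (l ≫ hU.isoSpec.hom), ?_⟩
  rw [Spec.map_preimage, IsAffineOpen.fromSpec, Category.assoc, Iso.hom_inv_id_assoc, hl]

/-- smooth morphisms have the lifting property against nilpotent thickenings of spectra of local
rings -/
theorem exists_lift_of_smooth {X S : Scheme.{u}} (f : X ⟶ S) [Smooth f]
    (B B' : Type u) [CommRing B] [CommRing B'] [IsLocalRing B] [IsLocalRing B']
    (φ : B' →+* B) (hφ : Function.Surjective φ) (hnil : IsNilpotent (RingHom.ker φ))
    (α : Spec (CommRingCat.of B) ⟶ X) (β : Spec (CommRingCat.of B') ⟶ S)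
    (hsq : Spec.map (CommRingCat.ofHom φ) ≫ β = α ≫ f) :
    ∃ γ : Spec (CommRingCat.of B') ⟶ X,
      Spec.map (CommRingCat.ofHom φ) ≫ γ = α ∧ γ ≫ f = β := by
  set x := α.base (closedPoint (CommRingCat.of B)) with hx
  obtain ⟨_, ⟨V, hV, rfl⟩, hsV, -⟩ :=
    S.isBasis_affineOpens.exists_subset_of_mem_open (Set.mem_univ (f.base x)) isOpen_univ
  obtain ⟨_, ⟨U, hU, rfl⟩, hxU, hUV⟩ :=
    X.isBasis_affineOpens.exists_subset_of_mem_open hsV (V.2.preimage f.base.hom.2)
  have e : U ≤ f ⁻¹ᵁ V := hUV
  replace hV : IsAffineOpen V := hV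
  replace hU : IsAffineOpen U := hU
  obtain ⟨a, ha⟩ := exists_eq_SpecMap_comp_fromSpec (CommRingCat.of B) α hU hxU
  haveI : IsLocalHom φ := IsLocalHom.of_surjective φ hφ
  have hcp : (Spec.map (CommRingCat.ofHom φ)).base (closedPoint (CommRingCat.of B)) =
      closedPoint (CommRingCat.of B') := IsLocalRing.comap_closedPoint φ
  have hβc : β.base (closedPoint (CommRingCat.of B')) ∈ V := by
    have h1 : (Spec.map (CommRingCat.ofHom φ) ≫ β).base (closedPoint (CommRingCat.of B)) =
        (α ≫ f).base (closedPoint (CommRingCat.of B)) := by rw [hsq]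
    rw [Scheme.Hom.comp_base, Scheme.Hom.comp_base] at h1
    change β.base ((Spec.map (CommRingCat.ofHom φ)).base (closedPoint (CommRingCat.of B))) =
      f.base (α.base (closedPoint (CommRingCat.of B))) at h1
    rw [hcp] at h1
    rw [h1]
    exact hsV
  obtain ⟨b, hb⟩ := exists_eq_SpecMap_comp_fromSpec (CommRingCat.of B') β hV hβc
  -- the commutative square of rings
  have hcomm : b ≫ CommRingCat.ofHom φ = f.appLE V U e ≫ a := by
    apply Spec.map_injective
    haveI : Mono hV.fromSpec := inferInstance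
    rw [← cancel_mono hV.fromSpec, Spec.map_comp, Spec.map_comp, Category.assoc, Category.assoc,
      ← hb, hsq, ha, IsAffineOpen.SpecMap_appLE_fromSpec f hV hU e, Category.assoc]
  have hsm : (f.appLE V U e).hom.Smooth := f.smooth_appLE hV hU e
  algebraize [(f.appLE V U e).hom]
  haveI : Algebra.FormallySmooth Γ(S, V) Γ(X, U) := by
    have := (RingHom.smooth_def.1 hsm).1
    exact this
  have hcomm' : a.hom.comp (algebraMap Γ(S, V) Γ(X, U)) = φ.comp b.hom := by
    have := congrArg CommRingCat.Hom.hom hcomm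
    rw [CommRingCat.hom_comp, CommRingCat.hom_comp] at this
    exact this.symm
  obtain ⟨a', ha'1, ha'2⟩ := DefKaehler.exists_lift_ringHom φ hφ hnil b.hom a.hom hcomm'
  refine ⟨Spec.map (CommRingCat.ofHom a') ≫ hU.fromSpec, ?_, ?_⟩
  · rw [← Category.assoc, ← Spec.map_comp, ha]
    congr 2
    ext1
    rw [CommRingCat.hom_comp]
    exact ha'2
  · rw [Category.assoc, ← IsAffineOpen.SpecMap_appLE_fromSpec f hV hU e, ← Category.assoc,
      ← Spec.map_comp, hb]
    congr 2
    ext1
    rw [CommRingCat.hom_comp]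
    exact ha'1

end Scheme

section Scheme

/-- an open subset of a prime spectrum containing all maximal ideals is everything -/
theorem eq_univ_of_isOpen_of_maximal_mem {A : Type u} [CommRing A] (O : Set (PrimeSpectrum A))
    (hO : IsOpen O) (h : ∀ (m : Ideal A) [hm : m.IsMaximal], (⟨m, hm.isPrime⟩ : PrimeSpectrum A) ∈ O) :
    O = Set.univ := by
  rw [Set.eq_univ_iff_forall]
  intro p
  obtain ⟨m, hm, hpm⟩ := Ideal.exists_le_maximal p.asIdeal p.2.ne_top
  have h1 : p ⤳ (⟨m, hm.isPrime⟩ : PrimeSpectrum A) := by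
    rw [← PrimeSpectrum.le_iff_specializes]
    exact hpm
  exact h1.mem_open hO (h m)

/-- the lifting property against small extensions of Artinian local rings (with `Spec B' → S`
locally of finite type) implies smoothness -/
theorem smooth_of_lift {X S : Scheme.{u}} (f : X ⟶ S) [IsLocallyNoetherian S]
    [LocallyOfFiniteType f]
    (H : ∀ (B B' : Type u) [CommRing B] [CommRing B'] [IsArtinianRing B] [IsArtinianRing B']
      [IsLocalRing B] [IsLocalRing B'] (φ : B' →+* B) (ε : B'), Function.Surjective φ →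
      RingHom.ker φ = Ideal.span {ε} → (∀ m ∈ IsLocalRing.maximalIdeal B', ε * m = 0) →
      ∀ (α : Spec (CommRingCat.of B) ⟶ X) (β : Spec (CommRingCat.of B') ⟶ S),
        LocallyOfFiniteType β → Spec.map (CommRingCat.ofHom φ) ≫ β = α ≫ f →
        ∃ γ : Spec (CommRingCat.of B') ⟶ X,
          Spec.map (CommRingCat.ofHom φ) ≫ γ = α ∧ γ ≫ f = β) :
    Smooth f := by
  rw [smooth_iff]
  intro V hV U hU e
  have hft : (f.appLE V U e).hom.FiniteType := f.finiteType_appLE hV hU e
  haveI : IsNoetherianRing Γ(S, V) := IsLocallyNoetherian.component_noetherian ⟨V, hV⟩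
  algebraize [(f.appLE V U e).hom]
  haveI : Algebra.FinitePresentation Γ(S, V) Γ(X, U) :=
    Algebra.FinitePresentation.of_finiteType.mp inferInstance
  rw [RingHom.smooth_def]
  refine ⟨?_, ?_⟩
  swap
  · show (algebraMap Γ(S, V) Γ(X, U)).FinitePresentation
    rw [RingHom.finitePresentation_algebraMap]
    infer_instance
  show (algebraMap Γ(S, V) Γ(X, U)).FormallySmooth
  rw [RingHom.formallySmooth_algebraMap, ← Algebra.smoothLocus_eq_univ_iff]
  apply eq_univ_of_isOpen_of_maximal_mem _ Algebra.isOpen_smoothLocus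
  intro m hm
  show Algebra.IsSmoothAt Γ(S, V) m
  haveI : m.IsPrime := hm.isPrime
  apply isSmoothAt_of_lift_surj m
  intro A' _ _ _ _ J t hJ hmt hJsq _ ψ hψ
  -- `A' ⧸ J` is Artinian with nilpotent maximal ideal
  haveI : IsArtinianRing (A' ⧸ J) :=
    Function.Surjective.isArtinianRing (f := Ideal.Quotient.mk J) Ideal.Quotient.mk_surjective
  have hTnil : IsNilpotent (maximalIdeal (A' ⧸ J)) := by
    rw [← IsLocalRing.jacobson_eq_maximalIdeal ⊥ bot_ne_top]
    exact IsArtinianRing.isNilpotent_jacobson_bot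
  let g : Γ(X, U) →ₐ[Γ(S, V)] A' ⧸ J :=
    ψ.comp (IsScalarTower.toAlgHom Γ(S, V) Γ(X, U) (Localization.AtPrime m))
  have hgs : Function.Surjective g :=
    surjective_comp_of_isMaximal m hTnil ψ.toRingHom hψ
  -- `A'` is of finite type over `Γ(S, V)`
  haveI : Algebra.FiniteType Γ(S, V) (A' ⧸ J) := Algebra.FiniteType.of_surjective g hgs
  haveI : Algebra.FiniteType Γ(S, V) A' := by
    refine Groth.Agent.Lib.Helper14.finiteType_of_surjective_of_fg_nilpotent_ker
      (Ideal.Quotient.mkₐ Γ(S, V) J) Ideal.Quotient.mk_surjective ?_ ?_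
    · have : RingHom.ker (Ideal.Quotient.mkₐ Γ(S, V) J).toRingHom = J := Ideal.mk_ker
      rw [this, hJ]
      exact ⟨{t}, by simp⟩
    · have : RingHom.ker (Ideal.Quotient.mkₐ Γ(S, V) J).toRingHom = J := Ideal.mk_ker
      rw [this]
      exact ⟨2, hJsq⟩
  -- the square of schemes
  let α : Spec (CommRingCat.of (A' ⧸ J)) ⟶ X :=
    Spec.map (CommRingCat.ofHom g.toRingHom) ≫ hU.fromSpec
  let β : Spec (CommRingCat.of A') ⟶ S :=
    Spec.map (CommRingCat.ofHom (algebraMap Γ(S, V) A')) ≫ hV.fromSpec
  have hβ : LocallyOfFiniteType β := by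
    haveI : LocallyOfFiniteType (Spec.map (CommRingCat.ofHom (algebraMap Γ(S, V) A'))) := by
      rw [HasRingHomProperty.Spec_iff (P := @LocallyOfFiniteType)]
      show (algebraMap Γ(S, V) A').FiniteType
      rw [RingHom.finiteType_algebraMap]
      infer_instance
    infer_instance
  have hsq : Spec.map (CommRingCat.ofHom (Ideal.Quotient.mk J)) ≫ β = α ≫ f := by
    show _ ≫ (_ ≫ _) = (_ ≫ _) ≫ f
    rw [Category.assoc, ← IsAffineOpen.SpecMap_appLE_fromSpec f hV hU e, ← Category.assoc,
      ← Category.assoc, ← Spec.map_comp, ← Spec.map_comp]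
    congr 2
    ext1
    rw [CommRingCat.hom_comp, CommRingCat.hom_comp]
    ext r
    exact (g.commutes r).symm
  obtain ⟨γ, hγ1, hγ2⟩ := H (A' ⧸ J) A' (Ideal.Quotient.mk J) t Ideal.Quotient.mk_surjective
    (by rw [Ideal.mk_ker, hJ]) (fun a ha => by rw [mul_comm]; exact hmt a ha) α β hβ hsq
  -- `γ` factors through `U`
  haveI : IsLocalHom (Ideal.Quotient.mk J) :=
    IsLocalHom.of_surjective (Ideal.Quotient.mk J) Ideal.Quotient.mk_surjective
  have hcp : (Spec.map (CommRingCat.ofHom (Ideal.Quotient.mk J))).base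
      (closedPoint (CommRingCat.of (A' ⧸ J))) = closedPoint (CommRingCat.of A') :=
    IsLocalRing.comap_closedPoint (Ideal.Quotient.mk J)
  have hγc : γ.base (closedPoint (CommRingCat.of A')) ∈ U := by
    have h1 : (Spec.map (CommRingCat.ofHom (Ideal.Quotient.mk J)) ≫ γ).base
        (closedPoint (CommRingCat.of (A' ⧸ J))) = α.base (closedPoint (CommRingCat.of (A' ⧸ J))) := by
      rw [hγ1]
    rw [Scheme.Hom.comp_base] at h1
    change γ.base ((Spec.map (CommRingCat.ofHom (Ideal.Quotient.mk J))).base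
      (closedPoint (CommRingCat.of (A' ⧸ J)))) = _ at h1
    rw [hcp] at h1
    rw [h1]
    have h2 : α.base (closedPoint (CommRingCat.of (A' ⧸ J))) ∈ Set.range hU.fromSpec.base :=
      ⟨(Spec.map (CommRingCat.ofHom g.toRingHom)).base (closedPoint (CommRingCat.of (A' ⧸ J))), rfl⟩
    rw [hU.range_fromSpec] at h2
    exact h2
  obtain ⟨c, hc⟩ := exists_eq_SpecMap_comp_fromSpec (CommRingCat.of A') γ hU hγc
  have hc1 : f.appLE V U e ≫ c = CommRingCat.ofHom (algebraMap Γ(S, V) A') := by
    apply Spec.map_injective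
    haveI : Mono hV.fromSpec := inferInstance
    rw [← cancel_mono hV.fromSpec, Spec.map_comp, Category.assoc,
      IsAffineOpen.SpecMap_appLE_fromSpec f hV hU e, ← Category.assoc, ← hc, hγ2]
  have hc2 : c ≫ CommRingCat.ofHom (Ideal.Quotient.mk J) = CommRingCat.ofHom g.toRingHom := by
    apply Spec.map_injective
    haveI : Mono hU.fromSpec := inferInstance
    rw [← cancel_mono hU.fromSpec, Spec.map_comp, Category.assoc, ← hc, hγ1]
  refine ⟨{ c.hom with commutes' := fun r => ?_ }, ?_⟩
  · have := congrArg (fun h => h.hom r) hc1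
    exact this
  · apply AlgHom.ext
    intro a
    have := congrArg (fun h => h.hom a) hc2
    exact this

end Scheme

end Groth.Agent.Lib.Helper19.SmoothSmallExt
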