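import Mathlib
import Groth.Prelude.Def_LocCohZ
import Groth.Agent.Lib.Helper19SpecC

/-!
# Scheiderer's theorem via pro-opens: the Mayer–Vietoris step, the top-degree surjectivity, induction

(helper19)
-/

set_option autoImplicit false
universe u
open CategoryTheory CategoryTheory.Limits Opposite TopologicalSpace Abelian Topology

namespace Groth.Agent.Lib.Helper19Spec

open Groth.Agent.Lib.Helper23.AffVanish

variable {X : TopCat.{u}} (F : CohTop.Ab X)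

theorem vanishP_of_kl [SpectralSpace X] (D q : ℕ) (hKL : KL F D q) : VanishP F D (q + 1) := by
  intro 𝒱 hCB V hV ξ
  -- `K O`: the class dies on `V' ∩ O` for some member `V'`
  let K : Opens X → Prop := fun O => ∃ V' ∈ 𝒱.S, V' ≤ V ∧
    ∀ (O' : Opens X), O' ≤ V' → O' ≤ O → ∀ h3 : O' ≤ V, resE F (q + 1) h3 ξ = 0
  have K_mono : ∀ O₁ O₂ : Opens X, O₁ ≤ O₂ → K O₂ → K O₁ := by
    rintro O₁ O₂ h ⟨V', hV', hle, hz⟩
    exact ⟨V', hV', hle, fun O' h1 h2 h3 => hz O' h1 (h2.trans h) h3⟩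
  have K_sup : ∀ A B : Opens X, IsCompact (A : Set X) → IsCompact (B : Set X) → K A → K B →
      K (A ⊔ B) := by
    rintro A B hA hB ⟨VA, hVA, hVAle, hzA⟩ ⟨VB, hVB, hVBle, hzB⟩
    have hV₁ : VA ⊓ VB ∈ 𝒱.S := 𝒱.inf_mem VA hVA VB hVB
    have hV₁le : VA ⊓ VB ≤ V := inf_le_left.trans hVAle
    have hle1 : (VA ⊓ VB ⊓ A) ⊔ (VA ⊓ VB ⊓ B) ≤ V := sup_le (inf_le_left.trans hV₁le) (inf_le_left.trans hV₁le)
    obtain ⟨η, hη⟩ := exists_mvδ F (VA ⊓ VB ⊓ A) (VA ⊓ VB ⊓ B) q (resE F (q + 1) hle1 ξ)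
      (by rw [resE_resE]; exact hzA _ (inf_le_left.trans inf_le_left) inf_le_right _)
      (by rw [resE_resE]; exact hzB _ (inf_le_left.trans inf_le_right) inf_le_right _)
    obtain ⟨V₂, hV₂, hV₂le, ζ, hζ⟩ := hKL 𝒱 hCB A B hA hB (VA ⊓ VB) hV₁ η
    refine ⟨V₂, hV₂, hV₂le.trans hV₁le, fun O' h1 h2 h3 => ?_⟩
    have hnat := mvδ_natural F (inf_le_inf_right A hV₂le) (inf_le_inf_right B hV₂le) q η
    rw [← hζ, mvδ_res_left, hη, resE_resE] at hnat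
    have hO' : O' ≤ (V₂ ⊓ A) ⊔ (V₂ ⊓ B) := by
      rw [← inf_sup_left]
      exact le_inf h1 h2
    exact resE_eq_zero_of_le F (q + 1) _ hO' ξ hnat
  -- cover `V`
  have hcov : ∃ O : Opens X, IsCompact (O : Set X) ∧ (V : Set X) ⊆ O ∧ K O := by
    refine (𝒱.qc V hV).induction_on
      (p := fun S => ∃ O : Opens X, IsCompact (O : Set X) ∧ S ⊆ O ∧ K O) ?_ ?_ ?_ ?_
    · refine ⟨⊥, by simp, by simp, V, hV, le_rfl, fun O' _ h2 h3 => ?_⟩
      have := subsingleton_HE_of_eq_bot F (q + 1) (le_bot_iff.1 h2)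
      exact Subsingleton.elim _ _
    · rintro s t hst ⟨O, hO, htO, hK⟩
      exact ⟨O, hO, hst.trans htO, hK⟩
    · rintro s t ⟨O, hO, hsO, hK⟩ ⟨O', hO', htO', hK'⟩
      refine ⟨O ⊔ O', ?_, ?_, K_sup O O' hO hO' hK hK'⟩
      · rw [Opens.coe_sup]
        exact hO.union hO'
      · rw [Opens.coe_sup]
        exact Set.union_subset_union hsO htO'
    · intro x hx
      obtain ⟨O₀, hO₀, hxO₀, hz⟩ := exists_res_eq_zero q F V ξ x hx
      obtain ⟨N, ⟨hNo, hNc⟩, hxN, hNsub⟩ :=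
        PrespectralSpace.isTopologicalBasis.exists_subset_of_mem_open hxO₀ O₀.isOpen
      refine ⟨N, mem_nhdsWithin_of_mem_nhds (hNo.mem_nhds hxN), ⟨N, hNo⟩, hNc, subset_rfl, V, hV,
        le_rfl, fun O' _ h2 h3 => ?_⟩
      have hO' : O' ≤ O₀ := h2.trans hNsub
      exact resE_eq_zero_of_le F (q + 1) hO₀ hO' ξ hz
  obtain ⟨O, -, hVO, V', hV', hle, hz⟩ := hcov
  exact ⟨V', hV', hle, hz V' le_rfl (hle.trans hVO) hle⟩

theorem surjQ_of_vanishP [SpectralSpace X] (D : ℕ) (hP : VanishP F D D) : SurjQ F D := by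
  intro 𝒱 hCB U hU V hV ξ
  have hW₀ : (V ⊓ ⊤) ⊓ U ∈ (𝒱.nbhd U hU).S :=
    ⟨V, hV, ⊤, isCompact_univ, fun _ _ _ => trivial, rfl⟩
  have hle0 : (V ⊓ ⊤) ⊓ U ≤ V ⊓ U := inf_le_inf_right U inf_le_left
  obtain ⟨_, ⟨V', hV', N, hN, hTN, rfl⟩, h, hz⟩ := hP (𝒱.nbhd U hU) (cb_nbhd 𝒱 D hCB U hU V hV)
    _ hW₀ (resE F D hle0 ξ)
  rw [resE_resE] at hz
  -- the two opens to glue over
  have hV₁ : V ⊓ V' ∈ 𝒱.S := 𝒱.inf_mem V hV V' hV'
  have hleA : V ⊓ V' ⊓ U ≤ V ⊓ U := inf_le_inf_right U inf_le_left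
  have hAB : (V ⊓ V' ⊓ U) ⊓ (V ⊓ V' ⊓ N) ≤ (V' ⊓ N) ⊓ U :=
    le_inf (le_inf (inf_le_left.trans (inf_le_left.trans inf_le_right)) (inf_le_right.trans inf_le_right))
      (inf_le_left.trans inf_le_right)
  obtain ⟨ζ₁, hζ₁, -⟩ := glue F (V ⊓ V' ⊓ U) (V ⊓ V' ⊓ N) D (resE F D hleA ξ) 0 (by
    rw [map_zero, resE_resE]
    exact resE_eq_zero_of_le F D _ hAB ξ hz)
  -- a member inside `U ∪ N`
  obtain ⟨V₂, hV₂, hV₂UN⟩ := exists_disjoint_of_iInter 𝒱.S ⟨V, hV⟩ 𝒱.qc 𝒱.inf_mem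
    (((U ⊔ N : Opens X) : Set X)ᶜ) (U ⊔ N).isOpen.isClosed_compl
    (fun x hx hC => hC (by
      by_cases hxU : x ∈ U
      · exact Or.inl hxU
      · exact Or.inr (hTN x hx hxU)))
  have hV₂le : V₂ ≤ U ⊔ N := fun x hx => by
    by_contra hC
    exact hV₂UN x hx hC
  have hV₃ : V ⊓ V' ⊓ V₂ ∈ 𝒱.S := 𝒱.inf_mem _ hV₁ V₂ hV₂
  have hV₃le : V ⊓ V' ⊓ V₂ ≤ (V ⊓ V' ⊓ U) ⊔ (V ⊓ V' ⊓ N) := by
    rw [← inf_sup_left]
    exact inf_le_inf_left _ hV₂le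
  refine ⟨V ⊓ V' ⊓ V₂, hV₃, inf_le_left.trans inf_le_left, resE F D hV₃le ζ₁, ?_⟩
  have hle3 : V ⊓ V' ⊓ V₂ ⊓ U ≤ V ⊓ V' ⊓ U := inf_le_inf_right U inf_le_left
  have h1 := congrArg (resE F D hle3) hζ₁
  rw [resE_resE, resE_resE] at h1
  rw [resE_resE]
  exact h1

/-- **Scheiderer**: vanishing above the chain bound and surjectivity in the top degree, for all
pro-opens of a spectral space. -/
theorem main [SpectralSpace X] : ∀ D : ℕ, (∀ p, D ≤ p → VanishP F D p) ∧ SurjQ F D := by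
  intro D
  induction D with
  | zero =>
    exact ⟨fun p _ => vanishP_zero F p, surjQ_of_vanishP F 0 (vanishP_zero F 0)⟩
  | succ D ih =>
    have hA : ∀ p, D + 1 ≤ p → VanishP F (D + 1) p := by
      intro p hp
      induction p with
      | zero => omega
      | succ p ihp =>
        apply vanishP_of_kl
        rcases Nat.eq_or_lt_of_le hp with h | h
        · have : p = D := by omega
          subst this
          exact kl_of_surjQ F p ih.2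
        · exact kl_of_vanishP F (D + 1) p (ihp (by omega))
    exact ⟨hA, surjQ_of_vanishP F (D + 1) (hA (D + 1) le_rfl)⟩

end Groth.Agent.Lib.Helper19Spec
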