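import Mathlib

/-!
# Spreading out square-root covers (helper19), part A: the square-root algebra and localization
-/

set_option autoImplicit false
universe u v

open MvPolynomial

namespace Groth.Agent.Lib.Helper19SpreadQ

/-- a quotient of a localization is the localization of the quotient -/
theorem isLocalization_quotient {R S : Type*} [CommRing R] [CommRing S] [Algebra R S]
    (M : Submonoid R) [IsLocalization M S] (I : Ideal R) (J : Ideal S)
    (hJ : J = I.map (algebraMap R S)) [Algebra (R ⧸ I) (S ⧸ J)]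
    (halg : ∀ x : R, algebraMap (R ⧸ I) (S ⧸ J) (Ideal.Quotient.mk I x) =
      Ideal.Quotient.mk J (algebraMap R S x)) :
    IsLocalization (M.map (Ideal.Quotient.mk I)) (S ⧸ J) := by
  rw [isLocalization_iff]
  refine ⟨?_, ?_, ?_⟩
  · rintro ⟨_, m, hm, rfl⟩
    rw [halg]
    exact (IsLocalization.map_units S ⟨m, hm⟩).map (Ideal.Quotient.mk J)
  · intro z
    obtain ⟨s, rfl⟩ := Ideal.Quotient.mk_surjective z
    obtain ⟨⟨r, m⟩, hrm⟩ := IsLocalization.surj M s
    refine ⟨(Ideal.Quotient.mk I r, ⟨Ideal.Quotient.mk I m, m, m.2, rfl⟩), ?_⟩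
    rw [halg, halg, ← map_mul]
    exact congrArg _ hrm
  · intro x y hxy
    obtain ⟨a, rfl⟩ := Ideal.Quotient.mk_surjective x
    obtain ⟨b, rfl⟩ := Ideal.Quotient.mk_surjective y
    rw [halg, halg, Ideal.Quotient.eq, ← map_sub, hJ,
      IsLocalization.mem_map_algebraMap_iff M S] at hxy
    obtain ⟨⟨i, m⟩, him⟩ := hxy
    rw [← map_mul] at him
    obtain ⟨c, hc⟩ := IsLocalization.exists_of_eq (M := M) him
    refine ⟨⟨Ideal.Quotient.mk I (c * m), c * m, (c * m).2, rfl⟩, ?_⟩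
    change Ideal.Quotient.mk I (c * m) * Ideal.Quotient.mk I a =
      Ideal.Quotient.mk I (c * m) * Ideal.Quotient.mk I b
    rw [← map_mul, ← map_mul, Ideal.Quotient.eq]
    have : (↑c * ↑m : R) * a - ↑c * ↑m * b = c * (i : R) := by
      have h2 : (c : R) * ((a - b) * m) = c * (i : R) := hc
      rw [← h2]; ring
    rw [this]
    exact Ideal.mul_mem_left _ _ i.2

section QQ

variable (B' : Type u) [CommRing B'] {l : ℕ} (σ : Fin l → B'ˣ)

/-- the ideal of the square-root algebra -/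
noncomputable abbrev QI : Ideal (MvPolynomial (Fin l) B') :=
  Ideal.span (Set.range fun k : Fin l =>
    (MvPolynomial.X k ^ 2 - MvPolynomial.C (σ k : B') : MvPolynomial (Fin l) B'))

/-- the square-root algebra `B'[X_k]/(X_k^2 - σ_k)` -/
abbrev QQ : Type u := MvPolynomial (Fin l) B' ⧸ QI B' σ

end QQ

section Map

variable {B : Type u} [CommRing B] {B₁ B₂ : Type u} [CommRing B₁] [CommRing B₂] [Algebra B B₁]
  [Algebra B B₂] (ψ : B₁ →ₐ[B] B₂) {l : ℕ} (σ₁ : Fin l → B₁ˣ)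

/-- the image units -/
noncomputable def mapUnits : Fin l → B₂ˣ := fun k => Units.map ψ.toRingHom.toMonoidHom (σ₁ k)

@[simp] theorem mapUnits_coe (k : Fin l) : ((mapUnits ψ σ₁ k : B₂ˣ) : B₂) = ψ (σ₁ k) := rfl

theorem QI_map : (QI B₁ σ₁).map (MvPolynomial.mapAlgHom ψ : MvPolynomial (Fin l) B₁ →ₐ[B] _) =
    QI B₂ (mapUnits ψ σ₁) := by
  rw [QI, Ideal.map_span, ← Set.range_comp]
  congr 2
  funext k
  simp only [Function.comp_apply, map_sub, map_pow, MvPolynomial.mapAlgHom_apply, MvPolynomial.map_X,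
    MvPolynomial.map_C, mapUnits_coe]
  rfl

theorem QI_le_comap : QI B₁ σ₁ ≤ (QI B₂ (mapUnits ψ σ₁)).comap
    (MvPolynomial.mapAlgHom ψ : MvPolynomial (Fin l) B₁ →ₐ[B] _) := by
  rw [← Ideal.map_le_iff_le_comap, QI_map]

/-- the induced map of square-root algebras -/
noncomputable def qmap : QQ B₁ σ₁ →ₐ[B] QQ B₂ (mapUnits ψ σ₁) :=
  Ideal.quotientMapₐ (QI B₂ (mapUnits ψ σ₁)) (MvPolynomial.mapAlgHom ψ) (QI_le_comap ψ σ₁)

theorem qmap_mk (F : MvPolynomial (Fin l) B₁) :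
    qmap ψ σ₁ (Ideal.Quotient.mk _ F) = Ideal.Quotient.mk _ (MvPolynomial.map ψ.toRingHom F) := rfl

theorem qmap_algebraMap (x : B₁) :
    qmap ψ σ₁ (algebraMap B₁ (QQ B₁ σ₁) x) = algebraMap B₂ (QQ B₂ (mapUnits ψ σ₁)) (ψ x) := by
  change qmap ψ σ₁ (Ideal.Quotient.mk _ (MvPolynomial.C x)) = Ideal.Quotient.mk _ (MvPolynomial.C (ψ x))
  rw [qmap_mk, MvPolynomial.map_C]
  rfl

end Map

end Groth.Agent.Lib.Helper19SpreadQ
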