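import Mathlib
import Groth.Agent.Lib.Helper19SpreadQA

/-!
# Spreading out square-root covers (helper19), part B: the square-root algebra over a localization
-/

set_option autoImplicit false
universe u v

open MvPolynomial

namespace Groth.Agent.Lib.Helper19SpreadQ

section KC

variable {B : Type u} [CommRing B] {B₁ B₂ : Type u} [CommRing B₁] [CommRing B₂] [Algebra B B₁]
  [Algebra B B₂] (ψ : B₁ →ₐ[B] B₂) {l : ℕ} (σ₁ : Fin l → B₁ˣ)

attribute [local instance] MvPolynomial.algebraMvPolynomial in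
/-- the square-root algebra over a localization is the localization of the square-root algebra -/
theorem KC (M : Submonoid B₁) (hloc : @IsLocalization B₁ _ M B₂ _ ψ.toRingHom.toAlgebra) :
    @IsLocalization (QQ B₁ σ₁) _ (M.map (algebraMap B₁ (QQ B₁ σ₁))) (QQ B₂ (mapUnits ψ σ₁)) _
      (qmap ψ σ₁).toRingHom.toAlgebra := by
  letI : Algebra B₁ B₂ := ψ.toRingHom.toAlgebra
  haveI := hloc
  haveI hPloc : IsLocalization (M.map (MvPolynomial.C (σ := Fin l)))
      (MvPolynomial (Fin l) B₂) := MvPolynomial.isLocalization M B₂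
  letI : Algebra (QQ B₁ σ₁) (QQ B₂ (mapUnits ψ σ₁)) := (qmap ψ σ₁).toRingHom.toAlgebra
  have hJ : QI B₂ (mapUnits ψ σ₁) = (QI B₁ σ₁).map
      (algebraMap (MvPolynomial (Fin l) B₁) (MvPolynomial (Fin l) B₂)) := by
    rw [← QI_map ψ σ₁]
    rfl
  have halg : ∀ x : MvPolynomial (Fin l) B₁,
      algebraMap (QQ B₁ σ₁) (QQ B₂ (mapUnits ψ σ₁)) (Ideal.Quotient.mk (QI B₁ σ₁) x) =
        Ideal.Quotient.mk (QI B₂ (mapUnits ψ σ₁))
          (algebraMap (MvPolynomial (Fin l) B₁) (MvPolynomial (Fin l) B₂) x) := fun x => rfl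
  have key := isLocalization_quotient (M.map (MvPolynomial.C (σ := Fin l))) (QI B₁ σ₁)
    (QI B₂ (mapUnits ψ σ₁)) hJ halg
  have hM : (M.map (MvPolynomial.C (σ := Fin l))).map (Ideal.Quotient.mk (QI B₁ σ₁)) =
      M.map (algebraMap B₁ (QQ B₁ σ₁)) := by
    ext x
    constructor
    · rintro ⟨_, ⟨m, hm, rfl⟩, rfl⟩
      exact ⟨m, hm, rfl⟩
    · rintro ⟨m, hm, rfl⟩
      exact ⟨MvPolynomial.C m, ⟨m, hm, rfl⟩, rfl⟩
  rw [← hM]
  exact key

end KC

end Groth.Agent.Lib.Helper19SpreadQ
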