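import Mathlib
import Groth.Agent.Lib.Helper19SpreadQB

/-!
# Spreading out square-root covers (helper19), part C: localizing at an element and tensoring
-/

set_option autoImplicit false
universe u v

open TensorProduct

namespace Groth.Agent.Lib.Helper19SpreadQ

section Theta

variable {B : Type u} [CommRing B]
  {Q₁ Q₂ : Type u} [CommRing Q₁] [CommRing Q₂] [Algebra B Q₁] [Algebra B Q₂] (qm : Q₁ →ₐ[B] Q₂)
  (q : Q₁)
  (C : Type u) [CommRing C] [Algebra B C] [Algebra Q₂ C] [IsScalarTower B Q₂ C]

/-- the comparison map from the localization of `Q₁` at `q` -/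
noncomputable def theta (hunit : IsUnit (algebraMap Q₂ C (qm q))) : Localization.Away q →ₐ[B] C :=
  { IsLocalization.Away.lift q (g := (algebraMap Q₂ C).comp qm.toRingHom) hunit with
    commutes' := by
      intro b
      change IsLocalization.Away.lift q (g := (algebraMap Q₂ C).comp qm.toRingHom) hunit
        (algebraMap B (Localization.Away q) b) = algebraMap B C b
      rw [IsScalarTower.algebraMap_apply B Q₁ (Localization.Away q), IsLocalization.Away.lift_eq]
      change algebraMap Q₂ C (qm (algebraMap B Q₁ b)) = _
      rw [AlgHom.commutes, ← IsScalarTower.algebraMap_apply] }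

theorem theta_algebraMap (hunit : IsUnit (algebraMap Q₂ C (qm q))) (x : Q₁) :
    theta qm q C hunit (algebraMap Q₁ (Localization.Away q) x) = algebraMap Q₂ C (qm x) :=
  IsLocalization.Away.lift_eq q hunit x

variable (M : Submonoid B)

/-- `C` is the localization of `Q₁[1/q]` at `M` -/
theorem isLocalizedModule_theta
    (hQ : @IsLocalization Q₁ _ (M.map (algebraMap B Q₁)) Q₂ _ qm.toRingHom.toAlgebra)
    (f : Q₂) (hassoc : Associated (qm q) f) [IsLocalization.Away f C]
    (hunit : IsUnit (algebraMap Q₂ C (qm q))) :
    IsLocalizedModule M (theta qm q C hunit).toLinearMap := by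
  letI algQ : Algebra Q₁ Q₂ := qm.toRingHom.toAlgebra
  haveI := hQ
  letI algQC : Algebra Q₁ C := ((algebraMap Q₂ C).comp qm.toRingHom).toAlgebra
  haveI : IsScalarTower Q₁ Q₂ C := IsScalarTower.of_algebraMap_eq (fun _ => rfl)
  letI algWC : Algebra (Localization.Away q) C := (theta qm q C hunit).toRingHom.toAlgebra
  haveI : IsScalarTower Q₁ (Localization.Away q) C := IsScalarTower.of_algebraMap_eq (fun x =>
    (theta_algebraMap qm q C hunit x).symm)
  haveI : IsScalarTower B (Localization.Away q) C := IsScalarTower.of_algebraMap_eq (fun b =>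
    ((theta qm q C hunit).commutes b).symm)
  haveI h3 : IsLocalization (Algebra.algebraMapSubmonoid Q₂ (Submonoid.powers q)) C := by
    have e : Algebra.algebraMapSubmonoid Q₂ (Submonoid.powers q) = Submonoid.powers (qm q) := by
      change Submonoid.map (algebraMap Q₁ Q₂) (Submonoid.powers q) = _
      rw [Submonoid.map_powers]
      rfl
    rw [e]
    exact IsLocalization.Away.of_associated hassoc.symm
  have h4 := IsLocalization.commutes (R := Q₁) (Localization.Away q) Q₂ C (Submonoid.powers q)
    (M.map (algebraMap B Q₁))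
  have e2 : Algebra.algebraMapSubmonoid (Localization.Away q) (M.map (algebraMap B Q₁)) =
      Algebra.algebraMapSubmonoid (Localization.Away q) M := by
    ext x
    constructor
    · rintro ⟨_, ⟨m, hm, rfl⟩, rfl⟩
      exact ⟨m, hm, by rw [IsScalarTower.algebraMap_apply B Q₁ (Localization.Away q)]⟩
    · rintro ⟨m, hm, rfl⟩
      exact ⟨algebraMap B Q₁ m, ⟨m, hm, rfl⟩,
        by rw [IsScalarTower.algebraMap_apply B Q₁ (Localization.Away q)]⟩
  rw [e2] at h4
  have h5 := (isLocalizedModule_iff_isLocalization (S := M) (A := Localization.Away q)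
    (Aₛ := C)).mpr h4
  have e3 : (IsScalarTower.toAlgHom B (Localization.Away q) C) = theta qm q C hunit := by
    ext x
    rfl
  rw [e3] at h5
  exact h5

end Theta

end Groth.Agent.Lib.Helper19SpreadQ
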