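import Mathlib
import Groth.Agent.Lib.Helper19SpreadQC

/-!
# Spreading out square-root covers (helper19), part D: tensoring with `A` and hermitian congruence
-/

set_option autoImplicit false
universe u v

open TensorProduct

namespace Groth.Agent.Lib.Helper19SpreadQ

section Tensor

variable {B : Type u} [CommRing B] (M : Submonoid B) {W C : Type u} [CommRing W] [CommRing C]
  [Algebra B W] [Algebra B C] (θ : W →ₐ[B] C) (A : Type v) [CommRing A] [Algebra B A]

/-- the induced map on tensor products with `A` -/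
noncomputable abbrev Th : W ⊗[B] A →ₐ[B] C ⊗[B] A := Algebra.TensorProduct.map θ (AlgHom.id B A)

theorem isLocalizedModule_Th [hθ : IsLocalizedModule M θ.toLinearMap] :
    IsLocalizedModule M (Th θ A).toLinearMap := by
  have h := IsLocalizedModule.rTensor (R := B) (A := B) M (N := A) θ.toLinearMap
  have e : (Th θ A).toLinearMap = TensorProduct.AlgebraTensorModule.rTensor B A θ.toLinearMap := by
    apply TensorProduct.ext'
    intro x y
    rfl
  rw [e]
  exact h

variable {A}

theorem exists_common_surj [IsLocalizedModule M θ.toLinearMap] {ι : Type*} [Finite ι]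
    (y : ι → C ⊗[B] A) :
    ∃ m ∈ M, ∃ w : ι → W ⊗[B] A, ∀ i, Th θ A (w i) = m • y i := by
  haveI := isLocalizedModule_Th M θ A
  obtain ⟨b, hb⟩ := IsLocalizedModule.exist_integer_multiples_of_finite M (Th θ A).toLinearMap y
  choose w hw using hb
  exact ⟨b.1, b.2, w, hw⟩

theorem exists_common_eq [IsLocalizedModule M θ.toLinearMap] {ι : Type*} [Finite ι]
    (w₁ w₂ : ι → W ⊗[B] A) (h : ∀ i, Th θ A (w₁ i) = Th θ A (w₂ i)) :
    ∃ m ∈ M, ∀ i, m • w₁ i = m • w₂ i := by
  classical
  haveI := isLocalizedModule_Th M θ A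
  cases nonempty_fintype ι
  have h' : ∀ i, ∃ c : M, c • w₁ i = c • w₂ i := fun i =>
    IsLocalizedModule.exists_of_eq (S := M) (f := (Th θ A).toLinearMap) (h i)
  choose c hc using h'
  refine ⟨∏ i, (c i : B), ?_, fun i => ?_⟩
  · exact Submonoid.prod_mem M (fun i _ => (c i).2)
  · rw [← Finset.mul_prod_erase Finset.univ (fun i => (c i : B)) (Finset.mem_univ i), mul_comm,
      mul_smul, mul_smul]
    congr 1
    exact hc i

end Tensor

section Herm

variable {B : Type u} [CommRing B] {A : Type v} [CommRing A] [Algebra B A] (lam : A ≃ₐ[B] A)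
  {n : ℕ} (h : Matrix (Fin n) (Fin n) A)

/-- the twisted-hermitian congruence expression `(lam V)ᵀ h V` over `X ⊗ A` -/
noncomputable def EE (X : Type u) [CommRing X] [Algebra B X]
    (V : Matrix (Fin n) (Fin n) (X ⊗[B] A)) : Matrix (Fin n) (Fin n) (X ⊗[B] A) :=
  (V.map (Algebra.TensorProduct.congr (AlgEquiv.refl : X ≃ₐ[X] X) lam)).transpose *
    h.map (Algebra.TensorProduct.includeRight : A →ₐ[B] X ⊗[B] A) * V

variable {X Y : Type u} [CommRing X] [CommRing Y] [Algebra B X] [Algebra B Y] (θ : X →ₐ[B] Y)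

theorem Th_congr (x : X ⊗[B] A) :
    Th θ A (Algebra.TensorProduct.congr (AlgEquiv.refl : X ≃ₐ[X] X) lam x) =
      Algebra.TensorProduct.congr (AlgEquiv.refl : Y ≃ₐ[Y] Y) lam (Th θ A x) := by
  induction x using TensorProduct.induction_on with
  | zero => simp
  | tmul a b => simp
  | add a b ha hb => rw [map_add, map_add, ha, hb, map_add, map_add]

theorem Th_includeRight (a : A) :
    Th θ A ((Algebra.TensorProduct.includeRight : A →ₐ[B] X ⊗[B] A) a) =
      (Algebra.TensorProduct.includeRight : A →ₐ[B] Y ⊗[B] A) a := by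
  simp

theorem EE_map (V : Matrix (Fin n) (Fin n) (X ⊗[B] A)) :
    (EE lam h X V).map (Th θ A) = EE lam h Y (V.map (Th θ A)) := by
  unfold EE
  have e1 : ∀ (P Q : Matrix (Fin n) (Fin n) (X ⊗[B] A)),
      (P * Q).map (Th θ A) = P.map (Th θ A) * Q.map (Th θ A) := fun P Q =>
    Matrix.map_mul (f := (Th θ A).toRingHom)
  have f1 : (⇑(Th θ A) ∘ ⇑(Algebra.TensorProduct.congr (AlgEquiv.refl : X ≃ₐ[X] X) lam)) =
      (⇑(Algebra.TensorProduct.congr (AlgEquiv.refl : Y ≃ₐ[Y] Y) lam) ∘ ⇑(Th θ A)) :=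
    funext (Th_congr lam θ)
  have f2 : (⇑(Th θ A) ∘ ⇑(Algebra.TensorProduct.includeRight : A →ₐ[B] X ⊗[B] A)) =
      ⇑(Algebra.TensorProduct.includeRight : A →ₐ[B] Y ⊗[B] A) :=
    funext (Th_includeRight θ)
  rw [e1, e1, Matrix.transpose_map, Matrix.map_map, Matrix.map_map, Matrix.map_map, f1, f2]

theorem map_includeRight_map (h' : Matrix (Fin n) (Fin n) A) :
    (h'.map (Algebra.TensorProduct.includeRight : A →ₐ[B] X ⊗[B] A)).map (Th θ A) =
      h'.map (Algebra.TensorProduct.includeRight : A →ₐ[B] Y ⊗[B] A) := by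
  have f2 : (⇑(Th θ A) ∘ ⇑(Algebra.TensorProduct.includeRight : A →ₐ[B] X ⊗[B] A)) =
      ⇑(Algebra.TensorProduct.includeRight : A →ₐ[B] Y ⊗[B] A) :=
    funext (Th_includeRight θ)
  rw [Matrix.map_map, f2]

theorem congr_smul (b : B) (x : X ⊗[B] A) :
    Algebra.TensorProduct.congr (AlgEquiv.refl : X ≃ₐ[X] X) lam (b • x) =
      b • Algebra.TensorProduct.congr (AlgEquiv.refl : X ≃ₐ[X] X) lam x := by
  rw [← algebraMap_smul X b x, map_smul, algebraMap_smul]

theorem EE_smul (b : B) (V : Matrix (Fin n) (Fin n) (X ⊗[B] A)) :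
    EE lam h X (b • V) = (b * b) • EE lam h X V := by
  unfold EE
  have e1 : (b • V).map (Algebra.TensorProduct.congr (AlgEquiv.refl : X ≃ₐ[X] X) lam) =
      b • V.map (Algebra.TensorProduct.congr (AlgEquiv.refl : X ≃ₐ[X] X) lam) := by
    ext i j
    simp only [Matrix.map_apply, Matrix.smul_apply]
    exact congr_smul lam b _
  rw [e1, Matrix.transpose_smul, Matrix.smul_mul, Matrix.smul_mul, Matrix.mul_smul, smul_smul]

end Herm

end Groth.Agent.Lib.Helper19SpreadQ
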