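import Mathlib
import Groth.Agent.Lib.Helper19SpreadQD

/-!
# Spreading out square-root covers (helper19), part E: descending and re-ascending a congruence
-/

set_option autoImplicit false
universe u v

open TensorProduct

namespace Groth.Agent.Lib.Helper19SpreadQ

section Down

variable {B : Type u} [CommRing B] (M : Submonoid B) {A : Type v} [CommRing A] [Algebra B A]
  (lam : A ≃ₐ[B] A) {n : ℕ} (h h' : Matrix (Fin n) (Fin n) A)
  {W C : Type u} [CommRing W] [CommRing C] [Algebra B W] [Algebra B C] (θ : W →ₐ[B] C)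

theorem map_smul_matrix (b : B) (N : Matrix (Fin n) (Fin n) (W ⊗[B] A)) :
    (b • N).map (Th θ A) = b • N.map (Th θ A) := by
  ext i j
  simp only [Matrix.map_apply, Matrix.smul_apply, map_smul]

/-- a congruence over the localization comes from a congruence up to denominators -/
theorem descend [IsLocalizedModule M θ.toLinearMap] (v : Matrix (Fin n) (Fin n) (C ⊗[B] A))
    (hv : EE lam h C v = h'.map (Algebra.TensorProduct.includeRight : A →ₐ[B] C ⊗[B] A)) :
    ∃ m ∈ M, ∃ m' ∈ M, ∃ V : Matrix (Fin n) (Fin n) (W ⊗[B] A),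
      m' • EE lam h W V =
        m' • ((m * m) • h'.map (Algebra.TensorProduct.includeRight : A →ₐ[B] W ⊗[B] A)) := by
  obtain ⟨m, hm, w, hw⟩ := exists_common_surj M θ (fun jk : Fin n × Fin n => v jk.1 jk.2)
  set V : Matrix (Fin n) (Fin n) (W ⊗[B] A) := Matrix.of fun j k => w (j, k) with hV
  have hVmap : V.map (Th θ A) = m • v := by
    ext j k
    simp only [Matrix.map_apply, Matrix.smul_apply, hV, Matrix.of_apply]
    exact hw (j, k)
  have h1 : (EE lam h W V).map (Th θ A) =
      ((m * m) • h'.map (Algebra.TensorProduct.includeRight : A →ₐ[B] W ⊗[B] A)).map (Th θ A) := by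
    rw [EE_map, hVmap, EE_smul, hv, map_smul_matrix, map_includeRight_map]
  obtain ⟨m', hm', hm'eq⟩ := exists_common_eq M θ
    (fun jk : Fin n × Fin n => EE lam h W V jk.1 jk.2)
    (fun jk : Fin n × Fin n =>
      ((m * m) • h'.map (Algebra.TensorProduct.includeRight : A →ₐ[B] W ⊗[B] A)) jk.1 jk.2)
    (fun jk => by
      have := congrFun (congrFun h1 jk.1) jk.2
      simpa only [Matrix.map_apply] using this)
  refine ⟨m, hm, m', hm', V, ?_⟩
  ext j k
  simp only [Matrix.smul_apply]
  exact hm'eq (j, k)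

end Down

section Up

variable {B : Type u} [CommRing B] {A : Type v} [CommRing A] [Algebra B A]
  (lam : A ≃ₐ[B] A) {n : ℕ} (h h' : Matrix (Fin n) (Fin n) A)
  {W C : Type u} [CommRing W] [CommRing C] [Algebra B W] [Algebra B C]

theorem EE_smul' (c : C) (V : Matrix (Fin n) (Fin n) (C ⊗[B] A)) :
    EE lam h C (c • V) = (c * c) • EE lam h C V := by
  unfold EE
  have e1 : (c • V).map (Algebra.TensorProduct.congr (AlgEquiv.refl : C ≃ₐ[C] C) lam) =
      c • V.map (Algebra.TensorProduct.congr (AlgEquiv.refl : C ≃ₐ[C] C) lam) := by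
    ext i j
    simp only [Matrix.map_apply, Matrix.smul_apply, map_smul]
  rw [e1, Matrix.transpose_smul, Matrix.smul_mul, Matrix.smul_mul, Matrix.mul_smul, smul_smul]

/-- re-ascending: a congruence up to denominators that become units gives a congruence -/
theorem ascend (θ : W →ₐ[B] C) (m m' : B) (hm : IsUnit (algebraMap B C m)) (hm' : IsUnit (algebraMap B C m'))
    (hh' : IsUnit h')
    (V : Matrix (Fin n) (Fin n) (W ⊗[B] A))
    (hV : m' • EE lam h W V =
        m' • ((m * m) • h'.map (Algebra.TensorProduct.includeRight : A →ₐ[B] W ⊗[B] A))) :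
    ∃ v : Matrix (Fin n) (Fin n) (C ⊗[B] A), IsUnit v ∧
      EE lam h C v = h'.map (Algebra.TensorProduct.includeRight : A →ₐ[B] C ⊗[B] A) := by
  obtain ⟨μ, hμ⟩ := hm
  obtain ⟨μ', hμ'⟩ := hm'
  set U := V.map (Th θ A) with hU
  have h1 : m' • EE lam h C U =
      m' • ((m * m) • h'.map (Algebra.TensorProduct.includeRight : A →ₐ[B] C ⊗[B] A)) := by
    have := congrArg (fun N => N.map (Th θ A)) hV
    simp only [map_smul_matrix, EE_map, map_includeRight_map] at this
    exact this
  have h2 : EE lam h C U =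
      (m * m) • h'.map (Algebra.TensorProduct.includeRight : A →ₐ[B] C ⊗[B] A) := by
    have := congrArg (fun N => ((μ'⁻¹ : Cˣ) : C) • N) h1
    beta_reduce at this
    rw [← algebraMap_smul C m' (EE lam h C U), ← algebraMap_smul C m'
      ((m * m) • h'.map (Algebra.TensorProduct.includeRight : A →ₐ[B] C ⊗[B] A)), ← hμ',
      smul_smul, smul_smul, Units.inv_mul, one_smul, one_smul] at this
    exact this
  refine ⟨((μ⁻¹ : Cˣ) : C) • U, ?_, ?_⟩
  · have hE : EE lam h C (((μ⁻¹ : Cˣ) : C) • U) =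
        h'.map (Algebra.TensorProduct.includeRight : A →ₐ[B] C ⊗[B] A) := by
      rw [EE_smul', h2, ← algebraMap_smul C (m * m), map_mul, ← hμ, smul_smul]
      have : ((μ⁻¹ : Cˣ) : C) * ((μ⁻¹ : Cˣ) : C) * ((μ : C) * (μ : C)) = 1 := by
        rw [mul_mul_mul_comm, Units.inv_mul, one_mul]
      rw [this, one_smul]
    have hunit : IsUnit (h'.map (Algebra.TensorProduct.includeRight : A →ₐ[B] C ⊗[B] A)) := by
      have := hh'.map (RingHom.mapMatrix
        (Algebra.TensorProduct.includeRight : A →ₐ[B] C ⊗[B] A).toRingHom :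
          Matrix (Fin n) (Fin n) A →+* Matrix (Fin n) (Fin n) (C ⊗[B] A))
      exact this
    obtain ⟨g, hg⟩ := hunit
    unfold EE at hE
    have hleft : ((g⁻¹ : (Matrix (Fin n) (Fin n) (C ⊗[B] A))ˣ) : Matrix (Fin n) (Fin n) (C ⊗[B] A)) *
        ((((μ⁻¹ : Cˣ) : C) • U).map
          (Algebra.TensorProduct.congr (AlgEquiv.refl : C ≃ₐ[C] C) lam)).transpose *
        h.map (Algebra.TensorProduct.includeRight : A →ₐ[B] C ⊗[B] A) *
        (((μ⁻¹ : Cˣ) : C) • U) = 1 := by
      rw [mul_assoc, mul_assoc, ← mul_assoc _ _ (((μ⁻¹ : Cˣ) : C) • U), hE, ← hg, Units.inv_mul]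
    exact (Matrix.isUnit_iff_isUnit_det _).mpr (Matrix.isUnit_det_of_left_inverse
      (by rw [← hleft]))
  · rw [EE_smul', h2, ← algebraMap_smul C (m * m), map_mul, ← hμ, smul_smul]
    have : ((μ⁻¹ : Cˣ) : C) * ((μ⁻¹ : Cˣ) : C) * ((μ : C) * (μ : C)) = 1 := by
      rw [mul_mul_mul_comm, Units.inv_mul, one_mul]
    rw [this, one_smul]

end Up

end Groth.Agent.Lib.Helper19SpreadQ
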