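import Groth.Agent.Lib.Helper19FSAdicLift
import Groth.Agent.Lib.Helper19PBasisDer

/-!
# Lifting and extending derivations for adically formally smooth algebras (helper19)

The core lemma: for `B` formally smooth over `A` for the `J`-adic topology, a ring `C` receiving `B`
and killing a power of `J`, a surjection `g : X → Y` of `C`-modules, a "derivation" `δY : B → Y` and a
"derivation" `δA : A → X` with `g ∘ δA = δY ∘ algebraMap`, there is a "derivation" `δX : B → X`
lifting `δY` and extending `δA`.
-/

set_option autoImplicit false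
set_option linter.style.haveILetI false
universe u

namespace Groth.Agent.Lib.Helper19.SqZeroDer

open TrivSqZeroExt

section derHom

variable {C : Type u} [CommRing C] {X : Type u} [AddCommGroup X] [Module C X]
  [Module Cᵐᵒᵖ X] [IsCentralScalar C X]

/-- the ring homomorphism `R → C ⊕ X`, `a ↦ (f a, δ a)` attached to a ring homomorphism `f` and an
`f`-derivation `δ` -/
noncomputable def derHom {R : Type*} [CommRing R] (f : R →+* C) (δ : R → X)
    (hadd : ∀ a b, δ (a + b) = δ a + δ b)
    (hmul : ∀ a b, δ (a * b) = f a • δ b + f b • δ a) : R →+* TrivSqZeroExt C X where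
  toFun a := inl (f a) + inr (δ a)
  map_one' := by
    have h1 : δ 1 = 0 := by
      have := hmul 1 1
      rw [mul_one, map_one, one_smul] at this
      exact left_eq_add.mp this
    rw [map_one, h1, inr_zero, add_zero, inl_one]
  map_zero' := by
    have h0 : δ 0 = 0 := by
      have := hadd 0 0
      rw [add_zero] at this
      exact left_eq_add.mp this
    rw [map_zero, h0, inr_zero, add_zero, inl_zero]
  map_add' a b := by
    rw [map_add, hadd, inl_add, inr_add]
    abel
  map_mul' a b := by
    apply TrivSqZeroExt.ext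
    · simp
    · simp only [snd_add, snd_inl, snd_inr, zero_add, snd_mul, fst_add, fst_inl, fst_inr, add_zero,
        hmul, op_smul_eq_smul]

@[simp]
theorem derHom_fst {R : Type*} [CommRing R] (f : R →+* C) (δ : R → X) (hadd hmul) (a : R) :
    (derHom f δ hadd hmul a).fst = f a := by
  simp [derHom]

@[simp]
theorem derHom_snd {R : Type*} [CommRing R] (f : R →+* C) (δ : R → X) (hadd hmul) (a : R) :
    (derHom f δ hadd hmul a).snd = δ a := by
  simp [derHom]

end derHom

section core

variable {A B : Type u} [CommRing A] [CommRing B] [Algebra A B] (J : Ideal B)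

/-- **Core lemma**: lifting and extending derivations. -/
theorem exists_derivation_core (h : CAlgX.IsAdicFormallySmooth A B J)
    {C : Type u} [CommRing C] (φ : B →+* C) (hφ : ∃ m : ℕ, ∀ x ∈ J ^ m, φ x = 0)
    {X Y : Type u} [AddCommGroup X] [AddCommGroup Y] [Module C X] [Module C Y]
    (g : X →ₗ[C] Y) (hg : Function.Surjective g)
    (δY : B → Y) (hYadd : ∀ a b, δY (a + b) = δY a + δY b)
    (hYmul : ∀ a b, δY (a * b) = φ a • δY b + φ b • δY a)
    (δA : A → X) (hAadd : ∀ a b, δA (a + b) = δA a + δA b)
    (hAmul : ∀ a b, δA (a * b) =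
      φ (algebraMap A B a) • δA b + φ (algebraMap A B b) • δA a)
    (hcomp : ∀ a, g (δA a) = δY (algebraMap A B a)) :
    ∃ δX : B → X, (∀ a b, δX (a + b) = δX a + δX b) ∧
      (∀ a b, δX (a * b) = φ a • δX b + φ b • δX a) ∧
      (∀ b, g (δX b) = δY b) ∧ ∀ a, δX (algebraMap A B a) = δA a := by
  letI : Module Cᵐᵒᵖ X := PBasis.opModule (B := C) X
  haveI : IsCentralScalar C X := PBasis.isCentral (B := C) X
  letI : Module Cᵐᵒᵖ Y := PBasis.opModule (B := C) Y
  haveI : IsCentralScalar C Y := PBasis.isCentral (B := C) Y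
  let τ : A →+* TrivSqZeroExt C X := derHom (φ.comp (algebraMap A B)) δA hAadd hAmul
  let τ' : A →+* TrivSqZeroExt C Y := derHom (φ.comp (algebraMap A B)) (fun a => g (δA a))
    (fun a b => by rw [hAadd, map_add])
    (fun a b => by
      rw [hAmul, map_add, map_smul, map_smul]
      rfl)
  letI algE : Algebra A (TrivSqZeroExt C X) := τ.toAlgebra
  letI algE' : Algebra A (TrivSqZeroExt C Y) := τ'.toAlgebra
  let π : TrivSqZeroExt C X →ₐ[A] TrivSqZeroExt C Y :=
    { toRingHom := (TrivSqZeroExt.map g).toRingHom
      commutes' := fun a => by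
        change TrivSqZeroExt.map g (τ a) = τ' a
        apply TrivSqZeroExt.ext
        · rw [fst_map]; simp [τ, τ']
        · rw [snd_map]; simp [τ, τ'] }
  have hπapp : ∀ e, π e = TrivSqZeroExt.map g e := fun e => rfl
  let ψ : B →ₐ[A] TrivSqZeroExt C Y :=
    { toRingHom := derHom φ δY hYadd hYmul
      commutes' := fun a => by
        change derHom φ δY hYadd hYmul (algebraMap A B a) = τ' a
        apply TrivSqZeroExt.ext
        · simp [τ']
        · simp [τ', hcomp] }
  have hψapp : ∀ b, ψ b = derHom φ δY hYadd hYmul b := fun b => rfl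
  have hπ : Function.Surjective π := by
    intro e
    obtain ⟨x, hx⟩ := hg e.snd
    refine ⟨inl e.fst + inr x, ?_⟩
    rw [hπapp]
    apply TrivSqZeroExt.ext
    · rw [fst_map]; simp
    · rw [snd_map]; simp [hx]
  have hnil : IsNilpotent (RingHom.ker π) := by
    refine ⟨2, ?_⟩
    rw [Ideal.zero_eq_bot, eq_bot_iff, pow_two, Ideal.mul_le]
    intro e he e' he'
    rw [RingHom.mem_ker, hπapp] at he he'
    have h1 : e.fst = 0 := by rw [← fst_map g, he, fst_zero]
    have h2 : e'.fst = 0 := by rw [← fst_map g, he', fst_zero]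
    rw [Ideal.mem_bot]
    apply TrivSqZeroExt.ext
    · simp [h1]
    · simp [h1, h2]
  obtain ⟨m, hm⟩ := hφ
  have hψ : ∃ k : ℕ, ∀ x ∈ J ^ k, ψ x = 0 := by
    refine ⟨m + m, fun x hx => ?_⟩
    rw [pow_add] at hx
    induction hx using Submodule.mul_induction_on' with
    | mem_mul_mem y hy z hz =>
      rw [hψapp]
      apply TrivSqZeroExt.ext
      · simp [hm y hy]
      · simp [hm y hy, hm z hz]
    | add y _ z _ hy hz => rw [map_add, hy, hz, add_zero]
  obtain ⟨v, hv, -⟩ := exists_lift_of_surjective_of_isFormallySmoothAdic (⊥ : Ideal A) J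
    ((isAdicFormallySmooth_iff_isFormallySmoothAdic_bot J).1 h)
    (TrivSqZeroExt C X) (TrivSqZeroExt C Y) π hπ hnil ⟨1, by simp⟩ ψ hψ
  have hvb : ∀ b, TrivSqZeroExt.map g (v b) = derHom φ δY hYadd hYmul b := fun b =>
    congrArg (fun f => f b) hv
  have hfst : ∀ b, (v b).fst = φ b := by
    intro b
    rw [← fst_map g, hvb, derHom_fst]
  refine ⟨fun b => (v b).snd, fun a b => ?_, fun a b => ?_, fun b => ?_, fun a => ?_⟩
  · change (v (a + b)).snd = (v a).snd + (v b).snd
    rw [map_add, snd_add]
  · change (v (a * b)).snd = φ a • (v b).snd + φ b • (v a).snd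
    rw [map_mul, snd_mul, hfst, hfst, op_smul_eq_smul]
  · change g (v b).snd = δY b
    rw [← snd_map g, hvb, derHom_snd]
  · change (v (algebraMap A B a)).snd = δA a
    rw [v.commutes]
    change (τ a).snd = δA a
    simp [τ]

end core

end Groth.Agent.Lib.Helper19.SqZeroDer
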