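import Mathlib
import Groth.Agent.Lib.Helper10Tensor

/-!
# Injectivity of the conormal map of a square-zero extension of a reduced, generically smooth
algebra by a projective module
-/

set_option autoImplicit false
universe u

namespace Groth.Agent.Lib.Helper19.SqZeroInj

open TensorProduct

section Reduced

variable {B : Type*} [CommRing B] [IsReduced B] {N : Type*} [AddCommGroup N] [Module B N]
  [Module.Projective B N]

theorem eq_zero_of_forall_minimalPrimes (x : N)
    (h : ∀ p ∈ minimalPrimes B, ∃ r : B, r ∉ p ∧ r • x = 0) : x = 0 := by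
  obtain ⟨s, hs⟩ := Module.projective_def'.mp (inferInstance : Module.Projective B N)
  have hinj : Function.Injective s := fun a b hab => by
    have h1 := congrArg (Finsupp.linearCombination B id) hab
    have h2 : ∀ z, Finsupp.linearCombination B id (s z) = z := fun z =>
      LinearMap.congr_fun hs z
    rwa [h2, h2] at h1
  apply hinj
  rw [map_zero]
  ext n
  have hmem : s x n ∈ sInf (minimalPrimes B) := by
    rw [Ideal.mem_sInf]
    intro p hp
    obtain ⟨r, hr, hrx⟩ := h p hp
    have h3 : r * s x n = 0 := by
      have := congrArg (fun f => f n) (congrArg s hrx)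
      simpa using this
    have hp' : p.IsPrime := hp.1.1
    exact (hp'.mem_or_mem (h3 ▸ p.zero_mem)).resolve_left hr
  rw [minimalPrimes, Ideal.sInf_minimalPrimes] at hmem
  have : (⊥ : Ideal B).radical = ⊥ := by
    have := nilradical_eq_zero B
    rwa [nilradical] at this
  rw [this] at hmem
  simpa using hmem

end Reduced

section Main

variable {A B : Type u} [CommRing A] [CommRing B] [Algebra A B]

theorem exists_smul_eq_zero (P : Algebra.Extension.{u} A B) (hsq : P.ker ^ 2 = ⊥)
    (p : Ideal B) [p.IsPrime] [Algebra.FormallySmooth A (Localization.AtPrime p)]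
    (x : P.Cotangent) (hx : P.cotangentComplex x = 0) : ∃ r : B, r ∉ p ∧ r • x = 0 := by
  classical
  let g : P.Ring →+* B := algebraMap P.Ring B
  have hg : Function.Surjective g := P.algebraMap_surjective
  let S : Submonoid P.Ring := p.primeCompl.comap g
  have hS : S ≤ p.primeCompl.comap g := le_rfl
  let g'r : Localization S →+* Localization.AtPrime p :=
    IsLocalization.map (Localization.AtPrime p) g hS
  have hg'r : ∀ e, g'r (algebraMap P.Ring (Localization S) e) =
      algebraMap B (Localization.AtPrime p) (g e) := fun e => IsLocalization.map_eq hS e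
  let g' : Localization S →ₐ[A] Localization.AtPrime p :=
    { g'r with
      commutes' := fun a => by
        show g'r (algebraMap A (Localization S) a) = algebraMap A (Localization.AtPrime p) a
        rw [IsScalarTower.algebraMap_apply A P.Ring (Localization S), hg'r,
          IsScalarTower.algebraMap_apply A B (Localization.AtPrime p)]
        congr 1
        exact (IsScalarTower.algebraMap_apply A P.Ring B a).symm }
  have hg'ι : ∀ e, g' (algebraMap P.Ring (Localization S) e) =
      algebraMap B (Localization.AtPrime p) (g e) := hg'r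
  -- surjectivity
  have hg's : Function.Surjective g' := by
    intro b
    obtain ⟨b0, s, rfl⟩ := IsLocalization.exists_mk'_eq p.primeCompl b
    obtain ⟨e, rfl⟩ := hg b0
    obtain ⟨t, ht⟩ := hg s.1
    have htS : t ∈ S := by
      show g t ∈ p.primeCompl
      rw [ht]; exact s.2
    refine ⟨IsLocalization.mk' (Localization S) e ⟨t, htS⟩, ?_⟩
    show g'r _ = _
    rw [IsLocalization.map_mk']
    congr 1
    exact Subtype.ext ht
  -- kernel elements
  have hkerelt : ∀ z : Localization S, g' z = 0 →
      ∃ e t, ∃ (ht : t ∈ S), e ∈ P.ker ∧ z = IsLocalization.mk' (Localization S) e ⟨t, ht⟩ := by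
    intro z hz
    obtain ⟨e, t, rfl⟩ := IsLocalization.exists_mk'_eq S z
    have h1 : g'r (IsLocalization.mk' (Localization S) e t) = 0 := hz
    rw [IsLocalization.map_mk', IsLocalization.mk'_eq_zero_iff] at h1
    obtain ⟨m, hm⟩ := h1
    obtain ⟨u, hu⟩ := hg m.1
    have huS : u ∈ S := by
      show g u ∈ p.primeCompl
      rw [hu]; exact m.2
    refine ⟨u * e, u * t.1, S.mul_mem huS t.2, ?_, ?_⟩
    · show g (u * e) = 0
      rw [map_mul, hu]; exact hm
    · rw [IsLocalization.mk'_eq_iff_eq]
      simp only
      ring_nf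
  have hker2 : ∀ z₁ z₂ : Localization S, g' z₁ = 0 → g' z₂ = 0 → z₁ * z₂ = 0 := by
    intro z₁ z₂ h1 h2
    obtain ⟨e₁, t₁, ht₁, he₁, rfl⟩ := hkerelt z₁ h1
    obtain ⟨e₂, t₂, ht₂, he₂, rfl⟩ := hkerelt z₂ h2
    rw [← IsLocalization.mk'_mul]
    have : e₁ * e₂ = 0 := by
      have : e₁ * e₂ ∈ P.ker ^ 2 := by
        rw [pow_two]; exact Ideal.mul_mem_mul he₁ he₂
      rwa [hsq, Ideal.mem_bot] at this
    rw [this, IsLocalization.mk'_zero]
  have hnil : IsNilpotent (RingHom.ker (g' : Localization S →+* Localization.AtPrime p)) := by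
    refine ⟨2, ?_⟩
    rw [pow_two, Ideal.zero_eq_bot, eq_bot_iff, Ideal.mul_le]
    intro a ha b hb
    rw [Ideal.mem_bot]
    exact hker2 a b ha hb
  let σ : Localization.AtPrime p →ₐ[A] Localization S :=
    Algebra.FormallySmooth.liftOfSurjective (AlgHom.id A _) g' hg's hnil
  have hσ : ∀ b, g' (σ b) = b := fun b =>
    Algebra.FormallySmooth.liftOfSurjective_apply (AlgHom.id A _) g' hg's hnil b
  let τ : P.Ring →ₐ[A] Localization S :=
    σ.comp ((IsScalarTower.toAlgHom A B (Localization.AtPrime p)).comp
      (IsScalarTower.toAlgHom A P.Ring B))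
  let ι : P.Ring →ₐ[A] Localization S := IsScalarTower.toAlgHom A P.Ring (Localization S)
  have hτ : ∀ e, τ e = σ (algebraMap B (Localization.AtPrime p) (g e)) := fun e => rfl
  have hι : ∀ e, ι e = algebraMap P.Ring (Localization S) e := fun e => rfl
  have hdiff : ∀ e, g' (ι e - τ e) = 0 := by
    intro e
    rw [map_sub, hτ, hσ, hι, hg'ι, sub_self]
  let δ : Derivation A P.Ring (Localization S) :=
    { toLinearMap := ι.toLinearMap - τ.toLinearMap
      map_one_eq_zero' := by
        show ι 1 - τ 1 = 0
        rw [map_one, map_one, sub_self]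
      leibniz' := fun a b => by
        show ι (a * b) - τ (a * b) = a • (ι b - τ b) + b • (ι a - τ a)
        have h0 := hker2 _ _ (hdiff a) (hdiff b)
        rw [Algebra.smul_def, Algebra.smul_def, ← hι, ← hι, map_mul, map_mul]
        linear_combination (-1 : Localization S) * h0 }
  have hδ : ∀ e, δ e = ι e - τ e := fun e => rfl
  let L : Ω[P.Ring⁄A] →ₗ[P.Ring] Localization S := δ.liftKaehlerDifferential
  have hLD : ∀ e, L (KaehlerDifferential.D A P.Ring e) = ι e - τ e := fun e => by
    show δ.liftKaehlerDifferential (KaehlerDifferential.D A P.Ring e) = _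
    rw [Derivation.liftKaehlerDifferential_comp_D, hδ]
  have hL1 : ∀ m, g' (L m) = 0 := by
    intro m
    have hm : m ∈ Submodule.span P.Ring (Set.range (KaehlerDifferential.D A P.Ring)) := by
      rw [KaehlerDifferential.span_range_derivation]; trivial
    induction hm using Submodule.span_induction with
    | mem x hx =>
      obtain ⟨e, rfl⟩ := hx
      rw [hLD]; exact hdiff e
    | zero => rw [map_zero, map_zero]
    | add x y _ _ hx hy => rw [map_add, map_add, hx, hy, add_zero]
    | smul a x _ hx => rw [map_smul, Algebra.smul_def, map_mul, hx, mul_zero]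
  have hL2 : ∀ m ∈ (P.ker • ⊤ : Submodule P.Ring Ω[P.Ring⁄A]), L m = 0 := by
    intro m hm
    induction hm using Submodule.smul_induction_on' with
    | smul i hi m _ =>
      rw [map_smul, Algebra.smul_def]
      apply hker2 _ _ _ (hL1 m)
      rw [hg'ι]
      have : g i = 0 := hi
      rw [this, map_zero]
    | add x _ y _ hx hy => rw [map_add, hx, hy, add_zero]
  obtain ⟨y, rfl⟩ := Algebra.Extension.Cotangent.mk_surjective x
  rw [Algebra.Extension.cotangentComplex_mk] at hx
  have hDy : KaehlerDifferential.D A P.Ring y.1 ∈ (P.ker • ⊤ : Submodule P.Ring Ω[P.Ring⁄A]) :=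
    (Groth.Agent.Lib.Helper10.one_tmul_eq_zero_iff_of_surjective P.algebraMap_surjective _).mp hx
  have h4 := hL2 _ hDy
  rw [hLD, hτ] at h4
  have hy0 : g y.1 = 0 := y.2
  rw [hy0, map_zero, map_zero, sub_zero, hι, IsLocalization.map_eq_zero_iff S] at h4
  obtain ⟨t, ht⟩ := h4
  refine ⟨g t.1, t.2, ?_⟩
  have h5 : g t.1 • Algebra.Extension.Cotangent.mk y = t.1 • Algebra.Extension.Cotangent.mk y :=
    algebraMap_smul B t.1 _
  rw [h5, ← map_smul]
  have : t.1 • y = 0 := Subtype.ext ht
  rw [this, map_zero]

theorem cotangentComplex_injective [IsReduced B]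
    (hsm : ∀ p : Ideal B, p ∈ minimalPrimes B → ∀ [p.IsPrime],
      Algebra.FormallySmooth A (Localization.AtPrime p))
    (P : Algebra.Extension.{u} A B) (hsq : P.ker ^ 2 = ⊥) [Module.Projective B P.Cotangent] :
    Function.Injective P.cotangentComplex := by
  rw [injective_iff_map_eq_zero]
  intro x hx
  apply eq_zero_of_forall_minimalPrimes (B := B)
  intro p hp
  haveI : p.IsPrime := hp.1.1
  haveI := hsm p hp
  exact exists_smul_eq_zero P hsq p x hx

end Main

end Groth.Agent.Lib.Helper19.SqZeroInj
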