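import Mathlib

/-!
# A square-zero extension with injective conormal map is determined by its conormal sequence
-/

set_option autoImplicit false
universe u

namespace Groth.Agent.Lib.Helper19.SqZeroIso

open TensorProduct KaehlerDifferential

variable {A B : Type u} [CommRing A] [CommRing B] [Algebra A B]
variable (P P' : Algebra.Extension.{u} A B)

/-- `1 ⊗ d e` in `B ⊗_E Ω_{E/A}`. -/
noncomputable def dd (e : P.Ring) : P.CotangentSpace := (1 : B) ⊗ₜ[P.Ring] D A P.Ring e

lemma toKaehler_dd (e : P.Ring) : P.toKaehler (dd P e) = D A B (algebraMap P.Ring B e) := by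
  show KaehlerDifferential.mapBaseChange A P.Ring B ((1 : B) ⊗ₜ[P.Ring] D A P.Ring e) = _
  rw [KaehlerDifferential.mapBaseChange_tmul, one_smul, KaehlerDifferential.map_D]

lemma dd_add (a b : P.Ring) : dd P (a + b) = dd P a + dd P b := by
  simp only [dd, map_add, tmul_add]

lemma dd_sub (a b : P.Ring) : dd P (a - b) = dd P a - dd P b := by
  simp only [dd, map_sub, tmul_sub]

lemma dd_zero : dd P 0 = 0 := by
  simp only [dd, map_zero, tmul_zero]

lemma dd_one : dd P 1 = 0 := by
  simp only [dd, Derivation.map_one_eq_zero, tmul_zero]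

lemma dd_algebraMap (a : A) : dd P (algebraMap A P.Ring a) = 0 := by
  simp only [dd, Derivation.map_algebraMap, tmul_zero]

lemma one_tmul_smul (a : P.Ring) (m : Ω[P.Ring⁄A]) :
    (1 : B) ⊗ₜ[P.Ring] (a • m) = algebraMap P.Ring B a • ((1 : B) ⊗ₜ[P.Ring] m) := by
  rw [← TensorProduct.smul_tmul, TensorProduct.smul_tmul', Algebra.smul_def, mul_one,
    smul_eq_mul, mul_one]

lemma dd_mul (a b : P.Ring) :
    dd P (a * b) = algebraMap P.Ring B a • dd P b + algebraMap P.Ring B b • dd P a := by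
  simp only [dd, Derivation.leibniz, tmul_add, one_tmul_smul]

lemma dd_of_mem_ker (y : P.ker) : dd P y.1 = P.cotangentComplex (Algebra.Extension.Cotangent.mk y) :=
  (P.cotangentComplex_mk y).symm

/-- Uniqueness. -/
lemma eq_of_dd_eq (hsq : P.ker ^ 2 = ⊥) (hinj : Function.Injective P.cotangentComplex)
    {e e' : P.Ring} (h1 : algebraMap P.Ring B e = algebraMap P.Ring B e')
    (h2 : dd P e = dd P e') : e = e' := by
  have hmem : e - e' ∈ P.ker := by
    show algebraMap P.Ring B (e - e') = 0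
    rw [map_sub, h1, sub_self]
  have h3 : P.cotangentComplex (Algebra.Extension.Cotangent.mk ⟨e - e', hmem⟩) = 0 := by
    rw [← dd_of_mem_ker, dd_sub, h2, sub_self]
  have h4 := hinj (h3.trans (map_zero _).symm)
  rw [Algebra.Extension.Cotangent.mk_eq_zero_iff, hsq, Ideal.mem_bot] at h4
  exact sub_eq_zero.mp h4

/-- Existence. -/
lemma exists_of_toKaehler (b : B) (n : P.CotangentSpace) (h : P.toKaehler n = D A B b) :
    ∃ e, algebraMap P.Ring B e = b ∧ dd P e = n := by
  obtain ⟨e₀, rfl⟩ := P.algebraMap_surjective b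
  have h0 : P.toKaehler (n - dd P e₀) = 0 := by
    rw [map_sub, h, toKaehler_dd, sub_self]
  obtain ⟨x, hx⟩ := (P.exact_cotangentComplex_toKaehler (n - dd P e₀)).mp h0
  obtain ⟨y, rfl⟩ := Algebra.Extension.Cotangent.mk_surjective x
  refine ⟨e₀ + y.1, ?_, ?_⟩
  · have : algebraMap P.Ring B y.1 = 0 := y.2
    rw [map_add, this, add_zero]
  · rw [dd_add, dd_of_mem_ker, hx]; abel

variable {P P'}

theorem exists_hom (hsq' : P'.ker ^ 2 = ⊥) (hinj' : Function.Injective P'.cotangentComplex)
    (φ : P.CotangentSpace →ₗ[B] P'.CotangentSpace)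
    (hφ : ∀ y, P'.toKaehler (φ y) = P.toKaehler y) :
    ∃ f : P.Hom P', ∀ e, dd P' (f.toRingHom e) = φ (dd P e) := by
  have hex : ∀ e : P.Ring, ∃ e' : P'.Ring,
      algebraMap P'.Ring B e' = algebraMap P.Ring B e ∧ dd P' e' = φ (dd P e) := fun e =>
    exists_of_toKaehler P' _ _ (by rw [hφ, toKaehler_dd])
  choose F hF1 hF2 using hex
  have huniq : ∀ (e : P.Ring) (e' : P'.Ring), algebraMap P'.Ring B e' = algebraMap P.Ring B e →
      dd P' e' = φ (dd P e) → F e = e' := fun e e' h1 h2 =>
    eq_of_dd_eq P' hsq' hinj' ((hF1 e).trans h1.symm) ((hF2 e).trans h2.symm)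
  let f : P.Ring →+* P'.Ring :=
    { toFun := F
      map_one' := huniq 1 1 (by rw [map_one, map_one]) (by rw [dd_one, dd_one, map_zero])
      map_mul' := fun a b => huniq _ _ (by rw [map_mul, map_mul, hF1, hF1])
        (by rw [dd_mul, dd_mul, map_add, map_smul, map_smul, hF1, hF1, hF2, hF2])
      map_zero' := huniq 0 0 (by rw [map_zero, map_zero]) (by rw [dd_zero, dd_zero, map_zero])
      map_add' := fun a b => huniq _ _ (by rw [map_add, map_add, hF1, hF1])
        (by rw [dd_add, dd_add, map_add, hF2, hF2]) }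
  refine ⟨⟨f, ?_, ?_⟩, fun e => hF2 e⟩
  · intro a
    refine huniq _ _ ?_ ?_
    · rw [Algebra.algebraMap_self_apply, ← IsScalarTower.algebraMap_apply,
        ← IsScalarTower.algebraMap_apply]
    · rw [Algebra.algebraMap_self_apply, dd_algebraMap, dd_algebraMap, map_zero]
  · intro e
    rw [Algebra.algebraMap_self_apply]
    exact hF1 e

theorem bijective_of (hsq : P.ker ^ 2 = ⊥) (hsq' : P'.ker ^ 2 = ⊥)
    (hinj : Function.Injective P.cotangentComplex)
    (hinj' : Function.Injective P'.cotangentComplex)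
    (f : P.Hom P') (e₂ : P.CotangentSpace ≃ₗ[B] P'.CotangentSpace)
    (hf : ∀ e, dd P' (f.toRingHom e) = e₂ (dd P e))
    (h₂ : ∀ y, P'.toKaehler (e₂ y) = P.toKaehler y) :
    Function.Bijective f.toRingHom := by
  have hfg : ∀ e, algebraMap P'.Ring B (f.toRingHom e) = algebraMap P.Ring B e := fun e => by
    have := f.algebraMap_toRingHom e
    rwa [Algebra.algebraMap_self_apply] at this
  constructor
  · intro a b hab
    apply eq_of_dd_eq P hsq hinj
    · rw [← hfg, ← hfg, hab]
    · apply e₂.injective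
      rw [← hf, ← hf, hab]
  · intro e'
    obtain ⟨e, he1, he2⟩ := exists_of_toKaehler P (algebraMap P'.Ring B e') (e₂.symm (dd P' e'))
      (by rw [← h₂, LinearEquiv.apply_symm_apply, toKaehler_dd])
    refine ⟨e, ?_⟩
    apply eq_of_dd_eq P' hsq' hinj'
    · rw [hfg, he1]
    · rw [hf, he2, LinearEquiv.apply_symm_apply]

theorem exists_hom_bijective (hsq : P.ker ^ 2 = ⊥) (hsq' : P'.ker ^ 2 = ⊥)
    (hinj : Function.Injective P.cotangentComplex)
    (e₁ : P.Cotangent ≃ₗ[B] P'.Cotangent) (e₂ : P.CotangentSpace ≃ₗ[B] P'.CotangentSpace)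
    (h₁ : ∀ x, e₂ (P.cotangentComplex x) = P'.cotangentComplex (e₁ x))
    (h₂ : ∀ y, P'.toKaehler (e₂ y) = P.toKaehler y) :
    ∃ f : P.Hom P', Function.Bijective f.toRingHom ∧
      Algebra.Extension.Cotangent.map f = e₁.toLinearMap := by
  have hinj' : Function.Injective P'.cotangentComplex := by
    rw [injective_iff_map_eq_zero]
    intro y hy
    obtain ⟨x, rfl⟩ := e₁.surjective y
    rw [← h₁] at hy
    have h3 : P.cotangentComplex x = 0 := e₂.injective (hy.trans (map_zero _).symm)
    have h4 : x = 0 := hinj (h3.trans (map_zero _).symm)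
    rw [h4, map_zero]
  obtain ⟨f, hf⟩ := exists_hom hsq' hinj' e₂.toLinearMap h₂
  refine ⟨f, bijective_of hsq hsq' hinj hinj' f e₂ hf h₂, ?_⟩
  refine LinearMap.ext fun x => ?_
  obtain ⟨y, rfl⟩ := Algebra.Extension.Cotangent.mk_surjective x
  apply hinj'
  rw [Algebra.Extension.Cotangent.map_mk, Algebra.Extension.cotangentComplex_mk]
  show dd P' (f.toRingHom y.1) = P'.cotangentComplex (e₁ (Algebra.Extension.Cotangent.mk y))
  rw [hf, ← h₁, dd_of_mem_ker]
  rfl

end Groth.Agent.Lib.Helper19.SqZeroIso
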