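import Groth.Agent.Lib.Helper19SymPow

/-!
# Symmetric powers over `B` and over a `B`-algebra `R` acting through a retraction `R → B` (helper19)

Let `R` be a `B`-algebra with a ring retraction `π : R → B`, and `M` an `R`-module on which `R` acts
through `π`.  For nonempty `ι`, `Sym[B] ι M` and `Sym[R] ι M` are canonically isomorphic.
-/

set_option autoImplicit false
set_option linter.style.haveILetI false
set_option linter.unusedSectionVars false
universe u v

namespace Groth.Agent.Lib.Helper19.SymPow

section base

variable {B R ι : Type u} [CommRing B] [CommRing R] [Algebra B R] (π : R →+* B)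
  {M : Type v} [AddCommGroup M] [Module R M] [Module B M] [IsScalarTower B R M]

/-- `B`-module structure on the symmetric power over `R` -/
@[reducible] noncomputable def moduleDown : Module B (SymmetricPower R ι M) :=
  Module.compHom _ (algebraMap B R)

/-- `R`-module structure on the symmetric power over `B` (through `π`) -/
@[reducible] noncomputable def moduleUp : Module R (SymmetricPower B ι M) :=
  Module.compHom _ π

/-- the `B`-multilinear map `m ↦ ⨂ₛ[R] m` -/
noncomputable def downMultilinear :
    letI := moduleDown (B := B) (R := R) (ι := ι) (M := M)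
    MultilinearMap B (fun _ : ι => M) (SymmetricPower R ι M) :=
  letI := moduleDown (B := B) (R := R) (ι := ι) (M := M)
  { toFun := fun m => SymmetricPower.tprod R m
    map_update_add' := fun m i x y => (SymmetricPower.tprod R).map_update_add m i x y
    map_update_smul' := fun m i b x => by
      rw [← algebraMap_smul R b x]
      exact (SymmetricPower.tprod R).map_update_smul m i (algebraMap B R b) x }

/-- the comparison `Sym[B] ι M → Sym[R] ι M` -/
noncomputable def compDown : SymmetricPower B ι M →+ SymmetricPower R ι M :=
  letI := moduleDown (B := B) (R := R) (ι := ι) (M := M)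
  (lift (downMultilinear (B := B) (R := R) (ι := ι) (M := M))
    (fun e m => SymmetricPower.tprod_equiv e m)).toAddMonoidHom

theorem compDown_tprod (m : ι → M) :
    compDown (B := B) (R := R) (SymmetricPower.tprod B m) = SymmetricPower.tprod R m := by
  letI := moduleDown (B := B) (R := R) (ι := ι) (M := M)
  change lift (downMultilinear (B := B) (R := R) (ι := ι) (M := M))
    (fun e m => SymmetricPower.tprod_equiv e m) (SymmetricPower.tprod B m) = _
  rw [lift_tprod]
  rfl

theorem compDown_smul (b : B) (s : SymmetricPower B ι M) :
    compDown (B := B) (R := R) (b • s) = algebraMap B R b • compDown (B := B) (R := R) s := by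
  letI := moduleDown (B := B) (R := R) (ι := ι) (M := M)
  exact (lift (downMultilinear (B := B) (R := R) (ι := ι) (M := M))
    (fun e m => SymmetricPower.tprod_equiv e m)).map_smul b s

variable (hM : ∀ (r : R) (m : M), r • m = π r • m)

/-- the `R`-multilinear map `m ↦ ⨂ₛ[B] m` -/
noncomputable def upMultilinear :
    letI := moduleUp (ι := ι) (M := M) π
    MultilinearMap R (fun _ : ι => M) (SymmetricPower B ι M) :=
  letI := moduleUp (ι := ι) (M := M) π
  { toFun := fun m => SymmetricPower.tprod B m
    map_update_add' := fun m i x y => (SymmetricPower.tprod B).map_update_add m i x y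
    map_update_smul' := fun m i r x => by
      rw [hM r x]
      exact (SymmetricPower.tprod B).map_update_smul m i (π r) x }

/-- the comparison `Sym[R] ι M → Sym[B] ι M` -/
noncomputable def compUp : SymmetricPower R ι M →+ SymmetricPower B ι M :=
  letI := moduleUp (ι := ι) (M := M) π
  (lift (upMultilinear (ι := ι) (M := M) π hM)
    (fun e m => SymmetricPower.tprod_equiv e m)).toAddMonoidHom

theorem compUp_tprod (m : ι → M) :
    compUp π hM (SymmetricPower.tprod R m) = SymmetricPower.tprod B m := by
  letI := moduleUp (ι := ι) (M := M) π
  change lift (upMultilinear (ι := ι) (M := M) π hM)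
    (fun e m => SymmetricPower.tprod_equiv e m) (SymmetricPower.tprod R m) = _
  rw [lift_tprod]
  rfl

theorem compUp_smul (r : R) (s : SymmetricPower R ι M) :
    compUp π hM (r • s) = π r • compUp π hM s := by
  letI := moduleUp (ι := ι) (M := M) π
  exact (lift (upMultilinear (ι := ι) (M := M) π hM)
    (fun e m => SymmetricPower.tprod_equiv e m)).map_smul r s

include hM in
theorem compUp_compDown (hπ : ∀ b, π (algebraMap B R b) = b) (s : SymmetricPower B ι M) :
    compUp π hM (compDown (B := B) (R := R) s) = s := by
  have hs : s ∈ (⊤ : Submodule B _) := Submodule.mem_top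
  rw [← SymmetricPower.span_tprod_eq_top B ι M] at hs
  induction hs using Submodule.span_induction with
  | mem x hx =>
    obtain ⟨m, rfl⟩ := hx
    rw [compDown_tprod, compUp_tprod]
  | zero => rw [map_zero, map_zero]
  | add x y _ _ hx hy => rw [map_add, map_add, hx, hy]
  | smul b x _ hx => rw [compDown_smul, compUp_smul, hπ, hx]

include hM in
theorem compDown_compUp [Nonempty ι] (s : SymmetricPower R ι M) :
    compDown (B := B) (R := R) (compUp π hM s) = s := by
  have hs : s ∈ (⊤ : Submodule R _) := Submodule.mem_top
  rw [← SymmetricPower.span_tprod_eq_top R ι M] at hs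
  induction hs using Submodule.span_induction with
  | mem x hx =>
    obtain ⟨m, rfl⟩ := hx
    rw [compUp_tprod, compDown_tprod]
  | zero => rw [map_zero, map_zero]
  | add x y _ _ hx hy => rw [map_add, map_add, hx, hy]
  | smul r x _ hx =>
    rw [compUp_smul, compDown_smul, hx]
    have h0 := smul_eq_zero_of_forall (ι := ι) (M := M) (r - algebraMap B R (π r))
      (fun m => by rw [sub_smul, algebraMap_smul, hM r m, sub_self]) x
    rw [sub_smul, sub_eq_zero] at h0
    exact h0.symm

include hM in
theorem compDown_bijective [Nonempty ι] (hπ : ∀ b, π (algebraMap B R b) = b) :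
    Function.Bijective (compDown (B := B) (R := R) (ι := ι) (M := M)) :=
  ⟨Function.LeftInverse.injective (compUp_compDown π hM hπ),
    Function.RightInverse.surjective (compDown_compUp π hM)⟩

end base

end Groth.Agent.Lib.Helper19.SymPow
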