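import Groth.Agent.Lib.Helper19SymPoly

/-!
# Symmetric powers of a free module and homogeneous polynomials, II (helper19)
-/

set_option autoImplicit false
set_option linter.style.haveILetI false
universe u

namespace Groth.Agent.Lib.Helper19.SymPoly

open MvPolynomial Groth.Agent.Lib.Helper19.SymPow

variable {R : Type u} [CommRing R] (J : Ideal R) (κ : Type u) (ι : Type u) [Fintype ι]

theorem smul_finsupp_eq_zero (a : R) (ha : a ∈ J) (f : κ →₀ R ⧸ J) : a • f = 0 := by
  rw [← algebraMap_smul (R ⧸ J) a f, Ideal.Quotient.algebraMap_eq,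
    Ideal.Quotient.eq_zero_iff_mem.2 ha, zero_smul]

theorem isTorsionBySet [Nonempty ι] :
    Module.IsTorsionBySet R (SymmetricPower R ι (κ →₀ R ⧸ J)) (J : Set R) := by
  intro z a
  exact SymPow.smul_eq_zero_of_forall (a : R) (fun f => smul_finsupp_eq_zero J κ a a.2 f) z

theorem theta_basis (f : ι → κ) :
    theta J κ ι (SymmetricPower.tprod R (fun i => Finsupp.single (f i) (1 : R ⧸ J))) =
      monomial (mon f) 1 := by
  rw [theta_tprod]
  have : ∀ i, linForm J κ (Finsupp.single (f i) (1 : R ⧸ J)) = X (f i) := by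
    intro i; rw [linForm_single, C_1, one_mul]
  simp only [this]
  exact prod_X_eq_monomial J f

/-- the comparison map has a retraction -/
theorem exists_retraction [Nonempty ι] :
    ∃ ρ : MvPolynomial κ (R ⧸ J) →ₗ[R] SymmetricPower R ι (κ →₀ R ⧸ J),
      ∀ z, ρ (theta J κ ι z) = z := by
  classical
  have hT := isTorsionBySet J κ ι
  letI : Module (R ⧸ J) (SymmetricPower R ι (κ →₀ R ⧸ J)) :=
    @Module.IsTorsionBySet.module R (SymmetricPower R ι (κ →₀ R ⧸ J)) _ _ _ J _ hT
  haveI : IsScalarTower R (R ⧸ J) (SymmetricPower R ι (κ →₀ R ⧸ J)) :=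
    @Module.IsTorsionBySet.isScalarTower R (SymmetricPower R ι (κ →₀ R ⧸ J)) _ _ _ J hT R _ _ _ _
  have hmk : ∀ (a : R) (z : SymmetricPower R ι (κ →₀ R ⧸ J)),
      (Ideal.Quotient.mk J a) • z = a • z := fun a z => rfl
  let e : κ → (κ →₀ R ⧸ J) := fun k => Finsupp.single k 1
  let rhoFun : (κ →₀ ℕ) → SymmetricPower R ι (κ →₀ R ⧸ J) := fun m =>
    if h : ∃ f : ι → κ, mon f = m then SymmetricPower.tprod R (fun i => e (h.choose i)) else 0
  let ρ : MvPolynomial κ (R ⧸ J) →ₗ[R ⧸ J] SymmetricPower R ι (κ →₀ R ⧸ J) :=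
    (basisMonomials κ (R ⧸ J)).constr (R ⧸ J) rhoFun
  have hρ : ∀ f : ι → κ, ρ (theta J κ ι (SymmetricPower.tprod R (fun i => e (f i)))) =
      SymmetricPower.tprod R (fun i => e (f i)) := by
    intro f
    rw [theta_basis]
    have h1 : (monomial (mon f) (1 : R ⧸ J)) = basisMonomials κ (R ⧸ J) (mon f) := by
      rw [coe_basisMonomials]
    rw [h1, Module.Basis.constr_basis]
    have hex : ∃ g : ι → κ, mon g = mon f := ⟨f, rfl⟩
    simp only [rhoFun, dif_pos hex]
    obtain ⟨σ, hσ⟩ := exists_perm_of_mon_eq hex.choose f hex.choose_spec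
    have h2 : (fun i => e (hex.choose i)) = fun i => (fun j => e (f j)) (σ i) := by
      funext i; exact congrArg e (hσ i).symm
    rw [h2]
    exact SymmetricPower.tprod_equiv σ (fun j => e (f j))
  let T : MultilinearMap (R ⧸ J) (fun _ : ι => κ →₀ R ⧸ J)
      (SymmetricPower R ι (κ →₀ R ⧸ J)) :=
    { toFun := fun f => SymmetricPower.tprod R f
      map_update_add' := fun f i x y => (SymmetricPower.tprod R).map_update_add f i x y
      map_update_smul' := fun f i c x => by
        obtain ⟨a, rfl⟩ := Ideal.Quotient.mk_surjective c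
        have h1 : (Ideal.Quotient.mk J a) • x = a • x := by
          rw [← Ideal.Quotient.algebraMap_eq, algebraMap_smul]
        rw [h1, (SymmetricPower.tprod R).map_update_smul, hmk] }
  let θC : SymmetricPower R ι (κ →₀ R ⧸ J) →ₗ[R ⧸ J] MvPolynomial κ (R ⧸ J) :=
    { toFun := theta J κ ι
      map_add' := map_add _
      map_smul' := fun c z => by
        obtain ⟨a, rfl⟩ := Ideal.Quotient.mk_surjective c
        rw [hmk, map_smul, RingHom.id_apply, ← Ideal.Quotient.algebraMap_eq, algebraMap_smul] }
  have key : (ρ ∘ₗ θC).compMultilinearMap T = T := by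
    apply Module.Basis.ext_multilinear (fun _ => Finsupp.basisSingleOne)
    intro v
    simp only [Finsupp.coe_basisSingleOne]
    exact hρ v
  refine ⟨ρ.restrictScalars R, fun z => ?_⟩
  have hz : z ∈ (⊤ : Submodule R _) := Submodule.mem_top
  rw [← SymmetricPower.span_tprod_eq_top R ι _] at hz
  induction hz using Submodule.span_induction with
  | mem x hx =>
    obtain ⟨f, rfl⟩ := hx
    exact congrArg (fun g => g f) key
  | zero => rw [map_zero, map_zero]
  | add x y _ _ hx hy => rw [map_add, map_add, hx, hy]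
  | smul r x _ hx => rw [map_smul, map_smul, hx]

theorem theta_injective [Nonempty ι] : Function.Injective (theta J κ ι) := by
  obtain ⟨ρ, hρ⟩ := exists_retraction J κ ι
  exact Function.LeftInverse.injective hρ

/-- every homogeneous polynomial of degree `card ι` is in the image of the comparison map -/
theorem exists_theta_eq_of_isHomogeneous (p : MvPolynomial κ (R ⧸ J))
    (hp : p.IsHomogeneous (Fintype.card ι)) : ∃ z, theta J κ ι z = p := by
  classical
  change p ∈ LinearMap.range (theta J κ ι)
  rw [← MvPolynomial.support_sum_monomial_coeff p]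
  apply Submodule.sum_mem
  intro m hm
  have hdeg : m.degree = Fintype.card ι := by
    by_contra hne
    exact (MvPolynomial.mem_support_iff.1 hm) (hp.coeff_eq_zero hne)
  obtain ⟨f, hf⟩ := exists_mon_eq (ι := ι) m hdeg
  obtain ⟨a, ha⟩ := Ideal.Quotient.mk_surjective (coeff m p)
  refine ⟨a • SymmetricPower.tprod R (fun i => Finsupp.single (f i) (1 : R ⧸ J)), ?_⟩
  rw [map_smul, theta_basis, hf, MvPolynomial.smul_monomial, ← ha]
  congr 1
  rw [Algebra.smul_def, mul_one, Ideal.Quotient.algebraMap_eq]

end Groth.Agent.Lib.Helper19.SymPoly
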