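import Groth.Agent.Lib.Helper19SymSection
import Groth.Agent.Lib.Helper19SymGr
import Groth.Agent.Lib.Helper19SymPoly2

/-!
# Formal smoothness for a `J`-adic topology implies `Sym^n(J/J²) ≅ J^n/J^(n+1)` (helper19)

EGA 0_IV 19.5.4, (a) ⇒ (b).
-/

set_option autoImplicit false
set_option linter.style.haveILetI false
universe u

namespace Groth.Agent.Lib.Helper19.SymFS

open Groth.Agent.Lib.Helper19.SymPow Groth.Agent.Lib.Helper19.SymPoly
  Groth.Agent.Lib.Helper19.SymGr MvPolynomial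

section generic

/-- product congruence: if `aᵢ, aᵢ' ∈ 𝔞` and `aᵢ - aᵢ' ∈ 𝔞²` then `∏ aᵢ - ∏ aᵢ' ∈ 𝔞^(n+1)` -/
theorem prod_sub_prod_mem_pow {R : Type*} [CommRing R] (𝔞 : Ideal R) {ι : Type*} (s : Finset ι)
    (a a' : ι → R) (ha : ∀ i ∈ s, a i ∈ 𝔞) (ha' : ∀ i ∈ s, a' i ∈ 𝔞)
    (hd : ∀ i ∈ s, a i - a' i ∈ 𝔞 ^ 2) :
    ∏ i ∈ s, a i - ∏ i ∈ s, a' i ∈ 𝔞 ^ (s.card + 1) := by
  classical
  induction s using Finset.induction_on with
  | empty => simp
  | insert k s hk ih =>
    rw [Finset.prod_insert hk, Finset.prod_insert hk, Finset.card_insert_of_notMem hk]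
    have h1 : a k * ∏ i ∈ s, a i - a' k * ∏ i ∈ s, a' i =
        a k * (∏ i ∈ s, a i - ∏ i ∈ s, a' i) + (a k - a' k) * ∏ i ∈ s, a' i := by ring
    rw [h1]
    apply Ideal.add_mem
    · have := Ideal.mul_mem_mul (ha k (Finset.mem_insert_self k s))
        (ih (fun i hi => ha i (Finset.mem_insert_of_mem hi))
          (fun i hi => ha' i (Finset.mem_insert_of_mem hi))
          (fun i hi => hd i (Finset.mem_insert_of_mem hi)))
      rwa [← pow_succ'] at this
    · have h2 : ∏ i ∈ s, a' i ∈ 𝔞 ^ s.card := by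
        have := Ideal.prod_mem_prod (s := s) (I := fun _ => 𝔞) (x := a')
          (fun i hi => ha' i (Finset.mem_insert_of_mem hi))
        simpa using this
      have := Ideal.mul_mem_mul (hd k (Finset.mem_insert_self k s)) h2
      rw [← pow_add] at this
      have e : 2 + s.card = s.card + 1 + 1 := by omega
      rwa [e] at this

theorem isHomogeneous_mem_pow_idealOfVars {σ R : Type*} [CommRing R] {p : MvPolynomial σ R} {n : ℕ}
    (hp : p.IsHomogeneous n) : p ∈ idealOfVars σ R ^ n := by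
  classical
  rw [mem_pow_idealOfVars_iff]
  intro x hx
  by_contra hne
  have : x.degree ≠ n := fun h => hne (le_of_eq h.symm)
  exact (mem_support_iff.1 hx) (hp.coeff_eq_zero this)

theorem eq_zero_of_isHomogeneous_of_mem_pow {σ R : Type*} [CommRing R] {p : MvPolynomial σ R}
    {n : ℕ} (hp : p.IsHomogeneous n) (hmem : p ∈ idealOfVars σ R ^ (n + 1)) : p = 0 := by
  classical
  rw [mem_pow_idealOfVars_iff] at hmem
  ext x
  rw [coeff_zero]
  by_contra hne
  have h1 := hmem x (mem_support_iff.2 hne)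
  have h2 : x.degree = n := by
    by_contra h
    exact hne (hp.coeff_eq_zero h)
  omega

theorem map_mk_pow_eq_bot {R : Type*} [CommRing R] (I : Ideal R) (n : ℕ) :
    (I.map (Ideal.Quotient.mk (I ^ n))) ^ n = ⊥ := by
  rw [← Ideal.map_pow]
  exact Ideal.map_quotient_self _

theorem isNilpotent_ker_factor_pow {R : Type*} [CommRing R] (I : Ideal R) {n : ℕ}
    (hle : I ^ (n + 1) ≤ I ^ 2) : IsNilpotent (RingHom.ker (Ideal.Quotient.factor hle)) := by
  refine ⟨n + 1, ?_⟩
  rw [Ideal.Quotient.factor_ker, ← Ideal.map_pow, Ideal.zero_eq_bot, eq_bot_iff,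
    Ideal.map_le_iff_le_comap]
  intro p hp
  rw [Ideal.mem_comap, Ideal.mem_bot, Ideal.Quotient.eq_zero_iff_mem]
  rw [← pow_mul] at hp
  refine Ideal.pow_le_pow_right ?_ hp
  nlinarith

end generic

section main

variable {A B : Type u} [CommRing A] [CommRing B] [Algebra A B] (J : Ideal B)

local notation "P" => MvPolynomial (Ideal.Cotangent J) (B ⧸ J)

/-- **EGA 0_IV 19.5.4 (a) ⇒ (b)**: injectivity of `Sym^n(J/J²) → J^n/J^(n+1)` -/
theorem symToGr_injective_of_isAdicFormallySmooth (h : CAlgX.IsAdicFormallySmooth A B J)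
    [Algebra.FormallySmooth A (B ⧸ J)] (ι : Type u) [Fintype ι] [Nonempty ι] :
    Function.Injective (symToGr J ι) := by
  classical
  obtain ⟨δ, hδadd, hδmul, hδA, hδJ⟩ := exists_cotangent_derivation (A := A) J
  have hproj := projective_cotangent J h
  obtain ⟨i, hi⟩ := Module.projective_def'.1 hproj
  have hn : 1 ≤ Fintype.card ι := Fintype.card_pos
  let 𝔳 : Ideal P := idealOfVars J.Cotangent (B ⧸ J)
  let ℓ : (J.Cotangent →₀ B ⧸ J) →ₗ[B] P := linForm J J.Cotangent
  let iB : J.Cotangent →ₗ[B] (J.Cotangent →₀ B ⧸ J) := i.restrictScalars B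
  let rB : (J.Cotangent →₀ B ⧸ J) →ₗ[B] J.Cotangent :=
    (Finsupp.linearCombination (B ⧸ J) id).restrictScalars B
  have hri : rB ∘ₗ iB = LinearMap.id := by
    ext m
    exact LinearMap.congr_fun hi m
  have hℓ𝔳 : ∀ f, ℓ f ∈ 𝔳 := fun f => by
    have := isHomogeneous_mem_pow_idealOfVars (linForm_isHomogeneous J J.Cotangent f)
    rwa [pow_one] at this
  have hℓsmul : ∀ (b : B) (m : J.Cotangent),
      ℓ (iB (b • m)) = C (Ideal.Quotient.mk J b) * ℓ (iB m) := by
    intro b m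
    rw [map_smul, map_smul, Algebra.smul_def]
    rfl
  have hδ0 : δ 0 = 0 := by
    have := hδadd 0 0
    rw [add_zero] at this
    exact left_eq_add.mp this
  have hδ1 : δ 1 = 0 := by
    have := hδmul 1 1
    rw [mul_one, one_smul] at this
    exact left_eq_add.mp this
  -- the first order map
  let ψ₁r : B →+* P ⧸ 𝔳 ^ 2 :=
    { toFun := fun b => Ideal.Quotient.mk (𝔳 ^ 2) (C (Ideal.Quotient.mk J b) + ℓ (iB (δ b)))
      map_one' := by simp [hδ1]
      map_zero' := by simp [hδ0]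
      map_add' := fun a b => by
        rw [hδadd]
        simp only [map_add]
        abel
      map_mul' := fun a b => by
        rw [← map_mul, Ideal.Quotient.eq]
        have e : (C (Ideal.Quotient.mk J (a * b)) + ℓ (iB (δ (a * b)))) -
            (C (Ideal.Quotient.mk J a) + ℓ (iB (δ a))) *
              (C (Ideal.Quotient.mk J b) + ℓ (iB (δ b))) = -(ℓ (iB (δ a)) * ℓ (iB (δ b))) := by
          rw [hδmul, map_add iB, map_add ℓ, hℓsmul, hℓsmul, map_mul, map_mul]
          ring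
        rw [e]
        exact neg_mem (by rw [pow_two]; exact Ideal.mul_mem_mul (hℓ𝔳 _) (hℓ𝔳 _)) }
  let ψ₁ : B →ₐ[A] P ⧸ 𝔳 ^ 2 :=
    { ψ₁r with
      commutes' := fun a => by
        change Ideal.Quotient.mk (𝔳 ^ 2)
          (C (Ideal.Quotient.mk J (algebraMap A B a)) + ℓ (iB (δ (algebraMap A B a)))) = _
        rw [hδA, map_zero, map_zero, add_zero]
        rfl }
  have hψ₁ : ∀ b, ψ₁ b =
      Ideal.Quotient.mk (𝔳 ^ 2) (C (Ideal.Quotient.mk J b) + ℓ (iB (δ b))) := fun b => rfl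
  have hle : 𝔳 ^ (Fintype.card ι + 1) ≤ 𝔳 ^ 2 := Ideal.pow_le_pow_right (by omega)
  let π : (P ⧸ 𝔳 ^ (Fintype.card ι + 1)) →ₐ[A] (P ⧸ 𝔳 ^ 2) := Ideal.Quotient.factorₐ A hle
  have hπmk : ∀ p : P, π (Ideal.Quotient.mk _ p) = Ideal.Quotient.mk _ p := fun p => rfl
  have hπ : Function.Surjective π := Ideal.Quotient.factor_surjective hle
  have hnil : IsNilpotent (RingHom.ker π) := isNilpotent_ker_factor_pow 𝔳 hle
  have hψ₁J : ∃ k : ℕ, ∀ x ∈ J ^ k, ψ₁ x = 0 := by
    refine ⟨2, fun x hx => ?_⟩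
    rw [pow_two] at hx
    induction hx using Submodule.mul_induction_on' with
    | mem_mul_mem y hy z hz =>
      rw [map_mul, hψ₁, hψ₁, Ideal.Quotient.eq_zero_iff_mem.2 hy, Ideal.Quotient.eq_zero_iff_mem.2 hz,
        map_zero, zero_add, zero_add, ← map_mul, Ideal.Quotient.eq_zero_iff_mem, pow_two]
      exact Ideal.mul_mem_mul (hℓ𝔳 _) (hℓ𝔳 _)
    | add y _ z _ hy hz => rw [map_add, hy, hz, add_zero]
  obtain ⟨ψ, hψ, -⟩ := exists_lift_of_surjective_of_isFormallySmoothAdic (⊥ : Ideal A) J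
    ((isAdicFormallySmooth_iff_isFormallySmoothAdic_bot J).1 h)
    (P ⧸ 𝔳 ^ (Fintype.card ι + 1)) (P ⧸ 𝔳 ^ 2) π hπ hnil ⟨1, by simp⟩ ψ₁ hψ₁J
  let q := Ideal.Quotient.mk (𝔳 ^ (Fintype.card ι + 1))
  -- (c0)
  have c0 : ∀ b, ∃ p : P, q p = ψ b ∧
      p - (C (Ideal.Quotient.mk J b) + ℓ (iB (δ b))) ∈ 𝔳 ^ 2 := by
    intro b
    obtain ⟨p, hp⟩ := Ideal.Quotient.mk_surjective (ψ b)
    refine ⟨p, hp, ?_⟩
    have h1 : π (ψ b) = ψ₁ b := congrArg (fun f => f b) hψ
    rw [← hp, hπmk, hψ₁, Ideal.Quotient.eq] at h1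
    exact h1
  have c1 : ∀ x : J, ∃ p : P, q p = ψ x ∧ p - ℓ (iB (J.toCotangent x)) ∈ 𝔳 ^ 2 ∧ p ∈ 𝔳 := by
    intro x
    obtain ⟨p, hp, hp2⟩ := c0 x
    rw [Ideal.Quotient.eq_zero_iff_mem.2 x.2, map_zero, zero_add, hδJ] at hp2
    refine ⟨p, hp, hp2, ?_⟩
    have : p = (p - ℓ (iB (J.toCotangent x))) + ℓ (iB (J.toCotangent x)) := by ring
    rw [this]
    exact Ideal.add_mem _ (Ideal.pow_le_self two_ne_zero hp2) (hℓ𝔳 _)
  have hbot : ∀ p ∈ 𝔳 ^ (Fintype.card ι + 1), q p = 0 := fun p hp =>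
    Ideal.Quotient.eq_zero_iff_mem.2 hp
  -- the comparison on pure tensors
  let θ' : SymmetricPower B ι J.Cotangent →ₗ[B] P :=
    theta J J.Cotangent ι ∘ₗ SymPow.map (ι := ι) iB
  have hθ' : ∀ z, θ' z = theta J J.Cotangent ι (SymPow.map iB z) := fun z => rfl
  have hθ'hom : ∀ z, (θ' z).IsHomogeneous (Fintype.card ι) := fun z =>
    theta_isHomogeneous J J.Cotangent ι _
  have c3 : ∀ x : ι → J, ψ (∏ j, (x j : B)) =
      q (θ' (SymmetricPower.tprod B (fun j => J.toCotangent (x j)))) := by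
    intro x
    choose p hp1 hp2 hp3 using c1
    have e1 : θ' (SymmetricPower.tprod B (fun j => J.toCotangent (x j))) =
        ∏ j, ℓ (iB (J.toCotangent (x j))) := by
      rw [hθ', SymPow.map_tprod, theta_tprod]
    rw [map_prod, e1]
    simp only [← hp1]
    rw [← map_prod, ← sub_eq_zero, ← map_sub]
    apply hbot
    have := prod_sub_prod_mem_pow 𝔳 Finset.univ (fun j => p (x j))
      (fun j => ℓ (iB (J.toCotangent (x j)))) (fun j _ => hp3 _) (fun j _ => hℓ𝔳 _)
      (fun j _ => hp2 _)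
    rwa [Finset.card_univ] at this
  -- span induction
  have key : ∀ z : SymmetricPower B ι J.Cotangent, ∃ (y : B) (hy : y ∈ J ^ Fintype.card ι),
      symToGr J ι z = Submodule.Quotient.mk ⟨y, hy⟩ ∧ ψ y = q (θ' z) := by
    intro z
    have hz : z ∈ (⊤ : Submodule B _) := Submodule.mem_top
    rw [← SymmetricPower.span_tprod_eq_top B ι _] at hz
    induction hz using Submodule.span_induction with
    | mem z hz =>
      obtain ⟨m, rfl⟩ := hz
      have hs : ∀ c, J.toCotangent (Function.surjInv (Ideal.toCotangent_surjective J) c) = c :=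
        Function.surjInv_eq (Ideal.toCotangent_surjective J)
      obtain ⟨x, rfl⟩ : ∃ x : ι → ↥J, (fun j => J.toCotangent (x j)) = m :=
        ⟨fun j => Function.surjInv (Ideal.toCotangent_surjective J) (m j), funext fun j => hs _⟩
      refine ⟨∏ j, (x j : B), ?_, ?_, c3 x⟩
      · simpa using PP16.prod_mem_pow J Finset.univ (fun j => (x j : B)) (fun j _ => (x j).2)
      · rw [symToGr_tprod]
        rfl
    | zero =>
      exact ⟨0, Ideal.zero_mem _, by rw [map_zero]; rfl, by rw [map_zero, map_zero, map_zero]⟩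
    | add z w _ _ hz hw =>
      obtain ⟨y, hy, h1, h2⟩ := hz
      obtain ⟨y', hy', h1', h2'⟩ := hw
      exact ⟨y + y', Ideal.add_mem _ hy hy', by rw [map_add, h1, h1']; rfl,
        by rw [map_add, h2, h2', map_add, map_add]⟩
    | smul b z _ hz =>
      obtain ⟨y, hy, h1, h2⟩ := hz
      refine ⟨b * y, Ideal.mul_mem_left _ _ hy, by rw [map_smul, h1]; rfl, ?_⟩
      obtain ⟨p, hp, hp2⟩ := c0 b
      rw [map_mul, h2, ← hp, ← map_mul, map_smul, Algebra.smul_def, ← sub_eq_zero, ← map_sub]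
      apply hbot
      have e : p * θ' z - algebraMap B P b * θ' z =
          (p - C (Ideal.Quotient.mk J b)) * θ' z := by
        rw [sub_mul]; rfl
      rw [e, pow_succ']
      apply Ideal.mul_mem_mul _ (isHomogeneous_mem_pow_idealOfVars (hθ'hom z))
      have : p - C (Ideal.Quotient.mk J b) =
          (p - (C (Ideal.Quotient.mk J b) + ℓ (iB (δ b)))) + ℓ (iB (δ b)) := by ring
      rw [this]
      exact Ideal.add_mem _ (Ideal.pow_le_self two_ne_zero hp2) (hℓ𝔳 _)
  -- conclusion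
  have hψJ : ∀ y ∈ J ^ (Fintype.card ι + 1), ψ y = 0 := by
    have h1 : J ≤ Ideal.comap ψ (𝔳.map q) := by
      intro x hx
      obtain ⟨p, hp, -, hp3⟩ := c1 ⟨x, hx⟩
      rw [Ideal.mem_comap]
      change ψ x ∈ _
      rw [← hp]
      exact Ideal.mem_map_of_mem _ hp3
    intro y hy
    have h2 := (Ideal.pow_right_mono h1 (Fintype.card ι + 1)).trans (Ideal.le_comap_pow _ _) hy
    have h3 : (𝔳.map q) ^ (Fintype.card ι + 1) = ⊥ := map_mk_pow_eq_bot 𝔳 _
    rw [Ideal.mem_comap, h3, Ideal.mem_bot] at h2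
    exact h2
  rw [injective_iff_map_eq_zero]
  intro z hz
  obtain ⟨y, hy, h1, h2⟩ := key z
  rw [hz] at h1
  have h3 : y ∈ J ^ (Fintype.card ι + 1) := by
    have := (Submodule.Quotient.mk_eq_zero _).1 h1.symm
    exact this
  rw [hψJ y h3] at h2
  have h4 : θ' z = 0 :=
    eq_zero_of_isHomogeneous_of_mem_pow (hθ'hom z) (Ideal.Quotient.eq_zero_iff_mem.1 h2.symm)
  have h5 : SymPow.map (ι := ι) iB z = 0 := by
    apply theta_injective J J.Cotangent ι
    rw [map_zero]
    exact h4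
  exact SymPow.map_injective_of_leftInverse iB rB hri (by rw [h5, map_zero])

end main

end Groth.Agent.Lib.Helper19.SymFS
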