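import Groth.Agent.Lib.Helper19SymBase
import Groth.Agent.Lib.Helper19SymFS1

/-!
# Formally smooth algebras are differentially smooth (EGA IV 16.10.2-type) (helper19)

For `B` formally smooth over `A`, the kernel `I` of `B ⊗_A B → B` satisfies
`Sym^n_B(Ω_{B/A}) ≅ I^n/I^(n+1)`.
-/

set_option autoImplicit false
set_option linter.style.haveILetI false
set_option linter.unusedSectionVars false
universe u

namespace Groth.Agent.Lib.Helper19.SymDiag

open TensorProduct KaehlerDifferential Groth.Agent.Lib.Helper19.SymPow
  Groth.Agent.Lib.Helper19.SymGr Groth.Agent.Lib.Helper19.SymFS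

variable (A B : Type u) [CommRing A] [CommRing B] [Algebra A B]

/-- the multiplication `B ⊗_A B → B` as a ring homomorphism -/
noncomputable def mulHom : B ⊗[A] B →+* B :=
  (Algebra.TensorProduct.lmul' A : B ⊗[A] B →ₐ[A] B).toRingHom

theorem mulHom_algebraMap (b : B) : mulHom A B (algebraMap B (B ⊗[A] B) b) = b := by
  change Algebra.TensorProduct.lmul' A (b ⊗ₜ[A] (1 : B)) = b
  rw [Algebra.TensorProduct.lmul'_apply_tmul, mul_one]

theorem mem_ideal_iff (r : B ⊗[A] B) : r ∈ KaehlerDifferential.ideal A B ↔ mulHom A B r = 0 :=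
  RingHom.mem_ker

theorem sub_mem_ideal (r : B ⊗[A] B) :
    r - algebraMap B (B ⊗[A] B) (mulHom A B r) ∈ KaehlerDifferential.ideal A B := by
  rw [mem_ideal_iff, map_sub, mulHom_algebraMap, sub_self]

theorem smul_cotangent (r : B ⊗[A] B) (x : (KaehlerDifferential.ideal A B).Cotangent) :
    r • x = mulHom A B r • x := by
  obtain ⟨y, rfl⟩ := Ideal.toCotangent_surjective _ x
  rw [← algebraMap_smul (B ⊗[A] B) (mulHom A B r), ← sub_eq_zero, ← sub_smul, ← map_smul,
    Ideal.toCotangent_eq_zero, pow_two]
  exact Ideal.mul_mem_mul (sub_mem_ideal A B r) y.2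

/-- `(B ⊗_A B)/I ≅ B` -/
noncomputable def quotEquiv : B ≃ₐ[B] (B ⊗[A] B) ⧸ KaehlerDifferential.ideal A B :=
  AlgEquiv.ofBijective (Algebra.ofId B ((B ⊗[A] B) ⧸ KaehlerDifferential.ideal A B)) (by
    constructor
    · rw [injective_iff_map_eq_zero]
      intro b hb
      rw [Algebra.ofId_apply] at hb
      change Ideal.Quotient.mk _ (algebraMap B (B ⊗[A] B) b) = 0 at hb
      rw [Ideal.Quotient.eq_zero_iff_mem, mem_ideal_iff, mulHom_algebraMap] at hb
      exact hb
    · intro x
      obtain ⟨r, rfl⟩ := Ideal.Quotient.mk_surjective x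
      refine ⟨mulHom A B r, ?_⟩
      rw [Algebra.ofId_apply]
      change Ideal.Quotient.mk _ (algebraMap B (B ⊗[A] B) (mulHom A B r)) = _
      rw [eq_comm, Ideal.Quotient.eq]
      exact sub_mem_ideal A B r)

theorem isAdicFormallySmooth_diag [Algebra.FormallySmooth A B] :
    CAlgX.IsAdicFormallySmooth B (B ⊗[A] B) (KaehlerDifferential.ideal A B) := by
  intro E _ _ I hI ψ _
  exact Algebra.FormallySmooth.exists_lift I ⟨2, hI⟩ ψ

/-- compatibility of the two `B`-module structures on the graded pieces -/
theorem smul_gr (n : ℕ) (b : B) (g : PP16.grJ (B ⊗[A] B) (KaehlerDifferential.ideal A B) n) :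
    (b • (g : PP16.grI A B n) : PP16.grI A B n) = (algebraMap B (B ⊗[A] B) b • g : PP16.grJ _ _ n) := by
  obtain ⟨x, rfl⟩ := Submodule.Quotient.mk_surjective _ g
  change b • (Submodule.Quotient.mk (⟨x.1, x.2⟩ :
      ↥((KaehlerDifferential.ideal A B ^ n).restrictScalars B)) : PP16.grI A B n) = _
  rw [← Submodule.Quotient.mk_smul, ← Submodule.Quotient.mk_smul]
  change (Submodule.Quotient.mk _ : PP16.grJ _ _ n) = _
  congr 1
  apply Subtype.ext
  change b • x.1 = algebraMap B (B ⊗[A] B) b • x.1
  rw [algebraMap_smul]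

/-- **EGA IV 16.10.2-type**: a formally smooth algebra is differentially smooth -/
theorem isDiffSmooth_of_formallySmooth [Algebra.FormallySmooth A B] : PP16.IsDiffSmooth A B := by
  classical
  refine ⟨inferInstance, fun ι _ => ?_⟩
  rcases isEmpty_or_nonempty ι with hι | hι
  · -- the degree zero part
    have h0 : Fintype.card ι = 0 := Fintype.card_eq_zero
    let b₀ : ι → B := fun i => isEmptyElim i
    let z₀ : PP16.grI A B (Fintype.card ι) := PP16.zetaProd A B b₀
    let t₀ : SymmetricPower B ι (KaehlerDifferential A B) :=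
      SymmetricPower.tprod B (fun i : ι => (isEmptyElim i : KaehlerDifferential A B))
    let φ : SymmetricPower B ι (KaehlerDifferential A B) →ₗ[B] PP16.grI A B (Fintype.card ι) :=
      SymPow.lift (MultilinearMap.constOfIsEmpty B _ z₀) (fun e f => rfl)
    have hφ : ∀ m, φ (SymmetricPower.tprod B m) = z₀ := fun m => by
      rw [lift_tprod]
      rfl
    -- the class of `c • 1`
    have hz₀ : ∀ c : B, c • z₀ = Submodule.Quotient.mk
        ⟨algebraMap B (B ⊗[A] B) c, by
          rw [h0, pow_zero, Ideal.one_eq_top]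
          trivial⟩ := by
      intro c
      change c • PP16.zetaProd A B b₀ = _
      unfold PP16.zetaProd
      rw [← Submodule.Quotient.mk_smul]
      congr 1
      apply Subtype.ext
      change c • ∏ i, ((1 : B) ⊗ₜ[A] b₀ i - b₀ i ⊗ₜ[A] (1 : B)) = _
      rw [Finset.univ_eq_empty, Finset.prod_empty, Algebra.algebraMap_eq_smul_one]
    have hmem : ∀ (r : B ⊗[A] B) (hr : r ∈ (KaehlerDifferential.ideal A B ^ Fintype.card ι).restrictScalars B),
        (Submodule.Quotient.mk ⟨r, hr⟩ : PP16.grI A B (Fintype.card ι)) = 0 ↔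
          r ∈ KaehlerDifferential.ideal A B := by
      intro r hr
      rw [Submodule.Quotient.mk_eq_zero, Submodule.mem_comap, Submodule.restrictScalars_mem]
      change r ∈ KaehlerDifferential.ideal A B ^ (Fintype.card ι + 1) ↔ _
      rw [h0, zero_add, pow_one]
    refine ⟨φ, fun b => ?_, ?_, ?_⟩
    · rw [hφ]
      change PP16.zetaProd A B b₀ = PP16.zetaProd A B b
      rw [Subsingleton.elim b b₀]
    · rw [injective_iff_map_eq_zero]
      intro s hs
      have hs' : s ∈ Submodule.span B {t₀} := by
        have : s ∈ (⊤ : Submodule B _) := trivial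
        rw [← SymmetricPower.span_tprod_eq_top B ι _] at this
        refine Submodule.span_mono ?_ this
        rintro _ ⟨m, rfl⟩
        rw [Set.mem_singleton_iff]
        change SymmetricPower.tprod B m = SymmetricPower.tprod B _
        congr 1
        exact Subsingleton.elim _ _
      obtain ⟨c, rfl⟩ := Submodule.mem_span_singleton.1 hs'
      rw [map_smul, hφ, hz₀, hmem, mem_ideal_iff, mulHom_algebraMap] at hs
      rw [hs, zero_smul]
    · intro g
      obtain ⟨⟨r, hr⟩, rfl⟩ := Submodule.Quotient.mk_surjective _ g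
      refine ⟨mulHom A B r • t₀, ?_⟩
      rw [map_smul, hφ, hz₀, ← sub_eq_zero, ← Submodule.Quotient.mk_sub]
      change (Submodule.Quotient.mk ⟨algebraMap B (B ⊗[A] B) (mulHom A B r) - r, _⟩ :
        PP16.grI A B (Fintype.card ι)) = 0
      rw [hmem, ← neg_sub]
      exact neg_mem (sub_mem_ideal A B r)
  · -- positive degrees
    haveI : Algebra.FormallySmooth B ((B ⊗[A] B) ⧸ KaehlerDifferential.ideal A B) :=
      Algebra.FormallySmooth.of_equiv (quotEquiv A B)
    have hinj := symToGr_injective_of_isAdicFormallySmooth (A := B)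
      (KaehlerDifferential.ideal A B) (isAdicFormallySmooth_diag A B) ι
    have hsurj := symToGr_surjective (KaehlerDifferential.ideal A B) ι
    have hc := compDown_bijective (B := B) (R := B ⊗[A] B) (ι := ι)
      (M := (KaehlerDifferential.ideal A B).Cotangent) (mulHom A B) (smul_cotangent A B)
      (mulHom_algebraMap A B)
    let φ : SymmetricPower B ι (KaehlerDifferential.ideal A B).Cotangent →ₗ[B]
        PP16.grI A B (Fintype.card ι) :=
      { toFun := fun s => symToGr (KaehlerDifferential.ideal A B) ι
          (compDown (B := B) (R := B ⊗[A] B) s)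
        map_add' := fun s t => by
          exact (by rw [map_add, map_add] :
            symToGr (KaehlerDifferential.ideal A B) ι (compDown (B := B) (R := B ⊗[A] B) (s + t)) =
              symToGr (KaehlerDifferential.ideal A B) ι (compDown (B := B) (R := B ⊗[A] B) s) +
              symToGr (KaehlerDifferential.ideal A B) ι (compDown (B := B) (R := B ⊗[A] B) t))
        map_smul' := fun b s => by
          have h1 : symToGr (KaehlerDifferential.ideal A B) ι
              (compDown (B := B) (R := B ⊗[A] B) (b • s)) =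
              algebraMap B (B ⊗[A] B) b •
                symToGr (KaehlerDifferential.ideal A B) ι
                  (compDown (B := B) (R := B ⊗[A] B) s) := by
            rw [compDown_smul, map_smul]
          exact h1.trans (smul_gr A B _ b _).symm }
    refine ⟨φ, fun b => ?_, ?_⟩
    · change symToGr (KaehlerDifferential.ideal A B) ι (compDown (B := B) (R := B ⊗[A] B)
        (M := (KaehlerDifferential.ideal A B).Cotangent)
        (SymmetricPower.tprod B fun i => (KaehlerDifferential.ideal A B).toCotangent
          ⟨(1 : B) ⊗ₜ[A] b i - b i ⊗ₜ[A] (1 : B),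
            KaehlerDifferential.one_smul_sub_smul_one_mem_ideal A (b i)⟩)) = _
      rw [compDown_tprod]
      exact symToGr_tprod (KaehlerDifferential.ideal A B) ι
        (fun i => ⟨(1 : B) ⊗ₜ[A] b i - b i ⊗ₜ[A] (1 : B),
          KaehlerDifferential.one_smul_sub_smul_one_mem_ideal A (b i)⟩)
    · exact Function.Bijective.comp (g := symToGr (KaehlerDifferential.ideal A B) ι)
        ⟨hinj, hsurj⟩ hc

end Groth.Agent.Lib.Helper19.SymDiag
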