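import Groth.Agent.Lib.Helper19SqZeroDer

/-!
# Kähler differentials of an algebra formally smooth for a `J`-adic topology (helper19)

* `projective_kaehler_tensor`: `Ω_{B/A} ⊗_B B/J` is a projective `B/J`-module;
* `exists_retraction_mapBaseChange`: `Ω_{A/Λ} ⊗_A B/J → Ω_{B/Λ} ⊗_B B/J` has a retraction.
-/

set_option autoImplicit false
set_option linter.style.haveILetI false
universe u

namespace Groth.Agent.Lib.Helper19.SymFS

open Groth.Agent.Lib.Helper19.SqZeroDer TensorProduct KaehlerDifferential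

variable {A B : Type u} [CommRing A] [CommRing B] [Algebra A B] (J : Ideal B)

theorem mk_smul_one_tmul {M : Type*} [AddCommGroup M] [Module B M] (b : B) (m : M) :
    (Ideal.Quotient.mk J b) • ((1 : B ⧸ J) ⊗ₜ[B] m) = (1 : B ⧸ J) ⊗ₜ[B] (b • m) := by
  rw [TensorProduct.smul_tmul', smul_eq_mul, mul_one, ← Ideal.Quotient.algebraMap_eq,
    Algebra.algebraMap_eq_smul_one, TensorProduct.smul_tmul]

/-- **EGA 0_IV 20.4.9-type**: `Ω_{B/A} ⊗_B B/J` is projective over `B/J` when `B` is formally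
smooth over `A` for the `J`-adic topology -/
theorem projective_kaehler_tensor (h : CAlgX.IsAdicFormallySmooth A B J) :
    Module.Projective (B ⧸ J) ((B ⧸ J) ⊗[B] Ω[B⁄A]) := by
  rw [Module.projective_def']
  let g : (((B ⧸ J) ⊗[B] Ω[B⁄A]) →₀ B ⧸ J) →ₗ[B ⧸ J] (B ⧸ J) ⊗[B] Ω[B⁄A] :=
    Finsupp.linearCombination (B ⧸ J) id
  have hg : Function.Surjective g :=
    Finsupp.linearCombination_surjective _ Function.surjective_id
  obtain ⟨δX, hXadd, hXmul, hXg, hXA⟩ := exists_derivation_core J h (Ideal.Quotient.mk J)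
    ⟨1, fun x hx => by rw [pow_one] at hx; exact Ideal.Quotient.eq_zero_iff_mem.2 hx⟩ g hg
    (fun b => (1 : B ⧸ J) ⊗ₜ[B] D A B b)
    (fun a b => by rw [map_add, TensorProduct.tmul_add])
    (fun a b => by
      rw [Derivation.leibniz, TensorProduct.tmul_add, mk_smul_one_tmul, mk_smul_one_tmul])
    (fun _ : A => (0 : ((B ⧸ J) ⊗[B] Ω[B⁄A]) →₀ B ⧸ J)) (fun _ _ => by simp) (fun _ _ => by simp)
    (fun a => by rw [map_zero, Derivation.map_algebraMap, TensorProduct.tmul_zero])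
  have hsmul : ∀ (b : B) (x : ((B ⧸ J) ⊗[B] Ω[B⁄A]) →₀ B ⧸ J),
      (Ideal.Quotient.mk J b) • x = b • x := fun b x => by
    rw [← Ideal.Quotient.algebraMap_eq, algebraMap_smul]
  let dX₀ : B →ₗ[A] (((B ⧸ J) ⊗[B] Ω[B⁄A]) →₀ B ⧸ J) :=
    { toFun := δX
      map_add' := hXadd
      map_smul' := fun a b => by
        rw [Algebra.smul_def, hXmul, hXA, smul_zero, add_zero, hsmul, algebraMap_smul,
          RingHom.id_apply] }
  let dX : Derivation A B (((B ⧸ J) ⊗[B] Ω[B⁄A]) →₀ B ⧸ J) :=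
    Derivation.mk' dX₀ (fun a b => by
      change δX (a * b) = a • δX b + b • δX a
      rw [hXmul, hsmul, hsmul])
  have hdX : ∀ b, dX b = δX b := fun b => rfl
  refine ⟨LinearMap.liftBaseChange (B ⧸ J) dX.liftKaehlerDifferential, ?_⟩
  apply LinearMap.restrictScalars_injective B
  apply TensorProduct.ext'
  intro c ω
  obtain ⟨c, rfl⟩ := Ideal.Quotient.mk_surjective c
  have h1 : (Ideal.Quotient.mk J c) ⊗ₜ[B] ω = c • ((1 : B ⧸ J) ⊗ₜ[B] ω) := by
    rw [TensorProduct.smul_tmul', ← Ideal.Quotient.algebraMap_eq, Algebra.algebraMap_eq_smul_one]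
  rw [h1, map_smul, map_smul]
  clear h1
  congr 1
  simp only [LinearMap.coe_restrictScalars, LinearMap.comp_apply, LinearMap.liftBaseChange_tmul,
    one_smul, LinearMap.id_apply]
  have hω : ω ∈ Submodule.span B (Set.range (D A B)) := by
    rw [span_range_derivation]; trivial
  induction hω using Submodule.span_induction with
  | mem x hx =>
    obtain ⟨b, rfl⟩ := hx
    rw [Derivation.liftKaehlerDifferential_comp_D, hdX, hXg]
  | zero => simp
  | add x y _ _ hx hy => rw [map_add, map_add, hx, hy, TensorProduct.tmul_add]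
  | smul b x _ hx =>
    rw [map_smul, ← hsmul, map_smul, hx, mk_smul_one_tmul]

section retraction

variable {Λ : Type*} [CommRing Λ] [Algebra Λ A] [Algebra Λ B] [IsScalarTower Λ A B]

/-- **EGA 0_IV 20.5.7-type**: for `B` formally smooth over `A` for the `J`-adic topology, the map
`Ω_{A/Λ} ⊗_A B/J → Ω_{B/Λ} ⊗_B B/J` has a retraction -/
theorem exists_retraction_mapBaseChange (h : CAlgX.IsAdicFormallySmooth A B J) :
    ∃ ρ : (B ⧸ J) ⊗[B] Ω[B⁄Λ] →ₗ[B ⧸ J] (B ⧸ J) ⊗[B] (B ⊗[A] Ω[A⁄Λ]),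
      ∀ v, ρ ((mapBaseChange Λ A B).lTensor (B ⧸ J) v) = v := by
  let g : (B ⧸ J) ⊗[B] (B ⊗[A] Ω[A⁄Λ]) →ₗ[B ⧸ J] PUnit.{u + 1} := 0
  have hg : Function.Surjective g := fun y => ⟨0, Subsingleton.elim _ _⟩
  have hsmul : ∀ (b : B) (x : (B ⧸ J) ⊗[B] (B ⊗[A] Ω[A⁄Λ])),
      (Ideal.Quotient.mk J b) • x = b • x := fun b x => by
    rw [← Ideal.Quotient.algebraMap_eq, algebraMap_smul]
  obtain ⟨δX, hXadd, hXmul, -, hXA⟩ := exists_derivation_core J h (Ideal.Quotient.mk J)
    ⟨1, fun x hx => by rw [pow_one] at hx; exact Ideal.Quotient.eq_zero_iff_mem.2 hx⟩ g hg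
    (fun _ => PUnit.unit) (fun _ _ => Subsingleton.elim _ _) (fun _ _ => Subsingleton.elim _ _)
    (fun a : A => (1 : B ⧸ J) ⊗ₜ[B] ((1 : B) ⊗ₜ[A] D Λ A a))
    (fun a b => by rw [map_add, TensorProduct.tmul_add, TensorProduct.tmul_add])
    (fun a b => by
      have e : ∀ (a : A) (ω : Ω[A⁄Λ]), (Ideal.Quotient.mk J (algebraMap A B a)) •
          ((1 : B ⧸ J) ⊗ₜ[B] ((1 : B) ⊗ₜ[A] ω)) = (1 : B ⧸ J) ⊗ₜ[B] ((1 : B) ⊗ₜ[A] (a • ω)) := by
        intro a ω
        rw [mk_smul_one_tmul, algebraMap_smul]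
        congr 1
        exact (TensorProduct.tmul_smul a (1 : B) ω).symm
      rw [Derivation.leibniz, TensorProduct.tmul_add, TensorProduct.tmul_add, e, e])
    (fun a => Subsingleton.elim _ _)
  let dX₀ : B →ₗ[Λ] (B ⧸ J) ⊗[B] (B ⊗[A] Ω[A⁄Λ]) :=
    { toFun := δX
      map_add' := hXadd
      map_smul' := fun l b => by
        rw [Algebra.smul_def, hXmul, IsScalarTower.algebraMap_apply Λ A B, hXA,
          Derivation.map_algebraMap, TensorProduct.tmul_zero, TensorProduct.tmul_zero, smul_zero,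
          add_zero, ← IsScalarTower.algebraMap_apply Λ A B, Ideal.Quotient.mk_algebraMap,
          algebraMap_smul, RingHom.id_apply] }
  let dX : Derivation Λ B ((B ⧸ J) ⊗[B] (B ⊗[A] Ω[A⁄Λ])) :=
    Derivation.mk' dX₀ (fun a b => by
      change δX (a * b) = a • δX b + b • δX a
      rw [hXmul, hsmul, hsmul])
  have hdX : ∀ b, dX b = δX b := fun b => rfl
  let ρ : (B ⧸ J) ⊗[B] Ω[B⁄Λ] →ₗ[B ⧸ J] (B ⧸ J) ⊗[B] (B ⊗[A] Ω[A⁄Λ]) :=
    LinearMap.liftBaseChange (B ⧸ J) dX.liftKaehlerDifferential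
  have key : (ρ.restrictScalars B) ∘ₗ ((mapBaseChange Λ A B).lTensor (B ⧸ J)) = LinearMap.id := by
    apply TensorProduct.ext'
    intro c y
    obtain ⟨c, rfl⟩ := Ideal.Quotient.mk_surjective c
    have h1 : ∀ z : B ⊗[A] Ω[A⁄Λ],
        (Ideal.Quotient.mk J c) ⊗ₜ[B] z = c • ((1 : B ⧸ J) ⊗ₜ[B] z) := fun z => by
      rw [TensorProduct.smul_tmul', ← Ideal.Quotient.algebraMap_eq,
        Algebra.algebraMap_eq_smul_one]
    rw [h1, map_smul, LinearMap.id_apply]
    congr 1
    simp only [LinearMap.comp_apply, LinearMap.coe_restrictScalars, LinearMap.lTensor_tmul, ρ,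
      LinearMap.liftBaseChange_tmul, one_smul]
    induction y using TensorProduct.induction_on with
    | zero => simp
    | add y z hy hz => rw [map_add, map_add, hy, hz, TensorProduct.tmul_add]
    | tmul b ω =>
      have hω : ω ∈ Submodule.span A (Set.range (D Λ A)) := by
        rw [span_range_derivation]; trivial
      induction hω using Submodule.span_induction generalizing b with
      | mem x hx =>
        obtain ⟨a, rfl⟩ := hx
        rw [mapBaseChange_tmul, map_D, map_smul, Derivation.liftKaehlerDifferential_comp_D, hdX,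
          hXA, ← hsmul, mk_smul_one_tmul, TensorProduct.smul_tmul', smul_eq_mul, mul_one]
      | zero => simp
      | add x y _ _ hx hy =>
        rw [TensorProduct.tmul_add, map_add, map_add, hx, hy, TensorProduct.tmul_add]
      | smul a x _ hx =>
        rw [← TensorProduct.smul_tmul]
        exact hx (a • b)
  exact ⟨ρ, fun v => LinearMap.congr_fun key v⟩

end retraction

end Groth.Agent.Lib.Helper19.SymFS
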