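import Groth.Agent.Lib.Helper19SymRed
import Groth.Agent.Lib.Helper19SymKaehler

/-!
# Extending derivations using a retraction of `Ω_{A/Λ} ⊗ B/J → Ω_{B/Λ} ⊗ B/J` (helper19)

* `exists_extension_of_retraction`: if `Ω_{A/Λ} ⊗_A B/J → Ω_{B/Λ} ⊗_B B/J` has a `B`-linear
  retraction, then every `Λ`-derivation of `A` into a `B`-module killed by `J` extends to `B`.
* `isAdicFormallySmooth_of_retraction`: EGA 0_IV 20.7.2/22.2.x-type Jacobian criterion.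
-/

set_option autoImplicit false
set_option linter.style.haveILetI false
universe u

namespace Groth.Agent.Lib.Helper19.SymFS

open TensorProduct KaehlerDifferential

variable {A B : Type u} [CommRing A] [CommRing B] [Algebra A B] (J : Ideal B)

section

variable {Λ : Type*} [CommRing Λ] [Algebra Λ A] [Algebra Λ B] [IsScalarTower Λ A B]

theorem exists_extension_of_retraction
    (ρ : (B ⧸ J) ⊗[B] Ω[B⁄Λ] →ₗ[B] (B ⧸ J) ⊗[B] (B ⊗[A] Ω[A⁄Λ]))
    (hρ : ∀ v, ρ ((mapBaseChange Λ A B).lTensor (B ⧸ J) v) = v)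
    (Y : Type*) [AddCommGroup Y] [Module B Y] (hY : ∀ x ∈ J, ∀ y : Y, x • y = 0)
    (δ : A → Y) (hadd : ∀ a a', δ (a + a') = δ a + δ a')
    (hmul : ∀ a a', δ (a * a') = algebraMap A B a • δ a' + algebraMap A B a' • δ a)
    (hΛ : ∀ l : Λ, δ (algebraMap Λ A l) = 0) :
    ∃ D : B → Y, (∀ b b', D (b + b') = D b + D b') ∧
      (∀ b b', D (b * b') = b • D b' + b' • D b) ∧ ∀ a, D (algebraMap A B a) = δ a := by
  letI : Module A Y := Module.compHom Y (algebraMap A B)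
  have hA : ∀ (a : A) (y : Y), a • y = algebraMap A B a • y := fun _ _ => rfl
  haveI : IsScalarTower A B Y := ⟨fun a b y => by
    rw [hA, Algebra.smul_def, mul_smul]⟩
  letI : Module Λ Y := Module.compHom Y (algebraMap Λ A)
  have hL : ∀ (l : Λ) (y : Y), l • y = algebraMap Λ A l • y := fun _ _ => rfl
  haveI : IsScalarTower Λ A Y := ⟨fun l a y => by
    rw [hL, Algebra.smul_def, mul_smul]⟩
  let d₀ : A →ₗ[Λ] Y :=
    { toFun := δ
      map_add' := hadd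
      map_smul' := fun l a => by
        rw [Algebra.smul_def, hmul, hΛ, smul_zero, add_zero, RingHom.id_apply, hL, hA] }
  let d : Derivation Λ A Y := Derivation.mk' d₀ (fun a a' => by
    change δ (a * a') = a • δ a' + a' • δ a
    rw [hmul, hA, hA])
  have hd : ∀ a, d a = δ a := fun a => rfl
  let ℓ₁ : B ⊗[A] Ω[A⁄Λ] →ₗ[B] Y := LinearMap.liftBaseChange B d.liftKaehlerDifferential
  let ℓ₂ : (B ⧸ J) ⊗[B] (B ⊗[A] Ω[A⁄Λ]) →ₗ[B] Y :=
    TensorProduct.lift (Submodule.liftQ J (LinearMap.toSpanSingleton B _ ℓ₁) (fun x hx => by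
      rw [LinearMap.mem_ker, LinearMap.toSpanSingleton_apply]
      refine LinearMap.ext fun m => ?_
      rw [LinearMap.smul_apply, hY x hx, LinearMap.zero_apply]))
  have hℓ₂ : ∀ m, ℓ₂ ((1 : B ⧸ J) ⊗ₜ[B] m) = ℓ₁ m := fun m => by
    change ℓ₂ ((Submodule.Quotient.mk (1 : B) : B ⧸ J) ⊗ₜ[B] m) = ℓ₁ m
    rw [TensorProduct.lift.tmul, Submodule.liftQ_apply, LinearMap.toSpanSingleton_apply, one_smul]
  let Θ : (B ⧸ J) ⊗[B] Ω[B⁄Λ] →ₗ[B] Y := ℓ₂ ∘ₗ ρ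
  refine ⟨fun b => Θ ((1 : B ⧸ J) ⊗ₜ[B] D Λ B b), fun b b' => ?_, fun b b' => ?_, fun a => ?_⟩
  · simp only [map_add, TensorProduct.tmul_add]
  · simp only [Derivation.leibniz, TensorProduct.tmul_add, TensorProduct.tmul_smul, map_add,
      map_smul]
  · have key : (mapBaseChange Λ A B).lTensor (B ⧸ J)
        ((1 : B ⧸ J) ⊗ₜ[B] ((1 : B) ⊗ₜ[A] D Λ A a)) =
        (1 : B ⧸ J) ⊗ₜ[B] D Λ B (algebraMap A B a) := by
      rw [LinearMap.lTensor_tmul, mapBaseChange_tmul, one_smul, map_D]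
    change Θ _ = _
    rw [← key, LinearMap.comp_apply, hρ, hℓ₂, LinearMap.liftBaseChange_tmul, one_smul,
      Derivation.liftKaehlerDifferential_comp_D, hd]

/-- from injectivity of `Ω_{A/Λ} ⊗ B/J → Ω_{B/Λ} ⊗ B/J` and projectivity of `Ω_{B/A} ⊗ B/J`
we get a retraction -/
theorem exists_retraction_of_injective_of_projective
    (hinj : Function.Injective ((mapBaseChange Λ A B).lTensor (B ⧸ J)))
    (hproj : Module.Projective (B ⧸ J) ((B ⧸ J) ⊗[B] Ω[B⁄A])) :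
    ∃ ρ : (B ⧸ J) ⊗[B] Ω[B⁄Λ] →ₗ[B] (B ⧸ J) ⊗[B] (B ⊗[A] Ω[A⁄Λ]),
      ∀ v, ρ ((mapBaseChange Λ A B).lTensor (B ⧸ J) v) = v := by
  let f : (B ⧸ J) ⊗[B] (B ⊗[A] Ω[A⁄Λ]) →ₗ[B ⧸ J] (B ⧸ J) ⊗[B] Ω[B⁄Λ] :=
    (mapBaseChange Λ A B).baseChange (B ⧸ J)
  let g : (B ⧸ J) ⊗[B] Ω[B⁄Λ] →ₗ[B ⧸ J] (B ⧸ J) ⊗[B] Ω[B⁄A] :=
    (KaehlerDifferential.map Λ A B B).baseChange (B ⧸ J)
  have hfg : Function.Exact f g :=
    lTensor_exact (B ⧸ J) (KaehlerDifferential.exact_mapBaseChange_map Λ A B)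
      (KaehlerDifferential.map_surjective Λ A B)
  have hg : Function.Surjective g :=
    LinearMap.lTensor_surjective (B ⧸ J) (KaehlerDifferential.map_surjective Λ A B)
  have hf : Function.Injective f := hinj
  obtain ⟨s, hs⟩ := Module.projective_lifting_property g LinearMap.id hg
  have hiff : (∃ l, g ∘ₗ l = LinearMap.id) ↔ (∃ l, l ∘ₗ f = LinearMap.id) :=
    (hfg.split_tfae hf hg).out 0 1
  obtain ⟨l, hl⟩ := hiff.1 ⟨s, hs⟩
  exact ⟨l.restrictScalars B, fun v => LinearMap.congr_fun hl v⟩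

end

section

variable {Λ : Type u} [CommRing Λ] [Algebra Λ A] [Algebra Λ B] [IsScalarTower Λ A B]

/-- **Jacobian criterion** (EGA 0_IV 20.7.2/22.2.x-type): `B` formally smooth over `Λ` and
`Ω_{A/Λ} ⊗ B/J → Ω_{B/Λ} ⊗ B/J` has a retraction, then `B` is formally smooth over `A`. -/
theorem isAdicFormallySmooth_of_retraction (hΛ : CAlgX.IsAdicFormallySmooth Λ B J)
    (ρ : (B ⧸ J) ⊗[B] Ω[B⁄Λ] →ₗ[B] (B ⧸ J) ⊗[B] (B ⊗[A] Ω[A⁄Λ]))
    (hρ : ∀ v, ρ ((mapBaseChange Λ A B).lTensor (B ⧸ J) v) = v) :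
    CAlgX.IsAdicFormallySmooth A B J :=
  isAdicFormallySmooth_of_extension J hΛ (fun Y _ _ hY δ hadd hmul hl =>
    exists_extension_of_retraction J ρ hρ Y hY δ hadd hmul hl)

end

end Groth.Agent.Lib.Helper19.SymFS
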