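import Mathlib

/-!
# A subring filling up a ring modulo a nilpotent ideal (helper19)
-/

set_option autoImplicit false

namespace Groth.Agent.Lib.Helper19.SymFS

/-- If `R = S + 𝔞` and `𝔞 ⊆ S + 𝔞²` for a subring `S` and a nilpotent ideal `𝔞`, then `S = R`. -/
theorem subring_eq_top_of_nilpotent {R : Type*} [CommRing R] (S : Subring R) (𝔞 : Ideal R) (N : ℕ)
    (h𝔞 : 𝔞 ^ N = ⊥) (h1 : ∀ a : R, ∃ s ∈ S, a - s ∈ 𝔞)
    (h2 : ∀ a ∈ 𝔞, ∃ s ∈ S, a - s ∈ 𝔞 ^ 2) : S = ⊤ := by
  -- step: every element of `𝔞^t` is in `S + 𝔞^(t+1)`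
  have step : ∀ (t : ℕ) (a : R), a ∈ 𝔞 ^ t → ∃ s ∈ S, a - s ∈ 𝔞 ^ (t + 1) := by
    intro t a ha
    induction ha using Submodule.pow_induction_on_left' with
    | algebraMap r =>
      obtain ⟨s, hs, h⟩ := h1 r
      exact ⟨s, hs, by simpa using h⟩
    | add x y t hx hy ihx ihy =>
      obtain ⟨s, hs, h⟩ := ihx
      obtain ⟨s', hs', h'⟩ := ihy
      refine ⟨s + s', S.add_mem hs hs', ?_⟩
      have : x + y - (s + s') = (x - s) + (y - s') := by ring
      rw [this]
      exact Ideal.add_mem _ h h'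
    | mem_mul m hm t x hx ih =>
      obtain ⟨s, hs, h⟩ := ih
      obtain ⟨sm, hsm, hm'⟩ := h2 m hm
      refine ⟨sm * s, S.mul_mem hsm hs, ?_⟩
      have e : m * x - sm * s = m * (x - s) + (m - sm) * s := by ring
      have hs𝔞 : s ∈ 𝔞 ^ t := by
        have : s = x - (x - s) := by ring
        rw [this]
        exact Ideal.sub_mem _ hx (Ideal.pow_le_pow_right (Nat.le_succ t) h)
      rw [e]
      apply Ideal.add_mem
      · have := Ideal.mul_mem_mul hm h
        rwa [← pow_succ'] at this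
      · have := Ideal.mul_mem_mul hm' hs𝔞
        rw [← pow_add] at this
        have e2 : 2 + t = t + 1 + 1 := by omega
        rwa [e2] at this
  -- downward induction
  have down : ∀ (k t : ℕ), t + k = N → ∀ a ∈ 𝔞 ^ t, a ∈ S := by
    intro k
    induction k with
    | zero =>
      intro t ht a ha
      rw [add_zero] at ht
      rw [ht, h𝔞, Ideal.mem_bot] at ha
      rw [ha]
      exact S.zero_mem
    | succ k ih =>
      intro t ht a ha
      obtain ⟨s, hs, h⟩ := step t a ha
      have h3 := ih (t + 1) (by omega) _ h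
      have : a = s + (a - s) := by ring
      rw [this]
      exact S.add_mem hs h3
  rw [eq_top_iff]
  intro a _
  exact down N 0 (by omega) a (by simp)

end Groth.Agent.Lib.Helper19.SymFS
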