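import Groth.Agent.Lib.Helper19SymFS1
import Groth.Agent.Lib.Helper19SymNak

/-!
# Structure of `B/J^N` when `Sym^n(J/J²) ≅ J^n/J^(n+1)` (helper19)

Towards EGA 0_IV 19.5.4, (b) ⇒ (a): `B/J^N` is a quotient of the polynomial ring on `J/J²` over
`B/J` by the kernel of the projector induced by a splitting of `J/J²` plus `𝔳^N`.
-/

set_option autoImplicit false
set_option linter.style.haveILetI false
set_option linter.unusedSectionVars false
universe u

namespace Groth.Agent.Lib.Helper19.SymFS

open Groth.Agent.Lib.Helper19.SymPow Groth.Agent.Lib.Helper19.SymPoly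
  Groth.Agent.Lib.Helper19.SymGr MvPolynomial

section structure_

variable {B : Type u} [CommRing B] (J : Ideal B) (N : ℕ)

local notation "P" => MvPolynomial (Ideal.Cotangent J) (B ⧸ J)
local notation "Jb" => Ideal.map (Ideal.Quotient.mk (J ^ N)) J
local notation "rr" => Finsupp.linearCombination (B ⧸ J) (id : Ideal.Cotangent J → Ideal.Cotangent J)

variable (σ : (B ⧸ J) →+* (B ⧸ J ^ N)) (x : J.Cotangent → J)
  (i : J.Cotangent →ₗ[B ⧸ J] (J.Cotangent →₀ B ⧸ J))

/-- the ring map `P → B/J^N` attached to a section and lifts of the variables -/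
noncomputable def beta0 : P →+* (B ⧸ J ^ N) :=
  eval₂Hom σ (fun k => Ideal.Quotient.mk (J ^ N) (x k : B))

/-- the projector of `P` induced by a splitting -/
noncomputable def Phi : P →ₐ[B ⧸ J] P := aeval (fun k => linForm J J.Cotangent (i k))

/-- the corrected ring map `P → B/J^N` -/
noncomputable def beta : P →+* (B ⧸ J ^ N) := (beta0 J N σ x).comp (Phi J i : P →+* P)

variable (hN : 1 ≤ N)

include hN in
theorem pow_le_self' : J ^ N ≤ J := Ideal.pow_le_self (by omega)

variable (hσ : ∀ c, Ideal.Quotient.factor (pow_le_self' J N hN) (σ c) = c)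
  (hx : ∀ k, J.toCotangent (x k) = k)
  (hi : Finsupp.linearCombination (B ⧸ J) (id : J.Cotangent → J.Cotangent) ∘ₗ i = LinearMap.id)

include hN in
theorem mem_Jb_iff (b' : B ⧸ J ^ N) :
    b' ∈ Jb ↔ Ideal.Quotient.factor (pow_le_self' J N hN) b' = 0 := by
  rw [← RingHom.mem_ker, Ideal.Quotient.factor_ker]

include hσ in
theorem sigma_sub_mk_mem (b : B) :
    σ (Ideal.Quotient.mk J b) - Ideal.Quotient.mk (J ^ N) b ∈ Jb := by
  rw [mem_Jb_iff J N hN, map_sub, hσ, Ideal.Quotient.factor_mk, sub_self]

theorem mk_sub_mk_mem_sq (y y' : J) (h : J.toCotangent y = J.toCotangent y') :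
    Ideal.Quotient.mk (J ^ N) (y : B) - Ideal.Quotient.mk (J ^ N) (y' : B) ∈ Jb ^ 2 := by
  rw [Ideal.toCotangent_eq] at h
  rw [← map_sub, ← Ideal.map_pow]
  exact Ideal.mem_map_of_mem _ h

theorem mk_mem_Jb (y : J) : Ideal.Quotient.mk (J ^ N) (y : B) ∈ Jb :=
  Ideal.mem_map_of_mem _ y.2

theorem beta0_C (c : B ⧸ J) : beta0 J N σ x (C c) = σ c := by
  simp [beta0]

theorem beta0_X (k : J.Cotangent) :
    beta0 J N σ x (X k) = Ideal.Quotient.mk (J ^ N) (x k : B) := by
  simp [beta0]

include hN hσ hx in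
theorem exists_beta0_linForm (f : J.Cotangent →₀ B ⧸ J) :
    ∃ y : J, J.toCotangent y = rr f ∧
      beta0 J N σ x (linForm J J.Cotangent f) - Ideal.Quotient.mk (J ^ N) (y : B) ∈ Jb ^ 2 := by
  induction f using Finsupp.induction_linear with
  | zero => exact ⟨0, by simp, by simp⟩
  | add f g hf hg =>
    obtain ⟨y, hy, h⟩ := hf
    obtain ⟨y', hy', h'⟩ := hg
    refine ⟨y + y', by rw [map_add, map_add, hy, hy'], ?_⟩
    have e : beta0 J N σ x (linForm J J.Cotangent (f + g)) -
        Ideal.Quotient.mk (J ^ N) ((y + y' : J) : B) =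
        (beta0 J N σ x (linForm J J.Cotangent f) - Ideal.Quotient.mk (J ^ N) (y : B)) +
        (beta0 J N σ x (linForm J J.Cotangent g) - Ideal.Quotient.mk (J ^ N) (y' : B)) := by
      rw [map_add, map_add, Submodule.coe_add, map_add]
      ring
    rw [e]
    exact Ideal.add_mem _ h h'
  | single k c =>
    obtain ⟨b, rfl⟩ := Ideal.Quotient.mk_surjective c
    refine ⟨b • x k, ?_, ?_⟩
    · rw [map_smul, hx, Finsupp.linearCombination_single, id, ← Ideal.Quotient.algebraMap_eq,
        algebraMap_smul]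
    · rw [linForm_single, map_mul, beta0_C, beta0_X]
      have e : σ (Ideal.Quotient.mk J b) * Ideal.Quotient.mk (J ^ N) (x k : B) -
          Ideal.Quotient.mk (J ^ N) ((b • x k : J) : B) =
          (σ (Ideal.Quotient.mk J b) - Ideal.Quotient.mk (J ^ N) b) *
            Ideal.Quotient.mk (J ^ N) (x k : B) := by
        rw [Submodule.coe_smul, smul_eq_mul, map_mul]
        ring
      rw [e, pow_two]
      exact Ideal.mul_mem_mul (sigma_sub_mk_mem J N σ hN hσ b) (mk_mem_Jb J N _)

include hN hσ hx in
theorem beta0_linForm_sub_mem (f : J.Cotangent →₀ B ⧸ J) (y : J) (hy : J.toCotangent y = rr f) :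
    beta0 J N σ x (linForm J J.Cotangent f) - Ideal.Quotient.mk (J ^ N) (y : B) ∈ Jb ^ 2 := by
  obtain ⟨y', hy', h⟩ := exists_beta0_linForm J N σ x hN hσ hx f
  have e : beta0 J N σ x (linForm J J.Cotangent f) - Ideal.Quotient.mk (J ^ N) (y : B) =
      (beta0 J N σ x (linForm J J.Cotangent f) - Ideal.Quotient.mk (J ^ N) (y' : B)) +
      (Ideal.Quotient.mk (J ^ N) (y' : B) - Ideal.Quotient.mk (J ^ N) (y : B)) := by ring
  rw [e]
  exact Ideal.add_mem _ h (mk_sub_mk_mem_sq J N y' y (by rw [hy, hy']))

include hN hσ hx in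
theorem beta0_linForm_mem (f : J.Cotangent →₀ B ⧸ J) :
    beta0 J N σ x (linForm J J.Cotangent f) ∈ Jb := by
  obtain ⟨y, -, h⟩ := exists_beta0_linForm J N σ x hN hσ hx f
  have e : beta0 J N σ x (linForm J J.Cotangent f) =
      (beta0 J N σ x (linForm J J.Cotangent f) - Ideal.Quotient.mk (J ^ N) (y : B)) +
      Ideal.Quotient.mk (J ^ N) (y : B) := by ring
  rw [e]
  exact Ideal.add_mem _ (Ideal.pow_le_self two_ne_zero h) (mk_mem_Jb J N y)

/-! ### the projector `Φ` -/

theorem Phi_C (c : B ⧸ J) : Phi J i (C c) = C c := by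
  simp [Phi]

theorem Phi_X (k : J.Cotangent) : Phi J i (X k) = linForm J J.Cotangent (i k) := by
  simp [Phi]

theorem linForm_smul' (c : B ⧸ J) (f : J.Cotangent →₀ B ⧸ J) :
    linForm J J.Cotangent (c • f) = C c * linForm J J.Cotangent f := by
  rw [linForm_apply, map_smul, ← linForm_apply, MvPolynomial.smul_eq_C_mul]

theorem Phi_linForm (f : J.Cotangent →₀ B ⧸ J) :
    Phi J i (linForm J J.Cotangent f) = linForm J J.Cotangent (i (rr f)) := by
  induction f using Finsupp.induction_linear with
  | zero => simp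
  | add f g hf hg => rw [map_add, map_add, hf, hg, map_add, map_add, map_add]
  | single k c =>
    rw [linForm_single, map_mul, Phi_C, Phi_X, Finsupp.linearCombination_single, id, map_smul,
      linForm_smul']

include hi in
theorem rr_i (m : J.Cotangent) : rr (i m) = m := LinearMap.congr_fun hi m

include hi in
theorem Phi_Phi (p : P) : Phi J i (Phi J i p) = Phi J i p := by
  have : (Phi J i).comp (Phi J i) = Phi J i := by
    apply MvPolynomial.algHom_ext
    intro k
    rw [AlgHom.comp_apply, Phi_X, Phi_linForm, rr_i J i hi]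
  exact AlgHom.congr_fun this p

/-! ### the map `β` -/

theorem beta_apply (p : P) : beta J N σ x i p = beta0 J N σ x (Phi J i p) := rfl

theorem beta_C (c : B ⧸ J) : beta J N σ x i (C c) = σ c := by
  rw [beta_apply, Phi_C, beta0_C]

theorem beta_linForm (f : J.Cotangent →₀ B ⧸ J) :
    beta J N σ x i (linForm J J.Cotangent f) =
      beta0 J N σ x (linForm J J.Cotangent (i (rr f))) := by
  rw [beta_apply, Phi_linForm]

include hN hσ hx in
theorem beta_linForm_mem (f : J.Cotangent →₀ B ⧸ J) :
    beta J N σ x i (linForm J J.Cotangent f) ∈ Jb := by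
  rw [beta_linForm]
  exact beta0_linForm_mem J N σ x hN hσ hx _

include hN hσ hx in
theorem idealOfVars_pow_le (j : ℕ) :
    idealOfVars J.Cotangent (B ⧸ J) ^ j ≤ Ideal.comap (beta J N σ x i) (Jb ^ j) := by
  have h1 : idealOfVars J.Cotangent (B ⧸ J) ≤ Ideal.comap (beta J N σ x i) Jb := by
    rw [idealOfVars, Ideal.span_le]
    rintro _ ⟨k, rfl⟩
    rw [SetLike.mem_coe, Ideal.mem_comap, beta_apply, Phi_X]
    exact beta0_linForm_mem J N σ x hN hσ hx _
  exact (Ideal.pow_right_mono h1 j).trans (Ideal.le_comap_pow _ _)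

include hN hσ hx hi in
theorem beta_prod_sub_mem {ι : Type u} [Fintype ι] (f : ι → J.Cotangent →₀ B ⧸ J) (y : ι → J)
    (hy : ∀ t, J.toCotangent (y t) = rr (f t)) :
    beta J N σ x i (∏ t, linForm J J.Cotangent (f t)) -
      Ideal.Quotient.mk (J ^ N) (∏ t, (y t : B)) ∈ Jb ^ (Fintype.card ι + 1) := by
  rw [map_prod, map_prod]
  have := prod_sub_prod_mem_pow Jb Finset.univ
    (fun t => beta J N σ x i (linForm J J.Cotangent (f t)))
    (fun t => Ideal.Quotient.mk (J ^ N) (y t : B))
    (fun t _ => beta_linForm_mem J N σ x i hN hσ hx _) (fun t _ => mk_mem_Jb J N _)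
    (fun t _ => by
      rw [beta_linForm]
      exact beta0_linForm_sub_mem J N σ x hN hσ hx _ _ (by rw [rr_i J i hi, hy]))
  rwa [Finset.card_univ] at this

/-! ### comparison with the graded pieces -/

include hN hσ hx hi in
theorem exists_symToGr_eq (ι : Type u) [Fintype ι]
    (z : SymmetricPower B ι (J.Cotangent →₀ B ⧸ J)) :
    ∃ (y : B) (hy : y ∈ J ^ Fintype.card ι),
      symToGr J ι (SymPow.map (LinearMap.restrictScalars B rr) z) = Submodule.Quotient.mk ⟨y, hy⟩ ∧
      beta J N σ x i (theta J J.Cotangent ι z) - Ideal.Quotient.mk (J ^ N) y ∈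
        Jb ^ (Fintype.card ι + 1) := by
  have hz : z ∈ (⊤ : Submodule B _) := Submodule.mem_top
  rw [← SymmetricPower.span_tprod_eq_top B ι _] at hz
  induction hz using Submodule.span_induction with
  | mem z hz =>
    obtain ⟨f, rfl⟩ := hz
    have hs : ∀ c, J.toCotangent (Function.surjInv (Ideal.toCotangent_surjective J) c) = c :=
      Function.surjInv_eq (Ideal.toCotangent_surjective J)
    let y : ι → J := fun t => Function.surjInv (Ideal.toCotangent_surjective J) (rr (f t))
    have hy : ∀ t, J.toCotangent (y t) = rr (f t) := fun t => hs _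
    refine ⟨∏ t, (y t : B), ?_, ?_, ?_⟩
    · simpa using PP16.prod_mem_pow J Finset.univ (fun t => (y t : B)) (fun t _ => (y t).2)
    · rw [SymPow.map_tprod]
      have e : (fun t => (LinearMap.restrictScalars B rr) (f t)) = fun t => J.toCotangent (y t) := by
        funext t
        exact (hy t).symm
      rw [e, symToGr_tprod]
      rfl
    · rw [theta_tprod]
      exact beta_prod_sub_mem J N σ x i hN hσ hx hi f y hy
  | zero =>
    refine ⟨0, Ideal.zero_mem _, by rw [map_zero, map_zero]; rfl, ?_⟩
    rw [map_zero, map_zero, map_zero, sub_zero]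
    exact Ideal.zero_mem _
  | add z w _ _ hz hw =>
    obtain ⟨y, hy, h1, h2⟩ := hz
    obtain ⟨y', hy', h1', h2'⟩ := hw
    refine ⟨y + y', Ideal.add_mem _ hy hy', by rw [map_add, map_add, h1, h1']; rfl, ?_⟩
    have e : beta J N σ x i (theta J J.Cotangent ι (z + w)) - Ideal.Quotient.mk (J ^ N) (y + y') =
        (beta J N σ x i (theta J J.Cotangent ι z) - Ideal.Quotient.mk (J ^ N) y) +
        (beta J N σ x i (theta J J.Cotangent ι w) - Ideal.Quotient.mk (J ^ N) y') := by
      rw [map_add, map_add, map_add]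
      ring
    rw [e]
    exact Ideal.add_mem _ h2 h2'
  | smul b z _ hz =>
    obtain ⟨y, hy, h1, h2⟩ := hz
    refine ⟨b * y, Ideal.mul_mem_left _ _ hy, by rw [map_smul, map_smul, h1]; rfl, ?_⟩
    have e0 : theta J J.Cotangent ι (b • z) =
        C (Ideal.Quotient.mk J b) * theta J J.Cotangent ι z := by
      rw [map_smul, Algebra.smul_def]
      rfl
    have e : beta J N σ x i (theta J J.Cotangent ι (b • z)) - Ideal.Quotient.mk (J ^ N) (b * y) =
        (σ (Ideal.Quotient.mk J b) - Ideal.Quotient.mk (J ^ N) b) *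
          beta J N σ x i (theta J J.Cotangent ι z) +
        Ideal.Quotient.mk (J ^ N) b *
          (beta J N σ x i (theta J J.Cotangent ι z) - Ideal.Quotient.mk (J ^ N) y) := by
      rw [e0, map_mul, beta_C, map_mul]
      ring
    rw [e]
    apply Ideal.add_mem
    · rw [pow_succ']
      apply Ideal.mul_mem_mul (sigma_sub_mk_mem J N σ hN hσ b)
      exact idealOfVars_pow_le J N σ x i hN hσ hx _
        (isHomogeneous_mem_pow_idealOfVars (theta_isHomogeneous J J.Cotangent ι z))
    · exact Ideal.mul_mem_left _ _ h2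

theorem Phi_theta (ι : Type u) [Fintype ι] (z : SymmetricPower B ι (J.Cotangent →₀ B ⧸ J)) :
    Phi J i (theta J J.Cotangent ι z) =
      theta J J.Cotangent ι (SymPow.map ((i.restrictScalars B) ∘ₗ (LinearMap.restrictScalars B rr)) z) := by
  have hz : z ∈ (⊤ : Submodule B _) := Submodule.mem_top
  rw [← SymmetricPower.span_tprod_eq_top B ι _] at hz
  induction hz using Submodule.span_induction with
  | mem z hz =>
    obtain ⟨f, rfl⟩ := hz
    rw [theta_tprod, SymPow.map_tprod, theta_tprod, map_prod]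
    apply Finset.prod_congr rfl
    intro t _
    rw [Phi_linForm]
    rfl
  | zero => simp
  | add z w _ _ hz hw => rw [map_add, map_add, hz, hw, map_add, map_add]
  | smul b z _ hz =>
    rw [LinearMap.map_smul, LinearMap.map_smul, LinearMap.map_smul, Algebra.smul_def,
      Algebra.smul_def, map_mul, hz]
    congr 1
    change Phi J i (C (Ideal.Quotient.mk J b)) = C (Ideal.Quotient.mk J b)
    exact Phi_C J i _

theorem sub_homogeneousComponent_mem {σ' R : Type*} [CommRing R] (g : MvPolynomial σ' R) (j : ℕ)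
    (hg : g ∈ idealOfVars σ' R ^ j) :
    g - homogeneousComponent j g ∈ idealOfVars σ' R ^ (j + 1) := by
  classical
  rw [mem_pow_idealOfVars_iff'] at hg ⊢
  intro d hd
  rw [coeff_sub, coeff_homogeneousComponent]
  split_ifs with h
  · exact sub_self _
  · rw [sub_zero]
    exact hg d (by omega)

include hN hσ hx hi in
/-- the key structural statement: the kernel of `β` modulo `J^j` -/
theorem mem_ker_sup_of_beta_mem
    (hsym : ∀ (ι : Type u) [Fintype ι] [Nonempty ι], Function.Injective (symToGr J ι))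
    (j : ℕ) (hj : j ≤ N) (p : P) (hp : beta J N σ x i p ∈ Jb ^ j) :
    p ∈ RingHom.ker (Phi J i) ⊔ idealOfVars J.Cotangent (B ⧸ J) ^ j := by
  induction j generalizing p with
  | zero =>
    rw [pow_zero, Ideal.one_eq_top, sup_top_eq]
    trivial
  | succ j ih =>
    have hp' : beta J N σ x i p ∈ Jb ^ j := Ideal.pow_le_pow_right (Nat.le_succ j) hp
    obtain ⟨l, hl, g, hg, rfl⟩ := Submodule.mem_sup.1 (ih (by omega) p hp')
    rw [RingHom.mem_ker] at hl
    have hβl : beta J N σ x i l = 0 := by rw [beta_apply, hl, map_zero]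
    have hβg : beta J N σ x i g ∈ Jb ^ (j + 1) := by
      rw [map_add, hβl, zero_add] at hp
      exact hp
    have hg' := sub_homogeneousComponent_mem g j hg
    have hβg' : beta J N σ x i (g - homogeneousComponent j g) ∈ Jb ^ (j + 1) :=
      idealOfVars_pow_le J N σ x i hN hσ hx _ hg'
    have hβgj : beta J N σ x i (homogeneousComponent j g) ∈ Jb ^ (j + 1) := by
      have e : beta J N σ x i (homogeneousComponent j g) =
          beta J N σ x i g - beta J N σ x i (g - homogeneousComponent j g) := by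
        rw [map_sub]; ring
      rw [e]
      exact Ideal.sub_mem _ hβg hβg'
    suffices hgj : homogeneousComponent j g ∈ RingHom.ker (Phi J i) by
      have e : l + g = (l + homogeneousComponent j g) + (g - homogeneousComponent j g) := by ring
      rw [e]
      exact Submodule.add_mem_sup (Ideal.add_mem _ (by rwa [RingHom.mem_ker]) hgj) hg'
    rcases Nat.eq_zero_or_pos j with rfl | hjpos
    · -- degree zero
      rw [homogeneousComponent_zero] at hβgj ⊢
      rw [beta_C, zero_add, pow_one, mem_Jb_iff J N hN, hσ] at hβgj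
      rw [hβgj, map_zero]
      exact Ideal.zero_mem _
    · -- positive degree
      obtain ⟨ι, _, _, hcard⟩ : ∃ (ι : Type u) (_ : Fintype ι) (_ : Nonempty ι),
          Fintype.card ι = j := by
        haveI : Nonempty (Fin j) := ⟨⟨0, hjpos⟩⟩
        exact ⟨ULift.{u} (Fin j), inferInstance, inferInstance, by simp⟩
      subst hcard
      obtain ⟨z, hz⟩ := exists_theta_eq_of_isHomogeneous J J.Cotangent ι _
        (homogeneousComponent_isHomogeneous (Fintype.card ι) g)
      obtain ⟨y, hy, h1, h2⟩ := exists_symToGr_eq J N σ x i hN hσ hx hi ι z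
      rw [hz] at h2
      have h3 : Ideal.Quotient.mk (J ^ N) y ∈ Jb ^ (Fintype.card ι + 1) := by
        have e : Ideal.Quotient.mk (J ^ N) y =
            beta J N σ x i (homogeneousComponent (Fintype.card ι) g) -
            (beta J N σ x i (homogeneousComponent (Fintype.card ι) g) -
              Ideal.Quotient.mk (J ^ N) y) := by ring
        rw [e]
        exact Ideal.sub_mem _ hβgj h2
      have h4 : y ∈ J ^ (Fintype.card ι + 1) := by
        rw [← Ideal.map_pow, Ideal.mem_quotient_iff_mem_sup] at h3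
        have : J ^ (Fintype.card ι + 1) ⊔ J ^ N = J ^ (Fintype.card ι + 1) :=
          sup_eq_left.2 (Ideal.pow_le_pow_right hj)
        rwa [this] at h3
      have h5 : symToGr J ι (SymPow.map (LinearMap.restrictScalars B rr) z) = 0 := by
        rw [h1, Submodule.Quotient.mk_eq_zero]
        exact h4
      have h6 : SymPow.map (LinearMap.restrictScalars B rr) z = 0 := by
        apply hsym ι
        rw [h5, map_zero]
      rw [RingHom.mem_ker, ← hz, Phi_theta, SymPow.map_comp, LinearMap.comp_apply, h6, map_zero,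
        map_zero]

include hN hσ hx hi in
theorem beta_surjective : Function.Surjective (beta J N σ x i) := by
  rw [← RingHom.range_eq_top]
  apply subring_eq_top_of_nilpotent _ Jb N (map_mk_pow_eq_bot J N)
  · intro a
    obtain ⟨b, rfl⟩ := Ideal.Quotient.mk_surjective a
    refine ⟨σ (Ideal.Quotient.mk J b), ⟨C (Ideal.Quotient.mk J b), beta_C J N σ x i _⟩, ?_⟩
    have := sigma_sub_mk_mem J N σ hN hσ b
    rw [← neg_sub]
    exact neg_mem this
  · intro a ha
    obtain ⟨y, hy, rfl⟩ := (Ideal.mem_map_iff_of_surjective _ Ideal.Quotient.mk_surjective).1 ha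
    refine ⟨beta J N σ x i (linForm J J.Cotangent (i (J.toCotangent ⟨y, hy⟩))), ⟨_, rfl⟩, ?_⟩
    rw [beta_linForm, rr_i J i hi, ← neg_sub]
    exact neg_mem (beta0_linForm_sub_mem J N σ x hN hσ hx _ ⟨y, hy⟩ (rr_i J i hi _).symm)

end structure_

end Groth.Agent.Lib.Helper19.SymFS
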