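import Groth.Agent.Lib.Helper19SymFS2

/-!
# `J/J²` projective and `Sym^n(J/J²) ≅ J^n/J^(n+1)` imply formal smoothness (helper19)

EGA 0_IV 19.5.4, (b) ⇒ (a), and the statement S4538.
-/

set_option autoImplicit false
set_option linter.style.haveILetI false
universe u

namespace Groth.Agent.Lib.Helper19.SymFS

open Groth.Agent.Lib.Helper19.SymPow Groth.Agent.Lib.Helper19.SymPoly
  Groth.Agent.Lib.Helper19.SymGr MvPolynomial

theorem pow_two_le_ker {R S : Type*} [CommRing R] [CommRing S] (w : R →+* S) (I : Ideal S)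
    (hI : I ^ 2 = ⊥) (K : Ideal R) (hK : K ≤ Ideal.comap w I) : K ^ 2 ≤ RingHom.ker w := by
  rw [pow_two, Ideal.mul_le]
  intro a ha b hb
  rw [RingHom.mem_ker, map_mul, ← Ideal.mem_bot, ← hI, pow_two]
  exact Ideal.mul_mem_mul (hK ha) (hK hb)

variable {A B : Type u} [CommRing A] [CommRing B] [Algebra A B] (J : Ideal B)

local notation "P" => MvPolynomial (Ideal.Cotangent J) (B ⧸ J)

/-- **EGA 0_IV 19.5.4 (b) ⇒ (a)** -/
theorem isAdicFormallySmooth_of_projective_of_symGr [Algebra.FormallySmooth A (B ⧸ J)]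
    (hproj : Module.Projective (B ⧸ J) J.Cotangent)
    (hsym : ∀ (ι : Type u) [Fintype ι] [Nonempty ι], Function.Injective (symToGr J ι)) :
    CAlgX.IsAdicFormallySmooth A B J := by
  intro E _ _ I hI u hu
  obtain ⟨m₀, hm₀⟩ := hu
  obtain ⟨m, hm1, hm⟩ : ∃ m : ℕ, 1 ≤ m ∧ ∀ x ∈ J ^ m, u x = 0 :=
    ⟨m₀ + 1, by omega, fun x hx => hm₀ x (Ideal.pow_le_pow_right (Nat.le_succ _) hx)⟩
  clear hm₀
  have hN : 1 ≤ m * 2 := by omega
  obtain ⟨i, hi⟩ := Module.projective_def'.1 hproj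
  have hs : ∀ c, J.toCotangent (Function.surjInv (Ideal.toCotangent_surjective J) c) = c :=
    Function.surjInv_eq (Ideal.toCotangent_surjective J)
  let x : J.Cotangent → J := fun k => Function.surjInv (Ideal.toCotangent_surjective J) k
  have hx : ∀ k, J.toCotangent (x k) = k := fun k => hs k
  -- the section
  have hle : J ^ (m * 2) ≤ J := pow_le_self' J (m * 2) hN
  have hsurj : Function.Surjective (Ideal.Quotient.factorₐ A hle) :=
    Ideal.Quotient.factor_surjective hle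
  have hnil : IsNilpotent (RingHom.ker
      ((Ideal.Quotient.factorₐ A hle : (B ⧸ J ^ (m * 2)) →ₐ[A] (B ⧸ J)) :
        (B ⧸ J ^ (m * 2)) →+* (B ⧸ J))) := by
    refine ⟨m * 2, ?_⟩
    have h1 : RingHom.ker
        ((Ideal.Quotient.factorₐ A hle : (B ⧸ J ^ (m * 2)) →ₐ[A] (B ⧸ J)) :
          (B ⧸ J ^ (m * 2)) →+* (B ⧸ J)) = J.map (Ideal.Quotient.mk (J ^ (m * 2))) := by
      change RingHom.ker (Ideal.Quotient.factor hle) = _
      rw [Ideal.Quotient.factor_ker]
    rw [h1]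
    exact map_mk_pow_eq_bot J (m * 2)
  let σ : (B ⧸ J) →ₐ[A] (B ⧸ J ^ (m * 2)) :=
    Algebra.FormallySmooth.liftOfSurjective (AlgHom.id A (B ⧸ J))
      (Ideal.Quotient.factorₐ A hle) hsurj hnil
  have hσ : ∀ c, Ideal.Quotient.factor (pow_le_self' J (m * 2) hN) ((σ : (B ⧸ J) →+* _) c) = c :=
    fun c => Algebra.FormallySmooth.liftOfSurjective_apply (AlgHom.id A (B ⧸ J))
      (Ideal.Quotient.factorₐ A hle) hsurj hnil c
  -- the induced map on `B/J^N`
  let u' : (B ⧸ J ^ (m * 2)) →ₐ[A] E ⧸ I :=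
    Ideal.Quotient.liftₐ (J ^ (m * 2)) u
      (fun b hb => hm b (Ideal.pow_le_pow_right (by omega) hb))
  have hu' : ∀ b, u' (Ideal.Quotient.mk (J ^ (m * 2)) b) = u b := fun b => rfl
  have hu'J : ∀ a ∈ (J.map (Ideal.Quotient.mk (J ^ (m * 2)))) ^ m, u' a = 0 := by
    intro a ha
    rw [← Ideal.map_pow] at ha
    obtain ⟨y, hy, rfl⟩ := (Ideal.mem_map_iff_of_surjective _ Ideal.Quotient.mk_surjective).1 ha
    rw [hu', hm y hy]
  -- lift of the section
  let τ : (B ⧸ J) →ₐ[A] E := Algebra.FormallySmooth.lift I ⟨2, hI⟩ (u'.comp σ)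
  have hτ : ∀ c, Ideal.Quotient.mk I (τ c) = u' (σ c) := fun c =>
    Algebra.FormallySmooth.mk_lift I ⟨2, hI⟩ (u'.comp σ) c
  let β := beta J (m * 2) (σ : (B ⧸ J) →+* _) x i
  have hmkE : ∀ e, Ideal.Quotient.mk I
      (Function.surjInv (Ideal.Quotient.mk_surjective (I := I)) e) = e :=
    Function.surjInv_eq Ideal.Quotient.mk_surjective
  let ω : J.Cotangent → E := fun k =>
    Function.surjInv (Ideal.Quotient.mk_surjective (I := I)) (u' (β (X k)))
  have hω : ∀ k, Ideal.Quotient.mk I (ω k) = u' (β (X k)) := fun k => hmkE _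
  let w₀ : P →+* E := eval₂Hom (τ : (B ⧸ J) →+* E) ω
  let w : P →+* E := w₀.comp (Phi J i : P →+* P)
  have hw₀ : (Ideal.Quotient.mk I).comp w₀ = (u' : (B ⧸ J ^ (m * 2)) →+* E ⧸ I).comp β := by
    apply MvPolynomial.ringHom_ext
    · intro c
      change Ideal.Quotient.mk I (w₀ (C c)) = u' (β (C c))
      rw [beta_C]
      simp only [w₀, coe_eval₂Hom, eval₂_C]
      exact hτ c
    · intro k
      change Ideal.Quotient.mk I (w₀ (X k)) = u' (β (X k))
      simp only [w₀, coe_eval₂Hom, eval₂_X]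
      exact hω k
  have hw₀' : ∀ p, Ideal.Quotient.mk I (w₀ p) = u' (β p) := fun p => RingHom.congr_fun hw₀ p
  have hw : ∀ p, Ideal.Quotient.mk I (w p) = u' (β p) := by
    intro p
    change Ideal.Quotient.mk I (w₀ (Phi J i p)) = _
    rw [hw₀', beta_apply, Phi_Phi J i hi, ← beta_apply]
  have hwΦ : ∀ p, Phi J i p = 0 → w p = 0 := by
    intro p hp
    change w₀ (Phi J i p) = 0
    rw [hp, map_zero]
  have hw𝔳 : idealOfVars J.Cotangent (B ⧸ J) ^ (m * 2) ≤ RingHom.ker w := by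
    have h1 : idealOfVars J.Cotangent (B ⧸ J) ^ m ≤ Ideal.comap w I := by
      intro p hp
      rw [Ideal.mem_comap, ← Ideal.Quotient.eq_zero_iff_mem, hw]
      exact hu'J _ (idealOfVars_pow_le J (m * 2) _ x i hN hσ hx m hp)
    have h2 := pow_two_le_ker w I hI _ h1
    rwa [← pow_mul] at h2
  have hker : RingHom.ker β ≤ RingHom.ker w := by
    intro p hp
    rw [RingHom.mem_ker] at hp
    have h1 := mem_ker_sup_of_beta_mem J (m * 2) _ x i hN hσ hx hi hsym (m * 2) le_rfl p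
      (by
        change β p ∈ _
        rw [hp]
        exact Ideal.zero_mem _)
    obtain ⟨l, hl, g, hg, rfl⟩ := Submodule.mem_sup.1 h1
    rw [RingHom.mem_ker, map_add, hwΦ l (RingHom.mem_ker.1 hl), RingHom.mem_ker.1 (hw𝔳 hg),
      add_zero]
  have hβsurj : Function.Surjective β := beta_surjective J (m * 2) _ x i hN hσ hx hi
  let v' : (B ⧸ J ^ (m * 2)) →+* E := RingHom.liftOfSurjective β hβsurj ⟨w, hker⟩
  have hv' : ∀ p, v' (β p) = w p := fun p =>
    RingHom.liftOfSurjective_comp_apply β hβsurj ⟨w, hker⟩ p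
  let v : B →ₐ[A] E :=
    { v'.comp (Ideal.Quotient.mk (J ^ (m * 2))) with
      commutes' := fun a => by
        change v' (Ideal.Quotient.mk (J ^ (m * 2)) (algebraMap A B a)) = algebraMap A E a
        have h1 : Ideal.Quotient.mk (J ^ (m * 2)) (algebraMap A B a) =
            β (C (algebraMap A (B ⧸ J) a)) := by
          rw [beta_C]
          exact (σ.commutes a).symm
        rw [h1, hv']
        change w₀ (Phi J i (C (algebraMap A (B ⧸ J) a))) = _
        rw [Phi_C]
        simp only [w₀, coe_eval₂Hom, eval₂_C]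
        exact τ.commutes a }
  refine ⟨v, ?_⟩
  ext b
  change Ideal.Quotient.mk I (v' (Ideal.Quotient.mk (J ^ (m * 2)) b)) = u b
  obtain ⟨p, hp⟩ := hβsurj (Ideal.Quotient.mk (J ^ (m * 2)) b)
  rw [← hp, hv', hw, hp, hu']

/-- **S4538** (EGA 0_IV 19.5.4, (a) ⇔ (b), discrete base) -/
theorem isAdicFormallySmooth_iff_projective_and_symGr [Algebra.FormallySmooth A (B ⧸ J)] :
    CAlgX.IsAdicFormallySmooth A B J ↔
      (Module.Projective (B ⧸ J) J.Cotangent ∧ PP16.SymGrBijective B J) := by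
  rw [symGrBijective_iff]
  constructor
  · intro h
    exact ⟨projective_cotangent J h, fun ι _ _ => symToGr_injective_of_isAdicFormallySmooth J h ι⟩
  · rintro ⟨hproj, hsym⟩
    exact isAdicFormallySmooth_of_projective_of_symGr J hproj hsym

end Groth.Agent.Lib.Helper19.SymFS
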