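import Groth.Agent.Lib.Helper19SymTrans
import Groth.Agent.Lib.Helper19PBasisField

/-!
# Local algebras over a field, formally smooth for the adic topology: reduction to the prime field
(EGA 0_IV 22.2.x) (helper19)
-/

set_option autoImplicit false
set_option linter.style.haveILetI false
universe u

namespace Groth.Agent.Lib.Helper19.SymFS

open TensorProduct KaehlerDifferential IsLocalRing Groth.Agent.Lib.Helper19

variable {k A : Type u} [Field k] [CommRing A] [IsLocalRing A] [Algebra k A]

/-- elimination principle: there is a (perfect) prime field `F` under `k` over which `k` and the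
residue field of `A` are formally smooth -/
theorem primeField_elim {P : Prop}
    (H : ∀ (F : Type u) [Field F] [Algebra F k] [Algebra.FormallySmooth F k] [Algebra F A]
      [IsScalarTower F k A] [Algebra.FormallySmooth F (ResidueField A)], P) : P := by
  obtain ⟨p, hp⟩ := CharP.exists k
  rcases CharP.char_is_prime_or_zero k p with hpp | rfl
  · haveI : Fact p.Prime := ⟨hpp⟩
    letI : Algebra (ZMod p) k := ZMod.algebra k p
    letI : Algebra (ULift.{u} (ZMod p)) k := ULift.algebra' (ZMod p) k
    haveI : Algebra.FormallySmooth (ULift.{u} (ZMod p)) k :=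
      PBasis.formallySmooth_field_of_perfectRing p (ULift.{u} (ZMod p)) k
    letI : Algebra (ULift.{u} (ZMod p)) A :=
      ((algebraMap k A).comp (algebraMap (ULift.{u} (ZMod p)) k)).toAlgebra
    haveI : IsScalarTower (ULift.{u} (ZMod p)) k A := IsScalarTower.of_algebraMap_eq (fun _ => rfl)
    haveI : CharP (ResidueField A) p :=
      charP_of_injective_algebraMap (algebraMap k (ResidueField A)).injective p
    haveI : Algebra.FormallySmooth (ULift.{u} (ZMod p)) (ResidueField A) :=
      PBasis.formallySmooth_field_of_perfectRing p (ULift.{u} (ZMod p)) (ResidueField A)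
    exact H (ULift.{u} (ZMod p))
  · haveI : CharZero k := CharP.charP_to_charZero k
    letI : Algebra (ULift.{u} ℚ) k := ULift.algebra' ℚ k
    haveI : CharZero (ULift.{u} ℚ) :=
      charZero_of_injective_ringHom (f := (ULift.ringEquiv.symm : ℚ ≃+* ULift.{u} ℚ).toRingHom)
        (RingEquiv.injective _)
    have hfs : ∀ (K : Type u) [Field K] [Algebra (ULift.{u} ℚ) K],
        Algebra.FormallySmooth (ULift.{u} ℚ) K := by
      intro K _ _
      haveI : CharZero K := charZero_of_injective_algebraMap (algebraMap (ULift.{u} ℚ) K).injective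
      obtain ⟨ι, x, hx⟩ := exists_isTranscendenceBasis' (ULift.{u} ℚ) K
      have halg := hx.isAlgebraic_field
      have : Algebra.IsSeparable (IntermediateField.adjoin (ULift.{u} ℚ) (Set.range x)) K :=
        inferInstance
      exact Algebra.FormallySmooth.of_algebraicIndependent_of_isSeparable hx.1
    haveI : Algebra.FormallySmooth (ULift.{u} ℚ) k := hfs k
    letI : Algebra (ULift.{u} ℚ) A :=
      ((algebraMap k A).comp (algebraMap (ULift.{u} ℚ) k)).toAlgebra
    haveI : IsScalarTower (ULift.{u} ℚ) k A := IsScalarTower.of_algebraMap_eq (fun _ => rfl)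
    haveI : Algebra.FormallySmooth (ULift.{u} ℚ) (ResidueField A) := hfs _
    exact H (ULift.{u} ℚ)

/-- EGA 0_IV 22.2.x (⟹): the symmetric algebra condition -/
theorem symGrBijective_of_isAdicFormallySmooth_field
    (h : CAlgX.IsAdicFormallySmooth k A (maximalIdeal A)) :
    PP16.SymGrBijective A (maximalIdeal A) := by
  refine primeField_elim (k := k) (A := A) fun F _ _ _ _ _ hK => ?_
  haveI : Algebra.FormallySmooth F (A ⧸ maximalIdeal A) := hK
  have hF : CAlgX.IsAdicFormallySmooth F A (maximalIdeal A) :=
    isAdicFormallySmooth_trans (Λ := F) (maximalIdeal A) h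
  exact ((isAdicFormallySmooth_iff_projective_and_symGr (A := F) (maximalIdeal A)).1 hF).2

/-- EGA 0_IV 22.2.x (⟸): formal smoothness from the symmetric algebra condition and extension of
derivations of `k` -/
theorem isAdicFormallySmooth_field_of_symGr_of_extension
    (hsym : PP16.SymGrBijective A (maximalIdeal A))
    (hext : ∀ (Y : Type u) [AddCommGroup Y] [Module A Y],
      (∀ x ∈ maximalIdeal A, ∀ y : Y, x • y = 0) →
      ∀ δ : k → Y, (∀ a a', δ (a + a') = δ a + δ a') →
        (∀ a a', δ (a * a') = algebraMap k A a • δ a' + algebraMap k A a' • δ a) →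
        ∃ D : A → Y, (∀ b b', D (b + b') = D b + D b') ∧
          (∀ b b', D (b * b') = b • D b' + b' • D b) ∧ ∀ a, D (algebraMap k A a) = δ a) :
    CAlgX.IsAdicFormallySmooth k A (maximalIdeal A) := by
  refine primeField_elim (k := k) (A := A) fun F _ _ _ _ _ hK => ?_
  haveI : Algebra.FormallySmooth F (A ⧸ maximalIdeal A) := hK
  have hproj : Module.Projective (A ⧸ maximalIdeal A) (maximalIdeal A).Cotangent := by
    letI : Field (A ⧸ maximalIdeal A) := Ideal.Quotient.field (maximalIdeal A)
    exact Module.Projective.of_free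
  have hF : CAlgX.IsAdicFormallySmooth F A (maximalIdeal A) :=
    (isAdicFormallySmooth_iff_projective_and_symGr (A := F) (maximalIdeal A)).2 ⟨hproj, hsym⟩
  exact isAdicFormallySmooth_of_extension (maximalIdeal A) hF
    (fun Y _ _ hY δ hadd hmul _ => hext Y hY δ hadd hmul)

/-- over a field, an injective map of vector spaces has a retraction -/
theorem exists_retraction_of_injective_field {Λ : Type*} [CommRing Λ] [Algebra Λ k] [Algebra Λ A]
    [IsScalarTower Λ k A]
    (hinj : Function.Injective ((mapBaseChange Λ k A).lTensor (A ⧸ maximalIdeal A))) :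
    ∃ ρ : (A ⧸ maximalIdeal A) ⊗[A] Ω[A⁄Λ] →ₗ[A] (A ⧸ maximalIdeal A) ⊗[A] (A ⊗[k] Ω[k⁄Λ]),
      ∀ v, ρ ((mapBaseChange Λ k A).lTensor (A ⧸ maximalIdeal A) v) = v := by
  letI : Field (A ⧸ maximalIdeal A) := Ideal.Quotient.field (maximalIdeal A)
  let f : (A ⧸ maximalIdeal A) ⊗[A] (A ⊗[k] Ω[k⁄Λ]) →ₗ[A ⧸ maximalIdeal A]
      (A ⧸ maximalIdeal A) ⊗[A] Ω[A⁄Λ] := (mapBaseChange Λ k A).baseChange (A ⧸ maximalIdeal A)
  have hf : Function.Injective f := hinj
  obtain ⟨g, hg⟩ := LinearMap.exists_leftInverse_of_injective f (LinearMap.ker_eq_bot.2 hf)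
  exact ⟨g.restrictScalars A, fun v => LinearMap.congr_fun hg v⟩

/-- an additive map satisfying the Leibniz rule kills the integers -/
theorem leibniz_map_intCast {R Y : Type*} [CommRing R] [AddCommGroup Y] [Module R Y]
    (δ : R → Y) (hadd : ∀ a a', δ (a + a') = δ a + δ a')
    (hmul : ∀ a a', δ (a * a') = a • δ a' + a' • δ a) (l : ℤ) : δ (l : R) = 0 := by
  have h1 : δ 1 = 0 := by
    have := hmul 1 1
    rw [mul_one, one_smul] at this
    exact left_eq_add.1 this
  let f : R →+ Y := AddMonoidHom.mk' δ hadd
  have hf : ∀ r, f r = δ r := fun r => rfl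
  rw [← hf, ← zsmul_one, map_zsmul, hf, h1, smul_zero]

end Groth.Agent.Lib.Helper19.SymFS
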