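import Groth.Agent.Lib.Helper19SymPow

/-!
# Symmetric powers of a free module and homogeneous polynomials (helper19)

For a ring `R`, an ideal `J` and `F = κ →₀ R ⧸ J`, the map
`Sym^ι_R F → MvPolynomial κ (R ⧸ J)`, `f₁ ⋯ fₙ ↦ ∏ ℓ(fᵢ)`, is injective (for `ι` nonempty) with image
the homogeneous polynomials of degree `card ι`.
-/

set_option autoImplicit false
universe u

namespace Groth.Agent.Lib.Helper19.SymPoly

open MvPolynomial Groth.Agent.Lib.Helper19.SymPow

variable {R : Type u} [CommRing R] (J : Ideal R) (κ : Type u)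

/-- the linear form attached to an element of the free module -/
noncomputable def linForm : (κ →₀ R ⧸ J) →ₗ[R] MvPolynomial κ (R ⧸ J) :=
  (Finsupp.linearCombination (R ⧸ J) (X : κ → MvPolynomial κ (R ⧸ J))).restrictScalars R

theorem linForm_apply (f : κ →₀ R ⧸ J) :
    linForm J κ f = Finsupp.linearCombination (R ⧸ J) (X : κ → MvPolynomial κ (R ⧸ J)) f := rfl

theorem linForm_single (k : κ) (c : R ⧸ J) : linForm J κ (Finsupp.single k c) = C c * X k := by
  rw [linForm_apply, Finsupp.linearCombination_single, MvPolynomial.smul_eq_C_mul]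

theorem linForm_isHomogeneous (f : κ →₀ R ⧸ J) : (linForm J κ f).IsHomogeneous 1 := by
  rw [linForm_apply, Finsupp.linearCombination_apply]
  apply IsHomogeneous.sum
  intro k _
  change (f k • (X k : MvPolynomial κ (R ⧸ J))).IsHomogeneous 1
  rw [MvPolynomial.smul_eq_C_mul]
  exact isHomogeneous_C_mul_X _ _

section theta

variable (ι : Type u) [Fintype ι]

/-- the product of linear forms as a multilinear map -/
noncomputable def prodForm :
    MultilinearMap R (fun _ : ι => κ →₀ R ⧸ J) (MvPolynomial κ (R ⧸ J)) :=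
  (MultilinearMap.mkPiAlgebra R ι (MvPolynomial κ (R ⧸ J))).compLinearMap (fun _ => linForm J κ)

theorem prodForm_apply (f : ι → κ →₀ R ⧸ J) : prodForm J κ ι f = ∏ i, linForm J κ (f i) := rfl

/-- the comparison map from the symmetric power of the free module to polynomials -/
noncomputable def theta : SymmetricPower R ι (κ →₀ R ⧸ J) →ₗ[R] MvPolynomial κ (R ⧸ J) :=
  SymPow.lift (prodForm J κ ι) (fun e f => by
    rw [prodForm_apply, prodForm_apply]
    exact Equiv.prod_comp e (fun i => linForm J κ (f i)))

@[simp]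
theorem theta_tprod (f : ι → κ →₀ R ⧸ J) :
    theta J κ ι (SymmetricPower.tprod R f) = ∏ i, linForm J κ (f i) := by
  rw [theta, lift_tprod, prodForm_apply]

theorem theta_isHomogeneous (z : SymmetricPower R ι (κ →₀ R ⧸ J)) :
    (theta J κ ι z).IsHomogeneous (Fintype.card ι) := by
  have hz : z ∈ (⊤ : Submodule R _) := Submodule.mem_top
  rw [← SymmetricPower.span_tprod_eq_top R ι _] at hz
  induction hz using Submodule.span_induction with
  | mem x hx =>
    obtain ⟨f, rfl⟩ := hx
    rw [theta_tprod]
    have := IsHomogeneous.prod Finset.univ (fun i => linForm J κ (f i)) (fun _ => 1)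
      (fun i _ => linForm_isHomogeneous J κ (f i))
    simpa using this
  | zero => rw [map_zero]; exact isHomogeneous_zero _ _ _
  | add x y _ _ hx hy => rw [map_add]; exact hx.add hy
  | smul r x _ hx =>
    rw [map_smul, Algebra.smul_def, IsScalarTower.algebraMap_apply R (R ⧸ J) (MvPolynomial κ (R ⧸ J)),
      MvPolynomial.algebraMap_eq]
    exact hx.C_mul _

end theta

section monomials

variable {κ} {ι : Type u} [Fintype ι]

/-- the exponent vector of the monomial `∏ X (f i)` -/
noncomputable def mon (f : ι → κ) : κ →₀ ℕ := ∑ i, Finsupp.single (f i) 1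

theorem mon_apply [DecidableEq κ] (f : ι → κ) (k : κ) :
    mon f k = Fintype.card {i // f i = k} := by
  rw [mon, Finsupp.finsetSum_apply, Fintype.card_subtype]
  simp only [Finsupp.single_apply]
  rw [Finset.sum_boole]
  simp

theorem exists_perm_of_mon_eq (f g : ι → κ) (h : mon f = mon g) :
    ∃ e : Equiv.Perm ι, ∀ i, g (e i) = f i := by
  classical
  have hc : ∀ k, Nonempty ({i // f i = k} ≃ {i // g i = k}) := by
    intro k
    rw [← Fintype.card_eq]
    have h1 := mon_apply f k
    have h2 := mon_apply g k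
    rw [← h1, ← h2, h]
  exact ⟨Equiv.ofFiberEquiv (fun k => (hc k).some),
    fun i => Equiv.ofFiberEquiv_map (fun k => (hc k).some) i⟩

theorem prod_X_eq_monomial (f : ι → κ) :
    ∏ i, (X (f i) : MvPolynomial κ (R ⧸ J)) = monomial (mon f) 1 := by
  rw [mon, MvPolynomial.monomial_sum_one]
  rfl

theorem exists_fin_of_degree (n : ℕ) (m : κ →₀ ℕ) (hm : m.degree = n) :
    ∃ f : Fin n → κ, ∑ i, Finsupp.single (f i) 1 = m := by
  classical
  induction n generalizing m with
  | zero =>
    refine ⟨Fin.elim0, ?_⟩
    rw [Finsupp.degree_eq_zero_iff] at hm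
    simp [hm]
  | succ n ih =>
    have hne : m ≠ 0 := by
      rintro rfl
      simp at hm
    obtain ⟨k, hk⟩ := Finsupp.support_nonempty_iff.2 hne
    rw [Finsupp.mem_support_iff] at hk
    have h1 := Finsupp.sub_add_single_one_cancel hk
    have h2 : (m - Finsupp.single k 1).degree = n := by
      have := congrArg Finsupp.degree h1
      rw [map_add, Finsupp.degree_single, hm] at this
      omega
    obtain ⟨f, hf⟩ := ih _ h2
    refine ⟨Fin.cons k f, ?_⟩
    rw [Fin.sum_univ_succ]
    simp only [Fin.cons_zero, Fin.cons_succ]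
    rw [hf, add_comm, h1]

theorem exists_mon_eq (m : κ →₀ ℕ) (hm : m.degree = Fintype.card ι) :
    ∃ f : ι → κ, mon f = m := by
  obtain ⟨f, hf⟩ := exists_fin_of_degree _ m hm
  refine ⟨fun i => f (Fintype.equivFin ι i), ?_⟩
  rw [mon, ← hf]
  exact Equiv.sum_comp (Fintype.equivFin ι) (fun j => Finsupp.single (f j) (1 : ℕ))

end monomials

end Groth.Agent.Lib.Helper19.SymPoly
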