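import Mathlib

/-!
# The conormal module of the standard presentation of a symmetric algebra (helper19)

For generators `x : Fin m → M` of an `A`-module `M` with relation module `K ⊆ A^m`, the kernel of
`A[y_1..y_m] → Sym_A M`, `y_j ↦ x_j`, is generated by the linear forms `Σ k_j y_j`, `k ∈ K`.
-/

set_option autoImplicit false
universe u
open TensorProduct MvPolynomial

namespace Groth.Agent.Lib.Helper19.SymPres

variable {A : Type u} [CommRing A] {M : Type u} [AddCommGroup M] [Module A M] {m : ℕ}
  (x : Fin m → M)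

/-- the linear form attached to a coefficient vector -/
noncomputable def ℓ : (Fin m → A) →ₗ[A] MvPolynomial (Fin m) A where
  toFun a := ∑ j, C (a j) * X j
  map_add' a b := by
    simp only [Pi.add_apply, map_add, add_mul, Finset.sum_add_distrib]
  map_smul' c a := by
    simp only [Pi.smul_apply, smul_eq_mul, map_mul, RingHom.id_apply, Finset.smul_sum,
      MvPolynomial.smul_eq_C_mul, mul_assoc]

theorem ℓ_apply (a : Fin m → A) : ℓ a = ∑ j, C (a j) * X j := rfl

theorem aeval_ℓ (a : Fin m → A) :
    aeval (fun j => SymmetricAlgebra.ι A M (x j)) (ℓ a) =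
      SymmetricAlgebra.ι A M (Fintype.linearCombination A x a) := by
  rw [ℓ_apply, map_sum, Fintype.linearCombination_apply, map_sum]
  refine Finset.sum_congr rfl fun j _ => ?_
  rw [map_mul, aeval_C, aeval_X, map_smul, Algebra.smul_def]

/-- the ideal of linear forms coming from relations -/
noncomputable def J₀ : Ideal (MvPolynomial (Fin m) A) :=
  Ideal.span (ℓ '' (LinearMap.ker (Fintype.linearCombination A x) : Set (Fin m → A)))

theorem J₀_le_ker :
    J₀ x ≤ RingHom.ker (aeval (fun j => SymmetricAlgebra.ι A M (x j)) :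
      MvPolynomial (Fin m) A →ₐ[A] SymmetricAlgebra A M) := by
  rw [J₀, Ideal.span_le]
  rintro _ ⟨k, hk, rfl⟩
  rw [SetLike.mem_coe, RingHom.mem_ker, aeval_ℓ, LinearMap.mem_ker.mp hk, map_zero]

variable (hx : Function.Surjective (Fintype.linearCombination A x))

/-- the `A`-linear map `A^m → A[y]/J₀` -/
noncomputable def g₀ : (Fin m → A) →ₗ[A] MvPolynomial (Fin m) A ⧸ J₀ x :=
  (Ideal.Quotient.mkₐ A (J₀ x)).toLinearMap ∘ₗ ℓ

theorem g₀_ker : LinearMap.ker (Fintype.linearCombination A x) ≤ LinearMap.ker (g₀ x) := by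
  intro k hk
  rw [LinearMap.mem_ker, g₀, LinearMap.comp_apply, AlgHom.toLinearMap_apply,
    Ideal.Quotient.mkₐ_eq_mk, Ideal.Quotient.eq_zero_iff_mem]
  exact Ideal.subset_span ⟨k, hk, rfl⟩

/-- the induced map `M → A[y]/J₀` -/
noncomputable def g : M →ₗ[A] MvPolynomial (Fin m) A ⧸ J₀ x :=
  (Submodule.liftQ _ (g₀ x) (g₀_ker x)) ∘ₗ
    (LinearMap.quotKerEquivOfSurjective _ hx).symm.toLinearMap

theorem g_apply (a : Fin m → A) : g x hx (Fintype.linearCombination A x a) = g₀ x a := by
  rw [g, LinearMap.comp_apply]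
  have : (LinearMap.quotKerEquivOfSurjective _ hx).symm (Fintype.linearCombination A x a) =
      Submodule.Quotient.mk a := by
    rw [LinearEquiv.symm_apply_eq]
    rfl
  rw [LinearEquiv.coe_coe, this, Submodule.liftQ_apply]

include hx in
theorem ker_le_J₀ :
    RingHom.ker (aeval (fun j => SymmetricAlgebra.ι A M (x j)) :
      MvPolynomial (Fin m) A →ₐ[A] SymmetricAlgebra A M) ≤ J₀ x := by
  classical
  set ψ : SymmetricAlgebra A M →ₐ[A] MvPolynomial (Fin m) A ⧸ J₀ x :=
    SymmetricAlgebra.lift (g x hx) with hψ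
  have hcomp : ψ.comp (aeval (fun j => SymmetricAlgebra.ι A M (x j))) =
      Ideal.Quotient.mkₐ A (J₀ x) := by
    apply MvPolynomial.algHom_ext
    intro j
    rw [AlgHom.comp_apply, aeval_X, hψ, SymmetricAlgebra.lift_ι_apply]
    have hxj : x j = Fintype.linearCombination A x (Pi.single j 1) := by
      rw [Fintype.linearCombination_apply, Finset.sum_eq_single j]
      · rw [Pi.single_eq_same, one_smul]
      · intro i _ hij
        rw [Pi.single_eq_of_ne hij, zero_smul]
      · intro h; exact absurd (Finset.mem_univ j) h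
    rw [hxj, g_apply, g₀, LinearMap.comp_apply, AlgHom.toLinearMap_apply]
    congr 1
    rw [ℓ_apply, Finset.sum_eq_single j]
    · rw [Pi.single_eq_same, map_one, one_mul]
    · intro i _ hij
      rw [Pi.single_eq_of_ne hij, map_zero, zero_mul]
    · intro h; exact absurd (Finset.mem_univ j) h
  intro p hp
  have h1 := AlgHom.congr_fun hcomp p
  rw [AlgHom.comp_apply, RingHom.mem_ker.mp hp, map_zero] at h1
  rw [← Ideal.Quotient.eq_zero_iff_mem]
  exact h1.symm

include hx in
theorem ker_eq_J₀ :
    RingHom.ker (aeval (fun j => SymmetricAlgebra.ι A M (x j)) :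
      MvPolynomial (Fin m) A →ₐ[A] SymmetricAlgebra A M) = J₀ x :=
  le_antisymm (ker_le_J₀ x hx) (J₀_le_ker x)

end Groth.Agent.Lib.Helper19.SymPres
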