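import Groth.Agent.Lib.Helper19SymPow
import Groth.Agent.Lib.Helper19QRegMon

/-!
# Symmetric powers of projective modules are projective (helper19)
-/

set_option autoImplicit false
set_option linter.style.haveILetI false
universe u

namespace Groth.Agent.Lib.Helper19.SymProj

open MvPolynomial Groth.Agent.Lib.Helper19.SymPow Groth.Agent.Lib.Helper19.QRegMon

variable {B : Type u} [CommRing B] (κ : Type u) (ι : Type u) [Fintype ι]

/-- the linear form `Σ f k • X k` -/
noncomputable def linForm : (κ →₀ B) →ₗ[B] MvPolynomial κ B :=
  Finsupp.linearCombination B (fun k => (X k : MvPolynomial κ B))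

theorem linForm_single (k : κ) : linForm (B := B) κ (Finsupp.single k 1) = X k := by
  rw [linForm, Finsupp.linearCombination_single, one_smul]

/-- the comparison of the symmetric power of a free module with polynomials -/
noncomputable def theta : SymmetricPower B ι (κ →₀ B) →ₗ[B] MvPolynomial κ B :=
  lift ((MultilinearMap.mkPiAlgebra B ι (MvPolynomial κ B)).compLinearMap
      (fun _ => linForm (B := B) κ))
    (fun e f => by
      simp only [MultilinearMap.compLinearMap_apply, MultilinearMap.mkPiAlgebra_apply]
      exact Equiv.prod_comp e (fun i => linForm (B := B) κ (f i)))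

theorem theta_tprod (f : ι → κ →₀ B) :
    theta κ ι (SymmetricPower.tprod B f) = ∏ i, linForm (B := B) κ (f i) := by
  rw [theta, lift_tprod]
  rfl

/-- the monomial tensors -/
noncomputable def monT (d : κ →₀ ℕ) : SymmetricPower B ι (κ →₀ B) :=
  open Classical in
  if h : ∃ w : ι → κ, mon w = d then
    SymmetricPower.tprod B (fun i => Finsupp.single (h.choose i) (1 : B)) else 0

theorem monT_mon (w : ι → κ) :
    monT (B := B) κ ι (mon w) = SymmetricPower.tprod B (fun i => Finsupp.single (w i) (1 : B)) := by
  classical
  have h : ∃ w' : ι → κ, mon w' = mon w := ⟨w, rfl⟩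
  rw [monT, dif_pos h]
  obtain ⟨e, he⟩ := exists_perm_of_mon_eq h.choose w h.choose_spec
  have : (fun i => Finsupp.single (h.choose i) (1 : B)) =
      fun i => (fun j => Finsupp.single (w j) (1 : B)) (e i) := by
    funext i
    change Finsupp.single (h.choose i) (1 : B) = Finsupp.single (w (e i)) 1
    rw [he i]
  rw [this]
  exact SymmetricPower.tprod_equiv e (fun j => Finsupp.single (w j) (1 : B))

/-- the retraction of `theta` -/
noncomputable def sec : MvPolynomial κ B →ₗ[B] SymmetricPower B ι (κ →₀ B) :=
  (basisMonomials κ B).constr B (monT (B := B) κ ι)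

theorem sec_monomial (d : κ →₀ ℕ) : sec (B := B) κ ι (monomial d 1) = monT κ ι d := by
  have := (basisMonomials κ B).constr_basis B (monT (B := B) κ ι) d
  rwa [coe_basisMonomials] at this

theorem sec_comp_theta : (sec (B := B) κ ι) ∘ₗ (theta κ ι) =
    (LinearMap.id : SymmetricPower B ι (κ →₀ B) →ₗ[B] SymmetricPower B ι (κ →₀ B)) := by
  refine SymPow.ext (R := B) (ι := ι) (M := κ →₀ B) (N := SymmetricPower B ι (κ →₀ B))
    (φ := (sec (B := B) κ ι) ∘ₗ (theta κ ι)) (ψ := LinearMap.id) fun f => ?_
  have key : ((sec (B := B) κ ι) ∘ₗ (theta κ ι)).compMultilinearMap (SymmetricPower.tprod B) =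
      (LinearMap.id : SymmetricPower B ι (κ →₀ B) →ₗ[B] _).compMultilinearMap
        (SymmetricPower.tprod B) := by
    apply Module.Basis.ext_multilinear (fun _ : ι => Finsupp.basisSingleOne (R := B) (ι := κ))
    intro w
    simp only [LinearMap.compMultilinearMap_apply, LinearMap.comp_apply, LinearMap.id_apply,
      Finsupp.coe_basisSingleOne]
    rw [theta_tprod]
    simp only [linForm_single]
    rw [prod_X_eq_monomial, sec_monomial, monT_mon]
  exact congrArg (fun g => g f) key

theorem projective_finsupp : Module.Projective B (SymmetricPower B ι (κ →₀ B)) :=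
  Module.Projective.of_split (theta κ ι) (sec κ ι) (sec_comp_theta κ ι)

/-- symmetric powers of projective modules are projective -/
theorem projective_symPow (M : Type u) [AddCommGroup M] [Module B M] [Module.Projective B M] :
    Module.Projective B (SymmetricPower B ι M) := by
  obtain ⟨s, hs⟩ := Module.projective_def'.1 (inferInstance : Module.Projective B M)
  haveI := projective_finsupp (B := B) M ι
  refine Module.Projective.of_split (SymPow.map (ι := ι) s)
    (SymPow.map (ι := ι) (Finsupp.linearCombination B id)) ?_
  rw [← SymPow.map_comp, hs, SymPow.map_id]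

end Groth.Agent.Lib.Helper19.SymProj
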