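import Groth.Agent.Lib.Helper19FSAdicLift

/-!
# Reduction of adic formal smoothness to test extensions killed by `J` (helper19)

* `isAdicFormallySmooth_of_killed`: to check that `B` is formally smooth over `A` for the `J`-adic
  topology it suffices to lift along square-zero extensions whose kernel is killed by (lifts of)
  the image of `J`.
* `isAdicFormallySmooth_of_extension`: EGA 0_IV 20.7.2-type criterion: if `B` is formally smooth over
  `Λ` and derivations `A → Y` into `B/J`-modules extend to `B`, then `B` is formally smooth over `A`.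
-/

set_option autoImplicit false
set_option linter.style.haveILetI false
universe u

namespace Groth.Agent.Lib.Helper19.SymFS

variable {A B : Type u} [CommRing A] [CommRing B] [Algebra A B] (J : Ideal B)

/-- the lifting hypothesis for extensions killed by `J`, quotient form -/
def KilledLifting : Prop :=
  ∀ (E : Type u) [CommRing E] [Algebra A E] (I : Ideal E), I ^ 2 = ⊥ →
    ∀ u : B →ₐ[A] E ⧸ I, (∃ k : ℕ, ∀ x ∈ J ^ k, u x = 0) →
      (∀ x ∈ J, ∀ e : E, Ideal.Quotient.mk I e = u x → ∀ n ∈ I, e * n = 0) →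
      ∃ v : B →ₐ[A] E, (Ideal.Quotient.mkₐ A I).comp v = u

/-- the lifting hypothesis for extensions killed by `J`, surjection form -/
theorem KilledLifting.surj (H : KilledLifting (A := A) J)
    (D Q : Type u) [CommRing D] [CommRing Q] [Algebra A D] [Algebra A Q] (π : D →ₐ[A] Q)
    (hπ : Function.Surjective π) (hsq : RingHom.ker π ^ 2 = ⊥) (g : B →ₐ[A] Q)
    (hg : ∃ k : ℕ, ∀ x ∈ J ^ k, g x = 0)
    (hkill : ∀ x ∈ J, ∀ d : D, π d = g x → ∀ n ∈ RingHom.ker π, d * n = 0) :
    ∃ v : B →ₐ[A] D, π.comp v = g := by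
  let e := Ideal.quotientKerAlgEquivOfSurjective hπ
  have he : ∀ d, e (Ideal.Quotient.mk (RingHom.ker π) d) = π d := fun d =>
    Ideal.quotientKerAlgEquivOfSurjective_mk hπ d
  obtain ⟨k, hk⟩ := hg
  obtain ⟨v, hv⟩ := H D (RingHom.ker π) hsq (e.symm.toAlgHom.comp g)
    ⟨k, fun x hx => by simp [hk x hx]⟩
    (fun x hx d hd n hn => by
      apply hkill x hx d _ n hn
      rw [← he, hd]
      simp)
  have hvmk : ∀ b, Ideal.Quotient.mk (RingHom.ker π) (v b) = e.symm (g b) := fun b => by
    have := congrArg (fun f => f b) hv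
    simpa using this
  refine ⟨v, ?_⟩
  ext b
  rw [AlgHom.comp_apply, ← he, hvmk, AlgEquiv.apply_symm_apply]

/-- **Reduction**: it suffices to lift along extensions killed by `J`. -/
theorem isAdicFormallySmooth_of_killed (H : KilledLifting (A := A) J) :
    CAlgX.IsAdicFormallySmooth A B J := by
  intro E _ _ I hI u hu
  obtain ⟨k, hk⟩ := hu
  -- the ideal generated by lifts of `u(J)`
  let 𝔧 : Ideal E := Ideal.comap (Ideal.Quotient.mk I) (Ideal.map u J)
  have h𝔧mem : ∀ e, e ∈ 𝔧 ↔ Ideal.Quotient.mk I e ∈ Ideal.map u J := fun e => Iff.rfl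
  have h𝔧k : 𝔧 ^ k ≤ I := by
    have h1 : 𝔧 ^ k ≤ Ideal.comap (Ideal.Quotient.mk I) (Ideal.map u J ^ k) :=
      Ideal.le_comap_pow _ _
    have h2 : Ideal.map u J ^ k = ⊥ := by
      rw [← Ideal.map_pow, eq_bot_iff, Ideal.map_le_iff_le_comap]
      intro x hx
      rw [Ideal.mem_comap, Ideal.mem_bot]
      exact hk x hx
    intro e he
    have := h1 he
    rw [h2, Ideal.mem_comap, Ideal.mem_bot] at this
    exact Ideal.Quotient.eq_zero_iff_mem.1 this
  -- induction
  have Q : ∀ (t : ℕ) (I' : Ideal E) (h1 : 𝔧 ^ t * I ≤ I') (h2 : I' ≤ I),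
      ∃ v : B →ₐ[A] E ⧸ I', (Ideal.Quotient.factorₐ A h2).comp v = u := by
    intro t
    induction t with
    | zero =>
      intro I' h1 h2
      rw [pow_zero, Ideal.one_eq_top, Ideal.top_mul] at h1
      obtain rfl : I' = I := le_antisymm h2 h1
      refine ⟨u, ?_⟩
      ext b
      obtain ⟨e, he⟩ := Ideal.Quotient.mk_surjective (u b)
      rw [AlgHom.comp_apply, ← he]
      rfl
    | succ t ih =>
      intro I' h1 h2
      have h3 : I' ⊔ 𝔧 ^ t * I ≤ I := sup_le h2 Ideal.mul_le_right
      obtain ⟨v'', hv''⟩ := ih (I' ⊔ 𝔧 ^ t * I) le_sup_right h3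
      have hv''b : ∀ b, Ideal.Quotient.factor h3 (v'' b) = u b := fun b =>
        congrArg (fun f => f b) hv''
      have hle : I' ≤ I' ⊔ 𝔧 ^ t * I := le_sup_left
      let π : (E ⧸ I') →ₐ[A] (E ⧸ (I' ⊔ 𝔧 ^ t * I)) := Ideal.Quotient.factorₐ A hle
      have hπmk : ∀ e, π (Ideal.Quotient.mk I' e) = Ideal.Quotient.mk _ e := fun e => rfl
      have hπ : Function.Surjective π := Ideal.Quotient.factor_surjective hle
      have hker : RingHom.ker π = (I' ⊔ 𝔧 ^ t * I).map (Ideal.Quotient.mk I') := by
        ext z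
        rw [RingHom.mem_ker]
        change Ideal.Quotient.factor hle z = 0 ↔ _
        rw [← RingHom.mem_ker, Ideal.Quotient.factor_ker]
      have hsq : RingHom.ker π ^ 2 = ⊥ := by
        rw [hker, ← Ideal.map_pow, eq_bot_iff, Ideal.map_le_iff_le_comap]
        refine (Ideal.pow_right_mono h3 2).trans ?_
        rw [hI]
        exact bot_le
      -- continuity of `v''`
      have hv''k : ∃ k' : ℕ, ∀ x ∈ J ^ k', v'' x = 0 := by
        have hnil : IsNilpotent (I.map (Ideal.Quotient.mk (I' ⊔ 𝔧 ^ t * I))) := by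
          refine ⟨2, ?_⟩
          rw [← Ideal.map_pow, hI, Ideal.map_bot]
          rfl
        refine exists_pow_map_eq_zero_of_lift J _ hnil v'' k (fun x hx => ?_)
        obtain ⟨e, he⟩ := Ideal.Quotient.mk_surjective (v'' x)
        have h4 : Ideal.Quotient.mk I e = 0 := by
          have := hv''b x
          rw [← he, hk x hx] at this
          exact this
        rw [← he, Ideal.Quotient.eq_zero_iff_mem]
        exact Ideal.mem_map_of_mem _ (Ideal.Quotient.eq_zero_iff_mem.1 h4)
      obtain ⟨v, hv⟩ := H.surj J (E ⧸ I') (E ⧸ (I' ⊔ 𝔧 ^ t * I)) π hπ hsq v'' hv''k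
        (fun x hx d hd n hn => by
          obtain ⟨e, rfl⟩ := Ideal.Quotient.mk_surjective d
          rw [hker] at hn
          obtain ⟨n₀, hn₀, rfl⟩ :=
            (Ideal.mem_map_iff_of_surjective _ Ideal.Quotient.mk_surjective).1 hn
          rw [← map_mul, Ideal.Quotient.eq_zero_iff_mem]
          -- `e ∈ 𝔧`
          have he : e ∈ 𝔧 := by
            rw [h𝔧mem]
            have := hv''b x
            rw [← hd, hπmk] at this
            change Ideal.Quotient.mk I e = u x at this
            rw [this]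
            exact Ideal.mem_map_of_mem _ hx
          obtain ⟨n', hn', n'', hn'', rfl⟩ := Submodule.mem_sup.1 hn₀
          rw [mul_add]
          refine Ideal.add_mem _ (Ideal.mul_mem_left _ _ hn') (h1 ?_)
          rw [pow_succ', mul_assoc]
          exact Ideal.mul_mem_mul he hn'')
      refine ⟨v, ?_⟩
      ext b
      have h5 : π (v b) = v'' b := congrArg (fun f => f b) hv
      obtain ⟨e, he⟩ := Ideal.Quotient.mk_surjective (v b)
      rw [AlgHom.comp_apply, ← hv''b b, ← h5, ← he]
      rfl
  obtain ⟨v, hv⟩ := Q k ⊥ (by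
    refine (Ideal.mul_mono_left h𝔧k).trans ?_
    rw [← pow_two, hI]) bot_le
  refine ⟨(AlgEquiv.quotientBot A E).toAlgHom.comp v, ?_⟩
  ext b
  have h6 : Ideal.Quotient.factor (bot_le : (⊥ : Ideal E) ≤ I) (v b) = u b :=
    congrArg (fun f => f b) hv
  obtain ⟨e, he⟩ := Ideal.Quotient.mk_surjective (v b)
  rw [AlgHom.comp_apply, AlgHom.comp_apply, ← h6, ← he]
  change Ideal.Quotient.mk I (AlgEquiv.quotientBot A E (Ideal.Quotient.mk ⊥ e)) = _
  rw [AlgEquiv.quotientBot_mk]
  rfl

section extension

variable {Λ : Type u} [CommRing Λ] [Algebra Λ A] [Algebra Λ B] [IsScalarTower Λ A B]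

/-- **EGA 0_IV 20.7.2-type criterion**: if `B` is formally smooth over `Λ` (`J`-adic topology) and
every derivation of `A` into a `B`-module killed by `J` extends to `B`, then `B` is formally smooth
over `A` (`J`-adic topology). -/
theorem isAdicFormallySmooth_of_extension (hΛ : CAlgX.IsAdicFormallySmooth Λ B J)
    (hext : ∀ (Y : Type u) [AddCommGroup Y] [Module B Y], (∀ x ∈ J, ∀ y : Y, x • y = 0) →
      ∀ δ : A → Y, (∀ a a', δ (a + a') = δ a + δ a') →
        (∀ a a', δ (a * a') = algebraMap A B a • δ a' + algebraMap A B a' • δ a) →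
        (∀ l : Λ, δ (algebraMap Λ A l) = 0) →
        ∃ D : B → Y, (∀ b b', D (b + b') = D b + D b') ∧
          (∀ b b', D (b * b') = b • D b' + b' • D b) ∧ ∀ a, D (algebraMap A B a) = δ a) :
    CAlgX.IsAdicFormallySmooth A B J := by
  apply isAdicFormallySmooth_of_killed
  intro E _ _ I hI u hu hkill
  letI : Algebra Λ E := ((algebraMap A E).comp (algebraMap Λ A)).toAlgebra
  haveI : IsScalarTower Λ A E := IsScalarTower.of_algebraMap_eq (fun _ => rfl)
  obtain ⟨v₀, hv₀⟩ := hΛ E I hI (u.restrictScalars Λ) hu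
  have hv₀b : ∀ b, Ideal.Quotient.mk I (v₀ b) = u b := fun b =>
    congrArg (fun f => f b) hv₀
  have hsq : ∀ y y' : I, (y : E) * (y' : E) = 0 := fun y y' => by
    have : (y : E) * (y' : E) ∈ I ^ 2 := by
      rw [pow_two]
      exact Ideal.mul_mem_mul y.2 y'.2
    rwa [hI, Ideal.mem_bot] at this
  letI : Module B I := Module.compHom I (v₀ : B →+* E)
  have hsmul : ∀ (b : B) (y : I), ((b • y : I) : E) = v₀ b * y := fun b y => rfl
  have hmemA : ∀ a : A, v₀ (algebraMap A B a) - algebraMap A E a ∈ I := fun a => by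
    rw [← Ideal.Quotient.eq, hv₀b, AlgHom.commutes]
    rfl
  obtain ⟨D, hDadd, hDmul, hDA⟩ := hext I
    (fun x hx y => by
      apply Subtype.ext
      rw [hsmul]
      exact hkill x hx (v₀ x) (hv₀b x) y y.2)
    (fun a => ⟨v₀ (algebraMap A B a) - algebraMap A E a, hmemA a⟩)
    (fun a a' => by
      apply Subtype.ext
      simp only [map_add, Submodule.coe_add]
      ring)
    (fun a a' => by
      apply Subtype.ext
      rw [Submodule.coe_add, hsmul, hsmul]
      simp only [map_mul]
      have := hsq ⟨_, hmemA a⟩ ⟨_, hmemA a'⟩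
      simp only at this
      linear_combination (-1 : E) * this)
    (fun l => by
      apply Subtype.ext
      simp only [Submodule.coe_zero]
      rw [← IsScalarTower.algebraMap_apply Λ A B, AlgHom.commutes, sub_eq_zero]
      rfl)
  have hD1 : D 1 = 0 := by
    have := hDmul 1 1
    rw [mul_one, one_smul] at this
    exact left_eq_add.1 this
  let v : B →ₐ[A] E :=
    { toFun := fun b => v₀ b - (D b : E)
      map_one' := by rw [hD1, map_one, Submodule.coe_zero, sub_zero]
      map_mul' := fun b b' => by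
        rw [hDmul, Submodule.coe_add, hsmul, hsmul, map_mul]
        have := hsq (D b) (D b')
        linear_combination (-1 : E) * this
      map_zero' := by
        have : D 0 = 0 := by
          have := hDadd 0 0
          rw [add_zero] at this
          exact left_eq_add.1 this
        rw [this, map_zero, Submodule.coe_zero, sub_zero]
      map_add' := fun b b' => by
        rw [hDadd, map_add, Submodule.coe_add]
        ring
      commutes' := fun a => by
        rw [hDA]
        simp }
  refine ⟨v, ?_⟩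
  ext b
  rw [AlgHom.comp_apply, ← hv₀b]
  change Ideal.Quotient.mk I (v₀ b - (D b : E)) = _
  rw [map_sub, Ideal.Quotient.eq_zero_iff_mem.2 (D b).2, sub_zero]

end extension

end Groth.Agent.Lib.Helper19.SymFS
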