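import Groth.Agent.Lib.Helper19SqZeroDer

/-!
# The cotangent derivation of a section, projectivity of `J/J²` and of `Ω ⊗ B/J` (helper19)

EGA 0_IV 19.5.3-type statements for an algebra formally smooth for a `J`-adic topology.
-/

set_option autoImplicit false
set_option linter.style.haveILetI false
universe u

namespace Groth.Agent.Lib.Helper19.SymFS

open Groth.Agent.Lib.Helper19.SqZeroDer TensorProduct

variable {A B : Type u} [CommRing A] [CommRing B] [Algebra A B] (J : Ideal B)

section section_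

variable [Algebra.FormallySmooth A (B ⧸ J)]

/-- an `A`-algebra section of `B/J² → B/J` -/
theorem exists_section : ∃ s : (B ⧸ J) →ₐ[A] (B ⧸ J ^ 2),
    ∀ c, Ideal.Quotient.factor (Ideal.pow_le_self two_ne_zero) (s c) = c := by
  have hle : J ^ 2 ≤ J := Ideal.pow_le_self two_ne_zero
  have hsurj : Function.Surjective (Ideal.Quotient.factorₐ A hle) :=
    Ideal.Quotient.factor_surjective hle
  have hnil : IsNilpotent (RingHom.ker
      ((Ideal.Quotient.factorₐ A hle : (B ⧸ J ^ 2) →ₐ[A] (B ⧸ J)) : (B ⧸ J ^ 2) →+* (B ⧸ J))) := by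
    refine ⟨2, ?_⟩
    have h1 : RingHom.ker
        ((Ideal.Quotient.factorₐ A hle : (B ⧸ J ^ 2) →ₐ[A] (B ⧸ J)) : (B ⧸ J ^ 2) →+* (B ⧸ J)) =
        J.cotangentIdeal := by
      change RingHom.ker (Ideal.Quotient.factor hle) = _
      rw [Ideal.Quotient.factor_ker]
      apply le_antisymm
      · rw [Ideal.map_le_iff_le_comap, Ideal.comap_cotangentIdeal]
      · rintro _ ⟨y, hy, rfl⟩
        exact Ideal.mem_map_of_mem _ hy
    rw [h1, Ideal.cotangentIdeal_square]
    rfl
  refine ⟨Algebra.FormallySmooth.liftOfSurjective (AlgHom.id A (B ⧸ J))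
    (Ideal.Quotient.factorₐ A hle) hsurj hnil, fun c => ?_⟩
  exact Algebra.FormallySmooth.liftOfSurjective_apply (AlgHom.id A (B ⧸ J))
    (Ideal.Quotient.factorₐ A hle) hsurj hnil c

/-- **the cotangent derivation** `B → J/J²` attached to a section of `B/J² → B/J` -/
theorem exists_cotangent_derivation : ∃ δ : B → J.Cotangent,
    (∀ a b, δ (a + b) = δ a + δ b) ∧ (∀ a b, δ (a * b) = a • δ b + b • δ a) ∧
      (∀ a : A, δ (algebraMap A B a) = 0) ∧ ∀ x : J, δ x = J.toCotangent x := by
  obtain ⟨s, hs⟩ := exists_section (A := A) J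
  have hle : J ^ 2 ≤ J := Ideal.pow_le_self two_ne_zero
  let t : B → B ⧸ J ^ 2 := fun b => Ideal.Quotient.mk (J ^ 2) b - s (Ideal.Quotient.mk J b)
  have ht : ∀ b, t b ∈ J.cotangentIdeal := by
    intro b
    obtain ⟨y, hy⟩ := Ideal.Quotient.mk_surjective (s (Ideal.Quotient.mk J b))
    have h1 : t b = Ideal.Quotient.mk (J ^ 2) (b - y) := by
      change _ - _ = _
      rw [map_sub, hy]
    rw [h1, Ideal.mk_mem_cotangentIdeal]
    have h2 : Ideal.Quotient.mk J y = Ideal.Quotient.mk J b := by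
      have := hs (Ideal.Quotient.mk J b)
      rw [← hy, Ideal.Quotient.factor_mk] at this
      exact this
    rw [← Ideal.Quotient.eq_zero_iff_mem, map_sub, h2, sub_self]
  have hsq : ∀ a b, t a * t b = 0 := by
    intro a b
    have : t a * t b ∈ J.cotangentIdeal * J.cotangentIdeal := Ideal.mul_mem_mul (ht a) (ht b)
    rwa [← pow_two, Ideal.cotangentIdeal_square] at this
  let δ : B → J.Cotangent := fun b => J.cotangentEquivIdeal.symm ⟨t b, ht b⟩
  have hδ : ∀ b, J.cotangentToQuotientSquare (δ b) = t b := by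
    intro b
    rw [← Ideal.cotangentEquivIdeal_apply]
    change ((J.cotangentEquivIdeal (J.cotangentEquivIdeal.symm ⟨t b, ht b⟩) : J.cotangentIdeal) :
      B ⧸ J ^ 2) = t b
    rw [LinearEquiv.apply_symm_apply]
  have hinj := Ideal.cotangentToQuotientSquare_injective J
  refine ⟨δ, fun a b => hinj ?_, fun a b => hinj ?_, fun a => hinj ?_, fun x => hinj ?_⟩
  · rw [map_add, hδ, hδ, hδ]
    change Ideal.Quotient.mk (J ^ 2) (a + b) - s (Ideal.Quotient.mk J (a + b)) =
      (Ideal.Quotient.mk (J ^ 2) a - s (Ideal.Quotient.mk J a)) +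
        (Ideal.Quotient.mk (J ^ 2) b - s (Ideal.Quotient.mk J b))
    rw [map_add, map_add, map_add]
    ring
  · rw [map_add, map_smul, map_smul, hδ, hδ, hδ, Algebra.smul_def, Algebra.smul_def,
      Ideal.Quotient.algebraMap_eq]
    have h1 := hsq a b
    change (Ideal.Quotient.mk (J ^ 2) a - s (Ideal.Quotient.mk J a)) *
      (Ideal.Quotient.mk (J ^ 2) b - s (Ideal.Quotient.mk J b)) = 0 at h1
    change Ideal.Quotient.mk (J ^ 2) (a * b) - s (Ideal.Quotient.mk J (a * b)) =
      Ideal.Quotient.mk (J ^ 2) a * (Ideal.Quotient.mk (J ^ 2) b - s (Ideal.Quotient.mk J b)) +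
        Ideal.Quotient.mk (J ^ 2) b * (Ideal.Quotient.mk (J ^ 2) a - s (Ideal.Quotient.mk J a))
    rw [map_mul, map_mul, map_mul]
    linear_combination (-1 : B ⧸ J ^ 2) * h1
  · rw [hδ, map_zero]
    change Ideal.Quotient.mk (J ^ 2) (algebraMap A B a) -
      s (Ideal.Quotient.mk J (algebraMap A B a)) = 0
    have h1 : Ideal.Quotient.mk J (algebraMap A B a) = algebraMap A (B ⧸ J) a := rfl
    have h2 : Ideal.Quotient.mk (J ^ 2) (algebraMap A B a) = algebraMap A (B ⧸ J ^ 2) a := rfl
    rw [h1, h2, s.commutes, sub_self]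
  · rw [hδ, Ideal.toCotangent_to_quotient_square]
    change Ideal.Quotient.mk (J ^ 2) (x : B) - s (Ideal.Quotient.mk J (x : B)) = _
    rw [Ideal.Quotient.eq_zero_iff_mem.2 x.2, map_zero, sub_zero]
    rfl

end section_

section projective

theorem mk_smul_cotangent (b : B) (m : J.Cotangent) : (Ideal.Quotient.mk J b) • m = b • m := by
  rw [← Ideal.Quotient.algebraMap_eq, algebraMap_smul]

/-- **EGA 0_IV 19.5.3**: for `B` formally smooth over `A` for the `J`-adic topology with `B/J`
formally smooth over `A`, `J/J²` is a projective `B/J`-module -/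
theorem projective_cotangent (h : CAlgX.IsAdicFormallySmooth A B J)
    [Algebra.FormallySmooth A (B ⧸ J)] : Module.Projective (B ⧸ J) J.Cotangent := by
  obtain ⟨δ, hadd, hmul, hA, hJ⟩ := exists_cotangent_derivation (A := A) J
  rw [Module.projective_def']
  let g : (J.Cotangent →₀ B ⧸ J) →ₗ[B ⧸ J] J.Cotangent := Finsupp.linearCombination (B ⧸ J) id
  have hg : Function.Surjective g :=
    Finsupp.linearCombination_surjective _ Function.surjective_id
  obtain ⟨δX, hXadd, hXmul, hXg, -⟩ := exists_derivation_core J h (Ideal.Quotient.mk J)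
    ⟨1, fun x hx => by rw [pow_one] at hx; exact Ideal.Quotient.eq_zero_iff_mem.2 hx⟩ g hg δ hadd
    (fun a b => by rw [hmul, mk_smul_cotangent, mk_smul_cotangent])
    (fun _ : A => (0 : J.Cotangent →₀ B ⧸ J)) (fun _ _ => by simp) (fun _ _ => by simp)
    (fun a => by rw [map_zero, hA])
  have hmk0 : ∀ x : J, Ideal.Quotient.mk J (x : B) = 0 := fun x =>
    Ideal.Quotient.eq_zero_iff_mem.2 x.2
  let s₀ : J →ₗ[B] (J.Cotangent →₀ B ⧸ J) :=
    { toFun := fun x => δX x
      map_add' := fun x y => hXadd x y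
      map_smul' := fun b x => by
        change δX (b * x) = b • δX x
        rw [hXmul, hmk0, zero_smul, add_zero, ← Ideal.Quotient.algebraMap_eq, algebraMap_smul] }
  let s₁ : J.Cotangent →ₗ[B] (J.Cotangent →₀ B ⧸ J) := Ideal.Cotangent.lift s₀ (fun x y => by
    change δX (x * y) = 0
    rw [hXmul, hmk0, hmk0, zero_smul, zero_smul, add_zero])
  refine ⟨LinearMap.extendScalarsOfSurjective Ideal.Quotient.mk_surjective s₁, ?_⟩
  ext m
  obtain ⟨x, rfl⟩ := Ideal.toCotangent_surjective J m
  change g (s₁ (J.toCotangent x)) = J.toCotangent x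
  rw [Ideal.Cotangent.lift_toCotangent]
  change g (δX x) = _
  rw [hXg, hJ]

end projective

end Groth.Agent.Lib.Helper19.SymFS
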