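import Groth.Agent.Lib.Helper19SymField
import Groth.Agent.Lib.Helper19PDescend
import Groth.Agent.Lib.Helper19PBasisDer

/-!
# Absolute differentials from differentials over a decreasing family of subfields
(EGA 0_IV 22.2.x-type) (helper19)

`k` a field of characteristic `p`, `(k_α)` a decreasing directed family of subfields with
`⋂ k_α(k^p) = k^p`, `A` a local `k`-algebra with residue field `K`.  If
`Ω_{k/k_α} ⊗ K → Ω_{A/k_α} ⊗ K` is injective for all large `α`, then `Ω_{k/ℤ} ⊗ K → Ω_{A/ℤ} ⊗ K`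
is injective.
-/

set_option autoImplicit false
set_option linter.style.haveILetI false
set_option linter.unusedSectionVars false
universe u

namespace Groth.Agent.Lib.Helper19.SymFS

open TensorProduct KaehlerDifferential IsLocalRing Groth.Agent.Lib.Helper7.PPow
  Groth.Agent.Lib.Helper19.PDescend

theorem exists_dual_of_linearIndependent {K V σ : Type*} [Field K] [AddCommGroup V] [Module K V]
    [DecidableEq σ] {v : σ → V} (hv : LinearIndependent K v) (i₀ : σ) :
    ∃ φ : V →ₗ[K] K, ∀ i, φ (v i) = if i = i₀ then 1 else 0 := by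
  let ψ : Submodule.span K (Set.range v) →ₗ[K] K := (Finsupp.lapply i₀) ∘ₗ hv.repr
  obtain ⟨φ, hφ⟩ := LinearMap.exists_extend ψ
  refine ⟨φ, fun i => ?_⟩
  have h1 : φ (v i) = ψ ⟨v i, Submodule.subset_span ⟨i, rfl⟩⟩ := by
    rw [← hφ]; rfl
  rw [h1]
  change (hv.repr ⟨v i, _⟩) i₀ = _
  rw [hv.repr_eq_single i _ rfl, Finsupp.single_apply]

variable {k A : Type u} [Field k] (p : ℕ) [Fact p.Prime] [CharP k p] [CommRing A] [IsLocalRing A]
  [Algebra k A] {ι : Type*} [Preorder ι] [IsDirected ι (fun a b => a ≤ b)]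
  (kα : ι → Subfield k) (hanti : Antitone kα)
  (hint : ⨅ α, (kα α ⊔ (frobenius k p).fieldRange) = (frobenius k p).fieldRange)

include hanti hint

theorem injective_int_of_eventually_injective (α₀ : ι)
    (hinj : ∀ α, α₀ ≤ α → Function.Injective
      ((mapBaseChange (kα α) k A).lTensor (A ⧸ maximalIdeal A))) :
    Function.Injective ((mapBaseChange ℤ k A).lTensor (A ⧸ maximalIdeal A)) := by
  classical
  letI : Field (A ⧸ maximalIdeal A) := Ideal.Quotient.field (maximalIdeal A)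
  let E₀ : Subfield k := (frobenius k p).fieldRange
  let L : ι → Subfield k := fun α => kα α ⊔ E₀
  have hL : Antitone L := fun a b h => sup_le_sup_right (hanti h) _
  have hE₀ : ∀ y : k, y ^ p ∈ E₀ := fun y => ⟨y, rfl⟩
  have hE₀' : ∀ y : k, y ^ p ∈ Set.range (algebraMap ↥E₀ k) := fun y => ⟨⟨y ^ p, hE₀ y⟩, rfl⟩
  -- a basis of `Ω[k⁄ℤ]` consisting of differentials
  obtain ⟨bset, hbs, hspan, hli⟩ := exists_linearIndependent k (Set.range (D ℤ k))
  have hx : ∀ i : bset, ∃ y : k, D ℤ k y = (i : Ω[k⁄ℤ]) := fun i => hbs i.2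
  choose x hx using hx
  have hli' : LinearIndependent k (fun i : bset => D ℤ k (x i)) := by
    have : (fun i : bset => D ℤ k (x i)) = fun i : bset => (i : Ω[k⁄ℤ]) := funext hx
    rw [this]
    exact hli
  have hspan' : ⊤ ≤ Submodule.span k (Set.range fun i : bset => D ℤ k (x i)) := by
    have : (fun i : bset => D ℤ k (x i)) = fun i : bset => (i : Ω[k⁄ℤ]) := funext hx
    rw [this, Subtype.range_coe, hspan, KaehlerDifferential.span_range_derivation]
  let b : Module.Basis bset k Ω[k⁄ℤ] := Module.Basis.mk hli' hspan'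
  have hb : ∀ i, b i = D ℤ k (x i) := fun i => Module.Basis.mk_apply hli' hspan' i
  have hD : ∀ e : ↥E₀, D ℤ k (algebraMap ↥E₀ k e) = 0 := by
    rintro ⟨e, c, rfl⟩
    exact PBasis.derivation_pow_p_eq_zero p Ω[k⁄ℤ] (D ℤ k) c
  have hfree : PFree ↥E₀ p x := pfree_of_linearIndependent_D (k := ℤ) p hD hE₀' hli'
  let B : Module.Basis bset (A ⧸ maximalIdeal A)
      ((A ⧸ maximalIdeal A) ⊗[A] (A ⊗[k] Ω[k⁄ℤ])) :=
    (b.baseChange A).baseChange (A ⧸ maximalIdeal A)
  have hB : ∀ i, B i = (1 : A ⧸ maximalIdeal A) ⊗ₜ[A] ((1 : A) ⊗ₜ[k] D ℤ k (x i)) := fun i => by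
    rw [Module.Basis.baseChange_apply, Module.Basis.baseChange_apply, hb]
  -- the proof
  rw [injective_iff_map_eq_zero]
  intro ω hω
  let f' : (A ⧸ maximalIdeal A) ⊗[A] (A ⊗[k] Ω[k⁄ℤ]) →ₗ[A ⧸ maximalIdeal A]
      (A ⧸ maximalIdeal A) ⊗[A] Ω[A⁄ℤ] := (mapBaseChange ℤ k A).baseChange (A ⧸ maximalIdeal A)
  have hω' : f' ω = 0 := hω
  set c := B.repr ω with hc
  have hωsum : ω = ∑ i ∈ c.support, c i • B i := by
    conv_lhs => rw [← B.linearCombination_repr ω]
    rw [Finsupp.linearCombination_apply, Finsupp.sum]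
  by_contra hne
  have hsupp : c.support.Nonempty := by
    rw [Finsupp.support_nonempty_iff]
    intro h0
    apply hne
    rw [hωsum, h0]
    simp
  obtain ⟨i₀, hi₀⟩ := hsupp
  -- choose `α`
  obtain ⟨α, hα, hfα⟩ := exists_pfree_of_finite p L hL E₀ hint hE₀ ↥c.support
    (x ∘ (Subtype.val : ↥c.support → bset))
    (hfree.comp_injective p Subtype.val_injective) α₀
  letI : Algebra ↥(kα α) ↥(L α) := (Subfield.inclusion (le_sup_left : kα α ≤ L α)).toAlgebra
  haveI : IsScalarTower ↥(kα α) ↥(L α) k := IsScalarTower.of_algebraMap_eq (fun _ => rfl)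
  have hEα : ∀ y : k, y ^ p ∈ Set.range (algebraMap ↥(L α) k) :=
    pow_mem_range_of_family p L hL E₀ hint hE₀ α
  have hliα : LinearIndependent k (fun i : ↥c.support => D ↥(kα α) k (x i)) :=
    linearIndependent_D_of_pfree (k := ↥(kα α)) p hEα hfα
  obtain ⟨φ, hφ⟩ := exists_dual_of_linearIndependent hliα ⟨i₀, hi₀⟩
  -- the functional on `V_α`
  let l₀ : Ω[k⁄↥(kα α)] →ₗ[k] (A ⧸ maximalIdeal A) :=
    (Algebra.linearMap k (A ⧸ maximalIdeal A)) ∘ₗ φ
  let Φ : (A ⧸ maximalIdeal A) ⊗[A] (A ⊗[k] Ω[k⁄↥(kα α)]) →ₗ[A ⧸ maximalIdeal A]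
      (A ⧸ maximalIdeal A) :=
    LinearMap.liftBaseChange (A ⧸ maximalIdeal A) (LinearMap.liftBaseChange A l₀)
  have hΦ : ∀ m, Φ ((1 : A ⧸ maximalIdeal A) ⊗ₜ[A] ((1 : A) ⊗ₜ[k] m)) =
      algebraMap k (A ⧸ maximalIdeal A) (φ m) := fun m => by
    simp only [Φ, l₀, LinearMap.liftBaseChange_tmul, one_smul, LinearMap.comp_apply,
      Algebra.linearMap_apply]
  -- the key vanishing
  let fα : (A ⧸ maximalIdeal A) ⊗[A] (A ⊗[k] Ω[k⁄↥(kα α)]) →ₗ[A ⧸ maximalIdeal A]
      (A ⧸ maximalIdeal A) ⊗[A] Ω[A⁄↥(kα α)] :=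
    (mapBaseChange ↥(kα α) k A).baseChange (A ⧸ maximalIdeal A)
  have hfα_inj : Function.Injective fα := hinj α hα
  let q : (A ⧸ maximalIdeal A) ⊗[A] Ω[A⁄ℤ] →ₗ[A ⧸ maximalIdeal A]
      (A ⧸ maximalIdeal A) ⊗[A] Ω[A⁄↥(kα α)] :=
    (KaehlerDifferential.map ℤ ↥(kα α) A A).baseChange (A ⧸ maximalIdeal A)
  have hkey : ∑ i ∈ c.support, c i • ((1 : A ⧸ maximalIdeal A) ⊗ₜ[A]
      ((1 : A) ⊗ₜ[k] D ↥(kα α) k (x i))) = 0 := by
    apply hfα_inj
    rw [map_zero, map_sum]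
    have h1 : q (f' ω) = 0 := by rw [hω', map_zero]
    rw [hωsum, map_sum, map_sum] at h1
    rw [← h1]
    refine Finset.sum_congr rfl fun i _ => ?_
    rw [map_smul, map_smul, map_smul, hB]
    congr 1
    simp only [fα, f', q, LinearMap.baseChange_tmul, mapBaseChange_tmul, one_smul,
      KaehlerDifferential.map_D, Algebra.algebraMap_self, RingHom.id_apply]
  have h2 := congrArg Φ hkey
  rw [map_sum, map_zero] at h2
  simp only [map_smul, hΦ] at h2
  rw [Finset.sum_eq_single i₀] at h2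
  · have h3 := hφ ⟨i₀, hi₀⟩
    rw [if_pos rfl] at h3
    rw [h3, map_one, smul_eq_mul, mul_one] at h2
    exact (Finsupp.mem_support_iff.1 hi₀) h2
  · intro i hi hne'
    have h3 := hφ ⟨i, hi⟩
    rw [if_neg (fun h => hne' (congrArg Subtype.val h))] at h3
    rw [h3, map_zero, smul_zero]
  · intro h
    exact absurd hi₀ h

end Groth.Agent.Lib.Helper19.SymFS
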