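import Groth.Agent.Lib.Helper19SymExt
import Groth.Agent.Lib.Helper19SymFS3

/-!
# Transitivity of adic formal smoothness over a discrete formally smooth base (helper19)
-/

set_option autoImplicit false
set_option linter.style.haveILetI false
universe u

namespace Groth.Agent.Lib.Helper19.SymFS

open Groth.Agent.Lib.Helper19

variable {Λ A B : Type u} [CommRing Λ] [CommRing A] [CommRing B] [Algebra Λ A] [Algebra A B]
  [Algebra Λ B] [IsScalarTower Λ A B] (J : Ideal B)

/-- if `A` is formally smooth over `Λ` (discrete) and `B` is formally smooth over `A` for the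
`J`-adic topology, then `B` is formally smooth over `Λ` for the `J`-adic topology -/
theorem isAdicFormallySmooth_trans [Algebra.FormallySmooth Λ A]
    (h : CAlgX.IsAdicFormallySmooth A B J) : CAlgX.IsAdicFormallySmooth Λ B J := by
  rw [isAdicFormallySmooth_iff_isFormallySmoothAdic_bot] at h ⊢
  exact isFormallySmoothAdic_trans (⊥ : Ideal Λ) (⊥ : Ideal A) J ⟨1, by simp⟩
    (fun _ _ _ I hI _ u _ => Algebra.FormallySmooth.exists_lift I hI u) h

end Groth.Agent.Lib.Helper19.SymFS
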