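import Mathlib
import Groth.Agent.Lib.Helper11KoszulReg

/-!
# `T¹` of a complete intersection (helper19)

For a weakly regular sequence `f : Fin n → P`, `J = (f)`, `B = P/J`:
* `Φ : Hom_P(J, B) → B^n`, `φ ↦ (φ (f i))_i` is bijective.
-/

set_option autoImplicit false
universe u
open Groth.Agent.Lib.Helper11KoszulReg

namespace Groth.Agent.Lib.Helper19.T1CI

variable {P : Type u} [CommRing P] {n : ℕ} (f : Fin n → P)

local notation "J" => Ideal.span (Set.range f)

theorem f_mem (i : Fin n) : f i ∈ J := Ideal.subset_span (Set.mem_range_self i)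

/-- evaluation on the generators -/
noncomputable def Φ : (↥J →ₗ[P] (P ⧸ J)) →ₗ[P] (Fin n → P ⧸ J) where
  toFun φ := fun i => φ ⟨f i, f_mem f i⟩
  map_add' φ ψ := by ext i; simp
  map_smul' p φ := by ext i; simp

@[simp] theorem Φ_apply (φ : ↥J →ₗ[P] (P ⧸ J)) (i : Fin n) : Φ f φ i = φ ⟨f i, f_mem f i⟩ := rfl

theorem exists_sum (a : ↥J) : ∃ p : Fin n → P, a = ∑ i, p i • (⟨f i, f_mem f i⟩ : ↥J) := by
  obtain ⟨p, hp⟩ := (Ideal.mem_span_range_iff_exists_fun (R := P)).mp a.2
  refine ⟨p, ?_⟩
  apply Subtype.ext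
  rw [AddSubmonoidClass.coe_finsetSum, ← hp]
  refine Finset.sum_congr rfl fun i _ => ?_
  rw [Submodule.coe_smul, smul_eq_mul]

theorem Φ_injective : Function.Injective (Φ f) := by
  intro φ ψ h
  apply LinearMap.ext
  intro a
  obtain ⟨p, rfl⟩ := exists_sum f a
  rw [map_sum, map_sum]
  refine Finset.sum_congr rfl fun i _ => ?_
  rw [map_smul, map_smul]
  have := congrFun h i
  rw [Φ_apply, Φ_apply] at this
  rw [this]

/-- the evaluation `P^n → P`, `p ↦ Σ p_i f_i` -/
noncomputable def ev : (Fin n → P) →ₗ[P] P := Fintype.linearCombination P f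

theorem ev_apply (p : Fin n → P) : ev f p = ∑ i, p i * f i := by
  rw [ev, Fintype.linearCombination_apply]
  rfl

theorem range_ev : LinearMap.range (ev f) = J := by
  ext a
  rw [LinearMap.mem_range, Ideal.mem_span_range_iff_exists_fun]
  constructor
  · rintro ⟨p, rfl⟩; exact ⟨p, (ev_apply f p).symm⟩
  · rintro ⟨p, rfl⟩; exact ⟨p, ev_apply f p⟩

/-- `p ↦ Σ p_i • b_i` -/
noncomputable def β (b : Fin n → P ⧸ J) : (Fin n → P) →ₗ[P] (P ⧸ J) :=
  Fintype.linearCombination P b

theorem β_apply (b : Fin n → P ⧸ J) (p : Fin n → P) : β f b p = ∑ i, p i • b i := by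
  rw [β, Fintype.linearCombination_apply]

theorem f_smul (i : Fin n) (y : P ⧸ J) : f i • y = 0 := by
  obtain ⟨y, rfl⟩ := Ideal.Quotient.mk_surjective y
  rw [← Ideal.Quotient.mk_eq_mk, ← Submodule.Quotient.mk_smul, Submodule.Quotient.mk_eq_zero,
    smul_eq_mul]
  exact Ideal.mul_mem_right _ _ (f_mem f i)

theorem ker_ev_le (hreg : RingTheory.Sequence.IsWeaklyRegular P (List.ofFn f))
    (b : Fin n → P ⧸ J) : LinearMap.ker (ev f) ≤ LinearMap.ker (β f b) := by
  classical
  intro p hp
  rw [LinearMap.mem_ker, ev_apply] at hp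
  have hK := koszulH1Zero_of_isWeaklyRegular n f P hreg p (by
    rw [← hp]
    refine Finset.sum_congr rfl fun i _ => ?_
    rw [smul_eq_mul, mul_comm])
  rw [LinearMap.mem_ker]
  refine Submodule.span_induction ?_ ?_ ?_ ?_ hK
  · rintro _ ⟨i, j, x, rfl⟩
    rw [map_sub, map_smul, map_smul, β_apply, β_apply]
    simp only [Pi.single_apply, ite_smul, zero_smul, Finset.sum_ite_eq', Finset.mem_univ, if_true]
    rw [smul_comm, f_smul, smul_zero, smul_comm, f_smul, smul_zero, sub_zero]
  · exact map_zero _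
  · intro u v _ _ hu hv
    rw [map_add, hu, hv, add_zero]
  · intro c u _ hu
    rw [map_smul, hu, smul_zero]

theorem Φ_surjective (hreg : RingTheory.Sequence.IsWeaklyRegular P (List.ofFn f)) :
    Function.Surjective (Φ f) := by
  classical
  intro b
  let e₁ : ((Fin n → P) ⧸ LinearMap.ker (ev f)) ≃ₗ[P] ↥J :=
    (LinearMap.quotKerEquivRange (ev f)).trans (LinearEquiv.ofEq _ _ (range_ev f))
  let φ : ↥J →ₗ[P] (P ⧸ J) :=
    (Submodule.liftQ _ (β f b) (ker_ev_le f hreg b)) ∘ₗ e₁.symm.toLinearMap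
  refine ⟨φ, ?_⟩
  ext i
  rw [Φ_apply]
  have h1 : e₁.symm ⟨f i, f_mem f i⟩ = Submodule.Quotient.mk (Pi.single i 1) := by
    rw [LinearEquiv.symm_apply_eq]
    apply Subtype.ext
    change f i = ev f (Pi.single i 1)
    rw [ev_apply, Finset.sum_eq_single i]
    · rw [Pi.single_eq_same, one_mul]
    · intro j _ hj
      rw [Pi.single_eq_of_ne hj, zero_mul]
    · intro h; exact absurd (Finset.mem_univ i) h
  change (Submodule.liftQ _ (β f b) (ker_ev_le f hreg b)) (e₁.symm ⟨f i, f_mem f i⟩) = b i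
  rw [h1, Submodule.liftQ_apply, β_apply, Finset.sum_eq_single i]
  · rw [Pi.single_eq_same, one_smul]
  · intro j _ hj
    rw [Pi.single_eq_of_ne hj, zero_smul]
  · intro h; exact absurd (Finset.mem_univ i) h

section Main

open MvPolynomial

theorem deriv_eq_sum {k : Type u} [CommRing k] {d : ℕ} {B : Type u} [AddCommGroup B]
    [Module k B] [Module (MvPolynomial (Fin d) k) B] [IsScalarTower k (MvPolynomial (Fin d) k) B]
    (D : Derivation k (MvPolynomial (Fin d) k) B) (p : MvPolynomial (Fin d) k) :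
    D p = ∑ j, pderiv j p • D (X j) := by
  induction p using MvPolynomial.induction_on with
  | C a =>
    simp [MvPolynomial.derivation_C]
  | add p q hp hq =>
    rw [map_add, hp, hq, ← Finset.sum_add_distrib]
    refine Finset.sum_congr rfl fun j _ => ?_
    rw [map_add, add_smul]
  | mul_X p i hp =>
    rw [Derivation.leibniz, hp, Finset.smul_sum]
    have : ∀ j : Fin d, pderiv j (p * X i) • D (X j) =
        (X i : MvPolynomial (Fin d) k) • (pderiv j p • D (X j)) +
          (if i = j then p • D (X i) else 0) := by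
      intro j
      rw [Derivation.leibniz, add_smul, smul_eq_mul, smul_eq_mul, pderiv_X, add_comm]
      congr 1
      · rw [mul_smul, smul_comm]
      · by_cases h : i = j
        · subst h; simp
        · rw [if_neg h]
          simp [h]
    simp_rw [this]
    rw [Finset.sum_add_distrib, Finset.sum_ite_eq, if_pos (Finset.mem_univ _), add_comm]

section
variable (k : Type u) [Field k] (d n : ℕ) (f : Fin n → MvPolynomial (Fin d) k)
local notation "P" => MvPolynomial (Fin d) k
local notation "J" => Ideal.span (Set.range f)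

theorem t1_equiv
    (hreg : RingTheory.Sequence.IsWeaklyRegular (MvPolynomial (Fin d) k) (List.ofFn f)) :
    ∃ e : ((↥(Ideal.span (Set.range f)) →ₗ[MvPolynomial (Fin d) k] (MvPolynomial (Fin d) k ⧸ Ideal.span (Set.range f))) ⧸
            Submodule.span (MvPolynomial (Fin d) k)
              {ψ : ↥(Ideal.span (Set.range f)) →ₗ[MvPolynomial (Fin d) k] (MvPolynomial (Fin d) k ⧸ Ideal.span (Set.range f)) |
                ∃ D : Derivation k (MvPolynomial (Fin d) k) (MvPolynomial (Fin d) k ⧸ Ideal.span (Set.range f)), ∀ a : ↥(Ideal.span (Set.range f)), ψ a = D (a : MvPolynomial (Fin d) k)}) ≃ₗ[MvPolynomial (Fin d) k]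
          ((Fin n → MvPolynomial (Fin d) k ⧸ Ideal.span (Set.range f)) ⧸
            Submodule.span (MvPolynomial (Fin d) k ⧸ Ideal.span (Set.range f))
              (Set.range fun j : Fin d => fun i : Fin n => Ideal.Quotient.mk (Ideal.span (Set.range f)) (pderiv j (f i)))),
      ∀ φ : ↥(Ideal.span (Set.range f)) →ₗ[MvPolynomial (Fin d) k] (MvPolynomial (Fin d) k ⧸ Ideal.span (Set.range f)),
        e (Submodule.Quotient.mk φ) =
          Submodule.Quotient.mk (fun i : Fin n => φ ⟨f i, Ideal.subset_span (Set.mem_range_self i)⟩) := by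
  classical
  let W : Submodule (P ⧸ J) (Fin n → P ⧸ J) := Submodule.span (P ⧸ J)
    (Set.range fun j : Fin d => fun i : Fin n => Ideal.Quotient.mk J (pderiv j (f i)))
  let Sub : Submodule P (↥J →ₗ[P] (P ⧸ J)) := Submodule.span P
    {ψ | ∃ D : Derivation k P (P ⧸ J), ∀ a : ↥J, ψ a = D (a : P)}
  -- the quotient map, P-linear
  let q : (Fin n → P ⧸ J) →ₗ[P] ((Fin n → P ⧸ J) ⧸ W) :=
    { toFun := Submodule.Quotient.mk
      map_add' := fun _ _ => rfl
      map_smul' := fun _ _ => rfl }
  have hq_surj : Function.Surjective q := Submodule.Quotient.mk_surjective W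
  have hq_zero : ∀ v, q v = 0 ↔ v ∈ W := fun v => Submodule.Quotient.mk_eq_zero W
  -- value of Φ on a derivation
  have hΦD : ∀ (D : Derivation k P (P ⧸ J)) (ψ : ↥J →ₗ[P] (P ⧸ J)),
      (∀ a : ↥J, ψ a = D (a : P)) → Φ f ψ = ∑ j, D (X j) • (fun i : Fin n =>
        Ideal.Quotient.mk J (pderiv j (f i))) := by
    intro D ψ hψ
    ext i
    rw [Φ_apply, hψ, deriv_eq_sum D (f i), Finset.sum_apply]
    refine Finset.sum_congr rfl fun j _ => ?_
    rw [Pi.smul_apply, smul_eq_mul, mul_comm, ← Ideal.Quotient.algebraMap_eq,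
      ← Algebra.smul_def]
  have hle : Sub ≤ LinearMap.ker (q ∘ₗ Φ f) := by
    rw [Submodule.span_le]
    rintro ψ ⟨D, hD⟩
    rw [SetLike.mem_coe, LinearMap.mem_ker, LinearMap.comp_apply, hq_zero, hΦD D ψ hD]
    refine Submodule.sum_mem _ fun j _ => ?_
    exact Submodule.smul_mem _ _ (Submodule.subset_span ⟨j, rfl⟩)
  let e₀ := Submodule.liftQ Sub (q ∘ₗ Φ f) hle
  have he₀ : ∀ φ, e₀ (Submodule.Quotient.mk φ) = q (Φ f φ) := fun φ => rfl
  have hinj : Function.Injective e₀ := by
    rw [injective_iff_map_eq_zero]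
    intro z hz
    obtain ⟨φ, rfl⟩ := Submodule.Quotient.mk_surjective _ z
    rw [he₀, hq_zero] at hz
    -- write Φ φ as a combination of columns
    obtain ⟨c, hc⟩ := (Submodule.mem_span_range_iff_exists_fun (P ⧸ J)).mp hz
    let D : Derivation k P (P ⧸ J) := mkDerivation k c
    -- the restriction of D
    let ψ : ↥J →ₗ[P] (P ⧸ J) :=
      { toFun := fun a => D (a : P)
        map_add' := fun a b => by simp
        map_smul' := fun p a => by
          simp only [SetLike.val_smul, smul_eq_mul, Derivation.leibniz, RingHom.id_apply]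
          have : (a : P) • D p = 0 := by
            obtain ⟨y, hy⟩ := Ideal.Quotient.mk_surjective (D p)
            rw [← hy, ← Ideal.Quotient.mk_eq_mk, ← Submodule.Quotient.mk_smul,
              Submodule.Quotient.mk_eq_zero, smul_eq_mul]
            exact Ideal.mul_mem_right _ _ a.2
          rw [this, add_zero] }
    have hψ : ∀ a : ↥J, ψ a = D (a : P) := fun a => rfl
    have h1 := hΦD D ψ hψ
    have h2 : Φ f ψ = Φ f φ := by
      rw [h1, ← hc]
      refine Finset.sum_congr rfl fun j _ => ?_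
      rw [mkDerivation_X]
    have h3 := Φ_injective f h2
    rw [Submodule.Quotient.mk_eq_zero, ← h3]
    exact Submodule.subset_span ⟨D, hψ⟩
  have hsurj : Function.Surjective e₀ := by
    intro z
    obtain ⟨v, rfl⟩ := hq_surj z
    obtain ⟨φ, rfl⟩ := Φ_surjective f hreg v
    exact ⟨Submodule.Quotient.mk φ, he₀ φ⟩
  exact ⟨LinearEquiv.ofBijective e₀ ⟨hinj, hsurj⟩, fun φ => rfl⟩

end

end Main

end Groth.Agent.Lib.Helper19.T1CI
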