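import Groth.Agent.Lib.Helper19ArcJ
import Groth.Agent.Lib.Helper19FibreProd
import Groth.Prelude.Def_W4c5t1liftcy3defoArt

/-!
# The key lemma of the `T¹`-lifting theorem for functors with an obstruction theory (helper19)
-/

set_option autoImplicit false
universe u v

open CategoryTheory ArtFun ArtFun.Art IsLocalRing Polynomial T1Lift
open scoped TensorProduct

namespace Groth.Agent.Lib.Helper19.T1L

open Groth.Agent.Lib.Helper19.Arc

variable (k : Type u) [Field k]

theorem algHom_mk {f : k[X]} {S : Type u} [CommRing S] [Algebra k S] (ψ : AdjoinRoot f →ₐ[k] S)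
    (p : k[X]) : ψ (AdjoinRoot.mk f p) = aeval (ψ (AdjoinRoot.root f)) p := by
  rw [← AdjoinRoot.aeval_eq, Polynomial.aeval_algHom_apply]

theorem αAlg_mk (n : ℕ) (p : k[X]) : αAlg k n (AdjoinRoot.mk _ p) = AdjoinRoot.mk _ p := by
  rw [algHom_mk, αAlg_t, AdjoinRoot.aeval_eq]

theorem εAlg_mk (n : ℕ) (p : k[X]) :
    εAlg k n (AdjoinRoot.mk _ p) =
      TrivSqZeroExt.inl (AdjoinRoot.mk _ p) + TrivSqZeroExt.inr (AdjoinRoot.mk _ (derivative p)) := by
  rw [algHom_mk, εAlg_t]
  have he : (DualNumber.eps : DualNumber (T1Lift.Tr k n)) = TrivSqZeroExt.inr 1 := rfl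
  rw [he]
  apply TrivSqZeroExt.ext
  · rw [fst_aeval, AdjoinRoot.aeval_eq]
    simp
  · rw [snd_aeval, AdjoinRoot.aeval_eq]
    simp

theorem αAlg_surjective (n : ℕ) : Function.Surjective (αAlg k n) := by
  intro y
  induction y using AdjoinRoot.induction_on with
  | ih p => exact ⟨AdjoinRoot.mk _ p, αAlg_mk k n p⟩

theorem εAlg_injective [CharZero k] (n : ℕ) : Function.Injective (εAlg k (n + 1)) := by
  rw [injective_iff_map_eq_zero]
  intro x hx
  induction x using AdjoinRoot.induction_on with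
  | ih g =>
    rw [εAlg_mk] at hx
    have h1 : AdjoinRoot.mk ((X : k[X]) ^ (n + 1 + 1)) g = 0 := by
      have := congrArg TrivSqZeroExt.fst hx
      simpa using this
    have h2 : AdjoinRoot.mk ((X : k[X]) ^ (n + 1 + 1)) (derivative g) = 0 := by
      have := congrArg TrivSqZeroExt.snd hx
      simpa using this
    rw [AdjoinRoot.mk_eq_zero, Polynomial.X_pow_dvd_iff] at h1 h2 ⊢
    intro d hd
    rcases Nat.eq_zero_or_pos d with rfl | hd0
    · exact h1 0 (by omega)
    · obtain ⟨e, rfl⟩ : ∃ e, d = e + 1 := ⟨d - 1, by omega⟩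
      have h3 := h2 e (by omega)
      rw [coeff_derivative] at h3
      have h4 : ((e : k) + 1) ≠ 0 := by exact_mod_cast Nat.succ_ne_zero e
      exact (mul_eq_zero.1 h3).resolve_right h4

theorem mem_maximalIdeal_Tr_iff (n : ℕ) (a : T1Lift.Tr k n) :
    a ∈ maximalIdeal (T1Lift.Tr k n) ↔ ∃ b, a = t k n * b := by
  have h0 := (A k n).mem_maximalIdeal_iff a
  constructor
  · intro h
    have h' : resA k n a = 0 := h0.1 h
    obtain ⟨b, hb⟩ := eq_algebraMap_add_t_mul k n a
    rw [h', map_zero, zero_add] at hb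
    exact ⟨b, hb⟩
  · rintro ⟨b, rfl⟩
    apply h0.2
    show resA k n (t k n * b) = 0
    rw [map_mul, resA_t, zero_mul]

theorem mul_eq_zero_of_mem_ker_αAlg (n : ℕ) (a x : T1Lift.Tr k (n + 1))
    (ha : a ∈ maximalIdeal (T1Lift.Tr k (n + 1))) (hx : αAlg k n x = 0) : a * x = 0 := by
  obtain ⟨b, rfl⟩ := (mem_maximalIdeal_Tr_iff k (n + 1) a).1 ha
  induction x using AdjoinRoot.induction_on with
  | ih p =>
    rw [αAlg_mk, AdjoinRoot.mk_eq_zero] at hx
    obtain ⟨q, rfl⟩ := hx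
    rw [map_mul, map_pow, AdjoinRoot.mk_X]
    have h : t k (n + 1) * b * (AdjoinRoot.root _ ^ (n + 1) * AdjoinRoot.mk _ q) =
        t k (n + 1) ^ (n + 1 + 1) * (b * AdjoinRoot.mk _ q) := by ring
    rw [h, t_pow, zero_mul]

theorem isSemismallExt_α (n : ℕ) : IsSemismallExt (α k n) := by
  refine ⟨αAlg_surjective k n, ?_⟩
  rw [eq_bot_iff, Ideal.mul_le]
  intro a ha x hx
  rw [Ideal.mem_bot]
  exact mul_eq_zero_of_mem_ker_αAlg k n a x ha hx

theorem ε_β (m : ℕ) : ε k m ≫ β k m = α k m := by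
  apply Art.hom_ext
  apply AdjoinRoot.algHom_ext
  show TrivSqZeroExt.fst (εAlg k m (t k (m + 1))) = αAlg k m (t k (m + 1))
  rw [εAlg_t, αAlg_t]
  simp

theorem ε_ξ (m : ℕ) : ε k (m + 1) ≫ ξ k m = α k (m + 1) ≫ ε k m := by
  apply Art.hom_ext
  apply AdjoinRoot.algHom_ext
  show dualMap k (αAlg k m) (εAlg k (m + 1) (t k (m + 1 + 1))) =
    εAlg k m (αAlg k (m + 1) (t k (m + 1 + 1)))
  rw [εAlg_t, αAlg_t, εAlg_t]
  apply TrivSqZeroExt.ext
  · show αAlg k m (TrivSqZeroExt.fst (TrivSqZeroExt.inl (t k (m + 1)) + DualNumber.eps)) = _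
    simp
  · show αAlg k m (TrivSqZeroExt.snd (TrivSqZeroExt.inl (t k (m + 1)) + DualNumber.eps)) = _
    simp

theorem β_α (m : ℕ) : β k (m + 1) ≫ α k m = ξ k m ≫ β k m := by
  apply Art.hom_ext
  apply AlgHom.ext
  intro z
  rfl

theorem β_surjective (m : ℕ) : Function.Surjective (β k m) := fun a =>
  ⟨(TrivSqZeroExt.inl a : DualNumber (T1Lift.Tr k m)), rfl⟩

theorem fst_inl_add_inr {R : Type u} [CommRing R] (a c : R) :
    TrivSqZeroExt.fst (TrivSqZeroExt.inl a + TrivSqZeroExt.inr c : DualNumber R) = a := by simp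

theorem snd_inl_add_inr {R : Type u} [CommRing R] (a c : R) :
    TrivSqZeroExt.snd (TrivSqZeroExt.inl a + TrivSqZeroExt.inr c : DualNumber R) = c := by simp

/-- **The key lemma of the `T¹`-lifting theorem**: a curvilinear jet of `F` lifts iff its tangent
vector lifts. -/
theorem exists_lift_iff_exists_tangent_lift [CharZero k]
    (F : ArtFun.Art k k ⥤ Type v)
    (hRS : ∀ ⦃P A A' A'' : ArtFun.Art k k⦄ (p' : P ⟶ A') (p'' : P ⟶ A'') (f' : A' ⟶ A) (f'' : A'' ⟶ A)
      (h : ArtFun.Art.IsFibreProd p' p'' f' f''), Function.Surjective f'' →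
        Function.Bijective (ArtFun.cmp F h))
    (V : Type u) [AddCommGroup V] [Module k V] (O : ArtFun.ObsTheory F V)
    (hnat : ∀ ⦃A' A C' C : ArtFun.Art k k⦄ (φ : A' ⟶ A) (hφ : ArtFun.Art.IsSemismallExt φ)
      (ψ : C' ⟶ C) (hψ : ArtFun.Art.IsSemismallExt ψ) (g' : A' ⟶ C') (g : A ⟶ C), φ ≫ g = g' ≫ ψ →
      ∀ (ℓ : ↥(RingHom.ker φ.toAlgHom) →ₗ[k] ↥(RingHom.ker ψ.toAlgHom)),
        (∀ j : ↥(RingHom.ker φ.toAlgHom), ((ℓ j : ↥(RingHom.ker ψ.toAlgHom)) : C') = g' (j : A')) →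
        ∀ u : F.obj A, O.obs ψ hψ (F.map g u) = LinearMap.lTensor V ℓ (O.obs φ hφ u))
    (n : ℕ) (X : F.obj (T1Lift.A k (n + 1))) :
    (∃ X' : F.obj (T1Lift.A k (n + 2)), F.map (T1Lift.α k (n + 1)) X' = X) ↔
      ∃ Y : F.obj (T1Lift.B k (n + 1)), F.map (T1Lift.β k (n + 1)) Y = X ∧
        F.map (T1Lift.ξ k n) Y = F.map (T1Lift.ε k n) X := by
  constructor
  · rintro ⟨X', rfl⟩
    refine ⟨F.map (ε k (n + 1)) X', ?_, ?_⟩
    · rw [← FunctorToTypes.map_comp_apply, ε_β]
    · rw [← FunctorToTypes.map_comp_apply, ← FunctorToTypes.map_comp_apply, ε_ξ]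
  · rintro ⟨Y, hY1, hY2⟩
    have hβs := β_surjective k n
    let C : Art k k := pullbackObj (α k n) (β k n) hβs
    let pr₁ : C ⟶ A k (n + 1) := pullbackObjFst (α k n) (β k n) hβs
    let pr₂ : C ⟶ B k n := pullbackObjSnd (α k n) (β k n) hβs
    have hfp : IsFibreProd pr₁ pr₂ (α k n) (β k n) := isFibreProd_pullbackObj (α k n) (β k n) hβs
    let ψ : B k (n + 1) ⟶ C := fibreProdLift hfp (β k (n + 1)) (ξ k n) (β_α k n)
    let g : A k (n + 1) ⟶ C := fibreProdLift hfp (𝟙 _) (ε k n) (by rw [Category.id_comp, ε_β])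
    have hψ1 : ψ ≫ pr₁ = β k (n + 1) := fibreProdLift_fst hfp _ _ _
    have hψ2 : ψ ≫ pr₂ = ξ k n := fibreProdLift_snd hfp _ _ _
    have hg1 : g ≫ pr₁ = 𝟙 _ := fibreProdLift_fst hfp _ _ _
    have hg2 : g ≫ pr₂ = ε k n := fibreProdLift_snd hfp _ _ _
    have sq : α k (n + 1) ≫ g = ε k (n + 1) ≫ ψ := by
      apply fibreProd_hom_ext hfp
      · rw [Category.assoc, Category.assoc, hg1, hψ1, Category.comp_id, ε_β]
      · rw [Category.assoc, Category.assoc, hg2, hψ2, ε_ξ]
    have hψpr₁ : ∀ z : B k (n + 1), pr₁ (ψ z) = β k (n + 1) z := fun z => by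
      have h : (ψ ≫ pr₁) z = β k (n + 1) z := by rw [hψ1]
      exact h
    have hψpr₂ : ∀ z : B k (n + 1), pr₂ (ψ z) = ξ k n z := fun z => by
      have h : (ψ ≫ pr₂) z = ξ k n z := by rw [hψ2]
      exact h
    -- `ψ` is a semismall extension
    have hψ : IsSemismallExt ψ := by
      constructor
      · intro c
        obtain ⟨c', hc'⟩ := αAlg_surjective k n (TrivSqZeroExt.snd (pr₂ c))
        let z : DualNumber (T1Lift.Tr k (n + 1)) := TrivSqZeroExt.inl (pr₁ c) + TrivSqZeroExt.inr c'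
        refine ⟨z, hfp.inj _ _ ?_ ?_⟩
        · have h1 : pr₁ (ψ z) = β k (n + 1) z := hψpr₁ z
          rw [h1]
          exact fst_inl_add_inr (R := T1Lift.Tr k (n + 1)) (pr₁ c) c'
        · have h1 : pr₂ (ψ z) = ξ k n z := hψpr₂ z
          rw [h1]
          have h2 : αAlg k n (pr₁ c) = TrivSqZeroExt.fst (pr₂ c) := hfp.w_apply c
          apply TrivSqZeroExt.ext
          · show αAlg k n (TrivSqZeroExt.fst z) = _
            have h3 : TrivSqZeroExt.fst z = pr₁ c :=
              fst_inl_add_inr (R := T1Lift.Tr k (n + 1)) (pr₁ c) c'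
            rw [h3, h2]
          · show αAlg k n (TrivSqZeroExt.snd z) = _
            have h3 : TrivSqZeroExt.snd z = c' :=
              snd_inl_add_inr (R := T1Lift.Tr k (n + 1)) (pr₁ c) c'
            rw [h3, hc']
      · rw [eq_bot_iff, Ideal.mul_le]
        intro w hw z hz
        rw [Ideal.mem_bot]
        have hz0 : ψ z = 0 := hz
        have hz1 : TrivSqZeroExt.fst z = 0 := by
          have h1 : pr₁ (ψ z) = β k (n + 1) z := hψpr₁ z
          rw [hz0] at h1
          exact h1.symm.trans (map_zero pr₁.toAlgHom)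
        have hz2 : αAlg k n (TrivSqZeroExt.snd z) = 0 := by
          have h1 : pr₂ (ψ z) = ξ k n z := hψpr₂ z
          rw [hz0] at h1
          have h2 : ξ k n z = 0 := h1.symm.trans (map_zero pr₂.toAlgHom)
          exact congrArg TrivSqZeroExt.snd h2
        have hw1 : TrivSqZeroExt.fst w ∈ maximalIdeal (T1Lift.Tr k (n + 1)) := by
          have h1 := ((B k (n + 1)).mem_maximalIdeal_iff w).1 hw
          exact ((A k (n + 1)).mem_maximalIdeal_iff _).2 h1
        have h3 := mul_eq_zero_of_mem_ker_αAlg k n _ _ hw1 hz2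
        have hmul : ∀ w' z' : DualNumber (T1Lift.Tr k (n + 1)), TrivSqZeroExt.fst z' = 0 →
            TrivSqZeroExt.fst w' * TrivSqZeroExt.snd z' = 0 → w' * z' = 0 := by
          intro w' z' h1 h2
          apply TrivSqZeroExt.ext
          · rw [TrivSqZeroExt.fst_mul, h1, mul_zero]
            rfl
          · rw [TrivSqZeroExt.snd_mul, h1]
            simp only [smul_eq_mul, MulOpposite.op_zero, zero_smul, add_zero]
            exact h2
        exact hmul w z hz1 h3
    -- the map on kernels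
    have hℓmem : ∀ j : ↥(RingHom.ker (α k (n + 1)).toAlgHom),
        ε k (n + 1) (j : A k (n + 2)) ∈ RingHom.ker ψ.toAlgHom := by
      intro j
      have h1 : ψ (ε k (n + 1) (j : A k (n + 2))) = g (α k (n + 1) (j : A k (n + 2))) :=
        (comp_apply_eq sq (j : A k (n + 2))).symm
      have h2 : α k (n + 1) (j : A k (n + 2)) = 0 := j.2
      rw [h2] at h1
      exact h1.trans (map_zero g.toAlgHom)
    let ℓ : ↥(RingHom.ker (α k (n + 1)).toAlgHom) →ₗ[k] ↥(RingHom.ker ψ.toAlgHom) :=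
      { toFun := fun j => ⟨ε k (n + 1) (j : A k (n + 2)), hℓmem j⟩
        map_add' := fun x y => Subtype.ext (map_add (ε k (n + 1)).toAlgHom _ _)
        map_smul' := fun c x => Subtype.ext (map_smul (ε k (n + 1)).toAlgHom c _) }
    have hℓinj : Function.Injective ℓ := by
      intro x y hxy
      apply Subtype.ext
      apply εAlg_injective k n
      exact congrArg Subtype.val hxy
    have hob := hnat (α k (n + 1)) (isSemismallExt_α k (n + 1)) ψ hψ (ε k (n + 1)) g sq ℓ
      (fun j => rfl) X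
    have hgX : F.map g X = F.map ψ Y := by
      apply (hRS pr₁ pr₂ (α k n) (β k n) hfp hβs).1
      apply FibProd.ext
      · show F.map pr₁ (F.map g X) = F.map pr₁ (F.map ψ Y)
        rw [← FunctorToTypes.map_comp_apply, ← FunctorToTypes.map_comp_apply, hg1, hψ1, hY1,
          FunctorToTypes.map_id_apply]
      · show F.map pr₂ (F.map g X) = F.map pr₂ (F.map ψ Y)
        rw [← FunctorToTypes.map_comp_apply, ← FunctorToTypes.map_comp_apply, hg2, hψ2, hY2]
    have hzero : O.obs ψ hψ (F.map g X) = 0 := by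
      rw [hgX]
      exact (O.obs_eq_zero_iff ψ hψ _).2 ⟨Y, rfl⟩
    rw [hzero] at hob
    have hinj : Function.Injective (LinearMap.lTensor V ℓ) :=
      Module.Flat.lTensor_preserves_injective_linearMap ℓ hℓinj
    have h0' : O.obs (α k (n + 1)) (isSemismallExt_α k (n + 1)) X = 0 := by
      apply hinj
      rw [← hob, map_zero]
    exact (O.obs_eq_zero_iff _ _ X).1 h0'

end Groth.Agent.Lib.Helper19.T1L
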