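import Groth.Agent.Lib.Helper19LciH1A
import Groth.Agent.Lib.Helper19CotTwo

/-!
# Families all of whose relations are trivial are regular sequences (Noetherian local case)

`g : Fin n → A` in the maximal ideal of a Noetherian local ring with `Q A g ≤ F0 A g` (every
relation is a combination of the Koszul relations) is a weakly regular sequence.
-/

set_option autoImplicit false
set_option linter.unusedSectionVars false
set_option linter.style.haveILetI false
universe u

namespace Groth.Agent.Lib.Helper19.T2Reg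

open Groth.Agent.Lib.Helper19.Kos Groth.Agent.Lib.Helper19.LciH1

section split

variable {A : Type u} [CommRing A] {n : ℕ} (g : Fin (n + 1) → A)

/-- the first `n` members -/
def g' : Fin n → A := fun i => g (Fin.castSucc i)

/-- restriction of a vector to the first `n` coordinates -/
noncomputable def r : (Fin (n + 1) →₀ A) →ₗ[A] (Fin n →₀ A) :=
  Finsupp.lcomapDomain Fin.castSucc (Fin.castSucc_injective n)

lemma r_apply (y : Fin (n + 1) →₀ A) (i : Fin n) : r y i = y (Fin.castSucc i) := rfl

/-- extension of a vector by zero -/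
noncomputable def ext0 : (Fin n →₀ A) →ₗ[A] (Fin (n + 1) →₀ A) :=
  Finsupp.lmapDomain A A Fin.castSucc

lemma ext0_single (i : Fin n) (c : A) :
    ext0 (Finsupp.single i c) = Finsupp.single (Fin.castSucc i) c := by
  rw [ext0, Finsupp.lmapDomain_apply, Finsupp.mapDomain_single]

lemma r_ext0 (b : Fin n →₀ A) : r (ext0 b) = b := by
  ext i
  rw [r_apply, ext0, Finsupp.lmapDomain_apply,
    Finsupp.mapDomain_apply (Fin.castSucc_injective n)]

lemma ext0_last (b : Fin n →₀ A) : ext0 b (Fin.last n) = 0 := by
  rw [ext0, Finsupp.lmapDomain_apply]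
  apply Finsupp.mapDomain_notin_range
  rintro ⟨i, hi⟩
  exact Fin.castSucc_ne_last i hi

lemma r_single_last (c : A) : r (Finsupp.single (Fin.last n) c) = 0 := by
  ext i
  rw [r_apply, Finsupp.single_apply, if_neg (Fin.castSucc_ne_last i).symm, Finsupp.zero_apply]

lemma r_single_castSucc (i : Fin n) (c : A) :
    r (Finsupp.single (Fin.castSucc i) c) = Finsupp.single i c := by
  ext j
  rw [r_apply, Finsupp.single_apply, Finsupp.single_apply]
  simp only [Fin.castSucc_inj]

lemma jm_split (y : Fin (n + 1) →₀ A) :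
    jm A g y = jm A (g' g) (r y) + y (Fin.last n) * g (Fin.last n) := by
  induction y using Finsupp.induction_linear with
  | zero => simp
  | add x y hx hy => rw [map_add, map_add, map_add, hx, hy, Finsupp.add_apply]; ring
  | single i c =>
    induction i using Fin.lastCases with
    | last => rw [r_single_last, map_zero, zero_add, jm_single, Finsupp.single_eq_same]
    | cast i =>
      rw [r_single_castSucc, jm_single, jm_single, Finsupp.single_apply,
        if_neg (Fin.castSucc_ne_last i), zero_mul, add_zero]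
      rfl

lemma jm_ext0 (b : Fin n →₀ A) : jm A g (ext0 b) = jm A (g' g) b := by
  rw [jm_split, r_ext0, ext0_last, zero_mul, add_zero]

/-- the last coordinate of a trivial relation lies in the ideal of the first `n` members -/
lemma F0_last_mem {y : Fin (n + 1) →₀ A} (hy : y ∈ F0 A g) :
    y (Fin.last n) ∈ Ideal.span (Set.range (g' g)) := by
  induction hy using Submodule.span_induction with
  | mem y hy =>
    obtain ⟨u, v, rfl⟩ := hy
    rw [Finsupp.sub_apply, Finsupp.smul_apply, Finsupp.smul_apply, smul_eq_mul, smul_eq_mul,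
      jm_split g u, jm_split g v]
    have : (jm A (g' g) (r u) + u (Fin.last n) * g (Fin.last n)) * v (Fin.last n) -
        (jm A (g' g) (r v) + v (Fin.last n) * g (Fin.last n)) * u (Fin.last n) =
        jm A (g' g) (r u) * v (Fin.last n) - jm A (g' g) (r v) * u (Fin.last n) := by ring
    rw [this]
    exact Ideal.sub_mem _ (Ideal.mul_mem_right _ _ (jm_mem_span _ _))
      (Ideal.mul_mem_right _ _ (jm_mem_span _ _))
  | zero => rw [Finsupp.zero_apply]; exact Ideal.zero_mem _
  | add a b _ _ ha hb => rw [Finsupp.add_apply]; exact Ideal.add_mem _ ha hb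
  | smul c a _ ha => rw [Finsupp.smul_apply, smul_eq_mul]; exact Ideal.mul_mem_left _ _ ha

/-- the restriction of a trivial relation -/
lemma F0_restrict {y : Fin (n + 1) →₀ A} (hy : y ∈ F0 A g) :
    ∃ t ∈ F0 A (g' g), ∃ c : Fin n →₀ A, r y = t + g (Fin.last n) • c ∧
      y (Fin.last n) = - jm A (g' g) c := by
  induction hy using Submodule.span_induction with
  | mem y hy =>
    obtain ⟨u, v, rfl⟩ := hy
    refine ⟨jm A (g' g) (r u) • r v - jm A (g' g) (r v) • r u, kos_mem_F0 _ _ _ _,
      u (Fin.last n) • r v - v (Fin.last n) • r u, ?_, ?_⟩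
    · rw [map_sub, map_smul, map_smul, jm_split g u, jm_split g v, add_smul, add_smul, smul_sub,
        smul_smul, smul_smul, mul_smul, mul_smul, smul_smul, smul_smul]
      rw [mul_comm (u (Fin.last n)) (g (Fin.last n)), mul_comm (v (Fin.last n)) (g (Fin.last n))]
      abel
    · rw [Finsupp.sub_apply, Finsupp.smul_apply, Finsupp.smul_apply, smul_eq_mul, smul_eq_mul,
        jm_split g u, jm_split g v, map_sub, map_smul, map_smul, smul_eq_mul, smul_eq_mul]
      ring
  | zero => exact ⟨0, Submodule.zero_mem _, 0, by simp, by simp⟩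
  | add a b _ _ ha hb =>
    obtain ⟨t₁, ht₁, c₁, h1, h1'⟩ := ha
    obtain ⟨t₂, ht₂, c₂, h2, h2'⟩ := hb
    refine ⟨t₁ + t₂, Submodule.add_mem _ ht₁ ht₂, c₁ + c₂, ?_, ?_⟩
    · rw [map_add, h1, h2, smul_add]; abel
    · rw [Finsupp.add_apply, h1', h2', map_add]; ring
  | smul s a _ ha =>
    obtain ⟨t₁, ht₁, c₁, h1, h1'⟩ := ha
    refine ⟨s • t₁, Submodule.smul_mem _ _ ht₁, s • c₁, ?_, ?_⟩
    · rw [map_smul, h1, smul_add, smul_comm]
    · rw [Finsupp.smul_apply, h1', map_smul, smul_eq_mul, smul_eq_mul]; ring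

/-- the last member is a nonzerodivisor modulo the first `n` -/
theorem mem_of_mul_last_mem (hQ : Q A g ≤ F0 A g) (c : A)
    (hc : c * g (Fin.last n) ∈ Ideal.span (Set.range (g' g))) :
    c ∈ Ideal.span (Set.range (g' g)) := by
  rw [← range_jm] at hc
  obtain ⟨b, hb⟩ := hc
  have hx : Finsupp.single (Fin.last n) c - ext0 b ∈ Q A g := by
    rw [mem_Q, map_sub, jm_single, jm_ext0, hb, sub_self]
  have h1 := F0_last_mem g (hQ hx)
  rwa [Finsupp.sub_apply, Finsupp.single_eq_same, ext0_last, sub_zero] at h1

/-- the relations among the first `n` members are trivial modulo the last member -/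
theorem Q_le_sup (hQ : Q A g ≤ F0 A g) :
    Q A (g' g) ≤ F0 A (g' g) ⊔ Ideal.span {g (Fin.last n)} • Q A (g' g) := by
  intro q' hq'
  rw [mem_Q] at hq'
  have hq : ext0 q' ∈ Q A g := by rw [mem_Q, jm_ext0, hq']
  obtain ⟨t, ht, c, h1, h2⟩ := F0_restrict g (hQ hq)
  rw [r_ext0] at h1
  rw [ext0_last] at h2
  have hc : c ∈ Q A (g' g) := by
    rw [mem_Q]
    have := neg_eq_zero.mp h2.symm
    exact this
  rw [h1]
  exact Submodule.add_mem _ (Submodule.mem_sup_left ht)
    (Submodule.mem_sup_right (Submodule.smul_mem_smul (Ideal.mem_span_singleton_self _) hc))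

end split

section loc

variable {A : Type u} [CommRing A] [IsLocalRing A] [IsNoetherianRing A]

theorem Q_le_F0_init {n : ℕ} (g : Fin (n + 1) → A)
    (hm : g (Fin.last n) ∈ IsLocalRing.maximalIdeal A) (hQ : Q A g ≤ F0 A g) :
    Q A (g' g) ≤ F0 A (g' g) := by
  refine Submodule.le_of_le_smul_of_le_jacobson_bot (I := Ideal.span {g (Fin.last n)})
    (IsNoetherian.noetherian _) ?_ (Q_le_sup g hQ)
  rw [IsLocalRing.jacobson_eq_maximalIdeal ⊥ bot_ne_top, Ideal.span_singleton_le_iff_mem]
  exact hm

/-- a family in the maximal ideal of a Noetherian local ring all of whose relations are trivial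
is a weakly regular sequence -/
theorem isWeaklyRegular_of_Q_le_F0 : ∀ (n : ℕ) (g : Fin n → A),
    (∀ i, g i ∈ IsLocalRing.maximalIdeal A) → Q A g ≤ F0 A g →
    RingTheory.Sequence.IsWeaklyRegular A (List.ofFn g)
  | 0, g, _, _ => by
    rw [List.ofFn_zero]
    exact RingTheory.Sequence.IsWeaklyRegular.nil A A
  | n + 1, g, hm, hQ => by
    have IH := isWeaklyRegular_of_Q_le_F0 n (g' g) (fun i => hm _)
      (Q_le_F0_init g (hm _) hQ)
    rw [List.ofFn_succ', List.concat_eq_append, RingTheory.Sequence.isWeaklyRegular_append_iff]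
    refine ⟨IH, ?_⟩
    rw [RingTheory.Sequence.isWeaklyRegular_singleton_iff]
    rw [isSMulRegular_iff_right_eq_zero_of_smul]
    intro x hx
    obtain ⟨c, rfl⟩ := Submodule.Quotient.mk_surjective _ x
    rw [← Submodule.Quotient.mk_smul, Submodule.Quotient.mk_eq_zero] at hx
    rw [Submodule.Quotient.mk_eq_zero]
    have hI : (Ideal.ofList (List.ofFn fun i => g (Fin.castSucc i)) • ⊤ : Submodule A A) =
        Ideal.span (Set.range (g' g)) := by
      rw [smul_eq_mul, Ideal.mul_top]
      unfold Ideal.ofList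
      congr 1
      ext z
      simp [g', List.mem_ofFn]
    rw [hI] at hx ⊢
    rw [smul_eq_mul, mul_comm] at hx
    exact mem_of_mul_last_mem g hQ c hx

end loc

end Groth.Agent.Lib.Helper19.T2Reg
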