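import Groth.Agent.Lib.Helper19CotTwo

/-!
# Transfer of the vanishing of `T²` along `R → A → A/I` (ring level chase)

`R → A` a surjection of rings with kernel generated by `g : S → R`, `h : T → R` a family whose
images in `A` generate an ideal `I`, `M` an `A`-module killed by the `h t`.  If every `R`-linear
map `ker(R → A) → M` extends to a `k`-derivation `R → M` (`T¹(A/k, M) = 0`) then the vanishing of
`T²` of `R → A/I` at `M` implies that of `A → A/I`; if `T²(A/k, M) = 0` the converse holds.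
Everything is stated with the elementary `T2'` of `Helper19CotTwo`.
-/

set_option autoImplicit false
set_option linter.unusedSectionVars false
set_option linter.style.haveILetI false
universe u v w s t m

namespace Groth.Agent.Lib.Helper19.T2Trans

open Groth.Agent.Lib.Helper19.Kos Groth.Agent.Lib.Helper19.CotTwo

section general

variable {P : Type u} [CommRing P] {F : Type v} [AddCommGroup F] [Module P F] (j : F →ₗ[P] P)
  (M : Type m) [AddCommGroup M] [Module P M]

/-- the span of the trivial relations -/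
def tspan : Submodule P F := Submodule.span P {y : F | ∃ u v : F, y = j u • v - j v • u}

lemma tspan_le_ker : tspan j ≤ LinearMap.ker j := by
  refine Submodule.span_le.mpr ?_
  rintro _ ⟨u, v, rfl⟩
  rw [SetLike.mem_coe, LinearMap.mem_ker, map_sub, map_smul, map_smul, smul_eq_mul, smul_eq_mul,
    mul_comm, sub_self]

lemma gen_mem_tspan (u v : F) : j u • v - j v • u ∈ tspan j :=
  Submodule.subset_span ⟨u, v, rfl⟩

variable {j M}

lemma mem_killing' (g : LinearMap.ker j →ₗ[P] M) :
    g ∈ killing j M ↔ ∀ q : LinearMap.ker j, (q : F) ∈ tspan j → g q = 0 := mem_killing g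

/-- a linear map on `F` into a module killed by the image of `j` kills the trivial relations -/
lemma map_tspan_eq_zero (hjM : ∀ (x : F) (m : M), j x • m = 0) (L : F →ₗ[P] M) (y : F)
    (hy : y ∈ tspan j) : L y = 0 := by
  induction hy using Submodule.span_induction with
  | mem x hx =>
    obtain ⟨u, v, rfl⟩ := hx
    rw [map_sub, map_smul, map_smul, hjM, hjM, sub_zero]
  | zero => rw [map_zero]
  | add x y _ _ hx hy => rw [map_add, hx, hy, add_zero]
  | smul r x _ hx => rw [map_smul, hx, smul_zero]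

variable (j M)

lemma subsingleton_T2'_iff : Subsingleton (T2' j M) ↔ killing j M ≤ restr j M := by
  constructor
  · intro hs g hg
    have h1 : (⟨(restr j M).mkQ g, ⟨g, hg, rfl⟩⟩ : T2' j M) = 0 := Subsingleton.elim _ _
    have h2 : (restr j M).mkQ g = 0 := congrArg Subtype.val h1
    rwa [Submodule.mkQ_apply, Submodule.Quotient.mk_eq_zero] at h2
  · intro hle
    refine ⟨fun a b => ?_⟩
    have h0 : ∀ c : T2' j M, c = 0 := by
      rintro ⟨c, g, hg, rfl⟩
      apply Subtype.ext
      show (restr j M).mkQ g = 0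
      rw [Submodule.mkQ_apply, Submodule.Quotient.mk_eq_zero]
      exact hle hg
    rw [h0 a, h0 b]

end general

section chase

variable {k : Type w} {R : Type u} {A : Type v} [CommRing k] [CommRing R] [CommRing A]
  [Algebra k R] [Algebra R A] {S : Type s} {T : Type t} (g : S → R) (h : T → R)
  (M : Type m) [AddCommGroup M] [Module k M] [Module R M] [Module A M] [IsScalarTower R A M]

/-- the images of the `h t` in `A` -/
def hb : T → A := fun t => algebraMap R A (h t)

/-- `j'` on `F_S × F_T` -/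
noncomputable def j' : (S →₀ R) × (T →₀ R) →ₗ[R] R := (jm R g).coprod (jm R h)

lemma j'_apply (x : (S →₀ R) × (T →₀ R)) : j' g h x = jm R g x.1 + jm R h x.2 := rfl

/-- coefficientwise reduction `F_T → F_I` -/
noncomputable def ρ : (T →₀ R) →ₗ[R] (T →₀ A) :=
  Finsupp.mapRange.linearMap (Algebra.linearMap R A)

lemma ρ_single (t : T) (r : R) :
    ρ (A := A) (Finsupp.single t r) = Finsupp.single t (algebraMap R A r) := by
  rw [ρ, Finsupp.mapRange.linearMap_apply, Finsupp.mapRange_single]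
  rfl

lemma ρ_surjective (hπ : Function.Surjective (algebraMap R A)) :
    Function.Surjective (ρ (R := R) (A := A) (T := T)) := by
  intro b
  obtain ⟨b', hb'⟩ := Finsupp.mapRange_surjective (algebraMap R A) (map_zero _) hπ b
  exact ⟨b', hb'⟩

lemma jm_ρ (b : T →₀ R) : jm A (hb (A := A) h) (ρ b) = algebraMap R A (jm R h b) := by
  induction b using Finsupp.induction_linear with
  | zero => simp
  | add x y hx hy => rw [map_add, map_add, hx, hy, map_add, map_add]
  | single t r => rw [ρ_single, jm_single, jm_single, map_mul]; rfl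

/-- reduction `F_S × F_T → F_I` -/
noncomputable def ρ' : (S →₀ R) × (T →₀ R) →ₗ[R] (T →₀ A) :=
  ρ ∘ₗ LinearMap.snd R (S →₀ R) (T →₀ R)

lemma ρ'_apply (x : (S →₀ R) × (T →₀ R)) : ρ' (A := A) x = ρ x.2 := rfl

variable (hg : LinearMap.range (jm R g) = RingHom.ker (algebraMap R A))

include hg in
lemma algebraMap_jm_g (a : S →₀ R) : algebraMap R A (jm R g a) = 0 := by
  have : jm R g a ∈ RingHom.ker (algebraMap R A) := by rw [← hg]; exact ⟨a, rfl⟩
  exact this

include hg in
lemma jm_ρ' (x : (S →₀ R) × (T →₀ R)) :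
    jm A (hb (A := A) h) (ρ' x) = algebraMap R A (j' g h x) := by
  rw [ρ'_apply, jm_ρ, j'_apply, map_add, algebraMap_jm_g g hg, zero_add]

include hg in
lemma ρ'_mem_tspan (y : (S →₀ R) × (T →₀ R)) (hy : y ∈ tspan (j' g h)) :
    ρ' (A := A) y ∈ tspan (jm A (hb (A := A) h)) := by
  induction hy using Submodule.span_induction with
  | mem x hx =>
    obtain ⟨u, v, rfl⟩ := hx
    have : ρ' (A := A) (j' g h u • v - j' g h v • u) =
        jm A (hb (A := A) h) (ρ' u) • ρ' (A := A) v - jm A (hb (A := A) h) (ρ' v) • ρ' (A := A) u := by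
      rw [map_sub, map_smul, map_smul, jm_ρ' g h hg, jm_ρ' g h hg, algebraMap_smul, algebraMap_smul]
    rw [this]
    exact gen_mem_tspan _ _ _
  | zero => rw [map_zero]; exact Submodule.zero_mem _
  | add x y _ _ hx hy => rw [map_add]; exact Submodule.add_mem _ hx hy
  | smul r x _ hx =>
    rw [map_smul, ← algebraMap_smul A r (ρ' (A := A) x)]
    exact Submodule.smul_mem _ _ hx

include hg in
lemma ρ'_mem_ker (x : (S →₀ R) × (T →₀ R)) (hx : x ∈ LinearMap.ker (j' g h)) :
    ρ' (A := A) x ∈ LinearMap.ker (jm A (hb (A := A) h)) := by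
  rw [LinearMap.mem_ker] at hx ⊢
  rw [jm_ρ' g h hg, hx, map_zero]

variable (hM : ∀ (t : T) (m : M), h t • m = 0)

include hM in
lemma jm_h_smul (b : T →₀ R) (m : M) : jm R h b • m = 0 := by
  induction b using Finsupp.induction_linear with
  | zero => rw [map_zero, zero_smul]
  | add x y hx hy => rw [map_add, add_smul, hx, hy, add_zero]
  | single t r => rw [jm_single, mul_smul, hM, smul_zero]

include hg hM in
lemma j'_smul (x : (S →₀ R) × (T →₀ R)) (m : M) : j' g h x • m = 0 := by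
  rw [j'_apply, add_smul, jm_h_smul h M hM, add_zero, ← algebraMap_smul A, algebraMap_jm_g g hg,
    zero_smul]

/-- the pull back of a map on the relations of `A → A/I` to the relations of `R → A/I` -/
noncomputable def pullψ (ψ : LinearMap.ker (jm A (hb (A := A) h)) →ₗ[A] M) :
    LinearMap.ker (j' g h) →ₗ[R] M where
  toFun q := ψ ⟨ρ' q.1, ρ'_mem_ker g h hg q.1 q.2⟩
  map_add' q₁ q₂ := by
    rw [← map_add]
    congr 1
    apply Subtype.ext
    show ρ' (A := A) ((q₁ + q₂ : LinearMap.ker (j' g h)) : (S →₀ R) × (T →₀ R)) = _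
    rw [Submodule.coe_add, map_add]
    rfl
  map_smul' r q := by
    rw [RingHom.id_apply, ← algebraMap_smul A r (ψ _), ← map_smul]
    congr 1
    apply Subtype.ext
    show ρ' (A := A) ((r • q : LinearMap.ker (j' g h)) : (S →₀ R) × (T →₀ R)) = _
    rw [Submodule.coe_smul, map_smul, ← algebraMap_smul A r (ρ' (A := A) q.1)]
    rfl

lemma pullψ_apply (ψ : LinearMap.ker (jm A (hb (A := A) h)) →ₗ[A] M)
    (q : LinearMap.ker (j' g h)) :
    pullψ g h M hg ψ q = ψ ⟨ρ' q.1, ρ'_mem_ker g h hg q.1 q.2⟩ := rfl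

include hg hM in
/-- **Injectivity part of the chase.** If `R`-linear maps on `ker(R → A)` extend to derivations,
vanishing of `T²` for `R → A/I` implies vanishing of `T²` for `A → A/I`. -/
theorem killing_le_restr_of_le
    (hπ : Function.Surjective (algebraMap R A))
    (H1 : ∀ φ : (S →₀ R) →ₗ[R] M, (∀ a, jm R g a = 0 → φ a = 0) →
      ∃ D : Derivation k R M, ∀ a, D (jm R g a) = φ a)
    (H : killing (j' g h) M ≤ restr (j' g h) M) :
    killing (jm A (hb (A := A) h)) M ≤ restr (jm A (hb (A := A) h)) M := by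
  intro ψ hψ
  rw [mem_killing'] at hψ
  -- the pulled back map kills the trivial relations
  have h1 : pullψ g h M hg ψ ∈ killing (j' g h) M := by
    rw [mem_killing']
    intro q hq
    rw [pullψ_apply]
    exact hψ _ (ρ'_mem_tspan g h hg q.1 hq)
  obtain ⟨G', hG'⟩ := (mem_restr _).mp (H h1)
  -- the restriction to the first factor
  have hφ₀ : ∀ a, jm R g a = 0 → (G' ∘ₗ LinearMap.inl R (S →₀ R) (T →₀ R)) a = 0 := by
    intro a ha
    have hmem : ((a, 0) : (S →₀ R) × (T →₀ R)) ∈ LinearMap.ker (j' g h) := by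
      rw [LinearMap.mem_ker, j'_apply, ha, map_zero, add_zero]
    have h2 := hG' ⟨(a, 0), hmem⟩
    rw [pullψ_apply] at h2
    rw [LinearMap.comp_apply, LinearMap.inl_apply]
    rw [show G' ((a, 0) : (S →₀ R) × (T →₀ R)) = G' ((⟨(a, 0), hmem⟩ : LinearMap.ker (j' g h)) :
      (S →₀ R) × (T →₀ R)) from rfl, h2]
    have h3 : (⟨ρ' (A := A) ((a, 0) : (S →₀ R) × (T →₀ R)), ρ'_mem_ker g h hg _ hmem⟩ :
        LinearMap.ker (jm A (hb (A := A) h))) = 0 := by
      apply Subtype.ext
      show ρ' (A := A) ((a, 0) : (S →₀ R) × (T →₀ R)) = 0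
      rw [ρ'_apply, map_zero]
    rw [h3, map_zero]
  obtain ⟨D, hD⟩ := H1 _ hφ₀
  -- the map on `F_I`
  let G : (T →₀ A) →ₗ[A] M :=
    Finsupp.linearCombination A (fun t => G' ((0, Finsupp.single t 1) : (S →₀ R) × (T →₀ R)) - D (h t))
  have hGρ : ∀ b : T →₀ R, G (ρ b) = G' ((0, b) : (S →₀ R) × (T →₀ R)) - D (jm R h b) := by
    intro b
    induction b using Finsupp.induction_linear with
    | zero =>
      rw [map_zero, map_zero, map_zero, map_zero, show ((0, 0) : (S →₀ R) × (T →₀ R)) = 0 from rfl,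
        map_zero, sub_zero]
    | add x y hx hy =>
      rw [map_add, map_add, hx, hy, map_add, map_add,
        show ((0, x + y) : (S →₀ R) × (T →₀ R)) = (0, x) + (0, y) by
          rw [Prod.mk_add_mk, add_zero], map_add]
      abel
    | single t r =>
      rw [ρ_single, Finsupp.linearCombination_single, jm_single, Derivation.leibniz, hM, add_zero,
        algebraMap_smul, smul_sub,
        show ((0, Finsupp.single t r) : (S →₀ R) × (T →₀ R)) = r • (0, Finsupp.single t 1) by
          rw [Prod.smul_mk, smul_zero, Finsupp.smul_single, smul_eq_mul, mul_one], map_smul]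
  rw [mem_restr]
  refine ⟨G, fun q => ?_⟩
  obtain ⟨b, hb'⟩ := ρ_surjective (T := T) hπ q.1
  have hq : jm A (hb (A := A) h) q.1 = 0 := q.2
  have h4 : jm R h b ∈ LinearMap.range (jm R g) := by
    rw [hg, RingHom.mem_ker, ← jm_ρ, hb', hq]
  obtain ⟨a', ha'⟩ := h4
  have hmem : ((-a', b) : (S →₀ R) × (T →₀ R)) ∈ LinearMap.ker (j' g h) := by
    rw [LinearMap.mem_ker, j'_apply, map_neg, ha', neg_add_cancel]
  have h5 := hG' ⟨(-a', b), hmem⟩
  rw [pullψ_apply] at h5
  have h6 : (⟨ρ' (A := A) ((-a', b) : (S →₀ R) × (T →₀ R)), ρ'_mem_ker g h hg _ hmem⟩ :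
      LinearMap.ker (jm A (hb (A := A) h))) = q := by
    apply Subtype.ext
    show ρ' (A := A) ((-a', b) : (S →₀ R) × (T →₀ R)) = q.1
    rw [ρ'_apply, hb']
  rw [h6] at h5
  rw [← h5, ← hb', hGρ]
  show _ = G' ((-a', b) : (S →₀ R) × (T →₀ R))
  have h7 : ((-a', b) : (S →₀ R) × (T →₀ R)) = (-a', 0) + (0, b) := by
    rw [Prod.mk_add_mk, add_zero, zero_add]
  have h8 : G' ((-a', 0) : (S →₀ R) × (T →₀ R)) = D (jm R g (-a')) := by
    rw [hD]; rfl
  rw [h7, map_add, h8, map_neg, ha', map_neg]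
  abel

/-! ### The surjectivity part -/

lemma inl_mem_tspan (y : S →₀ R) (hy : y ∈ tspan (jm R g)) :
    ((y, 0) : (S →₀ R) × (T →₀ R)) ∈ tspan (j' g h) := by
  induction hy using Submodule.span_induction with
  | mem x hx =>
    obtain ⟨u, v, rfl⟩ := hx
    have : ((jm R g u • v - jm R g v • u, 0) : (S →₀ R) × (T →₀ R)) =
        j' g h (u, 0) • (v, 0) - j' g h (v, 0) • (u, 0) := by
      rw [j'_apply, j'_apply, map_zero, add_zero, add_zero, Prod.smul_mk, Prod.smul_mk,
        smul_zero, smul_zero, Prod.mk_sub_mk, sub_zero]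
    rw [this]
    exact gen_mem_tspan _ _ _
  | zero => exact Submodule.zero_mem _
  | add x y _ _ hx hy =>
    have : ((x + y, 0) : (S →₀ R) × (T →₀ R)) = (x, 0) + (y, 0) := by
      rw [Prod.mk_add_mk, add_zero]
    rw [this]; exact Submodule.add_mem _ hx hy
  | smul r x _ hx =>
    have : ((r • x, 0) : (S →₀ R) × (T →₀ R)) = r • (x, 0) := by
      rw [Prod.smul_mk, smul_zero]
    rw [this]; exact Submodule.smul_mem _ _ hx

/-- elements of `F_T` with coefficients in `ker(R → A)` are, modulo trivial relations, in `F_S` -/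
noncomputable def W : Submodule R (T →₀ R) :=
  Submodule.comap (LinearMap.inr R (S →₀ R) (T →₀ R))
    (tspan (j' g h) ⊔ LinearMap.range (LinearMap.inl R (S →₀ R) (T →₀ R)))

lemma single_jm_mem_W (t : T) (c : S →₀ R) : Finsupp.single t (jm R g c) ∈ W g h := by
  rw [W, Submodule.mem_comap, LinearMap.inr_apply]
  have h1 : ((0, Finsupp.single t (jm R g c)) : (S →₀ R) × (T →₀ R)) =
      (j' g h (c, 0) • (0, Finsupp.single t 1) - j' g h (0, Finsupp.single t 1) • (c, 0)) +
        (h t • c, 0) := by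
    rw [j'_apply, j'_apply, map_zero, map_zero, add_zero, zero_add, jm_single, one_mul,
      Prod.smul_mk, Prod.smul_mk, smul_zero, smul_zero, Prod.mk_sub_mk, Prod.mk_add_mk,
      Finsupp.smul_single, smul_eq_mul, mul_one, zero_sub, sub_zero, neg_add_cancel, add_zero]
  rw [h1]
  exact Submodule.add_mem _ (Submodule.mem_sup_left (gen_mem_tspan _ _ _))
    (Submodule.mem_sup_right ⟨h t • c, rfl⟩)

include hg in
lemma ker_ρ_le_W : LinearMap.ker (ρ (R := R) (A := A) (T := T)) ≤ W g h := by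
  intro b hb'
  rw [LinearMap.mem_ker] at hb'
  rw [← Finsupp.sum_single b]
  refine Submodule.sum_mem _ fun t _ => ?_
  have h1 : algebraMap R A (b t) = 0 := by
    have := DFunLike.congr_fun hb' t
    rwa [ρ, Finsupp.mapRange.linearMap_apply, Finsupp.mapRange_apply] at this
  have h2 : b t ∈ LinearMap.range (jm R g) := by rw [hg]; exact h1
  obtain ⟨c, hc⟩ := h2
  rw [← hc]
  exact single_jm_mem_W g h t c

include hg in
/-- lifting trivial relations of `A → A/I` -/
lemma exists_tspan_lift (hπ : Function.Surjective (algebraMap R A)) (z : T →₀ A)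
    (hz : z ∈ tspan (jm A (hb (A := A) h))) :
    ∃ y ∈ tspan (j' g h), ρ' (A := A) y = z := by
  induction hz using Submodule.span_induction with
  | mem x hx =>
    obtain ⟨u, v, rfl⟩ := hx
    obtain ⟨u', rfl⟩ := ρ_surjective (T := T) hπ u
    obtain ⟨v', rfl⟩ := ρ_surjective (T := T) hπ v
    refine ⟨j' g h (0, u') • (0, v') - j' g h (0, v') • (0, u'), gen_mem_tspan _ _ _, ?_⟩
    rw [map_sub, map_smul, map_smul, ← algebraMap_smul A (j' g h (0, u')),
      ← algebraMap_smul A (j' g h (0, v')), ← jm_ρ' g h hg, ← jm_ρ' g h hg]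
    rfl
  | zero => exact ⟨0, Submodule.zero_mem _, map_zero _⟩
  | add x y _ _ hx hy =>
    obtain ⟨x', hx', rfl⟩ := hx
    obtain ⟨y', hy', rfl⟩ := hy
    exact ⟨x' + y', Submodule.add_mem _ hx' hy', map_add _ _ _⟩
  | smul a x _ hx =>
    obtain ⟨x', hx', rfl⟩ := hx
    obtain ⟨r, rfl⟩ := hπ a
    refine ⟨r • x', Submodule.smul_mem _ _ hx', ?_⟩
    rw [map_smul, algebraMap_smul]

include hg hM in
/-- **Surjectivity part of the chase.** If `T²` of `R → A` vanishes at `M`, vanishing of `T²`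
for `A → A/I` implies vanishing of `T²` for `R → A/I`. -/
theorem le_of_killing_le_restr
    (hπ : Function.Surjective (algebraMap R A))
    (H2 : killing (jm R g) M ≤ restr (jm R g) M)
    (H : killing (jm A (hb (A := A) h)) M ≤ restr (jm A (hb (A := A) h)) M) :
    killing (j' g h) M ≤ restr (j' g h) M := by
  intro ψ' hψ'
  rw [mem_killing'] at hψ'
  -- restriction to the relations of `R → A`
  have hmem0 : ∀ a : LinearMap.ker (jm R g),
      ((a.1, 0) : (S →₀ R) × (T →₀ R)) ∈ LinearMap.ker (j' g h) := by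
    intro a
    have ha : jm R g a.1 = 0 := a.2
    rw [LinearMap.mem_ker, j'_apply, ha, map_zero, add_zero]
  obtain ⟨ψJ, hψJ⟩ : ∃ ψJ : LinearMap.ker (jm R g) →ₗ[R] M,
      ∀ a, ψJ a = ψ' ⟨(a.1, 0), hmem0 a⟩ :=
    ⟨{ toFun := fun a => ψ' ⟨(a.1, 0), hmem0 a⟩
       map_add' := fun a₁ a₂ => by
        rw [← map_add]
        congr 1
        apply Subtype.ext
        show (((a₁ + a₂ : LinearMap.ker (jm R g)) : S →₀ R), (0 : T →₀ R)) = (a₁.1, 0) + (a₂.1, 0)
        rw [Prod.mk_add_mk, add_zero, Submodule.coe_add]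
       map_smul' := fun r a => by
        rw [RingHom.id_apply, ← map_smul]
        congr 1
        apply Subtype.ext
        show (((r • a : LinearMap.ker (jm R g)) : S →₀ R), (0 : T →₀ R)) = r • (a.1, 0)
        rw [Prod.smul_mk, smul_zero, Submodule.coe_smul] }, fun a => rfl⟩
  have hψJk : ψJ ∈ killing (jm R g) M := by
    rw [mem_killing']
    intro a ha
    rw [hψJ]
    exact hψ' _ (inl_mem_tspan g h a.1 ha)
  obtain ⟨GJ, hGJ⟩ := (mem_restr _).mp (H2 hψJk)
  -- the corrected map
  obtain ⟨ψ'', hψ''⟩ : ∃ ψ'' : LinearMap.ker (j' g h) →ₗ[R] M,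
      ∀ q, ψ'' q = ψ' q - GJ q.1.1 :=
    ⟨ψ' - (GJ ∘ₗ LinearMap.fst R (S →₀ R) (T →₀ R)) ∘ₗ (LinearMap.ker (j' g h)).subtype,
      fun q => rfl⟩
  have hk1 : ∀ q : LinearMap.ker (j' g h), q.1 ∈ tspan (j' g h) → ψ'' q = 0 := by
    intro q hq
    rw [hψ'', hψ' q hq, zero_sub, neg_eq_zero]
    exact map_tspan_eq_zero (j'_smul g h M hg hM)
      (GJ ∘ₗ LinearMap.fst R (S →₀ R) (T →₀ R)) q.1 hq
  have hk2 : ∀ (a : S →₀ R) (ha : ((a, 0) : (S →₀ R) × (T →₀ R)) ∈ LinearMap.ker (j' g h)),
      ψ'' ⟨(a, 0), ha⟩ = 0 := by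
    intro a ha
    have ha' : a ∈ LinearMap.ker (jm R g) := by
      rw [LinearMap.mem_ker, j'_apply, map_zero, add_zero] at ha
      exact ha
    rw [hψ'']
    have := hGJ ⟨a, ha'⟩
    rw [hψJ] at this
    show ψ' ⟨(a, 0), ha⟩ - GJ a = 0
    rw [sub_eq_zero]
    exact this.symm
  -- `ψ''` vanishes on the kernel of the reduction
  have hK : ∀ y : LinearMap.ker (j' g h), ρ' (A := A) y.1 = 0 → ψ'' y = 0 := by
    intro y hy
    rw [ρ'_apply] at hy
    have hW := ker_ρ_le_W g h hg hy
    rw [W, Submodule.mem_comap, LinearMap.inr_apply, Submodule.mem_sup] at hW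
    obtain ⟨s, hs, _, ⟨c, rfl⟩, hsc⟩ := hW
    rw [LinearMap.inl_apply] at hsc
    have hs' : s ∈ LinearMap.ker (j' g h) := tspan_le_ker _ hs
    have hrest : ((y.1.1 + c, 0) : (S →₀ R) × (T →₀ R)) = y.1 - s := by
      have hs2 : s = (0, y.1.2) - (c, 0) := by rw [← hsc]; abel
      rw [hs2]
      apply Prod.ext
      · show y.1.1 + c = y.1.1 - ((0 : S →₀ R) - c)
        abel
      · show (0 : T →₀ R) = y.1.2 - (y.1.2 - 0)
        abel
    have hmem : ((y.1.1 + c, 0) : (S →₀ R) × (T →₀ R)) ∈ LinearMap.ker (j' g h) := by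
      rw [hrest]; exact Submodule.sub_mem _ y.2 hs'
    have hy' : y = ⟨(y.1.1 + c, 0), hmem⟩ + ⟨s, hs'⟩ := by
      apply Subtype.ext
      show y.1 = (y.1.1 + c, 0) + s
      rw [hrest]; abel
    rw [hy', map_add, hk2, hk1 ⟨s, hs'⟩ hs, add_zero]
  have key : ∀ y₁ y₂ : LinearMap.ker (j' g h), ρ' (A := A) y₁.1 = ρ' (A := A) y₂.1 →
      ψ'' y₁ = ψ'' y₂ := by
    intro y₁ y₂ h12
    rw [← sub_eq_zero, ← map_sub]
    apply hK
    rw [Submodule.coe_sub, map_sub, h12, sub_self]
  -- lifts of relations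
  have hsurj : ∀ q : LinearMap.ker (jm A (hb (A := A) h)),
      ∃ y : LinearMap.ker (j' g h), ρ' (A := A) y.1 = q.1 := by
    intro q
    obtain ⟨b, hb'⟩ := ρ_surjective (T := T) hπ q.1
    have hq : jm A (hb (A := A) h) q.1 = 0 := q.2
    have h4 : jm R h b ∈ LinearMap.range (jm R g) := by
      rw [hg, RingHom.mem_ker, ← jm_ρ, hb', hq]
    obtain ⟨a', ha'⟩ := h4
    refine ⟨⟨(-a', b), ?_⟩, ?_⟩
    · rw [LinearMap.mem_ker, j'_apply, map_neg, ha', neg_add_cancel]
    · show ρ' (A := A) ((-a', b) : (S →₀ R) × (T →₀ R)) = q.1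
      rw [ρ'_apply, hb']
  choose lift hlift using hsurj
  obtain ⟨ψ, hψ⟩ : ∃ ψ : LinearMap.ker (jm A (hb (A := A) h)) →ₗ[A] M,
      ∀ q, ψ q = ψ'' (lift q) :=
    ⟨{ toFun := fun q => ψ'' (lift q)
       map_add' := fun q₁ q₂ => by
        rw [← map_add]
        apply key
        rw [hlift, Submodule.coe_add, Submodule.coe_add (lift q₁) (lift q₂), map_add, hlift, hlift]
       map_smul' := fun a q => by
        obtain ⟨r, rfl⟩ := hπ a
        rw [RingHom.id_apply, algebraMap_smul A r (ψ'' (lift q)), ← map_smul]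
        apply key
        rw [hlift, Submodule.coe_smul, Submodule.coe_smul r (lift q), map_smul, hlift,
          algebraMap_smul] },
      fun q => rfl⟩
  have hψy : ∀ y : LinearMap.ker (j' g h),
      ψ ⟨ρ' (A := A) y.1, ρ'_mem_ker g h hg y.1 y.2⟩ = ψ'' y := by
    intro y
    rw [hψ]
    apply key
    rw [hlift]
  have hψk : ψ ∈ killing (jm A (hb (A := A) h)) M := by
    rw [mem_killing']
    intro q hq
    obtain ⟨y, hy, hyq⟩ := exists_tspan_lift g h hg hπ q.1 hq
    have hy' : y ∈ LinearMap.ker (j' g h) := tspan_le_ker _ hy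
    have : q = ⟨ρ' (A := A) (⟨y, hy'⟩ : LinearMap.ker (j' g h)).1,
        ρ'_mem_ker g h hg _ hy'⟩ := Subtype.ext hyq.symm
    rw [this, hψy]
    exact hk1 ⟨y, hy'⟩ hy
  obtain ⟨G, hG⟩ := (mem_restr _).mp (H hψk)
  rw [mem_restr]
  refine ⟨GJ ∘ₗ LinearMap.fst R (S →₀ R) (T →₀ R) + (G.restrictScalars R) ∘ₗ ρ' (A := A),
    fun y => ?_⟩
  rw [LinearMap.add_apply, LinearMap.comp_apply, LinearMap.comp_apply, LinearMap.fst_apply,
    LinearMap.restrictScalars_apply]
  have h1 := hG ⟨ρ' (A := A) y.1, ρ'_mem_ker g h hg y.1 y.2⟩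
  rw [hψy, hψ''] at h1
  show GJ y.1.1 + G (ρ' (A := A) y.1) = ψ' y
  rw [show G (ρ' (A := A) y.1) = G ((⟨ρ' (A := A) y.1, ρ'_mem_ker g h hg y.1 y.2⟩ :
    LinearMap.ker (jm A (hb (A := A) h))) : T →₀ A) from rfl, h1]
  abel

end chase

end Groth.Agent.Lib.Helper19.T2Trans
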