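import Groth.Agent.Lib.Helper19T2RegA
import Groth.Agent.Lib.Helper19T2TransA

/-!
# Vanishing of `T²(A/I over A, -)` forces `I` to be generated by a regular sequence
(`A` Noetherian local)
-/

set_option autoImplicit false
set_option linter.unusedSectionVars false
set_option linter.style.haveILetI false
universe u

namespace Groth.Agent.Lib.Helper19.T2Reg

open Groth.Agent.Lib.Helper19.Kos Groth.Agent.Lib.Helper19.LciH1
  Groth.Agent.Lib.Helper19.CotTwo Groth.Agent.Lib.Helper19.T2Trans

section minimal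

variable {A : Type u} [CommRing A] [IsLocalRing A] [IsNoetherianRing A]

lemma jm_eq_sum {n : ℕ} (g : Fin n → A) (x : Fin n →₀ A) : jm A g x = ∑ j, x j * g j := by
  rw [jm, Finsupp.linearCombination_apply, x.sum_fintype (fun i c => c • g i)
    (fun i => zero_smul _ _)]
  rfl

/-- minimal families of generators: no relation has a unit coefficient -/
theorem exists_minimal_generators (I : Ideal A) :
    ∃ (n : ℕ) (g : Fin n → A), Ideal.span (Set.range g) = I ∧
      ∀ x ∈ Q A g, ∀ i, x i ∈ IsLocalRing.maximalIdeal A := by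
  classical
  have hP : ∃ n : ℕ, ∃ g : Fin n → A, Ideal.span (Set.range g) = I :=
    Submodule.fg_iff_exists_fin_generating_family.mp (IsNoetherian.noetherian I)
  obtain ⟨n, ⟨g, hg⟩, hmin⟩ : ∃ n : ℕ, (∃ g : Fin n → A, Ideal.span (Set.range g) = I) ∧
      ∀ m < n, ¬ ∃ g : Fin m → A, Ideal.span (Set.range g) = I :=
    ⟨Nat.find hP, Nat.find_spec hP, fun m hm => Nat.find_min hP hm⟩
  refine ⟨n, g, hg, fun x hx i => ?_⟩
  by_contra hxi
  have hu : IsUnit (x i) := by
    by_contra h
    exact hxi ((IsLocalRing.mem_maximalIdeal _).mpr h)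
  cases n with
  | zero => exact i.elim0
  | succ n =>
    refine hmin n (Nat.lt_succ_self n) ⟨fun j => g (i.succAbove j), ?_⟩
    apply le_antisymm
    · rw [← hg]
      apply Ideal.span_mono
      rintro _ ⟨j, rfl⟩
      exact ⟨i.succAbove j, rfl⟩
    · rw [← hg, Ideal.span_le]
      rintro _ ⟨j, rfl⟩
      have hrel : x i * g i + ∑ j, x (i.succAbove j) * g (i.succAbove j) = 0 := by
        rw [← Fin.sum_univ_succAbove (fun j => x j * g j) i, ← jm_eq_sum]
        exact (mem_Q A g x).mp hx
      have hgi : g i ∈ Ideal.span (Set.range fun j => g (i.succAbove j)) := by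
        obtain ⟨u, hu'⟩ := hu
        have h1 : g i = - (↑u⁻¹ * ∑ j, x (i.succAbove j) * g (i.succAbove j)) := by
          have h2 : x i * g i = - ∑ j, x (i.succAbove j) * g (i.succAbove j) :=
            eq_neg_of_add_eq_zero_left hrel
          rw [← hu'] at h2
          calc g i = ↑u⁻¹ * (↑u * g i) := by rw [← mul_assoc, Units.inv_mul, one_mul]
            _ = _ := by rw [h2]; ring
        rw [h1]
        refine Ideal.neg_mem_iff _ |>.mpr (Ideal.mul_mem_left _ _ (Ideal.sum_mem _ fun j _ => ?_))
        exact Ideal.mul_mem_left _ _ (Ideal.subset_span ⟨j, rfl⟩)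
      by_cases hji : j = i
      · rw [SetLike.mem_coe, hji]; exact hgi
      · obtain ⟨j', rfl⟩ := Fin.exists_succAbove_eq hji
        exact Ideal.subset_span ⟨j', rfl⟩

end minimal

section vanish

variable {A : Type u} [CommRing A] [IsLocalRing A] [IsNoetherianRing A]

/-- the universal test module `Q/F₀`, realized inside `F/F₀` -/
abbrev TestMod {n : ℕ} (g : Fin n → A) : Type u :=
  ↥(Submodule.map (F0 A g).mkQ (LinearMap.ker (jm A g)))

/-- the universal map `Q → Q/F₀` -/
noncomputable def testMap {n : ℕ} (g : Fin n → A) : LinearMap.ker (jm A g) →ₗ[A] TestMod g :=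
  ((F0 A g).mkQ.domRestrict (LinearMap.ker (jm A g))).codRestrict _
    (fun q => ⟨q.1, q.2, rfl⟩)

lemma testMap_coe {n : ℕ} (g : Fin n → A) (q : LinearMap.ker (jm A g)) :
    (testMap g q : (Fin n →₀ A) ⧸ F0 A g) = (F0 A g).mkQ q.1 := rfl

lemma testMap_surjective {n : ℕ} (g : Fin n → A) : Function.Surjective (testMap g) := by
  rintro ⟨_, q, hq, rfl⟩
  exact ⟨⟨q, hq⟩, rfl⟩

lemma testMap_eq_zero_iff {n : ℕ} (g : Fin n → A) (q : LinearMap.ker (jm A g)) :
    testMap g q = 0 ↔ (q : Fin n →₀ A) ∈ F0 A g := by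
  rw [← Submodule.coe_eq_zero, testMap_coe, Submodule.mkQ_apply, Submodule.Quotient.mk_eq_zero]

/-- if `T²` vanishes on the universal test module, all relations of a minimal family of
generators are trivial -/
theorem Q_le_F0_of_killing_le {n : ℕ} (g : Fin n → A)
    (hmin : ∀ x ∈ Q A g, ∀ i, x i ∈ IsLocalRing.maximalIdeal A)
    (H : killing (jm A g) (TestMod g) ≤ restr (jm A g) (TestMod g)) :
    Q A g ≤ F0 A g := by
  classical
  have hψ : testMap g ∈ killing (jm A g) (TestMod g) := by
    rw [mem_killing]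
    intro q hq
    rw [testMap_eq_zero_iff]
    exact hq
  obtain ⟨G, hG⟩ := (mem_restr _).mp (H hψ)
  -- every class is in `m • ⊤`
  have hmem : ∀ q : LinearMap.ker (jm A g), testMap g q ∈
      IsLocalRing.maximalIdeal A • (⊤ : Submodule A (TestMod g)) := by
    intro q
    rw [← hG q]
    have hq : (q : Fin n →₀ A) = ∑ i, Finsupp.single i ((q : Fin n →₀ A) i) := by
      rw [Finsupp.univ_sum_single]
    rw [hq, map_sum]
    refine Submodule.sum_mem _ fun i _ => ?_
    have : G (Finsupp.single i ((q : Fin n →₀ A) i)) =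
        ((q : Fin n →₀ A) i) • G (Finsupp.single i 1) := by
      rw [← map_smul, Finsupp.smul_single, smul_eq_mul, mul_one]
    rw [this]
    exact Submodule.smul_mem_smul (hmin _ q.2 i) Submodule.mem_top
  have hfin : Module.Finite A (TestMod g) :=
    Module.Finite.of_surjective (testMap g) (testMap_surjective g)
  have htop : (⊤ : Submodule A (TestMod g)) = ⊥ := by
    refine Submodule.eq_bot_of_le_smul_of_le_jacobson_bot (IsLocalRing.maximalIdeal A) ⊤
      hfin.fg_top ?_ ?_
    · intro y _
      obtain ⟨q, rfl⟩ := testMap_surjective g y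
      exact hmem q
    · rw [IsLocalRing.jacobson_eq_maximalIdeal ⊥ bot_ne_top]
  intro q hq
  have h1 : testMap g ⟨q, hq⟩ ∈ (⊥ : Submodule A (TestMod g)) := by
    rw [← htop]; trivial
  rw [Submodule.mem_bot, testMap_eq_zero_iff] at h1
  exact h1

/-- the universal test module is killed by the ideal -/
theorem smul_testMod_eq_zero {n : ℕ} (g : Fin n → A) (a : A)
    (ha : a ∈ Ideal.span (Set.range g)) (y : TestMod g) : a • y = 0 := by
  obtain ⟨q, rfl⟩ := testMap_surjective g y
  rw [← map_smul, testMap_eq_zero_iff]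
  rw [← range_jm] at ha
  obtain ⟨x, rfl⟩ := ha
  have hq : jm A g (q : Fin n →₀ A) = 0 := q.2
  have : ((jm A g x • q : LinearMap.ker (jm A g)) : Fin n →₀ A) =
      jm A g x • (q : Fin n →₀ A) - jm A g (q : Fin n →₀ A) • x := by
    rw [hq, zero_smul, sub_zero]; rfl
  rw [this]
  exact kos_mem_F0 _ _ _ _

end vanish

end Groth.Agent.Lib.Helper19.T2Reg
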