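import Groth.Agent.Lib.Helper19T2TransA
import Groth.Agent.Lib.Helper19CotTVanish

/-!
# The hypotheses of the `T²`-transfer from the vanishing of `T¹`, `T²` of a presentation
-/

set_option autoImplicit false
set_option linter.unusedSectionVars false
set_option linter.style.haveILetI false
universe u v w t m

open TensorProduct

namespace Groth.Agent.Lib.Helper19.T2Trans

open Groth.Agent.Lib.Helper19.Kos Groth.Agent.Lib.Helper19.CotTwo

section hyps

variable {k : Type u} {A : Type v} [CommRing k] [CommRing A] [Algebra k A] {ι : Type w}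
  {σ : Type t} (P : Algebra.Presentation k A ι σ)
  (N : Type m) [AddCommGroup N] [Module A N] [Module P.toExtension.Ring N]
  [IsScalarTower P.toExtension.Ring A N] [Module k N] [IsScalarTower k P.toExtension.Ring N]

/-- if `T¹(A/k, N) = 0`, every linear map on the ideal of relations extends to a derivation -/
theorem H1_of_T1 (hT1 : Subsingleton (CotT.T1 P N))
    (φ : (σ →₀ P.toExtension.Ring) →ₗ[P.toExtension.Ring] N)
    (hφ : ∀ a, jm P.toExtension.Ring (CotT.rel P) a = 0 → φ a = 0) :
    ∃ D : Derivation k P.toExtension.Ring N,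
      ∀ a, D (jm P.toExtension.Ring (CotT.rel P) a) = φ a := by
  let c : CotT.L1 P →ₗ[A] N := LinearMap.liftBaseChange A φ
  have hc : c ∈ CotT.cocycles1 P N := by
    rw [LinearMap.mem_ker, CotT.d2Star_apply]
    refine Submodule.linearMap_qext _ ?_
    rw [LinearMap.comp_assoc, CotT.d2_comp_mkQ]
    refine TensorProduct.AlgebraTensorModule.ext fun b q => ?_
    simp only [LinearMap.coe_comp, Function.comp_apply, LinearMap.baseChange_tmul,
      Submodule.coe_subtype, LinearMap.zero_apply]
    show LinearMap.liftBaseChange A φ (b ⊗ₜ (q : σ →₀ P.toExtension.Ring)) = 0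
    rw [LinearMap.liftBaseChange_tmul, hφ _ q.2, smul_zero]
  have h0 : (Submodule.Quotient.mk ⟨c, hc⟩ : CotT.T1 P N) = 0 := Subsingleton.elim _ _
  rw [Submodule.Quotient.mk_eq_zero] at h0
  obtain ⟨ψ, hψ⟩ := h0
  have hψ' : ψ ∘ₗ CotT.d1 P = c := hψ
  let ℓ : Ω[P.toExtension.Ring⁄k] →ₗ[P.toExtension.Ring] N :=
    (ψ.restrictScalars P.toExtension.Ring) ∘ₗ
      (TensorProduct.mk P.toExtension.Ring A Ω[P.toExtension.Ring⁄k] 1)
  refine ⟨ℓ.compDer (KaehlerDifferential.D k P.toExtension.Ring), fun a => ?_⟩
  show ψ ((1 : A) ⊗ₜ KaehlerDifferential.D k P.toExtension.Ring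
    (jm P.toExtension.Ring (CotT.rel P) a)) = φ a
  have h1 := LinearMap.congr_fun hψ' ((1 : A) ⊗ₜ a)
  rw [LinearMap.comp_apply, CotT.d1_tmul, one_smul] at h1
  show ψ ((1 : A) ⊗ₜ KaehlerDifferential.D k P.toExtension.Ring (CotT.jmap P a)) = φ a
  rw [h1]
  show LinearMap.liftBaseChange A φ ((1 : A) ⊗ₜ a) = φ a
  rw [LinearMap.liftBaseChange_tmul, one_smul]

/-- if `T²(A/k, N) = 0`, maps on the relation module killing the trivial relations extend -/
theorem H2_of_T2 (hT2 : Subsingleton (CotT.T2 P N)) :
    killing (jm P.toExtension.Ring (CotT.rel P)) N ≤ restr (jm P.toExtension.Ring (CotT.rel P)) N := by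
  rw [← subsingleton_T2'_iff]
  haveI := hT2
  exact ((bridge P N).toEquiv.trans
    (T2equivT2' (CotT.algebraMap_rel P) N).toEquiv).symm.subsingleton

end hyps

section assemble

variable {k A B : Type u} [CommRing k] [CommRing A] [CommRing B] [Algebra k A] [Algebra A B]
  [Algebra k B] [IsScalarTower k A B]

lemma he' {R : Type u} [CommRing R] {S : Type w} {T : Type t} (g : S → R) (h : T → R)
    (x : (S →₀ R) × (T →₀ R)) :
    jm R (Sum.elim g h)
      ((Finsupp.sumFinsuppLEquivProdFinsupp (M := R) (α := S) (β := T) R).symm x) = j' g h x := by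
  have : (jm R (Sum.elim g h)) ∘ₗ
      ((Finsupp.sumFinsuppLEquivProdFinsupp (M := R) (α := S) (β := T) R).symm.toLinearMap) =
        j' g h := by
    apply LinearMap.prod_ext
    · apply Finsupp.lhom_ext'
      intro s
      apply LinearMap.ext_ring
      simp [j', jm]
    · apply Finsupp.lhom_ext'
      intro s
      apply LinearMap.ext_ring
      simp [j', jm]
  exact LinearMap.congr_fun this x

/-- **Transfer.** If `T¹(A/k, M) = T²(A/k, M) = 0` and `A → B` is surjective with kernel generated
by the family `f`, then `T²(B/k, M) = 0` iff `T²(B/A, M) = 0` (the latter computed from `f`). -/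
theorem subsingleton_T2_iff_of_surjective
    (hAB : Function.Surjective (algebraMap A B))
    {ι σ ι' σ' : Type w} (P : Algebra.Presentation k A ι σ) (PB : Algebra.Presentation k B ι' σ')
    {T : Type t} (f : T → A) (hf : ∀ t, algebraMap A B (f t) = 0)
    (hfspan : ∀ z : A, algebraMap A B z = 0 → ∃ x, jm A f x = z)
    (M : Type m) [AddCommGroup M] [Module B M] [Module A M] [IsScalarTower A B M]
    (hT1 : Subsingleton (CotT.T1 P M)) (hT2 : Subsingleton (CotT.T2 P M)) :
    Subsingleton (CotT.T2 PB M) ↔ Subsingleton (Kos.T2 A B f hf M) := by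
  have hRA : Function.Surjective (algebraMap P.toExtension.Ring A) := P.algebraMap_surjective
  letI algRB : Algebra P.toExtension.Ring B :=
    ((algebraMap A B).comp (algebraMap P.toExtension.Ring A)).toAlgebra
  haveI tow1 : IsScalarTower P.toExtension.Ring A B := IsScalarTower.of_algebraMap_eq' rfl
  haveI tow2 : IsScalarTower k P.toExtension.Ring B := IsScalarTower.of_algebraMap_eq' (by
    ext c
    show algebraMap k B c = algebraMap A B (algebraMap P.toExtension.Ring A
      (algebraMap k P.toExtension.Ring c))
    rw [← IsScalarTower.algebraMap_apply k P.toExtension.Ring A,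
      ← IsScalarTower.algebraMap_apply k A B])
  letI modR : Module P.toExtension.Ring M := Module.compHom M (algebraMap P.toExtension.Ring A)
  haveI tow3 : IsScalarTower P.toExtension.Ring A M := IsScalarTower.of_compHom _ A M
  have hRsmul : ∀ (r : P.toExtension.Ring) (x : M), r • x = algebraMap P.toExtension.Ring A r • x :=
    fun r x => rfl
  haveI tow4 : IsScalarTower P.toExtension.Ring B M := ⟨fun r b x => by
    rw [hRsmul, Algebra.smul_def, mul_smul,
      show algebraMap P.toExtension.Ring B r = algebraMap A B (algebraMap P.toExtension.Ring A r)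
        from rfl, algebraMap_smul]⟩
  letI modk : Module k M := Module.compHom M (algebraMap k A)
  have hksmul : ∀ (c : k) (x : M), c • x = algebraMap k A c • x := fun c x => rfl
  haveI tow5 : IsScalarTower k P.toExtension.Ring M := ⟨fun c r x => by
    rw [hRsmul, hksmul, hRsmul, Algebra.smul_def, map_mul, mul_smul,
      ← IsScalarTower.algebraMap_apply k P.toExtension.Ring A]⟩
  -- the families
  let g : σ → P.toExtension.Ring := CotT.rel P
  let h : T → P.toExtension.Ring := fun t => Function.surjInv hRA (f t)
  have hbh : hb (A := A) h = f := by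
    funext t
    exact Function.surjInv_eq hRA (f t)
  have hg : LinearMap.range (jm P.toExtension.Ring g) =
      RingHom.ker (algebraMap P.toExtension.Ring A) := CotT.range_jmap P
  have hM : ∀ (t : T) (x : M), h t • x = 0 := by
    intro t x
    rw [hRsmul]
    show algebraMap P.toExtension.Ring A (Function.surjInv hRA (f t)) • x = 0
    rw [Function.surjInv_eq hRA, ← algebraMap_smul B (f t) x, hf, zero_smul]
  have hgh : ∀ s, algebraMap P.toExtension.Ring B (Sum.elim g h s) = 0 := by
    rintro (s | t)
    · show algebraMap A B (algebraMap P.toExtension.Ring A (CotT.rel P s)) = 0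
      rw [CotT.algebraMap_rel, map_zero]
    · show algebraMap A B (algebraMap P.toExtension.Ring A (Function.surjInv hRA (f t))) = 0
      rw [Function.surjInv_eq hRA, hf]
  -- spanning
  have hspan' : ∀ z : P.toExtension.Ring, algebraMap P.toExtension.Ring B z = 0 →
      ∃ x, jm P.toExtension.Ring (Sum.elim g h) x = z := by
    intro z hz
    obtain ⟨xb, hxb⟩ := hfspan (algebraMap P.toExtension.Ring A z) hz
    obtain ⟨b, rfl⟩ := ρ_surjective (T := T) hRA xb
    rw [← hbh, jm_ρ] at hxb
    have h1 : z - jm P.toExtension.Ring h b ∈ LinearMap.range (jm P.toExtension.Ring g) := by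
      rw [hg, RingHom.mem_ker, map_sub, hxb, sub_self]
    obtain ⟨a, ha⟩ := h1
    refine ⟨(Finsupp.sumFinsuppLEquivProdFinsupp (M := P.toExtension.Ring) (α := σ) (β := T)
      P.toExtension.Ring).symm (a, b), ?_⟩
    rw [he', j'_apply, ha]
    ring
  -- the polynomial rings
  haveI fs1 : Algebra.FormallySmooth k P.toExtension.Ring :=
    inferInstanceAs (Algebra.FormallySmooth k (MvPolynomial ι k))
  haveI fs2 : Algebra.FormallySmooth k PB.toExtension.Ring :=
    inferInstanceAs (Algebra.FormallySmooth k (MvPolynomial ι' k))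
  have hRB : Function.Surjective (algebraMap PB.toExtension.Ring B) := PB.algebraMap_surjective
  have hRB' : Function.Surjective (algebraMap P.toExtension.Ring B) := hAB.comp hRA
  let h₁ : P.toExtension.Ring →ₐ[k] PB.toExtension.Ring :=
    (MvPolynomial.aeval (fun i => Function.surjInv hRB (algebraMap A B (P.val i))) :
      MvPolynomial ι k →ₐ[k] PB.toExtension.Ring)
  let h₂ : PB.toExtension.Ring →ₐ[k] P.toExtension.Ring :=
    (MvPolynomial.aeval (fun i => Function.surjInv hRB' (PB.val i)) :
      MvPolynomial ι' k →ₐ[k] P.toExtension.Ring)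
  have hh₁ : ∀ x, algebraMap PB.toExtension.Ring B (h₁ x) = algebraMap P.toExtension.Ring B x := by
    intro x
    have : (IsScalarTower.toAlgHom k PB.toExtension.Ring B).comp h₁ =
        IsScalarTower.toAlgHom k P.toExtension.Ring B := by
      refine MvPolynomial.algHom_ext fun i => ?_
      show algebraMap PB.toExtension.Ring B (MvPolynomial.aeval
        (fun i => Function.surjInv hRB (algebraMap A B (P.val i))) (MvPolynomial.X i)) =
        algebraMap A B (algebraMap P.toExtension.Ring A (MvPolynomial.X i))
      rw [MvPolynomial.aeval_X, Function.surjInv_eq hRB, CotT.algebraMap_toExtension,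
        MvPolynomial.aeval_X]
    exact AlgHom.congr_fun this x
  have hh₂ : ∀ x, algebraMap P.toExtension.Ring B (h₂ x) = algebraMap PB.toExtension.Ring B x := by
    intro x
    have : (IsScalarTower.toAlgHom k P.toExtension.Ring B).comp h₂ =
        IsScalarTower.toAlgHom k PB.toExtension.Ring B := by
      refine MvPolynomial.algHom_ext fun i => ?_
      show algebraMap P.toExtension.Ring B (MvPolynomial.aeval
        (fun i => Function.surjInv hRB' (PB.val i)) (MvPolynomial.X i)) =
        algebraMap PB.toExtension.Ring B (MvPolynomial.X i)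
      rw [MvPolynomial.aeval_X, Function.surjInv_eq hRB', CotT.algebraMap_toExtension,
        MvPolynomial.aeval_X]
    exact AlgHom.congr_fun this x
  obtain ⟨e1⟩ := nonempty_T2_equiv_of_formallySmooth (A := k) (S := PB.toExtension.Ring)
    (S' := P.toExtension.Ring) (B := B) (f' := Sum.elim g h)
    (CotT.algebraMap_rel PB) hgh h₁ hh₁ h₂ hh₂ (CotTVanish.jm_span PB) hspan' M
  let e2 := T2equivT2' hgh M
  let e3 := T2'equiv (j' g h) (jm P.toExtension.Ring (Sum.elim g h))
    (Finsupp.sumFinsuppLEquivProdFinsupp (M := P.toExtension.Ring) (α := σ) (β := T)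
      P.toExtension.Ring).symm (he' g h) M
  -- first reduction
  have step1 : Subsingleton (CotT.T2 PB M) ↔ killing (j' g h) M ≤ restr (j' g h) M := by
    rw [← subsingleton_T2'_iff]
    exact (((bridge PB M).toEquiv.trans e1.toEquiv).trans
      (e2.toEquiv.trans e3.symm.toEquiv)).subsingleton_congr
  have step2 : Subsingleton (Kos.T2 A B f hf M) ↔ killing (jm A f) M ≤ restr (jm A f) M := by
    rw [← subsingleton_T2'_iff]
    exact (T2equivT2' hf M).toEquiv.subsingleton_congr
  rw [step1, step2, ← hbh]
  constructor
  · exact killing_le_restr_of_le (k := k) g h M hg hM hRA (H1_of_T1 P M hT1)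
  · exact le_of_killing_le_restr g h M hg hM hRA (H2_of_T2 P M hT2)

end assemble

end Groth.Agent.Lib.Helper19.T2Trans
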