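import Mathlib

set_option autoImplicit false
universe u
open MvPolynomial

namespace Groth.Agent.Lib.Helper19TangentForms

section Calc

variable {k : Type u} [Field k] {n : ℕ}

/-- The linear form with coefficient vector `c`. -/
noncomputable def lin (c : Fin n → k) : MvPolynomial (Fin n) k := ∑ i, C (c i) * X i

/-- Dot product. -/
def dot (c v : Fin n → k) : k := ∑ i, c i * v i

/-- Directional derivative of `P` at `v` in direction `w`. -/
noncomputable def Dd (P : MvPolynomial (Fin n) k) (v w : Fin n → k) : k :=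
  ∑ i, w i * aeval v (pderiv i P)

theorem aeval_lin (c v : Fin n → k) : aeval v (lin c) = dot c v := by
  simp [lin, dot]

theorem lin_isHomogeneous (c : Fin n → k) : (lin c).IsHomogeneous 1 :=
  IsHomogeneous.sum _ _ _ fun i _ => isHomogeneous_C_mul_X (c i) i

theorem Dd_lin (c v w : Fin n → k) : Dd (lin c) v w = dot c w := by
  classical
  unfold Dd lin dot
  refine Finset.sum_congr rfl fun i _ => ?_
  rw [map_sum]
  simp only [pderiv_C_mul, pderiv_X, Pi.single_apply]
  rw [Finset.sum_eq_single i]
  · simp [mul_comm]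
  · intro j _ hj
    rw [if_neg hj, mul_zero]
  · intro h; exact absurd (Finset.mem_univ i) h

theorem Dd_add (P Q : MvPolynomial (Fin n) k) (v w : Fin n → k) :
    Dd (P + Q) v w = Dd P v w + Dd Q v w := by
  simp [Dd, mul_add, Finset.sum_add_distrib]

theorem Dd_sub (P Q : MvPolynomial (Fin n) k) (v w : Fin n → k) :
    Dd (P - Q) v w = Dd P v w - Dd Q v w := by
  simp [Dd, mul_sub, Finset.sum_sub_distrib]

theorem Dd_C (a : k) (v w : Fin n → k) : Dd (C a : MvPolynomial (Fin n) k) v w = 0 := by
  simp [Dd]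

theorem Dd_mul (P Q : MvPolynomial (Fin n) k) (v w : Fin n → k) :
    Dd (P * Q) v w = Dd P v w * aeval v Q + aeval v P * Dd Q v w := by
  simp only [Dd, pderiv_mul, map_add, map_mul, mul_add, Finset.sum_add_distrib, Finset.sum_mul,
    Finset.mul_sum]
  congr 1 <;> exact Finset.sum_congr rfl fun i _ => by ring

theorem Dd_pow (P : MvPolynomial (Fin n) k) (m : ℕ) (v w : Fin n → k) :
    Dd (P ^ m) v w = m * aeval v P ^ (m - 1) * Dd P v w := by
  simp only [Dd, pderiv_pow, map_mul, map_pow, map_natCast, Finset.mul_sum]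
  exact Finset.sum_congr rfl fun i _ => by ring

theorem Dd_euler {P : MvPolynomial (Fin n) k} {d : ℕ} (hP : P.IsHomogeneous d) (v : Fin n → k) :
    Dd P v v = d * aeval v P := by
  have h := congrArg (aeval v) hP.sum_X_mul_pderiv
  simp only [map_sum, map_mul, aeval_X, nsmul_eq_mul, map_natCast] at h
  exact h

theorem pderiv_comm (i j : Fin n) (P : MvPolynomial (Fin n) k) :
    pderiv i (pderiv j P) = pderiv j (pderiv i P) := by
  classical
  by_cases h : i = j
  · subst h; rfl
  · ext m
    simp only [coeff_pderiv]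
    rw [add_right_comm m (Finsupp.single i 1) (Finsupp.single j 1)]
    simp only [Finsupp.add_apply, Finsupp.single_apply, if_neg h, if_neg (Ne.symm h), add_zero]
    ring

theorem Dd_symm {P : MvPolynomial (Fin n) k} (hP : P.IsHomogeneous 2) (v w : Fin n → k) :
    Dd P v w = Dd P w v := by
  have h1 : ∀ (i : Fin n) (x : Fin n → k), aeval x (pderiv i P) =
      ∑ j, x j * coeff 0 (pderiv j (pderiv i P)) := by
    intro i x
    have hi : (pderiv i P).IsHomogeneous 1 := hP.pderiv
    have he := Dd_euler hi x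
    have h0 : ∀ j, aeval x (pderiv j (pderiv i P)) = coeff 0 (pderiv j (pderiv i P)) := by
      intro j
      have hj : (pderiv j (pderiv i P)).IsHomogeneous 0 := hi.pderiv
      rw [← totalDegree_zero_iff_isHomogeneous, totalDegree_eq_zero_iff_eq_C] at hj
      rw [hj]; simp
    rw [Nat.cast_one, one_mul] at he
    rw [← he]; unfold Dd; exact Finset.sum_congr rfl fun j _ => by rw [h0]
  unfold Dd
  simp only [h1, Finset.mul_sum]
  rw [Finset.sum_comm]
  refine Finset.sum_congr rfl fun i _ => Finset.sum_congr rfl fun j _ => ?_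
  rw [pderiv_comm]; ring

/-- coefficient vector of a functional. -/
def cv (l : Module.Dual k (Fin n → k)) : Fin n → k := fun i => l (fun j => if i = j then 1 else 0)

theorem dot_cv (l : Module.Dual k (Fin n → k)) (v : Fin n → k) : dot (cv l) v = l v := by
  rw [LinearMap.pi_apply_eq_sum_univ l v]
  unfold dot cv
  exact Finset.sum_congr rfl fun i _ => by rw [smul_eq_mul, mul_comm]

/-- Forms of degree `e + 3` with prescribed value and differential at two points. -/
theorem exists_form_ge3 (e : ℕ) (v₁ v₂ c1 c2 p q : Fin n → k) (a b : k)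
    (h11 : dot c1 v₁ = 1) (h12 : dot c1 v₂ = 0) (h21 : dot c2 v₁ = 0) (h22 : dot c2 v₂ = 1)
    (hp : dot p v₁ = ((e + 3 : ℕ) : k) * a) (hq : dot q v₂ = ((e + 3 : ℕ) : k) * b) :
    ∃ P : MvPolynomial (Fin n) k, P.IsHomogeneous (e + 3) ∧ aeval v₁ P = a ∧ aeval v₂ P = b ∧
      (∀ w, Dd P v₁ w = dot p w) ∧ (∀ w, Dd P v₂ w = dot q w) := by
  refine ⟨lin c1 ^ (e + 2) * (lin p - C (((e + 2 : ℕ) : k) * a) * lin c1) +
    lin c2 ^ (e + 2) * (lin q - C (((e + 2 : ℕ) : k) * b) * lin c2), ?_, ?_, ?_, ?_, ?_⟩
  · have hc : ∀ (s : k) (c : Fin n → k), (C s * lin c).IsHomogeneous 1 := fun s c => by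
      have := (isHomogeneous_C (Fin n) s).mul (lin_isHomogeneous c)
      simpa using this
    have h1 : (lin c1 ^ (e + 2)).IsHomogeneous (e + 2) := by
      have := (lin_isHomogeneous c1).pow (e + 2)
      simpa using this
    have h2 : (lin c2 ^ (e + 2)).IsHomogeneous (e + 2) := by
      have := (lin_isHomogeneous c2).pow (e + 2)
      simpa using this
    exact (h1.mul ((lin_isHomogeneous p).sub (hc _ _))).add
      (h2.mul ((lin_isHomogeneous q).sub (hc _ _)))
  · simp only [map_add, map_mul, map_sub, map_pow, aeval_C, aeval_lin, h11, h21, hp,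
      Algebra.algebraMap_self, RingHom.id_apply]
    push_cast
    rw [zero_pow (by omega)]
    ring
  · simp only [map_add, map_mul, map_sub, map_pow, aeval_C, aeval_lin, h12, h22, hq,
      Algebra.algebraMap_self, RingHom.id_apply]
    push_cast
    rw [zero_pow (by omega)]
    ring
  · intro w
    simp only [Dd_add, Dd_mul, Dd_sub, Dd_pow, Dd_C, Dd_lin, map_mul, map_sub, map_pow, aeval_C,
      aeval_lin, h11, h21, hp, Algebra.algebraMap_self, RingHom.id_apply]
    have e1 : e + 2 - 1 = e + 1 := by omega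
    rw [e1, zero_pow (by omega : e + 1 ≠ 0), zero_pow (by omega : e + 2 ≠ 0)]
    push_cast
    ring
  · intro w
    simp only [Dd_add, Dd_mul, Dd_sub, Dd_pow, Dd_C, Dd_lin, map_mul, map_sub, map_pow, aeval_C,
      aeval_lin, h12, h22, hq, Algebra.algebraMap_self, RingHom.id_apply]
    have e1 : e + 2 - 1 = e + 1 := by omega
    rw [e1, zero_pow (by omega : e + 1 ≠ 0), zero_pow (by omega : e + 2 ≠ 0)]
    push_cast
    ring

/-- Quadratic forms with prescribed value and (twisted) differential at two points. -/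
theorem exists_form_two (v₁ v₂ c1 c2 p q : Fin n → k) (a b c : k)
    (h11 : dot c1 v₁ = 1) (h12 : dot c1 v₂ = 0) (h21 : dot c2 v₁ = 0) (h22 : dot c2 v₂ = 1)
    (hp : dot p v₁ = 2 * a) (hq : dot q v₂ = 2 * b) :
    ∃ P : MvPolynomial (Fin n) k, P.IsHomogeneous 2 ∧ aeval v₁ P = a ∧ aeval v₂ P = b ∧
      (∀ w, Dd P v₁ w = dot p w + (c - dot p v₂) * dot c2 w) ∧
      (∀ w, Dd P v₂ w = dot q w + (c - dot q v₁) * dot c1 w) := by
  refine ⟨C a * (lin c1 * lin c1) + C b * (lin c2 * lin c2) +
    lin c1 * (lin p - C (dot p v₁) * lin c1 - C (dot p v₂) * lin c2) +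
    lin c2 * (lin q - C (dot q v₁) * lin c1 - C (dot q v₂) * lin c2) +
    C c * (lin c1 * lin c2), ?_, ?_, ?_, ?_, ?_⟩
  · have hc : ∀ (s : k) (c : Fin n → k), (C s * lin c).IsHomogeneous 1 := fun s c => by
      have := (isHomogeneous_C (Fin n) s).mul (lin_isHomogeneous c)
      simpa using this
    have hll : ∀ (c c' : Fin n → k), (lin c * lin c').IsHomogeneous 2 := fun c c' =>
      (lin_isHomogeneous c).mul (lin_isHomogeneous c')
    have hcll : ∀ (s : k) (c c' : Fin n → k), (C s * (lin c * lin c')).IsHomogeneous 2 :=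
      fun s c c' => by
        have := (isHomogeneous_C (Fin n) s).mul (hll c c')
        simpa using this
    refine ((((hcll _ _ _).add (hcll _ _ _)).add ?_).add ?_).add (hcll _ _ _)
    · exact (lin_isHomogeneous c1).mul (((lin_isHomogeneous p).sub (hc _ _)).sub (hc _ _))
    · exact (lin_isHomogeneous c2).mul (((lin_isHomogeneous q).sub (hc _ _)).sub (hc _ _))
  · simp only [map_add, map_mul, map_sub, aeval_C, aeval_lin, h11, h21,
      Algebra.algebraMap_self, RingHom.id_apply]
    ring
  · simp only [map_add, map_mul, map_sub, aeval_C, aeval_lin, h12, h22,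
      Algebra.algebraMap_self, RingHom.id_apply]
    ring
  · intro w
    simp only [Dd_add, Dd_mul, Dd_sub, Dd_C, Dd_lin, map_mul, map_sub, aeval_C,
      aeval_lin, h11, h21, Algebra.algebraMap_self, RingHom.id_apply]
    rw [hp]
    ring
  · intro w
    simp only [Dd_add, Dd_mul, Dd_sub, Dd_C, Dd_lin, map_mul, map_sub, aeval_C,
      aeval_lin, h12, h22, Algebra.algebraMap_self, RingHom.id_apply]
    rw [hq]
    ring

end Calc

end Groth.Agent.Lib.Helper19TangentForms
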