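import Groth.Agent.Lib.Helper14InvLim
import Groth.Agent.Lib.Helper19ComplNoeth2

/-!
# Inverse limits of thickening systems are Noetherian (EGA 0_I 7.2.7/7.2.8) (helper19)
-/

set_option autoImplicit false
universe u

namespace Groth.Agent.Lib.Helper19

open Ideal

/-- Nilpotent Nakayama for ideals. -/
theorem le_of_le_sup_pow_of_pow_eq_bot {R : Type*} [CommRing R] (𝔍 Y : Ideal R) (N k : ℕ)
    (hk : 2 ≤ k) (hN : 𝔍 ^ N = ⊥) (h : 𝔍 ≤ Y ⊔ 𝔍 ^ k) : 𝔍 ≤ Y := by
  have key : ∀ j : ℕ, 𝔍 ≤ Y ⊔ 𝔍 ^ (j + 1) := by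
    intro j
    induction j with
    | zero => rw [zero_add, pow_one]; exact le_sup_right
    | succ j ih =>
      refine h.trans (sup_le le_sup_left ?_)
      obtain ⟨k', rfl⟩ : ∃ k', k = k' + 1 + 1 := ⟨k - 2, by omega⟩
      calc 𝔍 ^ (k' + 1 + 1) = 𝔍 ^ (k' + 1) * 𝔍 := pow_succ _ _
        _ ≤ 𝔍 ^ (k' + 1) * (Y ⊔ 𝔍 ^ (j + 1)) := Ideal.mul_mono_right ih
        _ = 𝔍 ^ (k' + 1) * Y ⊔ 𝔍 ^ (k' + 1) * 𝔍 ^ (j + 1) := Ideal.mul_sup _ _ _
        _ ≤ Y ⊔ 𝔍 ^ (j + 1 + 1) := by
          refine sup_le_sup Ideal.mul_le_right ?_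
          rw [← pow_add]
          exact Ideal.pow_le_pow_right (by omega)
  have := key N
  rw [pow_succ, hN, Ideal.bot_mul, sup_bot_eq] at this
  exact this

section system

variable {B : ℕ → Type u} [∀ n, CommRing (B n)]
  (u : ∀ n, B (n + 1) →+* B n) (hu : ∀ n, Function.Surjective (u n))
  (v : ∀ n, B n →+* B 0) (hv : ∀ n, (v n).comp (u n) = v (n + 1))
  (hker : ∀ n, RingHom.ker (u n) = RingHom.ker (v (n + 1)) ^ (n + 1))

include hu hv in
theorem map_ker_v (n : ℕ) : (RingHom.ker (v (n + 1))).map (u n) = RingHom.ker (v n) := by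
  have : RingHom.ker (v (n + 1)) = (RingHom.ker (v n)).comap (u n) := by
    rw [← hv n, RingHom.comap_ker]
  rw [this, Ideal.map_comap_of_surjective _ (hu n)]

include hu hv hker in
theorem ker_v_pow_eq_bot (n : ℕ) : RingHom.ker (v n) ^ (n + 1) = ⊥ := by
  rw [← map_ker_v u hu v hv n, ← Ideal.map_pow, ← hker n]
  exact (Ideal.map_eq_bot_iff_le_ker (u n)).mpr le_rfl

variable {A : Type u} [CommRing A] (p : ∀ n, A →+* B n)
  (hp : ∀ n, (u n).comp (p (n + 1)) = p n)

include hu hv hker hp in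
theorem map_eq_ker_v (X : Ideal A) (hX : X.map (p 1) = RingHom.ker (v 1)) (n : ℕ) :
    X.map (p (n + 1)) = RingHom.ker (v (n + 1)) := by
  induction n with
  | zero => exact hX
  | succ n ih =>
    set Y := X.map (p (n + 1 + 1)) with hY
    set 𝔍 := RingHom.ker (v (n + 1 + 1)) with h𝔍
    have hYmap : Y.map (u (n + 1)) = RingHom.ker (v (n + 1)) := by
      rw [hY, Ideal.map_map, hp (n + 1), ih]
    have h𝔍map : 𝔍.map (u (n + 1)) = RingHom.ker (v (n + 1)) := map_ker_v u hu v hv (n + 1)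
    have hY𝔍 : Y ≤ 𝔍 := by
      intro y hy
      rw [h𝔍, RingHom.mem_ker, ← hv (n + 1), RingHom.comp_apply, ← RingHom.mem_ker, ← hYmap]
      exact Ideal.mem_map_of_mem _ hy
    apply le_antisymm hY𝔍
    apply le_of_le_sup_pow_of_pow_eq_bot 𝔍 Y (n + 1 + 1 + 1) (n + 1 + 1) (by omega)
      (ker_v_pow_eq_bot u hu v hv hker (n + 1 + 1))
    intro z hz
    have h1 : u (n + 1) z ∈ Y.map (u (n + 1)) := by
      rw [hYmap, ← h𝔍map]
      exact Ideal.mem_map_of_mem _ hz
    obtain ⟨y, hy, hyz⟩ := (Ideal.mem_map_iff_of_surjective _ (hu (n + 1))).mp h1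
    have h2 : z - y ∈ RingHom.ker (u (n + 1)) := by
      rw [RingHom.mem_ker, map_sub, hyz, sub_self]
    rw [hker (n + 1)] at h2
    have e : z = y + (z - y) := by ring
    rw [e]
    exact Submodule.add_mem_sup hy h2

include hu hv hker hp in
/-- The inverse limit of a thickening system over a Noetherian base is Noetherian. -/
theorem isNoetherianRing_of_thickening_system
    (hfg : (RingHom.ker (v 1)).FG)
    (hinj : ∀ x : A, (∀ n, p n x = 0) → x = 0)
    (hlift : ∀ y : (∀ n, B n), (∀ n, u n (y (n + 1)) = y n) → ∃ x : A, ∀ n, p n x = y n)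
    [IsNoetherianRing (B 0)] : IsNoetherianRing A := by
  classical
  have hpsurj : ∀ n, Function.Surjective (p n) := fun n b => by
    obtain ⟨y, hy, hyn⟩ := Groth.Agent.Lib.Helper14.exists_compatible_of_surjective n
      (fun k => (u k : B (k + 1) → B k)) hu b
    obtain ⟨x, hx⟩ := hlift y hy
    exact ⟨x, (hx n).trans hyn⟩
  obtain ⟨r, g, hg⟩ := Submodule.fg_iff_exists_fin_generating_family.mp hfg
  choose x hx using fun j => hpsurj 1 (g j)
  set X : Ideal A := Ideal.span (Set.range x) with hXdef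
  have hXfg : X.FG := ⟨(Finset.univ.image x), by rw [hXdef]; simp⟩
  have hX1 : X.map (p 1) = RingHom.ker (v 1) := by
    rw [hXdef, Ideal.map_span, ← Set.range_comp, (funext hx : p 1 ∘ x = g)]
    exact hg
  have hXn := map_eq_ker_v u hu v hv hker p hp X hX1
  letI : ∀ n, Algebra A (B n) := fun n => (p n).toAlgebra
  have halg : ∀ n (a : A), algebraMap A (B n) a = p n a := fun n a => rfl
  let f : ∀ n, B (n + 1) →ₗ[A] B n := fun n =>
    { toFun := u n
      map_add' := map_add _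
      map_smul' := fun a b => by
        simp only [Algebra.smul_def, map_mul, halg, RingHom.id_apply]
        rw [← hp n, RingHom.comp_apply] }
  let π : ∀ n, A →ₗ[A] B n := fun n => Algebra.linearMap A (B n)
  have hf : ∀ n, Function.Surjective (f n) := hu
  have hkerf : ∀ n, LinearMap.ker (f n) = X ^ (n + 1) • (⊤ : Submodule A (B (n + 1))) := by
    intro n
    rw [Ideal.smul_top_eq_map]
    have h1 : (X ^ (n + 1)).map (algebraMap A (B (n + 1))) = RingHom.ker (u n) := by
      rw [Ideal.map_pow, hker n, ← hXn n]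
      rfl
    rw [h1]
    ext z
    simp only [LinearMap.mem_ker, Submodule.restrictScalars_mem, RingHom.mem_ker]
    rfl
  have hπ : ∀ n, f n ∘ₗ π (n + 1) = π n := by
    intro n
    ext
    simp only [LinearMap.comp_apply, π, Algebra.linearMap_apply, halg, map_one]
    change u n 1 = 1
    rw [map_one]
  have hinj' : ∀ x : A, (∀ n, π n x = 0) → x = 0 := hinj
  have hlift' : ∀ y : (∀ n, B n), (∀ n, f n (y (n + 1)) = y n) → ∃ x : A, ∀ n, π n x = y n :=
    hlift
  haveI hcomp : IsAdicComplete X A :=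
    Groth.Agent.Lib.Helper14.isAdicComplete_of_invLim X f π hXfg hf hkerf hπ hinj' hlift'
  have hk0 := Groth.Agent.Lib.Helper14.ker_eq_pow_smul_top X f π hXfg hf hkerf hπ hinj' hlift' 0
  have hkerp0 : RingHom.ker (p 0) = X := by
    ext z
    have : z ∈ LinearMap.ker (π 0) ↔ z ∈ (X ^ (0 + 1) • ⊤ : Submodule A A) := by rw [hk0]
    rw [zero_add, pow_one, smul_eq_mul, Ideal.mul_top] at this
    rw [← this, RingHom.mem_ker, LinearMap.mem_ker]
    rfl
  haveI : IsNoetherianRing (A ⧸ X) := by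
    have e : (A ⧸ X) ≃+* B 0 :=
      (Ideal.quotEquivOfEq hkerp0.symm).trans
        (RingHom.quotientKerEquivOfSurjective (hpsurj 0))
    exact isNoetherianRing_of_ringEquiv (B 0) e.symm
  exact isNoetherianRing_of_isAdicComplete_of_fg X hXfg

end system

end Groth.Agent.Lib.Helper19
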