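import Mathlib
import Groth.Agent.Lib.Helper13Tor
import Groth.Agent.Lib.Helper13TorNat
import Groth.Agent.Lib.Helper13TorLin
import Groth.Agent.Lib.Helper13Ses

/-!
# Uniform vanishing of `Tor_p(IⁿM, N) ⟶ Tor_p(M, N)` for `N` killed by `I` (helper19)

For a Noetherian ring `R`, an ideal `I`, a finite module `M`, there is `k` such that for all
modules `N` killed by `I` and all `p` the map `Tor_p(M, N) ⟶ Tor_p(M / I^k M, N)` is injective.
The proof is by induction on the number of generators of `I`; the principal case uses the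
stabilisation of the `f`-power torsion of `M`.
-/

set_option autoImplicit false
universe u
open CategoryTheory CategoryTheory.Limits MonoidalCategory

namespace Groth.Agent.Lib.Helper19TorPow

open Groth.Agent.Helper13Tor Groth.Agent.Helper13Ses

variable {R : Type u} [CommRing R]

/-- If `r` kills `N` then `Tor_n(r • id_X, N) = 0`. -/
theorem tor_map_smul_id_eq_zero (X N : ModuleCat.{u} R) (r : R) (hr : ∀ y : N, r • y = 0) (n : ℕ) :
    ((Tor (ModuleCat.{u} R) n).map (r • 𝟙 X)).app N = 0 := by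
  let P := projectiveResolution N
  have hN : (r • 𝟙 N : N ⟶ N) = 0 := by
    apply ModuleCat.hom_ext
    apply LinearMap.ext
    intro y
    exact hr y
  have w : (r • 𝟙 P.complex) ≫ P.π = P.π ≫ (ChainComplex.single₀ (ModuleCat.{u} R)).map (r • 𝟙 N) := by
    ext
    simp
    rfl
  have w0 : (0 : P.complex ⟶ P.complex) ≫ P.π =
      P.π ≫ (ChainComplex.single₀ (ModuleCat.{u} R)).map (r • 𝟙 N) := by
    rw [hN, Functor.map_zero, zero_comp, comp_zero]
  have h := Functor.leftDerived_map_eq (tL X) n (r • 𝟙 N) (P := P) (Q := P) (r • 𝟙 P.complex) w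
  have h0 := Functor.leftDerived_map_eq (tL X) n (r • 𝟙 N) (P := P) (Q := P) 0 w0
  rw [Functor.map_zero, zero_comp, comp_zero] at h0
  rw [h0] at h
  rw [tor_map_app_eq P (r • 𝟙 X) n]
  have hmid : tCmap (r • 𝟙 X) P.complex =
      ((tL X).mapHomologicalComplex (ComplexShape.down ℕ)).map (r • 𝟙 P.complex) := by
    ext j : 1
    show ((tensoringLeft (ModuleCat.{u} R)).map (r • 𝟙 X)).app (P.complex.X j) =
      (tL X).map ((r • 𝟙 P.complex : P.complex ⟶ P.complex).f j)
    rw [HomologicalComplex.smul_f_apply, HomologicalComplex.id_f]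
    apply ModuleCat.hom_ext
    apply TensorProduct.ext'
    intro x p
    show (r • x) ⊗ₜ[R] p = x ⊗ₜ[R] (r • p)
    rw [TensorProduct.tmul_smul, TensorProduct.smul_tmul']
  rw [hmid]
  exact h.symm

/-- Principal case: `Tor_p(L, N) ⟶ Tor_p(M, N)` vanishes for `L ⊆ f^k M`, `k ≫ 0`, `f N = 0`. -/
theorem exists_tor_subtype_eq_zero [IsNoetherianRing R] (f : R) (M : Type u) [AddCommGroup M]
    [Module R M] [Module.Finite R M] :
    ∃ k : ℕ, ∀ (L : Submodule R M),
      L ≤ LinearMap.range ((f ^ k) • (LinearMap.id : M →ₗ[R] M)) →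
      ∀ (N : ModuleCat.{u} R), (∀ y : N, f • y = 0) → ∀ p : ℕ,
        ((Tor (ModuleCat.{u} R) p).map (ModuleCat.ofHom L.subtype)).app N = 0 := by
  have hM : IsNoetherian R M := inferInstance
  let T : ℕ →o Submodule R M :=
    ⟨fun j => LinearMap.ker ((f ^ j) • (LinearMap.id : M →ₗ[R] M)), by
      intro a b hab x hx
      rw [LinearMap.mem_ker] at hx ⊢
      have hx' : f ^ a • x = 0 := hx
      show f ^ b • x = 0
      obtain ⟨d, rfl⟩ := Nat.exists_eq_add_of_le hab
      rw [pow_add, mul_comm, mul_smul, hx', smul_zero]⟩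
  obtain ⟨c, hc⟩ := (monotone_stabilizes_iff_noetherian (R := R) (M := M)).2 hM T
  refine ⟨c + 1, fun L hL N hN p => ?_⟩
  have hker : LinearMap.ker ((f ^ (c + 1)) • (LinearMap.id : M →ₗ[R] M)) ≤
      LinearMap.ker ((f ^ c) • (LinearMap.id : M →ₗ[R] M)) := (hc (c + 1) (by omega)).ge
  let ρ₀ : (M ⧸ LinearMap.ker ((f ^ (c + 1)) • (LinearMap.id : M →ₗ[R] M))) →ₗ[R] M :=
    (LinearMap.ker ((f ^ (c + 1)) • (LinearMap.id : M →ₗ[R] M))).liftQ
      ((f ^ c) • (LinearMap.id : M →ₗ[R] M)) hker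
  let e := ((f ^ (c + 1)) • (LinearMap.id : M →ₗ[R] M)).quotKerEquivRange
  let ρ : L →ₗ[R] M := ρ₀ ∘ₗ e.symm.toLinearMap ∘ₗ Submodule.inclusion hL
  have hρ : L.subtype = f • ρ := by
    apply LinearMap.ext
    intro x
    obtain ⟨m, hm⟩ := Submodule.Quotient.mk_surjective _ (e.symm (Submodule.inclusion hL x))
    have h1 : e (Submodule.Quotient.mk m) = Submodule.inclusion hL x := by
      rw [hm, LinearEquiv.apply_symm_apply]
    have h2 : (f ^ (c + 1)) • m = (x : M) := by
      have := congrArg Subtype.val h1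
      rw [LinearMap.quotKerEquivRange_apply_mk] at this
      exact this
    show (x : M) = f • ρ₀ (e.symm (Submodule.inclusion hL x))
    rw [← hm]
    show (x : M) = f • ((f ^ c) • m)
    rw [← h2, pow_succ, mul_comm, mul_smul]
  have hcat : (ModuleCat.ofHom L.subtype : ModuleCat.of R L ⟶ ModuleCat.of R M) =
      ModuleCat.ofHom ρ ≫ (f • 𝟙 (ModuleCat.of R M)) := by
    rw [hρ]
    apply ModuleCat.hom_ext
    apply LinearMap.ext
    intro x
    rfl
  rw [hcat, Functor.map_comp, NatTrans.comp_app, tor_map_smul_id_eq_zero _ N f hN p, comp_zero]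

/-- The property: `Tor_p(M, N) ⟶ Tor_p(M / I^k M, N)` is injective for all `N` killed by `I`. -/
def Good (I : Ideal R) (M : Type u) [AddCommGroup M] [Module R M] : Prop :=
  ∃ k : ℕ, ∀ (N : ModuleCat.{u} R), (∀ a ∈ I, ∀ y : N, a • y = 0) → ∀ p : ℕ,
    Mono (((Tor (ModuleCat.{u} R) p).map
      (ModuleCat.ofHom (I ^ k • ⊤ : Submodule R M).mkQ)).app N)

theorem good_span_singleton [IsNoetherianRing R] (f : R) (M : Type u) [AddCommGroup M]
    [Module R M] [Module.Finite R M] : Good (Ideal.span {f}) M := by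
  obtain ⟨k, hk⟩ := exists_tor_subtype_eq_zero f M
  refine ⟨k, fun N hN p => ?_⟩
  have hL : (Ideal.span {f} ^ k • ⊤ : Submodule R M) ≤
      LinearMap.range ((f ^ k) • (LinearMap.id : M →ₗ[R] M)) := by
    rw [Ideal.span_singleton_pow, Submodule.smul_le]
    intro r hr m _
    obtain ⟨a, rfl⟩ := Ideal.mem_span_singleton'.1 hr
    refine ⟨a • m, ?_⟩
    show f ^ k • (a • m) = (a * f ^ k) • m
    rw [← mul_smul, mul_comm]
  have h0 := hk _ hL N (fun y => hN f (Ideal.subset_span rfl) y) p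
  have hex := tor_exact₂ (sesSub (Ideal.span {f} ^ k • ⊤ : Submodule R M))
    (sesSub_shortExact _) N p
  exact hex.mono_g h0

theorem good_sup [IsNoetherianRing R] (I₁ I₂ : Ideal R) (M : Type u) [AddCommGroup M]
    [Module R M] [Module.Finite R M] (h₁ : Good I₁ M)
    (h₂ : ∀ (M' : Type u) [AddCommGroup M'] [Module R M'] [Module.Finite R M'], Good I₂ M') :
    Good (I₁ ⊔ I₂) M := by
  obtain ⟨k₁, hk₁⟩ := h₁
  obtain ⟨k₂, hk₂⟩ := h₂ (M ⧸ (I₁ ^ k₁ • ⊤ : Submodule R M))
  refine ⟨k₁ + k₂, fun N hN p => ?_⟩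
  have m₁ := hk₁ N (fun a ha y => hN a (Ideal.mem_sup_left ha) y) p
  have m₂ := hk₂ N (fun a ha y => hN a (Ideal.mem_sup_right ha) y) p
  let q₁ := (I₁ ^ k₁ • ⊤ : Submodule R M).mkQ
  let q₂ := (I₂ ^ k₂ • ⊤ : Submodule R (M ⧸ (I₁ ^ k₁ • ⊤ : Submodule R M))).mkQ
  have hK : ((I₁ ⊔ I₂) ^ (k₁ + k₂) • ⊤ : Submodule R M) ≤ LinearMap.ker (q₂ ∘ₗ q₁) := by
    rw [Submodule.smul_le]
    intro r hr m _
    have hr' := Ideal.sup_pow_add_le_pow_sup_pow hr
    obtain ⟨a, ha, b, hb, rfl⟩ := Submodule.mem_sup.1 hr'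
    rw [LinearMap.mem_ker, add_smul, map_add]
    have e1 : q₁ (a • m) = 0 := by
      show (I₁ ^ k₁ • ⊤ : Submodule R M).mkQ (a • m) = 0
      rw [Submodule.mkQ_apply, Submodule.Quotient.mk_eq_zero]
      exact Submodule.smul_mem_smul ha Submodule.mem_top
    have e2 : q₂ (q₁ (b • m)) = 0 := by
      rw [map_smul]
      show (I₂ ^ k₂ • ⊤ : Submodule R (M ⧸ (I₁ ^ k₁ • ⊤ : Submodule R M))).mkQ (b • q₁ m) = 0
      rw [Submodule.mkQ_apply, Submodule.Quotient.mk_eq_zero]
      exact Submodule.smul_mem_smul hb Submodule.mem_top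
    rw [LinearMap.comp_apply, LinearMap.comp_apply, e1, map_zero, e2, add_zero]
  let t := ((I₁ ⊔ I₂) ^ (k₁ + k₂) • ⊤ : Submodule R M).liftQ (q₂ ∘ₗ q₁) hK
  have hfac : ModuleCat.ofHom ((I₁ ⊔ I₂) ^ (k₁ + k₂) • ⊤ : Submodule R M).mkQ ≫ ModuleCat.ofHom t =
      ModuleCat.ofHom q₁ ≫ ModuleCat.ofHom q₂ := by
    apply ModuleCat.hom_ext
    apply LinearMap.ext
    intro x
    rfl
  have hfac' := congrArg (fun φ => ((Tor (ModuleCat.{u} R) p).map φ).app N) hfac
  simp only [Functor.map_comp, NatTrans.comp_app] at hfac'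
  have : Mono (((Tor (ModuleCat.{u} R) p).map (ModuleCat.ofHom q₁)).app N ≫
      ((Tor (ModuleCat.{u} R) p).map (ModuleCat.ofHom q₂)).app N) := mono_comp _ _
  rw [← hfac'] at this
  exact mono_of_mono _ (((Tor (ModuleCat.{u} R) p).map (ModuleCat.ofHom t)).app N)

theorem good_span_finset [IsNoetherianRing R] (s : Finset R) :
    ∀ (M : Type u) [AddCommGroup M] [Module R M] [Module.Finite R M],
      Good (Ideal.span (s : Set R)) M := by
  classical
  induction s using Finset.induction_on with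
  | empty =>
    intro M _ _ _
    have h := good_span_singleton (0 : R) M
    have : Ideal.span ((∅ : Finset R) : Set R) = Ideal.span {(0 : R)} := by
      rw [Finset.coe_empty, Ideal.span_empty, Ideal.span_singleton_eq_bot.2 rfl]
    rw [this]
    exact h
  | insert a s _ ih =>
    intro M _ _ _
    have : Ideal.span ((insert a s : Finset R) : Set R) =
        Ideal.span {a} ⊔ Ideal.span (s : Set R) := by
      rw [Finset.coe_insert, Ideal.span_insert]
    rw [this]
    exact good_sup _ _ M (good_span_singleton a M) (fun M' _ _ _ => ih M')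

theorem good [IsNoetherianRing R] (I : Ideal R) (M : Type u) [AddCommGroup M] [Module R M]
    [Module.Finite R M] : Good I M := by
  obtain ⟨s, hs⟩ := (IsNoetherian.noetherian I : I.FG)
  rw [← hs]
  exact good_span_finset s M

/-- The uniform vanishing statement. -/
theorem exists_tor_pow_subtype_eq_zero [IsNoetherianRing R] (I : Ideal R) (M : Type u)
    [AddCommGroup M] [Module R M] [Module.Finite R M] :
    ∃ n : ℕ, 0 < n ∧ ∀ (N : ModuleCat.{u} R), (∀ a ∈ I, ∀ y : N, a • y = 0) → ∀ p : ℕ,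
      ((Tor (ModuleCat.{u} R) p).map
        (ModuleCat.ofHom (I ^ n • ⊤ : Submodule R M).subtype)).app N = 0 := by
  obtain ⟨k, hk⟩ := good I M
  refine ⟨k + 1, Nat.succ_pos _, fun N hN p => ?_⟩
  have := hk N hN p
  have hle : (I ^ (k + 1) • ⊤ : Submodule R M) ≤ I ^ k • ⊤ :=
    Submodule.smul_mono_left (Ideal.pow_le_pow_right (Nat.le_succ k))
  let S : ShortComplex (ModuleCat.{u} R) :=
    ShortComplex.mk (ModuleCat.ofHom (I ^ (k + 1) • ⊤ : Submodule R M).subtype)
      (ModuleCat.ofHom (I ^ k • ⊤ : Submodule R M).mkQ) (by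
        apply ModuleCat.hom_ext
        apply LinearMap.ext
        intro y
        show (I ^ k • ⊤ : Submodule R M).mkQ (y : M) = 0
        rw [Submodule.mkQ_apply, Submodule.Quotient.mk_eq_zero]
        exact hle y.2)
  have hz := tor_map_comp_zero S N p
  rw [← cancel_mono (((Tor (ModuleCat.{u} R) p).map
    (ModuleCat.ofHom (I ^ k • ⊤ : Submodule R M).mkQ)).app N), zero_comp]
  exact hz

end Groth.Agent.Lib.Helper19TorPow
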