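import Mathlib
import Groth.Agent.Lib.Helper13Tor
import Groth.Agent.Lib.Helper13TorNat
import Groth.Agent.Lib.Helper13TorMore
import Groth.Agent.Lib.Helper13Ses

/-!
# Pro-vanishing of `Tor` in the second variable: the `H_i(P ⊗ -)` model (helper19)

For a complex `P` of projective modules we study the functors `Y ↦ H_i(P ⊗ Y)` and prove a
"pro-zero extension" lemma for systems of short exact sequences.
-/

set_option autoImplicit false
universe u
open CategoryTheory CategoryTheory.Limits MonoidalCategory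

namespace Groth.Agent.Lib.Helper19TorPro

open Groth.Agent.Helper13Tor Groth.Agent.Helper13Ses

variable {R : Type u} [CommRing R] (P : ChainComplex (ModuleCat.{u} R) ℕ)

/-- the map `H_i(P ⊗ Y) ⟶ H_i(P ⊗ Y')`. -/
noncomputable abbrev TTmap (i : ℕ) {Y Y' : ModuleCat.{u} R} (g : Y ⟶ Y') :
    (tR P Y).homology i ⟶ (tR P Y').homology i :=
  HomologicalComplex.homologyMap (tRmap P g) i

theorem tRmap_comp {Y Y' Y'' : ModuleCat.{u} R} (g : Y ⟶ Y') (h : Y' ⟶ Y'') :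
    tRmap P (g ≫ h) = tRmap P g ≫ tRmap P h := by
  ext j : 1
  show P.X j ◁ (g ≫ h) = P.X j ◁ g ≫ P.X j ◁ h
  exact MonoidalCategory.whiskerLeft_comp _ _ _

theorem tRmap_zero {Y Y' : ModuleCat.{u} R} : tRmap P (0 : Y ⟶ Y') = 0 := by
  ext j : 1
  show P.X j ◁ (0 : Y ⟶ Y') = 0
  exact MonoidalPreadditive.whiskerLeft_zero

theorem tRmap_add {Y Y' : ModuleCat.{u} R} (g h : Y ⟶ Y') :
    tRmap P (g + h) = tRmap P g + tRmap P h := by
  ext j : 1
  show P.X j ◁ (g + h) = P.X j ◁ g + P.X j ◁ h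
  exact MonoidalPreadditive.whiskerLeft_add _ _

theorem TTmap_comp (i : ℕ) {Y Y' Y'' : ModuleCat.{u} R} (g : Y ⟶ Y') (h : Y' ⟶ Y'') :
    TTmap P i (g ≫ h) = TTmap P i g ≫ TTmap P i h := by
  show HomologicalComplex.homologyMap (tRmap P (g ≫ h)) i = _
  rw [tRmap_comp, HomologicalComplex.homologyMap_comp]

theorem TTmap_zero (i : ℕ) {Y Y' : ModuleCat.{u} R} : TTmap P i (0 : Y ⟶ Y') = 0 := by
  show HomologicalComplex.homologyMap (tRmap P (0 : Y ⟶ Y')) i = _
  rw [tRmap_zero, HomologicalComplex.homologyMap_zero]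

theorem TTmap_add (i : ℕ) {Y Y' : ModuleCat.{u} R} (g h : Y ⟶ Y') :
    TTmap P i (g + h) = TTmap P i g + TTmap P i h := by
  show HomologicalComplex.homologyMap (tRmap P (g + h)) i = _
  rw [tRmap_add, HomologicalComplex.homologyMap_add]

theorem TTmap_sum (i : ℕ) {Y Y' : ModuleCat.{u} R} {ι : Type*} (s : Finset ι) (g : ι → (Y ⟶ Y')) :
    TTmap P i (∑ j ∈ s, g j) = ∑ j ∈ s, TTmap P i (g j) := by
  classical
  induction s using Finset.induction_on with
  | empty => simp only [Finset.sum_empty]; exact TTmap_zero P i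
  | insert a s ha ih => rw [Finset.sum_insert ha, Finset.sum_insert ha, TTmap_add, ih]

/-- map of short complexes of complexes induced by a map of short complexes of modules. -/
noncomputable def tSCmap' {S S' : ShortComplex (ModuleCat.{u} R)} (φ : S ⟶ S') :
    tSC' P S ⟶ tSC' P S' where
  τ₁ := tRmap P φ.τ₁
  τ₂ := tRmap P φ.τ₂
  τ₃ := tRmap P φ.τ₃
  comm₁₂ := by
    show tRmap P φ.τ₁ ≫ tRmap P S'.f = tRmap P S.f ≫ tRmap P φ.τ₂
    rw [← tRmap_comp, ← tRmap_comp, φ.comm₁₂]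
  comm₂₃ := by
    show tRmap P φ.τ₂ ≫ tRmap P S'.g = tRmap P S.g ≫ tRmap P φ.τ₃
    rw [← tRmap_comp, ← tRmap_comp, φ.comm₂₃]

/-- elementary diagram chase. -/
theorem comp_eq_zero_of_exact {A' A'' B B' B'' C C' : ModuleCat.{u} R}
    (b : B ⟶ B') (b' : B' ⟶ B'') (α' : A' ⟶ B') (β' : B' ⟶ C') (w : α' ≫ β' = 0)
    (hex : (ShortComplex.mk α' β' w).Exact) (β : B ⟶ C) (c : C ⟶ C') (hc : b ≫ β' = β ≫ c)
    (hc0 : c = 0) (a' : A' ⟶ A'') (α'' : A'' ⟶ B'') (ha : α' ≫ b' = a' ≫ α'') (ha0 : a' = 0) :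
    b ≫ b' = 0 := by
  apply ModuleCat.hom_ext
  apply LinearMap.ext
  intro x
  have h1 : β'.hom (b.hom x) = 0 := by
    have := congrArg (fun f => f.hom x) hc
    simp only [ModuleCat.hom_comp, LinearMap.comp_apply] at this
    rw [this, hc0]
    rfl
  obtain ⟨y, hy⟩ := (ShortComplex.moduleCat_exact_iff _).1 hex _ h1
  have hy' : α'.hom y = b.hom x := hy
  have h2 := congrArg (fun f => f.hom y) ha
  simp only [ModuleCat.hom_comp, LinearMap.comp_apply] at h2
  show b'.hom (b.hom x) = 0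
  rw [← hy', h2, ha0]
  simp

/-- **Pro-zero extension lemma.**  Given a system of short exact sequences with transition maps,
if the transition maps vanish on `H_{j+1}(P ⊗ X₂)` with shift `ca` and on `H_j(P ⊗ X₁)` with shift
`cc`, then they vanish on `H_{j+1}(P ⊗ X₃)` with shift `ca + cc`. -/
theorem proZero_X₃ (hP : ∀ j, Projective (P.X j))
    (S : ℕ → ShortComplex (ModuleCat.{u} R)) (hS : ∀ n, (S n).ShortExact)
    (φ : ∀ n m : ℕ, m ≤ n → (S n ⟶ S m))
    (hφ : ∀ (n m l : ℕ) (h₁ : m ≤ n) (h₂ : l ≤ m),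
      (φ n m h₁).τ₃ ≫ (φ m l h₂).τ₃ = (φ n l (h₂.trans h₁)).τ₃)
    (j ca cc : ℕ)
    (ha : ∀ (n m : ℕ) (h : m ≤ n), m + ca ≤ n → TTmap P (j + 1) (φ n m h).τ₂ = 0)
    (hc : ∀ (n m : ℕ) (h : m ≤ n), m + cc ≤ n → TTmap P j (φ n m h).τ₁ = 0) :
    ∀ (n m : ℕ) (h : m ≤ n), m + (ca + cc) ≤ n → TTmap P (j + 1) (φ n m h).τ₃ = 0 := by
  intro n m h hnm
  have h₂ : m ≤ m + ca := Nat.le_add_right _ _
  have h₁ : m + ca ≤ n := by omega
  rw [← hφ n (m + ca) m h₁ h₂, TTmap_comp]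
  have hT := fun k => tSC'_shortExact P hP (S k) (hS k)
  have hrel : (ComplexShape.down ℕ).Rel (j + 1) j := rfl
  refine comp_eq_zero_of_exact (TTmap P (j + 1) (φ n (m + ca) h₁).τ₃)
    (TTmap P (j + 1) (φ (m + ca) m h₂).τ₃)
    (HomologicalComplex.homologyMap (tSC' P (S (m + ca))).g (j + 1))
    ((hT (m + ca)).δ (j + 1) j hrel) ((hT (m + ca)).comp_δ (j + 1) j hrel)
    ((hT (m + ca)).homology_exact₃ (j + 1) j hrel)
    ((hT n).δ (j + 1) j hrel) (TTmap P j (φ n (m + ca) h₁).τ₁) ?_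
    (hc n (m + ca) h₁ (by omega))
    (TTmap P (j + 1) (φ (m + ca) m h₂).τ₂)
    (HomologicalComplex.homologyMap (tSC' P (S m)).g (j + 1)) ?_
    (ha (m + ca) m h₂ le_rfl)
  · exact (HomologicalComplex.HomologySequence.δ_naturality (tSCmap' P (φ n (m + ca) h₁))
      (hT n) (hT (m + ca)) (j + 1) j hrel).symm
  · show HomologicalComplex.homologyMap (tRmap P (S (m + ca)).g) (j + 1) ≫
      HomologicalComplex.homologyMap (tRmap P (φ (m + ca) m h₂).τ₃) (j + 1) =
      HomologicalComplex.homologyMap (tRmap P (φ (m + ca) m h₂).τ₂) (j + 1) ≫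
        HomologicalComplex.homologyMap (tRmap P (S m).g) (j + 1)
    rw [← HomologicalComplex.homologyMap_comp, ← HomologicalComplex.homologyMap_comp,
      ← tRmap_comp, ← tRmap_comp, (φ (m + ca) m h₂).comm₂₃]

end Groth.Agent.Lib.Helper19TorPro
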