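import Mathlib
import Groth.Agent.Lib.Helper19TorProA

/-!
# The inductive step: dividing a pro-system by an endomorphism with pro-zero kernel (helper19)
-/

set_option autoImplicit false
universe u
open CategoryTheory CategoryTheory.Limits MonoidalCategory

namespace Groth.Agent.Lib.Helper19TorPro

open Groth.Agent.Helper13Tor Groth.Agent.Helper13Ses

variable {R : Type u} [CommRing R] (P : ChainComplex (ModuleCat.{u} R) ℕ)

section step

variable (W C : ℕ → Type u) [∀ n, AddCommGroup (W n)] [∀ n, Module R (W n)]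
  [∀ n, AddCommGroup (C n)] [∀ n, Module R (C n)]
  (τW : ∀ n m : ℕ, m ≤ n → (W n →ₗ[R] W m)) (τC : ∀ n m : ℕ, m ≤ n → (C n →ₗ[R] C m))
  (g : ∀ n, W n →ₗ[R] W n) (q : ∀ n, W n →ₗ[R] C n)

/-- `g n` corestricted to `ker (q n)`. -/
noncomputable def gt (hqg : ∀ n w, q n (g n w) = 0) (n : ℕ) : W n →ₗ[R] LinearMap.ker (q n) :=
  LinearMap.codRestrict (LinearMap.ker (q n)) (g n) (fun w => hqg n w)

variable (hq : ∀ n, Function.Surjective (q n))
  (hqg : ∀ n w, q n (g n w) = 0)
  (hex : ∀ n w, q n w = 0 → ∃ v, g n v = w)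
  (hgτ : ∀ n m h w, τW n m h (g n w) = g m (τW n m h w))
  (hqτ : ∀ n m h w, τC n m h (q n w) = q m (τW n m h w))

include hex in
theorem gt_surjective (n : ℕ) : Function.Surjective (gt W C g q hqg n) := by
  rintro ⟨w, hw⟩
  obtain ⟨v, hv⟩ := hex n w hw
  exact ⟨v, Subtype.ext hv⟩

/-- transition on `ker (q n)`. -/
noncomputable def τK (n m : ℕ) (h : m ≤ n) : LinearMap.ker (q n) →ₗ[R] LinearMap.ker (q m) :=
  (τW n m h).restrict (fun w hw => by
    rw [LinearMap.mem_ker] at hw ⊢
    rw [← hqτ n m h w, hw, map_zero])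

/-- transition on `ker (gt n)`. -/
noncomputable def τN (n m : ℕ) (h : m ≤ n) :
    LinearMap.ker (gt W C g q hqg n) →ₗ[R] LinearMap.ker (gt W C g q hqg m) :=
  (τW n m h).restrict (fun w hw => by
    rw [LinearMap.mem_ker] at hw ⊢
    have hw' : g n w = 0 := congrArg Subtype.val hw
    apply Subtype.ext
    show g m (τW n m h w) = 0
    rw [← hgτ n m h w, hw', map_zero])

/-- first system of short exact sequences `ker g → W → ker q`. -/
noncomputable def φ₁ (n m : ℕ) (h : m ≤ n) :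
    sesKer (gt W C g q hqg n) ⟶ sesKer (gt W C g q hqg m) where
  τ₁ := ModuleCat.ofHom (τN W C τW g q hqg hgτ n m h)
  τ₂ := ModuleCat.ofHom (τW n m h)
  τ₃ := ModuleCat.ofHom (τK W C τW τC q hqτ n m h)
  comm₁₂ := by
    apply ModuleCat.hom_ext
    apply LinearMap.ext
    intro x
    rfl
  comm₂₃ := by
    apply ModuleCat.hom_ext
    apply LinearMap.ext
    intro x
    apply Subtype.ext
    exact (hgτ n m h x).symm

/-- second system of short exact sequences `ker q → W → C`. -/
noncomputable def φ₂ (n m : ℕ) (h : m ≤ n) :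
    sesKer (q n) ⟶ sesKer (q m) where
  τ₁ := ModuleCat.ofHom (τK W C τW τC q hqτ n m h)
  τ₂ := ModuleCat.ofHom (τW n m h)
  τ₃ := ModuleCat.ofHom (τC n m h)
  comm₁₂ := by
    apply ModuleCat.hom_ext
    apply LinearMap.ext
    intro x
    rfl
  comm₂₃ := by
    apply ModuleCat.hom_ext
    apply LinearMap.ext
    intro x
    exact (hqτ n m h x).symm

include hq hex hqg hgτ hqτ in
/-- **The step.** -/
theorem step (hP : ∀ j, Projective (P.X j))
    (hτC : ∀ (n m l : ℕ) (h₁ : m ≤ n) (h₂ : l ≤ m) (x : C n),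
      τC m l h₂ (τC n m h₁ x) = τC n l (h₂.trans h₁) x)
    (hτW : ∀ (n m l : ℕ) (h₁ : m ≤ n) (h₂ : l ≤ m) (x : W n),
      τW m l h₂ (τW n m h₁ x) = τW n l (h₂.trans h₁) x)
    (k c₁ c₂ : ℕ)
    (hW : ∀ i, k < i → ∀ (n m : ℕ) (h : m ≤ n), m + c₁ ≤ n →
      TTmap P i (ModuleCat.ofHom (τW n m h)) = 0)
    (hN : ∀ (n m : ℕ) (h : m ≤ n), m + c₂ ≤ n → ∀ w, g n w = 0 → τW n m h w = 0) :
    ∀ i, k + 1 < i → ∀ (n m : ℕ) (h : m ≤ n), m + (c₁ + (c₁ + c₂)) ≤ n →
      TTmap P i (ModuleCat.ofHom (τC n m h)) = 0 := by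
  intro i hi
  obtain ⟨j, rfl⟩ : ∃ j, i = j + 2 := ⟨i - 2, by omega⟩
  -- first system
  have L1 := proZero_X₃ P hP (fun n => sesKer (gt W C g q hqg n))
    (fun n => sesKer_shortExact _ (gt_surjective W C g q hqg hex n))
    (φ₁ W C τW τC g q hqg hgτ hqτ)
    (by
      intro n m l h₁ h₂
      apply ModuleCat.hom_ext
      apply LinearMap.ext
      intro x
      apply Subtype.ext
      exact hτW n m l h₁ h₂ (x : LinearMap.ker (q n)).1)
    j c₁ c₂
    (fun n m h hnm => hW (j + 1) (by omega) n m h hnm)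
    (by
      intro n m h hnm
      have : (φ₁ W C τW τC g q hqg hgτ hqτ n m h).τ₁ = 0 := by
        apply ModuleCat.hom_ext
        apply LinearMap.ext
        intro x
        apply Subtype.ext
        have hx : g n (x : LinearMap.ker (gt W C g q hqg n)).1 = 0 :=
          congrArg Subtype.val (x : LinearMap.ker (gt W C g q hqg n)).2
        exact hN n m h hnm (x : LinearMap.ker (gt W C g q hqg n)).1 hx
      rw [this]
      exact TTmap_zero P j)
  -- second system
  have L2 := proZero_X₃ P hP (fun n => sesKer (q n))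
    (fun n => sesKer_shortExact _ (hq n))
    (φ₂ W C τW τC q hqτ)
    (by
      intro n m l h₁ h₂
      apply ModuleCat.hom_ext
      apply LinearMap.ext
      intro x
      exact hτC n m l h₁ h₂ x)
    (j + 1) c₁ (c₁ + c₂)
    (fun n m h hnm => hW (j + 1 + 1) (by omega) n m h hnm)
    (fun n m h hnm => L1 n m h hnm)
  exact L2

end step

end Groth.Agent.Lib.Helper19TorPro
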