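import Mathlib
import Groth.Agent.Lib.Helper19TorProB

/-!
# The polynomial pro-system `R[X] / (I', X)^n` (helper19)
-/

set_option autoImplicit false
universe u
open CategoryTheory CategoryTheory.Limits MonoidalCategory Polynomial

namespace Groth.Agent.Lib.Helper19TorPro

open Groth.Agent.Helper13Tor Groth.Agent.Helper13Ses

variable {R : Type u} [CommRing R] (I' : Ideal R) (f : R)

/-- the ideal `(I', X)` of `R[X]`. -/
noncomputable def aa : Ideal R[X] := Ideal.map C I' ⊔ Ideal.span {X}

/-- `𝔞^n` as an `R`-submodule. -/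
noncomputable def Wsub (n : ℕ) : Submodule R R[X] := (aa I' ^ n).restrictScalars R

theorem mem_Wsub {n : ℕ} {p : R[X]} : p ∈ Wsub I' n ↔ p ∈ aa I' ^ n := Iff.rfl

theorem Wsub_mono {n m : ℕ} (h : m ≤ n) : Wsub I' n ≤ Wsub I' m := fun _ hp =>
  Ideal.pow_le_pow_right h hp

theorem coeff_zero_mem_of_mem_aa {a : R[X]} (ha : a ∈ aa I') : a.coeff 0 ∈ I' := by
  have h : aa I' ≤ Ideal.comap (constantCoeff : R[X] →+* R) I' := by
    refine sup_le ?_ ?_
    · rw [Ideal.map_le_iff_le_comap]
      intro r hr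
      rw [Ideal.mem_comap, Ideal.mem_comap]
      simpa using hr
    · rw [Ideal.span_le]
      intro x hx
      rw [Set.mem_singleton_iff] at hx
      subst hx
      simp
  have := h ha
  rw [Ideal.mem_comap] at this
  simpa using this

/-- (F1) -/
theorem coeff_mem_of_mem_pow : ∀ (n : ℕ) (p : R[X]), p ∈ aa I' ^ n → ∀ j, p.coeff j ∈ I' ^ (n - j)
  | 0, p, _, j => by simp
  | n + 1, p, hp, j => by
    rw [pow_succ'] at hp
    refine Submodule.mul_induction_on hp ?_ ?_
    · intro a ha b hb
      rw [Polynomial.coeff_mul]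
      refine Ideal.sum_mem _ ?_
      rintro ⟨u, v⟩ huv
      have huv' : u + v = j := Finset.HasAntidiagonal.mem_antidiagonal.1 huv
      show a.coeff u * b.coeff v ∈ I' ^ (n + 1 - j)
      by_cases hu : u = 0
      · subst hu
        have h1 := coeff_zero_mem_of_mem_aa I' ha
        have h2 := coeff_mem_of_mem_pow n b hb v
        have h3 : a.coeff 0 * b.coeff v ∈ I' ^ (n - v + 1) := by
          rw [pow_succ']
          exact Ideal.mul_mem_mul h1 h2
        exact Ideal.pow_le_pow_right (by omega) h3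
      · have h2 := coeff_mem_of_mem_pow n b hb v
        exact Ideal.mul_mem_left _ _ (Ideal.pow_le_pow_right (by omega) h2)
    · intro x y hx hy
      rw [Polynomial.coeff_add]
      exact Ideal.add_mem _ hx hy

theorem X_mem_aa : (X : R[X]) ∈ aa I' := by
  unfold aa
  exact Ideal.mem_sup_right (Ideal.subset_span (Set.mem_singleton _))

/-- (F2) -/
theorem monomial_mem_pow {k j : ℕ} {r : R} (hr : r ∈ I' ^ k) :
    monomial j r ∈ aa I' ^ (k + j) := by
  rw [← Polynomial.C_mul_X_pow_eq_monomial, pow_add]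
  refine Ideal.mul_mem_mul ?_ ?_
  · have h1 : C r ∈ Ideal.map C (I' ^ k) := Ideal.mem_map_of_mem _ hr
    rw [Ideal.map_pow] at h1
    have hle : Ideal.map C I' ≤ aa I' := by
      unfold aa
      exact le_sup_left
    exact Ideal.pow_right_mono hle k h1
  · exact Ideal.pow_mem_pow (X_mem_aa I') j

theorem monomial_mem_Wsub {n j : ℕ} {r : R} (hr : r ∈ I' ^ (n - j)) :
    monomial j r ∈ Wsub I' n :=
  Ideal.pow_le_pow_right (by omega) (monomial_mem_pow I' hr)

/-- (F3) -/
theorem sub_sum_monomial_mem (n : ℕ) (p : R[X]) :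
    p - ∑ j ∈ Finset.range n, monomial j (p.coeff j) ∈ aa I' ^ n := by
  have hX : (X : R[X]) ^ n ∈ aa I' ^ n := Ideal.pow_mem_pow (X_mem_aa I') n
  have hdvd : (X : R[X]) ^ n ∣ p - ∑ j ∈ Finset.range n, monomial j (p.coeff j) := by
    rw [Polynomial.X_pow_dvd_iff]
    intro d hd
    rw [Polynomial.coeff_sub, Polynomial.finsetSum_coeff]
    simp only [Polynomial.coeff_monomial]
    rw [Finset.sum_eq_single d]
    · simp
    · intro b _ hb
      rw [if_neg hb]
    · intro hd'
      exact absurd (Finset.mem_range.2 hd) hd'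
  obtain ⟨v, hv⟩ := hdvd
  rw [hv]
  exact Ideal.mul_mem_right _ _ hX

end Groth.Agent.Lib.Helper19TorPro
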