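import Mathlib
import Groth.Agent.Lib.Helper19TorProC

/-!
# Pro-vanishing for `R[X] / (I', X)^n` from pro-vanishing for `R / I'^n` (helper19)
-/

set_option autoImplicit false
universe u
open CategoryTheory CategoryTheory.Limits MonoidalCategory Polynomial

namespace Groth.Agent.Lib.Helper19TorPro

open Groth.Agent.Helper13Tor Groth.Agent.Helper13Ses

variable {R : Type u} [CommRing R] (I' : Ideal R)

/-- `R[X] / (I', X)^n` as an `R`-module. -/
abbrev WW (n : ℕ) : Type u := R[X] ⧸ Wsub I' n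

/-- transition maps. -/
noncomputable def τW (n m : ℕ) (h : m ≤ n) : WW I' n →ₗ[R] WW I' m :=
  Submodule.mapQ (Wsub I' n) (Wsub I' m) LinearMap.id (fun _ hp => Wsub_mono I' h hp)

/-- transition maps of `R / J^n`. -/
noncomputable def τI (J : Ideal R) (n m : ℕ) (h : m ≤ n) : (R ⧸ J ^ n) →ₗ[R] (R ⧸ J ^ m) :=
  Submodule.mapQ (J ^ n) (J ^ m) LinearMap.id (Ideal.pow_le_pow_right h)

/-- coefficient maps. -/
noncomputable def pj (n j : ℕ) : WW I' n →ₗ[R] (R ⧸ I' ^ (n - j)) :=
  (Wsub I' n).liftQ ((I' ^ (n - j)).mkQ ∘ₗ Polynomial.lcoeff R j) (by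
    intro p hp
    rw [LinearMap.mem_ker, LinearMap.comp_apply, Submodule.mkQ_apply,
      Submodule.Quotient.mk_eq_zero]
    exact coeff_mem_of_mem_pow I' n p hp j)

/-- monomial maps. -/
noncomputable def sj (n j : ℕ) : (R ⧸ I' ^ (n - j)) →ₗ[R] WW I' n :=
  (I' ^ (n - j)).liftQ ((Wsub I' n).mkQ ∘ₗ Polynomial.monomial j) (by
    intro r hr
    rw [LinearMap.mem_ker, LinearMap.comp_apply, Submodule.mkQ_apply,
      Submodule.Quotient.mk_eq_zero]
    exact monomial_mem_Wsub I' hr)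

theorem pj_mk (n j : ℕ) (p : R[X]) :
    pj I' n j (Submodule.Quotient.mk p) = Submodule.Quotient.mk (p.coeff j) := rfl

theorem sj_mk (n j : ℕ) (r : R) :
    sj I' n j (Submodule.Quotient.mk r) = Submodule.Quotient.mk (monomial j r) := rfl

theorem sum_sj_pj (n : ℕ) (w : WW I' n) :
    ∑ j ∈ Finset.range n, sj I' n j (pj I' n j w) = w := by
  obtain ⟨p, rfl⟩ := Submodule.Quotient.mk_surjective _ w
  simp only [pj_mk, sj_mk]
  have hs : ∑ x ∈ Finset.range n, (Submodule.Quotient.mk ((monomial x) (p.coeff x)) : WW I' n) =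
      (Wsub I' n).mkQ (∑ x ∈ Finset.range n, (monomial x) (p.coeff x)) := by
    rw [map_sum]
    rfl
  rw [hs, Submodule.mkQ_apply, eq_comm, ← sub_eq_zero, ← Submodule.Quotient.mk_sub,
    Submodule.Quotient.mk_eq_zero]
  exact sub_sum_monomial_mem I' n p

theorem τW_sj (n m : ℕ) (h : m ≤ n) (j : ℕ) (x : R ⧸ I' ^ (n - j)) :
    τW I' n m h (sj I' n j x) = sj I' m j (τI I' (n - j) (m - j) (Nat.sub_le_sub_right h j) x) := by
  obtain ⟨r, rfl⟩ := Submodule.Quotient.mk_surjective _ x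
  rfl

variable (P : ChainComplex (ModuleCat.{u} R) ℕ)

/-- pro-vanishing for `R[X]/(I',X)^n` from that of `R/I'^n`. -/
theorem proZero_W (t c' : ℕ)
    (IH : ∀ i, t < i → ∀ (n m : ℕ) (h : m ≤ n), m + c' ≤ n →
      TTmap P i (ModuleCat.ofHom (τI I' n m h)) = 0) :
    ∀ i, t < i → ∀ (n m : ℕ) (h : m ≤ n), m + c' ≤ n →
      TTmap P i (ModuleCat.ofHom (τW I' n m h)) = 0 := by
  intro i hi n m h hnm
  have key : ModuleCat.ofHom (τW I' n m h) =
      ∑ j ∈ Finset.range n, (ModuleCat.ofHom (pj I' n j) ≫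
        ModuleCat.ofHom (τI I' (n - j) (m - j) (Nat.sub_le_sub_right h j)) ≫
        ModuleCat.ofHom (sj I' m j)) := by
    apply ModuleCat.hom_ext
    apply LinearMap.ext
    intro w
    rw [ModuleCat.hom_sum, LinearMap.sum_apply]
    simp only [ModuleCat.hom_comp, ModuleCat.hom_ofHom, LinearMap.comp_apply]
    conv_lhs => rw [← sum_sj_pj I' n w]
    rw [map_sum]
    refine Finset.sum_congr rfl fun j _ => ?_
    exact τW_sj I' n m h j _
  rw [key, TTmap_sum]
  refine Finset.sum_eq_zero fun j _ => ?_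
  rw [TTmap_comp, TTmap_comp]
  have hz : TTmap P i (ModuleCat.ofHom (τI I' (n - j) (m - j) (Nat.sub_le_sub_right h j))) = 0 := by
    by_cases hj : j ≤ m
    · exact IH i hi _ _ _ (by omega)
    · have h0 : m - j = 0 := by omega
      have hsub : Subsingleton (R ⧸ I' ^ (m - j)) := by
        rw [h0, pow_zero, Ideal.one_eq_top]
        exact Submodule.Quotient.subsingleton_iff.2 rfl
      have : τI I' (n - j) (m - j) (Nat.sub_le_sub_right h j) = 0 := by
        apply LinearMap.ext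
        intro x
        exact Subsingleton.elim _ _
      rw [this]
      exact TTmap_zero P i
  rw [hz, Limits.zero_comp, Limits.comp_zero]

end Groth.Agent.Lib.Helper19TorPro
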