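import Mathlib
import Groth.Agent.Lib.Helper19TorProD

/-!
# Adding one generator: from `I'` to `I' ⊔ (f)` (helper19)
-/

set_option autoImplicit false
universe u
open CategoryTheory CategoryTheory.Limits MonoidalCategory Polynomial

namespace Groth.Agent.Lib.Helper19TorPro

open Groth.Agent.Helper13Tor Groth.Agent.Helper13Ses

variable {R : Type u} [CommRing R] (I' : Ideal R) (f : R)

/-- the element `X - f`. -/
noncomputable def gel : R[X] := X - C f

/-- the ideal `I' + (f)`. -/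
def II : Ideal R := I' ⊔ Ideal.span {f}

theorem map_eval_aa : Ideal.map (evalRingHom f) (aa I') = II I' f := by
  unfold aa II
  rw [Ideal.map_sup, Ideal.map_map, Ideal.map_span, Set.image_singleton]
  have h1 : (evalRingHom f).comp (C : R →+* R[X]) = RingHom.id R := by
    ext r
    simp
  rw [h1, Ideal.map_id]
  simp

theorem eval_surjective : Function.Surjective (evalRingHom f) := fun r => ⟨C r, by simp⟩

theorem eval_mem_pow {n : ℕ} {p : R[X]} (hp : p ∈ aa I' ^ n) : p.eval f ∈ II I' f ^ n := by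
  have h := Ideal.mem_map_of_mem (evalRingHom f) hp
  rw [Ideal.map_pow, map_eval_aa] at h
  exact h

theorem exists_mem_pow_eval_eq {n : ℕ} {r : R} (hr : r ∈ II I' f ^ n) :
    ∃ a ∈ aa I' ^ n, a.eval f = r := by
  rw [← map_eval_aa, ← Ideal.map_pow] at hr
  exact (Ideal.mem_map_iff_of_surjective _ (eval_surjective f)).1 hr

/-- multiplication by `X - f` on `R[X]/(I',X)^n`. -/
noncomputable def gW (n : ℕ) : WW I' n →ₗ[R] WW I' n :=
  Submodule.mapQ (Wsub I' n) (Wsub I' n) (LinearMap.mulLeft R (gel f))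
    (fun _ hp => Ideal.mul_mem_left _ _ hp)

/-- evaluation at `f`: `R[X]/(I',X)^n → R/(I'+f)^n`. -/
noncomputable def qW (n : ℕ) : WW I' n →ₗ[R] (R ⧸ II I' f ^ n) :=
  (Wsub I' n).liftQ ((II I' f ^ n).mkQ ∘ₗ (Polynomial.aeval f).toLinearMap) (by
    intro p hp
    rw [LinearMap.mem_ker, LinearMap.comp_apply, Submodule.mkQ_apply,
      Submodule.Quotient.mk_eq_zero]
    show Polynomial.aeval f p ∈ II I' f ^ n
    rw [Polynomial.coe_aeval_eq_eval]
    exact eval_mem_pow I' f hp)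

theorem gW_mk (n : ℕ) (p : R[X]) :
    gW I' f n (Submodule.Quotient.mk p) = Submodule.Quotient.mk (gel f * p) := rfl

theorem qW_mk (n : ℕ) (p : R[X]) :
    qW I' f n (Submodule.Quotient.mk p) = Submodule.Quotient.mk (p.eval f) := by
  show (Submodule.Quotient.mk (Polynomial.aeval f p) : R ⧸ II I' f ^ n) = _
  rw [Polynomial.coe_aeval_eq_eval]

theorem qW_surjective (n : ℕ) : Function.Surjective (qW I' f n) := by
  intro y
  obtain ⟨r, rfl⟩ := Submodule.Quotient.mk_surjective _ y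
  refine ⟨Submodule.Quotient.mk (C r), ?_⟩
  rw [qW_mk]
  simp

theorem eval_gel : (gel f).eval f = 0 := by
  unfold gel
  simp

theorem qW_gW (n : ℕ) (w : WW I' n) : qW I' f n (gW I' f n w) = 0 := by
  obtain ⟨p, rfl⟩ := Submodule.Quotient.mk_surjective _ w
  rw [gW_mk, qW_mk, Polynomial.eval_mul, eval_gel, zero_mul]
  rfl

theorem exists_gW_eq (n : ℕ) (w : WW I' n) (hw : qW I' f n w = 0) : ∃ v, gW I' f n v = w := by
  obtain ⟨p, rfl⟩ := Submodule.Quotient.mk_surjective _ w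
  rw [qW_mk, Submodule.Quotient.mk_eq_zero] at hw
  obtain ⟨a, ha, hae⟩ := exists_mem_pow_eval_eq I' f hw
  have hroot : (p - a).IsRoot f := by
    rw [Polynomial.IsRoot.def, Polynomial.eval_sub, hae, sub_self]
  obtain ⟨v, hv⟩ := Polynomial.dvd_iff_isRoot.2 hroot
  refine ⟨Submodule.Quotient.mk v, ?_⟩
  rw [gW_mk]
  have : gel f * v = p - a := hv.symm
  rw [this, Submodule.Quotient.mk_sub]
  have ha0 : (Submodule.Quotient.mk a : WW I' n) = 0 := (Submodule.Quotient.mk_eq_zero _).2 ha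
  rw [ha0, sub_zero]

theorem τW_gW (n m : ℕ) (h : m ≤ n) (w : WW I' n) :
    τW I' n m h (gW I' f n w) = gW I' f m (τW I' n m h w) := by
  obtain ⟨p, rfl⟩ := Submodule.Quotient.mk_surjective _ w
  rfl

theorem τI_qW (n m : ℕ) (h : m ≤ n) (w : WW I' n) :
    τI (II I' f) n m h (qW I' f n w) = qW I' f m (τW I' n m h w) := by
  obtain ⟨p, rfl⟩ := Submodule.Quotient.mk_surjective _ w
  rfl

theorem τI_comp (J : Ideal R) (n m l : ℕ) (h₁ : m ≤ n) (h₂ : l ≤ m) (x : R ⧸ J ^ n) :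
    τI J m l h₂ (τI J n m h₁ x) = τI J n l (h₂.trans h₁) x := by
  obtain ⟨r, rfl⟩ := Submodule.Quotient.mk_surjective _ x
  rfl

theorem τW_comp (n m l : ℕ) (h₁ : m ≤ n) (h₂ : l ≤ m) (x : WW I' n) :
    τW I' m l h₂ (τW I' n m h₁ x) = τW I' n l (h₂.trans h₁) x := by
  obtain ⟨r, rfl⟩ := Submodule.Quotient.mk_surjective _ x
  rfl

/-- Artin–Rees: the kernel of `X - f` on `R[X]/(I',X)^n` is pro-zero. -/
theorem exists_AR [IsNoetherianRing R] :
    ∃ c₂ : ℕ, ∀ (n m : ℕ) (h : m ≤ n), m + c₂ ≤ n → ∀ w : WW I' n,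
      gW I' f n w = 0 → τW I' n m h w = 0 := by
  obtain ⟨k, hk⟩ := Ideal.exists_pow_inf_eq_pow_smul (aa I')
    (Ideal.span {gel f} : Submodule R[X] R[X])
  refine ⟨k, fun n m h hnm w hw => ?_⟩
  obtain ⟨p, rfl⟩ := Submodule.Quotient.mk_surjective _ w
  rw [gW_mk, Submodule.Quotient.mk_eq_zero] at hw
  have hw' : gel f * p ∈ aa I' ^ n := hw
  have h1 : gel f * p ∈ (aa I' ^ n • ⊤ ⊓ (Ideal.span {gel f} : Submodule R[X] R[X]) :
      Submodule R[X] R[X]) := by
    refine ⟨?_, ?_⟩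
    · have : (aa I' ^ n • ⊤ : Submodule R[X] R[X]) = aa I' ^ n := by
        rw [Ideal.smul_eq_mul, Ideal.mul_top]
      rw [this]
      exact hw'
    · exact Ideal.mul_mem_right _ _ (Ideal.subset_span rfl)
  rw [hk n (by omega)] at h1
  have h2 : (aa I' ^ (n - k) • (aa I' ^ k • ⊤ ⊓ (Ideal.span {gel f} : Submodule R[X] R[X])) :
      Submodule R[X] R[X]) ≤ aa I' ^ (n - k) * Ideal.span {gel f} := by
    rw [← Ideal.smul_eq_mul]
    exact Submodule.smul_mono le_rfl inf_le_right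
  obtain ⟨z, hz, hzp⟩ := Ideal.mem_mul_span_singleton.1 (h2 h1)
  have hreg : IsRegular (gel f) := (Polynomial.monic_X_sub_C f).isRegular
  have hzp' : gel f * z = gel f * p := by rw [← hzp, mul_comm]
  have hpz : z = p := hreg.left hzp'
  show (Submodule.Quotient.mk p : WW I' m) = 0
  rw [Submodule.Quotient.mk_eq_zero]
  rw [← hpz]
  exact Ideal.pow_le_pow_right (by omega) hz

end Groth.Agent.Lib.Helper19TorPro
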