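import Mathlib
import Groth.Agent.Lib.Helper19TorProE

/-!
# Uniform pro-vanishing of `Tor_i(M, R/I^n)` for `i` above the number of generators (helper19)
-/

set_option autoImplicit false
universe u
open CategoryTheory CategoryTheory.Limits MonoidalCategory Polynomial

namespace Groth.Agent.Lib.Helper19TorPro

open Groth.Agent.Helper13Tor Groth.Agent.Helper13Ses

variable {R : Type u} [CommRing R]

/-- the hypothesis on the complex `P`: `H_i(P ⊗ Y) = 0` for flat `Y`, `i > 0`. -/
def FlatAcyclic (P : ChainComplex (ModuleCat.{u} R) ℕ) : Prop :=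
  ∀ (Y : ModuleCat.{u} R), Module.Flat R Y → ∀ i, 0 < i → IsZero ((tR P Y).homology i)

theorem flat_quot_bot_pow (n : ℕ) (hn : n ≠ 0) : Module.Flat R (R ⧸ (⊥ : Ideal R) ^ n) := by
  have h : ((⊥ : Ideal R) ^ n : Submodule R R) = ⊥ := by
    rw [← Ideal.zero_eq_bot, zero_pow hn]
  exact Module.Flat.of_linearEquiv (Submodule.quotEquivOfEqBot _ h)

/-- the main induction, in the `H_i(P ⊗ -)` model. -/
theorem main [IsNoetherianRing R] : ∀ (t : ℕ) (s : Finset R), s.card ≤ t →
    ∃ c : ℕ, ∀ (P : ChainComplex (ModuleCat.{u} R) ℕ), (∀ j, Projective (P.X j)) → FlatAcyclic P →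
      ∀ i, t < i → ∀ (n m : ℕ) (h : m ≤ n), m + c ≤ n →
        TTmap P i (ModuleCat.ofHom (τI (Ideal.span (s : Set R)) n m h)) = 0 := by
  classical
  intro t
  induction t with
  | zero =>
    intro s hs
    have hs0 : s = ∅ := Finset.card_eq_zero.1 (Nat.le_zero.1 hs)
    subst hs0
    refine ⟨0, fun P _ hflat i hi n m h _ => ?_⟩
    rw [Finset.coe_empty, Ideal.span_empty]
    by_cases hn : n = 0
    · subst hn
      have hsub : Subsingleton (R ⧸ (⊥ : Ideal R) ^ 0) := by
        rw [pow_zero, Ideal.one_eq_top]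
        exact Submodule.Quotient.subsingleton_iff.2 rfl
      have : τI (⊥ : Ideal R) 0 m h = 0 := by
        apply LinearMap.ext
        intro x
        rw [Subsingleton.elim x 0, map_zero, map_zero]
      rw [this]
      exact TTmap_zero P i
    · have := flat_quot_bot_pow (R := R) n hn
      exact (hflat (ModuleCat.of R (R ⧸ (⊥ : Ideal R) ^ n)) this i hi).eq_of_src _ _
  | succ t ih =>
    intro s hs
    by_cases hst : s.card ≤ t
    · obtain ⟨c, hc⟩ := ih s hst
      exact ⟨c, fun P hP hflat i hi n m h hnm => hc P hP hflat i (by omega) n m h hnm⟩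
    · have hcard : s.card = t + 1 := by omega
      have hne : s.Nonempty := Finset.card_pos.1 (by omega)
      obtain ⟨a, ha⟩ := hne
      have hs' : (s.erase a).card ≤ t := by
        rw [Finset.card_erase_of_mem ha]
        omega
      obtain ⟨c', hc'⟩ := ih (s.erase a) hs'
      obtain ⟨c₂, hc₂⟩ := exists_AR (Ideal.span ((s.erase a : Finset R) : Set R)) a
      have hJ : Ideal.span (s : Set R) = II (Ideal.span ((s.erase a : Finset R) : Set R)) a := by
        unfold II
        conv_lhs => rw [← Finset.insert_erase ha]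
        rw [Finset.coe_insert, Ideal.span_insert, sup_comm]
      refine ⟨c' + (c' + c₂), fun P hP hflat i hi n m h hnm => ?_⟩
      rw [hJ]
      exact step P (WW (Ideal.span ((s.erase a : Finset R) : Set R)))
        (fun n => R ⧸ II (Ideal.span ((s.erase a : Finset R) : Set R)) a ^ n)
        (τW _) (τI _) (gW _ a) (qW _ a) (qW_surjective _ a) (qW_gW _ a) (exists_gW_eq _ a)
        (τW_gW _ a) (τI_qW _ a) hP (τI_comp _) (τW_comp _) t c' c₂
        (proZero_W _ P t c' (hc' P hP hflat)) hc₂ i hi n m h hnm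

/-- `FlatAcyclic` for a projective resolution. -/
theorem flatAcyclic_of_resolution (M : ModuleCat.{u} R) (P : ProjectiveResolution M) :
    FlatAcyclic P.complex := by
  intro Y hY i hi
  obtain ⟨θ, _⟩ := exists_natural_iso M P i
  exact (isZero_tor_of_flat_right M Y i hi).of_iso (θ Y).symm

/-- **Uniform pro-vanishing of `Tor`.** -/
theorem exists_tor_map_eq_zero [IsNoetherianRing R] (I : Ideal R) (t : ℕ) (s : Finset R)
    (hs : I = Ideal.span (s : Set R)) (ht : s.card ≤ t) :
    ∃ c : ℕ, ∀ (M : ModuleCat.{u} R) (i : ℕ), t < i → ∀ (n m : ℕ) (h : m ≤ n), m + c ≤ n →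
      ((Tor (ModuleCat.{u} R) i).obj M).map (ModuleCat.ofHom (τI I n m h)) = 0 := by
  subst hs
  obtain ⟨c, hc⟩ := main t s ht
  refine ⟨c, fun M i hi n m h hnm => ?_⟩
  let P := projectiveResolution M
  obtain ⟨θ, hθ⟩ := exists_natural_iso M P i
  have h0 := hc P.complex (fun j => P.projective j) (flatAcyclic_of_resolution M P) i hi n m h hnm
  have h1 := hθ (ModuleCat.ofHom (τI (Ideal.span (s : Set R)) n m h))
  have h0' : HomologicalComplex.homologyMap
      (tRmap P.complex (ModuleCat.ofHom (τI (Ideal.span (s : Set R)) n m h))) i = 0 := h0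
  rw [h0', Limits.comp_zero] at h1
  rw [← cancel_mono (θ _).hom, h1, Limits.zero_comp]

end Groth.Agent.Lib.Helper19TorPro
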