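import Mathlib
import Groth.Agent.Lib.Helper19TorProF

/-!
# Linearity of `Tor` in the second variable and uniform annihilation (helper19)
-/

set_option autoImplicit false
universe u
open CategoryTheory CategoryTheory.Limits MonoidalCategory

namespace Groth.Agent.Lib.Helper19TorPro

open Groth.Agent.Helper13Tor Groth.Agent.Helper13Ses

variable {R : Type u} [CommRing R]

theorem homologyMap_smul' {K L : ChainComplex (ModuleCat.{u} R) ℕ} (a : R) (φ : K ⟶ L) (i : ℕ) :
    HomologicalComplex.homologyMap (a • φ) i = a • HomologicalComplex.homologyMap φ i := by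
  have h : (HomologicalComplex.shortComplexFunctor (ModuleCat.{u} R) (ComplexShape.down ℕ) i).map
      (a • φ) =
      a • (HomologicalComplex.shortComplexFunctor (ModuleCat.{u} R) (ComplexShape.down ℕ) i).map φ := by
    ext <;> rfl
  unfold HomologicalComplex.homologyMap
  rw [h]
  exact ShortComplex.homologyMap_smul _ _

theorem tRmap_smul (P : ChainComplex (ModuleCat.{u} R) ℕ) {Y Y' : ModuleCat.{u} R} (a : R)
    (g : Y ⟶ Y') : tRmap P (a • g) = a • tRmap P g := by
  ext j : 1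
  show P.X j ◁ (a • g) = a • (P.X j ◁ g)
  exact MonoidalLinear.whiskerLeft_smul _ _ _

theorem tRmap_id (P : ChainComplex (ModuleCat.{u} R) ℕ) (Y : ModuleCat.{u} R) :
    tRmap P (𝟙 Y) = 𝟙 _ := by
  ext j : 1
  show P.X j ◁ (𝟙 Y) = 𝟙 _
  exact MonoidalCategory.whiskerLeft_id _ _

/-- `Tor_i(M, -)` is `R`-linear on scalar multiples of the identity. -/
theorem tor_map_smul_id (M Y : ModuleCat.{u} R) (a : R) (i : ℕ) :
    ((Tor (ModuleCat.{u} R) i).obj M).map (a • 𝟙 Y) = a • 𝟙 _ := by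
  let P := projectiveResolution M
  obtain ⟨θ, hθ⟩ := exists_natural_iso M P i
  have h1 := hθ (a • 𝟙 Y)
  rw [tRmap_smul, homologyMap_smul', tRmap_id, HomologicalComplex.homologyMap_id] at h1
  rw [← cancel_mono (θ Y).hom, h1]
  rw [Linear.comp_smul, Linear.smul_comp, Category.comp_id, Category.id_comp]

/-- multiplication by `a ∈ I^c` as a map `R/I^m → R/I^(m+c)`. -/
noncomputable def mulQ (I : Ideal R) (m c : ℕ) (a : R) (ha : a ∈ I ^ c) :
    (R ⧸ I ^ m) →ₗ[R] (R ⧸ I ^ (m + c)) :=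
  (I ^ m).liftQ ((I ^ (m + c)).mkQ ∘ₗ LinearMap.mulLeft R a) (by
    intro r hr
    rw [LinearMap.mem_ker, LinearMap.comp_apply, Submodule.mkQ_apply,
      Submodule.Quotient.mk_eq_zero]
    show a * r ∈ I ^ (m + c)
    rw [pow_add, mul_comm]
    exact Ideal.mul_mem_mul ha hr)

/-- **Uniform annihilation of `Tor_i(M, R/I^q)` for `i` above the number of generators.** -/
theorem exists_pow_smul_tor_eq_zero [IsNoetherianRing R] (I : Ideal R) (t : ℕ) (s : Finset R)
    (hs : I = Ideal.span (s : Set R)) (ht : s.card ≤ t) :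
    ∃ c : ℕ, ∀ (M : ModuleCat.{u} R) (i q : ℕ), t < i → ∀ a ∈ I ^ c,
      ∀ x : ((Tor (ModuleCat.{u} R) i).obj M).obj (ModuleCat.of R (R ⧸ I ^ q)), a • x = 0 := by
  obtain ⟨c, hc⟩ := exists_tor_map_eq_zero I t s hs ht
  refine ⟨c, fun M i q hi a ha x => ?_⟩
  have hlin := tor_map_smul_id M (ModuleCat.of R (R ⧸ I ^ q)) a i
  have hx : a • x = (((Tor (ModuleCat.{u} R) i).obj M).map
      (a • 𝟙 (ModuleCat.of R (R ⧸ I ^ q)))).hom x := by
    rw [hlin]
    rfl
  rw [hx]
  by_cases hq : c ≤ q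
  · obtain ⟨m, rfl⟩ : ∃ m, q = m + c := ⟨q - c, by omega⟩
    have hfac : (a • 𝟙 (ModuleCat.of R (R ⧸ I ^ (m + c))) : _ ⟶ _) =
        ModuleCat.ofHom (τI I (m + c) m (Nat.le_add_right m c)) ≫
          ModuleCat.ofHom (mulQ I m c a ha) := by
      apply ModuleCat.hom_ext
      apply LinearMap.ext
      intro y
      obtain ⟨r, rfl⟩ := Submodule.Quotient.mk_surjective _ y
      rfl
    rw [hfac, Functor.map_comp, hc M i hi (m + c) m (Nat.le_add_right m c) le_rfl, zero_comp]
    rfl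
  · have hz : (a • 𝟙 (ModuleCat.of R (R ⧸ I ^ q)) : _ ⟶ _) =
        (0 : R) • 𝟙 (ModuleCat.of R (R ⧸ I ^ q)) := by
      apply ModuleCat.hom_ext
      apply LinearMap.ext
      intro y
      obtain ⟨r, rfl⟩ := Submodule.Quotient.mk_surjective _ y
      show a • (Submodule.Quotient.mk r : R ⧸ I ^ q) = (0 : R) • Submodule.Quotient.mk r
      rw [zero_smul, ← Submodule.Quotient.mk_smul, Submodule.Quotient.mk_eq_zero]
      exact Ideal.mul_mem_right _ _ (Ideal.pow_le_pow_right (by omega) ha)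
    rw [hz, tor_map_smul_id, zero_smul]
    rfl

end Groth.Agent.Lib.Helper19TorPro
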