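import Mathlib
import Groth.Prelude.Def_BlowUp2
import Groth.Agent.Lib.Helper19TorProG

/-!
# The affine blow-up algebra as a filtered colimit of powers of the ideal (helper19)
-/

set_option autoImplicit false
universe u
open CategoryTheory CategoryTheory.Limits MonoidalCategory

namespace Groth.Agent.Lib.Helper19TorPro

variable {A : Type u} [CommRing A] (I : Ideal A) (a₀ : A)

/-- `1 / a₀^n` in the localization. -/
noncomputable def invPow (n : ℕ) : Localization.Away a₀ :=
  (IsLocalization.Away.invSelf a₀ : Localization.Away a₀) ^ n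

theorem algebraMap_mul_invPow (n : ℕ) :
    algebraMap A (Localization.Away a₀) (a₀ ^ n) * invPow a₀ n = 1 := by
  unfold invPow
  rw [map_pow, ← mul_pow, IsLocalization.Away.mul_invSelf, one_pow]

theorem smul_invPow_one_mem {x : A} (hx : x ∈ I) :
    x • invPow a₀ 1 ∈ BlowUp.affineAlgebra A I a₀ := by
  refine Algebra.subset_adjoin ⟨x, hx, ?_⟩
  unfold invPow IsLocalization.Away.invSelf
  rw [pow_one, Algebra.smul_def, ← IsLocalization.mk'_eq_mul_mk'_one]

theorem smul_invPow_mem : ∀ (n : ℕ) (x : A), x ∈ I ^ n →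
    x • invPow a₀ n ∈ BlowUp.affineAlgebra A I a₀
  | 0, x, _ => by
    unfold invPow
    rw [pow_zero, Algebra.smul_def, mul_one]
    exact Subalgebra.algebraMap_mem _ _
  | n + 1, x, hx => by
    rw [pow_succ'] at hx
    refine Submodule.mul_induction_on hx ?_ ?_
    · intro m hm y hy
      have : (m * y) • invPow a₀ (n + 1) = (m • invPow a₀ 1) * (y • invPow a₀ n) := by
        unfold invPow
        rw [pow_succ', Algebra.smul_def, Algebra.smul_def, Algebra.smul_def, map_mul, pow_one]
        ring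
      rw [this]
      exact Subalgebra.mul_mem _ (smul_invPow_one_mem I a₀ hm) (smul_invPow_mem n y hy)
    · intro x y hx hy
      rw [add_smul]
      exact Subalgebra.add_mem _ hx hy

/-- `φ_n : I^n → B`, `x ↦ x / a₀^n`. -/
noncomputable def phiB (n : ℕ) : ↥(I ^ n) →ₗ[A] ↥(BlowUp.affineAlgebra A I a₀) :=
  LinearMap.codRestrict (Subalgebra.toSubmodule (BlowUp.affineAlgebra A I a₀))
    ((LinearMap.toSpanSingleton A (Localization.Away a₀) (invPow a₀ n)).comp (I ^ n).subtype)
    (fun x => smul_invPow_mem I a₀ n x.1 x.2)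

theorem phiB_coe (n : ℕ) (x : ↥(I ^ n)) : ((phiB I a₀ n x : ↥(BlowUp.affineAlgebra A I a₀)) :
    Localization.Away a₀) = (x : A) • invPow a₀ n := rfl

/-- every element of `B` is of the form `x / a₀^n`. -/
theorem exists_phiB_eq (ha : a₀ ∈ I) (b : ↥(BlowUp.affineAlgebra A I a₀)) :
    ∃ (n : ℕ) (x : ↥(I ^ n)), phiB I a₀ n x = b := by
  obtain ⟨b, hb⟩ := b
  suffices h : ∃ (n : ℕ) (x : A), x ∈ I ^ n ∧ x • invPow a₀ n = b by
    obtain ⟨n, x, hx, hxb⟩ := h
    exact ⟨n, ⟨x, hx⟩, Subtype.ext hxb⟩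
  -- monotonicity: x/a₀^n = (a₀^k x)/a₀^(n+k)
  have mono : ∀ (n k : ℕ) (x : A), x ∈ I ^ n → ∃ y ∈ I ^ (n + k),
      y • invPow a₀ (n + k) = x • invPow a₀ n := by
    intro n k x hx
    refine ⟨a₀ ^ k * x, ?_, ?_⟩
    · rw [add_comm, pow_add]
      exact Ideal.mul_mem_mul (Ideal.pow_mem_pow ha k) hx
    · have h1 := algebraMap_mul_invPow a₀ k
      unfold invPow at h1 ⊢
      rw [pow_add, Algebra.smul_def, Algebra.smul_def, map_mul]
      calc algebraMap A (Localization.Away a₀) (a₀ ^ k) * algebraMap A _ x *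
            ((IsLocalization.Away.invSelf a₀ : Localization.Away a₀) ^ n *
              (IsLocalization.Away.invSelf a₀ : Localization.Away a₀) ^ k)
          = (algebraMap A (Localization.Away a₀) (a₀ ^ k) *
              (IsLocalization.Away.invSelf a₀ : Localization.Away a₀) ^ k) *
            (algebraMap A _ x * (IsLocalization.Away.invSelf a₀ : Localization.Away a₀) ^ n) := by
            ring
        _ = _ := by rw [h1, one_mul]
  unfold BlowUp.affineAlgebra at hb
  induction hb using Algebra.adjoin_induction with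
  | mem q hq =>
    obtain ⟨x, hx, rfl⟩ := hq
    refine ⟨1, x, by rwa [pow_one], ?_⟩
    unfold invPow IsLocalization.Away.invSelf
    rw [pow_one, Algebra.smul_def, ← IsLocalization.mk'_eq_mul_mk'_one]
  | algebraMap r =>
    refine ⟨0, r, by simp, ?_⟩
    unfold invPow
    rw [pow_zero, Algebra.smul_def, mul_one]
  | add p q _ _ hp hq =>
    obtain ⟨n, x, hx, rfl⟩ := hp
    obtain ⟨m, y, hy, rfl⟩ := hq
    obtain ⟨x', hx', hxe⟩ := mono n m x hx
    obtain ⟨y', hy', hye⟩ := mono m n y hy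
    refine ⟨n + m, x' + y', Ideal.add_mem _ hx' (by rwa [add_comm]), ?_⟩
    rw [add_smul, hxe, add_comm n m, hye]
  | mul p q _ _ hp hq =>
    obtain ⟨n, x, hx, rfl⟩ := hp
    obtain ⟨m, y, hy, rfl⟩ := hq
    refine ⟨n + m, x * y, by rw [pow_add]; exact Ideal.mul_mem_mul hx hy, ?_⟩
    unfold invPow
    rw [pow_add, Algebra.smul_def, Algebra.smul_def, Algebra.smul_def, map_mul]
    ring

theorem phiB_eq_iff (n : ℕ) (x y : ↥(I ^ n)) (h : phiB I a₀ n x = phiB I a₀ n y) :
    ∃ k : ℕ, a₀ ^ k * (x : A) = a₀ ^ k * (y : A) := by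
  have h1 : (x : A) • invPow a₀ n = (y : A) • invPow a₀ n := congrArg Subtype.val h
  have h2 : algebraMap A (Localization.Away a₀) (x : A) = algebraMap A (Localization.Away a₀) (y : A) := by
    have h3 := congrArg (fun z => algebraMap A (Localization.Away a₀) (a₀ ^ n) * z) h1
    simp only [Algebra.smul_def] at h3
    have e : ∀ w : A, algebraMap A (Localization.Away a₀) (a₀ ^ n) *
        (algebraMap A (Localization.Away a₀) w * invPow a₀ n) =
        algebraMap A (Localization.Away a₀) w := by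
      intro w
      calc _ = (algebraMap A (Localization.Away a₀) (a₀ ^ n) * invPow a₀ n) *
            algebraMap A (Localization.Away a₀) w := by ring
        _ = _ := by rw [algebraMap_mul_invPow, one_mul]
    rwa [e, e] at h3
  obtain ⟨⟨c, k, rfl⟩, hc⟩ := (IsLocalization.eq_iff_exists (Submonoid.powers a₀) _).1 h2
  exact ⟨k, hc⟩

/-- multiplication by `a₀^(m-n)` from `I^n` to `I^m`. -/
noncomputable def mulPow (ha : a₀ ∈ I) (n m : ℕ) (h : n ≤ m) : ↥(I ^ n) →ₗ[A] ↥(I ^ m) :=
  LinearMap.codRestrict (I ^ m) ((LinearMap.lsmul A A (a₀ ^ (m - n))).comp (I ^ n).subtype)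
    (fun x => by
      show a₀ ^ (m - n) * (x : A) ∈ I ^ m
      have : I ^ m = I ^ (m - n) * I ^ n := by rw [← pow_add, Nat.sub_add_cancel h]
      rw [this]
      exact Ideal.mul_mem_mul (Ideal.pow_mem_pow ha _) x.2)

theorem mulPow_coe (ha : a₀ ∈ I) (n m : ℕ) (h : n ≤ m) (x : ↥(I ^ n)) :
    ((mulPow I a₀ ha n m h x : ↥(I ^ m)) : A) = a₀ ^ (m - n) * (x : A) := rfl

theorem phiB_mulPow (ha : a₀ ∈ I) (n m : ℕ) (h : n ≤ m) (x : ↥(I ^ n)) :
    phiB I a₀ m (mulPow I a₀ ha n m h x) = phiB I a₀ n x := by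
  apply Subtype.ext
  rw [phiB_coe, phiB_coe, mulPow_coe]
  have h1 := algebraMap_mul_invPow a₀ (m - n)
  have h2 : invPow a₀ m = invPow a₀ (m - n) * invPow a₀ n := by
    unfold invPow
    rw [← pow_add, Nat.sub_add_cancel h]
  rw [h2, Algebra.smul_def, Algebra.smul_def, map_mul]
  calc _ = (algebraMap A (Localization.Away a₀) (a₀ ^ (m - n)) * invPow a₀ (m - n)) *
        (algebraMap A (Localization.Away a₀) (x : A) * invPow a₀ n) := by ring
    _ = _ := by rw [h1, one_mul]

theorem down_le_of_hom {i j : ULift.{u} ℕ} (f : i ⟶ j) : i.down ≤ j.down := by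
  have h : i ≤ j := leOfHom f
  exact h

/-- the sequence `I^n` with transition maps multiplication by `a₀`. -/
noncomputable def powFunctor (ha : a₀ ∈ I) : ULift.{u} ℕ ⥤ ModuleCat.{u} A where
  obj j := ModuleCat.of A ↥(I ^ j.down)
  map {i j} f := ModuleCat.ofHom (mulPow I a₀ ha i.down j.down (down_le_of_hom f))
  map_id j := by
    apply ModuleCat.hom_ext
    apply LinearMap.ext
    intro x
    apply Subtype.ext
    show a₀ ^ (j.down - j.down) * (x : A) = (x : A)
    rw [Nat.sub_self, pow_zero, one_mul]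
  map_comp {i j k} f g := by
    apply ModuleCat.hom_ext
    apply LinearMap.ext
    intro x
    apply Subtype.ext
    show a₀ ^ (k.down - i.down) * (x : A) = a₀ ^ (k.down - j.down) * (a₀ ^ (j.down - i.down) * (x : A))
    have h1 : i.down ≤ j.down := down_le_of_hom f
    have h2 : j.down ≤ k.down := down_le_of_hom g
    rw [← mul_assoc, ← pow_add]
    congr 2
    omega

/-- the cocone with vertex `B`. -/
noncomputable def powCocone (ha : a₀ ∈ I) : Cocone (powFunctor I a₀ ha) where
  pt := ModuleCat.of A ↥(BlowUp.affineAlgebra A I a₀)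
  ι :=
    { app := fun j => ModuleCat.ofHom (phiB I a₀ j.down)
      naturality := by
        intro i j f
        apply ModuleCat.hom_ext
        apply LinearMap.ext
        intro x
        exact phiB_mulPow I a₀ ha i.down j.down (down_le_of_hom f) x }

/-- `B` is the colimit of the `I^n`. -/
noncomputable def powCocone_isColimit (ha : a₀ ∈ I) : IsColimit (powCocone I a₀ ha) := by
  refine isColimitOfReflects (forget (ModuleCat.{u} A))
    (Types.FilteredColimit.isColimitOf' _ _ ?_ ?_)
  · intro b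
    obtain ⟨n, x, hx⟩ := exists_phiB_eq I a₀ ha b
    exact ⟨⟨n⟩, x, hx.symm⟩
  · intro i x y hxy
    have x' : ↥(I ^ i.down) := x
    obtain ⟨x', rfl⟩ : ∃ x' : ↥(I ^ i.down), x' = x := ⟨x, rfl⟩
    obtain ⟨y', rfl⟩ : ∃ y' : ↥(I ^ i.down), y' = y := ⟨y, rfl⟩
    obtain ⟨k, hk⟩ := phiB_eq_iff I a₀ i.down x' y' hxy
    refine ⟨⟨i.down + k⟩, homOfLE (by show i.down ≤ i.down + k; omega), ?_⟩
    apply Subtype.ext
    show a₀ ^ (i.down + k - i.down) * (x' : A) = a₀ ^ (i.down + k - i.down) * (y' : A)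
    rw [Nat.add_sub_cancel_left]
    exact hk

end Groth.Agent.Lib.Helper19TorPro
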