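import Mathlib
import Groth.Agent.Lib.Helper19TorProH
import Groth.Agent.Lib.Helper13TorColim
import Groth.Agent.Lib.Helper8TorFlip

/-!
# `I^c` annihilates `Tor_i(A[I/a₀], M)` for `i` at least the number of generators (helper19)
-/

set_option autoImplicit false
universe u
open CategoryTheory CategoryTheory.Limits MonoidalCategory

namespace Groth.Agent.Lib.Helper19TorPro

open Groth.Agent.Helper13Tor Groth.Agent.Helper13Ses

variable {A : Type u} [CommRing A]

/-- flipped form of the uniform annihilation. -/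
theorem exists_pow_smul_tor_flip_eq_zero [IsNoetherianRing A] (I : Ideal A) (t : ℕ) (s : Finset A)
    (hs : I = Ideal.span (s : Set A)) (ht : s.card ≤ t) :
    ∃ c : ℕ, ∀ (M : ModuleCat.{u} A) (i q : ℕ), t < i → ∀ a ∈ I ^ c,
      ∀ x : ((Tor (ModuleCat.{u} A) i).obj (ModuleCat.of A (A ⧸ I ^ q))).obj M, a • x = 0 := by
  obtain ⟨c, hc⟩ := exists_pow_smul_tor_eq_zero I t s hs ht
  refine ⟨c, fun M i q hi a ha x => ?_⟩
  let e : ((Tor (ModuleCat.{u} A) i).obj (ModuleCat.of A (A ⧸ I ^ q))).obj M ≅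
      ((Tor (ModuleCat.{u} A) i).obj M).obj (ModuleCat.of A (A ⧸ I ^ q)) :=
    ((Groth.Agent.Lib.Helper8.TorFlip.torFlipIso i).app (ModuleCat.of A (A ⧸ I ^ q))).app M
  have h1 : e.hom.hom (a • x) = 0 := by
    rw [map_smul]
    exact hc M i q hi a ha _
  have hinj : Function.Injective e.hom.hom := by
    intro y y' hyy
    have := congrArg e.inv.hom hyy
    simpa using this
  apply hinj
  rw [h1, map_zero]

/-- `I^c` annihilates `Tor_i(I^n, M)` for `i ≥ 1`, `i + 1 > t`. -/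
theorem exists_pow_smul_tor_pow_eq_zero [IsNoetherianRing A] (I : Ideal A) (t : ℕ) (s : Finset A)
    (hs : I = Ideal.span (s : Set A)) (ht : s.card ≤ t) :
    ∃ c : ℕ, ∀ (M : ModuleCat.{u} A) (i n : ℕ), 0 < i → t ≤ i → ∀ a ∈ I ^ c,
      ∀ x : ((Tor (ModuleCat.{u} A) i).obj (ModuleCat.of A ↥(I ^ n))).obj M, a • x = 0 := by
  obtain ⟨c, hc⟩ := exists_pow_smul_tor_flip_eq_zero I t s hs ht
  refine ⟨c, fun M i n hi hti a ha x => ?_⟩
  obtain ⟨δ, w₁, w₂, h₁, h₂⟩ := exists_δ (sesSub (I ^ n : Submodule A A)) (sesSub_shortExact _) M i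
  have hflat : Module.Flat A (sesSub (I ^ n : Submodule A A)).X₂ :=
    (inferInstance : Module.Flat A A)
  have hz : ((Tor (ModuleCat.{u} A) i).map (sesSub (I ^ n : Submodule A A)).f).app M = 0 :=
    (isZero_tor_of_flat M (sesSub (I ^ n : Submodule A A)).X₂ i hi).eq_of_tgt _ _
  have hepi : Epi δ := h₂.epi_f hz
  obtain ⟨w, rfl⟩ := (ModuleCat.epi_iff_surjective δ).1 hepi x
  show a • δ.hom w = 0
  have hw : a • w = 0 := hc M (i + 1) n (by omega) a ha w
  rw [← LinearMap.map_smul, hw, map_zero]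

/-- **`I^c` annihilates `Tor_i(A[I/a₀], M)`.** -/
theorem exists_pow_smul_tor_blowup_eq_zero [IsNoetherianRing A] (I : Ideal A) (a₀ : A) (ha₀ : a₀ ∈ I)
    (t : ℕ) (s : Finset A) (hs : I = Ideal.span (s : Set A)) (ht : s.card ≤ t) :
    ∃ c : ℕ, ∀ (M : ModuleCat.{u} A) (i : ℕ), 0 < i → t ≤ i → ∀ a ∈ I ^ c,
      ∀ y : ((Tor (ModuleCat.{u} A) i).obj
        (ModuleCat.of A ↥(BlowUp.affineAlgebra A I a₀))).obj M, a • y = 0 := by
  obtain ⟨c, hc⟩ := exists_pow_smul_tor_pow_eq_zero I t s hs ht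
  refine ⟨c, fun M i hi hti a ha y => ?_⟩
  have hpres := preservesColimitsOfShape_tor_flip M i (ULift.{u} ℕ)
  have hcol := isColimitOfPreserves ((Tor (ModuleCat.{u} A) i).flip.obj M)
    (powCocone_isColimit I a₀ ha₀)
  obtain ⟨j, z, hz⟩ := Concrete.isColimit_exists_rep _ hcol y
  obtain ⟨z', rfl⟩ : ∃ z' : ((Tor (ModuleCat.{u} A) i).obj (ModuleCat.of A ↥(I ^ j.down))).obj M,
      z' = z := ⟨z, rfl⟩
  have hz' : (((Tor (ModuleCat.{u} A) i).map (ModuleCat.ofHom (phiB I a₀ j.down))).app M).hom z' = y :=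
    hz
  have hz0 : a • z' = 0 := hc M i j.down hi hti a ha z'
  rw [← hz', ← LinearMap.map_smul, hz0, map_zero]

end Groth.Agent.Lib.Helper19TorPro
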