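import Mathlib

/-!
# Retractions up to a power of an element

For `d : N → W`, `p : W → Ω` an exact sequence of modules with `p` surjective and `W`
projective: `d` has a retraction up to a power of `τ` iff `ker d` is killed by a power of `τ`
and `p` has a section up to a power of `τ`.
-/

set_option autoImplicit false
set_option linter.unusedSectionVars false
universe u v

namespace Groth.Agent.Lib.Helper19.TorsRetr

variable {B : Type u} [CommRing B] (τ : B) {N W Ω : Type v} [AddCommGroup N] [Module B N]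
  [AddCommGroup W] [Module B W] [AddCommGroup Ω] [Module B Ω]
  (d : N →ₗ[B] W) (p : W →ₗ[B] Ω)

/-- a retraction of `d` up to a power of `τ` -/
def HasRetr : Prop := ∃ (n : ℕ) (l : W →ₗ[B] N), l ∘ₗ d = τ ^ n • LinearMap.id

/-- a section of `p` up to a power of `τ` -/
def HasSec : Prop := ∃ (n : ℕ) (s : Ω →ₗ[B] W), p ∘ₗ s = τ ^ n • LinearMap.id

/-- the kernel of `d` is killed by a power of `τ` -/
def KerTors : Prop := ∃ n : ℕ, ∀ x, d x = 0 → τ ^ n • x = 0

variable {τ d p}

lemma kerTors_of_hasRetr (h : HasRetr τ d) : KerTors τ d := by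
  obtain ⟨n, l, hl⟩ := h
  refine ⟨n, fun x hx => ?_⟩
  have := LinearMap.congr_fun hl x
  rw [LinearMap.comp_apply, hx, map_zero, LinearMap.smul_apply, LinearMap.id_apply] at this
  exact this.symm

lemma hasSec_of_hasRetr (h : HasRetr τ d) (hex : Function.Exact d p)
    (hp : Function.Surjective p) : HasSec τ p := by
  obtain ⟨n, l, hl⟩ := h
  let s₀ : W →ₗ[B] W := τ ^ n • LinearMap.id - d ∘ₗ l
  have hs₀ : ∀ w, s₀ w = τ ^ n • w - d (l w) := fun w => rfl
  have hle : LinearMap.ker p ≤ LinearMap.ker s₀ := by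
    intro w hw
    obtain ⟨x, rfl⟩ := (hex w).mp hw
    rw [LinearMap.mem_ker]
    have h1 := LinearMap.congr_fun hl x
    rw [LinearMap.comp_apply, LinearMap.smul_apply, LinearMap.id_apply] at h1
    rw [hs₀, h1, map_smul, sub_self]
  let e := p.quotKerEquivOfSurjective hp
  refine ⟨n, (Submodule.liftQ _ s₀ hle) ∘ₗ e.symm.toLinearMap, ?_⟩
  refine LinearMap.ext fun ω => ?_
  obtain ⟨w, rfl⟩ := hp ω
  have h2 : e.symm (p w) = Submodule.Quotient.mk w := by
    rw [LinearEquiv.symm_apply_eq]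
    rfl
  show p (Submodule.liftQ _ s₀ hle (e.symm (p w))) = (τ ^ n • LinearMap.id) (p w)
  rw [h2, Submodule.liftQ_apply, hs₀, map_sub, map_smul, hex.apply_apply_eq_zero, sub_zero,
    LinearMap.smul_apply, LinearMap.id_apply]

lemma hasRetr_of_kerTors_of_hasSec [Module.Projective B W] (h1 : KerTors τ d)
    (h2 : HasSec τ p) (hex : Function.Exact d p) : HasRetr τ d := by
  obtain ⟨n₁, hn₁⟩ := h1
  obtain ⟨n₂, s, hs⟩ := h2
  let e : W →ₗ[B] W := τ ^ n₂ • LinearMap.id - s ∘ₗ p
  have he0 : ∀ w, e w = τ ^ n₂ • w - s (p w) := fun w => rfl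
  have he : ∀ w, e w ∈ LinearMap.range d := by
    intro w
    rw [← hex.linearMap_ker_eq, LinearMap.mem_ker]
    have h3 := LinearMap.congr_fun hs (p w)
    rw [LinearMap.comp_apply, LinearMap.smul_apply, LinearMap.id_apply] at h3
    rw [he0, map_sub, map_smul, h3, sub_self]
  obtain ⟨l₀, hl₀⟩ := Module.projective_lifting_property d.rangeRestrict
    (e.codRestrict (LinearMap.range d) he) (LinearMap.surjective_rangeRestrict d)
  have hl₀' : ∀ w, d (l₀ w) = e w := fun w => by
    have := congrArg Subtype.val (LinearMap.congr_fun hl₀ w)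
    exact this
  refine ⟨n₁ + n₂, τ ^ n₁ • l₀, ?_⟩
  refine LinearMap.ext fun x => ?_
  have h4 : d (l₀ (d x) - τ ^ n₂ • x) = 0 := by
    rw [map_sub, hl₀', map_smul, he0, hex.apply_apply_eq_zero, map_zero, sub_zero, sub_self]
  have h5 := hn₁ _ h4
  rw [smul_sub, sub_eq_zero] at h5
  rw [LinearMap.comp_apply, LinearMap.smul_apply, h5, LinearMap.smul_apply, LinearMap.id_apply,
    smul_smul, pow_add]

/-- `d` has a retraction up to a power of `τ` iff that power kills `coker (Hom(d, M))`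
uniformly for finite modules -/
lemma hasRetr_iff_forall_smul_eq_zero [Module.Finite B N] :
    HasRetr τ d ↔ ∃ n₀ : ℕ, ∀ (M : Type v) [AddCommGroup M] [Module B M] [Module.Finite B M],
      ∀ x : (N →ₗ[B] M) ⧸ LinearMap.range (LinearMap.lcomp B M d), τ ^ n₀ • x = 0 := by
  constructor
  · rintro ⟨n, l, hl⟩
    refine ⟨n, fun M _ _ _ x => ?_⟩
    obtain ⟨φ, rfl⟩ := Submodule.Quotient.mk_surjective _ x
    rw [← Submodule.Quotient.mk_smul, Submodule.Quotient.mk_eq_zero]
    refine ⟨φ ∘ₗ l, ?_⟩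
    rw [LinearMap.lcomp_apply', LinearMap.comp_assoc, hl, LinearMap.comp_smul, LinearMap.comp_id]
  · rintro ⟨n₀, h⟩
    have h1 := h N (Submodule.Quotient.mk LinearMap.id)
    rw [← Submodule.Quotient.mk_smul, Submodule.Quotient.mk_eq_zero] at h1
    obtain ⟨l, hl⟩ := h1
    exact ⟨n₀, l, hl⟩

end Groth.Agent.Lib.Helper19.TorsRetr
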