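import Groth.Agent.Lib.Helper19TorsRetrA

/-!
# Sections up to a power of `τ` and projectivity of the localization away from `τ`
-/

set_option autoImplicit false
set_option linter.unusedSectionVars false
universe u v

namespace Groth.Agent.Lib.Helper19.TorsRetr

variable {B : Type u} [CommRing B] (τ : B) {N W Ω : Type v} [AddCommGroup N] [Module B N]
  [AddCommGroup W] [Module B W] [AddCommGroup Ω] [Module B Ω]
  (d : N →ₗ[B] W) (p : W →ₗ[B] Ω)

variable {τ p} in
theorem projective_of_hasSec [Module.Projective B W] (h : HasSec τ p) :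
    Module.Projective (Localization.Away τ) (LocalizedModule.Away τ Ω) := by
  obtain ⟨n, s, hs⟩ := h
  let S := Submonoid.powers τ
  let p' := LocalizedModule.map S p
  let s' := LocalizedModule.map S s
  have hu : IsUnit (algebraMap B (Localization S) (τ ^ n)) :=
    IsLocalization.map_units (Localization S) (⟨τ ^ n, n, rfl⟩ : S)
  have hcomp : ∀ x, p' (s' x) = algebraMap B (Localization S) (τ ^ n) • x := by
    intro x
    induction x using LocalizedModule.induction_on with
    | h m t =>
      have h1 := LinearMap.congr_fun hs m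
      rw [LinearMap.comp_apply, LinearMap.smul_apply, LinearMap.id_apply] at h1
      rw [LocalizedModule.map_mk, LocalizedModule.map_mk, h1, algebraMap_smul,
        LocalizedModule.smul'_mk]
  refine Module.Projective.of_split (((hu.unit⁻¹ : (Localization S)ˣ) : Localization S) • s') p' ?_
  refine LinearMap.ext fun x => ?_
  rw [LinearMap.comp_apply, LinearMap.smul_apply, map_smul, hcomp, LinearMap.id_apply,
    smul_smul, hu.val_inv_mul, one_smul]

variable {p} in
theorem hasSec_of_projective [Module.FinitePresentation B Ω] (hp : Function.Surjective p)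
    (h : Module.Projective (Localization.Away τ) (LocalizedModule.Away τ Ω)) :
    HasSec τ p := by
  let S := Submonoid.powers τ
  let p' := LocalizedModule.map S p
  obtain ⟨s', hs'⟩ := Module.projective_lifting_property p'
    (LinearMap.id : LocalizedModule S Ω →ₗ[Localization S] LocalizedModule S Ω)
    (LocalizedModule.map_surjective S p hp)
  let g : Ω →ₗ[B] LocalizedModule S W :=
    (s'.restrictScalars B) ∘ₗ LocalizedModule.mkLinearMap S Ω
  obtain ⟨h0, c, hc⟩ := Module.FinitePresentation.exists_lift_of_isLocalizedModule S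
    (LocalizedModule.mkLinearMap S W) g
  have heq : (LocalizedModule.mkLinearMap S Ω) ∘ₗ (p ∘ₗ h0) =
      (LocalizedModule.mkLinearMap S Ω) ∘ₗ ((c : B) • LinearMap.id) := by
    refine LinearMap.ext fun ω => ?_
    have h1 := LinearMap.congr_fun hc ω
    rw [LinearMap.comp_apply, LinearMap.smul_apply] at h1
    have h2 : LocalizedModule.mkLinearMap S Ω (p (h0 ω)) =
        p' (LocalizedModule.mkLinearMap S W (h0 ω)) := by
      rw [LocalizedModule.mkLinearMap_apply, LocalizedModule.mkLinearMap_apply,
        LocalizedModule.map_mk]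
    have h3 : p' (s' (LocalizedModule.mkLinearMap S Ω ω)) = LocalizedModule.mkLinearMap S Ω ω :=
      LinearMap.congr_fun hs' _
    rw [LinearMap.comp_apply, LinearMap.comp_apply, LinearMap.comp_apply, h2, h1,
      Submonoid.smul_def, ← algebraMap_smul (Localization S) (c : B), map_smul]
    show algebraMap B (Localization S) c • p' (s' (LocalizedModule.mkLinearMap S Ω ω)) = _
    rw [h3, algebraMap_smul, LinearMap.smul_apply, LinearMap.id_apply, map_smul]
  obtain ⟨c', hc'⟩ := Module.Finite.exists_smul_of_comp_eq_of_isLocalizedModule S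
    (LocalizedModule.mkLinearMap S Ω) _ _ heq
  obtain ⟨n, hn⟩ := (c' * c).2
  have hn' : τ ^ n = (c' : B) * (c : B) := hn
  refine ⟨n, (c' : B) • h0, ?_⟩
  rw [LinearMap.comp_smul, hn']
  have h4 : (c' : B) • (p ∘ₗ h0) = (c' : B) • ((c : B) • LinearMap.id) := hc'
  rw [h4, smul_smul]

variable {d} in
theorem kerTors_of_subsingleton [Module.Finite B (LinearMap.ker d)]
    (h : Subsingleton (LocalizedModule (Submonoid.powers τ) (LinearMap.ker d))) :
    KerTors τ d := by
  let S := Submonoid.powers τ
  have heq : (LocalizedModule.mkLinearMap S (LinearMap.ker d)) ∘ₗ LinearMap.id =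
      (LocalizedModule.mkLinearMap S (LinearMap.ker d)) ∘ₗ 0 :=
    LinearMap.ext fun x => Subsingleton.elim _ _
  obtain ⟨c, hc⟩ := Module.Finite.exists_smul_of_comp_eq_of_isLocalizedModule S
    (LocalizedModule.mkLinearMap S (LinearMap.ker d)) _ _ heq
  obtain ⟨n, hn⟩ := c.2
  refine ⟨n, fun x hx => ?_⟩
  have h1 := LinearMap.congr_fun hc ⟨x, hx⟩
  rw [smul_zero, LinearMap.zero_apply, LinearMap.smul_apply, LinearMap.id_apply] at h1
  have h2 := congrArg Subtype.val h1
  have hn' : τ ^ n = (c : B) := hn
  rw [hn']
  exact h2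

variable {d} in
theorem subsingleton_of_kerTors (h : KerTors τ d) :
    Subsingleton (LocalizedModule (Submonoid.powers τ) (LinearMap.ker d)) := by
  obtain ⟨n, hn⟩ := h
  rw [LocalizedModule.subsingleton_iff]
  intro x
  refine ⟨τ ^ n, ⟨n, rfl⟩, ?_⟩
  apply Subtype.ext
  exact hn x x.2

end Groth.Agent.Lib.Helper19.TorsRetr
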