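import Groth.Agent.Lib.Helper19BaseChange
import Groth.Agent.Lib.Helper19Hull

set_option autoImplicit false
universe u v w

open CategoryTheory ArtFun ArtFun.Art

namespace Groth.Agent.Lib.Helper19

section Transport

variable {Λ Λ' k : Type u} [CommRing Λ] [CommRing Λ'] [Field k] [Algebra Λ Λ'] [Algebra Λ' k] [Algebra Λ k]
  [IsScalarTower Λ Λ' k]

variable (Λ) in
/-- Restriction of scalars as a functor. -/
noncomputable def restrictFunctor : Art Λ' k ⥤ Art Λ k where
  obj B := restrictArt B
  map μ := restrictHom μ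
  map_id B := by apply Art.hom_ext; apply AlgHom.ext; intro b; rfl
  map_comp f g := by apply Art.hom_ext; apply AlgHom.ext; intro b; rfl

lemma restrictFunctor_map_apply {B A : Art Λ' k} (μ : B ⟶ A) (b : B.carrier) :
    ((restrictFunctor Λ).map μ) b = μ b := rfl

/-- `Φ(k) → k`. -/
noncomputable def resBase : (restrictFunctor Λ).obj (base Λ' k) ⟶ base Λ k := toBase _

/-- `k → Φ(k)`. -/
noncomputable def resBaseInv : base Λ k ⟶ (restrictFunctor Λ).obj (base Λ' k) :=
  ⟨{ RingHom.id k with
      commutes' := fun l => by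
        change algebraMap Λ k l = algebraMap Λ' k (algebraMap Λ Λ' l)
        rw [← IsScalarTower.algebraMap_apply] }, by
    apply AlgHom.ext; intro c; rfl⟩

/-- `Φ(k[ε]) → k[ε]`. -/
noncomputable def resDual : (restrictFunctor Λ).obj (dual Λ' k) ⟶ dual Λ k :=
  ⟨{ RingHom.id (DualNumber k) with
      commutes' := fun l => by
        change algebraMap Λ' (DualNumber k) (algebraMap Λ Λ' l) = algebraMap Λ (DualNumber k) l
        rw [TrivSqZeroExt.algebraMap_eq_inl', TrivSqZeroExt.algebraMap_eq_inl',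
          ← IsScalarTower.algebraMap_apply] }, by
    apply AlgHom.ext; intro c; rfl⟩

/-- `k[ε] → Φ(k[ε])`. -/
noncomputable def resDualInv : dual Λ k ⟶ (restrictFunctor Λ).obj (dual Λ' k) :=
  ⟨{ RingHom.id (DualNumber k) with
      commutes' := fun l => by
        change algebraMap Λ (DualNumber k) l = algebraMap Λ' (DualNumber k) (algebraMap Λ Λ' l)
        rw [TrivSqZeroExt.algebraMap_eq_inl', TrivSqZeroExt.algebraMap_eq_inl',
          ← IsScalarTower.algebraMap_apply] }, by
    apply AlgHom.ext; intro c; rfl⟩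

lemma resDual_inv : resDual (Λ := Λ) (Λ' := Λ') (k := k) ≫ resDualInv = 𝟙 _ := by
  apply Art.hom_ext; apply AlgHom.ext; intro c; rfl

lemma resDualInv_resDual : resDualInv (Λ := Λ) (Λ' := Λ') (k := k) ≫ resDual = 𝟙 _ := by
  apply Art.hom_ext; apply AlgHom.ext; intro c; rfl

/-- `Φ(k[ε₁, ε₂]) → k[ε₁, ε₂]`. -/
noncomputable def resDual2 : (restrictFunctor Λ).obj (dual2 Λ' k) ⟶ dual2 Λ k :=
  ⟨{ RingHom.id (TrivSqZeroExt k (k × k)) with
      commutes' := fun l => by
        change algebraMap Λ' (TrivSqZeroExt k (k × k)) (algebraMap Λ Λ' l) =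
          algebraMap Λ (TrivSqZeroExt k (k × k)) l
        rw [TrivSqZeroExt.algebraMap_eq_inl', TrivSqZeroExt.algebraMap_eq_inl',
          ← IsScalarTower.algebraMap_apply] }, by
    apply AlgHom.ext; intro c; rfl⟩

lemma resDual_scale (c : k) :
    (restrictFunctor Λ).map (scale (Λ := Λ') c) ≫ resDual = resDual ≫ scale (Λ := Λ) c := by
  apply Art.hom_ext; apply AlgHom.ext; intro x; rfl

lemma resDual2_pr₁ :
    (restrictFunctor Λ).map (pr₁ (Λ := Λ') (k := k)) ≫ resDual = resDual2 ≫ pr₁ (Λ := Λ) := by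
  apply Art.hom_ext; apply AlgHom.ext; intro x; rfl

lemma resDual2_pr₂ :
    (restrictFunctor Λ).map (pr₂ (Λ := Λ') (k := k)) ≫ resDual = resDual2 ≫ pr₂ (Λ := Λ) := by
  apply Art.hom_ext; apply AlgHom.ext; intro x; rfl

lemma resDual2_plus :
    (restrictFunctor Λ).map (plus (Λ := Λ') (k := k)) ≫ resDual = resDual2 ≫ plus (Λ := Λ) := by
  apply Art.hom_ext; apply AlgHom.ext; intro x; rfl

lemma isFibreProd_restrict {B A A' A'' : Art Λ' k} {p' : B ⟶ A'} {p'' : B ⟶ A''} {f' : A' ⟶ A}
    {f'' : A'' ⟶ A} (h : IsFibreProd p' p'' f' f'') :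
    IsFibreProd ((restrictFunctor Λ).map p') ((restrictFunctor Λ).map p'')
      ((restrictFunctor Λ).map f') ((restrictFunctor Λ).map f'') where
  w := by rw [← Functor.map_comp, ← Functor.map_comp, h.w]
  inj := h.inj
  surj := h.surj

section Conditions

variable (F : Art Λ k ⥤ Type v)

theorem h0_restrict (h0 : H0 F) : H0 (restrictFunctor (Λ' := Λ') Λ ⋙ F) := by
  have e1 : resBase (Λ := Λ) (Λ' := Λ') (k := k) ≫ resBaseInv = 𝟙 _ := by
    apply Art.hom_ext; apply AlgHom.ext; intro c; rfl
  obtain ⟨⟨x0⟩, hs⟩ := h0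
  refine ⟨⟨F.map resBaseInv x0⟩, ⟨fun x y => ?_⟩⟩
  have hx : F.map resBaseInv (F.map resBase x) = x := by
    rw [← map_comp_apply', e1, map_id_apply']
  have hy : F.map resBaseInv (F.map resBase y) = y := by
    rw [← map_comp_apply', e1, map_id_apply']
  change F.obj _ at x y
  rw [← hx, ← hy, Subsingleton.elim (F.map resBase x) (F.map resBase y)]

theorem s1_restrict (h1 : S1 F) : S1 (restrictFunctor (Λ' := Λ') Λ ⋙ F) := by
  intro B A A' A'' p' p'' f' f'' h hs
  rw [cmp_surjective_iff]
  intro x' x'' e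
  exact (cmp_surjective_iff F (isFibreProd_restrict h)).1
    (h1 _ _ _ _ (isFibreProd_restrict h) hs) x' x'' e

theorem heps_restrict (h0 : H0 F) (h2 : Heps F) : Heps (restrictFunctor (Λ' := Λ') Λ ⋙ F) := by
  intro B A' p' p'' h
  have h₀ : IsFibreProd ((restrictFunctor Λ).map p') ((restrictFunctor Λ).map p'' ≫ resDual)
      (toBase _) (toBase (dual Λ k)) :=
    { w := (eq_toBase _).trans (eq_toBase _).symm
      inj := h.inj
      surj := fun a' a'' e => h.surj a' a'' e }
  have hb := h2 _ _ h₀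
  have hδ : ∀ x y : F.obj ((restrictFunctor Λ).obj (dual Λ' k)),
      F.map resDual x = F.map resDual y → x = y := by
    intro x y hxy
    have := congrArg (F.map (resDualInv (Λ := Λ) (Λ' := Λ') (k := k))) hxy
    rwa [← map_comp_apply', ← map_comp_apply', resDual_inv, map_id_apply', map_id_apply'] at this
  constructor
  · rw [cmp_injective_iff]
    intro z z' e1 e2
    apply (cmp_injective_iff F h₀).1 hb.1 z z' e1
    rw [map_comp_apply', map_comp_apply']
    exact congrArg (F.map resDual) e2
  · rw [cmp_surjective_iff]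
    intro x' x'' _
    obtain ⟨z, hz1, hz2⟩ := (cmp_surjective_iff F h₀).1 hb.2 x' (F.map resDual x'')
      (h0_elim h0 _ _)
    refine ⟨z, hz1, ?_⟩
    apply hδ
    rw [← hz2, map_comp_apply']
    rfl

/-- The identification of tangent spaces. -/
noncomputable def resDualEquiv : F.obj ((restrictFunctor (Λ' := Λ') Λ).obj (dual Λ' k)) ≃ F.obj (dual Λ k) where
  toFun := F.map resDual
  invFun := F.map resDualInv
  left_inv x := by rw [← map_comp_apply', resDual_inv, map_id_apply']
  right_inv x := by rw [← map_comp_apply', resDualInv_resDual, map_id_apply']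

/-- The tangent structure of the restricted functor. -/
noncomputable def tangentStrRestrict [T : TangentStr F] :
    TangentStr (restrictFunctor (Λ' := Λ') Λ ⋙ F) :=
  letI : AddCommGroup (F.obj (dual Λ k)) := T.addCommGroup
  letI : Module k (F.obj (dual Λ k)) := T.module
  letI ag : AddCommGroup (F.obj ((restrictFunctor (Λ' := Λ') Λ).obj (dual Λ' k))) :=
    (resDualEquiv (Λ' := Λ') F).addCommGroup
  letI md : Module k (F.obj ((restrictFunctor (Λ' := Λ') Λ).obj (dual Λ' k))) :=
    (resDualEquiv (Λ' := Λ') F).module k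
  { addCommGroup := ag
    module := md
    smul_eq := fun c x => by
      apply (resDualEquiv (Λ' := Λ') F).injective
      change (resDualEquiv (Λ' := Λ') F) ((resDualEquiv (Λ' := Λ') F).symm
        (c • (resDualEquiv (Λ' := Λ') F) x)) = F.map resDual (F.map ((restrictFunctor Λ).map (scale c)) x)
      rw [Equiv.apply_symm_apply, T.smul_eq, ← map_comp_apply', resDual_scale, map_comp_apply']
      rfl
    add_eq := fun z => by
      apply (resDualEquiv (Λ' := Λ') F).injective
      change (resDualEquiv (Λ' := Λ') F) ((resDualEquiv (Λ' := Λ') F).symm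
        ((resDualEquiv (Λ' := Λ') F) (F.map ((restrictFunctor Λ).map pr₁) z) +
          (resDualEquiv (Λ' := Λ') F) (F.map ((restrictFunctor Λ).map pr₂) z))) =
        F.map resDual (F.map ((restrictFunctor Λ).map plus) z)
      rw [Equiv.apply_symm_apply]
      change F.map resDual (F.map ((restrictFunctor Λ).map pr₁) z) +
        F.map resDual (F.map ((restrictFunctor Λ).map pr₂) z) = _
      rw [← map_comp_apply', ← map_comp_apply', ← map_comp_apply', resDual2_pr₁, resDual2_pr₂,
        resDual2_plus, map_comp_apply', map_comp_apply', map_comp_apply', T.add_eq] }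

theorem hfin_restrict [T : TangentStr F] (h3 : Hfin F) :
    @Hfin _ _ _ _ _ (restrictFunctor (Λ' := Λ') Λ ⋙ F) (tangentStrRestrict F) := by
  letI : TangentStr (restrictFunctor (Λ' := Λ') Λ ⋙ F) := tangentStrRestrict F
  haveI : Module.Finite k (TangentSpace F) := h3
  let e : TangentSpace (restrictFunctor (Λ' := Λ') Λ ⋙ F) ≃ₗ[k] TangentSpace F :=
    { (resDualEquiv (Λ' := Λ') F) with
      map_add' := fun x y => (resDualEquiv (Λ' := Λ') F).apply_symm_apply _
      map_smul' := fun c x => (resDualEquiv (Λ' := Λ') F).apply_symm_apply _ }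
  exact Module.Finite.equiv e.symm

end Conditions

section Versal

/-- Restriction of scalars of a coefficient ring. -/
noncomputable def restrictCRing (S' : CRing Λ' k) : CRing Λ k :=
  letI : Algebra Λ S'.carrier := ((algebraMap Λ' S'.carrier).comp (algebraMap Λ Λ')).toAlgebra
  { carrier := S'.carrier
    isLocalRing := S'.isLocalRing
    isNoetherianRing := S'.isNoetherianRing
    res :=
      { S'.res.toRingHom with
        commutes' := fun l => by
          change S'.res (algebraMap Λ' S'.carrier (algebraMap Λ Λ' l)) = algebraMap Λ k l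
          rw [S'.res.commutes, ← IsScalarTower.algebraMap_apply] }
    res_surjective := S'.res_surjective
    isAdicComplete := S'.isAdicComplete }

/-- The comparison `Φ(A_y) → A`. -/
noncomputable def overIso (A : Art Λ k) (y : Λ' →ₐ[Λ] A.carrier)
    (hy : ∀ r, A.res (y r) = algebraMap Λ' k r) :
    (restrictFunctor Λ).obj (overArt A y hy) ⟶ A :=
  ⟨{ RingHom.id A.carrier with commutes' := fun l => y.commutes l }, by
    apply AlgHom.ext; intro a; rfl⟩

/-- The comparison `A → Φ(A_y)`. -/
noncomputable def overIsoInv (A : Art Λ k) (y : Λ' →ₐ[Λ] A.carrier)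
    (hy : ∀ r, A.res (y r) = algebraMap Λ' k r) :
    A ⟶ (restrictFunctor Λ).obj (overArt A y hy) :=
  ⟨{ RingHom.id A.carrier with commutes' := fun l => (y.commutes l).symm }, by
    apply AlgHom.ext; intro a; rfl⟩

lemma overIso_inv (A : Art Λ k) (y : Λ' →ₐ[Λ] A.carrier) (hy : ∀ r, A.res (y r) = algebraMap Λ' k r) :
    overIso A y hy ≫ overIsoInv A y hy = 𝟙 _ := by
  apply Art.hom_ext; apply AlgHom.ext; intro a; rfl

lemma overIsoInv_overIso (A : Art Λ k) (y : Λ' →ₐ[Λ] A.carrier)
    (hy : ∀ r, A.res (y r) = algebraMap Λ' k r) :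
    overIsoInv A y hy ≫ overIso A y hy = 𝟙 _ := by
  apply Art.hom_ext; apply AlgHom.ext; intro a; rfl

variable {F : Art Λ k ⥤ Type v} {S' : CRing Λ' k}
  (ξ' : Family S'.carrier S'.res (restrictFunctor (Λ' := Λ') Λ ⋙ F))

/-- The value of the transported family. -/
noncomputable def famAt (A : Art Λ k) (y : Λ' →ₐ[Λ] A.carrier)
    (hy : ∀ r, A.res (y r) = algebraMap Λ' k r)
    (ψ : HomSet S'.carrier S'.res (overArt A y hy)) : F.obj A :=
  F.map (overIso A y hy) (ξ'.app _ ψ)

lemma famAt_congr (A : Art Λ k) (y₁ y₂ : Λ' →ₐ[Λ] A.carrier) (h : y₁ = y₂)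
    (hy₁ : ∀ r, A.res (y₁ r) = algebraMap Λ' k r) (hy₂ : ∀ r, A.res (y₂ r) = algebraMap Λ' k r)
    (ψ₁ : HomSet S'.carrier S'.res (overArt A y₁ hy₁)) (ψ₂ : HomSet S'.carrier S'.res (overArt A y₂ hy₂))
    (hψ : ∀ s, ψ₁.1 s = ψ₂.1 s) : famAt ξ' A y₁ hy₁ ψ₁ = famAt ξ' A y₂ hy₂ ψ₂ := by
  subst h
  have : ψ₁ = ψ₂ := Subtype.ext (AlgHom.ext hψ)
  rw [this]

/-- Push a `Λ'`-map forward along a `Λ`-morphism. -/
noncomputable def pushOver {A B : Art Λ k} (g : A ⟶ B) (y : Λ' →ₐ[Λ] A.carrier)
    (hy : ∀ r, A.res (y r) = algebraMap Λ' k r)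
    (hgy : ∀ r, B.res ((g.toAlgHom.comp y) r) = algebraMap Λ' k r)
    (ψ : HomSet S'.carrier S'.res (overArt A y hy)) :
    HomSet S'.carrier S'.res (overArt B (g.toAlgHom.comp y) hgy) :=
  ⟨{ (g.toAlgHom.toRingHom.comp ψ.1.toRingHom) with
      commutes' := fun r => by
        change g (ψ.1 (algebraMap Λ' S'.carrier r)) = g (y r)
        rw [ψ.1.commutes]
        rfl }, by
    apply AlgHom.ext
    intro s
    have := AlgHom.congr_fun ψ.2 s
    change A.res (ψ.1 s) = S'.res s at this
    change B.res (g (ψ.1 s)) = S'.res s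
    rw [Art.res_app, this]⟩

lemma famAt_natural {A B : Art Λ k} (g : A ⟶ B) (y : Λ' →ₐ[Λ] A.carrier)
    (hy : ∀ r, A.res (y r) = algebraMap Λ' k r)
    (hgy : ∀ r, B.res ((g.toAlgHom.comp y) r) = algebraMap Λ' k r)
    (ψ : HomSet S'.carrier S'.res (overArt A y hy)) :
    famAt ξ' B (g.toAlgHom.comp y) hgy (pushOver g y hy hgy ψ) = F.map g (famAt ξ' A y hy ψ) := by
  let g' : overArt A y hy ⟶ overArt B (g.toAlgHom.comp y) hgy :=
    ⟨{ g.toAlgHom.toRingHom with commutes' := fun r => rfl }, by
      apply AlgHom.ext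
      intro a
      exact Art.res_app g a⟩
  have h1 : HomSet.map g' ψ = pushOver g y hy hgy ψ := Subtype.ext (AlgHom.ext fun s => rfl)
  have h2 : (restrictFunctor Λ).map g' ≫ overIso B (g.toAlgHom.comp y) hgy = overIso A y hy ≫ g := by
    apply Art.hom_ext; apply AlgHom.ext; intro a; rfl
  unfold famAt
  rw [← h1, ξ'.natural]
  change F.map (overIso B _ hgy) (F.map ((restrictFunctor Λ).map g') (ξ'.app _ ψ)) = _
  rw [← map_comp_apply', h2, map_comp_apply']

/-- The structure map induced by a `Λ`-map out of the restricted ring. -/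
noncomputable def yOf {A : Art Λ k}
    (φ : HomSet (restrictCRing (Λ := Λ) S').carrier (restrictCRing (Λ := Λ) S').res A) :
    Λ' →ₐ[Λ] A.carrier :=
  { toFun := fun r => φ.1 (show (restrictCRing (Λ := Λ) S').carrier from algebraMap Λ' S'.carrier r)
    map_one' := by
      change φ.1 (show (restrictCRing (Λ := Λ) S').carrier from algebraMap Λ' S'.carrier 1) = 1
      rw [map_one (algebraMap Λ' S'.carrier)]
      exact map_one φ.1
    map_mul' := fun a b => by
      change φ.1 (show (restrictCRing (Λ := Λ) S').carrier from algebraMap Λ' S'.carrier (a * b)) = _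
      rw [map_mul (algebraMap Λ' S'.carrier)]
      exact map_mul φ.1 _ _
    map_zero' := by
      change φ.1 (show (restrictCRing (Λ := Λ) S').carrier from algebraMap Λ' S'.carrier 0) = 0
      rw [map_zero (algebraMap Λ' S'.carrier)]
      exact map_zero φ.1
    map_add' := fun a b => by
      change φ.1 (show (restrictCRing (Λ := Λ) S').carrier from algebraMap Λ' S'.carrier (a + b)) = _
      rw [map_add (algebraMap Λ' S'.carrier)]
      exact map_add φ.1 _ _
    commutes' := fun l => φ.1.commutes l }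

lemma yOf_apply {A : Art Λ k}
    (φ : HomSet (restrictCRing (Λ := Λ) S').carrier (restrictCRing (Λ := Λ) S').res A) (r : Λ') :
    yOf φ r = φ.1 (show (restrictCRing (Λ := Λ) S').carrier from algebraMap Λ' S'.carrier r) := rfl

lemma hyOf {A : Art Λ k}
    (φ : HomSet (restrictCRing (Λ := Λ) S').carrier (restrictCRing (Λ := Λ) S').res A) (r : Λ') :
    A.res (yOf φ r) = algebraMap Λ' k r := by
  have := AlgHom.congr_fun φ.2 (show (restrictCRing (Λ := Λ) S').carrier from algebraMap Λ' S'.carrier r)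
  rw [AlgHom.comp_apply] at this
  rw [yOf_apply, this]
  exact S'.res.commutes r

/-- A `Λ`-map out of the restricted ring as a `Λ'`-map. -/
noncomputable def liftOf {A : Art Λ k}
    (φ : HomSet (restrictCRing (Λ := Λ) S').carrier (restrictCRing (Λ := Λ) S').res A) :
    HomSet S'.carrier S'.res (overArt A (yOf φ) (hyOf φ)) :=
  ⟨{ toFun := fun s => φ.1 (show (restrictCRing (Λ := Λ) S').carrier from s)
     map_one' := map_one φ.1
     map_mul' := map_mul φ.1
     map_zero' := map_zero φ.1
     map_add' := map_add φ.1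
     commutes' := fun r => rfl }, by
    apply AlgHom.ext
    intro s
    exact AlgHom.congr_fun φ.2 (show (restrictCRing (Λ := Λ) S').carrier from s)⟩

/-- The family of `F` over the restricted ring induced by a family of the restricted functor. -/
noncomputable def transportFamily :
    Family (restrictCRing (Λ := Λ) S').carrier (restrictCRing (Λ := Λ) S').res F where
  app A φ := famAt ξ' A (yOf φ) (hyOf φ) (liftOf φ)
  natural {A B} g φ := by
    have hgy : ∀ r, B.res ((g.toAlgHom.comp (yOf φ)) r) = algebraMap Λ' k r := by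
      intro r
      change B.res (g (yOf φ r)) = _
      rw [Art.res_app, hyOf]
    rw [← famAt_natural ξ' g (yOf φ) (hyOf φ) hgy (liftOf φ)]
    apply famAt_congr
    · apply AlgHom.ext; intro r; rfl
    · intro s; rfl

variable (resΛ' : Λ' →ₐ[Λ] k) (hresΛ' : ∀ r, resΛ' r = algebraMap Λ' k r)

include hresΛ' in
/-- A versal family of the restricted functor gives a versal family of the functor, when `h_{Λ'}` is smooth. -/
theorem isVersal_transportFamily (hsm : IsSmoothFunctor (hR Λ' resΛ')) (hv : IsVersal ξ') :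
    IsVersal (transportFamily ξ') := by
  intro B A μ hμ φ y hy
  let yA : HomSet Λ' resΛ' A := ⟨yOf φ, by
    apply AlgHom.ext; intro r
    change A.res (yOf φ r) = resΛ' r
    rw [hyOf, hresΛ']⟩
  obtain ⟨yB, hyB⟩ := hsm μ hμ yA
  have hyB' : ∀ r, μ (yB.1 r) = yOf φ r := fun r => AlgHom.congr_fun (congrArg Subtype.val hyB) r
  have hyBres : ∀ r, B.res (yB.1 r) = algebraMap Λ' k r := by
    intro r
    have := AlgHom.congr_fun yB.2 r
    change B.res (yB.1 r) = resΛ' r at this
    rw [this, hresΛ']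
  let μ' : overArt B yB.1 hyBres ⟶ overArt A (yOf φ) (hyOf φ) :=
    ⟨{ μ.toAlgHom.toRingHom with commutes' := fun r => hyB' r }, by
      apply AlgHom.ext
      intro b
      exact Art.res_app μ b⟩
  have hcomm : overIsoInv B yB.1 hyBres ≫ (restrictFunctor Λ).map μ' =
      μ ≫ overIsoInv A (yOf φ) (hyOf φ) := by
    apply Art.hom_ext; apply AlgHom.ext; intro b; rfl
  have hy' : (restrictFunctor (Λ' := Λ') Λ ⋙ F).map μ' (F.map (overIsoInv B yB.1 hyBres) y) =
      ξ'.app _ (liftOf φ) := by
    change F.map ((restrictFunctor Λ).map μ') (F.map (overIsoInv B yB.1 hyBres) y) = _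
    rw [← map_comp_apply', hcomm, map_comp_apply', hy]
    change F.map (overIsoInv A (yOf φ) (hyOf φ)) (F.map (overIso A (yOf φ) (hyOf φ)) _) = _
    rw [← map_comp_apply', overIso_inv, map_id_apply']
  obtain ⟨ψ', hψ'1, hψ'2⟩ := hv μ' hμ (liftOf φ) _ hy'
  have hψ'c : ∀ r, ψ'.1 (algebraMap Λ' S'.carrier r) = yB.1 r := fun r => ψ'.1.commutes r
  let ψ : HomSet (restrictCRing (Λ := Λ) S').carrier (restrictCRing (Λ := Λ) S').res B :=
    ⟨{ toFun := fun s => ψ'.1 (show S'.carrier from s)
       map_one' := map_one ψ'.1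
       map_mul' := map_mul ψ'.1
       map_zero' := map_zero ψ'.1
       map_add' := map_add ψ'.1
       commutes' := fun l => by
        change ψ'.1 (algebraMap Λ' S'.carrier (algebraMap Λ Λ' l)) = algebraMap Λ B.carrier l
        rw [hψ'c, yB.1.commutes] }, by
      apply AlgHom.ext
      intro s
      exact AlgHom.congr_fun ψ'.2 (show S'.carrier from s)⟩
  refine ⟨ψ, ?_, ?_⟩
  · apply Subtype.ext
    apply AlgHom.ext
    intro s
    exact AlgHom.congr_fun (congrArg Subtype.val hψ'1) (show S'.carrier from s)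
  · change famAt ξ' B (yOf ψ) (hyOf ψ) (liftOf ψ) = y
    rw [famAt_congr ξ' B (yOf ψ) yB.1 (AlgHom.ext fun r => hψ'c r) (hyOf ψ) hyBres (liftOf ψ) ψ'
      (fun s => rfl)]
    unfold famAt
    rw [hψ'2, ← map_comp_apply', overIsoInv_overIso, map_id_apply']

end Versal

end Transport

end Groth.Agent.Lib.Helper19
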