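import Mathlib
import Groth.Agent.Lib.Helper19Functor
import Groth.Agent.Lib.Helper19FibreProd
import Groth.Agent.Lib.Helper19ArtBasic

/-!
# `Heps` for fibre products with square-zero extensions of `k` (helper19)

If `F` satisfies `Heps`, the comparison map of `A ×_k E` is bijective for every `E = k ⊕ V` with
`V` finite-dimensional.
-/

set_option autoImplicit false
set_option linter.unusedSectionVars false
set_option linter.style.haveILetI false
universe u v

open CategoryTheory ArtFun ArtFun.Art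

namespace Groth.Agent.Lib.Helper19.TszeHeps

variable {Λ : Type u} {k : Type u} [CommRing Λ] [Field k] [Algebra Λ k]

/-- the property: all fibre products `A ×_k E` have bijective comparison map -/
def Good (F : Art Λ k ⥤ Type v) (E : Art Λ k) : Prop :=
  ∀ ⦃B A : Art Λ k⦄ (p' : B ⟶ A) (p'' : B ⟶ E)
    (h : IsFibreProd p' p'' (toBase A) (toBase E)), Function.Bijective (cmp F h)

section Transport

variable {F : Art Λ k ⥤ Type v} {E E' : Art Λ k}

lemma map_bijective_of_bijective (F : Art Λ k ⥤ Type v) (θ : E ⟶ E')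
    (hθ : Function.Bijective θ) : Function.Bijective (F.map θ) := by
  haveI := isIso_of_bijective θ hθ
  refine ⟨fun x y e => ?_, fun y => ⟨F.map (inv θ) y, map_map_inv F θ y⟩⟩
  rw [← map_inv_map F θ x, e, map_inv_map]

theorem good_of_bijective (θ : E ⟶ E') (hθ : Function.Bijective θ) (hE' : Good F E') :
    Good F E := by
  intro B A p' p'' h
  have h' : IsFibreProd p' (p'' ≫ θ) (toBase A) (toBase E') :=
    { w := by rw [eq_toBase (p' ≫ toBase A), eq_toBase ((p'' ≫ θ) ≫ toBase E')]
      inj := fun b b' e1 e2 => h.inj b b' e1 (hθ.1 e2)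
      surj := fun a e' he => by
        obtain ⟨e, rfl⟩ := hθ.2 e'
        have he2 : (toBase A) a = (toBase E) e := by
          refine he.trans ?_
          exact res_app θ e
        obtain ⟨b, hb1, hb2⟩ := h.surj a e he2
        exact ⟨b, hb1, congrArg θ hb2⟩ }
  have hb := hE' p' (p'' ≫ θ) h'
  have hFθ := map_bijective_of_bijective F θ hθ
  constructor
  · rw [cmp_injective_iff]
    intro z z' e1 e2
    refine (cmp_injective_iff F h').1 hb.1 z z' e1 ?_
    rw [map_comp_apply', map_comp_apply', e2]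
  · rw [cmp_surjective_iff]
    intro x y hxy
    obtain ⟨z, hz1, hz2⟩ := (cmp_surjective_iff F h').1 hb.2 x (F.map θ y) (by
      rw [← map_comp_apply', eq_toBase (θ ≫ toBase E')]
      exact hxy)
    refine ⟨z, hz1, hFθ.1 ?_⟩
    rw [← map_comp_apply']
    exact hz2

theorem good_of_toBase_bijective (hE : Function.Bijective (toBase E)) : Good F E := by
  intro B A p' p'' h
  have hp' : Function.Bijective p' := fibreProd_fst_bijective_of_bijective h hE
  have h1 := map_bijective_of_bijective F p' hp'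
  have h2 := map_bijective_of_bijective F (toBase E) hE
  constructor
  · rw [cmp_injective_iff]
    intro z z' e1 _
    exact h1.1 e1
  · rw [cmp_surjective_iff]
    intro x y hxy
    obtain ⟨z, rfl⟩ := h1.2 x
    refine ⟨z, rfl, h2.1 ?_⟩
    rw [← hxy, ← map_comp_apply', ← map_comp_apply', h.w]

end Transport

section Gen

variable (Λ k) in
/-- the object `k ⊕ M` -/
def tObj (M : Type u) [AddCommGroup M] [Module k M] [Module kᵐᵒᵖ M] [SMulCommClass k kᵐᵒᵖ M]
    [IsCentralScalar k M] [Module Λ M] [IsScalarTower Λ k M] [IsScalarTower Λ kᵐᵒᵖ M]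
    [Module.Finite k M] : Art Λ k :=
  { carrier := TrivSqZeroExt k M
    isLocalRing := isLocalRing_tsze k M
    isArtinianRing := isArtinianRing_tsze k M
    res := TrivSqZeroExt.fstHom Λ k M
    res_surjective := fun a => ⟨TrivSqZeroExt.inl a, rfl⟩ }

variable {M N : Type u} [AddCommGroup M] [Module k M] [Module kᵐᵒᵖ M] [SMulCommClass k kᵐᵒᵖ M]
  [IsCentralScalar k M] [Module Λ M] [IsScalarTower Λ k M] [IsScalarTower Λ kᵐᵒᵖ M]
  [Module.Finite k M]
  [AddCommGroup N] [Module k N] [Module kᵐᵒᵖ N] [SMulCommClass k kᵐᵒᵖ N]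
  [IsCentralScalar k N] [Module Λ N] [IsScalarTower Λ k N] [IsScalarTower Λ kᵐᵒᵖ N]
  [Module.Finite k N]

/-- the morphism induced by a linear map -/
def tHom (L : M →ₗ[k] N) : tObj Λ k M ⟶ tObj Λ k N := ⟨tszeMap L, AlgHom.ext fun _ => rfl⟩

/-- the morphism to the dual numbers induced by a linear form -/
def tHomDual (L : M →ₗ[k] k) : tObj Λ k M ⟶ dual Λ k := ⟨tszeMap L, AlgHom.ext fun _ => rfl⟩

lemma tHom_apply (L : M →ₗ[k] N) (x : tObj Λ k M) :
    (tHom L x : TrivSqZeroExt k N) = ((x : TrivSqZeroExt k M).fst, L (x : TrivSqZeroExt k M).snd) :=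
  rfl

/-- `k ⊕ (M × k) = (k ⊕ M) ×_k k[ε]` -/
theorem isFibreProd_tObj_prod :
    IsFibreProd (tHom (LinearMap.fst k M k) : tObj Λ k (M × k) ⟶ tObj Λ k M)
      (tHomDual (LinearMap.snd k M k)) (toBase (tObj Λ k M)) (toBase (dual Λ k)) where
  w := by rw [eq_toBase (tHom _ ≫ toBase _), eq_toBase (tHomDual _ ≫ toBase _)]
  inj b₁ b₂ h₁ h₂ := by
    have e₁ : (b₁ : TrivSqZeroExt k (M × k)).fst = (b₂ : TrivSqZeroExt k (M × k)).fst := by
      have e := congrArg TrivSqZeroExt.fst h₁; exact e
    have e₂ : (b₁ : TrivSqZeroExt k (M × k)).snd.1 = (b₂ : TrivSqZeroExt k (M × k)).snd.1 := by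
      have e := congrArg TrivSqZeroExt.snd h₁; exact e
    have e₃ : (b₁ : TrivSqZeroExt k (M × k)).snd.2 = (b₂ : TrivSqZeroExt k (M × k)).snd.2 := by
      have e := congrArg TrivSqZeroExt.snd h₂; exact e
    exact TrivSqZeroExt.ext e₁ (Prod.ext e₂ e₃)
  surj a' a'' h := by
    have h' : (a' : TrivSqZeroExt k M).fst = (a'' : TrivSqZeroExt k k).fst := h
    exact ⟨((a' : TrivSqZeroExt k M).fst, ((a' : TrivSqZeroExt k M).snd,
      (a'' : TrivSqZeroExt k k).snd)), TrivSqZeroExt.ext rfl rfl, TrivSqZeroExt.ext h' rfl⟩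

variable [Module.Finite Λ k] {F : Art Λ k ⥤ Type v}

/-- the inductive step -/
theorem good_prod (hF : Heps F) (hM : Good F (tObj Λ k M)) : Good F (tObj Λ k (M × k)) := by
  intro B A p' p'' h
  -- the intermediate fibre product
  have hsurj : Function.Surjective (toBase (tObj Λ k M)) := (tObj Λ k M).res_surjective
  let B₁ : Art Λ k := pullbackObj (toBase A) (toBase (tObj Λ k M)) hsurj
  let prA : B₁ ⟶ A := pullbackObjFst (toBase A) (toBase (tObj Λ k M)) hsurj
  let prM : B₁ ⟶ tObj Λ k M := pullbackObjSnd (toBase A) (toBase (tObj Λ k M)) hsurj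
  have h₁ : IsFibreProd prA prM (toBase A) (toBase (tObj Λ k M)) := isFibreProd_pullbackObj _ _ _
  let q1 : tObj Λ k (M × k) ⟶ tObj Λ k M := tHom (LinearMap.fst k M k)
  let q2 : tObj Λ k (M × k) ⟶ dual Λ k := tHomDual (LinearMap.snd k M k)
  have hq : IsFibreProd q1 q2 (toBase (tObj Λ k M)) (toBase (dual Λ k)) := isFibreProd_tObj_prod
  let r : B ⟶ B₁ := fibreProdLift h₁ p' (p'' ≫ q1) (by
    rw [eq_toBase (p' ≫ toBase A), eq_toBase ((p'' ≫ q1) ≫ toBase _)])
  have hr1 : r ≫ prA = p' := fibreProdLift_fst _ _ _ _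
  have hr2 : r ≫ prM = p'' ≫ q1 := fibreProdLift_snd _ _ _ _
  let s : B ⟶ dual Λ k := p'' ≫ q2
  have hrs : IsFibreProd r s (toBase B₁) (toBase (dual Λ k)) :=
    { w := by rw [eq_toBase (r ≫ toBase B₁), eq_toBase (s ≫ toBase _)]
      inj := fun b b' e1 e2 => by
        have e1a : p' b = p' b' := by
          have := congrArg prA e1
          rwa [← Art.comp_apply, ← Art.comp_apply, hr1] at this
        have e1b : q1 (p'' b) = q1 (p'' b') := by
          have := congrArg prM e1
          rwa [← Art.comp_apply, ← Art.comp_apply, hr2] at this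
        have e2' : q2 (p'' b) = q2 (p'' b') := e2
        exact h.inj b b' e1a (hq.inj _ _ e1b e2')
      surj := fun b₁ d hd => by
        have hd' : (toBase (tObj Λ k M)) (prM b₁) = (toBase (dual Λ k)) d := by
          refine Eq.trans ?_ hd
          exact res_app prM b₁
        obtain ⟨e, he1, he2⟩ := hq.surj (prM b₁) d hd'
        have hae : (toBase A) (prA b₁) = (toBase (tObj Λ k (M × k))) e := by
          have h3 : (toBase (tObj Λ k (M × k))) e = (toBase (tObj Λ k M)) (q1 e) :=
            (res_app q1 e).symm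
          rw [h3, he1]
          exact h₁.w_apply b₁
        obtain ⟨b, hb1, hb2⟩ := h.surj (prA b₁) e hae
        refine ⟨b, ?_, ?_⟩
        · apply h₁.inj
          · change (r ≫ prA) b = _
            rw [hr1, hb1]
          · change (r ≫ prM) b = _
            rw [hr2]
            change q1 (p'' b) = _
            rw [hb2, he1]
        · change q2 (p'' b) = d
          rw [hb2, he2] }
  have H1 := hF r s hrs
  have H2 := hM prA prM h₁
  have H3 := hF q1 q2 hq
  constructor
  · rw [cmp_injective_iff]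
    intro z z' e1 e2
    refine (cmp_injective_iff F hrs).1 H1.1 z z' ?_ ?_
    · refine (cmp_injective_iff F h₁).1 H2.1 _ _ ?_ ?_
      · rw [← map_comp_apply', ← map_comp_apply', hr1, e1]
      · rw [← map_comp_apply', ← map_comp_apply', hr2, map_comp_apply', map_comp_apply', e2]
    · change F.map (p'' ≫ q2) z = F.map (p'' ≫ q2) z'
      rw [map_comp_apply', map_comp_apply', e2]
  · rw [cmp_surjective_iff]
    intro x y hxy
    obtain ⟨u, hu1, hu2⟩ := (cmp_surjective_iff F h₁).1 H2.2 x (F.map q1 y) (by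
      rw [← map_comp_apply', eq_toBase (q1 ≫ toBase _)]
      exact hxy)
    obtain ⟨z, hz1, hz2⟩ := (cmp_surjective_iff F hrs).1 H1.2 u (F.map q2 y) (by
      rw [← map_comp_apply', eq_toBase (q2 ≫ toBase _), ← eq_toBase (prA ≫ toBase A),
        map_comp_apply', hu1]
      exact hxy)
    refine ⟨z, ?_, ?_⟩
    · rw [← hr1, map_comp_apply', hz1, hu1]
    · refine (cmp_injective_iff F hq).1 H3.1 _ _ ?_ ?_
      · rw [← map_comp_apply', ← hr2, map_comp_apply', hz1, hu2]
      · rw [← map_comp_apply']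
        exact hz2

theorem good_pi (hF : Heps F) (n : ℕ) : Good F (tObj Λ k (Fin n → k)) := by
  induction n with
  | zero =>
    apply good_of_toBase_bijective
    refine ⟨fun x y hxy => ?_, (tObj Λ k (Fin 0 → k)).res_surjective⟩
    have h1 : (x : TrivSqZeroExt k (Fin 0 → k)).fst = (y : TrivSqZeroExt k (Fin 0 → k)).fst := hxy
    exact TrivSqZeroExt.ext h1 (Subsingleton.elim _ _)
  | succ n ih =>
    let e : (Fin (n + 1) → k) ≃ₗ[k] (Fin n → k) × k :=
      (Fin.consLinearEquiv k (fun _ : Fin (n + 1) => k)).symm.trans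
        (LinearEquiv.prodComm k k (Fin n → k))
    refine good_of_bijective (tHom (e : (Fin (n + 1) → k) →ₗ[k] (Fin n → k) × k)) ?_
      (good_prod hF ih)
    constructor
    · intro x y hxy
      have h1 : (x : TrivSqZeroExt k (Fin (n + 1) → k)).fst =
          (y : TrivSqZeroExt k (Fin (n + 1) → k)).fst := by
        have e' := congrArg TrivSqZeroExt.fst hxy; exact e'
      have h2 : e (x : TrivSqZeroExt k (Fin (n + 1) → k)).snd =
          e (y : TrivSqZeroExt k (Fin (n + 1) → k)).snd := by
        have e' := congrArg TrivSqZeroExt.snd hxy; exact e'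
      exact TrivSqZeroExt.ext h1 (e.injective h2)
    · intro y
      refine ⟨((y : TrivSqZeroExt k ((Fin n → k) × k)).fst,
        e.symm (y : TrivSqZeroExt k ((Fin n → k) × k)).snd), ?_⟩
      exact TrivSqZeroExt.ext rfl (e.apply_symm_apply _)

end Gen

section Struct

variable [Module.Finite Λ k]

/-- An object with a section and square-zero maximal ideal is `k ⊕ kⁿ`. -/
theorem exists_bijective_tObj (E : Art Λ k) (σ : base Λ k ⟶ E)
    (hE : IsLocalRing.maximalIdeal E ^ 2 = ⊥) :
    ∃ (n : ℕ) (θ : tObj Λ k (Fin n → k) ⟶ E), Function.Bijective θ := by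
  let f : k →ₐ[Λ] E := σ.toAlgHom
  have hf : ∀ a : k, E.res (f a) = a := fun a => res_app σ a
  letI : Algebra k E := f.toRingHom.toAlgebra
  haveI : IsScalarTower Λ k E := IsScalarTower.of_algebraMap_eq (fun r => (f.commutes r).symm)
  haveI : Module.Finite Λ E := finite_art E
  haveI : Module.Finite k E := Module.Finite.of_restrictScalars_finite Λ k E
  let mS : Submodule k E := (IsLocalRing.maximalIdeal E).restrictScalars k
  let n := Module.finrank k mS
  let b : Module.Basis (Fin n) k mS := Module.finBasis k mS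
  let g₀ : (Fin n → k) →ₗ[k] E := mS.subtype ∘ₗ (b.equivFun.symm : (Fin n → k) →ₗ[k] mS)
  have hg₀mem : ∀ x, g₀ x ∈ IsLocalRing.maximalIdeal E := fun x => (b.equivFun.symm x).2
  have hg₀inj : Function.Injective g₀ :=
    (Submodule.injective_subtype mS).comp b.equivFun.symm.injective
  let g : (Fin n → k) →ₗ[Λ] E := g₀.restrictScalars Λ
  have hg : ∀ x y, g x * g y = 0 := by
    intro x y
    have h1 : g₀ x * g₀ y ∈ IsLocalRing.maximalIdeal E ^ 2 := by
      rw [pow_two]
      exact Ideal.mul_mem_mul (hg₀mem x) (hg₀mem y)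
    rw [hE] at h1
    exact h1
  have hfg : ∀ (r : k) (x : Fin n → k), g (r • x) = f r * g x := by
    intro r x
    change g₀ (r • x) = f r * g₀ x
    rw [map_smul, Algebra.smul_def]
    rfl
  have hgf : ∀ (r : k) (x : Fin n → k), g (MulOpposite.op r • x) = g x * f r := by
    intro r x
    rw [op_smul_eq_smul, hfg, mul_comm]
  let φ : TrivSqZeroExt k (Fin n → k) →ₐ[Λ] E := TrivSqZeroExt.lift f g hg hfg hgf
  have hφ : ∀ x, φ x = f x.fst + g₀ x.snd := fun x => rfl
  have hres : ∀ x, E.res (φ x) = x.fst := by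
    intro x
    rw [hφ, map_add, hf, (E.mem_maximalIdeal_iff _).1 (hg₀mem _), add_zero]
  let θ : tObj Λ k (Fin n → k) ⟶ E := ⟨φ, AlgHom.ext hres⟩
  refine ⟨n, θ, ?_, ?_⟩
  · intro x y hxy
    have hxy' : φ x = φ y := hxy
    have h1 : (x : TrivSqZeroExt k (Fin n → k)).fst = (y : TrivSqZeroExt k (Fin n → k)).fst := by
      rw [← hres, ← hres, hxy']
    have h2 : g₀ (x : TrivSqZeroExt k (Fin n → k)).snd =
        g₀ (y : TrivSqZeroExt k (Fin n → k)).snd := by
      rw [hφ, hφ, h1] at hxy'
      exact add_left_cancel hxy'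
    exact TrivSqZeroExt.ext h1 (hg₀inj h2)
  · intro e
    have hm : e - f (E.res e) ∈ mS := by
      change e - f (E.res e) ∈ IsLocalRing.maximalIdeal E
      rw [E.mem_maximalIdeal_iff, map_sub, hf, sub_self]
    refine ⟨((E.res e, b.equivFun ⟨_, hm⟩) : TrivSqZeroExt k (Fin n → k)), ?_⟩
    change φ _ = e
    rw [hφ]
    change f (E.res e) + ((b.equivFun.symm (b.equivFun ⟨_, hm⟩) : mS) : E) = e
    rw [LinearEquiv.symm_apply_apply]
    change f (E.res e) + (e - f (E.res e)) = e
    ring

/-- **Heps for square-zero extensions with a section.** -/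
theorem good_of_section {F : Art Λ k ⥤ Type v} (hF : Heps F) (E : Art Λ k)
    (hσ : Nonempty (base Λ k ⟶ E)) (hE : IsLocalRing.maximalIdeal E ^ 2 = ⊥) : Good F E := by
  obtain ⟨σ⟩ := hσ
  obtain ⟨n, θ, hθ⟩ := exists_bijective_tObj E σ hE
  haveI := isIso_of_bijective θ hθ
  haveI : IsIso (inv θ) := inferInstance
  exact good_of_bijective (inv θ) (bijective_of_isIso (inv θ)) (good_pi hF n)

end Struct

end Groth.Agent.Lib.Helper19.TszeHeps
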