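import Groth.Agent.Lib.Helper19Minimal

set_option autoImplicit false
universe u v w

open CategoryTheory ArtFun ArtFun.Art

namespace Groth.Agent.Lib.Helper19

section VersalLift

variable {Λ : Type u} {k : Type u} [CommRing Λ] [Field k] [Algebra Λ k]

lemma truncMapOfHom_truncHom {A' A : CRing Λ k} (g : A'.carrier →ₐ[Λ] A.carrier)
    (hg : A.res.comp g = A'.res) (n : ℕ) (a : A'.carrier) :
    CRing.truncMapOfHom g hg n ((A'.truncHom n).1 a) = (A.truncHom n).1 (g a) := rfl

lemma truncMapOfHom_surjective {A' A : CRing Λ k} (g : A'.carrier →ₐ[Λ] A.carrier)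
    (hg : A.res.comp g = A'.res) (hgs : Function.Surjective g) (n : ℕ) :
    Function.Surjective (CRing.truncMapOfHom g hg n) := by
  intro y
  obtain ⟨a, rfl⟩ := truncHom_surjective A n y
  obtain ⟨a', rfl⟩ := hgs a
  exact ⟨(A'.truncHom n).1 a', rfl⟩

lemma map_m_eq_of_surjective {A' A : CRing Λ k} (g : A'.carrier →ₐ[Λ] A.carrier)
    (hg : A.res.comp g = A'.res) (hgs : Function.Surjective g) :
    Ideal.map g (CRing.m A') = CRing.m A := by
  apply le_antisymm (map_maximalIdeal_le A'.res A'.res_surjective A.res A.res_surjective g hg)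
  intro a ha
  obtain ⟨a', rfl⟩ := hgs a
  apply Ideal.mem_map_of_mem
  have h1 : a' ∈ IsLocalRing.maximalIdeal A'.carrier := by
    rw [mem_maximalIdeal_iff_res A'.res A'.res_surjective]
    have h2 : g a' ∈ IsLocalRing.maximalIdeal A.carrier := ha
    rw [mem_maximalIdeal_iff_res A.res A.res_surjective] at h2
    rw [← hg]
    exact h2
  exact h1

/-- The lifting property of a versal family along surjections of coefficient rings, under (RS). -/
theorem versal_lift_formal [Module.Finite Λ k] {F : Art Λ k ⥤ Type v}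
    (hRS : ∀ ⦃B A A₁ A₂ : Art Λ k⦄ (p₁ : B ⟶ A₁) (p₂ : B ⟶ A₂) (f₁ : A₁ ⟶ A) (f₂ : A₂ ⟶ A)
        (h : IsFibreProd p₁ p₂ f₁ f₂), Function.Surjective f₂ → Function.Bijective (cmp F h))
    (R : CRing Λ k) (ξ : Family R.carrier R.res F) (hξ : IsVersal ξ)
    (A' A : CRing Λ k) (g : A'.carrier →ₐ[Λ] A.carrier) (hg : A.res.comp g = A'.res)
    (hgs : Function.Surjective g) (η' : FormalElt F A')
    (φ : R.carrier →ₐ[Λ] A.carrier) (hφ : A.res.comp φ = R.res)
    (hsq : (ξ.along φ hφ).toFormalElt = η'.push g hg) :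
    ∃ (ψ : R.carrier →ₐ[Λ] A'.carrier) (hψ : A'.res.comp ψ = R.res),
      g.comp ψ = φ ∧ (ξ.along ψ hψ).toFormalElt = η' := by
  -- the truncations of `φ`
  let φn : ∀ n, HomSet R.carrier R.res (A.trunc n) := fun n =>
    ⟨(A.truncHom n).1.comp φ, by rw [← AlgHom.comp_assoc, (A.truncHom n).2, hφ]⟩
  have hφn : ∀ n, ξ.app _ (φn n) = F.map (CRing.truncMapOfHom g hg n) (η'.elt n) := by
    intro n
    have := congrArg (fun w => w.elt n) hsq
    exact this
  have hφn_compat : ∀ n, HomSet.map (A.truncMap n) (φn (n + 1)) = φn n := by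
    intro n
    apply Subtype.ext
    apply AlgHom.ext
    intro r
    rfl
  -- the property carried along the induction
  let P : ∀ n, HomSet R.carrier R.res (A'.trunc n) → Prop := fun n ψ =>
    ξ.app _ ψ = η'.elt n ∧ HomSet.map (CRing.truncMapOfHom g hg n) ψ = φn n
  have hbase : ∃ ψ : HomSet R.carrier R.res (A'.trunc 0), P 0 ψ := by
    obtain ⟨ψ, h1, h2⟩ := hξ (CRing.truncMapOfHom g hg 0) (truncMapOfHom_surjective g hg hgs 0)
      (φn 0) (η'.elt 0) (hφn 0).symm
    exact ⟨ψ, h2, h1⟩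
  have hstep : ∀ (n : ℕ) (ψ : HomSet R.carrier R.res (A'.trunc n)), P n ψ →
      ∃ ψ' : HomSet R.carrier R.res (A'.trunc (n + 1)),
        HomSet.map (A'.truncMap n) ψ' = ψ ∧ P (n + 1) ψ' := by
    intro n ψ hψ
    obtain ⟨hψ1, hψ2⟩ := hψ
    have hτ : Function.Surjective (A.truncMap n) := truncMap_surjective A n
    have hB := isFibreProd_pullbackObj (CRing.truncMapOfHom g hg n) (A.truncMap n) hτ
    set B := pullbackObj (CRing.truncMapOfHom g hg n) (A.truncMap n) hτ
    set π₁ : B ⟶ A'.trunc n := pullbackObjFst (CRing.truncMapOfHom g hg n) (A.truncMap n) hτ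
    set π₂ : B ⟶ A.trunc (n + 1) := pullbackObjSnd (CRing.truncMapOfHom g hg n) (A.truncMap n) hτ
    have w : A'.truncMap n ≫ CRing.truncMapOfHom g hg n =
        CRing.truncMapOfHom g hg (n + 1) ≫ A.truncMap n :=
      (CRing.truncMapOfHom_truncMap g hg n).symm
    set c : A'.trunc (n + 1) ⟶ B := fibreProdLift hB (A'.truncMap n) (CRing.truncMapOfHom g hg (n + 1)) w
    have hc1 : c ≫ π₁ = A'.truncMap n := fibreProdLift_fst hB _ _ w
    have hc2 : c ≫ π₂ = CRing.truncMapOfHom g hg (n + 1) := fibreProdLift_snd hB _ _ w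
    -- `c` is surjective
    have hcs : Function.Surjective c := by
      intro b
      obtain ⟨a', ha'⟩ := truncHom_surjective A' n (π₁ b)
      obtain ⟨a, ha⟩ := truncHom_surjective A (n + 1) (π₂ b)
      have hb : CRing.truncMapOfHom g hg n (π₁ b) = A.truncMap n (π₂ b) :=
        AlgHom.congr_fun (congrArg Art.Hom.toAlgHom hB.w) b
      rw [← ha', ← ha, truncMapOfHom_truncHom, truncMap_truncHom_apply, truncHom_eq_iff] at hb
      have hmem : a - g a' ∈ Ideal.map g (CRing.m A' ^ (n + 1)) := by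
        rw [Ideal.map_pow, map_m_eq_of_surjective g hg hgs]
        have := Ideal.neg_mem_iff _ |>.2 hb
        rwa [neg_sub] at this
      obtain ⟨x, hx, hgx⟩ := (Ideal.mem_map_iff_of_surjective g hgs).1 hmem
      refine ⟨(A'.truncHom (n + 1)).1 (a' + x), ?_⟩
      apply hB.inj
      · have e1 : π₁ (c ((A'.truncHom (n + 1)).1 (a' + x))) =
            A'.truncMap n ((A'.truncHom (n + 1)).1 (a' + x)) :=
          AlgHom.congr_fun (congrArg Art.Hom.toAlgHom hc1) _
        rw [e1, truncMap_truncHom_apply, ← ha', truncHom_eq_iff]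
        have : a' + x - a' = x := by ring
        rw [this]
        exact hx
      · have e2 : π₂ (c ((A'.truncHom (n + 1)).1 (a' + x))) =
            CRing.truncMapOfHom g hg (n + 1) ((A'.truncHom (n + 1)).1 (a' + x)) :=
          AlgHom.congr_fun (congrArg Art.Hom.toAlgHom hc2) _
        rw [e2, truncMapOfHom_truncHom, ← ha, map_add, hgx]
        congr 1
        ring
    -- the map to the fibre product
    obtain ⟨θ, hθ1, hθ2⟩ := homSet_lift hB ψ (φn (n + 1)) (by rw [hψ2, hφn_compat])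
    have hξθ : ξ.app _ θ = F.map c (η'.elt (n + 1)) := by
      apply (cmp_injective_iff F hB).1 (hRS π₁ π₂ _ _ hB hτ).1
      · rw [← ξ.natural, hθ1, hψ1, ← map_comp_apply', hc1, η'.compat]
      · rw [← ξ.natural, hθ2, hφn, ← map_comp_apply', hc2]
    obtain ⟨ψ', h1, h2⟩ := hξ c hcs θ (η'.elt (n + 1)) hξθ.symm
    refine ⟨ψ', ?_, h2, ?_⟩
    · rw [← hθ1, ← h1, ← hc1]
      rfl
    · rw [← hθ2, ← h1, ← hc2]
      rfl
  let u : ∀ n : ℕ, {ψ : HomSet R.carrier R.res (A'.trunc n) // P n ψ} := fun n =>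
    Nat.rec (motive := fun n => {ψ : HomSet R.carrier R.res (A'.trunc n) // P n ψ})
      ⟨Classical.choose hbase, Classical.choose_spec hbase⟩
      (fun n x => ⟨Classical.choose (hstep n x.1 x.2), (Classical.choose_spec (hstep n x.1 x.2)).2⟩) n
  have hu : ∀ n, HomSet.map (A'.truncMap n) (u (n + 1)).1 = (u n).1 := fun n =>
    (Classical.choose_spec (hstep n (u n).1 (u n).2)).1
  obtain ⟨ψ, hψ, hψn⟩ := exists_glue A' (fun n => (u n).1) hu
  refine ⟨ψ, hψ, ?_, ?_⟩
  · apply algHom_ext_of_truncHom A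
    intro n
    have h2 := congrArg Subtype.val (u n).2.2
    have h3 : (CRing.truncMapOfHom g hg n).toAlgHom.comp (u n).1.1 = (A.truncHom n).1.comp φ := h2
    rw [← h3, ← hψn n]
    apply AlgHom.ext
    intro r
    rfl
  · apply FormalElt.ext'
    intro n
    change ξ.app _ _ = η'.elt n
    rw [← (u n).2.1]
    congr 1
    exact Subtype.ext (hψn n)

end VersalLift

end Groth.Agent.Lib.Helper19
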