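import Mathlib

/-!
# The ring `ℤ[F,V]/(FV - q)`: embedding into a field, clearing denominators, normal forms
-/

set_option autoImplicit false

namespace Groth.Agent.Lib.Helper19WeilNumA

open MvPolynomial

/-- the ring `ℤ[F,V]` -/
abbrev A := MvPolynomial (Fin 2) ℤ

/-- the fraction field of `ℤ[X]` -/
abbrev Q := FractionRing (Polynomial ℤ)

/-- the variable of `ℤ[X]` in its fraction field -/
noncomputable def xq : Q := algebraMap (Polynomial ℤ) Q Polynomial.X

lemma xq_ne_zero : xq ≠ 0 := by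
  unfold xq
  intro h
  have := (IsFractionRing.injective (Polynomial ℤ) Q) (h.trans (map_zero _).symm)
  exact Polynomial.X_ne_zero this

/-- the ideal `(FV - q)` -/
noncomputable def II (q : ℤ) : Ideal A := Ideal.span {(X 0 * X 1 - C q : A)}

lemma gen_mem (q : ℤ) : (X 0 * X 1 - C q : A) ∈ II q := Ideal.subset_span rfl

/-- `F ↦ X`, `V ↦ q / X` -/
noncomputable def eps (q : ℤ) : A →ₐ[ℤ] Q := aeval ![xq, (q : Q) / xq]

lemma eps_X0 (q : ℤ) : eps q (X 0) = xq := by simp [eps]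

lemma eps_X1 (q : ℤ) : eps q (X 1) = (q : Q) / xq := by simp [eps]

lemma eps_C (q c : ℤ) : eps q (C c) = (c : Q) := by
  simp [eps]

lemma eps_gen (q : ℤ) : eps q (X 0 * X 1 - C q) = 0 := by
  rw [map_sub, map_mul, eps_X0, eps_X1, eps_C]
  have := xq_ne_zero
  field_simp
  ring

lemma II_le_ker (q : ℤ) : II q ≤ RingHom.ker (eps q : A →+* Q) := by
  unfold II
  rw [Ideal.span_le]
  intro x hx
  rw [Set.mem_singleton_iff] at hx
  rw [hx, SetLike.mem_coe, RingHom.mem_ker]
  exact eps_gen q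

lemma eps_iF (q : ℤ) (a : Polynomial ℤ) :
    eps q (Polynomial.aeval (X 0 : A) a) = algebraMap (Polynomial ℤ) Q a := by
  have h1 : (eps q).comp (Polynomial.aeval (X 0 : A)) = Polynomial.aeval (eps q (X 0)) :=
    (Polynomial.aeval_algHom (eps q) (X 0)).symm
  have h2 := AlgHom.congr_fun h1 a
  rw [AlgHom.comp_apply] at h2
  rw [h2, eps_X0]
  unfold xq
  rw [Polynomial.aeval_algebraMap_apply, Polynomial.aeval_X_left_apply]

lemma eps_iV (q : ℤ) (b : Polynomial ℤ) :
    eps q (Polynomial.aeval (X 1 : A) b) = Polynomial.aeval ((q : Q) / xq) b := by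
  have h1 : (eps q).comp (Polynomial.aeval (X 1 : A)) = Polynomial.aeval (eps q (X 1)) :=
    (Polynomial.aeval_algHom (eps q) (X 1)).symm
  have h2 := AlgHom.congr_fun h1 b
  rw [AlgHom.comp_apply] at h2
  rw [h2, eps_X1]

/-- clearing the `V`'s: `F^n g ≡ G(F)` -/
lemma clearing (q : ℤ) (g : A) :
    ∃ (n : ℕ) (G : Polynomial ℤ), X 0 ^ n * g - Polynomial.aeval (X 0 : A) G ∈ II q := by
  induction g using MvPolynomial.induction_on with
  | C c =>
    refine ⟨0, Polynomial.C c, ?_⟩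
    have : (X 0 : A) ^ 0 * C c - Polynomial.aeval (X 0 : A) (Polynomial.C c) = 0 := by
      simp
    rw [this]
    exact Ideal.zero_mem _
  | add g₁ g₂ h₁ h₂ =>
    obtain ⟨n₁, G₁, h₁⟩ := h₁
    obtain ⟨n₂, G₂, h₂⟩ := h₂
    refine ⟨n₁ + n₂, Polynomial.X ^ n₂ * G₁ + Polynomial.X ^ n₁ * G₂, ?_⟩
    have : (X 0 : A) ^ (n₁ + n₂) * (g₁ + g₂) -
        Polynomial.aeval (X 0 : A) (Polynomial.X ^ n₂ * G₁ + Polynomial.X ^ n₁ * G₂) =
        X 0 ^ n₂ * (X 0 ^ n₁ * g₁ - Polynomial.aeval (X 0 : A) G₁) +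
          X 0 ^ n₁ * (X 0 ^ n₂ * g₂ - Polynomial.aeval (X 0 : A) G₂) := by
      simp only [map_add, map_mul, map_pow, Polynomial.aeval_X]
      ring
    rw [this]
    exact Ideal.add_mem _ (Ideal.mul_mem_left _ _ h₁) (Ideal.mul_mem_left _ _ h₂)
  | mul_X g i hg =>
    obtain ⟨n, G, hG⟩ := hg
    fin_cases i
    · refine ⟨n, G * Polynomial.X, ?_⟩
      have : (X 0 : A) ^ n * (g * X 0) - Polynomial.aeval (X 0 : A) (G * Polynomial.X) =
          X 0 * (X 0 ^ n * g - Polynomial.aeval (X 0 : A) G) := by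
        simp only [map_mul, Polynomial.aeval_X]
        ring
      simp only [Fin.zero_eta]
      rw [this]
      exact Ideal.mul_mem_left _ _ hG
    · refine ⟨n + 1, Polynomial.C q * G, ?_⟩
      have : (X 0 : A) ^ (n + 1) * (g * X 1) - Polynomial.aeval (X 0 : A) (Polynomial.C q * G) =
          X 0 * X 1 * (X 0 ^ n * g - Polynomial.aeval (X 0 : A) G) +
            Polynomial.aeval (X 0 : A) G * (X 0 * X 1 - C q) := by
        simp only [map_mul, Polynomial.aeval_C, algebraMap_eq]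
        ring
      simp only [Fin.mk_one]
      rw [this]
      exact Ideal.add_mem _ (Ideal.mul_mem_left _ _ hG) (Ideal.mul_mem_left _ _ (gen_mem q))

/-- `F ∤ FV - q` -/
lemma not_X0_dvd_gen (q : ℤ) (hq : q ≠ 0) : ¬ (X 0 : A) ∣ (X 0 * X 1 - C q) := by
  rintro ⟨s, hs⟩
  have := congrArg (MvPolynomial.eval (fun _ => (0 : ℤ))) hs
  simp at this
  exact hq this

lemma ker_eps (q : ℤ) (hq : q ≠ 0) : RingHom.ker (eps q : A →+* Q) = II q := by
  apply le_antisymm _ (II_le_ker q)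
  intro g hg
  rw [RingHom.mem_ker] at hg
  obtain ⟨n, G, hG⟩ := clearing q g
  have h1 := II_le_ker q hG
  rw [RingHom.mem_ker] at h1
  have h2 : (eps q : A →+* Q) (X 0 ^ n * g - Polynomial.aeval (X 0 : A) G) =
      - algebraMap (Polynomial ℤ) Q G := by
    change eps q (X 0 ^ n * g - Polynomial.aeval (X 0 : A) G) = _
    rw [map_sub, map_mul, eps_iF]
    have : eps q g = 0 := hg
    rw [this, mul_zero, zero_sub]
  rw [h2, neg_eq_zero] at h1
  have hG0 : G = 0 :=
    (IsFractionRing.injective (Polynomial ℤ) Q) (h1.trans (map_zero _).symm)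
  rw [hG0, map_zero, sub_zero] at hG
  -- `F^n g ∈ (FV - q)`
  obtain ⟨s, hs⟩ := Ideal.mem_span_singleton.1 hG
  have hdvd : (X 0 : A) ^ n ∣ s := by
    apply (X_prime (R := ℤ) (i := (0 : Fin 2))).pow_dvd_of_dvd_mul_left n (not_X0_dvd_gen q hq)
    rw [← hs]
    exact dvd_mul_right _ _
  obtain ⟨s', hs'⟩ := hdvd
  have h3 : (X 0 : A) ^ n * g = X 0 ^ n * ((X 0 * X 1 - C q) * s') := by
    rw [hs, hs']; ring
  have h4 : g = (X 0 * X 1 - C q) * s' :=
    mul_left_cancel₀ (pow_ne_zero n (X_ne_zero (0 : Fin 2))) h3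
  rw [h4]
  exact Ideal.mul_mem_right _ _ (gen_mem q)

lemma II_isPrime (q : ℤ) (hq : q ≠ 0) : (II q).IsPrime := by
  rw [← ker_eps q hq]
  exact RingHom.ker_isPrime _

lemma mem_II_iff (q : ℤ) (hq : q ≠ 0) (g : A) : g ∈ II q ↔ eps q g = 0 := by
  rw [← ker_eps q hq, RingHom.mem_ker]
  rfl

/-- normal forms: every `g` is congruent to `a(F) + V b(V)` -/
lemma normalForm (q : ℤ) (g : A) :
    ∃ a b : Polynomial ℤ,
      g - (Polynomial.aeval (X 0 : A) a + X 1 * Polynomial.aeval (X 1 : A) b) ∈ II q := by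
  induction g using MvPolynomial.induction_on with
  | C c =>
    refine ⟨Polynomial.C c, (0 : Polynomial ℤ), ?_⟩
    have : (C c : A) - (Polynomial.aeval (X 0 : A) (Polynomial.C c) +
        X 1 * Polynomial.aeval (X 1 : A) (0 : Polynomial ℤ)) = 0 := by
      simp
    rw [this]
    exact Ideal.zero_mem _
  | add g₁ g₂ h₁ h₂ =>
    obtain ⟨a₁, b₁, h₁⟩ := h₁
    obtain ⟨a₂, b₂, h₂⟩ := h₂
    refine ⟨a₁ + a₂, b₁ + b₂, ?_⟩
    have : g₁ + g₂ - (Polynomial.aeval (X 0 : A) (a₁ + a₂) +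
        X 1 * Polynomial.aeval (X 1 : A) (b₁ + b₂)) =
        (g₁ - (Polynomial.aeval (X 0 : A) a₁ + X 1 * Polynomial.aeval (X 1 : A) b₁)) +
        (g₂ - (Polynomial.aeval (X 0 : A) a₂ + X 1 * Polynomial.aeval (X 1 : A) b₂)) := by
      simp only [map_add]
      ring
    rw [this]
    exact Ideal.add_mem _ h₁ h₂
  | mul_X g i hg =>
    obtain ⟨a, b, hab⟩ := hg
    have hb : Polynomial.aeval (X 1 : A) b =
        Polynomial.aeval (X 1 : A) b.divX * X 1 + C (b.coeff 0) := by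
      conv_lhs => rw [← Polynomial.divX_mul_X_add b]
      simp only [map_add, map_mul, Polynomial.aeval_X, Polynomial.aeval_C, algebraMap_eq]
    have ha : Polynomial.aeval (X 0 : A) a =
        Polynomial.aeval (X 0 : A) a.divX * X 0 + C (a.coeff 0) := by
      conv_lhs => rw [← Polynomial.divX_mul_X_add a]
      simp only [map_add, map_mul, Polynomial.aeval_X, Polynomial.aeval_C, algebraMap_eq]
    fin_cases i
    · refine ⟨Polynomial.X * a + Polynomial.C (q * b.coeff 0), Polynomial.C q * b.divX, ?_⟩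
      have : g * X 0 - (Polynomial.aeval (X 0 : A)
          (Polynomial.X * a + Polynomial.C (q * b.coeff 0)) +
          X 1 * Polynomial.aeval (X 1 : A) (Polynomial.C q * b.divX)) =
          X 0 * (g - (Polynomial.aeval (X 0 : A) a + X 1 * Polynomial.aeval (X 1 : A) b)) +
            Polynomial.aeval (X 1 : A) b * (X 0 * X 1 - C q) := by
        simp only [map_add, map_mul, Polynomial.aeval_X, Polynomial.aeval_C, algebraMap_eq]
        rw [hb]
        ring
      simp only [Fin.zero_eta]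
      rw [this]
      exact Ideal.add_mem _ (Ideal.mul_mem_left _ _ hab) (Ideal.mul_mem_left _ _ (gen_mem q))
    · refine ⟨Polynomial.C q * a.divX, Polynomial.C (a.coeff 0) + Polynomial.X * b, ?_⟩
      have : g * X 1 - (Polynomial.aeval (X 0 : A) (Polynomial.C q * a.divX) +
          X 1 * Polynomial.aeval (X 1 : A) (Polynomial.C (a.coeff 0) + Polynomial.X * b)) =
          X 1 * (g - (Polynomial.aeval (X 0 : A) a + X 1 * Polynomial.aeval (X 1 : A) b)) +
            Polynomial.aeval (X 0 : A) a.divX * (X 0 * X 1 - C q) := by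
        simp only [map_add, map_mul, Polynomial.aeval_X, Polynomial.aeval_C, algebraMap_eq]
        rw [ha]
        ring
      simp only [Fin.mk_one]
      rw [this]
      exact Ideal.add_mem _ (Ideal.mul_mem_left _ _ hab) (Ideal.mul_mem_left _ _ (gen_mem q))

/-- `F ↦ 0`, `V ↦ X` -/
noncomputable def rho : A →ₐ[ℤ] Polynomial ℤ := aeval ![0, Polynomial.X]

@[simp] lemma rho_X0 : rho (X 0) = 0 := by simp [rho]
@[simp] lemma rho_X1 : rho (X 1) = Polynomial.X := by simp [rho]
@[simp] lemma rho_C (c : ℤ) : rho (C c) = Polynomial.C c := by simp [rho]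

lemma rho_iV (b : Polynomial ℤ) : rho (Polynomial.aeval (X 1 : A) b) = b := by
  have h1 : rho.comp (Polynomial.aeval (X 1 : A)) = Polynomial.aeval (rho (X 1)) :=
    (Polynomial.aeval_algHom rho (X 1)).symm
  have h2 := AlgHom.congr_fun h1 b
  rw [AlgHom.comp_apply] at h2
  rw [h2, rho_X1, Polynomial.aeval_X_left_apply]

lemma rho_iF (a : Polynomial ℤ) :
    rho (Polynomial.aeval (X 0 : A) a) = Polynomial.C (a.coeff 0) := by
  have h1 : rho.comp (Polynomial.aeval (X 0 : A)) = Polynomial.aeval (rho (X 0)) :=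
    (Polynomial.aeval_algHom rho (X 0)).symm
  have h2 := AlgHom.congr_fun h1 a
  rw [AlgHom.comp_apply] at h2
  rw [h2, rho_X0, ← Polynomial.coeff_zero_eq_aeval_zero']
  rfl

/-- every `s` is `s(0,V) + F s'` -/
lemma decomp (s : A) : ∃ s' : A, s = Polynomial.aeval (X 1 : A) (rho s) + X 0 * s' := by
  induction s using MvPolynomial.induction_on with
  | C c => exact ⟨0, by simp⟩
  | add g₁ g₂ h₁ h₂ =>
    obtain ⟨s₁, h₁⟩ := h₁
    obtain ⟨s₂, h₂⟩ := h₂
    refine ⟨s₁ + s₂, ?_⟩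
    rw [map_add, map_add]
    conv_lhs => rw [h₁, h₂]
    ring
  | mul_X g i hg =>
    obtain ⟨s', hs'⟩ := hg
    fin_cases i
    · refine ⟨g, ?_⟩
      simp only [Fin.zero_eta, map_mul, rho_X0, mul_zero, map_zero, zero_add]
      ring
    · refine ⟨s' * X 1, ?_⟩
      simp only [Fin.mk_one, map_mul, rho_X1, Polynomial.aeval_X]
      conv_lhs => rw [hs']
      ring

/-- a monic polynomial is a nonzerodivisor modulo `q` -/
lemma C_dvd_of_C_dvd_monic_mul (w : Polynomial ℤ) (hw : w.Monic) (q : ℤ) (t : Polynomial ℤ)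
    (h : Polynomial.C q ∣ w * t) : Polynomial.C q ∣ t := by
  have key : ∀ f : Polynomial ℤ, Polynomial.C q ∣ f ↔
      Polynomial.map (Ideal.Quotient.mk (Ideal.span {q})) f = 0 := by
    intro f
    rw [Polynomial.C_dvd_iff_dvd_coeff, Polynomial.ext_iff]
    refine forall_congr' (fun i => ?_)
    rw [Polynomial.coeff_map, Polynomial.coeff_zero, Ideal.Quotient.eq_zero_iff_mem,
      Ideal.mem_span_singleton]
  rw [key] at h ⊢
  rw [Polynomial.map_mul] at h
  exact ((hw.map _).mul_right_eq_zero_iff).1 h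

lemma span_pair_congr (q : ℤ) (h h₀ : A) (hh : h - h₀ ∈ II q) :
    Ideal.span {(X 0 * X 1 - C q : A), h} = Ideal.span {(X 0 * X 1 - C q : A), h₀} := by
  have h1 : II q ≤ Ideal.span {(X 0 * X 1 - C q : A), h} :=
    Ideal.span_mono (by intro x hx; rw [Set.mem_singleton_iff] at hx; rw [hx]; simp)
  have h2 : II q ≤ Ideal.span {(X 0 * X 1 - C q : A), h₀} :=
    Ideal.span_mono (by intro x hx; rw [Set.mem_singleton_iff] at hx; rw [hx]; simp)
  apply le_antisymm
  · rw [Ideal.span_le]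
    rintro x (rfl | hx)
    · exact Ideal.subset_span (by simp)
    · rw [Set.mem_singleton_iff] at hx
      rw [hx]
      have : h = h₀ + (h - h₀) := by ring
      rw [this]
      exact Ideal.add_mem _ (Ideal.subset_span (by simp)) (h2 hh)
  · rw [Ideal.span_le]
    rintro x (rfl | hx)
    · exact Ideal.subset_span (by simp)
    · rw [Set.mem_singleton_iff] at hx
      rw [hx]
      have : h₀ = h - (h - h₀) := by ring
      rw [this]
      exact Ideal.sub_mem _ (Ideal.subset_span (by simp)) (h1 hh)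

/-- `F` is a nonzerodivisor modulo `(FV - q, h₀)` when `h₀(0,V)` is monic up to a sign -/
lemma X0_mul_mem (q : ℤ) (hq : q ≠ 0) (h₀ : A) (u : ℤ) (hw : (Polynomial.C u * rho h₀).Monic)
    (g : A) (hg : X 0 * g ∈ Ideal.span {(X 0 * X 1 - C q : A), h₀}) :
    g ∈ Ideal.span {(X 0 * X 1 - C q : A), h₀} := by
  obtain ⟨s, t, hst⟩ := Ideal.mem_span_pair.1 hg
  -- apply `rho`
  have h1 := congrArg rho hst
  simp only [map_add, map_mul, map_sub, rho_X0, rho_X1, rho_C, zero_mul, zero_sub] at h1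
  -- `h̄₀ ρ(t) = q ρ(s)`
  have h2 : rho h₀ * rho t = Polynomial.C q * rho s := by
    linear_combination h1
  have h3 : Polynomial.C q ∣ rho t := by
    apply C_dvd_of_C_dvd_monic_mul _ hw
    rw [mul_assoc, mul_comm (rho t) _, h2] at *
    exact ⟨Polynomial.C u * rho s, by ring⟩
  obtain ⟨t₁, ht₁⟩ := h3
  have h4 : rho s = rho h₀ * t₁ := by
    have hC : (Polynomial.C q : Polynomial ℤ) ≠ 0 := by
      rw [Ne, Polynomial.C_eq_zero]; exact hq
    apply mul_left_cancel₀ hC
    rw [← h2, ht₁]; ring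
  obtain ⟨t₂, ht₂⟩ := decomp t
  obtain ⟨s₂, hs₂⟩ := decomp s
  obtain ⟨h₃, hh₃⟩ := decomp h₀
  set T₁ : A := Polynomial.aeval (X 1 : A) t₁ with hT₁
  have e1 : Polynomial.aeval (X 1 : A) (rho t) = C q * T₁ := by
    rw [ht₁, map_mul, Polynomial.aeval_C, algebraMap_eq]
  have e2 : Polynomial.aeval (X 1 : A) (rho s) = (h₀ - X 0 * h₃) * T₁ := by
    rw [h4, map_mul]
    have : Polynomial.aeval (X 1 : A) (rho h₀) = h₀ - X 0 * h₃ := by
      conv_rhs => rw [hh₃]
      ring
    rw [this]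
  have key : X 0 * g = X 0 * (h₀ * (X 1 * T₁ + t₂) + (X 0 * X 1 - C q) * (s₂ - h₃ * T₁)) := by
    rw [← hst]
    conv_lhs => rw [hs₂, ht₂, e1, e2]
    ring
  have := mul_left_cancel₀ (X_ne_zero (0 : Fin 2)) key
  rw [this]
  exact Ideal.add_mem _ (Ideal.mul_mem_right _ _ (Ideal.subset_span (by simp)))
    (Ideal.mul_mem_right _ _ (Ideal.subset_span (by simp)))

lemma X0_pow_mul_mem (q : ℤ) (hq : q ≠ 0) (h₀ : A) (u : ℤ) (hw : (Polynomial.C u * rho h₀).Monic)
    (n : ℕ) (g : A) (hg : X 0 ^ n * g ∈ Ideal.span {(X 0 * X 1 - C q : A), h₀}) :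
    g ∈ Ideal.span {(X 0 * X 1 - C q : A), h₀} := by
  induction n with
  | zero => simpa using hg
  | succ n ih =>
    apply ih
    apply X0_mul_mem q hq h₀ u hw
    rw [← mul_assoc, ← pow_succ']
    exact hg

end Groth.Agent.Lib.Helper19WeilNumA
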