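import Mathlib
import Groth.Agent.Lib.Helper19WeilNumA

/-!
# Coefficient identities for normal forms in `ℤ[F,V]/(FV - q)`
-/

set_option autoImplicit false

namespace Groth.Agent.Lib.Helper19WeilNumB

open MvPolynomial Groth.Agent.Lib.Helper19WeilNumA

lemma eval₂_xq (g : Polynomial ℤ) :
    Polynomial.eval₂ (algebraMap ℤ Q) xq g = algebraMap (Polynomial ℤ) Q g := by
  rw [← Polynomial.aeval_def]
  unfold xq
  rw [Polynomial.aeval_algebraMap_apply, Polynomial.aeval_X_left_apply]

lemma reflect_identity (q : ℤ) (b : Polynomial ℤ) (N : ℕ) (hN : b.natDegree ≤ N) :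
    Polynomial.aeval ((q : Q) / xq) b =
      algebraMap (Polynomial ℤ) Q
        (Polynomial.reflect N (b.comp (Polynomial.C q * Polynomial.X))) * (xq⁻¹) ^ N := by
  set f := b.comp (Polynomial.C q * Polynomial.X) with hf
  have hfdeg : f.natDegree ≤ N := by
    refine le_trans Polynomial.natDegree_comp_le ?_
    have h1 : (Polynomial.C q * Polynomial.X : Polynomial ℤ).natDegree ≤ 1 :=
      Polynomial.natDegree_C_mul_X_pow_le (R := ℤ) q 1 |>.trans_eq' (by simp)
    calc b.natDegree * _ ≤ b.natDegree * 1 := Nat.mul_le_mul_left _ h1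
      _ ≤ N := by simpa using hN
  letI : Invertible (xq⁻¹ : Q) := invertibleOfNonzero (inv_ne_zero xq_ne_zero)
  have h1 := Polynomial.eval₂_reflect_mul_pow (algebraMap ℤ Q) (xq⁻¹ : Q) N f hfdeg
  have h2 : ⅟(xq⁻¹ : Q) = xq := by rw [invOf_eq_inv, inv_inv]
  rw [h2, eval₂_xq] at h1
  rw [h1, hf, Polynomial.eval₂_comp, Polynomial.aeval_def]
  congr 1
  rw [Polynomial.eval₂_mul, Polynomial.eval₂_C, Polynomial.eval₂_X, div_eq_mul_inv]
  simp

/-- the polynomial identity obtained by clearing denominators in a normal form -/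
lemma identityE (q : ℤ) (hq : q ≠ 0) (a b P : Polynomial ℤ) (D : ℕ)
    (h : X 0 ^ D * (Polynomial.aeval (X 0 : A) a + X 1 * Polynomial.aeval (X 1 : A) b) -
      Polynomial.aeval (X 0 : A) P ∈ II q) :
    Polynomial.X ^ (b.natDegree + D + 1) * a +
      Polynomial.C q * Polynomial.reflect (b.natDegree + D)
        (b.comp (Polynomial.C q * Polynomial.X)) = Polynomial.X ^ (b.natDegree + 1) * P := by
  have h0 := (mem_II_iff q hq _).1 h
  rw [map_sub, map_mul, map_pow, map_add, map_mul, eps_X0, eps_X1, eps_iF, eps_iF, eps_iV,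
    reflect_identity q b (b.natDegree + D) (Nat.le_add_right _ _)] at h0
  apply IsFractionRing.injective (Polynomial ℤ) Q
  have hx := xq_ne_zero
  have hjX : algebraMap (Polynomial ℤ) Q Polynomial.X = xq := rfl
  have hjC : algebraMap (Polynomial ℤ) Q (Polynomial.C q) = (q : Q) := by
    rw [← Polynomial.algebraMap_eq, ← IsScalarTower.algebraMap_apply]
    simp
  rw [map_add, map_mul, map_mul, map_mul, map_pow, map_pow, hjX, hjC]
  rw [sub_eq_zero, inv_pow] at h0
  rw [← h0]
  field_simp
  ring

lemma coeff_b_eq_zero (q : ℤ) (hq : q ≠ 0) (a b P : Polynomial ℤ) (D : ℕ)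
    (hE : Polynomial.X ^ (b.natDegree + D + 1) * a +
      Polynomial.C q * Polynomial.reflect (b.natDegree + D)
        (b.comp (Polynomial.C q * Polynomial.X)) = Polynomial.X ^ (b.natDegree + 1) * P)
    (k : ℕ) (hk : D ≤ k) : b.coeff k = 0 := by
  by_cases hkd : k ≤ b.natDegree
  · have h1 := congrArg (fun p => Polynomial.coeff p (b.natDegree + D - k)) hE
    simp only [Polynomial.coeff_add, Polynomial.coeff_X_pow_mul', Polynomial.coeff_C_mul,
      Polynomial.coeff_reflect] at h1
    rw [if_neg (by omega), if_neg (by omega), Polynomial.revAt_le (by omega),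
      Polynomial.comp_C_mul_X_coeff, zero_add] at h1
    have h2 : b.natDegree + D - (b.natDegree + D - k) = k := by omega
    rw [h2] at h1
    rcases mul_eq_zero.1 h1 with h3 | h3
    · exact absurd h3 hq
    · rcases mul_eq_zero.1 h3 with h4 | h4
      · exact h4
      · exact absurd h4 (pow_ne_zero _ hq)
  · exact Polynomial.coeff_eq_zero_of_natDegree_lt (by omega)

lemma coeff_b_pred (q : ℤ) (a b P : Polynomial ℤ) (D : ℕ) (hD : 1 ≤ D)
    (hE : Polynomial.X ^ (b.natDegree + D + 1) * a +
      Polynomial.C q * Polynomial.reflect (b.natDegree + D)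
        (b.comp (Polynomial.C q * Polynomial.X)) = Polynomial.X ^ (b.natDegree + 1) * P) :
    b.coeff (D - 1) * q ^ D = P.coeff 0 := by
  obtain ⟨D', rfl⟩ : ∃ D', D = D' + 1 := ⟨D - 1, by omega⟩
  have h1 := congrArg (fun p => Polynomial.coeff p (b.natDegree + 1)) hE
  simp only [Polynomial.coeff_add, Polynomial.coeff_X_pow_mul', Polynomial.coeff_C_mul,
    Polynomial.coeff_reflect] at h1
  rw [if_neg (by omega), if_pos le_rfl, Polynomial.revAt_le (by omega),
    Polynomial.comp_C_mul_X_coeff, zero_add, Nat.sub_self] at h1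
  have h2 : b.natDegree + (D' + 1) - (b.natDegree + 1) = D' := by omega
  rw [h2] at h1
  rw [← h1, Nat.add_sub_cancel, pow_succ]
  ring

end Groth.Agent.Lib.Helper19WeilNumB
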