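import Mathlib
import Groth.Agent.Lib.Helper19WeilNumB

/-!
# The minimal central order of a family of Weil numbers as a complete intersection
-/

set_option autoImplicit false
set_option linter.unusedSectionVars false
universe u

namespace Groth.Agent.Lib.Helper19WeilNumC

open MvPolynomial Groth.Agent.Lib.Helper19WeilNumA Groth.Agent.Lib.Helper19WeilNumB

/-- absolute value of the constant coefficient of a monic polynomial all of whose complex roots
have absolute value `r` -/
lemma norm_coeff_zero (P : Polynomial ℤ) (hP : P.Monic) (r : ℝ)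
    (hroots : ∀ z ∈ P.aroots ℂ, ‖z‖ = r) :
    ‖((P.coeff 0 : ℤ) : ℂ)‖ = r ^ P.natDegree := by
  set Pc := P.map (algebraMap ℤ ℂ) with hPc
  have hm : Pc.Monic := hP.map _
  have hs : Pc.Splits := IsAlgClosed.splits Pc
  have h1 := hs.coeff_zero_eq_prod_roots_of_monic hm
  have h2 : Pc.coeff 0 = ((P.coeff 0 : ℤ) : ℂ) := by
    rw [hPc, Polynomial.coeff_map]; simp
  have h3 : Pc.natDegree = P.natDegree := hP.natDegree_map _
  rw [← h2, h1, norm_mul, norm_pow, norm_neg, norm_one, one_pow, one_mul]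
  have h4 : ‖Pc.roots.prod‖ = (Pc.roots.map (fun z => ‖z‖)).prod :=
    map_multiset_prod (normHom : ℂ →*₀ ℝ) Pc.roots
  have h5 : Pc.roots.map (fun z => ‖z‖) =
      Multiset.replicate (Multiset.card (Pc.roots.map (fun z => ‖z‖))) r := by
    apply Multiset.eq_replicate_card.2
    intro x hx
    obtain ⟨z, hz, rfl⟩ := Multiset.mem_map.1 hx
    exact hroots z hz
  rw [h4, h5, Multiset.prod_replicate, Multiset.card_map, ← hs.natDegree_eq_card_roots, h3]

section Family

variable (p e : ℕ) [hp : Fact p.Prime]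
  {ι : Type} [Fintype ι] (K : ι → Type u) [∀ i, Field (K i)] [∀ i, CharZero (K i)]
  (π : ∀ i, K i)

/-- the product of the minimal polynomials -/
noncomputable def Pw : Polynomial ℤ := ∏ i, minpoly ℤ (π i)

variable {K π}

lemma Pw_monic (hint : ∀ i, IsIntegral ℤ (π i)) : (Pw K π).Monic :=
  Polynomial.monic_prod_of_monic _ _ (fun i _ => minpoly.monic (hint i))

lemma Pw_natDegree (hint : ∀ i, IsIntegral ℤ (π i)) :
    (Pw K π).natDegree = ∑ i, (minpoly ℤ (π i)).natDegree :=
  Polynomial.natDegree_prod_of_monic _ _ (fun i _ => minpoly.monic (hint i))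

lemma sqrt_pos : 0 < Real.sqrt ((p : ℝ) ^ e) := by
  apply Real.sqrt_pos.2
  have : (0 : ℝ) < p := by exact_mod_cast hp.out.pos
  positivity

include hp in
lemma coeff_zero_ne (hint : ∀ i, IsIntegral ℤ (π i))
    (hweil : ∀ i, ∀ z ∈ (minpoly ℤ (π i)).aroots ℂ, ‖z‖ = Real.sqrt ((p : ℝ) ^ e)) (i : ι) :
    (minpoly ℤ (π i)).coeff 0 ≠ 0 := by
  intro h0
  have h1 := norm_coeff_zero _ (minpoly.monic (hint i)) _ (hweil i)
  rw [h0] at h1
  simp only [Int.cast_zero, norm_zero] at h1
  exact (pow_pos (sqrt_pos p e) _).ne h1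

include hp in
lemma pi_ne_zero (hint : ∀ i, IsIntegral ℤ (π i))
    (hweil : ∀ i, ∀ z ∈ (minpoly ℤ (π i)).aroots ℂ, ‖z‖ = Real.sqrt ((p : ℝ) ^ e)) (i : ι) :
    π i ≠ 0 := by
  intro h0
  apply coeff_zero_ne p e hint hweil i
  have h1 := minpoly.aeval ℤ (π i)
  rw [h0, ← Polynomial.coeff_zero_eq_aeval_zero'] at h1
  have : ((minpoly ℤ (0 : K i)).coeff 0 : K i) = 0 := by simpa using h1
  rw [h0]
  exact_mod_cast this

include hp in
lemma Pw_coeff_zero (hint : ∀ i, IsIntegral ℤ (π i))
    (hweil : ∀ i, ∀ z ∈ (minpoly ℤ (π i)).aroots ℂ, ‖z‖ = Real.sqrt ((p : ℝ) ^ e))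
    (D : ℕ) (hD : ∑ i, (minpoly ℤ (π i)).natDegree = 2 * D) :
    (Pw K π).coeff 0 = ((p : ℤ) ^ e) ^ D ∨ (Pw K π).coeff 0 = -((p : ℤ) ^ e) ^ D := by
  have h1 : (Pw K π).coeff 0 = ∏ i, (minpoly ℤ (π i)).coeff 0 := by
    unfold Pw
    rw [Polynomial.coeff_zero_eq_eval_zero, Polynomial.eval_prod]
    exact Finset.prod_congr rfl (fun i _ => (Polynomial.coeff_zero_eq_eval_zero _).symm)
  have h2 : ‖(((Pw K π).coeff 0 : ℤ) : ℂ)‖ = ((p : ℝ) ^ e) ^ D := by
    rw [h1, Int.cast_prod, norm_prod]
    rw [Finset.prod_congr rfl (fun i _ =>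
      norm_coeff_zero _ (minpoly.monic (hint i)) _ (hweil i))]
    rw [Finset.prod_pow_eq_pow_sum, hD, pow_mul, Real.sq_sqrt]
    have : (0 : ℝ) ≤ p := by exact_mod_cast Nat.zero_le p
    positivity
  rw [Complex.norm_intCast] at h2
  have h3 : (0 : ℝ) ≤ ((p : ℝ) ^ e) ^ D := by
    have : (0 : ℝ) ≤ p := by exact_mod_cast Nat.zero_le p
    positivity
  rcases (abs_eq h3).1 h2 with h4 | h4
  · left
    exact_mod_cast h4
  · right
    exact_mod_cast h4

lemma Pw_dvd (hint : ∀ i, IsIntegral ℤ (π i))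
    (hinj : ∀ i j, minpoly ℤ (π i) = minpoly ℤ (π j) → i = j)
    (G : Polynomial ℤ) (hG : ∀ i, Polynomial.aeval (π i) G = 0) : Pw K π ∣ G := by
  classical
  unfold Pw
  have key : ∀ s : Finset ι, ∏ i ∈ s, minpoly ℤ (π i) ∣ G := by
    intro s
    induction s using Finset.induction_on with
    | empty => simp
    | insert a s ha ih =>
      rw [Finset.prod_insert ha]
      refine IsRelPrime.mul_dvd ?_ (minpoly.isIntegrallyClosed_dvd (hint a) (hG a)) ih
      apply IsRelPrime.prod_right
      intro i hi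
      have hirr : Irreducible (minpoly ℤ (π a)) :=
        (minpoly.prime_of_isIntegrallyClosed (hint a)).irreducible
      have hirr' : Irreducible (minpoly ℤ (π i)) :=
        (minpoly.prime_of_isIntegrallyClosed (hint i)).irreducible
      rw [hirr.isRelPrime_iff_not_dvd]
      intro hdvd
      have hass := hirr.associated_of_dvd hirr' hdvd
      have heq := Polynomial.eq_of_monic_of_associated (minpoly.monic (hint a))
        (minpoly.monic (hint i)) hass
      have := hinj a i heq
      rw [this] at ha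
      exact ha hi
  exact key Finset.univ

end Family

section Main

variable (p e : ℕ) [hp : Fact p.Prime]
  {ι : Type} [Fintype ι] (K : ι → Type u) [∀ i, Field (K i)] [∀ i, CharZero (K i)]
  (π : ∀ i, K i)

/-- componentwise evaluation -/
noncomputable def phiC (i : ι) : A →ₐ[ℤ] K i := aeval ![π i, ((p : K i) ^ e) / π i]

/-- the evaluation `F ↦ (π_i)`, `V ↦ (q / π_i)` -/
noncomputable def phi : A →ₐ[ℤ] ((i : ι) → K i) :=
  aeval ![fun i => π i, fun i => ((p : K i) ^ e) / π i]

lemma phi_apply (g : A) (i : ι) : phi p e K π g i = phiC p e K π i g := by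
  have h := AlgHom.congr_fun (comp_aeval
    (f := (![fun i => π i, fun i => ((p : K i) ^ e) / π i] : Fin 2 → ((i : ι) → K i)))
    (Pi.evalAlgHom ℤ K i)) g
  have h2 : (fun k => Pi.evalAlgHom ℤ K i
      ((![fun i => π i, fun i => ((p : K i) ^ e) / π i] : Fin 2 → ((i : ι) → K i)) k)) =
      ![π i, ((p : K i) ^ e) / π i] := by
    funext k
    fin_cases k <;> rfl
  rw [h2] at h
  exact h

lemma phiC_iF (i : ι) (G : Polynomial ℤ) :
    phiC p e K π i (Polynomial.aeval (X 0 : A) G) = Polynomial.aeval (π i) G := by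
  have h1 : (phiC p e K π i).comp (Polynomial.aeval (X 0 : A)) =
      Polynomial.aeval (phiC p e K π i (X 0)) :=
    (Polynomial.aeval_algHom (phiC p e K π i) (X 0)).symm
  have h2 := AlgHom.congr_fun h1 G
  rw [AlgHom.comp_apply] at h2
  rw [h2]
  simp [phiC]

lemma phiC_gen (i : ι) (hπ : π i ≠ 0) :
    phiC p e K π i (X 0 * X 1 - C ((p : ℤ) ^ e)) = 0 := by
  simp only [phiC, map_sub, map_mul, aeval_X, aeval_C, Matrix.cons_val_zero, Matrix.cons_val_one]
  rw [mul_div_cancel₀ _ hπ]
  simp

lemma phiC_II (i : ι) (hπ : π i ≠ 0) (g : A) (hg : g ∈ II ((p : ℤ) ^ e)) :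
    phiC p e K π i g = 0 := by
  obtain ⟨s, rfl⟩ := Ideal.mem_span_singleton.1 hg
  rw [map_mul, phiC_gen p e K π i hπ, zero_mul]

variable {K π}

include hp in
theorem main (hint : ∀ i, IsIntegral ℤ (π i))
    (hweil : ∀ i, ∀ z ∈ (minpoly ℤ (π i)).aroots ℂ, ‖z‖ = Real.sqrt ((p : ℝ) ^ e))
    (hinj : ∀ i j, minpoly ℤ (π i) = minpoly ℤ (π j) → i = j)
    (D : ℕ) (hD : ∑ i, (minpoly ℤ (π i)).natDegree = 2 * D)
    (h : A)
    (hh : X 0 ^ D * h - Polynomial.aeval (X 0 : A) (∏ i, minpoly ℤ (π i)) ∈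
      Ideal.span ({X 0 * X 1 - C ((p : ℤ) ^ e)} : Set A)) :
    RingHom.ker (phi p e K π) = Ideal.span {X 0 * X 1 - C ((p : ℤ) ^ e), h} ∧
      RingTheory.Sequence.IsWeaklyRegular A [X 0 * X 1 - C ((p : ℤ) ^ e), h] := by
  set q : ℤ := (p : ℤ) ^ e with hqdef
  have hq : q ≠ 0 := pow_ne_zero _ (by exact_mod_cast hp.out.ne_zero)
  have hπ := pi_ne_zero p e hint hweil
  have hPm := Pw_monic (K := K) (π := π) hint
  have hhh : X 0 ^ D * h - Polynomial.aeval (X 0 : A) (Pw K π) ∈ II q := hh
  obtain ⟨a, b, hab⟩ := normalForm q h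
  set h₀ : A := Polynomial.aeval (X 0 : A) a + X 1 * Polynomial.aeval (X 1 : A) b with hh₀
  have hh₀' : X 0 ^ D * h₀ - Polynomial.aeval (X 0 : A) (Pw K π) ∈ II q := by
    have : X 0 ^ D * h₀ - Polynomial.aeval (X 0 : A) (Pw K π) =
        (X 0 ^ D * h - Polynomial.aeval (X 0 : A) (Pw K π)) - X 0 ^ D * (h - h₀) := by ring
    rw [this]
    exact Ideal.sub_mem _ hhh (Ideal.mul_mem_left _ _ hab)
  have hE := identityE q hq a b (Pw K π) D hh₀'
  have hb0 := coeff_b_eq_zero q hq a b _ D hE
  have hrho : rho h₀ = Polynomial.C (a.coeff 0) + Polynomial.X * b := by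
    rw [hh₀, map_add, map_mul, rho_iF, rho_X1, rho_iV]
  have hw : ∃ u : ℤ, (Polynomial.C u * rho h₀).Monic := by
    rcases Nat.eq_zero_or_pos D with hD0 | hDpos
    · refine ⟨1, ?_⟩
      have hbz : b = 0 := by
        ext k
        rw [Polynomial.coeff_zero]
        exact hb0 k (by omega)
      have hPw1 : Pw K π = 1 := by
        apply Polynomial.eq_one_of_monic_natDegree_zero hPm
        rw [Pw_natDegree hint, hD, hD0]
      rw [hbz, hD0, hPw1] at hE
      simp only [Polynomial.natDegree_zero, zero_add, pow_one, Polynomial.zero_comp,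
        Polynomial.reflect_zero, mul_zero, add_zero, mul_one] at hE
      have ha1 : a = 1 := by
        apply mul_left_cancel₀ (Polynomial.X_ne_zero (R := ℤ))
        rw [hE, mul_one]
      rw [hrho, hbz, ha1]
      simp
    · obtain ⟨D', rfl⟩ : ∃ D', D = D' + 1 := ⟨D - 1, by omega⟩
      have hu := coeff_b_pred q a b _ (D' + 1) hDpos hE
      rw [Nat.add_sub_cancel] at hu
      refine ⟨b.coeff D', ?_⟩
      have huu : b.coeff D' * b.coeff D' = 1 := by
        have hqD : q ^ (D' + 1) ≠ 0 := pow_ne_zero _ hq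
        rcases Pw_coeff_zero p e hint hweil (D' + 1) hD with h1 | h1
        · rw [h1] at hu
          have : b.coeff D' = 1 := by
            apply mul_right_cancel₀ hqD
            rw [hu, one_mul]
          rw [this, mul_one]
        · rw [h1] at hu
          have : b.coeff D' = -1 := by
            apply mul_right_cancel₀ hqD
            rw [hu]; ring
          rw [this]; norm_num
      apply Polynomial.monic_of_natDegree_le_of_coeff_eq_one (D' + 1)
      · rw [Polynomial.natDegree_le_iff_coeff_eq_zero]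
        intro N hN
        obtain ⟨N', rfl⟩ : ∃ N', N = N' + 1 := ⟨N - 1, by omega⟩
        rw [hrho, Polynomial.coeff_C_mul, Polynomial.coeff_add, Polynomial.coeff_C_succ,
          Polynomial.coeff_X_mul, hb0 N' (by omega)]
        simp
      · rw [hrho, Polynomial.coeff_C_mul, Polynomial.coeff_add, Polynomial.coeff_C_succ,
          Polynomial.coeff_X_mul, zero_add, huu]
  obtain ⟨u, hw⟩ := hw
  have hJ := span_pair_congr q h h₀ hab
  have hIJ : II q ≤ Ideal.span {(X 0 * X 1 - C q : A), h₀} :=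
    Ideal.span_mono (by intro x hx; rw [Set.mem_singleton_iff] at hx; rw [hx]; simp)
  have hh₀J : h₀ ∈ Ideal.span {(X 0 * X 1 - C q : A), h₀} := Ideal.subset_span (by simp)
  have hPwi : ∀ i, Polynomial.aeval (π i) (Pw K π) = 0 := by
    intro i
    obtain ⟨R, hR⟩ : minpoly ℤ (π i) ∣ Pw K π :=
      Finset.dvd_prod_of_mem _ (Finset.mem_univ i)
    rw [hR, map_mul, minpoly.aeval, zero_mul]
  have hphih : ∀ i, phiC p e K π i h = 0 := by
    intro i
    have h1 := phiC_II p e K π i (hπ i) _ hhh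
    rw [map_sub, map_mul, map_pow, phiC_iF, hPwi, sub_zero] at h1
    rcases mul_eq_zero.1 h1 with h2 | h2
    · have : phiC p e K π i (X 0) = π i := by simp [phiC]
      rw [this] at h2
      exact absurd (pow_eq_zero_iff (n := D) (by
        intro hD0
        rw [hD0] at h2
        simp at h2) |>.1 h2) (hπ i)
    · exact h2
  constructor
  · apply le_antisymm
    · intro g hg
      rw [RingHom.mem_ker] at hg
      rw [hJ]
      obtain ⟨n, G, hG⟩ := clearing q g
      have hGi : ∀ i, Polynomial.aeval (π i) G = 0 := by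
        intro i
        have h1 := phiC_II p e K π i (hπ i) _ hG
        rw [map_sub, map_mul, phiC_iF] at h1
        have h2 : phiC p e K π i g = 0 := by
          rw [← phi_apply, hg]; rfl
        rw [h2, mul_zero, zero_sub, neg_eq_zero] at h1
        exact h1
      obtain ⟨S, hS⟩ := Pw_dvd hint hinj G hGi
      apply X0_pow_mul_mem q hq h₀ u hw n
      have : X 0 ^ n * g = (X 0 ^ n * g - Polynomial.aeval (X 0 : A) G) +
          (X 0 ^ D * h₀ - (X 0 ^ D * h₀ - Polynomial.aeval (X 0 : A) (Pw K π))) *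
            Polynomial.aeval (X 0 : A) S := by
        rw [hS, map_mul]; ring
      rw [this]
      exact Ideal.add_mem _ (hIJ hG) (Ideal.mul_mem_right _ _
        (Ideal.sub_mem _ (Ideal.mul_mem_left _ _ hh₀J) (hIJ hh₀')))
    · rw [Ideal.span_le]
      rintro x (rfl | hx)
      · rw [SetLike.mem_coe, RingHom.mem_ker]
        funext i
        rw [phi_apply, phiC_gen p e K π i (hπ i)]
        rfl
      · rw [Set.mem_singleton_iff] at hx
        rw [hx, SetLike.mem_coe, RingHom.mem_ker]
        funext i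
        rw [phi_apply, hphih i]
        rfl
  · have hgen0 : (X 0 * X 1 - C q : A) ≠ 0 := by
      intro h0
      have := congrArg (MvPolynomial.eval (fun _ => (0 : ℤ))) h0
      simp at this
      exact hq this
    have hprime := II_isPrime q hq
    have hnotin : h ∉ II q := by
      intro hmem
      have h1 : Polynomial.aeval (X 0 : A) (Pw K π) ∈ II q := by
        have : Polynomial.aeval (X 0 : A) (Pw K π) =
            X 0 ^ D * h - (X 0 ^ D * h - Polynomial.aeval (X 0 : A) (Pw K π)) := by ring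
        rw [this]
        exact Ideal.sub_mem _ (Ideal.mul_mem_left _ _ hmem) hhh
      rw [mem_II_iff q hq, eps_iF] at h1
      have := (IsFractionRing.injective (Polynomial ℤ) Q) (h1.trans (map_zero _).symm)
      exact hPm.ne_zero this
    rw [RingTheory.Sequence.isWeaklyRegular_cons_iff,
      RingTheory.Sequence.isWeaklyRegular_singleton_iff]
    constructor
    · intro x y hxy
      exact mul_left_cancel₀ hgen0 hxy
    · rw [isSMulRegular_iff_right_eq_zero_of_smul]
      intro x hx
      obtain ⟨g, rfl⟩ := Submodule.Quotient.mk_surjective _ x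
      rw [← Submodule.Quotient.mk_smul, Submodule.Quotient.mk_eq_zero,
        Submodule.mem_smul_pointwise_iff_exists] at hx
      obtain ⟨s, -, hs⟩ := hx
      have hmem : h * g ∈ II q := by
        rw [← smul_eq_mul h g, ← hs]
        exact Ideal.mul_mem_right _ _ (gen_mem q)
      rcases hprime.mem_or_mem hmem with h1 | h1
      · exact absurd h1 hnotin
      · obtain ⟨s', hs'⟩ := Ideal.mem_span_singleton.1 h1
        rw [Submodule.Quotient.mk_eq_zero, Submodule.mem_smul_pointwise_iff_exists]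
        exact ⟨s', Submodule.mem_top, hs'.symm⟩

end Main

end Groth.Agent.Lib.Helper19WeilNumC
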