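import Mathlib
import Groth.Agent.Lib.Helper19WeilNumC

/-!
# Modules over the minimal central order of a family of Weil numbers
-/

set_option autoImplicit false
set_option linter.unusedSectionVars false
universe u

namespace Groth.Agent.Lib.Helper19WeilNumD

open MvPolynomial Groth.Agent.Lib.Helper19WeilNumA Groth.Agent.Lib.Helper19WeilNumB
  Groth.Agent.Lib.Helper19WeilNumC

section

variable (p e : ℕ) [hp : Fact p.Prime]
  {ι : Type} [Fintype ι] {K : ι → Type u} [∀ i, Field (K i)] [∀ i, CharZero (K i)]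
  {π : ∀ i, K i}
  {T : Type} [AddCommGroup T] [Module.Finite ℤ T] [Module.Free ℤ T]

lemma injective_of_comp_eq (q : ℤ) (hq : q ≠ 0) (FT VT : T →ₗ[ℤ] T)
    (h : FT ∘ₗ VT = q • LinearMap.id) : Function.Injective FT := by
  have h1 := congrArg LinearMap.det h
  rw [LinearMap.det_comp, LinearMap.det_smul, LinearMap.det_id, mul_one] at h1
  have h2 : LinearMap.det FT ≠ 0 := by
    intro h0
    rw [h0, zero_mul] at h1
    exact pow_ne_zero _ hq h1.symm
  have h3 : LinearMap.ker FT = ⊥ := by
    by_contra hne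
    exact h2 (LinearMap.det_eq_zero_iff_ker_ne_bot.2 hne)
  exact LinearMap.ker_eq_bot.1 h3

open scoped IsMulCommutative in
include hp in
theorem exists_module (hint : ∀ i, IsIntegral ℤ (π i))
    (hweil : ∀ i, ∀ z ∈ (minpoly ℤ (π i)).aroots ℂ, ‖z‖ = Real.sqrt ((p : ℝ) ^ e))
    (hinj : ∀ i j, minpoly ℤ (π i) = minpoly ℤ (π j) → i = j)
    (D : ℕ) (hD : ∑ i, (minpoly ℤ (π i)).natDegree = 2 * D)
    (FT VT : T →ₗ[ℤ] T)
    (hP : Polynomial.aeval FT (∏ i, minpoly ℤ (π i)) = 0)
    (hFV : FT ∘ₗ VT = ((p : ℤ) ^ e) • LinearMap.id) :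
    ∃ _ : Module (phi p e K π).range T,
      ∀ t : T, (⟨phi p e K π (X 0), AlgHom.mem_range_self _ _⟩ : (phi p e K π).range) • t =
        FT t := by
  classical
  set q : ℤ := (p : ℤ) ^ e with hqdef
  have hq : q ≠ 0 := pow_ne_zero _ (by exact_mod_cast hp.out.ne_zero)
  have hFinj := injective_of_comp_eq q hq FT VT hFV
  have hFV' : FT * VT = q • (1 : Module.End ℤ T) := hFV
  -- `FT` and `VT` commute
  have hcommFV : FT * VT = VT * FT := by
    have h1 : FT * (VT * FT - FT * VT) = 0 := by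
      rw [mul_sub, ← mul_assoc, ← mul_assoc, hFV', mul_assoc, hFV', smul_mul_assoc,
        mul_smul_comm, one_mul, mul_one, sub_self]
    have h2 : VT * FT - FT * VT = 0 := by
      apply LinearMap.ext
      intro t
      apply hFinj
      have := LinearMap.congr_fun h1 t
      simpa using this
    exact (sub_eq_zero.1 h2).symm
  have hcomm : ∀ a ∈ ({FT, VT} : Set (Module.End ℤ T)), ∀ b ∈ ({FT, VT} : Set (Module.End ℤ T)),
      a * b = b * a := by
    rintro a (rfl | rfl) b (rfl | rfl)
    · rfl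
    · exact hcommFV
    · exact hcommFV.symm
    · rfl
  have hmc := Algebra.isMulCommutative_adjoin ℤ hcomm
  let Cc := Algebra.adjoin ℤ ({FT, VT} : Set (Module.End ℤ T))
  let fF : Cc := ⟨FT, Algebra.subset_adjoin (by simp)⟩
  let fV : Cc := ⟨VT, Algebra.subset_adjoin (by simp)⟩
  let Θ : A →ₐ[ℤ] Module.End ℤ T := Cc.val.comp (aeval ![fF, fV])
  have hΘ0 : Θ (X 0) = FT := by simp [Θ, fF]
  have hΘ1 : Θ (X 1) = VT := by simp [Θ, fV]
  have hΘgen : Θ (X 0 * X 1 - C q) = 0 := by
    rw [map_sub, map_mul, hΘ0, hΘ1, hFV']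
    have : Θ (C q) = q • (1 : Module.End ℤ T) := by
      rw [← algebraMap_eq, AlgHom.commutes, Algebra.algebraMap_eq_smul_one]
    rw [this, sub_self]
  have hΘiF : ∀ G : Polynomial ℤ, Θ (Polynomial.aeval (X 0 : A) G) = Polynomial.aeval FT G := by
    intro G
    rw [← Polynomial.aeval_algHom_apply, hΘ0]
  have hπ := pi_ne_zero p e hint hweil
  -- the kernel of `phi` is killed by `Θ`
  have hker : RingHom.ker ((phi p e K π).rangeRestrict : A →+* (phi p e K π).range) ≤
      RingHom.ker (Θ : A →+* Module.End ℤ T) := by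
    intro g hg
    rw [RingHom.mem_ker] at hg ⊢
    have hg' : phi p e K π g = 0 := by
      have := congrArg Subtype.val hg
      exact this
    obtain ⟨n, G, hG⟩ := clearing q g
    have hGi : ∀ i, Polynomial.aeval (π i) G = 0 := by
      intro i
      have h1 := phiC_II p e K π i (hπ i) _ hG
      rw [map_sub, map_mul, phiC_iF] at h1
      have h2 : phiC p e K π i g = 0 := by
        rw [← phi_apply, hg']; rfl
      rw [h2, mul_zero, zero_sub, neg_eq_zero] at h1
      exact h1
    obtain ⟨S, hS⟩ := Pw_dvd hint hinj G hGi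
    obtain ⟨s, hs⟩ := Ideal.mem_span_singleton.1 hG
    have h3 : Θ (X 0 ^ n * g) = 0 := by
      have : X 0 ^ n * g = (X 0 * X 1 - C q) * s + Polynomial.aeval (X 0 : A) G := by
        rw [← hs]; ring
      rw [this, map_add, map_mul, hΘgen, zero_mul, zero_add, hΘiF, hS, map_mul]
      unfold Pw
      rw [hP, zero_mul]
    rw [map_mul, map_pow, hΘ0] at h3
    change Θ g = 0
    apply LinearMap.ext
    intro t
    have h4 := LinearMap.congr_fun h3 t
    have hpowinj : Function.Injective (FT ^ n) := by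
      rw [Module.End.coe_pow]
      exact hFinj.iterate n
    apply hpowinj
    simpa using h4
  have hsurj : Function.Surjective ((phi p e K π).rangeRestrict : A →+* (phi p e K π).range) :=
    (phi p e K π).rangeRestrict_surjective
  let ψ : (phi p e K π).range →+* Module.End ℤ T :=
    RingHom.liftOfSurjective ((phi p e K π).rangeRestrict : A →+* (phi p e K π).range) hsurj
      ⟨(Θ : A →+* Module.End ℤ T), hker⟩
  have hψ : ∀ g : A, ψ ((phi p e K π).rangeRestrict g) = Θ g := by
    intro g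
    exact RingHom.liftOfRightInverse_comp_apply _ _ _ ⟨(Θ : A →+* Module.End ℤ T), hker⟩ g
  refine ⟨Module.compHom T ψ, ?_⟩
  intro t
  let _ := Module.compHom T ψ
  change ψ ((phi p e K π).rangeRestrict (X 0)) t = FT t
  rw [hψ, hΘ0]

include hp in
theorem of_module (hint : ∀ i, IsIntegral ℤ (π i))
    (hweil : ∀ i, ∀ z ∈ (minpoly ℤ (π i)).aroots ℂ, ‖z‖ = Real.sqrt ((p : ℝ) ^ e))
    (inst : Module (phi p e K π).range T) (FT : T →ₗ[ℤ] T)
    (hF : ∀ t : T, (⟨phi p e K π (X 0), AlgHom.mem_range_self _ _⟩ : (phi p e K π).range) • t =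
      FT t) :
    Polynomial.aeval FT (∏ i, minpoly ℤ (π i)) = 0 ∧
      ∃ VT : T →ₗ[ℤ] T, FT ∘ₗ VT = ((p : ℤ) ^ e) • LinearMap.id := by
  have hπ := pi_ne_zero p e hint hweil
  let ψ : (phi p e K π).range →+* Module.End ℤ T :=
    (addMonoidEndRingEquivInt T).toRingHom.comp (Module.toAddMonoidEnd (phi p e K π).range T)
  have hψ : ∀ (r : (phi p e K π).range) (t : T), ψ r t = r • t := fun r t => rfl
  let ψa : (phi p e K π).range →ₐ[ℤ] Module.End ℤ T := ψ.toIntAlgHom
  have hψa : ∀ r, ψa r = ψ r := fun r => rfl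
  have hψF : ψa ((phi p e K π).rangeRestrict (X 0)) = FT := by
    apply LinearMap.ext
    intro t
    rw [hψa, hψ]
    exact hF t
  have hPwi : ∀ i, Polynomial.aeval (π i) (∏ i, minpoly ℤ (π i)) = 0 := by
    intro i
    obtain ⟨R, hR⟩ : minpoly ℤ (π i) ∣ ∏ i, minpoly ℤ (π i) :=
      Finset.dvd_prod_of_mem _ (Finset.mem_univ i)
    rw [hR, map_mul, minpoly.aeval, zero_mul]
  constructor
  · rw [← hψF, Polynomial.aeval_algHom_apply, Polynomial.aeval_algHom_apply]
    have : (phi p e K π).rangeRestrict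
        (Polynomial.aeval (X 0 : A) (∏ i, minpoly ℤ (π i))) = 0 := by
      apply Subtype.ext
      change phi p e K π (Polynomial.aeval (X 0 : A) (∏ i, minpoly ℤ (π i))) = 0
      funext i
      rw [phi_apply, phiC_iF, hPwi]
      rfl
    rw [this, map_zero]
  · refine ⟨ψa ((phi p e K π).rangeRestrict (X 1)), ?_⟩
    rw [← hψF]
    change ψa _ * ψa _ = _
    rw [← map_mul, ← map_mul]
    have : (phi p e K π).rangeRestrict (X 0 * X 1) =
        (phi p e K π).rangeRestrict (C ((p : ℤ) ^ e)) := by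
      apply Subtype.ext
      change phi p e K π (X 0 * X 1) = phi p e K π (C ((p : ℤ) ^ e))
      rw [← sub_eq_zero, ← map_sub]
      funext i
      rw [phi_apply, phiC_gen p e K π i (hπ i)]
      rfl
    rw [this, ← algebraMap_eq, AlgHom.commutes, AlgHom.commutes, Algebra.algebraMap_eq_smul_one]
    rfl

end

end Groth.Agent.Lib.Helper19WeilNumD
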