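import Mathlib
import Groth.Agent.Lib.Helper19WeilNumC

/-!
# The functional equation of a Weil polynomial and the symmetric polynomial `h`
-/

set_option autoImplicit false
set_option linter.unusedSectionVars false
universe u

namespace Groth.Agent.Lib.Helper19WeilNumE

open MvPolynomial Groth.Agent.Lib.Helper19WeilNumA Groth.Agent.Lib.Helper19WeilNumB
  Groth.Agent.Lib.Helper19WeilNumC

section FuncEq

/-- the multiset of complex roots of an integral polynomial is stable under `z ↦ q / z` when all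
roots have absolute value `√q` -/
lemma roots_map_div (P : Polynomial ℤ) (hP : P.Monic) (q : ℝ) (hq : 0 < q)
    (hroots : ∀ z ∈ P.aroots ℂ, ‖z‖ = Real.sqrt q) :
    (P.aroots ℂ).map (fun z => (q : ℂ) / z) = P.aroots ℂ := by
  set Pc := P.map (algebraMap ℤ ℂ) with hPc
  have hs : Pc.Splits := IsAlgClosed.splits Pc
  have hcard : Multiset.card Pc.roots = Pc.natDegree := hs.natDegree_eq_card_roots.symm
  have h1 := Polynomial.roots_map_of_injective_of_card_eq_natDegree
    (f := starRingEnd ℂ) (starRingEnd ℂ).injective hcard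
  have h2 : Pc.map (starRingEnd ℂ) = Pc := by
    rw [hPc, Polynomial.map_map]
    congr 1
    exact RingHom.ext_int _ _
  rw [h2] at h1
  have h3 : P.aroots ℂ = Pc.roots := rfl
  rw [h3]
  conv_rhs => rw [← h1]
  apply Multiset.map_congr rfl
  intro z hz
  have hn := hroots z hz
  have hz0 : z ≠ 0 := by
    intro h0
    rw [h0, norm_zero] at hn
    exact (Real.sqrt_pos.2 hq).ne hn
  rw [div_eq_iff hz0]
  have h4 : (starRingEnd ℂ) z * z = ((‖z‖ ^ 2 : ℝ) : ℂ) := by
    rw [mul_comm, Complex.mul_conj, Complex.normSq_eq_norm_sq]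
  rw [h4, hn, Real.sq_sqrt hq.le]

/-- pointwise functional equation -/
lemma eval_funcEq (P : Polynomial ℤ) (hP : P.Monic) (q : ℝ) (hq : 0 < q)
    (hroots : ∀ z ∈ P.aroots ℂ, ‖z‖ = Real.sqrt q) (x : ℂ) (hx : x ≠ 0) :
    x ^ P.natDegree * (P.map (algebraMap ℤ ℂ)).eval ((q : ℂ) / x) =
      (P.map (algebraMap ℤ ℂ)).eval 0 * (P.map (algebraMap ℤ ℂ)).eval x := by
  set Pc := P.map (algebraMap ℤ ℂ) with hPc
  have hm : Pc.Monic := hP.map _
  have hs : Pc.Splits := IsAlgClosed.splits Pc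
  have hN : Pc.natDegree = P.natDegree := hP.natDegree_map _
  have hcard : Multiset.card Pc.roots = P.natDegree := by
    rw [← hs.natDegree_eq_card_roots, hN]
  have hinv := roots_map_div P hP q hq hroots
  have h3 : P.aroots ℂ = Pc.roots := rfl
  rw [h3] at hinv
  have hz0 : ∀ z ∈ Pc.roots, z ≠ 0 := by
    intro z hz h0
    have hn := hroots z hz
    rw [h0, norm_zero] at hn
    exact (Real.sqrt_pos.2 hq).ne hn
  rw [hs.eval_eq_prod_roots_of_monic hm, hs.eval_eq_prod_roots_of_monic hm,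
    hs.eval_eq_prod_roots_of_monic hm]
  have hxN : x ^ P.natDegree = (Pc.roots.map (fun _ => x)).prod := by
    rw [Multiset.map_const', Multiset.prod_replicate, hcard]
  have hR : (Pc.roots.map (fun z => x - z)).prod =
      (Pc.roots.map (fun z => x - (q : ℂ) / z)).prod := by
    conv_lhs => rw [← hinv]
    rw [Multiset.map_map]
    rfl
  rw [hR, hxN, ← Multiset.prod_map_mul, ← Multiset.prod_map_mul]
  congr 1
  apply Multiset.map_congr rfl
  intro z hz
  have := hz0 z hz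
  field_simp
  ring

/-- coefficientwise functional equation -/
lemma coeff_funcEq (P : Polynomial ℤ) (hP : P.Monic) (Q : ℤ) (hQ : 0 < Q)
    (hroots : ∀ z ∈ P.aroots ℂ, ‖z‖ = Real.sqrt (Q : ℝ)) (j : ℕ) (hj : j ≤ P.natDegree) :
    P.coeff (P.natDegree - j) * Q ^ (P.natDegree - j) = P.coeff 0 * P.coeff j := by
  set N := P.natDegree with hN
  have hq : (0 : ℝ) < (Q : ℝ) := by exact_mod_cast hQ
  set T : Polynomial ℤ :=
    ∑ k ∈ Finset.range (N + 1), Polynomial.C (P.coeff (N - k) * Q ^ (N - k)) * Polynomial.X ^ k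
    with hT
  have hTU : T = Polynomial.C (P.coeff 0) * P := by
    apply Polynomial.map_injective (algebraMap ℤ ℂ) (algebraMap ℤ ℂ).injective_int
    apply Polynomial.eq_of_infinite_eval_eq
    apply Set.Infinite.mono (s := ({0}ᶜ : Set ℂ))
    · intro x hx
      have hx0 : x ≠ 0 := hx
      show Polynomial.eval x _ = Polynomial.eval x _
      have h1 := eval_funcEq P hP (Q : ℝ) hq hroots x hx0
      rw [Polynomial.map_mul, Polynomial.eval_mul, Polynomial.map_C, Polynomial.eval_C]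
      have h2 : (Polynomial.map (algebraMap ℤ ℂ) P).eval 0 = algebraMap ℤ ℂ (P.coeff 0) := by
        rw [← Polynomial.coeff_zero_eq_eval_zero, Polynomial.coeff_map]
      rw [h2] at h1
      rw [← h1]
      have hR : (Polynomial.map (algebraMap ℤ ℂ) P).eval (((Q : ℝ) : ℂ) / x) =
          ∑ i ∈ Finset.range (N + 1), algebraMap ℤ ℂ (P.coeff i) * (((Q : ℝ) : ℂ) / x) ^ i := by
        rw [Polynomial.eval_map, Polynomial.eval₂_eq_sum_range]
      rw [hR, Finset.mul_sum]
      rw [hT, Polynomial.map_sum, Polynomial.eval_finset_sum]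
      rw [← Finset.sum_range_reflect]
      apply Finset.sum_congr rfl
      intro k hk
      rw [Finset.mem_range] at hk
      have hkN : N + 1 - 1 - k = N - k := by omega
      have hkk : N - (N - k) = k := by omega
      rw [hkN, hkk]
      rw [Polynomial.map_mul, Polynomial.map_C, Polynomial.map_pow, Polynomial.map_X,
        Polynomial.eval_mul, Polynomial.eval_C, Polynomial.eval_pow, Polynomial.eval_X]
      have hxN : x ^ N = x ^ (N - k) * x ^ k := by
        rw [← pow_add]; congr 1; omega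
      rw [hxN, div_pow]
      simp only [eq_intCast, Int.cast_mul, Int.cast_pow, Complex.ofReal_intCast]
      field_simp
    · exact (Set.finite_singleton (0 : ℂ)).infinite_compl
  have h1 := congrArg (fun p => Polynomial.coeff p j) hTU
  simp only [hT, Polynomial.finsetSum_coeff, Polynomial.coeff_C_mul_X_pow] at h1
  rw [Finset.sum_ite_eq, if_pos (Finset.mem_range.2 (by omega)), Polynomial.coeff_C_mul] at h1
  exact h1

end FuncEq

section Hpoly

/-- the symmetric polynomial `h` attached to a polynomial with a functional equation -/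
noncomputable def hpoly (P : Polynomial ℤ) (ε : ℤ) (D : ℕ) : A :=
  ∑ k ∈ Finset.range (D + 1), C (P.coeff (D + k)) * X 0 ^ k +
    ∑ i ∈ Finset.range D, C (ε * P.coeff (2 * D - i)) * X 1 ^ (D - i)

lemma hpoly_mem (q : ℤ) (P : Polynomial ℤ) (ε : ℤ) (D : ℕ) (hdeg : P.natDegree ≤ 2 * D)
    (hlow : ∀ i, i < D → P.coeff i = ε * q ^ (D - i) * P.coeff (2 * D - i)) :
    X 0 ^ D * hpoly P ε D - Polynomial.aeval (X 0 : A) P ∈ II q := by
  have h1 : Polynomial.aeval (X 0 : A) P = ∑ i ∈ Finset.range D, C (P.coeff i) * X 0 ^ i +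
      ∑ k ∈ Finset.range (D + 1), C (P.coeff (D + k)) * X 0 ^ (D + k) := by
    rw [Polynomial.aeval_eq_sum_range' (n := D + (D + 1)) (by omega), Finset.sum_range_add]
    simp only [smul_eq_C_mul]
  have h2 : X 0 ^ D * hpoly P ε D =
      ∑ k ∈ Finset.range (D + 1), C (P.coeff (D + k)) * X 0 ^ (D + k) +
      ∑ i ∈ Finset.range D, C (ε * P.coeff (2 * D - i)) * (X 0 ^ D * X 1 ^ (D - i)) := by
    unfold hpoly
    rw [mul_add, Finset.mul_sum, Finset.mul_sum]
    congr 1
    · apply Finset.sum_congr rfl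
      intro k _
      rw [pow_add]; ring
    · apply Finset.sum_congr rfl
      intro i _
      ring
  have h3 : X 0 ^ D * hpoly P ε D - Polynomial.aeval (X 0 : A) P =
      ∑ i ∈ Finset.range D, (C (ε * P.coeff (2 * D - i)) * X 0 ^ i) *
        ((X 0 * X 1) ^ (D - i) - (C q) ^ (D - i)) := by
    rw [h1, h2]
    have : ∀ (S1 S2 S3 : A), (S1 + S2) - (S3 + S1) = S2 - S3 := by intros; ring
    rw [this, ← Finset.sum_sub_distrib]
    apply Finset.sum_congr rfl
    intro i hi
    rw [Finset.mem_range] at hi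
    have hDi : (X 0 : A) ^ D = X 0 ^ i * X 0 ^ (D - i) := by
      rw [← pow_add]; congr 1; omega
    rw [hlow i hi, hDi]
    simp only [map_mul, map_pow]
    ring
  rw [h3]
  apply Ideal.sum_mem
  intro i _
  apply Ideal.mul_mem_left
  exact Ideal.mem_span_singleton.2 (sub_dvd_pow_sub_pow _ _ _)

/-- `q / x` is again a root -/
lemma aeval_div_eq_zero (P : Polynomial ℤ) (Q : ℤ)
    (hfe : ∀ j, j ≤ P.natDegree →
      P.coeff (P.natDegree - j) * Q ^ (P.natDegree - j) = P.coeff 0 * P.coeff j)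
    (h0 : P.coeff 0 ≠ 0) {L : Type*} [Field L] [CharZero L] (x : L) (hx : x ≠ 0)
    (hPx : Polynomial.aeval x P = 0) : Polynomial.aeval ((Q : L) / x) P = 0 := by
  set N := P.natDegree with hN
  have key : (P.coeff 0 : L) * Polynomial.aeval ((Q : L) / x) P * x ^ N =
      (Q : L) ^ N * Polynomial.aeval x P := by
    rw [Polynomial.aeval_eq_sum_range, Polynomial.aeval_eq_sum_range, ← hN, Finset.mul_sum,
      Finset.sum_mul, Finset.mul_sum]
    rw [← Finset.sum_range_reflect]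
    apply Finset.sum_congr rfl
    intro k hk
    rw [Finset.mem_range] at hk
    have hkN : N + 1 - 1 - k = N - k := by omega
    have hkk : N - (N - k) = k := by omega
    rw [hkN]
    have h1 := hfe (N - k) (by omega)
    rw [hkk] at h1
    have h2 : (P.coeff k : L) * (Q : L) ^ k = (P.coeff 0 : L) * (P.coeff (N - k) : L) := by
      exact_mod_cast h1
    have hxN : x ^ N = x ^ (N - k) * x ^ k := by
      rw [← pow_add]; congr 1; omega
    have hQN : (Q : L) ^ N = (Q : L) ^ (N - k) * (Q : L) ^ k := by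
      rw [← pow_add]; congr 1; omega
    rw [zsmul_eq_mul, zsmul_eq_mul, div_pow, hxN]
    have h3 := hfe k (by omega)
    have h4 : (P.coeff (N - k) : L) * (Q : L) ^ (N - k) = (P.coeff 0 : L) * (P.coeff k : L) := by
      exact_mod_cast h3
    have hxk : x ^ (N - k) ≠ 0 := pow_ne_zero _ hx
    have e1 : (Q : L) ^ (N - k) / x ^ (N - k) * (x ^ (N - k) * x ^ k) =
        (Q : L) ^ (N - k) * x ^ k := by
      field_simp
    calc (P.coeff 0 : L) * ((P.coeff (N - k) : L) * ((Q : L) ^ (N - k) / x ^ (N - k))) *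
          (x ^ (N - k) * x ^ k)
        = (P.coeff 0 : L) * (P.coeff (N - k) : L) *
            ((Q : L) ^ (N - k) / x ^ (N - k) * (x ^ (N - k) * x ^ k)) := by ring
      _ = (P.coeff 0 : L) * (P.coeff (N - k) : L) * ((Q : L) ^ (N - k) * x ^ k) := by rw [e1]
      _ = ((P.coeff k : L) * (Q : L) ^ k) * ((Q : L) ^ (N - k) * x ^ k) := by rw [h2]
      _ = (Q : L) ^ N * ((P.coeff k : L) * x ^ k) := by rw [hQN]; ring
  rw [hPx, mul_zero] at key
  have h0' : (P.coeff 0 : L) ≠ 0 := by exact_mod_cast h0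
  rcases mul_eq_zero.1 key with h | h
  · rcases mul_eq_zero.1 h with h' | h'
    · exact absurd h' h0'
    · exact h'
  · exact absurd (pow_eq_zero_iff (n := N) (by
      intro hN0
      rw [hN0] at h
      simp at h) |>.1 h) hx

end Hpoly

section Family

variable (p e : ℕ) [hp : Fact p.Prime]
  {ι : Type} [Fintype ι] {K : ι → Type u} [∀ i, Field (K i)] [∀ i, CharZero (K i)]
  {π : ∀ i, K i}

lemma Pw_roots (hint : ∀ i, IsIntegral ℤ (π i))
    (hweil : ∀ i, ∀ z ∈ (minpoly ℤ (π i)).aroots ℂ, ‖z‖ = Real.sqrt ((p : ℝ) ^ e)) :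
    ∀ z ∈ (Pw K π).aroots ℂ, ‖z‖ = Real.sqrt ((((p : ℤ) ^ e : ℤ)) : ℝ) := by
  intro z hz
  have hcast : ((((p : ℤ) ^ e : ℤ)) : ℝ) = (p : ℝ) ^ e := by push_cast; rfl
  rw [hcast]
  rw [Polynomial.mem_aroots] at hz
  obtain ⟨-, hz⟩ := hz
  unfold Pw at hz
  rw [map_prod, Finset.prod_eq_zero_iff] at hz
  obtain ⟨i, -, hi⟩ := hz
  apply hweil i z
  rw [Polynomial.mem_aroots]
  exact ⟨(minpoly.monic (hint i)).ne_zero, hi⟩

include hp in
lemma Pw_funcEq (hint : ∀ i, IsIntegral ℤ (π i))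
    (hweil : ∀ i, ∀ z ∈ (minpoly ℤ (π i)).aroots ℂ, ‖z‖ = Real.sqrt ((p : ℝ) ^ e))
    (j : ℕ) (hj : j ≤ (Pw K π).natDegree) :
    (Pw K π).coeff ((Pw K π).natDegree - j) * ((p : ℤ) ^ e) ^ ((Pw K π).natDegree - j) =
      (Pw K π).coeff 0 * (Pw K π).coeff j := by
  have hq : (0 : ℤ) < (p : ℤ) ^ e := by
    have : (0 : ℤ) < p := by exact_mod_cast hp.out.pos
    positivity
  exact coeff_funcEq (Pw K π) (Pw_monic hint) _ hq (Pw_roots p e hint hweil) j hj

include hp in
lemma exists_eps (hint : ∀ i, IsIntegral ℤ (π i))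
    (hweil : ∀ i, ∀ z ∈ (minpoly ℤ (π i)).aroots ℂ, ‖z‖ = Real.sqrt ((p : ℝ) ^ e))
    (D : ℕ) (hD : ∑ i, (minpoly ℤ (π i)).natDegree = 2 * D) :
    ∃ ε : ℤ, (Pw K π).coeff 0 = ε * ((p : ℤ) ^ e) ^ D ∧
      ∀ i, i < D → (Pw K π).coeff i =
        ε * ((p : ℤ) ^ e) ^ (D - i) * (Pw K π).coeff (2 * D - i) := by
  set q : ℤ := (p : ℤ) ^ e with hqdef
  have hq : q ≠ 0 := pow_ne_zero _ (by exact_mod_cast hp.out.ne_zero)
  have hN : (Pw K π).natDegree = 2 * D := by rw [Pw_natDegree hint, hD]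
  have key : ∀ ε : ℤ, ε * ε = 1 → (Pw K π).coeff 0 = ε * q ^ D →
      ∀ i, i < D → (Pw K π).coeff i = ε * q ^ (D - i) * (Pw K π).coeff (2 * D - i) := by
    intro ε hε h0 i hi
    have h1 := Pw_funcEq p e hint hweil i (by omega)
    rw [hN, h0] at h1
    have h2 : q ^ (2 * D - i) = q ^ D * q ^ (D - i) := by
      rw [← pow_add]; congr 1; omega
    rw [h2] at h1
    have hqD : q ^ D ≠ 0 := pow_ne_zero _ hq
    apply mul_left_cancel₀ hqD
    calc q ^ D * (Pw K π).coeff i = ε * (ε * q ^ D * (Pw K π).coeff i) := by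
          rw [← mul_assoc, ← mul_assoc, hε, one_mul]
      _ = ε * ((Pw K π).coeff (2 * D - i) * (q ^ D * q ^ (D - i))) := by rw [h1]
      _ = q ^ D * (ε * q ^ (D - i) * (Pw K π).coeff (2 * D - i)) := by ring
  rcases Pw_coeff_zero p e hint hweil D hD with h1 | h1
  · exact ⟨1, by rw [h1, one_mul], key 1 (by norm_num) (by rw [h1, one_mul])⟩
  · exact ⟨-1, by rw [h1]; ring, key (-1) (by norm_num) (by rw [h1]; ring)⟩

include hp in
/-- existence of the polynomial `h` -/
theorem exists_h (hint : ∀ i, IsIntegral ℤ (π i))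
    (hweil : ∀ i, ∀ z ∈ (minpoly ℤ (π i)).aroots ℂ, ‖z‖ = Real.sqrt ((p : ℝ) ^ e))
    (D : ℕ) (hD : ∑ i, (minpoly ℤ (π i)).natDegree = 2 * D) :
    ∃ h : A, X 0 ^ D * h - Polynomial.aeval (X 0 : A) (Pw K π) ∈ II ((p : ℤ) ^ e) := by
  obtain ⟨ε, -, hlow⟩ := exists_eps p e hint hweil D hD
  have hN : (Pw K π).natDegree = 2 * D := by rw [Pw_natDegree hint, hD]
  exact ⟨hpoly (Pw K π) ε D, hpoly_mem _ _ ε D hN.le hlow⟩

include hp in
/-- `q / π_i` is a root of `P_w` -/
theorem Pw_aeval_div (hint : ∀ i, IsIntegral ℤ (π i))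
    (hweil : ∀ i, ∀ z ∈ (minpoly ℤ (π i)).aroots ℂ, ‖z‖ = Real.sqrt ((p : ℝ) ^ e))
    (D : ℕ) (hD : ∑ i, (minpoly ℤ (π i)).natDegree = 2 * D) (i : ι) :
    Polynomial.aeval (((p : K i) ^ e) / π i) (Pw K π) = 0 := by
  have hq : ((p : ℤ) ^ e) ≠ 0 := pow_ne_zero _ (by exact_mod_cast hp.out.ne_zero)
  have h0 : (Pw K π).coeff 0 ≠ 0 := by
    rcases Pw_coeff_zero p e hint hweil D hD with h1 | h1
    · rw [h1]; exact pow_ne_zero _ hq
    · rw [h1]; exact neg_ne_zero.2 (pow_ne_zero _ hq)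
  have hPi : Polynomial.aeval (π i) (Pw K π) = 0 := by
    obtain ⟨R, hR⟩ : minpoly ℤ (π i) ∣ Pw K π :=
      Finset.dvd_prod_of_mem _ (Finset.mem_univ i)
    rw [hR, map_mul, minpoly.aeval, zero_mul]
  have := aeval_div_eq_zero (Pw K π) ((p : ℤ) ^ e) (fun j hj => Pw_funcEq p e hint hweil j hj)
    h0 (π i) (pi_ne_zero p e hint hweil i) hPi
  have hc : ((((p : ℤ) ^ e : ℤ)) : K i) = (p : K i) ^ e := by push_cast; rfl
  rw [hc] at this
  exact this

end Family

end Groth.Agent.Lib.Helper19WeilNumE
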