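import Mathlib
import Groth.Agent.Lib.Helper19WeilNumE
import Groth.Agent.Lib.Helper5GorRing
import Groth.Agent.Lib.Helper5KoszulGor
import Groth.Agent.Lib.Helper5IntDim

/-!
# The minimal central order: freeness, rank, dimension, Gorenstein property
-/

set_option autoImplicit false
set_option linter.unusedSectionVars false
universe u

namespace Groth.Agent.Lib.Helper19WeilNumF

open MvPolynomial Groth.Agent.Lib.Helper19WeilNumA Groth.Agent.Lib.Helper19WeilNumB
  Groth.Agent.Lib.Helper19WeilNumC Groth.Agent.Lib.Helper19WeilNumE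

section Rank

/-- equal ranks when the quotient is torsion -/
lemma finrank_eq_of_torsion {T : Type*} [AddCommGroup T] (S R : Submodule ℤ T) (hle : S ≤ R)
    (htors : ∀ r ∈ R, ∃ a : ℤ, a ≠ 0 ∧ a • r ∈ S) :
    Module.finrank ℤ S = Module.finrank ℤ R := by
  let N : Submodule ℤ R := Submodule.comap R.subtype S
  have e : N ≃ₗ[ℤ] S := Submodule.comapSubtypeEquivOfLe hle
  have h0 : Module.rank ℤ (R ⧸ N) = 0 := by
    rw [rank_eq_zero_iff]
    intro x
    obtain ⟨r, rfl⟩ := Submodule.Quotient.mk_surjective _ x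
    obtain ⟨a, ha, har⟩ := htors r.1 r.2
    refine ⟨a, ha, ?_⟩
    rw [← Submodule.Quotient.mk_smul, Submodule.Quotient.mk_eq_zero]
    exact har
  have h1 := rank_quotient_add_rank_of_isDomain N
  rw [h0, zero_add] at h1
  unfold Module.finrank
  rw [← h1, e.rank_eq]

end Rank

section Family

variable (p e : ℕ) [hp : Fact p.Prime]
  {ι : Type} [Fintype ι] (K : ι → Type u) [∀ i, Field (K i)] [∀ i, CharZero (K i)]
  (π : ∀ i, K i)

lemma aeval_pi (x : (i : ι) → K i) (G : Polynomial ℤ) (i : ι) :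
    (Polynomial.aeval x G) i = Polynomial.aeval (x i) G :=
  (Polynomial.aeval_algHom_apply (Pi.evalAlgHom ℤ K i) x G).symm

variable {K π}

lemma Pw_aeval_pi (i : ι) : Polynomial.aeval (π i) (Pw K π) = 0 := by
  obtain ⟨R, hR⟩ : minpoly ℤ (π i) ∣ Pw K π :=
    Finset.dvd_prod_of_mem _ (Finset.mem_univ i)
  rw [hR, map_mul, minpoly.aeval, zero_mul]

lemma Pw_aeval_F : Polynomial.aeval (fun i => π i : (i : ι) → K i) (Pw K π) = 0 := by
  funext i
  rw [aeval_pi]
  exact Pw_aeval_pi i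

lemma isIntegral_F (hint : ∀ i, IsIntegral ℤ (π i)) :
    IsIntegral ℤ (fun i => π i : (i : ι) → K i) :=
  ⟨Pw K π, Pw_monic hint, by rw [← Polynomial.aeval_def]; exact Pw_aeval_F⟩

include hp in
lemma isIntegral_V (hint : ∀ i, IsIntegral ℤ (π i))
    (hweil : ∀ i, ∀ z ∈ (minpoly ℤ (π i)).aroots ℂ, ‖z‖ = Real.sqrt ((p : ℝ) ^ e))
    (D : ℕ) (hD : ∑ i, (minpoly ℤ (π i)).natDegree = 2 * D) :
    IsIntegral ℤ (fun i => ((p : K i) ^ e) / π i : (i : ι) → K i) := by
  refine ⟨Pw K π, Pw_monic hint, ?_⟩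
  rw [← Polynomial.aeval_def]
  funext i
  rw [aeval_pi]
  exact Pw_aeval_div p e hint hweil D hD i

include hp in
lemma finite_range (hint : ∀ i, IsIntegral ℤ (π i))
    (hweil : ∀ i, ∀ z ∈ (minpoly ℤ (π i)).aroots ℂ, ‖z‖ = Real.sqrt ((p : ℝ) ^ e))
    (D : ℕ) (hD : ∑ i, (minpoly ℤ (π i)).natDegree = 2 * D) :
    Module.Finite ℤ (phi p e K π).range := by
  unfold phi
  rw [aeval_range]
  apply Algebra.finite_adjoin_of_finite_of_isIntegral (Set.finite_range _)
  rintro _ ⟨k, rfl⟩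
  fin_cases k
  · exact isIntegral_F hint
  · exact isIntegral_V p e hint hweil D hD

lemma torsionFree_range : Module.IsTorsionFree ℤ (phi p e K π).range := by
  have : Module.IsTorsionFree ℤ ((i : ι) → K i) := inferInstance
  exact Function.Injective.moduleIsTorsionFree (fun x : (phi p e K π).range => (x : (i : ι) → K i))
    Subtype.val_injective (fun _ _ => rfl)

include hp in
lemma free_range (hint : ∀ i, IsIntegral ℤ (π i))
    (hweil : ∀ i, ∀ z ∈ (minpoly ℤ (π i)).aroots ℂ, ‖z‖ = Real.sqrt ((p : ℝ) ^ e))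
    (D : ℕ) (hD : ∑ i, (minpoly ℤ (π i)).natDegree = 2 * D) :
    Module.Free ℤ (phi p e K π).range := by
  have h1 := finite_range p e hint hweil D hD
  have h2 := torsionFree_range p e (K := K) (π := π)
  exact Module.free_of_finite_type_torsion_free'

/-- the kernel of `ℤ[x] → ∏ K_i`, `x ↦ (π_i)` -/
lemma ker_aeval_F (hint : ∀ i, IsIntegral ℤ (π i))
    (hinj : ∀ i j, minpoly ℤ (π i) = minpoly ℤ (π j) → i = j) :
    RingHom.ker (Polynomial.aeval (R := ℤ) (fun i => π i : (i : ι) → K i)) =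
      Ideal.span {Pw K π} := by
  apply le_antisymm
  · intro G hG
    rw [RingHom.mem_ker] at hG
    rw [Ideal.mem_span_singleton]
    apply Pw_dvd hint hinj
    intro i
    rw [← aeval_pi, hG]
    rfl
  · rw [Ideal.span_le, Set.singleton_subset_iff, SetLike.mem_coe, RingHom.mem_ker]
    exact Pw_aeval_F

lemma finrank_adjoin_F (hint : ∀ i, IsIntegral ℤ (π i))
    (hinj : ∀ i j, minpoly ℤ (π i) = minpoly ℤ (π j) → i = j) :
    Module.finrank ℤ (Polynomial.aeval (R := ℤ) (fun i => π i : (i : ι) → K i)).range =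
      (Pw K π).natDegree := by
  have e1 := Ideal.quotientKerEquivRange (Polynomial.aeval (R := ℤ) (fun i => π i : (i : ι) → K i))
  have e2 : (Polynomial ℤ ⧸ RingHom.ker (Polynomial.aeval (R := ℤ) (fun i => π i : (i : ι) → K i)))
      ≃ₐ[ℤ] AdjoinRoot (Pw K π) :=
    Ideal.quotientEquivAlgOfEq ℤ (ker_aeval_F hint hinj)
  rw [← e1.toLinearEquiv.finrank_eq, e2.toLinearEquiv.finrank_eq,
    (AdjoinRoot.powerBasis' (Pw_monic hint)).finrank, AdjoinRoot.powerBasis'_dim]

include hp in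
lemma finrank_range (hint : ∀ i, IsIntegral ℤ (π i))
    (hweil : ∀ i, ∀ z ∈ (minpoly ℤ (π i)).aroots ℂ, ‖z‖ = Real.sqrt ((p : ℝ) ^ e))
    (hinj : ∀ i j, minpoly ℤ (π i) = minpoly ℤ (π j) → i = j)
    (D : ℕ) (hD : ∑ i, (minpoly ℤ (π i)).natDegree = 2 * D) :
    Module.finrank ℤ (phi p e K π).range = 2 * D := by
  set q : ℤ := (p : ℤ) ^ e with hqdef
  have hq : q ≠ 0 := pow_ne_zero _ (by exact_mod_cast hp.out.ne_zero)
  have hπ := pi_ne_zero p e hint hweil
  set Fv : (i : ι) → K i := fun i => π i with hFv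
  set S0 := (Polynomial.aeval (R := ℤ) Fv).range with hS0
  set R0 := (phi p e K π).range with hR0
  have hphiF : ∀ G : Polynomial ℤ, phi p e K π (Polynomial.aeval (X 0 : A) G) =
      Polynomial.aeval Fv G := by
    intro G
    funext i
    rw [phi_apply, phiC_iF, aeval_pi]
  have hle : Subalgebra.toSubmodule S0 ≤ Subalgebra.toSubmodule R0 := by
    rintro _ ⟨G, rfl⟩
    exact ⟨Polynomial.aeval (X 0 : A) G, hphiF G⟩
  have h0 : (Pw K π).coeff 0 ≠ 0 := by
    rcases Pw_coeff_zero p e hint hweil D hD with h1 | h1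
    · rw [h1]; exact pow_ne_zero _ hq
    · rw [h1]; exact neg_ne_zero.2 (pow_ne_zero _ hq)
  -- `a_0 = - u F` with `u ∈ S0`
  set u : (i : ι) → K i := Polynomial.aeval Fv (Pw K π).divX with hu
  have hu0 : algebraMap ℤ ((i : ι) → K i) ((Pw K π).coeff 0) = - (u * Fv) := by
    have h1 : Polynomial.aeval Fv (Pw K π) = 0 := Pw_aeval_F
    rw [← Polynomial.divX_mul_X_add (Pw K π), map_add, map_mul, Polynomial.aeval_X,
      Polynomial.aeval_C] at h1
    rw [eq_neg_iff_add_eq_zero, add_comm]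
    exact h1
  have htors : ∀ r ∈ Subalgebra.toSubmodule R0, ∃ a : ℤ, a ≠ 0 ∧
      a • r ∈ Subalgebra.toSubmodule S0 := by
    rintro _ ⟨g, rfl⟩
    obtain ⟨n, G, hG⟩ := clearing q g
    have h1 : Fv ^ n * phi p e K π g = Polynomial.aeval Fv G := by
      funext i
      have h2 := phiC_II p e K π i (hπ i) _ hG
      rw [map_sub, map_mul, map_pow, phiC_iF, sub_eq_zero] at h2
      have h4 : phiC p e K π i (X 0) = Fv i := by simp [phiC, hFv]
      rw [aeval_pi, ← h2, Pi.mul_apply, Pi.pow_apply, phi_apply, h4]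
    refine ⟨((Pw K π).coeff 0) ^ n, pow_ne_zero _ h0, ?_⟩
    have h3 : (((Pw K π).coeff 0) ^ n) • (phi p e K π).toRingHom g =
        (-u) ^ n * Polynomial.aeval Fv G := by
      rw [← h1, Algebra.smul_def, map_pow, hu0, neg_mul_eq_neg_mul, mul_pow]
      show _ * phi p e K π g = _
      ring
    rw [h3]
    have hmem : (-u) ^ n * Polynomial.aeval Fv G ∈ S0 :=
      S0.mul_mem (S0.pow_mem (S0.neg_mem ⟨_, rfl⟩) n) ⟨G, rfl⟩
    exact hmem
  have h1 := finrank_eq_of_torsion _ _ hle htors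
  have h2 : Module.finrank ℤ (Subalgebra.toSubmodule S0) = Module.finrank ℤ S0 :=
    (Subalgebra.toSubmoduleEquiv S0).finrank_eq
  have h3 : Module.finrank ℤ (Subalgebra.toSubmodule R0) = Module.finrank ℤ R0 :=
    (Subalgebra.toSubmoduleEquiv R0).finrank_eq
  rw [← h3, ← h1, h2, hS0, finrank_adjoin_F hint hinj, Pw_natDegree hint, hD]

include hp in
lemma krullDim_range [Nonempty ι] (hint : ∀ i, IsIntegral ℤ (π i))
    (hweil : ∀ i, ∀ z ∈ (minpoly ℤ (π i)).aroots ℂ, ‖z‖ = Real.sqrt ((p : ℝ) ^ e))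
    (D : ℕ) (hD : ∑ i, (minpoly ℤ (π i)).natDegree = 2 * D) :
    ringKrullDim (phi p e K π).range = 1 := by
  have h1 := finite_range p e hint hweil D hD
  have hint' : Algebra.IsIntegral ℤ (phi p e K π).range := Algebra.IsIntegral.of_finite ℤ _
  have hinj : Function.Injective (algebraMap ℤ (phi p e K π).range) := by
    intro a b hab
    obtain ⟨i⟩ := (inferInstance : Nonempty ι)
    have h2 := congrArg (fun x : (phi p e K π).range => (x : (i : ι) → K i) i) hab
    simp only [Subalgebra.coe_algebraMap, Pi.algebraMap_apply] at h2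
    exact (algebraMap ℤ (K i)).injective_int h2
  rw [Groth.Agent.Lib.Helper5.ringKrullDim_eq_of_isIntegral_of_injective ℤ _ hinj]
  exact IsPrincipalIdealRing.ringKrullDim_eq_one ℤ Int.not_isField

include hp in
lemma gorenstein_range (hint : ∀ i, IsIntegral ℤ (π i))
    (hweil : ∀ i, ∀ z ∈ (minpoly ℤ (π i)).aroots ℂ, ‖z‖ = Real.sqrt ((p : ℝ) ^ e))
    (hinj : ∀ i j, minpoly ℤ (π i) = minpoly ℤ (π j) → i = j)
    (D : ℕ) (hD : ∑ i, (minpoly ℤ (π i)).natDegree = 2 * D) :
    LocCoh.IsGorensteinRing (phi p e K π).range := by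
  set q : ℤ := (p : ℤ) ^ e with hqdef
  have hq : q ≠ 0 := pow_ne_zero _ (by exact_mod_cast hp.out.ne_zero)
  obtain ⟨h, hh⟩ := exists_h p e hint hweil D hD
  obtain ⟨hker, -⟩ := main p e hint hweil hinj D hD h hh
  have hPm := Pw_monic (K := K) (π := π) hint
  have hnotin : h ∉ II q := by
    intro hmem
    have h1 : Polynomial.aeval (X 0 : A) (Pw K π) ∈ II q := by
      have : Polynomial.aeval (X 0 : A) (Pw K π) =
          X 0 ^ D * h - (X 0 ^ D * h - Polynomial.aeval (X 0 : A) (Pw K π)) := by ring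
      rw [this]
      exact Ideal.sub_mem _ (Ideal.mul_mem_left _ _ hmem) hh
    rw [mem_II_iff q hq, eps_iF] at h1
    have := (IsFractionRing.injective (Polynomial ℤ) Q) (h1.trans (map_zero _).symm)
    exact hPm.ne_zero this
  have hgen0 : (X 0 * X 1 - C q : A) ≠ 0 := by
    intro h0
    have := congrArg (MvPolynomial.eval (fun _ => (0 : ℤ))) h0
    simp at this
    exact hq this
  let dn : ULift.{u} A ≃+* A := ULift.ringEquiv
  have hregA : IsRegularRing A := inferInstance
  have hregB : IsRegularRing (ULift.{u} A) := IsRegularRing.of_ringEquiv dn.symm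
  have hB0 : LocCoh.IsGorensteinRing (ULift.{u} A) :=
    Groth.Agent.Lib.Helper5.GorRing.gorRing_of_isRegularRing _
  set g1' : ULift.{u} A := ULift.up (X 0 * X 1 - C q) with hg1'
  set h' : ULift.{u} A := ULift.up h with hh'
  have hJ1 : ∀ x : ULift.{u} A, x ∈ Ideal.span {g1'} ↔ x.down ∈ II q := by
    intro x
    rw [Ideal.mem_span_singleton, II, Ideal.mem_span_singleton]
    constructor
    · rintro ⟨c, rfl⟩
      exact ⟨c.down, rfl⟩
    · rintro ⟨c, hc⟩
      exact ⟨ULift.up c, ULift.ext _ _ hc⟩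
  have hreg1 : IsSMulRegular (ULift.{u} A) g1' := by
    intro x y hxy
    apply ULift.ext
    have h1 : g1'.down * x.down = g1'.down * y.down := congrArg ULift.down hxy
    exact mul_left_cancel₀ hgen0 h1
  have hB1 : LocCoh.IsGorensteinRing (ULift.{u} A ⧸ Ideal.span {g1'}) :=
    Groth.Agent.Lib.Helper5.GorRing.gorRing_quotient_of_regular _ hreg1
  have hprimeA := II_isPrime q hq
  have hprime1 : (Ideal.span {g1'}).IsPrime := by
    have : Ideal.span {g1'} = (II q).comap dn.toRingHom := by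
      ext x
      rw [hJ1]
      rfl
    rw [this]
    exact Ideal.comap_isPrime _ _
  have hne : Ideal.Quotient.mk (Ideal.span {g1'}) h' ≠ 0 := by
    rw [Ne, Ideal.Quotient.eq_zero_iff_mem, hJ1]
    exact hnotin
  have hreg2 : IsSMulRegular (ULift.{u} A ⧸ Ideal.span {g1'})
      (Ideal.Quotient.mk (Ideal.span {g1'}) h') := by
    intro x y hxy
    exact mul_left_cancel₀ hne hxy
  have hB2 : LocCoh.IsGorensteinRing ((ULift.{u} A ⧸ Ideal.span {g1'}) ⧸
      Ideal.span {Ideal.Quotient.mk (Ideal.span {g1'}) h'}) :=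
    Groth.Agent.Lib.Helper5.GorRing.gorRing_quotient_of_regular _ hreg2
  have hmap : (Ideal.span {h'}).map (Ideal.Quotient.mk (Ideal.span {g1'})) =
      Ideal.span {Ideal.Quotient.mk (Ideal.span {g1'}) h'} := by
    rw [Ideal.map_span, Set.image_singleton]
  let ψ : ULift.{u} A →+* (phi p e K π).range :=
    (phi p e K π).rangeRestrict.toRingHom.comp dn.toRingHom
  have hψsurj : Function.Surjective ψ :=
    (AlgHom.rangeRestrict_surjective (phi p e K π)).comp dn.surjective
  have hsup : Ideal.span {g1'} ⊔ Ideal.span {h'} = RingHom.ker ψ := by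
    rw [← Ideal.span_union, Set.singleton_union]
    ext x
    rw [Ideal.mem_span_pair, RingHom.mem_ker]
    have h1 : ψ x = 0 ↔ x.down ∈ RingHom.ker (phi p e K π) := by
      rw [RingHom.mem_ker]
      constructor
      · intro h2
        exact congrArg Subtype.val h2
      · intro h2
        exact Subtype.ext h2
    rw [h1, hker, Ideal.mem_span_pair]
    constructor
    · rintro ⟨a, b, rfl⟩
      exact ⟨a.down, b.down, rfl⟩
    · rintro ⟨a, b, hab⟩
      exact ⟨ULift.up a, ULift.up b, ULift.ext _ _ hab⟩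
  let e1 : ((ULift.{u} A ⧸ Ideal.span {g1'}) ⧸
      Ideal.span {Ideal.Quotient.mk (Ideal.span {g1'}) h'}) ≃+*
      ((ULift.{u} A ⧸ Ideal.span {g1'}) ⧸
        (Ideal.span {h'}).map (Ideal.Quotient.mk (Ideal.span {g1'}))) :=
    Ideal.quotEquivOfEq hmap.symm
  let e2 := DoubleQuot.quotQuotEquivQuotSup (Ideal.span {g1'}) (Ideal.span {h'})
  let e3 : (ULift.{u} A ⧸ Ideal.span {g1'} ⊔ Ideal.span {h'}) ≃+* (ULift.{u} A ⧸ RingHom.ker ψ) :=
    Ideal.quotEquivOfEq hsup
  let e4 := RingHom.quotientKerEquivOfSurjective hψsurj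
  exact Groth.Agent.Lib.Helper5.GorRing.gorRing_of_ringEquiv
    (R := ((ULift.{u} A ⧸ Ideal.span {g1'}) ⧸
      Ideal.span {Ideal.Quotient.mk (Ideal.span {g1'}) h'}))
    (((e1.trans e2).trans e3).trans e4)

end Family

end Groth.Agent.Lib.Helper19WeilNumF
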