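import Mathlib
import Groth.Agent.Lib.Helper19WeilNumE

/-!
# Ordinary Weil numbers and the middle coefficient
-/

set_option autoImplicit false
set_option linter.unusedSectionVars false
universe u

namespace Groth.Agent.Lib.Helper19WeilNumG

open Groth.Agent.Lib.Helper19WeilNumA Groth.Agent.Lib.Helper19WeilNumB
  Groth.Agent.Lib.Helper19WeilNumC Groth.Agent.Lib.Helper19WeilNumE

section Ultra

variable {Ω : Type*} [NormedField Ω] [IsUltrametricDist Ω]

lemma norm_sub_lt_one {a b : Ω} (ha : ‖a‖ < 1) (hb : ‖b‖ < 1) : ‖a - b‖ < 1 := by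
  rw [sub_eq_add_neg]
  exact lt_of_le_of_lt (IsUltrametricDist.norm_add_le_max a (-b))
    (max_lt ha (by rwa [norm_neg]))

lemma norm_sub_le_one {a b : Ω} (ha : ‖a‖ ≤ 1) (hb : ‖b‖ ≤ 1) : ‖a - b‖ ≤ 1 := by
  rw [sub_eq_add_neg]
  exact le_trans (IsUltrametricDist.norm_add_le_max a (-b))
    (max_le ha (by rwa [norm_neg]))

lemma norm_sub_eq_one_left {a b : Ω} (ha : ‖a‖ = 1) (hb : ‖b‖ < 1) : ‖a - b‖ = 1 := by
  rw [sub_eq_add_neg, IsUltrametricDist.norm_add_eq_max_of_norm_ne_norm
    (by rw [norm_neg, ha]; exact hb.ne'), norm_neg, ha, max_eq_left hb.le]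

lemma norm_sub_eq_one_right {a b : Ω} (ha : ‖a‖ < 1) (hb : ‖b‖ = 1) : ‖a - b‖ = 1 := by
  rw [sub_eq_add_neg, IsUltrametricDist.norm_add_eq_max_of_norm_ne_norm
    (by rw [norm_neg, hb]; exact ha.ne), norm_neg, hb, max_eq_right ha.le]

lemma norm_mul_lt_one {a b : Ω} (ha : ‖a‖ < 1) (hb : ‖b‖ ≤ 1) : ‖a * b‖ < 1 := by
  rw [norm_mul]
  calc ‖a‖ * ‖b‖ ≤ ‖a‖ * 1 := mul_le_mul_of_nonneg_left hb (norm_nonneg _)
    _ = ‖a‖ := mul_one _
    _ < 1 := ha

lemma norm_mul_le_one {a b : Ω} (ha : ‖a‖ ≤ 1) (hb : ‖b‖ ≤ 1) : ‖a * b‖ ≤ 1 := by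
  rw [norm_mul]
  calc ‖a‖ * ‖b‖ ≤ 1 * 1 := mul_le_mul ha hb (norm_nonneg _) zero_le_one
    _ = 1 := mul_one _

/-- the norms of the coefficients of `∏ (X - z)` and the number of unit roots -/
lemma coeff_prod (Z : Multiset Ω) [DecidablePred fun z : Ω => ‖z‖ = 1]
    (hZ : ∀ z ∈ Z, ‖z‖ ≤ 1) :
    (∀ j, ‖((Z.map (fun z => Polynomial.X - Polynomial.C z)).prod).coeff j‖ ≤ 1) ∧
    (∀ j, j + Multiset.card (Z.filter (fun z => ‖z‖ = 1)) < Multiset.card Z →
      ‖((Z.map (fun z => Polynomial.X - Polynomial.C z)).prod).coeff j‖ < 1) ∧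
    (∀ m, m + Multiset.card (Z.filter (fun z => ‖z‖ = 1)) = Multiset.card Z →
      ‖((Z.map (fun z => Polynomial.X - Polynomial.C z)).prod).coeff m‖ = 1) := by
  induction Z using Multiset.induction_on with
  | empty =>
    refine ⟨?_, ?_, ?_⟩
    · intro j
      simp only [Multiset.map_zero, Multiset.prod_zero, Polynomial.coeff_one]
      split_ifs <;> simp
    · intro j hj
      simp at hj
    · intro m hm
      simp only [Multiset.filter_zero, Multiset.card_zero, add_zero] at hm
      subst hm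
      simp
  | cons z Z ih =>
    have hZ' : ∀ w ∈ Z, ‖w‖ ≤ 1 := fun w hw => hZ w (Multiset.mem_cons_of_mem hw)
    have hz : ‖z‖ ≤ 1 := hZ z (Multiset.mem_cons_self z Z)
    obtain ⟨ih1, ih2, ih3⟩ := ih hZ'
    set F := (Z.map (fun z => Polynomial.X - Polynomial.C z)).prod with hF
    have hule : Multiset.card (Z.filter (fun z => ‖z‖ = 1)) ≤ Multiset.card Z :=
      Multiset.card_le_card (Multiset.filter_le _ _)
    set u := Multiset.card (Z.filter (fun z => ‖z‖ = 1)) with hu
    have hF' : ((z ::ₘ Z).map (fun z => Polynomial.X - Polynomial.C z)).prod =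
        (Polynomial.X - Polynomial.C z) * F := by
      rw [Multiset.map_cons, Multiset.prod_cons]
    have hcoeff0 : ((Polynomial.X - Polynomial.C z) * F).coeff 0 = - (z * F.coeff 0) := by
      rw [sub_mul, Polynomial.coeff_sub, Polynomial.coeff_X_mul_zero, Polynomial.coeff_C_mul,
        zero_sub]
    have hcoeffS : ∀ k, ((Polynomial.X - Polynomial.C z) * F).coeff (k + 1) =
        F.coeff k - z * F.coeff (k + 1) := by
      intro k
      rw [sub_mul, Polynomial.coeff_sub, Polynomial.coeff_X_mul, Polynomial.coeff_C_mul]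
    rw [hF', Multiset.card_cons]
    have hle : ∀ j, ‖((Polynomial.X - Polynomial.C z) * F).coeff j‖ ≤ 1 := by
      intro j
      cases j with
      | zero =>
        rw [hcoeff0, norm_neg]
        exact norm_mul_le_one hz (ih1 0)
      | succ k =>
        rw [hcoeffS]
        exact norm_sub_le_one (ih1 k) (norm_mul_le_one hz (ih1 _))
    by_cases h1 : ‖z‖ = 1
    · rw [Multiset.filter_cons_of_pos (p := fun z : Ω => ‖z‖ = 1) Z h1, Multiset.card_cons]
      refine ⟨hle, ?_, ?_⟩
      · intro j hj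
        cases j with
        | zero =>
          rw [hcoeff0, norm_neg, norm_mul, h1, one_mul]
          exact ih2 0 (by omega)
        | succ k =>
          rw [hcoeffS]
          refine norm_sub_lt_one (ih2 k (by omega)) ?_
          rw [norm_mul, h1, one_mul]
          exact ih2 _ (by omega)
      · intro m hm
        cases m with
        | zero =>
          rw [hcoeff0, norm_neg, norm_mul, h1, one_mul]
          exact ih3 0 (by omega)
        | succ k =>
          rw [hcoeffS]
          refine norm_sub_eq_one_right (ih2 k (by omega)) ?_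
          rw [norm_mul, h1, one_mul]
          exact ih3 _ (by omega)
    · have h1' : ‖z‖ < 1 := lt_of_le_of_ne hz h1
      rw [Multiset.filter_cons_of_neg (p := fun z : Ω => ‖z‖ = 1) Z h1]
      refine ⟨hle, ?_, ?_⟩
      · intro j hj
        cases j with
        | zero =>
          rw [hcoeff0, norm_neg]
          exact norm_mul_lt_one h1' (ih1 0)
        | succ k =>
          rw [hcoeffS]
          exact norm_sub_lt_one (ih2 k (by omega)) (norm_mul_lt_one h1' (ih1 _))
      · intro m hm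
        cases m with
        | zero => omega
        | succ k =>
          rw [hcoeffS]
          exact norm_sub_eq_one_left (ih3 k (by omega)) (norm_mul_lt_one h1' (ih1 _))

end Ultra

section Padic

variable (p : ℕ) [hp : Fact p.Prime]

lemma intCast_eq (a : ℤ) :
    (a : PadicAlgCl p) = algebraMap ℚ_[p] (PadicAlgCl p) (a : ℚ_[p]) := by
  simp

lemma norm_intCast_le_one (a : ℤ) : ‖(a : PadicAlgCl p)‖ ≤ 1 := by
  rw [intCast_eq, PadicAlgCl.norm_extends]
  exact Padic.norm_int_le_one a

lemma norm_intCast_lt_one_iff (a : ℤ) : ‖(a : PadicAlgCl p)‖ < 1 ↔ (p : ℤ) ∣ a := by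
  rw [intCast_eq, PadicAlgCl.norm_extends]
  exact Padic.norm_intCast_lt_one_iff

lemma norm_root_le_one (P : Polynomial ℤ) (hP : P.Monic) (z : PadicAlgCl p)
    (hz : Polynomial.aeval z P = 0) : ‖z‖ ≤ 1 := by
  by_contra hlt
  rw [not_le] at hlt
  set N := P.natDegree with hN
  rw [Polynomial.aeval_eq_sum_range, ← hN, Finset.sum_range_succ, hN, hP.coeff_natDegree,
    one_smul, ← hN] at hz
  have h1 : z ^ N = - ∑ j ∈ Finset.range N, P.coeff j • z ^ j := by
    rw [eq_neg_iff_add_eq_zero, add_comm]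
    exact hz
  rcases Nat.eq_zero_or_pos N with hN0 | hNpos
  · rw [hN0] at h1
    simp at h1
  · have h2 : ‖∑ j ∈ Finset.range N, P.coeff j • z ^ j‖ ≤ ‖z‖ ^ (N - 1) := by
      apply IsUltrametricDist.norm_sum_le_of_forall_le_of_nonneg (by positivity)
      intro j hj
      rw [Finset.mem_range] at hj
      rw [zsmul_eq_mul, norm_mul, norm_pow]
      calc ‖(P.coeff j : PadicAlgCl p)‖ * ‖z‖ ^ j ≤ 1 * ‖z‖ ^ j :=
            mul_le_mul_of_nonneg_right (norm_intCast_le_one p _) (by positivity)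
        _ = ‖z‖ ^ j := one_mul _
        _ ≤ ‖z‖ ^ (N - 1) := pow_le_pow_right₀ hlt.le (by omega)
    have h3 : ‖z‖ ^ N ≤ ‖z‖ ^ (N - 1) := by
      rw [← norm_pow, h1, norm_neg]
      exact h2
    have h4 : ‖z‖ ^ (N - 1) < ‖z‖ ^ N := pow_lt_pow_right₀ hlt (by omega)
    exact absurd h3 (not_le.2 h4)

/-- ordinarity criterion for a single polynomial -/
lemma ordinary_iff (P : Polynomial ℤ) (hP : P.Monic) (d : ℕ) (hN : P.natDegree = 2 * d)
    (hlow : ∀ j, j < d → (p : ℤ) ∣ P.coeff j)
    [DecidablePred fun z : PadicAlgCl p => ‖z‖ = 1] :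
    2 * Multiset.card ((P.aroots (PadicAlgCl p)).filter (fun z => ‖z‖ = 1)) = P.natDegree ↔
      ¬ ((p : ℤ) ∣ P.coeff d) := by
  set Pm := P.map (algebraMap ℤ (PadicAlgCl p)) with hPm
  have hm : Pm.Monic := hP.map _
  have hs : Pm.Splits := IsAlgClosed.splits Pm
  have hZ0 : P.aroots (PadicAlgCl p) = Pm.roots := rfl
  set Z := P.aroots (PadicAlgCl p) with hZdef
  have hcard : Multiset.card Z = 2 * d := by
    rw [hZ0, ← hs.natDegree_eq_card_roots, hP.natDegree_map, hN]
  have hprod : Pm = (Z.map (fun z => Polynomial.X - Polynomial.C z)).prod := by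
    rw [hZ0]
    exact hs.eq_prod_roots_of_monic hm
  have hZ : ∀ z ∈ Z, ‖z‖ ≤ 1 := by
    intro z hz
    rw [hZdef, Polynomial.mem_aroots] at hz
    exact norm_root_le_one p P hP z hz.2
  obtain ⟨c1, c2, c3⟩ := coeff_prod Z hZ
  rw [← hprod] at c1 c2 c3
  have hcoeff : ∀ j, Pm.coeff j = ((P.coeff j : ℤ) : PadicAlgCl p) := by
    intro j
    rw [hPm, Polynomial.coeff_map]
    simp
  have hule : Multiset.card (Z.filter (fun z => ‖z‖ = 1)) ≤ Multiset.card Z :=
    Multiset.card_le_card (Multiset.filter_le _ _)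
  set u := Multiset.card (Z.filter (fun z => ‖z‖ = 1)) with hu
  rw [hcard] at c2 c3 hule
  have hud : u ≤ d := by
    by_contra hlt
    rw [not_le] at hlt
    have h1 := c3 (2 * d - u) (by omega)
    have h2 := hlow (2 * d - u) (by omega)
    rw [← norm_intCast_lt_one_iff, ← hcoeff, h1] at h2
    exact lt_irrefl _ h2
  rw [hN]
  constructor
  · intro h2u
    have hud' : u = d := by omega
    have h1 := c3 d (by omega)
    intro hdvd
    rw [← norm_intCast_lt_one_iff, ← hcoeff, h1] at hdvd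
    exact lt_irrefl _ hdvd
  · intro hnd
    have h1 : ¬ (d + u < 2 * d) := by
      intro hlt
      have := c2 d hlt
      rw [hcoeff, norm_intCast_lt_one_iff] at this
      exact hnd this
    omega

end Padic

section Nonreal

lemma roots_map_conj (P : Polynomial ℤ) :
    (P.aroots ℂ).map (starRingEnd ℂ) = P.aroots ℂ := by
  set Pc := P.map (algebraMap ℤ ℂ) with hPc
  have hs : Pc.Splits := IsAlgClosed.splits Pc
  have hcard : Multiset.card Pc.roots = Pc.natDegree := hs.natDegree_eq_card_roots.symm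
  have h1 := Polynomial.roots_map_of_injective_of_card_eq_natDegree
    (f := starRingEnd ℂ) (starRingEnd ℂ).injective hcard
  have h2 : Pc.map (starRingEnd ℂ) = Pc := by
    rw [hPc, Polynomial.map_map]
    congr 1
    exact RingHom.ext_int _ _
  rw [h2] at h1
  exact h1

lemma even_natDegree (P : Polynomial ℤ) (hP : P.Monic)
    (hnr : ∀ z ∈ P.aroots ℂ, z.im ≠ 0) : ∃ d, P.natDegree = 2 * d := by
  classical
  set S := P.aroots ℂ with hS
  have hconj := roots_map_conj P
  rw [← hS] at hconj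
  have hcard : Multiset.card S = P.natDegree := by
    have hs : (P.map (algebraMap ℤ ℂ)).Splits := IsAlgClosed.splits _
    have : S = (P.map (algebraMap ℤ ℂ)).roots := rfl
    rw [this, ← hs.natDegree_eq_card_roots, hP.natDegree_map]
  have h1 := Multiset.filter_add_not (fun z : ℂ => 0 < z.im) S
  have h2 : S.filter (fun z : ℂ => ¬ 0 < z.im) = S.filter (fun z : ℂ => z.im < 0) := by
    apply Multiset.filter_congr
    intro z hz
    have := hnr z hz
    constructor
    · intro h
      exact lt_of_le_of_ne (not_lt.1 h) this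
    · intro h
      exact not_lt.2 h.le
  have h3 : S.filter (fun z : ℂ => z.im < 0) =
      (S.filter (fun z : ℂ => 0 < z.im)).map (starRingEnd ℂ) := by
    conv_lhs => rw [← hconj]
    rw [Multiset.filter_map]
    congr 1
    apply Multiset.filter_congr
    intro z _
    simp [Complex.conj_im]
  refine ⟨Multiset.card (S.filter (fun z : ℂ => 0 < z.im)), ?_⟩
  rw [← hcard]
  conv_lhs => rw [← h1]
  rw [Multiset.card_add, h2, h3, Multiset.card_map]
  ring

end Nonreal

section Family

variable (p e : ℕ) [hp : Fact p.Prime]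

include hp in
/-- the low coefficients of a nonreal Weil polynomial are divisible by `p` -/
lemma low_coeff_dvd (he : 0 < e) {L : Type u} [Field L] [CharZero L] (x : L)
    (hint : IsIntegral ℤ x)
    (hweil : ∀ z ∈ (minpoly ℤ x).aroots ℂ, ‖z‖ = Real.sqrt ((p : ℝ) ^ e))
    (d : ℕ) (hN : (minpoly ℤ x).natDegree = 2 * d) (j : ℕ) (hj : j < d) :
    (p : ℤ) ∣ (minpoly ℤ x).coeff j := by
  have hPw : Pw (fun _ : Unit => L) (fun _ => x) = minpoly ℤ x := by
    simp [Pw]
  have hD : ∑ _i : Unit, (minpoly ℤ ((fun _ : Unit => x) _i)).natDegree = 2 * d := by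
    simp [hN]
  obtain ⟨ε, -, hlow⟩ := exists_eps p e (K := fun _ : Unit => L) (π := fun _ => x)
    (fun _ => hint) (fun _ => hweil) d hD
  have h1 := hlow j hj
  rw [hPw] at h1
  rw [h1]
  have h2 : (p : ℤ) ∣ ((p : ℤ) ^ e) ^ (d - j) := by
    apply dvd_pow _ (by omega)
    exact dvd_pow_self _ (by omega)
  exact Dvd.dvd.mul_right (Dvd.dvd.mul_left h2 _) _

end Family

end Groth.Agent.Lib.Helper19WeilNumG
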