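import Mathlib
import Groth.Agent.Lib.Helper19WeilNumF

/-!
# Weil numbers with one rational member: the kernel of `ℤ[F,V] → (∏ K_i) × ℚ`
-/

set_option autoImplicit false
set_option linter.unusedSectionVars false
universe u

namespace Groth.Agent.Lib.Helper19WeilNumH

open MvPolynomial Groth.Agent.Lib.Helper19WeilNumA Groth.Agent.Lib.Helper19WeilNumB
  Groth.Agent.Lib.Helper19WeilNumC Groth.Agent.Lib.Helper19WeilNumE

section Subst

/-- substitute `X 0 := s` -/
noncomputable def sub0 (s : ℤ) : A →ₐ[ℤ] A := aeval ![(C s : A), X 1]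

/-- substitute `X 1 := s` -/
noncomputable def sub1 (s : ℤ) : A →ₐ[ℤ] A := aeval ![(X 0 : A), C s]

/-- evaluate at the integer point `(s, t)` -/
noncomputable def evZ (s t : ℤ) : A →ₐ[ℤ] ℤ := aeval ![s, t]

@[simp] lemma sub0_X0 (s : ℤ) : sub0 s (X 0) = C s := by simp [sub0]
@[simp] lemma sub0_X1 (s : ℤ) : sub0 s (X 1) = X 1 := by simp [sub0]
@[simp] lemma sub1_X0 (s : ℤ) : sub1 s (X 0) = X 0 := by simp [sub1]
@[simp] lemma sub1_X1 (s : ℤ) : sub1 s (X 1) = C s := by simp [sub1]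
@[simp] lemma evZ_X0 (s t : ℤ) : evZ s t (X 0) = s := by simp [evZ]
@[simp] lemma evZ_X1 (s t : ℤ) : evZ s t (X 1) = t := by simp [evZ]
@[simp] lemma sub0_C (s c : ℤ) : sub0 s (C c) = C c := by
  have := (sub0 s).commutes c
  simpa using this
@[simp] lemma sub1_C (s c : ℤ) : sub1 s (C c) = C c := by
  have := (sub1 s).commutes c
  simpa using this
@[simp] lemma evZ_C (s t c : ℤ) : evZ s t (C c) = c := by
  have := (evZ s t).commutes c
  simpa using this

lemma sub_sub0_mem (s : ℤ) (f : A) : f - sub0 s f ∈ Ideal.span {(X 0 - C s : A)} := by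
  induction f using MvPolynomial.induction_on with
  | C c => simp
  | add f g hf hg =>
    rw [map_add]
    have : f + g - (sub0 s f + sub0 s g) = (f - sub0 s f) + (g - sub0 s g) := by ring
    rw [this]
    exact Ideal.add_mem _ hf hg
  | mul_X f i hf =>
    rw [map_mul]
    fin_cases i
    · have : f * X 0 - sub0 s f * sub0 s (X 0) =
          (f - sub0 s f) * X 0 + sub0 s f * (X 0 - C s) := by
        rw [sub0_X0]; ring
      simp only [Fin.zero_eta]
      rw [this]
      exact Ideal.add_mem _ (Ideal.mul_mem_right _ _ hf)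
        (Ideal.mul_mem_left _ _ (Ideal.subset_span rfl))
    · have : f * X 1 - sub0 s f * sub0 s (X 1) = (f - sub0 s f) * X 1 := by
        rw [sub0_X1]; ring
      simp only [Fin.mk_one]
      rw [this]
      exact Ideal.mul_mem_right _ _ hf

lemma sub_sub1_mem (s : ℤ) (f : A) : f - sub1 s f ∈ Ideal.span {(X 1 - C s : A)} := by
  induction f using MvPolynomial.induction_on with
  | C c => simp
  | add f g hf hg =>
    rw [map_add]
    have : f + g - (sub1 s f + sub1 s g) = (f - sub1 s f) + (g - sub1 s g) := by ring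
    rw [this]
    exact Ideal.add_mem _ hf hg
  | mul_X f i hf =>
    rw [map_mul]
    fin_cases i
    · have : f * X 0 - sub1 s f * sub1 s (X 0) = (f - sub1 s f) * X 0 := by
        rw [sub1_X0]; ring
      simp only [Fin.zero_eta]
      rw [this]
      exact Ideal.mul_mem_right _ _ hf
    · have : f * X 1 - sub1 s f * sub1 s (X 1) =
          (f - sub1 s f) * X 1 + sub1 s f * (X 1 - C s) := by
        rw [sub1_X1]; ring
      simp only [Fin.mk_one]
      rw [this]
      exact Ideal.add_mem _ (Ideal.mul_mem_right _ _ hf)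
        (Ideal.mul_mem_left _ _ (Ideal.subset_span rfl))

lemma sub1_sub0 (s t : ℤ) (f : A) : sub1 t (sub0 s f) = C (evZ s t f) := by
  have : (sub1 t).comp (sub0 s) = (Algebra.ofId ℤ A).comp (evZ s t) := by
    apply MvPolynomial.algHom_ext
    intro i
    fin_cases i
    · simp [Algebra.ofId_apply]
    · simp [Algebra.ofId_apply]
  have h1 := congrArg (fun φ : A →ₐ[ℤ] A => φ f) this
  simpa [Algebra.ofId_apply] using h1

/-- every polynomial is congruent to its value at `(s,t)` modulo `(X 0 - s, X 1 - t)` -/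
lemma sub_C_evZ_mem (s t : ℤ) (f : A) :
    f - C (evZ s t f) ∈ Ideal.span {(X 0 - C s : A), X 1 - C t} := by
  have h0 : f - sub0 s f ∈ Ideal.span {(X 0 - C s : A), X 1 - C t} :=
    Ideal.span_mono (by intro x hx; rw [Set.mem_singleton_iff] at hx; subst hx; simp)
      (sub_sub0_mem s f)
  have h1 : sub0 s f - sub1 t (sub0 s f) ∈ Ideal.span {(X 0 - C s : A), X 1 - C t} :=
    Ideal.span_mono (by intro x hx; rw [Set.mem_singleton_iff] at hx; subst hx; simp)
      (sub_sub1_mem t (sub0 s f))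
  have : f - C (evZ s t f) = (f - sub0 s f) + (sub0 s f - sub1 t (sub0 s f)) := by
    rw [sub1_sub0]; ring
  rw [this]
  exact Ideal.add_mem _ h0 h1

lemma ker_evZ (s t : ℤ) :
    RingHom.ker (evZ s t : A →+* ℤ) = Ideal.span {(X 0 - C s : A), X 1 - C t} := by
  apply le_antisymm
  · intro f hf
    rw [RingHom.mem_ker] at hf
    have h1 := sub_C_evZ_mem s t f
    have h2 : evZ s t f = 0 := hf
    rw [h2, map_zero, sub_zero] at h1
    exact h1
  · rw [Ideal.span_le]
    intro x hx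
    rcases hx with rfl | hx
    · simp [RingHom.mem_ker]
    · rw [Set.mem_singleton_iff] at hx
      subst hx
      simp [RingHom.mem_ker]

end Subst

section MinpolyEval

/-- an integral element with minimal polynomial of degree `≠ 1` has no integer conjugate -/
lemma minpoly_eval_ne {L : Type*} [Field L] [CharZero L] (x : L) (hint : IsIntegral ℤ x)
    (hdeg : (minpoly ℤ x).natDegree ≠ 1) (t : ℤ) : (minpoly ℤ x).eval t ≠ 0 := by
  intro h0
  obtain ⟨r, hr⟩ := Polynomial.dvd_iff_isRoot.2 h0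
  have hirr := minpoly.irreducible hint
  rcases hirr.isUnit_or_isUnit hr with h1 | h1
  · exact Polynomial.not_isUnit_X_sub_C t h1
  · obtain ⟨u, hu, rfl⟩ := Polynomial.isUnit_iff.1 h1
    apply hdeg
    rw [hr, Polynomial.natDegree_mul_C hu.ne_zero, Polynomial.natDegree_X_sub_C]

end MinpolyEval

section Family

variable (p e : ℕ) [hp : Fact p.Prime]
  {ι : Type} [Fintype ι] (K : ι → Type u) [∀ i, Field (K i)] [∀ i, CharZero (K i)]
  (π : ∀ i, K i) (s : ℤ)

/-- the map `ℤ[F,V] → (∏ K_i) × ℚ` -/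
noncomputable def Phi : A →ₐ[ℤ] (((i : ι) → K i) × ℚ) :=
  aeval ![(⟨fun i => π i, (s : ℚ)⟩ : ((i : ι) → K i) × ℚ),
    ⟨fun i => ((p : K i) ^ e) / π i, (s : ℚ)⟩]

lemma Phi_fst (f : A) : (Phi p e K π s f).1 = phi p e K π f := by
  have : (AlgHom.fst ℤ ((i : ι) → K i) ℚ).comp (Phi p e K π s) = phi p e K π := by
    apply MvPolynomial.algHom_ext
    intro i
    fin_cases i <;> simp [Phi, phi]
  exact AlgHom.congr_fun this f

lemma Phi_snd (f : A) : (Phi p e K π s f).2 = ((evZ s s f : ℤ) : ℚ) := by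
  have : (AlgHom.snd ℤ ((i : ι) → K i) ℚ).comp (Phi p e K π s) =
      (Algebra.ofId ℤ ℚ).comp (evZ s s) := by
    apply MvPolynomial.algHom_ext
    intro i
    fin_cases i <;> simp [Phi, Algebra.ofId_apply]
  have h1 := AlgHom.congr_fun this f
  simpa [Algebra.ofId_apply] using h1

lemma mem_ker_Phi (f : A) :
    f ∈ RingHom.ker (Phi p e K π s) ↔ f ∈ RingHom.ker (phi p e K π) ∧ evZ s s f = 0 := by
  rw [RingHom.mem_ker, RingHom.mem_ker, Prod.ext_iff, Phi_fst, Phi_snd]
  simp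

variable {K π}

lemma Pw_eval_ne (hint : ∀ i, IsIntegral ℤ (π i))
    (hdeg : ∀ i, (minpoly ℤ (π i)).natDegree ≠ 1) (t : ℤ) : (Pw K π).eval t ≠ 0 := by
  unfold Pw
  rw [Polynomial.eval_prod, Finset.prod_ne_zero_iff]
  intro i _
  exact minpoly_eval_ne (π i) (hint i) (hdeg i) t

lemma II_le_ker_evZ (hs : s ^ 2 = (p : ℤ) ^ e) :
    II ((p : ℤ) ^ e) ≤ RingHom.ker (evZ s s : A →+* ℤ) := by
  unfold II
  rw [Ideal.span_le, Set.singleton_subset_iff, SetLike.mem_coe, RingHom.mem_ker]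
  change evZ s s (X 0 * X 1 - C ((p : ℤ) ^ e)) = 0
  rw [map_sub, map_mul, evZ_X0, evZ_X1, evZ_C, ← hs]
  ring

lemma evZ_h_ne (hs : s ^ 2 = (p : ℤ) ^ e) (hint : ∀ i, IsIntegral ℤ (π i))
    (hdeg : ∀ i, (minpoly ℤ (π i)).natDegree ≠ 1) (D : ℕ) (h : A)
    (hh : X 0 ^ D * h - Polynomial.aeval (X 0 : A) (∏ i, minpoly ℤ (π i)) ∈
      Ideal.span ({X 0 * X 1 - C ((p : ℤ) ^ e)} : Set A)) :
    evZ s s h ≠ 0 := by
  intro h0
  have h1 : evZ s s (X 0 ^ D * h - Polynomial.aeval (X 0 : A) (Pw K π)) = 0 :=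
    II_le_ker_evZ p e s hs hh
  rw [map_sub, map_mul, h0, mul_zero, zero_sub, neg_eq_zero,
    ← Polynomial.aeval_algHom_apply, evZ_X0] at h1
  exact Pw_eval_ne hint hdeg s (by rw [← h1]; rfl)

include hp in
/-- Part (1): the kernel of `Phi`. -/
theorem ker_Phi (hs : s ^ 2 = (p : ℤ) ^ e) (hint : ∀ i, IsIntegral ℤ (π i))
    (hdeg : ∀ i, (minpoly ℤ (π i)).natDegree ≠ 1)
    (hweil : ∀ i, ∀ z ∈ (minpoly ℤ (π i)).aroots ℂ, ‖z‖ = Real.sqrt ((p : ℝ) ^ e))
    (hinj : ∀ i j, minpoly ℤ (π i) = minpoly ℤ (π j) → i = j)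
    (D : ℕ) (hD : ∑ i, (minpoly ℤ (π i)).natDegree = 2 * D) (h : A)
    (hh : X 0 ^ D * h - Polynomial.aeval (X 0 : A) (∏ i, minpoly ℤ (π i)) ∈
      Ideal.span ({X 0 * X 1 - C ((p : ℤ) ^ e)} : Set A)) :
    RingHom.ker (Phi p e K π s) =
      Ideal.span {X 0 * X 1 - C ((p : ℤ) ^ e), h * (X 0 - C s), h * (X 1 - C s)} := by
  obtain ⟨hker, -⟩ := main p e hint hweil hinj D hD h hh
  have hne := evZ_h_ne p e s hs hint hdeg D h hh
  have hg0 : evZ s s (X 0 * X 1 - C ((p : ℤ) ^ e)) = 0 :=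
    II_le_ker_evZ p e s hs (gen_mem _)
  apply le_antisymm
  · intro f hf
    rw [mem_ker_Phi, hker, Ideal.mem_span_pair] at hf
    obtain ⟨⟨a, b, rfl⟩, hf0⟩ := hf
    rw [map_add, map_mul, map_mul, hg0, mul_zero, zero_add] at hf0
    have hb : evZ s s b = 0 := by
      rcases mul_eq_zero.1 hf0 with h1 | h1
      · exact h1
      · exact absurd h1 hne
    have hb' : b ∈ Ideal.span {(X 0 - C s : A), X 1 - C s} := by
      rw [← ker_evZ]; exact hb
    obtain ⟨c, d, rfl⟩ := Ideal.mem_span_pair.1 hb'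
    have : a * (X 0 * X 1 - C ((p : ℤ) ^ e)) + (c * (X 0 - C s) + d * (X 1 - C s)) * h =
        a * (X 0 * X 1 - C ((p : ℤ) ^ e)) + c * (h * (X 0 - C s)) + d * (h * (X 1 - C s)) := by
      ring
    rw [this]
    refine Ideal.add_mem _ (Ideal.add_mem _ ?_ ?_) ?_
    · exact Ideal.mul_mem_left _ _ (Ideal.subset_span (by simp))
    · exact Ideal.mul_mem_left _ _ (Ideal.subset_span (by simp))
    · exact Ideal.mul_mem_left _ _ (Ideal.subset_span (by simp))
  · rw [Ideal.span_le]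
    intro x hx
    rw [SetLike.mem_coe, mem_ker_Phi, hker]
    rcases hx with rfl | rfl | hx
    · exact ⟨Ideal.subset_span (by simp), hg0⟩
    · refine ⟨Ideal.mul_mem_right _ _ (Ideal.subset_span (by simp)), ?_⟩
      rw [map_mul, map_sub, evZ_X0, evZ_C, sub_self, mul_zero]
    · rw [Set.mem_singleton_iff] at hx
      subst hx
      refine ⟨Ideal.mul_mem_right _ _ (Ideal.subset_span (by simp)), ?_⟩
      rw [map_mul, map_sub, evZ_X1, evZ_C, sub_self, mul_zero]

end Family

end Groth.Agent.Lib.Helper19WeilNumH
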