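import Mathlib
import Groth.Agent.Lib.Helper19WeilNumG
import Groth.Agent.Lib.Helper19WeilNumH

/-!
# Ordinarity of a family with `q` a square, in terms of the value `h(0,0)`
-/

set_option autoImplicit false
set_option linter.unusedSectionVars false
universe u

namespace Groth.Agent.Lib.Helper19WeilNumI

open MvPolynomial Groth.Agent.Lib.Helper19WeilNumA Groth.Agent.Lib.Helper19WeilNumB
  Groth.Agent.Lib.Helper19WeilNumC Groth.Agent.Lib.Helper19WeilNumE
  Groth.Agent.Lib.Helper19WeilNumG Groth.Agent.Lib.Helper19WeilNumH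

section Padic

variable (p : ℕ) [hp : Fact p.Prime]

/-- at most half of the roots are units -/
lemma unit_card_le (P : Polynomial ℤ) (hP : P.Monic) (d : ℕ) (hN : P.natDegree = 2 * d)
    (hlow : ∀ j, j < d → (p : ℤ) ∣ P.coeff j)
    [DecidablePred fun z : PadicAlgCl p => ‖z‖ = 1] :
    Multiset.card ((P.aroots (PadicAlgCl p)).filter (fun z => ‖z‖ = 1)) ≤ d := by
  set Pm := P.map (algebraMap ℤ (PadicAlgCl p)) with hPm
  have hm : Pm.Monic := hP.map _
  have hs : Pm.Splits := IsAlgClosed.splits Pm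
  have hZ0 : P.aroots (PadicAlgCl p) = Pm.roots := rfl
  set Z := P.aroots (PadicAlgCl p) with hZdef
  have hcard : Multiset.card Z = 2 * d := by
    rw [hZ0, ← hs.natDegree_eq_card_roots, hP.natDegree_map, hN]
  have hprod : Pm = (Z.map (fun z => Polynomial.X - Polynomial.C z)).prod := by
    rw [hZ0]
    exact hs.eq_prod_roots_of_monic hm
  have hZ : ∀ z ∈ Z, ‖z‖ ≤ 1 := by
    intro z hz
    rw [hZdef, Polynomial.mem_aroots] at hz
    exact norm_root_le_one p P hP z hz.2
  obtain ⟨c1, c2, c3⟩ := coeff_prod Z hZ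
  rw [← hprod] at c1 c2 c3
  have hcoeff : ∀ j, Pm.coeff j = ((P.coeff j : ℤ) : PadicAlgCl p) := by
    intro j
    rw [hPm, Polynomial.coeff_map]
    simp
  have hule : Multiset.card (Z.filter (fun z => ‖z‖ = 1)) ≤ Multiset.card Z :=
    Multiset.card_le_card (Multiset.filter_le _ _)
  set u := Multiset.card (Z.filter (fun z => ‖z‖ = 1)) with hu
  rw [hcard] at c2 c3 hule
  by_contra hlt
  rw [not_le] at hlt
  have h1 := c3 (2 * d - u) (by omega)
  have h2 := hlow (2 * d - u) (by omega)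
  rw [← norm_intCast_lt_one_iff, ← hcoeff, h1] at h2
  exact lt_irrefl _ h2

end Padic

section Family

variable (p e : ℕ) [hp : Fact p.Prime]
  {ι : Type} [Fintype ι] {K : ι → Type u} [∀ i, Field (K i)] [∀ i, CharZero (K i)]
  {π : ∀ i, K i} (s : ℤ)

include hp in
/-- when `q` is a square, Weil numbers of degree `≠ 1` are nonreal -/
lemma nonreal (hs : s ^ 2 = (p : ℤ) ^ e) {L : Type u} [Field L] [CharZero L] (x : L)
    (hint : IsIntegral ℤ x) (hdeg : (minpoly ℤ x).natDegree ≠ 1)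
    (hweil : ∀ z ∈ (minpoly ℤ x).aroots ℂ, ‖z‖ = Real.sqrt ((p : ℝ) ^ e)) :
    ∀ z ∈ (minpoly ℤ x).aroots ℂ, z.im ≠ 0 := by
  intro z hz him
  have hnorm := hweil z hz
  rw [Polynomial.mem_aroots] at hz
  have hzre : z = ((z.re : ℝ) : ℂ) := Complex.ext (by simp) (by simp [him])
  have hsq : ((p : ℝ) ^ e) = (s : ℝ) ^ 2 := by exact_mod_cast hs.symm
  have habs : |z.re| = |(s : ℝ)| := by
    rw [hzre, Complex.norm_real, Real.norm_eq_abs, hsq, Real.sqrt_sq_eq_abs] at hnorm
    simpa using hnorm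
  have key : ∀ t : ℤ, z = ((t : ℤ) : ℂ) → False := by
    intro t ht
    have h1 : Polynomial.aeval z (minpoly ℤ x) = 0 := hz.2
    rw [ht] at h1
    have h2 : Polynomial.aeval ((t : ℤ) : ℂ) (minpoly ℤ x) =
        (((minpoly ℤ x).eval t : ℤ) : ℂ) := by
      have := Polynomial.aeval_algebraMap_apply (A := ℤ) ℂ t (minpoly ℤ x)
      simpa [Polynomial.coe_aeval_eq_eval] using this
    rw [h2] at h1
    exact minpoly_eval_ne x hint hdeg t (by exact_mod_cast h1)
  rcases abs_eq_abs.1 habs with h1 | h1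
  · apply key s
    rw [hzre, h1]
    push_cast
    rfl
  · apply key (-s)
    rw [hzre, h1]
    push_cast
    rfl

include hp in
/-- all members are ordinary iff `p` does not divide the middle coefficient of `P_w` -/
theorem all_ordinary_iff (he : 0 < e) (hs : s ^ 2 = (p : ℤ) ^ e)
    (hint : ∀ i, IsIntegral ℤ (π i)) (hdeg : ∀ i, (minpoly ℤ (π i)).natDegree ≠ 1)
    (hweil : ∀ i, ∀ z ∈ (minpoly ℤ (π i)).aroots ℂ, ‖z‖ = Real.sqrt ((p : ℝ) ^ e))
    (D : ℕ) (hD : ∑ i, (minpoly ℤ (π i)).natDegree = 2 * D)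
    [DecidablePred fun z : PadicAlgCl p => ‖z‖ = 1] :
    (∀ i, 2 * Multiset.card (((minpoly ℤ (π i)).aroots (PadicAlgCl p)).filter
        (fun z => ‖z‖ = 1)) = (minpoly ℤ (π i)).natDegree) ↔
      ¬ ((p : ℤ) ∣ (Pw K π).coeff D) := by
  have hnr := fun i => nonreal p e s hs (π i) (hint i) (hdeg i) (hweil i)
  have hev := fun i => even_natDegree _ (minpoly.monic (hint i)) (hnr i)
  choose d hd using hev
  have hsum : ∑ i, d i = D := by
    have : ∑ i, (minpoly ℤ (π i)).natDegree = 2 * ∑ i, d i := by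
      rw [Finset.mul_sum]
      exact Finset.sum_congr rfl (fun i _ => hd i)
    omega
  set u : ι → ℕ := fun i => Multiset.card (((minpoly ℤ (π i)).aroots (PadicAlgCl p)).filter
    (fun z => ‖z‖ = 1)) with hu
  have hle : ∀ i, u i ≤ d i := fun i =>
    unit_card_le p _ (minpoly.monic (hint i)) (d i) (hd i)
      (fun j hj => low_coeff_dvd p e he (π i) (hint i) (hweil i) (d i) (hd i) j hj)
  have hPm := Pw_monic (K := K) (π := π) hint
  have hN : (Pw K π).natDegree = 2 * D := by rw [Pw_natDegree hint, hD]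
  have hU : Multiset.card (((Pw K π).aroots (PadicAlgCl p)).filter (fun z => ‖z‖ = 1)) =
      ∑ i, u i := by
    have h0 : (Pw K π).map (algebraMap ℤ (PadicAlgCl p)) =
        ∏ i, (minpoly ℤ (π i)).map (algebraMap ℤ (PadicAlgCl p)) := by
      unfold Pw
      rw [Polynomial.map_prod]
    have hne : ∏ i, (minpoly ℤ (π i)).map (algebraMap ℤ (PadicAlgCl p)) ≠ 0 := by
      rw [← h0]
      exact (hPm.map _).ne_zero
    have h1 : (Pw K π).aroots (PadicAlgCl p) =
        Finset.univ.val.bind fun i => (minpoly ℤ (π i)).aroots (PadicAlgCl p) := by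
      rw [Polynomial.aroots_def, h0, Polynomial.roots_prod _ _ hne]
    rw [h1, Multiset.filter_bind, Multiset.card_bind]
    rfl
  have hlow : ∀ j, j < D → (p : ℤ) ∣ (Pw K π).coeff j := by
    intro j hj
    obtain ⟨ε, -, hl⟩ := exists_eps p e hint hweil D hD
    rw [hl j hj]
    have h2 : (p : ℤ) ∣ ((p : ℤ) ^ e) ^ (D - j) := by
      apply dvd_pow _ (by omega)
      exact dvd_pow_self _ (by omega)
    exact Dvd.dvd.mul_right (Dvd.dvd.mul_left h2 _) _
  have hmain := ordinary_iff p (Pw K π) hPm D hN hlow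
  rw [hU, hN] at hmain
  rw [← hmain]
  constructor
  · intro h
    have : ∑ i, u i = ∑ i, d i := Finset.sum_congr rfl (fun i _ => by
      have := h i
      rw [hd i] at this
      change 2 * u i = 2 * d i at this
      omega)
    rw [this, hsum]
  · intro h i
    have h1 : ∑ i, u i = ∑ i, d i := by omega
    have h2 := (Finset.sum_eq_sum_iff_of_le (fun i _ => hle i)).1 h1 i (Finset.mem_univ i)
    rw [hd i]
    change 2 * u i = 2 * d i
    omega

end Family

section Hpoly

/-- the `F`-part of `hpoly` -/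
noncomputable def hpolyA (P : Polynomial ℤ) (D : ℕ) : Polynomial ℤ :=
  ∑ k ∈ Finset.range (D + 1), Polynomial.C (P.coeff (D + k)) * Polynomial.X ^ k

/-- the `V`-part of `hpoly` -/
noncomputable def hpolyW (P : Polynomial ℤ) (ε : ℤ) (D : ℕ) : Polynomial ℤ :=
  ∑ i ∈ Finset.range D, Polynomial.C (ε * P.coeff (2 * D - i)) * Polynomial.X ^ (D - i)

lemma hpoly_eq (P : Polynomial ℤ) (ε : ℤ) (D : ℕ) :
    hpoly P ε D = Polynomial.aeval (X 0 : A) (hpolyA P D) +
      Polynomial.aeval (X 1 : A) (hpolyW P ε D) := by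
  unfold hpoly hpolyA hpolyW
  simp only [map_sum, map_mul, map_pow, Polynomial.aeval_C, Polynomial.aeval_X,
    algebraMap_eq]

lemma hpolyA_coeff (P : Polynomial ℤ) (D j : ℕ) (hj : j ≤ D) :
    (hpolyA P D).coeff j = P.coeff (D + j) := by
  unfold hpolyA
  rw [Polynomial.finset_sum_coeff]
  simp only [Polynomial.coeff_C_mul_X_pow]
  rw [Finset.sum_eq_single j]
  · simp
  · intro k _ hk
    rw [if_neg (fun h => hk h.symm)]
  · intro hj'
    exact absurd (Finset.mem_range.2 (by omega)) hj'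

lemma hpolyW_coeff_zero (P : Polynomial ℤ) (ε : ℤ) (D : ℕ) : (hpolyW P ε D).coeff 0 = 0 := by
  unfold hpolyW
  rw [Polynomial.finset_sum_coeff]
  apply Finset.sum_eq_zero
  intro i hi
  rw [Finset.mem_range] at hi
  rw [Polynomial.coeff_C_mul_X_pow, if_neg (by omega)]

lemma hpolyW_coeff_top (P : Polynomial ℤ) (ε : ℤ) (D : ℕ) (hD : 0 < D) :
    (hpolyW P ε D).coeff D = ε * P.coeff (2 * D) := by
  unfold hpolyW
  rw [Polynomial.finset_sum_coeff]
  simp only [Polynomial.coeff_C_mul_X_pow]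
  rw [Finset.sum_eq_single 0]
  · simp
  · intro i hi hi0
    rw [Finset.mem_range] at hi
    rw [if_neg (by omega)]
  · intro h0
    exact absurd (Finset.mem_range.2 hD) h0

lemma evZ_aeval_X0 (s t : ℤ) (a : Polynomial ℤ) :
    evZ s t (Polynomial.aeval (X 0 : A) a) = a.eval s := by
  rw [← Polynomial.aeval_algHom_apply, evZ_X0, Polynomial.coe_aeval_eq_eval]

lemma evZ_aeval_X1 (s t : ℤ) (a : Polynomial ℤ) :
    evZ s t (Polynomial.aeval (X 1 : A) a) = a.eval t := by
  rw [← Polynomial.aeval_algHom_apply, evZ_X1, Polynomial.coe_aeval_eq_eval]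

lemma evZ_hpoly (P : Polynomial ℤ) (ε : ℤ) (D : ℕ) :
    evZ 0 0 (hpoly P ε D) = P.coeff D := by
  rw [hpoly_eq, map_add, evZ_aeval_X0, evZ_aeval_X1, ← Polynomial.coeff_zero_eq_eval_zero,
    ← Polynomial.coeff_zero_eq_eval_zero, hpolyW_coeff_zero, add_zero,
    hpolyA_coeff P D 0 (Nat.zero_le _), add_zero]

/-- the ideal only depends on `h` modulo `FV - q` -/
lemma span_triple_congr (q s : ℤ) (h h₀ : A) (hh : h - h₀ ∈ II q) :
    Ideal.span {X 0 * X 1 - C q, h * (X 0 - C s), h * (X 1 - C s)} =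
      Ideal.span {(X 0 * X 1 - C q : A), h₀ * (X 0 - C s), h₀ * (X 1 - C s)} := by
  have key : ∀ (h h₀ : A), h - h₀ ∈ II q →
      Ideal.span {X 0 * X 1 - C q, h * (X 0 - C s), h * (X 1 - C s)} ≤
        Ideal.span {(X 0 * X 1 - C q : A), h₀ * (X 0 - C s), h₀ * (X 1 - C s)} := by
    intro h h₀ hh
    obtain ⟨c, hc⟩ := Ideal.mem_span_singleton.1 hh
    have hh' : h = h₀ + (X 0 * X 1 - C q) * c := by rw [← hc]; ring
    rw [Ideal.span_le]
    intro x hx
    rcases hx with rfl | rfl | hx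
    · exact Ideal.subset_span (by simp)
    · have : h * (X 0 - C s) = h₀ * (X 0 - C s) + (c * (X 0 - C s)) * (X 0 * X 1 - C q) := by
        rw [hh']; ring
      rw [this]
      exact Ideal.add_mem _ (Ideal.subset_span (by simp))
        (Ideal.mul_mem_left _ _ (Ideal.subset_span (by simp)))
    · rw [Set.mem_singleton_iff] at hx
      subst hx
      have : h * (X 1 - C s) = h₀ * (X 1 - C s) + (c * (X 1 - C s)) * (X 0 * X 1 - C q) := by
        rw [hh']; ring
      rw [this]
      exact Ideal.add_mem _ (Ideal.subset_span (by simp))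
        (Ideal.mul_mem_left _ _ (Ideal.subset_span (by simp)))
  apply le_antisymm (key h h₀ hh)
  apply key h₀ h
  have : h₀ - h = -(h - h₀) := by ring
  rw [this]
  exact neg_mem hh

end Hpoly

section Family2

variable (p e : ℕ) [hp : Fact p.Prime]
  {ι : Type} [Fintype ι] {K : ι → Type u} [∀ i, Field (K i)] [∀ i, CharZero (K i)]
  {π : ∀ i, K i}

include hp in
/-- any admissible `h` is congruent to the symmetric polynomial `hpoly` -/
theorem exists_hpoly (hint : ∀ i, IsIntegral ℤ (π i))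
    (hweil : ∀ i, ∀ z ∈ (minpoly ℤ (π i)).aroots ℂ, ‖z‖ = Real.sqrt ((p : ℝ) ^ e))
    (D : ℕ) (hD : ∑ i, (minpoly ℤ (π i)).natDegree = 2 * D) (h : A)
    (hh : X 0 ^ D * h - Polynomial.aeval (X 0 : A) (∏ i, minpoly ℤ (π i)) ∈
      Ideal.span ({X 0 * X 1 - C ((p : ℤ) ^ e)} : Set A)) :
    ∃ ε : ℤ, (ε = 1 ∨ ε = -1) ∧ h - hpoly (Pw K π) ε D ∈ II ((p : ℤ) ^ e) ∧
      X 0 ^ D * hpoly (Pw K π) ε D - Polynomial.aeval (X 0 : A) (Pw K π) ∈
        II ((p : ℤ) ^ e) := by
  set q : ℤ := (p : ℤ) ^ e with hqdef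
  have hq : q ≠ 0 := pow_ne_zero _ (by exact_mod_cast hp.out.ne_zero)
  obtain ⟨ε, hε0, hlow⟩ := exists_eps p e hint hweil D hD
  have hN : (Pw K π).natDegree = 2 * D := by rw [Pw_natDegree hint, hD]
  have h0mem := hpoly_mem q (Pw K π) ε D hN.le hlow
  have hε : ε = 1 ∨ ε = -1 := by
    have hqD : q ^ D ≠ 0 := pow_ne_zero _ hq
    rcases Pw_coeff_zero p e hint hweil D hD with h1 | h1
    · left
      rw [h1] at hε0
      apply mul_right_cancel₀ hqD
      rw [← hε0, one_mul]
    · right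
      rw [h1] at hε0
      apply mul_right_cancel₀ hqD
      rw [← hε0]; ring
  refine ⟨ε, hε, ?_, h0mem⟩
  have hprime := II_isPrime q hq
  have hdiff : X 0 ^ D * (h - hpoly (Pw K π) ε D) ∈ II q := by
    have : X 0 ^ D * (h - hpoly (Pw K π) ε D) =
        (X 0 ^ D * h - Polynomial.aeval (X 0 : A) (Pw K π)) -
        (X 0 ^ D * hpoly (Pw K π) ε D - Polynomial.aeval (X 0 : A) (Pw K π)) := by ring
    rw [this]
    exact Ideal.sub_mem _ hh h0mem
  rcases hprime.mem_or_mem hdiff with h1 | h1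
  · exfalso
    have h2 := hprime.mem_of_pow_mem _ h1
    rw [mem_II_iff q hq, eps_X0] at h2
    exact xq_ne_zero h2
  · exact h1

end Family2

end Groth.Agent.Lib.Helper19WeilNumI
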