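import Mathlib
import Groth.Agent.Lib.Helper19WeilNumI
import Groth.Agent.Lib.Helper29GorLink
import Groth.Agent.Lib.Helper5GorRing
import Groth.Agent.Lib.Helper5KoszulGor

/-!
# Weil numbers with one rational member: the Gorenstein property in the ordinary case
-/

set_option autoImplicit false
set_option linter.unusedSectionVars false
universe u

namespace Groth.Agent.Lib.Helper19WeilNumJ

open MvPolynomial IsLocalRing Groth.Agent.Lib.Helper19WeilNumA Groth.Agent.Lib.Helper19WeilNumH

section Reg

/-- a criterion for a pair to be a (weakly) regular sequence of a commutative ring -/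
lemma isWeaklyRegular_pair {B : Type*} [CommRing B] (r₁ r₂ : B)
    (h1 : ∀ x, r₁ * x = 0 → x = 0)
    (h2 : ∀ x, r₂ * x ∈ Ideal.span {r₁} → x ∈ Ideal.span {r₁}) :
    RingTheory.Sequence.IsWeaklyRegular B [r₁, r₂] := by
  rw [RingTheory.Sequence.isWeaklyRegular_cons_iff,
    RingTheory.Sequence.isWeaklyRegular_singleton_iff]
  constructor
  · rw [isSMulRegular_iff_right_eq_zero_of_smul]
    intro x hx
    exact h1 x hx
  · rw [isSMulRegular_iff_right_eq_zero_of_smul]
    intro x hx
    obtain ⟨g, rfl⟩ := Submodule.Quotient.mk_surjective _ x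
    rw [← Submodule.Quotient.mk_smul, Submodule.Quotient.mk_eq_zero,
      Submodule.mem_smul_pointwise_iff_exists] at hx
    obtain ⟨s, -, hs⟩ := hx
    have hmem : r₂ * g ∈ Ideal.span {r₁} := by
      rw [← smul_eq_mul r₂ g, ← hs]
      exact Ideal.mul_mem_right _ _ (Ideal.subset_span rfl)
    obtain ⟨s', hs'⟩ := Ideal.mem_span_singleton.1 (h2 g hmem)
    rw [Submodule.Quotient.mk_eq_zero, Submodule.mem_smul_pointwise_iff_exists]
    exact ⟨s', Submodule.mem_top, hs'.symm⟩

lemma gen_ne_zero (q : ℤ) (hq : q ≠ 0) : (X 0 * X 1 - C q : A) ≠ 0 := by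
  intro h0
  have := congrArg (MvPolynomial.eval (fun _ => (0 : ℤ))) h0
  simp at this
  exact hq this

/-- `[FV - q, y]` is a regular sequence as soon as `y ∉ (FV - q)` -/
lemma isWeaklyRegular_gen (q : ℤ) (hq : q ≠ 0) (y : A) (hy : y ∉ II q) :
    RingTheory.Sequence.IsWeaklyRegular A [X 0 * X 1 - C q, y] := by
  apply isWeaklyRegular_pair
  · intro x hx
    rcases mul_eq_zero.1 hx with h | h
    · exact absurd h (gen_ne_zero q hq)
    · exact h
  · intro x hx
    have hprime := II_isPrime q hq
    rcases hprime.mem_or_mem (show y * x ∈ II q from hx) with h | h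
    · exact absurd h hy
    · exact h

lemma X0_sub_ne (s : ℤ) : (X 0 - C s : A) ≠ 0 := by
  intro h0
  have := congrArg (evZ (s + 1) 0) h0
  simp at this

lemma X1_sub_ne (s : ℤ) : (X 1 - C s : A) ≠ 0 := by
  intro h0
  have := congrArg (evZ 0 (s + 1)) h0
  simp at this

/-- `[F - s, V - s]` is a regular sequence -/
lemma isWeaklyRegular_lin (s : ℤ) :
    RingTheory.Sequence.IsWeaklyRegular A [(X 0 - C s : A), X 1 - C s] := by
  apply isWeaklyRegular_pair
  · intro x hx
    rcases mul_eq_zero.1 hx with h | h
    · exact absurd h (X0_sub_ne s)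
    · exact h
  · intro x hx
    obtain ⟨c, hc⟩ := Ideal.mem_span_singleton.1 hx
    have h1 := congrArg (sub0 s) hc
    rw [map_mul, map_mul, map_sub, map_sub, sub0_X1, sub0_X0, sub0_C, sub_self,
      zero_mul] at h1
    have h2 : sub0 s x = 0 := by
      rcases mul_eq_zero.1 h1 with h | h
      · exact absurd h (X1_sub_ne s)
      · exact h
    have h3 := sub_sub0_mem s x
    rw [h2, sub_zero] at h3
    exact h3

end Reg

section Local

variable (q s : ℤ) (h : A)

/-- the ideal `(FV - q, h (F - s), h (V - s))` -/
noncomputable def III : Ideal A :=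
  Ideal.span {X 0 * X 1 - C q, h * (X 0 - C s), h * (X 1 - C s)}

lemma gen_mem_III : (X 0 * X 1 - C q : A) ∈ III q s h := Ideal.subset_span (by simp)
lemma hF_mem_III : h * (X 0 - C s) ∈ III q s h := Ideal.subset_span (by simp)
lemma hV_mem_III : h * (X 1 - C s) ∈ III q s h := Ideal.subset_span (by simp)

lemma III_map {R : Type*} [CommRing R] (al : A →+* R) :
    (III q s h).map al =
      Ideal.span {al (X 0 * X 1 - C q), al (h * (X 0 - C s)), al (h * (X 1 - C s))} := by
  unfold III
  rw [Ideal.map_span]
  congr 1
  ext x
  simp only [Set.mem_image, Set.mem_insert_iff, Set.mem_singleton_iff]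
  constructor
  · rintro ⟨y, (rfl | rfl | rfl), rfl⟩ <;> simp
  · rintro (rfl | rfl | rfl)
    · exact ⟨_, Or.inl rfl, rfl⟩
    · exact ⟨_, Or.inr (Or.inl rfl), rfl⟩
    · exact ⟨_, Or.inr (Or.inr rfl), rfl⟩

/-- quotient of a Gorenstein local ring by the image of a regular sequence under a flat map -/
lemma gorLocal_quot_of_regular (R : Type u) [CommRing R] [LocCoh.IsGorensteinLocalRing R]
    (al : A →+* R) (hflat : al.Flat) (rs : List A)
    (hreg : RingTheory.Sequence.IsWeaklyRegular A rs)
    (hmem : ∀ r ∈ rs, al r ∈ maximalIdeal R) (I : Ideal R)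
    (hI : I = Ideal.ofList (rs.map al)) : LocCoh.IsGorensteinLocalRing (R ⧸ I) := by
  let _ : Algebra A R := al.toAlgebra
  have : Module.Flat A R := hflat
  have h1 : RingTheory.Sequence.IsWeaklyRegular R (rs.map (algebraMap A R)) := hreg.of_flat
  have h2 : ∀ y ∈ rs.map al, y ∈ maximalIdeal R := by
    intro y hy
    obtain ⟨r, hr, rfl⟩ := List.mem_map.1 hy
    exact hmem r hr
  subst hI
  exact Groth.Agent.Lib.Helper29GorLink.gorLocal_quotient_ofList (rs.map al).length R
    (rs.map al) rfl h2 h1

variable {q s h}

/-- the local statement: flat local `A`-algebra `R`, Gorenstein, with the ideal inside the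
maximal ideal. -/
theorem gorLocal_quot_III (hq : q ≠ 0) (hs : s ^ 2 = q) (hh : h ∉ II q)
    (hcop : IsCoprime q (evZ 0 0 h))
    (R : Type u) [CommRing R] [LocCoh.IsGorensteinLocalRing R]
    (al : A →+* R) (hflat : al.Flat)
    (hImax : ∀ x ∈ III q s h, al x ∈ maximalIdeal R) :
    LocCoh.IsGorensteinLocalRing (R ⧸ (III q s h).map al) := by
  have hprime := II_isPrime q hq
  have hF : (X 0 - C s : A) ∉ II q := by
    rw [mem_II_iff q hq, map_sub, eps_X0, eps_C]
    intro h0
    have h1 : xq = algebraMap (Polynomial ℤ) Q (Polynomial.C s) := by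
      rw [sub_eq_zero] at h0
      rw [h0]; simp
    have h2 := IsFractionRing.injective (Polynomial ℤ) Q h1
    have h3 := congrArg Polynomial.natDegree h2
    simp at h3
  have hV : (X 1 - C s : A) ∉ II q := by
    rw [mem_II_iff q hq, map_sub, eps_X1, eps_C]
    intro h0
    rw [sub_eq_zero, div_eq_iff xq_ne_zero] at h0
    have h1 : algebraMap (Polynomial ℤ) Q (Polynomial.C q) =
        algebraMap (Polynomial ℤ) Q (Polynomial.C s * Polynomial.X) := by
      rw [map_mul]
      simpa [xq] using h0
    have h2 := IsFractionRing.injective (Polynomial ℤ) Q h1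
    have h3 := congrArg (fun f => Polynomial.coeff f 0) h2
    simp at h3
    exact hq h3
  -- the two identities
  have idF : (X 0 : A) * (h * (X 1 - C s)) =
      h * (X 0 * X 1 - C q) - C s * (h * (X 0 - C s)) := by
    rw [← hs]; simp only [map_pow]; ring
  have idV : (X 1 : A) * (h * (X 0 - C s)) =
      h * (X 0 * X 1 - C q) - C s * (h * (X 1 - C s)) := by
    rw [← hs]; simp only [map_pow]; ring
  have idG : (X 0 * X 1 - C q : A) = (X 0 - C s) * X 1 + C s * (X 1 - C s) := by
    rw [← hs]; simp only [map_pow]; ring
  by_cases hF1 : IsUnit (al (X 0))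
  · -- first case
    obtain ⟨u, hu⟩ := hF1.exists_left_inv
    apply gorLocal_quot_of_regular R al hflat [X 0 * X 1 - C q, h * (X 0 - C s)]
      (isWeaklyRegular_gen q hq _ (fun hmem => by
        rcases hprime.mem_or_mem hmem with h1 | h1
        · exact hh h1
        · exact hF h1))
    · intro r hr
      simp only [List.mem_cons, List.not_mem_nil, or_false] at hr
      rcases hr with rfl | rfl
      · exact hImax _ (gen_mem_III q s h)
      · exact hImax _ (hF_mem_III q s h)
    · rw [III_map]
      simp only [List.map_cons, List.map_nil, Ideal.ofList_cons, Ideal.ofList_nil, sup_bot_eq]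
      rw [← Ideal.span_union, Set.singleton_union]
      apply le_antisymm
      · rw [Ideal.span_le]
        intro x hx
        rcases hx with rfl | rfl | hx
        · exact Ideal.subset_span (by simp)
        · exact Ideal.subset_span (by simp)
        · rw [Set.mem_singleton_iff] at hx
          subst hx
          have : al (h * (X 1 - C s)) = u * (al h * al (X 0 * X 1 - C q) -
              al (C s) * al (h * (X 0 - C s))) := by
            calc al (h * (X 1 - C s)) = (u * al (X 0)) * al (h * (X 1 - C s)) := by
                  rw [hu, one_mul]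
              _ = u * al (X 0 * (h * (X 1 - C s))) := by
                  rw [map_mul al (X 0)]; ring
              _ = _ := by rw [idF, map_sub, map_mul, map_mul]
          rw [this]
          apply Ideal.mul_mem_left
          exact Ideal.sub_mem _ (Ideal.mul_mem_left _ _ (Ideal.subset_span (by simp)))
            (Ideal.mul_mem_left _ _ (Ideal.subset_span (by simp)))
      · apply Ideal.span_mono
        intro x hx
        rcases hx with rfl | hx
        · simp
        · rw [Set.mem_singleton_iff] at hx
          subst hx
          simp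
  by_cases hV1 : IsUnit (al (X 1))
  · obtain ⟨u, hu⟩ := hV1.exists_left_inv
    apply gorLocal_quot_of_regular R al hflat [X 0 * X 1 - C q, h * (X 1 - C s)]
      (isWeaklyRegular_gen q hq _ (fun hmem => by
        rcases hprime.mem_or_mem hmem with h1 | h1
        · exact hh h1
        · exact hV h1))
    · intro r hr
      simp only [List.mem_cons, List.not_mem_nil, or_false] at hr
      rcases hr with rfl | rfl
      · exact hImax _ (gen_mem_III q s h)
      · exact hImax _ (hV_mem_III q s h)
    · rw [III_map]
      simp only [List.map_cons, List.map_nil, Ideal.ofList_cons, Ideal.ofList_nil, sup_bot_eq]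
      rw [← Ideal.span_union, Set.singleton_union]
      apply le_antisymm
      · rw [Ideal.span_le]
        intro x hx
        rcases hx with rfl | rfl | hx
        · exact Ideal.subset_span (by simp)
        · have : al (h * (X 0 - C s)) = u * (al h * al (X 0 * X 1 - C q) -
              al (C s) * al (h * (X 1 - C s))) := by
            calc al (h * (X 0 - C s)) = (u * al (X 1)) * al (h * (X 0 - C s)) := by
                  rw [hu, one_mul]
              _ = u * al (X 1 * (h * (X 0 - C s))) := by
                  rw [map_mul al (X 1)]; ring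
              _ = _ := by rw [idV, map_sub, map_mul, map_mul]
          rw [this]
          apply Ideal.mul_mem_left
          exact Ideal.sub_mem _ (Ideal.mul_mem_left _ _ (Ideal.subset_span (by simp)))
            (Ideal.mul_mem_left _ _ (Ideal.subset_span (by simp)))
        · rw [Set.mem_singleton_iff] at hx
          subst hx
          exact Ideal.subset_span (by simp)
      · apply Ideal.span_mono
        intro x hx
        rcases hx with rfl | hx
        · simp
        · rw [Set.mem_singleton_iff] at hx
          subst hx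
          simp
  -- third case: `h` is a unit
  have hF2 : al (X 0) ∈ maximalIdeal R := (IsLocalRing.mem_maximalIdeal _).2 hF1
  have hV2 : al (X 1) ∈ maximalIdeal R := (IsLocalRing.mem_maximalIdeal _).2 hV1
  have hh1 : IsUnit (al h) := by
    by_contra hnu
    have hh2 : al h ∈ maximalIdeal R := (IsLocalRing.mem_maximalIdeal _).2 hnu
    have hq2 : al (C q) ∈ maximalIdeal R := by
      have : al (C q) = al (X 0) * al (X 1) - al (X 0 * X 1 - C q) := by
        rw [map_sub, map_mul]; ring
      rw [this]
      exact Ideal.sub_mem _ (Ideal.mul_mem_right _ _ hF2) (hImax _ (gen_mem_III q s h))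
    have hc2 : al (C (evZ 0 0 h)) ∈ maximalIdeal R := by
      have h1 := sub_C_evZ_mem 0 0 h
      obtain ⟨a, b, hab⟩ := Ideal.mem_span_pair.1 h1
      have : al (C (evZ 0 0 h)) = al h - (al a * al (X 0) + al b * al (X 1)) := by
        have h2 : C (evZ 0 0 h) = h - (a * X 0 + b * X 1) := by
          have h3 : a * (X 0 - C 0) + b * (X 1 - C 0) = a * X 0 + b * X 1 := by
            simp
          rw [← h3, hab]; ring
        rw [h2, map_sub, map_add, map_mul, map_mul]
      rw [this]
      exact Ideal.sub_mem _ hh2 (Ideal.add_mem _ (Ideal.mul_mem_left _ _ hF2)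
        (Ideal.mul_mem_left _ _ hV2))
    obtain ⟨a, b, hab⟩ := hcop
    have h1 : (1 : R) ∈ maximalIdeal R := by
      have : (1 : R) = al (C a) * al (C q) + al (C b) * al (C (evZ 0 0 h)) := by
        have h0 : (1 : R) = al (C (a * q + b * evZ 0 0 h)) := by
          rw [hab]; simp
        rw [h0, C_add, C_mul, C_mul, map_add, map_mul, map_mul]
      rw [this]
      exact Ideal.add_mem _ (Ideal.mul_mem_left _ _ hq2) (Ideal.mul_mem_left _ _ hc2)
    exact (Ideal.ne_top_iff_one _).1 (IsLocalRing.maximalIdeal.isMaximal R).ne_top h1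
  obtain ⟨u, hu⟩ := hh1.exists_left_inv
  apply gorLocal_quot_of_regular R al hflat [X 0 - C s, X 1 - C s] (isWeaklyRegular_lin s)
  · intro r hr
    simp only [List.mem_cons, List.not_mem_nil, or_false] at hr
    rcases hr with rfl | rfl
    · have : al (X 0 - C s) = u * al (h * (X 0 - C s)) := by
        rw [map_mul, ← mul_assoc, hu, one_mul]
      rw [this]
      exact Ideal.mul_mem_left _ _ (hImax _ (hF_mem_III q s h))
    · have : al (X 1 - C s) = u * al (h * (X 1 - C s)) := by
        rw [map_mul, ← mul_assoc, hu, one_mul]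
      rw [this]
      exact Ideal.mul_mem_left _ _ (hImax _ (hV_mem_III q s h))
  · rw [III_map]
    simp only [List.map_cons, List.map_nil, Ideal.ofList_cons, Ideal.ofList_nil, sup_bot_eq]
    rw [← Ideal.span_union, Set.singleton_union]
    apply le_antisymm
    · rw [Ideal.span_le]
      intro x hx
      rcases hx with rfl | rfl | hx
      · rw [idG, map_add, map_mul, map_mul]
        exact Ideal.add_mem _ (Ideal.mul_mem_right _ _ (Ideal.subset_span (by simp)))
          (Ideal.mul_mem_left _ _ (Ideal.subset_span (by simp)))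
      · rw [map_mul]
        exact Ideal.mul_mem_left _ _ (Ideal.subset_span (by simp))
      · rw [Set.mem_singleton_iff] at hx
        subst hx
        rw [map_mul]
        exact Ideal.mul_mem_left _ _ (Ideal.subset_span (by simp))
    · rw [Ideal.span_le]
      intro x hx
      rcases hx with rfl | hx
      · have : al (X 0 - C s) = u * al (h * (X 0 - C s)) := by
          rw [map_mul, ← mul_assoc, hu, one_mul]
        rw [this]
        exact Ideal.mul_mem_left _ _ (Ideal.subset_span (by simp))
      · rw [Set.mem_singleton_iff] at hx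
        subst hx
        have : al (X 1 - C s) = u * al (h * (X 1 - C s)) := by
          rw [map_mul, ← mul_assoc, hu, one_mul]
        rw [this]
        exact Ideal.mul_mem_left _ _ (Ideal.subset_span (by simp))

end Local

section Global

variable {q s : ℤ} {h : A}

/-- the ring `ℤ[F,V]/(FV - q, h (F - s), h (V - s))` is Gorenstein when `q = s²` is coprime to
`h(0,0)` and `h ∉ (FV - q)`. -/
theorem gorenstein_of_coprime (hq : q ≠ 0) (hs : s ^ 2 = q) (hh : h ∉ II q)
    (hcop : IsCoprime q (evZ 0 0 h))
    (S : Type u) [CommRing S] (ρ₀ : A →+* S) (hsurj : Function.Surjective ρ₀)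
    (hker : RingHom.ker ρ₀ = III q s h) : LocCoh.IsGorensteinRing S := by
  let dn : ULift.{u} A ≃+* A := ULift.ringEquiv
  have hregA : IsRegularRing A := inferInstance
  have hregB : IsRegularRing (ULift.{u} A) := IsRegularRing.of_ringEquiv dn.symm
  have hB0 : LocCoh.IsGorensteinRing (ULift.{u} A) :=
    Groth.Agent.Lib.Helper5.GorRing.gorRing_of_isRegularRing _
  let ψ : ULift.{u} A →+* S := ρ₀.comp dn.toRingHom
  have hψsurj : Function.Surjective ψ := hsurj.comp dn.surjective
  suffices hG : LocCoh.IsGorensteinRing (ULift.{u} A ⧸ RingHom.ker ψ) from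
    Groth.Agent.Lib.Helper5.GorRing.gorRing_of_ringEquiv
      (RingHom.quotientKerEquivOfSurjective hψsurj)
  have hJ : RingHom.ker ψ = (III q s h).comap dn.toRingHom := by
    rw [← hker]
    rfl
  refine { isGorensteinLocalRing_localization := ?_ }
  intro q' hq'
  have hQp : (q'.comap (Ideal.Quotient.mk (RingHom.ker ψ))).IsPrime := Ideal.comap_isPrime _ _
  have hJQ : RingHom.ker ψ ≤ q'.comap (Ideal.Quotient.mk (RingHom.ker ψ)) := by
    intro a ha
    rw [Ideal.mem_comap, Ideal.Quotient.eq_zero_iff_mem.mpr ha]
    exact zero_mem _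
  refine Groth.Agent.Lib.Helper5.KoszulGor.gorLocal_atPrime_quotient (RingHom.ker ψ)
    (q'.comap (Ideal.Quotient.mk (RingHom.ker ψ))) hJQ q'
    (Ideal.map_comap_of_surjective _ Ideal.Quotient.mk_surjective q').symm ?_
  set Qp := q'.comap (Ideal.Quotient.mk (RingHom.ker ψ)) with hQpdef
  let al : A →+* Localization.AtPrime Qp :=
    (algebraMap (ULift.{u} A) (Localization.AtPrime Qp)).comp dn.symm.toRingHom
  have hflat : al.Flat := by
    apply RingHom.Flat.comp
    · exact RingHom.Flat.of_bijective dn.symm.bijective
    · exact RingHom.flat_algebraMap_iff.2 inferInstance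
  have hmap : (RingHom.ker ψ).map (algebraMap (ULift.{u} A) (Localization.AtPrime Qp)) =
      (III q s h).map al := by
    rw [hJ]
    change _ = (III q s h).map ((algebraMap (ULift.{u} A) (Localization.AtPrime Qp)).comp
      dn.symm.toRingHom)
    rw [← Ideal.map_map]
    congr 1
    exact (Ideal.map_symm dn).symm
  have hImax : ∀ x ∈ III q s h, al x ∈ maximalIdeal (Localization.AtPrime Qp) := by
    intro x hx
    have h1 : dn.symm x ∈ Qp := by
      apply hJQ
      rw [hJ, Ideal.mem_comap]
      change dn (dn.symm x) ∈ _
      rw [RingEquiv.apply_symm_apply]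
      exact hx
    exact (IsLocalization.AtPrime.to_map_mem_maximal_iff (Localization.AtPrime Qp) Qp _).2 h1
  haveI : LocCoh.IsGorensteinLocalRing (Localization.AtPrime Qp) :=
    hB0.isGorensteinLocalRing_localization Qp
  have hfin := gorLocal_quot_III hq hs hh hcop (Localization.AtPrime Qp) al hflat hImax
  rw [hmap]
  exact hfin

end Global

end Groth.Agent.Lib.Helper19WeilNumJ
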