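import Mathlib
import Groth.Agent.Lib.Helper19WeilNumJ
import Groth.Agent.Lib.Helper5GorArt

/-!
# Weil numbers with one rational member: failure of the Gorenstein property
in the non-ordinary case
-/

set_option autoImplicit false
set_option linter.unusedSectionVars false
universe u

namespace Groth.Agent.Lib.Helper19WeilNumK

open MvPolynomial IsLocalRing Groth.Agent.Lib.Helper19WeilNumA Groth.Agent.Lib.Helper19WeilNumH
  Groth.Agent.Lib.Helper19WeilNumJ

section Detect

variable (p : ℕ) [hp : Fact p.Prime]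

/-- reduction mod `p` of the value at the origin -/
noncomputable def kap : A →+* ZMod p := (Int.castRingHom (ZMod p)).comp (evZ 0 0 : A →+* ℤ)

/-- reduce mod `p`, keep the variable `j`, kill the other one -/
noncomputable def zz (j : Fin 2) : A →+* Polynomial (ZMod p) :=
  eval₂Hom (Polynomial.C.comp (Int.castRingHom (ZMod p)))
    (fun k => if k = j then Polynomial.X else 0)

lemma zz_C (j : Fin 2) (c : ℤ) : zz p j (C c) = Polynomial.C ((c : ℤ) : ZMod p) := by
  simp [zz]

lemma zz_X_self (j : Fin 2) : zz p j (X j) = Polynomial.X := by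
  simp [zz]

lemma zz_X_ne (j k : Fin 2) (hk : k ≠ j) : zz p j (X k) = 0 := by
  simp [zz, hk]

lemma zz_coeff_zero (j : Fin 2) (f : A) : (zz p j f).coeff 0 = kap p f := by
  have : (Polynomial.constantCoeff).comp (zz p j) = kap p := by
    apply MvPolynomial.ringHom_ext
    · intro c
      simp [zz, kap]
    · intro k
      have h1 : zz p j (X k) = if k = j then Polynomial.X else 0 := by simp [zz]
      have h2 : evZ 0 0 (X k) = 0 := by fin_cases k <;> simp
      have h3 : kap p (X k) = 0 := by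
        change ((evZ 0 0 (X k) : ℤ) : ZMod p) = 0
        rw [h2]; simp
      rw [RingHom.comp_apply, h1, h3]
      split_ifs <;> simp
  have h1 := RingHom.congr_fun this f
  simpa using h1

lemma zz_aeval_self (j : Fin 2) (a : Polynomial ℤ) :
    zz p j (Polynomial.aeval (X j : A) a) = a.map (Int.castRingHom (ZMod p)) := by
  have : (zz p j).comp ((Polynomial.aeval (X j : A)).toRingHom) =
      Polynomial.mapRingHom (Int.castRingHom (ZMod p)) := by
    apply Polynomial.ringHom_ext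
    · intro c
      simp [zz_C]
    · simp [zz_X_self]
  exact RingHom.congr_fun this a

lemma zz_aeval_ne (j k : Fin 2) (hk : k ≠ j) (a : Polynomial ℤ) :
    zz p j (Polynomial.aeval (X k : A) a) = Polynomial.C ((a.coeff 0 : ℤ) : ZMod p) := by
  have : (zz p j).comp ((Polynomial.aeval (X k : A)).toRingHom) =
      (Polynomial.C.comp (Int.castRingHom (ZMod p))).comp (Polynomial.constantCoeff) := by
    apply Polynomial.ringHom_ext
    · intro c
      simp [zz_C]
    · simp [zz_X_ne p j k hk]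
  have h1 := RingHom.congr_fun this a
  simpa using h1

/-- the detection lemma -/
lemma detect (j : Fin 2) (I : Ideal A) (b : Polynomial (ZMod p)) (hb : b ≠ 0)
    (hI : ∀ i ∈ I, Polynomial.X * b ∣ zz p j i) (x : A) (hx : zz p j x = b)
    (t y : A) (ht : kap p t ≠ 0) (hty : t * x - C (p : ℤ) * y ∈ I) : False := by
  have h1 := hI _ hty
  rw [map_sub, map_mul, map_mul, zz_C, hx] at h1
  have h2 : ((p : ℤ) : ZMod p) = 0 := by simp
  rw [h2, map_zero, zero_mul, sub_zero] at h1
  obtain ⟨c, hc⟩ := h1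
  have h3 : zz p j t = Polynomial.X * c := by
    apply mul_right_cancel₀ hb
    rw [hc]; ring
  apply ht
  rw [← zz_coeff_zero p j, h3]
  simp

end Detect

section Main

variable (p : ℕ) [hp : Fact p.Prime] (q s : ℤ) (a w : Polynomial ℤ)

/-- the polynomial `h₀ = a(F) + w(V)` -/
noncomputable def hh : A := Polynomial.aeval (X 0 : A) a + Polynomial.aeval (X 1 : A) w

variable {p q s a w}

lemma aeval_split (j : Fin 2) (b : Polynomial ℤ) :
    Polynomial.aeval (X j : A) b = X j * Polynomial.aeval (X j : A) b.divX + C (b.coeff 0) := by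
  conv_lhs => rw [← Polynomial.divX_mul_X_add b]
  rw [map_add, map_mul, Polynomial.aeval_X, Polynomial.aeval_C]
  simp only [algebraMap_eq]
  ring

/-- the ideal `III + (p)` -/
noncomputable def IIIp (p : ℕ) (q s : ℤ) (h : A) : Ideal A := III q s h ⊔ Ideal.span {C (p : ℤ)}

lemma C_mem_IIIp (h : A) (c : ℤ) (hc : (p : ℤ) ∣ c) : C c ∈ IIIp p q s h := by
  obtain ⟨c', rfl⟩ := hc
  rw [C_mul]
  exact Ideal.mul_mem_right _ _ (Ideal.mem_sup_right (Ideal.subset_span rfl))

lemma X0X1_mem_IIIp (h : A) (hq : (p : ℤ) ∣ q) : (X 0 * X 1 : A) ∈ IIIp p q s h := by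
  have : (X 0 * X 1 : A) = (X 0 * X 1 - C q) + C q := by ring
  rw [this]
  exact Ideal.add_mem _ (Ideal.mem_sup_left (gen_mem_III q s h)) (C_mem_IIIp h q hq)

lemma cross01 (h : A) (hq : (p : ℤ) ∣ q) (b : Polynomial ℤ) (hb : (p : ℤ) ∣ b.coeff 0) :
    X 0 * Polynomial.aeval (X 1 : A) b ∈ IIIp p q s h := by
  rw [aeval_split 1 b]
  have : (X 0 : A) * (X 1 * Polynomial.aeval (X 1 : A) b.divX + C (b.coeff 0)) =
      Polynomial.aeval (X 1 : A) b.divX * (X 0 * X 1) + X 0 * C (b.coeff 0) := by ring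
  rw [this]
  exact Ideal.add_mem _ (Ideal.mul_mem_left _ _ (X0X1_mem_IIIp h hq))
    (Ideal.mul_mem_left _ _ (C_mem_IIIp h _ hb))

lemma cross10 (h : A) (hq : (p : ℤ) ∣ q) (b : Polynomial ℤ) (hb : (p : ℤ) ∣ b.coeff 0) :
    X 1 * Polynomial.aeval (X 0 : A) b ∈ IIIp p q s h := by
  rw [aeval_split 0 b]
  have : (X 1 : A) * (X 0 * Polynomial.aeval (X 0 : A) b.divX + C (b.coeff 0)) =
      Polynomial.aeval (X 0 : A) b.divX * (X 0 * X 1) + X 1 * C (b.coeff 0) := by ring
  rw [this]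
  exact Ideal.add_mem _ (Ideal.mul_mem_left _ _ (X0X1_mem_IIIp h hq))
    (Ideal.mul_mem_left _ _ (C_mem_IIIp h _ hb))

lemma X0_hh_mem (hs : (p : ℤ) ∣ s) : X 0 * hh a w ∈ IIIp p q s (hh a w) := by
  have : X 0 * hh a w = hh a w * (X 0 - C s) + hh a w * C s := by ring
  rw [this]
  exact Ideal.add_mem _ (Ideal.mem_sup_left (hF_mem_III q s _))
    (Ideal.mul_mem_left _ _ (C_mem_IIIp _ s hs))

lemma X1_hh_mem (hs : (p : ℤ) ∣ s) : X 1 * hh a w ∈ IIIp p q s (hh a w) := by
  have : X 1 * hh a w = hh a w * (X 1 - C s) + hh a w * C s := by ring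
  rw [this]
  exact Ideal.add_mem _ (Ideal.mem_sup_left (hV_mem_III q s _))
    (Ideal.mul_mem_left _ _ (C_mem_IIIp _ s hs))

/-- multiplying the two socle representatives by an element vanishing at the origin mod `p`
lands in `III + (p)` -/
lemma mul_mem_IIIp (hq : (p : ℤ) ∣ q) (hs : (p : ℤ) ∣ s) (ha0 : (p : ℤ) ∣ a.coeff 0)
    (hw0 : (p : ℤ) ∣ w.coeff 0) (x : A) (hx : kap p x = 0) :
    x * Polynomial.aeval (X 0 : A) a ∈ IIIp p q s (hh a w) ∧
      x * Polynomial.aeval (X 1 : A) w ∈ IIIp p q s (hh a w) := by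
  have hx0 : (p : ℤ) ∣ evZ 0 0 x := by
    have : ((evZ 0 0 x : ℤ) : ZMod p) = 0 := hx
    exact (ZMod.intCast_zmod_eq_zero_iff_dvd _ p).1 this
  obtain ⟨c, d, hcd⟩ := Ideal.mem_span_pair.1 (sub_C_evZ_mem 0 0 x)
  have hxe : x = c * X 0 + d * X 1 + C (evZ 0 0 x) := by
    have h3 : c * (X 0 - C 0) + d * (X 1 - C 0) = c * X 0 + d * X 1 := by simp
    rw [← h3, hcd]; ring
  have e1 : X 0 * Polynomial.aeval (X 0 : A) a ∈ IIIp p q s (hh a w) := by
    have : X 0 * Polynomial.aeval (X 0 : A) a =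
        X 0 * hh a w - X 0 * Polynomial.aeval (X 1 : A) w := by
      unfold hh; ring
    rw [this]
    exact Ideal.sub_mem _ (X0_hh_mem hs) (cross01 _ hq w hw0)
  have e2 : X 1 * Polynomial.aeval (X 1 : A) w ∈ IIIp p q s (hh a w) := by
    have : X 1 * Polynomial.aeval (X 1 : A) w =
        X 1 * hh a w - X 1 * Polynomial.aeval (X 0 : A) a := by
      unfold hh; ring
    rw [this]
    exact Ideal.sub_mem _ (X1_hh_mem hs) (cross10 _ hq a ha0)
  constructor
  · rw [hxe]
    have : (c * X 0 + d * X 1 + C (evZ 0 0 x)) * Polynomial.aeval (X 0 : A) a =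
        c * (X 0 * Polynomial.aeval (X 0 : A) a) + d * (X 1 * Polynomial.aeval (X 0 : A) a) +
        Polynomial.aeval (X 0 : A) a * C (evZ 0 0 x) := by ring
    rw [this]
    exact Ideal.add_mem _ (Ideal.add_mem _ (Ideal.mul_mem_left _ _ e1)
      (Ideal.mul_mem_left _ _ (cross10 _ hq a ha0)))
      (Ideal.mul_mem_left _ _ (C_mem_IIIp _ _ hx0))
  · rw [hxe]
    have : (c * X 0 + d * X 1 + C (evZ 0 0 x)) * Polynomial.aeval (X 1 : A) w =
        c * (X 0 * Polynomial.aeval (X 1 : A) w) + d * (X 1 * Polynomial.aeval (X 1 : A) w) +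
        Polynomial.aeval (X 1 : A) w * C (evZ 0 0 x) := by ring
    rw [this]
    exact Ideal.add_mem _ (Ideal.add_mem _ (Ideal.mul_mem_left _ _ (cross01 _ hq w hw0))
      (Ideal.mul_mem_left _ _ e2))
      (Ideal.mul_mem_left _ _ (C_mem_IIIp _ _ hx0))

/-- `zz 0` maps `III` into `(X ā)` -/
lemma zz0_III (hq : (p : ℤ) ∣ q) (hs : (p : ℤ) ∣ s) (hw0 : (p : ℤ) ∣ w.coeff 0) :
    ∀ i ∈ III q s (hh a w),
      Polynomial.X * a.map (Int.castRingHom (ZMod p)) ∣ zz p 0 i := by
  have hq' : ((q : ℤ) : ZMod p) = 0 := (ZMod.intCast_zmod_eq_zero_iff_dvd _ p).2 hq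
  have hs' : ((s : ℤ) : ZMod p) = 0 := (ZMod.intCast_zmod_eq_zero_iff_dvd _ p).2 hs
  have hw' : ((w.coeff 0 : ℤ) : ZMod p) = 0 := (ZMod.intCast_zmod_eq_zero_iff_dvd _ p).2 hw0
  have hhz : zz p 0 (hh a w) = a.map (Int.castRingHom (ZMod p)) := by
    unfold hh
    rw [map_add, zz_aeval_self, zz_aeval_ne p 0 1 (by decide), hw', map_zero, add_zero]
  intro i hi
  unfold III at hi
  refine Submodule.span_induction ?_ ?_ ?_ ?_ hi
  · intro x hx
    rcases hx with rfl | rfl | hx
    · rw [map_sub, map_mul, zz_X_self, zz_X_ne p 0 1 (by decide), zz_C, hq']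
      simp
    · rw [map_mul, map_sub, zz_X_self, zz_C, hs', hhz]
      simp [mul_comm]
    · rw [Set.mem_singleton_iff] at hx
      subst hx
      rw [map_mul, map_sub, zz_X_ne p 0 1 (by decide), zz_C, hs']
      simp
  · simp
  · intro x y _ _ hx hy
    rw [map_add]
    exact dvd_add hx hy
  · intro c x _ hx
    rw [smul_eq_mul, map_mul]
    exact Dvd.dvd.mul_left hx _

/-- `zz 1` maps `III` into `(X w̄)` -/
lemma zz1_III (hq : (p : ℤ) ∣ q) (hs : (p : ℤ) ∣ s) (ha0 : (p : ℤ) ∣ a.coeff 0) :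
    ∀ i ∈ III q s (hh a w),
      Polynomial.X * w.map (Int.castRingHom (ZMod p)) ∣ zz p 1 i := by
  have hq' : ((q : ℤ) : ZMod p) = 0 := (ZMod.intCast_zmod_eq_zero_iff_dvd _ p).2 hq
  have hs' : ((s : ℤ) : ZMod p) = 0 := (ZMod.intCast_zmod_eq_zero_iff_dvd _ p).2 hs
  have ha' : ((a.coeff 0 : ℤ) : ZMod p) = 0 := (ZMod.intCast_zmod_eq_zero_iff_dvd _ p).2 ha0
  have hhz : zz p 1 (hh a w) = w.map (Int.castRingHom (ZMod p)) := by
    unfold hh
    rw [map_add, zz_aeval_self, zz_aeval_ne p 1 0 (by decide), ha', map_zero, zero_add]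
  intro i hi
  unfold III at hi
  refine Submodule.span_induction ?_ ?_ ?_ ?_ hi
  · intro x hx
    rcases hx with rfl | rfl | hx
    · rw [map_sub, map_mul, zz_X_self, zz_X_ne p 1 0 (by decide), zz_C, hq']
      simp
    · rw [map_mul, map_sub, zz_X_ne p 1 0 (by decide), zz_C, hs']
      simp
    · rw [Set.mem_singleton_iff] at hx
      subst hx
      rw [map_mul, map_sub, zz_X_self, zz_C, hs', hhz]
      simp [mul_comm]
  · simp
  · intro x y _ _ hx hy
    rw [map_add]
    exact dvd_add hx hy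
  · intro c x _ hx
    rw [smul_eq_mul, map_mul]
    exact Dvd.dvd.mul_left hx _

end Main

end Groth.Agent.Lib.Helper19WeilNumK
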