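import Mathlib
import Groth.Agent.Lib.Helper19WeilNumK

/-!
# Weil numbers with one rational member: the non-Gorenstein theorem
-/

set_option autoImplicit false
set_option linter.unusedSectionVars false
universe u

namespace Groth.Agent.Lib.Helper19WeilNumL

open MvPolynomial IsLocalRing Groth.Agent.Lib.Helper19WeilNumA Groth.Agent.Lib.Helper19WeilNumH
  Groth.Agent.Lib.Helper19WeilNumJ Groth.Agent.Lib.Helper19WeilNumK
  Groth.Agent.Lib.Helper5.GorArt

/-- `ℤ[F,V]/(FV - q, h₀ (F - s), h₀ (V - s))` with `h₀ = a(F) + w(V)`, `p ∣ q, s, a(0), w(0)` and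
`a, w` nonzero mod `p`, is not Gorenstein (as soon as it is finite over `ℤ` with `p` regular). -/
theorem not_gorenstein (p : ℕ) [hp : Fact p.Prime] (q s : ℤ) (hq : (p : ℤ) ∣ q)
    (hs : (p : ℤ) ∣ s) (a w : Polynomial ℤ) (ha0 : (p : ℤ) ∣ a.coeff 0)
    (hw0 : (p : ℤ) ∣ w.coeff 0)
    (ha : a.map (Int.castRingHom (ZMod p)) ≠ 0) (hw : w.map (Int.castRingHom (ZMod p)) ≠ 0)
    (S : Type u) [CommRing S] (ρ₀ : A →+* S) (hsurj : Function.Surjective ρ₀)
    (hker : RingHom.ker ρ₀ = III q s (hh a w))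
    [Module.Finite ℤ S] (hreg : IsSMulRegular S (ρ₀ (C (p : ℤ)))) :
    ¬ LocCoh.IsGorensteinRing S := by
  intro hG
  have hq' : ((q : ℤ) : ZMod p) = 0 := (ZMod.intCast_zmod_eq_zero_iff_dvd _ p).2 hq
  have hs' : ((s : ℤ) : ZMod p) = 0 := (ZMod.intCast_zmod_eq_zero_iff_dvd _ p).2 hs
  have ha' : ((a.coeff 0 : ℤ) : ZMod p) = 0 := (ZMod.intCast_zmod_eq_zero_iff_dvd _ p).2 ha0
  have hkerκ : RingHom.ker ρ₀ ≤ RingHom.ker (kap p) := by
    rw [hker]
    unfold III
    rw [Ideal.span_le]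
    intro x hx
    rw [SetLike.mem_coe, RingHom.mem_ker]
    change ((evZ 0 0 x : ℤ) : ZMod p) = 0
    rcases hx with rfl | rfl | hx
    · rw [map_sub, map_mul, evZ_X0, evZ_X1, evZ_C]
      simp [hq']
    · rw [map_mul, map_sub, evZ_X0, evZ_C]
      simp [hs']
    · rw [Set.mem_singleton_iff] at hx
      subst hx
      rw [map_mul, map_sub, evZ_X1, evZ_C]
      simp [hs']
  let κS : S →+* ZMod p := RingHom.liftOfSurjective ρ₀ hsurj ⟨kap p, hkerκ⟩
  have hκS : ∀ x, κS (ρ₀ x) = kap p x := fun x =>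
    RingHom.liftOfSurjective_comp_apply ρ₀ hsurj ⟨kap p, hkerκ⟩ x
  set pS : S := ρ₀ (C (p : ℤ)) with hpS
  have hpScast : pS = ((p : ℤ) : S) := by
    rw [hpS, eq_intCast (C : ℤ →+* A) (p : ℤ), map_intCast]
  let q' : Ideal S := RingHom.ker κS
  haveI hq'prime : q'.IsPrime := RingHom.ker_isPrime κS
  have hpq' : pS ∈ q' := by
    rw [RingHom.mem_ker, hκS]
    change ((evZ 0 0 (C (p : ℤ)) : ℤ) : ZMod p) = 0
    rw [evZ_C]
    simp
  have hspanle : Ideal.span {pS} ≤ q' := by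
    rw [Ideal.span_le, Set.singleton_subset_iff]
    exact hpq'
  let mkp : S →+* S ⧸ Ideal.span {pS} := Ideal.Quotient.mk (Ideal.span {pS})
  have hmkp : Function.Surjective mkp := Ideal.Quotient.mk_surjective
  let P' : Ideal (S ⧸ Ideal.span {pS}) := q'.map mkp
  haveI hP' : P'.IsPrime := Ideal.map_isPrime_of_surjective hmkp (by
    rw [Ideal.mk_ker]; exact hspanle)
  haveI hGL : LocCoh.IsGorensteinLocalRing (Localization.AtPrime P') :=
    Groth.Agent.Lib.Helper5.GorRing.gorLocal_localization_quotient pS hreg q' hpq' P' rfl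
  -- finiteness
  have hfinZ : Module.Finite ℤ (S ⧸ Ideal.span {pS}) :=
    Module.Finite.of_surjective (Ideal.Quotient.mkₐ ℤ (Ideal.span {pS})).toLinearMap
      (Ideal.Quotient.mkₐ_surjective ℤ _)
  have htors : Module.IsTorsion ℤ (S ⧸ Ideal.span {pS}) := by
    intro x
    obtain ⟨y, rfl⟩ := Ideal.Quotient.mk_surjective x
    refine ⟨⟨(p : ℤ), mem_nonZeroDivisors_of_ne_zero (by exact_mod_cast hp.out.ne_zero)⟩, ?_⟩
    change (p : ℤ) • (Ideal.Quotient.mk (Ideal.span {pS}) y) = 0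
    rw [← map_zsmul, zsmul_eq_mul, ← hpScast, Ideal.Quotient.eq_zero_iff_mem]
    exact Ideal.mul_mem_right _ _ (Ideal.subset_span rfl)
  haveI hfin : Finite (S ⧸ Ideal.span {pS}) := Module.finite_of_fg_torsion _ htors
  haveI hart : IsArtinianRing (S ⧸ Ideal.span {pS}) := isArtinian_of_finite
  haveI hartL : IsArtinianRing (Localization.AtPrime P') := inferInstance
  let ρ : A →+* Localization.AtPrime P' :=
    (algebraMap (S ⧸ Ideal.span {pS}) (Localization.AtPrime P')).comp (mkp.comp ρ₀)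
  have hρsurj : Function.Surjective ρ :=
    (IsArtinianRing.localization_surjective P'.primeCompl (Localization.AtPrime P')).comp
      (hmkp.comp hsurj)
  have K0 : ∀ x ∈ IIIp p q s (hh a w), ρ x = 0 := by
    intro x hx
    unfold IIIp at hx
    obtain ⟨y, hy, z, hz, rfl⟩ := Submodule.mem_sup.1 hx
    have hy0 : ρ₀ y = 0 := by
      rw [← hker] at hy
      exact hy
    obtain ⟨c, rfl⟩ := Ideal.mem_span_singleton'.1 hz
    have hz0 : mkp (ρ₀ (c * C (p : ℤ))) = 0 := by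
      rw [map_mul, Ideal.Quotient.eq_zero_iff_mem]
      exact Ideal.mul_mem_left _ _ (Ideal.subset_span rfl)
    change (algebraMap (S ⧸ Ideal.span {pS}) (Localization.AtPrime P'))
      (mkp (ρ₀ (y + c * C (p : ℤ)))) = 0
    rw [map_add ρ₀, hy0, zero_add, hz0, map_zero]
  have K1 : ∀ x, ρ x = 0 →
      ∃ t y, kap p t ≠ 0 ∧ t * x - C (p : ℤ) * y ∈ III q s (hh a w) := by
    intro x hx
    obtain ⟨m, hm⟩ := (IsLocalization.map_eq_zero_iff P'.primeCompl
      (Localization.AtPrime P') (mkp (ρ₀ x))).1 hx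
    obtain ⟨t, ht⟩ := (hmkp.comp hsurj) m.1
    have ht' : mkp (ρ₀ t) = m.1 := ht
    have htk : kap p t ≠ 0 := by
      intro h0
      apply m.2
      rw [← ht']
      apply Ideal.mem_map_of_mem
      rw [RingHom.mem_ker, hκS]
      exact h0
    rw [← ht', ← map_mul, ← map_mul, Ideal.Quotient.eq_zero_iff_mem,
      Ideal.mem_span_singleton] at hm
    obtain ⟨z, hz⟩ := hm
    obtain ⟨y, rfl⟩ := hsurj z
    refine ⟨t, y, htk, ?_⟩
    rw [← hker, RingHom.mem_ker, map_sub, hz, map_mul, sub_self]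
  have K2 : ∀ y ∈ maximalIdeal (Localization.AtPrime P'), ∃ x, kap p x = 0 ∧ ρ x = y := by
    intro y hy
    obtain ⟨x, rfl⟩ := hρsurj y
    refine ⟨x, ?_, rfl⟩
    have h1 : mkp (ρ₀ x) ∈ P' :=
      (IsLocalization.AtPrime.to_map_mem_maximal_iff (Localization.AtPrime P') P' _).1 hy
    obtain ⟨z, hz, hzx⟩ := (Ideal.mem_map_iff_of_surjective mkp hmkp).1 h1
    have h2 : ρ₀ x - z ∈ Ideal.span {pS} := by
      rw [← Ideal.Quotient.eq]
      exact hzx.symm
    have h3 : ρ₀ x ∈ q' := by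
      have : ρ₀ x = (ρ₀ x - z) + z := by ring
      rw [this]
      exact Ideal.add_mem _ (hspanle h2) hz
    rw [← hκS]
    exact h3
  obtain ⟨σ, hσ0, hsoc⟩ := T1_of_gor (Localization.AtPrime P')
  have hσsoc : σ ∈ soc (Localization.AtPrime P') := by
    rw [hsoc]; exact Ideal.subset_span rfl
  have hx₁ : ρ (Polynomial.aeval (X 0 : A) a) ∈ soc (Localization.AtPrime P') := by
    intro y hy
    obtain ⟨x, hx0, rfl⟩ := K2 y hy
    rw [← map_mul]
    exact K0 _ (mul_mem_IIIp hq hs ha0 hw0 x hx0).1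
  have hx₂ : ρ (Polynomial.aeval (X 1 : A) w) ∈ soc (Localization.AtPrime P') := by
    intro y hy
    obtain ⟨x, hx0, rfl⟩ := K2 y hy
    rw [← map_mul]
    exact K0 _ (mul_mem_IIIp hq hs ha0 hw0 x hx0).2
  rw [hsoc, Ideal.mem_span_singleton'] at hx₁ hx₂
  obtain ⟨u, hu⟩ := hx₁
  obtain ⟨v, hv⟩ := hx₂
  by_cases hum : u ∈ maximalIdeal (Localization.AtPrime P')
  · have h0 : ρ (Polynomial.aeval (X 0 : A) a) = 0 := by
      rw [← hu]; exact hσsoc u hum
    obtain ⟨t, y, ht, hty⟩ := K1 _ h0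
    exact detect p 0 _ _ ha (zz0_III hq hs hw0) _ (zz_aeval_self p 0 a) t y ht hty
  · have huu : IsUnit u := by
      rwa [mem_maximalIdeal, mem_nonunits_iff, not_not] at hum
    obtain ⟨u', hu'⟩ := huu.exists_left_inv
    obtain ⟨c, hc⟩ := hρsurj (v * u')
    have h0 : ρ (Polynomial.aeval (X 1 : A) w - c * Polynomial.aeval (X 0 : A) a) = 0 := by
      rw [map_sub, map_mul, hc, ← hu, ← hv]
      calc v * σ - v * u' * (u * σ) = v * σ - v * (u' * u) * σ := by ring
        _ = 0 := by rw [hu']; ring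
    obtain ⟨t, y, ht, hty⟩ := K1 _ h0
    have hz : zz p 1 (Polynomial.aeval (X 1 : A) w - c * Polynomial.aeval (X 0 : A) a) =
        w.map (Int.castRingHom (ZMod p)) := by
      rw [map_sub, map_mul, zz_aeval_self, zz_aeval_ne p 1 0 (by decide), ha', map_zero,
        mul_zero, sub_zero]
    exact detect p 1 _ _ hw (zz1_III hq hs ha0) _ hz t y ht hty

end Groth.Agent.Lib.Helper19WeilNumL
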