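import Mathlib
import Groth.Agent.Lib.Helper19WeilNumL

/-!
# Weil numbers with one rational member: Gorenstein iff ordinary
-/

set_option autoImplicit false
set_option linter.unusedSectionVars false
universe u

namespace Groth.Agent.Lib.Helper19WeilNumM

open MvPolynomial Groth.Agent.Lib.Helper19WeilNumA Groth.Agent.Lib.Helper19WeilNumB
  Groth.Agent.Lib.Helper19WeilNumC Groth.Agent.Lib.Helper19WeilNumE
  Groth.Agent.Lib.Helper19WeilNumF
  Groth.Agent.Lib.Helper19WeilNumH Groth.Agent.Lib.Helper19WeilNumI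
  Groth.Agent.Lib.Helper19WeilNumJ Groth.Agent.Lib.Helper19WeilNumK
  Groth.Agent.Lib.Helper19WeilNumL

section Family

variable (p e : ℕ) [hp : Fact p.Prime]
  {ι : Type} [Fintype ι] {K : ι → Type u} [∀ i, Field (K i)] [∀ i, CharZero (K i)]
  {π : ∀ i, K i} (s : ℤ)

include hp in
lemma finite_range_Phi (hint : ∀ i, IsIntegral ℤ (π i))
    (hweil : ∀ i, ∀ z ∈ (minpoly ℤ (π i)).aroots ℂ, ‖z‖ = Real.sqrt ((p : ℝ) ^ e))
    (D : ℕ) (hD : ∑ i, (minpoly ℤ (π i)).natDegree = 2 * D) :
    Module.Finite ℤ (Phi p e K π s).range := by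
  unfold Phi
  rw [aeval_range]
  apply Algebra.finite_adjoin_of_finite_of_isIntegral (Set.finite_range _)
  rintro _ ⟨k, rfl⟩
  fin_cases k
  · exact IsIntegral.pair (isIntegral_F hint) (isIntegral_algebraMap (x := s))
  · exact IsIntegral.pair (isIntegral_V p e hint hweil D hD) (isIntegral_algebraMap (x := s))

lemma regular_p :
    IsSMulRegular (Phi p e K π s).range ((Phi p e K π s).rangeRestrict (C (p : ℤ))) := by
  have hp0 : (p : ℤ) ≠ 0 := by exact_mod_cast hp.out.ne_zero
  suffices key : ∀ x : (Phi p e K π s).range,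
      (Phi p e K π s).rangeRestrict (C (p : ℤ)) * x = 0 → x = 0 by
    intro x y hxy
    have hxy' : (Phi p e K π s).rangeRestrict (C (p : ℤ)) * x =
        (Phi p e K π s).rangeRestrict (C (p : ℤ)) * y := hxy
    have := key (x - y) (by rw [mul_sub, hxy', sub_self])
    exact sub_eq_zero.1 this
  intro x hx
  have h1 : (Phi p e K π s (C (p : ℤ))) * (x : ((i : ι) → K i) × ℚ) = 0 := by
    have := congrArg Subtype.val hx
    simpa using this
  have h2 : Phi p e K π s (C (p : ℤ)) = algebraMap ℤ (((i : ι) → K i) × ℚ) (p : ℤ) :=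
    (Phi p e K π s).commutes (p : ℤ)
  rw [h2] at h1
  apply Subtype.ext
  apply Prod.ext
  · funext i
    have h3 := congrArg (fun z : ((i : ι) → K i) × ℚ => z.1 i) h1
    simp only [Prod.fst_mul, Pi.mul_apply, Prod.fst_zero, Pi.zero_apply] at h3
    rcases mul_eq_zero.1 h3 with h4 | h4
    · exfalso
      have : ((p : ℤ) : K i) = 0 := by simpa using h4
      exact hp0 (by exact_mod_cast this)
    · exact h4
  · have h3 := congrArg (fun z : ((i : ι) → K i) × ℚ => z.2) h1
    simp only [Prod.snd_mul, Prod.snd_zero] at h3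
    rcases mul_eq_zero.1 h3 with h4 | h4
    · exfalso
      have : ((p : ℤ) : ℚ) = 0 := by simpa using h4
      exact hp0 (by exact_mod_cast this)
    · exact h4

include hp in
/-- Part (2): the image is Gorenstein iff all members are ordinary. -/
theorem gorenstein_iff (he : 0 < e) (hs : s ^ 2 = (p : ℤ) ^ e)
    (hint : ∀ i, IsIntegral ℤ (π i)) (hdeg : ∀ i, (minpoly ℤ (π i)).natDegree ≠ 1)
    (hweil : ∀ i, ∀ z ∈ (minpoly ℤ (π i)).aroots ℂ, ‖z‖ = Real.sqrt ((p : ℝ) ^ e))
    (hinj : ∀ i j, minpoly ℤ (π i) = minpoly ℤ (π j) → i = j)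
    (D : ℕ) (hD : ∑ i, (minpoly ℤ (π i)).natDegree = 2 * D) (h : A)
    (hh : X 0 ^ D * h - Polynomial.aeval (X 0 : A) (∏ i, minpoly ℤ (π i)) ∈
      Ideal.span ({X 0 * X 1 - C ((p : ℤ) ^ e)} : Set A))
    [DecidablePred fun z : PadicAlgCl p => ‖z‖ = 1] :
    LocCoh.IsGorensteinRing (Phi p e K π s).range ↔
      ∀ i, 2 * Multiset.card (((minpoly ℤ (π i)).aroots (PadicAlgCl p)).filter
        (fun z => ‖z‖ = 1)) = (minpoly ℤ (π i)).natDegree := by
  set q : ℤ := (p : ℤ) ^ e with hqdef
  have hpprime : Prime (p : ℤ) := Nat.prime_iff_prime_int.1 hp.out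
  have hq : q ≠ 0 := pow_ne_zero _ (by exact_mod_cast hp.out.ne_zero)
  have hpq : (p : ℤ) ∣ q := dvd_pow_self _ (by omega)
  have hps : (p : ℤ) ∣ s := by
    have : (p : ℤ) ∣ s ^ 2 := by rw [hs]; exact hpq
    exact hpprime.dvd_of_dvd_pow this
  have hPm := Pw_monic (K := K) (π := π) hint
  have hN : (Pw K π).natDegree = 2 * D := by rw [Pw_natDegree hint, hD]
  obtain ⟨ε, hε, hcong, h0mem⟩ := exists_hpoly p e hint hweil D hD h hh
  set h₀ : A := hpoly (Pw K π) ε D with hh₀
  have hh₀eq : h₀ = Groth.Agent.Lib.Helper19WeilNumK.hh (hpolyA (Pw K π) D)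
      (hpolyW (Pw K π) ε D) := hpoly_eq _ _ _
  -- the surjection onto the image and its kernel
  let ρ₀ : A →+* (Phi p e K π s).range := (Phi p e K π s).rangeRestrict.toRingHom
  have hsurj : Function.Surjective ρ₀ := AlgHom.rangeRestrict_surjective _
  have hker : RingHom.ker ρ₀ = III q s h₀ := by
    have h1 : RingHom.ker ρ₀ = RingHom.ker (Phi p e K π s) := by
      ext x
      rw [RingHom.mem_ker, RingHom.mem_ker]
      constructor
      · intro h2
        exact congrArg Subtype.val h2
      · intro h2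
        exact Subtype.ext h2
    rw [h1, ker_Phi p e s hs hint hdeg hweil hinj D hD h hh]
    exact span_triple_congr q s h h₀ hcong
  have hnotin : h₀ ∉ II q := by
    intro hmem
    have h1 : Polynomial.aeval (X 0 : A) (Pw K π) ∈ II q := by
      have : Polynomial.aeval (X 0 : A) (Pw K π) =
          X 0 ^ D * h₀ - (X 0 ^ D * h₀ - Polynomial.aeval (X 0 : A) (Pw K π)) := by ring
      rw [this]
      exact Ideal.sub_mem _ (Ideal.mul_mem_left _ _ hmem) h0mem
    rw [mem_II_iff q hq, eps_iF] at h1
    have := (IsFractionRing.injective (Polynomial ℤ) Q) (h1.trans (map_zero _).symm)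
    exact hPm.ne_zero this
  rw [all_ordinary_iff p e s he hs hint hdeg hweil D hD]
  constructor
  · intro hG hdvd
    -- non-ordinary: contradiction
    have hDpos : 0 < D := by
      rcases Nat.eq_zero_or_pos D with hD0 | hD0
      · exfalso
        have h1 : Pw K π = 1 := by
          apply Polynomial.eq_one_of_monic_natDegree_zero hPm
          rw [hN, hD0]
        rw [h1, hD0] at hdvd
        simp only [Polynomial.coeff_one_zero] at hdvd
        exact hpprime.not_isUnit (isUnit_of_dvd_one hdvd)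
      · exact hD0
    have htop : (Pw K π).coeff (D + D) = 1 := by
      have : D + D = (Pw K π).natDegree := by rw [hN]; ring
      rw [this]
      exact hPm.coeff_natDegree
    have ha0 : (p : ℤ) ∣ (hpolyA (Pw K π) D).coeff 0 := by
      rw [hpolyA_coeff _ D 0 (Nat.zero_le _), add_zero]
      exact hdvd
    have hw0 : (p : ℤ) ∣ (hpolyW (Pw K π) ε D).coeff 0 := by
      rw [hpolyW_coeff_zero]
      exact dvd_zero _
    have hone : (1 : ZMod p) ≠ 0 := one_ne_zero
    have ha : (hpolyA (Pw K π) D).map (Int.castRingHom (ZMod p)) ≠ 0 := by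
      intro h1
      have h2 := congrArg (fun f => Polynomial.coeff f D) h1
      simp only [Polynomial.coeff_map, Polynomial.coeff_zero] at h2
      rw [hpolyA_coeff _ D D le_rfl, htop] at h2
      simp at h2
    have hw : (hpolyW (Pw K π) ε D).map (Int.castRingHom (ZMod p)) ≠ 0 := by
      intro h1
      have h2 := congrArg (fun f => Polynomial.coeff f D) h1
      simp only [Polynomial.coeff_map, Polynomial.coeff_zero] at h2
      have h3 : 2 * D = D + D := by ring
      rw [hpolyW_coeff_top _ ε D hDpos, h3, htop, mul_one] at h2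
      rcases hε with rfl | rfl
      · simp at h2
      · simp at h2
    have := finite_range_Phi p e s hint hweil D hD
    rw [hh₀eq] at hker
    exact not_gorenstein p q s hpq hps _ _ ha0 hw0 ha hw _ ρ₀ hsurj hker
      (regular_p p e s) hG
  · intro hnd
    have hcop : IsCoprime q (evZ 0 0 h₀) := by
      rw [hh₀, evZ_hpoly]
      exact (hpprime.coprime_iff_not_dvd.2 hnd).pow_left
    exact gorenstein_of_coprime hq hs hnotin hcop _ ρ₀ hsurj hker

end Family

end Groth.Agent.Lib.Helper19WeilNumM
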