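import Mathlib
import Groth.Agent.Lib.Helper19WeilNumF
import Groth.Agent.Lib.Helper19MilPicB

/-!
# Weil numbers: surjectivity of `Pic R_w → Pic R_v` for a subfamily
-/

set_option autoImplicit false
set_option linter.unusedSectionVars false
universe u

namespace Groth.Agent.Lib.Helper19WeilNumN

open MvPolynomial Groth.Agent.Lib.Helper19WeilNumA Groth.Agent.Lib.Helper19WeilNumB
  Groth.Agent.Lib.Helper19WeilNumC Groth.Agent.Lib.Helper19WeilNumE
  Groth.Agent.Lib.Helper19WeilNumF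

section Bezout

/-- two coprime rational polynomials coming from integer polynomials admit an integral Bézout
relation with a nonzero integer on the right -/
lemma exists_int_bezout (P Q : Polynomial ℤ)
    (h : IsCoprime (P.map (algebraMap ℤ ℚ)) (Q.map (algebraMap ℤ ℚ))) :
    ∃ (U W : Polynomial ℤ) (n : ℤ), n ≠ 0 ∧ U * P + W * Q = Polynomial.C n := by
  obtain ⟨u, w, huw⟩ := h
  obtain ⟨b₁, hb₁, hU⟩ := IsLocalization.integerNormalization_spec (nonZeroDivisors ℤ) u
  obtain ⟨b₂, hb₂, hW⟩ := IsLocalization.integerNormalization_spec (nonZeroDivisors ℤ) w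
  set U := IsLocalization.integerNormalization (nonZeroDivisors ℤ) u with hUdef
  set W := IsLocalization.integerNormalization (nonZeroDivisors ℤ) w with hWdef
  refine ⟨Polynomial.C b₂ * U, Polynomial.C b₁ * W, b₁ * b₂,
    mul_ne_zero (nonZeroDivisors.ne_zero hb₁) (nonZeroDivisors.ne_zero hb₂), ?_⟩
  apply Polynomial.map_injective _ (algebraMap ℤ ℚ).injective_int
  rw [Polynomial.map_add, Polynomial.map_mul, Polynomial.map_mul, Polynomial.map_mul,
    Polynomial.map_mul, hU, hW, Polynomial.map_C, Polynomial.map_C, Polynomial.map_C]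
  have e1 : (b₁ • u : Polynomial ℚ) = Polynomial.C ((algebraMap ℤ ℚ) b₁) * u := by
    rw [Algebra.smul_def]; rfl
  have e2 : (b₂ • w : Polynomial ℚ) = Polynomial.C ((algebraMap ℤ ℚ) b₂) * w := by
    rw [Algebra.smul_def]; rfl
  rw [e1, e2, map_mul, Polynomial.C_mul]
  linear_combination (Polynomial.C ((algebraMap ℤ ℚ) b₁) * Polynomial.C ((algebraMap ℤ ℚ) b₂)) * huw

/-- distinct minimal polynomials over `ℤ` are coprime over `ℚ` -/
lemma minpoly_coprime {L₁ L₂ : Type*} [Field L₁] [Field L₂] [CharZero L₁] [CharZero L₂]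
    (x : L₁) (y : L₂) (hx : IsIntegral ℤ x) (hy : IsIntegral ℤ y)
    (hne : minpoly ℤ x ≠ minpoly ℤ y) :
    IsCoprime ((minpoly ℤ x).map (algebraMap ℤ ℚ)) ((minpoly ℤ y).map (algebraMap ℤ ℚ)) := by
  have hxm := minpoly.monic hx
  have hym := minpoly.monic hy
  have hxi : Irreducible ((minpoly ℤ x).map (algebraMap ℤ ℚ)) :=
    (Polynomial.Monic.irreducible_iff_irreducible_map_fraction_map hxm).1 (minpoly.irreducible hx)
  have hyi : Irreducible ((minpoly ℤ y).map (algebraMap ℤ ℚ)) :=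
    (Polynomial.Monic.irreducible_iff_irreducible_map_fraction_map hym).1 (minpoly.irreducible hy)
  rw [hxi.coprime_iff_not_dvd]
  intro hdvd
  have hassoc := hxi.associated_of_dvd hyi hdvd
  have heq := Polynomial.eq_of_monic_of_associated (hxm.map _) (hym.map _) hassoc
  exact hne (Polynomial.map_injective _ (algebraMap ℤ ℚ).injective_int heq)

end Bezout

section Family

variable (p e : ℕ) [hp : Fact p.Prime]

include hp in
/-- `q / x` is integral for a Weil number `x` (no parity assumption) -/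
lemma aeval_div_sq {L : Type u} [Field L] [CharZero L] (x : L) (hint : IsIntegral ℤ x)
    (hweil : ∀ z ∈ (minpoly ℤ x).aroots ℂ, ‖z‖ = Real.sqrt ((p : ℝ) ^ e)) :
    Polynomial.aeval (((p : L) ^ e) / x) (minpoly ℤ x ^ 2) = 0 := by
  have h1 := Pw_aeval_div p e (K := fun _ : Bool => L) (π := fun _ => x)
    (fun _ => hint) (fun _ => hweil) (minpoly ℤ x).natDegree (by
      simp only [Fintype.sum_bool]; ring) true
  have h2 : Pw (fun _ : Bool => L) (fun _ => x) = minpoly ℤ x ^ 2 := by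
    simp [Pw, Fintype.prod_bool, sq]
  rw [h2] at h1
  exact h1

variable {ι : Type} [Fintype ι] {K : ι → Type u} [∀ i, Field (K i)] [∀ i, CharZero (K i)]
  {π : ∀ i, K i}

include hp in
/-- finiteness of the minimal central order, without parity assumption -/
lemma finite_range' (hint : ∀ i, IsIntegral ℤ (π i))
    (hweil : ∀ i, ∀ z ∈ (minpoly ℤ (π i)).aroots ℂ, ‖z‖ = Real.sqrt ((p : ℝ) ^ e)) :
    Module.Finite ℤ (phi p e K π).range := by
  unfold phi
  rw [aeval_range]
  apply Algebra.finite_adjoin_of_finite_of_isIntegral (Set.finite_range _)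
  rintro _ ⟨k, rfl⟩
  fin_cases k
  · exact isIntegral_F hint
  · refine ⟨Pw K π ^ 2, (Pw_monic hint).pow 2, ?_⟩
    rw [← Polynomial.aeval_def]
    funext i
    change (Polynomial.aeval (fun i => ((p : K i) ^ e) / π i : (i : ι) → K i) (Pw K π ^ 2)) i = 0
    rw [aeval_pi]
    obtain ⟨R, hR⟩ : minpoly ℤ (π i) ^ 2 ∣ Pw K π ^ 2 :=
      pow_dvd_pow_of_dvd (Finset.dvd_prod_of_mem _ (Finset.mem_univ i)) 2
    rw [hR, map_mul, aeval_div_sq p e (π i) (hint i) (hweil i), zero_mul]

lemma mem_ker_phi (f : A) :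
    f ∈ RingHom.ker (phi p e K π) ↔ ∀ i, phiC p e K π i f = 0 := by
  rw [RingHom.mem_ker]
  constructor
  · intro h i
    rw [← phi_apply, h]
    rfl
  · intro h
    funext i
    rw [phi_apply, h i]
    rfl

lemma aeval_Pw_mem_ker : Polynomial.aeval (X 0 : A) (Pw K π) ∈ RingHom.ker (phi p e K π) := by
  rw [mem_ker_phi]
  intro i
  rw [phiC_iF]
  exact Pw_aeval_pi i

end Family

section Sub

variable (p e : ℕ) [hp : Fact p.Prime]
  {J J' : Type} [Fintype J] [Fintype J'] (emb : J' → J)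
  (K : J → Type u) [∀ j, Field (K j)] [∀ j, CharZero (K j)] (ϖ : ∀ j, K j)

/-- the complementary index set -/
abbrev Jc : Type := {j : J // j ∉ Set.range emb}

noncomputable instance : Fintype (Jc emb) := Fintype.ofFinite _

/-- kernel for the subfamily -/
noncomputable abbrev Iv : Ideal A :=
  RingHom.ker (phi p e (fun j' : J' => K (emb j')) (fun j' => ϖ (emb j')))

/-- kernel for the complementary family -/
noncomputable abbrev Ic : Ideal A :=
  RingHom.ker (phi p e (fun j : Jc emb => K j.1) (fun j => ϖ j.1))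

lemma ker_eq_inf : RingHom.ker (phi p e K ϖ) = Iv p e emb K ϖ ⊓ Ic p e emb K ϖ := by
  ext f
  rw [Ideal.mem_inf, mem_ker_phi, mem_ker_phi, mem_ker_phi]
  constructor
  · intro h
    exact ⟨fun j' => h (emb j'), fun j => h j.1⟩
  · rintro ⟨h1, h2⟩ j
    by_cases hj : j ∈ Set.range emb
    · obtain ⟨j', rfl⟩ := hj
      exact h1 j'
    · exact h2 ⟨j, hj⟩

variable {K ϖ}

lemma exists_int_mem_sup (hint : ∀ j, IsIntegral ℤ (ϖ j))
    (hinj : ∀ i j, minpoly ℤ (ϖ i) = minpoly ℤ (ϖ j) → i = j) :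
    ∃ n : ℤ, n ≠ 0 ∧ (C n : A) ∈ Iv p e emb K ϖ ⊔ Ic p e emb K ϖ := by
  have hcop : IsCoprime
      ((Pw (fun j' : J' => K (emb j')) (fun j' => ϖ (emb j'))).map (algebraMap ℤ ℚ))
      ((Pw (fun j : Jc emb => K j.1) (fun j => ϖ j.1)).map (algebraMap ℤ ℚ)) := by
    unfold Pw
    rw [Polynomial.map_prod, Polynomial.map_prod]
    apply IsCoprime.prod_left
    intro j' _
    apply IsCoprime.prod_right
    intro j _
    apply minpoly_coprime _ _ (hint _) (hint _)
    intro heq
    exact j.2 ⟨j', hinj _ _ heq⟩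
  obtain ⟨U, W, n, hn, hUW⟩ := exists_int_bezout _ _ hcop
  refine ⟨n, hn, ?_⟩
  have h1 := congrArg (Polynomial.aeval (X 0 : A)) hUW
  rw [map_add, map_mul, map_mul, Polynomial.aeval_C] at h1
  have h2 : (C n : A) = algebraMap ℤ A n := rfl
  rw [h2, ← h1]
  exact Ideal.add_mem _
    (Ideal.mul_mem_left _ _ (Ideal.mem_sup_left (aeval_Pw_mem_ker p e)))
    (Ideal.mul_mem_left _ _ (Ideal.mem_sup_right (aeval_Pw_mem_ker p e)))

include hp in
lemma subsingleton_pic (hint : ∀ j, IsIntegral ℤ (ϖ j))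
    (hweil : ∀ j, ∀ z ∈ (minpoly ℤ (ϖ j)).aroots ℂ, ‖z‖ = Real.sqrt ((p : ℝ) ^ e))
    (hinj : ∀ i j, minpoly ℤ (ϖ i) = minpoly ℤ (ϖ j) → i = j) :
    Subsingleton (CommRing.Pic (A ⧸ (Iv p e emb K ϖ ⊔ Ic p e emb K ϖ))) := by
  obtain ⟨n, hn, hmem⟩ := exists_int_mem_sup p e emb hint hinj
  have hfin1 : Module.Finite ℤ (phi p e (fun j' : J' => K (emb j')) (fun j' => ϖ (emb j'))).range :=
    finite_range' p e (fun j' => hint (emb j')) (fun j' => hweil (emb j'))
  have hfin2 : Module.Finite ℤ (A ⧸ Iv p e emb K ϖ) :=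
    Module.Finite.equiv (Ideal.quotientKerEquivRange
      (phi p e (fun j' : J' => K (emb j')) (fun j' => ϖ (emb j')))).symm.toLinearEquiv
  have hle' : Iv p e emb K ϖ ≤ Iv p e emb K ϖ ⊔ Ic p e emb K ϖ := le_sup_left
  have hfin3 : Module.Finite ℤ (A ⧸ (Iv p e emb K ϖ ⊔ Ic p e emb K ϖ)) :=
    Module.Finite.of_surjective
      ((Ideal.Quotient.factor hle').toIntAlgHom.toLinearMap)
      (Ideal.Quotient.factor_surjective hle')
  have htors : Module.IsTorsion ℤ (A ⧸ (Iv p e emb K ϖ ⊔ Ic p e emb K ϖ)) := by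
    intro x
    obtain ⟨y, rfl⟩ := Ideal.Quotient.mk_surjective x
    refine ⟨⟨n, mem_nonZeroDivisors_of_ne_zero hn⟩, ?_⟩
    change n • (Ideal.Quotient.mk _ y) = 0
    rw [← map_zsmul, Ideal.Quotient.eq_zero_iff_mem]
    have : n • y = C n * y := by
      rw [Algebra.smul_def]; rfl
    rw [this]
    exact Ideal.mul_mem_right _ _ hmem
  haveI : Finite (A ⧸ (Iv p e emb K ϖ ⊔ Ic p e emb K ϖ)) := Module.finite_of_fg_torsion _ htors
  haveI : IsArtinianRing (A ⧸ (Iv p e emb K ϖ ⊔ Ic p e emb K ϖ)) := isArtinian_of_finite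
  infer_instance

include hp in
/-- the statement -/
theorem pic_surjective (hint : ∀ j, IsIntegral ℤ (ϖ j))
    (hweil : ∀ j, ∀ z ∈ (minpoly ℤ (ϖ j)).aroots ℂ, ‖z‖ = Real.sqrt ((p : ℝ) ^ e))
    (hinj : ∀ i j, minpoly ℤ (ϖ i) = minpoly ℤ (ϖ j) → i = j)
    (hle : RingHom.ker (phi p e K ϖ) ≤ Iv p e emb K ϖ) :
    Function.Surjective (CommRing.Pic.mapRingHom (Ideal.Quotient.factor hle)) := by
  have := subsingleton_pic p e emb hint hweil hinj
  exact Groth.Agent.Lib.Helper19MilPic.pic_factor_surjective (Iv p e emb K ϖ) (Ic p e emb K ϖ)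
    (RingHom.ker (phi p e K ϖ)) (ker_eq_inf p e emb K ϖ) hle

end Sub

end Groth.Agent.Lib.Helper19WeilNumN
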