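import Mathlib
import Groth.Agent.Lib.Helper17PuncAnn1
import Groth.Agent.Lib.Helper23QCohExt
import Groth.Agent.Lib.Helper20PullbackAff
import Groth.Agent.Lib.Helper1SPL2

/-!
# helper1: on an affine scheme, an acyclic bounded-above complex of finite locally free modules is
contractible (via `Γ`, K-projectivity over the ring of global sections, and `tilde`).
-/

set_option backward.isDefEq.respectTransparency.types false
set_option autoImplicit false
set_option linter.style.haveILetI false
set_option maxHeartbeats 400000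
universe u
open CategoryTheory CategoryTheory.Limits AlgebraicGeometry HomologicalComplex

namespace Groth.Agent.Lib.Helper1.AffCtr

open Groth.Agent.Lib.Helper23.QCohLocal

section spec
variable (R : CommRingCat.{u})

/-- `Γ` preserves exactness of short complexes of quasi-coherent modules on `Spec R`. -/
theorem exact_map_ΓF (S : ShortComplex (Spec R).Modules) (h1 : S.X₁.IsQuasicoherent)
    (h2 : S.X₂.IsQuasicoherent) (h3 : S.X₃.IsQuasicoherent) (hS : S.Exact) :
    (S.map (ΓF R)).Exact := by
  haveI : (kernel S.g).IsQuasicoherent := isQuasicoherent_kernel S.g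
  let f' : S.X₁ ⟶ kernel S.g := kernel.lift S.g S.f S.zero
  haveI : Epi f' := (S.exact_iff_epi_kernel_lift).1 hS
  haveI hk' : (kernel f').IsQuasicoherent := isQuasicoherent_kernel f'
  let S' : ShortComplex (Spec R).Modules := ShortComplex.mk (kernel.ι f') f' (kernel.condition f')
  have hS' : S'.ShortExact :=
    { exact := ShortComplex.exact_of_f_is_kernel _ (kernelIsKernel f')
      mono_f := inferInstanceAs (Mono (kernel.ι f'))
      epi_g := inferInstanceAs (Epi f') }
  have hΓ := shortExact_Γ_of_isQuasicoherent R S' hS' hk'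
  haveI : Epi ((ΓF R).map f') := hΓ.epi_g
  let S₂ : ShortComplex (Spec R).Modules :=
    ShortComplex.mk (kernel.ι S.g) S.g (kernel.condition S.g)
  have hS₂ : (S₂.map (ΓF R)).Exact :=
    (ShortComplex.exact_of_f_is_kernel S₂ (kernelIsKernel S.g)).map_of_mono_of_preservesKernel
      (ΓF R) (inferInstanceAs (Mono (kernel.ι S.g))) inferInstance
  let φ : S.map (ΓF R) ⟶ S₂.map (ΓF R) :=
    { τ₁ := (ΓF R).map f'
      τ₂ := 𝟙 _
      τ₃ := 𝟙 _
      comm₁₂ := by
        show (ΓF R).map f' ≫ (ΓF R).map (kernel.ι S.g) = (ΓF R).map S.f ≫ 𝟙 _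
        rw [Category.comp_id, ← CategoryTheory.Functor.map_comp, kernel.lift_ι]
      comm₂₃ := by
        show 𝟙 _ ≫ (ΓF R).map S.g = (ΓF R).map S.g ≫ 𝟙 _
        rw [Category.id_comp, Category.comp_id] }
  haveI : Epi φ.τ₁ := inferInstanceAs (Epi ((ΓF R).map f'))
  haveI : IsIso φ.τ₂ := inferInstanceAs (IsIso (𝟙 _))
  haveI : Mono φ.τ₃ := inferInstanceAs (Mono (𝟙 _))
  exact (ShortComplex.exact_iff_of_epi_of_isIso_of_mono φ).2 hS₂

theorem acyclic_mapHC_ΓF (E : CochainComplex (Spec R).Modules ℤ)
    (hq : ∀ i, (E.X i).IsQuasicoherent) (hac : E.Acyclic) :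
    (((ΓF R).mapHomologicalComplex (ComplexShape.up ℤ)).obj E).Acyclic := by
  intro i
  exact exact_map_ΓF R (E.sc i) (hq _) (hq _) (hq _) (hac i)

/-- on `Spec R`: an acyclic bounded-above complex of quasi-coherent modules with projective global
sections is contractible. -/
theorem homotopy_zero_spec (E : CochainComplex (Spec R).Modules ℤ) (b : ℤ)
    (hEb : ∀ i : ℤ, b < i → IsZero (E.X i)) (hq : ∀ i, (E.X i).IsQuasicoherent)
    (hp : ∀ i, Module.Projective R ((ΓF R).obj (E.X i))) (hac : E.Acyclic) :
    Nonempty (Homotopy (𝟙 E) 0) := by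
  let P : CochainComplex (ModuleCat.{u} R) ℤ :=
    ((ΓF R).mapHomologicalComplex (ComplexShape.up ℤ)).obj E
  have hPac : P.Acyclic := acyclic_mapHC_ΓF R E hq hac
  haveI : P.IsStrictlyLE b := by
    rw [CochainComplex.isStrictlyLE_iff]
    intro i hi
    exact (ΓF R).map_isZero (hEb i hi)
  haveI : ∀ n, Projective (P.X n) := fun n => by
    haveI := hp n
    exact (IsProjective.iff_projective (R := R) ((ΓF R).obj (E.X n))).1 inferInstance
  haveI : P.IsKProjective := CochainComplex.isKProjective_of_projective P b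
  obtain ⟨h⟩ := CochainComplex.IsKProjective.nonempty_homotopy_zero (𝟙 P) hPac
  let T := tilde.functor R
  have h2 : Homotopy ((T.mapHomologicalComplex _).map (𝟙 P)) ((T.mapHomologicalComplex _).map 0) :=
    T.mapHomotopy h
  have hiso : ∀ i, IsIso ((εΓ R).app (E.X i)) := fun i => by
    haveI := hq i
    rw [εΓ_app]; exact isIso_fromTildeΓ (E.X i)
  let eC := fun i => @asIso _ _ _ _ ((εΓ R).app (E.X i)) (hiso i)
  let e : (T.mapHomologicalComplex _).obj P ≅ E :=
    HomologicalComplex.Hom.isoOfComponents (fun i => eC i)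
      (by
        intro i j _
        exact ((εΓ R).naturality (E.d i j)).symm)
  refine ⟨Homotopy.trans (Homotopy.ofEq ?_)
    (((h2.compLeft e.inv).compRight e.hom).trans (Homotopy.ofEq ?_))⟩
  · rw [CategoryTheory.Functor.map_id, Category.comp_id, Iso.inv_hom_id]
  · rw [CategoryTheory.Functor.map_zero, comp_zero, zero_comp]

end spec

section aff
variable {X : Scheme.{u}} [IsAffine X]

/-- on an affine scheme, an acyclic bounded-above complex of finite locally free modules is
contractible. -/
theorem homotopy_zero (E : CochainComplex X.Modules ℤ) (b : ℤ)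
    (hEb : ∀ i : ℤ, b < i → IsZero (E.X i)) (hE : ∀ i : ℤ, FlatMod.IsFinLocFree (E.X i))
    (hac : E.Acyclic) : Nonempty (Homotopy (𝟙 E) 0) := by
  have hU : IsAffineOpen (⊤ : X.Opens) := isAffineOpen_top X
  let R : CommRingCat.{u} := Γ(X, ⊤)
  let j : Spec R ⟶ X := hU.fromSpec
  haveI : IsIso j := by
    have : j = X.isoSpec.inv := IsAffineOpen.fromSpec_top
    rw [this]; infer_instance
  let G := Scheme.Modules.restrictFunctor j
  let E' := (G.mapHomologicalComplex (ComplexShape.up ℤ)).obj E
  haveI hqE : ∀ i, (E.X i).IsQuasicoherent := fun i =>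
    Groth.Agent.Lib.Helper21.HZB.isQuasicoherent_of_isFinLocFree _ (hE i)
  have hq : ∀ i, (E'.X i).IsQuasicoherent := fun i =>
    inferInstanceAs ((G.obj (E.X i)).IsQuasicoherent)
  have hp : ∀ i, Module.Projective R ((ΓF R).obj (E'.X i)) := fun i => by
    haveI := Groth.Agent.Lib.Helper17.PuncAnn.projective_sections_of_isFinLocFree (E.X i) (hE i) hU
    exact Module.Projective.of_equiv'
      (Groth.Agent.Lib.Helper20.PullbackAff.ΓUEquiv hU (E.X i))
  have hac' : E'.Acyclic := by
    intro i
    haveI : G.PreservesHomology := inferInstance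
    exact (hac i).map G
  obtain ⟨h⟩ := homotopy_zero_spec R E' b (fun i hi => G.map_isZero (hEb i hi)) hq hp hac'
  let ψ : X ⟶ Spec R := inv j
  let G' := Scheme.Modules.restrictFunctor ψ
  have h2 : Homotopy ((G'.mapHomologicalComplex _).map (𝟙 E'))
      ((G'.mapHomologicalComplex _).map 0) := G'.mapHomotopy h
  have hψ : ψ ≫ j = 𝟙 X := by simp [ψ]
  let α : G ⋙ G' ≅ 𝟭 X.Modules :=
    (Scheme.Modules.restrictFunctorComp ψ j).symm ≪≫ Scheme.Modules.restrictFunctorCongr hψ ≪≫
      Scheme.Modules.restrictFunctorId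
  let e : (G'.mapHomologicalComplex _).obj E' ≅ E :=
    HomologicalComplex.Hom.isoOfComponents (fun i => α.app (E.X i))
      (by
        intro i k _
        exact (α.hom.naturality (E.d i k)).symm)
  refine ⟨Homotopy.trans (Homotopy.ofEq ?_)
    (((h2.compLeft e.inv).compRight e.hom).trans (Homotopy.ofEq ?_))⟩
  · rw [CategoryTheory.Functor.map_id, Category.comp_id, Iso.inv_hom_id]
  · rw [CategoryTheory.Functor.map_zero, comp_zero, zero_comp]

theorem acyclic_iff (E : CochainComplex X.Modules ℤ) (b : ℤ)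
    (hEb : ∀ i : ℤ, b < i → IsZero (E.X i)) (hE : ∀ i : ℤ, FlatMod.IsFinLocFree (E.X i)) :
    E.Acyclic ↔ Nonempty (Homotopy (𝟙 E) 0) := by
  constructor
  · exact fun hac => homotopy_zero E b hEb hE hac
  · rintro ⟨h⟩ i
    rw [HomologicalComplex.exactAt_iff_isZero_homology, IsZero.iff_id_eq_zero]
    have := h.homologyMap_eq i
    simpa using this

end aff

end Groth.Agent.Lib.Helper1.AffCtr
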