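import Mathlib
set_option backward.isDefEq.respectTransparency.types false

/-!
# Abstract base change for Hom groups with ring actions on probes (helper1)

`Φ : D ⥤ D'` additive, `A → B` commutative rings.  A *pair* is `(P, P', ι : P' ⟶ Φ P)` with
ring actions `A → End P`, `B → End P'` compatible through `ι`.  For `K : D` there is the comparison
`β : B ⊗_A Hom(P, K) → Hom(P', Φ K)`, `b ⊗ φ ↦ ρ'(b) ≫ ι ≫ Φ φ`.  A pair is `Good` for a class of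
objects `𝒦` if `β` is bijective for all `K ∈ 𝒦`.  Goodness is invariant under isomorphisms of pairs,
passes to (abstract) biproducts, to shifts (if `𝒦` is stable under `⟦-1⟧`) and to the third vertex
of compatible distinguished triangles when `B` is flat over `A`.
-/

set_option autoImplicit false
set_option linter.style.haveILetI false
set_option linter.unusedSectionVars false
set_option maxHeartbeats 400000

open CategoryTheory CategoryTheory.Limits TensorProduct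

namespace Groth.Agent.Lib.Helper1.BCAbs

section Act

variable {E : Type*} [Category E] [Preadditive E] {R : Type*} [CommRing R] {P : E}

/-- `Hom(P, K)` as a module over `R` through a ring action `ρ : R → End P`. -/
def ActHom (_ρ : R →+* End P) (K : E) : Type _ := P ⟶ K

instance (ρ : R →+* End P) (K : E) : AddCommGroup (ActHom ρ K) :=
  inferInstanceAs (AddCommGroup (P ⟶ K))

/-- constructor -/
def ActHom.mk (ρ : R →+* End P) {K : E} (φ : P ⟶ K) : ActHom ρ K := φ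

/-- underlying morphism -/
def ActHom.hom {ρ : R →+* End P} {K : E} (x : ActHom ρ K) : P ⟶ K := x

@[ext] lemma ActHom.ext {ρ : R →+* End P} {K : E} {x y : ActHom ρ K} (h : x.hom = y.hom) : x = y := h

@[simp] lemma ActHom.mk_hom (ρ : R →+* End P) {K : E} (φ : P ⟶ K) : (ActHom.mk ρ φ).hom = φ := rfl

@[simp] lemma ActHom.add_hom {ρ : R →+* End P} {K : E} (x y : ActHom ρ K) :
    (x + y).hom = x.hom + y.hom := rfl

@[simp] lemma ActHom.zero_hom {ρ : R →+* End P} {K : E} : (0 : ActHom ρ K).hom = 0 := rfl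

instance (ρ : R →+* End P) (K : E) : Module R (ActHom ρ K) where
  smul r x := ActHom.mk ρ ((ρ r : P ⟶ P) ≫ x.hom)
  one_smul x := by
    change (ρ 1 : P ⟶ P) ≫ x.hom = x.hom
    rw [map_one]
    exact Category.id_comp _
  mul_smul r s x := by
    change (ρ (r * s) : P ⟶ P) ≫ x.hom = (ρ r : P ⟶ P) ≫ (ρ s : P ⟶ P) ≫ x.hom
    rw [mul_comm r s, map_mul, End.mul_def, Category.assoc]
  smul_zero r := by
    change (ρ r : P ⟶ P) ≫ (0 : P ⟶ K) = 0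
    exact comp_zero
  smul_add r x y := by
    change (ρ r : P ⟶ P) ≫ (x.hom + y.hom) = (ρ r : P ⟶ P) ≫ x.hom + (ρ r : P ⟶ P) ≫ y.hom
    exact Preadditive.comp_add _ _ _ _ _ _
  add_smul r s x := by
    change (ρ (r + s) : P ⟶ P) ≫ x.hom = (ρ r : P ⟶ P) ≫ x.hom + (ρ s : P ⟶ P) ≫ x.hom
    rw [map_add]
    exact Preadditive.add_comp _ _ _ _ _ _
  zero_smul x := by
    change (ρ 0 : P ⟶ P) ≫ x.hom = 0
    rw [map_zero]
    exact zero_comp

lemma ActHom.smul_hom {ρ : R →+* End P} {K : E} (r : R) (x : ActHom ρ K) :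
    (r • x).hom = (ρ r : P ⟶ P) ≫ x.hom := rfl

/-- precomposition with an equivariant morphism -/
def pre {P₁ P₂ : E} {ρ₁ : R →+* End P₁} {ρ₂ : R →+* End P₂} (u : P₁ ⟶ P₂)
    (hu : ∀ r, (ρ₁ r : P₁ ⟶ P₁) ≫ u = u ≫ (ρ₂ r : P₂ ⟶ P₂)) (K : E) :
    ActHom ρ₂ K →ₗ[R] ActHom ρ₁ K where
  toFun x := ActHom.mk ρ₁ (u ≫ x.hom)
  map_add' x y := Preadditive.comp_add _ _ _ _ _ _
  map_smul' r x := by
    change u ≫ (ρ₂ r : P₂ ⟶ P₂) ≫ x.hom = (ρ₁ r : P₁ ⟶ P₁) ≫ u ≫ x.hom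
    rw [← Category.assoc, ← hu, Category.assoc]

@[simp] lemma pre_hom {P₁ P₂ : E} {ρ₁ : R →+* End P₁} {ρ₂ : R →+* End P₂} (u : P₁ ⟶ P₂)
    (hu : ∀ r, (ρ₁ r : P₁ ⟶ P₁) ≫ u = u ≫ (ρ₂ r : P₂ ⟶ P₂)) (K : E) (x : ActHom ρ₂ K) :
    (pre u hu K x).hom = u ≫ x.hom := rfl

/-- postcomposition -/
def post (ρ : R →+* End P) {K L : E} (f : K ⟶ L) : ActHom ρ K →ₗ[R] ActHom ρ L where
  toFun x := ActHom.mk ρ (x.hom ≫ f)
  map_add' x y := Preadditive.add_comp _ _ _ _ _ _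
  map_smul' r x := by
    change ((ρ r : P ⟶ P) ≫ x.hom) ≫ f = (ρ r : P ⟶ P) ≫ x.hom ≫ f
    rw [Category.assoc]

@[simp] lemma post_hom (ρ : R →+* End P) {K L : E} (f : K ⟶ L) (x : ActHom ρ K) :
    (post ρ f x).hom = x.hom ≫ f := rfl

lemma pre_bijective_of_isIso {P₁ P₂ : E} {ρ₁ : R →+* End P₁} {ρ₂ : R →+* End P₂} (u : P₁ ⟶ P₂)
    (hu : ∀ r, (ρ₁ r : P₁ ⟶ P₁) ≫ u = u ≫ (ρ₂ r : P₂ ⟶ P₂)) (K : E) [IsIso u] :
    Function.Bijective (pre u hu K) := by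
  refine ⟨fun x y h => ?_, fun y => ⟨ActHom.mk ρ₂ (inv u ≫ y.hom), ?_⟩⟩
  · have h' : u ≫ x.hom = u ≫ y.hom := congrArg ActHom.hom h
    exact ActHom.ext ((cancel_epi u).1 h')
  · apply ActHom.ext
    simp

lemma post_bijective_of_isIso (ρ : R →+* End P) {K L : E} (f : K ⟶ L) [IsIso f] :
    Function.Bijective (post ρ f) := by
  refine ⟨fun x y h => ?_, fun y => ⟨ActHom.mk ρ (y.hom ≫ inv f), ?_⟩⟩
  · have h' : x.hom ≫ f = y.hom ≫ f := congrArg ActHom.hom h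
    exact ActHom.ext ((cancel_mono f).1 h')
  · apply ActHom.ext
    simp

/-- ring homomorphism on endomorphisms induced by an additive functor -/
def mapEndRingHom {E' : Type*} [Category E'] [Preadditive E'] (F : E ⥤ E') [F.Additive] (X : E) :
    End X →+* End (F.obj X) where
  toFun f := F.map f
  map_one' := F.map_id X
  map_mul' f g := F.map_comp g f
  map_zero' := F.map_zero _ _
  map_add' _ _ := F.map_add

@[simp] lemma mapEndRingHom_apply {E' : Type*} [Category E'] [Preadditive E'] (F : E ⥤ E')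
    [F.Additive] (X : E) (f : End X) : (mapEndRingHom F X f : F.obj X ⟶ F.obj X) = F.map f := rfl

end Act

section Pairs

variable {D : Type*} [Category D] [Preadditive D] {D' : Type*} [Category D'] [Preadditive D']
  (Φ : D ⥤ D') [Φ.Additive]
  (A : Type*) (B : Type*) [CommRing A] [CommRing B] [Algebra A B]

/-- a pair of probes with compatible ring actions -/
structure Pair where
  /-- the probe downstairs -/
  P : D
  /-- the probe upstairs -/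
  P' : D'
  /-- the comparison -/
  ι : P' ⟶ Φ.obj P
  /-- the action downstairs -/
  ρ : A →+* End P
  /-- the action upstairs -/
  ρ' : B →+* End P'
  comm : ∀ a : A, ι ≫ Φ.map (ρ a : P ⟶ P) = (ρ' (algebraMap A B a) : P' ⟶ P') ≫ ι

variable {Φ A B}

/-- the target groups, as modules over both rings -/
def HomB (pr : Pair Φ A B) (K' : D') : Type _ := ActHom pr.ρ' K'

instance (pr : Pair Φ A B) (K' : D') : AddCommGroup (HomB pr K') :=
  inferInstanceAs (AddCommGroup (ActHom pr.ρ' K'))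

instance (pr : Pair Φ A B) (K' : D') : Module B (HomB pr K') :=
  inferInstanceAs (Module B (ActHom pr.ρ' K'))

instance (pr : Pair Φ A B) (K' : D') : Module A (HomB pr K') :=
  Module.compHom _ (algebraMap A B)

instance (pr : Pair Φ A B) (K' : D') : IsScalarTower A B (HomB pr K') :=
  IsScalarTower.of_algebraMap_smul (fun _ _ => rfl)

/-- underlying morphism -/
def HomB.hom {pr : Pair Φ A B} {K' : D'} (y : HomB pr K') : pr.P' ⟶ K' := y

/-- constructor -/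
def HomB.mk (pr : Pair Φ A B) {K' : D'} (y : pr.P' ⟶ K') : HomB pr K' := y

@[ext] lemma HomB.ext {pr : Pair Φ A B} {K' : D'} {x y : HomB pr K'} (h : x.hom = y.hom) : x = y := h

@[simp] lemma HomB.mk_hom (pr : Pair Φ A B) {K' : D'} (y : pr.P' ⟶ K') : (HomB.mk pr y).hom = y := rfl

lemma HomB.smul_hom {pr : Pair Φ A B} {K' : D'} (b : B) (y : HomB pr K') :
    (b • y).hom = (pr.ρ' b : pr.P' ⟶ pr.P') ≫ y.hom := rfl

@[simp] lemma HomB.add_hom {pr : Pair Φ A B} {K' : D'} (x y : HomB pr K') :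
    (x + y).hom = x.hom + y.hom := rfl

/-- the comparison map -/
def phi (pr : Pair Φ A B) (K : D) : ActHom pr.ρ K →ₗ[A] HomB pr (Φ.obj K) where
  toFun x := HomB.mk pr (pr.ι ≫ Φ.map x.hom)
  map_add' x y := by
    change pr.ι ≫ Φ.map (x.hom + y.hom) = pr.ι ≫ Φ.map x.hom + pr.ι ≫ Φ.map y.hom
    rw [Φ.map_add, Preadditive.comp_add]
  map_smul' a x := by
    change pr.ι ≫ Φ.map ((pr.ρ a : pr.P ⟶ pr.P) ≫ x.hom) =
      (pr.ρ' (algebraMap A B a) : pr.P' ⟶ pr.P') ≫ pr.ι ≫ Φ.map x.hom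
    rw [Φ.map_comp, ← Category.assoc, pr.comm, Category.assoc]

@[simp] lemma phi_hom (pr : Pair Φ A B) (K : D) (x : ActHom pr.ρ K) :
    (phi pr K x).hom = pr.ι ≫ Φ.map x.hom := rfl

/-- the base-changed comparison map -/
noncomputable def beta (pr : Pair Φ A B) (K : D) :
    B ⊗[A] ActHom pr.ρ K →ₗ[B] HomB pr (Φ.obj K) :=
  LinearMap.liftBaseChange B (phi pr K)

lemma beta_tmul (pr : Pair Φ A B) (K : D) (b : B) (x : ActHom pr.ρ K) :
    beta pr K (b ⊗ₜ x) = b • phi pr K x :=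
  LinearMap.liftBaseChange_tmul _ _ _ _

/-- base change holds for the pair, for the objects in `𝒦` -/
def Good (𝒦 : D → Prop) (pr : Pair Φ A B) : Prop :=
  ∀ K : D, 𝒦 K → Function.Bijective (beta pr K)

/-- morphisms of pairs -/
structure PairHom (pr₁ pr₂ : Pair Φ A B) where
  /-- downstairs -/
  u : pr₁.P ⟶ pr₂.P
  /-- upstairs -/
  u' : pr₁.P' ⟶ pr₂.P'
  hι : pr₁.ι ≫ Φ.map u = u' ≫ pr₂.ι
  hρ : ∀ a, (pr₁.ρ a : pr₁.P ⟶ pr₁.P) ≫ u = u ≫ (pr₂.ρ a : pr₂.P ⟶ pr₂.P)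
  hρ' : ∀ b, (pr₁.ρ' b : pr₁.P' ⟶ pr₁.P') ≫ u' = u' ≫ (pr₂.ρ' b : pr₂.P' ⟶ pr₂.P')

/-- precomposition upstairs -/
def pre' {pr₁ pr₂ : Pair Φ A B} (m : PairHom pr₁ pr₂) (K' : D') :
    HomB pr₂ K' →ₗ[B] HomB pr₁ K' :=
  pre m.u' m.hρ' K'

@[simp] lemma pre'_hom {pr₁ pr₂ : Pair Φ A B} (m : PairHom pr₁ pr₂) (K' : D') (y : HomB pr₂ K') :
    (pre' m K' y).hom = m.u' ≫ y.hom := rfl

lemma beta_pre {pr₁ pr₂ : Pair Φ A B} (m : PairHom pr₁ pr₂) (K : D)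
    (z : B ⊗[A] ActHom pr₂.ρ K) :
    beta pr₁ K ((pre m.u m.hρ K).lTensor B z) = pre' m (Φ.obj K) (beta pr₂ K z) := by
  induction z using TensorProduct.induction_on with
  | zero => simp
  | tmul b x =>
    rw [LinearMap.lTensor_tmul, beta_tmul, beta_tmul, map_smul]
    congr 1
    apply HomB.ext
    change pr₁.ι ≫ Φ.map (m.u ≫ x.hom) = m.u' ≫ pr₂.ι ≫ Φ.map x.hom
    rw [Φ.map_comp, ← Category.assoc, m.hι, Category.assoc]
  | add x y hx hy => rw [map_add, map_add, hx, hy, map_add, map_add]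

lemma lTensor_bijective_of_bijective {M N : Type*} [AddCommGroup M] [AddCommGroup N] [Module A M]
    [Module A N] (l : M →ₗ[A] N) (hl : Function.Bijective l) :
    Function.Bijective (l.lTensor B) :=
  ((LinearEquiv.ofBijective l hl).lTensor B).bijective

/-- goodness is invariant under isomorphisms of pairs -/
theorem good_of_iso {𝒦 : D → Prop} {pr₁ pr₂ : Pair Φ A B} (m : PairHom pr₁ pr₂) [IsIso m.u]
    [IsIso m.u'] (h : Good 𝒦 pr₂) : Good 𝒦 pr₁ := by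
  intro K hK
  have h1 : (beta pr₁ K) ∘ ((pre m.u m.hρ K).lTensor B) = (pre' m (Φ.obj K)) ∘ (beta pr₂ K) := by
    funext z
    exact beta_pre m K z
  have h2 : Function.Bijective ((pre m.u m.hρ K).lTensor B) :=
    lTensor_bijective_of_bijective _ (pre_bijective_of_isIso m.u m.hρ K)
  have h3 : Function.Bijective (pre' m (Φ.obj K)) := pre_bijective_of_isIso m.u' m.hρ' (Φ.obj K)
  have h4 : Function.Bijective ((beta pr₁ K) ∘ ((pre m.u m.hρ K).lTensor B)) := by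
    rw [h1]
    exact h3.comp (h K hK)
  exact (Function.Bijective.of_comp_iff _ h2).1 h4

/-- goodness is invariant under isomorphisms of pairs, other direction -/
theorem good_of_iso' {𝒦 : D → Prop} {pr₁ pr₂ : Pair Φ A B} (m : PairHom pr₁ pr₂) [IsIso m.u]
    [IsIso m.u'] (h : Good 𝒦 pr₁) : Good 𝒦 pr₂ := by
  intro K hK
  have h1 : (beta pr₁ K) ∘ ((pre m.u m.hρ K).lTensor B) = (pre' m (Φ.obj K)) ∘ (beta pr₂ K) := by
    funext z
    exact beta_pre m K z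
  have h2 : Function.Bijective ((pre m.u m.hρ K).lTensor B) :=
    lTensor_bijective_of_bijective _ (pre_bijective_of_isIso m.u m.hρ K)
  have h3 : Function.Bijective (pre' m (Φ.obj K)) := pre_bijective_of_isIso m.u' m.hρ' (Φ.obj K)
  have h4 : Function.Bijective ((pre' m (Φ.obj K)) ∘ (beta pr₂ K)) := by
    rw [← h1]
    exact (h K hK).comp h2
  exact (Function.Bijective.of_comp_iff' h3 _).1 h4

/-- goodness passes to abstract biproducts of pairs -/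
theorem good_biprod {𝒦 : D → Prop} {pr pra prb : Pair Φ A B} (inl : PairHom pra pr)
    (inr : PairHom prb pr) (fst : PairHom pr pra) (snd : PairHom pr prb)
    (h : fst.u ≫ inl.u + snd.u ≫ inr.u = 𝟙 pr.P)
    (h' : fst.u' ≫ inl.u' + snd.u' ≫ inr.u' = 𝟙 pr.P')
    (ha : Good 𝒦 pra) (hb : Good 𝒦 prb) : Good 𝒦 pr := by
  intro K hK
  have hz : ∀ z : B ⊗[A] ActHom pr.ρ K,
      z = (pre fst.u fst.hρ K).lTensor B ((pre inl.u inl.hρ K).lTensor B z) +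
        (pre snd.u snd.hρ K).lTensor B ((pre inr.u inr.hρ K).lTensor B z) := by
    intro z
    induction z using TensorProduct.induction_on with
    | zero => simp
    | tmul b x =>
      simp only [LinearMap.lTensor_tmul]
      rw [← TensorProduct.tmul_add]
      congr 1
      apply ActHom.ext
      change x.hom = fst.u ≫ inl.u ≫ x.hom + snd.u ≫ inr.u ≫ x.hom
      rw [← Category.assoc, ← Category.assoc, ← Preadditive.add_comp, h, Category.id_comp]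
    | add x y hx hy =>
      simp only [map_add]
      nth_rewrite 1 [hx, hy]
      abel
  constructor
  · rw [injective_iff_map_eq_zero]
    intro z hz0
    have e1 : (pre inl.u inl.hρ K).lTensor B z = 0 := by
      apply (ha K hK).1
      rw [beta_pre, hz0, map_zero, map_zero]
    have e2 : (pre inr.u inr.hρ K).lTensor B z = 0 := by
      apply (hb K hK).1
      rw [beta_pre, hz0, map_zero, map_zero]
    rw [hz z, e1, e2, map_zero, map_zero, add_zero]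
  · intro y
    obtain ⟨za, hza⟩ := (ha K hK).2 (pre' inl (Φ.obj K) y)
    obtain ⟨zb, hzb⟩ := (hb K hK).2 (pre' inr (Φ.obj K) y)
    refine ⟨(pre fst.u fst.hρ K).lTensor B za + (pre snd.u snd.hρ K).lTensor B zb, ?_⟩
    rw [map_add, beta_pre, beta_pre, hza, hzb]
    apply HomB.ext
    change fst.u' ≫ inl.u' ≫ y.hom + snd.u' ≫ inr.u' ≫ y.hom = y.hom
    rw [← Category.assoc, ← Category.assoc, ← Preadditive.add_comp, h', Category.id_comp]

end Pairs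

section Shift

variable {D : Type*} [Category D] [Preadditive D] [HasShift D ℤ]
  [∀ n : ℤ, (shiftFunctor D n).Additive]
  {D' : Type*} [Category D'] [Preadditive D'] [HasShift D' ℤ]
  [∀ n : ℤ, (shiftFunctor D' n).Additive]
  {Φ : D ⥤ D'} [Φ.Additive] [Φ.CommShift ℤ]
  {A : Type*} {B : Type*} [CommRing A] [CommRing B] [Algebra A B]

lemma commShift_inv_naturality {X Y : D} (f : X ⟶ Y) :
    (Φ.commShiftIso (1 : ℤ)).inv.app X ≫ Φ.map (f⟦(1 : ℤ)⟧') =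
      (Φ.map f)⟦(1 : ℤ)⟧' ≫ (Φ.commShiftIso (1 : ℤ)).inv.app Y :=
  ((Φ.commShiftIso (1 : ℤ)).inv.naturality f).symm

/-- the shifted pair -/
noncomputable def Pair.shift (pr : Pair Φ A B) : Pair Φ A B where
  P := pr.P⟦(1 : ℤ)⟧
  P' := pr.P'⟦(1 : ℤ)⟧
  ι := pr.ι⟦(1 : ℤ)⟧' ≫ (Φ.commShiftIso (1 : ℤ)).inv.app pr.P
  ρ := (mapEndRingHom (shiftFunctor D (1 : ℤ)) pr.P).comp pr.ρ
  ρ' := (mapEndRingHom (shiftFunctor D' (1 : ℤ)) pr.P').comp pr.ρ'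
  comm a := by
    change (pr.ι⟦(1 : ℤ)⟧' ≫ (Φ.commShiftIso (1 : ℤ)).inv.app pr.P) ≫
        Φ.map ((pr.ρ a : pr.P ⟶ pr.P)⟦(1 : ℤ)⟧') =
      (pr.ρ' (algebraMap A B a) : pr.P' ⟶ pr.P')⟦(1 : ℤ)⟧' ≫ pr.ι⟦(1 : ℤ)⟧' ≫
        (Φ.commShiftIso (1 : ℤ)).inv.app pr.P
    rw [Category.assoc, commShift_inv_naturality, ← Category.assoc, ← Functor.map_comp, pr.comm,
      Functor.map_comp, Category.assoc]

/-- the shifted morphism of pairs -/
noncomputable def PairHom.shift {pr₁ pr₂ : Pair Φ A B} (m : PairHom pr₁ pr₂) :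
    PairHom pr₁.shift pr₂.shift where
  u := m.u⟦(1 : ℤ)⟧'
  u' := m.u'⟦(1 : ℤ)⟧'
  hι := by
    change (pr₁.ι⟦(1 : ℤ)⟧' ≫ (Φ.commShiftIso (1 : ℤ)).inv.app pr₁.P) ≫ Φ.map (m.u⟦(1 : ℤ)⟧') =
      m.u'⟦(1 : ℤ)⟧' ≫ pr₂.ι⟦(1 : ℤ)⟧' ≫ (Φ.commShiftIso (1 : ℤ)).inv.app pr₂.P
    rw [Category.assoc, commShift_inv_naturality, ← Category.assoc, ← Functor.map_comp, m.hι,
      Functor.map_comp, Category.assoc]
  hρ a := by
    change (pr₁.ρ a : pr₁.P ⟶ pr₁.P)⟦(1 : ℤ)⟧' ≫ m.u⟦(1 : ℤ)⟧' =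
      m.u⟦(1 : ℤ)⟧' ≫ (pr₂.ρ a : pr₂.P ⟶ pr₂.P)⟦(1 : ℤ)⟧'
    rw [← Functor.map_comp, ← Functor.map_comp, m.hρ]
  hρ' b := by
    change (pr₁.ρ' b : pr₁.P' ⟶ pr₁.P')⟦(1 : ℤ)⟧' ≫ m.u'⟦(1 : ℤ)⟧' =
      m.u'⟦(1 : ℤ)⟧' ≫ (pr₂.ρ' b : pr₂.P' ⟶ pr₂.P')⟦(1 : ℤ)⟧'
    rw [← Functor.map_comp, ← Functor.map_comp, m.hρ']

lemma bijective_shift_comp {E : Type*} [Category E] [HasShift E ℤ] {X Y Z : E}
    (c : Y⟦(1 : ℤ)⟧ ≅ Z) :
    Function.Bijective (fun x : X ⟶ Y => x⟦(1 : ℤ)⟧' ≫ c.hom) := by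
  refine ⟨fun x y h => ?_, fun z => ?_⟩
  · exact (shiftFunctor E (1 : ℤ)).map_injective ((cancel_mono c.hom).1 h)
  · obtain ⟨x, hx⟩ := (shiftFunctor E (1 : ℤ)).map_surjective (z ≫ c.inv)
    refine ⟨x, ?_⟩
    change (shiftFunctor E (1 : ℤ)).map x ≫ c.hom = z
    rw [hx, Category.assoc, c.inv_hom_id, Category.comp_id]

/-- goodness passes to the shifted pair -/
theorem good_shift {𝒦 : D → Prop} (h𝒦 : ∀ K, 𝒦 K → 𝒦 (K⟦(-1 : ℤ)⟧)) {pr : Pair Φ A B}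
    (h : Good 𝒦 pr) : Good 𝒦 pr.shift := by
  intro K hK
  let c : (K⟦(-1 : ℤ)⟧)⟦(1 : ℤ)⟧ ≅ K :=
    (shiftFunctorCompIsoId D (-1 : ℤ) 1 (by norm_num)).app K
  let s : ActHom pr.ρ (K⟦(-1 : ℤ)⟧) →ₗ[A] ActHom pr.shift.ρ K :=
    { toFun := fun x => ActHom.mk _ (x.hom⟦(1 : ℤ)⟧' ≫ c.hom)
      map_add' := fun x y => by
        change (x.hom + y.hom)⟦(1 : ℤ)⟧' ≫ c.hom = x.hom⟦(1 : ℤ)⟧' ≫ c.hom + y.hom⟦(1 : ℤ)⟧' ≫ c.hom
        rw [Functor.map_add, Preadditive.add_comp]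
      map_smul' := fun a x => by
        change ((pr.ρ a : pr.P ⟶ pr.P) ≫ x.hom)⟦(1 : ℤ)⟧' ≫ c.hom =
          (pr.ρ a : pr.P ⟶ pr.P)⟦(1 : ℤ)⟧' ≫ x.hom⟦(1 : ℤ)⟧' ≫ c.hom
        rw [Functor.map_comp, Category.assoc] }
  have hs : Function.Bijective s := bijective_shift_comp c
  let d : (Φ.obj (K⟦(-1 : ℤ)⟧))⟦(1 : ℤ)⟧ ≅ Φ.obj K :=
    ((Φ.commShiftIso (1 : ℤ)).symm.app (K⟦(-1 : ℤ)⟧)) ≪≫ Φ.mapIso c
  let s' : HomB pr (Φ.obj (K⟦(-1 : ℤ)⟧)) →ₗ[B] HomB pr.shift (Φ.obj K) :=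
    { toFun := fun y => HomB.mk _ (y.hom⟦(1 : ℤ)⟧' ≫ d.hom)
      map_add' := fun x y => by
        change (x.hom + y.hom)⟦(1 : ℤ)⟧' ≫ d.hom = x.hom⟦(1 : ℤ)⟧' ≫ d.hom + y.hom⟦(1 : ℤ)⟧' ≫ d.hom
        rw [Functor.map_add, Preadditive.add_comp]
      map_smul' := fun b y => by
        change ((pr.ρ' b : pr.P' ⟶ pr.P') ≫ y.hom)⟦(1 : ℤ)⟧' ≫ d.hom =
          (pr.ρ' b : pr.P' ⟶ pr.P')⟦(1 : ℤ)⟧' ≫ y.hom⟦(1 : ℤ)⟧' ≫ d.hom
        rw [Functor.map_comp, Category.assoc] }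
  have hs' : Function.Bijective s' := bijective_shift_comp d
  have hcomm : ∀ z, beta pr.shift K (s.lTensor B z) = s' (beta pr (K⟦(-1 : ℤ)⟧) z) := by
    intro z
    induction z using TensorProduct.induction_on with
    | zero => simp
    | tmul b x =>
      rw [LinearMap.lTensor_tmul, beta_tmul, beta_tmul, map_smul]
      congr 1
      apply HomB.ext
      change (pr.ι⟦(1 : ℤ)⟧' ≫ (Φ.commShiftIso (1 : ℤ)).inv.app pr.P) ≫
          Φ.map (x.hom⟦(1 : ℤ)⟧' ≫ c.hom) =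
        (pr.ι ≫ Φ.map x.hom)⟦(1 : ℤ)⟧' ≫
          (Φ.commShiftIso (1 : ℤ)).inv.app (K⟦(-1 : ℤ)⟧) ≫ Φ.map c.hom
      rw [Functor.map_comp, Functor.map_comp, Category.assoc, Category.assoc,
        ← Category.assoc ((Φ.commShiftIso (1 : ℤ)).inv.app pr.P), commShift_inv_naturality,
        Category.assoc]
    | add x y hx hy => rw [map_add, map_add, hx, hy, map_add, map_add]
  have h1 : (beta pr.shift K) ∘ (s.lTensor B) = s' ∘ (beta pr (K⟦(-1 : ℤ)⟧)) := by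
    funext z
    exact hcomm z
  have h2 : Function.Bijective (s.lTensor B) := lTensor_bijective_of_bijective s hs
  have h4 : Function.Bijective ((beta pr.shift K) ∘ (s.lTensor B)) := by
    rw [h1]
    exact hs'.comp (h _ (h𝒦 K hK))
  exact (Function.Bijective.of_comp_iff _ h2).1 h4

end Shift

section Triangles

open Pretriangulated

section Exact

variable {E : Type*} [Category E] [Preadditive E] [HasZeroObject E] [HasShift E ℤ]
  [∀ n : ℤ, (shiftFunctor E n).Additive] [Pretriangulated E]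
  {R : Type*} [CommRing R] {P₁ P₂ P₃ : E} {ρ₁ : R →+* End P₁} {ρ₂ : R →+* End P₂}
  {ρ₃ : R →+* End P₃} (u : P₁ ⟶ P₂) (v : P₂ ⟶ P₃) (w : P₃ ⟶ P₁⟦(1 : ℤ)⟧)
  (hT : Triangle.mk u v w ∈ distTriang E)
  (hu : ∀ r, (ρ₁ r : P₁ ⟶ P₁) ≫ u = u ≫ (ρ₂ r : P₂ ⟶ P₂))
  (hv : ∀ r, (ρ₂ r : P₂ ⟶ P₂) ≫ v = v ≫ (ρ₃ r : P₃ ⟶ P₃))
  (K : E)

include hT in
lemma exact_pre₁₂ : Function.Exact (pre v hv K) (pre u hu K) := by
  intro x
  constructor
  · intro hx
    have hx' : u ≫ x.hom = 0 := congrArg ActHom.hom hx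
    obtain ⟨y, hy⟩ := Triangle.yoneda_exact₂ _ hT x.hom hx'
    exact ⟨ActHom.mk ρ₃ y, ActHom.ext hy.symm⟩
  · rintro ⟨y, rfl⟩
    apply ActHom.ext
    change u ≫ v ≫ y.hom = 0
    have h0 : u ≫ v = 0 := comp_distTriang_mor_zero₁₂ _ hT
    rw [← Category.assoc, h0, zero_comp]

variable {ρ₁s : R →+* End (P₁⟦(1 : ℤ)⟧)} {ρ₂s : R →+* End (P₂⟦(1 : ℤ)⟧)}
  (hw : ∀ r, (ρ₃ r : P₃ ⟶ P₃) ≫ w = w ≫ (ρ₁s r : P₁⟦(1 : ℤ)⟧ ⟶ P₁⟦(1 : ℤ)⟧))
  (hus : ∀ r, (ρ₁s r : P₁⟦(1 : ℤ)⟧ ⟶ P₁⟦(1 : ℤ)⟧) ≫ u⟦(1 : ℤ)⟧' =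
    u⟦(1 : ℤ)⟧' ≫ (ρ₂s r : P₂⟦(1 : ℤ)⟧ ⟶ P₂⟦(1 : ℤ)⟧))

include hT in
lemma exact_pre₂₃ : Function.Exact (pre w hw K) (pre v hv K) := by
  intro x
  constructor
  · intro hx
    have hx' : v ≫ x.hom = 0 := congrArg ActHom.hom hx
    obtain ⟨y, hy⟩ := Triangle.yoneda_exact₃ _ hT x.hom hx'
    exact ⟨ActHom.mk ρ₁s y, ActHom.ext hy.symm⟩
  · rintro ⟨y, rfl⟩
    apply ActHom.ext
    change v ≫ w ≫ y.hom = 0
    have h0 : v ≫ w = 0 := comp_distTriang_mor_zero₂₃ _ hT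
    rw [← Category.assoc, h0, zero_comp]

include hT in
lemma exact_pre₃₁ : Function.Exact (pre (u⟦(1 : ℤ)⟧') hus K) (pre w hw K) := by
  intro x
  constructor
  · intro hx
    have hx' : w ≫ x.hom = 0 := congrArg ActHom.hom hx
    obtain ⟨y, hy⟩ : ∃ y : P₂⟦(1 : ℤ)⟧ ⟶ K, x.hom = (-u⟦(1 : ℤ)⟧') ≫ y :=
      Triangle.yoneda_exact₃ _ (rot_of_distTriang _ hT) x.hom hx'
    refine ⟨ActHom.mk ρ₂s (-y), ActHom.ext ?_⟩
    change u⟦(1 : ℤ)⟧' ≫ (-y) = x.hom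
    rw [hy, Preadditive.comp_neg, Preadditive.neg_comp]
  · rintro ⟨y, rfl⟩
    apply ActHom.ext
    change w ≫ u⟦(1 : ℤ)⟧' ≫ y.hom = 0
    have h0 : w ≫ u⟦(1 : ℤ)⟧' = 0 := comp_distTriang_mor_zero₃₁ _ hT
    rw [← Category.assoc, h0, zero_comp]

end Exact

section Third

variable {D : Type*} [Category D] [Preadditive D] [HasZeroObject D] [HasShift D ℤ]
  [∀ n : ℤ, (shiftFunctor D n).Additive] [Pretriangulated D]
  {D' : Type*} [Category D'] [Preadditive D'] [HasZeroObject D'] [HasShift D' ℤ]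
  [∀ n : ℤ, (shiftFunctor D' n).Additive] [Pretriangulated D']
  {Φ : D ⥤ D'} [Φ.Additive] [Φ.CommShift ℤ]
  {A : Type*} {B : Type*} [CommRing A] [CommRing B] [Algebra A B] [Module.Flat A B]

/-- goodness passes to the third vertex of compatible distinguished triangles -/
theorem good_third {𝒦 : D → Prop} (h𝒦 : ∀ K, 𝒦 K → 𝒦 (K⟦(-1 : ℤ)⟧)) {pr₁ pr₂ pr₃ : Pair Φ A B}
    (m₁ : PairHom pr₁ pr₂) (m₂ : PairHom pr₂ pr₃) (m₃ : PairHom pr₃ pr₁.shift)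
    (hT : Triangle.mk m₁.u m₂.u m₃.u ∈ distTriang D)
    (hT' : Triangle.mk m₁.u' m₂.u' m₃.u' ∈ distTriang D')
    (h₁ : Good 𝒦 pr₁) (h₂ : Good 𝒦 pr₂) : Good 𝒦 pr₃ := by
  intro K hK
  have h₁s := good_shift h𝒦 h₁
  have h₂s := good_shift h𝒦 h₂
  exact AddMonoidHom.bijective_of_surjective_of_bijective_of_bijective_of_injective
    ((pre m₁.shift.u m₁.shift.hρ K).lTensor B).toAddMonoidHom
    ((pre m₃.u m₃.hρ K).lTensor B).toAddMonoidHom
    ((pre m₂.u m₂.hρ K).lTensor B).toAddMonoidHom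
    ((pre m₁.u m₁.hρ K).lTensor B).toAddMonoidHom
    (pre' m₁.shift (Φ.obj K)).toAddMonoidHom (pre' m₃ (Φ.obj K)).toAddMonoidHom
    (pre' m₂ (Φ.obj K)).toAddMonoidHom (pre' m₁ (Φ.obj K)).toAddMonoidHom
    (beta pr₂.shift K).toAddMonoidHom (beta pr₁.shift K).toAddMonoidHom
    (beta pr₃ K).toAddMonoidHom (beta pr₂ K).toAddMonoidHom (beta pr₁ K).toAddMonoidHom
    (AddMonoidHom.ext fun z => (beta_pre m₁.shift K z).symm)
    (AddMonoidHom.ext fun z => (beta_pre m₃ K z).symm)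
    (AddMonoidHom.ext fun z => (beta_pre m₂ K z).symm)
    (AddMonoidHom.ext fun z => (beta_pre m₁ K z).symm)
    (Module.Flat.lTensor_exact B (exact_pre₃₁ m₁.u m₂.u m₃.u hT K m₃.hρ m₁.shift.hρ))
    (Module.Flat.lTensor_exact B (exact_pre₂₃ m₁.u m₂.u m₃.u hT m₂.hρ K m₃.hρ))
    (Module.Flat.lTensor_exact B (exact_pre₁₂ m₁.u m₂.u m₃.u hT m₁.hρ m₂.hρ K))
    (exact_pre₃₁ m₁.u' m₂.u' m₃.u' hT' (Φ.obj K) m₃.hρ' m₁.shift.hρ')
    (exact_pre₂₃ m₁.u' m₂.u' m₃.u' hT' m₂.hρ' (Φ.obj K) m₃.hρ')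
    (exact_pre₁₂ m₁.u' m₂.u' m₃.u' hT' m₁.hρ' m₂.hρ' (Φ.obj K))
    (h₂s K hK).2 (h₁s K hK) (h₂ K hK) (h₁ K hK).1

end Third

end Triangles

end Groth.Agent.Lib.Helper1.BCAbs
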