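import Mathlib
import Groth.Agent.Lib.Helper1BCAbs
set_option backward.isDefEq.respectTransparency.types false

/-!
# Biproducts of pairs (helper1)
-/

set_option autoImplicit false
set_option linter.style.haveILetI false
set_option linter.unusedSectionVars false
set_option maxHeartbeats 400000

open CategoryTheory CategoryTheory.Limits TensorProduct

namespace Groth.Agent.Lib.Helper1.BCAbs

section Bi

variable {D : Type*} [Category D] [Preadditive D] [HasBinaryBiproducts D]
  {D' : Type*} [Category D'] [Preadditive D'] [HasBinaryBiproducts D']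
  {Φ : D ⥤ D'} [Φ.Additive]
  {A : Type*} {B : Type*} [CommRing A] [CommRing B] [Algebra A B]

/-- the diagonal ring action on a biproduct -/
noncomputable def biprodAct {E : Type*} [Category E] [Preadditive E] [HasBinaryBiproducts E]
    {R : Type*} [CommRing R] {P Q : E} (ρ : R →+* End P) (ρ' : R →+* End Q) :
    R →+* End (P ⊞ Q) where
  toFun r := biprod.map (ρ r : P ⟶ P) (ρ' r : Q ⟶ Q)
  map_one' := by
    change biprod.map (ρ 1 : P ⟶ P) (ρ' 1 : Q ⟶ Q) = 𝟙 _
    rw [map_one, map_one]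
    apply biprod.hom_ext <;> simp [End.one_def]
  map_mul' r s := by
    change biprod.map (ρ (r * s) : P ⟶ P) (ρ' (r * s) : Q ⟶ Q) =
      biprod.map (ρ s : P ⟶ P) (ρ' s : Q ⟶ Q) ≫ biprod.map (ρ r : P ⟶ P) (ρ' r : Q ⟶ Q)
    rw [map_mul, map_mul, End.mul_def, End.mul_def]
    apply biprod.hom_ext <;> simp
  map_zero' := by
    change biprod.map (ρ 0 : P ⟶ P) (ρ' 0 : Q ⟶ Q) = 0
    rw [map_zero, map_zero]
    apply biprod.hom_ext <;> simp
  map_add' r s := by
    change biprod.map (ρ (r + s) : P ⟶ P) (ρ' (r + s) : Q ⟶ Q) =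
      biprod.map (ρ r : P ⟶ P) (ρ' r : Q ⟶ Q) + biprod.map (ρ s : P ⟶ P) (ρ' s : Q ⟶ Q)
    rw [map_add, map_add]
    apply biprod.hom_ext
    · rw [biprod.map_fst, Preadditive.add_comp, biprod.map_fst, biprod.map_fst]
      exact Preadditive.comp_add _ _ _ _ _ _
    · rw [biprod.map_snd, Preadditive.add_comp, biprod.map_snd, biprod.map_snd]
      exact Preadditive.comp_add _ _ _ _ _ _

@[simp] lemma biprodAct_apply {E : Type*} [Category E] [Preadditive E] [HasBinaryBiproducts E]
    {R : Type*} [CommRing R] {P Q : E} (ρ : R →+* End P) (ρ' : R →+* End Q) (r : R) :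
    (biprodAct ρ ρ' r : P ⊞ Q ⟶ P ⊞ Q) = biprod.map (ρ r : P ⟶ P) (ρ' r : Q ⟶ Q) := rfl

/-- the biproduct of two pairs -/
noncomputable def Pair.biprod (pra prb : Pair Φ A B) : Pair Φ A B where
  P := pra.P ⊞ prb.P
  P' := pra.P' ⊞ prb.P'
  ι := biprod.desc (pra.ι ≫ Φ.map biprod.inl) (prb.ι ≫ Φ.map biprod.inr)
  ρ := biprodAct pra.ρ prb.ρ
  ρ' := biprodAct pra.ρ' prb.ρ'
  comm a := by
    change biprod.desc (pra.ι ≫ Φ.map biprod.inl) (prb.ι ≫ Φ.map biprod.inr) ≫
        Φ.map (biprod.map (pra.ρ a : pra.P ⟶ pra.P) (prb.ρ a : prb.P ⟶ prb.P)) =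
      biprod.map (pra.ρ' (algebraMap A B a) : pra.P' ⟶ pra.P')
        (prb.ρ' (algebraMap A B a) : prb.P' ⟶ prb.P') ≫
        biprod.desc (pra.ι ≫ Φ.map biprod.inl) (prb.ι ≫ Φ.map biprod.inr)
    apply biprod.hom_ext'
    · simp only [biprod.inl_desc_assoc, Category.assoc, biprod.inl_map_assoc, biprod.inl_desc,
        ← Φ.map_comp, biprod.inl_map]
      rw [Φ.map_comp, ← Category.assoc, pra.comm, Category.assoc]
    · simp only [biprod.inr_desc_assoc, Category.assoc, biprod.inr_map_assoc, biprod.inr_desc,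
        ← Φ.map_comp, biprod.inr_map]
      rw [Φ.map_comp, ← Category.assoc, prb.comm, Category.assoc]

variable (pra prb : Pair Φ A B)

/-- first inclusion -/
noncomputable def PairHom.inl : PairHom pra (pra.biprod prb) where
  u := biprod.inl
  u' := biprod.inl
  hι := by
    change pra.ι ≫ Φ.map biprod.inl =
      biprod.inl ≫ biprod.desc (pra.ι ≫ Φ.map biprod.inl) (prb.ι ≫ Φ.map biprod.inr)
    rw [biprod.inl_desc]
  hρ a := by
    change (pra.ρ a : pra.P ⟶ pra.P) ≫ biprod.inl = biprod.inl ≫ biprod.map _ _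
    rw [biprod.inl_map]
  hρ' b := by
    change (pra.ρ' b : pra.P' ⟶ pra.P') ≫ biprod.inl = biprod.inl ≫ biprod.map _ _
    rw [biprod.inl_map]

/-- second inclusion -/
noncomputable def PairHom.inr : PairHom prb (pra.biprod prb) where
  u := biprod.inr
  u' := biprod.inr
  hι := by
    change prb.ι ≫ Φ.map biprod.inr =
      biprod.inr ≫ biprod.desc (pra.ι ≫ Φ.map biprod.inl) (prb.ι ≫ Φ.map biprod.inr)
    rw [biprod.inr_desc]
  hρ a := by
    change (prb.ρ a : prb.P ⟶ prb.P) ≫ biprod.inr = biprod.inr ≫ biprod.map _ _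
    rw [biprod.inr_map]
  hρ' b := by
    change (prb.ρ' b : prb.P' ⟶ prb.P') ≫ biprod.inr = biprod.inr ≫ biprod.map _ _
    rw [biprod.inr_map]

/-- first projection -/
noncomputable def PairHom.fst : PairHom (pra.biprod prb) pra where
  u := biprod.fst
  u' := biprod.fst
  hι := by
    change biprod.desc (pra.ι ≫ Φ.map biprod.inl) (prb.ι ≫ Φ.map biprod.inr) ≫ Φ.map biprod.fst =
      biprod.fst ≫ pra.ι
    apply biprod.hom_ext'
    · simp [← Φ.map_comp]
    · simp [← Φ.map_comp]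
  hρ a := by
    change biprod.map _ _ ≫ biprod.fst = biprod.fst ≫ (pra.ρ a : pra.P ⟶ pra.P)
    rw [biprod.map_fst]
  hρ' b := by
    change biprod.map _ _ ≫ biprod.fst = biprod.fst ≫ (pra.ρ' b : pra.P' ⟶ pra.P')
    rw [biprod.map_fst]

/-- second projection -/
noncomputable def PairHom.snd : PairHom (pra.biprod prb) prb where
  u := biprod.snd
  u' := biprod.snd
  hι := by
    change biprod.desc (pra.ι ≫ Φ.map biprod.inl) (prb.ι ≫ Φ.map biprod.inr) ≫ Φ.map biprod.snd =
      biprod.snd ≫ prb.ι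
    apply biprod.hom_ext'
    · simp [← Φ.map_comp]
    · simp [← Φ.map_comp]
  hρ a := by
    change biprod.map _ _ ≫ biprod.snd = biprod.snd ≫ (prb.ρ a : prb.P ⟶ prb.P)
    rw [biprod.map_snd]
  hρ' b := by
    change biprod.map _ _ ≫ biprod.snd = biprod.snd ≫ (prb.ρ' b : prb.P' ⟶ prb.P')
    rw [biprod.map_snd]

variable {pra prb}

/-- negation of a morphism of pairs -/
def PairHom.neg {pr₁ pr₂ : Pair Φ A B} (m : PairHom pr₁ pr₂) : PairHom pr₁ pr₂ where
  u := -m.u
  u' := -m.u'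
  hι := by rw [Φ.map_neg, Preadditive.comp_neg, Preadditive.neg_comp, m.hι]
  hρ a := by rw [Preadditive.comp_neg, Preadditive.neg_comp, m.hρ]
  hρ' b := by rw [Preadditive.comp_neg, Preadditive.neg_comp, m.hρ']

/-- pairing into a biproduct -/
noncomputable def PairHom.lift {pr : Pair Φ A B} (ma : PairHom pr pra) (mb : PairHom pr prb) :
    PairHom pr (pra.biprod prb) where
  u := biprod.lift ma.u mb.u
  u' := biprod.lift ma.u' mb.u'
  hι := by
    change pr.ι ≫ Φ.map (biprod.lift ma.u mb.u) = biprod.lift ma.u' mb.u' ≫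
      biprod.desc (pra.ι ≫ Φ.map biprod.inl) (prb.ι ≫ Φ.map biprod.inr)
    rw [biprod.lift_desc, biprod.lift_eq, Φ.map_add, Φ.map_comp, Φ.map_comp,
      Preadditive.comp_add, ← Category.assoc, ← Category.assoc, ma.hι, mb.hι, Category.assoc,
      Category.assoc]
  hρ a := by
    change (pr.ρ a : pr.P ⟶ pr.P) ≫ biprod.lift ma.u mb.u = biprod.lift ma.u mb.u ≫ biprod.map _ _
    apply biprod.hom_ext
    · simpa using ma.hρ a
    · simpa using mb.hρ a
  hρ' b := by
    change (pr.ρ' b : pr.P' ⟶ pr.P') ≫ biprod.lift ma.u' mb.u' =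
      biprod.lift ma.u' mb.u' ≫ biprod.map _ _
    apply biprod.hom_ext
    · simpa using ma.hρ' b
    · simpa using mb.hρ' b

/-- copairing out of a biproduct -/
noncomputable def PairHom.desc {pr : Pair Φ A B} (ma : PairHom pra pr) (mb : PairHom prb pr) :
    PairHom (pra.biprod prb) pr where
  u := biprod.desc ma.u mb.u
  u' := biprod.desc ma.u' mb.u'
  hι := by
    change biprod.desc (pra.ι ≫ Φ.map biprod.inl) (prb.ι ≫ Φ.map biprod.inr) ≫
        Φ.map (biprod.desc ma.u mb.u) = biprod.desc ma.u' mb.u' ≫ pr.ι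
    apply biprod.hom_ext'
    · simpa [← Φ.map_comp] using ma.hι
    · simpa [← Φ.map_comp] using mb.hι
  hρ a := by
    change biprod.map _ _ ≫ biprod.desc ma.u mb.u = biprod.desc ma.u mb.u ≫ (pr.ρ a : pr.P ⟶ pr.P)
    apply biprod.hom_ext'
    · simpa using ma.hρ a
    · simpa using mb.hρ a
  hρ' b := by
    change biprod.map _ _ ≫ biprod.desc ma.u' mb.u' =
      biprod.desc ma.u' mb.u' ≫ (pr.ρ' b : pr.P' ⟶ pr.P')
    apply biprod.hom_ext'
    · simpa using ma.hρ' b
    · simpa using mb.hρ' b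

end Bi

end Groth.Agent.Lib.Helper1.BCAbs
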