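import Mathlib
import Groth.Agent.Lib.Helper1BCAbs
set_option backward.isDefEq.respectTransparency.types false

/-!
# Transfer of pairs along functors, and pairs in derived categories (helper1)
-/

set_option autoImplicit false
set_option linter.style.haveILetI false
set_option linter.unusedSectionVars false
set_option maxHeartbeats 400000

open CategoryTheory CategoryTheory.Limits TensorProduct

namespace Groth.Agent.Lib.Helper1.BCAbs

section Transfer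

variable {𝒜 : Type*} [Category 𝒜] [Preadditive 𝒜] {𝒜' : Type*} [Category 𝒜'] [Preadditive 𝒜']
  {D : Type*} [Category D] [Preadditive D] {D' : Type*} [Category D'] [Preadditive D']
  {Φ₀ : 𝒜 ⥤ 𝒜'} [Φ₀.Additive] {Φ : D ⥤ D'} [Φ.Additive]
  {A : Type*} {B : Type*} [CommRing A] [CommRing B] [Algebra A B]
  (S : 𝒜 ⥤ D) (S' : 𝒜' ⥤ D') [S.Additive] [S'.Additive] (σ : Φ₀ ⋙ S' ≅ S ⋙ Φ)

/-- transfer of a pair along functors commuting with `Φ₀`, `Φ` -/
def Pair.transfer (pr : Pair Φ₀ A B) : Pair Φ A B where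
  P := S.obj pr.P
  P' := S'.obj pr.P'
  ι := S'.map pr.ι ≫ σ.hom.app pr.P
  ρ := (mapEndRingHom S pr.P).comp pr.ρ
  ρ' := (mapEndRingHom S' pr.P').comp pr.ρ'
  comm a := by
    change (S'.map pr.ι ≫ σ.hom.app pr.P) ≫ Φ.map (S.map (pr.ρ a : pr.P ⟶ pr.P)) =
      S'.map (pr.ρ' (algebraMap A B a) : pr.P' ⟶ pr.P') ≫ S'.map pr.ι ≫ σ.hom.app pr.P
    have h := σ.hom.naturality (pr.ρ a : pr.P ⟶ pr.P)
    dsimp only [Functor.comp_map] at h
    rw [Category.assoc, ← h, ← Category.assoc, ← S'.map_comp, pr.comm, S'.map_comp,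
      Category.assoc]

/-- transfer of a morphism of pairs -/
def PairHom.transfer {pr₁ pr₂ : Pair Φ₀ A B} (m : PairHom pr₁ pr₂) :
    PairHom (pr₁.transfer S S' σ) (pr₂.transfer S S' σ) where
  u := S.map m.u
  u' := S'.map m.u'
  hι := by
    change (S'.map pr₁.ι ≫ σ.hom.app pr₁.P) ≫ Φ.map (S.map m.u) =
      S'.map m.u' ≫ S'.map pr₂.ι ≫ σ.hom.app pr₂.P
    have h := σ.hom.naturality m.u
    dsimp only [Functor.comp_map] at h
    rw [Category.assoc, ← h, ← Category.assoc, ← S'.map_comp, m.hι, S'.map_comp, Category.assoc]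
  hρ a := by
    change S.map (pr₁.ρ a : pr₁.P ⟶ pr₁.P) ≫ S.map m.u = S.map m.u ≫ S.map (pr₂.ρ a : pr₂.P ⟶ pr₂.P)
    rw [← S.map_comp, ← S.map_comp, m.hρ]
  hρ' b := by
    change S'.map (pr₁.ρ' b : pr₁.P' ⟶ pr₁.P') ≫ S'.map m.u' =
      S'.map m.u' ≫ S'.map (pr₂.ρ' b : pr₂.P' ⟶ pr₂.P')
    rw [← S'.map_comp, ← S'.map_comp, m.hρ']

end Transfer

section Der

open DerivedCategory

variable {𝒜 : Type*} [Category 𝒜] [Abelian 𝒜] [HasDerivedCategory 𝒜]
  {𝒜' : Type*} [Category 𝒜'] [Abelian 𝒜'] [HasDerivedCategory 𝒜']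
  (Φ₀ : 𝒜 ⥤ 𝒜') [Φ₀.Additive] [PreservesFiniteLimits Φ₀] [PreservesFiniteColimits Φ₀]
  {A : Type*} {B : Type*} [CommRing A] [CommRing B] [Algebra A B]

/-- from pairs of modules to pairs of complexes -/
noncomputable def toC (q : ℤ) (pr : Pair Φ₀ A B) :
    Pair (Φ₀.mapHomologicalComplex (ComplexShape.up ℤ)) A B :=
  pr.transfer (HomologicalComplex.single 𝒜 (ComplexShape.up ℤ) q)
    (HomologicalComplex.single 𝒜' (ComplexShape.up ℤ) q)
    (HomologicalComplex.singleMapHomologicalComplex Φ₀ (ComplexShape.up ℤ) q).symm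

/-- from pairs of complexes to pairs in the derived category -/
noncomputable def toD (pr : Pair (Φ₀.mapHomologicalComplex (ComplexShape.up ℤ)) A B) :
    Pair Φ₀.mapDerivedCategory A B :=
  pr.transfer Q Q Φ₀.mapDerivedCategoryFactors.symm

/-- from morphisms of pairs of complexes to morphisms of pairs in the derived category -/
noncomputable def toDHom {pr₁ pr₂ : Pair (Φ₀.mapHomologicalComplex (ComplexShape.up ℤ)) A B}
    (m : PairHom pr₁ pr₂) : PairHom (toD Φ₀ pr₁) (toD Φ₀ pr₂) :=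
  m.transfer Q Q Φ₀.mapDerivedCategoryFactors.symm

/-- from morphisms of pairs of modules to morphisms of pairs of complexes -/
noncomputable def toCHom (q : ℤ) {pr₁ pr₂ : Pair Φ₀ A B} (m : PairHom pr₁ pr₂) :
    PairHom (toC Φ₀ q pr₁) (toC Φ₀ q pr₂) :=
  m.transfer (HomologicalComplex.single 𝒜 (ComplexShape.up ℤ) q)
    (HomologicalComplex.single 𝒜' (ComplexShape.up ℤ) q)
    (HomologicalComplex.singleMapHomologicalComplex Φ₀ (ComplexShape.up ℤ) q).symm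

open Pretriangulated in
/-- the connecting morphism of pairs attached to short exact sequences of pairs of complexes -/
noncomputable def deltaHom {pr₁ pr₂ pr₃ : Pair (Φ₀.mapHomologicalComplex (ComplexShape.up ℤ)) A B}
    (m₁ : PairHom pr₁ pr₂) (m₂ : PairHom pr₂ pr₃)
    (z : m₁.u ≫ m₂.u = 0) (z' : m₁.u' ≫ m₂.u' = 0)
    (hS : (ShortComplex.mk m₁.u m₂.u z).ShortExact)
    (hS' : (ShortComplex.mk m₁.u' m₂.u' z').ShortExact) :
    PairHom (toD Φ₀ pr₃) (toD Φ₀ pr₁).shift where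
  u := triangleOfSESδ hS
  u' := triangleOfSESδ hS'
  hι := by
    let φ : ShortComplex.mk m₁.u' m₂.u' z' ⟶
        (ShortComplex.mk m₁.u m₂.u z).map (Φ₀.mapHomologicalComplex (ComplexShape.up ℤ)) :=
      { τ₁ := pr₁.ι
        τ₂ := pr₂.ι
        τ₃ := pr₃.ι
        comm₁₂ := m₁.hι
        comm₂₃ := m₂.hι }
    have nat := triangleOfSESδ_naturality hS'
      (hS.map_of_exact (Φ₀.mapHomologicalComplex (ComplexShape.up ℤ))) φ
    have mapδ := DerivedCategory.map_triangleOfSESδ Φ₀ hS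
    change (Q.map pr₃.ι ≫ Φ₀.mapDerivedCategoryFactors.inv.app pr₃.P) ≫
        Φ₀.mapDerivedCategory.map (triangleOfSESδ hS) =
      triangleOfSESδ hS' ≫ (Q.map pr₁.ι ≫ Φ₀.mapDerivedCategoryFactors.inv.app pr₁.P)⟦(1 : ℤ)⟧' ≫
        (Φ₀.mapDerivedCategory.commShiftIso (1 : ℤ)).inv.app (Q.obj pr₁.P)
    rw [mapδ, Functor.map_comp, Category.assoc, Iso.inv_hom_id_app_assoc, Category.assoc,
      ← Category.assoc, ← Category.assoc (triangleOfSESδ hS')]
    congr 1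
    exact nat.symm
  hρ a := by
    let ψ : ShortComplex.mk m₁.u m₂.u z ⟶ ShortComplex.mk m₁.u m₂.u z :=
      { τ₁ := (pr₁.ρ a : pr₁.P ⟶ pr₁.P)
        τ₂ := (pr₂.ρ a : pr₂.P ⟶ pr₂.P)
        τ₃ := (pr₃.ρ a : pr₃.P ⟶ pr₃.P)
        comm₁₂ := m₁.hρ a
        comm₂₃ := m₂.hρ a }
    exact (triangleOfSESδ_naturality hS hS ψ).symm
  hρ' b := by
    let ψ : ShortComplex.mk m₁.u' m₂.u' z' ⟶ ShortComplex.mk m₁.u' m₂.u' z' :=
      { τ₁ := (pr₁.ρ' b : pr₁.P' ⟶ pr₁.P')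
        τ₂ := (pr₂.ρ' b : pr₂.P' ⟶ pr₂.P')
        τ₃ := (pr₃.ρ' b : pr₃.P' ⟶ pr₃.P')
        comm₁₂ := m₁.hρ' b
        comm₂₃ := m₂.hρ' b }
    exact (triangleOfSESδ_naturality hS' hS' ψ).symm

/-- goodness passes to the third term of compatible short exact sequences of pairs of complexes -/
theorem good_third_of_ses [Module.Flat A B] {𝒦 : DerivedCategory 𝒜 → Prop}
    (h𝒦 : ∀ K, 𝒦 K → 𝒦 (K⟦(-1 : ℤ)⟧))
    {pr₁ pr₂ pr₃ : Pair (Φ₀.mapHomologicalComplex (ComplexShape.up ℤ)) A B}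
    (m₁ : PairHom pr₁ pr₂) (m₂ : PairHom pr₂ pr₃)
    (z : m₁.u ≫ m₂.u = 0) (z' : m₁.u' ≫ m₂.u' = 0)
    (hS : (ShortComplex.mk m₁.u m₂.u z).ShortExact)
    (hS' : (ShortComplex.mk m₁.u' m₂.u' z').ShortExact)
    (h₁ : Good 𝒦 (toD Φ₀ pr₁)) (h₂ : Good 𝒦 (toD Φ₀ pr₂)) : Good 𝒦 (toD Φ₀ pr₃) :=
  good_third h𝒦 (toDHom Φ₀ m₁) (toDHom Φ₀ m₂) (deltaHom Φ₀ m₁ m₂ z z' hS hS')
    (triangleOfSES_distinguished hS) (triangleOfSES_distinguished hS') h₁ h₂

end Der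

end Groth.Agent.Lib.Helper1.BCAbs
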