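import Mathlib
import Groth.Agent.Lib.Helper17HypX
import Groth.Agent.Lib.Helper17HypMod
import Groth.Agent.Lib.Helper13QcqsBC
import Groth.Agent.Lib.Helper17MV2
set_option backward.isDefEq.respectTransparency.types false

/-!
# Free modules on opens of a scheme and their pullbacks (helper1)
-/

set_option autoImplicit false
set_option linter.style.haveILetI false
set_option linter.unusedSectionVars false
set_option maxHeartbeats 400000

universe u
open CategoryTheory CategoryTheory.Limits AlgebraicGeometry Opposite TopologicalSpace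

namespace Groth.Agent.Lib.Helper1.BCFr

open Groth.Agent.Lib.Helper17.Hyp Groth.Agent.Lib.Helper17.HypX Groth.Agent.Helper13PullbackUnit
  Groth.Agent.Helper13QcqsBC

section one

variable {X : Scheme.{u}}

/-- the free module on an open -/
noncomputable abbrev fr (U : X.Opens) : X.Modules := (frX X).obj U

/-- morphisms out of `fr U` are sections over `U` -/
noncomputable def ev (U : X.Opens) (M : X.Modules) : (fr U ⟶ M) ≃+ Γ(M, U) :=
  secAddEquiv X.ringCatSheaf M U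

lemma ev_comp {U : X.Opens} {M N : X.Modules} (ψ : fr U ⟶ M) (p : M ⟶ N) :
    ev U N (ψ ≫ p) = p.app U (ev U M ψ) :=
  secAddEquiv_comp X.ringCatSheaf ψ p

/-- functoriality of `fr` -/
noncomputable def frMap {U V : X.Opens} (h : U ≤ V) : fr U ⟶ fr V := (frX X).map (homOfLE h)

lemma ev_frMap_comp {U V : X.Opens} (h : U ≤ V) {M : X.Modules} (ψ : fr V ⟶ M) :
    ev U M (frMap h ≫ ψ) = M.presheaf.map (homOfLE h).op (ev V M ψ) := by
  change CohFree.evalGen _ U _ ((Groth.Agent.Lib.Helper21.FreeAb.freeShRAdj X.ringCatSheaf).homEquiv _ M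
    ((Groth.Agent.Lib.Helper21.FreeAb.freeShR X.ringCatSheaf).map ((frSh _).map (homOfLE h)) ≫ ψ)) = _
  rw [Adjunction.homEquiv_naturality_left]
  exact CohFree.evalGen_freeSheafMap_comp _ (homOfLE h) _ _

/-- the universal section -/
noncomputable def ug (U : X.Opens) : Γ(fr U, U) := ev U (fr U) (𝟙 _)

lemma ev_eq_app_ug {U : X.Opens} {M : X.Modules} (ψ : fr U ⟶ M) :
    ev U M ψ = ψ.app U (ug U) := by
  have h := ev_comp (𝟙 (fr U)) ψ
  rwa [Category.id_comp] at h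

lemma hom_ext_fr {U : X.Opens} {M : X.Modules} {ψ₁ ψ₂ : fr U ⟶ M}
    (h : ev U M ψ₁ = ev U M ψ₂) : ψ₁ = ψ₂ := (ev U M).injective h

lemma ev_frMap {U V : X.Opens} (h : U ≤ V) :
    ev U (fr V) (frMap h) = (fr V).presheaf.map (homOfLE h).op (ug V) := by
  have := ev_frMap_comp h (𝟙 (fr V))
  rwa [Category.comp_id] at this

lemma frMap_comp {U V W : X.Opens} (h : U ≤ V) (h' : V ≤ W) :
    frMap h ≫ frMap h' = frMap (h.trans h') :=
  ((frX X).map_comp (homOfLE h) (homOfLE h')).symm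

lemma frMap_refl (U : X.Opens) : frMap (le_refl U) = 𝟙 (fr U) := (frX X).map_id U

/-- multiplication by a function on `fr U` -/
noncomputable def mulFr (U : X.Opens) (r : Γ(X, U)) : fr U ⟶ fr U :=
  (ev U (fr U)).symm (r • ug U)

lemma ev_mulFr (U : X.Opens) (r : Γ(X, U)) : ev U (fr U) (mulFr U r) = r • ug U :=
  (ev U (fr U)).apply_symm_apply _

lemma ev_mulFr_comp {U : X.Opens} (r : Γ(X, U)) {M : X.Modules} (ψ : fr U ⟶ M) :
    ev U M (mulFr U r ≫ ψ) = r • ev U M ψ := by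
  rw [ev_comp, ev_mulFr, Scheme.Modules.Hom.app_smul, ev_eq_app_ug]

/-- the action of functions on `fr U` -/
noncomputable def ρfr (U : X.Opens) : Γ(X, U) →+* End (fr U) where
  toFun r := mulFr U r
  map_one' := by
    apply hom_ext_fr
    rw [ev_mulFr, one_smul]
    rfl
  map_mul' r s := by
    apply hom_ext_fr
    change ev U (fr U) (mulFr U (r * s)) = ev U (fr U) (mulFr U s ≫ mulFr U r)
    rw [ev_mulFr_comp, ev_mulFr, ev_mulFr, smul_smul, mul_comm]
  map_zero' := by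
    apply hom_ext_fr
    rw [ev_mulFr, zero_smul, map_zero]
  map_add' r s := by
    apply hom_ext_fr
    rw [map_add, ev_mulFr, ev_mulFr, ev_mulFr, add_smul]

@[simp] lemma ρfr_apply (U : X.Opens) (r : Γ(X, U)) : (ρfr U r : fr U ⟶ fr U) = mulFr U r := rfl

lemma mulFr_frMap {U V : X.Opens} (h : U ≤ V) (r : Γ(X, V)) :
    mulFr U (X.presheaf.map (homOfLE h).op r) ≫ frMap h = frMap h ≫ mulFr V r := by
  apply hom_ext_fr
  rw [ev_mulFr_comp, ev_frMap_comp, ev_mulFr, ev_frMap, Scheme.Modules.map_smul]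

end one

section two

variable {X Y : Scheme.{u}} (f : X ⟶ Y)

lemma unitSec_naturality {F G : Y.Modules} (p : F ⟶ G) {V : Y.Opens} {U : X.Opens}
    (hle : U ≤ f ⁻¹ᵁ V) (x : Γ(F, V)) :
    ((Scheme.Modules.pullback f).map p).app U (unitSec f F hle x) =
      unitSec f G hle (p.app V x) := by
  rw [unitSec_apply, unitSec_apply]
  have h1 := (Scheme.Modules.pullbackPushforwardAdjunction f).unit.naturality p
  have h2 : ((Scheme.Modules.pullbackPushforwardAdjunction f).unit.app G).app V (p.app V x) =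
      ((Scheme.Modules.pullback f).map p).app (f ⁻¹ᵁ V)
        (((Scheme.Modules.pullbackPushforwardAdjunction f).unit.app F).app V x) := by
    have := congrArg (fun t => (Scheme.Modules.Hom.app t V) x) h1
    exact this
  rw [h2]
  exact CategoryTheory.congr_fun
    (((Scheme.Modules.pullback f).map p).mapPresheaf.naturality (homOfLE hle).op) _

/-- the comparison `fr U ⟶ f^* (fr V)` for `U ≤ f⁻¹ V` -/
noncomputable def ιfr {V : Y.Opens} {U : X.Opens} (hle : U ≤ f ⁻¹ᵁ V) :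
    fr U ⟶ (Scheme.Modules.pullback f).obj (fr V) :=
  (ev U _).symm (unitSec f (fr V) hle (ug V))

lemma ev_ιfr {V : Y.Opens} {U : X.Opens} (hle : U ≤ f ⁻¹ᵁ V) :
    ev U _ (ιfr f hle) = unitSec f (fr V) hle (ug V) := (ev U _).apply_symm_apply _

lemma ev_ιfr_comp_map {V : Y.Opens} {U : X.Opens} (hle : U ≤ f ⁻¹ᵁ V) {M : Y.Modules}
    (ψ : fr V ⟶ M) :
    ev U _ (ιfr f hle ≫ (Scheme.Modules.pullback f).map ψ) = unitSec f M hle (ev V M ψ) := by
  rw [ev_comp, ev_ιfr, unitSec_naturality, ev_eq_app_ug]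

lemma ιfr_mulFr {V : Y.Opens} {U : X.Opens} (hle : U ≤ f ⁻¹ᵁ V) (r : Γ(Y, V)) :
    ιfr f hle ≫ (Scheme.Modules.pullback f).map (mulFr V r) =
      mulFr U (f.appLE V U hle r) ≫ ιfr f hle := by
  apply hom_ext_fr
  rw [ev_ιfr_comp_map, ev_mulFr, unitSec_smul, ev_mulFr_comp, ev_ιfr]

lemma frMap_ιfr {V₁ V₂ : Y.Opens} {U₁ U₂ : X.Opens} (h₁ : U₁ ≤ f ⁻¹ᵁ V₁) (h₂ : U₂ ≤ f ⁻¹ᵁ V₂)
    (hU : U₁ ≤ U₂) (hV : V₁ ≤ V₂) :
    frMap hU ≫ ιfr f h₂ = ιfr f h₁ ≫ (Scheme.Modules.pullback f).map (frMap hV) := by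
  apply hom_ext_fr
  rw [ev_frMap_comp, ev_ιfr, ev_ιfr_comp_map, ev_frMap]
  exact unitSec_res f (fr V₂) h₂ h₁ hV hU (ug V₂)

lemma unitSec_le_rfl (F : Y.Modules) (V : Y.Opens) (x : Γ(F, V)) :
    unitSec f F (le_refl (f ⁻¹ᵁ V)) x =
      ((Scheme.Modules.pullbackPushforwardAdjunction f).unit.app F).app V x := by
  rw [unitSec_apply]
  exact res_self _ _

lemma ev_ιfr_comp (V : Y.Opens) {N : X.Modules}
    (χ : (Scheme.Modules.pullback f).obj (fr V) ⟶ N) :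
    ev (f ⁻¹ᵁ V) N (ιfr f (le_refl (f ⁻¹ᵁ V)) ≫ χ) =
      ev V ((Scheme.Modules.pushforward f).obj N)
        ((Scheme.Modules.pullbackPushforwardAdjunction f).homEquiv _ _ χ) := by
  rw [ev_comp, ev_ιfr, unitSec_le_rfl, Adjunction.homEquiv_unit, ev_comp, ev_eq_app_ug]
  rfl

instance isIso_ιfr (V : Y.Opens) : IsIso (ιfr f (le_refl (f ⁻¹ᵁ V))) := by
  apply isIso_of_coyoneda_map_bijective
  intro N
  have h : (fun χ : (Scheme.Modules.pullback f).obj (fr V) ⟶ N =>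
      ιfr f (le_refl (f ⁻¹ᵁ V)) ≫ χ) =
      (ev (f ⁻¹ᵁ V) N).symm ∘ (ev V ((Scheme.Modules.pushforward f).obj N)) ∘
        ((Scheme.Modules.pullbackPushforwardAdjunction f).homEquiv _ _) := by
    funext χ
    apply (ev (f ⁻¹ᵁ V) N).injective
    rw [ev_ιfr_comp]
    exact ((ev (f ⁻¹ᵁ V) N).apply_symm_apply _).symm
  rw [h]
  exact (ev (f ⁻¹ᵁ V) N).symm.bijective.comp
    ((ev V ((Scheme.Modules.pushforward f).obj N)).bijective.comp (Equiv.bijective _))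

end two

section comp

variable {X'' X' X : Scheme.{u}} (f₁ : X'' ⟶ X') (f₂ : X' ⟶ X)

lemma unit_comp_app (F : X.Modules) (V : X.Opens) (x : Γ(F, V)) :
    ((Scheme.Modules.pullbackComp f₁ f₂).hom.app F).app (f₁ ⁻¹ᵁ (f₂ ⁻¹ᵁ V))
      (((Scheme.Modules.pullbackPushforwardAdjunction f₁).unit.app
        ((Scheme.Modules.pullback f₂).obj F)).app (f₂ ⁻¹ᵁ V)
        (((Scheme.Modules.pullbackPushforwardAdjunction f₂).unit.app F).app V x)) =
    ((Scheme.Modules.pullbackPushforwardAdjunction (f₁ ≫ f₂)).unit.app F).app V x := by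
  have key := unit_conjugateEquiv
    ((Scheme.Modules.pullbackPushforwardAdjunction f₂).comp
      (Scheme.Modules.pullbackPushforwardAdjunction f₁))
    (Scheme.Modules.pullbackPushforwardAdjunction (f₁ ≫ f₂))
    (Scheme.Modules.pullbackComp f₁ f₂).inv F
  rw [Scheme.Modules.conjugateEquiv_pullbackComp_inv, Adjunction.comp_unit_app] at key
  have key2 := congrArg (fun t => (Scheme.Modules.Hom.app t V) x) key
  dsimp only at key2
  have h3 : ((Scheme.Modules.pullbackComp f₁ f₂).hom.app F).app (f₁ ⁻¹ᵁ (f₂ ⁻¹ᵁ V))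
      (((Scheme.Modules.pullbackComp f₁ f₂).inv.app F).app (f₁ ⁻¹ᵁ (f₂ ⁻¹ᵁ V))
        (((Scheme.Modules.pullbackPushforwardAdjunction (f₁ ≫ f₂)).unit.app F).app V x)) =
      ((Scheme.Modules.pullbackPushforwardAdjunction (f₁ ≫ f₂)).unit.app F).app V x := by
    rw [← ConcreteCategory.comp_apply, ← Scheme.Modules.Hom.comp_app, Iso.inv_hom_id_app]
    rfl
  rw [← h3]
  congr 1

open Groth.Agent.Lib.Helper6 in
lemma unitSec_comp (F : X.Modules) {V : X.Opens} {U' : X'.Opens} {U'' : X''.Opens}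
    (h₂ : U' ≤ f₂ ⁻¹ᵁ V) (h₁ : U'' ≤ f₁ ⁻¹ᵁ U') (h₁₂ : U'' ≤ (f₁ ≫ f₂) ⁻¹ᵁ V) (x : Γ(F, V)) :
    ((Scheme.Modules.pullbackComp f₁ f₂).hom.app F).app U''
      (unitSec f₁ ((Scheme.Modules.pullback f₂).obj F) h₁ (unitSec f₂ F h₂ x)) =
    unitSec (f₁ ≫ f₂) F h₁₂ x := by
  have hV : U'' ≤ f₁ ⁻¹ᵁ (f₂ ⁻¹ᵁ V) := h₁₂
  have e1 : unitSec f₂ F h₂ x = res _ h₂ (unitSec f₂ F (le_refl (f₂ ⁻¹ᵁ V)) x) := by
    have := unitSec_res f₂ F (le_refl (f₂ ⁻¹ᵁ V)) h₂ (le_refl V) h₂ x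
    rw [this, res_self]
  have e2 : unitSec f₁ ((Scheme.Modules.pullback f₂).obj F) h₁
      (res _ h₂ (unitSec f₂ F (le_refl (f₂ ⁻¹ᵁ V)) x)) =
      res _ hV (unitSec f₁ ((Scheme.Modules.pullback f₂).obj F) (le_refl (f₁ ⁻¹ᵁ (f₂ ⁻¹ᵁ V)))
        (unitSec f₂ F (le_refl (f₂ ⁻¹ᵁ V)) x)) :=
    (unitSec_res f₁ _ (le_refl (f₁ ⁻¹ᵁ (f₂ ⁻¹ᵁ V))) h₁ h₂ hV _).symm
  rw [e1, e2, unitSec_le_rfl, unitSec_le_rfl]
  have nat := CategoryTheory.congr_fun
    (((Scheme.Modules.pullbackComp f₁ f₂).hom.app F).mapPresheaf.naturality (homOfLE hV).op)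
    (((Scheme.Modules.pullbackPushforwardAdjunction f₁).unit.app
        ((Scheme.Modules.pullback f₂).obj F)).app (f₂ ⁻¹ᵁ V)
        (((Scheme.Modules.pullbackPushforwardAdjunction f₂).unit.app F).app V x))
  refine nat.trans ?_
  rw [unitSec_apply, ← unit_comp_app f₁ f₂ F V x]
  rfl

lemma unitSec_congr {f f' : X' ⟶ X} (e : f = f') (F : X.Modules) {V : X.Opens} {U' : X'.Opens}
    (h : U' ≤ f ⁻¹ᵁ V) (h' : U' ≤ f' ⁻¹ᵁ V) (x : Γ(F, V)) :
    ((Scheme.Modules.pullbackCongr e).hom.app F).app U' (unitSec f F h x) = unitSec f' F h' x := by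
  subst e
  rfl

end comp

section square

variable {X S X' S' : Scheme.{u}} (f : X ⟶ S) (g : S' ⟶ S) (g' : X' ⟶ X) (f' : X' ⟶ S')
  (w : g' ≫ f = f' ≫ g)

/-- the base change isomorphism `f'^* g^* ≅ g'^* f^*` on modules -/
noncomputable def κ : Scheme.Modules.pullback g ⋙ Scheme.Modules.pullback f' ≅
    Scheme.Modules.pullback f ⋙ Scheme.Modules.pullback g' :=
  Scheme.Modules.pullbackComp f' g ≪≫ Scheme.Modules.pullbackCongr w.symm ≪≫
    (Scheme.Modules.pullbackComp g' f).symm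

lemma κ_unitSec (F : S.Modules) {V : S.Opens} {V' : S'.Opens} {U : X.Opens} {U' : X'.Opens}
    (hV : V' ≤ g ⁻¹ᵁ V) (hU : U ≤ f ⁻¹ᵁ V) (hU'V' : U' ≤ f' ⁻¹ᵁ V') (hU'U : U' ≤ g' ⁻¹ᵁ U)
    (x : Γ(F, V)) :
    ((κ f g g' f' w).hom.app F).app U' (unitSec f' _ hU'V' (unitSec g F hV x)) =
      unitSec g' _ hU'U (unitSec f F hU x) := by
  have h1 : U' ≤ (f' ≫ g) ⁻¹ᵁ V := hU'V'.trans (f'.preimage_mono hV)
  have h2 : U' ≤ (g' ≫ f) ⁻¹ᵁ V := hU'U.trans (g'.preimage_mono hU)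
  have e1 := unitSec_comp f' g F hV hU'V' h1 x
  have e2 := unitSec_congr w.symm F h1 h2 x
  have e3 := unitSec_comp g' f F hU hU'U h2 x
  have hκ : (κ f g g' f' w).hom.app F = (Scheme.Modules.pullbackComp f' g).hom.app F ≫
      (Scheme.Modules.pullbackCongr w.symm).hom.app F ≫
        (Scheme.Modules.pullbackComp g' f).inv.app F := by
    simp [κ]
  rw [hκ, Scheme.Modules.Hom.comp_app, Scheme.Modules.Hom.comp_app, ConcreteCategory.comp_apply,
    ConcreteCategory.comp_apply, e1, e2, ← e3, ← ConcreteCategory.comp_apply,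
    ← Scheme.Modules.Hom.comp_app, Iso.hom_inv_id_app]
  rfl

lemma ιfr_square {V : S.Opens} {V' : S'.Opens} {U : X.Opens} {U' : X'.Opens}
    (hV : V' ≤ g ⁻¹ᵁ V) (hU : U ≤ f ⁻¹ᵁ V) (hU'V' : U' ≤ f' ⁻¹ᵁ V') (hU'U : U' ≤ g' ⁻¹ᵁ U) :
    ιfr f' hU'V' ≫ (Scheme.Modules.pullback f').map (ιfr g hV) ≫
        (κ f g g' f' w).hom.app (fr V) =
      ιfr g' hU'U ≫ (Scheme.Modules.pullback g').map (ιfr f hU) := by
  apply hom_ext_fr
  have hR := ev_ιfr_comp_map g' hU'U (ιfr f hU)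
  rw [ev_ιfr] at hR
  rw [← Category.assoc, ev_comp, ev_ιfr_comp_map, ev_ιfr]
  exact (κ_unitSec f g g' f' w (fr V) hV hU hU'V' hU'U (ug V)).trans hR.symm

end square

section mv

variable {X : Scheme.{u}}

open Groth.Agent.Lib.Helper17.MV Groth.Agent.Lib.Helper6

lemma res_surjective_of_injective (I : X.Modules) [Injective I] {U V : X.Opens} (h : U ≤ V) :
    Function.Surjective (res I h) := by
  obtain ⟨s, hs⟩ := exists_section_η U I
  intro t
  have hO : U.ι ''ᵁ U.ι ⁻¹ᵁ V = U ⊓ V := image_preimage_eq U V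
  have hOU : U.ι ''ᵁ U.ι ⁻¹ᵁ V ≤ U := hO.le.trans inf_le_left
  have hUO : U ≤ U.ι ''ᵁ U.ι ⁻¹ᵁ V := (le_inf le_rfl h).trans hO.ge
  have hOV : U.ι ''ᵁ U.ι ⁻¹ᵁ V ≤ V := U.ι.image_preimage_le V
  let t' : Γ(I, U.ι ''ᵁ U.ι ⁻¹ᵁ V) := res I hOU t
  let x : Γ(I, V) := s.app V t'
  have hx : res I hOV x = t' := by
    have h1 := congrArg (fun φ => (Scheme.Modules.Hom.app φ V) t') hs
    dsimp only at h1
    rw [Scheme.Modules.Hom.comp_app, ConcreteCategory.comp_apply, η_app_app] at h1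
    exact h1
  refine ⟨x, ?_⟩
  haveI := isIso_presheaf_map_of_eq I hOU hUO
  have hinj : Function.Injective (res I hOU) :=
    (ConcreteCategory.bijective_of_isIso (I.presheaf.map (homOfLE hOU).op)).1
  apply hinj
  rw [res_res]
  exact hx

instance mono_frMap {U V : X.Opens} (h : U ≤ V) : Mono (frMap h) := by
  haveI : IsGrothendieckAbelian.{u} X.Modules :=
    Groth.Agent.Lib.Helper21.ModTensor3.isGrothendieckAbelian (O := X.sheaf)
  obtain ⟨x, hx⟩ := res_surjective_of_injective (Injective.under (fr U)) h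
    (ev U _ (Injective.ι (fr U)))
  have hfac : frMap h ≫ (ev V (Injective.under (fr U))).symm x = Injective.ι (fr U) := by
    apply hom_ext_fr
    rw [ev_frMap_comp, AddEquiv.apply_symm_apply]
    exact hx
  exact mono_of_mono_fac hfac

lemma res_ev {U V : X.Opens} (h : U ≤ V) {M : X.Modules} (ψ : fr V ⟶ M) :
    res M h (ev V M ψ) = ev U M (frMap h ≫ ψ) := (ev_frMap_comp h ψ).symm

lemma frMap_condition (U V : X.Opens) :
    frMap (inf_le_left : U ⊓ V ≤ U) ≫ frMap (le_sup_left : U ≤ U ⊔ V) =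
      frMap (inf_le_right : U ⊓ V ≤ V) ≫ frMap (le_sup_right : V ≤ U ⊔ V) := by
  rw [frMap_comp, frMap_comp]

lemma exists_glue_fr (U V : X.Opens) {M : X.Modules} (a : fr U ⟶ M) (b : fr V ⟶ M)
    (hab : frMap (inf_le_left : U ⊓ V ≤ U) ≫ a = frMap (inf_le_right : U ⊓ V ≤ V) ≫ b) :
    ∃ c : fr (U ⊔ V) ⟶ M, frMap (le_sup_left : U ≤ U ⊔ V) ≫ c = a ∧
      frMap (le_sup_right : V ≤ U ⊔ V) ≫ c = b := by
  have h0 : res M (inf_le_left : U ⊓ V ≤ U) (ev U M a) =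
      res M (inf_le_right : U ⊓ V ≤ V) (ev V M b) := by
    rw [res_ev, res_ev, hab]
  obtain ⟨c, hc1, hc2⟩ := exists_res_eq₂ M (le_sup_left : U ≤ U ⊔ V) (le_sup_right : V ≤ U ⊔ V)
    le_rfl (inf_le_left : U ⊓ V ≤ U) (inf_le_right : U ⊓ V ≤ V) le_rfl _ _ h0
  refine ⟨(ev (U ⊔ V) M).symm c, ?_, ?_⟩
  · apply hom_ext_fr
    rw [ev_frMap_comp, AddEquiv.apply_symm_apply]
    exact hc1
  · apply hom_ext_fr
    rw [ev_frMap_comp, AddEquiv.apply_symm_apply]
    exact hc2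

lemma hom_ext_fr_sup (U V : X.Opens) {M : X.Modules} (c c' : fr (U ⊔ V) ⟶ M)
    (h1 : frMap (le_sup_left : U ≤ U ⊔ V) ≫ c = frMap (le_sup_left : U ≤ U ⊔ V) ≫ c')
    (h2 : frMap (le_sup_right : V ≤ U ⊔ V) ≫ c = frMap (le_sup_right : V ≤ U ⊔ V) ≫ c') :
    c = c' := by
  apply hom_ext_fr
  refine eq_of_res_eq₂ M (le_sup_left : U ≤ U ⊔ V) (le_sup_right : V ≤ U ⊔ V) le_rfl _ _ ?_ ?_
  · rw [res_ev, res_ev, h1]
  · rw [res_ev, res_ev, h2]

theorem isPushout_frMap (U V : X.Opens) :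
    IsPushout (frMap (inf_le_left : U ⊓ V ≤ U)) (frMap (inf_le_right : U ⊓ V ≤ V))
      (frMap (le_sup_left : U ≤ U ⊔ V)) (frMap (le_sup_right : V ≤ U ⊔ V)) := by
  refine IsPushout.mk ⟨frMap_condition U V⟩ ⟨PushoutCocone.IsColimit.mk _
    (fun s => (exists_glue_fr U V s.inl s.inr s.condition).choose) (fun s => ?_)
    (fun s => ?_) (fun s m h1 h2 => ?_)⟩
  · exact (exists_glue_fr U V s.inl s.inr s.condition).choose_spec.1
  · exact (exists_glue_fr U V s.inl s.inr s.condition).choose_spec.2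
  · apply hom_ext_fr_sup
    · rw [h1, (exists_glue_fr U V s.inl s.inr s.condition).choose_spec.1]
    · rw [h2, (exists_glue_fr U V s.inl s.inr s.condition).choose_spec.2]

/-- the Mayer–Vietoris short complex of free modules -/
noncomputable def mvFr (U V : X.Opens) : ShortComplex X.Modules :=
  ShortComplex.mk (biprod.lift (frMap (inf_le_left : U ⊓ V ≤ U)) (-frMap (inf_le_right : U ⊓ V ≤ V)))
    (biprod.desc (frMap (le_sup_left : U ≤ U ⊔ V)) (frMap (le_sup_right : V ≤ U ⊔ V))) (by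
      rw [biprod.lift_desc, Preadditive.neg_comp, frMap_comp, frMap_comp, add_neg_cancel])

theorem mvFr_shortExact (U V : X.Opens) : (mvFr U V).ShortExact := by
  haveI : Epi (mvFr U V).g := (isPushout_frMap U V).epi_shortComplex_g
  haveI : Mono (mvFr U V).f := by
    haveI : Mono ((mvFr U V).f ≫ (biprod.fst : fr U ⊞ fr V ⟶ fr U)) := by
      dsimp only [mvFr]
      rw [biprod.lift_fst]
      infer_instance
    exact mono_of_mono (mvFr U V).f (biprod.fst : fr U ⊞ fr V ⟶ fr U)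
  exact ShortComplex.ShortExact.mk (isPushout_frMap U V).exact_shortComplex

end mv

end Groth.Agent.Lib.Helper1.BCFr
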