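import Mathlib
import Groth.Agent.Lib.Helper1BCFr
import Groth.Agent.Lib.Helper1BCDer
import Groth.Agent.Lib.Helper1BCBi
set_option backward.isDefEq.respectTransparency.types false

/-!
# Pairs of free modules on opens, and the Mayer–Vietoris step (helper1)
-/

set_option autoImplicit false
set_option linter.style.haveILetI false
set_option linter.unusedSectionVars false
set_option maxHeartbeats 400000

universe u
open CategoryTheory CategoryTheory.Limits AlgebraicGeometry Opposite TopologicalSpace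

attribute [local instance] HasDerivedCategory.standard

namespace Groth.Agent.Lib.Helper1.BCPair

open Groth.Agent.Lib.Helper1.BCAbs Groth.Agent.Lib.Helper1.BCFr

/-- the data of ring actions for base change -/
structure BCData {X X' : Scheme.{u}} (h : X' ⟶ X) (A B : Type u) [CommRing A] [CommRing B]
    [Algebra A B] where
  /-- the open downstairs -/
  W₀ : X.Opens
  /-- the open upstairs -/
  W₀' : X'.Opens
  le : W₀' ≤ h ⁻¹ᵁ W₀
  /-- action downstairs -/
  α : A →+* Γ(X, W₀)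
  /-- action upstairs -/
  α' : B →+* Γ(X', W₀')
  comm : (h.appLE W₀ W₀' le).hom.comp α = α'.comp (algebraMap A B)

section

variable {X X' : Scheme.{u}} {h : X' ⟶ X} {A B : Type u} [CommRing A] [CommRing B] [Algebra A B]
  (d : BCData h A B)

/-- restricted action downstairs -/
noncomputable def actA {W : X.Opens} (hW : W ≤ d.W₀) : A →+* Γ(X, W) :=
  (X.presheaf.map (homOfLE hW).op).hom.comp d.α

/-- restricted action upstairs -/
noncomputable def actB {W' : X'.Opens} (hW' : W' ≤ d.W₀') : B →+* Γ(X', W') :=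
  (X'.presheaf.map (homOfLE hW').op).hom.comp d.α'

lemma actA_res {W₁ W₂ : X.Opens} (hW₂ : W₂ ≤ d.W₀) (hle : W₁ ≤ W₂) (a : A) :
    X.presheaf.map (homOfLE hle).op (actA d hW₂ a) = actA d (hle.trans hW₂) a := by
  change (X.presheaf.map (homOfLE hW₂).op ≫ X.presheaf.map (homOfLE hle).op) (d.α a) = _
  rw [← Functor.map_comp]
  rfl

lemma actB_res {W₁ W₂ : X'.Opens} (hW₂ : W₂ ≤ d.W₀') (hle : W₁ ≤ W₂) (b : B) :
    X'.presheaf.map (homOfLE hle).op (actB d hW₂ b) = actB d (hle.trans hW₂) b := by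
  change (X'.presheaf.map (homOfLE hW₂).op ≫ X'.presheaf.map (homOfLE hle).op) (d.α' b) = _
  rw [← Functor.map_comp]
  rfl

lemma act_comm {W : X.Opens} {W' : X'.Opens} (hW : W ≤ d.W₀) (hW' : W' ≤ d.W₀')
    (hWW' : W' ≤ h ⁻¹ᵁ W) (a : A) :
    h.appLE W W' hWW' (actA d hW a) = actB d hW' (algebraMap A B a) := by
  have h1 : (h.appLE d.W₀ d.W₀' d.le) (d.α a) = d.α' (algebraMap A B a) :=
    congrArg (fun t : A →+* Γ(X', d.W₀') => t a) d.comm
  change (X.presheaf.map (homOfLE hW).op ≫ h.appLE W W' hWW') (d.α a) =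
    X'.presheaf.map (homOfLE hW').op (d.α' (algebraMap A B a))
  rw [← h1]
  change _ = (h.appLE d.W₀ d.W₀' d.le ≫ X'.presheaf.map (homOfLE hW').op) (d.α a)
  rw [Scheme.Hom.map_appLE, Scheme.Hom.appLE_map]

/-- the pair of free modules on `W`, `W'` -/
noncomputable def frPair {W : X.Opens} {W' : X'.Opens} (hW : W ≤ d.W₀) (hW' : W' ≤ d.W₀')
    (hWW' : W' ≤ h ⁻¹ᵁ W) : Pair (Scheme.Modules.pullback h) A B where
  P := fr W
  P' := fr W'
  ι := ιfr h hWW'
  ρ := (ρfr W).comp (actA d hW)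
  ρ' := (ρfr W').comp (actB d hW')
  comm a := by
    change ιfr h hWW' ≫ (Scheme.Modules.pullback h).map (mulFr W (actA d hW a)) =
      mulFr W' (actB d hW' (algebraMap A B a)) ≫ ιfr h hWW'
    rw [ιfr_mulFr, act_comm d hW hW' hWW']

/-- the morphism of pairs induced by inclusions of opens -/
noncomputable def frPairHom {W₁ W₂ : X.Opens} {W₁' W₂' : X'.Opens} (hW₁ : W₁ ≤ d.W₀)
    (hW₁' : W₁' ≤ d.W₀') (h₁ : W₁' ≤ h ⁻¹ᵁ W₁) (hW₂ : W₂ ≤ d.W₀) (hW₂' : W₂' ≤ d.W₀')
    (h₂ : W₂' ≤ h ⁻¹ᵁ W₂) (hle : W₁ ≤ W₂) (hle' : W₁' ≤ W₂') :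
    PairHom (frPair d hW₁ hW₁' h₁) (frPair d hW₂ hW₂' h₂) where
  u := frMap hle
  u' := frMap hle'
  hι := (frMap_ιfr h h₁ h₂ hle' hle).symm
  hρ a := by
    change mulFr W₁ (actA d hW₁ a) ≫ frMap hle = frMap hle ≫ mulFr W₂ (actA d hW₂ a)
    rw [← mulFr_frMap, actA_res]
  hρ' b := by
    change mulFr W₁' (actB d hW₁' b) ≫ frMap hle' = frMap hle' ≫ mulFr W₂' (actB d hW₂' b)
    rw [← mulFr_frMap, actB_res]

end

section D

variable {X X' : Scheme.{u}} {h : X' ⟶ X} [PreservesFiniteLimits (Scheme.Modules.pullback h)]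
  {A B : Type u} [CommRing A] [CommRing B] [Algebra A B] (d : BCData h A B)

instance preservesFiniteColimits_pullback' : PreservesFiniteColimits (Scheme.Modules.pullback h) :=
  ⟨fun _ _ _ => inferInstance⟩

/-- a module-level pair placed in degree `q` of the derived category -/
noncomputable abbrev dOf (q : ℤ) (pr : Pair (Scheme.Modules.pullback h) A B) :
    Pair (Scheme.Modules.pullback h).mapDerivedCategory A B :=
  toD (Scheme.Modules.pullback h) (toC (Scheme.Modules.pullback h) q pr)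

/-- a morphism of module-level pairs placed in degree `q` of the derived category -/
noncomputable abbrev dOfHom (q : ℤ) {pr₁ pr₂ : Pair (Scheme.Modules.pullback h) A B}
    (m : PairHom pr₁ pr₂) : PairHom (dOf q pr₁) (dOf q pr₂) :=
  toDHom (Scheme.Modules.pullback h) (toCHom (Scheme.Modules.pullback h) q m)

lemma map_biprod_total {E E' : Type*} [Category E] [Preadditive E] [HasBinaryBiproducts E]
    [Category E'] [Preadditive E'] (S : E ⥤ E') [S.Additive] (P Q : E) :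
    S.map (biprod.fst : P ⊞ Q ⟶ P) ≫ S.map biprod.inl + S.map (biprod.snd : P ⊞ Q ⟶ Q) ≫
      S.map biprod.inr = 𝟙 (S.obj (P ⊞ Q)) := by
  rw [← S.map_comp, ← S.map_comp, ← S.map_add, biprod.total, S.map_id]

theorem good_dOf_biprod {𝒦 : DCoh.D X → Prop} (q : ℤ)
    {pra prb : Pair (Scheme.Modules.pullback h) A B} (ha : Good 𝒦 (dOf q pra))
    (hb : Good 𝒦 (dOf q prb)) : Good 𝒦 (dOf q (pra.biprod prb)) := by
  refine good_biprod (dOfHom q (PairHom.inl pra prb)) (dOfHom q (PairHom.inr pra prb))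
    (dOfHom q (PairHom.fst pra prb)) (dOfHom q (PairHom.snd pra prb)) ?_ ?_ ha hb
  · exact map_biprod_total
      (HomologicalComplex.single X.Modules (ComplexShape.up ℤ) q ⋙ DerivedCategory.Q) pra.P prb.P
  · exact map_biprod_total
      (HomologicalComplex.single X'.Modules (ComplexShape.up ℤ) q ⋙ DerivedCategory.Q) pra.P' prb.P'

/-- the Mayer–Vietoris step -/
theorem good_sup [Module.Flat A B] {𝒦 : DCoh.D X → Prop} (h𝒦 : ∀ K, 𝒦 K → 𝒦 (K⟦(-1 : ℤ)⟧))
    (q : ℤ) {U V : X.Opens} {U' V' : X'.Opens} (hU : U ≤ d.W₀) (hV : V ≤ d.W₀)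
    (hU' : U' ≤ d.W₀') (hV' : V' ≤ d.W₀') (hUU' : U' ≤ h ⁻¹ᵁ U) (hVV' : V' ≤ h ⁻¹ᵁ V)
    (gU : Good 𝒦 (dOf q (frPair d hU hU' hUU')))
    (gV : Good 𝒦 (dOf q (frPair d hV hV' hVV')))
    (gI : Good 𝒦 (dOf q (frPair d (inf_le_left.trans hU : U ⊓ V ≤ d.W₀)
      (inf_le_left.trans hU' : U' ⊓ V' ≤ d.W₀')
      ((inf_le_inf hUU' hVV').trans (by rw [Scheme.Hom.preimage_inf]) : U' ⊓ V' ≤ h ⁻¹ᵁ (U ⊓ V))))) :
    Good 𝒦 (dOf q (frPair d (sup_le hU hV : U ⊔ V ≤ d.W₀) (sup_le hU' hV' : U' ⊔ V' ≤ d.W₀')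
      ((sup_le_sup hUU' hVV').trans (by rw [Scheme.Hom.preimage_sup]) :
        U' ⊔ V' ≤ h ⁻¹ᵁ (U ⊔ V)))) := by
  have hI : U ⊓ V ≤ d.W₀ := inf_le_left.trans hU
  have hI' : U' ⊓ V' ≤ d.W₀' := inf_le_left.trans hU'
  have hII' : U' ⊓ V' ≤ h ⁻¹ᵁ (U ⊓ V) :=
    (inf_le_inf hUU' hVV').trans (by rw [Scheme.Hom.preimage_inf])
  have hS : U ⊔ V ≤ d.W₀ := sup_le hU hV
  have hS' : U' ⊔ V' ≤ d.W₀' := sup_le hU' hV'
  have hSS' : U' ⊔ V' ≤ h ⁻¹ᵁ (U ⊔ V) :=
    (sup_le_sup hUU' hVV').trans (by rw [Scheme.Hom.preimage_sup])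
  let m₁ : PairHom (frPair d hI hI' hII') ((frPair d hU hU' hUU').biprod (frPair d hV hV' hVV')) :=
    PairHom.lift (frPairHom d hI hI' hII' hU hU' hUU' inf_le_left inf_le_left)
      (PairHom.neg (frPairHom d hI hI' hII' hV hV' hVV' inf_le_right inf_le_right))
  let m₂ : PairHom ((frPair d hU hU' hUU').biprod (frPair d hV hV' hVV')) (frPair d hS hS' hSS') :=
    PairHom.desc (frPairHom d hU hU' hUU' hS hS' hSS' le_sup_left le_sup_left)
      (frPairHom d hV hV' hVV' hS hS' hSS' le_sup_right le_sup_right)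
  have z₀ : m₁.u ≫ m₂.u = 0 := (mvFr U V).zero
  have z₀' : m₁.u' ≫ m₂.u' = 0 := (mvFr U' V').zero
  have z : (toCHom (Scheme.Modules.pullback h) q m₁).u ≫
      (toCHom (Scheme.Modules.pullback h) q m₂).u = 0 := by
    change (HomologicalComplex.single _ _ q).map m₁.u ≫ (HomologicalComplex.single _ _ q).map m₂.u = 0
    rw [← Functor.map_comp, z₀, Functor.map_zero]
  have z' : (toCHom (Scheme.Modules.pullback h) q m₁).u' ≫
      (toCHom (Scheme.Modules.pullback h) q m₂).u' = 0 := by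
    change (HomologicalComplex.single _ _ q).map m₁.u' ≫
      (HomologicalComplex.single _ _ q).map m₂.u' = 0
    rw [← Functor.map_comp, z₀', Functor.map_zero]
  have e : (ShortComplex.mk _ _ z).ShortExact :=
    (mvFr_shortExact U V).map_of_exact (HomologicalComplex.single X.Modules (ComplexShape.up ℤ) q)
  have e' : (ShortComplex.mk _ _ z').ShortExact :=
    (mvFr_shortExact U' V').map_of_exact
      (HomologicalComplex.single X'.Modules (ComplexShape.up ℤ) q)
  exact good_third_of_ses (Scheme.Modules.pullback h) h𝒦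
    (toCHom (Scheme.Modules.pullback h) q m₁) (toCHom (Scheme.Modules.pullback h) q m₂) z z' e e'
    gI (good_dOf_biprod q gU gV)

end D

end Groth.Agent.Lib.Helper1.BCPair
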