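import Mathlib
import Groth.Agent.Lib.Helper1BCPair
import Groth.Agent.Lib.Helper17AffPush5
import Groth.Agent.Lib.Helper17Hyp19
import Groth.Agent.Lib.Helper2PullbackSec
set_option backward.isDefEq.respectTransparency.types false

/-!
# Flat base change for derived categories: the affine case (helper1)
-/

set_option autoImplicit false
set_option linter.style.haveILetI false
set_option linter.unusedSectionVars false
set_option maxHeartbeats 400000

universe u
open CategoryTheory CategoryTheory.Limits AlgebraicGeometry Opposite TopologicalSpace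

attribute [local instance] HasDerivedCategory.standard

namespace Groth.Agent.Lib.Helper1.BCAff

open Groth.Agent.Lib.Helper1.BCAbs Groth.Agent.Lib.Helper1.BCFr Groth.Agent.Lib.Helper1.BCPair
  Groth.Agent.Lib.Helper17.Hyp DerivedCategory TensorProduct

section HQ

variable {𝒜 : Type*} [Category 𝒜] [Abelian 𝒜] [HasDerivedCategory 𝒜]

/-- `M ≅ H^q(M[-q])`, naturally -/
noncomputable def canIso (q : ℤ) :
    𝟭 𝒜 ≅ HomologicalComplex.single 𝒜 (ComplexShape.up ℤ) q ⋙ Q ⋙ homologyFunctor 𝒜 q :=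
  (HomologicalComplex.homologyFunctorSingleIso 𝒜 (ComplexShape.up ℤ) q).symm ≪≫
    Functor.isoWhiskerLeft _ (homologyFunctorFactors 𝒜 q).symm

/-- the map `Hom(M[-q], K) → Hom(M, H^q K)` -/
noncomputable def hq (q : ℤ) {M : 𝒜} {K : DerivedCategory 𝒜}
    (x : Q.obj ((HomologicalComplex.single 𝒜 (ComplexShape.up ℤ) q).obj M) ⟶ K) :
    M ⟶ (homologyFunctor 𝒜 q).obj K :=
  (canIso q).hom.app M ≫ (homologyFunctor 𝒜 q).map x

lemma hq_precomp (q : ℤ) {M M' : 𝒜} {K : DerivedCategory 𝒜} (m : M ⟶ M')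
    (x : Q.obj ((HomologicalComplex.single 𝒜 (ComplexShape.up ℤ) q).obj M') ⟶ K) :
    hq q (Q.map ((HomologicalComplex.single 𝒜 (ComplexShape.up ℤ) q).map m) ≫ x) = m ≫ hq q x := by
  have h := (canIso (𝒜 := 𝒜) q).hom.naturality m
  dsimp only [Functor.id_map, Functor.comp_map, Functor.id_obj, Functor.comp_obj] at h
  dsimp only [hq]
  rw [Functor.map_comp, ← Category.assoc, ← h, Category.assoc]

lemma hq_comp (q : ℤ) {M : 𝒜} {K K' : DerivedCategory 𝒜}
    (x : Q.obj ((HomologicalComplex.single 𝒜 (ComplexShape.up ℤ) q).obj M) ⟶ K) (k : K ⟶ K') :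
    hq q (x ≫ k) = hq q x ≫ (homologyFunctor 𝒜 q).map k := by
  dsimp only [hq]
  rw [Functor.map_comp, Category.assoc]

lemma hq_add (q : ℤ) {M : 𝒜} {K : DerivedCategory 𝒜}
    (x y : Q.obj ((HomologicalComplex.single 𝒜 (ComplexShape.up ℤ) q).obj M) ⟶ K) :
    hq q (x + y) = hq q x + hq q y := by
  dsimp only [hq]
  rw [Functor.map_add, Preadditive.comp_add]

lemma bijective_iso_comp {C : Type*} [Category C] {X Y Z : C} (e : X ≅ Y) :
    Function.Bijective (fun g : Y ⟶ Z => e.hom ≫ g) := by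
  constructor
  · intro g g' h
    dsimp only at h
    rwa [cancel_epi] at h
  · intro g
    exact ⟨e.inv ≫ g, by dsimp only; rw [← Category.assoc, e.hom_inv_id, Category.id_comp]⟩

/-- `hq` is bijective as soon as `c₀` is -/
theorem bijective_hq (q : ℤ) (M : 𝒜) (K : DerivedCategory 𝒜)
    (h : Function.Bijective (fun ξ : dsgl M ⟶ K⟦q⟧ => c₀ ξ)) :
    Function.Bijective
      (fun x : Q.obj ((HomologicalComplex.single 𝒜 (ComplexShape.up ℤ) q).obj M) ⟶ K =>
        hq q x) := by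
  let P : DerivedCategory 𝒜 := Q.obj ((HomologicalComplex.single 𝒜 (ComplexShape.up ℤ) q).obj M)
  let s : P⟦q⟧ ≅ dsgl M := ((singleFunctors 𝒜).shiftIso q 0 q (by omega)).app M
  let c : M ≅ (homologyFunctor 𝒜 q).obj P :=
    (e₀ M).symm ≪≫ (homologyFunctor 𝒜 0).mapIso s.symm ≪≫ shIso P q
  let a : M ≅ M := (canIso q).app M ≪≫ c.symm
  have key : ∀ x : P ⟶ K, c₀ (s.inv ≫ x⟦q⟧') ≫ (shIso K q).hom =
      c.hom ≫ (homologyFunctor 𝒜 q).map x := by
    intro x
    dsimp only [c₀, c, Iso.trans_hom, Iso.symm_hom, Functor.mapIso_hom]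
    rw [Functor.map_comp, Category.assoc, Category.assoc, shIso_hom_naturality, Category.assoc,
      Category.assoc]
  have hfun : (fun x : P ⟶ K => hq q x) =
      (fun y : M ⟶ (homologyFunctor 𝒜 q).obj K => a.hom ≫ y) ∘
      (fun y : M ⟶ (homologyFunctor 𝒜 0).obj (K⟦q⟧) => y ≫ (shIso K q).hom) ∘
      (fun ξ : dsgl M ⟶ K⟦q⟧ => c₀ ξ) ∘ (fun x : P ⟶ K => s.inv ≫ x⟦q⟧') := by
    funext x
    dsimp only [Function.comp]
    rw [key x]
    dsimp only [hq, a, Iso.trans_hom, Iso.symm_hom, Iso.app_hom]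
    rw [Category.assoc, Iso.inv_hom_id_assoc]
  rw [hfun]
  refine (bijective_iso_comp a).comp ((bijective_comp_iso (shIso K q)).comp (h.comp ?_))
  refine (bijective_iso_comp s.symm).comp ?_
  exact ⟨fun x y hxy => (shiftFunctor (DerivedCategory 𝒜) q).map_injective hxy,
    fun y => (shiftFunctor (DerivedCategory 𝒜) q).map_surjective y⟩

end HQ

section Exact

variable {𝒜 : Type*} [Category 𝒜] [Abelian 𝒜] [HasDerivedCategory 𝒜]
  {𝒜' : Type*} [Category 𝒜'] [Abelian 𝒜'] [HasDerivedCategory 𝒜']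
  (Φ₀ : 𝒜 ⥤ 𝒜') [Φ₀.Additive] [PreservesFiniteLimits Φ₀] [PreservesFiniteColimits Φ₀]

/-- `(Φ₀ M)[-q] ≅ Φ (M[-q])` -/
noncomputable def thetaIso (q : ℤ) (M : 𝒜) :
    Q.obj ((HomologicalComplex.single 𝒜' (ComplexShape.up ℤ) q).obj (Φ₀.obj M)) ≅
      Φ₀.mapDerivedCategory.obj
        (Q.obj ((HomologicalComplex.single 𝒜 (ComplexShape.up ℤ) q).obj M)) :=
  Q.mapIso ((HomologicalComplex.singleMapHomologicalComplex Φ₀ (ComplexShape.up ℤ) q).symm.app M) ≪≫
    Φ₀.mapDerivedCategoryFactors.symm.app _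

lemma thetaIso_hom (q : ℤ) (M : 𝒜) :
    (thetaIso Φ₀ q M).hom =
      Q.map ((HomologicalComplex.singleMapHomologicalComplex Φ₀ (ComplexShape.up ℤ) q).inv.app M) ≫
        Φ₀.mapDerivedCategoryFactors.inv.app _ := rfl

lemma thetaIso_hom_naturality (q : ℤ) {M N : 𝒜} (y : M ⟶ N) :
    Q.map ((HomologicalComplex.single 𝒜' (ComplexShape.up ℤ) q).map (Φ₀.map y)) ≫
        (thetaIso Φ₀ q N).hom =
      (thetaIso Φ₀ q M).hom ≫ Φ₀.mapDerivedCategory.map
        (Q.map ((HomologicalComplex.single 𝒜 (ComplexShape.up ℤ) q).map y)) := by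
  have h1 := (HomologicalComplex.singleMapHomologicalComplex Φ₀ (ComplexShape.up ℤ) q).inv.naturality y
  have h2 := Φ₀.mapDerivedCategoryFactors.inv.naturality
    ((HomologicalComplex.single 𝒜 (ComplexShape.up ℤ) q).map y)
  dsimp only [Functor.comp_map] at h1 h2
  rw [thetaIso_hom, thetaIso_hom, ← Category.assoc, ← Q.map_comp, h1, Q.map_comp, Category.assoc,
    h2, Category.assoc]

/-- the twisting automorphism -/
noncomputable def xiIso (q : ℤ) (M : 𝒜) : Φ₀.obj M ≅ Φ₀.obj M :=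
  (canIso q).app (Φ₀.obj M) ≪≫ (homologyFunctor 𝒜' q).mapIso (thetaIso Φ₀ q M) ≪≫
    (homologyNatIso Φ₀ q).app
      (Q.obj ((HomologicalComplex.single 𝒜 (ComplexShape.up ℤ) q).obj M)) ≪≫
    Φ₀.mapIso ((canIso q).app M).symm

lemma xiIso_hom (q : ℤ) (M : 𝒜) :
    (xiIso Φ₀ q M).hom = (canIso q).hom.app (Φ₀.obj M) ≫
      (homologyFunctor 𝒜' q).map (thetaIso Φ₀ q M).hom ≫
      (homologyNatIso Φ₀ q).hom.app
        (Q.obj ((HomologicalComplex.single 𝒜 (ComplexShape.up ℤ) q).obj M)) ≫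
      Φ₀.map ((canIso q).inv.app M) := rfl

lemma xiIso_hom_naturality (q : ℤ) {M N : 𝒜} (y : M ⟶ N) :
    (xiIso Φ₀ q M).hom ≫ Φ₀.map y = Φ₀.map y ≫ (xiIso Φ₀ q N).hom := by
  have h1 := (canIso (𝒜 := 𝒜') q).hom.naturality (Φ₀.map y)
  have h2 := thetaIso_hom_naturality Φ₀ q y
  have h3 := (homologyNatIso Φ₀ q).hom.naturality
    (Q.map ((HomologicalComplex.single 𝒜 (ComplexShape.up ℤ) q).map y))
  have h4 := (canIso (𝒜 := 𝒜) q).inv.naturality y
  dsimp only [Functor.id_map, Functor.comp_map, Functor.id_obj, Functor.comp_obj] at h1 h3 h4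
  rw [xiIso_hom, xiIso_hom]
  simp only [Category.assoc]
  rw [← Φ₀.map_comp, ← h4, Φ₀.map_comp, ← Category.assoc ((homologyNatIso Φ₀ q).hom.app _), ← h3,
    Category.assoc, ← Category.assoc ((homologyFunctor 𝒜' q).map (thetaIso Φ₀ q M).hom),
    ← Functor.map_comp, ← h2, Functor.map_comp, Category.assoc, ← Category.assoc _ _
      ((homologyFunctor 𝒜' q).map (thetaIso Φ₀ q N).hom ≫ _), ← h1, Category.assoc]

/-- `Φ₀ (H^q K) ≅ H^q (Φ K)` (a twisted form of the canonical isomorphism) -/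
noncomputable def muIso (q : ℤ) (K : DerivedCategory 𝒜) :
    Φ₀.obj ((homologyFunctor 𝒜 q).obj K) ≅
      (homologyFunctor 𝒜' q).obj (Φ₀.mapDerivedCategory.obj K) :=
  xiIso Φ₀ q _ ≪≫ ((homologyNatIso Φ₀ q).app K).symm

lemma hq_theta (q : ℤ) {M : 𝒜} {K : DerivedCategory 𝒜}
    (x : Q.obj ((HomologicalComplex.single 𝒜 (ComplexShape.up ℤ) q).obj M) ⟶ K) :
    hq q ((thetaIso Φ₀ q M).hom ≫ Φ₀.mapDerivedCategory.map x) =
      Φ₀.map (hq q x) ≫ (muIso Φ₀ q K).hom := by
  have h3 := (homologyNatIso Φ₀ q).hom.naturality x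
  have hx := xiIso_hom_naturality Φ₀ q (hq q x)
  dsimp only [Functor.comp_map, Functor.comp_obj] at h3
  dsimp only [muIso, Iso.trans_hom, Iso.symm_hom, Iso.app_inv]
  rw [← Category.assoc, ← hx, xiIso_hom]
  simp only [Category.assoc]
  have e1 : Φ₀.map ((canIso q).inv.app M) ≫ Φ₀.map (hq q (M := M) x) =
      Φ₀.map ((homologyFunctor 𝒜 q).map x) := by
    rw [← Φ₀.map_comp]
    dsimp only [hq]
    rw [Iso.inv_hom_id_app_assoc]
  rw [← Category.assoc (Φ₀.map ((canIso q).inv.app M)), e1,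
    ← Category.assoc ((homologyNatIso Φ₀ q).hom.app _), ← h3, Category.assoc,
    Iso.hom_inv_id_app]
  dsimp only [Functor.comp_obj]
  rw [Category.comp_id]
  dsimp only [hq]
  rw [Functor.map_comp]

variable {A : Type*} {B : Type*} [CommRing A] [CommRing B] [Algebra A B]

lemma dOf_ι (q : ℤ) (pr : Pair Φ₀ A B) :
    (toD Φ₀ (toC Φ₀ q pr)).ι =
      Q.map ((HomologicalComplex.single 𝒜' (ComplexShape.up ℤ) q).map pr.ι) ≫
        (thetaIso Φ₀ q pr.P).hom := by
  change Q.map ((HomologicalComplex.single 𝒜' (ComplexShape.up ℤ) q).map pr.ι ≫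
    (HomologicalComplex.singleMapHomologicalComplex Φ₀ (ComplexShape.up ℤ) q).inv.app pr.P) ≫
      Φ₀.mapDerivedCategoryFactors.inv.app _ = _
  rw [Q.map_comp, Category.assoc, thetaIso_hom]

lemma dOf_ρ (q : ℤ) (pr : Pair Φ₀ A B) (a : A) :
    ((toD Φ₀ (toC Φ₀ q pr)).ρ a : (toD Φ₀ (toC Φ₀ q pr)).P ⟶ (toD Φ₀ (toC Φ₀ q pr)).P) =
      Q.map ((HomologicalComplex.single 𝒜 (ComplexShape.up ℤ) q).map (pr.ρ a : pr.P ⟶ pr.P)) := rfl

lemma dOf_ρ' (q : ℤ) (pr : Pair Φ₀ A B) (b : B) :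
    ((toD Φ₀ (toC Φ₀ q pr)).ρ' b : (toD Φ₀ (toC Φ₀ q pr)).P' ⟶ (toD Φ₀ (toC Φ₀ q pr)).P') =
      Q.map ((HomologicalComplex.single 𝒜' (ComplexShape.up ℤ) q).map (pr.ρ' b : pr.P' ⟶ pr.P')) :=
  rfl

end Exact

section Sch

open Groth.Agent.Helper13QcqsBC Groth.Agent.Helper13FlatMV Groth.Agent.Helper13PullbackUnit

variable {X S X' S' : Scheme.{u}} (f : X ⟶ S) (g : S' ⟶ S) (g' : X' ⟶ X) (f' : X' ⟶ S')
  (hsq : IsPullback g' f' f g) {V : S.Opens} {V' : S'.Opens} (hVV' : V' ≤ g ⁻¹ᵁ V)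

/-- `Γ(S', V')` as an algebra over `Γ(S, V)` -/
def BR (g : S' ⟶ S) {V : S.Opens} {V' : S'.Opens} (_hVV' : V' ≤ g ⁻¹ᵁ V) : Type u := Γ(S', V')

noncomputable instance : CommRing (BR g hVV') := inferInstanceAs (CommRing Γ(S', V'))

noncomputable instance : Algebra Γ(S, V) (BR g hVV') := (g.appLE V V' hVV').hom.toAlgebra

lemma algebraMap_BR (a : Γ(S, V)) :
    algebraMap Γ(S, V) (BR g hVV') a = (g.appLE V V' hVV').hom a := rfl

lemma flat_BR [Flat g] (hV : IsAffineOpen V) (hV' : IsAffineOpen V') :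
    Module.Flat Γ(S, V) (BR g hVV') :=
  g.flat_appLE hV hV' hVV'

/-- the base change data of a cartesian square over `V' ≤ g⁻¹ V` -/
noncomputable def bcd : BCData g' Γ(S, V) (BR g hVV') where
  W₀ := f ⁻¹ᵁ V
  W₀' := f' ⁻¹ᵁ V'
  le := Groth.Agent.Helper13AffBC.preimage_le f g g' f' hsq hVV'
  α := (f.app V).hom
  α' := (f'.app V').hom
  comm := by
    have e : f.appLE V (f ⁻¹ᵁ V) le_rfl ≫ g'.appLE (f ⁻¹ᵁ V) (f' ⁻¹ᵁ V')
        (Groth.Agent.Helper13AffBC.preimage_le f g g' f' hsq hVV') =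
        g.appLE V V' hVV' ≫ f'.appLE V' (f' ⁻¹ᵁ V') le_rfl := by
      simp only [Scheme.Hom.appLE_comp_appLE, hsq.w]
    rw [Scheme.Hom.appLE_eq_app, Scheme.Hom.appLE_eq_app] at e
    ext a
    exact congrArg (fun t : Γ(S, V) ⟶ Γ(X', f' ⁻¹ᵁ V') => t.hom a) e

lemma isQCohD_shift' {Y : Scheme.{u}} (K : DCoh.D Y) (hK : DCoh.IsQCohD K) (n : ℤ) :
    DCoh.IsQCohD (K⟦n⟧) := by
  intro i
  exact (SheafOfModules.isQuasicoherent Y.ringCatSheaf).prop_of_iso
    (((DerivedCategory.homologyFunctor Y.Modules 0).shiftIso n i (n + i) rfl).app K).symm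
    (hK (n + i))

lemma isQCohD_map_pullback [PreservesFiniteLimits (Scheme.Modules.pullback g')] (K : DCoh.D X)
    (hK : DCoh.IsQCohD K) :
    DCoh.IsQCohD ((Scheme.Modules.pullback g').mapDerivedCategory.obj K) := by
  intro i
  haveI : ((homologyFunctor X.Modules i).obj K).IsQuasicoherent := hK i
  exact (SheafOfModules.isQuasicoherent X'.ringCatSheaf).prop_of_iso
    ((homologyNatIso (Scheme.Modules.pullback g') i).app K).symm
    (Groth.Agent.Lib.Helper2.PullbackSec.isQuasicoherent_pullback g' _)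

lemma bijective_hq_fr {Y : Scheme.{u}} (q : ℤ) {W : Y.Opens} (hW : IsAffineOpen W) (K : DCoh.D Y)
    (hK : DCoh.IsQCohD K) :
    Function.Bijective
      (fun x : Q.obj ((HomologicalComplex.single Y.Modules (ComplexShape.up ℤ) q).obj (fr W)) ⟶ K =>
        hq q x) := by
  haveI := Groth.Agent.Lib.Helper17.MV.isGrothendieckAbelian Y
  haveI := Groth.Agent.Lib.Helper17.TildeD.hasLimitsOfShape_nat_modules Y
  exact bijective_hq q (fr W) K
    (Groth.Agent.Lib.Helper17.AffPush.bijective_c₀.{u + 1, u}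
      (Groth.Agent.Lib.Helper17.AffPush.acycData Y) (K⟦q⟧) (isQCohD_shift' K hK q) hW)

lemma bijective_app_of_iso {Y : Scheme.{u}} {M N : Y.Modules} (e : M ≅ N) (U : Y.Opens) :
    Function.Bijective (e.hom.app U) := by
  refine Function.bijective_iff_has_inverse.2 ⟨e.inv.app U, fun s => ?_, fun s => ?_⟩
  · change (e.hom.app U ≫ e.inv.app U) s = s
    rw [← Scheme.Modules.Hom.comp_app, e.hom_inv_id]
    rfl
  · change (e.inv.app U ≫ e.hom.app U) s = s
    rw [← Scheme.Modules.Hom.comp_app, e.inv_hom_id]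
    rfl

noncomputable instance (M : X'.Modules) (W' : X'.Opens) (hW' : W' ≤ f' ⁻¹ᵁ V') :
    Module (BR g hVV') (SecR f' M V' W' hW') :=
  inferInstanceAs (Module Γ(S', V') (SecR f' M V' W' hW'))

/-- the affine case of flat base change for pairs of free modules -/
theorem good_affine [PreservesFiniteLimits (Scheme.Modules.pullback g')] (hV : IsAffineOpen V)
    (hV' : IsAffineOpen V') (q : ℤ) {W : X.Opens} (hW : W ≤ f ⁻¹ᵁ V) (hWa : IsAffineOpen W)
    {W' : X'.Opens} (hW' : W' ≤ f' ⁻¹ᵁ V') (hWW' : W' ≤ g' ⁻¹ᵁ W)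
    (hW'eq : W' = Vp g' f' V' W) :
    Good DCoh.IsQCohD (dOf q (frPair (bcd f g g' f' hsq hVV') hW hW' hWW')) := by
  subst hW'eq
  intro K hK
  let Φ₀ := Scheme.Modules.pullback g'
  let W' : X'.Opens := Vp g' f' V' W
  let d := bcd f g g' f' hsq hVV'
  let pr := frPair d hW hW' hWW'
  let N : X.Modules := (homologyFunctor X.Modules q).obj K
  haveI : N.IsQuasicoherent := hK q
  let K' : DCoh.D X' := Φ₀.mapDerivedCategory.obj K
  let N' : X'.Modules := (homologyFunctor X'.Modules q).obj K'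
  have hK' : DCoh.IsQCohD K' := isQCohD_map_pullback g' K hK
  have hW'a : IsAffineOpen W' := isAffineOpen_Vp f g g' f' hsq hVV' hV hV' hW hWa
  let μ := muIso Φ₀ q K
  let P₀ : DCoh.D X := Q.obj ((HomologicalComplex.single X.Modules (ComplexShape.up ℤ) q).obj (fr W))
  let P₀' : DCoh.D X' :=
    Q.obj ((HomologicalComplex.single X'.Modules (ComplexShape.up ℤ) q).obj (fr W'))
  let F₀ : (P₀ ⟶ K) → Γ(N, W) := fun x => ev W N (hq q x)
  let F₀' : (P₀' ⟶ K') → Γ(N', W') := fun y => ev W' N' (hq q y)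
  have hF₀ : Function.Bijective F₀ := (ev W N).bijective.comp (bijective_hq_fr q hWa K hK)
  have hF₀' : Function.Bijective F₀' := (ev W' N').bijective.comp (bijective_hq_fr q hW'a K' hK')
  have F₀_add : ∀ x y : P₀ ⟶ K, F₀ (x + y) = F₀ x + F₀ y := fun x y => by
    change ev W N (hq q (x + y)) = ev W N (hq q x) + ev W N (hq q y)
    rw [hq_add, map_add]
  have F₀'_add : ∀ x y : P₀' ⟶ K', F₀' (x + y) = F₀' x + F₀' y := fun x y => by
    change ev W' N' (hq q (x + y)) = ev W' N' (hq q x) + ev W' N' (hq q y)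
    rw [hq_add, map_add]
  have F₀'_zero : F₀' 0 = 0 := by
    have h := F₀'_add 0 0
    rw [add_zero] at h
    exact left_eq_add.1 h
  have F₀_smul : ∀ (a : Γ(S, V)) (x : P₀ ⟶ K),
      F₀ (Q.map ((HomologicalComplex.single X.Modules (ComplexShape.up ℤ) q).map
        (mulFr W (actA d hW a))) ≫ x) = ((f.appLE V W hW a : Γ(X, W)) • F₀ x : Γ(N, W)) := by
    intro a x
    change ev W N (hq q (Q.map ((HomologicalComplex.single X.Modules (ComplexShape.up ℤ) q).map
        (mulFr W (actA d hW a))) ≫ x)) = _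
    rw [hq_precomp, ev_mulFr_comp]
    rfl
  let E : ActHom (dOf q pr).ρ K →ₗ[Γ(S, V)] SecR f N V W hW :=
    { toFun := fun x => F₀ x.hom
      map_add' := fun x y => F₀_add x.hom y.hom
      map_smul' := fun a x => F₀_smul a x.hom }
  have hE : Function.Bijective E := hF₀
  let E' : HomB (dOf q pr) K' →+ Γ(N', W') :=
    { toFun := fun y => F₀' y.hom
      map_zero' := F₀'_zero
      map_add' := fun x y => F₀'_add x.hom y.hom }
  have hE' : Function.Bijective E' := hF₀'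
  let m : SecR f' (Φ₀.obj N) V' W' hW' →+ Γ(N', W') := (μ.hom.app W').hom
  have hm : Function.Bijective m := bijective_app_of_iso μ W'
  let kp := kap (R := Γ(S, V)) (R' := BR g hVV')
      (uW f g' f' N hW (inf_le_left : W' ≤ g' ⁻¹ᵁ W) inf_le_right)
      (uW_smul f g g' f' hsq N hVV' hW inf_le_left inf_le_right)
  have hkap : Function.Bijective kp := KBij_of_isAffineOpen f g g' f' hsq N hVV' hV hV' hW hWa
  have key : ∀ z : BR g hVV' ⊗[Γ(S, V)] ActHom (dOf q pr).ρ K,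
      E' (beta (dOf q pr) K z) = m (kp (E.lTensor (BR g hVV') z)) := by
    intro z
    induction z using TensorProduct.induction_on with
    | zero => rw [map_zero, map_zero, map_zero, map_zero, map_zero]
    | add x y hx hy => rw [map_add, map_add, hx, hy, map_add, map_add, map_add]
    | tmul b x =>
      rw [beta_tmul, LinearMap.lTensor_tmul]
      let x₀ : P₀ ⟶ K := x.hom
      let b' : Γ(X', W') := actB d hW' b
      have e1 : (b • phi (dOf q pr) K x).hom =
          Q.map ((HomologicalComplex.single X'.Modules (ComplexShape.up ℤ) q).map (mulFr W' b')) ≫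
          Q.map ((HomologicalComplex.single X'.Modules (ComplexShape.up ℤ) q).map
            (ιfr g' hWW')) ≫ (thetaIso Φ₀ q (fr W)).hom ≫ Φ₀.mapDerivedCategory.map x₀ := by
        have hι := dOf_ι Φ₀ q pr
        change ((dOf q pr).ρ' b : (dOf q pr).P' ⟶ (dOf q pr).P') ≫ (dOf q pr).ι ≫
          Φ₀.mapDerivedCategory.map x₀ = _
        rw [hι]
        exact congrArg (fun t => Q.map ((HomologicalComplex.single X'.Modules (ComplexShape.up ℤ)
          q).map (mulFr W' b')) ≫ t) (Category.assoc _ _ _)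
      have e2 : F₀' (Q.map ((HomologicalComplex.single X'.Modules (ComplexShape.up ℤ) q).map
            (mulFr W' b')) ≫
          Q.map ((HomologicalComplex.single X'.Modules (ComplexShape.up ℤ) q).map
            (ιfr g' hWW')) ≫ (thetaIso Φ₀ q (fr W)).hom ≫ Φ₀.mapDerivedCategory.map x₀) =
          (b' • m (unitSec g' N hWW' (F₀ x₀)) : Γ(N', W')) := by
        change ev W' N' (hq q _) = _
        rw [hq_precomp, hq_precomp, hq_theta, ev_mulFr_comp, ← Category.assoc, ev_comp,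
          ev_ιfr_comp_map]
        rfl
      have e3 : kp (b ⊗ₜ[Γ(S, V)] E x) =
          ((f'.appLE V' W' hW' b : Γ(X', W')) • unitSec g' N hWW' (F₀ x₀) : Γ(Φ₀.obj N, W')) :=
        rfl
      have e4 : m ((f'.appLE V' W' hW' b : Γ(X', W')) • unitSec g' N hWW' (F₀ x₀) :
            Γ(Φ₀.obj N, W')) =
          (f'.appLE V' W' hW' b : Γ(X', W')) • m (unitSec g' N hWW' (F₀ x₀)) :=
        Scheme.Modules.Hom.app_smul μ.hom _ _
      rw [e3, e4]
      exact (congrArg F₀' e1).trans e2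
  have h1 : (E' : _ → _) ∘ (beta (dOf q pr) K) = m ∘ kp ∘ (E.lTensor (BR g hVV')) := by
    funext z
    exact key z
  have h2 : Function.Bijective ((E' : _ → _) ∘ (beta (dOf q pr) K)) := by
    rw [h1]
    exact hm.comp (hkap.comp (lTensor_bijective_of_bijective E hE))
  exact (Function.Bijective.of_comp_iff' hE' _).1 h2

end Sch

end Groth.Agent.Lib.Helper1.BCAff
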