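import Mathlib
import Groth.Agent.Lib.Helper1BCFr
import Groth.Agent.Lib.Helper1Sky11
set_option backward.isDefEq.respectTransparency.types false

/-!
# The free module on an open is flat (helper1)
-/

set_option autoImplicit false
set_option linter.style.haveILetI false
set_option linter.unusedSectionVars false
set_option maxHeartbeats 400000

universe u
open CategoryTheory CategoryTheory.Limits AlgebraicGeometry Opposite TopologicalSpace

attribute [local instance] HasDerivedCategory.standard

namespace Groth.Agent.Lib.Helper1.BCFlat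

open Groth.Agent.Lib.Helper1.BCFr Groth.Agent.Lib.Helper1.Sky Groth.Agent.Lib.Helper1.CI

variable {X : Scheme.{u}}

/-- the stalks of the free module on an open are projective -/
theorem projective_stalk_fr (V : X.Opens) (x : X) : Projective ((stalkFun x).obj (fr V)) := by
  refine ⟨fun {E N} φ p _ => ?_⟩
  have hp : Function.Surjective p.hom := (ModuleCat.epi_iff_surjective p).1 inferInstance
  let φ' : fr V ⟶ (skyFun x).obj N := (stalkSkyAdj x).homEquiv _ _ φ
  have hs : Function.Surjective (((skyFun x).map p).app V) := by
    intro s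
    let s₀ : SkyT X.presheaf x N V := s
    let t₀ : SkyT X.presheaf x E V :=
      SkyT.mk (R := X.presheaf) (U := V) (fun hx => (hp (SkyT.ev X.presheaf V s₀ hx)).choose)
    refine ⟨t₀, ?_⟩
    have : (skyMap p.hom).app (op V) t₀ = s₀ := by
      apply SkyT.ext
      intro hx
      exact (hp (SkyT.ev X.presheaf V s₀ hx)).choose_spec
    exact this
  obtain ⟨t, ht⟩ := hs (ev V _ φ')
  let ψ' : fr V ⟶ (skyFun x).obj E := (ev V _).symm t
  have h1 : ψ' ≫ (skyFun x).map p = φ' := by
    apply hom_ext_fr
    rw [ev_comp, AddEquiv.apply_symm_apply]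
    exact ht
  refine ⟨((stalkSkyAdj x).homEquiv _ _).symm ψ', ?_⟩
  rw [← Adjunction.homEquiv_naturality_right_symm, h1, Equiv.symm_apply_apply]

/-- the free module on an open is flat -/
theorem isFlat_fr (V : X.Opens) : FlatMod.IsFlat (fr V) := by
  intro x
  haveI := projective_stalk_fr V x
  haveI h : Module.Projective (Ox x) ((stalkFun x).obj (fr V)) :=
    (IsProjective.iff_projective (R := Ox x) (P := ((stalkFun x).obj (fr V)))).2
      (projective_stalk_fr V x)
  exact (Module.Flat.of_projective : Module.Flat (Ox x) ((stalkFun x).obj (fr V)))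

lemma isFlat_of_iso {M M' : X.Modules} (e : M ≅ M') (h : FlatMod.IsFlat M) : FlatMod.IsFlat M' := by
  intro x
  have h1 : Module.Flat (Ox x) ((stalkFun x).obj M) := h x
  have e' := ((stalkFun x).mapIso e).toLinearEquiv
  exact @Module.Flat.of_linearEquiv _ _ _ _ _ _ _ _ h1 e'.symm

/-- a flat module placed in a single degree is K-flat with flat terms -/
theorem kffs_single_of_isFlat (q : ℤ) (M : X.Modules) (hM : FlatMod.IsFlat M) :
    KFFs ((HomologicalComplex.single X.Modules (ComplexShape.up ℤ) q).obj M) := by
  refine kffs_of_vanishesOutside _ q q ?_ ?_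
  · intro i hi
    exact HomologicalComplex.isZero_single_obj_X (ComplexShape.up ℤ) q M i (by omega)
  · intro i
    by_cases h : i = q
    · subst h
      exact isFlat_of_iso (HomologicalComplex.singleObjXSelf (ComplexShape.up ℤ) i M).symm hM
    · exact flatMod_isFlat_of_isZero _
        (HomologicalComplex.isZero_single_obj_X (ComplexShape.up ℤ) q M i h)

theorem kffs_single_fr (q : ℤ) (V : X.Opens) :
    KFFs ((HomologicalComplex.single X.Modules (ComplexShape.up ℤ) q).obj (fr V)) :=
  kffs_single_of_isFlat q _ (isFlat_fr V)

end Groth.Agent.Lib.Helper1.BCFlat
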