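import Mathlib
import Groth.Agent.Lib.Helper1BCAff
import Groth.Agent.S0015
set_option backward.isDefEq.respectTransparency.types false

/-!
# Flat base change for derived categories: Mayer–Vietoris induction (helper1)
-/

set_option autoImplicit false
set_option linter.style.haveILetI false
set_option linter.unusedSectionVars false
set_option maxHeartbeats 400000

universe u
open CategoryTheory CategoryTheory.Limits AlgebraicGeometry Opposite TopologicalSpace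

attribute [local instance] HasDerivedCategory.standard

namespace Groth.Agent.Lib.Helper1.BCMV

open Groth.Agent.Lib.Helper1.BCAbs Groth.Agent.Lib.Helper1.BCFr Groth.Agent.Lib.Helper1.BCPair
  Groth.Agent.Lib.Helper1.BCAff Groth.Agent.Helper13QcqsBC

/-- induction on quasi-compact opens contained in a quasi-separated open -/
theorem rel_induction {X : Scheme.{u}} (U₀ : X.Opens) (hqs : IsQuasiSeparated (U₀ : Set X))
    (P : X.Opens → Prop) (h₁ : ∀ U : X.Opens, IsAffineOpen U → U ≤ U₀ → P U)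
    (h₂ : ∀ U V : X.Opens, U ≤ U₀ → V ≤ U₀ → IsCompact (U : Set X) → IsAffineOpen V →
      P U → P V → P (U ⊓ V) → P (U ⊔ V))
    (U : X.Opens) (hU : IsCompact (U : Set X)) (hUU₀ : U ≤ U₀) : P U := by
  classical
  let P' : X.Opens → Prop := fun W => W ≤ U₀ → P W
  have h₁' : ∀ U : X.Opens, IsAffineOpen U → P' U := fun U hU hle => h₁ U hU hle
  have h₂' : ∀ U V : X.Opens, IsCompact (U : Set X) → IsAffineOpen V → P' U → P' V →
      P' (U ⊓ V) → P' (U ⊔ V) := fun U V hU hV pU pV pI hle =>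
    h₂ U V (le_sup_left.trans hle) (le_sup_right.trans hle) hU hV (pU (le_sup_left.trans hle))
      (pV (le_sup_right.trans hle)) (pI (inf_le_left.trans (le_sup_left.trans hle)))
  have keyA : ∀ V : X.Opens, IsAffineOpen V → ∀ W : X.Opens, IsCompact (W : Set X) → W ≤ V →
      P' W := by
    intro V hV W hW hWV
    obtain ⟨t, ht, rfl⟩ := isCompact_iff_finite_and_eq_biUnion_affineOpens.mp hW
    have hfin : (Subtype.val '' t : Set X.Opens).Finite := ht.image _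
    have := Groth.Agent.S0015.stepA X P' h₁' h₂' V hV hfin.toFinset.card hfin.toFinset le_rfl (by
      intro W' hW'
      rw [Set.Finite.mem_toFinset] at hW'
      obtain ⟨i, hi, rfl⟩ := hW'
      exact ⟨i.2, (le_iSup₂ (f := fun (i : X.affineOpens) (_ : i ∈ t) => (i : X.Opens)) i hi).trans
        hWV⟩)
    convert this using 1
    rw [Finset.sup_eq_iSup]
    simp only [Set.Finite.mem_toFinset, id]
    rw [iSup_image]
  have main : P' U := by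
    refine compact_open_induction_on (P := P') U hU (h₁' ⊥ (isAffineOpen_bot X)) ?_
    intro S hS W hPS hle
    have hSle : S ≤ U₀ := le_sup_left.trans hle
    have hWle : W.1 ≤ U₀ := le_sup_right.trans hle
    have hc : IsCompact ((S ⊓ W.1 : X.Opens) : Set X) :=
      hqs S W.1 hSle S.2 hS hWle W.1.2 W.2.isCompact
    exact h₂ S W.1 hSle hWle hS W.2 (hPS hSle) (h₁ W.1 W.2 hWle)
      (keyA W.1 W.2 (S ⊓ W.1) hc inf_le_right (inf_le_left.trans hSle))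
  exact main hUU₀

section Sch

variable {X S X' S' : Scheme.{u}} (f : X ⟶ S) (g : S' ⟶ S) (g' : X' ⟶ X) (f' : X' ⟶ S')
  (hsq : IsPullback g' f' f g) {V : S.Opens} {V' : S'.Opens} (hVV' : V' ≤ g ⁻¹ᵁ V)

lemma good_frPair_congr [PreservesFiniteLimits (Scheme.Modules.pullback g')]
    {A B : Type u} [CommRing A] [CommRing B] [Algebra A B] (d : BCData g' A B)
    {𝒦 : DCoh.D X → Prop} (q : ℤ) {W : X.Opens} {W₁' W₂' : X'.Opens}
    (e : W₁' = W₂') (hW : W ≤ d.W₀) (hW₁' : W₁' ≤ d.W₀') (hWW₁' : W₁' ≤ g' ⁻¹ᵁ W)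
    (hW₂' : W₂' ≤ d.W₀') (hWW₂' : W₂' ≤ g' ⁻¹ᵁ W)
    (h : Good 𝒦 (dOf q (frPair d hW hW₁' hWW₁'))) : Good 𝒦 (dOf q (frPair d hW hW₂' hWW₂')) := by
  subst e
  exact h

lemma Vp_sup (U₁ U₂ : X.Opens) :
    Vp g' f' V' U₁ ⊔ Vp g' f' V' U₂ = Vp g' f' V' (U₁ ⊔ U₂) := by
  change (g' ⁻¹ᵁ U₁ ⊓ f' ⁻¹ᵁ V') ⊔ (g' ⁻¹ᵁ U₂ ⊓ f' ⁻¹ᵁ V') = g' ⁻¹ᵁ (U₁ ⊔ U₂) ⊓ f' ⁻¹ᵁ V'
  rw [Scheme.Hom.preimage_sup, inf_sup_right]

lemma Vp_inf (U₁ U₂ : X.Opens) :
    Vp g' f' V' U₁ ⊓ Vp g' f' V' U₂ = Vp g' f' V' (U₁ ⊓ U₂) := by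
  change (g' ⁻¹ᵁ U₁ ⊓ f' ⁻¹ᵁ V') ⊓ (g' ⁻¹ᵁ U₂ ⊓ f' ⁻¹ᵁ V') = g' ⁻¹ᵁ (U₁ ⊓ U₂) ⊓ f' ⁻¹ᵁ V'
  rw [Scheme.Hom.preimage_inf]
  exact (inf_inf_distrib_right _ _ _).symm

/-- flat base change for the pairs of free modules on quasi-compact opens of `f⁻¹ V` -/
theorem good_compact [Flat g] [PreservesFiniteLimits (Scheme.Modules.pullback g')]
    (hV : IsAffineOpen V) (hV' : IsAffineOpen V')
    (hqs : IsQuasiSeparated ((f ⁻¹ᵁ V : X.Opens) : Set X)) (q : ℤ)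
    (U : X.Opens) (hUc : IsCompact (U : Set X)) (hU : U ≤ f ⁻¹ᵁ V) :
    Good DCoh.IsQCohD (dOf q (frPair (bcd f g g' f' hsq hVV') hU
      (inf_le_right : Vp g' f' V' U ≤ f' ⁻¹ᵁ V') (inf_le_left : Vp g' f' V' U ≤ g' ⁻¹ᵁ U))) := by
  haveI : Module.Flat Γ(S, V) (BR g hVV') := flat_BR g hVV' hV hV'
  have h𝒦 : ∀ K : DCoh.D X, DCoh.IsQCohD K → DCoh.IsQCohD (K⟦(-1 : ℤ)⟧) :=
    fun K hK => isQCohD_shift' K hK (-1)
  let P : X.Opens → Prop := fun U => ∀ hU : U ≤ f ⁻¹ᵁ V,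
    Good DCoh.IsQCohD (dOf q (frPair (bcd f g g' f' hsq hVV') hU
      (inf_le_right : Vp g' f' V' U ≤ f' ⁻¹ᵁ V') (inf_le_left : Vp g' f' V' U ≤ g' ⁻¹ᵁ U)))
  have main : P U := by
    refine rel_induction (f ⁻¹ᵁ V) hqs P ?_ ?_ U hUc hU
    · intro W hWa hW hW2
      exact good_affine f g g' f' hsq hVV' hV hV' q hW2 hWa inf_le_right inf_le_left rfl
    · intro U₁ U₂ hU₁ hU₂ _ _ p₁ p₂ pI hle
      have gI := good_frPair_congr g' (bcd f g g' f' hsq hVV') q (Vp_inf g' f' U₁ U₂).symm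
        (inf_le_left.trans hU₁) inf_le_right inf_le_left
        (inf_le_left.trans (inf_le_right : Vp g' f' V' U₁ ≤ f' ⁻¹ᵁ V'))
        ((inf_le_inf (inf_le_left : Vp g' f' V' U₁ ≤ g' ⁻¹ᵁ U₁)
          (inf_le_left : Vp g' f' V' U₂ ≤ g' ⁻¹ᵁ U₂)).trans
            (by rw [Scheme.Hom.preimage_inf])) (pI (inf_le_left.trans hU₁))
      have gS := good_sup (bcd f g g' f' hsq hVV') h𝒦 q hU₁ hU₂
        (inf_le_right : Vp g' f' V' U₁ ≤ f' ⁻¹ᵁ V') (inf_le_right : Vp g' f' V' U₂ ≤ f' ⁻¹ᵁ V')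
        (inf_le_left : Vp g' f' V' U₁ ≤ g' ⁻¹ᵁ U₁) (inf_le_left : Vp g' f' V' U₂ ≤ g' ⁻¹ᵁ U₂)
        (p₁ hU₁) (p₂ hU₂) gI
      exact good_frPair_congr g' (bcd f g g' f' hsq hVV') q (Vp_sup g' f' U₁ U₂) _ _ _ _ _ gS
  exact main hU

end Sch

end Groth.Agent.Lib.Helper1.BCMV
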