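import Mathlib
import Groth.Agent.Lib.Helper1BCMV
import Groth.Agent.Lib.Helper1BCFlat
import Groth.Agent.Lib.Helper1DAdj
set_option backward.isDefEq.respectTransparency.types false

/-!
# Derived pullback of the free modules on opens (helper1)
-/

set_option autoImplicit false
set_option linter.style.haveILetI false
set_option linter.unusedSectionVars false
set_option maxHeartbeats 400000

universe u
open CategoryTheory CategoryTheory.Limits AlgebraicGeometry Opposite TopologicalSpace

attribute [local instance] HasDerivedCategory.standard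

namespace Groth.Agent.Lib.Helper1.BCTau

open Groth.Agent.Lib.Helper1.BCAbs Groth.Agent.Lib.Helper1.BCFr Groth.Agent.Lib.Helper1.BCPair
  Groth.Agent.Lib.Helper1.BCAff Groth.Agent.Lib.Helper1.BCFlat Groth.Agent.Lib.Helper1.Sky
  DerivedCategory TensorProduct

attribute [local instance] Groth.Agent.Lib.Helper1.Sky.hasLpull

section OfIso

variable {D : Type*} [Category D] [Preadditive D] {D' : Type*} [Category D'] [Preadditive D']
  {Φ Φ' : D ⥤ D'} [Φ.Additive] [Φ'.Additive]
  {A : Type*} {B : Type*} [CommRing A] [CommRing B] [Algebra A B]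

/-- transport of a pair along an isomorphism of functors -/
def _root_.Groth.Agent.Lib.Helper1.BCAbs.Pair.ofIso (pr : Pair Φ A B) (l : Φ' ≅ Φ) :
    Pair Φ' A B where
  P := pr.P
  P' := pr.P'
  ι := pr.ι ≫ l.inv.app pr.P
  ρ := pr.ρ
  ρ' := pr.ρ'
  comm a := by
    have h := l.inv.naturality (pr.ρ a : pr.P ⟶ pr.P)
    rw [Category.assoc, ← h, ← Category.assoc, pr.comm, Category.assoc]

theorem good_ofIso {𝒦 : D → Prop} (pr : Pair Φ A B) (l : Φ' ≅ Φ) (h : Good 𝒦 pr) :
    Good 𝒦 (pr.ofIso l) := by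
  intro K hK
  let p : HomB pr (Φ.obj K) →ₗ[B] HomB (pr.ofIso l) (Φ'.obj K) := post pr.ρ' (l.inv.app K)
  have hp : Function.Bijective p := post_bijective_of_isIso pr.ρ' (l.inv.app K)
  let c : ActHom (pr.ofIso l).ρ K →ₗ[A] ActHom pr.ρ K :=
    { toFun := fun x => ActHom.mk pr.ρ x.hom
      map_add' := fun _ _ => rfl
      map_smul' := fun _ _ => rfl }
  have hc : Function.Bijective c := ⟨fun x y h => h, fun y => ⟨y, rfl⟩⟩
  have key : ∀ z : B ⊗[A] ActHom (pr.ofIso l).ρ K,
      beta (pr.ofIso l) K z = p (beta pr K (c.lTensor B z)) := by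
    intro z
    induction z using TensorProduct.induction_on with
    | zero => rw [map_zero, map_zero, map_zero, map_zero]
    | add x y hx hy => rw [map_add, map_add, map_add, hx, hy, map_add]
    | tmul b x =>
      rw [beta_tmul, LinearMap.lTensor_tmul, beta_tmul, map_smul]
      congr 1
      apply HomB.ext
      let x₀ : pr.P ⟶ K := x.hom
      change (pr.ι ≫ l.inv.app pr.P) ≫ Φ'.map x₀ = (pr.ι ≫ Φ.map x₀) ≫ l.inv.app K
      have hn := l.inv.naturality x₀
      rw [Category.assoc, Category.assoc, hn]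
  have h1 : (beta (pr.ofIso l) K : _ → _) = p ∘ (beta pr K) ∘ (c.lTensor B) := by
    funext z
    exact key z
  rw [h1]
  exact hp.comp ((h K hK).comp (lTensor_bijective_of_bijective c hc))

end OfIso

section Tau

variable {Y' Y : Scheme.{u}} (h : Y' ⟶ Y)

/-- the comparison `fr U' [-q] ⟶ h^* (fr U [-q])` on complexes -/
noncomputable def ιC (q : ℤ) {U : Y.Opens} {U' : Y'.Opens} (hle : U' ≤ h ⁻¹ᵁ U) :
    (HomologicalComplex.single Y'.Modules (ComplexShape.up ℤ) q).obj (fr U') ⟶
      (pullC h).obj ((HomologicalComplex.single Y.Modules (ComplexShape.up ℤ) q).obj (fr U)) :=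
  (HomologicalComplex.single Y'.Modules (ComplexShape.up ℤ) q).map (ιfr h hle) ≫
    (HomologicalComplex.singleMapHomologicalComplex (Scheme.Modules.pullback h)
      (ComplexShape.up ℤ) q).inv.app (fr U)

lemma ιC_mul (q : ℤ) {U : Y.Opens} {U' : Y'.Opens} (hle : U' ≤ h ⁻¹ᵁ U) (r : Γ(Y, U)) :
    ιC h q hle ≫ (pullC h).map
        ((HomologicalComplex.single Y.Modules (ComplexShape.up ℤ) q).map (mulFr U r)) =
      (HomologicalComplex.single Y'.Modules (ComplexShape.up ℤ) q).map
        (mulFr U' (h.appLE U U' hle r)) ≫ ιC h q hle := by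
  have h1 := (HomologicalComplex.singleMapHomologicalComplex (Scheme.Modules.pullback h)
      (ComplexShape.up ℤ) q).inv.naturality (mulFr U r)
  dsimp only [Functor.comp_map] at h1
  dsimp only [ιC]
  rw [Category.assoc, ← h1, ← Category.assoc, ← Functor.map_comp, ιfr_mulFr, Functor.map_comp,
    Category.assoc]

instance isIso_ιC (q : ℤ) (U : Y.Opens) : IsIso (ιC h q (le_refl (h ⁻¹ᵁ U))) := by
  dsimp only [ιC]
  infer_instance

lemma isIso_lpullNat_single_fr (q : ℤ) (U : Y.Opens) :
    IsIso ((lpullNat h).app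
      ((HomologicalComplex.single Y.Modules (ComplexShape.up ℤ) q).obj (fr U))) :=
  isIso_lpullNat_app h _ (kffs_single_fr q U)

/-- the comparison `fr U' [-q] ⟶ Lh^* (fr U [-q])` in the derived category -/
noncomputable def tau (q : ℤ) {U : Y.Opens} {U' : Y'.Opens} (hle : U' ≤ h ⁻¹ᵁ U) :
    Q.obj ((HomologicalComplex.single Y'.Modules (ComplexShape.up ℤ) q).obj (fr U')) ⟶
      (DCoh.Lpull h).obj
        (Q.obj ((HomologicalComplex.single Y.Modules (ComplexShape.up ℤ) q).obj (fr U))) :=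
  haveI := isIso_lpullNat_single_fr h q U
  Q.map (ιC h q hle) ≫ inv ((lpullNat h).app
    ((HomologicalComplex.single Y.Modules (ComplexShape.up ℤ) q).obj (fr U)))

lemma tau_lpullNat (q : ℤ) {U : Y.Opens} {U' : Y'.Opens} (hle : U' ≤ h ⁻¹ᵁ U) :
    tau h q hle ≫ (lpullNat h).app
      ((HomologicalComplex.single Y.Modules (ComplexShape.up ℤ) q).obj (fr U)) =
      Q.map (ιC h q hle) := by
  haveI := isIso_lpullNat_single_fr h q U
  dsimp only [tau]
  rw [Category.assoc, IsIso.inv_hom_id, Category.comp_id]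

instance isIso_tau (q : ℤ) (U : Y.Opens) : IsIso (tau h q (le_refl (h ⁻¹ᵁ U))) := by
  haveI := isIso_lpullNat_single_fr h q U
  dsimp only [tau]
  infer_instance

lemma tau_mul (q : ℤ) {U : Y.Opens} {U' : Y'.Opens} (hle : U' ≤ h ⁻¹ᵁ U) (r : Γ(Y, U)) :
    tau h q hle ≫ (DCoh.Lpull h).map
        (Q.map ((HomologicalComplex.single Y.Modules (ComplexShape.up ℤ) q).map (mulFr U r))) =
      Q.map ((HomologicalComplex.single Y'.Modules (ComplexShape.up ℤ) q).map
        (mulFr U' (h.appLE U U' hle r))) ≫ tau h q hle := by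
  haveI := isIso_lpullNat_single_fr h q U
  have nat := (lpullNat h).naturality
    ((HomologicalComplex.single Y.Modules (ComplexShape.up ℤ) q).map (mulFr U r))
  dsimp only [Functor.comp_map] at nat
  rw [← cancel_mono ((lpullNat h).app
    ((HomologicalComplex.single Y.Modules (ComplexShape.up ℤ) q).obj (fr U))), Category.assoc,
    nat, ← Category.assoc, tau_lpullNat, Category.assoc, tau_lpullNat, ← Functor.map_comp,
    ← Functor.map_comp, ιC_mul]

end Tau

section Add

variable {Y' Y : Scheme.{u}} (h : Y' ⟶ Y)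

attribute [local instance] Groth.Agent.Lib.Helper17.QCPush.hasRpush

attribute [local instance] preservesBinaryBiproducts_of_preservesBinaryCoproducts in
instance additive_lpull : (DCoh.Lpull h).Additive :=
  haveI : (DCoh.Lpull h).IsLeftAdjoint :=
    (Groth.Agent.Lib.Helper1.DAdj.lpullRpushAdj h).isLeftAdjoint
  Functor.additive_of_preservesBinaryBiproducts _

end Add

section Lam

variable {Y' Y : Scheme.{u}} (h : Y' ⟶ Y) [PreservesFiniteLimits (Scheme.Modules.pullback h)]

lemma isIso_lpullNat_app_of_exact (K : CochainComplex Y.Modules ℤ) :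
    IsIso ((lpullNat h).app K) := by
  haveI := isIso_lpullCounit_app_of_exact h K
  dsimp only [lpullNat]
  simp only [NatTrans.comp_app, Functor.whiskerRight_app, Functor.whiskerLeft_app]
  infer_instance

instance isIso_lpullNat_of_exact : IsIso (lpullNat h) :=
  haveI : ∀ K, IsIso ((lpullNat h).app K) := fun K => isIso_lpullNat_app_of_exact h K
  NatIso.isIso_of_isIso_app _

/-- for `h` with exact pullback, `Lh^*` is the functor induced by `h^*` -/
noncomputable def lamIso : DCoh.Lpull h ≅ (Scheme.Modules.pullback h).mapDerivedCategory :=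
  Localization.liftNatIso Q (HomologicalComplex.quasiIso Y.Modules (ComplexShape.up ℤ))
    (Q ⋙ DCoh.Lpull h) (Q ⋙ (Scheme.Modules.pullback h).mapDerivedCategory) _ _
    (asIso (lpullNat h) ≪≫ (Scheme.Modules.pullback h).mapDerivedCategoryFactors.symm)

lemma lamIso_hom_app (K : CochainComplex Y.Modules ℤ) :
    (lamIso h).hom.app (Q.obj K) = (lpullNat h).app K ≫
      (Scheme.Modules.pullback h).mapDerivedCategoryFactors.inv.app K := by
  have := Localization.liftNatTrans_app Q (HomologicalComplex.quasiIso Y.Modules (ComplexShape.up ℤ))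
    (Q ⋙ DCoh.Lpull h) (Q ⋙ (Scheme.Modules.pullback h).mapDerivedCategory) (DCoh.Lpull h)
    (Scheme.Modules.pullback h).mapDerivedCategory
    (asIso (lpullNat h) ≪≫ (Scheme.Modules.pullback h).mapDerivedCategoryFactors.symm).hom K
  refine this.trans ?_
  simp

lemma lamIso_inv_app (K : CochainComplex Y.Modules ℤ) :
    (lamIso h).inv.app (Q.obj K) =
      (Scheme.Modules.pullback h).mapDerivedCategoryFactors.hom.app K ≫
        inv ((lpullNat h).app K) := by
  rw [← cancel_epi ((lamIso h).hom.app (Q.obj K)), Iso.hom_inv_id_app, lamIso_hom_app,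
    Category.assoc, Iso.inv_hom_id_app_assoc, IsIso.hom_inv_id]

variable {A B : Type u} [CommRing A] [CommRing B] [Algebra A B] (d : BCData h A B)

/-- the pair of free modules for the derived pullback -/
noncomputable def lPair (q : ℤ) {W : Y.Opens} {W' : Y'.Opens} (hW : W ≤ d.W₀) (hW' : W' ≤ d.W₀')
    (hWW' : W' ≤ h ⁻¹ᵁ W) : Pair (DCoh.Lpull h) A B :=
  (dOf q (frPair d hW hW' hWW')).ofIso (lamIso h)

lemma lPair_ι (q : ℤ) {W : Y.Opens} {W' : Y'.Opens} (hW : W ≤ d.W₀) (hW' : W' ≤ d.W₀')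
    (hWW' : W' ≤ h ⁻¹ᵁ W) : (lPair h d q hW hW' hWW').ι = tau h q hWW' := by
  haveI := isIso_lpullNat_single_fr h q W
  have hι : (dOf q (frPair d hW hW' hWW')).ι =
      Q.map ((HomologicalComplex.single Y'.Modules (ComplexShape.up ℤ) q).map (ιfr h hWW')) ≫
        (thetaIso (Scheme.Modules.pullback h) q (fr W)).hom := dOf_ι _ q _
  change (dOf q (frPair d hW hW' hWW')).ι ≫ ((lamIso h).app
    (Q.obj ((HomologicalComplex.single Y.Modules (ComplexShape.up ℤ) q).obj (fr W)))).inv = _
  rw [Iso.comp_inv_eq]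
  change _ = tau h q hWW' ≫ (lamIso h).hom.app
    (Q.obj ((HomologicalComplex.single Y.Modules (ComplexShape.up ℤ) q).obj (fr W)))
  rw [lamIso_hom_app, ← Category.assoc, tau_lpullNat, hι, thetaIso_hom]
  dsimp only [ιC]
  rw [Functor.map_comp, Category.assoc]

lemma lPair_ρ (q : ℤ) {W : Y.Opens} {W' : Y'.Opens} (hW : W ≤ d.W₀) (hW' : W' ≤ d.W₀')
    (hWW' : W' ≤ h ⁻¹ᵁ W) (a : A) :
    ((lPair h d q hW hW' hWW').ρ a : (lPair h d q hW hW' hWW').P ⟶ (lPair h d q hW hW' hWW').P) =
      Q.map ((HomologicalComplex.single Y.Modules (ComplexShape.up ℤ) q).map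
        (mulFr W (actA d hW a))) := rfl

lemma lPair_ρ' (q : ℤ) {W : Y.Opens} {W' : Y'.Opens} (hW : W ≤ d.W₀) (hW' : W' ≤ d.W₀')
    (hWW' : W' ≤ h ⁻¹ᵁ W) (b : B) :
    ((lPair h d q hW hW' hWW').ρ' b :
        (lPair h d q hW hW' hWW').P' ⟶ (lPair h d q hW hW' hWW').P') =
      Q.map ((HomologicalComplex.single Y'.Modules (ComplexShape.up ℤ) q).map
        (mulFr W' (actB d hW' b))) := rfl

theorem good_lPair {𝒦 : DCoh.D Y → Prop} (q : ℤ) {W : Y.Opens} {W' : Y'.Opens} (hW : W ≤ d.W₀)
    (hW' : W' ≤ d.W₀') (hWW' : W' ≤ h ⁻¹ᵁ W) (hg : Good 𝒦 (dOf q (frPair d hW hW' hWW'))) :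
    Good 𝒦 (lPair h d q hW hW' hWW') :=
  good_ofIso _ _ hg

end Lam

end Groth.Agent.Lib.Helper1.BCTau
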