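import Mathlib
import Groth.Agent.Lib.Helper1BCTau
set_option backward.isDefEq.respectTransparency.types false

/-!
# The base change isomorphism for derived pullbacks (helper1)
-/

set_option autoImplicit false
set_option linter.style.haveILetI false
set_option linter.unusedSectionVars false
set_option maxHeartbeats 400000

universe u
open CategoryTheory CategoryTheory.Limits AlgebraicGeometry Opposite TopologicalSpace

attribute [local instance] HasDerivedCategory.standard

namespace Groth.Agent.Lib.Helper1.BCEps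

open Groth.Agent.Lib.Helper1.BCFr Groth.Agent.Lib.Helper1.BCFlat Groth.Agent.Lib.Helper1.Sky
  Groth.Agent.Lib.Helper1.BCTau Groth.Agent.Lib.Helper1.CI DerivedCategory

attribute [local instance] Groth.Agent.Lib.Helper1.Sky.hasLpull

section Comp

variable {X Y Z : Scheme.{u}} (a : Y ⟶ Z) (b : X ⟶ Y)

/-- the counit of the composite of two derived pullbacks -/
noncomputable def cc : Q ⋙ (DCoh.Lpull a ⋙ DCoh.Lpull b) ⟶ (pullC a ⋙ pullC b) ⋙ Q :=
  (Functor.associator Q (DCoh.Lpull a) (DCoh.Lpull b)).inv ≫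
    Functor.whiskerRight (lpullNat a) (DCoh.Lpull b) ≫
    (Functor.associator (pullC a) Q (DCoh.Lpull b)).hom ≫
    Functor.whiskerLeft (pullC a) (lpullNat b) ≫
    (Functor.associator (pullC a) (pullC b) Q).inv

lemma cc_app (C : CochainComplex Z.Modules ℤ) :
    (cc a b).app C =
      (DCoh.Lpull b).map ((lpullNat a).app C) ≫ (lpullNat b).app ((pullC a).obj C) := by
  dsimp only [cc]
  simp only [NatTrans.comp_app, Functor.associator_inv_app, Functor.associator_hom_app,
    Functor.whiskerRight_app, Functor.whiskerLeft_app, Category.id_comp, Category.comp_id]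

instance isLeftDerivedFunctor_cc :
    (DCoh.Lpull a ⋙ DCoh.Lpull b).IsLeftDerivedFunctor (cc a b)
      (HomologicalComplex.quasiIso Z.Modules (ComplexShape.up ℤ)) := by
  obtain ⟨R, ψ, h⟩ : ∃ (R : CochainComplex Z.Modules ℤ ⥤ CochainComplex Z.Modules ℤ)
      (ψ : R ⟶ 𝟭 (CochainComplex Z.Modules ℤ)),
      ∀ G : CochainComplex Z.Modules ℤ, PKFF a (R.obj G) ∧ QuasiIso (ψ.app G) :=
    exists_functorial_pkff_resolution a
  exact isLeftDerivedFunctor_of_isIso_app
    (HomologicalComplex.quasiIso Z.Modules (ComplexShape.up ℤ)) Q ((pullC a ⋙ pullC b) ⋙ Q)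
    (fun K : CochainComplex Z.Modules ℤ => PKFF a K) R ψ (fun G => (h G).1) (fun G => (h G).2)
    (fun {E E'} q hE hE' hq => by
      have : QuasiIso q := hq
      have h1 : QuasiIso ((pullC a).map q) := quasiIso_pullC_map a q hE.1 hE'.1
      have h2 : QuasiIso ((pullC b).map ((pullC a).map q)) := quasiIso_pullC_map b _ hE.2 hE'.2
      change IsIso (Q.map ((pullC b).map ((pullC a).map q)))
      rw [DerivedCategory.isIso_Q_map_iff_quasiIso]
      exact h2)
    (DCoh.Lpull a ⋙ DCoh.Lpull b) (cc a b)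
    (fun K hK => by
      haveI := isIso_lpullNat_app a K hK.1
      haveI := isIso_lpullNat_app b _ hK.2
      rw [cc_app]
      infer_instance)

lemma tau_comp (q : ℤ) {UZ : Z.Opens} {UY : Y.Opens} {UX : X.Opens} (h₁ : UY ≤ a ⁻¹ᵁ UZ)
    (h₂ : UX ≤ b ⁻¹ᵁ UY) :
    tau b q h₂ ≫ (DCoh.Lpull b).map (tau a q h₁) ≫
        (cc a b).app ((HomologicalComplex.single Z.Modules (ComplexShape.up ℤ) q).obj (fr UZ)) =
      Q.map (ιC b q h₂ ≫ (pullC b).map (ιC a q h₁)) := by
  have nat := (lpullNat b).naturality (ιC a q h₁)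
  dsimp only [Functor.comp_map] at nat
  rw [cc_app, ← Category.assoc ((DCoh.Lpull b).map _), ← Functor.map_comp, tau_lpullNat, nat,
    ← Category.assoc, tau_lpullNat, ← Functor.map_comp]

end Comp

section Square

variable {X S X' S' : Scheme.{u}} (f : X ⟶ S) (g : S' ⟶ S) (g' : X' ⟶ X) (f' : X' ⟶ S')
  (w : g' ≫ f = f' ≫ g)

/-- the base change isomorphism on complexes -/
noncomputable def κC : pullC g ⋙ pullC f' ≅ pullC f ⋙ pullC g' :=
  NatIso.ofComponents (fun K => HomologicalComplex.Hom.isoOfComponents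
      (fun i => (κ f g g' f' w).app (K.X i))
      (fun i j _ => by
        dsimp
        exact ((κ f g g' f' w).hom.naturality (K.d i j)).symm))
    (fun {K K'} φ => by
      apply HomologicalComplex.hom_ext
      intro i
      dsimp
      exact ((κ f g g' f' w).hom.naturality (φ.f i)))

lemma κC_hom_app_f (K : CochainComplex S.Modules ℤ) (i : ℤ) :
    ((κC f g g' f' w).hom.app K).f i = (κ f g g' f' w).hom.app (K.X i) := rfl

/-- the base change isomorphism `Lf'^* Lg^* ≅ Lg'^* Lf^*` -/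
noncomputable def epsIso : DCoh.Lpull g ⋙ DCoh.Lpull f' ≅ DCoh.Lpull f ⋙ DCoh.Lpull g' :=
  Functor.leftDerivedNatIso _ _ (cc g f') (cc f g')
    (HomologicalComplex.quasiIso S.Modules (ComplexShape.up ℤ))
    (Functor.isoWhiskerRight (κC f g g' f' w) Q)

lemma epsIso_fac (C : CochainComplex S.Modules ℤ) :
    (epsIso f g g' f' w).hom.app (Q.obj C) ≫ (cc f g').app C =
      (cc g f').app C ≫ Q.map ((κC f g g' f' w).hom.app C) := by
  have := Functor.leftDerivedNatTrans_app (DCoh.Lpull g ⋙ DCoh.Lpull f')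
    (DCoh.Lpull f ⋙ DCoh.Lpull g') (cc g f') (cc f g')
    (HomologicalComplex.quasiIso S.Modules (ComplexShape.up ℤ))
    (Functor.isoWhiskerRight (κC f g g' f' w) Q).hom C
  exact this

lemma ιC_f {Y' Y : Scheme.{u}} (h : Y' ⟶ Y) (q : ℤ) {U : Y.Opens} {U' : Y'.Opens}
    (hle : U' ≤ h ⁻¹ᵁ U) :
    (ιC h q hle).f q =
      (HomologicalComplex.singleObjXSelf (ComplexShape.up ℤ) q (fr U')).hom ≫ ιfr h hle ≫
        (Scheme.Modules.pullback h).map
          (HomologicalComplex.singleObjXSelf (ComplexShape.up ℤ) q (fr U)).inv := by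
  have e_a := HomologicalComplex.single_map_f_self (c := ComplexShape.up ℤ) q (ιfr h hle)
  have e_b := HomologicalComplex.singleMapHomologicalComplex_inv_app_self
    (Scheme.Modules.pullback h) (ComplexShape.up ℤ) q (fr U)
  refine (congrArg₂ (fun (a : ((HomologicalComplex.single Y'.Modules (ComplexShape.up ℤ) q).obj
        (fr U')).X q ⟶ ((HomologicalComplex.single Y'.Modules (ComplexShape.up ℤ) q).obj
          ((Scheme.Modules.pullback h).obj (fr U))).X q)
      (b : ((HomologicalComplex.single Y'.Modules (ComplexShape.up ℤ) q).obj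
          ((Scheme.Modules.pullback h).obj (fr U))).X q ⟶ (Scheme.Modules.pullback h).obj
        (((HomologicalComplex.single Y.Modules (ComplexShape.up ℤ) q).obj (fr U)).X q)) =>
      a ≫ b) e_a e_b).trans ?_
  simp only [Category.assoc, Iso.inv_hom_id_assoc]

lemma square_aux {𝒜 ℬ 𝒞 𝒟 : Type*} [Category 𝒜] [Category ℬ] [Category 𝒞] [Category 𝒟]
    (G : 𝒜 ⥤ ℬ) (F' : ℬ ⥤ 𝒟) (F : 𝒜 ⥤ 𝒞) (G' : 𝒞 ⥤ 𝒟) (κ : G ⋙ F' ⟶ F ⋙ G')
    {T₁ P₁ : 𝒟} {P₂ T₂ : ℬ} {P₃ T₃ : 𝒜} {P₄ T₄ : 𝒞}
    (e₁ : T₁ ≅ P₁) (e₂ : T₂ ≅ P₂) (e₃ : T₃ ≅ P₃) (e₄ : T₄ ≅ P₄)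
    (i₁ : P₁ ⟶ F'.obj P₂) (i₂ : P₂ ⟶ G.obj P₃) (i₃ : P₁ ⟶ G'.obj P₄) (i₄ : P₄ ⟶ F.obj P₃)
    (sq : i₁ ≫ F'.map i₂ ≫ κ.app P₃ = i₃ ≫ G'.map i₄) :
    (e₁.hom ≫ i₁ ≫ F'.map e₂.inv) ≫ F'.map (e₂.hom ≫ i₂ ≫ G.map e₃.inv) ≫ κ.app T₃ =
      (e₁.hom ≫ i₃ ≫ G'.map e₄.inv) ≫ G'.map (e₄.hom ≫ i₄ ≫ F.map e₃.inv) := by
  have nat := κ.naturality e₃.inv
  dsimp only [Functor.comp_map] at nat
  simp only [Category.assoc, Functor.map_comp, Iso.map_inv_hom_id_assoc]
  rw [nat, reassoc_of% sq]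

lemma ιC_square (q : ℤ) {V : S.Opens} {V' : S'.Opens} {U : X.Opens} {U' : X'.Opens}
    (hV : V' ≤ g ⁻¹ᵁ V) (hU : U ≤ f ⁻¹ᵁ V) (hU'V' : U' ≤ f' ⁻¹ᵁ V') (hU'U : U' ≤ g' ⁻¹ᵁ U) :
    ιC f' q hU'V' ≫ (pullC f').map (ιC g q hV) ≫
        (κC f g g' f' w).hom.app
          ((HomologicalComplex.single S.Modules (ComplexShape.up ℤ) q).obj (fr V)) =
      ιC g' q hU'U ≫ (pullC g').map (ιC f q hU) := by
  apply HomologicalComplex.from_single_hom_ext
  have e1 := ιC_f f' q hU'V'
  have e2 := ιC_f g q hV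
  have e3 := ιC_f g' q hU'U
  have e4 := ιC_f f q hU
  have key := square_aux (Scheme.Modules.pullback g) (Scheme.Modules.pullback f')
    (Scheme.Modules.pullback f) (Scheme.Modules.pullback g') (κ f g g' f' w).hom
    (HomologicalComplex.singleObjXSelf (ComplexShape.up ℤ) q (fr U'))
    (HomologicalComplex.singleObjXSelf (ComplexShape.up ℤ) q (fr V'))
    (HomologicalComplex.singleObjXSelf (ComplexShape.up ℤ) q (fr V))
    (HomologicalComplex.singleObjXSelf (ComplexShape.up ℤ) q (fr U))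
    (ιfr f' hU'V') (ιfr g hV) (ιfr g' hU'U) (ιfr f hU) (ιfr_square f g g' f' w hV hU hU'V' hU'U)
  refine Eq.trans ?_ (key.trans ?_)
  · exact congrArg₂ (fun (a : ((HomologicalComplex.single X'.Modules (ComplexShape.up ℤ) q).obj
        (fr U')).X q ⟶ (Scheme.Modules.pullback f').obj
          (((HomologicalComplex.single S'.Modules (ComplexShape.up ℤ) q).obj (fr V')).X q))
      (b : ((HomologicalComplex.single S'.Modules (ComplexShape.up ℤ) q).obj (fr V')).X q ⟶
        (Scheme.Modules.pullback g).obj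
          (((HomologicalComplex.single S.Modules (ComplexShape.up ℤ) q).obj (fr V)).X q)) =>
      a ≫ (Scheme.Modules.pullback f').map b ≫ (κ f g g' f' w).hom.app
        (((HomologicalComplex.single S.Modules (ComplexShape.up ℤ) q).obj (fr V)).X q)) e1 e2
  · exact (congrArg₂ (fun (a : ((HomologicalComplex.single X'.Modules (ComplexShape.up ℤ) q).obj
        (fr U')).X q ⟶ (Scheme.Modules.pullback g').obj
          (((HomologicalComplex.single X.Modules (ComplexShape.up ℤ) q).obj (fr U)).X q))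
      (b : ((HomologicalComplex.single X.Modules (ComplexShape.up ℤ) q).obj (fr U)).X q ⟶
        (Scheme.Modules.pullback f).obj
          (((HomologicalComplex.single S.Modules (ComplexShape.up ℤ) q).obj (fr V)).X q)) =>
      a ≫ (Scheme.Modules.pullback g').map b) e3 e4).symm

/-- compatibility of the base change isomorphism with the comparison maps of free modules -/
theorem tau_square [PreservesFiniteLimits (Scheme.Modules.pullback g')] (q : ℤ) {V : S.Opens}
    {V' : S'.Opens} {U : X.Opens} {U' : X'.Opens}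
    (hV : V' ≤ g ⁻¹ᵁ V) (hU : U ≤ f ⁻¹ᵁ V) (hU'V' : U' ≤ f' ⁻¹ᵁ V') (hU'U : U' ≤ g' ⁻¹ᵁ U) :
    tau f' q hU'V' ≫ (DCoh.Lpull f').map (tau g q hV) ≫
        (epsIso f g g' f' w).hom.app
          (Q.obj ((HomologicalComplex.single S.Modules (ComplexShape.up ℤ) q).obj (fr V))) =
      tau g' q hU'U ≫ (DCoh.Lpull g').map (tau f q hU) := by
  let C₀ : CochainComplex S.Modules ℤ :=
    (HomologicalComplex.single S.Modules (ComplexShape.up ℤ) q).obj (fr V)
  haveI : IsIso ((cc f g').app C₀) := by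
    rw [cc_app]
    haveI := isIso_lpullNat_single_fr f q V
    haveI := isIso_lpullNat_app_of_exact g' ((pullC f).obj C₀)
    infer_instance
  have h1 := tau_comp g f' q hV hU'V'
  have h2 := tau_comp f g' q hU hU'U
  have h3 := epsIso_fac f g g' f' w C₀
  have h4 := ιC_square f g g' f' w q hV hU hU'V' hU'U
  rw [← cancel_mono ((cc f g').app C₀)]
  calc (tau f' q hU'V' ≫ (DCoh.Lpull f').map (tau g q hV) ≫
          (epsIso f g g' f' w).hom.app (Q.obj C₀)) ≫ (cc f g').app C₀
      = (tau f' q hU'V' ≫ (DCoh.Lpull f').map (tau g q hV) ≫ (cc g f').app C₀) ≫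
          Q.map ((κC f g g' f' w).hom.app C₀) := by
        simp only [Category.assoc]
        rw [h3]
    _ = Q.map (ιC f' q hU'V' ≫ (pullC f').map (ιC g q hV)) ≫
          Q.map ((κC f g g' f' w).hom.app C₀) := by rw [h1]
    _ = Q.map (ιC g' q hU'U ≫ (pullC g').map (ιC f q hU)) := by
        rw [← Q.map_comp, Category.assoc, h4]
    _ = (tau g' q hU'U ≫ (DCoh.Lpull g').map (tau f q hU)) ≫ (cc f g').app C₀ := by
        rw [Category.assoc, h2]

end Square

end Groth.Agent.Lib.Helper1.BCEps
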