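import Mathlib
import Groth.Agent.Lib.Helper1KBC2
import Groth.Agent.Lib.Helper1Sky3
import Groth.Agent.Lib.Helper16KInjAdj
set_option backward.isDefEq.respectTransparency.types false

/-!
# Pullback of `O`-modules along a flat morphism of schemes is exact (helper1)

* `exact_of_forall_exact_stalk`, `mono_of_forall_mono_stalk`: stalks detect exactness / monos
* `preservesFiniteLimits_pullback_of_flat`: `f^*` is exact for flat `f`
* `isKInjective_pushforward_of_flat`: `f_*` preserves K-injective complexes for flat `f`
-/

set_option autoImplicit false
set_option linter.style.haveILetI false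
universe u
open CategoryTheory CategoryTheory.Limits AlgebraicGeometry HomologicalComplex

namespace Groth.Agent.Lib.Helper1.FlatPull

open Groth.Agent.Lib.Helper1.KBC Groth.Agent.Lib.Helper1.Sky Groth.Agent.Lib.Helper1.StalkTensor

variable {X Y : Scheme.{u}}

/-- stalks detect exactness of short complexes -/
lemma exact_of_forall_exact_stalk (S : ShortComplex X.Modules)
    (h : ∀ x : X, (S.map (stalkFun x)).Exact) : S.Exact := by
  rw [ShortComplex.exact_iff_isZero_homology]
  apply isZero_of_forall_isZero_stalk
  intro y
  have h1 := (ShortComplex.exact_iff_isZero_homology _).1 (h y)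
  exact IsZero.of_iso h1 (S.mapHomologyIso (stalkFun y)).symm

/-- stalks detect monomorphisms -/
lemma mono_of_forall_mono_stalk {M N : X.Modules} (φ : M ⟶ N)
    (h : ∀ x : X, Mono ((stalkFun x).map φ)) : Mono φ := by
  have hS : (ShortComplex.mk (0 : M ⟶ M) φ zero_comp).Exact := by
    apply exact_of_forall_exact_stalk
    intro x
    have : Mono ((ShortComplex.mk (0 : M ⟶ M) φ zero_comp).map (stalkFun x)).g := h x
    exact (ShortComplex.exact_iff_mono _ ((stalkFun x).map_zero _ _)).2 this
  exact (ShortComplex.exact_iff_mono _ rfl).1 hS

variable (f : X ⟶ Y)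

instance preservesFiniteColimits_pullback : PreservesFiniteColimits (Scheme.Modules.pullback f) := by
  haveI : PreservesColimitsOfSize.{0, 0} (Scheme.Modules.pullback f) :=
    (Scheme.Modules.pullbackPushforwardAdjunction f).leftAdjoint_preservesColimits
  exact ⟨fun _ _ _ => inferInstance⟩

/-- for flat `f` the functor `stalk at f x` followed by extension of scalars is exact -/
lemma preservesFiniteLimits_stalk_extend [Flat f] (x : X) :
    PreservesFiniteLimits
      (stalkFun (f x) ⋙ ModuleCat.extendScalars.{u, u, u} (f.stalkMap x).hom) := by
  haveI : PreservesFiniteLimits (ModuleCat.extendScalars.{u, u, u} (f.stalkMap x).hom) :=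
    ModuleCat.preservesFiniteLimits_extendScalars_of_flat (Flat.stalkMap f x)
  infer_instance

/-- the pullback along a flat morphism is exact -/
theorem preservesFiniteLimits_pullback_of_flat [Flat f] :
    PreservesFiniteLimits (Scheme.Modules.pullback f) := by
  refine ((Scheme.Modules.pullback f).preservesFiniteLimits_tfae.out 0 3).1 ?_
  intro S hS
  have key : ∀ x : X, PreservesFiniteLimits (Scheme.Modules.pullback f ⋙ stalkFun x) := by
    intro x
    haveI := preservesFiniteLimits_stalk_extend f x
    exact preservesFiniteLimits_of_natIso (stalkPullbackIso f x).symm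
  have hmono : Mono S.f := hS.mono_f
  refine ⟨?_, ?_⟩
  · apply exact_of_forall_exact_stalk
    intro x
    haveI := key x
    haveI : PreservesFiniteColimits (Scheme.Modules.pullback f ⋙ stalkFun x) := inferInstance
    haveI : (Scheme.Modules.pullback f ⋙ stalkFun x).PreservesHomology := inferInstance
    exact hS.exact.map (Scheme.Modules.pullback f ⋙ stalkFun x)
  · apply mono_of_forall_mono_stalk
    intro x
    haveI := key x
    have : Mono ((Scheme.Modules.pullback f ⋙ stalkFun x).map S.f) := inferInstance
    exact this

/-- the direct image along a flat morphism preserves K-injective complexes -/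
theorem isKInjective_pushforward_of_flat [Flat f] (I : CochainComplex X.Modules ℤ)
    [I.IsKInjective] :
    CochainComplex.IsKInjective
      (((Scheme.Modules.pushforward f).mapHomologicalComplex (ComplexShape.up ℤ)).obj I) := by
  haveI := preservesFiniteLimits_pullback_of_flat f
  haveI : (Scheme.Modules.pullback f).PreservesHomology := inferInstance
  exact Groth.Agent.Lib.Helper16.KInjAdj.isKInjective_map
    (Scheme.Modules.pullbackPushforwardAdjunction f) I

end Groth.Agent.Lib.Helper1.FlatPull
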