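import Mathlib
import Groth.Agent.Lib.Helper1BCEps
import Groth.Agent.Lib.Helper17AffPush7
import Groth.Agent.Lib.Helper1FlatPull
set_option backward.isDefEq.respectTransparency.types false

/-!
# Flat base change for derived direct images (helper1)
-/

set_option autoImplicit false
set_option linter.style.haveILetI false
set_option linter.unusedSectionVars false
set_option maxHeartbeats 1000000

universe u
open CategoryTheory CategoryTheory.Limits AlgebraicGeometry Opposite TopologicalSpace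

attribute [local instance] HasDerivedCategory.standard

namespace Groth.Agent.Lib.Helper1.BCMain

section Mate

variable {DS DX DS' DX' : Type*} [Category DS] [Category DX] [Category DS'] [Category DX']
  {Lf : DS ⥤ DX} {Rf : DX ⥤ DS} (af : Lf ⊣ Rf)
  {Lf' : DS' ⥤ DX'} {Rf' : DX' ⥤ DS'} (af' : Lf' ⊣ Rf')
  {Gg : DS ⥤ DS'} {Rg : DS' ⥤ DS} (ag : Gg ⊣ Rg)
  {Gg' : DX ⥤ DX'} {Rg' : DX' ⥤ DX} (ag' : Gg' ⊣ Rg')
  (ε : Gg ⋙ Lf' ≅ Lf ⋙ Gg')

/-- the isomorphism of right adjoints conjugate to an isomorphism of left adjoints -/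
noncomputable def eIso : Rg' ⋙ Rf ≅ Rf' ⋙ Rg :=
  conjugateIsoEquiv (af.comp ag') (ag.comp af') ε

/-- the two descriptions of the base change morphism agree -/
lemma bc_transpose (K : DX) :
    Lf'.map ((ag.homEquiv _ _).symm (Rf.map (ag'.unit.app K) ≫
        (eIso af af' ag ag' ε).hom.app (Gg'.obj K))) ≫ af'.counit.app (Gg'.obj K) =
      ε.hom.app (Rf.obj K) ≫ Gg'.map (af.counit.app K) := by
  have h1 := conjugateEquiv_counit (af.comp ag') (ag.comp af') ε.hom (Gg'.obj K)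
  rw [Adjunction.comp_counit_app, Adjunction.comp_counit_app] at h1
  have h2 := ε.hom.naturality (Rf.map (ag'.unit.app K))
  have h3 := af.counit.naturality (ag'.unit.app K)
  have h4 := ag'.left_triangle_components K
  dsimp only [Functor.comp_map, Functor.comp_obj, Functor.id_obj, Functor.id_map] at h1 h2 h3
  rw [Adjunction.homEquiv_counit]
  simp only [Functor.map_comp, Category.assoc]
  change Lf'.map (Gg.map (Rf.map (ag'.unit.app K))) ≫
    Lf'.map (Gg.map ((conjugateEquiv (af.comp ag') (ag.comp af') ε.hom).app (Gg'.obj K))) ≫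
      Lf'.map (ag.counit.app (Rf'.obj (Gg'.obj K))) ≫ af'.counit.app (Gg'.obj K) = _
  rw [h1, ← Category.assoc, h2, Category.assoc, ← Category.assoc (Gg'.map (Lf.map _)),
    ← Gg'.map_comp, h3, Gg'.map_comp, Category.assoc, h4, Category.comp_id]

end Mate

open Groth.Agent.Lib.Helper1.BCAbs Groth.Agent.Lib.Helper1.BCFr Groth.Agent.Lib.Helper1.BCPair
  Groth.Agent.Lib.Helper1.BCAff Groth.Agent.Lib.Helper1.BCMV Groth.Agent.Lib.Helper1.BCFlat
  Groth.Agent.Lib.Helper1.BCTau Groth.Agent.Lib.Helper1.BCEps Groth.Agent.Lib.Helper1.Sky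
  Groth.Agent.Lib.Helper1.DAdj Groth.Agent.Helper13QcqsBC DerivedCategory TensorProduct

attribute [local instance] Groth.Agent.Lib.Helper1.Sky.hasLpull
attribute [local instance] Groth.Agent.Lib.Helper17.QCPush.hasRpush

section Main

variable {X S X' S' : Scheme.{u}} (f : X ⟶ S) (g : S' ⟶ S) (g' : X' ⟶ X) (f' : X' ⟶ S')
  (hsq : IsPullback g' f' f g)

lemma appLE_actA {V : S.Opens} {V' : S'.Opens} (hVV' : V' ≤ g ⁻¹ᵁ V) (a : Γ(S, V)) :
    f.appLE V (f ⁻¹ᵁ V) le_rfl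
        (actA (bcd (𝟙 S) g g (𝟙 S') (IsPullback.id_vert g) hVV') (le_refl V) a) =
      actA (bcd f g g' f' hsq hVV') (le_refl (f ⁻¹ᵁ V)) a := by
  change f.appLE V (f ⁻¹ᵁ V) le_rfl (S.presheaf.map (homOfLE (le_refl V)).op ((𝟙 S :).app V a)) =
    X.presheaf.map (homOfLE (le_refl (f ⁻¹ᵁ V))).op (f.app V a)
  simp [Scheme.Hom.appLE]
  rfl

lemma appLE_actB {V : S.Opens} {V' : S'.Opens} (hVV' : V' ≤ g ⁻¹ᵁ V) (b : BR g hVV') :
    f'.appLE V' (f' ⁻¹ᵁ V') le_rfl
        (actB (bcd (𝟙 S) g g (𝟙 S') (IsPullback.id_vert g) hVV') (le_refl V') b) =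
      actB (bcd f g g' f' hsq hVV') (le_refl (f' ⁻¹ᵁ V')) b := by
  change f'.appLE V' (f' ⁻¹ᵁ V') le_rfl
      (S'.presheaf.map (homOfLE (le_refl V')).op ((𝟙 S' :).app V' b)) =
    X'.presheaf.map (homOfLE (le_refl (f' ⁻¹ᵁ V'))).op (f'.app V' b)
  simp [Scheme.Hom.appLE]
  rfl

/-- the base change morphism induces bijections on morphisms from the free modules on affine opens -/
theorem bijective_comp_bc [QuasiCompact f] [QuasiSeparated f] [Flat g]
    [PreservesFiniteLimits (Scheme.Modules.pullback g)]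
    [PreservesFiniteLimits (Scheme.Modules.pullback g')]
    (adjg : DCoh.Lpull g ⊣ DCoh.Rpush g) (adjg' : DCoh.Lpull g' ⊣ DCoh.Rpush g')
    {V : S.Opens} {V' : S'.Opens} (hVV' : V' ≤ g ⁻¹ᵁ V) (hV : IsAffineOpen V)
    (hV' : IsAffineOpen V') (q : ℤ) (K : DCoh.D X) (hK : DCoh.IsQCohD K) :
    Function.Bijective
      (fun y : Q.obj ((HomologicalComplex.single S'.Modules (ComplexShape.up ℤ) q).obj (fr V')) ⟶
          (DCoh.Lpull g).obj ((DCoh.Rpush f).obj K) =>
        y ≫ DCoh.baseChangeApp adjg adjg'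
          (eIso (lpullRpushAdj f) (lpullRpushAdj f') adjg adjg' (epsIso f g g' f' hsq.w)) K) := by
  haveI : Module.Flat Γ(S, V) (BR g hVV') := flat_BR g hVV' hV hV'
  let af := lpullRpushAdj f
  let af' := lpullRpushAdj f'
  let ε := epsIso f g g' f' hsq.w
  let e := eIso af af' adjg adjg' ε
  let θ := DCoh.baseChangeApp adjg adjg' e K
  let RK := (DCoh.Rpush f).obj K
  have hRK : DCoh.IsQCohD RK := Groth.Agent.Lib.Helper17.AffPush.isQCohD_rpush f K hK
  let dS := bcd (𝟙 S) g g (𝟙 S') (IsPullback.id_vert g) hVV'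
  let dX := bcd f g g' f' hsq hVV'
  have hle' : f' ⁻¹ᵁ V' ≤ g' ⁻¹ᵁ (f ⁻¹ᵁ V) :=
    Groth.Agent.Helper13AffBC.preimage_le f g g' f' hsq hVV'
  let prS := lPair g dS q (le_refl V) (le_refl V') hVV'
  let prX := lPair g' dX q (le_refl (f ⁻¹ᵁ V)) (le_refl (f' ⁻¹ᵁ V')) hle'
  have gS : Good DCoh.IsQCohD prS :=
    good_lPair g dS q _ _ _ (good_affine (𝟙 S) g g (𝟙 S') (IsPullback.id_vert g) hVV' hV hV' q
      (le_refl V) hV (le_refl V') hVV' (inf_eq_right.2 hVV').symm)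
  have gX : Good DCoh.IsQCohD prX :=
    good_lPair g' dX q _ _ _ (good_frPair_congr g' dX q
      (inf_eq_right.2 hle' : Vp g' f' V' (f ⁻¹ᵁ V) = f' ⁻¹ᵁ V') _ _ _ _ _
      (good_compact f g g' f' hsq hVV' hV hV' (f.isQuasiSeparated_preimage hV.isQuasiSeparated) q
        (f ⁻¹ᵁ V) (f.isCompact_preimage hV.isCompact) le_rfl))
  let P_S : DCoh.D S := Q.obj ((HomologicalComplex.single S.Modules (ComplexShape.up ℤ) q).obj (fr V))
  let P_S' : DCoh.D S' :=
    Q.obj ((HomologicalComplex.single S'.Modules (ComplexShape.up ℤ) q).obj (fr V'))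
  let P_X : DCoh.D X :=
    Q.obj ((HomologicalComplex.single X.Modules (ComplexShape.up ℤ) q).obj (fr (f ⁻¹ᵁ V)))
  let P_X' : DCoh.D X' :=
    Q.obj ((HomologicalComplex.single X'.Modules (ComplexShape.up ℤ) q).obj (fr (f' ⁻¹ᵁ V')))
  let τf : P_X ⟶ (DCoh.Lpull f).obj P_S := tau f q (le_refl _)
  let τf' : P_X' ⟶ (DCoh.Lpull f').obj P_S' := tau f' q (le_refl _)
  let τg : P_S' ⟶ (DCoh.Lpull g).obj P_S := tau g q hVV'
  let τg' : P_X' ⟶ (DCoh.Lpull g').obj P_X := tau g' q hle'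
  haveI : IsIso τf := isIso_tau f q V
  haveI : IsIso τf' := isIso_tau f' q V'
  let N₁ : DCoh.D S' := (DCoh.Lpull g).obj RK
  let LK : DCoh.D X' := (DCoh.Lpull g').obj K
  let N₂ : DCoh.D S' := (DCoh.Rpush f').obj LK
  let ψ : (P_S ⟶ RK) → (P_X ⟶ K) := fun ω => τf ≫ (af.homEquiv P_S K).symm ω
  let ψ' : (P_S' ⟶ N₂) → (P_X' ⟶ LK) := fun y => τf' ≫ (af'.homEquiv P_S' LK).symm y
  have hψ : Function.Bijective ψ :=
    (bijective_iso_comp (asIso τf)).comp (af.homEquiv P_S K).symm.bijective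
  have hψ' : Function.Bijective ψ' :=
    (bijective_iso_comp (asIso τf')).comp (af'.homEquiv P_S' LK).symm.bijective
  have ψ_eq : ∀ ω : P_S ⟶ RK, ψ ω = τf ≫ (DCoh.Lpull f).map ω ≫ af.counit.app K := fun ω => by
    change τf ≫ (af.homEquiv P_S K).symm ω = _
    rw [Adjunction.homEquiv_counit]
  have ψ_add : ∀ ω₁ ω₂ : P_S ⟶ RK, ψ (ω₁ + ω₂) = ψ ω₁ + ψ ω₂ := fun ω₁ ω₂ => by
    rw [ψ_eq, ψ_eq, ψ_eq, Functor.map_add, Preadditive.add_comp, Preadditive.comp_add]
  have ψ_smul : ∀ (a : Γ(S, V)) (ω : P_S ⟶ RK),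
      ψ (Q.map ((HomologicalComplex.single S.Modules (ComplexShape.up ℤ) q).map
        (mulFr V (actA dS (le_refl V) a))) ≫ ω) =
      Q.map ((HomologicalComplex.single X.Modules (ComplexShape.up ℤ) q).map
        (mulFr (f ⁻¹ᵁ V) (actA dX (le_refl (f ⁻¹ᵁ V)) a))) ≫ ψ ω := fun a ω => by
    have tm := tau_mul f q (le_refl (f ⁻¹ᵁ V)) (actA dS (le_refl V) a)
    rw [appLE_actA f g g' f' hsq hVV' a] at tm
    rw [ψ_eq, ψ_eq, Functor.map_comp, Category.assoc, ← Category.assoc τf, tm, Category.assoc]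
  let Ψ : ActHom prS.ρ RK →ₗ[Γ(S, V)] ActHom prX.ρ K :=
    { toFun := fun ω => ψ ω.hom
      map_add' := fun x y => ψ_add x.hom y.hom
      map_smul' := fun a x => ψ_smul a x.hom }
  have hΨ : Function.Bijective Ψ := hψ
  let G' : (P_S' ⟶ N₁) → (P_X' ⟶ LK) := fun y => ψ' (y ≫ θ)
  have G'_eq : ∀ y : P_S' ⟶ N₁, G' y =
      τf' ≫ (DCoh.Lpull f').map y ≫ ε.hom.app RK ≫ (DCoh.Lpull g').map (af.counit.app K) :=
    fun y => by
      have bc := bc_transpose af af' adjg adjg' ε K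
      change τf' ≫ (af'.homEquiv P_S' LK).symm (y ≫ θ) = _
      rw [Adjunction.homEquiv_counit, Functor.map_comp, Category.assoc]
      exact congrArg (fun t => τf' ≫ (DCoh.Lpull f').map y ≫ t) bc
  have G'_add : ∀ y₁ y₂ : P_S' ⟶ N₁, G' (y₁ + y₂) = G' y₁ + G' y₂ := fun y₁ y₂ => by
    rw [G'_eq, G'_eq, G'_eq, Functor.map_add, Preadditive.add_comp, Preadditive.comp_add]
  have G'_zero : G' 0 = 0 := by
    have h := G'_add 0 0
    rw [add_zero] at h
    exact left_eq_add.1 h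
  have key0 : ∀ (b : BR g hVV') (ω : P_S ⟶ RK),
      G' (Q.map ((HomologicalComplex.single S'.Modules (ComplexShape.up ℤ) q).map
        (mulFr V' (actB dS (le_refl V') b))) ≫ τg ≫ (DCoh.Lpull g).map ω) =
      Q.map ((HomologicalComplex.single X'.Modules (ComplexShape.up ℤ) q).map
        (mulFr (f' ⁻¹ᵁ V') (actB dX (le_refl (f' ⁻¹ᵁ V')) b))) ≫ τg' ≫
          (DCoh.Lpull g').map (ψ ω) := fun b ω => by
    have tm := tau_mul f' q (le_refl (f' ⁻¹ᵁ V')) (actB dS (le_refl V') b)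
    rw [appLE_actB f g g' f' hsq hVV' b] at tm
    have natε := ε.hom.naturality ω
    dsimp only [Functor.comp_map] at natε
    have sq : τf' ≫ (DCoh.Lpull f').map τg ≫ ε.hom.app P_S = τg' ≫ (DCoh.Lpull g').map τf :=
      tau_square f g g' f' hsq.w q hVV' (le_refl (f ⁻¹ᵁ V)) (le_refl (f' ⁻¹ᵁ V')) hle'
    rw [G'_eq, ψ_eq]
    simp only [Functor.map_comp, Category.assoc]
    rw [← Category.assoc τf', tm, Category.assoc, reassoc_of% natε, reassoc_of% sq]
  have key : ∀ z : BR g hVV' ⊗[Γ(S, V)] ActHom prS.ρ RK,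
      G' (beta prS RK z).hom = (beta prX K (Ψ.lTensor (BR g hVV') z)).hom := by
    intro z
    induction z using TensorProduct.induction_on with
    | zero =>
      rw [map_zero, map_zero, map_zero]
      exact G'_zero
    | add x y hx hy =>
      rw [map_add, map_add, map_add]
      exact (G'_add _ _).trans (congrArg₂ (· + ·) hx hy)
    | tmul b ω =>
      rw [beta_tmul, LinearMap.lTensor_tmul, beta_tmul]
      have e1 : (b • phi prS RK ω).hom =
          Q.map ((HomologicalComplex.single S'.Modules (ComplexShape.up ℤ) q).map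
            (mulFr V' (actB dS (le_refl V') b))) ≫ τg ≫ (DCoh.Lpull g).map ω.hom := by
        have hι := lPair_ι g dS q (le_refl V) (le_refl V') hVV'
        change (prS.ρ' b : prS.P' ⟶ prS.P') ≫ prS.ι ≫ (DCoh.Lpull g).map ω.hom = _
        rw [hι]
        rfl
      have e2 : (b • phi prX K (Ψ ω)).hom =
          Q.map ((HomologicalComplex.single X'.Modules (ComplexShape.up ℤ) q).map
            (mulFr (f' ⁻¹ᵁ V') (actB dX (le_refl (f' ⁻¹ᵁ V')) b))) ≫ τg' ≫
              (DCoh.Lpull g').map (ψ ω.hom) := by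
        have hι := lPair_ι g' dX q (le_refl (f ⁻¹ᵁ V)) (le_refl (f' ⁻¹ᵁ V')) hle'
        change (prX.ρ' b : prX.P' ⟶ prX.P') ≫ prX.ι ≫ (DCoh.Lpull g').map (ψ ω.hom) = _
        rw [hι]
        rfl
      exact (congrArg G' e1).trans ((key0 b ω.hom).trans e2.symm)
  let βS : BR g hVV' ⊗[Γ(S, V)] ActHom prS.ρ RK → (P_S' ⟶ N₁) := fun z => (beta prS RK z).hom
  have hβS : Function.Bijective βS := gS RK hRK
  let βX : BR g hVV' ⊗[Γ(S, V)] ActHom prS.ρ RK → (P_X' ⟶ LK) :=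
    fun z => (beta prX K (Ψ.lTensor (BR g hVV') z)).hom
  have hβX : Function.Bijective βX := (gX K hK).comp (lTensor_bijective_of_bijective Ψ hΨ)
  let F : (P_S' ⟶ N₁) → (P_S' ⟶ N₂) := fun y => y ≫ θ
  have h1 : ψ' ∘ (F ∘ βS) = βX := funext key
  have h2 : Function.Bijective (F ∘ βS) := by
    have : Function.Bijective (ψ' ∘ (F ∘ βS)) := h1 ▸ hβX
    exact (Function.Bijective.of_comp_iff' hψ' _).1 this
  exact (Function.Bijective.of_comp_iff _ hβS).1 h2

lemma isQCohD_lpull_of_exact {Y' Y : Scheme.{u}} (h : Y' ⟶ Y)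
    [PreservesFiniteLimits (Scheme.Modules.pullback h)] (M : DCoh.D Y) (hM : DCoh.IsQCohD M) :
    DCoh.IsQCohD ((DCoh.Lpull h).obj M) :=
  Groth.Agent.Lib.Helper17.QCPush.isQCohD_of_iso ((lamIso h).app M).symm
    (isQCohD_map_pullback h M hM)

include hsq in
/-- **Flat base change** for derived direct images of objects with quasi-coherent cohomology. -/
theorem exists_iso_baseChange [QuasiCompact f] [QuasiSeparated f] [Flat g]
    (adjg : DCoh.Lpull g ⊣ DCoh.Rpush g) (adjg' : DCoh.Lpull g' ⊣ DCoh.Rpush g') :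
    ∃ e : DCoh.Rpush g' ⋙ DCoh.Rpush f ≅ DCoh.Rpush f' ⋙ DCoh.Rpush g,
      ∀ E : DCoh.D X, DCoh.IsQCohD E → IsIso (DCoh.baseChangeApp adjg adjg' e E) := by
  haveI : Flat g' := MorphismProperty.of_isPullback (P := @Flat) hsq.flip inferInstance
  haveI : QuasiCompact f' := MorphismProperty.of_isPullback (P := @QuasiCompact) hsq inferInstance
  haveI : QuasiSeparated f' :=
    MorphismProperty.of_isPullback (P := @QuasiSeparated) hsq inferInstance
  haveI := Groth.Agent.Lib.Helper1.FlatPull.preservesFiniteLimits_pullback_of_flat g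
  haveI := Groth.Agent.Lib.Helper1.FlatPull.preservesFiniteLimits_pullback_of_flat g'
  refine ⟨eIso (lpullRpushAdj f) (lpullRpushAdj f') adjg adjg' (epsIso f g g' f' hsq.w),
    fun K hK => ?_⟩
  let θ := DCoh.baseChangeApp adjg adjg'
    (eIso (lpullRpushAdj f) (lpullRpushAdj f') adjg adjg' (epsIso f g g' f' hsq.w)) K
  let RK := (DCoh.Rpush f).obj K
  have hRK : DCoh.IsQCohD RK := Groth.Agent.Lib.Helper17.AffPush.isQCohD_rpush f K hK
  let N₁ : DCoh.D S' := (DCoh.Lpull g).obj RK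
  let LK : DCoh.D X' := (DCoh.Lpull g').obj K
  let N₂ : DCoh.D S' := (DCoh.Rpush f').obj LK
  have hN₁ : DCoh.IsQCohD N₁ := isQCohD_lpull_of_exact g RK hRK
  have hLK : DCoh.IsQCohD LK := isQCohD_lpull_of_exact g' K hK
  have hN₂ : DCoh.IsQCohD N₂ := Groth.Agent.Lib.Helper17.AffPush.isQCohD_rpush f' LK hLK
  change IsIso θ
  rw [DerivedCategory.isIso_iff]
  intro q
  let ι : Type u := {V' : S'.Opens // IsAffineOpen V' ∧ ∃ V : S.Opens, IsAffineOpen V ∧ V' ≤ g ⁻¹ᵁ V}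
  refine Groth.Agent.Helper13AffBC.isIso_of_bijective_on_basis _ (fun i : ι => i.1) ?_ ?_
  · rw [Opens.isBasis_iff_nbhd]
    intro W y hyW
    obtain ⟨V, hV, hyV, -⟩ := exists_isAffineOpen_mem_and_subset (x := g y) (U := ⊤) trivial
    obtain ⟨U', hU', hyU', hU'W⟩ := exists_isAffineOpen_mem_and_subset (x := y)
      (U := W ⊓ g ⁻¹ᵁ V) ⟨hyW, hyV⟩
    exact ⟨U', ⟨⟨U', hU', V, hV, hU'W.trans inf_le_right⟩, rfl⟩, hyU', hU'W.trans inf_le_left⟩
  · rintro ⟨V', hV', V, hV, hVV'⟩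
    have hb := bijective_comp_bc f g g' f' hsq adjg adjg' hVV' hV hV' q K hK
    let P' : DCoh.D S' :=
      Q.obj ((HomologicalComplex.single S'.Modules (ComplexShape.up ℤ) q).obj (fr V'))
    let A₁ : (P' ⟶ N₁) → Γ((homologyFunctor S'.Modules q).obj N₁, V') :=
      fun y => ev V' _ (hq q y)
    let A₂ : (P' ⟶ N₂) → Γ((homologyFunctor S'.Modules q).obj N₂, V') :=
      fun y => ev V' _ (hq q y)
    have hA₁ : Function.Bijective A₁ := (ev V' _).bijective.comp (bijective_hq_fr q hV' N₁ hN₁)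
    have hA₂ : Function.Bijective A₂ := (ev V' _).bijective.comp (bijective_hq_fr q hV' N₂ hN₂)
    have sq : ∀ y : P' ⟶ N₁, A₂ (y ≫ θ) = ((homologyFunctor S'.Modules q).map θ).app V' (A₁ y) :=
      fun y => by
        change ev V' _ (hq q (y ≫ θ)) = _
        rw [hq_comp, ev_comp]
    have h1 : (((homologyFunctor S'.Modules q).map θ).app V' : _ → _) ∘ A₁ =
        A₂ ∘ (fun y : P' ⟶ N₁ => y ≫ θ) := funext fun y => (sq y).symm
    have h2 : Function.Bijective
        ((((homologyFunctor S'.Modules q).map θ).app V' : _ → _) ∘ A₁) := by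
      rw [h1]
      exact hA₂.comp hb
    exact (Function.Bijective.of_comp_iff _ hA₁).1 h2

end Main

end Groth.Agent.Lib.Helper1.BCMain
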