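import Mathlib
import Groth.Agent.Lib.Helper1BCMain
import Groth.Agent.Lib.Helper17QCPush2
import Groth.Agent.Lib.Helper17LocCohVan3
set_option backward.isDefEq.respectTransparency.types false

/-!
# Flat base change for higher direct images of quasi-coherent modules (helper1)
-/

set_option autoImplicit false
set_option linter.style.haveILetI false
set_option linter.unusedSectionVars false
set_option maxHeartbeats 400000

universe u
open CategoryTheory CategoryTheory.Limits AlgebraicGeometry Opposite TopologicalSpace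

attribute [local instance] HasDerivedCategory.standard

namespace Groth.Agent.Lib.Helper1.BCHigher

open Groth.Agent.Lib.Helper1.BCAff Groth.Agent.Lib.Helper1.BCTau Groth.Agent.Lib.Helper1.BCMain
  Groth.Agent.Lib.Helper1.DAdj Groth.Agent.Lib.Helper17.Hyp DerivedCategory

attribute [local instance] Groth.Agent.Lib.Helper1.Sky.hasLpull
attribute [local instance] Groth.Agent.Lib.Helper17.QCPush.hasRpush

theorem nonempty_pullback_Rpush_iso {X S X' S' : Scheme.{u}} (f : X ⟶ S) (g : S' ⟶ S)
    (g' : X' ⟶ X) (f' : X' ⟶ S') (h : IsPullback g' f' f g) [QuasiCompact f] [QuasiSeparated f]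
    [Flat g] [HasInjectiveResolutions X.Modules] [HasInjectiveResolutions X'.Modules]
    (M : X.Modules) [Coh.IsQCoh M] (i : ℕ) :
    Nonempty ((Scheme.Modules.pullback g).obj ((Coh.Rpush f i).obj M) ≅
      (Coh.Rpush f' i).obj ((Scheme.Modules.pullback g').obj M)) := by
  haveI : Flat g' := MorphismProperty.of_isPullback (P := @Flat) h.flip inferInstance
  haveI := Groth.Agent.Lib.Helper1.FlatPull.preservesFiniteLimits_pullback_of_flat g
  haveI := Groth.Agent.Lib.Helper1.FlatPull.preservesFiniteLimits_pullback_of_flat g'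
  obtain ⟨e, he⟩ := exists_iso_baseChange f g g' f' h (lpullRpushAdj g) (lpullRpushAdj g')
  haveI : M.IsQuasicoherent := ‹Coh.IsQCoh M›
  have hM : DCoh.IsQCohD (DCoh.inD X M) := Groth.Agent.Lib.Helper17.LocCohVan.isQCohD_inD M
  haveI := he (DCoh.inD X M) hM
  obtain ⟨e1⟩ := Groth.Agent.Lib.Helper17.QCPush.nonempty_HD_rpush_inD_iso f M i (i : ℤ) rfl
  obtain ⟨e2⟩ := Groth.Agent.Lib.Helper17.QCPush.nonempty_HD_rpush_inD_iso f'
    ((Scheme.Modules.pullback g').obj M) i (i : ℤ) rfl
  let θ := DCoh.baseChangeApp (lpullRpushAdj g) (lpullRpushAdj g') e (DCoh.inD X M)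
  let c : (DCoh.Lpull g').obj (DCoh.inD X M) ≅
      DCoh.inD X' ((Scheme.Modules.pullback g').obj M) :=
    (lamIso g').app _ ≪≫ (thetaIso (Scheme.Modules.pullback g') 0 M).symm
  exact ⟨(Scheme.Modules.pullback g).mapIso e1.symm ≪≫
    ((homologyNatIso (Scheme.Modules.pullback g) (i : ℤ)).app _).symm ≪≫
    (homologyFunctor S'.Modules (i : ℤ)).mapIso ((lamIso g).app _).symm ≪≫
    (homologyFunctor S'.Modules (i : ℤ)).mapIso (asIso θ) ≪≫
    (homologyFunctor S'.Modules (i : ℤ)).mapIso ((DCoh.Rpush f').mapIso c) ≪≫ e2⟩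

end Groth.Agent.Lib.Helper1.BCHigher
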