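import Mathlib.CategoryTheory.Triangulated.Opposite.Pretriangulated
import Mathlib.CategoryTheory.Triangulated.HomologicalFunctor
import Mathlib.CategoryTheory.Triangulated.Yoneda
import Mathlib.Algebra.Category.Grp.Limits
import Mathlib.CategoryTheory.Limits.Shapes.Opposites.Products
import Mathlib.CategoryTheory.Limits.ConcreteCategory.Basic
import Mathlib.CategoryTheory.Preadditive.Yoneda.Limits
import Mathlib.Algebra.Homology.ShortComplex.Ab
import Mathlib.Tactic.Abel

/-!
# Brown representability: calculus of elements of a contravariant functor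

`pb H f x` is the pullback of an element `x : H.obj (op W)` along `f : W' ⟶ W`, for a functor
`H : Dᵒᵖ ⥤ AddCommGrpCat`.  We record additivity, the behaviour on coproducts (when `H` turns
them into products) and exactness on distinguished triangles (when `H` is homological).
-/

set_option autoImplicit false
universe w v u
open CategoryTheory CategoryTheory.Limits Opposite

namespace Groth.Agent.Lib.Helper1.Brown

section PB

variable {D : Type u} [Category.{v} D] (H : Dᵒᵖ ⥤ AddCommGrpCat.{v})

/-- pullback of elements of a contravariant functor -/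
def pb {W W' : D} (f : W' ⟶ W) (x : H.obj (op W)) : H.obj (op W') :=
  (ConcreteCategory.hom (H.map f.op)) x

@[simp] lemma pb_id {W : D} (x : H.obj (op W)) : pb H (𝟙 W) x = x := by
  simp [pb]

lemma pb_comp {W W' W'' : D} (f : W'' ⟶ W') (g : W' ⟶ W) (x : H.obj (op W)) :
    pb H (f ≫ g) x = pb H f (pb H g x) := by
  simp [pb]

@[simp] lemma pb_zero_elt {W W' : D} (f : W' ⟶ W) : pb H f (0 : H.obj (op W)) = 0 := by
  simp [pb]

lemma pb_add_elt {W W' : D} (f : W' ⟶ W) (x y : H.obj (op W)) :
    pb H f (x + y) = pb H f x + pb H f y := by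
  simp [pb]

lemma pb_sub_elt {W W' : D} (f : W' ⟶ W) (x y : H.obj (op W)) :
    pb H f (x - y) = pb H f x - pb H f y := by
  simp [pb]

lemma pb_neg_elt {W W' : D} (f : W' ⟶ W) (x : H.obj (op W)) :
    pb H f (-x) = -pb H f x := by
  simp [pb]

variable [Preadditive D]

lemma pb_zero_map [H.PreservesZeroMorphisms] {W W' : D} (x : H.obj (op W)) :
    pb H (0 : W' ⟶ W) x = 0 := by
  simp [pb]

lemma pb_add_map [H.Additive] {W W' : D} (f g : W' ⟶ W) (x : H.obj (op W)) :
    pb H (f + g) x = pb H f x + pb H g x := by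
  simp [pb, Functor.map_add]

lemma pb_sub_map [H.Additive] {W W' : D} (f g : W' ⟶ W) (x : H.obj (op W)) :
    pb H (f - g) x = pb H f x - pb H g x := by
  simp [pb, Functor.map_sub]

lemma pb_neg_map [H.Additive] {W W' : D} (f : W' ⟶ W) (x : H.obj (op W)) :
    pb H (-f) x = -pb H f x := by
  simp [pb, Functor.map_neg]

end PB

section Prod

variable {D : Type u} [Category.{v} D] (H : Dᵒᵖ ⥤ AddCommGrpCat.{v})

lemma pb_ext_cofan {κ : Type w} {W : κ → D} (c : Cofan W) (hc : IsColimit c)
    [PreservesLimitsOfShape (Discrete κ) H]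
    [PreservesLimitsOfShape (Discrete κ) (forget AddCommGrpCat.{v})]
    (x y : H.obj (op c.pt)) (h : ∀ a, pb H (c.inj a) x = pb H (c.inj a) y) : x = y := by
  have hl : IsLimit (H.mapCone c.op) := isLimitOfPreserves H (Cofan.IsColimit.op hc)
  refine Concrete.isLimit_ext _ hl x y ?_
  rintro ⟨a⟩
  exact h a

lemma exists_pb_cofan {κ : Type w} {W : κ → D} (c : Cofan W) (hc : IsColimit c)
    [PreservesLimitsOfShape (Discrete κ) H]
    [PreservesLimitsOfShape (Discrete κ) (forget AddCommGrpCat.{v})]
    (x : ∀ a, H.obj (op (W a))) : ∃ y : H.obj (op c.pt), ∀ a, pb H (c.inj a) y = x a := by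
  have hl : IsLimit (H.mapCone c.op) := isLimitOfPreserves H (Cofan.IsColimit.op hc)
  have hl' := isLimitOfPreserves (forget AddCommGrpCat.{v}) hl
  let sec : ((Discrete.functor fun a => op (W a)) ⋙ H ⋙ forget AddCommGrpCat.{v}).sections :=
    ⟨fun a => x a.as, by
      rintro ⟨a⟩ ⟨b⟩ ⟨⟨hab⟩⟩
      obtain rfl : a = b := hab
      simp⟩
  refine ⟨(Types.isLimitEquivSections hl').symm sec, fun a => ?_⟩
  exact Types.isLimitEquivSections_symm_apply hl' sec ⟨a⟩

lemma pb_ext_sigma {κ : Type w} (W : κ → D) [HasCoproduct W]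
    [PreservesLimitsOfShape (Discrete κ) H]
    [PreservesLimitsOfShape (Discrete κ) (forget AddCommGrpCat.{v})]
    (x y : H.obj (op (∐ W))) (h : ∀ a, pb H (Sigma.ι W a) x = pb H (Sigma.ι W a) y) : x = y :=
  pb_ext_cofan H (Cofan.mk (∐ W) (Sigma.ι W)) (coproductIsCoproduct W) x y h

lemma exists_pb_sigma {κ : Type w} (W : κ → D) [HasCoproduct W]
    [PreservesLimitsOfShape (Discrete κ) H]
    [PreservesLimitsOfShape (Discrete κ) (forget AddCommGrpCat.{v})]
    (x : ∀ a, H.obj (op (W a))) : ∃ y : H.obj (op (∐ W)), ∀ a, pb H (Sigma.ι W a) y = x a :=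
  exists_pb_cofan H (Cofan.mk (∐ W) (Sigma.ι W)) (coproductIsCoproduct W) x

/-- a functor turning `Type v`-indexed coproducts into products also does so for `ℕ` -/
lemma preservesLimitsOfShape_nat
    [∀ (κ : Type v), PreservesLimitsOfShape (Discrete κ) H] :
    PreservesLimitsOfShape (Discrete ℕ) H :=
  preservesLimitsOfShape_of_equiv (Discrete.equivalence Equiv.ulift.{v, 0}) H

end Prod

section Exact

open CategoryTheory.Pretriangulated CategoryTheory.Pretriangulated.Opposite

variable {D : Type u} [Category.{v} D] [Preadditive D] [HasZeroObject D] [HasShift D ℤ]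
    [∀ n : ℤ, (shiftFunctor D n).Additive] [Pretriangulated D]
    (H : Dᵒᵖ ⥤ AddCommGrpCat.{v}) [H.IsHomological]

lemma exists_pb_of_dist (T : Triangle D) (hT : T ∈ distTriang D) (x : H.obj (op T.obj₂))
    (hx : pb H T.mor₁ x = 0) : ∃ y : H.obj (op T.obj₃), pb H T.mor₂ y = x := by
  have h := H.map_distinguished_op_exact T hT
  rw [ShortComplex.ab_exact_iff] at h
  exact h x hx

end Exact

end Groth.Agent.Lib.Helper1.Brown
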