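import Groth.Agent.Lib.Helper1BrownTower

/-!
# Brown representability: construction of the tower
-/

set_option autoImplicit false
set_option linter.unusedSectionVars false
universe w v u
open CategoryTheory CategoryTheory.Limits Opposite

namespace Groth.Agent.Lib.Helper1.Brown

open CategoryTheory.Pretriangulated CategoryTheory.Pretriangulated.Opposite

section Construct

variable {D : Type u} [Category.{v} D] [Preadditive D] [HasZeroObject D] [HasShift D ℤ]
    [∀ n : ℤ, (shiftFunctor D n).Additive] [Pretriangulated D]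
    [HasCoproducts.{v} D] [HasColimitsOfShape (Discrete ℕ) D]
    {ι : Type v} (E : ι → D) (H : Dᵒᵖ ⥤ AddCommGrpCat.{v})

/-- a stage of the construction: an object together with an element of `H` -/
structure Stage where
  X : D
  π : H.obj (op X)

namespace Stage

variable {H} (S : Stage H)

/-- the index type of the cells attached at a stage -/
abbrev K : Type v := {p : Σ i : ι, (E i ⟶ S.X) // pb H p.2 S.π = 0}

/-- the coproduct of the cells -/
noncomputable abbrev T : D := ∐ (fun p : S.K E => E p.1.1)

/-- the attaching map -/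
noncomputable def t : S.T E ⟶ S.X := Sigma.desc (fun p : S.K E => p.1.2)

variable [H.IsHomological] [∀ (κ : Type v), PreservesLimitsOfShape (Discrete κ) H]

lemma pb_t : pb H (S.t E) S.π = 0 := by
  apply pb_ext_sigma H (fun p : S.K E => E p.1.1)
  intro p
  rw [← pb_comp, t, Sigma.ι_desc, p.2, pb_zero_elt]

/-- the data of the next stage -/
structure Step where
  X' : D
  s : S.X ⟶ X'
  w : X' ⟶ (S.T E)⟦(1 : ℤ)⟧
  π' : H.obj (op X')
  dist : Triangle.mk (S.t E) s w ∈ distTriang D
  hπ : pb H s π' = S.π

lemma nonempty_step : Nonempty (S.Step E) := by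
  obtain ⟨X', s, w, hd⟩ := distinguished_cocone_triangle (S.t E)
  obtain ⟨π', hπ'⟩ := exists_pb_of_dist H _ hd S.π (S.pb_t E)
  exact ⟨⟨X', s, w, π', hd, hπ'⟩⟩

/-- a chosen next step -/
noncomputable def step : S.Step E := Classical.choice (S.nonempty_step E)

/-- the next stage -/
noncomputable def next : Stage H := ⟨(S.step E).X', (S.step E).π'⟩

end Stage

variable [H.IsHomological] [∀ (κ : Type v), PreservesLimitsOfShape (Discrete κ) H]

/-- the bottom object: one copy of `E i` for each element of `H (E i)` -/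
noncomputable def X₀ : D := ∐ (fun p : (Σ i : ι, H.obj (op (E i))) => E p.1)

lemma exists_π₀ : ∃ π₀ : H.obj (op (X₀ E H)),
    ∀ p : (Σ i : ι, H.obj (op (E i))), pb H (Sigma.ι (fun p : (Σ i : ι, H.obj (op (E i))) => E p.1) p) π₀ = p.2 :=
  exists_pb_sigma H (fun p : (Σ i : ι, H.obj (op (E i))) => E p.1) (fun p => p.2)

/-- the bottom stage -/
noncomputable def stage0 : Stage H := ⟨X₀ E H, (exists_π₀ E H).choose⟩

/-- the stages -/
noncomputable def stage : ℕ → Stage H
  | 0 => stage0 E H
  | n + 1 => (stage n).next E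

/-- the tower -/
noncomputable def tower : Tower E H where
  X n := (stage E H n).X
  s n := ((stage E H n).step E).s
  π n := (stage E H n).π
  hπ n := ((stage E H n).step E).hπ
  surj i x := ⟨Sigma.ι (fun p : (Σ i : ι, H.obj (op (E i))) => E p.1) ⟨i, x⟩,
    (exists_π₀ E H).choose_spec ⟨i, x⟩⟩
  kill n i β hβ := by
    have h1 : β = Sigma.ι (fun p : (stage E H n).K E => E p.1.1) ⟨⟨i, β⟩, hβ⟩ ≫ (stage E H n).t E := by
      rw [Stage.t, Sigma.ι_desc]
    have h2 : (stage E H n).t E ≫ ((stage E H n).step E).s = 0 :=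
      comp_distTriang_mor_zero₁₂ _ ((stage E H n).step E).dist
    show (β ≫ ((stage E H n).step E).s : E i ⟶ ((stage E H n).step E).X') = 0
    rw [h1, Category.assoc, h2, comp_zero]
  T₀ := (stage E H 0).T E
  t₀ := (stage E H 0).t E
  t₀s := comp_distTriang_mor_zero₁₂ _ ((stage E H 0).step E).dist
  fac i β hβ := ⟨Sigma.ι (fun p : (stage E H 0).K E => E p.1.1) ⟨⟨i, β⟩, hβ⟩, by
    rw [Stage.t, Sigma.ι_desc]⟩

/-- the objects of the tower are built from coproducts of members of `E` by cones -/
lemma tower_prop (P : D → Prop)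
    (hcoprod : ∀ {κ : Type v} (j : κ → ι), P (∐ fun a => E (j a)))
    (hcone : ∀ T ∈ distTriang D, P T.obj₁ → P T.obj₂ → P T.obj₃) :
    ∀ n, P ((tower E H).X n) := by
  intro n
  induction n with
  | zero => exact hcoprod (fun p : (Σ i : ι, H.obj (op (E i))) => p.1)
  | succ n ih =>
    exact hcone _ ((stage E H n).step E).dist (hcoprod (fun p : (stage E H n).K E => p.1.1)) ih

/-- existence of a homotopy colimit of the tower with a compatible element -/
lemma nonempty_hocolim (T : Tower E H) : Nonempty T.Hocolim := by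
  have := preservesLimitsOfShape_nat H
  obtain ⟨pt, can, δ, hd⟩ := distinguished_cocone_triangle (𝟙 _ - T.sh)
  obtain ⟨πs, hπs⟩ := exists_pb_sigma H T.X T.π
  have h0 : pb H (𝟙 _ - T.sh) πs = 0 := by
    apply pb_ext_sigma H T.X
    intro n
    rw [← pb_comp, Preadditive.comp_sub, Category.comp_id, Tower.sh, Sigma.ι_desc, pb_sub_map,
      pb_comp, hπs, hπs, T.hπ, sub_self, pb_zero_elt]
  obtain ⟨π, hπ⟩ := exists_pb_of_dist H _ hd πs h0
  refine ⟨⟨pt, can, δ, hd, π, fun n => ?_⟩⟩
  rw [pb_comp]
  have : pb H can π = πs := hπ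
  rw [this, hπs]

end Construct

end Groth.Agent.Lib.Helper1.Brown
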