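import Groth.Agent.Lib.Helper1Brown
import Groth.Agent.S6593
import Mathlib.CategoryTheory.Triangulated.Triangulated
import Mathlib.Algebra.BigOperators.Group.Finset.Basic

/-!
# Brown representability: the key injectivity statement for a tower

Given a family `E` with the factorisation property `Fac E` (every map `E i ⟶ ∐ X` into a countable
coproduct factors through a coproduct of members of `E`), a functor `H` turning countable coproducts
into products and a tower `X 0 ⟶ X 1 ⟶ …` with compatible elements `π n ∈ H (X n)` such that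
`Hom(E i, X 0) ⟶ H (E i)` is onto and `X n ⟶ X (n+1)` kills the kernel of `Hom(E i, X n) ⟶ H (E i)`,
we show that `Hom(E i, hocolim X) ⟶ H (E i)` is bijective.
-/

set_option autoImplicit false
set_option linter.unusedSectionVars false
universe w v u
open CategoryTheory CategoryTheory.Limits Opposite

namespace Groth.Agent.Lib.Helper1.Brown

open CategoryTheory.Pretriangulated

section Const

variable {D : Type u} [Category.{v} D] [Preadditive D] [HasColimitsOfShape (Discrete ℕ) D]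

/-- the shift on a countable coproduct of copies of `A` -/
noncomputable def sh0 (A : D) : (∐ (fun _ : ℕ => A)) ⟶ ∐ (fun _ : ℕ => A) :=
  Sigma.desc (fun n => Sigma.ι (fun _ : ℕ => A) (n + 1))

/-- a retraction of `1 - sh0` -/
noncomputable def rho (A : D) : (∐ (fun _ : ℕ => A)) ⟶ ∐ (fun _ : ℕ => A) :=
  Sigma.desc (fun n => -∑ m ∈ Finset.range n, Sigma.ι (fun _ : ℕ => A) m)

lemma sh0_rho (A : D) : (𝟙 _ - sh0 A) ≫ rho A = 𝟙 _ := by
  apply Sigma.hom_ext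
  intro n
  rw [Preadditive.sub_comp, Category.id_comp, Preadditive.comp_sub, sh0, Sigma.ι_desc_assoc, rho,
    Sigma.ι_desc, Sigma.ι_desc, Category.comp_id, Finset.sum_range_succ]
  abel

lemma map_rho {A B : D} (f : A ⟶ B) :
    Limits.Sigma.map (fun _ : ℕ => f) ≫ rho B = rho A ≫ Limits.Sigma.map (fun _ : ℕ => f) := by
  apply Sigma.hom_ext
  intro n
  rw [Sigma.ι_map_assoc, rho, rho, Sigma.ι_desc, Sigma.ι_desc_assoc, Preadditive.comp_neg,
    Preadditive.neg_comp, Preadditive.comp_sum, Preadditive.sum_comp]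
  congr 1
  refine Finset.sum_congr rfl (fun m _ => ?_)
  rw [Sigma.ι_map]

end Const

section Unshift

variable {D : Type u} [Category.{v} D] [Preadditive D] [HasShift D ℤ]
    [∀ n : ℤ, (shiftFunctor D n).Additive]

/-- transport of a map `A ⟶ B⟦1⟧` to a map `A⟦-1⟧ ⟶ B` -/
noncomputable def unshift {A B : D} (u : A ⟶ B⟦(1 : ℤ)⟧) : A⟦(-1 : ℤ)⟧ ⟶ B :=
  u⟦(-1 : ℤ)⟧' ≫ (shiftFunctorCompIsoId D (1 : ℤ) (-1) (by norm_num)).hom.app B

lemma unshift_comp {A B B' : D} (u : A ⟶ B⟦(1 : ℤ)⟧) (f : B ⟶ B') :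
    unshift (u ≫ f⟦(1 : ℤ)⟧') = unshift u ≫ f := by
  have := (shiftFunctorCompIsoId D (1 : ℤ) (-1) (by norm_num)).hom.naturality f
  simp only [Functor.comp_obj, Functor.comp_map, Functor.id_obj, Functor.id_map] at this
  rw [unshift, unshift, Functor.map_comp, Category.assoc, Category.assoc, this]

lemma unshift_zero {A B : D} : unshift (0 : A ⟶ B⟦(1 : ℤ)⟧) = 0 := by
  rw [unshift, Functor.map_zero, zero_comp]

lemma eq_zero_of_unshift {A B : D} (u : A ⟶ B⟦(1 : ℤ)⟧) (h : unshift u = 0) : u = 0 := by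
  rw [unshift] at h
  have h' : u⟦(-1 : ℤ)⟧' = 0 := by
    have := congrArg
      (fun x => x ≫ (shiftFunctorCompIsoId D (1 : ℤ) (-1) (by norm_num)).inv.app B) h
    simpa using this
  apply (shiftFunctor D (-1 : ℤ)).map_injective
  rw [h', Functor.map_zero]

end Unshift

section Tower

variable {D : Type u} [Category.{v} D] [Preadditive D] [HasZeroObject D] [HasShift D ℤ]
    [∀ n : ℤ, (shiftFunctor D n).Additive] [Pretriangulated D]
    [HasColimitsOfShape (Discrete ℕ) D]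
    {ι : Type w} (E : ι → D) (H : Dᵒᵖ ⥤ AddCommGrpCat.{v})

/-- the factorisation hypothesis on a family of objects -/
def Fac : Prop :=
  ∀ (X : ℕ → D) (i : ι) (α : E i ⟶ ∐ X), ∃ (j : ℕ → ι) (β : ∀ n, E (j n) ⟶ X n)
    (γ : E i ⟶ ∐ (fun n => E (j n))), α = γ ≫ Limits.Sigma.map β

/-- a tower adapted to `E` and `H` -/
structure Tower where
  X : ℕ → D
  s : ∀ n, X n ⟶ X (n + 1)
  π : ∀ n, H.obj (op (X n))
  hπ : ∀ n, pb H (s n) (π (n + 1)) = π n
  surj : ∀ i (x : H.obj (op (E i))), ∃ ξ : E i ⟶ X 0, pb H ξ (π 0) = x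
  kill : ∀ n i (β : E i ⟶ X n), pb H β (π n) = 0 → β ≫ s n = 0
  T₀ : D
  t₀ : T₀ ⟶ X 0
  t₀s : t₀ ≫ s 0 = 0
  fac : ∀ i (β : E i ⟶ X 0), pb H β (π 0) = 0 → ∃ τ : E i ⟶ T₀, τ ≫ t₀ = β

namespace Tower

variable {E H} (T : Tower E H)

/-- transition maps from the bottom of the tower -/
def tr : ∀ n, T.X 0 ⟶ T.X n
  | 0 => 𝟙 _
  | n + 1 => tr n ≫ T.s n

@[simp] lemma tr_zero : T.tr 0 = 𝟙 _ := rfl
lemma tr_succ (n : ℕ) : T.tr (n + 1) = T.tr n ≫ T.s n := rfl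

lemma pb_tr (n : ℕ) : pb H (T.tr n) (T.π n) = T.π 0 := by
  induction n with
  | zero => simp
  | succ n ih => rw [tr_succ, pb_comp, T.hπ, ih]

lemma t₀_tr (n : ℕ) : T.t₀ ≫ T.tr (n + 1) = 0 := by
  induction n with
  | zero => rw [tr_succ, tr_zero, Category.id_comp, T.t₀s]
  | succ n ih => rw [tr_succ, ← Category.assoc, ih, zero_comp]

/-- the shift map on the coproduct of the tower -/
noncomputable def sh : (∐ T.X) ⟶ ∐ T.X :=
  Sigma.desc (fun n => T.s n ≫ Sigma.ι T.X (n + 1))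

/-- the map from the constant tower on `X 0` -/
noncomputable def J : (∐ (fun _ : ℕ => T.X 0)) ⟶ ∐ T.X :=
  Sigma.desc (fun n => T.tr (n + 1) ≫ Sigma.ι T.X (n + 1))

lemma J_sh : T.J ≫ T.sh = sh0 (T.X 0) ≫ T.J := by
  apply Sigma.hom_ext
  intro n
  rw [J, Sigma.ι_desc_assoc, sh0, Sigma.ι_desc_assoc, Sigma.ι_desc, Category.assoc, sh,
    Sigma.ι_desc, ← Category.assoc, ← tr_succ]

/-- the inclusion `∐ X (n+1) ⟶ ∐ X` -/
noncomputable def σ : (∐ (fun n => T.X (n + 1))) ⟶ ∐ T.X :=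
  Sigma.desc (fun n => Sigma.ι T.X (n + 1))

/-- a retraction of `σ` -/
noncomputable def σr : (∐ T.X) ⟶ ∐ (fun n => T.X (n + 1)) :=
  Sigma.desc (fun n => match n with
    | 0 => 0
    | n + 1 => Sigma.ι (fun n => T.X (n + 1)) n)

lemma σ_σr : T.σ ≫ T.σr = 𝟙 _ := by
  apply Sigma.hom_ext
  intro n
  rw [σ, Sigma.ι_desc_assoc, σr, Sigma.ι_desc, Category.comp_id]

lemma J_eq : T.J = Limits.Sigma.map (fun n => T.tr (n + 1)) ≫ T.σ := by
  apply Sigma.hom_ext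
  intro n
  rw [J, Sigma.ι_desc, Sigma.ι_map_assoc, σ, Sigma.ι_desc]

lemma map_t₀_J : Limits.Sigma.map (fun _ : ℕ => T.t₀) ≫ T.J = 0 := by
  apply Sigma.hom_ext
  intro n
  rw [Sigma.ι_map_assoc, J, Sigma.ι_desc, ← Category.assoc, t₀_tr, zero_comp, comp_zero]

variable [H.Additive]

/-- choice of lifts along `X 0` -/
lemma comp_s_eq {n : ℕ} {i : ι} (β : E i ⟶ T.X n) (ξ : E i ⟶ T.X 0)
    (h : pb H ξ (T.π 0) = pb H β (T.π n)) : β ≫ T.s n = ξ ≫ T.tr (n + 1) := by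
  have h0 : pb H (β - ξ ≫ T.tr n) (T.π n) = 0 := by
    rw [pb_sub_map, pb_comp, pb_tr, h, sub_self]
  have := T.kill n i _ h0
  rw [Preadditive.sub_comp, sub_eq_zero, Category.assoc] at this
  rw [this, tr_succ]

/-- Claim M: maps into the constant coproduct killed by the transition maps factor through `T₀` -/
lemma claimM (hE : Fac E) {i : ι} (θ : E i ⟶ ∐ (fun _ : ℕ => T.X 0))
    (hθ : θ ≫ Limits.Sigma.map (fun n => T.tr (n + 1)) = 0) :
    ∃ τ : E i ⟶ ∐ (fun _ : ℕ => T.T₀), θ = τ ≫ Limits.Sigma.map (fun _ : ℕ => T.t₀) := by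
  choose V v w hV using fun n : ℕ => distinguished_cocone_triangle₁ (T.tr (n + 1))
  have hdist := Groth.Agent.S6593.result (fun n => Triangle.mk (v n) (T.tr (n + 1)) (w n)) hV
  obtain ⟨θ'', hθ''⟩ : ∃ θ'' : E i ⟶ ∐ V, θ = θ'' ≫ Limits.Sigma.map v :=
    Triangle.coyoneda_exact₂ _ hdist θ hθ
  obtain ⟨j, β, γ, hγ⟩ := hE V i θ''
  have hfac : ∀ n, ∃ τ : E (j n) ⟶ T.T₀, τ ≫ T.t₀ = β n ≫ v n := by
    intro n
    apply T.fac
    have hv : v n ≫ T.tr (n + 1) = 0 := comp_distTriang_mor_zero₁₂ _ (hV n)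
    rw [← T.pb_tr (n + 1), ← pb_comp, Category.assoc, hv, comp_zero, pb_zero_map]
  choose τ hτ using hfac
  refine ⟨γ ≫ Limits.Sigma.map τ, ?_⟩
  rw [hθ'', hγ, Category.assoc, Category.assoc, Sigma.map_comp_map, Sigma.map_comp_map]
  congr 2
  funext n
  exact (hτ n).symm

/-- (†): the map `1 - sh` is injective on maps from members of `E` -/
lemma eq_zero_of_comp_one_sub_sh (hE : Fac E) {i : ι} (a : E i ⟶ ∐ T.X)
    (ha : a ≫ (𝟙 _ - T.sh) = 0) : a = 0 := by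
  have ha' : a = a ≫ T.sh := by
    rw [Preadditive.comp_sub, Category.comp_id, sub_eq_zero] at ha
    exact ha
  obtain ⟨j, β, γ, hγ⟩ := hE T.X i a
  choose ξ hξ using fun n => T.surj (j n) (pb H (β n) (T.π n))
  have hβs : ∀ n, β n ≫ T.s n = ξ n ≫ T.tr (n + 1) := fun n => T.comp_s_eq (β n) (ξ n) (hξ n)
  -- `θ`
  obtain ⟨θ, hθ⟩ : ∃ θ : E i ⟶ ∐ (fun _ : ℕ => T.X 0), θ = γ ≫ Limits.Sigma.map ξ := ⟨_, rfl⟩
  have h1 : a ≫ T.sh = θ ≫ T.J := by
    rw [hγ, hθ, Category.assoc, Category.assoc]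
    congr 1
    apply Sigma.hom_ext
    intro n
    rw [Sigma.ι_map_assoc, Sigma.ι_map_assoc, Tower.sh, Sigma.ι_desc, Tower.J, Sigma.ι_desc,
      ← Category.assoc, hβs, Category.assoc]
  have h2 : a = θ ≫ T.J := ha'.trans h1
  have h3 : (θ ≫ (𝟙 _ - sh0 (T.X 0))) ≫ T.J = 0 := by
    rw [Category.assoc, Preadditive.sub_comp, Category.id_comp, ← T.J_sh, Preadditive.comp_sub,
      ← Category.assoc, ← h2, ← ha', sub_self]
  have h4 : (θ ≫ (𝟙 _ - sh0 (T.X 0))) ≫ Limits.Sigma.map (fun n => T.tr (n + 1)) = 0 := by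
    have := congrArg (fun x => x ≫ T.σr) h3
    simp only [Category.assoc, zero_comp] at this
    rw [T.J_eq, Category.assoc, T.σ_σr, Category.comp_id] at this
    rw [Category.assoc]
    exact this
  obtain ⟨τ, hτ⟩ := T.claimM hE _ h4
  have h5 : θ = (τ ≫ rho T.T₀) ≫ Limits.Sigma.map (fun _ : ℕ => T.t₀) := by
    calc θ = (θ ≫ (𝟙 _ - sh0 (T.X 0))) ≫ rho (T.X 0) := by
          rw [Category.assoc, sh0_rho, Category.comp_id]
      _ = _ := by rw [hτ, Category.assoc, map_rho, ← Category.assoc]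
  rw [h2, h5, Category.assoc, T.map_t₀_J, comp_zero]

/-- data of a homotopy colimit of the tower with an element restricting to the `π n` -/
structure Hocolim where
  pt : D
  can : (∐ T.X) ⟶ pt
  δ : pt ⟶ (∐ T.X)⟦(1 : ℤ)⟧
  dist : Triangle.mk (𝟙 _ - T.sh) can δ ∈ distTriang D
  π : H.obj (op pt)
  hπ : ∀ n, pb H (Sigma.ι T.X n ≫ can) π = T.π n

namespace Hocolim

variable {T} (L : T.Hocolim)

lemma sh_can : T.sh ≫ L.can = L.can := by
  have h : (𝟙 _ - T.sh) ≫ L.can = 0 := comp_distTriang_mor_zero₁₂ _ L.dist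
  rw [Preadditive.sub_comp, Category.id_comp, sub_eq_zero] at h
  exact h.symm

lemma s_can (n : ℕ) : T.s n ≫ Sigma.ι T.X (n + 1) ≫ L.can = Sigma.ι T.X n ≫ L.can := by
  have := congrArg (fun x => Sigma.ι T.X n ≫ x) L.sh_can
  simp only [Tower.sh, Sigma.ι_desc_assoc, Category.assoc] at this
  exact this

lemma tr_can (n : ℕ) : T.tr n ≫ Sigma.ι T.X n ≫ L.can = Sigma.ι T.X 0 ≫ L.can := by
  induction n with
  | zero => simp
  | succ n ih => rw [Tower.tr_succ, Category.assoc, L.s_can, ih]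

/-- Step B -/
lemma comp_can_eq_zero (hE : Fac E)
    [PreservesLimitsOfShape (Discrete ℕ) H] {i : ι} (ψ : E i ⟶ ∐ T.X)
    (hψ : pb H (ψ ≫ L.can) L.π = 0) : ψ ≫ L.can = 0 := by
  obtain ⟨j, β, γ, hγ⟩ := hE T.X i ψ
  choose ξ hξ using fun n => T.surj (j n) (pb H (β n) (T.π n))
  have hβs : ∀ n, β n ≫ T.s n = ξ n ≫ T.tr (n + 1) := fun n => T.comp_s_eq (β n) (ξ n) (hξ n)
  have h1 : pb H (Sigma.desc ξ) (T.π 0) = pb H (Limits.Sigma.map β ≫ L.can) L.π := by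
    apply pb_ext_sigma H (fun n => E (j n))
    intro n
    rw [← pb_comp, ← pb_comp, Sigma.ι_desc, Sigma.ι_map_assoc, pb_comp, L.hπ, hξ]
  have h2 : pb H (γ ≫ Sigma.desc ξ) (T.π 0) = 0 := by
    rw [pb_comp, h1, ← pb_comp, ← Category.assoc, ← hγ, hψ]
  have h3 : (γ ≫ Sigma.desc ξ) ≫ T.s 0 = 0 := T.kill 0 i _ h2
  have h4 : Limits.Sigma.map β ≫ L.can = Sigma.desc ξ ≫ Sigma.ι T.X 0 ≫ L.can := by
    apply Sigma.hom_ext
    intro n
    rw [Sigma.ι_map_assoc, Sigma.ι_desc_assoc, ← L.s_can, ← Category.assoc, hβs, Category.assoc,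
      L.tr_can]
  rw [hγ, Category.assoc, h4, ← L.s_can 0, ← Category.assoc, ← Category.assoc, h3, zero_comp]

/-- the key claim: `Hom(E i, hocolim) ⟶ H (E i)` is injective -/
lemma eq_zero_of_pb_eq_zero (hE : Fac E)
    (hsh : ∀ i, ∃ i', Nonempty (E i' ≅ (E i)⟦(-1 : ℤ)⟧))
    [PreservesLimitsOfShape (Discrete ℕ) H] {i : ι} (φ : E i ⟶ L.pt)
    (hφ : pb H φ L.π = 0) : φ = 0 := by
  obtain ⟨i', ⟨e⟩⟩ := hsh i
  have hδ : L.δ ≫ (𝟙 _ - T.sh)⟦(1 : ℤ)⟧' = 0 := comp_distTriang_mor_zero₃₁ _ L.dist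
  have h1 : (e.hom ≫ unshift (φ ≫ L.δ)) ≫ (𝟙 _ - T.sh) = 0 := by
    rw [Category.assoc, ← unshift_comp, Category.assoc, hδ, comp_zero, unshift_zero, comp_zero]
  have h2 := T.eq_zero_of_comp_one_sub_sh hE _ h1
  have h3 : unshift (φ ≫ L.δ) = 0 := by
    rw [← cancel_epi e.hom, h2, comp_zero]
  have h4 : φ ≫ L.δ = 0 := eq_zero_of_unshift _ h3
  obtain ⟨ψ, hψ⟩ : ∃ ψ : E i ⟶ ∐ T.X, φ = ψ ≫ L.can := Triangle.coyoneda_exact₃ _ L.dist φ h4
  rw [hψ]
  apply L.comp_can_eq_zero hE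
  rw [← hψ, hφ]

theorem bijective (hE : Fac E)
    (hsh : ∀ i, ∃ i', Nonempty (E i' ≅ (E i)⟦(-1 : ℤ)⟧))
    [PreservesLimitsOfShape (Discrete ℕ) H] (i : ι) :
    Function.Bijective (fun φ : E i ⟶ L.pt => pb H φ L.π) := by
  constructor
  · intro φ₁ φ₂ h
    have h' : pb H φ₁ L.π = pb H φ₂ L.π := h
    rw [← sub_eq_zero]
    apply L.eq_zero_of_pb_eq_zero hE hsh
    rw [pb_sub_map, h', sub_self]
  · intro x
    obtain ⟨ξ, hξ⟩ := T.surj i x
    refine ⟨ξ ≫ Sigma.ι T.X 0 ≫ L.can, ?_⟩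
    show pb H (ξ ≫ Sigma.ι T.X 0 ≫ L.can) L.π = x
    rw [pb_comp, L.hπ, hξ]

end Hocolim

end Tower

end Tower

end Groth.Agent.Lib.Helper1.Brown
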