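import Mathlib
import Groth.Agent.Lib.Helper1ClosedPC2
set_option backward.isDefEq.respectTransparency.types false
set_option autoImplicit false
set_option linter.style.haveILetI false
set_option maxHeartbeats 400000
universe u
open CategoryTheory CategoryTheory.Limits AlgebraicGeometry Opposite TopologicalSpace Pretriangulated

attribute [local instance] HasDerivedCategory.standard

namespace Groth.Agent.Lib.Helper1.ClosedPC

open Groth.Agent.Lib.Helper1.SPL Groth.Agent.Lib.Helper1.Sky ZeroObject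
open Groth.Agent.S14388 DerivedCategory

variable {X : Scheme.{u}}

/-- `m`-pseudo-coherent, pointwise local presentation form -/
def PCm (X : Scheme.{u}) (m : ℤ) : ObjectProperty (DCoh.D X) := fun K => ∀ x : X, HasPresM m K x

instance (m : ℤ) : (PCm X m).IsClosedUnderIsomorphisms where
  of_iso e h := fun x => (h x).of_iso e

instance (m : ℤ) : (PCm X m).ContainsZero where
  exists_zero := ⟨0, isZero_zero _, fun x => pcAll_of_isZero _ (isZero_zero _) m x⟩

instance (m : ℤ) : (PCm X m).IsTriangulatedClosed₂ := .mk' (fun T hT h₁ h₃ x =>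
  hasPresM_obj₃ m T.invRotate (inv_rot_of_distTriang _ hT) x
    (hasPresM_shift m (-1) (m + 1) (by ring) T.obj₃ x (h₃ x)) (h₁ x))

instance (m : ℤ) : (PCm X m).IsClosedUnderBinaryProducts where
  limitsOfShape_le := by
    rintro Y ⟨p⟩
    refine (PCm X m).prop_of_iso ?_ ((PCm X m).ext_of_isTriangulatedClosed₂ _
      (binaryProductTriangle_distinguished _ _)
      (p.prop_diag_obj (.mk .left)) (p.prop_diag_obj (.mk .right)))
    exact IsLimit.conePointUniqueUpToIso (prodIsProd _ _)
      ((IsLimit.postcomposeHomEquiv (diagramIsoPair p.diag) _).2 p.isLimit)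

instance (m : ℤ) : (PCm X m).IsClosedUnderFiniteProducts := .mk'

lemma pcm_sigma (m : ℤ) {n : ℕ} (f : Fin n → DCoh.D X) (h : ∀ j, PCm X m (f j)) :
    PCm X m (∐ f) :=
  (PCm X m).prop_of_iso ((biproduct.isoProduct f).symm ≪≫ biproduct.isoCoproduct f)
    ((PCm X m).prop_product h)

lemma pcm_of_le {m m' : ℤ} (h : m ≤ m') (K : DCoh.D X) (hK : PCm X m K) : PCm X m' K :=
  fun x => (hK x).of_le h

lemma pcm_resD (m : ℤ) (K : DCoh.D X) (h : PCm X m K) {U : Scheme.{u}} (j : U ⟶ X)
    [IsOpenImmersion j] : PCm U m ((resD j).obj K) := fun y => hasPresM_resD j m K y (h (j y))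

lemma pcm_of_resD (m : ℤ) (K : DCoh.D X)
    (h : ∀ x : X, ∃ W : X.Opens, x ∈ W ∧ PCm W m ((resD W.ι).obj K)) : PCm X m K := by
  intro x
  obtain ⟨W, hxW, hW⟩ := h x
  exact hasPresM_of_resD W.ι m K ⟨x, hxW⟩ (hW ⟨x, hxW⟩)

lemma pcm_single_shift (m : ℤ) (N : X.Modules) (j : ℤ) (h : PCm X (m - j) (DCoh.inD X N)) :
    PCm X m ((DerivedCategory.singleFunctor X.Modules j).obj N) := by
  have e := ((DerivedCategory.singleFunctors X.Modules).shiftIso (-j) j 0 (by omega)).app N
  intro x
  exact (hasPresM_shift (m - j) (-j) m (by ring) _ x (h x)).of_iso e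

section push

variable {Z : Scheme.{u}} (i : Z ⟶ X) [IsClosedImmersion i]

/-- level hypothesis: `i_* O_Z` is `m`-pseudo-coherent -/
def HOm (m : ℤ) : Prop :=
  PCm X m (DCoh.inD X ((Scheme.Modules.pushforward i).obj (Coh.structureModule Z)))

variable {i} in
lemma HOm.restrict {m : ℤ} (hO : HOm i m) (W : X.Opens) : HOm (i ∣_ W) m := by
  have h1 := pcm_resD m _ hO W.ι
  exact (PCm _ m).prop_of_iso (resPushSingleIso i W (Coh.structureModule Z) ≪≫
    (DerivedCategory.singleFunctor _ 0).mapIso ((Scheme.Modules.pushforward (i ∣_ W)).mapIso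
      (Scheme.Modules.restrictUnitIso (i ⁻¹ᵁ W).ι))) h1

variable {i} in
lemma HOm.of_le {m m' : ℤ} (hO : HOm i m) (h : m ≤ m') : HOm i m' := pcm_of_le h _ hO

variable {i} in
lemma pcm_push_freeMod {m : ℤ} (hO : HOm i m) (n : ℕ) :
    PCm X m (DCoh.inD X ((Scheme.Modules.pushforward i).obj (FlatMod.freeMod Z n))) := by
  let Φ : Z.Modules ⥤ DCoh.D X :=
    Scheme.Modules.pushforward i ⋙ DerivedCategory.singleFunctor X.Modules 0
  have e : Φ.obj (FlatMod.freeMod Z n) ≅ ∐ fun _ : Fin n => Φ.obj (Coh.structureModule Z) :=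
    PreservesCoproduct.iso Φ _
  exact (PCm X m).prop_of_iso e.symm (pcm_sigma m _ (fun _ => hO))

variable {i} in
lemma pcm_push_of_isFinLocFree {m : ℤ} (hO : HOm i m) (P : Z.Modules)
    (hP : FlatMod.IsFinLocFree P) :
    PCm X m (DCoh.inD X ((Scheme.Modules.pushforward i).obj P)) := by
  refine pcm_of_resD m _ (fun x => ?_)
  obtain ⟨W, hxW, n, ⟨e⟩⟩ := exists_opens_free i P hP x
  refine ⟨W, hxW, ?_⟩
  exact (PCm _ m).prop_of_iso ((resPushSingleIso i W P ≪≫
    (DerivedCategory.singleFunctor _ 0).mapIso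
      ((Scheme.Modules.pushforward (i ∣_ W)).mapIso e)).symm)
    (pcm_push_freeMod (hO.restrict W) n)

variable {i} in
/-- `i_*` of a finite locally free module placed in degree `n` -/
lemma pcm_pushD_single {m n : ℤ} (hO : HOm i (m - n)) (P : Z.Modules)
    (hP : FlatMod.IsFinLocFree P) :
    PCm X m ((pushD i).obj ((DerivedCategory.singleFunctor Z.Modules n).obj P)) := by
  have e := ((Scheme.Modules.pushforward i).mapDerivedCategorySingleFunctor n).app P
  exact (PCm X m).prop_of_iso e.symm
    (pcm_single_shift m _ n (pcm_push_of_isFinLocFree hO P hP))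

end push

section LemmaP

section abstract

universe w v u'

variable {A : Type u'} [Category.{v} A] [Abelian A] [HasDerivedCategory.{w} A]

/-- an epimorphism placed in degree `n` is an isomorphism on `H^i`, `i > n` and an epimorphism on
`H^n` -/
lemma propM_singleFunctor_map {P M : A} (π : P ⟶ M) [Epi π] (n : ℤ) :
    PropM n ((DerivedCategory.singleFunctor A n).map π) := by
  refine ⟨fun i hi => ?_, ?_⟩
  · have h1 : IsZero ((DerivedCategory.homologyFunctor A i).obj
        ((DerivedCategory.singleFunctor A n).obj P)) :=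
      DerivedCategory.isZero_of_isLE _ n i hi
    have h2 : IsZero ((DerivedCategory.homologyFunctor A i).obj
        ((DerivedCategory.singleFunctor A n).obj M)) :=
      DerivedCategory.isZero_of_isLE _ n i hi
    exact ⟨⟨0, h1.eq_of_src _ _, h2.eq_of_src _ _⟩⟩
  · have h := (DerivedCategory.singleFunctorCompHomologyFunctorIso A n).hom.naturality π
    have h' : (DerivedCategory.homologyFunctor A n).map ((DerivedCategory.singleFunctor A n).map π)
        = ((DerivedCategory.singleFunctorCompHomologyFunctorIso A n).app P).hom ≫ π ≫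
          ((DerivedCategory.singleFunctorCompHomologyFunctorIso A n).app M).inv := by
      have h2 : (DerivedCategory.homologyFunctor A n).map
          ((DerivedCategory.singleFunctor A n).map π) ≫
          ((DerivedCategory.singleFunctorCompHomologyFunctorIso A n).app M).hom =
          ((DerivedCategory.singleFunctorCompHomologyFunctorIso A n).app P).hom ≫ π := h
      rw [← Category.assoc, ← h2, Category.assoc, Iso.hom_inv_id, Category.comp_id]
    rw [h']
    infer_instance

end abstract

lemma isStrictlyPerfect_single' (P : X.Modules) (hP : FlatMod.IsFinLocFree P) (n : ℤ) :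
    DCoh.IsStrictlyPerfect ((HomologicalComplex.single X.Modules (ComplexShape.up ℤ) n).obj P) := by
  refine ⟨⟨n, n, fun i hi => ?_⟩, fun i => ?_⟩
  · exact HomologicalComplex.isZero_single_obj_X _ _ _ _ (by omega)
  · by_cases hi : i = n
    · subst hi
      exact Groth.Agent.Lib.Helper1.FLF.isFinLocFree_of_iso
        (HomologicalComplex.singleObjXSelf (ComplexShape.up ℤ) i P).symm hP
    · exact isFinLocFree_of_isZero _ (HomologicalComplex.isZero_single_obj_X _ _ _ _ hi)

/-- restriction of a module placed in degree `n` -/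
noncomputable def resDSingleIso' {U : Scheme.{u}} (j : U ⟶ X) [IsOpenImmersion j] (F : X.Modules)
    (n : ℤ) :
    (resD j).obj ((DerivedCategory.singleFunctor X.Modules n).obj F) ≅
      (DerivedCategory.singleFunctor U.Modules n).obj (F.restrict j) :=
  ((Scheme.Modules.restrictFunctor j).mapDerivedCategorySingleFunctor n).app F

/-- cohomology commutes with restriction to an open -/
noncomputable def homologyResIso {U : Scheme.{u}} (j : U ⟶ X) [IsOpenImmersion j] (K : DCoh.D X)
    (n : ℤ) : DCoh.HD ((resD j).obj K) n ≅ (DCoh.HD K n).restrict j :=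
  (Groth.Agent.Lib.Helper17.Hyp.homologyNatIso (Scheme.Modules.restrictFunctor j) n).app K

lemma exists_single_pres_comp {U U' : Scheme.{u}} (j : U ⟶ X) (j' : U' ⟶ X) (i : U' ⟶ U)
    [IsOpenImmersion j] [IsOpenImmersion j'] [IsOpenImmersion i] (hi : i ≫ j = j')
    (n : ℤ) (K : DCoh.D X) (M : U.Modules)
    (α : (DerivedCategory.singleFunctor _ n).obj M ⟶ (resD j).obj K) (hα : PropM n α) :
    ∃ α' : (DerivedCategory.singleFunctor _ n).obj (M.restrict i) ⟶ (resD j').obj K,
      PropM n α' := by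
  subst hi
  refine ⟨(resDSingleIso' i M n).inv ≫ (resD i).map α ≫ (resDComp i j).inv.app K, ?_⟩
  exact propM_comp n (propM_of_isIso n _)
    (propM_comp n (propM_mapDerivedCategory _ n α hα) (propM_of_isIso n _))

open Groth.Agent.Lib.Helper23.FinType in
/-- **Lemma P**: an object with vanishing cohomology above `n` and `H^n` of finite type receives
locally an `n`-connected map from a finite locally free module placed in degree `n` -/
theorem exists_single_presentation (E : DCoh.D X) (n : ℤ)
    (hv : ∀ j : ℤ, n < j → IsZero (DCoh.HD E j)) (hF : CohB1.IsFT (DCoh.HD E n)) (x : X) :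
    ∃ V : X.Opens, x ∈ V ∧ ∃ (M : (V : Scheme.{u}).Modules)
      (α : (DerivedCategory.singleFunctor _ n).obj M ⟶ (resD V.ι).obj E),
        FlatMod.IsFinLocFree M ∧ PropM n α := by
  haveI := hF
  obtain ⟨ι, U, G, hG, hU, -⟩ := exists_isOpenCover_generatingSections (DCoh.HD E n)
  have hx : x ∈ (⨆ i, U i : X.Opens) := by rw [hU.iSup_eq_top]; trivial
  obtain ⟨i₀, hxi⟩ := TopologicalSpace.Opens.mem_iSup.1 hx
  haveI := (hG i₀).finite
  let U₁ : X.Opens := U i₀
  let F₀ : (U₁ : Scheme.{u}).Modules :=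
    SheafOfModules.free (R := (U₁ : Scheme.{u}).ringCatSheaf) (G i₀).I
  let π : F₀ ⟶ (DCoh.HD E n).restrict U₁.ι := (G i₀).π
  haveI hπ : Epi π := (G i₀).epi
  have hF₀ : FlatMod.IsFinLocFree F₀ := isFinLocFree_free (G i₀).I
  let E' : DCoh.D (U₁ : Scheme.{u}) := (resD U₁.ι).obj E
  let eH : DCoh.HD E' n ≅ (DCoh.HD E n).restrict U₁.ι := homologyResIso U₁.ι E n
  have hv' : ∀ j : ℤ, n < j → IsZero (DCoh.HD E' j) := fun j hj =>
    IsZero.of_iso ((Scheme.Modules.restrictFunctor U₁.ι).map_isZero (hv j hj))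
      (homologyResIso U₁.ι E j)
  haveI hLE : E'.IsLE n := (DerivedCategory.isLE_iff E' n).2 hv'
  let β : E' ⟶ (tt.truncGE n).obj E' := (tt.truncGEπ n).app E'
  have hβiso : ∀ i : ℤ, n ≤ i → IsIso ((homologyFunctor _ i).map β) := fun i hi =>
    isIso_homology_truncGEπ n i hi E'
  have hβ : PropM n β := ⟨fun i hi => hβiso i hi.le, by haveI := hβiso n le_rfl; infer_instance⟩
  have hβ' : PropM (n - 1) β := by
    refine ⟨fun i hi => hβiso i (by omega), ?_⟩
    have hz : IsZero ((homologyFunctor _ (n - 1)).obj ((tt.truncGE n).obj E')) :=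
      DerivedCategory.isZero_of_isGE _ n (n - 1) (by omega)
    exact ⟨fun g h _ => hz.eq_of_src _ _⟩
  haveI hQGE : ((tt.truncGE n).obj E').IsGE n := inferInstance
  haveI hQLE : ((tt.truncGE n).obj E').IsLE n := inferInstance
  obtain ⟨eQ⟩ := Groth.Agent.S0973.iso_single_of_amp ((tt.truncGE n).obj E') n
  haveI := hβiso n le_rfl
  let eH' : (homologyFunctor _ n).obj ((tt.truncGE n).obj E') ≅ DCoh.HD E' n :=
    (asIso ((homologyFunctor _ n).map β)).symm
  let e : (tt.truncGE n).obj E' ≅ (singleFunctor _ n).obj (DCoh.HD E' n) :=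
    eQ ≪≫ (singleFunctor _ n).mapIso eH'
  let S : CochainComplex (U₁ : Scheme.{u}).Modules ℤ :=
    (HomologicalComplex.single _ (ComplexShape.up ℤ) n).obj F₀
  have hS : DCoh.IsStrictlyPerfect S := isStrictlyPerfect_single' F₀ hF₀ n
  have hSa : ∀ i, i < n → IsZero (S.X i) := fun i hi =>
    HomologicalComplex.isZero_single_obj_X _ _ _ _ (by omega)
  let φ₀ : (singleFunctor _ n).obj F₀ ⟶ (tt.truncGE n).obj E' :=
    (singleFunctor _ n).map (π ≫ eH.inv) ≫ e.inv
  have hφ₀ : PropM n φ₀ :=
    propM_comp n (propM_singleFunctor_map (π ≫ eH.inv) n) (propM_of_isIso n _)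
  let φ : DerivedCategory.Q.obj S ⟶ (tt.truncGE n).obj E' :=
    ((DerivedCategory.singleFunctorIsoCompQ _ n).app F₀).inv ≫ φ₀
  have hφ : PropM n φ := propM_comp n (propM_of_isIso n _) hφ₀
  obtain ⟨U₂, j₂, hj₂, hx₂, ψ, hψ⟩ := exists_lift_D β n hβ hS hSa φ
    (⟨x, hxi⟩ : (U₁ : Scheme.{u}))
  haveI := hj₂
  -- `ψ` is `n`-connected
  have hψn : Epi ((homologyFunctor _ n).map ψ) := by
    have h1 := (propM_mapDerivedCategory (Scheme.Modules.restrictFunctor j₂) (n - 1) β hβ').1 n
      (by omega)
    have h2 := (propM_mapDerivedCategory (Scheme.Modules.restrictFunctor j₂) n φ hφ).2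
    have h3 : (homologyFunctor _ n).map ψ ≫ (homologyFunctor _ n).map ((resD j₂).map β) =
        (homologyFunctor _ n).map ((resD j₂).map φ) := by
      rw [← Functor.map_comp, hψ]
    haveI := h1
    haveI := h2
    have h4 : (homologyFunctor _ n).map ψ = (homologyFunctor _ n).map ((resD j₂).map φ) ≫
        inv ((homologyFunctor _ n).map ((resD j₂).map β)) := by
      rw [← h3, Category.assoc, IsIso.hom_inv_id, Category.comp_id]
    rw [h4]
    infer_instance
  -- the presentation over `U₂`
  let M₂ : U₂.Modules := F₀.restrict j₂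
  let α₂ : (singleFunctor _ n).obj M₂ ⟶ (resD (j₂ ≫ U₁.ι)).obj E :=
    (resDSingleIso' j₂ F₀ n).inv ≫
      (resD j₂).map ((DerivedCategory.singleFunctorIsoCompQ _ n).app F₀).hom ≫ ψ ≫
        (resDComp j₂ U₁.ι).inv.app E
  have hα₂ : PropM n α₂ := by
    refine ⟨fun i hi => ?_, ?_⟩
    · have h1 : IsZero ((homologyFunctor _ i).obj ((singleFunctor U₂.Modules n).obj M₂)) :=
        DerivedCategory.isZero_of_isLE _ n i hi
      have h2 : IsZero ((homologyFunctor _ i).obj ((resD (j₂ ≫ U₁.ι)).obj E)) :=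
        IsZero.of_iso ((Scheme.Modules.restrictFunctor (j₂ ≫ U₁.ι)).map_isZero (hv i hi))
          (homologyResIso (j₂ ≫ U₁.ι) E i)
      exact ⟨⟨0, h1.eq_of_src _ _, h2.eq_of_src _ _⟩⟩
    · show Epi ((homologyFunctor _ n).map α₂)
      simp only [α₂, Functor.map_comp]
      have i1 : Epi ((homologyFunctor U₂.Modules n).map (resDSingleIso' j₂ F₀ n).inv) :=
        inferInstance
      have i2 : Epi ((homologyFunctor U₂.Modules n).map
          ((resD j₂).map ((singleFunctorIsoCompQ (U₁ : Scheme.{u}).Modules n).app F₀).hom)) :=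
        inferInstance
      have i3 : Epi ((homologyFunctor U₂.Modules n).map ((resDComp j₂ U₁.ι).inv.app E)) :=
        inferInstance
      exact epi_comp' i1 (epi_comp' i2 (epi_comp' hψn i3))
  obtain ⟨x₂, hx₂'⟩ := hx₂
  let j : U₂ ⟶ X := j₂ ≫ U₁.ι
  have hxj : x ∈ j.opensRange := ⟨x₂, by
    change U₁.ι (j₂ x₂) = x
    rw [hx₂']
    rfl⟩
  obtain ⟨α', hα'⟩ := exists_single_pres_comp j j.opensRange.ι j.isoOpensRange.inv (by simp)
    n E M₂ α₂ hα₂
  exact ⟨j.opensRange, hxj, _, α', isFinLocFree_restrict _ M₂ (isFinLocFree_restrict _ F₀ hF₀), hα'⟩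

end LemmaP

section LevelMain

/-- level-wise (⇐) of S1102, by descending induction on the top degree -/
theorem hasPresM_of_pushD_level_aux (k : ℕ) : ∀ {Z X : Scheme.{u}} (i : Z ⟶ X)
    [IsClosedImmersion i] (E : DCoh.D Z) (n m : ℤ), n - m < k → HOm i (m + 1 - n) →
    (∀ j : ℤ, n < j → IsZero (DCoh.HD E j)) →
    (∀ x, HasPresM m ((pushD i).obj E) x) → ∀ z, HasPresM m E z := by
  induction k with
  | zero =>
    intro Z X i _ E n m hk hO hv h z
    exact (isPseudoCoherentD_iff_hasPresM m _).1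
      (isPseudoCoherentD_of_isZero_homology _ m (fun j hj => hv j (by omega))) z
  | succ k ih =>
    intro Z X i _ E n m hk hO hv h z
    by_cases hnm : n < m
    · exact (isPseudoCoherentD_iff_hasPresM m _).1
        (isPseudoCoherentD_of_isZero_homology _ m (fun j hj => hv j (by omega))) z
    · have hmn : m ≤ n := by omega
      have hv' : ∀ j : ℤ, n < j → IsZero (DCoh.HD ((pushD i).obj E) j) := fun j hj =>
        IsZero.of_iso ((Scheme.Modules.pushforward i).map_isZero (hv j hj)) (homologyPushIso i E j)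
      have hFT := isFT_HD_of_hasPresM n _ (fun x => (h x).of_le hmn) hv'
      have hFT' : CohB1.IsFT (DCoh.HD E n) :=
        isFT_of_isFT_push i _ (isFT_of_iso' (homologyPushIso i E n) hFT)
      obtain ⟨V, hzV, M, α, hM, hα⟩ := exists_single_presentation E n hv hFT' z
      obtain ⟨W, rfl⟩ := Groth.Agent.Lib.Helper27ClosedTransfer.exists_preimage_eq i V
      obtain ⟨C, g, δ, hT⟩ := distinguished_cocone_triangle α
      have hC := (propM_iff_of_distTriang n _ hT).1 hα
      have hT' := (pushD (i ∣_ W)).map_distinguished _ hT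
      have h2 : ∀ y : W, HasPresM m
          ((pushD (i ∣_ W)).obj ((resD (i ⁻¹ᵁ W).ι).obj E)) y := fun y =>
        (hasPresM_resD W.ι m _ y (h (W.ι y))).of_iso ((pushResIso i W).app E)
      have hO' : HOm (i ∣_ W) (m + 1 - n) := hO.restrict W
      have h3 : ∀ y : W, HasPresM m ((pushD (i ∣_ W)).obj C) y := fun y =>
        hasPresM_obj₃ m _ hT' y (pcm_pushD_single hO' M hM y) (h2 y)
      have h4 := ih (i ∣_ W) C (n - 1) m (by omega) (hO'.of_le (by omega))
        (fun j hj => hC j (by omega)) h3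
      have hMall : ∀ y, HasPresM m ((DerivedCategory.singleFunctor _ n).obj M) y := fun y =>
        pcAll_single_shift M (fun m' y' => hasPresM_single_of_isFinLocFree' M hM m' y') n m y
      have h5 : HasPresM m ((resD (i ⁻¹ᵁ W).ι).obj E) ⟨z, hzV⟩ :=
        hasPresM_obj₃ m (Triangle.mk α g δ).invRotate (inv_rot_of_distTriang _ hT) _
          (hasPresM_shift m (-1) (m + 1) (by ring) _ _ (h4 _)) (hMall _)
      exact hasPresM_of_resD (i ⁻¹ᵁ W).ι m E ⟨z, hzV⟩ h5

variable {Z : Scheme.{u}} (i : Z ⟶ X) [IsClosedImmersion i]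

/-- **level-wise S1102 (⇐)**: if `E` has no cohomology above `b`, `i_* O_Z` is
`(m + 1 - b)`-pseudo-coherent and `i_* E` is `m`-pseudo-coherent, then `E` is
`m`-pseudo-coherent -/
theorem isPseudoCoherentD_of_pushD_level (E : DCoh.D Z) (m b : ℤ)
    (hv : ∀ j : ℤ, b < j → IsZero (DCoh.HD E j)) (hO : HOm i (m + 1 - b))
    (h : DCoh.IsPseudoCoherentD m ((pushD i).obj E)) : DCoh.IsPseudoCoherentD m E := by
  rw [isPseudoCoherentD_iff_hasPresM] at h ⊢
  exact hasPresM_of_pushD_level_aux (b - m + 1).toNat i E b m (by omega) hO hv h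

end LevelMain

end Groth.Agent.Lib.Helper1.ClosedPC
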