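import Mathlib
import Groth.Agent.Lib.Helper1ChartLevel2
import Groth.Agent.Lib.Helper1ClosedPCLevel
set_option backward.isDefEq.respectTransparency.types false
set_option autoImplicit false
set_option linter.style.haveILetI false
set_option maxHeartbeats 400000
universe u
open CategoryTheory CategoryTheory.Limits AlgebraicGeometry Opposite TopologicalSpace Pretriangulated

attribute [local instance] HasDerivedCategory.standard

namespace Groth.Agent.Lib.Helper1.ChartInd

open Groth.Agent.Lib.Helper1.SPL Groth.Agent.Lib.Helper1.Sky ZeroObject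
open Groth.Agent.Lib.Helper1.ClosedPC Groth.Agent.Lib.Helper1.ChartPC
open Groth.Agent.Lib.Helper1.KoszulPerf Groth.Agent.Lib.Helper1.TildePC
open Groth.Agent.Lib.Helper1.Restrict Groth.Agent.Lib.Helper1.RelPC Groth.Agent.Lib.Helper1.PC

section SpecLevel

variable {Q C : Type u} [CommRing Q] [CommRing C] (σ : Q →+* C)

/-- `Spec C ⟶ Spec Q` has `m`-pseudo-coherent structure sheaf direct image when `C` is an
`m`-pseudo-coherent `Q`-module -/
theorem hom_spec_of_pcj (m : ℤ) (hB : PCj σ m)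
    [IsClosedImmersion (Spec.map (CommRingCat.ofHom σ))] :
    HOm (Spec.map (CommRingCat.ofHom σ)) m := by
  have hnat : (Spec.map (CommRingCat.ofHom σ)).appTop =
      (Scheme.ΓSpecIso (CommRingCat.of Q)).hom ≫ CommRingCat.ofHom σ ≫
        (Scheme.ΓSpecIso (CommRingCat.of C)).inv := by
    rw [← Category.assoc, Iso.eq_comp_inv]
    exact Scheme.ΓSpecIso_naturality (CommRingCat.ofHom σ)
  have key : PCj (Spec.map (CommRingCat.ofHom σ)).appTop.hom m := by
    rw [hnat]
    simp only [CommRingCat.hom_comp]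
    exact pcj_comp_of_bpc _ _ (bpc_of_bijective _ (ConcreteCategory.bijective_of_isIso _)) m
      (pcj_comp_bijective _ _ (ConcreteCategory.bijective_of_isIso
        (Scheme.ΓSpecIso (CommRingCat.of C)).inv) m hB)
  have h1 := (isPC_push_structure_iff_pcj (Spec.map (CommRingCat.ofHom σ)) m).2 key
  intro x
  exact (isPseudoCoherentD_iff_hasPresM m _).1 h1 x

end SpecLevel

section CompLevel

variable {X Y S : Scheme.{u}} (f : X ⟶ Y) (g : Y ⟶ S) (E : DCoh.D X) (m : ℤ)

/-- level-wise cancellation, on affine opens -/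
theorem relPC_of_relPC_comp_level [LocallyOfFiniteType f] [LocallyOfFiniteType g] (b : ℤ)
    (hEb : ∀ j : ℤ, b < j → IsZero (DCoh.HD E j))
    (hg : DerSch.IsNPseudoCoherent g (m + 1 - b))
    {U : X.Opens} (hU : IsAffineOpen U) {V : Y.Opens} (hV : IsAffineOpen V) {W : S.Opens}
    (hW : IsAffineOpen W) (hUV : U ≤ f ⁻¹ᵁ V) (hVW : V ≤ g ⁻¹ᵁ W)
    (h : RelPC (f ≫ g) E m U.ι hW) : RelPC f E m U.ι hV := by
  haveI : IsAffine (U : Scheme.{u}) := hU
  obtain ⟨k, β, hβ⟩ := exists_isChart g hV hW hVW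
  have cβ := chartPC_of_isPseudoCoherentRel g _ _ hg hV hW hVW β hβ
  rw [chartPC_unit_iff_pcj hV β hβ.1] at cβ
  obtain ⟨n, φ, hφ⟩ := exists_isChart f hU hV hUV
  haveI := isClosedImmersion_chartImm' f hU hUV φ hφ
  have ha := chartImm_over f hU hV hUV φ hφ
  haveI hci : IsClosedImmersion (Spec.map (CommRingCat.ofHom (polyMap β n))) :=
    isClosedImmersion_specMap _ (polyMap_surjective β n hβ.1)
  haveI : IsClosedImmersion (cPoly β n) := hci
  have hc : HOm (cPoly β n) (m + 1 - b) :=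
    hom_spec_of_pcj (polyMap β n) _ (pcj_polyMap β n _ cβ)
  have hac : (DerSch.chartImm U φ ≫ cPoly β n) ≫ strV hW (n + k) = U.ι ≫ f ≫ g := by
    rw [Category.assoc, cPoly_strV g hV hW hVW β hβ n, ← Category.assoc, ha, Category.assoc]
  rw [relPC_iff_of_chart (f ≫ g) E m U.ι hW (DerSch.chartImm U φ ≫ cPoly β n) hac] at h
  rw [relPC_iff_of_chart f E m U.ι hV (DerSch.chartImm U φ) ha]
  refine isPseudoCoherentD_of_pushD_level (cPoly β n) _ m b (fun j hj => ?_) hc
    (isPseudoCoherentD_of_iso ((pushDComp (DerSch.chartImm U φ) (cPoly β n)).app _).symm h)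
  exact IsZero.of_iso ((Scheme.Modules.pushforward (DerSch.chartImm U φ)).map_isZero
    (IsZero.of_iso ((Scheme.Modules.restrictFunctor U.ι).map_isZero (hEb j hj))
      (homologyResIso U.ι E j))) (homologyPushIso (DerSch.chartImm U φ) _ j)

/-- **S6205** -/
theorem isPseudoCoherentRel_of_comp_level [LocallyOfFiniteType f] [LocallyOfFiniteType g]
    (b : ℤ) [E.IsLE b] (H : DerSch.IsPseudoCoherentRel (f ≫ g) m E)
    (hg : DerSch.IsNPseudoCoherent g (m + 1 - b)) : DerSch.IsPseudoCoherentRel f m E := by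
  have hEb : ∀ j : ℤ, b < j → IsZero (DCoh.HD E j) := fun j hj =>
    DerivedCategory.isZero_of_isLE E b j hj
  refine ⟨inferInstance, {V | ∃ W : S.affineOpens, (V : Y.Opens) ≤ g ⁻¹ᵁ (W : S.Opens)}, ?_,
    fun V hV => ⟨{U | (U : X.Opens) ≤ f ⁻¹ᵁ (V : Y.Opens)}, ?_, ?_⟩⟩
  · apply le_antisymm le_top
    intro y _
    obtain ⟨W, hW, hyW, -⟩ := Opens.isBasis_iff_nbhd.1 S.isBasis_affineOpens
      (show g.base y ∈ (⊤ : S.Opens) from trivial)
    obtain ⟨V, hV, hyV, hVW⟩ := Opens.isBasis_iff_nbhd.1 Y.isBasis_affineOpens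
      (show y ∈ g ⁻¹ᵁ (⟨W, hW⟩ : S.affineOpens).1 from hyW)
    exact Opens.mem_iSup.2 ⟨⟨V, hV⟩, Opens.mem_iSup.2 ⟨⟨⟨W, hW⟩, hVW⟩, hyV⟩⟩
  · apply le_antisymm
    · exact iSup₂_le fun U hU => hU
    · intro x hx
      obtain ⟨U, hU, hxU, hUV⟩ := Opens.isBasis_iff_nbhd.1 X.isBasis_affineOpens hx
      exact Opens.mem_iSup.2 ⟨⟨U, hU⟩, Opens.mem_iSup.2 ⟨hUV, hxU⟩⟩
  · obtain ⟨W, hVW⟩ := hV
    intro U _ h
    rw [← relPC_iff_exists_chartPC f E m U.2 V.2 h]
    refine relPC_of_relPC_comp_level f g E m b hEb hg U.2 V.2 W.2 h hVW ?_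
    exact relPC_of_isPseudoCoherentRel (f ≫ g) m E H U.2 W.2 (fun x hx => hVW (h hx))

end CompLevel

end Groth.Agent.Lib.Helper1.ChartInd
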