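import Mathlib
import Groth.Agent.Lib.Helper1ChartQC
set_option backward.isDefEq.respectTransparency.types false
set_option autoImplicit false
set_option linter.style.haveILetI false
set_option maxHeartbeats 400000
universe u
open CategoryTheory CategoryTheory.Limits AlgebraicGeometry Opposite TopologicalSpace

attribute [local instance] HasDerivedCategory.standard

namespace Groth.Agent.Lib.Helper1.ChartQC

open Groth.Agent.Lib.Helper1.SPL Groth.Agent.Lib.Helper1.Sky
open Groth.Agent.Lib.Helper23.QCohLocal Groth.Agent.Lib.Helper23.FinType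

variable {X : Scheme.{u}}

/-- per-`m` version: if `E` is `m`-pseudo-coherent relative to `f` then `H^q(E)` is quasi-coherent
for `q > m`. -/
theorem isQuasicoherent_HD_of_isPseudoCoherentRel {Y : Scheme.{u}} (f : X ⟶ Y) (E : DCoh.D X)
    (m q : ℤ) (hq : m < q) (hE : DerSch.IsPseudoCoherentRel f m E) :
    (DCoh.HD E q).IsQuasicoherent := by
  obtain ⟨-, 𝒱, h𝒱, hV⟩ := hE
  let G := DerivedCategory.Q.objPreimage E
  have eG : DCoh.toD X G ≅ E := DerivedCategory.Q.objObjPreimageIso E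
  have hloc : ∀ x : X, ∃ U : X.Opens, x ∈ U ∧
      ((DCoh.HD (DCoh.toD X G) q).restrict U.ι).IsQuasicoherent := by
    intro x
    have hx : f.base x ∈ (⨆ V ∈ 𝒱, (V : Y.Opens)) := by rw [h𝒱]; trivial
    simp only [Opens.mem_iSup] at hx
    obtain ⟨V, hV𝒱, hxV⟩ := hx
    obtain ⟨𝒰, h𝒰, hU⟩ := hV V hV𝒱
    have hx' : x ∈ (⨆ U ∈ 𝒰, (U : X.Opens)) := by rw [h𝒰]; exact hxV
    simp only [Opens.mem_iSup] at hx'
    obtain ⟨U, hU𝒰, hxU⟩ := hx'
    have hle : (U : X.Opens) ≤ f ⁻¹ᵁ (V : Y.Opens) := by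
      rw [← h𝒰]
      exact le_iSup₂ (f := fun (U : X.affineOpens) (_ : U ∈ 𝒰) => (U : X.Opens)) U hU𝒰
    obtain ⟨k, φ, hφ, hpc⟩ := hU U hU𝒰 hle
    refine ⟨U, hxU, ?_⟩
    haveI hcl := Groth.Agent.Lib.Helper1.ChartPC.isClosedImmersion_chartImm
      (U : X.Opens) U.2 φ hφ.1
    haveI := Groth.Agent.Lib.Helper17.FinLoc.preservesHomology_pushforward_of_isClosedImmersion
      (DerSch.chartImm (U : X.Opens) φ)
    have hK' := hpc G ⟨eG⟩
    haveI h1 := isQuasicoherent_HD_of_hasPresM _ m q hq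
      ((isPseudoCoherentD_iff_hasPresM _ _).1 hK')
    let C := (DCoh.restrictCx (U : X.Opens)).obj G
    have e2 : DCoh.HD (DCoh.toD _ ((DerSch.pushCx (DerSch.chartImm (U : X.Opens) φ)).obj C)) q ≅
        (Scheme.Modules.pushforward (DerSch.chartImm (U : X.Opens) φ)).obj (C.homology q) :=
      (DerivedCategory.homologyFunctorFactors _ q).app _ ≪≫
        (C.sc q).mapHomologyIso (Scheme.Modules.pushforward (DerSch.chartImm (U : X.Opens) φ))
    haveI := Groth.Agent.Lib.Helper23.TensorQCoh.isQuasicoherent_of_iso e2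
    haveI : (C.homology q).IsQuasicoherent :=
      isQuasicoherent_of_pushforward_chartImm (U : X.Opens) U.2 φ hφ.1 _ inferInstance
    exact Groth.Agent.Lib.Helper23.TensorQCoh.isQuasicoherent_of_iso
      (Groth.Agent.Lib.Helper1.ChartPC.homologyRestrictIso G (U : X.Opens) q).symm
  choose U hxU hU using hloc
  haveI : (DCoh.HD (DCoh.toD X G) q).IsQuasicoherent := by
    refine isQuasicoherent_of_open_cover _ U ?_ hU
    rw [IsOpenCover, eq_top_iff]
    intro x _
    exact Opens.mem_iSup.2 ⟨x, hxU x⟩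
  exact Groth.Agent.Lib.Helper23.TensorQCoh.isQuasicoherent_of_iso
    ((DerivedCategory.homologyFunctor _ q).mapIso eG)

end Groth.Agent.Lib.Helper1.ChartQC
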