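import Mathlib
import Groth.Agent.Lib.Helper1PT4
import Groth.Agent.Lib.Helper21ModTensor7
import Groth.Agent.Lib.Helper23PB
set_option backward.isDefEq.respectTransparency.types false

/-!
# helper1: the projection-formula map `E ⊗ f_* G ⟶ f_*(f^* E ⊗ G)` and its naturality
-/

set_option autoImplicit false
set_option linter.style.haveILetI false
set_option maxHeartbeats 400000
universe u
open CategoryTheory CategoryTheory.Limits AlgebraicGeometry TopologicalSpace Opposite
  MonoidalCategory TensorProduct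

namespace Groth.Agent.Lib.Helper1.Proj

open Groth.Agent.Lib.Helper1.PT Groth.Agent.Lib.Helper1.Sky Groth.Agent.Lib.Helper1.StalkTensor
  Groth.Agent.Lib.Helper21.ModTensor2 Groth.Agent.Lib.Helper23.PB

variable {X Y : Scheme.{u}} (f : X ⟶ Y)

/-- the projection-formula map on presheaves over `Y` -/
noncomputable def thP (E : Y.Modules) (G : X.Modules) :
    toPM E ⊗ toPM ((psh f).obj G) ⟶ toPM ((psh f).obj (tens ((plb f).obj E) G)) :=
  (toPMMap (un f E) ▷ toPM ((psh f).obj G)) ≫ nu f ((plb f).obj E) G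

/-- the projection-formula map `E ⊗ f_* G ⟶ f_*(f^* E ⊗ G)` -/
noncomputable def th (E : Y.Modules) (G : X.Modules) :
    tens E ((psh f).obj G) ⟶ (psh f).obj (tens ((plb f).obj E) G) :=
  ((adj Y.sheaf).homEquiv (toPM E ⊗ toPM ((psh f).obj G))
    ((psh f).obj (tens ((plb f).obj E) G))).symm (thP f E G)

lemma etaX_th (E : Y.Modules) (G : X.Modules) :
    etaX (toPM E ⊗ toPM ((psh f).obj G)) ≫ toPMMap (th f E G) = thP f E G := by
  have h := (adj Y.sheaf).homEquiv_unit (X := toPM E ⊗ toPM ((psh f).obj G))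
    (Y := (psh f).obj (tens ((plb f).obj E) G)) (f := th f E G)
  have h2 : (adj Y.sheaf).homEquiv _ _ (th f E G) = thP f E G :=
    Equiv.apply_symm_apply _ _
  exact h.symm.trans h2

lemma thP_naturality_left {E E' : Y.Modules} (φ : E ⟶ E') (G : X.Modules) :
    (toPMMap φ ▷ toPM ((psh f).obj G)) ≫ thP f E' G = thP f E G ≫
      toPMMap ((psh f).map ((DCoh.tensorBi.map ((plb f).map φ)).app G)) := by
  unfold thP
  rw [Category.assoc, ← nu_naturality_left, ← Category.assoc, ← Category.assoc,
    ← comp_whiskerRight, ← comp_whiskerRight, toPMMap_un_naturality]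

lemma thP_naturality_right (E : Y.Modules) {G G' : X.Modules} (g : G ⟶ G') :
    (toPM E ◁ toPMMap ((psh f).map g)) ≫ thP f E G' = thP f E G ≫
      toPMMap ((psh f).map ((DCoh.tensorBi.obj ((plb f).obj E)).map g)) := by
  unfold thP
  rw [Category.assoc, ← nu_naturality_right, ← Category.assoc, ← Category.assoc,
    whisker_exchange]

lemma th_naturality_left {E E' : Y.Modules} (φ : E ⟶ E') (G : X.Modules) :
    (DCoh.tensorBi.map φ).app ((psh f).obj G) ≫ th f E' G = th f E G ≫
      (psh f).map ((DCoh.tensorBi.map ((plb f).map φ)).app G) := by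
  apply shX_hom_ext (T := toPM E ⊗ toPM ((psh f).obj G))
  have h1 : etaX (toPM E ⊗ toPM ((psh f).obj G)) ≫
      toPMMap ((DCoh.tensorBi.map φ).app ((psh f).obj G) ≫ th f E' G) =
      (toPMMap φ ▷ toPM ((psh f).obj G)) ≫ thP f E' G := by
    have e1 := etaX_naturality (toPMMap φ ▷ toPM ((psh f).obj G))
    have e2 := etaX_th f E' G
    calc etaX (toPM E ⊗ toPM ((psh f).obj G)) ≫
          toPMMap ((DCoh.tensorBi.map φ).app ((psh f).obj G) ≫ th f E' G)
        = (etaX (toPM E ⊗ toPM ((psh f).obj G)) ≫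
            toPMMap (shX.map (toPMMap φ ▷ toPM ((psh f).obj G)))) ≫
            toPMMap (th f E' G) := (Category.assoc _ _ _).symm
      _ = ((toPMMap φ ▷ toPM ((psh f).obj G)) ≫ etaX (toPM E' ⊗ toPM ((psh f).obj G))) ≫
            toPMMap (th f E' G) := by rw [e1]
      _ = (toPMMap φ ▷ toPM ((psh f).obj G)) ≫ thP f E' G := by rw [Category.assoc, e2]
  have h2 : etaX (toPM E ⊗ toPM ((psh f).obj G)) ≫ toPMMap (th f E G ≫
      (psh f).map ((DCoh.tensorBi.map ((plb f).map φ)).app G)) =
      thP f E G ≫ toPMMap ((psh f).map ((DCoh.tensorBi.map ((plb f).map φ)).app G)) := by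
    have e2 := etaX_th f E G
    calc _ = (etaX (toPM E ⊗ toPM ((psh f).obj G)) ≫ toPMMap (th f E G)) ≫ toPMMap ((psh f).map
            ((DCoh.tensorBi.map ((plb f).map φ)).app G)) := (Category.assoc _ _ _).symm
      _ = _ := by rw [e2]
  exact h1.trans ((thP_naturality_left f φ G).trans h2.symm)

lemma th_naturality_right (E : Y.Modules) {G G' : X.Modules} (g : G ⟶ G') :
    (DCoh.tensorBi.obj E).map ((psh f).map g) ≫ th f E G' = th f E G ≫
      (psh f).map ((DCoh.tensorBi.obj ((plb f).obj E)).map g) := by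
  apply shX_hom_ext (T := toPM E ⊗ toPM ((psh f).obj G))
  let a : tens E ((psh f).obj G) ⟶ tens E ((psh f).obj G') :=
    (DCoh.tensorBi.obj E).map ((psh f).map g)
  have h1 : etaX (toPM E ⊗ toPM ((psh f).obj G)) ≫ toPMMap (a ≫ th f E G') =
      (toPM E ◁ toPMMap ((psh f).map g)) ≫ thP f E G' := by
    have e1 := etaX_naturality (toPM E ◁ toPMMap ((psh f).map g))
    have e2 := etaX_th f E G'
    calc etaX (toPM E ⊗ toPM ((psh f).obj G)) ≫ toPMMap (a ≫ th f E G')
        = (etaX (toPM E ⊗ toPM ((psh f).obj G)) ≫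
            toPMMap (shX.map (toPM E ◁ toPMMap ((psh f).map g)))) ≫
            toPMMap (th f E G') := (Category.assoc _ _ _).symm
      _ = ((toPM E ◁ toPMMap ((psh f).map g)) ≫ etaX (toPM E ⊗ toPM ((psh f).obj G'))) ≫
            toPMMap (th f E G') := by rw [e1]
      _ = (toPM E ◁ toPMMap ((psh f).map g)) ≫ thP f E G' := by rw [Category.assoc, e2]
  have h2 : etaX (toPM E ⊗ toPM ((psh f).obj G)) ≫ toPMMap (th f E G ≫
      (psh f).map ((DCoh.tensorBi.obj ((plb f).obj E)).map g)) =
      thP f E G ≫ toPMMap ((psh f).map ((DCoh.tensorBi.obj ((plb f).obj E)).map g)) := by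
    have e2 := etaX_th f E G
    calc _ = (etaX (toPM E ⊗ toPM ((psh f).obj G)) ≫ toPMMap (th f E G)) ≫ toPMMap ((psh f).map
            ((DCoh.tensorBi.obj ((plb f).obj E)).map g)) := (Category.assoc _ _ _).symm
      _ = _ := by rw [e2]
  exact h1.trans ((thP_naturality_right f E g).trans h2.symm)

/-! ### the unit case -/

/-- left unitor on modules -/
noncomputable def lun {Z : Scheme.{u}} (M : Z.Modules) : tens (Coh.structureModule Z) M ≅ M :=
  (Groth.Agent.Lib.Helper21.ModTensor7.tLUnitIso Z.sheaf).app M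

lemma lun_hom {Z : Scheme.{u}} (M : Z.Modules) :
    (lun M).hom = ((adj Z.sheaf).homEquiv (toPM (Coh.structureModule Z) ⊗ toPM M) M).symm
      (λ_ (toPM M)).hom := by
  rw [Adjunction.homEquiv_counit]
  rfl

lemma etaX_lun {Z : Scheme.{u}} (M : Z.Modules) :
    etaX (toPM (Coh.structureModule Z) ⊗ toPM M) ≫ toPMMap (lun M).hom = (λ_ (toPM M)).hom := by
  have h := (adj Z.sheaf).homEquiv_unit (X := toPM (Coh.structureModule Z) ⊗ toPM M)
    (Y := M) (f := (lun M).hom)
  have h2 : (adj Z.sheaf).homEquiv _ _ (lun M).hom = (λ_ (toPM M)).hom := by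
    rw [lun_hom]; exact Equiv.apply_symm_apply _ _
  exact h.symm.trans h2

lemma un_pullbackUnitHom :
    un f (Coh.structureModule Y) ≫ (psh f).map (pullbackUnitHom f) =
      SheafOfModules.unitToPushforwardObjUnit.{u} f.toRingCatSheafHom := by
  have h := (ppAdj f).homEquiv_unit (X := Coh.structureModule Y) (Y := Coh.structureModule X)
    (f := pullbackUnitHom f)
  exact h.symm.trans
    (SheafOfModules.pullbackPushforwardAdjunction_homEquiv_pullbackObjUnitToUnit.{u}
      f.toRingCatSheafHom)

lemma pullbackUnitHom_un_apply (V : Y.Opens) (s : (toPM (Coh.structureModule Y)).obj (op V)) :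
    (toPMMap (pullbackUnitHom f)).app (op (f ⁻¹ᵁ V))
      ((toPMMap (un f (Coh.structureModule Y))).app (op V) s) = (f.app V).hom s := by
  have h := congrArg (fun φ => (toPMMap φ).app (op V) s) (un_pullbackUnitHom f)
  exact h

lemma lun_app_tm {Z : Scheme.{u}} (M : Z.Modules) (U : Z.Opens)
    (r : (toPM (Coh.structureModule Z)).obj (op U)) (m : (toPM M).obj (op U)) :
    (toPMMap (lun M).hom).app (op U)
      ((etaX (toPM (Coh.structureModule Z) ⊗ toPM M)).app (op U)
        (tm (toPM (Coh.structureModule Z)) (toPM M) r m)) = r • m := by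
  have h := congrArg (fun φ => (φ.app (op U)).hom (tm (toPM (Coh.structureModule Z)) (toPM M) r m))
    (etaX_lun M)
  refine h.trans ?_
  exact ModuleCat.MonoidalCategory.leftUnitor_hom_apply (R := ↑(Z.presheaf.obj (op U)))
    (M := (toPM M).obj (op U)) r m

variable (G : X.Modules)

lemma thP_unit :
    thP f (Coh.structureModule Y) G ≫
      toPMMap ((psh f).map ((DCoh.tensorBi.map (pullbackUnitHom f)).app G)) ≫
        toPMMap ((psh f).map (lun G).hom) = (λ_ (toPM ((psh f).obj G))).hom := by
  apply PresheafOfModules.hom_ext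
  intro V
  apply ModuleCat.MonoidalCategory.tensor_ext
  intro s g
  have hR : ((λ_ (toPM ((psh f).obj G))).hom.app V).hom (s ⊗ₜ g) = s • g :=
    ModuleCat.MonoidalCategory.leftUnitor_hom_apply (R := ↑(Y.presheaf.obj V))
      (M := (toPM ((psh f).obj G)).obj V) s g
  refine Eq.trans ?_ hR.symm
  change (toPMMap (lun G).hom).app (op (f ⁻¹ᵁ V.unop))
    ((toPMMap ((DCoh.tensorBi.map (pullbackUnitHom f)).app G)).app (op (f ⁻¹ᵁ V.unop))
      (nuFun f ((plb f).obj (Coh.structureModule Y)) G V.unop
        ((toPMMap (un f (Coh.structureModule Y))).app V s) g)) = _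
  unfold nuFun
  rw [etaX_app_whiskerRight, whiskerRight_app_tm, pullbackUnitHom_un_apply, lun_app_tm]
  rfl

lemma th_unit :
    th f (Coh.structureModule Y) G ≫
      ((psh f).map ((DCoh.tensorBi.map (pullbackUnitHom f)).app G) ≫
        (psh f).map (lun G).hom) = (lun ((psh f).obj G)).hom := by
  apply shX_hom_ext (T := toPM (Coh.structureModule Y) ⊗ toPM ((psh f).obj G))
  have h1 : etaX (toPM (Coh.structureModule Y) ⊗ toPM ((psh f).obj G)) ≫
      toPMMap (th f (Coh.structureModule Y) G ≫
        ((psh f).map ((DCoh.tensorBi.map (pullbackUnitHom f)).app G) ≫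
          (psh f).map (lun G).hom)) =
      (etaX (toPM (Coh.structureModule Y) ⊗ toPM ((psh f).obj G)) ≫
        toPMMap (th f (Coh.structureModule Y) G)) ≫
        toPMMap ((psh f).map ((DCoh.tensorBi.map (pullbackUnitHom f)).app G)) ≫
          toPMMap ((psh f).map (lun G).hom) := (Category.assoc _ _ _).symm
  have h2 : (etaX (toPM (Coh.structureModule Y) ⊗ toPM ((psh f).obj G)) ≫
        toPMMap (th f (Coh.structureModule Y) G)) ≫
        toPMMap ((psh f).map ((DCoh.tensorBi.map (pullbackUnitHom f)).app G)) ≫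
          toPMMap ((psh f).map (lun G).hom) =
      thP f (Coh.structureModule Y) G ≫
        toPMMap ((psh f).map ((DCoh.tensorBi.map (pullbackUnitHom f)).app G)) ≫
          toPMMap ((psh f).map (lun G).hom) :=
    congrArg (fun t => t ≫
        toPMMap ((psh f).map ((DCoh.tensorBi.map (pullbackUnitHom f)).app G)) ≫
          toPMMap ((psh f).map (lun G).hom)) (etaX_th f (Coh.structureModule Y) G)
  exact h1.trans (h2.trans ((thP_unit f G).trans (etaX_lun ((psh f).obj G)).symm))

/-- the projection-formula map is invertible for `E = O_Y`. -/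
theorem isIso_th_unit : IsIso (th f (Coh.structureModule Y) G) := by
  have h := th_unit f G
  haveI : IsIso ((DCoh.tensorBi.map (pullbackUnitHom f)).app G) := inferInstance
  haveI h2 : IsIso (th f (Coh.structureModule Y) G ≫
      ((psh f).map ((DCoh.tensorBi.map (pullbackUnitHom f)).app G) ≫
        (psh f).map (lun G).hom)) := by
    rw [h]; infer_instance
  exact IsIso.of_isIso_comp_right _ ((psh f).map ((DCoh.tensorBi.map (pullbackUnitHom f)).app G) ≫
        (psh f).map (lun G).hom)

end Groth.Agent.Lib.Helper1.Proj
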