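import Mathlib
import Groth.Agent.Lib.Helper1PT4
set_option backward.isDefEq.respectTransparency.types false

/-!
# helper1: auxiliary lemmas for the projection formula (stalks of tensor maps, of pullback maps,
of pushforward maps; natural transformations of additive functors on finite free objects)
-/

set_option autoImplicit false
set_option linter.style.haveILetI false
set_option maxHeartbeats 400000
universe u
open CategoryTheory CategoryTheory.Limits AlgebraicGeometry TopologicalSpace Opposite
  MonoidalCategory TensorProduct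

namespace Groth.Agent.Lib.Helper1.Proj

open Groth.Agent.Lib.Helper1.PT Groth.Agent.Lib.Helper1.Sky Groth.Agent.Lib.Helper1.StalkTensor
  Groth.Agent.Lib.Helper21.ModTensor2

section FF
variable {C D : Type*} [Category C] [Category D] [Preadditive C] [Preadditive D]

/-- a natural transformation between additive functors which is invertible at `U` is invertible
at every finite free object on `U`. -/
theorem isIso_app_of_ff (F₁ F₂ : C ⥤ D) [F₁.Additive] [F₂.Additive] (τ : F₁ ⟶ F₂) {U Q : C}
    {n : ℕ} (ι : Fin n → (U ⟶ Q)) (π : Fin n → (Q ⟶ U)) (h : ∑ i, π i ≫ ι i = 𝟙 Q)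
    [IsIso (τ.app U)] : IsIso (τ.app Q) := by
  refine ⟨⟨∑ i, F₂.map (π i) ≫ inv (τ.app U) ≫ F₁.map (ι i), ?_, ?_⟩⟩
  · rw [Preadditive.comp_sum]
    have h1 : ∀ i, τ.app Q ≫ F₂.map (π i) ≫ inv (τ.app U) ≫ F₁.map (ι i) =
        F₁.map (π i ≫ ι i) := by
      intro i
      rw [← Category.assoc, ← τ.naturality, Category.assoc, IsIso.hom_inv_id_assoc,
        F₁.map_comp]
    simp_rw [h1]
    rw [← F₁.map_sum, h, F₁.map_id]
  · rw [Preadditive.sum_comp]
    have h1 : ∀ i, (F₂.map (π i) ≫ inv (τ.app U) ≫ F₁.map (ι i)) ≫ τ.app Q =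
        F₂.map (π i ≫ ι i) := by
      intro i
      rw [Category.assoc, Category.assoc, τ.naturality, IsIso.inv_hom_id_assoc, F₂.map_comp]
    simp_rw [h1]
    rw [← F₂.map_sum, h, F₂.map_id]

lemma sum_desc_ι (U : C) (n : ℕ) [HasCoproduct (fun _ : Fin n => U)] :
    ∑ i : Fin n, Sigma.desc (fun j : Fin n => if j = i then 𝟙 U else 0) ≫
      Sigma.ι (fun _ : Fin n => U) i = 𝟙 (∐ fun _ : Fin n => U) := by
  apply Sigma.hom_ext
  intro j
  rw [Preadditive.comp_sum, Category.comp_id]
  have h1 : ∀ i : Fin n, Sigma.ι (fun _ : Fin n => U) j ≫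
      Sigma.desc (fun j : Fin n => if j = i then 𝟙 U else 0) ≫ Sigma.ι (fun _ : Fin n => U) i =
      if i = j then Sigma.ι (fun _ : Fin n => U) j else 0 := by
    intro i
    rw [← Category.assoc, Sigma.ι_desc]
    by_cases hij : j = i
    · subst hij; simp
    · rw [if_neg hij, zero_comp, if_neg (fun h => hij h.symm)]
  simp_rw [h1]
  simp

end FF

section stalks
variable {Z : Scheme.{u}}

/-- `φ ⊗ K` is invertible on the stalk at `z` as soon as `φ` is. -/
lemma isIso_stalk_tensor_map (z : Z) {L L' : Z.Modules} (φ : L ⟶ L') (K : Z.Modules)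
    [IsIso ((stalkFun z).map φ)] :
    IsIso ((stalkFun z).map ((DCoh.tensorBi.map φ).app K)) := by
  have h := KBC.stalkTensor_naturality_left z φ K
  haveI h2 : IsIso (((KBC.G₂ z).map φ).app K) :=
    inferInstanceAs (IsIso ((stalkFun z).map φ ▷ (stalkFun z).obj K))
  have h3 : ((KBC.G₁ z).map φ).app K = (KBC.stalkTensorApp z L K).hom ≫
      ((KBC.G₂ z).map φ).app K ≫ (KBC.stalkTensorApp z L' K).inv := by
    rw [← Category.assoc, ← h, Category.assoc, Iso.hom_inv_id, Category.comp_id]
  change IsIso (((KBC.G₁ z).map φ).app K)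
  rw [h3]
  infer_instance

lemma isIso_stalkFun_map_iff {M N : Z.Modules} (w : M ⟶ N) (z : Z) :
    IsIso ((stalkFun z).map w) ↔ Function.Bijective (sm (toPMMap w) z) := by
  rw [ConcreteCategory.isIso_iff_bijective]
  rfl

/-- a morphism of modules which is bijective on the stalks at all points of `U` is bijective on
sections over `U`. -/
lemma app_bijective_of_sm_bijective {M N : Z.Modules} (w : M ⟶ N) (U : Z.Opens)
    (h : ∀ z ∈ U, Function.Bijective (sm (toPMMap w) z)) :
    Function.Bijective ((toPMMap w).app (op U)) :=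
  TopCat.Presheaf.app_bijective_of_stalkFunctor_map_bijective (F := abSheaf M) (G := abSheaf N)
    ⟨(Scheme.Modules.toPresheaf Z).map w⟩ U (fun z hz => h z hz)

/-- a morphism of modules which is bijective on sections over all opens inside `V` is bijective on
the stalks at the points of `V`. -/
lemma sm_bijective_of_app_bijective {M N : Z.Modules} (φ : M ⟶ N) (V : Z.Opens) (z : Z)
    (hz : z ∈ V)
    (h : ∀ V' : Z.Opens, V' ≤ V → Function.Bijective ((toPMMap φ).app (op V'))) :
    Function.Bijective (sm (toPMMap φ) z) := by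
  constructor
  · rw [injective_iff_map_eq_zero]
    intro a ha
    obtain ⟨U, hU, p, rfl⟩ := exists_gm_eq a
    let i : U ⊓ V ⟶ U := homOfLE inf_le_left
    have hz' : z ∈ U ⊓ V := ⟨hU, hz⟩
    rw [← gm_rs i hz' p] at ha ⊢
    rw [sm_gm] at ha
    have h0 : gm (toPM N) z (U ⊓ V) hz' ((toPMMap φ).app (op (U ⊓ V)) (rs (toPM M) i p)) =
        gm (toPM N) z (U ⊓ V) hz' 0 := by rw [ha, map_zero]
    obtain ⟨W, hW, i₁, i₂, e⟩ := gm_eq hz' hz' _ _ h0
    rw [map_zero] at e
    have e2 : (toPMMap φ).app (op W) (rs (toPM M) i₁ (rs (toPM M) i p)) = 0 := by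
      rw [← e]
      exact PresheafOfModules.naturality_apply (toPMMap φ) i₁.op _
    have hW' : W ≤ V := le_trans i₁.le inf_le_right
    have e3 : rs (toPM M) i₁ (rs (toPM M) i p) = 0 := by
      apply (h W hW').1
      rw [e2, map_zero]
    rw [← gm_rs i₁ hW, e3, map_zero]
  · intro b
    obtain ⟨U, hU, q, rfl⟩ := exists_gm_eq b
    let i : U ⊓ V ⟶ U := homOfLE inf_le_left
    have hz' : z ∈ U ⊓ V := ⟨hU, hz⟩
    obtain ⟨p, hp⟩ := (h (U ⊓ V) inf_le_right).2 (rs (toPM N) i q)
    refine ⟨gm (toPM M) z (U ⊓ V) hz' p, ?_⟩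
    rw [sm_gm, hp, gm_rs]

end stalks

section push
variable {X Y : Scheme.{u}} (f : X ⟶ Y)

/-- the pushforward of a morphism which is invertible on the stalks over `f⁻¹ V` is invertible on
the stalks at the points of `V`. -/
lemma isIso_stalk_psh_map {M N : X.Modules} (w : M ⟶ N) (V : Y.Opens)
    (h : ∀ x : X, f x ∈ V → IsIso ((stalkFun x).map w)) (y : Y) (hy : y ∈ V) :
    IsIso ((stalkFun y).map ((psh f).map w)) := by
  rw [isIso_stalkFun_map_iff]
  refine sm_bijective_of_app_bijective ((psh f).map w) V y hy (fun V' hV' => ?_)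
  exact app_bijective_of_sm_bijective w (f ⁻¹ᵁ V')
    (fun x hx => (isIso_stalkFun_map_iff w x).1 (h x (hV' hx)))

/-- the pullback of a morphism which is invertible on the stalk at `f x` is invertible on the
stalk at `x`. -/
lemma isIso_stalk_plb_map {A B : Y.Modules} (u : A ⟶ B) (x : X)
    [IsIso ((stalkFun (f x)).map u)] : IsIso ((stalkFun x).map ((plb f).map u)) := by
  have h := (stalkPullbackIso f x).hom.naturality u
  have h3 : (stalkFun x).map ((plb f).map u) = (stalkPullbackIso f x).hom.app A ≫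
      (ModuleCat.extendScalars.{u, u, u} (f.stalkMap x).hom).map ((stalkFun (f x)).map u) ≫
        (stalkPullbackIso f x).inv.app B := by
    have h' : (stalkFun x).map ((plb f).map u) ≫ (stalkPullbackIso f x).hom.app B =
        (stalkPullbackIso f x).hom.app A ≫
          (ModuleCat.extendScalars.{u, u, u} (f.stalkMap x).hom).map ((stalkFun (f x)).map u) := h
    rw [← Category.assoc, ← h', Category.assoc, Iso.hom_inv_id_app]
    exact (Category.comp_id _).symm
  rw [h3]
  infer_instance

end push

end Groth.Agent.Lib.Helper1.Proj
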