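import Mathlib
import Groth.Agent.Lib.Helper1ProjFA
import Groth.Agent.Lib.Helper1ProjFB
import Groth.Agent.Lib.Helper20LocFree
set_option backward.isDefEq.respectTransparency.types false

/-!
# helper1: the projection-formula map is invertible for finite locally free `E`
-/

set_option autoImplicit false
set_option linter.style.haveILetI false
set_option maxHeartbeats 400000
universe u
open CategoryTheory CategoryTheory.Limits AlgebraicGeometry TopologicalSpace Opposite
  MonoidalCategory TensorProduct

namespace Groth.Agent.Lib.Helper1.Proj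

open Groth.Agent.Lib.Helper1.PT Groth.Agent.Lib.Helper1.Sky Groth.Agent.Lib.Helper1.StalkTensor
  Groth.Agent.Lib.Helper21.ModTensor2 Groth.Agent.Lib.Helper23.PB

variable {X Y : Scheme.{u}} (f : X ⟶ Y)

instance additive_tensorBi_flip_obj {Z : Scheme.{u}} (M : Z.Modules) :
    (DCoh.tensorBi.flip.obj M : Z.Modules ⥤ Z.Modules).Additive where
  map_add := by
    intro A B φ ψ
    dsimp
    rw [Functor.map_add, NatTrans.app_add]

instance additive_plb : (plb f).Additive := (ppAdj f).left_adjoint_additive
instance additive_psh : (psh f).Additive := (ppAdj f).right_adjoint_additive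

/-- `E ↦ E ⊗ f_* G` -/
noncomputable def FA (G : X.Modules) : Y.Modules ⥤ Y.Modules :=
  DCoh.tensorBi.flip.obj ((psh f).obj G)

/-- `E ↦ f_*(f^* E ⊗ G)` -/
noncomputable def FB (G : X.Modules) : Y.Modules ⥤ Y.Modules :=
  plb f ⋙ DCoh.tensorBi.flip.obj G ⋙ psh f

instance (G : X.Modules) : (FA f G).Additive := by unfold FA; infer_instance
instance (G : X.Modules) : (FB f G).Additive := by unfold FB; infer_instance

/-- the projection-formula map, natural in `E` -/
noncomputable def thNatE (G : X.Modules) : FA f G ⟶ FB f G where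
  app E := th f E G
  naturality {E E'} φ := th_naturality_left f φ G

theorem isIso_th_freeMod (n : ℕ) (G : X.Modules) : IsIso (th f (FlatMod.freeMod Y n) G) := by
  haveI : IsIso ((thNatE f G).app (Coh.structureModule Y)) := isIso_th_unit f G
  exact isIso_app_of_ff (FA f G) (FB f G) (thNatE f G)
    (U := Coh.structureModule Y) (Q := FlatMod.freeMod Y n)
    (fun i => Sigma.ι (fun _ : Fin n => Coh.structureModule Y) i)
    (fun i => Sigma.desc (fun j : Fin n => if j = i then 𝟙 (Coh.structureModule Y) else 0))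
    (sum_desc_ι (Coh.structureModule Y) n)


/-! ### the unit of the restriction adjunction is a stalkwise isomorphism on the open -/

lemma isIso_stalk_restrict_unit {U : Scheme.{u}} (j : U ⟶ Y) [IsOpenImmersion j] (M : Y.Modules)
    (y : Y) (hy : y ∈ j.opensRange) :
    IsIso ((stalkFun y).map ((Scheme.Modules.restrictAdjunction j).unit.app M)) := by
  rw [isIso_stalkFun_map_iff]
  refine sm_bijective_of_app_bijective _ j.opensRange y hy (fun V' hV' => ?_)
  have heq : j ''ᵁ (j ⁻¹ᵁ V') = V' := by
    rw [Scheme.Hom.image_preimage_eq_opensRange_inf]; exact inf_eq_right.2 hV'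
  haveI : IsIso (homOfLE (j.image_preimage_le V')) := ⟨⟨homOfLE heq.ge, rfl, rfl⟩⟩
  haveI : IsIso (M.presheaf.map (homOfLE (j.image_preimage_le V')).op) := inferInstance
  exact ConcreteCategory.bijective_of_isIso (M.presheaf.map (homOfLE (j.image_preimage_le V')).op)

/-! ### the zigzag lemma -/

lemma isIso_stalk_th_of_zigzag (G : X.Modules) {E E₀ E₂ : Y.Modules} (u₁ : E ⟶ E₂) (u₂ : E₀ ⟶ E₂)
    (V : Y.Opens) (h₁ : ∀ y ∈ V, IsIso ((stalkFun y).map u₁))
    (h₂ : ∀ y ∈ V, IsIso ((stalkFun y).map u₂)) [IsIso (th f E₀ G)] (y : Y) (hy : y ∈ V) :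
    IsIso ((stalkFun y).map (th f E G)) := by
  -- stalk isos of the tensor maps
  have hb : ∀ {A B : Y.Modules} (u : A ⟶ B), (∀ y ∈ V, IsIso ((stalkFun y).map u)) →
      IsIso ((stalkFun y).map ((psh f).map ((DCoh.tensorBi.map ((plb f).map u)).app G))) := by
    intro A B u hu
    refine isIso_stalk_psh_map f _ V (fun x hx => ?_) y hy
    haveI := hu (f x) hx
    haveI := isIso_stalk_plb_map f u x
    exact isIso_stalk_tensor_map x ((plb f).map u) G
  haveI := h₁ y hy
  haveI := h₂ y hy
  haveI ha₁ := isIso_stalk_tensor_map y u₁ ((psh f).obj G)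
  haveI ha₂ := isIso_stalk_tensor_map y u₂ ((psh f).obj G)
  haveI hb₁ := hb u₁ h₁
  haveI hb₂ := hb u₂ h₂
  have n₁ := congrArg (fun t => (stalkFun y).map t) (th_naturality_left f u₁ G)
  have n₂ := congrArg (fun t => (stalkFun y).map t) (th_naturality_left f u₂ G)
  simp only [Functor.map_comp] at n₁ n₂
  haveI h0 : IsIso ((stalkFun y).map (th f E₀ G)) := inferInstance
  haveI h2 : IsIso ((stalkFun y).map (th f E₂ G)) := by
    have : IsIso ((stalkFun y).map ((DCoh.tensorBi.map u₂).app ((psh f).obj G)) ≫
        (stalkFun y).map (th f E₂ G)) := by rw [n₂]; infer_instance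
    exact IsIso.of_isIso_comp_left ((stalkFun y).map ((DCoh.tensorBi.map u₂).app ((psh f).obj G))) _
  have h3 : IsIso ((stalkFun y).map (th f E G) ≫
      (stalkFun y).map ((psh f).map ((DCoh.tensorBi.map ((plb f).map u₁)).app G))) := by
    rw [← n₁]; infer_instance
  exact IsIso.of_isIso_comp_right _
    ((stalkFun y).map ((psh f).map ((DCoh.tensorBi.map ((plb f).map u₁)).app G)))


/-! ### the main theorem -/

theorem isIso_th (E : Y.Modules) (hE : FlatMod.IsFinLocFree E) (G : X.Modules) :
    IsIso (th f E G) := by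
  apply isIso_of_forall_isIso_stalk
  intro y
  obtain ⟨U, n, hy, ⟨φ⟩⟩ := hE y
  let j : (U : Scheme.{u}) ⟶ Y := U.ι
  let u₁ : E ⟶ (Scheme.Modules.pushforward j).obj ((Scheme.Modules.restrictFunctor j).obj E) :=
    (Scheme.Modules.restrictAdjunction j).unit.app E
  let u₂ : FlatMod.freeMod Y n ⟶
      (Scheme.Modules.pushforward j).obj ((Scheme.Modules.restrictFunctor j).obj E) :=
    (Scheme.Modules.restrictAdjunction j).unit.app (FlatMod.freeMod Y n) ≫
      (Scheme.Modules.pushforward j).map
        (Groth.Agent.Lib.Helper20.LocFree.restrictFreeMod j n ≪≫ φ.symm).hom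
  haveI := isIso_th_freeMod f n G
  have hU : j.opensRange = U := Scheme.Opens.opensRange_ι U
  refine isIso_stalk_th_of_zigzag f G u₁ u₂ U ?_ ?_ y hy
  · intro y' hy'
    exact isIso_stalk_restrict_unit j E y' (hU.symm ▸ hy')
  · intro y' hy'
    haveI := isIso_stalk_restrict_unit j (FlatMod.freeMod Y n) y' (hU.symm ▸ hy')
    change IsIso ((stalkFun y').map (_ ≫ _))
    rw [Functor.map_comp]
    infer_instance

/-- **Projection formula** (underived): `E ⊗ f_* G ≅ f_* (f^* E ⊗ G)` for `E` finite locally
free, naturally in `G`. -/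
noncomputable def projIso (E : Y.Modules) (hE : FlatMod.IsFinLocFree E) :
    psh f ⋙ DCoh.tensorBi.obj E ≅ DCoh.tensorBi.obj ((plb f).obj E) ⋙ psh f :=
  NatIso.ofComponents (fun G => @asIso _ _ _ _ (th f E G) (isIso_th f E hE G))
    (fun {G G'} g => th_naturality_right f E g)

end Groth.Agent.Lib.Helper1.Proj
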