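import Mathlib
import Groth.Agent.Lib.Helper1ProjFC
import Groth.Agent.Lib.Helper17ProjFormulaD
import Groth.Agent.Lib.Helper17FFaith6
import Groth.Agent.Lib.Helper21Dual12
import Groth.Agent.Lib.Helper21Dual9
import Groth.Agent.Lib.Helper1Sky9
set_option backward.isDefEq.respectTransparency.types false

/-!
# helper1: the projection formula for higher direct images and finite locally free modules
-/

set_option autoImplicit false
set_option linter.style.haveILetI false
set_option maxHeartbeats 400000
universe u
open CategoryTheory CategoryTheory.Limits AlgebraicGeometry TopologicalSpace Opposite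

namespace Groth.Agent.Lib.Helper1.Proj

open Groth.Agent.Lib.Helper1.PT Groth.Agent.Lib.Helper27ProjFormula
  Groth.Agent.Lib.Helper21.ModTensor3 Groth.Agent.Lib.Helper21.ModTensor5

section TL
variable {Z : Scheme.{u}} (E : Z.Modules) (hE : FlatMod.IsFinLocFree E)

theorem preservesColimits_TL : PreservesColimitsOfSize.{0, 0} (TL Z E) :=
  (Groth.Agent.Lib.Helper17.FFaith.tensorLHomAdj E).leftAdjoint_preservesColimits

theorem preservesFiniteColimits_TL : PreservesFiniteColimits (TL Z E) := by
  haveI := preservesColimits_TL E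
  exact PreservesColimitsOfSize.preservesFiniteColimits.{0, 0} _

include hE in
theorem preservesFiniteLimits_TL : PreservesFiniteLimits (TL Z E) := by
  have hE' := Groth.Agent.Lib.Helper21.Dual.isLocFF_of_isFinLocFree (X := Z) E hE
  haveI : PreservesFiniteLimits (tR Z.sheaf E) :=
    Groth.Agent.Lib.Helper21.Dual.preservesFiniteLimits_tR_of_isLocFF E hE'
  exact preservesFiniteLimits_of_natIso (F := tR Z.sheaf E) ((brd Z.sheaf).app E).symm

include hE in
theorem preservesHomology_TL : (TL Z E).PreservesHomology := by
  haveI := preservesFiniteLimits_TL E hE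
  haveI := preservesFiniteColimits_TL E
  infer_instance

include hE in
theorem preservesInjectiveObjects_TL : (TL Z E).PreservesInjectiveObjects := by
  have hE' := Groth.Agent.Lib.Helper21.Dual.isLocFF_of_isFinLocFree (X := Z) E hE
  refine ⟨fun {I} hI => ?_⟩
  haveI : Injective (C := ModSite.Mod Z.sheaf) I := hI
  exact Groth.Agent.Lib.Helper21.Dual.injective_tL_obj E hE' I

end TL

section Der

variable {X Y : Scheme.{u}} (f : X ⟶ Y) [HasInjectiveResolutions X.Modules]
  (E : Y.Modules) (hE : FlatMod.IsFinLocFree E)

/-- **Projection formula for higher direct images**, as a natural isomorphism: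
`E ⊗ R^q f_* (-) ≅ R^q f_* (f^* E ⊗ -)` for `E` finite locally free. -/
noncomputable def derProjIso (q : ℕ) :
    (psh f).rightDerived q ⋙ TL Y E ≅ TL X ((plb f).obj E) ⋙ (psh f).rightDerived q :=
  have hE' : FlatMod.IsFinLocFree ((plb f).obj E) :=
    Groth.Agent.Lib.Helper1.Sky.isFinLocFree_pullback f E hE
  haveI := preservesHomology_TL E hE
  haveI := preservesHomology_TL ((plb f).obj E) hE'
  haveI := preservesInjectiveObjects_TL ((plb f).obj E) hE'
  (Groth.Agent.Lib.Helper21.DerPost.postIso (psh f) (TL Y E) q).symm ≪≫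
    Groth.Agent.Lib.Helper21.DerPost.natIsoRightDerived (projIso f E hE) q ≪≫
    Groth.Agent.Lib.Helper23DerComp.compIso (TL X ((plb f).obj E)) (psh f) q

include hE in
/-- `E ⊗ R^q f_* G ≅ R^q f_* (f^* E ⊗ G)` for `E` finite locally free. -/
theorem nonempty_tensorMod_Rpush_iso (G : X.Modules) (q : ℕ) :
    Nonempty (CohB1.tensorMod E ((Coh.Rpush f q).obj G) ≅
      (Coh.Rpush f q).obj (CohB1.tensorMod ((Scheme.Modules.pullback f).obj E) G)) :=
  ⟨(derProjIso f E hE q).app G⟩

end Der

end Groth.Agent.Lib.Helper1.Proj
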