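import Mathlib
import Groth.Agent.Lib.Helper1ProjFD
import Groth.Agent.Lib.Helper1TQ6
import Groth.Agent.Lib.Helper27ClosedTransfer
set_option backward.isDefEq.respectTransparency.types false

/-!
# helper1: the projection formula for closed immersions, part A (the unit on good modules)
-/

set_option autoImplicit false
set_option linter.style.haveILetI false
set_option maxHeartbeats 400000
universe u
open CategoryTheory CategoryTheory.Limits AlgebraicGeometry TopologicalSpace Opposite
  MonoidalCategory TensorProduct

namespace Groth.Agent.Lib.Helper1.ClProj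

open Groth.Agent.Lib.Helper1.PT Groth.Agent.Lib.Helper1.Sky Groth.Agent.Lib.Helper1.StalkTensor
  Groth.Agent.Lib.Helper21.ModTensor2 Groth.Agent.Lib.Helper23.PB Groth.Agent.Lib.Helper1.Proj
  Groth.Agent.Lib.Helper1.TQ

section ring

variable {R S : Type u} [CommRing R] [CommRing S] (σ : R →+* S)

open ChangeOfRings in
/-- for a surjective ring map `σ` and a module killed by `ker σ`, `p ↦ 1 ⊗ p` is bijective -/
lemma bijective_one_tmul (hσ : Function.Surjective σ) (P : ModuleCat.{u} R)
    (hP : ∀ r : R, σ r = 0 → ∀ p : P, r • p = 0) :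
    Function.Bijective (fun p : P =>
      (((1 : S) ⊗ₜ[R, σ] p) : (ModuleCat.extendScalars.{u, u, u} σ).obj P)) := by
  letI : Module R S := Module.compHom S σ
  have hsmul : ∀ (r : R) (s : S), r • s = σ r * s := fun r s => rfl
  have hsi : ∀ s : S, σ (Function.surjInv hσ s) = s := Function.surjInv_eq hσ
  have hkill : ∀ r r' : R, σ r = σ r' → ∀ p : P, r • p = r' • p := by
    intro r r' h p
    have h0 := hP (r - r') (by rw [map_sub, h, sub_self]) p
    rw [sub_smul, sub_eq_zero] at h0
    exact h0
  let ρ : S →ₗ[R] P →ₗ[R] P :=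
    { toFun := fun s => (Function.surjInv hσ s) • LinearMap.id
      map_add' := fun s s' => by
        apply LinearMap.ext
        intro p
        change Function.surjInv hσ (s + s') • p =
          Function.surjInv hσ s • p + Function.surjInv hσ s' • p
        rw [← add_smul]
        apply hkill
        rw [map_add, hsi, hsi, hsi]
      map_smul' := fun r s => by
        apply LinearMap.ext
        intro p
        change Function.surjInv hσ (r • s) • p = r • Function.surjInv hσ s • p
        rw [smul_smul]
        apply hkill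
        rw [map_mul, hsi, hsi, hsmul] }
  let g : TensorProduct R S P →ₗ[R] P := TensorProduct.lift ρ
  have hg : ∀ p : P, g ((1 : S) ⊗ₜ[R] p) = p := by
    intro p
    change Function.surjInv hσ (1 : S) • p = p
    have := hkill (Function.surjInv hσ (1 : S)) 1 (by rw [hsi, map_one]) p
    rw [this, one_smul]
  constructor
  · intro p p' h
    have h' : g ((1 : S) ⊗ₜ[R] p) = g ((1 : S) ⊗ₜ[R] p') := congrArg g h
    rw [hg, hg] at h'
    exact h'
  · intro t
    induction t using TensorProduct.induction_on with
    | zero => exact ⟨0, TensorProduct.tmul_zero _ _⟩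
    | tmul s p =>
      refine ⟨Function.surjInv hσ s • p, ?_⟩
      change (1 : S) ⊗ₜ[R] (Function.surjInv hσ s • p) = s ⊗ₜ[R] p
      rw [← TensorProduct.smul_tmul, hsmul, hsi, mul_one]
      rfl
    | add t t' ht ht' =>
      obtain ⟨p, hp⟩ := ht
      obtain ⟨p', hp'⟩ := ht'
      refine ⟨p + p', ?_⟩
      change (1 : S) ⊗ₜ[R] (p + p') = t + t'
      rw [TensorProduct.tmul_add]
      exact congrArg₂ (· + ·) hp hp'

end ring

section scheme

variable {Z X : Scheme.{u}} (i : Z ⟶ X)

open ChangeOfRings in
/-- the stalk of the unit of `i^* ⊣ i_*` -/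
lemma stalk_unit (M : X.Modules) (z : Z) (a : St (toPM M) (i.base z)) :
    ((stalkPullbackIso i z).hom.app M).hom
      (pushStalkMap i z ((plb i).obj M) (sm (toPMMap (un i M)) (i.base z) a)) =
      ((1 : Sky.Ox z) ⊗ₜ[Sky.Ox (i.base z), (i.stalkMap z).hom] a) := by
  obtain ⟨V, hV, m, rfl⟩ := exists_gm_eq a
  rw [sm_gm, pushStalkMap_gm]
  exact sigma_unit i z M V hV m

/-- sections of a module over the empty open -/
lemma subsingleton_sections_of_eq_bot (N : Z.Modules) (W : Z.Opens) (h : W = ⊥) :
    Subsingleton ((toPM N).obj (op W)) := by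
  have hT : IsTerminal ((toPM N).presheaf.obj (op W)) :=
    TopCat.Sheaf.isTerminalOfEqEmpty
      (⟨(toPM N).presheaf, N.isSheaf⟩ : TopCat.Sheaf AddCommGrpCat.{u} Z) h
  have hZ : IsZero ((toPM N).presheaf.obj (op W)) :=
    IsZero.of_iso (isZero_zero _) (hT.uniqueUpToIso HasZeroObject.zeroIsTerminal)
  exact AddCommGrpCat.subsingleton_of_isZero hZ

/-- the stalk of `i_* N` at a point outside the (closed) image of `i` -/
lemma subsingleton_stalk_push_of_notMem (hi : IsClosed (Set.range i.base)) (N : Z.Modules) (x : X)
    (hx : x ∉ Set.range i.base) : Subsingleton (St (toPM ((psh i).obj N)) x) := by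
  refine ⟨fun a b => ?_⟩
  have key : ∀ c : St (toPM ((psh i).obj N)) x, c = 0 := by
    intro c
    obtain ⟨V, hV, s, rfl⟩ := exists_gm_eq c
    let U : X.Opens := ⟨(Set.range i.base)ᶜ, hi.isOpen_compl⟩
    have hxW : x ∈ V ⊓ U := ⟨hV, hx⟩
    have h1 := gm_rs (P := toPM ((psh i).obj N)) (homOfLE (inf_le_left : V ⊓ U ≤ V)) hxW s
    rw [← h1]
    have hbot : i ⁻¹ᵁ (V ⊓ U) = ⊥ := by
      ext z
      simp only [Opens.coe_bot, Set.mem_empty_iff_false, iff_false]
      intro hz
      exact hz.2 ⟨z, rfl⟩
    haveI := subsingleton_sections_of_eq_bot N (i ⁻¹ᵁ (V ⊓ U)) hbot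
    have h2 : rs (toPM ((psh i).obj N)) (homOfLE (inf_le_left : V ⊓ U ≤ V)) s = 0 :=
      Subsingleton.elim (α := (toPM N).obj (op (i ⁻¹ᵁ (V ⊓ U)))) _ _
    rw [h2, map_zero]
  rw [key a, key b]

/-- `M` is supported on `Z` and killed by the ideal of `Z`, stalkwise -/
def Good (M : X.Modules) : Prop :=
  (∀ x : X, x ∉ Set.range i.base → Subsingleton (St (toPM M) x)) ∧
  (∀ (z : Z) (r : Sky.Ox (i.base z)), (i.stalkMap z).hom r = 0 →
    ∀ a : St (toPM M) (i.base z), r • a = 0)

/-- on a good module, the unit `M ⟶ i_* i^* M` is an isomorphism -/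
theorem isIso_unit_of_good [IsClosedImmersion i] (M : X.Modules) (hM : Good i M) :
    IsIso (un i M) := by
  apply isIso_of_forall_isIso_stalk
  intro x
  rw [isIso_stalkFun_map_iff]
  by_cases hx : x ∈ Set.range i.base
  · obtain ⟨z, rfl⟩ := hx
    have hσ : Function.Surjective (i.stalkMap z).hom := i.stalkMap_surjective z
    have h1 := bijective_one_tmul (i.stalkMap z).hom hσ ((stalkFun (i.base z)).obj M)
      (fun r hr a => hM.2 z r hr a)
    have h2 : Function.Bijective ((stalkPullbackIso i z).hom.app M).hom :=
      ConcreteCategory.bijective_of_isIso ((stalkPullbackIso i z).hom.app M)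
    have h3 := pushStalkMap_bijective i z i.isClosedEmbedding.isInducing ((plb i).obj M)
    have h4 : (fun a => ((stalkPullbackIso i z).hom.app M).hom
        (pushStalkMap i z ((plb i).obj M) (sm (toPMMap (un i M)) (i.base z) a))) =
        _ := funext (stalk_unit i M z)
    have h5 : Function.Bijective (fun a => ((stalkPullbackIso i z).hom.app M).hom
        (pushStalkMap i z ((plb i).obj M) (sm (toPMMap (un i M)) (i.base z) a))) := by
      rw [h4]
      exact h1
    have h6 : Function.Bijective (fun a =>
        (pushStalkMap i z ((plb i).obj M) (sm (toPMMap (un i M)) (i.base z) a))) :=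
      (Function.Bijective.of_comp_iff' h2 _).1 h5
    exact (Function.Bijective.of_comp_iff' h3 _).1 h6
  · haveI := hM.1 x hx
    haveI := subsingleton_stalk_push_of_notMem i i.isClosedEmbedding.isClosed_range
      ((plb i).obj M) x hx
    refine ⟨fun a b _ => Subsingleton.elim _ _, fun b => ⟨0, Subsingleton.elim _ _⟩⟩

/-- a direct image is good -/
lemma good_push [IsClosedImmersion i] (N : Z.Modules) : Good i ((psh i).obj N) := by
  refine ⟨fun x hx => subsingleton_stalk_push_of_notMem i i.isClosedEmbedding.isClosed_range N x hx,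
    fun z r hr a => ?_⟩
  apply (pushStalkMap_bijective i z i.isClosedEmbedding.isInducing N).1
  rw [pushStalkMap_smul, hr, zero_smul, map_zero]

/-- tensoring with any module preserves goodness -/
lemma good_tens (A M : X.Modules) (hM : Good i M) : Good i (tens A M) := by
  constructor
  · intro x hx
    haveI := hM.1 x hx
    have key : ∀ t : St (toPM A) x ⊗[Sky.Ox x] St (toPM M) x, t = 0 := by
      intro t
      induction t using TensorProduct.induction_on with
      | zero => rfl
      | tmul a m => rw [Subsingleton.elim m 0, TensorProduct.tmul_zero]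
      | add t t' ht ht' => rw [ht, ht', add_zero]
    refine ⟨fun a b => ?_⟩
    apply (KBC.stalkTensorEquiv x A M).injective
    rw [key (KBC.stalkTensorEquiv x A M a), key (KBC.stalkTensorEquiv x A M b)]
  · intro z r hr a
    have key : ∀ t : St (toPM A) (i.base z) ⊗[Sky.Ox (i.base z)] St (toPM M) (i.base z),
        r • t = 0 := by
      intro t
      induction t using TensorProduct.induction_on with
      | zero => exact smul_zero r
      | tmul a m => rw [TensorProduct.smul_tmul', TensorProduct.smul_tmul, hM.2 z r hr m,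
          TensorProduct.tmul_zero]
      | add t t' ht ht' => rw [smul_add, ht, ht', add_zero]
    apply (KBC.stalkTensorEquiv (i.base z) A M).injective
    rw [map_smul, key, map_zero]

/-- `i_*` reflects isomorphisms -/
lemma isIso_of_isIso_push [IsClosedImmersion i] {N N' : Z.Modules} (φ : N ⟶ N')
    [IsIso ((psh i).map φ)] : IsIso φ := by
  haveI := Groth.Agent.Lib.Helper27ClosedTransfer.faithful_pushforward i
  haveI : Mono φ := (psh i).mono_of_mono_map inferInstance
  haveI : Epi φ := (psh i).epi_of_epi_map inferInstance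
  exact isIso_of_mono_of_epi φ

/-- the counit `i^* i_* N ⟶ N` is an isomorphism: `i_*` is fully faithful -/
instance isIso_counit [IsClosedImmersion i] (N : Z.Modules) :
    IsIso ((ppAdj i).counit.app N) := by
  haveI := isIso_unit_of_good i _ (good_push i N)
  have h := (ppAdj i).right_triangle_components N
  haveI : IsIso ((psh i).map ((ppAdj i).counit.app N)) := by
    have h2 : (psh i).map ((ppAdj i).counit.app N) = inv (un i ((psh i).obj N)) := by
      rw [← cancel_epi (un i ((psh i).obj N)), IsIso.hom_inv_id]
      exact h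
    rw [h2]
    infer_instance
  exact isIso_of_isIso_push i _

/-- the projection-formula map through the monoidal structure of `i^*` and the counit -/
lemma th_eq (E : X.Modules) (G : Z.Modules) :
    th i E G = deltaFlat i E ((psh i).obj G) ≫
      (psh i).map ((DCoh.tensorBi.obj ((plb i).obj E)).map ((ppAdj i).counit.app G)) := by
  apply shX_hom_ext (T := toPM E ⊗ toPM ((psh i).obj G))
  rw [etaX_th]
  have h1 : etaX (toPM E ⊗ toPM ((psh i).obj G)) ≫ toPMMap (deltaFlat i E ((psh i).obj G) ≫
      (psh i).map ((DCoh.tensorBi.obj ((plb i).obj E)).map ((ppAdj i).counit.app G))) =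
      dP i E ((psh i).obj G) ≫ toPMMap ((psh i).map
        ((DCoh.tensorBi.obj ((plb i).obj E)).map ((ppAdj i).counit.app G))) := by
    have e2 := etaX_deltaFlat i E ((psh i).obj G)
    calc _ = (etaX (toPM E ⊗ toPM ((psh i).obj G)) ≫ toPMMap (deltaFlat i E ((psh i).obj G))) ≫
          toPMMap ((psh i).map
            ((DCoh.tensorBi.obj ((plb i).obj E)).map ((ppAdj i).counit.app G))) :=
            (Category.assoc _ _ _).symm
      _ = _ := by rw [e2]
  refine Eq.trans ?_ h1.symm
  unfold dP thP
  rw [Category.assoc, ← nu_naturality_right, ← Category.assoc]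
  congr 1
  have h3 : toPMMap (un i ((psh i).obj G)) ≫ toPMMap ((psh i).map ((ppAdj i).counit.app G)) =
      𝟙 _ := congrArg (fun g => toPMMap g) ((ppAdj i).right_triangle_components G)
  rw [← id_tensorHom, tensorHom_comp_tensorHom, Category.comp_id, h3, tensorHom_id]

/-- **the projection formula for a closed immersion**, on modules:
`E ⊗ i_* G ⟶ i_*(i^* E ⊗ G)` is an isomorphism for all `E` and `G`. -/
theorem isIso_th_closedImmersion [IsClosedImmersion i] (E : X.Modules) (G : Z.Modules) :
    IsIso (th i E G) := by
  rw [th_eq, ← un_delta]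
  haveI := isIso_unit_of_good i _ (good_tens i E _ (good_push i G))
  infer_instance

end scheme

end Groth.Agent.Lib.Helper1.ClProj
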