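import Mathlib
import Groth.Agent.Lib.Helper1ProjFD
import Groth.Agent.Lib.Helper27LocFF
import Groth.Agent.Lib.Helper21ModTensor6
set_option backward.isDefEq.respectTransparency.types false

/-!
# helper1: relative Ext sheaves, finite locally free twists (S16282)
-/

set_option autoImplicit false
set_option linter.style.haveILetI false
set_option maxHeartbeats 400000
universe u
open CategoryTheory CategoryTheory.Limits AlgebraicGeometry TopologicalSpace Opposite

namespace Groth.Agent.Lib.Helper1.RelExt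

open Groth.Agent.Lib.Helper1.PT Groth.Agent.Lib.Helper27ProjFormula
  Groth.Agent.Lib.Helper21.ModTensor3 Groth.Agent.Lib.Helper21.ModTensor5
  Groth.Agent.Lib.Helper21.ModTensor6 Groth.Agent.Lib.Helper21.Dual

attribute [local instance] Groth.Agent.Lib.Helper21.ExtShDelta.hasSheafHom


section Abstract

universe v₁ v₂ u₁ u₂
variable {C : Type u₁} {D : Type u₂} [Category.{v₁} C] [Category.{v₂} D] [Abelian C] [Abelian D]
  [HasInjectiveResolutions C]

/-- the abstract shape of the argument: `Ψ ≅ T₁ ⋙ Φ`, `T₂ ⋙ Φ ≅ Φ ⋙ T₃`, with `T₁, T₂` exact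
preserving injectives and `T₃` exact. -/
theorem abstract_iso (Ψ Φ : C ⥤ D) [Ψ.Additive] [Φ.Additive] (T₁ T₂ : C ⥤ C) [T₁.Additive]
    [T₂.Additive] [T₁.PreservesHomology] [T₁.PreservesInjectiveObjects] [T₂.PreservesHomology]
    [T₂.PreservesInjectiveObjects] (T₃ : D ⥤ D) [T₃.Additive] [T₃.PreservesHomology]
    (a : Ψ ≅ T₁ ⋙ Φ) (b : T₂ ⋙ Φ ≅ Φ ⋙ T₃) (G : C)
    (c : T₁.obj (T₂.obj G) ≅ T₂.obj (T₁.obj G)) (p : ℕ) :
    Nonempty ((Ψ.rightDerived p).obj (T₂.obj G) ≅ T₃.obj ((Φ.rightDerived p).obj (T₁.obj G))) := by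
  let e1 : Ψ.rightDerived p ≅ (T₁ ⋙ Φ).rightDerived p :=
    Groth.Agent.Lib.Helper21.DerPost.natIsoRightDerived a p
  let e2 : (T₁ ⋙ Φ).rightDerived p ≅ T₁ ⋙ Φ.rightDerived p :=
    Groth.Agent.Lib.Helper23DerComp.compIso T₁ Φ p
  let e4 : T₂ ⋙ Φ.rightDerived p ≅ Φ.rightDerived p ⋙ T₃ :=
    (Groth.Agent.Lib.Helper23DerComp.compIso T₂ Φ p).symm ≪≫
      Groth.Agent.Lib.Helper21.DerPost.natIsoRightDerived b p ≪≫
      Groth.Agent.Lib.Helper21.DerPost.postIso Φ T₃ p
  exact ⟨e1.app _ ≪≫ e2.app _ ≪≫ (Φ.rightDerived p).mapIso c ≪≫ e4.app _⟩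

end Abstract

section OneScheme
variable {Z : Scheme.{u}}

/-- `- ⊗ E` -/
noncomputable abbrev TR (E : Z.Modules) : Z.Modules ⥤ Z.Modules := tR Z.sheaf E

/-- the dual -/
noncomputable abbrev dl (E : Z.Modules) : Z.Modules := dual (O := Z.sheaf) E

variable (E : Z.Modules) (hE : FlatMod.IsFinLocFree E)

instance additive_TR (M : Z.Modules) : (TR M).Additive :=
  Groth.Agent.Lib.Helper1.Proj.additive_tensorBi_flip_obj M

include hE in
theorem preservesFiniteLimits_TR : PreservesFiniteLimits (TR E) :=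
  preservesFiniteLimits_tR_of_isLocFF E (isLocFF_of_isFinLocFree (X := Z) E hE)

theorem preservesFiniteColimits_TR : PreservesFiniteColimits (TR E) := by
  haveI : PreservesColimitsOfSize.{0, 0} (TR E) :=
    (ModSite.sheafHomAdj (O := Z.sheaf) E).leftAdjoint_preservesColimits
  exact PreservesColimitsOfSize.preservesFiniteColimits.{0, 0} _

include hE in
theorem preservesHomology_TR : (TR E).PreservesHomology := by
  haveI := preservesFiniteLimits_TR E hE
  haveI := preservesFiniteColimits_TR E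
  infer_instance

include hE in
theorem preservesInjectiveObjects_TR : (TR E).PreservesInjectiveObjects := by
  have hE' := isLocFF_of_isFinLocFree (X := Z) E hE
  refine ⟨fun {I} hI => ?_⟩
  haveI : Injective (C := ModSite.Mod Z.sheaf) I := hI
  exact injective_tR_obj E hE' I


/-- `ℋom(F ⊗ L, -) ≅ ℋom(F, - ⊗ L^∨)` for `L` finite locally free. -/
noncomputable def homTensorIso (F L : Z.Modules) (hL : FlatMod.IsFinLocFree L)
    [ModSite.HasSheafHom (O := Z.sheaf) F]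
    [ModSite.HasSheafHom (O := Z.sheaf) (CohB1.tensorMod F L)] :
    ModSite.sheafHom (O := Z.sheaf) (CohB1.tensorMod F L) ≅
      TR (dl L) ⋙ ModSite.sheafHom (O := Z.sheaf) F :=
  let hL' := isLocFF_of_isFinLocFree (X := Z) L hL
  let adj₁ : TR F ⋙ TR L ⊣ TR (dl L) ⋙ ModSite.sheafHom (O := Z.sheaf) F :=
    (ModSite.sheafHomAdj (O := Z.sheaf) F).comp (dualAdj L hL')
  let adj₂ : TR (CohB1.tensorMod F L) ⊣ TR (dl L) ⋙ ModSite.sheafHom (O := Z.sheaf) F :=
    adj₁.ofNatIsoLeft (tRTensorIso Z.sheaf F L)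
  (ModSite.sheafHomAdj (O := Z.sheaf) (CohB1.tensorMod F L)).rightAdjointUniq adj₂

/-- `ℋom(F, - ⊗ E) ≅ ℋom(F, -) ⊗ E` for `E` finite locally free. -/
noncomputable def homTwistIso (F E : Z.Modules) (hE : FlatMod.IsFinLocFree E)
    [ModSite.HasSheafHom (O := Z.sheaf) F] :
    TR E ⋙ ModSite.sheafHom (O := Z.sheaf) F ≅ ModSite.sheafHom (O := Z.sheaf) F ⋙ TR E :=
  let hE' := isLocFF_of_isFinLocFree (X := Z) E hE
  let adjA : TR F ⋙ TR (dl E) ⊣ TR E ⋙ ModSite.sheafHom (O := Z.sheaf) F :=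
    (ModSite.sheafHomAdj (O := Z.sheaf) F).comp (dualAdjSw E hE')
  let adjB : TR (dl E) ⋙ TR F ⊣ ModSite.sheafHom (O := Z.sheaf) F ⋙ TR E :=
    (dualAdjSw E hE').comp (ModSite.sheafHomAdj (O := Z.sheaf) F)
  let e : TR (dl E) ⋙ TR F ≅ TR F ⋙ TR (dl E) :=
    tRTensorIso Z.sheaf (dl E) F ≪≫
      (ModSite.tensorBi Z.sheaf).flip.mapIso (brdApp Z.sheaf (dl E) F) ≪≫
      (tRTensorIso Z.sheaf F (dl E)).symm
  adjA.rightAdjointUniq (adjB.ofNatIsoLeft e)

/-- `(G ⊗ A) ⊗ B ≅ (G ⊗ B) ⊗ A`. -/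
noncomputable def swapIso (A B : Z.Modules) : TR A ⋙ TR B ≅ TR B ⋙ TR A :=
  tRTensorIso Z.sheaf A B ≪≫
    (ModSite.tensorBi Z.sheaf).flip.mapIso (brdApp Z.sheaf A B) ≪≫
    (tRTensorIso Z.sheaf B A).symm

end OneScheme


section TwoSchemes

variable {X Y : Scheme.{u}} (f : X ⟶ Y)

/-- `f_*(- ⊗ f^*N) ≅ f_*(-) ⊗ N` for `N` finite locally free. -/
noncomputable def pushTwistIso (N : Y.Modules) (hN : FlatMod.IsFinLocFree N) :
    TR ((plb f).obj N) ⋙ psh f ≅ psh f ⋙ TR N :=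
  Functor.isoWhiskerRight ((brd X.sheaf).app ((plb f).obj N)).symm (psh f) ≪≫
    (Groth.Agent.Lib.Helper1.Proj.projIso f N hN).symm ≪≫
    Functor.isoWhiskerLeft (psh f) ((brd Y.sheaf).app N)

variable (F : X.Modules) [ModSite.HasSheafHom (O := X.sheaf) F]

/-- the relative hom functor `f_* ℋom(F, -)` -/
noncomputable abbrev Φ : X.Modules ⥤ Y.Modules := ModSite.sheafHom (O := X.sheaf) F ⋙ psh f

/-- `f_* ℋom(F, - ⊗ f^*N) ≅ f_* ℋom(F, -) ⊗ N`. -/
noncomputable def relHomTwistIso (N : Y.Modules) (hN : FlatMod.IsFinLocFree N) :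
    TR ((plb f).obj N) ⋙ Φ f F ≅ Φ f F ⋙ TR N :=
  (Functor.associator _ _ _).symm ≪≫
    Functor.isoWhiskerRight (homTwistIso F ((plb f).obj N)
      (Groth.Agent.Lib.Helper1.Sky.isFinLocFree_pullback f N hN)) (psh f) ≪≫
    Functor.associator _ _ _ ≪≫
    Functor.isoWhiskerLeft (ModSite.sheafHom (O := X.sheaf) F) (pushTwistIso f N hN) ≪≫
    (Functor.associator _ _ _).symm


variable [HasInjectiveResolutions (ModSite.Mod X.sheaf)]

/-- **S16282**: `Ext^p_f(F ⊗ L, G ⊗ f^*N) ≅ Ext^p_f(F, G ⊗ L^∨) ⊗ N`. -/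
theorem nonempty_relExt_iso (G L : X.Modules) (N : Y.Modules)
    (hL : FlatMod.IsFinLocFree L) (hN : FlatMod.IsFinLocFree N) (p : ℕ)
    [ModSite.HasSheafHom (O := X.sheaf) L]
    [ModSite.HasSheafHom (O := X.sheaf) (CohB1.tensorMod F L)]
    [(ModSite.sheafHom (O := X.sheaf) F ⋙ Scheme.Modules.pushforward f).Additive]
    [(ModSite.sheafHom (O := X.sheaf) (CohB1.tensorMod F L) ⋙
      Scheme.Modules.pushforward f).Additive] :
    Nonempty (((ModSite.sheafHom (O := X.sheaf) (CohB1.tensorMod F L) ⋙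
        Scheme.Modules.pushforward f).rightDerived p).obj
        (CohB1.tensorMod G ((Scheme.Modules.pullback f).obj N)) ≅
      CohB1.tensorMod (((ModSite.sheafHom (O := X.sheaf) F ⋙
        Scheme.Modules.pushforward f).rightDerived p).obj
        (CohB1.tensorMod G ((ModSite.sheafHom (O := X.sheaf) L).obj (Coh.structureModule X)))) N) := by
  haveI : HasInjectiveResolutions X.Modules :=
    inferInstanceAs (HasInjectiveResolutions (ModSite.Mod X.sheaf))
  have hdl : FlatMod.IsFinLocFree (dl L) := Groth.Agent.Lib.Helper27LocFF.isFinLocFree_dual L hL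
  have hfN : FlatMod.IsFinLocFree ((plb f).obj N) :=
    Groth.Agent.Lib.Helper1.Sky.isFinLocFree_pullback f N hN
  haveI := preservesHomology_TR (dl L) hdl
  haveI := preservesInjectiveObjects_TR (dl L) hdl
  haveI := preservesHomology_TR ((plb f).obj N) hfN
  haveI := preservesInjectiveObjects_TR ((plb f).obj N) hfN
  haveI := preservesHomology_TR N hN
  let Ψ : X.Modules ⥤ Y.Modules :=
    ModSite.sheafHom (O := X.sheaf) (CohB1.tensorMod F L) ⋙ Scheme.Modules.pushforward f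
  let Φ' : X.Modules ⥤ Y.Modules :=
    ModSite.sheafHom (O := X.sheaf) F ⋙ Scheme.Modules.pushforward f
  haveI hΨ : Ψ.Additive :=
    inferInstanceAs ((ModSite.sheafHom (O := X.sheaf) (CohB1.tensorMod F L) ⋙
      Scheme.Modules.pushforward f).Additive)
  haveI hΦ : Φ'.Additive :=
    inferInstanceAs ((ModSite.sheafHom (O := X.sheaf) F ⋙ Scheme.Modules.pushforward f).Additive)
  let a : Ψ ≅ TR (dl L) ⋙ Φ' :=
    Functor.isoWhiskerRight (homTensorIso F L hL) (psh f) ≪≫ Functor.associator _ _ _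
  let b : TR ((plb f).obj N) ⋙ Φ' ≅ Φ' ⋙ TR N := relHomTwistIso f F N hN
  have key := abstract_iso Ψ Φ' (TR (dl L)) (TR ((plb f).obj N)) (TR N) a b G
    ((swapIso ((plb f).obj N) (dl L)).app G) p
  exact key

end TwoSchemes

end Groth.Agent.Lib.Helper1.RelExt
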