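import Mathlib
import Groth.Agent.Lib.Helper1ClProjA
import Groth.Agent.Lib.Helper1RelExt
set_option backward.isDefEq.respectTransparency.types false

/-!
# helper1: the projection formula for closed immersions, part B
(`i_* M ⊗ i_* E ≅ i_*(M ⊗ E)`, full faithfulness, injectivity criterion)
-/

set_option autoImplicit false
set_option linter.style.haveILetI false
set_option maxHeartbeats 400000
universe u
open CategoryTheory CategoryTheory.Limits AlgebraicGeometry TopologicalSpace Opposite
  MonoidalCategory TensorProduct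

namespace Groth.Agent.Lib.Helper1.ClProj

open Groth.Agent.Lib.Helper1.PT Groth.Agent.Lib.Helper1.Sky Groth.Agent.Lib.Helper1.StalkTensor
  Groth.Agent.Lib.Helper21.ModTensor2 Groth.Agent.Lib.Helper23.PB Groth.Agent.Lib.Helper1.Proj
  Groth.Agent.Lib.Helper1.TQ

variable {Z X : Scheme.{u}} (i : Z ⟶ X) [IsClosedImmersion i]

instance isIso_counit_nat : IsIso (ppAdj i).counit :=
  NatIso.isIso_of_isIso_app _

/-- `i_*` is fully faithful -/
noncomputable def pushFullyFaithful : (psh i).FullyFaithful :=
  (ppAdj i).fullyFaithfulROfIsIsoCounit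

/-- `i_* M ⊗ i_* E ⟶ i_*(M ⊗ E)` -/
noncomputable def kap (M E : Z.Modules) :
    tens ((psh i).obj M) ((psh i).obj E) ⟶ (psh i).obj (tens M E) :=
  th i ((psh i).obj M) E ≫ (psh i).map ((DCoh.tensorBi.map ((ppAdj i).counit.app M)).app E)

instance isIso_kap (M E : Z.Modules) : IsIso (kap i M E) := by
  unfold kap
  haveI := isIso_th_closedImmersion i ((psh i).obj M) E
  infer_instance

lemma kap_naturality_left {M M' : Z.Modules} (g : M ⟶ M') (E : Z.Modules) :
    (DCoh.tensorBi.map ((psh i).map g)).app ((psh i).obj E) ≫ kap i M' E =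
      kap i M E ≫ (psh i).map ((DCoh.tensorBi.map g).app E) := by
  unfold kap
  have h1 := th_naturality_left i ((psh i).map g) E
  have h2 : (psh i).map ((DCoh.tensorBi.map ((plb i).map ((psh i).map g))).app E) ≫
      (psh i).map ((DCoh.tensorBi.map ((ppAdj i).counit.app M')).app E) =
      (psh i).map ((DCoh.tensorBi.map ((ppAdj i).counit.app M)).app E) ≫
        (psh i).map ((DCoh.tensorBi.map g).app E) := by
    rw [← Functor.map_comp, ← Functor.map_comp, ← NatTrans.comp_app, ← NatTrans.comp_app,
      ← Functor.map_comp, ← Functor.map_comp]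
    have h3 := (ppAdj i).counit.naturality g
    exact congrArg (fun t => (psh i).map ((DCoh.tensorBi.map t).app E)) h3
  rw [← Category.assoc, h1, Category.assoc, h2, Category.assoc]

open Groth.Agent.Lib.Helper1.RelExt in
/-- S11920: `J` is injective if `i_* J ≅ ℋom(i_* E, Q)` with `Q` injective and `E` finite locally
free -/
theorem injective_of_push_iso_sheafHom (Q : X.Modules) (hQ : Injective Q) (E : Z.Modules)
    (hE : FlatMod.IsFinLocFree E)
    [ModSite.HasSheafHom (O := X.sheaf) ((psh i).obj E)] (J : Z.Modules)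
    (e : (psh i).obj J ≅ (ModSite.sheafHom (O := X.sheaf) ((psh i).obj E)).obj Q) :
    Injective J := by
  let T : X.Modules ⥤ X.Modules := (ModSite.tensorBi X.sheaf).flip.obj ((psh i).obj E)
  let adj : T ⊣ ModSite.sheafHom (O := X.sheaf) ((psh i).obj E) :=
    ModSite.sheafHomAdj (O := X.sheaf) ((psh i).obj E)
  haveI := preservesFiniteLimits_TR E hE
  refine ⟨fun {A B} g f hf => ?_⟩
  haveI : Mono f := hf
  haveI : Mono ((DCoh.tensorBi.map f).app E) :=
    inferInstanceAs (Mono ((TR E).map f))
  haveI : (psh i).IsRightAdjoint := (ppAdj i).isRightAdjoint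
  haveI : Mono ((psh i).map ((DCoh.tensorBi.map f).app E)) := inferInstance
  haveI : Mono (T.map ((psh i).map f)) := by
    have h := kap_naturality_left i f E
    have h2 : T.map ((psh i).map f) =
        (kap i A E ≫ (psh i).map ((DCoh.tensorBi.map f).app E)) ≫ inv (kap i B E) := by
      rw [← h, Category.assoc, IsIso.hom_inv_id, Category.comp_id]
      rfl
    rw [h2]
    haveI hm1 : Mono (kap i A E) := inferInstance
    haveI hm2 : Mono (kap i A E ≫ (psh i).map ((DCoh.tensorBi.map f).app E)) :=
      mono_comp (kap i A E) ((psh i).map ((DCoh.tensorBi.map f).app E))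
    haveI hm3 : Mono (inv (kap i B E)) := inferInstance
    exact mono_comp (kap i A E ≫ (psh i).map ((DCoh.tensorBi.map f).app E)) (inv (kap i B E))
  let g' : T.obj ((psh i).obj A) ⟶ Q := (adj.homEquiv _ _).symm ((psh i).map g ≫ e.hom)
  let h' : T.obj ((psh i).obj B) ⟶ Q := Injective.factorThru g' (T.map ((psh i).map f))
  have hh' : T.map ((psh i).map f) ≫ h' = g' := Injective.comp_factorThru _ _
  let h : (psh i).obj B ⟶ (psh i).obj J := adj.homEquiv _ _ h' ≫ e.inv
  refine ⟨(pushFullyFaithful i).preimage h, ?_⟩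
  apply (pushFullyFaithful i).map_injective
  rw [Functor.map_comp, Functor.FullyFaithful.map_preimage]
  change (psh i).map f ≫ adj.homEquiv _ _ h' ≫ e.inv = _
  rw [← Category.assoc, ← Adjunction.homEquiv_naturality_left, hh']
  change adj.homEquiv _ _ ((adj.homEquiv _ _).symm ((psh i).map g ≫ e.hom)) ≫ e.inv = _
  rw [Equiv.apply_symm_apply, Category.assoc, Iso.hom_inv_id, Category.comp_id]

end Groth.Agent.Lib.Helper1.ClProj
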