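import Mathlib
import Groth.Agent.Lib.Helper1ClProjB
set_option backward.isDefEq.respectTransparency.types false

/-!
# helper1: the direct image along a closed immersion preserves coproducts
-/

set_option autoImplicit false
set_option linter.style.haveILetI false
set_option linter.unusedSectionVars false
set_option maxHeartbeats 400000
universe u w
open CategoryTheory CategoryTheory.Limits AlgebraicGeometry TopologicalSpace Opposite
  MonoidalCategory TensorProduct

namespace Groth.Agent.Lib.Helper1.ClProj

open Groth.Agent.Lib.Helper1.PT Groth.Agent.Lib.Helper1.Sky Groth.Agent.Lib.Helper1.StalkTensor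
  Groth.Agent.Lib.Helper21.ModTensor2 Groth.Agent.Lib.Helper23.PB Groth.Agent.Lib.Helper1.Proj
  Groth.Agent.Lib.Helper1.TQ

variable {Z X : Scheme.{u}} (i : Z ⟶ X) [IsClosedImmersion i]

section good

variable {J : Type w} (A : J → X.Modules) [HasCoproduct A]

/-- the stalk functor preserves colimits -/
instance preservesColimits_stalkFun (x : X) : PreservesColimitsOfSize.{w, w} (stalkFun x) :=
  (stalkSkyAdj x).leftAdjoint_preservesColimits

omit [IsClosedImmersion i] in
/-- the stalks of the inclusions of a coproduct are jointly epimorphic -/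
lemma stalk_sigma_hom_ext (x : X) {T : ModuleCat.{u} (Sky.Ox x)}
    (a b : (stalkFun x).obj (∐ A) ⟶ T)
    (h : ∀ j, (stalkFun x).map (Sigma.ι A j) ≫ a = (stalkFun x).map (Sigma.ι A j) ≫ b) : a = b := by
  have hc : IsColimit ((stalkFun x).mapCocone (colimit.cocone (Discrete.functor A))) :=
    isColimitOfPreserves (stalkFun x) (colimit.isColimit (Discrete.functor A))
  apply hc.hom_ext
  rintro ⟨j⟩
  exact h j

/-- a coproduct of good modules is good -/
lemma good_sigma (hA : ∀ j, Good i (A j)) : Good i (∐ A) := by
  constructor
  · intro x hx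
    have h0 : (𝟙 ((stalkFun x).obj (∐ A))) = 0 := by
      apply stalk_sigma_hom_ext A x
      intro j
      haveI := (hA j).1 x hx
      apply ModuleCat.hom_ext
      apply LinearMap.ext
      intro a
      have ha : a = 0 := Subsingleton.elim (α := St (toPM (A j)) x) _ _
      rw [ha, map_zero, map_zero]
    refine ⟨fun a b => ?_⟩
    have ha : a = (𝟙 ((stalkFun x).obj (∐ A)) : _ ⟶ _).hom a := rfl
    have hb : b = (𝟙 ((stalkFun x).obj (∐ A)) : _ ⟶ _).hom b := rfl
    rw [ha, hb, h0]
    rfl
  · intro z r hr a
    have h0 : r • (𝟙 ((stalkFun (i.base z)).obj (∐ A))) = 0 := by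
      apply stalk_sigma_hom_ext A (i.base z)
      intro j
      rw [Linear.comp_smul, Category.comp_id, comp_zero]
      apply ModuleCat.hom_ext
      apply LinearMap.ext
      intro b
      change r • ((stalkFun (i.base z)).map (Sigma.ι A j)).hom b = 0
      have hb : r • b = 0 := (hA j).2 z r hr b
      rw [← map_smul, hb, map_zero]
    have h1 := congrArg (fun t => t.hom a) h0
    exact h1

end good

section coprod

variable {J : Type w} [HasCoproductsOfShape J Z.Modules] [HasCoproductsOfShape J X.Modules]
  (f : J → Z.Modules)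

/-- the comparison `∐ i_* f_j ⟶ i_* ∐ f_j` is an isomorphism -/
theorem isIso_sigmaComparison_push : IsIso (sigmaComparison (psh i) f) := by
  let M : X.Modules := ∐ fun j => (psh i).obj (f j)
  let κ : M ⟶ (psh i).obj (∐ f) := sigmaComparison (psh i) f
  haveI hη : IsIso (un i M) :=
    isIso_unit_of_good i M (good_sigma i _ (fun j => good_push i (f j)))
  let κs : (plb i).obj M ⟶ ∐ f := ((ppAdj i).homEquiv _ _).symm κ
  have hκ : κ = un i M ≫ (psh i).map κs := by
    have h := (ppAdj i).homEquiv_unit (X := M) (Y := ∐ f) (f := κs)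
    rw [← h]
    exact (Equiv.apply_symm_apply _ _).symm
  haveI : PreservesColimitsOfSize.{w, w} (plb i) := (ppAdj i).leftAdjoint_preservesColimits
  let σ' : (∐ fun j => (plb i).obj ((psh i).obj (f j))) ⟶ (plb i).obj M :=
    sigmaComparison (plb i) (fun j => (psh i).obj (f j))
  haveI : IsIso σ' := inferInstance
  have h2 : σ' ≫ κs = Limits.Sigma.map (fun j => (ppAdj i).counit.app (f j)) := by
    apply Sigma.hom_ext
    intro j
    have e1 : κs = (plb i).map κ ≫ (ppAdj i).counit.app (∐ f) :=
      (ppAdj i).homEquiv_counit _ _ _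
    rw [ι_comp_sigmaComparison_assoc, e1, ← Category.assoc, ← Functor.map_comp]
    have e2 : Sigma.ι (fun j => (psh i).obj (f j)) j ≫ κ = (psh i).map (Sigma.ι f j) :=
      ι_comp_sigmaComparison (psh i) f j
    rw [e2, Limits.Sigma.ι_map]
    exact (ppAdj i).counit.naturality (Sigma.ι f j)
  haveI : IsIso (Limits.Sigma.map (fun j => (ppAdj i).counit.app (f j))) := inferInstance
  haveI : IsIso κs := by
    have h3 : κs = inv σ' ≫ Limits.Sigma.map (fun j => (ppAdj i).counit.app (f j)) := by
      rw [← h2, IsIso.inv_hom_id_assoc]
    rw [h3]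
    infer_instance
  change IsIso κ
  rw [hκ]
  infer_instance

instance preservesCoproduct_push : PreservesColimit (Discrete.functor f) (psh i) := by
  haveI := isIso_sigmaComparison_push i f
  exact PreservesCoproduct.of_iso_comparison (psh i) f

instance preservesColimitsOfShape_discrete_push :
    PreservesColimitsOfShape (Discrete J) (psh i) where
  preservesColimit {K} := by
    haveI := preservesCoproduct_push i (fun j => K.obj ⟨j⟩)
    exact preservesColimit_of_iso_diagram (psh i) (Discrete.natIsoFunctor (F := K)).symm

end coprod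

end Groth.Agent.Lib.Helper1.ClProj
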