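import Mathlib
import Groth.Prelude.Def_TotMap
import Groth.Agent.Lib.Helper1ClProjC
import Groth.Agent.Lib.Helper1BKF18
set_option backward.isDefEq.respectTransparency.types false

/-!
# helper1: the projection formula for a closed immersion on complexes
-/

set_option autoImplicit false
set_option linter.style.haveILetI false
set_option linter.unusedSectionVars false
set_option maxHeartbeats 400000
universe u
open CategoryTheory CategoryTheory.Limits AlgebraicGeometry HomologicalComplex

namespace Groth.Agent.Lib.Helper1.ClProj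

open Groth.Agent.Lib.Helper1.PT Groth.Agent.Lib.Helper1.Proj Groth.Agent.Lib.Helper1.BKF
  Groth.Agent.Lib.Helper21.ModTensor5

variable {Z X : Scheme.{u}} (i : Z ⟶ X)

/-- `(M, A) ↦ M ⊗ i^* A` -/
noncomputable abbrev midBi : Z.Modules ⥤ X.Modules ⥤ Z.Modules :=
  DCoh.tensorBi (X := Z) ⋙ (Functor.whiskeringLeft _ _ _).obj (plb i)

/-- `(M, A) ↦ i_*(M ⊗ i^* A)` -/
noncomputable abbrev srcBi : Z.Modules ⥤ X.Modules ⥤ X.Modules :=
  midBi i ⋙ (Functor.whiskeringRight _ _ _).obj (psh i)

/-- `(M, A) ↦ i_* M ⊗ A` -/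
noncomputable abbrev tgtBi : Z.Modules ⥤ X.Modules ⥤ X.Modules :=
  psh i ⋙ DCoh.tensorBi (X := X)

/-- the braiding, typed through `DCoh.tensorBi` -/
noncomputable def bd {Y : Scheme.{u}} (A B : Y.Modules) :
    (DCoh.tensorBi.obj A).obj B ⟶ (DCoh.tensorBi.obj B).obj A :=
  ((brd Y.sheaf).hom.app A).app B

instance isIso_bd {Y : Scheme.{u}} (A B : Y.Modules) : IsIso (bd A B) := by
  unfold bd
  exact ⟨⟨((brd Y.sheaf).inv.app A).app B,
    congrArg (fun t => t.app B) ((brd Y.sheaf).hom_inv_id_app A),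
    congrArg (fun t => t.app B) ((brd Y.sheaf).inv_hom_id_app A)⟩⟩

@[reassoc]
lemma bd_nat_right {Y : Scheme.{u}} (A : Y.Modules) {B B' : Y.Modules} (g : B ⟶ B') :
    (DCoh.tensorBi.obj A).map g ≫ bd A B' = bd A B ≫ (DCoh.tensorBi.map g).app A :=
  ((brd Y.sheaf).hom.app A).naturality g

@[reassoc]
lemma bd_nat_left {Y : Scheme.{u}} {A A' : Y.Modules} (f : A ⟶ A') (B : Y.Modules) :
    (DCoh.tensorBi.map f).app B ≫ bd A' B = bd A B ≫ (DCoh.tensorBi.obj B).map f :=
  congrArg (fun t => t.app B) ((brd Y.sheaf).hom.naturality f)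

/-- the braided projection-formula map `i_* M ⊗ A ⟶ i_*(M ⊗ i^* A)` -/
noncomputable def tau (M : Z.Modules) (A : X.Modules) :
    (DCoh.tensorBi.obj ((psh i).obj M)).obj A ⟶
      (psh i).obj ((DCoh.tensorBi.obj M).obj ((plb i).obj A)) :=
  bd ((psh i).obj M) A ≫ th i A M ≫ (psh i).map (bd ((plb i).obj A) M)

lemma tau_naturality_right (M : Z.Modules) {A A' : X.Modules} (h : A ⟶ A') :
    (DCoh.tensorBi.obj ((psh i).obj M)).map h ≫ tau i M A' =
      tau i M A ≫ (psh i).map ((DCoh.tensorBi.obj M).map ((plb i).map h)) := by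
  unfold tau
  have s2 := th_naturality_left i h M
  rw [bd_nat_right_assoc, ← Category.assoc ((DCoh.tensorBi.map h).app ((psh i).obj M)), s2]
  simp only [Category.assoc, ← Functor.map_comp]
  rw [bd_nat_left]

lemma tau_naturality_left {M M' : Z.Modules} (g : M ⟶ M') (A : X.Modules) :
    (DCoh.tensorBi.map ((psh i).map g)).app A ≫ tau i M' A =
      tau i M A ≫ (psh i).map ((DCoh.tensorBi.map g).app ((plb i).obj A)) := by
  unfold tau
  have s2 := th_naturality_right i A g
  rw [bd_nat_left_assoc, ← Category.assoc ((DCoh.tensorBi.obj A).map ((psh i).map g)), s2]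
  simp only [Category.assoc, ← Functor.map_comp]
  rw [bd_nat_right]

instance isIso_tau [IsClosedImmersion i] (M : Z.Modules) (A : X.Modules) : IsIso (tau i M A) := by
  unfold tau
  haveI := isIso_th_closedImmersion i A M
  infer_instance

section complexes

variable [IsClosedImmersion i]

/-- the projection formula as an isomorphism of bifunctors -/
noncomputable def projBi : tgtBi i ≅ srcBi i :=
  NatIso.ofComponents (fun M => NatIso.ofComponents (fun A => asIso (tau i M A))
      (fun {_ _} h => tau_naturality_right i M h))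
    (fun {_ _} g => NatTrans.ext (funext fun A => tau_naturality_left i g A))

instance preservesZeroMorphisms_midBi_obj (M : Z.Modules) :
    ((midBi i).obj M).PreservesZeroMorphisms :=
  (inferInstance : (plb i ⋙ (DCoh.tensorBi (X := Z)).obj M).PreservesZeroMorphisms)

instance preservesZeroMorphisms_srcBi_obj (M : Z.Modules) :
    ((srcBi i).obj M).PreservesZeroMorphisms :=
  (inferInstance : ((plb i ⋙ (DCoh.tensorBi (X := Z)).obj M) ⋙ psh i).PreservesZeroMorphisms)

instance preservesZeroMorphisms_tgtBi_obj (M : Z.Modules) :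
    ((tgtBi i).obj M).PreservesZeroMorphisms :=
  (inferInstance : ((DCoh.tensorBi (X := X)).obj ((psh i).obj M)).PreservesZeroMorphisms)

instance preservesTotal_push
    (B : HomologicalComplex₂ Z.Modules (ComplexShape.up ℤ) (ComplexShape.up ℤ)) :
    TotMap.PreservesTotal (psh i) B (ComplexShape.up ℤ) := fun n => by
  infer_instance

variable (L : CochainComplex Z.Modules ℤ) (K : CochainComplex X.Modules ℤ)

/-- the bicomplex `L^p ⊗ (i^* K)^q` -/
noncomputable abbrev B₁' :=
  (((DCoh.tensorBi (X := Z)).mapBifunctorHomologicalComplex (ComplexShape.up ℤ)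
    (ComplexShape.up ℤ)).obj L).obj
      (((plb i).mapHomologicalComplex (ComplexShape.up ℤ)).obj K)

/-- the bicomplex `i_* L^p ⊗ K^q` -/
noncomputable abbrev B₄' :=
  (((DCoh.tensorBi (X := X)).mapBifunctorHomologicalComplex (ComplexShape.up ℤ)
    (ComplexShape.up ℤ)).obj (((psh i).mapHomologicalComplex (ComplexShape.up ℤ)).obj L)).obj K

/-- **the projection formula for a closed immersion on complexes**:
`i_*(L ⊗ i^* K) ≅ i_* L ⊗ K`. -/
noncomputable def pushTensorCxIso :
    ((psh i).mapHomologicalComplex (ComplexShape.up ℤ)).obj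
      ((DCoh.tensorCx.obj L).obj (((plb i).mapHomologicalComplex (ComplexShape.up ℤ)).obj K)) ≅
    (DCoh.tensorCx.obj (((psh i).mapHomologicalComplex (ComplexShape.up ℤ)).obj L)).obj K := by
  haveI h1 : ((TotMap.map₂ (psh i) (ComplexShape.up ℤ) (ComplexShape.up ℤ)).obj
      (B₁' i L K)).HasTotal (ComplexShape.up ℤ) :=
    TotMap.hasTotal_map₂ (psh i) (B₁' i L K) (ComplexShape.up ℤ)
  let e₂ : (TotMap.map₂ (psh i) (ComplexShape.up ℤ) (ComplexShape.up ℤ)).obj (B₁' i L K) ≅
      (((srcBi i).mapBifunctorHomologicalComplex (ComplexShape.up ℤ)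
        (ComplexShape.up ℤ)).obj L).obj K :=
    (TotMap.map₂ (psh i) (ComplexShape.up ℤ) (ComplexShape.up ℤ)).mapIso
        (precompIso₂ (DCoh.tensorBi (X := Z)) (plb i) L K) ≪≫
      (TotMap.mapBifunctorPostcompIso (midBi i) (psh i) L K).symm
  haveI h2 : HasMapBifunctor L K (srcBi i) (ComplexShape.up ℤ) :=
    HomologicalComplex₂.hasTotal_of_iso e₂ (ComplexShape.up ℤ)
  let e₄ : B₄' i L K ≅ (((tgtBi i).mapBifunctorHomologicalComplex (ComplexShape.up ℤ)
        (ComplexShape.up ℤ)).obj L).obj K :=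
    precompIso₁ (DCoh.tensorBi (X := X)) (psh i) L K
  haveI h3 : HasMapBifunctor L K (tgtBi i) (ComplexShape.up ℤ) :=
    HomologicalComplex₂.hasTotal_of_iso e₄ (ComplexShape.up ℤ)
  exact TotMap.mapTotalIso (psh i) (B₁' i L K) (ComplexShape.up ℤ) ≪≫
    HomologicalComplex₂.total.mapIso e₂ (ComplexShape.up ℤ) ≪≫
    (TotMap.mapBifunctorNatIso L K (ComplexShape.up ℤ) (projBi i)).symm ≪≫
    (HomologicalComplex₂.total.mapIso e₄ (ComplexShape.up ℤ)).symm

end complexes

end Groth.Agent.Lib.Helper1.ClProj
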