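import Mathlib
import Groth.Agent.Lib.Helper1ClProjD
import Groth.Agent.Lib.Helper1DAdj
import Groth.Agent.Lib.Helper1LDer4
import Groth.Agent.Lib.Helper17FinProjLoc
set_option backward.isDefEq.respectTransparency.types false

/-!
# helper1: the projection formula for a closed immersion in the derived category
-/

set_option autoImplicit false
set_option linter.style.haveILetI false
set_option linter.unusedSectionVars false
set_option maxHeartbeats 400000
universe u
open CategoryTheory CategoryTheory.Limits AlgebraicGeometry HomologicalComplex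

attribute [local instance] HasDerivedCategory.standard

namespace Groth.Agent.Lib.Helper1.ClProj

open Groth.Agent.Lib.Helper1.PT Groth.Agent.Lib.Helper1.Proj Groth.Agent.Lib.Helper1.BKF
  Groth.Agent.Lib.Helper1.DAdj

variable {Z X : Scheme.{u}} (i : Z ⟶ X) [IsClosedImmersion i]

instance preservesHomology_push : (psh i).PreservesHomology :=
  Groth.Agent.Lib.Helper17.FinLoc.preservesHomology_pushforward_of_isClosedImmersion i

instance faithful_push : (psh i).Faithful :=
  Groth.Agent.Lib.Helper27ClosedTransfer.faithful_pushforward i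

/-- the pullback of a K-flat complex along a closed immersion is K-flat -/
theorem isKFlat_pullC (P : CochainComplex X.Modules ℤ) (hP : DCoh.IsKFlat P) :
    DCoh.IsKFlat (((plb i).mapHomologicalComplex (ComplexShape.up ℤ)).obj P) := by
  intro L hL
  haveI : PreservesFiniteLimits (psh i) := (psh i).preservesFiniteLimits_of_preservesHomology
  haveI : PreservesFiniteColimits (psh i) := (psh i).preservesFiniteColimits_of_preservesHomology
  apply acyc_of_acyc_map (psh i)
  exact Acyc.of_iso (pushTensorCxIso i L P).symm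
    (hP (((psh i).mapHomologicalComplex (ComplexShape.up ℤ)).obj L)
      (acyc_map_of_acyc (psh i) L hL))

/-- `Rf_*` of a closed immersion is computed termwise -/
theorem isIso_rpushNat [DCoh.HasLpull i] [DCoh.HasRpush i] : IsIso (rpushNat i) := by
  have hinv : (HomologicalComplex.quasiIso Z.Modules (ComplexShape.up ℤ)).IsInvertedBy
      (pushC i ⋙ DerivedCategory.Q) := fun K L f hf => by
    haveI : QuasiIso f := (HomologicalComplex.mem_quasiIso_iff f).1 hf
    haveI : QuasiIso ((pushC i).map f) := inferInstance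
    exact inferInstanceAs (IsIso (DerivedCategory.Q.map ((pushC i).map f)))
  exact Functor.isIso_of_isRightDerivedFunctor_of_inverts (L := DerivedCategory.Q)
    (DCoh.Rpush i) (rpushNat i) hinv

/-- S0966: the projection formula for a closed immersion and a K-flat complex -/
theorem nonempty_projection_formula [DCoh.HasRpush i] (P : CochainComplex X.Modules ℤ)
    (hP : DCoh.IsKFlat P) [DCoh.HasLTensorCx P]
    [DCoh.HasLTensorCx (((plb i).mapHomologicalComplex (ComplexShape.up ℤ)).obj P)]
    (E : DCoh.D Z) :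
    Nonempty ((DCoh.LTensorCx P).obj ((DCoh.Rpush i).obj E) ≅
      (DCoh.Rpush i).obj
        ((DCoh.LTensorCx (((plb i).mapHomologicalComplex (ComplexShape.up ℤ)).obj P)).obj E)) := by
  haveI : DCoh.HasLpull i := Groth.Agent.Lib.Helper1.Sky.hasLpull i
  haveI := isIso_rpushNat i
  let iR : pushC i ⋙ DerivedCategory.Q ≅ DerivedCategory.Q ⋙ DCoh.Rpush i := asIso (rpushNat i)
  let P' : CochainComplex Z.Modules ℤ := ((plb i).mapHomologicalComplex (ComplexShape.up ℤ)).obj P
  have hP' : DCoh.IsKFlat P' := isKFlat_pullC i P hP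
  haveI hI1 : ModSite.HasLTensorCx (O := X.sheaf) P := (inferInstance : DCoh.HasLTensorCx P)
  haveI hI2 : ModSite.HasLTensorCx (O := Z.sheaf) P' := (inferInstance : DCoh.HasLTensorCx P')
  haveI q1 : QuasiIso (𝟙 P) := inferInstance
  haveI q2 : QuasiIso (𝟙 P') := inferInstance
  obtain ⟨t1⟩ := @nonempty_iso_Q_comp_LTensorCx _ _ _ X.sheaf P P (𝟙 P) q1 hP hI1
  obtain ⟨t2⟩ := @nonempty_iso_Q_comp_LTensorCx _ _ _ Z.sheaf P' P' (𝟙 P') q2 hP' hI2
  let E' : CochainComplex Z.Modules ℤ := DerivedCategory.Q.objPreimage E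
  let e : DerivedCategory.Q.obj E' ≅ E := DerivedCategory.Q.objObjPreimageIso E
  -- left hand side
  have l1 : (DCoh.LTensorCx P).obj ((DCoh.Rpush i).obj E) ≅
      (DCoh.LTensorCx P).obj (DerivedCategory.Q.obj ((pushC i).obj E')) :=
    (DCoh.LTensorCx P).mapIso ((DCoh.Rpush i).mapIso e.symm ≪≫ (iR.app E').symm)
  have l2 : (DCoh.LTensorCx P).obj (DerivedCategory.Q.obj ((pushC i).obj E')) ≅
      DerivedCategory.Q.obj ((DCoh.tensorCx.obj ((pushC i).obj E')).obj P) :=
    t1.app ((pushC i).obj E')
  -- right hand side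
  have r1 : (DCoh.LTensorCx P').obj E ≅
      DerivedCategory.Q.obj ((DCoh.tensorCx.obj E').obj P') :=
    (DCoh.LTensorCx P').mapIso e.symm ≪≫ t2.app E'
  have r2 : (DCoh.Rpush i).obj (DerivedCategory.Q.obj ((DCoh.tensorCx.obj E').obj P')) ≅
      DerivedCategory.Q.obj ((pushC i).obj ((DCoh.tensorCx.obj E').obj P')) :=
    (iR.app ((DCoh.tensorCx.obj E').obj P')).symm
  have r3 : DerivedCategory.Q.obj ((pushC i).obj ((DCoh.tensorCx.obj E').obj P')) ≅
      DerivedCategory.Q.obj ((DCoh.tensorCx.obj ((pushC i).obj E')).obj P) :=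
    DerivedCategory.Q.mapIso (pushTensorCxIso i E' P)
  exact ⟨l1 ≪≫ l2 ≪≫ r3.symm ≪≫ r2.symm ≪≫ (DCoh.Rpush i).mapIso r1.symm⟩

end Groth.Agent.Lib.Helper1.ClProj
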