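import Groth.Agent.Lib.Helper21ModCoh
import Groth.Prelude.Def_Coh

/-!
# Helper27: `Ext^i(O_X, G) = 0` when `H^i(X, G) = 0`
-/

set_option autoImplicit false
universe u
open CategoryTheory Limits AlgebraicGeometry Opposite Abelian

namespace Groth.Agent.Lib.Helper27ExtTwist2

theorem subsingleton_ext_unit {X : Scheme.{u}} [HasExt.{u} X.Modules] (G : X.Modules) (i : ℕ)
    (h : Subsingleton (Coh.HH X G i)) :
    Subsingleton (Ext.{u} (Coh.structureModule X) G i) := by
  have hExt : HasExt.{u} (SheafOfModules.{u} X.ringCatSheaf) := ‹HasExt.{u} X.Modules›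
  obtain ⟨e⟩ := @Groth.Agent.Lib.Helper21.FreeAb.nonempty_ext_unit_iso _ _ _ X.ringCatSheaf hExt G i
  let e' := ((forget AddCommGrpCat.{u}).mapIso e).toEquiv
  exact @Equiv.subsingleton _ _ e' h

end Groth.Agent.Lib.Helper27ExtTwist2
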