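import Mathlib
import Groth.Agent.Lib.Helper1DAdj
import Groth.Agent.Lib.Helper1Sky9
import Groth.Agent.Lib.Helper17QCPush3
import Groth.Agent.Lib.Helper17MV10
import Groth.Agent.Lib.Helper1RDTri
import Groth.Agent.Lib.Helper1Devissage
import Groth.Agent.Lib.Helper27ExtTwist2
import Groth.Agent.Lib.Helper23AffVanish7
import Groth.Agent.Lib.Helper17QCPush2
import Groth.Agent.Lib.Helper21HZB9
import Groth.Agent.Lib.Helper2FPAff
import Groth.Agent.Lib.Helper20LocFree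
import Groth.Agent.Lib.Helper1FLF1
import Groth.Agent.Lib.Helper1SPL4
import Groth.Agent.S0015
set_option backward.isDefEq.respectTransparency.types false
set_option linter.style.haveILetI false
set_option maxHeartbeats 400000
set_option autoImplicit false

/-!
# Uniform vanishing of `Ext^n(F, E)` for finite locally free `F` and bounded `E ∈ D_QCoh` on a
quasi-compact quasi-separated scheme (helper1)
-/

universe w v u
open CategoryTheory CategoryTheory.Limits AlgebraicGeometry Pretriangulated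

attribute [local instance] HasDerivedCategory.standard

namespace Groth.Agent.Lib.Helper1.ExtVan

open Groth.Agent.Lib.Helper17.QCPush

attribute [local instance] Groth.Agent.Lib.Helper17.QCPush.hasRpush

section Tri
variable {C : Type u} [Category.{v} C] [HasZeroObject C] [HasShift C ℤ] [Preadditive C]
  [∀ n : ℤ, (shiftFunctor C n).Additive] [Pretriangulated C]

/-- vanishing of `Hom(S, T₁[n])` from the vanishing of `Hom(S, T₂[n])` and `Hom(S, T₃[-1][n])`. -/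
theorem eq_zero_of_distTriang (T : Triangle C) (hT : T ∈ distTriang C) (S : C) (n : ℤ)
    (h2 : ∀ ψ : S ⟶ T.obj₂⟦n⟧, ψ = 0)
    (h3 : ∀ ψ : S ⟶ (T.obj₃⟦(-1 : ℤ)⟧)⟦n⟧, ψ = 0)
    (φ : S ⟶ T.obj₁⟦n⟧) : φ = 0 := by
  have hT0 : T.invRotate ∈ distTriang C := inv_rot_of_distTriang T hT
  have hT1 := Triangle.shift_distinguished _ hT0 n
  obtain ⟨g, hg⟩ := Triangle.coyoneda_exact₂ _ hT1 φ (h2 _)
  have hg0 : g = 0 := h3 g
  rw [hg, hg0]
  exact zero_comp

/-- variant with the third vertex shifted by `n - 1`. -/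
theorem eq_zero_of_distTriang' (T : Triangle C) (hT : T ∈ distTriang C) (S : C) (n m : ℤ)
    (hm : m + 1 = n) (h2 : ∀ ψ : S ⟶ T.obj₂⟦n⟧, ψ = 0) (h3 : ∀ ψ : S ⟶ T.obj₃⟦m⟧, ψ = 0)
    (φ : S ⟶ T.obj₁⟦n⟧) : φ = 0 :=
  eq_zero_of_distTriang T hT S n h2 (fun ψ => by
    let ι₁ := (shiftFunctorAdd' C (-1) n m (by omega)).app T.obj₃
    have := h3 (ψ ≫ ι₁.inv)
    rw [← cancel_mono ι₁.inv, this, zero_comp]) φ

omit [HasZeroObject C] [Pretriangulated C] in
/-- maps into a shifted biproduct vanish if the maps into the shifted summands do. -/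
theorem eq_zero_of_biprod_shift (S A B : C) [HasBinaryBiproduct A B] (n : ℤ)
    (hA : ∀ ψ : S ⟶ A⟦n⟧, ψ = 0) (hB : ∀ ψ : S ⟶ B⟦n⟧, ψ = 0) (ψ : S ⟶ (A ⊞ B)⟦n⟧) : ψ = 0 := by
  have hid : 𝟙 ((A ⊞ B)⟦n⟧) = (shiftFunctor C n).map (biprod.fst : A ⊞ B ⟶ A) ≫
      (shiftFunctor C n).map (biprod.inl : A ⟶ A ⊞ B) +
      (shiftFunctor C n).map (biprod.snd : A ⊞ B ⟶ B) ≫
      (shiftFunctor C n).map (biprod.inr : B ⟶ A ⊞ B) := by
    rw [← Functor.map_comp, ← Functor.map_comp, ← Functor.map_add, biprod.total,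
      CategoryTheory.Functor.map_id]
  have h1 : ψ = ψ ≫ 𝟙 _ := (Category.comp_id ψ).symm
  rw [h1, hid, Preadditive.comp_add, ← Category.assoc, ← Category.assoc, hA (ψ ≫ _), hB (ψ ≫ _),
    zero_comp, zero_comp, add_zero]

end Tri

section Coprod
variable {C : Type u} [Category.{v} C] [Preadditive C] {D : Type*} [Category D] [Preadditive D]

/-- a morphism out of the image of a finite coproduct of copies of `A` under an additive
functor vanishes as soon as its components do. -/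
theorem eq_zero_of_sigma_comp (G : C ⥤ D) [G.Additive] {J : Type} [Fintype J] [DecidableEq J]
    (A : C) [HasCoproduct (fun _ : J => A)] {Y : D} (φ : G.obj (∐ fun _ : J => A) ⟶ Y)
    (h : ∀ j : J, G.map (Sigma.ι (fun _ : J => A) j) ≫ φ = 0) : φ = 0 := by
  have hid : 𝟙 (∐ fun _ : J => A) =
      ∑ j : J, Sigma.desc (fun i : J => if i = j then 𝟙 A else 0) ≫ Sigma.ι (fun _ : J => A) j := by
    apply Sigma.hom_ext
    intro i
    rw [Category.comp_id, Preadditive.comp_sum]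
    rw [Finset.sum_eq_single i]
    · rw [← Category.assoc, Sigma.ι_desc, if_pos rfl, Category.id_comp]
    · intro j _ hji
      rw [← Category.assoc, Sigma.ι_desc, if_neg (Ne.symm hji), zero_comp]
    · intro hi
      exact absurd (Finset.mem_univ i) hi
  have h1 : φ = G.map (𝟙 _) ≫ φ := by rw [G.map_id, Category.id_comp]
  rw [h1, hid, G.map_sum, Preadditive.sum_comp]
  apply Finset.sum_eq_zero
  intro j _
  rw [G.map_comp, Category.assoc, h j, comp_zero]

end Coprod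

section Sch

variable {Z : Scheme.{u}}




/-- `Lj^* K ≅ K|_W` for an open `W`. -/
theorem nonempty_lpull_iso_restrictD (W : Z.Opens) [DCoh.HasLpull W.ι] (K : DCoh.D Z) :
    Nonempty ((DCoh.Lpull W.ι).obj K ≅ (DCoh.restrictD W.ι).obj K) := by
  let E := (DerivedCategory.Q : _ ⥤ DCoh.D Z).objPreimage K
  let e : (DerivedCategory.Q : _ ⥤ DCoh.D Z).obj E ≅ K :=
    (DerivedCategory.Q : _ ⥤ DCoh.D Z).objObjPreimageIso K
  exact ⟨(DCoh.Lpull W.ι).mapIso e.symm ≪≫ Groth.Agent.Lib.Helper1.Sky.lpullOpenIso W E ≪≫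
    ((Scheme.Modules.restrictFunctor W.ι).mapDerivedCategoryFactors.app E).symm ≪≫
    (DCoh.restrictD W.ι).mapIso e⟩

/-- adjunction transfer: `Hom(K, Rj_* G[n]) = 0` if `Hom(K|_W, G[n]) = 0`. -/
theorem hom_rpush_eq_zero (W : Z.Opens) (K : DCoh.D Z) (G : DCoh.D (W : Scheme.{u})) (n : ℤ)
    (h : ∀ ψ : (DCoh.restrictD W.ι).obj K ⟶ G⟦n⟧, ψ = 0)
    (φ : K ⟶ ((DCoh.Rpush W.ι).obj G)⟦n⟧) : φ = 0 := by
  haveI : DCoh.HasLpull W.ι := Groth.Agent.Lib.Helper1.Sky.hasLpull W.ι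
  haveI := Groth.Agent.Lib.Helper17.MV.isGrothendieckAbelian (W : Scheme.{u})
  obtain ⟨e⟩ := Groth.Agent.Lib.Helper1.RDTri.nonempty_shift_iso
    (Scheme.Modules.pushforward W.ι) G n
  obtain ⟨ι₀⟩ := nonempty_lpull_iso_restrictD W K
  let adj := Groth.Agent.Lib.Helper1.DAdj.lpullRpushAdj W.ι
  have h1 : (adj.homEquiv K (G⟦n⟧)).symm (φ ≫ e.inv) = 0 := by
    have := h (ι₀.inv ≫ (adj.homEquiv K (G⟦n⟧)).symm (φ ≫ e.inv))
    rw [← cancel_epi ι₀.inv, this, comp_zero]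
  have h2 : φ ≫ e.inv = 0 := by
    have := congrArg (adj.homEquiv K (G⟦n⟧)) h1
    rw [Equiv.apply_symm_apply] at this
    rw [this]
    haveI : (DCoh.Rpush W.ι).IsRightAdjoint := adj.isRightAdjoint
    rw [Adjunction.homEquiv_unit, Functor.map_zero, comp_zero]
  rw [← cancel_mono e.inv, h2, zero_comp]


/-- cohomology sheaves commute with restriction to an open. -/
noncomputable def HDRestrictIso {U : Scheme.{u}} (j : U ⟶ Z) [IsOpenImmersion j] (E : DCoh.D Z)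
    (k : ℤ) : DCoh.HD ((DCoh.restrictD j).obj E) k ≅
      (Scheme.Modules.restrictFunctor j).obj (DCoh.HD E k) :=
  let K := (DerivedCategory.Q : _ ⥤ DCoh.D Z).objPreimage E
  let e : E ≅ (DerivedCategory.Q : _ ⥤ DCoh.D Z).obj K :=
    ((DerivedCategory.Q : _ ⥤ DCoh.D Z).objObjPreimageIso E).symm
  let e' : (DCoh.restrictD j).obj E ≅ (DerivedCategory.Q : _ ⥤ DCoh.D U).obj
      (((Scheme.Modules.restrictFunctor j).mapHomologicalComplex (ComplexShape.up ℤ)).obj K) :=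
    (DCoh.restrictD j).mapIso e ≪≫ (Scheme.Modules.restrictFunctor j).mapDerivedCategoryFactors.app K
  Groth.Agent.Lib.Helper17.MV.homologyIso _ e' k ≪≫
    (K.sc k).mapHomologyIso (Scheme.Modules.restrictFunctor j) ≪≫
    (Scheme.Modules.restrictFunctor j).mapIso (Groth.Agent.Lib.Helper17.MV.homologyIso K e k).symm

theorem isQCohD_restrictD {U : Scheme.{u}} (j : U ⟶ Z) [IsOpenImmersion j] (E : DCoh.D Z)
    (hE : DCoh.IsQCohD E) : DCoh.IsQCohD ((DCoh.restrictD j).obj E) := by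
  intro k
  haveI : (DCoh.HD E k).IsQuasicoherent := hE k
  exact (SheafOfModules.isQuasicoherent U.ringCatSheaf).prop_of_iso (HDRestrictIso j E k).symm inferInstance

theorem isZero_HD_restrictD {U : Scheme.{u}} (j : U ⟶ Z) [IsOpenImmersion j] (E : DCoh.D Z)
    (k : ℤ) (h : IsZero (DCoh.HD E k)) : IsZero (DCoh.HD ((DCoh.restrictD j).obj E) k) :=
  IsZero.of_iso ((Scheme.Modules.restrictFunctor j).map_isZero h) (HDRestrictIso j E k)


/-- `Ext^p(O, H) = 0` in the derived category for `H` quasi-coherent on an affine scheme. -/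
theorem hom_unit_single_eq_zero [IsAffine Z] (H : Z.Modules) [H.IsQuasicoherent] (m : ℤ)
    (hm : 0 < m) (φ : DCoh.inD Z (Coh.structureModule Z) ⟶ (DCoh.inD Z H)⟦m⟧) : φ = 0 := by
  haveI : EnoughInjectives Z.Modules := Groth.Agent.Lib.Helper17.QCPush.enoughInjectives Z
  haveI : HasExt.{u} Z.Modules := hasExt_of_enoughInjectives _
  obtain ⟨p, rfl⟩ : ∃ p : ℕ, m = (p : ℤ) := ⟨m.toNat, (Int.toNat_of_nonneg hm.le).symm⟩
  have hp : 0 < p := by exact_mod_cast hm
  haveI : Subsingleton (Abelian.Ext.{u} (Coh.structureModule Z) H p) :=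
    Groth.Agent.Lib.Helper27ExtTwist2.subsingleton_ext_unit H p
      (Groth.Agent.Lib.Helper23.AffVanish.subsingleton_HH H p hp)
  let e := Abelian.Ext.homAddEquiv (X := Coh.structureModule Z) (Y := H) (n := p)
  have h1 : e.symm φ = 0 := Subsingleton.elim _ _
  have h2 := congrArg e h1
  rw [AddEquiv.apply_symm_apply, map_zero] at h2
  exact h2


/-- the dévissage property -/
def VanAbove (S : DCoh.D Z) (b : ℤ) : ObjectProperty (DCoh.D Z) :=
  fun K => ∀ n : ℤ, b < n → ∀ φ : S ⟶ K⟦n⟧, φ = 0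

instance (S : DCoh.D Z) (b : ℤ) : (VanAbove S b).IsClosedUnderIsomorphisms where
  of_iso {K K'} e h n hn φ := by
    have := h n hn (φ ≫ (shiftFunctor (DCoh.D Z) n).map e.inv)
    have h2 : φ = (φ ≫ (shiftFunctor (DCoh.D Z) n).map e.inv) ≫
        (shiftFunctor (DCoh.D Z) n).map e.hom := by
      rw [Category.assoc, ← Functor.map_comp, e.inv_hom_id, CategoryTheory.Functor.map_id, Category.comp_id]
    rw [h2, this, zero_comp]

/-- dévissage: `Hom(S, E[n]) = 0` for `n > b` if this holds for quasi-coherent modules in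
positive degrees. -/
theorem vanAbove_of_bounded (S : DCoh.D Z)
    (hS : ∀ (H : Z.Modules), H.IsQuasicoherent → ∀ m : ℤ, 0 < m →
      ∀ φ : S ⟶ (DCoh.inD Z H)⟦m⟧, φ = 0)
    (E : DCoh.D Z) (hE : DCoh.IsQCohD E) (a b : ℤ)
    (hab : ∀ k : ℤ, (k < a ∨ b < k) → IsZero (DCoh.HD E k)) : VanAbove S b E := by
  apply Groth.Agent.Lib.Helper1.Devissage.induction_homology' (VanAbove S b) ?_ ?_ E a b hab
  · intro j _ hjb n hn φ
    let ea : ((DerivedCategory.singleFunctor Z.Modules 0).obj (DCoh.HD E j))⟦-j⟧ ≅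
        (DerivedCategory.singleFunctor Z.Modules j).obj (DCoh.HD E j) :=
      ((DerivedCategory.singleFunctors Z.Modules).shiftIso (-j) j 0 (by omega)).app _
    let eb : (((DerivedCategory.singleFunctor Z.Modules 0).obj (DCoh.HD E j))⟦-j⟧)⟦n⟧ ≅
        ((DerivedCategory.singleFunctor Z.Modules 0).obj (DCoh.HD E j))⟦n - j⟧ :=
      ((shiftFunctorAdd' (DCoh.D Z) (-j) n (n - j) (by omega)).app _).symm
    have h1 := hS (DCoh.HD E j) (hE j) (n - j) (by omega)
      (φ ≫ (shiftFunctor (DCoh.D Z) n).map ea.inv ≫ eb.hom)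
    have h2 : φ = (φ ≫ (shiftFunctor (DCoh.D Z) n).map ea.inv ≫ eb.hom) ≫ eb.inv ≫
        (shiftFunctor (DCoh.D Z) n).map ea.hom := by
      simp only [Category.assoc, Iso.hom_inv_id_assoc]
      rw [← Functor.map_comp, ea.inv_hom_id, CategoryTheory.Functor.map_id, Category.comp_id]
    rw [h2, h1, zero_comp]
  · intro K hK n _ φ
    exact ((shiftFunctor (DCoh.D Z) n).map_isZero hK).eq_of_tgt _ _
  · intro T hT h1 h3 n hn φ
    have hT1 := Triangle.shift_distinguished _ hT n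
    obtain ⟨g, hg⟩ := Triangle.coyoneda_exact₂ _ hT1 φ (h3 n hn _)
    have hg0 : g = 0 := h1 n hn g
    rw [hg, hg0]
    exact zero_comp

theorem exists_retract_freeMod_tilde (R : CommRingCat.{u}) (F : (Spec R).Modules)
    (hF : FlatMod.IsFinLocFree F) (P : ModuleCat.{u} R) (e₀ : F ≅ tilde P) :
    ∃ (n : ℕ) (s : F ⟶ FlatMod.freeMod (Spec R) n) (q : FlatMod.freeMod (Spec R) n ⟶ F),
      s ≫ q = 𝟙 F := by
  have hP : FlatMod.IsFinLocFree (tilde P) :=
    Groth.Agent.Lib.Helper1.FLF.isFinLocFree_of_iso e₀ hF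
  obtain ⟨hfin, hproj⟩ := (Groth.Agent.Lib.Helper2.FPAff.isFinLocFree_tilde_iff R P).1 hP
  obtain ⟨n, π, hπ⟩ := Module.Finite.exists_fin' R P
  obtain ⟨σ, hσ⟩ := Module.projective_lifting_property π LinearMap.id hπ
  let N : ModuleCat.{u} R := ModuleCat.of R (Fin n → R)
  let eN : tilde N ≅ FlatMod.freeMod (Spec R) n :=
    Groth.Agent.Lib.Helper20.LocFree.tildeFreeMod N (Pi.basisFun R (Fin n))
  let s₀ : P ⟶ N := ModuleCat.ofHom σ
  let q₀ : N ⟶ P := ModuleCat.ofHom π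
  have h₀ : s₀ ≫ q₀ = 𝟙 P := by
    ext x
    exact LinearMap.congr_fun hσ x
  let s₁ : tilde P ⟶ tilde N := (tilde.functor R).map s₀
  let q₁ : tilde N ⟶ tilde P := (tilde.functor R).map q₀
  have h₁ : s₁ ≫ q₁ = 𝟙 (tilde P) := by
    change (tilde.functor R).map s₀ ≫ (tilde.functor R).map q₀ = 𝟙 ((tilde.functor R).obj P)
    rw [← (tilde.functor R).map_comp, h₀, CategoryTheory.Functor.map_id]
  refine ⟨n, e₀.hom ≫ s₁ ≫ eN.hom, eN.inv ≫ q₁ ≫ e₀.inv, ?_⟩
  simp only [Category.assoc, Iso.hom_inv_id_assoc]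
  rw [reassoc_of% h₁, Iso.hom_inv_id]

/-- a finite locally free module on `Spec R` is a retract of a free module. -/
theorem exists_retract_freeMod_spec (R : CommRingCat.{u}) (F : (Spec R).Modules)
    (hF : FlatMod.IsFinLocFree F) :
    ∃ (n : ℕ) (s : F ⟶ FlatMod.freeMod (Spec R) n) (q : FlatMod.freeMod (Spec R) n ⟶ F),
      s ≫ q = 𝟙 F := by
  haveI : F.IsQuasicoherent := Groth.Agent.Lib.Helper21.HZB.isQuasicoherent_of_isFinLocFree F hF
  exact exists_retract_freeMod_tilde R F hF _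
    (Groth.Agent.Lib.Helper20.OmegaAff.isoTildeOfΓIso F (moduleSpecΓFunctor.obj F) (Iso.refl _))

/-- a finite locally free module on an affine scheme is a retract of a free module. -/
theorem exists_retract_freeMod_of_isAffine [IsAffine Z] (F : Z.Modules)
    (hF : FlatMod.IsFinLocFree F) :
    ∃ (n : ℕ) (s : F ⟶ FlatMod.freeMod Z n) (q : FlatMod.freeMod Z n ⟶ F), s ≫ q = 𝟙 F := by
  let θ : Z ≅ Spec Γ(Z, ⊤) := Z.isoSpec
  let F' : (Spec Γ(Z, ⊤)).Modules := (Scheme.Modules.restrictFunctor θ.inv).obj F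
  have hF' : FlatMod.IsFinLocFree F' := Groth.Agent.Lib.Helper1.SPL.isFinLocFree_restrict θ.inv F hF
  obtain ⟨n, s', q', h'⟩ := exists_retract_freeMod_spec Γ(Z, ⊤) F' hF'
  have hk : θ.hom ≫ θ.inv = 𝟙 Z := θ.hom_inv_id
  let ε : (Scheme.Modules.restrictFunctor θ.hom).obj F' ≅ F :=
    ((Scheme.Modules.restrictFunctorComp θ.hom θ.inv).app F).symm ≪≫
      (Scheme.Modules.restrictFunctorCongr hk).app F ≪≫ (Scheme.Modules.restrictFunctorId).app F
  let ρ : (Scheme.Modules.restrictFunctor θ.hom).obj (FlatMod.freeMod (Spec Γ(Z, ⊤)) n) ≅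
      FlatMod.freeMod Z n := Groth.Agent.Lib.Helper20.LocFree.restrictFreeMod θ.hom n
  refine ⟨n, ε.inv ≫ (Scheme.Modules.restrictFunctor θ.hom).map s' ≫ ρ.hom,
    ρ.inv ≫ (Scheme.Modules.restrictFunctor θ.hom).map q' ≫ ε.hom, ?_⟩
  simp only [Category.assoc, Iso.hom_inv_id_assoc]
  rw [← (Scheme.Modules.restrictFunctor θ.hom).map_comp_assoc, h', CategoryTheory.Functor.map_id,
    Category.id_comp, Iso.inv_hom_id]

/-- **affine case**: `Hom(F[0], E[n]) = 0` for `n > b`. -/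
theorem hom_finLocFree_eq_zero_of_isAffine [IsAffine Z] (F : Z.Modules)
    (hF : FlatMod.IsFinLocFree F) (E : DCoh.D Z) (hE : DCoh.IsQCohD E) (a b : ℤ)
    (hab : ∀ k : ℤ, (k < a ∨ b < k) → IsZero (DCoh.HD E k)) (n : ℤ) (hn : b < n)
    (φ : DCoh.inD Z F ⟶ E⟦n⟧) : φ = 0 := by
  obtain ⟨r, s, q, hsq⟩ := exists_retract_freeMod_of_isAffine F hF
  have hO : VanAbove (DCoh.inD Z (Coh.structureModule Z)) b E :=
    vanAbove_of_bounded _ (fun H hH m hm ψ => by
      haveI := hH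
      exact hom_unit_single_eq_zero H m hm ψ) E hE a b hab
  have h1 : (DerivedCategory.singleFunctor Z.Modules 0).map q ≫ φ = 0 := by
    apply eq_zero_of_sigma_comp (DerivedCategory.singleFunctor Z.Modules 0)
      (Coh.structureModule Z)
    intro j
    exact hO n hn _
  have h2 : φ = (DerivedCategory.singleFunctor Z.Modules 0).map s ≫
      (DerivedCategory.singleFunctor Z.Modules 0).map q ≫ φ := by
    rw [← Category.assoc, ← Functor.map_comp, hsq, CategoryTheory.Functor.map_id, Category.id_comp]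
  rw [h2, h1, comp_zero]


end Sch

section Induction

variable {X : Scheme.{u}}

/-- the inductive property. -/
def PInd (U : X.Opens) : Prop :=
  ∃ d : ℤ, ∀ (Z : Scheme.{u}) (i : Z ⟶ X) [IsOpenImmersion i], i.opensRange = U →
    ∀ (F : Z.Modules), FlatMod.IsFinLocFree F → ∀ (E : DCoh.D Z), DCoh.IsQCohD E → ∀ (a b : ℤ),
      (∀ k : ℤ, (k < a ∨ b < k) → IsZero (DCoh.HD E k)) →
      ∀ n : ℤ, b + d < n → ∀ φ : DCoh.inD Z F ⟶ E⟦n⟧, φ = 0

theorem pInd_affine (U : X.Opens) (hU : IsAffineOpen U) : PInd U := by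
  refine ⟨0, ?_⟩
  intro Z i _ hi F hF E hE a b hab n hn φ
  haveI : IsAffine Z := by
    have h : IsAffineOpen i.opensRange := hi ▸ hU
    haveI : IsAffine (i.opensRange : Scheme.{u}) := h
    exact IsAffine.of_isIso i.isoOpensRange.hom
  exact hom_finLocFree_eq_zero_of_isAffine F hF E hE a b hab n (by omega) φ

theorem pInd_sup (U V : X.Opens) (hU : PInd U) (hV : PInd V) (hUV : PInd (U ⊓ V)) :
    PInd (U ⊔ V) := by
  obtain ⟨dU, hU⟩ := hU
  obtain ⟨dV, hV⟩ := hV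
  obtain ⟨dW, hW⟩ := hUV
  refine ⟨max (max dU dV) (dW + 1), ?_⟩
  intro Z i _ hi F hF E hE a b hab n hn φ
  have hcov : i ⁻¹ᵁ U ⊔ i ⁻¹ᵁ V = ⊤ := by
    rw [← Scheme.Hom.preimage_sup, ← hi, Scheme.Hom.preimage_opensRange]
  obtain ⟨α, β, γ, hT⟩ := Groth.Agent.Lib.Helper17.MV.mv_triangle (i ⁻¹ᵁ U) (i ⁻¹ᵁ V) hcov E
  have key : ∀ (W : X.Opens), W ≤ U ⊔ V → ∀ (d' : ℤ),
      (∀ (Z : Scheme.{u}) (i : Z ⟶ X) [IsOpenImmersion i], i.opensRange = W →
        ∀ (F : Z.Modules), FlatMod.IsFinLocFree F → ∀ (E : DCoh.D Z), DCoh.IsQCohD E →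
        ∀ (a b : ℤ), (∀ k : ℤ, (k < a ∨ b < k) → IsZero (DCoh.HD E k)) →
        ∀ n : ℤ, b + d' < n → ∀ φ : DCoh.inD Z F ⟶ E⟦n⟧, φ = 0) →
      ∀ m : ℤ, b + d' < m → ∀ ψ : DCoh.inD Z F ⟶
        ((DCoh.Rpush (i ⁻¹ᵁ W).ι).obj ((DCoh.restrictD (i ⁻¹ᵁ W).ι).obj E))⟦m⟧, ψ = 0 := by
    intro W hWle d' hP m hm ψ
    have hr : ((i ⁻¹ᵁ W).ι ≫ i).opensRange = W := by
      rw [Scheme.Hom.opensRange_comp, Scheme.Opens.opensRange_ι,
        Scheme.Hom.image_preimage_eq_opensRange_inf, hi]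
      exact inf_eq_right.2 hWle
    apply hom_rpush_eq_zero (i ⁻¹ᵁ W) (DCoh.inD Z F) _ m
    intro ψ'
    have h1 := hP _ ((i ⁻¹ᵁ W).ι ≫ i) hr ((Scheme.Modules.restrictFunctor (i ⁻¹ᵁ W).ι).obj F)
      (Groth.Agent.Lib.Helper1.SPL.isFinLocFree_restrict (i ⁻¹ᵁ W).ι F hF)
      ((DCoh.restrictD (i ⁻¹ᵁ W).ι).obj E) (isQCohD_restrictD _ E hE) a b
      (fun k hk => isZero_HD_restrictD _ E k (hab k hk)) m hm
      ((restrictDInDIso (i ⁻¹ᵁ W).ι F).inv ≫ ψ')
    rw [← cancel_epi (restrictDInDIso (i ⁻¹ᵁ W).ι F).inv, h1, comp_zero]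
  refine eq_zero_of_distTriang' _ hT (DCoh.inD Z F) n (n - 1) (by omega) ?_ ?_ φ
  · have hA := key U le_sup_left dU (fun Z i _ => hU Z i) n
      (lt_of_le_of_lt (by have := le_max_left dU dV; have := le_max_left (max dU dV) (dW + 1); omega) hn)
    have hB := key V le_sup_right dV (fun Z i _ => hV Z i) n
      (lt_of_le_of_lt (by have := le_max_right dU dV; have := le_max_left (max dU dV) (dW + 1); omega) hn)
    exact eq_zero_of_biprod_shift _ _ _ n hA hB
  · exact key (U ⊓ V) (inf_le_left.trans le_sup_left) dW (fun Z i _ => hW Z i) (n - 1)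
      (by have := le_max_right (max dU dV) (dW + 1); omega)

/-- **uniform vanishing** on a quasi-compact quasi-separated scheme. -/
theorem exists_bound (X : Scheme.{u}) [CompactSpace X] [QuasiSeparatedSpace X] :
    ∃ d : ℤ, ∀ (F : X.Modules), FlatMod.IsFinLocFree F → ∀ (E : DCoh.D X), DCoh.IsQCohD E →
      ∀ (a b : ℤ), (∀ k : ℤ, (k < a ∨ b < k) → IsZero (DCoh.HD E k)) →
      ∀ n : ℤ, b + d < n → ∀ φ : DCoh.inD X F ⟶ E⟦n⟧, φ = 0 := by
  obtain ⟨d, hd⟩ := Groth.Agent.S0015.result X PInd pInd_affine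
    (fun U V _ _ hU hV hUV => pInd_sup U V hU hV hUV) ⊤ isCompact_univ
  exact ⟨d, fun F hF E hE a b hab n hn φ =>
    hd X (𝟙 X) (Scheme.Hom.opensRange_of_isIso _) F hF E hE a b hab n hn φ⟩

end Induction

end Groth.Agent.Lib.Helper1.ExtVan
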