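import Mathlib
import Groth.Agent.Lib.Helper1TensQCA
import Groth.Agent.Lib.Helper1ExtVan
import Groth.Agent.Lib.Helper17TildeD4
import Groth.Agent.Lib.Helper1KF8
import Groth.Agent.Lib.Helper1KF9
import Groth.Agent.Lib.Helper1KBC5
import Groth.Agent.S9498
set_option backward.isDefEq.respectTransparency.types false

/-!
# helper1: the derived tensor product preserves `D_QCoh`
-/

set_option autoImplicit false
set_option linter.style.haveILetI false
set_option linter.unusedSectionVars false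
set_option maxHeartbeats 400000
universe u
open CategoryTheory CategoryTheory.Limits AlgebraicGeometry HomologicalComplex

attribute [local instance] HasDerivedCategory.standard

namespace Groth.Agent.Lib.Helper1.TensQC

open Groth.Agent.Lib.Helper1.BKF Groth.Agent.Lib.Helper1.TQ Groth.Agent.Lib.Helper1.SPL
  Groth.Agent.Lib.Helper21.ModTensor3 Groth.Agent.Lib.Helper21.ModTensor5
  Groth.Agent.Lib.Helper1.KF Groth.Agent.Lib.Helper1.KBC

lemma isQCohD_of_iso {X : Scheme.{u}} {K K' : DCoh.D X} (e : K ≅ K') (hK : DCoh.IsQCohD K) :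
    DCoh.IsQCohD K' := by
  intro i
  have h : (SheafOfModules.isQuasicoherent X.ringCatSheaf) (DCoh.HD K i) := hK i
  exact (SheafOfModules.isQuasicoherent X.ringCatSheaf).prop_of_iso
    ((DerivedCategory.homologyFunctor X.Modules i).mapIso e) h

section affine

variable (R : CommRingCat.{u})

/-- termwise tilde -/
noncomputable abbrev TC :
    CochainComplex (ModuleCat.{u} R) ℤ ⥤ CochainComplex (Spec (CommRingCat.of R)).Modules ℤ :=
  (tilde.functor R).mapHomologicalComplex (ComplexShape.up ℤ)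

/-- on an affine scheme, an object of `D_QCoh` is represented by the tilde of a K-projective
complex of modules -/
theorem exists_tilde_rep (E : DCoh.D (Spec (CommRingCat.of R))) (hE : DCoh.IsQCohD E) :
    ∃ Y : CochainComplex (ModuleCat.{u} R) ℤ, Y.IsKProjective ∧
      Nonempty (E ≅ DerivedCategory.Q.obj ((TC R).obj Y)) := by
  haveI := (Groth.Agent.S9498.aux R).1
  obtain ⟨RG, adj, -, h2⟩ := Groth.Agent.Lib.Helper17.TildeD.tildeD_main R
  haveI := h2 E hE
  obtain ⟨Y, π, hY, -, hπ, -⟩ := exists_kprojective_resolution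
    ((DerivedCategory.Q (C := ModuleCat.{u} R)).objPreimage (RG.obj E))
  haveI : IsIso (DerivedCategory.Q.map π) := by
    rw [DerivedCategory.isIso_Q_map_iff_quasiIso]; exact hπ
  refine ⟨Y, hY, ⟨?_⟩⟩
  exact (asIso (adj.counit.app E)).symm ≪≫
    (DCoh.tildeD R).mapIso (((DerivedCategory.Q (C := ModuleCat.{u} R)).objObjPreimageIso
      (RG.obj E)).symm ≪≫ (asIso (DerivedCategory.Q.map π)).symm) ≪≫
    (tilde.functor R).mapDerivedCategoryFactors.app Y

/-- the affine case -/
theorem isQCohD_LTensorCx_affine (F : CochainComplex (Spec (CommRingCat.of R)).Modules ℤ)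
    (hF : DCoh.IsQCohD (DerivedCategory.Q.obj F)) [DCoh.HasLTensorCx F]
    (E : DCoh.D (Spec (CommRingCat.of R))) (hE : DCoh.IsQCohD E) :
    DCoh.IsQCohD ((DCoh.LTensorCx F).obj E) := by
  obtain ⟨Y, hY, ⟨eE⟩⟩ := exists_tilde_rep R E hE
  obtain ⟨N, -, ⟨eF⟩⟩ := exists_tilde_rep R (DerivedCategory.Q.obj F) hF
  haveI := hY
  have hP : DCoh.IsKFlat ((TC R).obj Y) :=
    isKFlat_tilde R Y (fun M hM => kflat_of_isKProjective Y M hM)
  haveI hI1 : ModSite.HasLTensorCx (O := (Spec (CommRingCat.of R)).sheaf) F :=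
    (inferInstance : DCoh.HasLTensorCx F)
  have i1 : (DCoh.LTensorCx F).obj E ≅
      DerivedCategory.Q.obj ((DCoh.tensorCx.obj ((TC R).obj Y)).obj F) :=
    (DCoh.LTensorCx F).mapIso eE ≪≫
      lTensorCxIsoOfIsKFlat (O := (Spec (CommRingCat.of R)).sheaf) F _ hP
  obtain ⟨i2⟩ := nonempty_Q_tensor_iso_right ((TC R).obj Y) F ((TC R).obj N) hP eF
  refine isQCohD_of_iso (i1 ≪≫ i2).symm (isQCohD_Q_of_terms _
    (isQuasicoherent_tensorCx_X _ _ (fun n => ?_) (fun n => ?_)))
  · exact inferInstanceAs ((tilde.functor R).obj (Y.X n)).IsQuasicoherent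
  · exact inferInstanceAs ((tilde.functor R).obj (N.X n)).IsQuasicoherent

end affine

section global

variable {X : Scheme.{u}}

open Groth.Agent.Lib.Helper1.ExtVan in
/-- **the derived tensor product preserves `D_QCoh`** -/
theorem isQCohD_LTensorCx (F : CochainComplex X.Modules ℤ)
    (hF : DCoh.IsQCohD (DerivedCategory.Q.obj F)) [DCoh.HasLTensorCx F]
    (E : DCoh.D X) (hE : DCoh.IsQCohD E) : DCoh.IsQCohD ((DCoh.LTensorCx F).obj E) := by
  intro n
  refine Groth.Agent.Lib.Helper23.QCohLocal.isQuasicoherent_of_forall_affine _ (fun V hV => ?_)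
  -- a K-flat representative of `E`
  obtain ⟨P, q, hP, -, hq, -⟩ := exists_kflat_flat_resolution (O := X.sheaf)
    ((DerivedCategory.Q (C := X.Modules)).objPreimage E)
  haveI : QuasiIso q := hq
  have hP' : DCoh.IsKFlat P := hP
  haveI : IsIso (DerivedCategory.Q.map q) := by
    rw [DerivedCategory.isIso_Q_map_iff_quasiIso]; exact hq
  have eE : E ≅ DerivedCategory.Q.obj P :=
    ((DerivedCategory.Q (C := X.Modules)).objObjPreimageIso E).symm ≪≫
      (asIso (DerivedCategory.Q.map q)).symm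
  haveI hI1 : ModSite.HasLTensorCx (O := X.sheaf) F := (inferInstance : DCoh.HasLTensorCx F)
  have i1 : (DCoh.LTensorCx F).obj E ≅ DerivedCategory.Q.obj ((DCoh.tensorCx.obj P).obj F) :=
    (DCoh.LTensorCx F).mapIso eE ≪≫ lTensorCxIsoOfIsKFlat (O := X.sheaf) F P hP
  -- restriction to `Spec Γ(X, V)`
  obtain ⟨t⟩ := nonempty_resC_tensor hV.fromSpec P F
  haveI : DCoh.HasLTensorCx ((resC hV.fromSpec).obj F) := hasLTensorCx _
  haveI hI2 : ModSite.HasLTensorCx (O := (Spec Γ(X, V)).sheaf) ((resC hV.fromSpec).obj F) :=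
    hasLTensorCx _
  have hPr : DCoh.IsKFlat ((resC hV.fromSpec).obj P) := isKFlat_resC hV.fromSpec P hP'
  have i2 : (DCoh.LTensorCx ((resC hV.fromSpec).obj F)).obj
      (DerivedCategory.Q.obj ((resC hV.fromSpec).obj P)) ≅
      DerivedCategory.Q.obj ((DCoh.tensorCx.obj ((resC hV.fromSpec).obj P)).obj
        ((resC hV.fromSpec).obj F)) :=
    lTensorCxIsoOfIsKFlat (O := (Spec Γ(X, V)).sheaf) _ _ hPr
  have hF' : DCoh.IsQCohD (DerivedCategory.Q.obj ((resC hV.fromSpec).obj F)) :=
    isQCohD_of_iso ((Scheme.Modules.restrictFunctor hV.fromSpec).mapDerivedCategoryFactors.app F)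
      (isQCohD_restrictD hV.fromSpec _ hF)
  have hE' : DCoh.IsQCohD (DerivedCategory.Q.obj ((resC hV.fromSpec).obj P)) :=
    isQCohD_of_iso ((Scheme.Modules.restrictFunctor hV.fromSpec).mapDerivedCategoryFactors.app P)
      (isQCohD_restrictD hV.fromSpec _ (isQCohD_of_iso eE hE))
  have key := isQCohD_LTensorCx_affine Γ(X, V) ((resC hV.fromSpec).obj F) hF'
    (DerivedCategory.Q.obj ((resC hV.fromSpec).obj P)) hE'
  have h3 : DCoh.IsQCohD ((DCoh.restrictD hV.fromSpec).obj ((DCoh.LTensorCx F).obj E)) :=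
    isQCohD_of_iso (i2 ≪≫ DerivedCategory.Q.mapIso t.symm ≪≫
      ((Scheme.Modules.restrictFunctor hV.fromSpec).mapDerivedCategoryFactors.app _).symm ≪≫
      (DCoh.restrictD hV.fromSpec).mapIso i1.symm) key
  exact (SheafOfModules.isQuasicoherent (Spec Γ(X, V)).ringCatSheaf).prop_of_iso
    (HDRestrictIso hV.fromSpec ((DCoh.LTensorCx F).obj E) n) (h3 n)

end global

end Groth.Agent.Lib.Helper1.TensQC
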