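import Mathlib
import Groth.Agent.Lib.Helper1TensQCB
import Groth.Agent.Lib.Helper1PC17
import Groth.Agent.Lib.Helper1TildePC
import Groth.Agent.Lib.Helper1FLF1
set_option backward.isDefEq.respectTransparency.types false

/-!
# helper1: the derived tensor product preserves `D^-_Coh` on locally Noetherian schemes
-/

set_option autoImplicit false
set_option linter.style.haveILetI false
set_option linter.unusedSectionVars false
set_option maxHeartbeats 400000
universe u
open CategoryTheory CategoryTheory.Limits AlgebraicGeometry HomologicalComplex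

attribute [local instance] HasDerivedCategory.standard

namespace Groth.Agent.Lib.Helper1.CohTens

open Groth.Agent.Lib.Helper1.BKF Groth.Agent.Lib.Helper1.TQ Groth.Agent.Lib.Helper1.SPL
  Groth.Agent.Lib.Helper21.ModTensor3 Groth.Agent.Lib.Helper21.ModTensor5
  Groth.Agent.Lib.Helper1.KF Groth.Agent.Lib.Helper1.KBC Groth.Agent.Lib.Helper1.TensQC
  Groth.Agent.Lib.Helper1.TildePC Groth.Agent.Lib.Helper1.PCTower Groth.Agent.Lib.Helper1.FLF
  Groth.Agent.Lib.Helper1.KoszulPerf Groth.Agent.S7017 Groth.Agent.Lib.Helper1.ChartInd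
  Groth.Agent.Helper18Strict Groth.Agent.Lib.Helper2.LocFree Groth.Agent.Lib.Helper23.FinType

section affine

variable (R : CommRingCat.{u})

/-- on a Noetherian affine scheme, a bounded above object with coherent cohomology is represented by
the tilde of a bounded above complex of finite free modules -/
theorem exists_tilde_rep_coh [IsLocallyNoetherian (Spec (CommRingCat.of R))]
    (E : DCoh.D (Spec (CommRingCat.of R))) (hE : DCoh.IsCohD E) (a : ℤ)
    (ha : ∀ i : ℤ, a < i → IsZero (DCoh.HD E i)) :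
    ∃ Y : CochainComplex (ModuleCat.{u} R) ℤ, (∀ i : ℤ, a < i → IsZero (Y.X i)) ∧
      (∀ i : ℤ, FF (Y.X i)) ∧ Nonempty (E ≅ DerivedCategory.Q.obj ((TC R).obj Y)) := by
  have hq : DCoh.IsQCohD E := fun i => (hE i).1
  haveI hEle : E.IsLE a := (DerivedCategory.isLE_iff E a).2 ha
  have hpc : ∀ m : ℤ, DCoh.IsPseudoCoherentD m E := fun m =>
    isPseudoCoherentD_of_coherent_homology E m a (fun i _ => hE i)
  haveI := (Groth.Agent.S9498.aux R).1
  obtain ⟨RG, adj, -, h2⟩ := Groth.Agent.Lib.Helper17.TildeD.tildeD_main R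
  haveI := h2 E hq
  let M : DerivedCategory (ModuleCat.{u} R) := RG.obj E
  let e0 : (DCoh.tildeD R).obj M ≅ E := asIso (adj.counit.app E)
  have hMpc : ∀ m : ℤ, DRing.IsPseudoCoherent R m M := fun m =>
    (isPseudoCoherentD_tildeD'_iff (A := R) M m).1 (isPseudoCoherentD_of_iso e0.symm (hpc m))
  have hMle : M.IsLE a := by
    rw [DerivedCategory.isLE_iff]
    intro i hi
    apply isZero_of_isZero_tilde
    refine IsZero.of_iso (ha i hi) ((homologyTildeIso R M i).symm ≪≫
      (DerivedCategory.homologyFunctor _ i).mapIso e0)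
  let K' := (DerivedCategory.Q (C := ModuleCat.{u} R)).objPreimage M
  let eK : DerivedCategory.Q.obj K' ≅ M := DerivedCategory.Q.objObjPreimageIso M
  have hle' : (DerivedCategory.Q.obj K').IsLE a :=
    (DerivedCategory.TStructure.t).isLE_of_iso eK.symm _
  obtain ⟨Y, hY0, hYff, ⟨eY⟩⟩ := exists_bddAbove_ff K' a hle'
    (fun m => Groth.Agent.Lib.Helper1.PC.isPC_of_iso eK.symm (hMpc m))
  refine ⟨Y, hY0, hYff, ⟨?_⟩⟩
  exact e0.symm ≪≫ (DCoh.tildeD R).mapIso (eK.symm ≪≫ eY.symm) ≪≫
    (tilde.functor R).mapDerivedCategoryFactors.app Y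

/-- the tilde of a bounded above complex of finite free modules, tensored with another one, has
finite locally free terms vanishing in large degrees -/
theorem tensorCx_TC_terms (Y N : CochainComplex (ModuleCat.{u} R) ℤ) (a b : ℤ)
    (hY0 : ∀ i : ℤ, a < i → IsZero (Y.X i)) (hYff : ∀ i : ℤ, FF (Y.X i))
    (hN0 : ∀ i : ℤ, b < i → IsZero (N.X i)) (hNff : ∀ i : ℤ, FF (N.X i)) (n : ℤ) :
    FlatMod.IsFinLocFree (((DCoh.tensorCx.obj ((TC R).obj Y)).obj ((TC R).obj N)).X n) ∧
      (a + b < n → IsZero (((DCoh.tensorCx.obj ((TC R).obj Y)).obj ((TC R).obj N)).X n)) := by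
  have hflf : ∀ (Z : CochainComplex (ModuleCat.{u} R) ℤ) (_ : ∀ i : ℤ, FF (Z.X i)) (i : ℤ),
      FlatMod.IsFinLocFree (((TC R).obj Z).X i) := fun Z hZ i => by
    have := (hZ i).1
    have := (hZ i).2
    exact (Groth.Agent.Lib.Helper2.FPAff.isFinLocFree_tilde_iff _ _).2
      ⟨inferInstance, inferInstance⟩
  have hzero : ∀ p q : ℤ, (a < p ∨ b < q) →
      IsZero (((DCoh.tensorBi (X := Spec (CommRingCat.of R))).obj (((TC R).obj Y).X p)).obj
        (((TC R).obj N).X q)) := by
    rintro p q (hp | hq)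
    · have hz : IsZero (((TC R).obj Y).X p) := (tilde.functor R).map_isZero (hY0 p hp)
      exact ((DCoh.tensorBi (X := Spec (CommRingCat.of R))).flip.obj
        (((TC R).obj N).X q)).map_isZero hz
    · have hz : IsZero (((TC R).obj N).X q) := (tilde.functor R).map_isZero (hN0 q hq)
      exact ((DCoh.tensorBi (X := Spec (CommRingCat.of R))).obj
        (((TC R).obj Y).X p)).map_isZero hz
  constructor
  · let B : HomologicalComplex₂ (Spec (CommRingCat.of R)).Modules (ComplexShape.up ℤ)
        (ComplexShape.up ℤ) :=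
      (((DCoh.tensorBi (X := Spec (CommRingCat.of R))).mapBifunctorHomologicalComplex _ _).obj
        ((TC R).obj Y)).obj ((TC R).obj N)
    let π := ComplexShape.π (ComplexShape.up ℤ) (ComplexShape.up ℤ) (ComplexShape.up ℤ)
    have hfin : {i : π ⁻¹' {n} | n - b ≤ i.1.1 ∧ i.1.1 ≤ a}.Finite := by
      refine Set.Finite.of_injOn (f := fun i : π ⁻¹' {n} => i.1.1) (t := Set.Icc (n - b) a)
        (fun i hi => hi) (fun i _ i' _ hii' => ?_) (Set.finite_Icc (n - b) a)
      have h1 : i.1.1 + i.1.2 = n := i.2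
      have h2 : i'.1.1 + i'.1.2 = n := i'.2
      have h3 : i.1.1 = i'.1.1 := hii'
      apply Subtype.ext
      apply Prod.ext h3
      omega
    exact isFinLocFree_of_isColimit_cofan
      (fun i : π ⁻¹' {n} => ((DCoh.tensorBi (X := Spec (CommRingCat.of R))).obj
        (((TC R).obj Y).X i.1.1)).obj (((TC R).obj N).X i.1.2))
      (B.toGradedObject.cofanMapObj π n) (B.toGradedObject.isColimitCofanMapObj π n)
      hfin.toFinset (fun i hi => by
        rw [Set.Finite.mem_toFinset] at hi
        have h1 : i.1.1 + i.1.2 = n := i.2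
        have hp : a < i.1.1 ∨ b < i.1.2 := by
          by_contra hcon
          exact hi ⟨by omega, by omega⟩
        exact hzero _ _ hp)
      (fun i => isFinLocFree_tensor _ _ (hflf Y hYff _) (hflf N hNff _))
  · intro hn
    refine prop_mapBifunctor_X (DCoh.tensorBi (X := Spec (CommRingCat.of R))) IsZero
      (fun I Xf c hc h => isZero_of_isColimit_cofan Xf c hc h) _ _ n (fun p q hpq => ?_)
    exact hzero p q (by omega)

/-- the affine case -/
theorem coh_LTensorCx_affine [IsLocallyNoetherian (Spec (CommRingCat.of R))]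
    (F : CochainComplex (Spec (CommRingCat.of R)).Modules ℤ)
    (hF : DCoh.IsCohD (DerivedCategory.Q.obj F)) (b : ℤ)
    (hb : ∀ i : ℤ, b < i → IsZero (DCoh.HD (DerivedCategory.Q.obj F) i)) [DCoh.HasLTensorCx F]
    (E : DCoh.D (Spec (CommRingCat.of R))) (hE : DCoh.IsCohD E) (a : ℤ)
    (ha : ∀ i : ℤ, a < i → IsZero (DCoh.HD E i)) (n : ℤ) :
    SheafOfModules.IsFiniteType (R := (Spec (CommRingCat.of R)).ringCatSheaf)
        (DCoh.HD ((DCoh.LTensorCx F).obj E) n) ∧
      (a + b < n → IsZero (DCoh.HD ((DCoh.LTensorCx F).obj E) n)) := by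
  obtain ⟨Y, hY0, hYff, ⟨eE⟩⟩ := exists_tilde_rep_coh R E hE a ha
  obtain ⟨N, hN0, hNff, ⟨eF⟩⟩ := exists_tilde_rep_coh R (DerivedCategory.Q.obj F) hF b hb
  have hYflat : ∀ q, Module.Flat R (Y.X q) := fun q => by
    have := (hYff q).1
    have := (hYff q).2
    infer_instance
  have hP : DCoh.IsKFlat ((TC R).obj Y) :=
    isKFlat_tilde R Y (fun M hM => kflat_of_boundedAbove_flat Y a hY0 hYflat M hM)
  haveI hI1 : ModSite.HasLTensorCx (O := (Spec (CommRingCat.of R)).sheaf) F :=
    (inferInstance : DCoh.HasLTensorCx F)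
  have i1 : (DCoh.LTensorCx F).obj E ≅
      DerivedCategory.Q.obj ((DCoh.tensorCx.obj ((TC R).obj Y)).obj F) :=
    (DCoh.LTensorCx F).mapIso eE ≪≫
      lTensorCxIsoOfIsKFlat (O := (Spec (CommRingCat.of R)).sheaf) F _ hP
  obtain ⟨i2⟩ := nonempty_Q_tensor_iso_right ((TC R).obj Y) F ((TC R).obj N) hP eF
  set T := (DCoh.tensorCx.obj ((TC R).obj Y)).obj ((TC R).obj N) with hT
  have hterms := tensorCx_TC_terms R Y N a b hY0 hYff hN0 hNff
  let e : DCoh.HD ((DCoh.LTensorCx F).obj E) n ≅ T.homology n :=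
    (DerivedCategory.homologyFunctor _ n).mapIso (i1 ≪≫ i2) ≪≫
      (DerivedCategory.homologyFunctorFactors (Spec (CommRingCat.of R)).Modules n).app T
  have hq : ∀ i, (T.X i).IsQuasicoherent := fun i =>
    isQCoh_of_isFP _ (isFP_of_isFinLocFree _ (hterms i).1)
  have hft : ∀ i, SheafOfModules.IsFiniteType (R := (Spec (CommRingCat.of R)).ringCatSheaf)
      (T.X i) := fun i => isFT_of_isFP _ (isFP_of_isFinLocFree _ (hterms i).1)
  constructor
  · haveI := isFiniteType_homology T hq hft n
    exact Groth.Agent.Lib.Helper23.FinType.isFiniteType_of_iso e.symm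
  · intro hn
    refine IsZero.of_iso ?_ e
    exact (T.exactAt_iff_isZero_homology n).1
      (ShortComplex.exact_of_isZero_X₂ _ ((hterms n).2 hn))

end affine

section global

variable {X : Scheme.{u}}

/-- restriction along an open immersion preserves coherence of the cohomology sheaves -/
lemma isCohD_restrictD {U : Scheme.{u}} (j : U ⟶ X) [IsOpenImmersion j] (K : DCoh.D X)
    (hK : DCoh.IsCohD K) : DCoh.IsCohD ((DCoh.restrictD j).obj K) := by
  intro i
  obtain ⟨hq, hft⟩ := hK i
  haveI : (DCoh.HD K i).IsQuasicoherent := hq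
  haveI : SheafOfModules.IsFiniteType (R := X.ringCatSheaf) (DCoh.HD K i) := hft
  have e := Groth.Agent.Lib.Helper1.ExtVan.HDRestrictIso j K i
  have hq' : ((Scheme.Modules.restrictFunctor j).obj (DCoh.HD K i)).IsQuasicoherent :=
    inferInstanceAs ((DCoh.HD K i).restrict j).IsQuasicoherent
  haveI : SheafOfModules.IsFiniteType (R := U.ringCatSheaf)
      ((Scheme.Modules.restrictFunctor j).obj (DCoh.HD K i)) :=
    isFiniteType_restrict j (DCoh.HD K i)
  exact ⟨(SheafOfModules.isQuasicoherent U.ringCatSheaf).prop_of_iso e.symm hq',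
    isFiniteType_of_iso e.symm⟩

open Groth.Agent.Lib.Helper1.ExtVan in
/-- **the derived tensor product preserves `D^-_Coh` on a locally Noetherian scheme** -/
theorem coh_LTensorCx [IsLocallyNoetherian X] (F : CochainComplex X.Modules ℤ)
    (hF : DCoh.IsCohD (DerivedCategory.Q.obj F)) (b : ℤ)
    (hb : ∀ i : ℤ, b < i → IsZero (DCoh.HD (DerivedCategory.Q.obj F) i)) [DCoh.HasLTensorCx F]
    (E : DCoh.D X) (hE : DCoh.IsCohD E) (a : ℤ) (ha : ∀ i : ℤ, a < i → IsZero (DCoh.HD E i)) :
    DCoh.IsCohD ((DCoh.LTensorCx F).obj E) ∧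
      ∀ i : ℤ, a + b < i → IsZero (DCoh.HD ((DCoh.LTensorCx F).obj E) i) := by
  have hqc : DCoh.IsQCohD ((DCoh.LTensorCx F).obj E) :=
    isQCohD_LTensorCx F (fun i => (hF i).1) E (fun i => (hE i).1)
  -- a K-flat representative of `E`
  obtain ⟨P, q, hP, -, hq, -⟩ := exists_kflat_flat_resolution (O := X.sheaf)
    ((DerivedCategory.Q (C := X.Modules)).objPreimage E)
  haveI : QuasiIso q := hq
  have hP' : DCoh.IsKFlat P := hP
  haveI : IsIso (DerivedCategory.Q.map q) := by
    rw [DerivedCategory.isIso_Q_map_iff_quasiIso]; exact hq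
  have eE : E ≅ DerivedCategory.Q.obj P :=
    ((DerivedCategory.Q (C := X.Modules)).objObjPreimageIso E).symm ≪≫
      (asIso (DerivedCategory.Q.map q)).symm
  haveI hI1 : ModSite.HasLTensorCx (O := X.sheaf) F := (inferInstance : DCoh.HasLTensorCx F)
  have i1 : (DCoh.LTensorCx F).obj E ≅ DerivedCategory.Q.obj ((DCoh.tensorCx.obj P).obj F) :=
    (DCoh.LTensorCx F).mapIso eE ≪≫ lTensorCxIsoOfIsKFlat (O := X.sheaf) F P hP
  -- the local statement
  have key : ∀ (V : X.Opens) (hV : IsAffineOpen V) (n : ℤ),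
      SheafOfModules.IsFiniteType (R := (Spec Γ(X, V)).ringCatSheaf)
        ((DCoh.HD ((DCoh.LTensorCx F).obj E) n).restrict hV.fromSpec) ∧
      (a + b < n → IsZero ((DCoh.HD ((DCoh.LTensorCx F).obj E) n).restrict hV.fromSpec)) := by
    intro V hV n
    haveI : IsLocallyNoetherian (Spec Γ(X, V)) :=
      isLocallyNoetherian_of_isOpenImmersion hV.fromSpec
    obtain ⟨t⟩ := nonempty_resC_tensor hV.fromSpec P F
    haveI : DCoh.HasLTensorCx ((resC hV.fromSpec).obj F) := hasLTensorCx _
    haveI hI2 : ModSite.HasLTensorCx (O := (Spec Γ(X, V)).sheaf) ((resC hV.fromSpec).obj F) :=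
      hasLTensorCx _
    have hPr : DCoh.IsKFlat ((resC hV.fromSpec).obj P) := isKFlat_resC hV.fromSpec P hP'
    have i2 : (DCoh.LTensorCx ((resC hV.fromSpec).obj F)).obj
        (DerivedCategory.Q.obj ((resC hV.fromSpec).obj P)) ≅
        DerivedCategory.Q.obj ((DCoh.tensorCx.obj ((resC hV.fromSpec).obj P)).obj
          ((resC hV.fromSpec).obj F)) :=
      lTensorCxIsoOfIsKFlat (O := (Spec Γ(X, V)).sheaf) _ _ hPr
    let eF' : (DCoh.restrictD hV.fromSpec).obj (DerivedCategory.Q.obj F) ≅
        DerivedCategory.Q.obj ((resC hV.fromSpec).obj F) :=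
      (Scheme.Modules.restrictFunctor hV.fromSpec).mapDerivedCategoryFactors.app F
    let eP' : (DCoh.restrictD hV.fromSpec).obj (DerivedCategory.Q.obj P) ≅
        DerivedCategory.Q.obj ((resC hV.fromSpec).obj P) :=
      (Scheme.Modules.restrictFunctor hV.fromSpec).mapDerivedCategoryFactors.app P
    have hcoh : ∀ {K K' : DCoh.D (Spec Γ(X, V))} (_ : K ≅ K'), DCoh.IsCohD K → DCoh.IsCohD K' :=
      fun e h i => by
        obtain ⟨hq, hft⟩ := h i
        haveI := hq
        haveI := hft
        have e' := (DerivedCategory.homologyFunctor _ i).mapIso e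
        exact ⟨(SheafOfModules.isQuasicoherent (Spec Γ(X, V)).ringCatSheaf).prop_of_iso e' hq,
          isFiniteType_of_iso e'⟩
    have hF' : DCoh.IsCohD (DerivedCategory.Q.obj ((resC hV.fromSpec).obj F)) :=
      hcoh eF' (isCohD_restrictD hV.fromSpec _ hF)
    have hE' : DCoh.IsCohD (DerivedCategory.Q.obj ((resC hV.fromSpec).obj P)) :=
      hcoh eP' (isCohD_restrictD hV.fromSpec _ (fun i => by
        obtain ⟨hq, hft⟩ := hE i
        haveI := hq
        haveI := hft
        have e' := (DerivedCategory.homologyFunctor _ i).mapIso eE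
        exact ⟨(SheafOfModules.isQuasicoherent X.ringCatSheaf).prop_of_iso e' hq,
          isFiniteType_of_iso e'⟩))
    have hb' : ∀ i : ℤ, b < i →
        IsZero (DCoh.HD (DerivedCategory.Q.obj ((resC hV.fromSpec).obj F)) i) := fun i hi =>
      IsZero.of_iso (isZero_HD_restrictD hV.fromSpec _ i (hb i hi))
        ((DerivedCategory.homologyFunctor _ i).mapIso eF'.symm)
    have ha' : ∀ i : ℤ, a < i →
        IsZero (DCoh.HD (DerivedCategory.Q.obj ((resC hV.fromSpec).obj P)) i) := fun i hi =>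
      IsZero.of_iso (isZero_HD_restrictD hV.fromSpec _ i
        (IsZero.of_iso (ha i hi) ((DerivedCategory.homologyFunctor _ i).mapIso eE.symm)))
        ((DerivedCategory.homologyFunctor _ i).mapIso eP'.symm)
    obtain ⟨k1, k2⟩ := coh_LTensorCx_affine Γ(X, V) ((resC hV.fromSpec).obj F) hF' b hb'
      (DerivedCategory.Q.obj ((resC hV.fromSpec).obj P)) hE' a ha' n
    let e3 : (DCoh.LTensorCx ((resC hV.fromSpec).obj F)).obj
        (DerivedCategory.Q.obj ((resC hV.fromSpec).obj P)) ≅
        (DCoh.restrictD hV.fromSpec).obj ((DCoh.LTensorCx F).obj E) :=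
      i2 ≪≫ DerivedCategory.Q.mapIso t.symm ≪≫
        ((Scheme.Modules.restrictFunctor hV.fromSpec).mapDerivedCategoryFactors.app _).symm ≪≫
        (DCoh.restrictD hV.fromSpec).mapIso i1.symm
    let e4 : DCoh.HD ((DCoh.LTensorCx ((resC hV.fromSpec).obj F)).obj
        (DerivedCategory.Q.obj ((resC hV.fromSpec).obj P))) n ≅
        (DCoh.HD ((DCoh.LTensorCx F).obj E) n).restrict hV.fromSpec :=
      (DerivedCategory.homologyFunctor _ n).mapIso e3 ≪≫
        HDRestrictIso hV.fromSpec ((DCoh.LTensorCx F).obj E) n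
    haveI := k1
    exact ⟨isFiniteType_of_iso e4, fun hn => IsZero.of_iso (k2 hn) e4.symm⟩
  refine ⟨fun n => ⟨hqc n, ?_⟩, fun n hn => ?_⟩
  · haveI : (DCoh.HD ((DCoh.LTensorCx F).obj E) n).IsQuasicoherent := hqc n
    rw [isFiniteType_iff_forall_affine]
    intro V hV
    haveI := (key V hV n).1
    have h1 := finite_of_isFiniteType
      ((DCoh.HD ((DCoh.LTensorCx F).obj E) n).restrict hV.fromSpec) (isAffineOpen_top _)
    rw [finite_restrict_iff] at h1
    have himg : hV.fromSpec ''ᵁ ⊤ = V := by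
      rw [Scheme.Hom.image_top_eq_opensRange, hV.opensRange_fromSpec]
    exact (finite_iff_of_eq _ himg).1 h1
  · refine Groth.Agent.Lib.Helper23.ModLocal.isZero_of_isZero_restrict
      (fun V : X.affineOpens => Spec Γ(X, V.1)) (fun V => V.2.fromSpec) (fun x => ?_)
      (fun V => (key V.1 V.2 n).2 hn)
    obtain ⟨V, hV, hxV, -⟩ := exists_isAffineOpen_mem_and_subset (x := x) (U := ⊤) trivial
    have hx : x ∈ hV.fromSpec.opensRange := by
      rw [hV.opensRange_fromSpec]; exact hxV
    obtain ⟨y, hy⟩ := hx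
    exact ⟨⟨V, hV⟩, y, hy⟩

end global

end Groth.Agent.Lib.Helper1.CohTens
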