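import Mathlib
import Groth.Agent.Lib.Helper1SPL1
import Groth.Agent.Lib.Helper1KBC2
set_option backward.isDefEq.respectTransparency.types false

/-!
# Morphisms of modules which are surjective on the stalk at a point (helper1)

* `SurjAt π x`: sections of the target near `x` lift through `π` after shrinking
* `surjAt_of_surjective_stalk`: a morphism which is surjective on stalks at `x` is `SurjAt`
* local lifting of morphisms from finite locally free modules through `SurjAt` morphisms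
-/

set_option autoImplicit false
set_option linter.style.haveILetI false
universe u
open CategoryTheory CategoryTheory.Limits AlgebraicGeometry TopologicalSpace Opposite

namespace Groth.Agent.Lib.Helper1.Germ

open Groth.Agent.Lib.Helper23.GenLocus Groth.Agent.Lib.Helper6 Groth.Agent.Lib.Helper23.SecTw
  Groth.Agent.Lib.Helper23.Extend Groth.Agent.Lib.Helper4.ModEpi
  Groth.Agent.Lib.Helper1.Sky Groth.Agent.Lib.Helper1.StalkTensor

variable {X : Scheme.{u}}

/-- `π` is surjective on germs at `x` -/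
def SurjAt {G C : X.Modules} (π : G ⟶ C) (x : X) : Prop :=
  ∀ (U : X.Opens) (c : Γ(C, U)), x ∈ U →
    ∃ (V : X.Opens) (hVU : V ≤ U) (_ : x ∈ V) (g : Γ(G, V)),
      Scheme.Modules.Hom.app π V g = res C hVU c

lemma surjAt_of_epi {G C : X.Modules} (π : G ⟶ C) [Epi π] (x : X) : SurjAt π x :=
  fun U c hx => exists_app_eq_of_epi π U c x hx

/-- a morphism which is surjective on the stalks at `x` is `SurjAt` -/
lemma surjAt_of_surjective_stalk {G C : X.Modules} (π : G ⟶ C) (x : X)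
    (h : Function.Surjective ((stalkFun x).map π).hom) : SurjAt π x := by
  intro U c hx
  obtain ⟨b, hb⟩ := h (gm (toPM C) x U hx c)
  obtain ⟨V, hV, g, rfl⟩ := exists_gm_eq b
  have h1 : sm (toPMMap π) x (gm (toPM G) x V hV g) = gm (toPM C) x U hx c := hb
  rw [sm_gm] at h1
  obtain ⟨W, hW, iV, iU, h2⟩ := gm_eq hV hx _ _ h1
  refine ⟨W, iU.le, hW, res G iV.le g, ?_⟩
  have h3 := app_map π (homOfLE iV.le) g
  exact h3.trans h2


/-- `SurjAt` is invariant under isomorphisms of arrows -/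
lemma SurjAt.of_arrow_iso {G C G' C' : X.Modules} {π : G ⟶ C} {π' : G' ⟶ C'} {x : X}
    (h : SurjAt π x) (e : Arrow.mk π ≅ Arrow.mk π') : SurjAt π' x := by
  intro U c' hx
  have w1 : e.hom.left ≫ π' = π ≫ e.hom.right := e.hom.w
  have w2 : e.inv.right ≫ e.hom.right = 𝟙 C' := by
    have := congrArg CommaMorphism.right e.inv_hom_id
    exact this
  obtain ⟨V, hVU, hxV, g, hg⟩ := h U (Scheme.Modules.Hom.app e.inv.right U c') hx
  refine ⟨V, hVU, hxV, Scheme.Modules.Hom.app e.hom.left V g, ?_⟩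
  have h1 : Scheme.Modules.Hom.app π' V (Scheme.Modules.Hom.app e.hom.left V g) =
      Scheme.Modules.Hom.app e.hom.right V (Scheme.Modules.Hom.app π V g) := by
    have := congrArg (fun φ => Scheme.Modules.Hom.app φ V g) w1
    exact this
  rw [h1, hg]
  have h2 := app_map e.hom.right (homOfLE hVU) (Scheme.Modules.Hom.app e.inv.right U c')
  refine h2.trans ?_
  have h3 : Scheme.Modules.Hom.app e.hom.right U (Scheme.Modules.Hom.app e.inv.right U c') = c' := by
    have := congrArg (fun φ => Scheme.Modules.Hom.app φ U c') w2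
    exact this
  rw [h3]
  rfl

/-- `SurjAt` restricts to open subschemes -/
lemma SurjAt.restrict {U : Scheme.{u}} (j : U ⟶ X) [IsOpenImmersion j] {G C : X.Modules}
    {π : G ⟶ C} (y : U) (h : SurjAt π (j y)) :
    SurjAt ((Scheme.Modules.restrictFunctor j).map π) y := by
  intro V c hy
  obtain ⟨V', hV', hyV', g, hg⟩ := h (j ''ᵁ V) (show Γ(C, j ''ᵁ V) from c) ⟨y, hy, rfl⟩
  have hle : j ''ᵁ (j ⁻¹ᵁ V') ≤ V' := by
    rw [j.image_preimage_eq_opensRange_inf]
    exact inf_le_right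
  have hWV : j ⁻¹ᵁ V' ≤ V := by
    intro z hz
    obtain ⟨z', hz', hzz'⟩ := hV' hz
    have : z' = z := j.isOpenEmbedding.injective hzz'
    exact this ▸ hz'
  refine ⟨j ⁻¹ᵁ V', hWV, hyV', (show Γ((Scheme.Modules.restrictFunctor j).obj G, j ⁻¹ᵁ V') from
    res G hle g), ?_⟩
  change Scheme.Modules.Hom.app π (j ''ᵁ (j ⁻¹ᵁ V')) (res G hle g) =
    res C (j.image_mono hWV) (show Γ(C, j ''ᵁ V) from c)
  rw [show Scheme.Modules.Hom.app π (j ''ᵁ (j ⁻¹ᵁ V')) (res G hle g) =
    res C hle (Scheme.Modules.Hom.app π V' g) from app_map π (homOfLE hle) g, hg, res_res]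


/-- finitely many morphisms `O ⟶ C` lift through a `SurjAt` morphism on a common neighbourhood -/
theorem exists_lift_units' {J : Type} [Finite J] {G C : X.Modules} (π : G ⟶ C) (x : X)
    (hπ : SurjAt π x) (s : J → (Coh.structureModule X ⟶ C)) :
    ∃ V : X.Opens, x ∈ V ∧ ∀ i : J, ∃ t : Coh.structureModule (↑V : Scheme.{u}) ⟶
        (Scheme.Modules.restrictFunctor V.ι).obj G,
      t ≫ (Scheme.Modules.restrictFunctor V.ι).map π =
        Groth.Agent.Lib.Helper23.RestrJ.restrSec V.ι (s i) := by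
  choose Vi hVi hxVi g hg using fun i => hπ ⊤ (sv (s i) ⊤) trivial
  refine ⟨⨅ i, Vi i, ?_, fun i => ?_⟩
  · have h : ((⨅ j, Vi j : X.Opens) : Set X) = ⋂ j, (Vi j : Set X) := Opens.coe_iInf Vi
    change x ∈ ((⨅ j, Vi j : X.Opens) : Set X)
    rw [h]
    exact Set.mem_iInter.2 hxVi
  · have hle : (⨅ i, Vi i : X.Opens).ι ''ᵁ ⊤ ≤ Vi i := by
      rw [Scheme.Opens.ι_image_top]
      exact iInf_le Vi i
    let g' : Γ((Scheme.Modules.restrictFunctor (⨅ i, Vi i : X.Opens).ι).obj G, ⊤) := res G hle (g i)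
    refine ⟨secHom _ g', ?_⟩
    apply hom_ext_of_sv
    rw [sv_comp, sv_secHom, Groth.Agent.Lib.Helper23.RestrJ.sv_restrSec, res_self]
    change π.app _ (res G hle (g i)) = _
    rw [show π.app _ (res G hle (g i)) = res C hle (π.app (Vi i) (g i)) from
      app_map π (homOfLE hle) (g i)]
    erw [hg i]
    rw [res_res, res_sv]

/-- a morphism from a free module of finite rank lifts locally through a `SurjAt` morphism -/
theorem exists_lift_of_iso_freeMod' {P G C : X.Modules} (n : ℕ) (e : P ≅ FlatMod.freeMod X n)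
    (π : G ⟶ C) (x : X) (hπ : SurjAt π x) (φ : P ⟶ C) :
    ∃ V : X.Opens, x ∈ V ∧ ∃ ψ : (Scheme.Modules.restrictFunctor V.ι).obj P ⟶
        (Scheme.Modules.restrictFunctor V.ι).obj G,
      ψ ≫ (Scheme.Modules.restrictFunctor V.ι).map π =
        (Scheme.Modules.restrictFunctor V.ι).map φ := by
  let f : Fin n → X.Modules := fun _ => Coh.structureModule X
  let s : Fin n → (Coh.structureModule X ⟶ C) := fun i => Sigma.ι f i ≫ e.inv ≫ φ
  obtain ⟨V, hxV, ht⟩ := exists_lift_units' π x hπ s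
  choose t ht using ht
  refine ⟨V, hxV, ?_⟩
  let R := Scheme.Modules.restrictFunctor V.ι
  have hcol : IsColimit (R.mapCocone (Cofan.mk (∐ f) (Sigma.ι f))) :=
    isColimitOfPreserves R (coproductIsCoproduct f)
  let c : Cocone (Discrete.functor f ⋙ R) :=
    { pt := R.obj G
      ι := Discrete.natTrans (fun i => (Scheme.Modules.restrictUnitIso V.ι).hom ≫ t i.as) }
  let ψ' : R.obj (FlatMod.freeMod X n) ⟶ R.obj G := hcol.desc c
  have hfac : ∀ i : Fin n, R.map (Sigma.ι f i) ≫ ψ' =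
      (Scheme.Modules.restrictUnitIso V.ι).hom ≫ t i := fun i => hcol.fac c ⟨i⟩
  have key : ψ' ≫ R.map π = R.map (e.inv ≫ φ) := by
    apply hcol.hom_ext
    rintro ⟨i⟩
    change R.map (Sigma.ι f i) ≫ ψ' ≫ R.map π = R.map (Sigma.ι f i) ≫ R.map (e.inv ≫ φ)
    rw [← Category.assoc, hfac i, Category.assoc, ht i, ← R.map_comp]
    change (Scheme.Modules.restrictUnitIso V.ι).hom ≫
      (Scheme.Modules.restrictUnitIso V.ι).inv ≫ R.map (s i) = _
    rw [Iso.hom_inv_id_assoc]
  refine ⟨R.map e.hom ≫ ψ', ?_⟩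
  rw [Category.assoc, key, ← R.map_comp, Iso.hom_inv_id_assoc]

/-- a morphism from a finite locally free module lifts locally through a `SurjAt` morphism -/
theorem exists_lift_of_isFinLocFree' {P G C : X.Modules} (hP : FlatMod.IsFinLocFree P)
    (π : G ⟶ C) (x : X) (hπ : SurjAt π x) (φ : P ⟶ C) :
    ∃ (U : Scheme.{u}) (j : U ⟶ X) (_ : IsOpenImmersion j) (y : U), j y = x ∧
      ∃ ψ : (Scheme.Modules.restrictFunctor j).obj P ⟶ (Scheme.Modules.restrictFunctor j).obj G,
        ψ ≫ (Scheme.Modules.restrictFunctor j).map π = (Scheme.Modules.restrictFunctor j).map φ := by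
  obtain ⟨U₀, n, hxU₀, ⟨e₀⟩⟩ := hP x
  let R₀ := Scheme.Modules.restrictFunctor U₀.ι
  have hπ₀ : SurjAt (R₀.map π) (⟨x, hxU₀⟩ : (U₀ : Scheme.{u})) :=
    SurjAt.restrict U₀.ι (⟨x, hxU₀⟩ : (U₀ : Scheme.{u})) hπ
  obtain ⟨W, hxW, ψ, hψ⟩ := exists_lift_of_iso_freeMod' (X := U₀) n e₀ (R₀.map π)
    ⟨x, hxU₀⟩ hπ₀ (R₀.map φ)
  let τ := Scheme.Modules.restrictFunctorComp W.ι U₀.ι
  refine ⟨W, W.ι ≫ U₀.ι, inferInstance, ⟨⟨x, hxU₀⟩, hxW⟩, rfl, τ.hom.app P ≫ ψ ≫ τ.inv.app G, ?_⟩
  have h1 : τ.inv.app G ≫ (Scheme.Modules.restrictFunctor (W.ι ≫ U₀.ι)).map π =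
      (Scheme.Modules.restrictFunctor W.ι).map (R₀.map π) ≫ τ.inv.app C := (τ.inv.naturality π).symm
  have h2 : τ.hom.app P ≫ (Scheme.Modules.restrictFunctor W.ι).map (R₀.map φ) =
      (Scheme.Modules.restrictFunctor (W.ι ≫ U₀.ι)).map φ ≫ τ.hom.app C :=
    (τ.hom.naturality φ).symm
  rw [Category.assoc, Category.assoc, h1, reassoc_of% hψ, reassoc_of% h2, Iso.hom_inv_id_app,
    Category.comp_id]

end Groth.Agent.Lib.Helper1.Germ
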