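import Mathlib
import Groth.Agent.Lib.Helper1GermA
import Groth.Agent.Lib.Helper1SPL3
import Groth.Agent.Lib.Helper1TorSrc
set_option backward.isDefEq.respectTransparency.types false

/-!
# Maps from strictly perfect complexes are null-homotopic near a point where the target is
acyclic (helper1)

Pointwise versions of the results of `Helper1SPL2`/`Helper1SPL3`: the acyclicity hypotheses are
only imposed on the stalks at the point `x`.
-/

set_option autoImplicit false
set_option linter.style.haveILetI false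
set_option maxHeartbeats 400000
universe u
open CategoryTheory CategoryTheory.Limits AlgebraicGeometry HomologicalComplex

attribute [local instance] HasDerivedCategory.standard

namespace Groth.Agent.Lib.Helper1.Germ

open Groth.Agent.Lib.Helper1.Sky Groth.Agent.Lib.Helper1.StalkTensor Groth.Agent.Lib.Helper1.KBC
  Groth.Agent.Lib.Helper1.SPL Groth.Agent.Lib.Helper1.TQ

variable {X : Scheme.{u}}

/-- vanishing of a stalk passes to open subschemes -/
lemma isZero_stalk_restrict {U : Scheme.{u}} (j : U ⟶ X) [IsOpenImmersion j] (y : U)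
    (M : X.Modules) (h : IsZero ((stalkFun (j y)).obj M)) :
    IsZero ((stalkFun y).obj ((Scheme.Modules.restrictFunctor j).obj M)) :=
  IsZero.of_iso ((ModuleCat.extendScalars.{u, u, u} (j.stalkMap y).hom).map_isZero h)
    ((resStalkIso j y).app M)

/-- vanishing of the stalk of a homology sheaf passes to open subschemes -/
lemma isZero_stalk_homology_resC {U : Scheme.{u}} (j : U ⟶ X) [IsOpenImmersion j] (y : U)
    (F : CochainComplex X.Modules ℤ) (i : ℤ) (h : IsZero ((stalkFun (j y)).obj (F.homology i))) :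
    IsZero ((stalkFun y).obj (((resC j).obj F).homology i)) := by
  haveI : (Scheme.Modules.restrictFunctor j).PreservesHomology := inferInstance
  exact IsZero.of_iso (isZero_stalk_restrict j y _ h)
    ((stalkFun y).mapIso ((F.sc i).mapHomologyIso (Scheme.Modules.restrictFunctor j)))

/-- if the stalk of `H^j(F)` at `x` vanishes then `F^i ⟶ Z^j(F)` is surjective on germs at `x` -/
lemma surjAt_toCycles (F : CochainComplex X.Modules ℤ) (i j : ℤ) (hij : i + 1 = j) (x : X)
    (h : IsZero ((stalkFun x).obj (F.homology j))) : SurjAt (F.toCycles i j) x := by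
  apply surjAt_of_surjective_stalk
  let S : ShortComplex X.Modules :=
    ShortComplex.mk (F.toCycles i j) (F.homologyπ j) (F.toCycles_comp_homologyπ i j)
  have hS : S.Exact := ShortComplex.exact_of_g_is_cokernel S
    (F.homologyIsCokernel i j (by simp [← hij]))
  have hS' : (S.map (stalkFun x)).Exact := hS.map (stalkFun x)
  haveI : Epi (S.map (stalkFun x)).f := hS'.epi_f (h.eq_of_tgt _ _)
  exact (ModuleCat.epi_iff_surjective _).1 (inferInstanceAs (Epi (S.map (stalkFun x)).f))


/-- the key induction: a map vanishing in degrees `≥ a + n` is null-homotopic near `x` -/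
theorem exists_homotopy_zero_aux' (n : ℕ) : ∀ {X : Scheme.{u}} {E F : CochainComplex X.Modules ℤ}
    (α : E ⟶ F) (_ : ∀ i, FlatMod.IsFinLocFree (E.X i)) (a : ℤ) (_ : ∀ i, i < a → IsZero (E.X i))
    (x : X) (_ : ∀ i, a ≤ i → IsZero ((stalkFun x).obj (F.homology i)))
    (_ : ∀ i, a + n ≤ i → α.f i = 0),
    ∃ (U : Scheme.{u}) (j : U ⟶ X) (_ : IsOpenImmersion j) (y : U), j y = x ∧
      Nonempty (Homotopy ((resC j).map α) 0) := by
  induction n with
  | zero =>
    intro X E F α _ a hEa x _ hα
    have h0 : α = 0 := by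
      apply HomologicalComplex.hom_ext
      intro i
      by_cases hi : i < a
      · exact (hEa i hi).eq_of_src _ _
      · exact hα i (by push Not at hi; simpa using hi)
    refine ⟨X, 𝟙 X, inferInstance, x, rfl, ⟨Homotopy.ofEq ?_⟩⟩
    rw [h0, Functor.map_zero]
  | succ n ih =>
    intro X E F α hfl a hEa x hF hα
    -- the top degree
    have hcyc : α.f (a + n) ≫ F.d (a + n) (a + n + 1) = 0 := by
      rw [α.comm, hα (a + n + 1) (by push_cast; omega), comp_zero]
    let z : E.X (a + n) ⟶ F.cycles (a + n) :=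
      F.liftCycles (α.f (a + n)) (a + n + 1) (by simp) hcyc
    have hsurj : SurjAt (F.toCycles (a + n - 1) (a + n)) x :=
      surjAt_toCycles F (a + n - 1) (a + n) (by omega) x (hF (a + n) (by omega))
    obtain ⟨U₁, j₁, hj₁, x₁, rfl, ψ, hψ⟩ := exists_lift_of_isFinLocFree' (hfl (a + n))
      (F.toCycles (a + n - 1) (a + n)) x hsurj z
    haveI := hj₁
    let R₁ := Scheme.Modules.restrictFunctor j₁
    have hψ' : ψ ≫ R₁.map (F.d (a + n - 1) (a + n)) = R₁.map (α.f (a + n)) := by
      rw [← F.toCycles_i (a + n - 1) (a + n), R₁.map_comp, reassoc_of% hψ, ← R₁.map_comp,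
        F.liftCycles_i]
    obtain ⟨N, ⟨hN⟩, hNc, hNi⟩ := exists_nullHomotopic (E := (resC j₁).obj E)
      (F := (resC j₁).obj F) (a + n) (a + n - 1) (by omega) ψ
    obtain ⟨U₂, j₂, hj₂, x₂, rfl, ⟨H⟩⟩ := ih (X := U₁) ((resC j₁).map α - N)
      (fun i => isFinLocFree_restrict j₁ _ (hfl i)) a
      (fun i hi => R₁.map_isZero (hEa i hi)) x₁
      (fun i hi => isZero_stalk_homology_resC j₁ x₁ F i (hF i hi))
      (fun i hi => by
        rcases eq_or_lt_of_le hi with h | h
        · subst h
          rw [HomologicalComplex.sub_f_apply, hNc, sub_eq_zero]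
          exact hψ'.symm
        · rw [HomologicalComplex.sub_f_apply, hNi i h, sub_zero]
          change R₁.map (α.f i) = 0
          rw [hα i (by push_cast; omega), R₁.map_zero])
    haveI := hj₂
    refine ⟨U₂, j₂ ≫ j₁, inferInstance, x₂, rfl, ⟨homotopyZeroOfComp j₂ j₁ α ?_⟩⟩
    have e : (resC j₁).map α = ((resC j₁).map α - N) + N := by abel
    rw [e, Functor.map_add]
    exact ((H.add ((Scheme.Modules.restrictFunctor j₂).mapHomotopy hN)).trans
      (Homotopy.ofEq (by simp)))

/-- maps from a strictly perfect complex concentrated in degrees `≥ a` to a complex whose stalk at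
`x` is exact in degrees `≥ a` are null-homotopic near `x` -/
theorem exists_homotopy_zero' {E F : CochainComplex X.Modules ℤ} (α : E ⟶ F)
    (hE : DCoh.IsStrictlyPerfect E) (a : ℤ) (hEa : ∀ i, i < a → IsZero (E.X i)) (x : X)
    (hF : ∀ i, a ≤ i → IsZero ((stalkFun x).obj (F.homology i))) :
    ∃ (U : Scheme.{u}) (j : U ⟶ X) (_ : IsOpenImmersion j) (y : U), j y = x ∧
      Nonempty (Homotopy ((resC j).map α) 0) := by
  obtain ⟨⟨a', b, hv⟩, hfl⟩ := hE
  refine exists_homotopy_zero_aux' (b + 1 - a).toNat α hfl a hEa x hF (fun i hi => ?_)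
  refine (hv i (Or.inr ?_)).eq_of_src _ _
  have := Int.self_le_toNat (b + 1 - a)
  omega

/-- lifting up to homotopy near `x` through a map whose cone has exact stalk at `x` in degrees
`≥ a` -/
theorem exists_lift_homotopy_of_cone' {E F G : CochainComplex X.Modules ℤ} (α : E ⟶ F) (f : G ⟶ F)
    (hE : DCoh.IsStrictlyPerfect E) (a : ℤ) (hEa : ∀ i, i < a → IsZero (E.X i)) (x : X)
    (hcone : ∀ i, a ≤ i →
      IsZero ((stalkFun x).obj ((CochainComplex.mappingCone f).homology i))) :
    ∃ (U : Scheme.{u}) (j : U ⟶ X) (_ : IsOpenImmersion j) (y : U), j y = x ∧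
      ∃ β : (resC j).obj E ⟶ (resC j).obj G,
        Nonempty (Homotopy (β ≫ (resC j).map f) ((resC j).map α)) := by
  obtain ⟨U, j, hj, y, hy, ⟨H⟩⟩ := exists_homotopy_zero' (α ≫ CochainComplex.mappingCone.inr f) hE a
    hEa x hcone
  haveI := hj
  refine ⟨U, j, hj, y, hy, ?_⟩
  let Fh := (Scheme.Modules.restrictFunctor j).mapHomotopyCategory (ComplexShape.up ℤ)
  let qX := HomotopyCategory.quotient X.Modules (ComplexShape.up ℤ)
  let qU := HomotopyCategory.quotient U.Modules (ComplexShape.up ℤ)
  let φ : qX ⋙ Fh ≅ resC j ⋙ qU :=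
    (Scheme.Modules.restrictFunctor j).mapHomotopyCategoryFactors (ComplexShape.up ℤ)
  have hT := HomotopyCategory.mappingCone_triangleh_distinguished f
  have hT' := Fh.map_distinguished _ hT
  have hnat : ∀ {K L : CochainComplex X.Modules ℤ} (g : K ⟶ L),
      Fh.map (qX.map g) = φ.hom.app K ≫ qU.map ((resC j).map g) ≫ φ.inv.app L := by
    intro K L g
    have h := φ.hom.naturality g
    rw [← Category.assoc]
    exact ((Iso.comp_inv_eq _).2 h.symm).symm
  have h0 : Fh.map (qX.map α) ≫ (Fh.mapTriangle.obj (CochainComplex.mappingCone.triangleh f)).mor₂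
      = 0 := by
    change Fh.map (qX.map α) ≫ Fh.map (qX.map (CochainComplex.mappingCone.inr f)) = 0
    rw [← Fh.map_comp, ← qX.map_comp, hnat,
      HomotopyCategory.eq_of_homotopy _ _ H]
    simp
  obtain ⟨b, hb'⟩ : ∃ b : Fh.obj (qX.obj E) ⟶ Fh.obj (qX.obj G),
      Fh.map (qX.map α) = b ≫ Fh.map (qX.map f) :=
    Pretriangulated.Triangle.coyoneda_exact₂ _ hT' (Fh.map (qX.map α)) h0
  let b' : qU.obj ((resC j).obj E) ⟶ qU.obj ((resC j).obj G) :=
    φ.inv.app E ≫ b ≫ φ.hom.app G
  refine ⟨qU.preimage b', ⟨HomotopyCategory.homotopyOfEq _ _ ?_⟩⟩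
  rw [qU.map_comp, qU.map_preimage]
  have h1 : φ.hom.app G ≫ qU.map ((resC j).map f) = Fh.map (qX.map f) ≫ φ.hom.app F :=
    (φ.hom.naturality f).symm
  have h2 : Fh.map (qX.map α) ≫ φ.hom.app F = φ.hom.app E ≫ qU.map ((resC j).map α) :=
    φ.hom.naturality α
  change (φ.inv.app E ≫ b ≫ φ.hom.app G) ≫ qU.map ((resC j).map f) = _
  rw [Category.assoc, Category.assoc, h1, ← Category.assoc b, ← hb', h2, Iso.inv_hom_id_app_assoc]

end Groth.Agent.Lib.Helper1.Germ
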