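import Mathlib
import Groth.Agent.Lib.Helper1GermB
import Groth.Agent.Lib.Helper1TensPCB
import Groth.Agent.Lib.Helper1KBC4
set_option backward.isDefEq.respectTransparency.types false

/-!
# Spreading out chain maps from the stalk at a point (helper1)

* `coneFunctor_mapHC`: the functor induced on complexes by an additive functor is a cone functor
* `ηC x F : F ⟶ sky_x(F_x)`: the termwise unit of the stalk/skyscraper adjunction; its cone has
  exact stalk at `x`
* `exists_spread_chain_map`: a chain map `P_x ⟶ F_x` out of the stalk of a strictly perfect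
  complex is, up to homotopy, the stalk of a chain map defined near `x`
-/

set_option autoImplicit false
set_option linter.style.haveILetI false
set_option maxHeartbeats 400000
universe u
open CategoryTheory CategoryTheory.Limits AlgebraicGeometry HomologicalComplex

attribute [local instance] HasDerivedCategory.standard

namespace Groth.Agent.Lib.Helper1.Germ

open Groth.Agent.Lib.Helper1.Sky Groth.Agent.Lib.Helper1.StalkTensor Groth.Agent.Lib.Helper1.KBC
  Groth.Agent.Lib.Helper1.SPL Groth.Agent.Lib.Helper1.TQ Groth.Agent.Lib.Helper1.BKF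

section abstract

variable {A B : Type*} [Category A] [Abelian A] [Category B] [Abelian B] (G : A ⥤ B) [G.Additive]

open CochainComplex in
/-- the functor induced on cochain complexes by an additive functor is a cone functor -/
theorem coneFunctor_mapHC : ConeFunctor (G.mapHomologicalComplex (ComplexShape.up ℤ)) where
  ses S σ := by
    apply shortExact_of_degreewise_shortExact
    intro n
    exact (((σ n).some).map G).shortExact
  shift X := ⟨(G.mapCochainComplexShiftIso 1).app X⟩
  coneId X := by
    apply acyc_of_homotopy_id_zero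
    refine (Homotopy.ofEq ((G.mapHomologicalComplex (ComplexShape.up ℤ)).map_id _).symm).trans
      ((G.mapHomotopy (mappingCone.homotopyToZeroOfId X)).trans (Homotopy.ofEq ?_))
    exact (G.mapHomologicalComplex (ComplexShape.up ℤ)).map_zero _ _

end abstract

variable {X : Scheme.{u}} (x : X)

/-- the termwise skyscraper complex -/
noncomputable abbrev skyC : CochainComplex (ModuleCat.{u} (Sky.Ox x)) ℤ ⥤ CochainComplex X.Modules ℤ :=
  (skyFun x).mapHomologicalComplex (ComplexShape.up ℤ)

/-- the termwise unit of the adjunction between stalks and skyscrapers -/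
noncomputable def ηC (F : CochainComplex X.Modules ℤ) : F ⟶ (skyC x).obj ((stalkC x).obj F) where
  f i := (stalkSkyAdj x).unit.app (F.X i)
  comm' i j _ := ((stalkSkyAdj x).unit.naturality (F.d i j)).symm

lemma ηC_naturality {F F' : CochainComplex X.Modules ℤ} (g : F ⟶ F') :
    g ≫ ηC x F' = ηC x F ≫ (skyC x).map ((stalkC x).map g) := by
  apply HomologicalComplex.hom_ext
  intro i
  exact (stalkSkyAdj x).unit.naturality (g.f i)

lemma skyStalkIso_hom_app (N : ModuleCat.{u} (Sky.Ox x)) :
    (skyStalkIso x).hom.app N = (stalkSkyAdj x).counit.app N := by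
  ext a
  rfl

/-- the triangle identity -/
lemma stalkC_map_ηC (F : CochainComplex X.Modules ℤ) :
    (stalkC x).map (ηC x F) ≫ (skyStalkCIso x ((stalkC x).obj F)).hom = 𝟙 _ := by
  apply HomologicalComplex.hom_ext
  intro i
  change (stalkFun x).map ((stalkSkyAdj x).unit.app (F.X i)) ≫
    (skyStalkIso x).hom.app ((stalkFun x).obj (F.X i)) = 𝟙 _
  rw [skyStalkIso_hom_app]
  exact (stalkSkyAdj x).left_triangle_components (F.X i)

instance isIso_stalkC_map_ηC (F : CochainComplex X.Modules ℤ) : IsIso ((stalkC x).map (ηC x F)) := by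
  have h := stalkC_map_ηC x F
  have : (stalkC x).map (ηC x F) = (skyStalkCIso x ((stalkC x).obj F)).inv := by
    rw [← cancel_mono (skyStalkCIso x ((stalkC x).obj F)).hom, h, Iso.inv_hom_id]
  rw [this]
  infer_instance

/-- the stalk at `x` of the homology of a complex -/
noncomputable def stalkHomologyIso (K : CochainComplex X.Modules ℤ) (i : ℤ) :
    ((stalkC x).obj K).homology i ≅ (stalkFun x).obj (K.homology i) :=
  (K.sc i).mapHomologyIso (stalkFun x)

/-- the cone of the unit has exact stalk at `x` -/
lemma isZero_stalk_homology_cone_ηC (F : CochainComplex X.Modules ℤ) (i : ℤ) :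
    IsZero ((stalkFun x).obj ((CochainComplex.mappingCone (ηC x F)).homology i)) := by
  refine IsZero.of_iso ?_ (stalkHomologyIso x _ i).symm
  rw [(coneFunctor_mapHC (stalkFun x)).isZero_homology_cone_iff (ηC x F) i]
  constructor <;> infer_instance


lemma skyStalkCIso_hom_naturality {N N' : CochainComplex (ModuleCat.{u} (Sky.Ox x)) ℤ} (γ : N ⟶ N') :
    (stalkC x).map ((skyC x).map γ) ≫ (skyStalkCIso x N').hom = (skyStalkCIso x N).hom ≫ γ := by
  apply HomologicalComplex.hom_ext
  intro i
  exact (skyStalkIso x).hom.naturality (γ.f i)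

variable {x}

/-- naturality of `stalkCResIso` -/
lemma stalkCResIso_hom_naturality {U : Scheme.{u}} (j : U ⟶ X) [IsOpenImmersion j] (y : U)
    {C C' : CochainComplex X.Modules ℤ} (g : C ⟶ C') :
    (stalkC y).map ((resC j).map g) ≫ (stalkCResIso j y C').hom =
      (stalkCResIso j y C).hom ≫
        ((KBC.ext (j.stalkMap y).hom).mapHomologicalComplex (ComplexShape.up ℤ)).map
          ((stalkC (j.base y)).map g) := by
  apply HomologicalComplex.hom_ext
  intro i
  exact (resStalkIso j y).hom.naturality (g.f i)

/-- a lift of the adjoint of `γ` through the unit has stalk `γ`, up to homotopy -/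
theorem nonempty_homotopy_stalk_of_lift {U : Scheme.{u}} (j : U ⟶ X) [IsOpenImmersion j] (y : U)
    {P F : CochainComplex X.Modules ℤ}
    (γ : (stalkC (j.base y)).obj P ⟶ (stalkC (j.base y)).obj F)
    (β : (resC j).obj P ⟶ (resC j).obj F)
    (H : Homotopy (β ≫ (resC j).map (ηC (j.base y) F))
      ((resC j).map (ηC (j.base y) P ≫ (skyC (j.base y)).map γ))) :
    Nonempty (Homotopy ((stalkC y).map β ≫ (stalkCResIso j y F).hom)
      ((stalkCResIso j y P).hom ≫
        ((KBC.ext (j.stalkMap y).hom).mapHomologicalComplex (ComplexShape.up ℤ)).map γ)) := by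
  let E := (KBC.ext (j.stalkMap y).hom).mapHomologicalComplex (ComplexShape.up ℤ)
  let x := j.base y
  let t : (stalkC y).obj ((resC j).obj ((skyC x).obj ((stalkC x).obj F))) ⟶
      E.obj ((stalkC x).obj F) :=
    (stalkCResIso j y _).hom ≫ E.map (skyStalkCIso x ((stalkC x).obj F)).hom
  have H1 := ((stalkFun y).mapHomotopy H).compRight t
  have eL : (stalkC y).map (β ≫ (resC j).map (ηC x F)) ≫ t =
      (stalkC y).map β ≫ (stalkCResIso j y F).hom := by
    rw [Functor.map_comp, Category.assoc]
    congr 1
    change (stalkC y).map ((resC j).map (ηC x F)) ≫ (stalkCResIso j y _).hom ≫ E.map _ = _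
    rw [← Category.assoc, stalkCResIso_hom_naturality, Category.assoc, ← E.map_comp,
      stalkC_map_ηC, E.map_id, Category.comp_id]
  have eR : (stalkC y).map ((resC j).map (ηC x P ≫ (skyC x).map γ)) ≫ t =
      (stalkCResIso j y P).hom ≫ E.map γ := by
    change (stalkC y).map ((resC j).map (ηC x P ≫ (skyC x).map γ)) ≫
      (stalkCResIso j y _).hom ≫ E.map _ = _
    rw [← Category.assoc, stalkCResIso_hom_naturality, Category.assoc, ← E.map_comp]
    congr 2
    change ((stalkC x).map (ηC x P ≫ (skyC x).map γ)) ≫ (skyStalkCIso x ((stalkC x).obj F)).hom = γ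
    rw [Functor.map_comp, Category.assoc, skyStalkCIso_hom_naturality, ← Category.assoc,
      stalkC_map_ηC, Category.id_comp]
  exact ⟨(Homotopy.ofEq eL.symm).trans (H1.trans (Homotopy.ofEq eR))⟩

/-- a chain map out of the stalk at `x` of a strictly perfect complex concentrated in degrees
`≥ a` lifts, near `x`, through the unit `F ⟶ sky_x(F_x)` up to homotopy -/
theorem exists_lift_unit {P F : CochainComplex X.Modules ℤ} (hP : DCoh.IsStrictlyPerfect P)
    (x : X) (γ : (stalkC x).obj P ⟶ (stalkC x).obj F) :
    ∃ (U : Scheme.{u}) (j : U ⟶ X) (_ : IsOpenImmersion j) (y : U), j y = x ∧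
      ∃ β : (resC j).obj P ⟶ (resC j).obj F,
        Nonempty (Homotopy (β ≫ (resC j).map (ηC x F))
          ((resC j).map (ηC x P ≫ (skyC x).map γ))) := by
  obtain ⟨⟨a, b, hv⟩, hfl⟩ := id hP
  exact exists_lift_homotopy_of_cone' (ηC x P ≫ (skyC x).map γ) (ηC x F) hP a
    (fun i hi => hv i (Or.inl hi)) x (fun i _ => isZero_stalk_homology_cone_ηC x F i)

end Groth.Agent.Lib.Helper1.Germ
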