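import Mathlib
import Groth.Prelude.Def_TotMap
import Groth.Agent.Lib.Helper1ClProjD
set_option backward.isDefEq.respectTransparency.types false

/-!
# helper1: the projection-formula map on complexes for an arbitrary morphism
-/

set_option autoImplicit false
set_option linter.style.haveILetI false
set_option linter.unusedSectionVars false
set_option maxHeartbeats 400000
universe v v' u u' w₁ w₂ w₃
open CategoryTheory CategoryTheory.Limits AlgebraicGeometry HomologicalComplex

namespace Groth.Agent.Lib.Helper1.PerfProj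

section LaxTotal

set_option backward.isDefEq.respectTransparency false

variable {C : Type u} {D : Type u'} [Category.{v} C] [Category.{v'} D] [Preadditive C] [Preadditive D]
  (G : C ⥤ D) [G.Additive]
  {I₁ : Type w₁} {I₂ : Type w₂} {I₁₂ : Type w₃} {c₁ : ComplexShape I₁} {c₂ : ComplexShape I₂}
  (K : HomologicalComplex₂ C c₁ c₂) (c : ComplexShape I₁₂) [TotalComplexShape c₁ c₂ c]
  [DecidableEq I₁₂] [K.HasTotal c] [((TotMap.map₂ G c₁ c₂).obj K).HasTotal c]

/-- degree `n` of the lax comparison `Tot(G K) ⟶ G(Tot K)` -/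
noncomputable def laxX (n : I₁₂) :
    (((TotMap.map₂ G c₁ c₂).obj K).total c).X n ⟶ ((G.mapHomologicalComplex c).obj (K.total c)).X n :=
  HomologicalComplex₂.totalDesc _ (fun i₁ i₂ h => G.map (K.ιTotal c i₁ i₂ n h))

@[reassoc (attr := simp)]
lemma ι_laxX (i₁ : I₁) (i₂ : I₂) (n : I₁₂) (h : ComplexShape.π c₁ c₂ c (i₁, i₂) = n) :
    ((TotMap.map₂ G c₁ c₂).obj K).ιTotal c i₁ i₂ n h ≫ laxX G K c n = G.map (K.ιTotal c i₁ i₂ n h) := by
  simp [laxX]

@[reassoc]
lemma ιOrZero_laxX (i₁ : I₁) (i₂ : I₂) (n : I₁₂) :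
    ((TotMap.map₂ G c₁ c₂).obj K).ιTotalOrZero c i₁ i₂ n ≫ laxX G K c n =
      G.map (K.ιTotalOrZero c i₁ i₂ n) := by
  by_cases h : ComplexShape.π c₁ c₂ c (i₁, i₂) = n
  · rw [HomologicalComplex₂.ιTotalOrZero_eq _ _ _ _ _ h, HomologicalComplex₂.ιTotalOrZero_eq _ _ _ _ _ h,
      ι_laxX]
  · rw [HomologicalComplex₂.ιTotalOrZero_eq_zero _ _ _ _ _ h,
      HomologicalComplex₂.ιTotalOrZero_eq_zero _ _ _ _ _ h, zero_comp, G.map_zero]

@[reassoc]
lemma d₁_laxX (i₁ : I₁) (i₂ : I₂) (n : I₁₂) :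
    ((TotMap.map₂ G c₁ c₂).obj K).d₁ c i₁ i₂ n ≫ laxX G K c n = G.map (K.d₁ c i₁ i₂ n) := by
  by_cases h : c₁.Rel i₁ (c₁.next i₁)
  · rw [HomologicalComplex₂.d₁_eq' _ _ h, HomologicalComplex₂.d₁_eq' _ _ h, Linear.units_smul_comp,
      Category.assoc, ιOrZero_laxX, Units.smul_def, Units.smul_def, G.map_zsmul,
      G.map_comp]
    rfl
  · rw [HomologicalComplex₂.d₁_eq_zero _ _ _ _ _ h, HomologicalComplex₂.d₁_eq_zero _ _ _ _ _ h, zero_comp,
      G.map_zero]

@[reassoc]
lemma d₂_laxX (i₁ : I₁) (i₂ : I₂) (n : I₁₂) :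
    ((TotMap.map₂ G c₁ c₂).obj K).d₂ c i₁ i₂ n ≫ laxX G K c n = G.map (K.d₂ c i₁ i₂ n) := by
  by_cases h : c₂.Rel i₂ (c₂.next i₂)
  · rw [HomologicalComplex₂.d₂_eq' _ _ _ h, HomologicalComplex₂.d₂_eq' _ _ _ h, Linear.units_smul_comp,
      Category.assoc, ιOrZero_laxX, Units.smul_def, Units.smul_def, G.map_zsmul,
      G.map_comp]
    rfl
  · rw [HomologicalComplex₂.d₂_eq_zero _ _ _ _ _ h, HomologicalComplex₂.d₂_eq_zero _ _ _ _ _ h, zero_comp,
      G.map_zero]

/-- the lax comparison `Tot(G K) ⟶ G(Tot K)` for an additive functor `G` (no preservation of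
coproducts assumed) -/
noncomputable def laxTotal :
    ((TotMap.map₂ G c₁ c₂).obj K).total c ⟶ (G.mapHomologicalComplex c).obj (K.total c) where
  f n := laxX G K c n
  comm' n n' _ := by
    refine HomologicalComplex₂.total.hom_ext _ (fun i₁ i₂ h => ?_)
    simp only [Functor.mapHomologicalComplex_obj_d, HomologicalComplex₂.total_d, G.map_add,
      Preadditive.comp_add, Preadditive.add_comp, ι_laxX_assoc, ← G.map_comp,
      HomologicalComplex₂.ι_D₁, HomologicalComplex₂.ι_D₂, HomologicalComplex₂.ι_D₁_assoc,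
      HomologicalComplex₂.ι_D₂_assoc, d₁_laxX, d₂_laxX]

@[simp]
lemma laxTotal_f (n : I₁₂) : (laxTotal G K c).f n = laxX G K c n := rfl

variable {K} {L : HomologicalComplex₂ C c₁ c₂} (φ : K ⟶ L)
  [L.HasTotal c] [((TotMap.map₂ G c₁ c₂).obj L).HasTotal c]

@[reassoc]
lemma laxTotal_naturality :
    HomologicalComplex₂.total.map ((TotMap.map₂ G c₁ c₂).map φ) c ≫ laxTotal G L c =
      laxTotal G K c ≫ (G.mapHomologicalComplex c).map (HomologicalComplex₂.total.map φ c) := by
  refine HomologicalComplex.hom_ext _ _ (fun n => HomologicalComplex₂.total.hom_ext _ (fun i₁ i₂ h => ?_))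
  simp only [HomologicalComplex.comp_f, laxTotal_f, Functor.mapHomologicalComplex_map_f,
    HomologicalComplex₂.ιTotal_map_assoc, ι_laxX G L c, ι_laxX_assoc G K c,
    ← G.map_comp, HomologicalComplex₂.ιTotal_map]

end LaxTotal

end Groth.Agent.Lib.Helper1.PerfProj

namespace Groth.Agent.Lib.Helper1.PerfProj

open Groth.Agent.Lib.Helper1.PT Groth.Agent.Lib.Helper1.Proj Groth.Agent.Lib.Helper1.BKF
  Groth.Agent.Lib.Helper1.ClProj

section Theta

variable {X Y : Scheme.{u}} (f : X ⟶ Y) (L : CochainComplex X.Modules ℤ)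
  (P : CochainComplex Y.Modules ℤ)

instance hasTotal_map₂_B₁' :
    ((TotMap.map₂ (psh f) (ComplexShape.up ℤ) (ComplexShape.up ℤ)).obj (B₁' f L P)).HasTotal
      (ComplexShape.up ℤ) := fun _ => inferInstance

/-- the map of bicomplexes with components the projection-formula maps -/
noncomputable def theta₂ :
    B₄' f L P ⟶ (TotMap.map₂ (psh f) (ComplexShape.up ℤ) (ComplexShape.up ℤ)).obj (B₁' f L P) :=
  HomologicalComplex₂.homMk (fun i => tau f (L.X i.1) (P.X i.2))
    (fun p p' q _ => (tau_naturality_left f (L.d p p') (P.X q)).symm)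
    (fun p q q' _ => (tau_naturality_right f (L.X p) (P.d q q')).symm)

/-- **the projection-formula map on complexes** `f_* L ⊗ P ⟶ f_*(L ⊗ f^* P)` -/
noncomputable def Theta :
    (DCoh.tensorCx.obj (((psh f).mapHomologicalComplex (ComplexShape.up ℤ)).obj L)).obj P ⟶
      ((psh f).mapHomologicalComplex (ComplexShape.up ℤ)).obj
        ((DCoh.tensorCx.obj L).obj (((plb f).mapHomologicalComplex (ComplexShape.up ℤ)).obj P)) :=
  HomologicalComplex₂.total.map (theta₂ f L P) (ComplexShape.up ℤ) ≫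
    laxTotal (psh f) (B₁' f L P) (ComplexShape.up ℤ)

@[reassoc]
lemma ι_Theta (p q n : ℤ) (h : p + q = n) :
    ιMapBifunctor (((psh f).mapHomologicalComplex (ComplexShape.up ℤ)).obj L) P
        (DCoh.tensorBi (X := Y)) (ComplexShape.up ℤ) p q n h ≫ (Theta f L P).f n =
      tau f (L.X p) (P.X q) ≫ (psh f).map
        (ιMapBifunctor L (((plb f).mapHomologicalComplex (ComplexShape.up ℤ)).obj P)
          (DCoh.tensorBi (X := X)) (ComplexShape.up ℤ) p q n h) := by
  dsimp only [Theta, ιMapBifunctor]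
  rw [HomologicalComplex.comp_f, laxTotal_f]
  erw [HomologicalComplex₂.ιTotal_map_assoc, ι_laxX]
  rfl

end Theta

end Groth.Agent.Lib.Helper1.PerfProj
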