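import Mathlib
import Groth.Agent.Lib.Helper1PerfProjA
import Groth.Agent.Lib.Helper1TensPCC
import Groth.Agent.Lib.Helper1GermC
set_option backward.isDefEq.respectTransparency.types false

/-!
# helper1: local quasi-isomorphisms (restriction to opens) and tensor products
-/

set_option autoImplicit false
set_option linter.style.haveILetI false
set_option linter.unusedSectionVars false
set_option maxHeartbeats 400000
universe u
open CategoryTheory CategoryTheory.Limits AlgebraicGeometry HomologicalComplex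

namespace Groth.Agent.Lib.Helper1.PerfProj

open Groth.Agent.Lib.Helper1.PT Groth.Agent.Lib.Helper1.Proj Groth.Agent.Lib.Helper1.BKF
  Groth.Agent.Lib.Helper1.ClProj Groth.Agent.Lib.Helper1.Sky Groth.Agent.Lib.Helper1.KBC
  Groth.Agent.Lib.Helper1.SPL Groth.Agent.Lib.Helper1.TQ Groth.Agent.Lib.Helper1.Germ

section local_iso

variable {Y : Scheme.{u}} (V : Y.Opens)

/-- a morphism which is invertible on the stalks at the points of `V` is invertible on `V` -/
lemma isIso_restrict_map_of_stalk {M N : Y.Modules} (ψ : M ⟶ N)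
    (h : ∀ y ∈ V, IsIso ((stalkFun y).map ψ)) :
    IsIso ((Scheme.Modules.restrictFunctor V.ι).map ψ) := by
  apply isIso_of_forall_isIso_stalk
  intro v
  haveI : IsIso ((stalkFun (V.ι v)).map ψ) := h _ v.2
  haveI := isIso_stalk_plb_map V.ι ψ v
  have e := Scheme.Modules.restrictFunctorIsoPullback V.ι
  have h3 : (Scheme.Modules.restrictFunctor V.ι).map ψ =
      e.hom.app M ≫ (plb V.ι).map ψ ≫ e.inv.app N := by
    rw [← Category.assoc, ← e.hom.naturality ψ, Category.assoc, Iso.hom_inv_id_app, Category.comp_id]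
  rw [h3, Functor.map_comp, Functor.map_comp]
  infer_instance

/-- a morphism which is invertible on `V` is invertible on the stalks at the points of `V` -/
lemma isIso_stalk_of_restrict_map {M N : Y.Modules} (ψ : M ⟶ N)
    [IsIso ((Scheme.Modules.restrictFunctor V.ι).map ψ)] (y : Y) (hy : y ∈ V) :
    IsIso ((stalkFun y).map ψ) := by
  have hU : V.ι.opensRange = V := Scheme.Opens.opensRange_ι V
  haveI := isIso_stalk_restrict_unit V.ι M y (hU.symm ▸ hy)
  haveI := isIso_stalk_restrict_unit V.ι N y (hU.symm ▸ hy)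
  have nat := (Scheme.Modules.restrictAdjunction V.ι).unit.naturality ψ
  have nat' := congrArg (fun t => (stalkFun y).map t) nat
  simp only [Functor.map_comp, Functor.id_map, Functor.comp_map] at nat'
  haveI : IsIso ((stalkFun y).map ψ ≫
      (stalkFun y).map ((Scheme.Modules.restrictAdjunction V.ι).unit.app N)) := by
    rw [nat']; infer_instance
  exact IsIso.of_isIso_comp_right _
    ((stalkFun y).map ((Scheme.Modules.restrictAdjunction V.ι).unit.app N))

/-- a module which vanishes locally vanishes -/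
lemma isZero_of_locally_isZero (M : Y.Modules)
    (h : ∀ y : Y, ∃ V : Y.Opens, y ∈ V ∧ IsZero ((Scheme.Modules.restrictFunctor V.ι).obj M)) :
    IsZero M := by
  apply isZero_of_forall_isZero_stalk
  intro y
  obtain ⟨V, hy, hV⟩ := h y
  have hU : V.ι.opensRange = V := Scheme.Opens.opensRange_ι V
  haveI := isIso_stalk_restrict_unit V.ι M y (hU.symm ▸ hy)
  have hz : IsZero ((stalkFun y).obj ((Scheme.Modules.pushforward V.ι).obj
      ((Scheme.Modules.restrictFunctor V.ι).obj M))) :=
    (stalkFun y).map_isZero ((Scheme.Modules.pushforward V.ι).map_isZero hV)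
  exact IsZero.of_iso hz
    (asIso ((stalkFun y).map ((Scheme.Modules.restrictAdjunction V.ι).unit.app M)))

/-- a complex which is locally acyclic is acyclic -/
lemma acyc_of_locally_acyc (C : CochainComplex Y.Modules ℤ)
    (h : ∀ y : Y, ∃ V : Y.Opens, y ∈ V ∧ Acyc ((resC V.ι).obj C)) : Acyc C := by
  intro n
  apply isZero_of_locally_isZero
  intro y
  obtain ⟨V, hy, hV⟩ := h y
  refine ⟨V, hy, ?_⟩
  have e := (C.sc n).mapHomologyIso (Scheme.Modules.restrictFunctor V.ι)
  exact IsZero.of_iso (hV n) e.symm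

/-- a morphism of complexes which is locally a quasi-isomorphism is a quasi-isomorphism -/
theorem quasiIso_of_locally_quasiIso {K L : CochainComplex Y.Modules ℤ} (φ : K ⟶ L)
    (h : ∀ y : Y, ∃ V : Y.Opens, y ∈ V ∧ QuasiIso ((resC V.ι).map φ)) : QuasiIso φ := by
  apply quasiIso_of_acyc_cone
  apply acyc_of_locally_acyc
  intro y
  obtain ⟨V, hy, hV⟩ := h y
  haveI := hV
  exact ⟨V, hy, (coneFunctor_mapHC (Scheme.Modules.restrictFunctor V.ι)).acyc_cone_of_quasiIso_map φ⟩

end local_iso

section thetaNat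

variable {X Y : Scheme.{u}} (f : X ⟶ Y) (L : CochainComplex X.Modules ℤ)

lemma Theta_naturality {P P' : CochainComplex Y.Modules ℤ} (u : P ⟶ P') :
    (DCoh.tensorCx.obj (((psh f).mapHomologicalComplex (ComplexShape.up ℤ)).obj L)).map u ≫
        Theta f L P' =
      Theta f L P ≫ ((psh f).mapHomologicalComplex (ComplexShape.up ℤ)).map
        ((DCoh.tensorCx.obj L).map (((plb f).mapHomologicalComplex (ComplexShape.up ℤ)).map u)) := by
  refine HomologicalComplex.hom_ext _ _ (fun n => ?_)
  apply mapBifunctor.hom_ext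
  intro p q hpq
  have e1 := ι_TL_map (DCoh.tensorBi (X := Y))
    (((psh f).mapHomologicalComplex (ComplexShape.up ℤ)).obj L) u p q n hpq
  have e2 := ι_TL_map (DCoh.tensorBi (X := X)) L
    (((plb f).mapHomologicalComplex (ComplexShape.up ℤ)).map u) p q n hpq
  have l : ιMapBifunctor (((psh f).mapHomologicalComplex (ComplexShape.up ℤ)).obj L) P
        (DCoh.tensorBi (X := Y)) (ComplexShape.up ℤ) p q n hpq ≫
      (((DCoh.tensorCx.obj (((psh f).mapHomologicalComplex (ComplexShape.up ℤ)).obj L)).map u) ≫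
        Theta f L P').f n =
      (DCoh.tensorBi.obj ((psh f).obj (L.X p))).map (u.f q) ≫ tau f (L.X p) (P'.X q) ≫
        (psh f).map (ιMapBifunctor L (((plb f).mapHomologicalComplex (ComplexShape.up ℤ)).obj P')
          (DCoh.tensorBi (X := X)) (ComplexShape.up ℤ) p q n hpq) := by
    rw [HomologicalComplex.comp_f, ← Category.assoc]
    refine Eq.trans (congrArg (fun t => t ≫ (Theta f L P').f n) e1) ?_
    refine (Category.assoc _ _ _).trans ?_
    exact congrArg (fun t => (DCoh.tensorBi.obj ((psh f).obj (L.X p))).map (u.f q) ≫ t)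
      (ι_Theta f L P' p q n hpq)
  have r : ιMapBifunctor (((psh f).mapHomologicalComplex (ComplexShape.up ℤ)).obj L) P
        (DCoh.tensorBi (X := Y)) (ComplexShape.up ℤ) p q n hpq ≫
      (Theta f L P ≫ ((psh f).mapHomologicalComplex (ComplexShape.up ℤ)).map
        ((DCoh.tensorCx.obj L).map (((plb f).mapHomologicalComplex (ComplexShape.up ℤ)).map u))).f n =
      tau f (L.X p) (P.X q) ≫ (psh f).map ((DCoh.tensorBi.obj (L.X p)).map ((plb f).map (u.f q))) ≫
        (psh f).map (ιMapBifunctor L (((plb f).mapHomologicalComplex (ComplexShape.up ℤ)).obj P')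
          (DCoh.tensorBi (X := X)) (ComplexShape.up ℤ) p q n hpq) := by
    refine Eq.trans (congrArg (fun t => ιMapBifunctor
      (((psh f).mapHomologicalComplex (ComplexShape.up ℤ)).obj L) P
        (DCoh.tensorBi (X := Y)) (ComplexShape.up ℤ) p q n hpq ≫ t)
      (HomologicalComplex.comp_f (Theta f L P) (((psh f).mapHomologicalComplex (ComplexShape.up ℤ)).map
        ((DCoh.tensorCx.obj L).map (((plb f).mapHomologicalComplex (ComplexShape.up ℤ)).map u))) n)) ?_
    refine ((Category.assoc _ _ _).symm.trans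
      (congrArg (fun t => t ≫ (((psh f).mapHomologicalComplex (ComplexShape.up ℤ)).map
        ((DCoh.tensorCx.obj L).map (((plb f).mapHomologicalComplex (ComplexShape.up ℤ)).map u))).f n)
        (ι_Theta f L P p q n hpq))).trans ?_
    refine (Category.assoc _ _ _).trans ?_
    congr 1
    refine Eq.trans ?_ ((psh f).map_comp _ _)
    refine ((psh f).map_comp _ _).symm.trans ?_
    exact congrArg (psh f).map e2
  refine l.trans (Eq.trans ?_ r.symm)
  rw [← Category.assoc, ← Category.assoc]
  congr 1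
  exact tau_naturality_right f (L.X p) (u.f q)


end thetaNat

section tensor

variable {X Y : Scheme.{u}} (f : X ⟶ Y) (V : Y.Opens)

/-- tensoring with a complex which is K-flat and acyclic on `V` gives a complex acyclic on `V` -/
theorem acyc_resC_tensor (M C : CochainComplex Y.Modules ℤ)
    (hK : DCoh.IsKFlat ((resC V.ι).obj C)) (hA : Acyc ((resC V.ι).obj C)) :
    Acyc ((resC V.ι).obj ((DCoh.tensorCx.obj M).obj C)) := by
  obtain ⟨e⟩ := nonempty_resC_tensor V.ι M C
  exact Acyc.of_iso e.symm
    (acyc_TL_of_acyc_isKFlat (O := (V : Scheme.{u}).sheaf) _ hK hA ((resC V.ι).obj M))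

/-- pullback commutes with restriction to opens, on modules -/
noncomputable def pullResModIso :
    Scheme.Modules.pullback f ⋙ Scheme.Modules.restrictFunctor (f ⁻¹ᵁ V).ι ≅
      Scheme.Modules.restrictFunctor V.ι ⋙ Scheme.Modules.pullback (f ∣_ V) :=
  Functor.isoWhiskerLeft _ (Scheme.Modules.restrictFunctorIsoPullback (f ⁻¹ᵁ V).ι) ≪≫
    Scheme.Modules.pullbackComp (f ⁻¹ᵁ V).ι f ≪≫
    Scheme.Modules.pullbackCongr (morphismRestrict_ι f V).symm ≪≫
    (Scheme.Modules.pullbackComp (f ∣_ V) V.ι).symm ≪≫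
    Functor.isoWhiskerRight (Scheme.Modules.restrictFunctorIsoPullback V.ι).symm _

/-- pullback commutes with restriction to opens, on complexes -/
noncomputable def pullResIso :
    pullC f ⋙ resC (f ⁻¹ᵁ V).ι ≅ resC V.ι ⋙ pullC (f ∣_ V) :=
  Groth.Agent.Lib.Helper1.RpushRes.cIso _ _ _ _ (pullResModIso f V)

/-- the pullback of a complex which is K-flat and acyclic on `V`, tensored with any complex, is
acyclic on `f⁻¹ V` -/
theorem acyc_resC_tensor_pull (N : CochainComplex X.Modules ℤ) (C : CochainComplex Y.Modules ℤ)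
    (hK : DCoh.IsKFlat ((resC V.ι).obj C)) (hA : Acyc ((resC V.ι).obj C)) :
    Acyc ((resC (f ⁻¹ᵁ V).ι).obj ((DCoh.tensorCx.obj N).obj ((pullC f).obj C))) := by
  have e := (pullResIso f V).app C
  have hK' : DCoh.IsKFlat ((pullC (f ∣_ V)).obj ((resC V.ι).obj C)) :=
    Groth.Agent.S0960.isKFlat_pullC (f ∣_ V) _ hK
  have hA' : Acyc ((pullC (f ∣_ V)).obj ((resC V.ι).obj C)) :=
    acyc_pullC_of_isKFlat (f ∣_ V) _ hK hA
  exact acyc_resC_tensor (f ⁻¹ᵁ V) N ((pullC f).obj C)
    (isKFlat_of_iso (O := ((f ⁻¹ᵁ V : X.Opens) : Scheme.{u}).sheaf) e.symm hK')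
    (Acyc.of_iso e.symm hA')

end tensor

end Groth.Agent.Lib.Helper1.PerfProj
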