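import Mathlib
import Groth.Agent.Lib.Helper1PerfProjB
import Groth.Agent.Lib.Helper1RpushRes
import Groth.Agent.Lib.Helper1CI5
import Groth.Agent.Lib.Helper1DAdj
set_option backward.isDefEq.respectTransparency.types false

/-!
# helper1: the transfer lemma for the projection-formula map
-/

set_option autoImplicit false
set_option linter.style.haveILetI false
set_option linter.unusedSectionVars false
set_option maxHeartbeats 400000
universe u
open CategoryTheory CategoryTheory.Limits AlgebraicGeometry HomologicalComplex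

attribute [local instance] HasDerivedCategory.standard

namespace Groth.Agent.Lib.Helper1.PerfProj

open Groth.Agent.Lib.Helper1.PT Groth.Agent.Lib.Helper1.Proj Groth.Agent.Lib.Helper1.BKF
  Groth.Agent.Lib.Helper1.ClProj Groth.Agent.Lib.Helper1.Sky Groth.Agent.Lib.Helper1.KBC
  Groth.Agent.Lib.Helper1.SPL Groth.Agent.Lib.Helper1.TQ Groth.Agent.Lib.Helper1.Germ
  Groth.Agent.Lib.Helper1.RpushRes Groth.Agent.Lib.Helper17.KInj Groth.Agent.Lib.Helper1.DAdj

section conefunctor

variable {A B B' : Type*} [Category A] [Abelian A] [Category B] [Abelian B] [Category B'] [Abelian B']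

/-- post-composition of a cone functor with an exact functor -/
theorem ConeFunctor.comp_mapHC {G : CochainComplex A ℤ ⥤ CochainComplex B ℤ}
    [G.PreservesZeroMorphisms] (hG : ConeFunctor G) (E : B ⥤ B') [E.Additive]
    [PreservesFiniteLimits E] [PreservesFiniteColimits E] :
    ConeFunctor (G ⋙ E.mapHomologicalComplex (ComplexShape.up ℤ)) where
  ses S σ := by
    have h := hG.ses S σ
    have h2 : ((S.map G).map (E.mapHomologicalComplex (ComplexShape.up ℤ))).ShortExact := by
      apply shortExact_of_degreewise_shortExact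
      intro n
      have h3 : ((S.map G).map (eval _ _ n)).ShortExact := h.map_of_exact _
      exact h3.map_of_exact E
    exact h2
  shift X := by
    obtain ⟨e⟩ := hG.shift X
    exact ⟨(E.mapHomologicalComplex (ComplexShape.up ℤ)).mapIso e ≪≫
      (E.mapCochainComplexShiftIso 1).app (G.obj X)⟩
  coneId X := acyc_map_of_acyc E _ (hG.coneId X)

/-- pre-composition of a cone functor with a termwise additive functor -/
theorem ConeFunctor.mapHC_comp {G : CochainComplex B ℤ ⥤ CochainComplex B' ℤ}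
    [G.PreservesZeroMorphisms] (hG : ConeFunctor G) (H : A ⥤ B) [H.Additive] :
    ConeFunctor (H.mapHomologicalComplex (ComplexShape.up ℤ) ⋙ G) where
  ses S σ := by
    refine hG.ses (S.map (H.mapHomologicalComplex (ComplexShape.up ℤ))) (fun n => ?_)
    exact ⟨((σ n).some).map H⟩
  shift X := by
    obtain ⟨e⟩ := hG.shift ((H.mapHomologicalComplex (ComplexShape.up ℤ)).obj X)
    exact ⟨G.mapIso ((H.mapCochainComplexShiftIso 1).app X) ≪≫ e⟩
  coneId X := by
    have e : (H.mapHomologicalComplex (ComplexShape.up ℤ)).obj (CochainComplex.mappingCone (𝟙 X)) ≅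
        CochainComplex.mappingCone (𝟙 ((H.mapHomologicalComplex (ComplexShape.up ℤ)).obj X)) :=
      CochainComplex.mappingCone.mapHomologicalComplexIso (𝟙 X) H ≪≫
        eqToIso (by rw [CategoryTheory.Functor.map_id])
    exact Acyc.of_iso (G.mapIso e).symm (hG.coneId _)

end conefunctor

section KP

variable {X Y : Scheme.{u}} (f : X ⟶ Y) (V : Y.Opens)

/-- pushforward commutes with restriction to opens, on complexes -/
noncomputable def pushResIso :
    pushC f ⋙ resC V.ι ≅ resC (f ⁻¹ᵁ V).ι ⋙ pushC (f ∣_ V) :=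
  Groth.Agent.Lib.Helper1.RpushRes.cIso _ _ _ _ (pushRestrictIso f V)

/-- a morphism between complexes which are K-injective over `f⁻¹ V`, and which is a
quasi-isomorphism over `f⁻¹ V`, is pushed forward to a quasi-isomorphism over `V` -/
theorem quasiIso_resC_pushC_map {N J : CochainComplex X.Modules ℤ} (q : N ⟶ J)
    [((resC (f ⁻¹ᵁ V).ι).obj N).IsKInjective] [((resC (f ⁻¹ᵁ V).ι).obj J).IsKInjective]
    [QuasiIso ((resC (f ⁻¹ᵁ V).ι).map q)] :
    QuasiIso ((resC V.ι).map ((pushC f).map q)) := by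
  obtain ⟨e, he⟩ := homotopyEquiv_of_quasiIso ((resC (f ⁻¹ᵁ V).ι).map q)
  have h1 : QuasiIso ((pushC (f ∣_ V)).map ((resC (f ⁻¹ᵁ V).ι).map q)) := by
    have h2 : ((Scheme.Modules.pushforward (f ∣_ V)).mapHomotopyEquiv e).hom =
        (pushC (f ∣_ V)).map ((resC (f ⁻¹ᵁ V).ι).map q) := by
      rw [← he]; rfl
    rw [← h2]
    infer_instance
  have nat := (pushResIso f V).hom.naturality q
  have h3 : (resC V.ι).map ((pushC f).map q) =
      (pushResIso f V).hom.app N ≫ (pushC (f ∣_ V)).map ((resC (f ⁻¹ᵁ V).ι).map q) ≫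
        (pushResIso f V).inv.app J := by
    rw [← Category.assoc]
    refine ((Iso.comp_inv_eq _).2 ?_).symm
    exact nat.symm
  rw [h3]
  infer_instance

end KP

section Psi

variable {X Y : Scheme.{u}} (f : X ⟶ Y) (I : CochainComplex X.Modules ℤ)

instance isGrothendieckAbelian_modules (Z : Scheme.{u}) : IsGrothendieckAbelian.{u} Z.Modules :=
  Groth.Agent.Lib.Helper21.ModTensor3.isGrothendieckAbelian (O := Z.sheaf)

/-- `P ↦ I ⊗ f^* P` -/
noncomputable abbrev Bf : CochainComplex Y.Modules ℤ ⥤ CochainComplex X.Modules ℤ :=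
  pullC f ⋙ DCoh.tensorCx.obj I

/-- the functorial K-injective replacement -/
noncomputable abbrev Rr (Z : Scheme.{u}) : CochainComplex Z.Modules ℤ ⥤ CochainComplex Z.Modules ℤ :=
  fibRepl₀.{u} Z.Modules

/-- the resolution map -/
noncomputable abbrev rho (Z : Scheme.{u}) : 𝟭 (CochainComplex Z.Modules ℤ) ⟶ Rr Z :=
  fibReplι₀.{u} Z.Modules

instance isKInjective_Rr (Z : Scheme.{u}) (K : CochainComplex Z.Modules ℤ) :
    ((Rr Z).obj K).IsKInjective :=
  (fibrant_fibRepl₀.{u} Z.Modules K).isKInjective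

instance quasiIso_rho (Z : Scheme.{u}) (K : CochainComplex Z.Modules ℤ) :
    QuasiIso ((rho Z).app K) :=
  (trivCof_fibReplι₀.{u} Z.Modules K).2

/-- the projection-formula map followed by the K-injective resolution:
`f_* I ⊗ P ⟶ f_* R(I ⊗ f^* P)` -/
noncomputable def Psi (P : CochainComplex Y.Modules ℤ) :
    (DCoh.tensorCx.obj ((pushC f).obj I)).obj P ⟶ (pushC f).obj ((Rr X).obj ((Bf f I).obj P)) :=
  Theta f I P ≫ (pushC f).map ((rho X).app ((Bf f I).obj P))

lemma Psi_naturality {P P' : CochainComplex Y.Modules ℤ} (u : P ⟶ P') :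
    (DCoh.tensorCx.obj ((pushC f).obj I)).map u ≫ Psi f I P' =
      Psi f I P ≫ (pushC f).map ((Rr X).map ((Bf f I).map u)) := by
  unfold Psi
  have h1 := Theta_naturality f I u
  have h2 := (rho X).naturality ((Bf f I).map u)
  rw [← Category.assoc, h1, Category.assoc, Category.assoc, ← Functor.map_comp, ← Functor.map_comp]
  congr 2

end Psi

section transfer

variable {X Y : Scheme.{u}} (f : X ⟶ Y) (I : CochainComplex X.Modules ℤ) (V : Y.Opens)

/-- the projection-formula map for `P` is a quasi-isomorphism over `V` -/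
def GoodOn (P : CochainComplex Y.Modules ℤ) : Prop :=
  QuasiIso ((resC V.ι).map (Psi f I P))

variable {P₁ P₂ : CochainComplex Y.Modules ℤ} (u : P₁ ⟶ P₂)
  (hK₁ : DCoh.IsKFlat ((resC V.ι).obj P₁)) (hK₂ : DCoh.IsKFlat ((resC V.ι).obj P₂))
  (hu : QuasiIso ((resC V.ι).map u))

include hK₁ hK₂ hu

lemma isKFlat_resC_cone : DCoh.IsKFlat ((resC V.ι).obj (CochainComplex.mappingCone u)) :=
  isKFlat_of_iso (O := (V : Scheme.{u}).sheaf)
    (CochainComplex.mappingCone.mapHomologicalComplexIso u
      (Scheme.Modules.restrictFunctor V.ι)).symm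
    (Groth.Agent.Lib.Helper1.CI.isKFlat_mappingCone ((resC V.ι).map u) hK₁ hK₂)

omit hK₁ hK₂ in
lemma acyc_resC_cone : Acyc ((resC V.ι).obj (CochainComplex.mappingCone u)) := by
  haveI := hu
  exact (coneFunctor_mapHC (Scheme.Modules.restrictFunctor V.ι)).acyc_cone_of_quasiIso_map u

lemma quasiIso_resC_tensor_map (M : CochainComplex Y.Modules ℤ) :
    QuasiIso ((resC V.ι).map ((DCoh.tensorCx.obj M).map u)) := by
  have hG : ConeFunctor (TL (DCoh.tensorBi (X := Y)) M ⋙
      (Scheme.Modules.restrictFunctor V.ι).mapHomologicalComplex (ComplexShape.up ℤ)) :=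
    ConeFunctor.comp_mapHC (coneFunctor_TL (DCoh.tensorBi (X := Y)) M)
      (Scheme.Modules.restrictFunctor V.ι)
  exact hG.quasiIso_map_of_acyc_cone u
    (acyc_resC_tensor V M _ (isKFlat_resC_cone V u hK₁ hK₂ hu) (acyc_resC_cone V u hu))

lemma quasiIso_resC_Bf_map :
    QuasiIso ((resC (f ⁻¹ᵁ V).ι).map ((Bf f I).map u)) := by
  have hG : ConeFunctor (((Scheme.Modules.pullback f).mapHomologicalComplex (ComplexShape.up ℤ) ⋙
      TL (DCoh.tensorBi (X := X)) I) ⋙
      (Scheme.Modules.restrictFunctor (f ⁻¹ᵁ V).ι).mapHomologicalComplex (ComplexShape.up ℤ)) :=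
    ConeFunctor.comp_mapHC (ConeFunctor.mapHC_comp (coneFunctor_TL (DCoh.tensorBi (X := X)) I)
      (Scheme.Modules.pullback f)) (Scheme.Modules.restrictFunctor (f ⁻¹ᵁ V).ι)
  exact hG.quasiIso_map_of_acyc_cone u
    (acyc_resC_tensor_pull f V I _ (isKFlat_resC_cone V u hK₁ hK₂ hu) (acyc_resC_cone V u hu))

/-- **the transfer lemma**: the property `GoodOn` is invariant under maps which, over `V`, are
quasi-isomorphisms between K-flat complexes -/
theorem goodOn_iff : GoodOn f I V P₁ ↔ GoodOn f I V P₂ := by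
  unfold GoodOn
  -- the map between the resolutions is a quasi-isomorphism over `f⁻¹ V`
  haveI hB := quasiIso_resC_Bf_map f I V u hK₁ hK₂ hu
  have nat := (rho X).naturality ((Bf f I).map u)
  have nat' := congrArg (fun t => (resC (f ⁻¹ᵁ V).ι).map t) nat
  simp only [Functor.map_comp, Functor.id_map] at nat'
  haveI hR : QuasiIso ((resC (f ⁻¹ᵁ V).ι).map ((Rr X).map ((Bf f I).map u))) := by
    haveI : QuasiIso ((resC (f ⁻¹ᵁ V).ι).map ((rho X).app ((Bf f I).obj P₁)) ≫
        (resC (f ⁻¹ᵁ V).ι).map ((Rr X).map ((Bf f I).map u))) := by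
      rw [← nat']; infer_instance
    exact quasiIso_of_comp_left ((resC (f ⁻¹ᵁ V).ι).map ((rho X).app ((Bf f I).obj P₁))) _
  haveI := isKInjective_restrict (f ⁻¹ᵁ V) ((Rr X).obj ((Bf f I).obj P₁))
  haveI := isKInjective_restrict (f ⁻¹ᵁ V) ((Rr X).obj ((Bf f I).obj P₂))
  haveI hP := quasiIso_resC_pushC_map f V ((Rr X).map ((Bf f I).map u))
  haveI hA := quasiIso_resC_tensor_map V u hK₁ hK₂ hu ((pushC f).obj I)
  have sq := congrArg (fun t => (resC V.ι).map t) (Psi_naturality f I u)
  simp only [Functor.map_comp] at sq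
  constructor
  · intro h
    haveI := h
    haveI : QuasiIso ((resC V.ι).map ((DCoh.tensorCx.obj ((pushC f).obj I)).map u) ≫
        (resC V.ι).map (Psi f I P₂)) := by rw [sq]; infer_instance
    exact quasiIso_of_comp_left ((resC V.ι).map ((DCoh.tensorCx.obj ((pushC f).obj I)).map u)) _
  · intro h
    haveI := h
    haveI : QuasiIso ((resC V.ι).map (Psi f I P₁) ≫
        (resC V.ι).map ((pushC f).map ((Rr X).map ((Bf f I).map u)))) := by rw [← sq]; infer_instance
    exact quasiIso_of_comp_right _ ((resC V.ι).map ((pushC f).map ((Rr X).map ((Bf f I).map u))))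

end transfer

end Groth.Agent.Lib.Helper1.PerfProj
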