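import Mathlib
import Groth.Agent.Lib.Helper1BKF15
import Groth.Agent.Lib.Helper1BKF4b
import Groth.Agent.Lib.Helper17KInjD5
set_option backward.isDefEq.respectTransparency.types false

/-!
# helper1: K-injectivity of `W ⊗ F` for `W` K-injective and `F` bounded with "good" terms
-/

set_option autoImplicit false
set_option linter.style.haveILetI false
set_option linter.unusedSectionVars false
set_option maxHeartbeats 400000
universe u
open CategoryTheory CategoryTheory.Limits HomologicalComplex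

namespace Groth.Agent.Lib.Helper1.PerfProj

open Groth.Agent.Lib.Helper1.BKF Groth.Agent.Lib.Helper17.KInj

section kinj

variable {C : Type*} [Category C] [Abelian C]

/-- a complex which is a finite "sum of retracts" of K-injective complexes is K-injective -/
lemma isKInjective_of_retracts {K : CochainComplex C ℤ} {ι : Type*} [Fintype ι]
    (W : ι → CochainComplex C ℤ) [∀ i, (W i).IsKInjective] (s : ∀ i, K ⟶ W i)
    (r : ∀ i, W i ⟶ K) (h : ∑ i, s i ≫ r i = 𝟙 K) : K.IsKInjective := by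
  refine ⟨fun {A} g hA => ⟨HomotopyCategory.homotopyOfEq _ _ ?_⟩⟩
  have hg : g = ∑ i, (g ≫ s i) ≫ r i := by
    simp only [Category.assoc]
    rw [← Preadditive.comp_sum, h, Category.comp_id]
  rw [hg, Functor.map_sum, Functor.map_zero]
  refine Finset.sum_eq_zero (fun i _ => ?_)
  rw [Functor.map_comp, HomotopyCategory.eq_of_homotopy _ 0
    (CochainComplex.IsKInjective.homotopyZero (g ≫ s i) hA), Functor.map_zero, zero_comp]

/-- the zero complex is K-injective -/
lemma isKInjective_of_isZero {K : CochainComplex C ℤ} (hK : IsZero K) : K.IsKInjective :=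
  ⟨fun {A} g _ => ⟨Homotopy.ofEq (hK.eq_of_tgt _ _)⟩⟩

/-- the middle term of a degreewise split short exact sequence with K-injective ends is
K-injective -/
lemma isKInjective_of_degreewise_split (S : ShortComplex (CochainComplex C ℤ))
    (σ : ∀ n, (S.map (eval C (ComplexShape.up ℤ) n)).Splitting)
    [S.X₁.IsKInjective] [S.X₃.IsKInjective] : S.X₂.IsKInjective := by
  haveI : (CochainComplex.mappingCone (CochainComplex.homOfDegreewiseSplit S σ)).IsKInjective :=
    isKInjective_mappingCone _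
  haveI : (S.X₂⟦(1 : ℤ)⟧).IsKInjective :=
    CochainComplex.isKInjective_of_iso (CochainComplex.mappingConeHomOfDegreewiseSplitIso S σ)
  exact (CochainComplex.isKInjective_shift_iff S.X₂ 1).1 inferInstance

end kinj

section tl

variable {C₁ C₂ D : Type*} [Category C₁] [Category C₂] [Category D]
  [Abelian C₁] [Abelian C₂] [Abelian D]
  (F : C₁ ⥤ C₂ ⥤ D) [F.Additive] [∀ X, (F.obj X).Additive]
  [∀ (K₁ : CochainComplex C₁ ℤ) (K₂ : CochainComplex C₂ ℤ),
    HasMapBifunctor K₁ K₂ F (ComplexShape.up ℤ)]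
  (L : CochainComplex C₁ ℤ)

/-- the map on totals induced by a family of maps `X^q ⟶ Y^q` (not necessarily a chain map) -/
noncomputable def tlX {X Y : CochainComplex C₂ ℤ} (φ : ∀ q, X.X q ⟶ Y.X q) (n : ℤ) :
    (mapBifunctor L X F (ComplexShape.up ℤ)).X n ⟶ (mapBifunctor L Y F (ComplexShape.up ℤ)).X n :=
  mapBifunctorDesc (fun p q h => (F.obj (L.X p)).map (φ q) ≫
    ιMapBifunctor L Y F (ComplexShape.up ℤ) p q n h)

@[reassoc]
lemma ι_tlX {X Y : CochainComplex C₂ ℤ} (φ : ∀ q, X.X q ⟶ Y.X q) (p q n : ℤ) (h : p + q = n) :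
    ιMapBifunctor L X F (ComplexShape.up ℤ) p q n h ≫ tlX F L φ n =
      (F.obj (L.X p)).map (φ q) ≫ ιMapBifunctor L Y F (ComplexShape.up ℤ) p q n h := by
  unfold tlX
  exact ι_mapBifunctorDesc _ _ _ _

lemma tlX_comp {X Y Z : CochainComplex C₂ ℤ} (φ : ∀ q, X.X q ⟶ Y.X q) (ψ : ∀ q, Y.X q ⟶ Z.X q)
    (n : ℤ) : tlX F L φ n ≫ tlX F L ψ n = tlX F L (fun q => φ q ≫ ψ q) n := by
  apply mapBifunctor.hom_ext
  intro p q h
  rw [ι_tlX_assoc, ι_tlX, ι_tlX, Functor.map_comp, Category.assoc]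

lemma tlX_id (X : CochainComplex C₂ ℤ) (n : ℤ) :
    tlX F L (fun q => 𝟙 (X.X q)) n = 𝟙 _ := by
  apply mapBifunctor.hom_ext
  intro p q h
  rw [ι_tlX, CategoryTheory.Functor.map_id, Category.id_comp]
  exact (Category.comp_id _).symm

lemma tlX_add {X Y : CochainComplex C₂ ℤ} (φ ψ : ∀ q, X.X q ⟶ Y.X q) (n : ℤ) :
    tlX F L (fun q => φ q + ψ q) n = tlX F L φ n + tlX F L ψ n := by
  apply mapBifunctor.hom_ext
  intro p q h
  rw [ι_tlX, Preadditive.comp_add, ι_tlX, ι_tlX, Functor.map_add, Preadditive.add_comp]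

lemma TL_map_f {X Y : CochainComplex C₂ ℤ} (g : X ⟶ Y) (n : ℤ) :
    ((TL F L).map g).f n = tlX F L (fun q => g.f q) n := by
  apply mapBifunctor.hom_ext
  intro p q h
  exact (ι_TL_map F L g p q n h).trans (ι_tlX F L (fun q => g.f q) p q n h).symm

/-- `Tot(L ⊗ -)` preserves degreewise splittings (explicit form) -/
noncomputable def tlSplitting' (S : ShortComplex (CochainComplex C₂ ℤ))
    (r : ∀ q, S.X₂.X q ⟶ S.X₁.X q) (s : ∀ q, S.X₃.X q ⟶ S.X₂.X q)
    (hfr : ∀ q, S.f.f q ≫ r q = 𝟙 _) (hsg : ∀ q, s q ≫ S.g.f q = 𝟙 _)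
    (hid : ∀ q, r q ≫ S.f.f q + S.g.f q ≫ s q = 𝟙 _) (n : ℤ) :
    ((S.map (TL F L)).map (eval D (ComplexShape.up ℤ) n)).Splitting where
  r := tlX F L r n
  s := tlX F L s n
  f_r := by
    have h1 : ((TL F L).map S.f).f n ≫ tlX F L r n = 𝟙 _ :=
      (congrArg (fun t => t ≫ tlX F L r n) (TL_map_f F L S.f n)).trans
        ((tlX_comp F L _ _ n).trans
          ((congrArg (fun φ => tlX F L φ n) (funext hfr)).trans (tlX_id F L _ n)))
    exact h1
  s_g := by
    have h1 : tlX F L s n ≫ ((TL F L).map S.g).f n = 𝟙 _ :=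
      (congrArg (fun t => tlX F L s n ≫ t) (TL_map_f F L S.g n)).trans
        ((tlX_comp F L _ _ n).trans
          ((congrArg (fun φ => tlX F L φ n) (funext hsg)).trans (tlX_id F L _ n)))
    exact h1
  id := by
    have h1 : (tlX F L r n ≫ ((TL F L).map S.f).f n :
        (mapBifunctor L S.X₂ F (ComplexShape.up ℤ)).X n ⟶
          (mapBifunctor L S.X₂ F (ComplexShape.up ℤ)).X n) =
        tlX F L (fun q => r q ≫ S.f.f q) n :=
      (congrArg (fun t => tlX F L r n ≫ t) (TL_map_f F L S.f n)).trans (tlX_comp F L _ _ n)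
    have h2 : (((TL F L).map S.g).f n ≫ tlX F L s n :
        (mapBifunctor L S.X₂ F (ComplexShape.up ℤ)).X n ⟶
          (mapBifunctor L S.X₂ F (ComplexShape.up ℤ)).X n) =
        tlX F L (fun q => S.g.f q ≫ s q) n :=
      (congrArg (fun t => t ≫ tlX F L s n) (TL_map_f F L S.g n)).trans (tlX_comp F L _ _ n)
    have h3 : tlX F L (fun q => r q ≫ S.f.f q) n + tlX F L (fun q => S.g.f q ≫ s q) n =
        𝟙 _ := by
      rw [← tlX_add]
      exact (congrArg (fun φ => tlX F L φ n) (funext hid)).trans (tlX_id F L _ n)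
    exact (congrArg₂ (fun a b => a + b) h1 h2).trans h3

/-- `Tot(L ⊗ -)` preserves degreewise splittings -/
noncomputable def tlSplitting (S : ShortComplex (CochainComplex C₂ ℤ))
    (σ : ∀ n, (S.map (eval C₂ (ComplexShape.up ℤ) n)).Splitting) (n : ℤ) :
    ((S.map (TL F L)).map (eval D (ComplexShape.up ℤ) n)).Splitting :=
  tlSplitting' F L S (fun q => (σ q).r) (fun q => (σ q).s) (fun q => (σ q).f_r)
    (fun q => (σ q).s_g) (fun q => (σ q).id) n

/-- `Tot(L ⊗ -)` sends degreewise split short exact sequences with K-injective images of the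
ends to K-injective complexes -/
lemma isKInjective_TL_of_degreewise_split (S : ShortComplex (CochainComplex C₂ ℤ))
    (σ : ∀ n, (S.map (eval C₂ (ComplexShape.up ℤ) n)).Splitting)
    (h₁ : ((TL F L).obj S.X₁).IsKInjective) (h₃ : ((TL F L).obj S.X₃).IsKInjective) :
    ((TL F L).obj S.X₂).IsKInjective := by
  haveI : (S.map (TL F L)).X₁.IsKInjective := h₁
  haveI : (S.map (TL F L)).X₃.IsKInjective := h₃
  exact isKInjective_of_degreewise_split (S.map (TL F L)) (tlSplitting F L S σ)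

end tl

section induction

variable {C₂ : Type*} [Category C₂] [Abelian C₂] (K : CochainComplex C₂ ℤ)

/-- the short complex `σ_{≥ m} K ⟶ σ_{≥ m - 1} K ⟶ K^{m-1}[-(m-1)]` -/
noncomputable def sigmaSC (m : ℤ) : ShortComplex (CochainComplex C₂ ℤ) :=
  ShortComplex.mk (sigmaGEMap K (show m - 1 ≤ m by omega)) (cokernel.π _) (cokernel.condition _)

lemma sigmaSC_shortExact (m : ℤ) : (sigmaSC K m).ShortExact :=
  ShortComplex.ShortExact.mk' (ShortComplex.exact_cokernel _)
    (mono_sigmaGEMap K (show m - 1 ≤ m by omega))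
    (inferInstanceAs (Epi (cokernel.π (sigmaGEMap K (show m - 1 ≤ m by omega)))))

lemma sigmaSC_eval_shortExact (m q : ℤ) :
    ((sigmaSC K m).map (eval C₂ (ComplexShape.up ℤ) q)).ShortExact :=
  (sigmaSC_shortExact K m).map_of_exact _

lemma isZero_sigmaSC_X₃_of_le (m q : ℤ) (hq : m ≤ q) : IsZero ((sigmaSC K m).X₃.X q) := by
  have hS := sigmaSC_eval_shortExact K m q
  haveI hf : IsIso ((sigmaSC K m).map (eval C₂ (ComplexShape.up ℤ) q)).f :=
    isIso_sigmaGEMap_f K (show m - 1 ≤ m by omega) hq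
  haveI := hS.epi_g
  have hg : ((sigmaSC K m).map (eval C₂ (ComplexShape.up ℤ) q)).g = 0 := by
    rw [← cancel_epi ((sigmaSC K m).map (eval C₂ (ComplexShape.up ℤ) q)).f, ShortComplex.zero,
      comp_zero]
  exact @IsZero.of_epi_eq_zero C₂ _ _ _ _
    ((sigmaSC K m).map (eval C₂ (ComplexShape.up ℤ) q)).g hS.epi_g hg

lemma isIso_sigmaSC_g_of_lt (m q : ℤ) (hq : q < m) : IsIso ((sigmaSC K m).g.f q) := by
  have hS := sigmaSC_eval_shortExact K m q
  have h1 : IsZero ((sigmaSC K m).map (eval C₂ (ComplexShape.up ℤ) q)).X₁ :=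
    isZero_sigmaGE_X K m hq
  haveI := hS.epi_g
  haveI : Mono ((sigmaSC K m).map (eval C₂ (ComplexShape.up ℤ) q)).g :=
    hS.exact.mono_g (h1.eq_of_src _ _)
  exact isIso_of_mono_of_epi ((sigmaSC K m).map (eval C₂ (ComplexShape.up ℤ) q)).g

lemma nonempty_sigmaSC_splitting (m q : ℤ) :
    Nonempty ((sigmaSC K m).map (eval C₂ (ComplexShape.up ℤ) q)).Splitting := by
  by_cases hq : m ≤ q
  · exact ⟨ShortComplex.Splitting.ofIsIsoOfIsZero _
      (isIso_sigmaGEMap_f K (show m - 1 ≤ m by omega) hq)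
      (isZero_sigmaSC_X₃_of_le K m q hq)⟩
  · exact ⟨ShortComplex.Splitting.ofIsZeroOfIsIso _ (isZero_sigmaGE_X K m (by omega))
      (isIso_sigmaSC_g_of_lt K m q (by omega))⟩

lemma isZero_sigmaSC_X₃ (m q : ℤ) (hq : q ≠ m - 1) : IsZero ((sigmaSC K m).X₃.X q) := by
  by_cases h : m ≤ q
  · exact isZero_sigmaSC_X₃_of_le K m q h
  · have hS := sigmaSC_eval_shortExact K m q
    haveI := hS.epi_g
    have h2 : IsZero ((sigmaSC K m).map (eval C₂ (ComplexShape.up ℤ) q)).X₂ :=
      isZero_sigmaGE_X K (m - 1) (by omega)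
    exact @IsZero.of_epi C₂ _ _ _ _
      ((sigmaSC K m).map (eval C₂ (ComplexShape.up ℤ) q)).g hS.epi_g h2

/-- the non-zero term of the cokernel -/
noncomputable def sigmaSCX₃Iso (m : ℤ) : (sigmaSC K m).X₃.X (m - 1) ≅ K.X (m - 1) :=
  (@asIso _ _ _ _ ((sigmaSC K m).g.f (m - 1))
    (isIso_sigmaSC_g_of_lt K m (m - 1) (by omega))).symm ≪≫
  @asIso _ _ _ _ ((sigmaGEι K (m - 1)).f (m - 1)) (isIso_sigmaGEι_f K (m - 1) (le_refl (m - 1)))

lemma isIso_sigmaGEι (a m : ℤ) (hK : ∀ i, i < a → IsZero (K.X i)) (hm : m ≤ a) :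
    IsIso (sigmaGEι K m) := by
  haveI : ∀ q, IsIso ((sigmaGEι K m).f q) := by
    intro q
    by_cases hq : m ≤ q
    · exact isIso_sigmaGEι_f K m hq
    · exact ⟨0, (isZero_sigmaGE_X K m (by omega)).eq_of_src _ _,
        (hK q (by omega)).eq_of_src _ _⟩
  exact HomologicalComplex.Hom.isIso_of_components _

end induction

section main

variable {C₁ C₂ D : Type*} [Category C₁] [Category C₂] [Category D]
  [Abelian C₁] [Abelian C₂] [Abelian D]
  (F : C₁ ⥤ C₂ ⥤ D) [F.Additive] [∀ X, (F.obj X).Additive]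
  [∀ (K₁ : CochainComplex C₁ ℤ) (K₂ : CochainComplex C₂ ℤ),
    HasMapBifunctor K₁ K₂ F (ComplexShape.up ℤ)]
  (L : CochainComplex C₁ ℤ)

/-- **dévissage**: if `Tot(L ⊗ -)` sends complexes concentrated in a single degree, with term
satisfying `Pr`, to K-injective complexes, then the same holds for bounded complexes with terms
satisfying `Pr`. -/
theorem isKInjective_TL_of_bounded (Pr : C₂ → Prop)
    (hPriso : ∀ {M M' : C₂}, (M ≅ M') → Pr M → Pr M')
    (hconc : ∀ (Pc : CochainComplex C₂ ℤ) (m : ℤ), (∀ q, q ≠ m → IsZero (Pc.X q)) →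
      Pr (Pc.X m) → ((TL F L).obj Pc).IsKInjective)
    (K : CochainComplex C₂ ℤ) (a b : ℤ) (hK : ∀ i, i < a ∨ b < i → IsZero (K.X i))
    (hP : ∀ i, Pr (K.X i)) : ((TL F L).obj K).IsKInjective := by
  have step : ∀ j : ℕ, ((TL F L).obj (sigmaGE K (b + 1 - j))).IsKInjective := by
    intro j
    induction j with
    | zero =>
      exact isKInjective_of_isZero ((TL F L).map_isZero
        (isZero_sigmaGE K _ b (fun q hq => hK q (Or.inr hq)) (by simp)))
    | succ j ih =>
      have hm : b + 1 - ((j + 1 : ℕ) : ℤ) = (b + 1 - j) - 1 := by push_cast; ring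
      rw [hm]
      generalize b + 1 - (j : ℤ) = m at ih ⊢
      exact isKInjective_TL_of_degreewise_split F L (sigmaSC K m)
        (fun q => (nonempty_sigmaSC_splitting K m q).some) ih
        (hconc _ (m - 1) (isZero_sigmaSC_X₃ K m) (hPriso (sigmaSCX₃Iso K m).symm (hP (m - 1))))
  have h1 := step (b + 1 - a).toNat
  haveI := isIso_sigmaGEι K a (b + 1 - ((b + 1 - a).toNat : ℤ)) (fun i hi => hK i (Or.inl hi))
    (by omega)
  haveI := h1
  exact CochainComplex.isKInjective_of_iso ((TL F L).mapIso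
    (asIso (sigmaGEι K (b + 1 - ((b + 1 - a).toNat : ℤ)))))

end main

end Groth.Agent.Lib.Helper1.PerfProj
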