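import Mathlib
import Groth.Agent.Lib.Helper1PerfProjD
import Groth.Agent.Lib.Helper1ClProjD
import Groth.Agent.Lib.Helper1ProjFC
set_option backward.isDefEq.respectTransparency.types false

/-!
# helper1: `W ⊗ F` is K-injective for `W` K-injective and `F` bounded with free terms
-/

set_option autoImplicit false
set_option linter.style.haveILetI false
set_option linter.unusedSectionVars false
set_option maxHeartbeats 400000
universe u
open CategoryTheory CategoryTheory.Limits AlgebraicGeometry HomologicalComplex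

namespace Groth.Agent.Lib.Helper1.PerfProj

open Groth.Agent.Lib.Helper1.PT Groth.Agent.Lib.Helper1.Proj Groth.Agent.Lib.Helper1.BKF
  Groth.Agent.Lib.Helper1.ClProj Groth.Agent.Lib.Helper17.KInj

section unitor

variable {U : Scheme.{u}}

/-- the right unitor `A ⊗ O ⟶ A` -/
noncomputable def run (A : U.Modules) :
    (DCoh.tensorBi.obj A).obj (Coh.structureModule U) ⟶ A :=
  bd A (Coh.structureModule U) ≫ (lun A).hom

instance isIso_run (A : U.Modules) : IsIso (run A) := by
  unfold run; infer_instance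

@[reassoc]
lemma run_naturality {A A' : U.Modules} (g : A ⟶ A') :
    (DCoh.tensorBi.map g).app (Coh.structureModule U) ≫ run A' = run A ≫ g := by
  unfold run
  rw [bd_nat_left_assoc, Category.assoc]
  congr 1
  exact (Groth.Agent.Lib.Helper21.ModTensor7.tLUnitIso U.sheaf).hom.naturality g

end unitor

section single

variable {U : Scheme.{u}} (W : CochainComplex U.Modules ℤ) (M : U.Modules)

/-- `W ⊗ M ⟶ W` induced by `φ : M ⟶ O` -/
noncomputable def sHom (φ : M ⟶ Coh.structureModule U) :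
    (((DCoh.tensorBi (X := U)).flip.obj M).mapHomologicalComplex (ComplexShape.up ℤ)).obj W ⟶ W where
  f n := (DCoh.tensorBi.obj (W.X n)).map φ ≫ run (W.X n)
  comm' n n' _ := by
    show ((DCoh.tensorBi.obj (W.X n)).map φ ≫ run (W.X n)) ≫ W.d n n' =
      (DCoh.tensorBi.map (W.d n n')).app M ≫ ((DCoh.tensorBi.obj (W.X n')).map φ ≫ run (W.X n'))
    have h1 : (DCoh.tensorBi.map (W.d n n')).app M ≫ (DCoh.tensorBi.obj (W.X n')).map φ =
        (DCoh.tensorBi.obj (W.X n)).map φ ≫
          (DCoh.tensorBi.map (W.d n n')).app (Coh.structureModule U) :=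
      ((DCoh.tensorBi.map (W.d n n')).naturality φ).symm
    rw [Category.assoc, ← run_naturality, ← Category.assoc, ← h1, Category.assoc]

/-- `W ⟶ W ⊗ M` induced by `ψ : O ⟶ M` -/
noncomputable def rHom (ψ : Coh.structureModule U ⟶ M) :
    W ⟶ (((DCoh.tensorBi (X := U)).flip.obj M).mapHomologicalComplex (ComplexShape.up ℤ)).obj W where
  f n := inv (run (W.X n)) ≫ (DCoh.tensorBi.obj (W.X n)).map ψ
  comm' n n' _ := by
    show (inv (run (W.X n)) ≫ (DCoh.tensorBi.obj (W.X n)).map ψ) ≫
        (DCoh.tensorBi.map (W.d n n')).app M =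
      W.d n n' ≫ (inv (run (W.X n')) ≫ (DCoh.tensorBi.obj (W.X n')).map ψ)
    have h1 : (DCoh.tensorBi.obj (W.X n)).map ψ ≫ (DCoh.tensorBi.map (W.d n n')).app M =
        (DCoh.tensorBi.map (W.d n n')).app (Coh.structureModule U) ≫
          (DCoh.tensorBi.obj (W.X n')).map ψ :=
      (DCoh.tensorBi.map (W.d n n')).naturality ψ
    rw [Category.assoc, h1, ← Category.assoc, ← Category.assoc]
    congr 1
    rw [IsIso.eq_comp_inv, Category.assoc, run_naturality, IsIso.inv_hom_id_assoc]

lemma sHom_rHom_f (φ : M ⟶ Coh.structureModule U) (ψ : Coh.structureModule U ⟶ M) (n : ℤ) :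
    (sHom W M φ ≫ rHom W M ψ).f n = (DCoh.tensorBi.obj (W.X n)).map (φ ≫ ψ) := by
  rw [HomologicalComplex.comp_f]
  show ((DCoh.tensorBi.obj (W.X n)).map φ ≫ run (W.X n)) ≫
    (inv (run (W.X n)) ≫ (DCoh.tensorBi.obj (W.X n)).map ψ) = _
  rw [Category.assoc, IsIso.hom_inv_id_assoc, Functor.map_comp]

/-- tensoring a K-injective complex with a finite free module gives a K-injective complex -/
lemma isKInjective_mapHC_of_free [W.IsKInjective] (n : ℕ) (e : M ≅ FlatMod.freeMod U n) :
    CochainComplex.IsKInjective ((((DCoh.tensorBi (X := U)).flip.obj M).mapHomologicalComplex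
      (ComplexShape.up ℤ)).obj W) := by
  let φ : Fin n → (M ⟶ Coh.structureModule U) := fun i =>
    e.hom ≫ Sigma.desc (fun j : Fin n => if j = i then 𝟙 (Coh.structureModule U) else 0)
  let ψ : Fin n → (Coh.structureModule U ⟶ M) := fun i =>
    Sigma.ι (fun _ : Fin n => Coh.structureModule U) i ≫ e.inv
  have hsum : ∑ i, φ i ≫ ψ i = 𝟙 M := by
    have h0 := sum_desc_ι (Coh.structureModule U) n
    have h1 : ∀ i, φ i ≫ ψ i = e.hom ≫ (Sigma.desc (fun j : Fin n =>
        if j = i then 𝟙 (Coh.structureModule U) else 0) ≫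
        Sigma.ι (fun _ : Fin n => Coh.structureModule U) i) ≫ e.inv := by
      intro i
      simp only [φ, ψ, Category.assoc]
    simp_rw [h1]
    rw [← Preadditive.comp_sum, ← Preadditive.sum_comp, h0, Category.id_comp]
    exact e.hom_inv_id
  refine isKInjective_of_retracts (fun _ : Fin n => W) (fun i => sHom W M (φ i))
    (fun i => rHom W M (ψ i)) ?_
  refine HomologicalComplex.hom_ext _ _ (fun k => ?_)
  have h2 : (∑ i, sHom W M (φ i) ≫ rHom W M (ψ i)).f k =
      ∑ i, (sHom W M (φ i) ≫ rHom W M (ψ i)).f k :=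
    map_sum (HomologicalComplex.Hom.fAddMonoidHom k) _ _
  rw [h2]
  simp_rw [sHom_rHom_f]
  have h3 : ∑ i, (DCoh.tensorBi.obj (W.X k)).map (φ i ≫ ψ i) =
      𝟙 ((DCoh.tensorBi.obj (W.X k)).obj M) := by
    rw [← Functor.map_sum, hsum, CategoryTheory.Functor.map_id]
  exact h3

end single

section conc

variable {U : Scheme.{u}} (W : CochainComplex U.Modules ℤ) [W.IsKInjective]

/-- finite free modules -/
def IsFreeMod (M : U.Modules) : Prop := ∃ n : ℕ, Nonempty (M ≅ FlatMod.freeMod U n)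

lemma IsFreeMod.of_iso {M M' : U.Modules} (e : M ≅ M') (h : IsFreeMod M) : IsFreeMod M' := by
  obtain ⟨n, ⟨i⟩⟩ := h
  exact ⟨n, ⟨e.symm ≪≫ i⟩⟩

/-- the case of a complex concentrated in degree `0` -/
lemma isKInjective_TL_conc_zero (Pc : CochainComplex U.Modules ℤ)
    (hPc : ∀ q, q ≠ 0 → IsZero (Pc.X q)) (hfree : IsFreeMod (Pc.X 0)) :
    ((TL (DCoh.tensorBi (X := U)) W).obj Pc).IsKInjective := by
  obtain ⟨n, ⟨e⟩⟩ := hfree
  haveI := isKInjective_mapHC_of_free W (Pc.X 0) n e
  let i : (((DCoh.tensorBi (X := U)).flip.obj (Pc.X 0)).mapHomologicalComplex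
      (ComplexShape.up ℤ)).obj W ≅ mapBifunctor W Pc (DCoh.tensorBi (X := U)) (ComplexShape.up ℤ) :=
    HomologicalComplex.Hom.isoOfComponents
      (fun k => BKF.cIso (DCoh.tensorBi (X := U)) W Pc 0 hPc k k (add_zero k))
      (fun k k' h => cι_comm (DCoh.tensorBi (X := U)) W Pc 0 hPc k k k' k' (add_zero k) h h)
  exact CochainComplex.isKInjective_of_iso i

/-- the case of a complex concentrated in a single degree -/
lemma isKInjective_TL_conc (Pc : CochainComplex U.Modules ℤ) (m : ℤ)
    (hPc : ∀ q, q ≠ m → IsZero (Pc.X q)) (hfree : IsFreeMod (Pc.X m)) :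
    ((TL (DCoh.tensorBi (X := U)) W).obj Pc).IsKInjective := by
  have h0 : ((TL (DCoh.tensorBi (X := U)) W).obj (Pc⟦m⟧)).IsKInjective :=
    isKInjective_TL_conc_zero W (Pc⟦m⟧) (fun q hq => hPc (q + m) (by omega))
      (hfree.of_iso (Pc.XIsoOfEq (zero_add m).symm))
  haveI : (CochainComplex.mapBifunctor W (Pc⟦m⟧) (DCoh.tensorBi (X := U))).IsKInjective := h0
  have e1 : Pc ≅ (Pc⟦m⟧)⟦-m⟧ := (shiftEquiv (CochainComplex U.Modules ℤ) m).unitIso.app Pc
  have e2 := CochainComplex.mapBifunctorShift₂Iso W (Pc⟦m⟧) (DCoh.tensorBi (X := U)) (-m)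
  exact CochainComplex.isKInjective_of_iso
    (e2.symm ≪≫ (TL (DCoh.tensorBi (X := U)) W).mapIso e1.symm)

/-- **`W ⊗ F` is K-injective** for `W` K-injective and `F` bounded with finite free terms -/
theorem isKInjective_tensorCx_of_free (F : CochainComplex U.Modules ℤ) (a b : ℤ)
    (hF : ∀ i, i < a ∨ b < i → IsZero (F.X i)) (hfree : ∀ i, IsFreeMod (F.X i)) :
    ((DCoh.tensorCx.obj W).obj F).IsKInjective :=
  isKInjective_TL_of_bounded (DCoh.tensorBi (X := U)) W IsFreeMod (fun e h => h.of_iso e)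
    (fun Pc m hPc h => isKInjective_TL_conc W Pc m hPc h) F a b hF hfree

end conc

end Groth.Agent.Lib.Helper1.PerfProj
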