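import Mathlib
import Groth.Agent.Lib.Helper1PerfProjC
import Groth.Agent.Lib.Helper1PerfProjE
import Groth.Agent.Lib.Helper1Fib3
set_option backward.isDefEq.respectTransparency.types false

/-!
# helper1: the base case of the projection formula (bounded free complexes pushed from an open)
-/

set_option autoImplicit false
set_option linter.style.haveILetI false
set_option linter.unusedSectionVars false
set_option maxHeartbeats 400000
universe u
open CategoryTheory CategoryTheory.Limits AlgebraicGeometry HomologicalComplex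

attribute [local instance] HasDerivedCategory.standard

namespace Groth.Agent.Lib.Helper1.PerfProj

open Groth.Agent.Lib.Helper1.PT Groth.Agent.Lib.Helper1.Proj Groth.Agent.Lib.Helper1.BKF
  Groth.Agent.Lib.Helper1.ClProj Groth.Agent.Lib.Helper1.Sky Groth.Agent.Lib.Helper1.KBC
  Groth.Agent.Lib.Helper1.SPL Groth.Agent.Lib.Helper1.TQ Groth.Agent.Lib.Helper1.Germ
  Groth.Agent.Lib.Helper1.RpushRes Groth.Agent.Lib.Helper17.KInj Groth.Agent.Lib.Helper1.DAdj

section FS

variable {C D E : Type*} [Category C] [Category D] [Category E] [Preadditive C] [Preadditive D]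
  [Preadditive E] (G : C ⥤ D) [G.Additive] (R : E ⥤ D) [R.Additive]
  {ι : Type*} (B : ι → C) (A : ι → E) (c : Cofan B) (hc : IsColimit c) (c' : Cofan A)
  (hc' : IsColimit c') [PreservesColimit (Discrete.functor A) R]
  (t : ∀ i, R.obj (A i) ⟶ G.obj (B i)) (T : R.obj c'.pt ⟶ G.obj c.pt)
  (hT : ∀ i, R.map (c'.inj i) ≫ T = t i ≫ G.map (c.inj i))
  (S : Set ι) (hS : S.Finite) (hB : ∀ i, i ∉ S → IsZero (B i)) (hA : ∀ i, i ∉ S → IsZero (A i))
  (ht : ∀ i ∈ S, IsIso (t i))

include hc hc' hT hS hB hA ht in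
/-- a map between coproducts with finite support, which is compatible with a family of
isomorphisms, is an isomorphism (after applying additive functors) -/
theorem isIso_of_finite_support : IsIso T := by
  classical
  let π : ∀ i, c.pt ⟶ B i := fun i => Cofan.IsColimit.desc hc
    (fun j => if h : j = i then eqToHom (by rw [h]) else 0)
  have hπ : ∀ i j, c.inj j ≫ π i = if h : j = i then eqToHom (by rw [h]) else 0 :=
    fun i j => Cofan.IsColimit.fac hc _ j
  have hπ1 : ∀ i, c.inj i ≫ π i = 𝟙 _ := by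
    intro i
    rw [hπ, dif_pos rfl]
    rfl
  have hπ0 : ∀ i j, j ≠ i → c.inj j ≫ π i = 0 := by
    intro i j hji
    rw [hπ, dif_neg hji]
  have hππ : ∑ i ∈ hS.toFinset, π i ≫ c.inj i = 𝟙 c.pt := by
    refine Cofan.IsColimit.hom_ext hc _ _ (fun j => ?_)
    rw [Preadditive.comp_sum, Category.comp_id]
    by_cases hj : j ∈ S
    · rw [Finset.sum_eq_single j]
      · rw [← Category.assoc, hπ1, Category.id_comp]
      · intro i _ hij
        rw [← Category.assoc, hπ0 i j (Ne.symm hij), zero_comp]
      · intro h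
        exact absurd ((Set.Finite.mem_toFinset hS).2 hj) h
    · exact (hB j hj).eq_of_src _ _
  let tinv : ∀ i, G.obj (B i) ⟶ R.obj (A i) := fun i =>
    if h : i ∈ S then @inv _ _ _ _ (t i) (ht i h) else 0
  have h1 : ∀ i ∈ S, t i ≫ tinv i = 𝟙 _ := by
    intro i hi
    haveI := ht i hi
    simp only [tinv, dif_pos hi, IsIso.hom_inv_id]
  have h2 : ∀ i ∈ S, tinv i ≫ t i = 𝟙 _ := by
    intro i hi
    haveI := ht i hi
    simp only [tinv, dif_pos hi, IsIso.inv_hom_id]
  refine ⟨⟨∑ i ∈ hS.toFinset, G.map (π i) ≫ tinv i ≫ R.map (c'.inj i), ?_, ?_⟩⟩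
  · refine (isColimitOfPreserves R hc').hom_ext (fun ⟨j⟩ => ?_)
    show R.map (c'.inj j) ≫ T ≫ _ = R.map (c'.inj j) ≫ 𝟙 _
    rw [Category.comp_id, ← Category.assoc, hT, Category.assoc, Preadditive.comp_sum,
      Preadditive.comp_sum]
    by_cases hj : j ∈ S
    · rw [Finset.sum_eq_single j]
      · rw [← G.map_comp_assoc, hπ1, G.map_id, Category.id_comp, ← Category.assoc, h1 j hj,
          Category.id_comp]
      · intro i _ hij
        rw [← G.map_comp_assoc, hπ0 i j (Ne.symm hij), G.map_zero, zero_comp, comp_zero]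
      · intro h
        exact absurd ((Set.Finite.mem_toFinset hS).2 hj) h
    · exact (R.map_isZero (hA j hj)).eq_of_src _ _
  · rw [Preadditive.sum_comp]
    have h3 : ∀ i ∈ hS.toFinset, (G.map (π i) ≫ tinv i ≫ R.map (c'.inj i)) ≫ T =
        G.map (π i ≫ c.inj i) := by
      intro i hi
      have hi' : i ∈ S := (Set.Finite.mem_toFinset hS).1 hi
      rw [Category.assoc, Category.assoc, hT, ← Category.assoc (tinv i), h2 i hi',
        Category.id_comp, G.map_comp]
    rw [Finset.sum_congr rfl h3, ← G.map_sum, hππ, G.map_id]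

end FS

section unit

variable {Y : Scheme.{u}} (V : Y.Opens)

instance isIso_counit_app (M : (V : Scheme.{u}).Modules) :
    IsIso ((Scheme.Modules.restrictAdjunction V.ι).counit.app M) :=
  NatIso.isIso_app_of_isIso (Scheme.Modules.restrictAdjunction V.ι).counit M

/-- the counit `(j_* K)|_V ≅ K` on complexes -/
noncomputable def counitC : pushC V.ι ⋙ resC V.ι ≅ 𝟭 (CochainComplex (V : Scheme.{u}).Modules ℤ) :=
  NatIso.ofComponents (fun K => HomologicalComplex.Hom.isoOfComponents
      (fun n => @asIso _ _ _ _ ((Scheme.Modules.restrictAdjunction V.ι).counit.app (K.X n))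
        (isIso_counit_app V (K.X n)))
      (fun n n' _ => ((Scheme.Modules.restrictAdjunction V.ι).counit.naturality (K.d n n')).symm))
    (fun {K K'} φ => by
      refine HomologicalComplex.hom_ext _ _ (fun n => ?_)
      exact (Scheme.Modules.restrictAdjunction V.ι).counit.naturality (φ.f n))

/-- the unit `P ⟶ j_* (P|_V)` on complexes -/
noncomputable def unitC (P : CochainComplex Y.Modules ℤ) :
    P ⟶ (pushC V.ι).obj ((resC V.ι).obj P) where
  f n := (Scheme.Modules.restrictAdjunction V.ι).unit.app (P.X n)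
  comm' n n' _ := ((Scheme.Modules.restrictAdjunction V.ι).unit.naturality (P.d n n')).symm

lemma resC_unitC_counitC (P : CochainComplex Y.Modules ℤ) :
    (resC V.ι).map (unitC V P) ≫ (counitC V).hom.app ((resC V.ι).obj P) = 𝟙 _ := by
  refine HomologicalComplex.hom_ext _ _ (fun n => ?_)
  exact (Scheme.Modules.restrictAdjunction V.ι).left_triangle_components (P.X n)

instance isIso_resC_unitC (P : CochainComplex Y.Modules ℤ) :
    IsIso ((resC V.ι).map (unitC V P)) := by
  have h := resC_unitC_counitC V P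
  have h2 : (resC V.ι).map (unitC V P) = (counitC V).inv.app ((resC V.ι).obj P) := by
    rw [← cancel_mono ((counitC V).hom.app ((resC V.ι).obj P)), h, Iso.inv_hom_id_app]
    rfl
  rw [h2]
  infer_instance

lemma isKFlat_resC_pushC (K : CochainComplex (V : Scheme.{u}).Modules ℤ) (hK : DCoh.IsKFlat K) :
    DCoh.IsKFlat ((resC V.ι).obj ((pushC V.ι).obj K)) :=
  isKFlat_of_iso (O := (V : Scheme.{u}).sheaf) ((counitC V).app K).symm hK

lemma quasiIso_resC_pushC_map' {K K' : CochainComplex (V : Scheme.{u}).Modules ℤ} (t : K ⟶ K')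
    [QuasiIso t] : QuasiIso ((resC V.ι).map ((pushC V.ι).map t)) := by
  have nat := (counitC V).hom.naturality t
  have h : (resC V.ι).map ((pushC V.ι).map t) =
      (counitC V).hom.app K ≫ t ≫ (counitC V).inv.app K' := by
    rw [← Category.assoc]
    exact ((Iso.comp_inv_eq _).2 nat.symm).symm
  rw [h]
  infer_instance

end unit

section tauV

variable {X Y : Scheme.{u}} (f : X ⟶ Y) (V : Y.Opens)

/-- the projection-formula map `f_* A ⊗ j_* N ⟶ f_*(A ⊗ f^* j_* N)` is an isomorphism over `V`
for `N` finite free on `V` -/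
lemma isIso_restrict_tau (A : X.Modules) (N : (V : Scheme.{u}).Modules) (n : ℕ)
    (φ : N ≅ FlatMod.freeMod (V : Scheme.{u}) n) :
    IsIso ((Scheme.Modules.restrictFunctor V.ι).map
      (tau f A ((Scheme.Modules.pushforward V.ι).obj N))) := by
  refine isIso_restrict_map_of_stalk V _ (fun y hy => ?_)
  let E : Y.Modules := (Scheme.Modules.pushforward V.ι).obj N
  let u₂ : FlatMod.freeMod Y n ⟶ E :=
    (Scheme.Modules.restrictAdjunction V.ι).unit.app (FlatMod.freeMod Y n) ≫
      (Scheme.Modules.pushforward V.ι).map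
        (Groth.Agent.Lib.Helper20.LocFree.restrictFreeMod V.ι n ≪≫ φ.symm).hom
  haveI := isIso_th_freeMod f n A
  have hU : V.ι.opensRange = V := Scheme.Opens.opensRange_ι V
  haveI h0 : IsIso ((stalkFun y).map (th f E A)) := by
    refine isIso_stalk_th_of_zigzag f A (𝟙 E) u₂ V ?_ ?_ y hy
    · intro y' _
      rw [CategoryTheory.Functor.map_id]
      infer_instance
    · intro y' hy'
      haveI := isIso_stalk_restrict_unit V.ι (FlatMod.freeMod Y n) y' (hU.symm ▸ hy')
      change IsIso ((stalkFun y').map (_ ≫ _))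
      rw [Functor.map_comp]
      infer_instance
  show IsIso ((stalkFun y).map (tau f A E))
  unfold tau
  rw [Functor.map_comp, Functor.map_comp]
  infer_instance

end tauV

section aprime

variable {X Y : Scheme.{u}} (f : X ⟶ Y) (V : Y.Opens) (I : CochainComplex X.Modules ℤ)
  (S : CochainComplex (V : Scheme.{u}).Modules ℤ) (a b : ℤ)
  (hS : ∀ i, i < a ∨ b < i → IsZero (S.X i)) (hfree : ∀ i, IsFreeMod (S.X i))

include hS hfree in
/-- over `V`, the projection-formula map for `j_* S` is an isomorphism of complexes, for `S`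
bounded with finite free terms -/
theorem isIso_resC_Theta : IsIso ((resC V.ι).map (Theta f I ((pushC V.ι).obj S))) := by
  haveI : ∀ n, IsIso (((resC V.ι).map (Theta f I ((pushC V.ι).obj S))).f n) := by
    intro n
    let P := (pushC V.ι).obj S
    let π := ComplexShape.π (ComplexShape.up ℤ) (ComplexShape.up ℤ) (ComplexShape.up ℤ)
    have hc1 := (B₁' f I P).toGradedObject.isColimitCofanMapObj π n
    have hc4 := (B₄' f I P).toGradedObject.isColimitCofanMapObj π n
    have hP0 : ∀ q, q < a ∨ b < q → IsZero (P.X q) := fun q hq =>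
      (Scheme.Modules.pushforward V.ι).map_isZero (hS q hq)
    refine isIso_of_finite_support (G := psh f ⋙ Scheme.Modules.restrictFunctor V.ι)
      (R := Scheme.Modules.restrictFunctor V.ι)
      (B := fun i : (π ⁻¹' {n}) => (DCoh.tensorBi.obj (I.X i.1.1)).obj ((plb f).obj (P.X i.1.2)))
      (A := fun i : (π ⁻¹' {n}) => (DCoh.tensorBi.obj ((psh f).obj (I.X i.1.1))).obj (P.X i.1.2))
      _ hc1 _ hc4 (fun i => (Scheme.Modules.restrictFunctor V.ι).map (tau f (I.X i.1.1) (P.X i.1.2)))
      _ ?_ {i | a ≤ i.1.2 ∧ i.1.2 ≤ b} ?_ ?_ ?_ ?_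
    · rintro ⟨⟨p, q⟩, h⟩
      have h1 := congrArg (fun t => (Scheme.Modules.restrictFunctor V.ι).map t)
        (ι_Theta f I P p q n h)
      simp only [Functor.map_comp] at h1
      exact h1
    · have hinj : Function.Injective (fun i : (π ⁻¹' {n}) => i.1.2) := by
        rintro ⟨⟨p, q⟩, h⟩ ⟨⟨p', q'⟩, h'⟩ hqq
        have e1 : p + q = n := h
        have e2 : p' + q' = n := h'
        have e3 : q = q' := hqq
        apply Subtype.ext
        apply Prod.ext
        · show p = p'
          omega
        · exact e3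
      exact Set.Finite.preimage (Set.injOn_of_injective hinj) (Set.finite_Icc a b)
    · intro i hi
      have hq : i.1.2 < a ∨ b < i.1.2 := by
        by_contra hcon
        exact hi ⟨by omega, by omega⟩
      exact (DCoh.tensorBi.obj _).map_isZero ((plb f).map_isZero (hP0 _ hq))
    · intro i hi
      have hq : i.1.2 < a ∨ b < i.1.2 := by
        by_contra hcon
        exact hi ⟨by omega, by omega⟩
      exact (DCoh.tensorBi.obj _).map_isZero (hP0 _ hq)
    · intro i _
      obtain ⟨m, ⟨φ⟩⟩ := hfree i.1.2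
      exact isIso_restrict_tau f V (I.X i.1.1) (S.X i.1.2) m φ
  exact HomologicalComplex.Hom.isIso_of_components _

end aprime

section bprime

variable {X Y : Scheme.{u}} (f : X ⟶ Y) (V : Y.Opens) (I : CochainComplex X.Modules ℤ)
  [I.IsKInjective]
  (S : CochainComplex (V : Scheme.{u}).Modules ℤ) (a b : ℤ)
  (hS : ∀ i, i < a ∨ b < i → IsZero (S.X i)) (hfree : ∀ i, IsFreeMod (S.X i))

include hS hfree in
/-- over `f⁻¹ V`, the complex `I ⊗ f^* j_* S` is K-injective, for `I` K-injective and `S` bounded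
with finite free terms -/
theorem isKInjective_resC_Bf :
    ((resC (f ⁻¹ᵁ V).ι).obj ((Bf f I).obj ((pushC V.ι).obj S))).IsKInjective := by
  obtain ⟨t⟩ := nonempty_resC_tensor (f ⁻¹ᵁ V).ι I ((pullC f).obj ((pushC V.ι).obj S))
  haveI : ((resC (f ⁻¹ᵁ V).ι).obj I).IsKInjective := isKInjective_restrict (f ⁻¹ᵁ V) I
  have hF0 : ∀ i, i < a ∨ b < i →
      IsZero (((resC (f ⁻¹ᵁ V).ι).obj ((pullC f).obj ((pushC V.ι).obj S))).X i) := fun i hi =>
    (Scheme.Modules.restrictFunctor (f ⁻¹ᵁ V).ι).map_isZero ((Scheme.Modules.pullback f).map_isZero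
      ((Scheme.Modules.pushforward V.ι).map_isZero (hS i hi)))
  have hFfree : ∀ i,
      IsFreeMod (((resC (f ⁻¹ᵁ V).ι).obj ((pullC f).obj ((pushC V.ι).obj S))).X i) := by
    intro i
    obtain ⟨m, ⟨φ⟩⟩ := hfree i
    exact ⟨m, ⟨(pullResModIso f V).app ((Scheme.Modules.pushforward V.ι).obj (S.X i)) ≪≫
      (Scheme.Modules.pullback (f ∣_ V)).mapIso
        (@asIso _ _ _ _ ((Scheme.Modules.restrictAdjunction V.ι).counit.app (S.X i))
          (isIso_counit_app V (S.X i)) ≪≫ φ) ≪≫
      Groth.Agent.Lib.Helper1.Fib.pullbackFreeModIso (f ∣_ V) m⟩⟩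
  haveI := isKInjective_tensorCx_of_free ((resC (f ⁻¹ᵁ V).ι).obj I) _ a b hF0 hFfree
  exact CochainComplex.isKInjective_of_iso t.symm

include hS hfree in
/-- **the base case**: the projection-formula map is a quasi-isomorphism over `V` for `j_* S`,
`S` bounded with finite free terms -/
theorem goodOn_pushC : GoodOn f I V ((pushC V.ι).obj S) := by
  unfold GoodOn Psi
  rw [Functor.map_comp]
  haveI := isIso_resC_Theta f V I S a b hS hfree
  haveI h1 := isKInjective_resC_Bf f V I S a b hS hfree
  haveI : ((resC (f ⁻¹ᵁ V).ι).obj ((𝟭 (CochainComplex X.Modules ℤ)).obj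
      ((Bf f I).obj ((pushC V.ι).obj S)))).IsKInjective := h1
  haveI := isKInjective_restrict (f ⁻¹ᵁ V) ((Rr X).obj ((Bf f I).obj ((pushC V.ι).obj S)))
  haveI := quasiIso_resC_pushC_map f V ((rho X).app ((Bf f I).obj ((pushC V.ι).obj S)))
  infer_instance

end bprime

end Groth.Agent.Lib.Helper1.PerfProj
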