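import Mathlib
import Groth.Agent.Lib.Helper1PerfProjF
import Groth.Agent.Lib.Helper17MVo1
import Groth.Agent.Lib.Helper16RestrInj
set_option backward.isDefEq.respectTransparency.types false

/-!
# helper1: gluing objects of the derived category on two opens (abstract part and tools)
-/

set_option autoImplicit false
set_option linter.style.haveILetI false
set_option linter.unusedSectionVars false
set_option maxHeartbeats 400000
universe u
open CategoryTheory CategoryTheory.Limits AlgebraicGeometry HomologicalComplex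

attribute [local instance] HasDerivedCategory.standard

namespace Groth.Agent.Lib.Helper1.Glue2

open Groth.Agent.Lib.Helper1.PT Groth.Agent.Lib.Helper1.Proj Groth.Agent.Lib.Helper1.BKF
  Groth.Agent.Lib.Helper1.ClProj Groth.Agent.Lib.Helper1.Sky Groth.Agent.Lib.Helper1.KBC
  Groth.Agent.Lib.Helper1.SPL Groth.Agent.Lib.Helper1.TQ Groth.Agent.Lib.Helper1.Germ
  Groth.Agent.Lib.Helper1.RpushRes Groth.Agent.Lib.Helper17.KInj Groth.Agent.Lib.Helper1.DAdj
  Groth.Agent.Lib.Helper1.PerfProj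

section Tri

open CategoryTheory.Pretriangulated

variable {T T₁ T₂ : Type*} [Category T] [Category T₁] [Category T₂]
  [Preadditive T] [HasZeroObject T] [HasShift T ℤ] [∀ n : ℤ, (shiftFunctor T n).Additive]
  [Pretriangulated T]
  [Preadditive T₁] [HasZeroObject T₁] [HasShift T₁ ℤ] [∀ n : ℤ, (shiftFunctor T₁ n).Additive]
  [Pretriangulated T₁]
  [Preadditive T₂] [HasZeroObject T₂] [HasShift T₂ ℤ] [∀ n : ℤ, (shiftFunctor T₂ n).Additive]
  [Pretriangulated T₂]
  (R₁ : T ⥤ T₁) [R₁.CommShift ℤ] [R₁.IsTriangulated]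
  (R₂ : T ⥤ T₂) [R₂.CommShift ℤ] [R₂.IsTriangulated]

/-- abstract gluing: if `g₂ : Y₂ ⟶ Z` becomes invertible under `R₁` and `g₁ : Y₁ ⟶ Z` becomes
invertible under `R₂`, the fibre `F` of `Y₁ ⊞ Y₂ ⟶ Z` satisfies `R₁ F ≅ R₁ Y₁` and
`R₂ F ≅ R₂ Y₂`. -/
theorem exists_glue {Y₁ Y₂ Z : T} (g₁ : Y₁ ⟶ Z) (g₂ : Y₂ ⟶ Z)
    (h₁ : IsIso (R₁.map g₂)) (h₂ : IsIso (R₂.map g₁)) :
    ∃ F : T, Nonempty (R₁.obj F ≅ R₁.obj Y₁) ∧ Nonempty (R₂.obj F ≅ R₂.obj Y₂) := by
  obtain ⟨F, f, h, hT⟩ := Pretriangulated.distinguished_cocone_triangle₁ (biprod.desc g₁ g₂)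
  have hT₁ := R₁.map_distinguished _ hT
  have hT₂ := R₂.map_distinguished _ hT
  have a11 : R₁.map (biprod.inl : Y₁ ⟶ Y₁ ⊞ Y₂) ≫ R₁.map biprod.fst = 𝟙 _ := by
    rw [← R₁.map_comp, biprod.inl_fst, R₁.map_id]
  have a21 : R₁.map (biprod.inr : Y₂ ⟶ Y₁ ⊞ Y₂) ≫ R₁.map biprod.fst = 0 := by
    rw [← R₁.map_comp, biprod.inr_fst, R₁.map_zero]
  have asum : R₁.map (biprod.fst : Y₁ ⊞ Y₂ ⟶ Y₁) ≫ R₁.map biprod.inl +
      R₁.map (biprod.snd : Y₁ ⊞ Y₂ ⟶ Y₂) ≫ R₁.map biprod.inr = 𝟙 _ := by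
    rw [← R₁.map_comp, ← R₁.map_comp, ← R₁.map_add, biprod.total, R₁.map_id]
  have av : IsIso (R₁.map (biprod.inr : Y₂ ⟶ Y₁ ⊞ Y₂) ≫ R₁.map (biprod.desc g₁ g₂)) := by
    rw [← R₁.map_comp, biprod.inr_desc]
    exact h₁
  have b11 : R₂.map (biprod.inr : Y₂ ⟶ Y₁ ⊞ Y₂) ≫ R₂.map biprod.snd = 𝟙 _ := by
    rw [← R₂.map_comp, biprod.inr_snd, R₂.map_id]
  have b21 : R₂.map (biprod.inl : Y₁ ⟶ Y₁ ⊞ Y₂) ≫ R₂.map biprod.snd = 0 := by
    rw [← R₂.map_comp, biprod.inl_snd, R₂.map_zero]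
  have bsum : R₂.map (biprod.snd : Y₁ ⊞ Y₂ ⟶ Y₂) ≫ R₂.map biprod.inr +
      R₂.map (biprod.fst : Y₁ ⊞ Y₂ ⟶ Y₁) ≫ R₂.map biprod.inl = 𝟙 _ := by
    rw [← R₂.map_comp, ← R₂.map_comp, ← R₂.map_add, add_comm, biprod.total, R₂.map_id]
  have bv : IsIso (R₂.map (biprod.inl : Y₁ ⟶ Y₁ ⊞ Y₂) ≫ R₂.map (biprod.desc g₁ g₂)) := by
    rw [← R₂.map_comp, biprod.inl_desc]
    exact h₂
  refine ⟨F, ⟨?_⟩, ⟨?_⟩⟩
  · haveI : IsIso (R₁.map f ≫ R₁.map (biprod.fst : Y₁ ⊞ Y₂ ⟶ Y₁)) :=
      Groth.Agent.Lib.Helper17.MV1.isIso_comp_fst _ hT₁ (R₁.map biprod.inl)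
        (R₁.map biprod.inr) (R₁.map biprod.fst) (R₁.map biprod.snd) a11 a21 asum av
    exact asIso (R₁.map f ≫ R₁.map (biprod.fst : Y₁ ⊞ Y₂ ⟶ Y₁))
  · haveI : IsIso (R₂.map f ≫ R₂.map (biprod.snd : Y₁ ⊞ Y₂ ⟶ Y₂)) :=
      Groth.Agent.Lib.Helper17.MV1.isIso_comp_fst _ hT₂ (R₂.map biprod.inr)
        (R₂.map biprod.inl) (R₂.map biprod.snd) (R₂.map biprod.fst) b11 b21 bsum bv
    exact asIso (R₂.map f ≫ R₂.map (biprod.snd : Y₁ ⊞ Y₂ ⟶ Y₂))

end Tri

section KInjRestrict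

variable {X : Scheme.{u}}

/-- restriction along an isomorphism preserves K-injective complexes -/
theorem isKInjective_resC_of_isIso {U : Scheme.{u}} (e : U ⟶ X) [IsIso e]
    (I : CochainComplex X.Modules ℤ) [I.IsKInjective] : ((resC e).obj I).IsKInjective := by
  let η : 𝟭 X.Modules ≅ Scheme.Modules.restrictFunctor e ⋙ Scheme.Modules.restrictFunctor (inv e) :=
    (Scheme.Modules.restrictFunctorId (X := X)).symm ≪≫
      Scheme.Modules.restrictFunctorCongr (IsIso.inv_hom_id e).symm ≪≫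
      Scheme.Modules.restrictFunctorComp (inv e) e
  let ε : Scheme.Modules.restrictFunctor (inv e) ⋙ Scheme.Modules.restrictFunctor e ≅ 𝟭 U.Modules :=
    (Scheme.Modules.restrictFunctorComp e (inv e)).symm ≪≫
      Scheme.Modules.restrictFunctorCongr (IsIso.hom_inv_id e) ≪≫
      Scheme.Modules.restrictFunctorId (X := U)
  let E : X.Modules ≌ U.Modules := CategoryTheory.Equivalence.mk (Scheme.Modules.restrictFunctor e)
    (Scheme.Modules.restrictFunctor (inv e)) η ε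
  have adj : Scheme.Modules.restrictFunctor (inv e) ⊣ Scheme.Modules.restrictFunctor e :=
    E.symm.toAdjunction
  exact Groth.Agent.Lib.Helper16.RestrInj.isKInjective_map_of_adjunction adj I

/-- restriction along an arbitrary open immersion preserves K-injective complexes -/
theorem isKInjective_resC {U : Scheme.{u}} (j : U ⟶ X) [IsOpenImmersion j]
    (I : CochainComplex X.Modules ℤ) [I.IsKInjective] : ((resC j).obj I).IsKInjective := by
  haveI := isKInjective_restrict j.opensRange I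
  haveI := isKInjective_resC_of_isIso j.isoOpensRange.hom ((resC j.opensRange.ι).obj I)
  have h : j.isoOpensRange.hom ≫ j.opensRange.ι = j := Scheme.Hom.isoOpensRange_hom_ι j
  have e1 : (resC j).obj I ≅ (resC (j.isoOpensRange.hom ≫ j.opensRange.ι)).obj I :=
    HomologicalComplex.Hom.isoOfComponents
      (fun i => (Scheme.Modules.restrictFunctorCongr h.symm).app (I.X i))
      (fun i k _ => ((Scheme.Modules.restrictFunctorCongr h.symm).hom.naturality (I.d i k)).symm)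
  have e : (resC j).obj I ≅ (resC j.isoOpensRange.hom).obj ((resC j.opensRange.ι).obj I) :=
    e1 ≪≫ (resCComp j.isoOpensRange.hom j.opensRange.ι).app I
  exact CochainComplex.isKInjective_of_iso e.symm

end KInjRestrict

section unit

variable {X : Scheme.{u}}

/-- the unit `P ⟶ j_* (P|_U)` on complexes, for an arbitrary open immersion -/
noncomputable def unitCj {U : Scheme.{u}} (j : U ⟶ X) [IsOpenImmersion j]
    (P : CochainComplex X.Modules ℤ) : P ⟶ (pushC j).obj ((resC j).obj P) where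
  f n := (Scheme.Modules.restrictAdjunction j).unit.app (P.X n)
  comm' n n' _ := ((Scheme.Modules.restrictAdjunction j).unit.naturality (P.d n n')).symm

/-- the unit of an open immersion `j : W ⟶ V'`, pushed forward along `f : V' ⟶ X`, is an
isomorphism over any open `U` of `X` whose preimage lies in the range of `j` -/
theorem isIso_restrict_push_unit {V' W : Scheme.{u}} (f : V' ⟶ X) (j : W ⟶ V') [IsOpenImmersion j]
    (U : X.Opens) (hU : f ⁻¹ᵁ U ≤ j.opensRange) (M : V'.Modules) :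
    IsIso ((Scheme.Modules.restrictFunctor U.ι).map
      ((Scheme.Modules.pushforward f).map ((Scheme.Modules.restrictAdjunction j).unit.app M))) := by
  refine isIso_restrict_map_of_stalk U _ (fun y hy => ?_)
  exact isIso_stalk_psh_map f _ U (fun x hx => isIso_stalk_restrict_unit j M x (hU hx)) y hy

theorem isIso_resC_pushC_unitCj {V' W : Scheme.{u}} (f : V' ⟶ X) (j : W ⟶ V') [IsOpenImmersion j]
    (U : X.Opens) (hU : f ⁻¹ᵁ U ≤ j.opensRange) (P : CochainComplex V'.Modules ℤ) :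
    IsIso ((resC U.ι).map ((pushC f).map (unitCj j P))) := by
  haveI : ∀ n, IsIso (((resC U.ι).map ((pushC f).map (unitCj j P))).f n) := fun n =>
    isIso_restrict_push_unit f j U hU (P.X n)
  exact HomologicalComplex.Hom.isIso_of_components _

end unit

end Groth.Agent.Lib.Helper1.Glue2
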