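import Mathlib
import Groth.Agent.Lib.Helper1Glue2A
import Groth.Agent.Lib.Helper1RpushRes
import Groth.Agent.Lib.Helper17QCPush1
set_option backward.isDefEq.respectTransparency.types false

/-!
# helper1: `Rf_*` commutes with restriction along a cartesian square of open immersions
(through isomorphisms with open subschemes)
-/

set_option autoImplicit false
set_option linter.style.haveILetI false
set_option linter.unusedSectionVars false
set_option maxHeartbeats 400000
universe u
open CategoryTheory CategoryTheory.Limits AlgebraicGeometry HomologicalComplex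

attribute [local instance] HasDerivedCategory.standard

namespace Groth.Agent.Lib.Helper1.FinPush

open Groth.Agent.Lib.Helper1.SPL Groth.Agent.Lib.Helper1.RpushRes Groth.Agent.Lib.Helper17.KInj
  Groth.Agent.Lib.Helper1.Glue2

section iso

variable {X X' : Scheme.{u}} (e : X' ⟶ X) [IsIso e]

/-- restriction along an isomorphism is an equivalence -/
noncomputable def resEquiv : X.Modules ≌ X'.Modules :=
  CategoryTheory.Equivalence.mk (Scheme.Modules.restrictFunctor e)
    (Scheme.Modules.restrictFunctor (inv e))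
    ((Scheme.Modules.restrictFunctorId (X := X)).symm ≪≫
      Scheme.Modules.restrictFunctorCongr (IsIso.inv_hom_id e).symm ≪≫
      Scheme.Modules.restrictFunctorComp (inv e) e)
    ((Scheme.Modules.restrictFunctorComp e (inv e)).symm ≪≫
      Scheme.Modules.restrictFunctorCongr (IsIso.hom_inv_id e) ≪≫
      Scheme.Modules.restrictFunctorId (X := X'))

/-- restriction along an isomorphism is pushforward along the inverse -/
noncomputable def restrictIsoPush :
    Scheme.Modules.restrictFunctor e ≅ Scheme.Modules.pushforward (inv e) :=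
  Adjunction.rightAdjointUniq
    (show Scheme.Modules.restrictFunctor (inv e) ⊣ Scheme.Modules.restrictFunctor e from
      (resEquiv e).symm.toAdjunction)
    (Scheme.Modules.restrictAdjunction (inv e))

end iso

section theta

variable {X Y : Scheme.{u}} (f : X ⟶ Y) (V : Y.Opens) {V' W' : Scheme.{u}}
  (eV : V' ⟶ (V : Scheme.{u})) (eW : W' ⟶ ((f ⁻¹ᵁ V : X.Opens) : Scheme.{u})) [IsIso eV] [IsIso eW]
  (g : W' ⟶ V') (hsq : g ≫ eV = eW ≫ (f ∣_ V))

/-- base change of the pushforward along isomorphisms -/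
noncomputable def thetaIso :
    Scheme.Modules.pushforward (f ∣_ V) ⋙ Scheme.Modules.restrictFunctor eV ≅
      Scheme.Modules.restrictFunctor eW ⋙ Scheme.Modules.pushforward g :=
  Functor.isoWhiskerLeft _ (restrictIsoPush eV) ≪≫
    Scheme.Modules.pushforwardComp (f ∣_ V) (inv eV) ≪≫
    Scheme.Modules.pushforwardCongr (show (f ∣_ V) ≫ inv eV = inv eW ≫ g by
      rw [IsIso.comp_inv_eq, Category.assoc, hsq, IsIso.inv_hom_id_assoc]) ≪≫
    (Scheme.Modules.pushforwardComp (inv eW) g).symm ≪≫
    Functor.isoWhiskerRight (restrictIsoPush eW).symm _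

/-- base change of the pushforward along open immersions factoring through isomorphisms with
open subschemes -/
noncomputable def thetaTot :
    Scheme.Modules.pushforward f ⋙ Scheme.Modules.restrictFunctor (eV ≫ V.ι) ≅
      Scheme.Modules.restrictFunctor (eW ≫ (f ⁻¹ᵁ V).ι) ⋙ Scheme.Modules.pushforward g :=
  Functor.isoWhiskerLeft _ (Scheme.Modules.restrictFunctorComp eV V.ι) ≪≫
    (Functor.associator _ _ _).symm ≪≫
    Functor.isoWhiskerRight (pushRestrictIso f V) _ ≪≫
    Functor.associator _ _ _ ≪≫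
    Functor.isoWhiskerLeft _ (thetaIso f V eV eW g hsq) ≪≫
    (Functor.associator _ _ _).symm ≪≫
    Functor.isoWhiskerRight (Scheme.Modules.restrictFunctorComp eW (f ⁻¹ᵁ V).ι).symm _

end theta

section main

variable {X Y X' Y' : Scheme.{u}} (f : X ⟶ Y) (g : X' ⟶ Y') (j : Y' ⟶ Y) (j' : X' ⟶ X)
  [IsOpenImmersion j] [IsOpenImmersion j']

/-- a base change isomorphism for the pushforward of modules along open immersions whose source
restriction preserves K-injectives gives a base change isomorphism for `Rf_*` -/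
theorem nonempty_rpush_restrict_iso_of_theta
    (θ : Scheme.Modules.pushforward f ⋙ Scheme.Modules.restrictFunctor j ≅
      Scheme.Modules.restrictFunctor j' ⋙ Scheme.Modules.pushforward g)
    [DCoh.HasRpush f] [DCoh.HasRpush g] :
    Nonempty (DCoh.Rpush f ⋙ DCoh.restrictD j ≅ DCoh.restrictD j' ⋙ DCoh.Rpush g) := by
  haveI : IsGrothendieckAbelian.{u} X.Modules :=
    Groth.Agent.Lib.Helper21.ModTensor3.isGrothendieckAbelian (O := X.sheaf)
  haveI : IsGrothendieckAbelian.{u} X'.Modules :=
    Groth.Agent.Lib.Helper21.ModTensor3.isGrothendieckAbelian (O := X'.sheaf)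
  exact nonempty_iso (Scheme.Modules.pushforward f) (Scheme.Modules.pushforward g)
    (Scheme.Modules.restrictFunctor j) (Scheme.Modules.restrictFunctor j')
    θ (DCoh.Rpush f)
    (unitOfK (Scheme.Modules.pushforward f) (DCoh.Rpush f)
      ((DCoh.pushKh f).totalRightDerivedUnit DerivedCategory.Qh
        (HomotopyCategory.quasiIso X.Modules (ComplexShape.up ℤ))))
    (DCoh.Rpush g)
    (unitOfK (Scheme.Modules.pushforward g) (DCoh.Rpush g)
      ((DCoh.pushKh g).totalRightDerivedUnit DerivedCategory.Qh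
        (HomotopyCategory.quasiIso X'.Modules (ComplexShape.up ℤ))))
    (fun I hI => isKInjective_resC j' I)

end main

section affine

variable {X Y : Scheme.{u}} (f : X ⟶ Y) {V : Y.Opens} (hV : IsAffineOpen V)
  (hW : IsAffineOpen (f ⁻¹ᵁ V))

/-- `(Rf_* E)|_{Spec Γ(Y, V)} ≅ R(Spec φ)_* (E|_{Spec Γ(X, f⁻¹V)})` for `V` and `f⁻¹ V` affine -/
theorem nonempty_rpush_fromSpec_iso [DCoh.HasRpush f]
    [DCoh.HasRpush (Spec.map (f.appLE V (f ⁻¹ᵁ V) le_rfl))] :
    Nonempty (DCoh.Rpush f ⋙ DCoh.restrictD hV.fromSpec ≅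
      DCoh.restrictD hW.fromSpec ⋙ DCoh.Rpush (Spec.map (f.appLE V (f ⁻¹ᵁ V) le_rfl))) := by
  have hsq : Spec.map (f.appLE V (f ⁻¹ᵁ V) le_rfl) ≫ hV.isoSpec.inv =
      hW.isoSpec.inv ≫ (f ∣_ V) := by
    rw [← cancel_mono V.ι, Category.assoc, Category.assoc, morphismRestrict_ι,
      hV.isoSpec_inv_ι, ← Category.assoc, hW.isoSpec_inv_ι]
    exact IsAffineOpen.SpecMap_appLE_fromSpec f hV hW le_rfl
  exact nonempty_rpush_restrict_iso_of_theta f (Spec.map (f.appLE V (f ⁻¹ᵁ V) le_rfl))
    hV.fromSpec hW.fromSpec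
    (thetaTot f V hV.isoSpec.inv hW.isoSpec.inv (Spec.map (f.appLE V (f ⁻¹ᵁ V) le_rfl)) hsq)

end affine

end Groth.Agent.Lib.Helper1.FinPush
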