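import Mathlib
import Groth.Agent.Lib.Helper1FinPushA
import Groth.Agent.Lib.Helper1ChartInd5
import Groth.Agent.Lib.Helper1ExtVan
import Groth.Agent.Lib.Helper17TildeD4
import Groth.Agent.Lib.Helper17TildePush3
import Groth.Agent.S9498
import Groth.Agent.S1004
import Groth.Agent.S6940
import Groth.Agent.S2066
import Groth.Agent.Lib.Helper1PC
import Groth.Agent.Lib.Helper23Serre
set_option backward.isDefEq.respectTransparency.types false

/-!
# helper1: pseudo-coherence and finite pushforward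
-/

set_option autoImplicit false
set_option linter.style.haveILetI false
set_option linter.unusedSectionVars false
set_option maxHeartbeats 400000
universe u
open CategoryTheory CategoryTheory.Limits AlgebraicGeometry HomologicalComplex

attribute [local instance] HasDerivedCategory.standard

namespace Groth.Agent.Lib.Helper1.FinPush

open Groth.Agent.Lib.Helper1.SPL Groth.Agent.Lib.Helper1.RpushRes Groth.Agent.Lib.Helper17.KInj
  Groth.Agent.Lib.Helper1.Glue2 Groth.Agent.Lib.Helper1.ChartInd Groth.Agent.Lib.Helper1.ExtVan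

instance preservesFiniteLimits_tilde (R : CommRingCat.{u}) :
    PreservesFiniteLimits (tilde.functor R) := (Groth.Agent.S9498.aux R).1

section key

variable {X Y : Scheme.{u}} (f : X ⟶ Y) [DCoh.HasRpush f] {V : Y.Opens} (hV : IsAffineOpen V)
  (hW : IsAffineOpen (f ⁻¹ᵁ V))

/-- the affine-local form of `Rf_* E`, for `E|_{f⁻¹ V} ≅ M~` -/
theorem nonempty_iso1 (E : DCoh.D X)
    (M : DerivedCategory (ModuleCat.{u} Γ(X, f ⁻¹ᵁ V)))
    (c : (DCoh.tildeD Γ(X, f ⁻¹ᵁ V)).obj M ≅ (resD hW.fromSpec).obj E) :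
    Nonempty ((resD hV.fromSpec).obj ((DCoh.Rpush f).obj E) ≅
      (DCoh.tildeD Γ(Y, V)).obj ((ModuleCat.restrictScalars.{u}
        (f.appLE V (f ⁻¹ᵁ V) le_rfl).hom).mapDerivedCategory.obj M)) := by
  haveI : DCoh.HasRpush (Spec.map (f.appLE V (f ⁻¹ᵁ V) le_rfl)) :=
    Groth.Agent.Lib.Helper17.QCPush.hasRpush _
  obtain ⟨b1⟩ := nonempty_rpush_fromSpec_iso f hV hW
  obtain ⟨b2⟩ := Groth.Agent.Lib.Helper17.TildePush.nonempty_tildeD_rpush_iso'
    (f.appLE V (f ⁻¹ᵁ V) le_rfl)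
  exact ⟨b1.app E ≪≫ (DCoh.Rpush (Spec.map (f.appLE V (f ⁻¹ᵁ V) le_rfl))).mapIso c.symm ≪≫
    b2.app M⟩

/-- the algebra structure on `Γ(X, f⁻¹ V)` over `Γ(Y, V)` -/
noncomputable abbrev algφ (V : Y.Opens) : Algebra Γ(Y, V) Γ(X, f ⁻¹ᵁ V) :=
  (f.appLE V (f ⁻¹ᵁ V) le_rfl).hom.toAlgebra

/-- the affine-local equivalence -/
theorem key_iff (E : DCoh.D X)
    (M : DerivedCategory (ModuleCat.{u} Γ(X, f ⁻¹ᵁ V)))
    (c : (DCoh.tildeD Γ(X, f ⁻¹ᵁ V)).obj M ≅ (resD hW.fromSpec).obj E)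
    (hB : @DRing.IsPseudoCoherentModule' Γ(Y, V) _ Γ(X, f ⁻¹ᵁ V) _
      (@Algebra.toModule _ _ _ _ (algφ f V))) (m : ℤ) :
    DCoh.IsPseudoCoherentD m ((resD hW.fromSpec).obj E) ↔
      DCoh.IsPseudoCoherentD m ((resD hV.fromSpec).obj ((DCoh.Rpush f).obj E)) := by
  letI := algφ f V
  obtain ⟨i1⟩ := nonempty_iso1 f hV hW E M c
  have s1 := Groth.Agent.S1004.result Γ(X, f ⁻¹ᵁ V) M m
  have s2 := (Groth.Agent.S6940.result hB M m).1
  have s3 := Groth.Agent.S1004.result Γ(Y, V)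
    ((DRing.restrictD (algebraMap Γ(Y, V) Γ(X, f ⁻¹ᵁ V))).obj M) m
  constructor
  · intro h
    have h1 := isPseudoCoherentD_of_iso c.symm h
    have h2 := s1.1 h1
    have h3 := s2.1 h2
    have h4 := s3.2 h3
    exact isPseudoCoherentD_of_iso i1.symm h4
  · intro h
    have h4 := isPseudoCoherentD_of_iso i1 h
    have h3 := s3.1 h4
    have h2 := s2.2 h3
    have h1 := s1.2 h2
    exact isPseudoCoherentD_of_iso c h1

lemma isQuasicoherent_of_isZero {Z : Scheme.{u}} (M : Z.Modules) (h : IsZero M) :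
    M.IsQuasicoherent := by
  haveI : (Coh.structureModule Z).IsQuasicoherent :=
    Groth.Agent.Lib.Helper23.Serre.isQuasicoherent_structureModule' Z
  have h1 := Groth.Agent.Lib.Helper23.QCohLocal.isQuasicoherent_kernel (𝟙 (Coh.structureModule Z))
  have h2 : IsZero (kernel (𝟙 (Coh.structureModule Z))) := by
    rw [IsZero.iff_id_eq_zero, ← cancel_mono (kernel.ι (𝟙 (Coh.structureModule Z))), zero_comp,
      Category.id_comp]
    have := kernel.condition (𝟙 (Coh.structureModule Z))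
    rwa [Category.comp_id] at this
  exact (SheafOfModules.isQuasicoherent Z.ringCatSheaf).prop_of_iso (h2.iso h) h1

/-- `f_* O_X [0] ≅ Rf_* (O_X[0])` for `f` affine -/
theorem nonempty_inD_push_iso [IsAffineHom f] :
    Nonempty (DCoh.inD Y ((Scheme.Modules.pushforward f).obj (Coh.structureModule X)) ≅
      (DCoh.Rpush f).obj (DCoh.inD X (Coh.structureModule X))) := by
  haveI : (Coh.structureModule X).IsQuasicoherent :=
    Groth.Agent.Lib.Helper23.Serre.isQuasicoherent_structureModule' X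
  haveI := Groth.Agent.Lib.Helper17.AffPush.isIso_rpushUnit_app f
    ((HomologicalComplex.single X.Modules (ComplexShape.up ℤ) 0).obj (Coh.structureModule X))
    (fun n => by
      by_cases hn : n = 0
      · subst hn
        exact (SheafOfModules.isQuasicoherent X.ringCatSheaf).prop_of_iso
          (HomologicalComplex.singleObjXSelf (ComplexShape.up ℤ) 0 (Coh.structureModule X)).symm
          inferInstance
      · exact isQuasicoherent_of_isZero _
          (HomologicalComplex.isZero_single_obj_X (ComplexShape.up ℤ) 0 _ n hn))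
  exact ⟨(DerivedCategory.singleFunctorIsoCompQ Y.Modules 0).app _ ≪≫
    DerivedCategory.Q.mapIso ((HomologicalComplex.singleMapHomologicalComplex
      (Scheme.Modules.pushforward f) (ComplexShape.up ℤ) 0).app (Coh.structureModule X)).symm ≪≫
    asIso ((Groth.Agent.Lib.Helper17.AffPush.rpushUnit f).app
      ((HomologicalComplex.single X.Modules (ComplexShape.up ℤ) 0).obj (Coh.structureModule X))) ≪≫
    (DCoh.Rpush f).mapIso
      ((DerivedCategory.singleFunctorIsoCompQ X.Modules 0).app (Coh.structureModule X)).symm⟩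

/-- the structure sheaf of `Spec S` as a tilde, in the derived category -/
noncomputable def c₀ :
    (DCoh.tildeD Γ(X, f ⁻¹ᵁ V)).obj (Dual.inD Γ(X, f ⁻¹ᵁ V) Γ(X, f ⁻¹ᵁ V)) ≅
      (resD hW.fromSpec).obj (DCoh.inD X (Coh.structureModule X)) :=
  ((tilde.functor Γ(X, f ⁻¹ᵁ V)).mapDerivedCategorySingleFunctor 0).app
      (ModuleCat.of Γ(X, f ⁻¹ᵁ V) Γ(X, f ⁻¹ᵁ V)) ≪≫
    (DerivedCategory.singleFunctor (Spec Γ(X, f ⁻¹ᵁ V)).Modules 0).mapIso
      ((Scheme.Modules.restrictUnitIso hW.fromSpec).symm) ≪≫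
    (resDSingleIso hW.fromSpec (Coh.structureModule X)).symm

include hV hW in
/-- `Γ(X, f⁻¹ V)` is a pseudo-coherent `Γ(Y, V)`-module when `f_* O_X` is pseudo-coherent -/
theorem isPseudoCoherentModule'_of_hO [IsAffineHom f]
    (hO : ∀ m : ℤ, DCoh.IsPseudoCoherentD m
      (DCoh.inD Y ((Scheme.Modules.pushforward f).obj (Coh.structureModule X)))) :
    @DRing.IsPseudoCoherentModule' Γ(Y, V) _ Γ(X, f ⁻¹ᵁ V) _
      (@Algebra.toModule _ _ _ _ (algφ f V)) := by
  letI := algφ f V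
  obtain ⟨a⟩ := nonempty_inD_push_iso f
  obtain ⟨i1⟩ := nonempty_iso1 f hV hW (DCoh.inD X (Coh.structureModule X)) _ (c₀ f hW)
  have h1 : ∀ m : ℤ, DRing.IsPseudoCoherent Γ(Y, V) m
      ((DRing.restrictD (algebraMap Γ(Y, V) Γ(X, f ⁻¹ᵁ V))).obj
        (Dual.inD Γ(X, f ⁻¹ᵁ V) Γ(X, f ⁻¹ᵁ V))) := by
    intro m
    have h2 := isPseudoCoherentD_of_iso i1
      (isPseudoCoherentD_resD m hV.fromSpec _ (isPseudoCoherentD_of_iso a (hO m)))
    exact (Groth.Agent.S1004.result Γ(Y, V) _ m).1 h2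
  have e : (DRing.restrictD (algebraMap Γ(Y, V) Γ(X, f ⁻¹ᵁ V))).obj
      (Dual.inD Γ(X, f ⁻¹ᵁ V) Γ(X, f ⁻¹ᵁ V)) ≅ Dual.inD Γ(Y, V) Γ(X, f ⁻¹ᵁ V) :=
    ((ModuleCat.restrictScalars.{u}
      (algebraMap Γ(Y, V) Γ(X, f ⁻¹ᵁ V))).mapDerivedCategorySingleFunctor 0).app
        (ModuleCat.of Γ(X, f ⁻¹ᵁ V) Γ(X, f ⁻¹ᵁ V))
  exact (Groth.Agent.S2066.result _).1.1 (fun m => Groth.Agent.Lib.Helper1.PC.isPC_of_iso e (h1 m))

end key

section main

variable {X Y : Scheme.{u}} (f : X ⟶ Y) [IsAffineHom f] [DCoh.HasRpush f]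

/-- **S1112**: for an affine morphism `f` with `f_* O_X` pseudo-coherent and `E ∈ D_QCoh(X)`,
`E` is `m`-pseudo-coherent iff `Rf_* E` is -/
theorem isPseudoCoherentD_rpush_iff
    (hO : ∀ m : ℤ, DCoh.IsPseudoCoherentD m
      (DCoh.inD Y ((Scheme.Modules.pushforward f).obj (Coh.structureModule X))))
    (E : DCoh.D X) (hE : DCoh.IsQCohD E) (m : ℤ) :
    DCoh.IsPseudoCoherentD m E ↔ DCoh.IsPseudoCoherentD m ((DCoh.Rpush f).obj E) := by
  have key : ∀ (V : Y.Opens) (hV : IsAffineOpen V),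
      DCoh.IsPseudoCoherentD m ((resD (hV.preimage f).fromSpec).obj E) ↔
        DCoh.IsPseudoCoherentD m ((resD hV.fromSpec).obj ((DCoh.Rpush f).obj E)) := by
    intro V hV
    have hW := hV.preimage f
    obtain ⟨RG, adj, -, h2⟩ := Groth.Agent.Lib.Helper17.TildeD.tildeD_main Γ(X, f ⁻¹ᵁ V)
    have hEW : DCoh.IsQCohD ((resD hW.fromSpec).obj E) := isQCohD_restrictD hW.fromSpec E hE
    haveI := h2 _ hEW
    exact key_iff f hV hW E (RG.obj _) (asIso (adj.counit.app _))
      (isPseudoCoherentModule'_of_hO f hV hW hO) m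
  constructor
  · intro h
    rw [isPseudoCoherentD_iff_hasPresM]
    intro y
    obtain ⟨V, hVaff, hyV, -⟩ := TopologicalSpace.Opens.isBasis_iff_nbhd.1 Y.isBasis_affineOpens
      (show y ∈ (⊤ : Y.Opens) from trivial)
    have hy' : y ∈ Set.range hVaff.fromSpec.base := by
      rw [hVaff.range_fromSpec]; exact hyV
    obtain ⟨y', rfl⟩ := hy'
    apply hasPresM_of_resD hVaff.fromSpec m _ y'
    have h1 := (key V hVaff).1 (isPseudoCoherentD_resD m _ E h)
    exact (isPseudoCoherentD_iff_hasPresM m _).1 h1 y'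
  · intro h
    rw [isPseudoCoherentD_iff_hasPresM]
    intro x
    obtain ⟨V, hVaff, hyV, -⟩ := TopologicalSpace.Opens.isBasis_iff_nbhd.1 Y.isBasis_affineOpens
      (show f x ∈ (⊤ : Y.Opens) from trivial)
    have hW := hVaff.preimage f
    have hx' : x ∈ Set.range hW.fromSpec.base := by
      rw [hW.range_fromSpec]; exact hyV
    obtain ⟨x', rfl⟩ := hx'
    apply hasPresM_of_resD hW.fromSpec m _ x'
    have h1 := (key V hVaff).2 (isPseudoCoherentD_resD m _ _ h)
    exact (isPseudoCoherentD_iff_hasPresM m _).1 h1 x'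

end main

end Groth.Agent.Lib.Helper1.FinPush
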