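import Mathlib
import Groth.Agent.Lib.Helper1CohTens
import Groth.Agent.Lib.Helper1ChartInd5
import Groth.Agent.Lib.Helper27FibreStalk
import Groth.Agent.Lib.Helper17LpullQC
import Groth.Agent.Lib.Helper1Sky9
import Groth.Agent.Lib.Helper1FlatPull
import Groth.Agent.S0910
import Groth.Agent.S0959
import Groth.Agent.Lib.Helper1FinPushB
set_option backward.isDefEq.respectTransparency.types false

/-!
# helper1: coherence of local hypertor sheaves (pseudo-coherent form of `Helper1CohTens`)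
-/

set_option autoImplicit false
set_option linter.style.haveILetI false
set_option linter.unusedSectionVars false
set_option maxHeartbeats 400000
universe u
open CategoryTheory CategoryTheory.Limits AlgebraicGeometry HomologicalComplex

attribute [local instance] HasDerivedCategory.standard

namespace Groth.Agent.Lib.Helper1.CohTens

open Groth.Agent.Lib.Helper1.BKF Groth.Agent.Lib.Helper1.TQ Groth.Agent.Lib.Helper1.SPL
  Groth.Agent.Lib.Helper21.ModTensor3 Groth.Agent.Lib.Helper21.ModTensor5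
  Groth.Agent.Lib.Helper1.KF Groth.Agent.Lib.Helper1.KBC Groth.Agent.Lib.Helper1.TensQC
  Groth.Agent.Lib.Helper1.TildePC Groth.Agent.Lib.Helper1.PCTower Groth.Agent.Lib.Helper1.FLF
  Groth.Agent.Lib.Helper1.KoszulPerf Groth.Agent.S7017 Groth.Agent.Lib.Helper1.ChartInd
  Groth.Agent.Helper18Strict Groth.Agent.Lib.Helper2.LocFree Groth.Agent.Lib.Helper23.FinType

section affine

variable (R : CommRingCat.{u})

/-- on an affine scheme, a pseudo-coherent object with quasi-coherent cohomology is represented by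
the tilde of a bounded above complex of finite free modules -/
theorem exists_tilde_rep_pc (E : DCoh.D (Spec (CommRingCat.of R))) (hq : DCoh.IsQCohD E)
    (hpc : ∀ m : ℤ, DCoh.IsPseudoCoherentD m E) :
    ∃ (a : ℤ) (Y : CochainComplex (ModuleCat.{u} R) ℤ), (∀ i : ℤ, a < i → IsZero (Y.X i)) ∧
      (∀ i : ℤ, FF (Y.X i)) ∧ Nonempty (E ≅ DerivedCategory.Q.obj ((TC R).obj Y)) := by
  haveI := (Groth.Agent.S9498.aux R).1
  obtain ⟨RG, adj, -, h2⟩ := Groth.Agent.Lib.Helper17.TildeD.tildeD_main R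
  haveI := h2 E hq
  let M : DerivedCategory (ModuleCat.{u} R) := RG.obj E
  let e0 : (DCoh.tildeD R).obj M ≅ E := asIso (adj.counit.app E)
  have hMpc' : ∀ m : ℤ, DCoh.IsPseudoCoherentD m ((tildeD' R).obj M) := fun m =>
    isPseudoCoherentD_of_iso e0.symm (hpc m)
  have hMpc : ∀ m : ℤ, DRing.IsPseudoCoherent R m M := fun m =>
    (isPseudoCoherentD_tildeD'_iff (A := R) M m).1 (hMpc' m)
  obtain ⟨a, hMle⟩ := exists_isLE_of_isPseudoCoherentD (A := R) M 0 (hMpc' 0)
  let K' := (DerivedCategory.Q (C := ModuleCat.{u} R)).objPreimage M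
  let eK : DerivedCategory.Q.obj K' ≅ M := DerivedCategory.Q.objObjPreimageIso M
  have hle' : (DerivedCategory.Q.obj K').IsLE a :=
    (DerivedCategory.TStructure.t).isLE_of_iso eK.symm _
  obtain ⟨Y, hY0, hYff, ⟨eY⟩⟩ := exists_bddAbove_ff K' a hle'
    (fun m => Groth.Agent.Lib.Helper1.PC.isPC_of_iso eK.symm (hMpc m))
  refine ⟨a, Y, hY0, hYff, ⟨?_⟩⟩
  exact e0.symm ≪≫ (DCoh.tildeD R).mapIso (eK.symm ≪≫ eY.symm) ≪≫
    (tilde.functor R).mapDerivedCategoryFactors.app Y

/-- the affine case, pseudo-coherent form -/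
theorem ft_LTensorCx_affine_pc [IsLocallyNoetherian (Spec (CommRingCat.of R))]
    (F : CochainComplex (Spec (CommRingCat.of R)).Modules ℤ)
    (hFq : DCoh.IsQCohD (DerivedCategory.Q.obj F))
    (hFpc : ∀ m : ℤ, DCoh.IsPseudoCoherentD m (DerivedCategory.Q.obj F)) [DCoh.HasLTensorCx F]
    (E : DCoh.D (Spec (CommRingCat.of R))) (hEq : DCoh.IsQCohD E)
    (hEpc : ∀ m : ℤ, DCoh.IsPseudoCoherentD m E) (n : ℤ) :
    SheafOfModules.IsFiniteType (R := (Spec (CommRingCat.of R)).ringCatSheaf)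
        (DCoh.HD ((DCoh.LTensorCx F).obj E) n) := by
  obtain ⟨a, Y, hY0, hYff, ⟨eE⟩⟩ := exists_tilde_rep_pc R E hEq hEpc
  obtain ⟨b, N, hN0, hNff, ⟨eF⟩⟩ := exists_tilde_rep_pc R (DerivedCategory.Q.obj F) hFq hFpc
  have hYflat : ∀ q, Module.Flat R (Y.X q) := fun q => by
    have := (hYff q).1
    have := (hYff q).2
    infer_instance
  have hP : DCoh.IsKFlat ((TC R).obj Y) :=
    isKFlat_tilde R Y (fun M hM => kflat_of_boundedAbove_flat Y a hY0 hYflat M hM)
  haveI hI1 : ModSite.HasLTensorCx (O := (Spec (CommRingCat.of R)).sheaf) F :=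
    (inferInstance : DCoh.HasLTensorCx F)
  have i1 : (DCoh.LTensorCx F).obj E ≅
      DerivedCategory.Q.obj ((DCoh.tensorCx.obj ((TC R).obj Y)).obj F) :=
    (DCoh.LTensorCx F).mapIso eE ≪≫
      lTensorCxIsoOfIsKFlat (O := (Spec (CommRingCat.of R)).sheaf) F _ hP
  obtain ⟨i2⟩ := nonempty_Q_tensor_iso_right ((TC R).obj Y) F ((TC R).obj N) hP eF
  set T := (DCoh.tensorCx.obj ((TC R).obj Y)).obj ((TC R).obj N) with hT
  have hterms := tensorCx_TC_terms R Y N a b hY0 hYff hN0 hNff
  let e : DCoh.HD ((DCoh.LTensorCx F).obj E) n ≅ T.homology n :=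
    (DerivedCategory.homologyFunctor _ n).mapIso (i1 ≪≫ i2) ≪≫
      (DerivedCategory.homologyFunctorFactors (Spec (CommRingCat.of R)).Modules n).app T
  have hq : ∀ i, (T.X i).IsQuasicoherent := fun i =>
    isQCoh_of_isFP _ (isFP_of_isFinLocFree _ (hterms i).1)
  have hft : ∀ i, SheafOfModules.IsFiniteType (R := (Spec (CommRingCat.of R)).ringCatSheaf)
      (T.X i) := fun i => isFT_of_isFP _ (isFP_of_isFinLocFree _ (hterms i).1)
  haveI := isFiniteType_homology T hq hft n
  exact Groth.Agent.Lib.Helper23.FinType.isFiniteType_of_iso e.symm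

end affine

section global

variable {X : Scheme.{u}}

open Groth.Agent.Lib.Helper1.ExtVan in
/-- on a locally Noetherian scheme, the derived tensor product of two pseudo-coherent objects with
quasi-coherent cohomology has coherent cohomology -/
theorem isCohD_LTensorCx_of_pc [IsLocallyNoetherian X] (F : CochainComplex X.Modules ℤ)
    (hFq : DCoh.IsQCohD (DerivedCategory.Q.obj F))
    (hFpc : ∀ m : ℤ, DCoh.IsPseudoCoherentD m (DerivedCategory.Q.obj F)) [DCoh.HasLTensorCx F]
    (E : DCoh.D X) (hEq : DCoh.IsQCohD E) (hEpc : ∀ m : ℤ, DCoh.IsPseudoCoherentD m E) :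
    DCoh.IsCohD ((DCoh.LTensorCx F).obj E) := by
  have hqc : DCoh.IsQCohD ((DCoh.LTensorCx F).obj E) := isQCohD_LTensorCx F hFq E hEq
  -- a K-flat representative of `E`
  obtain ⟨P, q, hP, -, hq, -⟩ := exists_kflat_flat_resolution (O := X.sheaf)
    ((DerivedCategory.Q (C := X.Modules)).objPreimage E)
  haveI : QuasiIso q := hq
  have hP' : DCoh.IsKFlat P := hP
  haveI : IsIso (DerivedCategory.Q.map q) := by
    rw [DerivedCategory.isIso_Q_map_iff_quasiIso]; exact hq
  have eE : E ≅ DerivedCategory.Q.obj P :=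
    ((DerivedCategory.Q (C := X.Modules)).objObjPreimageIso E).symm ≪≫
      (asIso (DerivedCategory.Q.map q)).symm
  haveI hI1 : ModSite.HasLTensorCx (O := X.sheaf) F := (inferInstance : DCoh.HasLTensorCx F)
  have i1 : (DCoh.LTensorCx F).obj E ≅ DerivedCategory.Q.obj ((DCoh.tensorCx.obj P).obj F) :=
    (DCoh.LTensorCx F).mapIso eE ≪≫ lTensorCxIsoOfIsKFlat (O := X.sheaf) F P hP
  intro n
  refine ⟨hqc n, ?_⟩
  haveI : (DCoh.HD ((DCoh.LTensorCx F).obj E) n).IsQuasicoherent := hqc n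
  rw [isFiniteType_iff_forall_affine]
  intro V hV
  haveI : IsLocallyNoetherian (Spec Γ(X, V)) :=
    isLocallyNoetherian_of_isOpenImmersion hV.fromSpec
  obtain ⟨t⟩ := nonempty_resC_tensor hV.fromSpec P F
  haveI : DCoh.HasLTensorCx ((resC hV.fromSpec).obj F) := hasLTensorCx _
  haveI hI2 : ModSite.HasLTensorCx (O := (Spec Γ(X, V)).sheaf) ((resC hV.fromSpec).obj F) :=
    hasLTensorCx _
  have hPr : DCoh.IsKFlat ((resC hV.fromSpec).obj P) := isKFlat_resC hV.fromSpec P hP'
  have i2 : (DCoh.LTensorCx ((resC hV.fromSpec).obj F)).obj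
      (DerivedCategory.Q.obj ((resC hV.fromSpec).obj P)) ≅
      DerivedCategory.Q.obj ((DCoh.tensorCx.obj ((resC hV.fromSpec).obj P)).obj
        ((resC hV.fromSpec).obj F)) :=
    lTensorCxIsoOfIsKFlat (O := (Spec Γ(X, V)).sheaf) _ _ hPr
  let eF' : (DCoh.restrictD hV.fromSpec).obj (DerivedCategory.Q.obj F) ≅
      DerivedCategory.Q.obj ((resC hV.fromSpec).obj F) :=
    (Scheme.Modules.restrictFunctor hV.fromSpec).mapDerivedCategoryFactors.app F
  let eP' : (DCoh.restrictD hV.fromSpec).obj (DerivedCategory.Q.obj P) ≅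
      DerivedCategory.Q.obj ((resC hV.fromSpec).obj P) :=
    (Scheme.Modules.restrictFunctor hV.fromSpec).mapDerivedCategoryFactors.app P
  have hFq' : DCoh.IsQCohD (DerivedCategory.Q.obj ((resC hV.fromSpec).obj F)) :=
    isQCohD_of_iso eF' (isQCohD_restrictD hV.fromSpec _ hFq)
  have hEq' : DCoh.IsQCohD (DerivedCategory.Q.obj ((resC hV.fromSpec).obj P)) :=
    isQCohD_of_iso eP' (isQCohD_restrictD hV.fromSpec _ (isQCohD_of_iso eE hEq))
  have hFpc' : ∀ m : ℤ, DCoh.IsPseudoCoherentD m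
      (DerivedCategory.Q.obj ((resC hV.fromSpec).obj F)) := fun m =>
    isPseudoCoherentD_of_iso eF' (isPseudoCoherentD_resD m hV.fromSpec _ (hFpc m))
  have hEpc' : ∀ m : ℤ, DCoh.IsPseudoCoherentD m
      (DerivedCategory.Q.obj ((resC hV.fromSpec).obj P)) := fun m =>
    isPseudoCoherentD_of_iso eP' (isPseudoCoherentD_resD m hV.fromSpec _
      (isPseudoCoherentD_of_iso eE (hEpc m)))
  have k1 := ft_LTensorCx_affine_pc Γ(X, V) ((resC hV.fromSpec).obj F) hFq' hFpc'
    (DerivedCategory.Q.obj ((resC hV.fromSpec).obj P)) hEq' hEpc' n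
  let e3 : (DCoh.LTensorCx ((resC hV.fromSpec).obj F)).obj
      (DerivedCategory.Q.obj ((resC hV.fromSpec).obj P)) ≅
      (DCoh.restrictD hV.fromSpec).obj ((DCoh.LTensorCx F).obj E) :=
    i2 ≪≫ DerivedCategory.Q.mapIso t.symm ≪≫
      ((Scheme.Modules.restrictFunctor hV.fromSpec).mapDerivedCategoryFactors.app _).symm ≪≫
      (DCoh.restrictD hV.fromSpec).mapIso i1.symm
  let e4 : DCoh.HD ((DCoh.LTensorCx ((resC hV.fromSpec).obj F)).obj
      (DerivedCategory.Q.obj ((resC hV.fromSpec).obj P))) n ≅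
      (DCoh.HD ((DCoh.LTensorCx F).obj E) n).restrict hV.fromSpec :=
    (DerivedCategory.homologyFunctor _ n).mapIso e3 ≪≫
      HDRestrictIso hV.fromSpec ((DCoh.LTensorCx F).obj E) n
  haveI := k1
  haveI : SheafOfModules.IsFiniteType (R := (Spec Γ(X, V)).ringCatSheaf)
      ((DCoh.HD ((DCoh.LTensorCx F).obj E) n).restrict hV.fromSpec) := isFiniteType_of_iso e4
  have h1 := finite_of_isFiniteType
    ((DCoh.HD ((DCoh.LTensorCx F).obj E) n).restrict hV.fromSpec) (isAffineOpen_top _)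
  rw [finite_restrict_iff] at h1
  have himg : hV.fromSpec ''ᵁ ⊤ = V := by
    rw [Scheme.Hom.image_top_eq_opensRange, hV.opensRange_fromSpec]
  exact (finite_iff_of_eq _ himg).1 h1

end global

section htor

variable {X Y S : Scheme.{u}}

/-- for flat `h`, the cohomology sheaves of the termwise pullback are the pullbacks of the cohomology
sheaves -/
lemma nonempty_HD_pullCx_iso {Z : Scheme.{u}} (h : Z ⟶ Y) [Flat h] (K : CochainComplex Y.Modules ℤ)
    (i : ℤ) :
    Nonempty (DCoh.HD (DerivedCategory.Q.obj ((HTor.pullCx h).obj K)) i ≅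
      (Scheme.Modules.pullback h).obj (DCoh.HD (DerivedCategory.Q.obj K) i)) := by
  haveI := Groth.Agent.Lib.Helper1.FlatPull.preservesFiniteLimits_pullback_of_flat h
  haveI : PreservesFiniteColimits (Scheme.Modules.pullback h) := inferInstance
  exact ⟨(DerivedCategory.homologyFunctorFactors _ i).app _ ≪≫
    (K.sc i).mapHomologyIso (Scheme.Modules.pullback h) ≪≫
    (Scheme.Modules.pullback h).mapIso ((DerivedCategory.homologyFunctorFactors _ i).app K).symm⟩

/-- coherence of the local hypertor sheaves: general form -/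
theorem isCohD_htor (f : X ⟶ S) (g : Y ⟶ S) [Flat f] [IsLocallyNoetherian X]
    [IsLocallyNoetherian (pullback f g)] (E : DCoh.D X) (hEq : DCoh.IsQCohD E)
    (hEpc : ∀ m : ℤ, DCoh.IsPseudoCoherentD m E)
    (Q : CochainComplex Y.Modules ℤ) (bQ : ℤ) (hbQ : ∀ i : ℤ, bQ < i → IsZero (Q.X i))
    (hQ : DCoh.IsCohD (DCoh.toD Y Q)) [DCoh.HasLpull (pullback.fst f g)]
    [DCoh.HasLTensorCx ((HTor.pullCx (pullback.snd f g)).obj Q)] :
    DCoh.IsCohD ((DCoh.LTensorCx ((HTor.pullCx (pullback.snd f g)).obj Q)).obj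
      ((DCoh.Lpull (pullback.fst f g)).obj E)) := by
  haveI : Flat (pullback.snd f g) := inferInstance
  set F := (HTor.pullCx (pullback.snd f g)).obj Q with hF
  have hcoh : DCoh.IsCohD (DerivedCategory.Q.obj F) := fun i => by
    obtain ⟨e⟩ := nonempty_HD_pullCx_iso (pullback.snd f g) Q i
    obtain ⟨hq, hft⟩ := Groth.Agent.Lib.Helper27FibreStalk.isCoh_pullback (pullback.snd f g) _ (hQ i)
    haveI := hft
    exact ⟨(SheafOfModules.isQuasicoherent (pullback f g).ringCatSheaf).prop_of_iso e.symm hq,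
      isFiniteType_of_iso e.symm⟩
  haveI : F.IsStrictlyLE bQ := by
    rw [CochainComplex.isStrictlyLE_iff]
    intro i hi
    exact (Scheme.Modules.pullback (pullback.snd f g)).map_isZero (hbQ i hi)
  haveI : (DerivedCategory.Q.obj F).IsLE bQ := inferInstance
  have hFpc : ∀ m : ℤ, DCoh.IsPseudoCoherentD m (DerivedCategory.Q.obj F) := fun m =>
    isPseudoCoherentD_of_coherent_homology (DerivedCategory.Q.obj F) m bQ (fun i _ => hcoh i)
  exact isCohD_LTensorCx_of_pc F (fun i => (hcoh i).1) hFpc _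
    (Groth.Agent.Lib.Helper17.LpullQC.isQCohD_lpull _ E hEq)
    (fun m => Groth.Agent.S0910.result _ m E (hEpc m))

/-- the zero module is coherent -/
lemma isCoh_of_isZero_any (M : Y.Modules) (h : IsZero M) : Coh.IsCoh M := by
  haveI : M.IsQuasicoherent := Groth.Agent.Lib.Helper1.FinPush.isQuasicoherent_of_isZero M h
  refine ⟨inferInstance, ?_⟩
  rw [isFiniteType_iff_forall_affine]
  intro U hU
  haveI : Subsingleton Γ(M, U) := ⟨fun a b => by
    rw [Groth.Agent.Lib.Helper23.ModLocal.eq_zero_of_isZero h U a,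
      Groth.Agent.Lib.Helper23.ModLocal.eq_zero_of_isZero h U b]⟩
  infer_instance

/-- a coherent module placed in degree zero has coherent cohomology -/
lemma isCohD_inD (G : Y.Modules) (hG : Coh.IsCoh G) : DCoh.IsCohD (DCoh.inD Y G) := by
  intro i
  by_cases hi : i = 0
  · subst hi
    let e : DCoh.HD (DCoh.inD Y G) 0 ≅ G :=
      (DerivedCategory.singleFunctorCompHomologyFunctorIso Y.Modules 0).app G
    obtain ⟨hq, hft⟩ := hG
    haveI := hft
    exact ⟨(SheafOfModules.isQuasicoherent Y.ringCatSheaf).prop_of_iso e.symm hq,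
      isFiniteType_of_iso e.symm⟩
  · apply isCoh_of_isZero_any
    rcases lt_or_gt_of_ne hi with h | h
    · exact DerivedCategory.isZero_of_isGE (DCoh.inD Y G) 0 i h
    · exact DerivedCategory.isZero_of_isLE (DCoh.inD Y G) 0 i h

end htor

end Groth.Agent.Lib.Helper1.CohTens
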