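import Mathlib
import Groth.Agent.Lib.Helper1PCTower
import Groth.Agent.S6965

set_option autoImplicit false
universe u
open CategoryTheory CategoryTheory.Limits
attribute [local instance] HasDerivedCategory.standard

namespace Groth.Agent.Lib.Helper1.Compact

section Modules

variable {R : Type u} [CommRing R] {J : Type u} [SmallCategory J] [IsFiltered J]
  (F : J ⥤ ModuleCat.{u} R) (c : Cocone F) (hc : IsColimit c)

include hc in
/-- lifting finitely many elements to a common stage -/
lemma exists_lift_family {ι : Type*} (s : Finset ι) (x : ι → c.pt) :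
    ∃ (k : J) (y : ι → F.obj k), ∀ i ∈ s, (c.ι.app k).hom (y i) = x i := by
  classical
  induction s using Finset.induction_on with
  | empty =>
    obtain ⟨k⟩ := IsFiltered.nonempty (C := J)
    exact ⟨k, fun _ => 0, fun i hi => by simp at hi⟩
  | insert a s ha ih =>
    obtain ⟨k, y, hy⟩ := ih
    obtain ⟨k', z, hz⟩ := Concrete.isColimit_exists_rep F hc (x a)
    let k'' := IsFiltered.max k k'
    refine ⟨k'', fun i => if i = a then (F.map (IsFiltered.rightToMax k k')).hom z
      else (F.map (IsFiltered.leftToMax k k')).hom (y i), fun i hi => ?_⟩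
    by_cases hia : i = a
    · subst hia
      simp only [if_true]
      have := c.w (IsFiltered.rightToMax k k')
      rw [← hz, ← this]
      rfl
    · simp only [hia, if_false]
      have hi' : i ∈ s := by
        rcases Finset.mem_insert.1 hi with h | h
        · exact absurd h hia
        · exact h
      have := c.w (IsFiltered.leftToMax k k')
      rw [← hy i hi', ← this]
      rfl

include hc in
/-- killing finitely many elements at a common later stage -/
lemma exists_kill_family {ι : Type*} (s : Finset ι) (k : J) (y : ι → F.obj k)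
    (h : ∀ i ∈ s, (c.ι.app k).hom (y i) = 0) :
    ∃ (k' : J) (f : k ⟶ k'), ∀ i ∈ s, (F.map f).hom (y i) = 0 := by
  classical
  induction s using Finset.induction_on with
  | empty => exact ⟨k, 𝟙 k, fun i hi => by simp at hi⟩
  | insert a s ha ih =>
    obtain ⟨k', f, hf⟩ := ih (fun i hi => h i (Finset.mem_insert_of_mem hi))
    have h0 : (c.ι.app k').hom ((F.map f).hom (y a)) = (c.ι.app k').hom 0 := by
      rw [map_zero, ← h a (Finset.mem_insert_self a s), ← c.w f]
      rfl
    obtain ⟨k'', g₁, g₂, hg⟩ := Concrete.isColimit_exists_of_rep_eq F hc _ _ h0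
    refine ⟨k'', f ≫ g₁, fun i hi => ?_⟩
    rcases Finset.mem_insert.1 hi with rfl | hi'
    · rw [F.map_comp]
      have : (F.map g₁).hom ((F.map f).hom (y i)) = (F.map g₂).hom 0 := hg
      rw [map_zero] at this
      exact this
    · rw [F.map_comp]
      show (F.map g₁).hom ((F.map f).hom (y i)) = 0
      rw [hf i hi', map_zero]

include hc in
/-- maps from a finite free module to a filtered colimit factor through a stage -/
lemma exists_factor (P : ModuleCat.{u} R) [Module.Finite R P] [Module.Free R P]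
    (g : P ⟶ c.pt) : ∃ (k : J) (g' : P ⟶ F.obj k), g' ≫ c.ι.app k = g := by
  let b := Module.Free.chooseBasis R P
  obtain ⟨k, y, hy⟩ := exists_lift_family F c hc Finset.univ (fun i => g.hom (b i))
  refine ⟨k, ModuleCat.ofHom (b.constr R y), ?_⟩
  apply ModuleCat.hom_ext
  apply b.ext
  intro i
  show (c.ι.app k).hom (b.constr R y (b i)) = g.hom (b i)
  rw [Module.Basis.constr_basis]
  exact hy i (Finset.mem_univ i)

include hc in
/-- maps from a finite free module to a stage which vanish in the colimit vanish at a later stage -/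
lemma exists_kill (P : ModuleCat.{u} R) [Module.Finite R P] [Module.Free R P] (k : J)
    (g : P ⟶ F.obj k) (h : g ≫ c.ι.app k = 0) : ∃ (k' : J) (f : k ⟶ k'), g ≫ F.map f = 0 := by
  let b := Module.Free.chooseBasis R P
  obtain ⟨k', f, hf⟩ := exists_kill_family F c hc Finset.univ k (fun i => g.hom (b i))
    (fun i _ => by
      have := congrArg (fun φ => φ.hom (b i)) h
      exact this)
  refine ⟨k', f, ?_⟩
  apply ModuleCat.hom_ext
  apply b.ext
  intro i
  exact hf i (Finset.mem_univ i)


end Modules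

open DerivedCategory HomologicalComplex Groth.Agent.Lib.Helper1.Cone Groth.Agent.S7017

variable {R : Type u} [CommRing R]

/-- the single complex -/
noncomputable abbrev Sg (j : ℤ) (N : ModuleCat.{u} R) : DRing.Cx R :=
  (HomologicalComplex.single (ModuleCat.{u} R) (ComplexShape.up ℤ) j).obj N

/-- the chain map associated with a cocycle -/
noncomputable def toSingle (E : DRing.Cx R) (j : ℤ) {N : ModuleCat.{u} R} (g : E.X j ⟶ N)
    (hg : E.d (j - 1) j ≫ g = 0) : E ⟶ Sg j N :=
  HomologicalComplex.mkHomToSingle g (by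
    intro i hi
    have : i = j - 1 := by simp at hi; lia
    subst this
    exact hg)

lemma toSingle_f (E : DRing.Cx R) (j : ℤ) {N : ModuleCat.{u} R} (g : E.X j ⟶ N)
    (hg : E.d (j - 1) j ≫ g = 0) :
    (toSingle E j g hg).f j = g ≫ (singleObjXSelf (ComplexShape.up ℤ) j N).inv :=
  HomologicalComplex.mkHomToSingle_f _ _

lemma toSingle_comp (E : DRing.Cx R) (j : ℤ) {N N' : ModuleCat.{u} R} (g : E.X j ⟶ N)
    (hg : E.d (j - 1) j ≫ g = 0) (φ : N ⟶ N') :
    toSingle E j g hg ≫ (HomologicalComplex.single (ModuleCat.{u} R) (ComplexShape.up ℤ) j).map φ =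
      toSingle E j (g ≫ φ) (by rw [← Category.assoc, hg, zero_comp]) := by
  apply HomologicalComplex.to_single_hom_ext
  rw [HomologicalComplex.comp_f, toSingle_f, toSingle_f, HomologicalComplex.single_map_f_self]
  simp

lemma exists_toSingle (E : DRing.Cx R) (j : ℤ) (N : ModuleCat.{u} R) (f : E ⟶ Sg j N) :
    ∃ (g : E.X j ⟶ N) (hg : E.d (j - 1) j ≫ g = 0), f = toSingle E j g hg := by
  refine ⟨f.f j ≫ (singleObjXSelf (ComplexShape.up ℤ) j N).hom, ?_, ?_⟩
  · rw [← Category.assoc, ← f.comm (j - 1) j, HomologicalComplex.single_obj_d, comp_zero, zero_comp]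
  · apply HomologicalComplex.to_single_hom_ext
    rw [toSingle_f, Category.assoc, Iso.hom_inv_id, Category.comp_id]

/-- every map in `D(R)` from a K-projective complex to a single is a cocycle -/
lemma exists_cocycle (E : DRing.Cx R) [E.IsKProjective] (j : ℤ) (N : ModuleCat.{u} R)
    (x : Q.obj E ⟶ Q.obj (Sg j N)) :
    ∃ (g : E.X j ⟶ N) (hg : E.d (j - 1) j ≫ g = 0), x = Q.map (toSingle E j g hg) := by
  obtain ⟨f, rfl⟩ := exists_chain_map E (Sg j N) x
  obtain ⟨g, hg, rfl⟩ := exists_toSingle E j N f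
  exact ⟨g, hg, rfl⟩

/-- the null-homotopy of a coboundary -/
noncomputable def homotopyOfCoboundary (E : DRing.Cx R) (j : ℤ) {N : ModuleCat.{u} R}
    (h : E.X (j + 1) ⟶ N) :
    Homotopy (toSingle E j (E.d j (j + 1) ≫ h) (by rw [← Category.assoc, E.d_comp_d, zero_comp])) 0 where
  hom i k := if hik : i = j + 1 ∧ k = j then
      eqToHom (by rw [hik.1]) ≫ h ≫ (singleObjXSelf (ComplexShape.up ℤ) j N).inv ≫
        eqToHom (by rw [hik.2])
    else 0
  zero i k hik := by
    rw [dif_neg]
    rintro ⟨rfl, rfl⟩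
    exact hik rfl
  comm i := by
    by_cases hi : i = j
    · subst hi
      rw [dNext_eq _ (show (ComplexShape.up ℤ).Rel i (i + 1) from rfl),
        prevD_eq _ (show (ComplexShape.up ℤ).Rel (i - 1) i by simp)]
      rw [dif_pos ⟨rfl, rfl⟩, dif_neg (by rintro ⟨h1, _⟩; lia)]
      simp [toSingle_f]
    · apply (HomologicalComplex.isZero_single_obj_X (ComplexShape.up ℤ) j N i hi).eq_of_tgt

lemma Q_map_toSingle_eq_zero_of_coboundary (E : DRing.Cx R) (j : ℤ) {N : ModuleCat.{u} R}
    (g : E.X j ⟶ N) (hg : E.d (j - 1) j ≫ g = 0) (h : E.X (j + 1) ⟶ N)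
    (hh : g = E.d j (j + 1) ≫ h) : Q.map (toSingle E j g hg) = 0 := by
  subst hh
  rw [DerivedCategory.Q_map_eq_of_homotopy _ (homotopyOfCoboundary E j h), Functor.map_zero]

lemma exists_coboundary (E : DRing.Cx R) [E.IsKProjective] (j : ℤ) {N : ModuleCat.{u} R}
    (g : E.X j ⟶ N) (hg : E.d (j - 1) j ≫ g = 0) (h0 : Q.map (toSingle E j g hg) = 0) :
    ∃ h : E.X (j + 1) ⟶ N, g = E.d j (j + 1) ≫ h := by
  obtain ⟨ho⟩ := Groth.Agent.S6965.homotopy_of_Q_map_eq_zero_proj E (Sg j N) _ h0
  refine ⟨ho.hom (j + 1) j ≫ (singleObjXSelf (ComplexShape.up ℤ) j N).hom, ?_⟩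
  have hc := ho.comm j
  rw [dNext_eq _ (show (ComplexShape.up ℤ).Rel j (j + 1) from rfl),
    prevD_eq _ (show (ComplexShape.up ℤ).Rel (j - 1) j by simp), toSingle_f,
    HomologicalComplex.single_obj_d, comp_zero, HomologicalComplex.zero_f, add_zero, add_zero] at hc
  rw [← Category.assoc, ← hc, Category.assoc, Iso.inv_hom_id, Category.comp_id]


/-- `N[n] ≅ Q (N placed in degree -n)` -/
noncomputable def shiftSingleIso (n j : ℤ) (h : n + j = 0) (N : ModuleCat.{u} R) :
    (shiftFunctor (DerivedCategory (ModuleCat.{u} R)) n).obj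
      ((DerivedCategory.singleFunctor (ModuleCat.{u} R) 0).obj N) ≅ Q.obj (Sg j N) :=
  ((DerivedCategory.singleFunctors (ModuleCat.{u} R)).shiftIso n j 0 h).app N ≪≫
    (singleFunctorIsoCompQ (ModuleCat.{u} R) j).app N

lemma shiftSingleIso_naturality (n j : ℤ) (h : n + j = 0) {N N' : ModuleCat.{u} R} (φ : N ⟶ N') :
    (shiftFunctor (DerivedCategory (ModuleCat.{u} R)) n).map
      ((DerivedCategory.singleFunctor (ModuleCat.{u} R) 0).map φ) ≫ (shiftSingleIso n j h N').hom =
    (shiftSingleIso n j h N).hom ≫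
      Q.map ((HomologicalComplex.single (ModuleCat.{u} R) (ComplexShape.up ℤ) j).map φ) := by
  let A := (DerivedCategory.singleFunctors (ModuleCat.{u} R)).shiftIso n j 0 h
  let B := singleFunctorIsoCompQ (ModuleCat.{u} R) j
  have h1 : (shiftFunctor (DerivedCategory (ModuleCat.{u} R)) n).map
      ((DerivedCategory.singleFunctor (ModuleCat.{u} R) 0).map φ) ≫ A.hom.app N' =
      A.hom.app N ≫ (DerivedCategory.singleFunctor (ModuleCat.{u} R) j).map φ := A.hom.naturality φ
  have h2 : (DerivedCategory.singleFunctor (ModuleCat.{u} R) j).map φ ≫ B.hom.app N' =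
      B.hom.app N ≫ Q.map ((HomologicalComplex.single (ModuleCat.{u} R) (ComplexShape.up ℤ) j).map φ) :=
    B.hom.naturality φ
  show _ ≫ (A.hom.app N' ≫ B.hom.app N') = (A.hom.app N ≫ B.hom.app N) ≫ _
  rw [← Category.assoc, h1, Category.assoc, h2, Category.assoc]
  rfl

variable {J : Type u} [SmallCategory J] [IsFiltered J]
  (F : J ⥤ ModuleCat.{u} R) (c : Cocone F) (hc : IsColimit c)

include hc in
lemma cpt_surj (E : DRing.Cx R) [E.IsKProjective] (hff : ∀ i : ℤ, FF (E.X i)) (j : ℤ)
    (x : Q.obj E ⟶ Q.obj (Sg j c.pt)) :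
    ∃ (k : J) (y : Q.obj E ⟶ Q.obj (Sg j (F.obj k))),
      y ≫ Q.map ((HomologicalComplex.single (ModuleCat.{u} R) (ComplexShape.up ℤ) j).map (c.ι.app k)) = x := by
  obtain ⟨g, hg, rfl⟩ := exists_cocycle E j c.pt x
  have := (hff j).1
  have := (hff j).2
  have := (hff (j - 1)).1
  have := (hff (j - 1)).2
  obtain ⟨k, g', hg'⟩ := exists_factor F c hc (E.X j) g
  have h0 : (E.d (j - 1) j ≫ g') ≫ c.ι.app k = 0 := by
    rw [Category.assoc, hg', hg]
  obtain ⟨k', f, hf⟩ := exists_kill F c hc (E.X (j - 1)) k _ h0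
  have hc' : E.d (j - 1) j ≫ (g' ≫ F.map f) = 0 := by
    rw [← Category.assoc]
    exact hf
  refine ⟨k', Q.map (toSingle E j (g' ≫ F.map f) hc'), ?_⟩
  rw [← Functor.map_comp, toSingle_comp]
  congr 2
  rw [Category.assoc, c.w f, hg']

include hc in
lemma cpt_inj (E : DRing.Cx R) [E.IsKProjective] (hff : ∀ i : ℤ, FF (E.X i)) (j : ℤ) (k : J)
    (y : Q.obj E ⟶ Q.obj (Sg j (F.obj k)))
    (h0 : y ≫ Q.map ((HomologicalComplex.single (ModuleCat.{u} R) (ComplexShape.up ℤ) j).map (c.ι.app k)) = 0) :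
    ∃ (k' : J) (f : k ⟶ k'),
      y ≫ Q.map ((HomologicalComplex.single (ModuleCat.{u} R) (ComplexShape.up ℤ) j).map (F.map f)) = 0 := by
  obtain ⟨g, hg, rfl⟩ := exists_cocycle E j (F.obj k) y
  have := (hff j).1
  have := (hff j).2
  have := (hff (j + 1)).1
  have := (hff (j + 1)).2
  rw [← Functor.map_comp, toSingle_comp] at h0
  obtain ⟨h, hh⟩ := exists_coboundary E j _ _ h0
  obtain ⟨k1, h', hh'⟩ := exists_factor F c hc (E.X (j + 1)) h
  let k2 := IsFiltered.max k k1
  let a : k ⟶ k2 := IsFiltered.leftToMax k k1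
  let b : k1 ⟶ k2 := IsFiltered.rightToMax k k1
  have hδ : (g ≫ F.map a - E.d j (j + 1) ≫ h' ≫ F.map b) ≫ c.ι.app k2 = 0 := by
    rw [Preadditive.sub_comp, Category.assoc, Category.assoc, Category.assoc, c.w a, c.w b, hh', hh,
      sub_self]
  obtain ⟨k3, f', hf'⟩ := exists_kill F c hc (E.X j) k2 _ hδ
  refine ⟨k3, a ≫ f', ?_⟩
  rw [← Functor.map_comp, toSingle_comp]
  refine Q_map_toSingle_eq_zero_of_coboundary E j _ _ (h' ≫ F.map b ≫ F.map f') ?_
  rw [Preadditive.sub_comp, sub_eq_zero] at hf'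
  rw [F.map_comp, ← Category.assoc, hf']
  simp only [Category.assoc]

end Groth.Agent.Lib.Helper1.Compact
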