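import Mathlib
set_option backward.isDefEq.respectTransparency.types false

/-!
# helper1: vanishing of maps from a bounded complex of projectives (abstract)
-/

set_option autoImplicit false
set_option linter.style.haveILetI false
set_option linter.unusedSectionVars false
set_option maxHeartbeats 400000
universe w v u
open CategoryTheory CategoryTheory.Limits HomologicalComplex DerivedCategory

namespace Groth.Agent.Lib.Helper1.PerfHom

section abstract

variable {C : Type u} [Category.{v} C] [Abelian C] [HasDerivedCategory.{w} C]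

/-- a K-projective complex concentrated in degrees `≥ a` has no nonzero maps to `D^{≤ a-1}` -/
theorem hom_eq_zero_of_isLE (F : CochainComplex C ℤ) [F.IsKProjective] (a : ℤ)
    [F.IsStrictlyGE a] (Y : DerivedCategory C) [Y.IsLE (a - 1)] (φ : Q.obj F ⟶ Y) : φ = 0 := by
  obtain ⟨Y', hY', ⟨e⟩⟩ := Y.exists_iso_Q_obj_of_isLE (a - 1)
  haveI := hY'
  suffices h : φ ≫ e.hom = 0 by
    rw [← cancel_mono e.hom, h, zero_comp]
  obtain ⟨g, hg⟩ := (CochainComplex.IsKProjective.Qh_map_bijective F
    ((HomotopyCategory.quotient _ _).obj Y')).2 (φ ≫ e.hom)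
  obtain ⟨g', rfl⟩ := (HomotopyCategory.quotient _ _).map_surjective g
  have hz : g' = 0 := by
    ext i
    by_cases hi : i < a
    · exact (F.isZero_of_isStrictlyGE a i hi).eq_of_src _ _
    · exact (Y'.isZero_of_isStrictlyLE (a - 1) i (by lia)).eq_of_tgt _ _
  refine hg.symm.trans ?_
  rw [hz, Functor.map_zero, Functor.map_zero]
  rfl

/-- a K-projective complex concentrated in `[a, b]` has no nonzero maps to objects whose
cohomology vanishes in `[a, b]` -/
theorem hom_eq_zero_of_homology (F : CochainComplex C ℤ) [F.IsKProjective] (a b : ℤ)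
    [F.IsStrictlyGE a] [F.IsStrictlyLE b] (N : DerivedCategory C)
    (hN : ∀ i : ℤ, a ≤ i → i ≤ b → IsZero ((DerivedCategory.homologyFunctor C i).obj N))
    (φ : Q.obj F ⟶ N) : φ = 0 := by
  let T := (TStructure.t.triangleLTGE a).obj N
  have hT : T ∈ distTriang _ := TStructure.t.triangleLTGE_distinguished a N
  -- the truncation `τ_{≥ a} N` lies in `D^{≥ b+1}`
  have hGE : ((TStructure.t.truncGE a).obj N).IsGE (b + 1) := by
    rw [isGE_iff]
    intro i hi
    by_cases hia : i < a
    · exact isZero_of_isGE _ a i hia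
    · have hia' : a ≤ i := by lia
      have hib : i ≤ b := by lia
      -- `H^i(N) → H^i(τ_{≥a}N)` is an epimorphism
      have hδ : HomologySequence.δ T i (i + 1) rfl = 0 :=
        (isZero_of_isLE ((TStructure.t.truncLT a).obj N) (a - 1) (i + 1) (by lia)).eq_of_tgt _ _
      have hepi : Epi ((DerivedCategory.homologyFunctor C i).map T.mor₂) :=
        (HomologySequence.epi_homologyMap_mor₂_iff T hT i (i + 1) rfl).2 hδ
      exact @IsZero.of_epi _ _ _ _ _ ((DerivedCategory.homologyFunctor C i).map T.mor₂) hepi
        (hN i hia' hib)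
  have h2 : φ ≫ T.mor₂ = 0 := by
    haveI : (Q.obj F).IsLE b := inferInstance
    haveI : TStructure.t.IsGE T.obj₃ (b + 1) := hGE
    exact TStructure.t.zero _ b (b + 1)
  obtain ⟨ψ, hψ⟩ := Pretriangulated.Triangle.coyoneda_exact₂ T hT φ h2
  rw [hψ, hom_eq_zero_of_isLE F a _ ψ, zero_comp]
  rfl

end abstract

end Groth.Agent.Lib.Helper1.PerfHom
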