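import Mathlib
import Groth.Agent.Lib.Helper1PerfHomA
import Groth.Agent.Lib.Helper1Devissage
import Groth.Agent.Lib.Helper17WayOut
import Groth.Agent.Lib.Helper1LBC
set_option backward.isDefEq.respectTransparency.types false

/-!
# helper1: countability of `Hom(P, N)` in `D(A)` for `P` perfect and `N` with countable cohomology
-/

set_option autoImplicit false
set_option linter.style.haveILetI false
set_option linter.unusedSectionVars false
set_option maxHeartbeats 400000
universe u
open CategoryTheory CategoryTheory.Limits HomologicalComplex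

attribute [local instance] HasDerivedCategory.standard

namespace Groth.Agent.Lib.Helper1.CountHom

open DerivedCategory Pretriangulated Groth.Agent.S14388 Groth.Agent.Lib.Helper1.Devissage
  Groth.Agent.Lib.Helper1.PerfHom

/-- the middle term of an exact sequence of abelian groups with countable outer terms -/
lemma countable_of_exact {A B C : Type*} [AddCommGroup A] [AddCommGroup B] [AddCommGroup C]
    (f : A →+ B) (g : B →+ C) (h : ∀ b, g b = 0 → ∃ a, f a = b) [Countable A] [Countable C] :
    Countable B := by
  classical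
  let s : Set.range g → B := fun c => c.2.choose
  have hs : ∀ c : Set.range g, g (s c) = c.1 := fun c => c.2.choose_spec
  have hsurj : Function.Surjective (fun p : A × Set.range g => f p.1 + s p.2) := by
    intro b
    obtain ⟨a, ha⟩ := h (b - s ⟨g b, b, rfl⟩) (by rw [map_sub, hs, sub_self])
    exact ⟨(a, ⟨g b, b, rfl⟩), by simp [ha]⟩
  exact hsurj.countable

section tri

variable {C : Type*} [Category C] [Preadditive C] [HasZeroObject C] [HasShift C ℤ]
  [∀ n : ℤ, (shiftFunctor C n).Additive] [Pretriangulated C]

lemma countable_hom_obj₂ (S : C) (T : Triangle C) (hT : T ∈ distTriang C)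
    (h1 : Countable (S ⟶ T.obj₁)) (h3 : Countable (S ⟶ T.obj₃)) : Countable (S ⟶ T.obj₂) :=
  countable_of_exact (Preadditive.rightComp S T.mor₁) (Preadditive.rightComp S T.mor₂)
    (fun f hf => by
      obtain ⟨g, hg⟩ := Triangle.coyoneda_exact₂ T hT f hf
      exact ⟨g, hg.symm⟩)

lemma countable_hom_of_iso {S S' Y Y' : C} (a : S ≅ S') (b : Y ≅ Y') (h : Countable (S ⟶ Y)) :
    Countable (S' ⟶ Y') := by
  have : Function.Surjective (fun φ : S ⟶ Y => a.inv ≫ φ ≫ b.hom) := by
    intro ψ
    exact ⟨a.hom ≫ ψ ≫ b.inv, by simp⟩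
  exact this.countable

end tri

variable {A : Type u} [CommRing A]

lemma countable_moduleCat_hom (M H : ModuleCat.{u} A) [Module.Finite A M] [Countable H] :
    Countable (M ⟶ H) := by
  obtain ⟨n, g, hg⟩ := Module.Finite.exists_fin (R := A) (M := M)
  have hinj : Function.Injective (fun φ : M ⟶ H => fun k : Fin n => φ.hom (g k)) := by
    intro φ ψ h
    ext1
    apply LinearMap.ext_on_range hg
    intro k
    exact congrFun h k
  exact hinj.countable

/-- maps from a K-projective complex with finite terms to a countable module placed in one degree -/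
lemma countable_hom_single (F : CochainComplex (ModuleCat.{u} A) ℤ) [F.IsKProjective]
    (hfin : ∀ i, Module.Finite A (F.X i)) (l : ℤ) (H : ModuleCat.{u} A) [Countable H] :
    Countable (Q.obj F ⟶ (DerivedCategory.singleFunctor (ModuleCat.{u} A) l).obj H) := by
  let S := (CochainComplex.singleFunctor (ModuleCat.{u} A) l).obj H
  change Countable (Q.obj F ⟶ Q.obj S)
  have hsurj : Function.Surjective (fun f : F ⟶ S => (Q : _ ⥤ DerivedCategory (ModuleCat.{u} A)).map f) := by
    intro φ
    obtain ⟨g, hg⟩ := (CochainComplex.IsKProjective.Qh_map_bijective F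
      ((HomotopyCategory.quotient _ _).obj S)).2 φ
    obtain ⟨g', rfl⟩ := (HomotopyCategory.quotient _ _).map_surjective g
    exact ⟨g', hg⟩
  haveI := hfin l
  haveI : Countable (F.X l ⟶ H) := countable_moduleCat_hom (F.X l) H
  have hinj : Function.Injective (fun f : F ⟶ S =>
      f.f l ≫ (HomologicalComplex.singleObjXSelf (ComplexShape.up ℤ) l H).hom) := by
    intro f f' h
    apply HomologicalComplex.to_single_hom_ext
    have h' : f.f l ≫ (HomologicalComplex.singleObjXSelf (ComplexShape.up ℤ) l H).hom =
      f'.f l ≫ (HomologicalComplex.singleObjXSelf (ComplexShape.up ℤ) l H).hom := h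
    exact (cancel_mono _).1 h'
  haveI : Countable (F ⟶ S) := hinj.countable
  exact hsurj.countable

/-- the property "countable carrier" of modules -/
def cnt : ObjectProperty (ModuleCat.{u} A) := fun M => Countable M

instance : (cnt (A := A)).IsClosedUnderIsomorphisms where
  of_iso {M M'} e (h : Countable M) := by
    have : Function.Surjective (fun x : M => e.hom.hom x) := fun y =>
      ⟨e.inv.hom y, by
        have h1 : (e.inv ≫ e.hom).hom y = y := by rw [e.inv_hom_id]; rfl
        exact h1⟩
    exact this.countable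

lemma cnt_of_isZero (M : ModuleCat.{u} A) (h : IsZero M) : cnt M := by
  haveI : Subsingleton M := ModuleCat.subsingleton_of_isZero h
  exact (inferInstance : Countable M)

/-- **countability of Hom from a perfect complex** -/
theorem countable_hom (F : DRing.Cx A) (a b : ℤ) (hv : DRing.VanishesOutside F a b)
    (hfp : DRing.TermwiseFiniteProjective F) (N : DerivedCategory (ModuleCat.{u} A))
    (hN : ∀ i : ℤ, Countable ((DerivedCategory.homologyFunctor (ModuleCat.{u} A) i).obj N)) :
    Countable (Q.obj F ⟶ N) := by
  haveI : F.IsKProjective :=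
    Groth.Agent.Lib.Helper1.LDer.isKProjective_of_vanishesAbove F (max a b)
      (fun i hi => hv i (Or.inr (by lia))) (fun i => (hfp i).2)
  haveI : F.IsStrictlyGE a := by
    rw [CochainComplex.isStrictlyGE_iff]
    exact fun i hi => hv i (Or.inl hi)
  haveI : F.IsStrictlyLE (max a b) := by
    rw [CochainComplex.isStrictlyLE_iff]
    exact fun i hi => hv i (Or.inr (by lia))
  set b' := max a b with hb'
  -- truncations
  let T₁ := (tt.triangleLTGE a).obj N
  have hT₁ : T₁ ∈ distTriang _ := tt.triangleLTGE_distinguished a N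
  let N' := (tt.truncGE a).obj N
  let T₂ := (tt.triangleLTGE (b' + 1)).obj N'
  have hT₂ : T₂ ∈ distTriang _ := tt.triangleLTGE_distinguished (b' + 1) N'
  let Y := (tt.truncLT (b' + 1)).obj N'
  have hN' : ∀ i, cnt ((DerivedCategory.homologyFunctor (ModuleCat.{u} A) i).obj N') :=
    Groth.Agent.Lib.Helper17.WayOut.prop_truncGE cnt cnt_of_isZero N a hN
  have hY : ∀ i, cnt ((DerivedCategory.homologyFunctor (ModuleCat.{u} A) i).obj Y) :=
    Groth.Agent.Lib.Helper17.WayOut.prop_truncLT cnt cnt_of_isZero N' (b' + 1) hN'
  -- bounded case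
  have hYc : Countable (Q.obj F ⟶ Y) := by
    let P : ObjectProperty (DerivedCategory (ModuleCat.{u} A)) := fun Z => Countable (Q.obj F ⟶ Z)
    haveI : P.IsClosedUnderIsomorphisms :=
      ⟨fun e h => countable_hom_of_iso (Iso.refl _) e h⟩
    refine induction_homology' P (fun Z hZ => ?_) (fun T hT h1 h3 => countable_hom_obj₂ _ T hT h1 h3)
      Y a b' ?_ ?_
    · haveI : Subsingleton (Q.obj F ⟶ Z) := ⟨fun f g => hZ.eq_of_tgt f g⟩
      exact (inferInstance : Countable (Q.obj F ⟶ Z))
    · rintro i (hi | hi)
      · by_cases hib : i < b' + 1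
        · have := isIso_homology_truncLTι (b' + 1) i hib N'
          exact IsZero.of_iso (isZero_of_isGE N' a i hi)
            (asIso ((DerivedCategory.homologyFunctor _ i).map ((tt.truncLTι (b' + 1)).app N')))
        · exact isZero_of_isLE Y (b' + 1 - 1) i (by lia)
      · exact isZero_of_isLE Y (b' + 1 - 1) i (by lia)
    · intro j _ _
      haveI : Countable ((DerivedCategory.homologyFunctor (ModuleCat.{u} A) j).obj Y) := hY j
      exact countable_hom_single F (fun i => (hfp i).1) j _
  -- `Hom(F, Y) → Hom(F, N')` is surjective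
  have h2 : Countable (Q.obj F ⟶ N') := by
    have hsurj : Function.Surjective (fun φ : Q.obj F ⟶ Y => φ ≫ T₂.mor₁) := by
      intro ψ
      have hz : ψ ≫ T₂.mor₂ = 0 := by
        haveI : tt.IsGE T₂.obj₃ (b' + 1) := inferInstanceAs (tt.IsGE ((tt.truncGE (b' + 1)).obj N') (b' + 1))
        haveI : tt.IsLE (Q.obj F) b' := inferInstanceAs ((Q.obj F).IsLE b')
        exact tt.zero _ b' (b' + 1)
      obtain ⟨g, hg⟩ := Triangle.coyoneda_exact₂ T₂ hT₂ ψ hz
      exact ⟨g, hg.symm⟩
    exact hsurj.countable
  -- `Hom(F, N) → Hom(F, N')` is injective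
  have hinj : Function.Injective (fun φ : Q.obj F ⟶ N => φ ≫ T₁.mor₂) := by
    intro φ φ' h
    have hz : (φ - φ') ≫ T₁.mor₂ = 0 := by
      rw [Preadditive.sub_comp]
      exact sub_eq_zero.2 h
    obtain ⟨g, hg⟩ := Triangle.coyoneda_exact₂ T₁ hT₁ (φ - φ') hz
    have hg0 : g = 0 := by
      haveI : ((tt.truncLT a).obj N).IsLE (a - 1) := inferInstance
      exact hom_eq_zero_of_isLE F a _ g
    rw [hg0, zero_comp] at hg
    exact sub_eq_zero.1 hg
  haveI : Countable (Q.obj F ⟶ T₁.obj₃) := h2
  exact hinj.countable

end Groth.Agent.Lib.Helper1.CountHom
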