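import Mathlib
import Groth.Agent.Lib.Helper1TildePC
import Groth.Agent.Lib.Helper1TQ9
import Groth.Agent.Lib.Helper1PC13
import Groth.Agent.S5611
set_option backward.isDefEq.respectTransparency.types false
set_option autoImplicit false
set_option linter.style.haveILetI false
set_option maxHeartbeats 400000
universe u
open CategoryTheory CategoryTheory.Limits AlgebraicGeometry Opposite TopologicalSpace

attribute [local instance] HasDerivedCategory.standard

namespace Groth.Agent.Lib.Helper1.TildePC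

open DerivedCategory Pretriangulated
open Groth.Agent.Lib.Helper1.KoszulPerf Groth.Agent.Lib.Helper1.SPL Groth.Agent.Lib.Helper1.PC
  Groth.Agent.Lib.Helper1.Restrict Groth.Agent.Lib.Helper1.Cone Groth.Agent.Lib.Helper1.Sky
  Groth.Agent.Lib.Helper1.TQ Groth.Agent.S7017 Groth.Agent.S14388

lemma hasFlatAmplitudeIn_mono {X : Scheme.{u}} {a b a' b' : ℤ} (ha : a' ≤ a) (hb : b ≤ b')
    {K : DCoh.D X} (h : DCoh.HasFlatAmplitudeIn a b K) : DCoh.HasFlatAmplitudeIn a' b' K := by
  obtain ⟨E, hv, hf, he⟩ := h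
  exact ⟨E, fun i hi => hv i (by rcases hi with hi | hi; exacts [Or.inl (by lia), Or.inr (by lia)]),
    hf, he⟩

variable {A : Type u} [CommRing A]

/-- a perfect object on `Spec A` has globally bounded tor amplitude -/
theorem exists_hasTorAmp_of_isPerfect (K : Dual.D A)
    (h : DCoh.IsPerfect ((tildeD' A).obj K)) : ∃ a b : ℤ, DRing.HasTorAmplitudeIn A a b K := by
  have h2 := ((isPerfect_iff_pseudoCoherent_locFiniteTorDim _).1 h).2
  choose V a b hx hV using h2
  obtain ⟨t, ht⟩ := isCompact_univ.elim_finite_subcover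
    (fun x => ((V x : (Spec (CommRingCat.of A)).Opens) : Set (Spec (CommRingCat.of A))))
    (fun x => (V x).isOpen) (fun x _ => Set.mem_iUnion.2 ⟨x, hx x⟩)
  let b' : ℤ := ((t.sup fun x => (b x).toNat : ℕ) : ℤ)
  let a' : ℤ := -((t.sup fun x => (-(a x)).toNat : ℕ) : ℤ)
  have hb' : ∀ x ∈ t, b x ≤ b' := fun x hxt => (Int.self_le_toNat _).trans
    (Int.ofNat_le.2 (Finset.le_sup (f := fun x => (b x).toNat) hxt))
  have ha' : ∀ x ∈ t, a' ≤ a x := fun x hxt => by
    have h1 : -(a x) ≤ ((t.sup fun x => (-(a x)).toNat : ℕ) : ℤ) :=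
      (Int.self_le_toNat _).trans
        (Int.ofNat_le.2 (Finset.le_sup (f := fun x => (-(a x)).toNat) hxt))
    show -((t.sup fun x => (-(a x)).toNat : ℕ) : ℤ) ≤ a x
    lia
  refine ⟨a', b', ?_⟩
  let C : CochainComplex (Spec (CommRingCat.of A)).Modules ℤ :=
    DerivedCategory.Q.objPreimage ((tildeD' A).obj K)
  let e₀ : DCoh.toD _ C ≅ (tildeD' A).obj K := DerivedCategory.Q.objObjPreimageIso _
  have h3 : DCoh.HasTorAmplitudeIn a' b' (DCoh.toD _ C) := by
    refine hasTorAmplitudeIn_of_cover C a' b' (fun y => ?_)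
    have := ht (Set.mem_univ y)
    simp only [Set.mem_iUnion] at this
    obtain ⟨x, hxt, hy⟩ := this
    refine ⟨V x, hy, ?_⟩
    exact (hasFlatAmplitudeIn_iff_hasTorAmplitudeIn _ _ _).1
      (hasFlatAmplitudeIn_mono (ha' x hxt) (hb' x hxt) (hV x C ⟨e₀⟩))
  have h4 : DCoh.HasFlatAmplitudeIn a' b' ((tildeD' A).obj K) := by
    obtain ⟨E, hv, hf, ⟨e⟩⟩ := (hasFlatAmplitudeIn_iff_hasTorAmplitudeIn _ _ _).2 h3
    exact ⟨E, hv, hf, ⟨e ≪≫ e₀⟩⟩
  exact (hasFlatAmplitudeIn_tildeD_iff A K a' b').1 h4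

theorem isPerfect_of_tildeD' (K : Dual.D A)
    (h : DCoh.IsPerfect ((tildeD' A).obj K)) : DRing.IsPerfect A K := by
  obtain ⟨a, b, hab⟩ := exists_hasTorAmp_of_isPerfect K h
  have hab' : DRing.HasTorAmplitudeIn A a (max a b) K := by
    obtain ⟨E, hv, hf, he⟩ := hab
    exact ⟨E, fun i hi => hv i (by
      rcases hi with hi | hi
      · exact Or.inl hi
      · exact Or.inr (lt_of_le_of_lt (le_max_right a b) hi)), hf, he⟩
  have hpc : DRing.IsPseudoCoherent A (a - 1) K :=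
    isPC_of_tildeD' K (a - 1) (((isPerfect_iff_pseudoCoherent_locFiniteTorDim _).1 h).1 (a - 1))
  obtain ⟨E, hE, hP, he⟩ := (Groth.Agent.S5611.result K a (max a b) (le_max_left a b)).1 ⟨hpc, hab'⟩
  exact ⟨E, a, max a b, hE, hP, he⟩

theorem isPerfect_tildeD'_iff (K : Dual.D A) :
    DCoh.IsPerfect ((tildeD' A).obj K) ↔ DRing.IsPerfect A K :=
  ⟨isPerfect_of_tildeD' K, isPerfect_tildeD' A K⟩

end Groth.Agent.Lib.Helper1.TildePC
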