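import Mathlib
import Groth.Agent.Lib.Helper1PerfHomA
import Groth.Agent.Lib.Helper1ChartQC
import Groth.Agent.Lib.Helper1PC13
import Groth.Agent.Lib.Helper17TildeD4
import Groth.Agent.Lib.Helper17Hyp19
import Groth.Agent.Lib.Helper1LBC
import Groth.Agent.S1105
import Groth.Agent.S0997
import Groth.Agent.Lib.Helper4PerfSupp
set_option backward.isDefEq.respectTransparency.types false

/-!
# helper1: maps out of a perfect object on an affine scheme `Spec A`
-/

set_option autoImplicit false
set_option linter.style.haveILetI false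
set_option linter.unusedSectionVars false
set_option maxHeartbeats 400000
universe u
open CategoryTheory CategoryTheory.Limits AlgebraicGeometry Opposite TopologicalSpace

attribute [local instance] HasDerivedCategory.standard

namespace Groth.Agent.Lib.Helper1.PerfHom

open Groth.Agent.Lib.Helper1.SPL

variable {X : Scheme.{u}}

/-- a perfect object has quasi-coherent cohomology sheaves -/
theorem isQCohD_of_isPerfect (K : DCoh.D X) (hK : DCoh.IsPerfect K) : DCoh.IsQCohD K := by
  intro i
  exact Groth.Agent.Lib.Helper1.ChartQC.isQuasicoherent_HD_of_hasPresM K (i - 1) i (by lia)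
    (fun x => ((isPerfect_iff_hasPres K).1 hK x).hasPresM (i - 1))

/-- every map from `K` to an object of `D_QCoh` with no cohomology in `[a, b]` vanishes -/
def HomVan (K : DCoh.D X) (a b : ℤ) : Prop :=
  ∀ L : DCoh.D X, DCoh.IsQCohD L → (∀ i : ℤ, a ≤ i → i ≤ b → IsZero (DCoh.HD L i)) →
    ∀ φ : K ⟶ L, φ = 0

lemma HomVan.mono {K : DCoh.D X} {a b a' b' : ℤ} (h : HomVan K a b) (ha : a' ≤ a) (hb : b ≤ b') :
    HomVan K a' b' :=
  fun L hL hz φ => h L hL (fun i hi hi' => hz i (by lia) (by lia)) φ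

lemma HomVan.of_iso {K K' : DCoh.D X} {a b : ℤ} (h : HomVan K a b) (e : K ≅ K') :
    HomVan K' a b := by
  intro L hL hz φ
  have := h L hL hz (e.hom ≫ φ)
  rw [← cancel_epi e.hom, this, comp_zero]

theorem homVan_spec (A : Type u) [CommRing A] (K : DCoh.D (Spec (CommRingCat.of A)))
    (hK : DCoh.IsPerfect K) : ∃ a b : ℤ, a ≤ b ∧ HomVan K a b := by
  obtain ⟨hfull, hfaith, hess⟩ := Groth.Agent.S0997.result (CommRingCat.of A)
  haveI := hfull
  haveI := hfaith
  obtain ⟨M, ⟨eM⟩⟩ := (hess K).1 (isQCohD_of_isPerfect K hK)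
  have hM : DRing.IsPerfect A M := (Groth.Agent.S1105.result A M).1
    (Groth.Agent.Lib.Helper4.PerfSupp.isPerfect_of_iso eM.symm hK)
  obtain ⟨E, a, b, hv, hfp, ⟨eE⟩⟩ := hM
  refine ⟨a, max a b, le_max_left _ _, ?_⟩
  refine HomVan.of_iso ?_ eM
  intro L hL hz φ
  obtain ⟨N, ⟨eN⟩⟩ := (hess L).1 hL
  obtain ⟨ψ, hψ⟩ := (DCoh.tildeD (CommRingCat.of A)).map_surjective (φ ≫ eN.inv)
  haveI : E.IsKProjective :=
    Groth.Agent.Lib.Helper1.LDer.isKProjective_of_vanishesAbove E (max a b)
      (fun i hi => hv i (Or.inr (by lia))) (fun i => (hfp i).2)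
  haveI : E.IsStrictlyGE a := by
    rw [CochainComplex.isStrictlyGE_iff]
    exact fun i hi => hv i (Or.inl hi)
  haveI : E.IsStrictlyLE (max a b) := by
    rw [CochainComplex.isStrictlyLE_iff]
    exact fun i hi => hv i (Or.inr (by lia))
  have hN : ∀ i : ℤ, a ≤ i → i ≤ max a b →
      IsZero ((DerivedCategory.homologyFunctor (ModuleCat.{u} A) i).obj N) := by
    intro i hi hi'
    have h1 : IsZero ((tilde.functor (CommRingCat.of A)).obj
        ((DerivedCategory.homologyFunctor (ModuleCat.{u} A) i).obj N)) :=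
      (hz i hi hi').of_iso
        (((Groth.Agent.Lib.Helper17.Hyp.homologyNatIso (tilde.functor (CommRingCat.of A)) i).app N).symm ≪≫
          (DerivedCategory.homologyFunctor _ i).mapIso eN)
    haveI : (tilde.functor (CommRingCat.of A)).Faithful := tilde.fullyFaithfulFunctor.faithful
    rw [IsZero.iff_id_eq_zero] at h1 ⊢
    apply (tilde.functor (CommRingCat.of A)).map_injective
    rw [CategoryTheory.Functor.map_id, h1, CategoryTheory.Functor.map_zero]
  have hψ0 : ψ = 0 := by
    have := hom_eq_zero_of_homology E a (max a b) N hN (eE.hom ≫ ψ)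
    rw [← cancel_epi eE.hom, this, comp_zero]
  rw [hψ0, Functor.map_zero] at hψ
  rw [← cancel_mono eN.inv, ← hψ, zero_comp]

end Groth.Agent.Lib.Helper1.PerfHom
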