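import Mathlib
import Groth.Agent.Lib.Helper1PerfHomB
import Groth.Agent.Lib.Helper1ExtVan
import Groth.Agent.Lib.Helper1Fib3
import Groth.Agent.S0921
set_option backward.isDefEq.respectTransparency.types false

/-!
# helper1: maps out of a perfect object on a quasi-compact quasi-separated scheme vanish on
objects of `D_QCoh` without cohomology in a fixed finite range
-/

set_option autoImplicit false
set_option linter.style.haveILetI false
set_option linter.unusedSectionVars false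
set_option maxHeartbeats 400000
universe w v u
open CategoryTheory CategoryTheory.Limits AlgebraicGeometry Opposite TopologicalSpace Pretriangulated

attribute [local instance] HasDerivedCategory.standard

namespace Groth.Agent.Lib.Helper1.PerfHom

open Groth.Agent.Lib.Helper1.SPL Groth.Agent.Lib.Helper1.ExtVan

attribute [local instance] Groth.Agent.Lib.Helper17.QCPush.hasRpush

section abstractId

variable {A : Type u} [Category.{v} A] [Abelian A] [HasDerivedCategory.{w} A]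

/-- an exact endofunctor isomorphic to the identity induces the identity on `D(A)` -/
noncomputable def mapDIdIso (F : A ⥤ A) [F.Additive] [PreservesFiniteLimits F]
    [PreservesFiniteColimits F] (θ : F ≅ 𝟭 A) :
    F.mapDerivedCategory ≅ 𝟭 (DerivedCategory A) :=
  Localization.liftNatIso DerivedCategory.Q (HomologicalComplex.quasiIso A (ComplexShape.up ℤ))
    (DerivedCategory.Q ⋙ F.mapDerivedCategory) (DerivedCategory.Q ⋙ 𝟭 _) _ _
    (F.mapDerivedCategoryFactors ≪≫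
      Functor.isoWhiskerRight (NatIso.mapHomologicalComplex θ (ComplexShape.up ℤ) ≪≫
        Functor.mapHomologicalComplexIdIso A (ComplexShape.up ℤ)) DerivedCategory.Q ≪≫
      Functor.leftUnitor _ ≪≫ (Functor.rightUnitor _).symm)

end abstractId

section Tri
variable {C : Type u} [Category.{v} C] [HasZeroObject C] [HasShift C ℤ] [Preadditive C]
  [∀ n : ℤ, (shiftFunctor C n).Additive] [Pretriangulated C]

/-- vanishing of `Hom(S, T₁)` from the vanishing of `Hom(S, T₂)` and `Hom(S, T₃[-1])`. -/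
theorem eq_zero_of_distTriang0 (T : Triangle C) (hT : T ∈ distTriang C) (S : C)
    (h2 : ∀ ψ : S ⟶ T.obj₂, ψ = 0)
    (h3 : ∀ ψ : S ⟶ T.obj₃⟦(-1 : ℤ)⟧, ψ = 0)
    (φ : S ⟶ T.obj₁) : φ = 0 := by
  have hT0 : T.invRotate ∈ distTriang C := inv_rot_of_distTriang T hT
  obtain ⟨g, hg⟩ := Triangle.coyoneda_exact₂ _ hT0 φ (h2 _)
  have hg0 : g = 0 := h3 g
  rw [hg, hg0]
  exact zero_comp

end Tri

variable {X : Scheme.{u}}

/-- restriction along an isomorphism of schemes is faithful on derived categories -/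
lemma eq_zero_of_resD_map_eq_zero {Z' Z : Scheme.{u}} (e : Z' ⟶ Z) [IsIso e] {K L : DCoh.D Z}
    (φ : K ⟶ L) (h : (resD e).map φ = 0) : φ = 0 := by
  let c := resDComp (inv e) e
  obtain ⟨d⟩ := nonempty_resD_congr (j := inv e ≫ e) (j' := 𝟙 Z) (IsIso.inv_hom_id e)
  let t : resD e ⋙ resD (inv e) ≅ 𝟭 _ :=
    c.symm ≪≫ d ≪≫ mapDIdIso _ (Scheme.Modules.restrictFunctorId (X := Z))
  have h1 : (resD e ⋙ resD (inv e)).map φ = 0 := by
    rw [Functor.comp_map, h, CategoryTheory.Functor.map_zero]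
  have h2 := t.hom.naturality φ
  rw [h1, zero_comp] at h2
  have h3 : t.hom.app K ≫ φ = 0 := h2.symm
  rw [← cancel_epi (t.hom.app K), h3, comp_zero]

theorem HomVan.of_resD_iso {Z' Z : Scheme.{u}} (e : Z' ⟶ Z) [IsIso e] (K : DCoh.D Z) (a b : ℤ)
    (h : HomVan ((resD e).obj K) a b) : HomVan K a b := by
  intro L hL hz φ
  apply eq_zero_of_resD_map_eq_zero e
  exact h _ (isQCohD_restrictD e L hL)
    (fun i hi hi' => isZero_HD_restrictD e L i (hz i hi hi')) _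

/-- restriction to an open subscheme preserves perfect objects -/
theorem isPerfect_resD {U : Scheme.{u}} (j : U ⟶ X) [IsOpenImmersion j] (K : DCoh.D X)
    (hK : DCoh.IsPerfect K) : DCoh.IsPerfect ((resD j).obj K) := by
  haveI : DCoh.HasLpull j := Groth.Agent.Lib.Helper1.Sky.hasLpull j
  obtain ⟨e⟩ := Groth.Agent.Lib.Helper1.Fib.nonempty_lpull_iso_resD j K
  exact Groth.Agent.Lib.Helper4.PerfSupp.isPerfect_of_iso e (Groth.Agent.S0921.result j K hK)

theorem homVan_of_isAffine {Z : Scheme.{u}} [IsAffine Z] (K : DCoh.D Z)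
    (hK : DCoh.IsPerfect K) : ∃ a b : ℤ, a ≤ b ∧ HomVan K a b := by
  let e : Spec Γ(Z, ⊤) ⟶ Z := Z.isoSpec.inv
  obtain ⟨a, b, hab, h⟩ := homVan_spec Γ(Z, ⊤) ((resD e).obj K) (isPerfect_resD e K hK)
  exact ⟨a, b, hab, HomVan.of_resD_iso e K a b h⟩

/-- cohomology sheaves of a shift -/
noncomputable def HDShiftIso (L : DCoh.D X) (n i : ℤ) : DCoh.HD (L⟦n⟧) i ≅ DCoh.HD L (n + i) :=
  ((DerivedCategory.homologyFunctor X.Modules 0).shiftIso n i (n + i) rfl).app L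

theorem isQCohD_shift (L : DCoh.D X) (hL : DCoh.IsQCohD L) (n : ℤ) : DCoh.IsQCohD (L⟦n⟧) := by
  intro i
  haveI : (DCoh.HD L (n + i)).IsQuasicoherent := hL (n + i)
  exact (SheafOfModules.isQuasicoherent X.ringCatSheaf).prop_of_iso (HDShiftIso L n i).symm
    inferInstance

/-- adjunction transfer: `Hom(K, Rj_* G) = 0` if `Hom(K|_W, G) = 0`. -/
theorem hom_rpush_eq_zero0 (W : X.Opens) (K : DCoh.D X) (G : DCoh.D (W : Scheme.{u}))
    (h : ∀ ψ : (DCoh.restrictD W.ι).obj K ⟶ G, ψ = 0)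
    (φ : K ⟶ (DCoh.Rpush W.ι).obj G) : φ = 0 := by
  haveI : DCoh.HasLpull W.ι := Groth.Agent.Lib.Helper1.Sky.hasLpull W.ι
  obtain ⟨ι₀⟩ := nonempty_lpull_iso_restrictD W K
  let adj := Groth.Agent.Lib.Helper1.DAdj.lpullRpushAdj W.ι
  have h1 : (adj.homEquiv K G).symm φ = 0 := by
    have := h (ι₀.inv ≫ (adj.homEquiv K G).symm φ)
    rw [← cancel_epi ι₀.inv, this, comp_zero]
  have := congrArg (adj.homEquiv K G) h1
  rw [Equiv.apply_symm_apply] at this
  rw [this]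
  haveI : (DCoh.Rpush W.ι).IsRightAdjoint := adj.isRightAdjoint
  rw [Adjunction.homEquiv_unit, CategoryTheory.Functor.map_zero, comp_zero]

/-- the inductive property -/
def PInd (K : DCoh.D X) (U : X.Opens) : Prop :=
  ∀ (Z : Scheme.{u}) (i : Z ⟶ X) [IsOpenImmersion i], i.opensRange = U →
    ∃ a b : ℤ, a ≤ b ∧ HomVan ((resD i).obj K) a b

theorem pInd_affine (K : DCoh.D X) (hK : DCoh.IsPerfect K) (U : X.Opens) (hU : IsAffineOpen U) :
    PInd K U := by
  intro Z i _ hi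
  haveI : IsAffine Z := by
    have h : IsAffineOpen i.opensRange := hi ▸ hU
    haveI : IsAffine (i.opensRange : Scheme.{u}) := h
    exact IsAffine.of_isIso i.isoOpensRange.hom
  exact homVan_of_isAffine _ (isPerfect_resD i K hK)

theorem pInd_sup (K : DCoh.D X) (U V : X.Opens) (hU : PInd K U) (hV : PInd K V)
    (hUV : PInd K (U ⊓ V)) : PInd K (U ⊔ V) := by
  intro Z i _ hi
  have hcov : i ⁻¹ᵁ U ⊔ i ⁻¹ᵁ V = ⊤ := by
    rw [← Scheme.Hom.preimage_sup, ← hi, Scheme.Hom.preimage_opensRange]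
  have key : ∀ (W : X.Opens) (W' : Z.Opens), W' = i ⁻¹ᵁ W → W ≤ U ⊔ V → PInd K W →
      ∃ a b : ℤ, a ≤ b ∧ HomVan ((DCoh.restrictD W'.ι).obj ((resD i).obj K)) a b := by
    intro W W' hW' hWle hP
    subst hW'
    have hr : ((i ⁻¹ᵁ W).ι ≫ i).opensRange = W := by
      rw [Scheme.Hom.opensRange_comp, Scheme.Opens.opensRange_ι,
        Scheme.Hom.image_preimage_eq_opensRange_inf, hi]
      exact inf_eq_right.2 hWle
    obtain ⟨a, b, hab, h⟩ := hP _ ((i ⁻¹ᵁ W).ι ≫ i) hr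
    exact ⟨a, b, hab, h.of_iso ((resDComp (i ⁻¹ᵁ W).ι i).app K)⟩
  obtain ⟨aU, bU, habU, hU'⟩ := key U _ rfl le_sup_left hU
  obtain ⟨aV, bV, habV, hV'⟩ := key V _ rfl le_sup_right hV
  obtain ⟨aW, bW, habW, hW'⟩ := key (U ⊓ V) (i ⁻¹ᵁ U ⊓ i ⁻¹ᵁ V) rfl
    (inf_le_left.trans le_sup_left) hUV
  refine ⟨min (min aU aV) (aW - 1), max (max bU bV) (bW - 1), ?_, ?_⟩
  · have h1 := min_le_left (min aU aV) (aW - 1)
    have h2 := min_le_left aU aV
    have h3 := le_max_left (max bU bV) (bW - 1)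
    have h4 := le_max_left bU bV
    lia
  intro L hL hz φ
  obtain ⟨α, β, γ, hT⟩ := Groth.Agent.Lib.Helper17.MV.mv_triangle (i ⁻¹ᵁ U) (i ⁻¹ᵁ V) hcov L
  have hz' : ∀ (a b : ℤ), min (min aU aV) (aW - 1) ≤ a → b ≤ max (max bU bV) (bW - 1) →
      ∀ j : ℤ, a ≤ j → j ≤ b → IsZero (DCoh.HD L j) :=
    fun a b ha hb j hj hj' => hz j (ha.trans hj) (hj'.trans hb)
  have h2 : ∀ ψ : (resD i).obj K ⟶
      ((DCoh.Rpush (i ⁻¹ᵁ U).ι).obj ((DCoh.restrictD (i ⁻¹ᵁ U).ι).obj L) ⊞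
        (DCoh.Rpush (i ⁻¹ᵁ V).ι).obj ((DCoh.restrictD (i ⁻¹ᵁ V).ι).obj L)), ψ = 0 := by
    intro ψ
    have hA : ψ ≫ biprod.fst = 0 := by
      apply hom_rpush_eq_zero0 (i ⁻¹ᵁ U) _ _
      intro ψ'
      exact hU' _ (isQCohD_restrictD (i ⁻¹ᵁ U).ι L hL)
        (fun j hj hj' => isZero_HD_restrictD (i ⁻¹ᵁ U).ι L j (hz' aU bU
          ((min_le_left _ _).trans (min_le_left _ _))
          ((le_max_left _ _).trans (le_max_left _ _)) j hj hj')) ψ'
    have hB : ψ ≫ biprod.snd = 0 := by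
      apply hom_rpush_eq_zero0 (i ⁻¹ᵁ V) _ _
      intro ψ'
      exact hV' _ (isQCohD_restrictD (i ⁻¹ᵁ V).ι L hL)
        (fun j hj hj' => isZero_HD_restrictD (i ⁻¹ᵁ V).ι L j (hz' aV bV
          ((min_le_left _ _).trans (min_le_right _ _))
          ((le_max_right _ _).trans (le_max_left _ _)) j hj hj')) ψ'
    apply biprod.hom_ext
    · rw [hA, zero_comp]
    · rw [hB, zero_comp]
  have h3 : ∀ ψ : (resD i).obj K ⟶
      ((DCoh.Rpush (i ⁻¹ᵁ U ⊓ i ⁻¹ᵁ V).ι).obj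
        ((DCoh.restrictD (i ⁻¹ᵁ U ⊓ i ⁻¹ᵁ V).ι).obj L))⟦(-1 : ℤ)⟧, ψ = 0 := by
    intro ψ
    apply hom_rpush_eq_zero (i ⁻¹ᵁ U ⊓ i ⁻¹ᵁ V) _ _ (-1)
    intro ψ'
    refine hW' _ (isQCohD_shift _ (isQCohD_restrictD (i ⁻¹ᵁ U ⊓ i ⁻¹ᵁ V).ι L hL) (-1))
      (fun j hj hj' => ?_) ψ'
    refine IsZero.of_iso ?_ (HDShiftIso _ (-1) j)
    exact isZero_HD_restrictD (i ⁻¹ᵁ U ⊓ i ⁻¹ᵁ V).ι L _
      (hz' (aW - 1) (bW - 1) (min_le_right _ _) (le_max_right _ _)
      (-1 + j) (by lia) (by lia))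
  exact eq_zero_of_distTriang0 _ hT _ h2 h3 φ

/-- **Hom-vanishing range for a perfect object** on a quasi-compact quasi-separated scheme. -/
theorem exists_homVan (X : Scheme.{u}) [CompactSpace X] [QuasiSeparatedSpace X] (K : DCoh.D X)
    (hK : DCoh.IsPerfect K) : ∃ a b : ℤ, a ≤ b ∧ HomVan K a b := by
  have h := Groth.Agent.S0015.result X (PInd K) (pInd_affine K hK)
    (fun U V _ _ hU hV hUV => pInd_sup K U V hU hV hUV) ⊤ isCompact_univ
  obtain ⟨a, b, hab, h1⟩ := h X (𝟙 X) (Scheme.Hom.opensRange_of_isIso _)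
  refine ⟨a, b, hab, ?_⟩
  exact HomVan.of_resD_iso (𝟙 X) K a b h1

end Groth.Agent.Lib.Helper1.PerfHom
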