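import Mathlib
import Groth.Agent.Lib.Helper1PerfHomC
import Groth.Agent.Lib.Helper1FinPushA
import Groth.Agent.Lib.Helper2FPAff
import Groth.Agent.Lib.Helper1ChartInd2
import Groth.Agent.S0997
set_option backward.isDefEq.respectTransparency.types false

/-!
# helper1: on an affine scheme, maps in `D(O_X)` from a bounded above complex of finite locally
free modules to a complex of quasi-coherent modules are homotopy classes of maps of complexes
-/

set_option autoImplicit false
set_option linter.style.haveILetI false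
set_option linter.unusedSectionVars false
set_option maxHeartbeats 400000
universe w w' v v' u u'
open CategoryTheory CategoryTheory.Limits AlgebraicGeometry Opposite TopologicalSpace

attribute [local instance] HasDerivedCategory.standard

namespace Groth.Agent.Lib.Helper1.QhBij

open Groth.Agent.Lib.Helper1.SPL Groth.Agent.Lib.Helper1.PerfHom

section abstract1

variable {A : Type u} [Category.{v} A] [Preadditive A] {B : Type u'} [Category.{v'} B]
  [Preadditive B] (Φ : A ⥤ B) [Φ.Additive] [Φ.Full] [Φ.Faithful] {ι : Type*}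
  {c : ComplexShape ι}

/-- a complex whose terms are in the essential image of a fully faithful additive functor is in
the essential image of the induced functor on complexes -/
theorem exists_mapHomologicalComplex_iso (E : HomologicalComplex B c)
    (hE : ∀ i, Φ.essImage (E.X i)) :
    ∃ P : HomologicalComplex A c, Nonempty ((Φ.mapHomologicalComplex c).obj P ≅ E) := by
  have hE' : ∀ i, ∃ M : A, Nonempty (Φ.obj M ≅ E.X i) := hE
  choose M he using hE'
  obtain ⟨e⟩ : Nonempty (∀ i, Φ.obj (M i) ≅ E.X i) := ⟨fun i => (he i).some⟩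
  refine ⟨{ X := M
            d := fun i j => Φ.preimage ((e i).hom ≫ E.d i j ≫ (e j).inv)
            shape := fun i j hij => Φ.map_injective (by simp [E.shape i j hij])
            d_comp_d' := fun i j k _ _ => Φ.map_injective (by simp) },
    ⟨HomologicalComplex.Hom.isoOfComponents e (fun i j _ => ?_)⟩⟩
  change (e i).hom ≫ E.d i j = Φ.map (Φ.preimage ((e i).hom ≫ E.d i j ≫ (e j).inv)) ≫ (e j).hom
  rw [Functor.map_preimage, Category.assoc, Category.assoc, Iso.inv_hom_id, Category.comp_id]

/-- bijectivity of `G` on a Hom set is invariant under isomorphisms -/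
theorem bijective_map_of_iso {C : Type*} {D : Type*} [Category C] [Category D] (G : C ⥤ D)
    {X X' Y Y' : C} (a : X ≅ X') (b : Y ≅ Y')
    (h : Function.Bijective (fun φ : X ⟶ Y => G.map φ)) :
    Function.Bijective (fun φ : X' ⟶ Y' => G.map φ) := by
  constructor
  · intro f f' hff'
    have hff'' : G.map f = G.map f' := hff'
    have h1 : a.hom ≫ f ≫ b.inv = a.hom ≫ f' ≫ b.inv :=
      h.1 (by
        change G.map (a.hom ≫ f ≫ b.inv) = G.map (a.hom ≫ f' ≫ b.inv)
        rw [G.map_comp, G.map_comp, G.map_comp, G.map_comp, hff''])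
    rw [cancel_epi, cancel_mono] at h1
    exact h1
  · intro ψ
    obtain ⟨g, hg⟩ := h.2 (G.map a.hom ≫ ψ ≫ G.map b.inv)
    have hg' : G.map g = G.map a.hom ≫ ψ ≫ G.map b.inv := hg
    refine ⟨a.inv ≫ g ≫ b.hom, ?_⟩
    change G.map (a.inv ≫ g ≫ b.hom) = ψ
    rw [G.map_comp, G.map_comp, hg']
    simp only [Category.assoc, ← G.map_comp, Iso.inv_hom_id, G.map_id, Category.comp_id]
    rw [← Category.assoc, ← G.map_comp, Iso.inv_hom_id, G.map_id, Category.id_comp]

end abstract1

section abstract2

variable {A : Type u} [Category.{v} A] [Abelian A] [HasDerivedCategory.{w} A]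
  {B : Type u'} [Category.{v'} B] [Abelian B] [HasDerivedCategory.{w'} B]
  (Φ : A ⥤ B) [Φ.Additive] [PreservesFiniteLimits Φ] [PreservesFiniteColimits Φ]
  [Φ.Full] [Φ.Faithful] [Φ.mapDerivedCategory.Full] [Φ.mapDerivedCategory.Faithful]

open DerivedCategory in
/-- a fully faithful exact functor which is fully faithful on derived categories transports
the bijectivity of `Qh` on a Hom set -/
theorem bijective_Qh_map_of_bijective (P N : CochainComplex A ℤ)
    (h : Function.Bijective (fun φ : (HomotopyCategory.quotient A (ComplexShape.up ℤ)).obj P ⟶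
        (HomotopyCategory.quotient A (ComplexShape.up ℤ)).obj N => (Qh (C := A)).map φ)) :
    Function.Bijective (fun φ :
      (Φ.mapHomotopyCategory (ComplexShape.up ℤ)).obj
          ((HomotopyCategory.quotient A (ComplexShape.up ℤ)).obj P) ⟶
        (Φ.mapHomotopyCategory (ComplexShape.up ℤ)).obj
          ((HomotopyCategory.quotient A (ComplexShape.up ℤ)).obj N) => (Qh (C := B)).map φ) := by
  let ΦK := Φ.mapHomotopyCategory (ComplexShape.up ℤ)
  let τ := Φ.mapDerivedCategoryFactorsh
  let α : ∀ X : HomotopyCategory A (ComplexShape.up ℤ),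
      (Qh (C := B)).obj (ΦK.obj X) ≅ Φ.mapDerivedCategory.obj ((Qh (C := A)).obj X) :=
    fun X => (τ.app X).symm
  have nat : ∀ g : (HomotopyCategory.quotient A (ComplexShape.up ℤ)).obj P ⟶
      (HomotopyCategory.quotient A (ComplexShape.up ℤ)).obj N,
      (Qh (C := B)).map (ΦK.map g) = (α _).hom ≫ Φ.mapDerivedCategory.map (Qh.map g) ≫
        (α _).inv := by
    intro g
    have h1 : (Qh (C := B)).map (ΦK.map g) ≫ (α _).hom =
        (α _).hom ≫ Φ.mapDerivedCategory.map (Qh.map g) := τ.inv.naturality g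
    rw [← Category.assoc, ← h1, Category.assoc, Iso.hom_inv_id, Category.comp_id]
  constructor
  · intro f f' hff'
    obtain ⟨g, rfl⟩ := ΦK.map_surjective f
    obtain ⟨g', rfl⟩ := ΦK.map_surjective f'
    have hff'' : (Qh (C := B)).map (ΦK.map g) = (Qh (C := B)).map (ΦK.map g') := hff'
    rw [nat, nat, cancel_epi, cancel_mono] at hff''
    have h2 := Φ.mapDerivedCategory.map_injective hff''
    rw [h.1 h2]
  · intro ψ
    obtain ⟨χ, hχ⟩ := Φ.mapDerivedCategory.map_surjective ((α _).inv ≫ ψ ≫ (α _).hom)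
    obtain ⟨g, hg⟩ := h.2 χ
    have hg' : (Qh (C := A)).map g = χ := hg
    refine ⟨ΦK.map g, ?_⟩
    change (Qh (C := B)).map (ΦK.map g) = ψ
    rw [nat, hg', hχ]
    simp

end abstract2

section concrete

attribute [local instance] Groth.Agent.Lib.Helper1.KoszulPerf.preservesFiniteLimits_tilde_aux

variable {Z Z' : Scheme.{u}}

/-- restriction along a section of an open immersion -/
noncomputable def resDCompIso (e : Z' ⟶ Z) (e' : Z ⟶ Z') [IsOpenImmersion e] [IsOpenImmersion e']
    (h : e' ≫ e = 𝟙 Z) : resD e ⋙ resD e' ≅ 𝟭 (DCoh.D Z) :=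
  (resDComp e' e).symm ≪≫ (nonempty_resD_congr h).some ≪≫
    mapDIdIso _ (Scheme.Modules.restrictFunctorId (X := Z))

/-- derived restriction along an isomorphism of schemes is an equivalence -/
noncomputable def resDEquiv (e : Z' ⟶ Z) [IsIso e] : DCoh.D Z ≌ DCoh.D Z' :=
  CategoryTheory.Equivalence.mk (resD e) (resD (inv e))
    (resDCompIso e (inv e) (IsIso.inv_hom_id e)).symm
    (resDCompIso (inv e) e (IsIso.hom_inv_id e))

instance isEquivalence_resD (e : Z' ⟶ Z) [IsIso e] : (resD e).IsEquivalence :=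
  (resDEquiv e).isEquivalence_functor

instance isEquivalence_restrictFunctor (e : Z' ⟶ Z) [IsIso e] :
    (Scheme.Modules.restrictFunctor e).IsEquivalence :=
  (Groth.Agent.Lib.Helper1.FinPush.resEquiv e).isEquivalence_functor

variable (X : Scheme.{u}) [IsAffine X]

/-- the functor `M ↦ M~` for an affine scheme -/
noncomputable abbrev Φ : ModuleCat.{u} Γ(X, ⊤) ⥤ X.Modules :=
  tilde.functor Γ(X, ⊤) ⋙ Scheme.Modules.restrictFunctor X.isoSpec.hom

/-- the induced functor on derived categories -/
noncomputable def ΦDIso : DCoh.tildeD Γ(X, ⊤) ⋙ resD X.isoSpec.hom ≅ (Φ X).mapDerivedCategory :=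
  Groth.Agent.Lib.Helper1.ChartInd.mapDCompIso₂ (tilde.functor Γ(X, ⊤))
    (Scheme.Modules.restrictFunctor X.isoSpec.hom) (Φ X) (Iso.refl _)

instance : (Φ X).mapDerivedCategory.Full := by
  haveI : (DCoh.tildeD Γ(X, ⊤)).Full := (Groth.Agent.S0997.result Γ(X, ⊤)).1
  exact Functor.Full.of_iso (ΦDIso X)

instance : (Φ X).mapDerivedCategory.Faithful := by
  haveI : (DCoh.tildeD Γ(X, ⊤)).Faithful := (Groth.Agent.S0997.result Γ(X, ⊤)).2.1
  exact Functor.Faithful.of_iso (ΦDIso X)

theorem essImage_Φ (M : X.Modules) [M.IsQuasicoherent] : (Φ X).essImage M := by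
  let M' := (Scheme.Modules.restrictFunctor (inv X.isoSpec.hom)).obj M
  haveI : M'.IsQuasicoherent := inferInstance
  have h1 : (tilde.functor Γ(X, ⊤)).essImage M' := by
    rw [essImage_tilde]
    exact ‹M'.IsQuasicoherent›
  obtain ⟨N, ⟨a⟩⟩ := h1
  exact ⟨N, ⟨(Scheme.Modules.restrictFunctor X.isoSpec.hom).mapIso a ≪≫
    (Groth.Agent.Lib.Helper1.FinPush.resEquiv X.isoSpec.hom).counitIso.app M⟩⟩

variable {X}

open DerivedCategory in
theorem bijective_Qh_map (E F : CochainComplex X.Modules ℤ) (b : ℤ)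
    (hEb : ∀ i : ℤ, b < i → IsZero (E.X i))
    (hE : ∀ i : ℤ, FlatMod.IsFinLocFree (E.X i)) (hF : ∀ i : ℤ, Coh.IsQCoh (F.X i)) :
    Function.Bijective (fun φ : (HomotopyCategory.quotient X.Modules (ComplexShape.up ℤ)).obj E ⟶
        (HomotopyCategory.quotient X.Modules (ComplexShape.up ℤ)).obj F =>
      (DerivedCategory.Qh (C := X.Modules)).map φ) := by
  have hEq : ∀ i, (E.X i).IsQuasicoherent := fun i =>
    Groth.Agent.Lib.Helper21.HZB.isQuasicoherent_of_isFinLocFree _ (hE i)
  obtain ⟨P, ⟨a⟩⟩ := exists_mapHomologicalComplex_iso (Φ X) E (fun i => by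
    haveI := hEq i
    exact essImage_Φ X (E.X i))
  obtain ⟨N, ⟨c⟩⟩ := exists_mapHomologicalComplex_iso (Φ X) F (fun i => by
    haveI : (F.X i).IsQuasicoherent := hF i
    exact essImage_Φ X (F.X i))
  have ai : ∀ i, (Φ X).obj (P.X i) ≅ E.X i := fun i =>
    (HomologicalComplex.eval _ _ i).mapIso a
  have hPz : ∀ i : ℤ, b < i → IsZero (P.X i) := by
    intro i hi
    have h1 : IsZero ((Φ X).obj (P.X i)) := (hEb i hi).of_iso (ai i)
    rw [IsZero.iff_id_eq_zero] at h1 ⊢
    apply (Φ X).map_injective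
    rw [CategoryTheory.Functor.map_id, h1, CategoryTheory.Functor.map_zero]
  have hPp : ∀ i : ℤ, Module.Projective Γ(X, ⊤) (P.X i) := by
    intro i
    have h1 : FlatMod.IsFinLocFree ((Φ X).obj (P.X i)) :=
      Groth.Agent.Lib.Helper1.FLF.isFinLocFree_of_iso (ai i).symm (hE i)
    have h2 : FlatMod.IsFinLocFree ((Scheme.Modules.restrictFunctor (inv X.isoSpec.hom)).obj
        ((Φ X).obj (P.X i))) := isFinLocFree_restrict _ _ h1
    have h3 : FlatMod.IsFinLocFree (tilde (P.X i)) :=
      Groth.Agent.Lib.Helper1.FLF.isFinLocFree_of_iso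
        ((Groth.Agent.Lib.Helper1.FinPush.resEquiv X.isoSpec.hom).unitIso.app _).symm h2
    exact ((Groth.Agent.Lib.Helper2.FPAff.isFinLocFree_tilde_iff _ _).1 h3).2
  haveI : CochainComplex.IsKProjective P :=
    Groth.Agent.Lib.Helper1.LDer.isKProjective_of_vanishesAbove P b hPz hPp
  have h0 := CochainComplex.IsKProjective.Qh_map_bijective P
    ((HomotopyCategory.quotient _ (ComplexShape.up ℤ)).obj N)
  have h1 := bijective_Qh_map_of_bijective (Φ X) P N h0
  exact bijective_map_of_iso Qh ((HomotopyCategory.quotient _ (ComplexShape.up ℤ)).mapIso a)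
    ((HomotopyCategory.quotient _ (ComplexShape.up ℤ)).mapIso c) h1

end concrete

end Groth.Agent.Lib.Helper1.QhBij
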