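import Mathlib
import Groth.Agent.Lib.Helper1CountHomA
import Groth.Agent.Lib.Helper1PerfHomC
import Groth.Agent.Lib.Helper1QhBij
set_option backward.isDefEq.respectTransparency.types false

/-!
# helper1: countability of `Hom(E, K)` for `E` perfect and `K ∈ D_QCoh` with countable sections,
on a quasi-compact quasi-separated scheme
-/

set_option autoImplicit false
set_option linter.style.haveILetI false
set_option linter.unusedSectionVars false
set_option maxHeartbeats 400000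
universe u
open CategoryTheory CategoryTheory.Limits AlgebraicGeometry Opposite TopologicalSpace Pretriangulated

attribute [local instance] HasDerivedCategory.standard

namespace Groth.Agent.Lib.Helper1.CountHom

open Groth.Agent.Lib.Helper1.SPL Groth.Agent.Lib.Helper1.ExtVan Groth.Agent.Lib.Helper1.PerfHom
  Groth.Agent.Lib.Helper1.QhBij

attribute [local instance] Groth.Agent.Lib.Helper17.QCPush.hasRpush
attribute [local instance] Groth.Agent.Lib.Helper1.KoszulPerf.preservesFiniteLimits_tilde_aux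

variable {X : Scheme.{u}}

/-- the cohomology sheaves have countably many sections over every affine open -/
def CntSec (N : DCoh.D X) : Prop :=
  ∀ V : X.Opens, IsAffineOpen V → ∀ i : ℤ, Countable ((DCoh.HD N i).val.obj (op V))

lemma countable_sections_of_iso {M M' : X.Modules} (e : M ≅ M') (V : X.Opens)
    (h : Countable (M.val.obj (op V))) : Countable (M'.val.obj (op V)) := by
  have hs : Function.Surjective (fun x : M.val.obj (op V) => (e.hom.val.app (op V)).hom x) :=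
    fun y => ⟨(e.inv.val.app (op V)).hom y,
      congrArg (fun t : M' ⟶ M' => (t.val.app (op V)).hom y) e.inv_hom_id⟩
  exact hs.countable

lemma CntSec.of_iso {N N' : DCoh.D X} (e : N ≅ N') (h : CntSec N) : CntSec N' :=
  fun V hV i => countable_sections_of_iso ((DerivedCategory.homologyFunctor _ i).mapIso e) V
    (h V hV i)

lemma CntSec.shift {N : DCoh.D X} (h : CntSec N) (n : ℤ) : CntSec (N⟦n⟧) :=
  fun V hV i => countable_sections_of_iso (HDShiftIso N n i).symm V (h V hV (n + i))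

lemma CntSec.resD {N : DCoh.D X} (h : CntSec N) {U : Scheme.{u}} (j : U ⟶ X)
    [IsOpenImmersion j] : CntSec ((resD j).obj N) := by
  intro W hW i
  have h1 : Countable (((Scheme.Modules.restrictFunctor j).obj (DCoh.HD N i)).val.obj (op W)) :=
    h (j ''ᵁ W) (hW.image_of_isOpenImmersion j) i
  exact countable_sections_of_iso (HDRestrictIso j N i).symm W h1

lemma countable_of_countable_sections_tilde (R : CommRingCat.{u}) (H : ModuleCat.{u} R)
    (h : Countable (((tilde.functor R).obj H).val.obj (op ⊤))) : Countable H := by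
  have h' : Countable ((modulesSpecToSheaf.obj (tilde H)).presheaf.obj (op ⊤)) := h
  have hi : Function.Injective (fun x : H => (tilde.isoTop H).hom.hom x) :=
    (ModuleCat.mono_iff_injective _).1 inferInstance
  exact hi.countable

/-- the case of `Spec A` -/
theorem countable_hom_spec (A : Type u) [CommRing A] (K N : DCoh.D (Spec (CommRingCat.of A)))
    (hK : DCoh.IsPerfect K) (hN : DCoh.IsQCohD N) (hc : CntSec N) : Countable (K ⟶ N) := by
  obtain ⟨hfull, hfaith, hess⟩ := Groth.Agent.S0997.result (CommRingCat.of A)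
  haveI := hfull
  haveI := hfaith
  obtain ⟨M, ⟨eM⟩⟩ := (hess K).1 (isQCohD_of_isPerfect K hK)
  obtain ⟨MN, ⟨eN⟩⟩ := (hess N).1 hN
  have hM : DRing.IsPerfect A M := (Groth.Agent.S1105.result A M).1
    (Groth.Agent.Lib.Helper4.PerfSupp.isPerfect_of_iso eM.symm hK)
  obtain ⟨E, a, b, hv, hfp, ⟨eE⟩⟩ := hM
  have hMN : ∀ i : ℤ, Countable ((DerivedCategory.homologyFunctor (ModuleCat.{u} A) i).obj MN) := by
    intro i
    apply countable_of_countable_sections_tilde (CommRingCat.of A)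
    exact countable_sections_of_iso
      ((DerivedCategory.homologyFunctor _ i).mapIso eN.symm ≪≫
        (Groth.Agent.Lib.Helper17.Hyp.homologyNatIso (tilde.functor (CommRingCat.of A)) i).app MN)
      ⊤ (hc ⊤ (isAffineOpen_top _) i)
  have h1 : Countable (DerivedCategory.Q.obj E ⟶ MN) := countable_hom E a b hv hfp MN hMN
  have h2 : Countable (M ⟶ MN) := countable_hom_of_iso eE (Iso.refl _) h1
  have h3 : Countable ((DCoh.tildeD (CommRingCat.of A)).obj M ⟶
      (DCoh.tildeD (CommRingCat.of A)).obj MN) :=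
    ((DCoh.tildeD (CommRingCat.of A)).map_surjective).countable
  exact countable_hom_of_iso eM eN h3

/-- the case of an affine scheme -/
theorem countable_hom_of_isAffine {Z : Scheme.{u}} [IsAffine Z] (K N : DCoh.D Z)
    (hK : DCoh.IsPerfect K) (hN : DCoh.IsQCohD N) (hc : CntSec N) : Countable (K ⟶ N) := by
  let e : Spec Γ(Z, ⊤) ⟶ Z := Z.isoSpec.inv
  have h1 : Countable ((resD e).obj K ⟶ (resD e).obj N) :=
    countable_hom_spec Γ(Z, ⊤) _ _ (isPerfect_resD e K hK) (isQCohD_restrictD e N hN) (hc.resD e)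
  exact ((resD e).map_injective).countable

/-- adjunction transfer of countability -/
theorem countable_hom_rpush (W : X.Opens) (K : DCoh.D X) (G : DCoh.D (W : Scheme.{u}))
    (h : Countable ((DCoh.restrictD W.ι).obj K ⟶ G)) :
    Countable (K ⟶ (DCoh.Rpush W.ι).obj G) := by
  haveI : DCoh.HasLpull W.ι := Groth.Agent.Lib.Helper1.Sky.hasLpull W.ι
  obtain ⟨ι₀⟩ := nonempty_lpull_iso_restrictD W K
  let adj := Groth.Agent.Lib.Helper1.DAdj.lpullRpushAdj W.ι
  have h1 : Countable ((DCoh.Lpull W.ι).obj K ⟶ G) := countable_hom_of_iso ι₀.symm (Iso.refl _) h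
  exact ((adj.homEquiv K G).symm.injective).countable

/-- the inductive property -/
def PIndC (K : DCoh.D X) (U : X.Opens) : Prop :=
  ∀ (Z : Scheme.{u}) (i : Z ⟶ X) [IsOpenImmersion i], i.opensRange = U →
    ∀ N : DCoh.D Z, DCoh.IsQCohD N → CntSec N → Countable ((resD i).obj K ⟶ N)

theorem pIndC_affine (K : DCoh.D X) (hK : DCoh.IsPerfect K) (U : X.Opens) (hU : IsAffineOpen U) :
    PIndC K U := by
  intro Z i _ hi N hN hc
  haveI : IsAffine Z := by
    have h : IsAffineOpen i.opensRange := hi ▸ hU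
    haveI : IsAffine (i.opensRange : Scheme.{u}) := h
    exact IsAffine.of_isIso i.isoOpensRange.hom
  exact countable_hom_of_isAffine _ N (isPerfect_resD i K hK) hN hc

theorem pIndC_sup (K : DCoh.D X) (U V : X.Opens) (hU : PIndC K U) (hV : PIndC K V)
    (hUV : PIndC K (U ⊓ V)) : PIndC K (U ⊔ V) := by
  intro Z i _ hi N hN hc
  have hcov : i ⁻¹ᵁ U ⊔ i ⁻¹ᵁ V = ⊤ := by
    rw [← Scheme.Hom.preimage_sup, ← hi, Scheme.Hom.preimage_opensRange]
  have key : ∀ (W : X.Opens) (W' : Z.Opens), W' = i ⁻¹ᵁ W → W ≤ U ⊔ V → PIndC K W →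
      ∀ G : DCoh.D (W' : Scheme.{u}), DCoh.IsQCohD G → CntSec G →
        Countable ((DCoh.restrictD W'.ι).obj ((resD i).obj K) ⟶ G) := by
    intro W W' hW' hWle hP G hG hGc
    subst hW'
    have hr : ((i ⁻¹ᵁ W).ι ≫ i).opensRange = W := by
      rw [Scheme.Hom.opensRange_comp, Scheme.Opens.opensRange_ι,
        Scheme.Hom.image_preimage_eq_opensRange_inf, hi]
      exact inf_eq_right.2 hWle
    have h1 := hP _ ((i ⁻¹ᵁ W).ι ≫ i) hr G hG hGc
    exact countable_hom_of_iso ((resDComp (i ⁻¹ᵁ W).ι i).app K) (Iso.refl _) h1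
  obtain ⟨α, β, γ, hT⟩ := Groth.Agent.Lib.Helper17.MV.mv_triangle (i ⁻¹ᵁ U) (i ⁻¹ᵁ V) hcov N
  have hA : Countable ((resD i).obj K ⟶
      (DCoh.Rpush (i ⁻¹ᵁ U).ι).obj ((DCoh.restrictD (i ⁻¹ᵁ U).ι).obj N)) :=
    countable_hom_rpush _ _ _ (key U _ rfl le_sup_left hU _
      (isQCohD_restrictD (i ⁻¹ᵁ U).ι N hN) (hc.resD (i ⁻¹ᵁ U).ι))
  have hB : Countable ((resD i).obj K ⟶
      (DCoh.Rpush (i ⁻¹ᵁ V).ι).obj ((DCoh.restrictD (i ⁻¹ᵁ V).ι).obj N)) :=
    countable_hom_rpush _ _ _ (key V _ rfl le_sup_right hV _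
      (isQCohD_restrictD (i ⁻¹ᵁ V).ι N hN) (hc.resD (i ⁻¹ᵁ V).ι))
  have h2 : Countable ((resD i).obj K ⟶
      ((DCoh.Rpush (i ⁻¹ᵁ U).ι).obj ((DCoh.restrictD (i ⁻¹ᵁ U).ι).obj N) ⊞
        (DCoh.Rpush (i ⁻¹ᵁ V).ι).obj ((DCoh.restrictD (i ⁻¹ᵁ V).ι).obj N))) := by
    have hinj : Function.Injective (fun ψ : (resD i).obj K ⟶
        ((DCoh.Rpush (i ⁻¹ᵁ U).ι).obj ((DCoh.restrictD (i ⁻¹ᵁ U).ι).obj N) ⊞
          (DCoh.Rpush (i ⁻¹ᵁ V).ι).obj ((DCoh.restrictD (i ⁻¹ᵁ V).ι).obj N)) =>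
        (ψ ≫ biprod.fst, ψ ≫ biprod.snd)) := by
      intro ψ ψ' h
      apply biprod.hom_ext
      · exact congrArg Prod.fst h
      · exact congrArg Prod.snd h
    exact hinj.countable
  have h3 : Countable ((resD i).obj K ⟶
      ((DCoh.Rpush (i ⁻¹ᵁ U ⊓ i ⁻¹ᵁ V).ι).obj
        ((DCoh.restrictD (i ⁻¹ᵁ U ⊓ i ⁻¹ᵁ V).ι).obj N))⟦(-1 : ℤ)⟧) := by
    haveI := Groth.Agent.Lib.Helper17.MV.isGrothendieckAbelian
      ((i ⁻¹ᵁ U ⊓ i ⁻¹ᵁ V : Z.Opens) : Scheme.{u})
    obtain ⟨e⟩ := Groth.Agent.Lib.Helper1.RDTri.nonempty_shift_iso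
      (Scheme.Modules.pushforward (i ⁻¹ᵁ U ⊓ i ⁻¹ᵁ V).ι)
      ((DCoh.restrictD (i ⁻¹ᵁ U ⊓ i ⁻¹ᵁ V).ι).obj N) (-1)
    have h4 := countable_hom_rpush (i ⁻¹ᵁ U ⊓ i ⁻¹ᵁ V) ((resD i).obj K) _
      (key (U ⊓ V) (i ⁻¹ᵁ U ⊓ i ⁻¹ᵁ V) rfl (inf_le_left.trans le_sup_left) hUV _
        (isQCohD_shift _ (isQCohD_restrictD (i ⁻¹ᵁ U ⊓ i ⁻¹ᵁ V).ι N hN) (-1))
        ((hc.resD (i ⁻¹ᵁ U ⊓ i ⁻¹ᵁ V).ι).shift (-1)))
    exact countable_hom_of_iso (Iso.refl _) e h4
  have hT0 := inv_rot_of_distTriang _ hT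
  exact countable_hom_obj₂ _ _ hT0 h3 h2

/-- **countability of Hom from a perfect object** -/
theorem countable_hom_of_qcqs (X : Scheme.{u}) [CompactSpace X] [QuasiSeparatedSpace X]
    (K : DCoh.D X) (hK : DCoh.IsPerfect K) (U : X.Opens) (hU : IsCompact (U : Set X)) :
    PIndC K U :=
  Groth.Agent.S0015.result X (PIndC K) (pIndC_affine K hK)
    (fun U V _ _ hU hV hUV => pIndC_sup K U V hU hV hUV) U hU

end Groth.Agent.Lib.Helper1.CountHom
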