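import Mathlib
import Groth.Agent.Lib.Helper1DT5
import Groth.Prelude.Def_DTen6
set_option backward.isDefEq.respectTransparency.types false

/-!
# The iterated mixed derived tensor products (helper1, DTen part 6)
-/

set_option autoImplicit false
set_option maxHeartbeats 400000
universe u
open CategoryTheory CategoryTheory.Limits MonoidalCategory HomologicalComplex
attribute [local instance] HasDerivedCategory.standard

namespace Groth.Agent.Lib.Helper1.DT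

open DerivedCategory Groth.Agent.Lib.Helper1.KF DTen

section mixflat

variable {R A : Type u} [CommRing R] [CommRing A] (φ : R →+* A) [HasLTenMix φ]

/-- the counit of the mixed derived tensor product at `(X, K)` with `X` K-flat and `K`
K-projective is an isomorphism -/
theorem isIso_εMix_of_kflat_of_isKProjective (X : Cx R) (hX : KFlat X) (K : Cx A)
    [K.IsKProjective] : IsIso ((εMix φ).app (X, K)) := by
  obtain ⟨P, π, hP, -, hπ, -⟩ := exists_kprojective_resolution X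
  have hPf : KFlat P := kflat_of_isKProjective P
  have e := (εMix φ).naturality (Prod.mkHom π (𝟙 K) : (P, K) ⟶ (X, K))
  have h1 : IsIso ((εMix φ).app (P, K)) := isIso_εMix_of_isKProjective φ P K
  have h2 : IsIso ((QMix R A ⋙ LTenMix φ).map (Prod.mkHom π (𝟙 K) : (P, K) ⟶ (X, K))) := by
    have : IsIso (Q.map π) := (DerivedCategory.isIso_Q_map_iff_quasiIso (φ := π)).2 hπ
    have : IsIso ((QMix R A).map (Prod.mkHom π (𝟙 K) : (P, K) ⟶ (X, K))) := by
      rw [isIso_prod_iff]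
      exact ⟨inferInstanceAs (IsIso (Q.map π)), inferInstanceAs (IsIso (Q.map (𝟙 K)))⟩
    exact Functor.map_isIso (LTenMix φ) _
  have h3 : IsIso ((mix₂ φ).map (Prod.mkHom π (𝟙 K) : (P, K) ⟶ (X, K))) := by
    have hq1 := quasiIso_extCx_map_of_kflat φ π hPf hX
    have hq : QuasiIso ((extCx φ).map π ▷ K) :=
      quasiIso_whiskerRight_of_kflat _ K (kflat_of_isKProjective K)
    have : IsIso (Q.map ((extCx φ).map π ▷ K)) :=
      (DerivedCategory.isIso_Q_map_iff_quasiIso (φ := (extCx φ).map π ▷ K)).2 hq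
    dsimp
    rw [MonoidalCategory.whiskerLeft_id, Category.comp_id]
    exact this
  have h4 : (εMix φ).app (X, K) =
      inv ((QMix R A ⋙ LTenMix φ).map (Prod.mkHom π (𝟙 K) : (P, K) ⟶ (X, K))) ≫
        (εMix φ).app (P, K) ≫ (mix₂ φ).map (Prod.mkHom π (𝟙 K) : (P, K) ⟶ (X, K)) := by
    rw [IsIso.eq_inv_comp]
    exact e
  rw [h4]
  infer_instance

/-- the counit of the mixed derived tensor product at `(M, Y)` with `M` K-projective and `Y`
arbitrary is an isomorphism -/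
theorem isIso_εMix_of_isKProjective_left (M : Cx R) [M.IsKProjective] (Y : Cx A) :
    IsIso ((εMix φ).app (M, Y)) := by
  obtain ⟨P, π, hP, -, hπ, -⟩ := exists_kprojective_resolution Y
  have e := (εMix φ).naturality (Prod.mkHom (𝟙 M) π : (M, P) ⟶ (M, Y))
  have h1 : IsIso ((εMix φ).app (M, P)) := isIso_εMix_of_isKProjective φ M P
  have h2 : IsIso ((QMix R A ⋙ LTenMix φ).map (Prod.mkHom (𝟙 M) π : (M, P) ⟶ (M, Y))) := by
    have : IsIso (Q.map π) := (DerivedCategory.isIso_Q_map_iff_quasiIso (φ := π)).2 hπ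
    have : IsIso ((QMix R A).map (Prod.mkHom (𝟙 M) π : (M, P) ⟶ (M, Y))) := by
      rw [isIso_prod_iff]
      exact ⟨inferInstanceAs (IsIso (Q.map (𝟙 M))), inferInstanceAs (IsIso (Q.map π))⟩
    exact Functor.map_isIso (LTenMix φ) _
  have h3 : IsIso ((mix₂ φ).map (Prod.mkHom (𝟙 M) π : (M, P) ⟶ (M, Y))) := by
    have hq : QuasiIso ((extCx φ).obj M ◁ π) :=
      quasiIso_whiskerLeft_of_kflatL π _ (kflat_of_isKProjective ((extCx φ).obj M)).kflatL
    have : IsIso (Q.map ((extCx φ).obj M ◁ π)) :=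
      (DerivedCategory.isIso_Q_map_iff_quasiIso (φ := (extCx φ).obj M ◁ π)).2 hq
    dsimp
    rw [CategoryTheory.Functor.map_id, MonoidalCategory.id_whiskerRight, Category.id_comp]
    exact this
  have h4 : (εMix φ).app (M, Y) =
      inv ((QMix R A ⋙ LTenMix φ).map (Prod.mkHom (𝟙 M) π : (M, P) ⟶ (M, Y))) ≫
        (εMix φ).app (M, P) ≫ (mix₂ φ).map (Prod.mkHom (𝟙 M) π : (M, P) ⟶ (M, Y)) := by
    rw [IsIso.eq_inv_comp]
    exact e
  rw [h4]
  infer_instance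

end mixflat

section triple

variable {A B C : Type u} [CommRing A] [CommRing B] [CommRing C] (φ : A →+* B) (ψ : B →+* C)

/-- the counit of the jointly derived mixed triple tensor product is an isomorphism on triples of
K-projectives -/
theorem isIso_εMix₃_of_isKProjective [HasLTenMix₃ φ ψ] (M : Cx A) (N : Cx B) (K : Cx C)
    [M.IsKProjective] [N.IsKProjective] [K.IsKProjective] :
    IsIso ((εMix₃ φ ψ).app (M, (N, K))) := by
  have := Functor.IsLeftDerivedFunctor.isRightKanExtension (LTenMix₃ φ ψ) (εMix₃ φ ψ)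
    (qisMix₃ A B C)
  have hsm : ∀ Z : Dual.D A × (Dual.D B × Dual.D C),
      Small.{u} ((QMix₃ A B C).obj (M, (N, K)) ⟶ Z) := fun Z => by
    show Small.{u} ((Q.obj M ⟶ Z.1) × ((Q.obj N ⟶ Z.2.1) × (Q.obj K ⟶ Z.2.2)))
    infer_instance
  refine isIso_counit_app'.{u} (QMix₃ A B C) (mix₃ φ ψ) (LTenMix₃ φ ψ) (εMix₃ φ ψ) (M, (N, K))
    ?_ ?_
  · rintro ⟨Y₁, Y₂, Y₃⟩ ⟨g₁, g₂, g₃⟩
    obtain ⟨f₁, rfl⟩ := Q_map_surjective M Y₁ g₁
    obtain ⟨f₂, rfl⟩ := Q_map_surjective N Y₂ g₂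
    obtain ⟨f₃, rfl⟩ := Q_map_surjective K Y₃ g₃
    exact ⟨(f₁, (f₂, f₃)), rfl⟩
  · rintro ⟨Y₁, Y₂, Y₃⟩ ⟨f₁, f₂, f₃⟩ ⟨g₁, g₂, g₃⟩ h
    obtain ⟨h1⟩ := homotopy_of_Q_map_eq M Y₁ f₁ g₁ (congrArg Prod.fst h)
    obtain ⟨h2⟩ := homotopy_of_Q_map_eq N Y₂ f₂ g₂ (congrArg (fun t => t.2.1) h)
    obtain ⟨h3⟩ := homotopy_of_Q_map_eq K Y₃ f₃ g₃ (congrArg (fun t => t.2.2) h)
    obtain ⟨h12⟩ := homotopy_tensorHom ((ModuleCat.extendScalars.{u, u, u} φ).mapHomotopy h1) h2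
    obtain ⟨h123⟩ := homotopy_tensorHom
      ((ModuleCat.extendScalars.{u, u, u} ψ).mapHomotopy h12) h3
    dsimp [prod.inverseAssociator]
    rw [← MonoidalCategory.tensorHom_def, ← MonoidalCategory.tensorHom_def,
      ← MonoidalCategory.tensorHom_def, ← MonoidalCategory.tensorHom_def]
    exact Q_map_eq_of_homotopy h123

variable [HasLTenMix φ] [HasLTenMix ψ] [HasLTenMix (ψ.comp φ)] [HasLTenMix₃ φ ψ]

lemma isIso_leg₃L_app_Q (M : Cx A) (N : Cx B) (K : Cx C)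
    [M.IsKProjective] [N.IsKProjective] [K.IsKProjective] :
    IsIso ((leg₃L φ ψ).app ((QMix₃ A B C).obj (M, (N, K)))) := by
  have h := leg₃L_fac φ ψ (M, (N, K))
  have h1 := isIso_εMix₃_of_isKProjective φ ψ M N K
  have h2 : IsIso ((β₃L φ ψ).app (M, (N, K))) := by
    dsimp [β₃L]
    have i1 : IsIso ((εMix φ).app (M, N)) := isIso_εMix_of_isKProjective φ M N
    have hX : KFlat ((mixT φ).obj (M, N)) :=
      kflat_tensor (kflat_of_isKProjective ((extCx φ).obj M)) (kflat_of_isKProjective N)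
    have i2 : IsIso ((εMix ψ).app ((mixT φ).obj (M, N), K)) :=
      isIso_εMix_of_kflat_of_isKProjective ψ _ hX K
    have i3 : IsIso (Prod.mkHom ((εMix φ).app (M, N)) (𝟙 (Q.obj K))) := by
      rw [isIso_prod_iff]
      exact ⟨i1, inferInstanceAs (IsIso (𝟙 (Q.obj K)))⟩
    have i5 : IsIso ((LTenMix ψ).map (Prod.mkHom ((εMix φ).app (M, N)) (𝟙 (Q.obj K)))) :=
      Functor.map_isIso _ _
    exact IsIso.comp_isIso' i5 i2
  have h3 : (leg₃L φ ψ).app ((QMix₃ A B C).obj (M, (N, K))) =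
      (β₃L φ ψ).app (M, (N, K)) ≫ inv ((εMix₃ φ ψ).app (M, (N, K))) := by
    rw [IsIso.eq_comp_inv]; exact h
  rw [h3]
  infer_instance

lemma isIso_leg₃R_app_Q (M : Cx A) (N : Cx B) (K : Cx C)
    [M.IsKProjective] [N.IsKProjective] [K.IsKProjective] :
    IsIso ((leg₃R φ ψ).app ((QMix₃ A B C).obj (M, (N, K)))) := by
  have h := leg₃R_fac φ ψ (M, (N, K))
  have h1 := isIso_εMix₃_of_isKProjective φ ψ M N K
  have h2 : IsIso ((β₃R φ ψ).app (M, (N, K))) := by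
    dsimp [β₃R]
    have i1 : IsIso ((εMix ψ).app (N, K)) := isIso_εMix_of_isKProjective ψ N K
    have i2 : IsIso ((εMix (ψ.comp φ)).app (M, (mixT ψ).obj (N, K))) :=
      isIso_εMix_of_isKProjective_left (ψ.comp φ) M _
    have i3 : IsIso (Prod.mkHom (𝟙 (Q.obj M)) ((εMix ψ).app (N, K))) := by
      rw [isIso_prod_iff]
      exact ⟨inferInstanceAs (IsIso (𝟙 (Q.obj M))), i1⟩
    have i4 : IsIso (Q.map ((θ₃ φ ψ).inv.app (M, (N, K)))) := inferInstance
    have i5 : IsIso ((LTenMix (ψ.comp φ)).map (Prod.mkHom (𝟙 (Q.obj M)) ((εMix ψ).app (N, K)))) :=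
      Functor.map_isIso _ _
    exact IsIso.comp_isIso' i5 (IsIso.comp_isIso' i2 i4)
  have h3 : (leg₃R φ ψ).app ((QMix₃ A B C).obj (M, (N, K))) =
      (β₃R φ ψ).app (M, (N, K)) ≫ inv ((εMix₃ φ ψ).app (M, (N, K))) := by
    rw [IsIso.eq_comp_inv]; exact h
  rw [h3]
  infer_instance

omit [HasLTenMix φ] [HasLTenMix ψ] [HasLTenMix (ψ.comp φ)] [HasLTenMix₃ φ ψ] in
lemma exists_kproj_mix_triple_iso (E : Dual.D A) (F : Dual.D B) (G : Dual.D C) :
    ∃ (M : Cx A) (N : Cx B) (K : Cx C), M.IsKProjective ∧ N.IsKProjective ∧ K.IsKProjective ∧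
      Nonempty ((QMix₃ A B C).obj (M, (N, K)) ≅ (E, (F, G))) := by
  obtain ⟨P₁, h₁, -, ⟨e₁⟩⟩ := exists_kproj_iso E
  obtain ⟨P₂, h₂, -, ⟨e₂⟩⟩ := exists_kproj_iso F
  obtain ⟨P₃, h₃, -, ⟨e₃⟩⟩ := exists_kproj_iso G
  exact ⟨P₁, P₂, P₃, h₁, h₂, h₃, ⟨Iso.prod e₁ (Iso.prod e₂ e₃)⟩⟩

theorem isIso_leg₃L_app (E : Dual.D A) (F : Dual.D B) (G : Dual.D C) :
    IsIso ((leg₃L φ ψ).app (E, (F, G))) := by
  obtain ⟨M, N, K, h₁, h₂, h₃, ⟨e⟩⟩ := exists_kproj_mix_triple_iso E F G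
  have := isIso_leg₃L_app_Q φ ψ M N K
  exact (NatTrans.isIso_app_iff_of_iso (leg₃L φ ψ) e).1 this

theorem isIso_leg₃R_app (E : Dual.D A) (F : Dual.D B) (G : Dual.D C) :
    IsIso ((leg₃R φ ψ).app (E, (F, G))) := by
  obtain ⟨M, N, K, h₁, h₂, h₃, ⟨e⟩⟩ := exists_kproj_mix_triple_iso E F G
  have := isIso_leg₃R_app_Q φ ψ M N K
  exact (NatTrans.isIso_app_iff_of_iso (leg₃R φ ψ) e).1 this

end triple

end Groth.Agent.Lib.Helper1.DT
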