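import Mathlib

/-!
# Canonical truncation `truncGE` of short exact sequences of cochain complexes (helper23)

* `πTruncGE_f_eq`, `isIso_πTruncGE_f`: degreewise description of `K.πTruncGE n`.
* `mono_fromOpcycles`, `injective_opcycles_of_isGE`, `injective_truncGE_X`:
  for a bounded below complex of injectives which is acyclic in degrees `< n`,
  the terms of `K.truncGE n` are injective.
* `mono_opcyclesMap`, `truncGE_shortExact`: `truncGE n` preserves short exact sequences
  `0 → X₁ → X₂ → X₃ → 0` when `X₃` is acyclic in degrees `< n`.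
* `isGE_of_quasiIso`.
-/

set_option autoImplicit false
universe v u
open CategoryTheory CategoryTheory.Limits

namespace Groth.Agent.Lib.Helper23TruncGE

variable {C : Type u} [Category.{v} C] [Abelian C]

open HomologicalComplex in
@[reassoc]
theorem πTruncGE_f_eq (K : CochainComplex C ℤ) (n : ℤ) :
    (K.πTruncGE n).f n = K.pOpcycles n ≫ (K.truncGEXIsoOpcycles n).inv := by
  have hi : (ComplexShape.embeddingUpIntGE n).f 0 = n := by simp
  have hb : (ComplexShape.embeddingUpIntGE n).BoundaryGE 0 := by
    rw [ComplexShape.boundaryGE_embeddingUpIntGE_iff]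
  dsimp [CochainComplex.πTruncGE, HomologicalComplex.πTruncGE]
  rw [(ComplexShape.embeddingUpIntGE n).liftExtend_f _ _ hi,
    K.restrictionToTruncGE'_f_eq_iso_hom_pOpcycles_iso_inv _ hi hb]
  simp only [Category.assoc, Iso.inv_hom_id_assoc]
  rfl

set_option backward.isDefEq.respectTransparency false in
theorem isIso_πTruncGE_f (K : CochainComplex C ℤ) (n k : ℤ) (hk : n < k) :
    IsIso ((K.πTruncGE n).f k) := by
  obtain ⟨i, rfl⟩ : ∃ i : ℕ, k = n + i := ⟨(k - n).toNat, by lia⟩
  have hi : (ComplexShape.embeddingUpIntGE n).f i = n + i := by simp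
  have hb : ¬ (ComplexShape.embeddingUpIntGE n).BoundaryGE i := by
    rw [ComplexShape.boundaryGE_embeddingUpIntGE_iff]; lia
  dsimp [CochainComplex.πTruncGE, HomologicalComplex.πTruncGE]
  rw [(ComplexShape.embeddingUpIntGE n).isIso_liftExtend_f_iff _ _ hi]
  exact K.isIso_restrictionToTruncGE' _ i hb


theorem mono_fromOpcycles (K : CochainComplex C ℤ) (i j : ℤ) (hij : i + 1 = j) (h : K.ExactAt i) :
    Mono (K.fromOpcycles i j) := by
  apply Preadditive.mono_of_cancel_zero
  intro P z hz
  have hlim := K.homologyIsKernel i j (by simp [← hij])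
  obtain ⟨w, hw⟩ := KernelFork.IsLimit.lift' hlim z hz
  have h0 : IsZero (K.homology i) := by rwa [← K.exactAt_iff_isZero_homology]
  dsimp at hw
  rw [← hw, h0.eq_of_tgt w 0, zero_comp]

theorem injective_opcycles_succ (K : CochainComplex C ℤ) (i j : ℤ) (hij : i + 1 = j)
    (h : K.ExactAt i) [Injective (K.opcycles i)] [Injective (K.X j)] : Injective (K.opcycles j) := by
  have hz : K.fromOpcycles i j ≫ K.pOpcycles j = 0 := by
    rw [← cancel_epi (K.pOpcycles i), K.p_fromOpcycles_assoc, comp_zero, K.d_pOpcycles]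
  let S : ShortComplex C := ShortComplex.mk (K.fromOpcycles i j) (K.pOpcycles j) hz
  have : Mono S.f := mono_fromOpcycles K i j hij h
  have : Epi S.g := inferInstanceAs (Epi (K.pOpcycles j))
  have hS : S.ShortExact :=
    { exact := S.exact_of_g_is_cokernel
        (isCokernelOfComp (K.pOpcycles i) (K.d i j) (K.opcyclesIsCokernel i j (by simp [← hij]))
          hz (K.p_fromOpcycles i j)) }
  have : Injective S.X₁ := inferInstanceAs (Injective (K.opcycles i))
  have : Injective S.X₂ := inferInstanceAs (Injective (K.X j))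
  exact Retract.injective (X := K.opcycles j) (Y := K.X j)
    { i := _, r := _, retract := (hS.splittingOfInjective).s_g }

theorem injective_opcycles_of_isGE (K : CochainComplex C ℤ) (hK : ∀ k, Injective (K.X k))
    (d n : ℤ) [K.IsStrictlyGE d] [K.IsGE n] : Injective (K.opcycles n) := by
  have key : ∀ (j : ℕ) (m : ℤ), m ≤ n → m ≤ d + j → Injective (K.opcycles m) := by
    intro j
    induction j with
    | zero =>
      intro m _ hmd
      have h0 : K.d (m - 1) m = 0 := (K.isZero_of_isStrictlyGE d (m - 1) (by lia)).eq_of_src _ _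
      have := K.isIso_pOpcycles (m - 1) m (by simp) h0
      have := hK m
      exact Injective.of_iso (asIso (K.pOpcycles m)) inferInstance
    | succ j ih =>
      intro m hmn hmd
      by_cases hm : m ≤ d + j
      · exact ih m hmn hm
      · have := ih (m - 1) (by lia) (by push_cast at hmd; lia)
        have := hK m
        exact injective_opcycles_succ K (m - 1) m (by lia) (K.exactAt_of_isGE n (m - 1) (by lia))
  exact key (n - d).toNat n le_rfl (by lia)


theorem fromOpcycles_naturality {K L : CochainComplex C ℤ} (φ : K ⟶ L) (i j : ℤ) :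
    HomologicalComplex.opcyclesMap φ i ≫ L.fromOpcycles i j = K.fromOpcycles i j ≫ φ.f j := by
  rw [← cancel_epi (K.pOpcycles i)]
  simp

theorem mono_opcyclesMap (S : ShortComplex (CochainComplex C ℤ)) (hS : S.ShortExact) (m n : ℤ)
    (hmn : m + 1 = n) (h3 : IsZero (S.X₃.homology m)) :
    Mono (HomologicalComplex.opcyclesMap S.f n) := by
  apply Preadditive.mono_of_cancel_zero
  intro P z hz
  have hm : Mono (S.f.f (n + 1)) :=
    ((HomologicalComplex.shortExact_iff_degreewise_shortExact S).1 hS (n + 1)).mono_f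
  have h1 : z ≫ S.X₁.fromOpcycles n (n + 1) = 0 := by
    rw [← cancel_mono (S.f.f (n + 1)), Category.assoc, ← fromOpcycles_naturality,
      reassoc_of% hz, zero_comp, zero_comp]
  have hlim := S.X₁.homologyIsKernel n (n + 1) (by simp)
  obtain ⟨w, hw⟩ := KernelFork.IsLimit.lift' hlim z h1
  dsimp at hw
  have h2 : w ≫ HomologicalComplex.homologyMap S.f n = 0 := by
    rw [← cancel_mono (S.X₂.homologyι n), Category.assoc,
      HomologicalComplex.homologyι_naturality, reassoc_of% hw, hz, zero_comp]
  have hex := hS.homology_exact₁ m n (by simp [← hmn])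
  have : Mono (HomologicalComplex.homologyMap S.f n) := hex.mono_g (h3.eq_of_src _ _)
  have h3 : w = 0 := by
    rw [← cancel_mono (HomologicalComplex.homologyMap S.f n), h2, zero_comp]
  rw [← hw, h3, zero_comp]


theorem isGE_of_quasiIso {K L : CochainComplex C ℤ} (f : K ⟶ L) [QuasiIso f] (n : ℤ)
    [K.IsGE n] : L.IsGE n := by
  rw [CochainComplex.isGE_iff]
  intro i hi
  rw [← _root_.quasiIsoAt_iff_exactAt f i (K.exactAt_of_isGE n i hi)]
  infer_instance

theorem shortExact_of_isZero (S : ShortComplex C) (h₁ : IsZero S.X₁) (h₂ : IsZero S.X₂)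
    (h₃ : IsZero S.X₃) : S.ShortExact :=
  { exact := S.exact_of_isZero_X₂ h₂
    mono_f := ⟨fun _ _ _ => h₁.eq_of_tgt _ _⟩
    epi_g := ⟨fun _ _ _ => h₃.eq_of_src _ _⟩ }

theorem truncGE_zero (S : ShortComplex (CochainComplex C ℤ)) (n : ℤ) :
    CochainComplex.truncGEMap S.f n ≫ CochainComplex.truncGEMap S.g n = 0 := by
  have : Epi (S.X₁.πTruncGE n) := by dsimp [CochainComplex.πTruncGE]; infer_instance
  rw [← cancel_epi (S.X₁.πTruncGE n), CochainComplex.πTruncGE_naturality_assoc,
    CochainComplex.πTruncGE_naturality, S.zero_assoc, zero_comp, comp_zero]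

theorem truncGE_shortExact (S : ShortComplex (CochainComplex C ℤ)) (hS : S.ShortExact) (n : ℤ)
    [S.X₃.IsGE n] :
    (ShortComplex.mk (CochainComplex.truncGEMap S.f n) (CochainComplex.truncGEMap S.g n)
      (truncGE_zero S n)).ShortExact := by
  apply HomologicalComplex.shortExact_of_degreewise_shortExact
  intro k
  have := hS.mono_f
  have := hS.epi_g
  obtain hk | rfl | hk := lt_trichotomy k n
  · exact shortExact_of_isZero _ ((S.X₁.truncGE n).isZero_of_isStrictlyGE n k hk)
      ((S.X₂.truncGE n).isZero_of_isStrictlyGE n k hk)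
      ((S.X₃.truncGE n).isZero_of_isStrictlyGE n k hk)
  · -- degree `n` : opcycles
    have hex : (ShortComplex.mk (HomologicalComplex.opcyclesMap S.f k)
        (HomologicalComplex.opcyclesMap S.g k)
        (by rw [← HomologicalComplex.opcyclesMap_comp, S.zero,
          HomologicalComplex.opcyclesMap_zero])).ShortExact :=
      { exact := HomologicalComplex.opcycles_right_exact S hS.exact k
        mono_f := mono_opcyclesMap S hS (k - 1) k (by simp)
          ((S.X₃.exactAt_of_isGE k (k - 1) (by simp)).isZero_homology)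
        epi_g := by dsimp; infer_instance }
    refine ShortComplex.shortExact_of_iso (ShortComplex.isoMk
      (S.X₁.truncGEXIsoOpcycles k).symm (S.X₂.truncGEXIsoOpcycles k).symm
      (S.X₃.truncGEXIsoOpcycles k).symm ?_ ?_) hex
    · show (S.X₁.truncGEXIsoOpcycles k).inv ≫ (CochainComplex.truncGEMap S.f k).f k =
        HomologicalComplex.opcyclesMap S.f k ≫ (S.X₂.truncGEXIsoOpcycles k).inv
      rw [← cancel_epi (S.X₁.pOpcycles k), HomologicalComplex.p_opcyclesMap_assoc,
        ← πTruncGE_f_eq, ← πTruncGE_f_eq_assoc, ← HomologicalComplex.comp_f,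
        ← HomologicalComplex.comp_f, CochainComplex.πTruncGE_naturality]
    · show (S.X₂.truncGEXIsoOpcycles k).inv ≫ (CochainComplex.truncGEMap S.g k).f k =
        HomologicalComplex.opcyclesMap S.g k ≫ (S.X₃.truncGEXIsoOpcycles k).inv
      rw [← cancel_epi (S.X₂.pOpcycles k), HomologicalComplex.p_opcyclesMap_assoc,
        ← πTruncGE_f_eq, ← πTruncGE_f_eq_assoc, ← HomologicalComplex.comp_f,
        ← HomologicalComplex.comp_f, CochainComplex.πTruncGE_naturality]
  · have i₁ := isIso_πTruncGE_f S.X₁ n k hk
    have i₂ := isIso_πTruncGE_f S.X₂ n k hk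
    have i₃ := isIso_πTruncGE_f S.X₃ n k hk
    refine ShortComplex.shortExact_of_iso (ShortComplex.isoMk
      (@asIso _ _ _ _ ((S.X₁.πTruncGE n).f k) i₁) (@asIso _ _ _ _ ((S.X₂.πTruncGE n).f k) i₂)
      (@asIso _ _ _ _ ((S.X₃.πTruncGE n).f k) i₃) ?_ ?_)
      ((HomologicalComplex.shortExact_iff_degreewise_shortExact S).1 hS k)
    · show (S.X₁.πTruncGE n).f k ≫ (CochainComplex.truncGEMap S.f n).f k =
        S.f.f k ≫ (S.X₂.πTruncGE n).f k
      rw [← HomologicalComplex.comp_f, ← HomologicalComplex.comp_f,
        CochainComplex.πTruncGE_naturality]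
    · show (S.X₂.πTruncGE n).f k ≫ (CochainComplex.truncGEMap S.g n).f k =
        S.g.f k ≫ (S.X₃.πTruncGE n).f k
      rw [← HomologicalComplex.comp_f, ← HomologicalComplex.comp_f,
        CochainComplex.πTruncGE_naturality]


theorem injective_truncGE_X (K : CochainComplex C ℤ) (hK : ∀ k, Injective (K.X k))
    (d n : ℤ) [K.IsStrictlyGE d] [K.IsGE n] (q : ℤ) : Injective ((K.truncGE n).X q) := by
  obtain h | rfl | h := lt_trichotomy q n
  · exact ((K.truncGE n).isZero_of_isStrictlyGE n q h).injective
  · have := injective_opcycles_of_isGE K hK d q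
    exact Injective.of_iso (K.truncGEXIsoOpcycles q).symm inferInstance
  · exact Injective.of_iso (K.truncGEXIso n q h).symm (hK q)

end Groth.Agent.Lib.Helper23TruncGE
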