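import Mathlib

/-!
# Right resolutions of bounded below complexes by a class of objects (helper23)

Let `I` be a class of objects of an abelian category such that every object embeds into an object
of `I`.  For `K : CochainComplex A ℕ`, `L I hI K` is a complex with terms in `I` and
`α I hI K : K ⟶ L I hI K` is a degreewise monic quasi-isomorphism (`exists_nat`).
`exists_int_isoClosed` is the `ℤ`-indexed version (for isomorphism-closed classes containing
zero objects), and `replace`/`replaceIso` replace the terms of a complex by isomorphic objects.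
Also: `IsPushout.exists_lift_up_to_refinements`, `quasiIsoAt_of_pushout`.
-/

set_option autoImplicit false
universe v u
open CategoryTheory CategoryTheory.Limits

namespace Groth.Agent.Lib.Helper23IRes

variable {A : Type u} [Category.{v} A] [Abelian A]

/-- pushout squares are "exact": compatible pairs lift up to refinements. -/
theorem IsPushout.exists_lift_up_to_refinements {X₁ X₂ X₃ X₄ : A} {f : X₁ ⟶ X₂} {g : X₁ ⟶ X₃}
    {inl : X₂ ⟶ X₄} {inr : X₃ ⟶ X₄} (h : IsPushout f g inl inr) {T : A}
    (c : T ⟶ X₂) (w : T ⟶ X₃) (hcw : c ≫ inl = w ≫ inr) :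
    ∃ (T' : A) (π : T' ⟶ T) (_ : Epi π) (u : T' ⟶ X₁), u ≫ f = π ≫ c ∧ u ≫ g = π ≫ w := by
  obtain ⟨T', π, hπ, (u : T' ⟶ X₁), hu⟩ := h.exact_shortComplex.exact_up_to_refinements
    (biprod.lift c (-w)) (by
      show biprod.lift c (-w) ≫ biprod.desc inl inr = 0
      rw [biprod.lift_desc, hcw, Preadditive.neg_comp, add_neg_cancel])
  have hu' : π ≫ biprod.lift c (-w) = u ≫ biprod.lift f (-g) := hu
  refine ⟨T', π, hπ, u, ?_, ?_⟩
  · have := hu' =≫ biprod.fst
    simp only [Category.assoc, biprod.lift_fst] at this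
    exact this.symm
  · have := hu' =≫ biprod.snd
    simp only [Category.assoc, biprod.lift_snd, Preadditive.comp_neg, neg_inj] at this
    exact this.symm


section generic

variable {ι : Type*} {c : ComplexShape ι}

/-- the opcycles identify to any cokernel of the incoming differential. -/
noncomputable def opcyclesIsoOfIsColimit (M : HomologicalComplex A c) (i j : ι) (hi : c.prev j = i)
    {C : A} (p : M.X j ⟶ C) (w : M.d i j ≫ p = 0) (hp : IsColimit (CokernelCofork.ofπ p w)) :
    M.opcycles j ≅ C :=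
  IsColimit.coconePointUniqueUpToIso (M.opcyclesIsCokernel i j hi) hp

theorem p_opcyclesIsoOfIsColimit (M : HomologicalComplex A c) (i j : ι) (hi : c.prev j = i)
    {C : A} (p : M.X j ⟶ C) (w : M.d i j ≫ p = 0) (hp : IsColimit (CokernelCofork.ofπ p w)) :
    M.pOpcycles j ≫ (opcyclesIsoOfIsColimit M i j hi p w hp).hom = p :=
  IsColimit.comp_coconePointUniqueUpToIso_hom (M.opcyclesIsCokernel i j hi) hp
    WalkingParallelPair.one

/-- transport of a colimit cokernel cofork along an equality of morphisms. -/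
def isColimitOfEq {X Y C : A} {f f' : X ⟶ Y} (h : f = f') {p : Y ⟶ C} (w' : f' ≫ p = 0)
    (hp : IsColimit (CokernelCofork.ofπ p w')) :
    IsColimit (CokernelCofork.ofπ p (show f ≫ p = 0 by rw [h]; exact w')) := by
  subst h
  exact hp

theorem quasiIsoAt_of_pushout {K M : HomologicalComplex A c} (φ : K ⟶ M) (i n n' : ι)
    (hi : c.prev n = i) (hn : c.next n = n') {C P : A} (p : M.X n ⟶ C) (w : M.d i n ≫ p = 0)
    (hp : IsColimit (CokernelCofork.ofπ p w))
    (γ : K.opcycles n ⟶ C) (hγ : K.pOpcycles n ≫ γ = φ.f n ≫ p) (mγ : Mono γ)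
    (inl : C ⟶ P) (inr : K.X n' ⟶ P) (sq : IsPushout γ (K.fromOpcycles n n') inl inr)
    (j : P ⟶ M.X n') (mj : Mono j) (hd : p ≫ inl ≫ j = M.d n n') : QuasiIsoAt φ n := by
  let e := opcyclesIsoOfIsColimit M i n hi p w hp
  have he : M.pOpcycles n ≫ e.hom = p := p_opcyclesIsoOfIsColimit M i n hi p w hp
  have F1 : e.hom ≫ inl ≫ j = M.fromOpcycles n n' := by
    rw [← cancel_epi (M.pOpcycles n), reassoc_of% he, hd, M.p_fromOpcycles]
  have F2 : HomologicalComplex.opcyclesMap φ n ≫ e.hom = γ := by
    rw [← cancel_epi (K.pOpcycles n), HomologicalComplex.p_opcyclesMap_assoc, he, hγ]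
  have m1 : Mono (HomologicalComplex.opcyclesMap φ n) := mono_of_mono_fac F2
  rw [quasiIsoAt_iff_isIso_homologyMap]
  have hmono : Mono (HomologicalComplex.homologyMap φ n) := by
    have : Mono (HomologicalComplex.homologyMap φ n ≫ M.homologyι n) := by
      rw [HomologicalComplex.homologyι_naturality]
      infer_instance
    exact mono_of_mono _ (M.homologyι n)
  have hepi : Epi (HomologicalComplex.homologyMap φ n) := by
    rw [epi_iff_surjective_up_to_refinements]
    intro T z
    have hc : (z ≫ M.homologyι n ≫ e.hom) ≫ inl = (0 : T ⟶ K.X n') ≫ inr := by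
      rw [← cancel_mono j]
      simp only [Category.assoc, zero_comp]
      rw [F1, M.homologyι_comp_fromOpcycles, comp_zero]
    obtain ⟨T', π, hπ, u, hu1, hu2⟩ := IsPushout.exists_lift_up_to_refinements sq _ _ hc
    rw [comp_zero] at hu2
    obtain ⟨x, hx⟩ := KernelFork.IsLimit.lift' (K.homologyIsKernel n n' hn) u hu2
    dsimp at hx
    refine ⟨T', π, hπ, x, ?_⟩
    have : Mono (M.homologyι n ≫ e.hom) := mono_comp _ _
    rw [← cancel_mono (M.homologyι n ≫ e.hom)]
    simp only [Category.assoc]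
    rw [HomologicalComplex.homologyι_naturality_assoc, reassoc_of% hx, F2, hu1]
  exact isIso_of_mono_of_epi _

end generic

section

variable (I : A → Prop) (hI : ∀ X : A, ∃ (Y : A) (ι : X ⟶ Y), I Y ∧ Mono ι)

/-- chosen object of `I` containing `X`. -/
noncomputable def E (X : A) : A := (hI X).choose

/-- chosen embedding. -/
noncomputable def ιE (X : A) : X ⟶ E I hI X := (hI X).choose_spec.choose

theorem E_mem (X : A) : I (E I hI X) := (hI X).choose_spec.choose_spec.1

instance (X : A) : Mono (ιE I hI X) := (hI X).choose_spec.choose_spec.2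

variable (K : CochainComplex A ℕ)

/-- the data at stage `n` of the construction. -/
structure Stage (n : ℕ) where
  X : A
  C : A
  f : K.X n ⟶ X
  p : X ⟶ C
  γ : K.opcycles n ⟶ C
  comm : K.pOpcycles n ≫ γ = f ≫ p
  hX : I X
  mono_f : Mono f
  mono_γ : Mono γ
  epi_p : Epi p

namespace Stage

variable {I K} {n : ℕ} (s : Stage I K n)

/-- the pushout -/
noncomputable abbrev P : A := pushout s.γ (K.fromOpcycles n (n + 1))

noncomputable abbrev inl : s.C ⟶ s.P := pushout.inl _ _
noncomputable abbrev inr : K.X (n + 1) ⟶ s.P := pushout.inr _ _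

/-- next object -/
noncomputable abbrev Y : A := E I hI s.P
noncomputable abbrev j : s.P ⟶ s.Y hI := ιE I hI s.P

theorem mono_j : Mono (s.j hI) := inferInstanceAs (Mono (ιE I hI s.P))

/-- the differential -/
noncomputable def d : s.X ⟶ s.Y hI := s.p ≫ s.inl ≫ s.j hI

/-- the next map -/
noncomputable def f' : K.X (n + 1) ⟶ s.Y hI := s.inr ≫ s.j hI

theorem comm_d : K.d n (n + 1) ≫ s.f' hI = s.f ≫ s.d hI := by
  have h1 : K.d n (n + 1) = K.pOpcycles n ≫ K.fromOpcycles n (n + 1) := by simp
  have h2 : s.γ ≫ s.inl = K.fromOpcycles n (n + 1) ≫ s.inr := pushout.condition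
  dsimp only [f', d]
  rw [h1, Category.assoc, ← Category.assoc (K.fromOpcycles n (n + 1)), ← h2, Category.assoc,
    reassoc_of% s.comm]

theorem isPushout : IsPushout s.γ (K.fromOpcycles n (n + 1)) s.inl s.inr :=
  IsPushout.of_hasPushout _ _

instance : Mono s.inr := by
  have := s.mono_γ
  dsimp only [inr]
  infer_instance

theorem w' : K.d n (n + 1) ≫ s.f' hI ≫ cokernel.π (s.d hI) = 0 := by
  rw [reassoc_of% (s.comm_d hI), cokernel.condition, comp_zero]

/-- the next `γ` -/
noncomputable def γ' : K.opcycles (n + 1) ⟶ cokernel (s.d hI) :=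
  K.descOpcycles (s.f' hI ≫ cokernel.π (s.d hI)) n (by simp) (s.w' hI)

theorem comm' : K.pOpcycles (n + 1) ≫ s.γ' hI = s.f' hI ≫ cokernel.π (s.d hI) := by
  simp [γ']

theorem fromOpcycles_pOpcycles : K.fromOpcycles n (n + 1) ≫ K.pOpcycles (n + 1) = 0 := by
  rw [← cancel_epi (K.pOpcycles n), K.p_fromOpcycles_assoc, comp_zero, K.d_pOpcycles]

theorem mono_γ' : Mono (s.γ' hI) := by
  apply Preadditive.mono_of_cancel_zero
  intro T z hz
  obtain ⟨T₁, π₁, _, x, hx⟩ := surjective_up_to_refinements_of_epi (K.pOpcycles (n + 1)) z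
  have h1 : (x ≫ s.f' hI) ≫ cokernel.π (s.d hI) = 0 := by
    rw [Category.assoc, ← s.comm' hI, ← reassoc_of% hx, hz, comp_zero]
  have hex : (ShortComplex.mk (s.d hI) (cokernel.π (s.d hI)) (cokernel.condition _)).Exact :=
    ShortComplex.exact_of_g_is_cokernel _ (cokernelIsCokernel _)
  obtain ⟨T₂, π₂, _, y, hy⟩ := hex.exact_up_to_refinements (x ≫ s.f' hI) h1
  dsimp at y hy
  have h2 : (y ≫ s.p) ≫ s.inl = (π₂ ≫ x) ≫ s.inr := by
    rw [← cancel_mono (s.j hI)]
    simpa [d, f'] using hy.symm
  obtain ⟨T₃, π₃, _, u, -, hu⟩ := IsPushout.exists_lift_up_to_refinements s.isPushout _ _ h2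
  have h3 : (π₃ ≫ π₂ ≫ x) ≫ K.pOpcycles (n + 1) = 0 := by
    rw [← hu, Category.assoc, fromOpcycles_pOpcycles, comp_zero]
  rw [← cancel_epi π₁, ← cancel_epi π₂, ← cancel_epi π₃, comp_zero, comp_zero, comp_zero, hx]
  simpa using h3

/-- the next stage -/
noncomputable abbrev next : Stage I K (n + 1) where
  X := s.Y hI
  C := cokernel (s.d hI)
  f := s.f' hI
  p := cokernel.π (s.d hI)
  γ := s.γ' hI
  comm := s.comm' hI
  hX := E_mem I hI _
  mono_f := by
    dsimp only [f']
    infer_instance
  mono_γ := s.mono_γ' hI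
  epi_p := inferInstance

theorem d_comp_d : s.d hI ≫ (s.next hI).d hI = 0 := by
  have h : (s.next hI).d hI =
      cokernel.π (s.d hI) ≫ ((s.next hI).inl ≫ (s.next hI).j hI) := rfl
  rw [h, ← Category.assoc, cokernel.condition, zero_comp]

end Stage

/-- the initial stage -/
noncomputable def stage0 : Stage I K 0 where
  X := E I hI (K.X 0)
  C := E I hI (K.X 0)
  f := ιE I hI (K.X 0)
  p := 𝟙 _
  γ := inv (K.pOpcycles 0) ≫ ιE I hI (K.X 0)
  comm := by simp
  hX := E_mem I hI _
  mono_f := inferInstance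
  mono_γ := inferInstance
  epi_p := inferInstance

/-- all stages -/
noncomputable def stage : (n : ℕ) → Stage I K n
  | 0 => stage0 I hI K
  | n + 1 => (stage n).next hI

/-- the resolution -/
noncomputable def L : CochainComplex A ℕ :=
  CochainComplex.of (fun n => (stage I hI K n).X) (fun n => (stage I hI K n).d hI)
    (fun n => (stage I hI K n).d_comp_d hI)

theorem L_d (n : ℕ) : (L I hI K).d n (n + 1) = (stage I hI K n).d hI :=
  CochainComplex.of_d (fun n => (stage I hI K n).X) (fun n => (stage I hI K n).d hI) n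

/-- the map `K ⟶ L` -/
noncomputable def α : K ⟶ L I hI K where
  f n := (stage I hI K n).f
  comm' i j hij := by
    obtain rfl : i + 1 = j := hij
    rw [L_d]
    exact ((stage I hI K i).comm_d hI).symm

theorem L_mem (n : ℕ) : I ((L I hI K).X n) := (stage I hI K n).hX

instance (n : ℕ) : Mono ((α I hI K).f n) := (stage I hI K n).mono_f

theorem quasiIso_α : QuasiIso (α I hI K) := by
  refine ⟨fun n => ?_⟩
  cases n with
  | zero =>
    have h0 : (L I hI K).d 0 0 = 0 := (L I hI K).shape _ _ (by simp)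
    exact quasiIsoAt_of_pushout (α I hI K) 0 0 1 (by simp) (by simp)
      (𝟙 ((L I hI K).X 0)) (by rw [h0, zero_comp])
      (CokernelCofork.IsColimit.ofId _ h0)
      (stage I hI K 0).γ (stage I hI K 0).comm (stage I hI K 0).mono_γ
      (stage I hI K 0).inl (stage I hI K 0).inr (stage I hI K 0).isPushout
      ((stage I hI K 0).j hI) ((stage I hI K 0).mono_j hI) (L_d I hI K 0).symm
  | succ m =>
    exact quasiIsoAt_of_pushout (α I hI K) m (m + 1) (m + 1 + 1) (by simp) (by simp)
      (cokernel.π ((stage I hI K m).d hI)) _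
      (isColimitOfEq (L_d I hI K m) (cokernel.condition _) (cokernelIsCokernel _))
      (stage I hI K (m + 1)).γ (stage I hI K (m + 1)).comm (stage I hI K (m + 1)).mono_γ
      (stage I hI K (m + 1)).inl (stage I hI K (m + 1)).inr (stage I hI K (m + 1)).isPushout
      ((stage I hI K (m + 1)).j hI) ((stage I hI K (m + 1)).mono_j hI) (L_d I hI K (m + 1)).symm

include hI in
theorem exists_nat : ∃ (L : CochainComplex A ℕ) (α : K ⟶ L),
    (∀ n, I (L.X n)) ∧ (∀ n, Mono (α.f n)) ∧ QuasiIso α :=
  ⟨L I hI K, α I hI K, L_mem I hI K, fun n => inferInstance, quasiIso_α I hI K⟩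

end

section replace

variable {ι : Type*} {c : ComplexShape ι}

/-- replace the terms of a complex by isomorphic objects. -/
def replace (L : HomologicalComplex A c) (Y : ι → A) (e : ∀ i, L.X i ≅ Y i) :
    HomologicalComplex A c where
  X := Y
  d i j := (e i).inv ≫ L.d i j ≫ (e j).hom
  shape i j h := by rw [L.shape i j h]; simp
  d_comp_d' i j k _ _ := by simp

/-- the replaced complex is isomorphic to the original one. -/
def replaceIso (L : HomologicalComplex A c) (Y : ι → A) (e : ∀ i, L.X i ≅ Y i) :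
    L ≅ replace L Y e :=
  HomologicalComplex.Hom.isoOfComponents e (by intros; simp [replace])

theorem replaceIso_hom_f (L : HomologicalComplex A c) (Y : ι → A) (e : ∀ i, L.X i ≅ Y i) (i : ι) :
    (replaceIso L Y e).hom.f i = (e i).hom := rfl

end replace

theorem exists_int_isoClosed (I : A → Prop) (hI : ∀ X : A, ∃ (Y : A) (ι : X ⟶ Y), I Y ∧ Mono ι)
    (hiso : ∀ X Y : A, (X ≅ Y) → I X → I Y) (hz : ∀ Z : A, IsZero Z → I Z)
    (K : CochainComplex A ℤ) (a : ℤ) [K.IsStrictlyGE a] :
    ∃ (L : CochainComplex A ℤ) (α : K ⟶ L), L.IsStrictlyGE a ∧ (∀ n, I (L.X n)) ∧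
      (∀ n, Mono (α.f n)) ∧ QuasiIso α := by
  let e := ComplexShape.embeddingUpIntGE a
  obtain ⟨L', α', hL', hm, hq⟩ := exists_nat I hI (K.restriction e)
  have hlift : ∀ {M : CochainComplex A ℕ} (φ : K.restriction e ⟶ M), e.HasLift φ := by
    intro M φ j hj i' hi'
    rw [ComplexShape.boundaryGE_embeddingUpIntGE_iff] at hj
    subst hj
    have : i' < a := by
      have : i' + 1 = a + (0 : ℕ) := hi'
      lia
    exact (K.isZero_of_isStrictlyGE a i' this).eq_of_src _ _
  have hcase : ∀ n : ℤ, (∃ i : ℕ, e.f i = n) ∨ n < a := by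
    intro n
    by_cases h : a ≤ n
    · exact Or.inl ⟨(n - a).toNat, by simp [e]; lia⟩
    · exact Or.inr (by lia)
  have hzero : ∀ (M : CochainComplex A ℕ) (n : ℤ), n < a → IsZero ((M.extend e).X n) := by
    intro M n hn
    apply M.isZero_extend_X e
    intro i hi
    simp [e] at hi
    lia
  let ι₀ : K ⟶ (K.restriction e).extend e := e.liftExtend (𝟙 _) (hlift _)
  have hι₀ : IsIso ι₀ := by
    suffices ∀ n, IsIso (ι₀.f n) from HomologicalComplex.Hom.isIso_of_components _
    intro n
    obtain ⟨i, hi⟩ | hn := hcase n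
    · rw [e.isIso_liftExtend_f_iff _ _ hi]
      dsimp
      infer_instance
    · exact ⟨0, (K.isZero_of_isStrictlyGE a n hn).eq_of_src _ _,
        (hzero _ n hn).eq_of_src _ _⟩
  let α : K ⟶ L'.extend e := e.liftExtend α' (hlift _)
  have hα : α = ι₀ ≫ HomologicalComplex.extendMap α' e := by
    apply (e.homEquiv _ _).injective
    ext1
    show e.homRestrict (e.liftExtend α' (hlift _)) =
      e.homRestrict (e.liftExtend (𝟙 _) (hlift _) ≫ HomologicalComplex.extendMap α' e)
    rw [e.homRestrict_comp_extendMap, e.homRestrict_liftExtend, e.homRestrict_liftExtend,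
      Category.id_comp]
  refine ⟨L'.extend e, α, inferInstanceAs ((L'.extend e).IsStrictlySupported e), ?_, ?_, ?_⟩
  · intro n
    obtain ⟨i, hi⟩ | hn := hcase n
    · exact hiso _ _ (L'.extendXIso e hi).symm (hL' i)
    · exact hz _ (hzero _ n hn)
  · intro n
    obtain ⟨i, hi⟩ | hn := hcase n
    · rw [e.mono_liftExtend_f_iff _ _ hi]
      exact hm i
    · exact ⟨fun _ _ _ => (K.isZero_of_isStrictlyGE a n hn).eq_of_tgt _ _⟩
  · rw [hα]
    infer_instance


end Groth.Agent.Lib.Helper23IRes
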