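import Mathlib
import Groth.Agent.S12229
import Groth.Agent.S6590
import Groth.Agent.Lib.Helper23TruncGE

/-!
# Special inverse systems of right resolutions (Spaltenstein) (helper23)

* `step`: given a class `I` (iso-closed, zero, binary products, enough embeddings), bounded below
  complexes `T`, `L` with `L` having terms in `I` and `f : T ⟶ L`, there is a factorization
  `T ⟶ I' ⟶ L` of `f` with `T ⟶ I'` a termwise monic quasi-isomorphism, `I'` bounded below with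
  terms in `I`, and `I' ⟶ L` termwise split epi with kernels in `I` (a "CM5a" for the class `I`).
* `exists_truncGE_map`: the transition map `K.truncGE a ⟶ K.truncGE b` for `a < b`.
* `lemmaZ`, `coneData`, `quasiIso_biprod_inl`, `isStrictlyGE_biprod`, `isStrictlyGE_of_mono/epi`,
  `isStrictlyGE_cone_id`, `Data`, `step'`, `seq`.
-/

set_option autoImplicit false
universe v u
open CategoryTheory CategoryTheory.Limits

namespace Groth.Agent.Lib.Helper23Spalt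

variable {A : Type u} [Category.{v} A] [Abelian A]

theorem lemmaZ {X Ll Jj Pp W Rr Kobj : A}
    (ιL : Ll ⟶ X) (ιJ : Jj ⟶ X) (ιP : Pp ⟶ X) (ρL : X ⟶ Ll) (ρJ : X ⟶ Jj) (ρP : X ⟶ Pp)
    (hLL : ιL ≫ ρL = 𝟙 _) (hJJ : ιJ ≫ ρJ = 𝟙 _) (hPP : ιP ≫ ρP = 𝟙 _)
    (hLJ : ιL ≫ ρJ = 0) (hLP : ιL ≫ ρP = 0) (hJL : ιJ ≫ ρL = 0) (hJP : ιJ ≫ ρP = 0)
    (hPL : ιP ≫ ρL = 0) (hPJ : ιP ≫ ρJ = 0)
    (htot : ρL ≫ ιL + ρJ ≫ ιJ + ρP ≫ ιP = 𝟙 X)
    (v : X ⟶ W) (σ : W ⟶ Pp) (τ : Pp ⟶ Rr) (ιR : Rr ⟶ Pp)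
    (hσ : σ ≫ ιP ≫ v = 𝟙 _) (hR : ιR ≫ ιP ≫ v = 0) (hRτ : ιR ≫ τ = 𝟙 _) (hστ : σ ≫ τ = 0)
    (hP : (ιP ≫ v) ≫ σ + τ ≫ ιR = 𝟙 Pp)
    (k : Kobj ⟶ X) (hk0 : k ≫ v = 0) (hk : IsLimit (KernelFork.ofι k hk0)) :
    ∃ (α : Jj ⊞ Rr ⟶ Kobj) (w : α ≫ k ≫ ρL = 0),
      Nonempty (ShortComplex.mk α (k ≫ ρL) w).Splitting := by
  have hxL : (ιL - (ιL ≫ v) ≫ σ ≫ ιP) ≫ v = 0 := by
    simp only [Preadditive.sub_comp, Category.assoc, hσ, Category.comp_id, sub_self]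
  have hxJ : (ιJ - (ιJ ≫ v) ≫ σ ≫ ιP) ≫ v = 0 := by
    simp only [Preadditive.sub_comp, Category.assoc, hσ, Category.comp_id, sub_self]
  have hxR : (ιR ≫ ιP) ≫ v = 0 := by rw [Category.assoc, hR]
  obtain ⟨sL, hsL⟩ := KernelFork.IsLimit.lift' hk _ hxL
  obtain ⟨sJ, hsJ⟩ := KernelFork.IsLimit.lift' hk _ hxJ
  obtain ⟨sR, hsR⟩ := KernelFork.IsLimit.lift' hk _ hxR
  dsimp at hsL hsJ hsR
  have mk : Mono k := mono_of_isLimit_fork hk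
  have w : biprod.desc sJ sR ≫ k ≫ ρL = 0 := by
    ext
    · simp only [biprod.inl_desc_assoc, reassoc_of% hsJ, Preadditive.sub_comp, Category.assoc,
        hJL, hPL, comp_zero, sub_zero]
    · simp only [biprod.inr_desc_assoc, reassoc_of% hsR, Category.assoc, hPL, comp_zero]
  refine ⟨biprod.desc sJ sR, w, ⟨{ r := biprod.lift (k ≫ ρJ) (k ≫ ρP ≫ τ), s := sL, f_r := ?_, s_g := ?_, id := ?_ }⟩⟩
  · dsimp
    ext
    · simp only [biprod.inl_desc_assoc, Category.assoc, biprod.lift_fst, Category.id_comp,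
        biprod.inl_fst, reassoc_of% hsJ, Preadditive.sub_comp, hJJ, hPJ, comp_zero, sub_zero]
    · simp only [biprod.inl_desc_assoc, Category.assoc, biprod.lift_snd, Category.id_comp,
        biprod.inl_snd, reassoc_of% hsJ, Preadditive.sub_comp, reassoc_of% hJP, zero_comp,
        reassoc_of% hPP, hστ, comp_zero, sub_zero]
    · simp only [biprod.inr_desc_assoc, Category.assoc, biprod.lift_fst, Category.id_comp,
        biprod.inr_fst, reassoc_of% hsR, hPJ, comp_zero]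
    · simp only [biprod.inr_desc_assoc, Category.assoc, biprod.lift_snd, Category.id_comp,
        biprod.inr_snd, reassoc_of% hsR, reassoc_of% hPP, hRτ]
  · dsimp
    simp only [reassoc_of% hsL, Preadditive.sub_comp, Category.assoc, hLL, hPL, comp_zero,
      sub_zero]
  · dsimp
    have h1 : ρL ≫ ιL + ρJ ≫ ιJ = 𝟙 X - ρP ≫ ιP := eq_sub_of_add_eq htot
    have h2 : τ ≫ ιR = 𝟙 Pp - (ιP ≫ v) ≫ σ := eq_sub_of_add_eq' hP
    rw [← cancel_mono k]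
    simp only [Preadditive.add_comp, Category.assoc, biprod.lift_desc, hsL, hsJ, hsR,
      Category.id_comp, Preadditive.comp_sub, Preadditive.comp_add]
    have e1 : k ≫ ρL ≫ ιL + k ≫ ρJ ≫ ιJ = k - k ≫ ρP ≫ ιP := by
      rw [← Preadditive.comp_add, h1, Preadditive.comp_sub, Category.comp_id]
    have e2 : k ≫ ρL ≫ ιL ≫ v ≫ σ ≫ ιP + k ≫ ρJ ≫ ιJ ≫ v ≫ σ ≫ ιP =
        -(k ≫ ρP ≫ ιP ≫ v ≫ σ ≫ ιP) := by
      have : k ≫ ρL ≫ ιL ≫ v ≫ σ ≫ ιP + k ≫ ρJ ≫ ιJ ≫ v ≫ σ ≫ ιP =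
          (k ≫ ρL ≫ ιL + k ≫ ρJ ≫ ιJ) ≫ v ≫ σ ≫ ιP := by
        simp only [Preadditive.add_comp, Category.assoc]
      rw [this, e1, Preadditive.sub_comp, reassoc_of% hk0, zero_comp, zero_sub]
      simp only [Category.assoc]
    have e3 : k ≫ ρP ≫ τ ≫ ιR ≫ ιP = k ≫ ρP ≫ ιP - k ≫ ρP ≫ ιP ≫ v ≫ σ ≫ ιP := by
      rw [reassoc_of% h2]
      simp only [Preadditive.sub_comp, Preadditive.comp_sub, Category.assoc, Category.id_comp]
    have e1' : k ≫ ρJ ≫ ιJ = k - k ≫ ρP ≫ ιP - k ≫ ρL ≫ ιL := by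
      rw [← e1]; abel
    have e2' : k ≫ ρJ ≫ ιJ ≫ v ≫ σ ≫ ιP =
        -(k ≫ ρP ≫ ιP ≫ v ≫ σ ≫ ιP) - k ≫ ρL ≫ ιL ≫ v ≫ σ ≫ ιP := by
      rw [← e2]; abel
    rw [e1', e2', e3]
    abel


open CochainComplex


/-- the projection `cone(𝟙 R) ⟶ R⟦1⟧`. -/
noncomputable def q (R : CochainComplex A ℤ) : mappingCone (𝟙 R) ⟶ R⟦(1 : ℤ)⟧ :=
  (mappingCone.triangle (𝟙 R)).mor₃

theorem inl_q (R : CochainComplex A ℤ) (p p' : ℤ) (hpq : p + (-1) = p') :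
    (mappingCone.inl (𝟙 R)).v p p' hpq ≫ (q R).f p' =
      -(R.shiftFunctorObjXIso 1 p' p (by rw [← hpq, neg_add_cancel_right])).inv :=
  mappingCone.inl_v_triangle_mor₃_f _ _ _ _

theorem inr_q (R : CochainComplex A ℤ) (p : ℤ) :
    (mappingCone.inr (𝟙 R)).f p ≫ (q R).f p = 0 :=
  mappingCone.inr_f_triangle_mor₃_f _ _

theorem q_f (R : CochainComplex A ℤ) (i j : ℤ) (hij : i + 1 = j) :
    (q R).f i =
      -((mappingCone.fst (𝟙 R)).1.v i j hij ≫ (R.shiftFunctorObjXIso 1 i j (by lia)).inv) := by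
  rw [mappingCone.ext_from_iff (𝟙 R) j i hij]
  constructor
  · rw [inl_q, Preadditive.comp_neg, mappingCone.inl_v_fst_v_assoc]
  · rw [inr_q, Preadditive.comp_neg, mappingCone.inr_f_fst_v_assoc, zero_comp, neg_zero]

theorem coneData (R : CochainComplex A ℤ) (i : ℤ) :
    ∃ (σ : (R⟦(1 : ℤ)⟧).X i ⟶ (mappingCone (𝟙 R)).X i) (τ : (mappingCone (𝟙 R)).X i ⟶ R.X i),
      σ ≫ (q R).f i = 𝟙 _ ∧
      (mappingCone.inr (𝟙 R)).f i ≫ (q R).f i = 0 ∧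
      (mappingCone.inr (𝟙 R)).f i ≫ τ = 𝟙 _ ∧ σ ≫ τ = 0 ∧
      (q R).f i ≫ σ + τ ≫ (mappingCone.inr (𝟙 R)).f i = 𝟙 _ := by
  refine ⟨-(R.shiftFunctorObjXIso 1 i (i + 1) (by lia)).hom ≫
      (mappingCone.inl (𝟙 R)).v (i + 1) i (by lia),
    (mappingCone.snd (𝟙 R)).v i i (add_zero i), ?_, ?_, ?_, ?_, ?_⟩
  · rw [Preadditive.neg_comp, Category.assoc, inl_q, Preadditive.comp_neg, neg_neg,
      Iso.hom_inv_id]
  · exact inr_q R i
  · simp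
  · rw [Preadditive.neg_comp, Category.assoc, mappingCone.inl_v_snd_v, comp_zero, neg_zero]
  · rw [q_f R i (i + 1) rfl]
    simp only [Preadditive.neg_comp, Preadditive.comp_neg, neg_neg, Category.assoc,
      Iso.inv_hom_id_assoc]
    exact mappingCone.id_X (𝟙 R) i (i + 1) rfl


theorem isStrictlyGE_of_mono {K L : CochainComplex A ℤ} (φ : K ⟶ L) (h : ∀ i, Mono (φ.f i))
    (a : ℤ) [L.IsStrictlyGE a] : K.IsStrictlyGE a := by
  rw [CochainComplex.isStrictlyGE_iff]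
  intro i hi
  have := h i
  exact IsZero.of_mono (φ.f i) (L.isZero_of_isStrictlyGE a i hi)

theorem isStrictlyGE_of_epi {K L : CochainComplex A ℤ} (φ : K ⟶ L) (h : ∀ i, Epi (φ.f i))
    (a : ℤ) [K.IsStrictlyGE a] : L.IsStrictlyGE a := by
  rw [CochainComplex.isStrictlyGE_iff]
  intro i hi
  have := h i
  exact IsZero.of_epi (φ.f i) (K.isZero_of_isStrictlyGE a i hi)

theorem isStrictlyGE_biprod (K L : CochainComplex A ℤ) (a : ℤ) [K.IsStrictlyGE a]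
    [L.IsStrictlyGE a] : (K ⊞ L).IsStrictlyGE a := by
  rw [CochainComplex.isStrictlyGE_iff]
  intro i hi
  rw [IsZero.iff_id_eq_zero]
  have h : 𝟙 ((K ⊞ L).X i) = (biprod.fst : K ⊞ L ⟶ K).f i ≫ (biprod.inl : K ⟶ K ⊞ L).f i +
      (biprod.snd : K ⊞ L ⟶ L).f i ≫ (biprod.inr : L ⟶ K ⊞ L).f i := by
    rw [← HomologicalComplex.comp_f, ← HomologicalComplex.comp_f,
      ← HomologicalComplex.add_f_apply, biprod.total, HomologicalComplex.id_f]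
  rw [h, (K.isZero_of_isStrictlyGE a i hi).eq_of_tgt ((biprod.fst : K ⊞ L ⟶ K).f i) 0,
    (L.isZero_of_isStrictlyGE a i hi).eq_of_tgt ((biprod.snd : K ⊞ L ⟶ L).f i) 0, zero_comp,
    zero_comp, add_zero]

theorem isStrictlyGE_cone_id (R : CochainComplex A ℤ) (a : ℤ) [R.IsStrictlyGE (a + 1)] :
    (mappingCone (𝟙 R)).IsStrictlyGE a := by
  rw [CochainComplex.isStrictlyGE_iff]
  intro i hi
  rw [mappingCone.isZero_X_iff]
  exact ⟨R.isZero_of_isStrictlyGE (a + 1) _ (by lia), R.isZero_of_isStrictlyGE (a + 1) _ (by lia)⟩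

theorem quasiIso_biprod_inl (M P : CochainComplex A ℤ) (h₀ : Homotopy (𝟙 P) 0) :
    QuasiIso (biprod.inl : M ⟶ M ⊞ P) := by
  let e : HomotopyEquiv (M ⊞ P) M :=
    { hom := biprod.fst
      inv := biprod.inl
      homotopyHomInvId :=
        let h₁ := (h₀.compRight (biprod.inr : P ⟶ M ⊞ P)).compLeft (biprod.snd : M ⊞ P ⟶ P)
        let h₂ := Homotopy.add (Homotopy.refl (biprod.fst ≫ biprod.inl : M ⊞ P ⟶ M ⊞ P)) h₁
        (Homotopy.ofEq (by simp)).trans (h₂.symm.trans (Homotopy.ofEq (by simp)))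
      homotopyInvHomId := Homotopy.ofEq (by simp) }
  exact e.quasiIso_inv


section threefold

variable {C : Type*} [Category C] [Preadditive C] [HasBinaryBiproducts C] (L J P : C)

theorem tf_LL : ((biprod.inl : L ⟶ L ⊞ J) ≫ (biprod.inl : L ⊞ J ⟶ (L ⊞ J) ⊞ P)) ≫
    ((biprod.fst : (L ⊞ J) ⊞ P ⟶ L ⊞ J) ≫ (biprod.fst : L ⊞ J ⟶ L)) = 𝟙 _ := by simp
theorem tf_JJ : ((biprod.inr : J ⟶ L ⊞ J) ≫ (biprod.inl : L ⊞ J ⟶ (L ⊞ J) ⊞ P)) ≫
    ((biprod.fst : (L ⊞ J) ⊞ P ⟶ L ⊞ J) ≫ (biprod.snd : L ⊞ J ⟶ J)) = 𝟙 _ := by simp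
theorem tf_LJ : ((biprod.inl : L ⟶ L ⊞ J) ≫ (biprod.inl : L ⊞ J ⟶ (L ⊞ J) ⊞ P)) ≫
    ((biprod.fst : (L ⊞ J) ⊞ P ⟶ L ⊞ J) ≫ (biprod.snd : L ⊞ J ⟶ J)) = 0 := by simp
theorem tf_LP : ((biprod.inl : L ⟶ L ⊞ J) ≫ (biprod.inl : L ⊞ J ⟶ (L ⊞ J) ⊞ P)) ≫
    (biprod.snd : (L ⊞ J) ⊞ P ⟶ P) = 0 := by simp
theorem tf_JL : ((biprod.inr : J ⟶ L ⊞ J) ≫ (biprod.inl : L ⊞ J ⟶ (L ⊞ J) ⊞ P)) ≫
    ((biprod.fst : (L ⊞ J) ⊞ P ⟶ L ⊞ J) ≫ (biprod.fst : L ⊞ J ⟶ L)) = 0 := by simp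
theorem tf_JP : ((biprod.inr : J ⟶ L ⊞ J) ≫ (biprod.inl : L ⊞ J ⟶ (L ⊞ J) ⊞ P)) ≫
    (biprod.snd : (L ⊞ J) ⊞ P ⟶ P) = 0 := by simp
theorem tf_PL : (biprod.inr : P ⟶ (L ⊞ J) ⊞ P) ≫
    ((biprod.fst : (L ⊞ J) ⊞ P ⟶ L ⊞ J) ≫ (biprod.fst : L ⊞ J ⟶ L)) = 0 := by simp
theorem tf_PJ : (biprod.inr : P ⟶ (L ⊞ J) ⊞ P) ≫
    ((biprod.fst : (L ⊞ J) ⊞ P ⟶ L ⊞ J) ≫ (biprod.snd : L ⊞ J ⟶ J)) = 0 := by simp

theorem tf_tot : ((biprod.fst : (L ⊞ J) ⊞ P ⟶ L ⊞ J) ≫ (biprod.fst : L ⊞ J ⟶ L)) ≫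
      ((biprod.inl : L ⟶ L ⊞ J) ≫ (biprod.inl : L ⊞ J ⟶ (L ⊞ J) ⊞ P)) +
    ((biprod.fst : (L ⊞ J) ⊞ P ⟶ L ⊞ J) ≫ (biprod.snd : L ⊞ J ⟶ J)) ≫
      ((biprod.inr : J ⟶ L ⊞ J) ≫ (biprod.inl : L ⊞ J ⟶ (L ⊞ J) ⊞ P)) +
    (biprod.snd : (L ⊞ J) ⊞ P ⟶ P) ≫ (biprod.inr : P ⟶ (L ⊞ J) ⊞ P) = 𝟙 _ := by
  have h1 : ((biprod.fst : (L ⊞ J) ⊞ P ⟶ L ⊞ J) ≫ (biprod.fst : L ⊞ J ⟶ L)) ≫
      ((biprod.inl : L ⟶ L ⊞ J) ≫ (biprod.inl : L ⊞ J ⟶ (L ⊞ J) ⊞ P)) +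
    ((biprod.fst : (L ⊞ J) ⊞ P ⟶ L ⊞ J) ≫ (biprod.snd : L ⊞ J ⟶ J)) ≫
      ((biprod.inr : J ⟶ L ⊞ J) ≫ (biprod.inl : L ⊞ J ⟶ (L ⊞ J) ⊞ P)) =
      (biprod.fst : (L ⊞ J) ⊞ P ⟶ L ⊞ J) ≫ (biprod.inl : L ⊞ J ⟶ (L ⊞ J) ⊞ P) := by
    have : (biprod.fst : L ⊞ J ⟶ L) ≫ (biprod.inl : L ⟶ L ⊞ J) +
        (biprod.snd : L ⊞ J ⟶ J) ≫ (biprod.inr : J ⟶ L ⊞ J) = 𝟙 _ := biprod.total
    calc _ = (biprod.fst : (L ⊞ J) ⊞ P ⟶ L ⊞ J) ≫ ((biprod.fst : L ⊞ J ⟶ L) ≫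
              (biprod.inl : L ⟶ L ⊞ J) + (biprod.snd : L ⊞ J ⟶ J) ≫
              (biprod.inr : J ⟶ L ⊞ J)) ≫ (biprod.inl : L ⊞ J ⟶ (L ⊞ J) ⊞ P) := by
            simp only [Preadditive.add_comp, Preadditive.comp_add, Category.assoc]
      _ = _ := by rw [this, Category.id_comp]
  rw [h1]
  exact biprod.total

end threefold

theorem step (I : ObjectProperty A) [I.IsClosedUnderIsomorphisms]
    (hI0 : ∃ Z : A, IsZero Z ∧ I Z) (hIprod : ∀ X Y : A, I X → I Y → I (X ⊞ Y))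
    (hI : ∀ X : A, ∃ (Y : A) (ι : X ⟶ Y), I Y ∧ Mono ι)
    (T L : CochainComplex A ℤ) (a : ℤ) [T.IsStrictlyGE a] [L.IsStrictlyGE a]
    (hL : ∀ i, I (L.X i)) (f : T ⟶ L) :
    ∃ (I' : CochainComplex A ℤ) (π' : T ⟶ I') (p : I' ⟶ L),
      I'.IsStrictlyGE a ∧ (∀ i, I (I'.X i)) ∧ QuasiIso π' ∧ (∀ i, Mono (π'.f i)) ∧
      (∀ i, (∃ s : L.X i ⟶ I'.X i, s ≫ p.f i = 𝟙 _) ∧ I (kernel (p.f i))) ∧ π' ≫ p = f := by
  obtain ⟨J, j, hJb, hJI, hjm, -⟩ := Groth.Agent.S6590.result I hI0 hI T a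
  let M := L ⊞ J
  have hMb : M.IsStrictlyGE a := isStrictlyGE_biprod L J a
  let g : T ⟶ M := biprod.lift f j
  have hgm : ∀ i, Mono (g.f i) := fun i => by
    have h : g.f i ≫ (biprod.snd : M ⟶ J).f i = j.f i := by
      rw [← HomologicalComplex.comp_f, biprod.lift_snd]
    have := hjm i
    exact mono_of_mono_fac h
  have hg : Mono g := HomologicalComplex.mono_of_mono_f g hgm
  let S₁ : ShortComplex (CochainComplex A ℤ) :=
    ShortComplex.mk g (cokernel.π g) (cokernel.condition g)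
  have hS₁ : S₁.ShortExact :=
    { exact := ShortComplex.exact_cokernel g
      mono_f := hg
      epi_g := inferInstanceAs (Epi (cokernel.π g)) }
  have hCb : (cokernel g).IsStrictlyGE a :=
    isStrictlyGE_of_epi (cokernel.π g) (fun i => inferInstance) a
  have hCb' : ((cokernel g)⟦(-1 : ℤ)⟧).IsStrictlyGE (a + 1) :=
    CochainComplex.isStrictlyGE_shift (cokernel g) a (-1) (a + 1) (by lia)
  obtain ⟨R, r, hRb, hRI, -, hrq⟩ :=
    Groth.Agent.S6590.result I hI0 hI ((cokernel g)⟦(-1 : ℤ)⟧) (a + 1)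
  let c : cokernel g ⟶ R⟦(1 : ℤ)⟧ :=
    (shiftFunctorCompIsoId (CochainComplex A ℤ) (-1 : ℤ) 1 (by lia)).inv.app (cokernel g) ≫
      r⟦(1 : ℤ)⟧'
  have hcq : QuasiIso c := by
    have : QuasiIso (r⟦(1 : ℤ)⟧') := by
      rw [CochainComplex.quasiIso_shift_iff]
      exact hrq
    dsimp only [c]
    infer_instance
  let P := mappingCone (𝟙 R)
  have hPb : P.IsStrictlyGE a := isStrictlyGE_cone_id R a
  have hMPb : (M ⊞ P).IsStrictlyGE a := isStrictlyGE_biprod M P a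
  let v : M ⊞ P ⟶ R⟦(1 : ℤ)⟧ := biprod.desc (cokernel.π g ≫ c) (q R)
  have hvq : (biprod.inr : P ⟶ M ⊞ P) ≫ v = q R := biprod.inr_desc _ _
  have hve : Epi v := by
    apply HomologicalComplex.epi_of_epi_f
    intro i
    obtain ⟨σ, τ, hσ, -⟩ := coneData R i
    have h : (σ ≫ (biprod.inr : P ⟶ M ⊞ P).f i) ≫ v.f i = 𝟙 _ := by
      rw [Category.assoc, ← HomologicalComplex.comp_f, hvq, hσ]
    exact epi_of_epi_fac h
  let S₂ : ShortComplex (CochainComplex A ℤ) :=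
    ShortComplex.mk (kernel.ι v) v (kernel.condition v)
  have hS₂ : S₂.ShortExact :=
    { exact := ShortComplex.exact_kernel v
      mono_f := inferInstanceAs (Mono (kernel.ι v))
      epi_g := hve }
  have hz : (g ≫ (biprod.inl : M ⟶ M ⊞ P)) ≫ v = 0 := by
    rw [Category.assoc, biprod.inl_desc, cokernel.condition_assoc, zero_comp]
  let φ : S₁ ⟶ S₂ :=
    { τ₁ := kernel.lift v (g ≫ biprod.inl) hz
      τ₂ := biprod.inl
      τ₃ := c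
      comm₁₂ := by simp [S₁, S₂]
      comm₂₃ := by simp [S₁, S₂, v] }
  have hφ₂ : QuasiIso φ.τ₂ := quasiIso_biprod_inl M P (mappingCone.homotopyToZeroOfId R)
  have hφ₁ : QuasiIso φ.τ₁ := Groth.Agent.S12229.quasiIso_τ₁ hS₁ hS₂ φ hφ₂ hcq
  let π' : T ⟶ kernel v := kernel.lift v (g ≫ biprod.inl) hz
  let p : kernel v ⟶ L := kernel.ι v ≫ biprod.fst ≫ biprod.fst
  have hπ'ι : π' ≫ kernel.ι v = g ≫ biprod.inl := kernel.lift_ι _ _ _
  have hKb : (kernel v).IsStrictlyGE a :=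
    isStrictlyGE_of_mono (kernel.ι v) (fun i => inferInstance) a
  -- termwise analysis
  let iL : L ⟶ M ⊞ P := biprod.inl ≫ biprod.inl
  let iJ : J ⟶ M ⊞ P := biprod.inr ≫ biprod.inl
  let iP : P ⟶ M ⊞ P := biprod.inr
  let rL : M ⊞ P ⟶ L := biprod.fst ≫ biprod.fst
  let rJ : M ⊞ P ⟶ J := biprod.fst ≫ biprod.snd
  let rP : M ⊞ P ⟶ P := biprod.snd
  have hLL : iL ≫ rL = 𝟙 _ := tf_LL L J P
  have hJJ : iJ ≫ rJ = 𝟙 _ := tf_JJ L J P
  have hPP : iP ≫ rP = 𝟙 _ := biprod.inr_snd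
  have hLJ : iL ≫ rJ = 0 := tf_LJ L J P
  have hLP : iL ≫ rP = 0 := tf_LP L J P
  have hJL : iJ ≫ rL = 0 := tf_JL L J P
  have hJP : iJ ≫ rP = 0 := tf_JP L J P
  have hPL : iP ≫ rL = 0 := tf_PL L J P
  have hPJ : iP ≫ rJ = 0 := tf_PJ L J P
  have htot : rL ≫ iL + rJ ≫ iJ + rP ≫ iP = 𝟙 _ := tf_tot L J P
  have hp : p = kernel.ι v ≫ rL := rfl
  have key : ∀ i, ∃ (α : J.X i ⊞ R.X i ⟶ (kernel v).X i) (w : α ≫ p.f i = 0),
      Nonempty (ShortComplex.mk α (p.f i) w).Splitting := by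
    intro i
    obtain ⟨σ, τ, hσ, h2, h3, h4, h5⟩ := coneData R i
    have hq : iP.f i ≫ v.f i = (q R).f i := by
      rw [← HomologicalComplex.comp_f, hvq]
    have hk0 : (kernel.ι v).f i ≫ v.f i = 0 := by
      rw [← HomologicalComplex.comp_f, kernel.condition, HomologicalComplex.zero_f]
    have hk : IsLimit (KernelFork.ofι ((kernel.ι v).f i) hk0) :=
      KernelFork.mapIsLimit _ (kernelIsKernel v) (HomologicalComplex.eval A _ i)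
    have t := fun (x y : M ⊞ P ⟶ M ⊞ P) => HomologicalComplex.add_f_apply x y i
    exact lemmaZ (iL.f i) (iJ.f i) (iP.f i) (rL.f i) (rJ.f i) (rP.f i)
      (by rw [← HomologicalComplex.comp_f, hLL, HomologicalComplex.id_f])
      (by rw [← HomologicalComplex.comp_f, hJJ, HomologicalComplex.id_f])
      (by rw [← HomologicalComplex.comp_f, hPP, HomologicalComplex.id_f])
      (by rw [← HomologicalComplex.comp_f, hLJ, HomologicalComplex.zero_f])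
      (by rw [← HomologicalComplex.comp_f, hLP, HomologicalComplex.zero_f])
      (by rw [← HomologicalComplex.comp_f, hJL, HomologicalComplex.zero_f])
      (by rw [← HomologicalComplex.comp_f, hJP, HomologicalComplex.zero_f])
      (by rw [← HomologicalComplex.comp_f, hPL, HomologicalComplex.zero_f])
      (by rw [← HomologicalComplex.comp_f, hPJ, HomologicalComplex.zero_f])
      (by rw [← HomologicalComplex.comp_f, ← HomologicalComplex.comp_f,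
        ← HomologicalComplex.comp_f, ← HomologicalComplex.add_f_apply,
        ← HomologicalComplex.add_f_apply, htot, HomologicalComplex.id_f])
      (v.f i) σ τ ((mappingCone.inr (𝟙 R)).f i)
      (by rw [hq]; exact hσ) (by rw [hq]; exact h2) h3 h4 (by rw [hq]; exact h5)
      ((kernel.ι v).f i) hk0 hk
  refine ⟨kernel v, π', p, hKb, ?_, hφ₁, ?_, ?_, ?_⟩
  · intro i
    obtain ⟨α, w, ⟨σS⟩⟩ := key i
    exact I.prop_of_iso σS.isoBinaryBiproduct.symm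
      (hIprod _ _ (hIprod _ _ (hJI i) (hRI i)) (hL i))
  · intro i
    have h : π'.f i ≫ ((kernel.ι v).f i ≫ (biprod.fst : M ⊞ P ⟶ M).f i) = g.f i := by
      rw [← HomologicalComplex.comp_f, ← HomologicalComplex.comp_f, reassoc_of% hπ'ι,
        biprod.inl_fst, Category.comp_id]
    have := hgm i
    exact mono_of_mono_fac h
  · intro i
    obtain ⟨α, w, ⟨σS⟩⟩ := key i
    refine ⟨⟨σS.s, σS.s_g⟩, ?_⟩
    exact I.prop_of_iso (IsLimit.conePointUniqueUpToIso σS.fIsKernel (limit.isLimit (parallelPair (p.f i) 0)))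
      (hIprod _ _ (hJI i) (hRI i))
  · dsimp only [p]
    rw [reassoc_of% hπ'ι, biprod.inl_fst_assoc, biprod.lift_fst]


theorem exists_truncGE_map (K : CochainComplex A ℤ) (a b : ℤ) (hab : a < b) :
    ∃ c : K.truncGE a ⟶ K.truncGE b, K.πTruncGE a ≫ c = K.πTruncGE b := by
  have : Epi (K.πTruncGE a) := by dsimp [CochainComplex.πTruncGE]; infer_instance
  refine ⟨Abelian.epiDesc (K.πTruncGE a) (K.πTruncGE b) ?_, Abelian.comp_epiDesc _ _ _⟩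
  ext i
  by_cases hi : i < b
  · exact ((K.truncGE b).isZero_of_isStrictlyGE b i hi).eq_of_tgt _ _
  · have := Groth.Agent.Lib.Helper23TruncGE.isIso_πTruncGE_f K a i (by lia)
    have h : (kernel.ι (K.πTruncGE a)).f i ≫ (K.πTruncGE a).f i = 0 := by
      rw [← HomologicalComplex.comp_f, kernel.condition, HomologicalComplex.zero_f]
    have h0 : (kernel.ι (K.πTruncGE a)).f i = 0 := by
      rw [← cancel_mono ((K.πTruncGE a).f i), h, zero_comp]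
    rw [HomologicalComplex.comp_f, h0, zero_comp, HomologicalComplex.zero_f]

section seq

variable (I : ObjectProperty A) (K : CochainComplex A ℤ)

/-- the data of the `n`-th resolution. -/
structure Data (n : ℕ) where
  Q : CochainComplex A ℤ
  π : K.truncGE (-(n : ℤ)) ⟶ Q
  a : ℤ
  hQ : Q.IsStrictlyGE a
  hI : ∀ i, I (Q.X i)
  hq : QuasiIso π
  hm : ∀ i, Mono (π.f i)

variable [I.IsClosedUnderIsomorphisms]
    (hI0 : ∃ Z : A, IsZero Z ∧ I Z) (hIprod : ∀ X Y : A, I X → I Y → I (X ⊞ Y))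
    (hI : ∀ X : A, ∃ (Y : A) (ι : X ⟶ Y), I Y ∧ Mono ι)

include hI0 hI in
theorem exists_base : Nonempty (Data I K 0) := by
  obtain ⟨L, α, hL, hLI, hm, hq⟩ :=
    Groth.Agent.S6590.result I hI0 hI (K.truncGE (-((0 : ℕ) : ℤ))) (-((0 : ℕ) : ℤ))
  exact ⟨{ Q := L, π := α, a := _, hQ := hL, hI := hLI, hq := hq, hm := hm }⟩

include hI0 hIprod hI in
theorem step' {n : ℕ} (d : Data I K n) : ∃ (d' : Data I K (n + 1)) (p : d'.Q ⟶ d.Q),
    (∀ i, (∃ s : d.Q.X i ⟶ d'.Q.X i, s ≫ p.f i = 𝟙 _) ∧ I (kernel (p.f i))) ∧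
      K.πTruncGE (-((n + 1 : ℕ) : ℤ)) ≫ d'.π ≫ p = K.πTruncGE (-(n : ℤ)) ≫ d.π := by
  obtain ⟨c, hc⟩ := exists_truncGE_map K (-((n + 1 : ℕ) : ℤ)) (-(n : ℤ)) (by push_cast; lia)
  let a' := min (-((n + 1 : ℕ) : ℤ)) d.a
  have := d.hQ
  have h1 : (K.truncGE (-((n + 1 : ℕ) : ℤ))).IsStrictlyGE a' :=
    CochainComplex.isStrictlyGE_of_ge _ a' (-((n + 1 : ℕ) : ℤ)) (min_le_left _ _)
  have h2 : d.Q.IsStrictlyGE a' :=
    CochainComplex.isStrictlyGE_of_ge _ a' d.a (min_le_right _ _)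
  obtain ⟨I', π', p, hb, hI', hq, hm, hs, hfac⟩ :=
    step I hI0 hIprod hI (K.truncGE (-((n + 1 : ℕ) : ℤ))) d.Q a' d.hI (c ≫ d.π)
  exact ⟨{ Q := I', π := π', a := a', hQ := hb, hI := hI', hq := hq, hm := hm }, p, hs, by
    show K.πTruncGE (-((n + 1 : ℕ) : ℤ)) ≫ π' ≫ p = _
    rw [hfac, reassoc_of% hc]⟩

/-- the sequence of resolutions. -/
noncomputable def seq : (n : ℕ) → Data I K n
  | 0 => (exists_base I K hI0 hI).some
  | n + 1 => (step' I K hI0 hIprod hI (seq n)).choose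

end seq

end Groth.Agent.Lib.Helper23Spalt
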