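import Mathlib
import Groth.Agent.Lib.Helper23Spalt
import Groth.Agent.Lib.Helper23Dual
import Groth.Agent.S0970

/-!
# helper1: special direct systems of left resolutions (dual of helper23's `Helper23Spalt`)
-/

set_option autoImplicit false
set_option linter.style.haveILetI false
set_option maxHeartbeats 400000
universe v u
open CategoryTheory CategoryTheory.Limits Opposite

namespace Groth.Agent.Lib.Helper1.LSys

open Groth.Agent.Lib.Helper23Dual Groth.Agent.Lib.Helper23Spalt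

variable {A : Type u} [Category.{v} A] [Abelian A]

/-- `unop (X ⊞ Y) ≅ unop X ⊞ unop Y`. -/
noncomputable def unopBiprodIso (X Y : Aᵒᵖ) : unop (X ⊞ Y) ≅ unop X ⊞ unop Y := by
  let b : BinaryBicone (unop X) (unop Y) :=
    { pt := unop (X ⊞ Y)
      fst := (biprod.inl : X ⟶ X ⊞ Y).unop
      snd := (biprod.inr : Y ⟶ X ⊞ Y).unop
      inl := (biprod.fst : X ⊞ Y ⟶ X).unop
      inr := (biprod.snd : X ⊞ Y ⟶ Y).unop
      inl_fst := by rw [← unop_comp, biprod.inl_fst, unop_id]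
      inl_snd := by rw [← unop_comp, biprod.inr_fst, unop_zero]
      inr_fst := by rw [← unop_comp, biprod.inl_snd, unop_zero]
      inr_snd := by rw [← unop_comp, biprod.inr_snd, unop_id] }
  have hb : b.IsBilimit := isBinaryBilimitOfTotal b (by
    show (biprod.inl : X ⟶ X ⊞ Y).unop ≫ (biprod.fst : X ⊞ Y ⟶ X).unop +
      (biprod.inr : Y ⟶ X ⊞ Y).unop ≫ (biprod.snd : X ⊞ Y ⟶ Y).unop = 𝟙 _
    rw [← unop_comp, ← unop_comp, ← unop_add, biprod.total, unop_id])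
  exact biprod.uniqueUpToIso _ _ hb


/-- the dual of helper23's `step`: factor `f : L ⟶ T` (bounded above, `L` with terms in `P`) as a
termwise split monomorphism with cokernels in `P` followed by a termwise epic quasi-isomorphism
from a bounded above complex with terms in `P`. -/
theorem stepL (P : ObjectProperty A) [P.IsClosedUnderIsomorphisms]
    (hP0 : ∃ Z : A, IsZero Z ∧ P Z) (hPsum : ∀ X Y : A, P X → P Y → P (X ⊞ Y))
    (hP : ∀ X : A, ∃ (Y : A) (π : Y ⟶ X), P Y ∧ Epi π)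
    (T L : CochainComplex A ℤ) (a : ℤ) [T.IsStrictlyLE a] [L.IsStrictlyLE a]
    (hL : ∀ i, P (L.X i)) (f : L ⟶ T) :
    ∃ (P' : CochainComplex A ℤ) (ι : L ⟶ P') (π' : P' ⟶ T),
      P'.IsStrictlyLE a ∧ (∀ i, P (P'.X i)) ∧ QuasiIso π' ∧ (∀ i, Epi (π'.f i)) ∧
      (∀ i, (∃ r : P'.X i ⟶ L.X i, ι.f i ≫ r = 𝟙 _) ∧ P (cokernel (ι.f i))) ∧ ι ≫ π' = f := by
  obtain ⟨Z, hZ, hPZ⟩ := hP0
  let I' : ObjectProperty Aᵒᵖ := P.op
  haveI := isStrictlyGE_dual T a
  haveI := isStrictlyGE_dual L a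
  obtain ⟨Q, π'', p, hb, hQ, hq, hm, hs, hfac⟩ := step I' ⟨op Z, hZ.op, hPZ⟩
    (fun X Y hX hY => P.prop_of_iso (unopBiprodIso X Y).symm (hPsum _ _ hX hY))
    (fun X => by
      obtain ⟨Y, π, hY, hπ⟩ := hP (unop X)
      exact ⟨op Y, π.op, hY, inferInstance⟩)
    (dual T) (dual L) (-a) (fun i => hL (-i)) (dualMap f)
  haveI := hb
  refine ⟨dual' Q, (ddIso L).inv ≫ dualMap' p, dualMap' π'' ≫ (ddIso T).hom,
    isStrictlyLE_dual' Q a, fun i => hQ (-i), ?_, ?_, ?_, ?_⟩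
  · have := (quasiIso_dualMap'_iff π'').2 hq
    infer_instance
  · intro n
    rw [HomologicalComplex.comp_f, dualMap'_f, ddIso_hom_f]
    have h1 : Mono (π''.f (-n)) := hm (-n)
    have h2 : Epi (π''.f (-n)).unop := unop_epi_of_mono _
    have h3 : Epi (T.XIsoOfEq (neg_neg n)).hom := inferInstance
    exact @epi_comp _ _ _ _ _ (π''.f (-n)).unop h2 _ h3
  · intro n
    obtain ⟨⟨s, hs1⟩, hs2⟩ := hs (-n)
    let pn : (dual' (dual L)).X n ⟶ (dual' Q).X n := (dualMap' p).f n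
    let sn : (dual' Q).X n ⟶ (dual' (dual L)).X n := s.unop
    have h1 : pn ≫ sn = 𝟙 _ := by
      show (p.f (-n)).unop ≫ s.unop = 𝟙 _
      rw [← unop_comp, hs1]
      rfl
    have h2 : (ddIso L).inv.f n ≫ (ddIso L).hom.f n = 𝟙 _ := by
      rw [← HomologicalComplex.comp_f, Iso.inv_hom_id, HomologicalComplex.id_f]
    have hι : ((ddIso L).inv ≫ dualMap' p).f n = (ddIso L).inv.f n ≫ pn := rfl
    constructor
    · refine ⟨sn ≫ (ddIso L).hom.f n, ?_⟩
      rw [hι, Category.assoc, reassoc_of% h1, h2]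
    · rw [hι]
      have e1 : cokernel ((ddIso L).inv.f n ≫ pn) ≅ cokernel pn := cokernelEpiComp _ _
      have e2 : cokernel ((p.f (-n)).unop) ≅ (kernel (p.f (-n))).unop := cokernelUnopUnop _
      have e2' : cokernel pn ≅ (kernel (p.f (-n))).unop := e2
      exact P.prop_of_iso (e1 ≪≫ e2').symm hs2
  · have h := congrArg dualMap' hfac
    rw [dualMap'_comp] at h
    rw [Category.assoc, ← Category.assoc (dualMap' p), h, ddIso_naturality, Iso.inv_hom_id_assoc]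


theorem exists_truncLE_map (K : CochainComplex A ℤ) (a b : ℤ) (hab : a ≤ b) :
    ∃ c : K.truncLE a ⟶ K.truncLE b, c ≫ K.ιTruncLE b = K.ιTruncLE a := by
  haveI : (K.truncLE a).IsStrictlyLE b := CochainComplex.isStrictlyLE_of_le _ a b hab
  refine ⟨inv ((K.truncLE a).ιTruncLE b) ≫ CochainComplex.truncLEMap (K.ιTruncLE a) b, ?_⟩
  rw [Category.assoc, CochainComplex.ιTruncLE_naturality, IsIso.inv_hom_id_assoc]

section seq

variable (P : ObjectProperty A) (K : CochainComplex A ℤ) (t : ℕ → ℤ)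

/-- the data of the `n`-th left resolution. -/
structure LData (n : ℕ) where
  Q : CochainComplex A ℤ
  π : Q ⟶ K.truncLE (t n)
  a : ℤ
  hQ : Q.IsStrictlyLE a
  hP : ∀ i, P (Q.X i)
  hq : QuasiIso π
  he : ∀ i, Epi (π.f i)

variable [P.IsClosedUnderIsomorphisms]
    (hP0 : ∃ Z : A, IsZero Z ∧ P Z) (hPsum : ∀ X Y : A, P X → P Y → P (X ⊞ Y))
    (hP : ∀ X : A, ∃ (Y : A) (π : Y ⟶ X), P Y ∧ Epi π) (ht : ∀ n, t n ≤ t (n + 1))

include hP0 hP in
theorem exists_baseL : Nonempty (LData P K t 0) := by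
  obtain ⟨L, α, hL, hLP, he, hq⟩ :=
    Groth.Agent.S0970.result P hP0 hP (K.truncLE (t 0)) (t 0)
  exact ⟨{ Q := L, π := α, a := _, hQ := hL, hP := hLP, hq := hq, he := he }⟩

include hP0 hPsum hP ht in
theorem stepL' {n : ℕ} (d : LData P K t n) : ∃ (d' : LData P K t (n + 1)) (ι : d.Q ⟶ d'.Q),
    (∀ i, (∃ r : d'.Q.X i ⟶ d.Q.X i, ι.f i ≫ r = 𝟙 _) ∧ P (cokernel (ι.f i))) ∧
      ι ≫ d'.π ≫ K.ιTruncLE (t (n + 1)) = d.π ≫ K.ιTruncLE (t n) := by
  obtain ⟨c, hc⟩ := exists_truncLE_map K (t n) (t (n + 1)) (ht n)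
  let a' := max (t (n + 1)) d.a
  have := d.hQ
  have h1 : (K.truncLE (t (n + 1))).IsStrictlyLE a' :=
    CochainComplex.isStrictlyLE_of_le _ (t (n + 1)) a' (le_max_left _ _)
  have h2 : d.Q.IsStrictlyLE a' :=
    CochainComplex.isStrictlyLE_of_le _ d.a a' (le_max_right _ _)
  obtain ⟨P', ι, π', hb, hP', hq, he, hs, hfac⟩ :=
    stepL P hP0 hPsum hP (K.truncLE (t (n + 1))) d.Q a' d.hP (d.π ≫ c)
  exact ⟨{ Q := P', π := π', a := a', hQ := hb, hP := hP', hq := hq, he := he }, ι, hs, by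
    show ι ≫ π' ≫ _ = _
    rw [reassoc_of% hfac, hc]⟩

/-- the sequence of resolutions. -/
noncomputable def seqL : (n : ℕ) → LData P K t n
  | 0 => (exists_baseL P K t hP0 hP).some
  | n + 1 => (stepL' P K t hP0 hPsum hP ht (seqL n)).choose

include hP0 hPsum hP ht in
/-- **Special direct systems of left resolutions**: for `t : ℕ → ℤ` increasing, bounded above
complexes `Q n` with terms in `P`, termwise epic quasi-isomorphisms `Q n ⟶ τ_{≤ t n} K` and termwise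
split injections `Q n ⟶ Q (n+1)` with cokernels in `P`, compatible over `K`. -/
theorem exists_system :
    ∃ (Q : ℕ → CochainComplex A ℤ) (ι : ∀ n, Q n ⟶ Q (n + 1))
      (π : ∀ n : ℕ, Q n ⟶ K.truncLE (t n)),
      (∀ n, QuasiIso (π n) ∧ ∀ i, Epi ((π n).f i)) ∧
      (∀ n, ∃ b : ℤ, (Q n).IsStrictlyLE b) ∧ (∀ n i, P ((Q n).X i)) ∧
      (∀ n i, (∃ r : (Q (n + 1)).X i ⟶ (Q n).X i, (ι n).f i ≫ r = 𝟙 _) ∧
        P (cokernel ((ι n).f i))) ∧
      (∀ n : ℕ, π n ≫ K.ιTruncLE (t n) = ι n ≫ π (n + 1) ≫ K.ιTruncLE (t (n + 1))) := by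
  let D := seqL P K t hP0 hPsum hP ht
  have hspec := fun n => (stepL' P K t hP0 hPsum hP ht (D n)).choose_spec
  refine ⟨fun n => (D n).Q, fun n => (hspec n).choose, fun n => (D n).π,
    fun n => ⟨(D n).hq, (D n).he⟩, fun n => ⟨(D n).a, (D n).hQ⟩, fun n i => (D n).hP i,
    fun n i => (hspec n).choose_spec.1 i, fun n => ((hspec n).choose_spec.2).symm⟩

end seq

end Groth.Agent.Lib.Helper1.LSys
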