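import Mathlib
import Groth.Agent.Lib.Helper1LSys
import Groth.Agent.Lib.Helper13HomologyColim
import Groth.Agent.Lib.Helper21ModTensor5
import Groth.Agent.S6152

/-!
# helper1: systems of resolutions by sums of `j_! O_U` on a ringed site, and their colimit
-/

set_option autoImplicit false
set_option linter.style.haveILetI false
set_option maxHeartbeats 400000
universe v u
open CategoryTheory CategoryTheory.Limits Opposite

namespace Groth.Agent.Lib.Helper1.FSys

/-! ### colimits of sequences of resolutions -/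

section colim

variable {M : Type*} [Category M] [Abelian M] [HasColimitsOfShape ℕ M]
  [HasExactColimitsOfShape ℕ M]

open Groth.Agent.Helper13HomologyColim

/-- if the legs of a cocone `s` over `Kc : ℕ ⥤ CochainComplex M ℤ` are eventually
quasi-isomorphisms in each degree, then the map `colimit Kc ⟶ s.pt` is a quasi-isomorphism. -/
theorem quasiIso_colimit_desc (Kc : ℕ ⥤ CochainComplex M ℤ) (s : Cocone Kc)
    (h : ∀ i : ℤ, ∃ N : ℕ, ∀ n, N ≤ n → QuasiIsoAt (s.ι.app n) i) :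
    QuasiIso (colimit.desc Kc s) := by
  rw [quasiIso_iff]
  intro i
  rw [quasiIsoAt_iff_isIso_homologyMap]
  obtain ⟨N, hN⟩ := h i
  let H := HomologicalComplex.homologyFunctor M (ComplexShape.up ℤ) i
  have hleg : ∀ n, N ≤ n → IsIso (H.map (s.ι.app n)) := fun n hn => by
    have := hN n hn
    rw [quasiIsoAt_iff_isIso_homologyMap] at this
    exact this
  have hc1 : IsColimit (H.mapCocone (colimit.cocone Kc)) :=
    isColimitOfPreserves H (colimit.isColimit Kc)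
  have hev : (Kc ⋙ H).IsEventuallyConstantFrom N := by
    intro j f
    have hj : N ≤ j := leOfHom f
    haveI := hleg j hj
    haveI := hleg N le_rfl
    have hfac : (Kc ⋙ H).map f ≫ H.map (s.ι.app j) = H.map (s.ι.app N) := by
      dsimp
      rw [← H.map_comp, s.w]
    exact IsIso.of_isIso_fac_right hfac
  haveI : IsIso ((H.mapCocone s).ι.app N) := hleg N le_rfl
  have hc2 : IsColimit (H.mapCocone s) := hev.isColimitOfIsIso (H.mapCocone s)
  have heq : H.map (colimit.desc Kc s) = (hc1.coconePointUniqueUpToIso hc2).hom := by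
    apply hc1.hom_ext
    intro n
    rw [IsColimit.comp_coconePointUniqueUpToIso_hom]
    dsimp
    rw [← H.map_comp, colimit.ι_desc]
  show IsIso (H.map (colimit.desc Kc s))
  rw [heq]
  infer_instance

end colim


/-! ### the class of sums of modules `j_! O_U` -/

section FreeSum

variable {C : Type u} [SmallCategory C] {J : GrothendieckTopology C} (O : Sheaf J CommRingCat.{u})

/-- `M` is isomorphic to a coproduct of modules `j_{U!} O_U`. -/
def IsFreeSum : ObjectProperty (ModSite.Mod O) := fun M =>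
  ∃ (ι : Type u) (U : ι → C), Nonempty (M ≅ ∐ fun j => ModSite.freeOn O (U j))

instance : (IsFreeSum O).IsClosedUnderIsomorphisms where
  of_iso := by
    rintro X Y e ⟨ι, U, ⟨e'⟩⟩
    exact ⟨ι, U, ⟨e.symm ≪≫ e'⟩⟩

theorem isFreeSum_zero : ∃ Z : ModSite.Mod O, IsZero Z ∧ IsFreeSum O Z := by
  refine ⟨∐ fun j : PEmpty.{u + 1} => ModSite.freeOn O (PEmpty.elim j), ?_,
    ⟨PEmpty.{u + 1}, fun j => PEmpty.elim j, ⟨Iso.refl _⟩⟩⟩
  rw [IsZero.iff_id_eq_zero]
  apply Sigma.hom_ext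
  intro j
  exact j.elim

theorem isFreeSum_biprod (X Y : ModSite.Mod O) (hX : IsFreeSum O X) (hY : IsFreeSum O Y) :
    IsFreeSum O (X ⊞ Y) := by
  obtain ⟨ι₁, U₁, ⟨e₁⟩⟩ := hX
  obtain ⟨ι₂, U₂, ⟨e₂⟩⟩ := hY
  refine ⟨ι₁ ⊕ ι₂, Sum.elim U₁ U₂, ⟨?_⟩⟩
  let f₁ : ι₁ → ModSite.Mod O := fun j => ModSite.freeOn O (U₁ j)
  let f₂ : ι₂ → ModSite.Mod O := fun j => ModSite.freeOn O (U₂ j)
  have h₁ : IsColimit (Cofan.mk (∐ f₁) (Sigma.ι f₁)) := coproductIsCoproduct f₁
  have h₂ : IsColimit (Cofan.mk (∐ f₂) (Sigma.ι f₂)) := coproductIsCoproduct f₂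
  have h : IsColimit (BinaryBiproduct.bicone (∐ f₁) (∐ f₂)).toCocone :=
    BinaryBiproduct.isColimit (∐ f₁) (∐ f₂)
  have hc := Cofan.combPairIsColimit h₁ h₂ h
  let e₃ : (∐ f₁) ⊞ (∐ f₂) ≅ ∐ (Sum.elim f₁ f₂) :=
    hc.coconePointUniqueUpToIso (colimit.isColimit _)
  let e₄ : ∐ (Sum.elim f₁ f₂) ≅ ∐ fun j => ModSite.freeOn O (Sum.elim U₁ U₂ j) :=
    Sigma.mapIso (fun j => match j with
      | .inl _ => Iso.refl _
      | .inr _ => Iso.refl _)
  exact biprod.mapIso e₁ e₂ ≪≫ e₃ ≪≫ e₄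

theorem exists_epi_isFreeSum (X : ModSite.Mod O) :
    ∃ (Y : ModSite.Mod O) (π : Y ⟶ X), IsFreeSum O Y ∧ Epi π := by
  have hsep := (Groth.Agent.S6152.result O Set.univ (fun X => ⟨PUnit, fun _ => X, fun _ => 𝟙 X, by
    have : Sieve.ofArrows (fun _ : PUnit.{u + 1} => X) (fun _ => 𝟙 X) = ⊤ := by
      rw [← Sieve.id_mem_iff_eq_top]
      exact Sieve.ofArrows_mk _ _ PUnit.unit
    rw [this]
    exact J.top_mem X, fun _ => trivial⟩)).2
  let ι : Type u := Σ U : C, (ModSite.freeOn O U ⟶ X)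
  let f : ι → ModSite.Mod O := fun j => ModSite.freeOn O j.1
  refine ⟨∐ f, Sigma.desc (fun j : ι => j.2), ⟨ι, fun j => j.1, ⟨Iso.refl _⟩⟩, ⟨?_⟩⟩
  intro Z a b hab
  apply hsep
  rintro G ⟨U⟩ g
  have := Sigma.ι f ⟨(U : C), g⟩ ≫= hab
  simpa using this


theorem hasExactColimitsOfShape_nat : HasExactColimitsOfShape ℕ (ModSite.Mod O) := by
  haveI := Groth.Agent.Lib.Helper21.ModTensor3.isGrothendieckAbelian O
  haveI : AB5OfSize.{u, u} (ModSite.Mod O) := IsGrothendieckAbelian.ab5OfSize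
  haveI : AB5OfSize.{0, 0} (ModSite.Mod O) := AB5OfSize_shrink.{0, 0, u, u} (ModSite.Mod O)
  exact AB5OfSize.ofShape ℕ

/-- **S9078**: systems of resolutions of the truncations of a complex of `O`-modules by bounded
above complexes of sums of modules `j_! O_U`, with colimit quasi-isomorphic to the complex. -/
theorem exists_freeSum_system (G : CochainComplex (ModSite.Mod O) ℤ) :
    ∃ (Kc : ℕ ⥤ CochainComplex (ModSite.Mod O) ℤ)
      (π : ∀ n : ℕ, Kc.obj n ⟶ G.truncLE ((n : ℤ) + 1)),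
      (∀ n : ℕ, Kc.map (homOfLE (Nat.le_succ n)) ≫ π (n + 1) ≫
          G.ιTruncLE (((n + 1 : ℕ) : ℤ) + 1) = π n ≫ G.ιTruncLE ((n : ℤ) + 1)) ∧
      (∀ n : ℕ, QuasiIso (π n) ∧ ∀ i : ℤ, Epi ((π n).f i)) ∧
      (∀ n : ℕ, ∃ b : ℤ, (Kc.obj n).IsStrictlyLE b) ∧
      (∀ (n : ℕ) (i : ℤ), ∃ (ι : Type u) (U : ι → C),
        Nonempty ((Kc.obj n).X i ≅ ∐ fun j => ModSite.freeOn O (U j))) ∧
      (∀ (n : ℕ) (i : ℤ), ∃ r : (Kc.obj (n + 1)).X i ⟶ (Kc.obj n).X i,
        (Kc.map (homOfLE (Nat.le_succ n))).f i ≫ r = 𝟙 _ ∧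
        ∃ (ι : Type u) (U : ι → C),
          Nonempty (cokernel ((Kc.map (homOfLE (Nat.le_succ n))).f i) ≅
            ∐ fun j => ModSite.freeOn O (U j))) ∧
      ∃ c : colimit Kc ⟶ G,
        (∀ n : ℕ, colimit.ι Kc n ≫ c = π n ≫ G.ιTruncLE ((n : ℤ) + 1)) ∧ QuasiIso c := by
  haveI := hasExactColimitsOfShape_nat O
  obtain ⟨Q, ι, π, h1, h2, h3, h4, h5⟩ :=
    Groth.Agent.Lib.Helper1.LSys.exists_system (IsFreeSum O) G (fun n : ℕ => (n : ℤ) + 1)
      (isFreeSum_zero O) (isFreeSum_biprod O) (exists_epi_isFreeSum O)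
      (fun n => by push_cast; lia)
  let Kc : ℕ ⥤ CochainComplex (ModSite.Mod O) ℤ := Functor.ofSequence ι
  have hmap : ∀ n, Kc.map (homOfLE (Nat.le_succ n)) = ι n :=
    fun n => Functor.ofSequence_map_homOfLE_succ ι n
  refine ⟨Kc, π, ?_, h1, h2, h3, ?_, ?_⟩
  · intro n
    rw [hmap]
    exact (h5 n).symm
  · intro n i
    obtain ⟨⟨r, hr⟩, hc⟩ := h4 n i
    refine ⟨r, ?_, ?_⟩
    · rw [hmap]; exact hr
    · rw [hmap]; exact hc
  · let s : Cocone Kc :=
      { pt := G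
        ι := NatTrans.ofSequence (F := Kc) (G := (Functor.const ℕ).obj G)
          (fun n => π n ≫ G.ιTruncLE ((n : ℤ) + 1)) (fun n => by
            have e1 : ((Functor.const ℕ).obj G).map (homOfLE (n.le_add_right 1)) = 𝟙 G := rfl
            have e2 : Kc.map (homOfLE (n.le_add_right 1)) = ι n :=
              Functor.ofSequence_map_homOfLE_succ ι n
            rw [e1, e2]
            exact ((h5 n).symm).trans (Category.comp_id _).symm) }
    refine ⟨colimit.desc Kc s, fun n => colimit.ι_desc s n, ?_⟩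
    apply quasiIso_colimit_desc
    intro i
    refine ⟨i.toNat, fun n hn => ?_⟩
    have hi : i ≤ (n : ℤ) + 1 := by lia
    have hq : QuasiIso (π n) := (h1 n).1
    have hq1 : QuasiIsoAt (π n) i := hq.quasiIsoAt i
    have hq2 : QuasiIsoAt (G.ιTruncLE ((n : ℤ) + 1)) i := G.quasiIsoAt_ιTruncLE ((n : ℤ) + 1) i hi
    exact quasiIsoAt_comp (π n) (G.ιTruncLE ((n : ℤ) + 1)) i

end FreeSum

end Groth.Agent.Lib.Helper1.FSys
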