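import Mathlib
import Groth.Agent.Lib.Helper1Fib2
set_option backward.isDefEq.respectTransparency.types false

/-!
# The dimension of the cohomology of a complex of vector spaces in terms of cokernels (helper1)
-/

set_option autoImplicit false
set_option linter.style.haveILetI false
universe u
open CategoryTheory CategoryTheory.Limits

namespace Groth.Agent.Lib.Helper1.Fib

section

variable {k : Type u} [Field k]

lemma finrank_kernel_add {V W : ModuleCat.{u} k} (φ : V ⟶ W) [Module.Finite k V]
    [Module.Finite k W] :
    Module.finrank k (kernel φ : ModuleCat.{u} k) + Module.finrank k W =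
      Module.finrank k V + Module.finrank k (cokernel φ : ModuleCat.{u} k) := by
  have e1 := LinearEquiv.finrank_eq (ModuleCat.kernelIsoKer φ).toLinearEquiv
  have e2 := LinearEquiv.finrank_eq (ModuleCat.cokernelIsoRangeQuotient φ).toLinearEquiv
  have h1 := φ.hom.finrank_range_add_finrank_ker
  have h2 := (LinearMap.range φ.hom).finrank_quotient_add_finrank
  rw [e1, e2]
  change Module.finrank k (LinearMap.ker φ.hom) + Module.finrank k W =
    Module.finrank k V + Module.finrank k (W ⧸ LinearMap.range φ.hom)
  omega

/-- `dim H^i + dim C^{i+1} = dim coker d^{i-1} + dim coker d^i` -/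
theorem finrank_homology_add (C : CochainComplex (ModuleCat.{u} k) ℤ) (i : ℤ)
    (hfin : ∀ j, Module.Finite k (C.X j)) :
    Module.finrank k (C.homology i) + Module.finrank k (C.X (i + 1)) =
      Module.finrank k (cokernel (C.d (i - 1) i) : ModuleCat.{u} k) +
        Module.finrank k (cokernel (C.d i (i + 1)) : ModuleCat.{u} k) := by
  haveI := hfin
  haveI : Module.Finite k (C.opcycles i) := finite_of_epi (C.pOpcycles i)
  let φ := C.fromOpcycles i (i + 1)
  have e1 : kernel φ ≅ C.homology i :=
    IsLimit.conePointUniqueUpToIso (kernelIsKernel φ) (C.homologyIsKernel i (i + 1) (by simp))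
  have e2 : cokernel (C.d (i - 1) i) ≅ C.opcycles i :=
    IsColimit.coconePointUniqueUpToIso (cokernelIsCokernel (C.d (i - 1) i))
      (C.opcyclesIsCokernel (i - 1) i (by simp))
  have e3 : cokernel (C.d i (i + 1)) ≅ cokernel φ :=
    cokernelIsoOfEq (C.p_fromOpcycles i (i + 1)).symm ≪≫ cokernelEpiComp (C.pOpcycles i) φ
  have h := finrank_kernel_add φ
  rw [← LinearEquiv.finrank_eq e1.toLinearEquiv, LinearEquiv.finrank_eq e2.toLinearEquiv,
    LinearEquiv.finrank_eq e3.toLinearEquiv]
  exact h

end

/-- the same over a ring which is a field -/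
theorem finrank_homology_add' {k : Type u} [Ring k] (hk : IsField k)
    (C : CochainComplex (ModuleCat.{u} k) ℤ) (i : ℤ) (hfin : ∀ j, Module.Finite k (C.X j)) :
    Module.finrank k (C.homology i) + Module.finrank k (C.X (i + 1)) =
      Module.finrank k (cokernel (C.d (i - 1) i) : ModuleCat.{u} k) +
        Module.finrank k (cokernel (C.d i (i + 1)) : ModuleCat.{u} k) := by
  letI := hk.toField
  exact finrank_homology_add C i hfin

end Groth.Agent.Lib.Helper1.Fib
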