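import Mathlib
import Groth.Agent.Lib.Helper1Fib3
set_option backward.isDefEq.respectTransparency.types false

/-!
# The Euler characteristic of a perfect object is locally constant (helper1)
-/

set_option autoImplicit false
set_option linter.style.haveILetI false
universe u
open CategoryTheory CategoryTheory.Limits AlgebraicGeometry TopologicalSpace Opposite

attribute [local instance] HasDerivedCategory.standard

namespace Groth.Agent.Lib.Helper1.Fib

open Groth.Agent.Lib.Helper1.Sky Groth.Agent.Lib.Helper1.StalkTensor Groth.Agent.Lib.Helper1.SPL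
open Groth.Agent.Lib.Helper1.FLF Groth.Agent.Lib.Helper20.LocFree

variable {X : Scheme.{u}}

/-- a generic finite intersection lemma for neighbourhoods -/
lemma exists_opens_forall_of_nhds {Y : Scheme.{u}} (y : Y) (p : ℤ → Y.Opens → Prop)
    (hmono : ∀ k U U', U' ≤ U → p k U → p k U') (h : ∀ k, ∃ U : Y.Opens, y ∈ U ∧ p k U) (a b : ℤ) :
    ∃ U : Y.Opens, y ∈ U ∧ ∀ k, a ≤ k → k ≤ b → p k U := by
  have key : ∀ n : ℕ, ∃ U : Y.Opens, y ∈ U ∧ ∀ k : ℤ, a ≤ k → k < a + n → p k U := by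
    intro n
    induction n with
    | zero => exact ⟨⊤, trivial, fun k h1 h2 => by omega⟩
    | succ n ih =>
      obtain ⟨U, hyU, hU⟩ := ih
      obtain ⟨U', hyU', hU'⟩ := h (a + n)
      refine ⟨U ⊓ U', ⟨hyU, hyU'⟩, fun k h1 h2 => ?_⟩
      by_cases hk : k < a + n
      · exact hmono k U _ inf_le_left (hU k h1 hk)
      · have : k = a + n := by push_cast at h2; omega
        subst this
        exact hmono _ U' _ inf_le_right hU'
  obtain ⟨U, hyU, hU⟩ := key (b + 1 - a).toNat
  exact ⟨U, hyU, fun k h1 h2 => hU k h1 (by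
    have := Int.self_le_toNat (b + 1 - a)
    omega)⟩

/-- a perfect object is locally a strictly perfect complex with free terms -/
lemma exists_pres_free (E : DCoh.D X) (hE : DCoh.IsPerfect E) (x₀ : X) :
    ∃ (U : Scheme.{u}) (j : U ⟶ X) (_ : IsOpenImmersion j) (P : CochainComplex U.Modules ℤ)
      (n : ℤ → ℕ), x₀ ∈ j.opensRange ∧ DCoh.IsStrictlyPerfect P ∧
        Nonempty ((resD j).obj E ≅ DerivedCategory.Q.obj P) ∧
        ∀ k : ℤ, Nonempty (P.X k ≅ FlatMod.freeMod U (n k)) := by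
  obtain ⟨V, hxV, P₀, hP₀, ⟨a₀⟩⟩ := ((isPerfect_iff_hasPres E).1 hE x₀).exists_opens
  obtain ⟨⟨a, b, hv⟩, hfl⟩ := id hP₀
  obtain ⟨W, hxW, hW⟩ := exists_opens_forall_of_nhds (⟨x₀, hxV⟩ : (V : Scheme.{u}))
    (fun k U => ∃ n : ℕ, Nonempty ((P₀.X k).restrict U.ι ≅ FlatMod.freeMod (U : Scheme.{u}) n))
    (fun k U U' hle ⟨n, ⟨e⟩⟩ => ⟨n, nonempty_restrict_iso_freeMod_of_le _ hle e⟩)
    (fun k => by
      obtain ⟨D, n, hD, he⟩ := hfl k ⟨x₀, hxV⟩
      exact ⟨D, hD, n, he⟩) a b
  have hW' : ∀ k : ℤ, ∃ n : ℕ,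
      Nonempty ((P₀.X k).restrict W.ι ≅ FlatMod.freeMod (W : Scheme.{u}) n) := by
    intro k
    by_cases hk : a ≤ k ∧ k ≤ b
    · exact hW k hk.1 hk.2
    · exact ⟨0, ⟨IsZero.iso ((Scheme.Modules.restrictFunctor W.ι).map_isZero (hv k (by omega)))
        isZero_freeMod_zero⟩⟩
  choose n hn using hW'
  obtain ⟨a'⟩ := nonempty_pres_comp V.ι (W.ι ≫ V.ι) W.ι rfl E P₀ a₀
  exact ⟨W, W.ι ≫ V.ι, inferInstance, (resC W.ι).obj P₀, n, ⟨⟨⟨x₀, hxV⟩, hxW⟩, rfl⟩,
    isStrictlyPerfect_resC _ P₀ hP₀, ⟨a'⟩, hn⟩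


/-- the Euler characteristic at the points of an open where `E` is a strictly perfect complex with
free terms -/
theorem eulerChar_eq_of_pres (E : DCoh.D X) {U : Scheme.{u}} (j : U ⟶ X) [IsOpenImmersion j]
    (P : CochainComplex U.Modules ℤ) (hP : DCoh.IsStrictlyPerfect P)
    (a : (resD j).obj E ≅ DerivedCategory.Q.obj P) (n : ℤ → ℕ)
    (hn : ∀ k : ℤ, Nonempty (P.X k ≅ FlatMod.freeMod U (n k)))
    (x : X) (hx : x ∈ j.opensRange) [DCoh.HasLpull (X.fromSpecResidueField x)] :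
    PerfD.eulerChar E x = ∑ᶠ i : ℤ, (i.negOnePow : ℤ) * (n i : ℤ) := by
  have hrange : Set.range (X.fromSpecResidueField x).base ⊆ Set.range j.base := by
    rw [Scheme.range_fromSpecResidueField]
    rintro _ rfl
    exact hx
  let g' : Spec (X.residueField x) ⟶ U := IsOpenImmersion.lift j (X.fromSpecResidueField x) hrange
  have hg : g' ≫ j = X.fromSpecResidueField x :=
    IsOpenImmersion.lift_fac j (X.fromSpecResidueField x) hrange
  obtain ⟨e⟩ := nonempty_lpull_iso_of_factor E j P hP a (X.fromSpecResidueField x) g' hg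
  let K := (pullC g').obj P
  let C := ((ΓT (Spec (X.residueField x))).mapHomologicalComplex (ComplexShape.up ℤ)).obj K
  have hb : ∀ i, PerfD.betti E x i =
      Module.finrank (Coh.Γtop (Spec (X.residueField x))) (C.homology i) :=
    fun i => betti_eq_finrank E x K e i
  haveI : Nontrivial Γ(Spec (X.residueField x), ⊤) := (isField_Γtop_residueField x).nontrivial
  have hterm : ∀ i, Module.Finite (Coh.Γtop (Spec (X.residueField x))) (C.X i) ∧
      Module.finrank (Coh.Γtop (Spec (X.residueField x))) (C.X i) = n i := fun i => by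
    obtain ⟨ei⟩ := hn i
    exact finrank_sections_of_iso_freeMod ((Scheme.Modules.pullback g').obj (P.X i)) (n i)
      ((Scheme.Modules.pullback g').mapIso ei ≪≫ pullbackFreeModIso g' (n i))
  obtain ⟨⟨a', b', hv⟩, -⟩ := id hP
  have hC : ∀ i, (i < a' ∨ b' < i) → IsZero (C.X i) := fun i hi =>
    (ΓT (Spec (X.residueField x))).map_isZero ((Scheme.Modules.pullback g').map_isZero (hv i hi))
  have hEP := euler_poincare' (isField_Γtop_residueField x) C a' b' hC (fun i => (hterm i).1)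
  unfold PerfD.eulerChar
  rw [finsum_congr (fun i => by rw [hb i]), hEP]
  exact finsum_congr (fun i => by rw [(hterm i).2])

/-- S1059 -/
theorem isLocallyConstant_eulerChar [∀ x : X, DCoh.HasLpull (X.fromSpecResidueField x)]
    (E : DCoh.D X) (hE : DCoh.IsPerfect E) :
    IsLocallyConstant (fun x : X => PerfD.eulerChar E x) := by
  rw [IsLocallyConstant.iff_exists_open]
  intro x₀
  obtain ⟨U, j, hj, P, n, hx₀, hP, ⟨a⟩, hn⟩ := exists_pres_free E hE x₀
  haveI := hj
  refine ⟨j.opensRange, j.opensRange.isOpen, hx₀, fun x hx => ?_⟩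
  rw [eulerChar_eq_of_pres E j P hP a n hn x hx, eulerChar_eq_of_pres E j P hP a n hn x₀ hx₀]

end Groth.Agent.Lib.Helper1.Fib
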