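import Mathlib
set_option backward.isDefEq.respectTransparency.types false

set_option autoImplicit false
set_option linter.style.haveILetI false
universe u
open CategoryTheory TensorProduct

namespace Groth.Agent.Lib.Helper1.Fib

/-- base change of a module over a local ring along a local homomorphism to a field has the
dimension of the fibre over the residue field -/
lemma finrank_extendScalars_eq_finrank_residueField {A B : Type u} [CommRing A] [IsLocalRing A]
    [Field B] (σ : A →+* B) [IsLocalHom σ] (M : ModuleCat.{u} A) :
    Module.finrank B ((ModuleCat.extendScalars.{u, u, u} σ).obj M) =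
      Module.finrank (IsLocalRing.ResidueField A) (IsLocalRing.ResidueField A ⊗[A] M) := by
  letI : Algebra A B := σ.toAlgebra
  letI : Algebra (IsLocalRing.ResidueField A) B := (IsLocalRing.ResidueField.lift σ).toAlgebra
  haveI : IsScalarTower A (IsLocalRing.ResidueField A) B :=
    IsScalarTower.of_algebraMap_eq (fun a => (IsLocalRing.ResidueField.lift_residue_apply σ a).symm)
  have e : B ⊗[IsLocalRing.ResidueField A] (IsLocalRing.ResidueField A ⊗[A] M) ≃ₗ[B] B ⊗[A] M :=
    TensorProduct.AlgebraTensorModule.cancelBaseChange A (IsLocalRing.ResidueField A) B B M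
  have h1 : Module.finrank B (B ⊗[A] M) =
      Module.finrank (IsLocalRing.ResidueField A) (IsLocalRing.ResidueField A ⊗[A] M) := by
    rw [← LinearEquiv.finrank_eq e, Module.finrank_baseChange]
  exact h1

/-- the same with `IsField` -/
lemma finrank_extendScalars_eq_finrank_residueField' {A B : Type u} [CommRing A] [IsLocalRing A]
    [CommRing B] (hB : IsField B) (σ : A →+* B) [IsLocalHom σ] (M : ModuleCat.{u} A) :
    Module.finrank B ((ModuleCat.extendScalars.{u, u, u} σ).obj M) =
      Module.finrank (IsLocalRing.ResidueField A) (IsLocalRing.ResidueField A ⊗[A] M) := by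
  letI := hB.toField
  exact finrank_extendScalars_eq_finrank_residueField σ M

end Groth.Agent.Lib.Helper1.Fib
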