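import Mathlib
import Groth.Agent.Lib.Helper1Fib4
import Groth.Agent.Lib.Helper1Fib5a
import Groth.Agent.Lib.Helper2RankLoc
set_option backward.isDefEq.respectTransparency.types false

/-!
# Fibre dimensions via global sections on a one-point scheme and via stalks (helper1)
-/

set_option autoImplicit false
set_option linter.style.haveILetI false
universe u
open CategoryTheory CategoryTheory.Limits AlgebraicGeometry TopologicalSpace Opposite TensorProduct

namespace Groth.Agent.Lib.Helper1.Fib

open Groth.Agent.Lib.Helper1.Sky Groth.Agent.Lib.Helper1.StalkTensor Groth.Agent.Lib.Helper1.SPL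
open Groth.Agent.Lib.Helper2.RankLoc

section onepoint

variable {T : Scheme.{u}} (t : T) (ht : ∀ W : T.Opens, t ∈ W → W = ⊤)

include ht in
lemma gr_top_bijective : Function.Bijective (gr T.presheaf t ⊤ trivial) := by
  constructor
  · intro s s' h
    obtain ⟨W, hW, i₁, i₂, h'⟩ := TopCat.Presheaf.germ_eq T.presheaf t (U := ⊤) (V := ⊤)
      trivial trivial s s' h
    obtain rfl := ht W hW
    have e1 : i₁ = 𝟙 _ := Subsingleton.elim _ _
    have e2 : i₂ = 𝟙 _ := Subsingleton.elim _ _
    subst e1 e2
    simpa using h'
  · intro a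
    obtain ⟨W, hW, p, rfl⟩ := exists_gr_eq a
    obtain rfl := ht W hW
    exact ⟨p, rfl⟩

include ht in
/-- the local ring at `t` is a field if the ring of global functions is -/
lemma isField_stalk (h : IsField (Coh.Γtop T)) : IsField (Sky.Ox t) :=
  MulEquiv.isField h (RingEquiv.ofBijective (gr T.presheaf t ⊤ trivial)
    (gr_top_bijective t ht)).symm.toMulEquiv

include ht in
/-- the dimension of the global sections equals the dimension of the stalk -/
lemma finrank_ΓT_eq_finrank_stalk (N : T.Modules) :
    Module.finrank (Coh.Γtop T) ((ΓT T).obj N) = Module.finrank (Sky.Ox t) ((stalkFun t).obj N) := by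
  have h := rank_eq_of_equiv_equiv (R := Coh.Γtop T) (R' := Sky.Ox t)
    (M := (ΓT T).obj N) (M₁ := (stalkFun t).obj N) (gr T.presheaf t ⊤ trivial)
    (AddEquiv.ofBijective (gm (toPM N) t ⊤ trivial)
      ⟨gm_top_injective t ht N, gm_top_surjective t ht N⟩)
    (gr_top_bijective t ht) (fun r m => gm_smul (P := toPM N) (x := t) (U := ⊤) trivial r m)
  exact congrArg Cardinal.toNat h

end onepoint


section bridge

variable {X T : Scheme.{u}} (g : T ⟶ X) (t : T) (ht : ∀ W : T.Opens, t ∈ W → W = ⊤)

include ht in
/-- the dimension of the global sections of the pullback to a one-point scheme is the fibre rank -/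
theorem finrank_ΓT_pullback_eq_fibreRank (hT : IsField (Coh.Γtop T)) (M : X.Modules) :
    Module.finrank (Coh.Γtop T) ((ΓT T).obj ((Scheme.Modules.pullback g).obj M)) =
      fibreRank M (g t) := by
  rw [finrank_ΓT_eq_finrank_stalk t ht]
  have h2 := LinearEquiv.finrank_eq ((stalkPullbackIso g t).app M).toLinearEquiv
  have h3 := finrank_extendScalars_eq_finrank_residueField' (isField_stalk t ht hT)
    (g.stalkMap t).hom ((stalkFun (g t)).obj M)
  exact h2.trans h3

end bridge

section usc

variable {X : Scheme.{u}}

/-- fibre dimension of a module spanned by finitely many elements -/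
lemma finrank_residueField_tensor_le {A : Type u} [CommRing A] [IsLocalRing A] {N : Type u}
    [AddCommGroup N] [Module A N] {ι : Type} [Fintype ι] (v : ι → N)
    (hv : Submodule.span A (Set.range v) = ⊤) :
    Module.finrank (IsLocalRing.ResidueField A) (IsLocalRing.ResidueField A ⊗[A] N) ≤
      Fintype.card ι := by
  have h1 : Submodule.span (IsLocalRing.ResidueField A)
      (Set.range fun i => (1 : IsLocalRing.ResidueField A) ⊗ₜ[A] v i) = ⊤ := by
    have h2 := Submodule.baseChange_span (R := A) (M := N) (A := IsLocalRing.ResidueField A)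
      (Set.range v)
    rw [hv, Submodule.baseChange_top] at h2
    rw [h2]
    congr 1
    ext z
    simp
  have h3 := finrank_range_le_card (R := IsLocalRing.ResidueField A)
    (fun i => (1 : IsLocalRing.ResidueField A) ⊗ₜ[A] v i)
  rw [Set.finrank, h1, finrank_top] at h3
  exact h3

/-- upper semicontinuity of the fibre rank -/
theorem exists_opens_fibreRank_le (M : X.Modules) [M.IsQuasicoherent]
    [SheafOfModules.IsFiniteType (R := X.ringCatSheaf) M] (x₀ : X) :
    ∃ D : X.Opens, x₀ ∈ D ∧ ∀ x ∈ D, fibreRank M x ≤ fibreRank M x₀ := by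
  obtain ⟨D, hD, m, hxD, -, hm⟩ := exists_affine_generators M x₀ ⊤ trivial
  refine ⟨D, hxD, fun x hx => ?_⟩
  have h := span_germ_eq_top M hD m hm x hx
  have h2 := finrank_residueField_tensor_le (A := X.presheaf.stalk x)
    (fun i => M.presheaf.germ D x hx (m i)) h
  simpa using h2

end usc

end Groth.Agent.Lib.Helper1.Fib
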