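import Mathlib
import Groth.Agent.Lib.Helper1Fib5
import Groth.Agent.Lib.Helper1Fib2b
import Groth.Agent.Lib.Helper23FinType2
set_option backward.isDefEq.respectTransparency.types false

/-!
# Upper semicontinuity of the Betti numbers of a pseudo-coherent object (helper1)
-/

set_option autoImplicit false
set_option linter.style.haveILetI false
universe u
open CategoryTheory CategoryTheory.Limits AlgebraicGeometry TopologicalSpace Opposite

attribute [local instance] HasDerivedCategory.standard

namespace Groth.Agent.Lib.Helper1.Fib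

open Groth.Agent.Lib.Helper1.Sky Groth.Agent.Lib.Helper1.StalkTensor Groth.Agent.Lib.Helper1.SPL
open Groth.Agent.Lib.Helper2.RankLoc Groth.Agent.Helper18Strict Groth.Agent.Lib.Helper2.LocFree
open Groth.Agent.Lib.Helper23.FinType

variable {X : Scheme.{u}}

/-- the Betti numbers of `E` at `x` computed from a complex computing `H^i(L i_x^* E)` -/
theorem betti_eq_finrank_of_homology_iso (E : DCoh.D X) (x : X)
    [DCoh.HasLpull (X.fromSpecResidueField x)]
    (K : CochainComplex (Spec (X.residueField x)).Modules ℤ) (i : ℤ)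
    (e2 : DCoh.HD ((DCoh.Lpull (X.fromSpecResidueField x)).obj E) i ≅ K.homology i) :
    PerfD.betti E x i = Module.finrank (Coh.Γtop (Spec (X.residueField x)))
      ((((ΓT (Spec (X.residueField x))).mapHomologicalComplex (ComplexShape.up ℤ)).obj K).homology i) := by
  have hpt : ∀ W : (Spec (X.residueField x)).Opens,
      (default : Spec (X.residueField x)) ∈ W → W = ⊤ :=
    fun W h => opens_eq_top_of_mem_of_subsingleton _ W h
  obtain ⟨e1⟩ := nonempty_homology_ΓT_iso default hpt K i
  exact LinearEquiv.finrank_eq ((ΓT (Spec (X.residueField x))).mapIso e2 ≪≫ e1.symm).toLinearEquiv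

/-- the cohomology of the derived pullback in degrees where a local strictly perfect
approximation is an isomorphism -/
theorem nonempty_homology_lpull_iso_of_propM (E : DCoh.D X) {U : Scheme.{u}} (j : U ⟶ X)
    [IsOpenImmersion j] (P : CochainComplex U.Modules ℤ) (hP : DCoh.IsStrictlyPerfect P)
    (α : DerivedCategory.Q.obj P ⟶ (resD j).obj E) (m : ℤ) (hα : PropM m α)
    {T : Scheme.{u}} (g : T ⟶ X) (g' : T ⟶ U) (hg : g' ≫ j = g) [DCoh.HasLpull g]
    (i : ℤ) (hi : m < i) :
    Nonempty (DCoh.HD ((DCoh.Lpull g).obj E) i ≅ ((pullC g').obj P).homology i) := by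
  subst hg
  haveI : DCoh.HasLpull g' := hasLpull _
  haveI : DCoh.HasLpull j := hasLpull _
  obtain ⟨c⟩ := nonempty_lpull_comp_iso g' j
  obtain ⟨b⟩ := nonempty_lpull_iso_resD j E
  have hα' := propM_lpull_map g' m α hα
  haveI := hα'.1 i hi
  let H := DerivedCategory.homologyFunctor T.Modules i
  exact ⟨H.mapIso ((c.app E).symm ≪≫ (DCoh.Lpull g').mapIso b) ≪≫
    (asIso (H.map ((DCoh.Lpull g').map α))).symm ≪≫
    H.mapIso (lpullIso g' P (kffs_of_isStrictlyPerfect P hP)) ≪≫
    (DerivedCategory.homologyFunctorFactors T.Modules i).app ((pullC g').obj P)⟩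


section formula

/-- global sections on the spectrum of a residue field preserve finite colimits -/
lemma preservesFiniteColimits_ΓT_residueField (x : X) :
    PreservesFiniteColimits (ΓT (Spec (X.residueField x))) := by
  have hpt : ∀ W : (Spec (X.residueField x)).Opens,
      (default : Spec (X.residueField x)) ∈ W → W = ⊤ :=
    fun W h => opens_eq_top_of_mem_of_subsingleton _ W h
  have h : PreservesFiniteLimits (ΓT (Spec (X.residueField x))) ∧
      PreservesFiniteColimits (ΓT (Spec (X.residueField x))) :=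
    ((Functor.exact_tfae (ΓT (Spec (X.residueField x)))).out 0 3).1
      (fun T hT => shortExact_map_ΓT default hpt T hT)
  exact h.2

/-- the dimension of the fibre of a module at `y`, computed along any morphism from the
spectrum of a residue field mapping to `y` -/
lemma finrank_ΓT_pullback_residueField {U : Scheme.{u}} (x : X)
    (g' : Spec (X.residueField x) ⟶ U) (N : U.Modules) :
    Module.finrank (Coh.Γtop (Spec (X.residueField x)))
      ((ΓT (Spec (X.residueField x))).obj ((Scheme.Modules.pullback g').obj N)) =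
      fibreRank N (g' default) :=
  finrank_ΓT_pullback_eq_fibreRank g' default
    (fun W h => opens_eq_top_of_mem_of_subsingleton _ W h) (isField_Γtop_residueField x) N

/-- `β_i(x) + rk P^{i+1} = dim coker d^{i-1}(x) + dim coker d^i(x)` -/
theorem betti_add_fibreRank_eq (E : DCoh.D X) {U : Scheme.{u}} (j : U ⟶ X) [IsOpenImmersion j]
    (P : CochainComplex U.Modules ℤ) (hP : DCoh.IsStrictlyPerfect P)
    (α : DerivedCategory.Q.obj P ⟶ (resD j).obj E) (i : ℤ) (hα : PropM (i - 1) α)
    (y : U) [DCoh.HasLpull (X.fromSpecResidueField (j y))] :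
    PerfD.betti E (j y) i + fibreRank (P.X (i + 1)) y =
      fibreRank (cokernel (P.d (i - 1) i)) y + fibreRank (cokernel (P.d i (i + 1))) y := by
  have hrange : Set.range (X.fromSpecResidueField (j y)).base ⊆ Set.range j.base := by
    rw [Scheme.range_fromSpecResidueField]
    rintro _ rfl
    exact ⟨y, rfl⟩
  let g' : Spec (X.residueField (j y)) ⟶ U :=
    IsOpenImmersion.lift j (X.fromSpecResidueField (j y)) hrange
  have hg : g' ≫ j = X.fromSpecResidueField (j y) :=
    IsOpenImmersion.lift_fac j (X.fromSpecResidueField (j y)) hrange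
  have hy : g' default = y := by
    apply j.isOpenEmbedding.injective
    have h1 : (g' ≫ j) default = j y := by
      rw [hg]
      exact Scheme.fromSpecResidueField_apply (j y) default
    exact h1
  obtain ⟨e2⟩ := nonempty_homology_lpull_iso_of_propM E j P hP α (i - 1) hα
    (X.fromSpecResidueField (j y)) g' hg i (by omega)
  let K := (pullC g').obj P
  let C := ((ΓT (Spec (X.residueField (j y)))).mapHomologicalComplex (ComplexShape.up ℤ)).obj K
  have hb : PerfD.betti E (j y) i =
      Module.finrank (Coh.Γtop (Spec (X.residueField (j y)))) (C.homology i) :=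
    betti_eq_finrank_of_homology_iso E (j y) K i e2
  have hfin : ∀ k, Module.Finite (Coh.Γtop (Spec (X.residueField (j y)))) (C.X k) := fun k => by
    have h1 : CohB1.IsFP ((Scheme.Modules.pullback g').obj (P.X k)) :=
      isFP_pullback g' _ (isFP_of_isFinLocFree _ (hP.2 k))
    haveI : ((Scheme.Modules.pullback g').obj (P.X k)).IsQuasicoherent := isQCoh_of_isFP _ h1
    haveI : SheafOfModules.IsFiniteType (R := (Spec (X.residueField (j y))).ringCatSheaf)
      ((Scheme.Modules.pullback g').obj (P.X k)) := isFT_of_isFP _ h1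
    exact finite_of_isFiniteType ((Scheme.Modules.pullback g').obj (P.X k))
      (isAffineOpen_top (Spec (X.residueField (j y))))
  have hLA := finrank_homology_add' (isField_Γtop_residueField (j y)) C i hfin
  haveI := preservesFiniteColimits_ΓT_residueField (j y)
  have hcok : ∀ k : ℤ, Module.finrank (Coh.Γtop (Spec (X.residueField (j y))))
      (cokernel (C.d k (k + 1)) : ModuleCat.{u} (Coh.Γtop (Spec (X.residueField (j y))))) =
      fibreRank (cokernel (P.d k (k + 1))) y := fun k => by
    have e3 : cokernel (C.d k (k + 1)) ≅ (ΓT (Spec (X.residueField (j y)))).obj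
        ((Scheme.Modules.pullback g').obj (cokernel (P.d k (k + 1)))) :=
      (PreservesCokernel.iso (ΓT (Spec (X.residueField (j y))))
        ((Scheme.Modules.pullback g').map (P.d k (k + 1)))).symm ≪≫
      (ΓT (Spec (X.residueField (j y)))).mapIso
        (PreservesCokernel.iso (Scheme.Modules.pullback g') (P.d k (k + 1))).symm
    rw [LinearEquiv.finrank_eq e3.toLinearEquiv, finrank_ΓT_pullback_residueField, hy]
  have hX : Module.finrank (Coh.Γtop (Spec (X.residueField (j y)))) (C.X (i + 1)) =
      fibreRank (P.X (i + 1)) y := by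
    have := finrank_ΓT_pullback_residueField (j y) g' (P.X (i + 1))
    rw [hy] at this
    exact this
  have h1 := hcok (i - 1)
  rw [show i - 1 + 1 = i by ring] at h1
  rw [hb, ← hX, ← h1, ← hcok i]
  exact hLA

end formula


open Groth.Agent.Lib.Helper23.QCohLocal in
/-- S1060 -/
theorem isOpen_betti_lt [∀ x : X, DCoh.HasLpull (X.fromSpecResidueField x)]
    (E : DCoh.D X) (hE : ∀ m : ℤ, DCoh.IsPseudoCoherentD m E) (i : ℤ) (n : ℕ) :
    IsOpen {x : X | PerfD.betti E x i < n} := by
  rw [isOpen_iff_forall_mem_open]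
  intro x₀ hx₀
  obtain ⟨U, j, hj, hxj, P, α, hP, hα⟩ :=
    (isPseudoCoherentD_iff_hasPresM (i - 1) E).1 (hE (i - 1)) x₀
  haveI := hj
  obtain ⟨y₀, rfl⟩ := hxj
  have hPq : ∀ k, (P.X k).IsQuasicoherent := fun k =>
    isQCoh_of_isFP _ (isFP_of_isFinLocFree _ (hP.2 k))
  have hPft : ∀ k, SheafOfModules.IsFiniteType (R := U.ringCatSheaf) (P.X k) :=
    fun k => isFT_of_isFP _ (isFP_of_isFinLocFree _ (hP.2 k))
  have hcq : ∀ k, (cokernel (P.d k (k + 1))).IsQuasicoherent := fun k => by
    haveI := hPq k
    haveI := hPq (k + 1)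
    exact isQuasicoherent_cokernel _
  have hcft : ∀ k, SheafOfModules.IsFiniteType (R := U.ringCatSheaf) (cokernel (P.d k (k + 1))) :=
    fun k => by
      haveI := hPq (k + 1)
      haveI := hPft (k + 1)
      have hπ : Epi (cokernel.π (P.d k (k + 1))) := inferInstance
      exact @isFiniteType_of_epi _ _ _ (hPq (k + 1)) (hcq k) (cokernel.π (P.d k (k + 1)))
        hπ (hPft (k + 1))
  have hu : ∀ k, ∃ D : U.Opens, y₀ ∈ D ∧ ∀ y ∈ D,
      fibreRank (cokernel (P.d k (k + 1))) y ≤ fibreRank (cokernel (P.d k (k + 1))) y₀ := fun k => by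
    exact @exists_opens_fibreRank_le _ _ (hcq k) (hcft k) y₀
  obtain ⟨D₁, hy₁, h₁⟩ := hu (i - 1)
  obtain ⟨D₂, hy₂, h₂⟩ := hu i
  haveI := hPq (i + 1)
  obtain ⟨D₃, hD₃, hy₃, h₃⟩ := (IsLocallyConstant.iff_exists_open _).1
    (isLocallyConstant_fibreRank_of_isFinLocFree (P.X (i + 1)) (hP.2 (i + 1))).2 y₀
  let D : U.Opens := D₁ ⊓ D₂ ⊓ ⟨D₃, hD₃⟩
  refine ⟨(j ''ᵁ D : X.Opens), ?_, (j ''ᵁ D).isOpen, ⟨y₀, ⟨⟨hy₁, hy₂⟩, hy₃⟩, rfl⟩⟩
  rintro _ ⟨y, hyD, rfl⟩
  have e := betti_add_fibreRank_eq E j P hP α i hα y
  have e₀ := betti_add_fibreRank_eq E j P hP α i hα y₀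
  have i1 := h₁ y hyD.1.1
  have i2 := h₂ y hyD.1.2
  have i3 := h₃ y hyD.2
  rw [show i - 1 + 1 = i by ring] at i1
  have hx₀' : PerfD.betti E (j y₀) i < n := hx₀
  change PerfD.betti E (j y) i < n
  omega

end Groth.Agent.Lib.Helper1.Fib
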