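import Mathlib
import Groth.Agent.Lib.Helper1Fib6
set_option backward.isDefEq.respectTransparency.types false

/-!
# Upper semicontinuity of the `p`-th Betti number of a `(p-1)`-pseudo-coherent object (helper1)
-/

set_option autoImplicit false
set_option linter.style.haveILetI false
universe u
open CategoryTheory CategoryTheory.Limits AlgebraicGeometry TopologicalSpace Opposite

attribute [local instance] HasDerivedCategory.standard

namespace Groth.Agent.Lib.Helper1.Fib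

open Groth.Agent.Lib.Helper1.Sky Groth.Agent.Lib.Helper1.StalkTensor Groth.Agent.Lib.Helper1.SPL
open Groth.Agent.Lib.Helper2.RankLoc Groth.Agent.Helper18Strict Groth.Agent.Lib.Helper2.LocFree
open Groth.Agent.Lib.Helper23.FinType

variable {X : Scheme.{u}}

open Groth.Agent.Lib.Helper23.QCohLocal in
/-- the `i`-th Betti number of an `(i-1)`-pseudo-coherent object is upper semicontinuous -/
theorem isOpen_betti_lt' [∀ x : X, DCoh.HasLpull (X.fromSpecResidueField x)]
    (E : DCoh.D X) (i : ℤ) (hE : DCoh.IsPseudoCoherentD (i - 1) E) (n : ℕ) :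
    IsOpen {x : X | PerfD.betti E x i < n} := by
  rw [isOpen_iff_forall_mem_open]
  intro x₀ hx₀
  obtain ⟨U, j, hj, hxj, P, α, hP, hα⟩ :=
    (isPseudoCoherentD_iff_hasPresM (i - 1) E).1 hE x₀
  haveI := hj
  obtain ⟨y₀, rfl⟩ := hxj
  have hPq : ∀ k, (P.X k).IsQuasicoherent := fun k =>
    isQCoh_of_isFP _ (isFP_of_isFinLocFree _ (hP.2 k))
  have hPft : ∀ k, SheafOfModules.IsFiniteType (R := U.ringCatSheaf) (P.X k) :=
    fun k => isFT_of_isFP _ (isFP_of_isFinLocFree _ (hP.2 k))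
  have hcq : ∀ k, (cokernel (P.d k (k + 1))).IsQuasicoherent := fun k => by
    haveI := hPq k
    haveI := hPq (k + 1)
    exact isQuasicoherent_cokernel _
  have hcft : ∀ k, SheafOfModules.IsFiniteType (R := U.ringCatSheaf) (cokernel (P.d k (k + 1))) :=
    fun k => by
      haveI := hPq (k + 1)
      haveI := hPft (k + 1)
      have hπ : Epi (cokernel.π (P.d k (k + 1))) := inferInstance
      exact @isFiniteType_of_epi _ _ _ (hPq (k + 1)) (hcq k) (cokernel.π (P.d k (k + 1)))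
        hπ (hPft (k + 1))
  have hu : ∀ k, ∃ D : U.Opens, y₀ ∈ D ∧ ∀ y ∈ D,
      fibreRank (cokernel (P.d k (k + 1))) y ≤ fibreRank (cokernel (P.d k (k + 1))) y₀ := fun k => by
    exact @exists_opens_fibreRank_le _ _ (hcq k) (hcft k) y₀
  obtain ⟨D₁, hy₁, h₁⟩ := hu (i - 1)
  obtain ⟨D₂, hy₂, h₂⟩ := hu i
  haveI := hPq (i + 1)
  obtain ⟨D₃, hD₃, hy₃, h₃⟩ := (IsLocallyConstant.iff_exists_open _).1
    (isLocallyConstant_fibreRank_of_isFinLocFree (P.X (i + 1)) (hP.2 (i + 1))).2 y₀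
  let D : U.Opens := D₁ ⊓ D₂ ⊓ ⟨D₃, hD₃⟩
  refine ⟨(j ''ᵁ D : X.Opens), ?_, (j ''ᵁ D).isOpen, ⟨y₀, ⟨⟨hy₁, hy₂⟩, hy₃⟩, rfl⟩⟩
  rintro _ ⟨y, hyD, rfl⟩
  have e := betti_add_fibreRank_eq E j P hP α i hα y
  have e₀ := betti_add_fibreRank_eq E j P hP α i hα y₀
  have i1 := h₁ y hyD.1.1
  have i2 := h₂ y hyD.1.2
  have i3 := h₃ y hyD.2
  rw [show i - 1 + 1 = i by ring] at i1
  have hx₀' : PerfD.betti E (j y₀) i < n := hx₀
  change PerfD.betti E (j y) i < n
  omega

end Groth.Agent.Lib.Helper1.Fib
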