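import Mathlib
import Groth.Agent.Lib.Helper1TIBCA
import Groth.Agent.Lib.Helper1PCTower
import Groth.Agent.Lib.Helper1TorT4
set_option backward.isDefEq.respectTransparency.types false

/-!
# Perfection over a local ring detected on a local quotient (helper1)
-/

set_option autoImplicit false
set_option linter.style.haveILetI false
set_option linter.unusedSectionVars false
set_option maxHeartbeats 400000
universe u
open CategoryTheory CategoryTheory.Limits MonoidalCategory HomologicalComplex TensorProduct
attribute [local instance] HasDerivedCategory.standard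

namespace Groth.Agent.Lib.Helper1.FibPerf

open DerivedCategory Groth.Agent.Lib.Helper1.KF Groth.Agent.Lib.Helper1.Tor
  Groth.Agent.Lib.Helper1.DT Groth.Agent.Lib.Helper1.TensPerf Groth.Agent.Lib.Helper1.KBC
  Groth.Agent.Lib.Helper1.Restrict Groth.Agent.Lib.Helper1.LDer Groth.Agent.Lib.Helper1.TorO
  Groth.Agent.Lib.Helper1.RelPC Groth.Agent.Lib.Helper1.TorT Groth.Agent.Lib.Helper1.TQ
  Groth.Agent.Lib.Helper1.Extend Groth.Agent.Lib.Helper1.LocalCx
  Groth.Agent.Lib.Helper1.TorBC Groth.Agent.Lib.Helper1.TorN Groth.Agent.Lib.Helper1.TorM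

section Iso

variable {R : Type u} [CommRing R]

/-- the termwise tensor product of a K-flat complex with a module only depends on the class of the
complex in `D(R)`, up to quasi-isomorphism -/
lemma exactAt_TC_iff_of_iso_kflat (G G' : DRing.Cx R) (hG : KFlat G) (hG' : KFlat G')
    (e : Q.obj G ≅ Q.obj G') (M : ModuleCat.{u} R) (i : ℤ) :
    ((TC M).obj G).ExactAt i ↔ ((TC M).obj G').ExactAt i := by
  obtain ⟨P, p, hP, -, hp, -⟩ := exists_kprojective_resolution G
  have hpi : IsIso (Q.map p) := (DerivedCategory.isIso_Q_map_iff_quasiIso (φ := p)).2 hp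
  obtain ⟨g, hg⟩ := Q_map_surjective P G' (Q.map p ≫ e.hom)
  have hgi : IsIso (Q.map g) := by rw [hg]; infer_instance
  have hgq : QuasiIso g := (DerivedCategory.isIso_Q_map_iff_quasiIso (φ := g)).1 hgi
  have hPK : KFlat P := kflat_of_isKProjective P
  haveI q1 := quasiIso_TC_map_of_kflat M g hPK hG'
  haveI q2 := quasiIso_TC_map_of_kflat M p hPK hG
  exact (exactAt_of_quasiIso ((TC M).map p) i).symm.trans
    (exactAt_of_quasiIso ((TC M).map g) i)

end Iso

section Local

variable {R R' : Type u} [CommRing R] [CommRing R'] [IsLocalRing R] [IsLocalRing R']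
  (σ : R →+* R') [IsLocalHom σ]

/-- exactness of the reduction to the residue field descends along a local homomorphism -/
lemma exactAt_TC_residueField_of_bc (K : DRing.Cx R) (i : ℤ)
    (h : ((TC (ModuleCat.of R' (IsLocalRing.ResidueField R'))).obj
      ((bcCx σ).obj K)).ExactAt i) :
    ((TC (ModuleCat.of R (IsLocalRing.ResidueField R))).obj K).ExactAt i := by
  let g : R →+* IsLocalRing.ResidueField R := IsLocalRing.residue R
  let g' : R' →+* IsLocalRing.ResidueField R' := IsLocalRing.residue R'
  let ρ : IsLocalRing.ResidueField R →+* IsLocalRing.ResidueField R' :=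
    IsLocalRing.ResidueField.map σ
  have hρ : ρ.comp g = g'.comp σ := IsLocalRing.ResidueField.map_comp_residue σ
  let eκ' : (ModuleCat.restrictScalars.{u} g').obj (ModuleCat.of (IsLocalRing.ResidueField R')
      (IsLocalRing.ResidueField R')) ≅ ModuleCat.of R' (IsLocalRing.ResidueField R') :=
    (e₀ (A := R') (IsLocalRing.ResidueField R')).toModuleIso
  let eκ : (ModuleCat.restrictScalars.{u} g).obj (ModuleCat.of (IsLocalRing.ResidueField R)
      (IsLocalRing.ResidueField R)) ≅ ModuleCat.of R (IsLocalRing.ResidueField R) :=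
    (e₀ (A := R) (IsLocalRing.ResidueField R)).toModuleIso
  have h5 := (exactAt_TC_congr eκ' _ i).2 h
  have h4 : ((bcCx g').obj ((bcCx σ).obj K)).ExactAt i := (exactAt_bc_iff_TC g' _ i).2 h5
  have h3 : ((bcCx (g'.comp σ)).obj K).ExactAt i := h4.of_iso (bcCxCompIso σ g' K).symm
  have h2 : ((bcCx (ρ.comp g)).obj K).ExactAt i := h3.of_iso (bcCxEqIso hρ.symm K)
  have h1 : ((bcCx ρ).obj ((bcCx g).obj K)).ExactAt i := h2.of_iso (bcCxCompIso g ρ K)
  have h0 := (exactAt_bc_iff_TC ρ _ i).1 h1
  haveI : Nontrivial ((ModuleCat.restrictScalars.{u} ρ).obj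
      (ModuleCat.of (IsLocalRing.ResidueField R') (IsLocalRing.ResidueField R'))) :=
    inferInstanceAs (Nontrivial (IsLocalRing.ResidueField R'))
  haveI : Module.FaithfullyFlat (IsLocalRing.ResidueField R)
      ((ModuleCat.restrictScalars.{u} ρ).obj
        (ModuleCat.of (IsLocalRing.ResidueField R') (IsLocalRing.ResidueField R'))) :=
    inferInstance
  have hk : ((bcCx g).obj K).ExactAt i := (exactAt_TC_iff_of_faithfullyFlat _ _ i).1 h0
  exact (exactAt_TC_congr eκ _ i).1 ((exactAt_bc_iff_TC g K i).1 hk)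

/-- **Perfection on a local quotient**: let `σ : R → R'` be a local homomorphism of local rings and
`C` a K-flat complex of `R`-modules, pseudo-coherent over `R`. If `C ⊗_R R'` has tor amplitude in
`[a, b]` over `R'`, then `C` has tor amplitude in `[a, b]` over `R`. -/
theorem hasTorAmp_of_hasTorAmp_bc_local (C : DRing.Cx R) (hC : KFlat C)
    (hpc : ∀ m : ℤ, DRing.IsPseudoCoherent R m (DRing.toD C)) (a b : ℤ)
    (h : DRing.HasTorAmplitudeIn R' a b (DRing.toD ((bcCx σ).obj C))) :
    DRing.HasTorAmplitudeIn R a b (DRing.toD C) := by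
  obtain ⟨F, bF, hFb, hFf, ⟨eF⟩⟩ :=
    Groth.Agent.Lib.Helper1.PCTower.isPseudoCoherent'_of_forall _ hpc
  have hFflat : DRing.TermwiseFlat F := fun i =>
    have := (hFf i).2
    inferInstance
  have hFK : KFlat F := kflat_of_boundedAbove_flat F bF hFb hFflat
  obtain ⟨E', hE'v, hE'f, ⟨e'⟩⟩ := h
  have hbcK : KFlat ((bcCx σ).obj C) := kflat_bcCx σ C hC
  have htv : TorVan ((bcCx σ).obj C) a b :=
    torVan_of_iso_kflat _ E' hbcK a b hE'v hE'f e'
  refine hasTorAmp_of_iso eF (hasTorAmp_of_exactAt_TC_residueField F bF hFb hFf a b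
    (fun i hi => ?_))
  have h1 := htv (ModuleCat.of R' (IsLocalRing.ResidueField R')) i hi
  have h2 := exactAt_TC_residueField_of_bc σ C i h1
  exact (exactAt_TC_iff_of_iso_kflat F C hFK hC eF _ i).2 h2

end Local

end Groth.Agent.Lib.Helper1.FibPerf
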