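import Mathlib
set_option backward.isDefEq.respectTransparency.types false

/-!
# Complexes of finite free modules over a local ring with fibre cohomology in one degree (helper1)
-/

set_option autoImplicit false
set_option linter.style.haveILetI false
set_option linter.unusedSectionVars false
universe u
open CategoryTheory CategoryTheory.Limits TensorProduct

namespace Groth.Agent.Lib.Helper1.LF

section algebra

variable {A : Type u} [CommRing A] [IsLocalRing A]

/-- the fibre dimension of a module over a local ring -/
noncomputable abbrev mu (A : Type u) [CommRing A] [IsLocalRing A] (M : Type u) [AddCommGroup M]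
    [Module A M] : ℕ :=
  Module.finrank (IsLocalRing.ResidueField A) (IsLocalRing.ResidueField A ⊗[A] M)

variable {M N P : Type u} [AddCommGroup M] [AddCommGroup N] [AddCommGroup P]
  [Module A M] [Module A N] [Module A P]

lemma mu_congr (e : M ≃ₗ[A] N) : mu A M = mu A N :=
  LinearEquiv.finrank_eq
    (TensorProduct.AlgebraTensorModule.congr (LinearEquiv.refl (IsLocalRing.ResidueField A) _) e)

lemma mu_prod [Module.Finite A M] [Module.Finite A N] : mu A (M × N) = mu A M + mu A N := by
  have h := LinearEquiv.finrank_eq
    (TensorProduct.prodRight A (IsLocalRing.ResidueField A) (IsLocalRing.ResidueField A) M N)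
  unfold mu
  rw [h, Module.finrank_prod]

/-- a dimension count giving injectivity on the fibre -/
lemma lTensor_injective_of_mu [Module.Finite A M] [Module.Finite A N]
    (f : M →ₗ[A] N) (g : N →ₗ[A] P) (hfg : Function.Exact f g) (hg : Function.Surjective g)
    (h : mu A M + mu A P = mu A N) :
    Function.Injective (f.lTensor (IsLocalRing.ResidueField A)) := by
  let κ := IsLocalRing.ResidueField A
  let f' : κ ⊗[A] M →ₗ[κ] κ ⊗[A] N := f.baseChange κ
  let g' : κ ⊗[A] N →ₗ[κ] κ ⊗[A] P := g.baseChange κ
  have hex : Function.Exact f' g' := lTensor_exact κ hfg hg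
  have hsurj : Function.Surjective g' := LinearMap.lTensor_surjective κ hg
  haveI : Module.Finite κ (κ ⊗[A] P) := Module.Finite.of_surjective g' hsurj
  have h1 := LinearMap.finrank_range_add_finrank_ker g'
  have h2 := LinearMap.finrank_range_add_finrank_ker f'
  rw [LinearMap.range_eq_top.2 hsurj, finrank_top] at h1
  rw [(LinearMap.exact_iff.1 hex)] at h1
  have h3 : Module.finrank κ (LinearMap.ker f') = 0 := by
    change Module.finrank κ (κ ⊗[A] M) + Module.finrank κ (κ ⊗[A] P) =
      Module.finrank κ (κ ⊗[A] N) at h
    omega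
  have h4 : LinearMap.ker f' = ⊥ := Submodule.finrank_eq_zero.1 h3
  have h5 : Function.Injective f' := LinearMap.ker_eq_bot.1 h4
  exact h5

/-- the kernel of a map between finite projective modules with projective cokernel -/
lemma flat_ker_and_mu [Module.Finite A M] [Module.Finite A N] [Module.Projective A M]
    [Module.Projective A N] [Module.Projective A P]
    (f : M →ₗ[A] N) (g : N →ₗ[A] P) (hfg : Function.Exact f g) (hg : Function.Surjective g) :
    Module.Flat A (LinearMap.ker f) ∧ mu A (LinearMap.ker f) + mu A N = mu A M + mu A P := by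
  -- split `N`
  obtain ⟨s, hs⟩ := Module.projective_lifting_property g LinearMap.id hg
  have hex1 : Function.Exact (LinearMap.ker g).subtype g := LinearMap.exact_subtype_ker_map g
  obtain ⟨e₁, he₁, -⟩ := hex1.splitSurjectiveEquiv Subtype.val_injective ⟨s, hs⟩
  have hsplit1 : (LinearMap.fst A _ _ ∘ₗ e₁.toLinearMap) ∘ₗ (LinearMap.ker g).subtype =
      LinearMap.id := by
    rw [he₁]
    ext x
    simp
  haveI : Module.Projective A (LinearMap.ker g) := Module.Projective.of_split _ _ hsplit1
  haveI : Module.Finite A (LinearMap.ker g) :=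
    Module.Finite.of_surjective (LinearMap.fst A _ _ ∘ₗ e₁.toLinearMap) (fun x =>
      ⟨(LinearMap.ker g).subtype x, LinearMap.congr_fun hsplit1 x⟩)
  -- split `M`
  have hrange : LinearMap.range f = LinearMap.ker g := hfg.linearMap_ker_eq.symm
  let p : M →ₗ[A] LinearMap.ker g := f.codRestrict (LinearMap.ker g) (fun x => by
    rw [← hrange]
    exact LinearMap.mem_range_self f x)
  have hp : Function.Surjective p := by
    rintro ⟨y, hy⟩
    rw [← hrange] at hy
    obtain ⟨x, rfl⟩ := hy
    exact ⟨x, rfl⟩
  have hkp : LinearMap.ker p = LinearMap.ker f := LinearMap.ker_codRestrict _ _ _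
  obtain ⟨t, ht⟩ := Module.projective_lifting_property p LinearMap.id hp
  have hex2 : Function.Exact (LinearMap.ker p).subtype p := LinearMap.exact_subtype_ker_map p
  obtain ⟨e₂, he₂, -⟩ := hex2.splitSurjectiveEquiv Subtype.val_injective ⟨t, ht⟩
  have hsplit2 : (LinearMap.fst A _ _ ∘ₗ e₂.toLinearMap) ∘ₗ (LinearMap.ker p).subtype =
      LinearMap.id := by
    rw [he₂]
    ext x
    simp
  haveI : Module.Projective A (LinearMap.ker p) := Module.Projective.of_split _ _ hsplit2
  haveI : Module.Finite A (LinearMap.ker p) :=
    Module.Finite.of_surjective (LinearMap.fst A _ _ ∘ₗ e₂.toLinearMap) (fun x =>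
      ⟨(LinearMap.ker p).subtype x, LinearMap.congr_fun hsplit2 x⟩)
  haveI : Module.Finite A P := Module.Finite.of_surjective g hg
  have hm1 : mu A N = mu A (LinearMap.ker g) + mu A P := (mu_congr e₁).trans mu_prod
  have hm2 : mu A M = mu A (LinearMap.ker p) + mu A (LinearMap.ker g) :=
    (mu_congr e₂).trans mu_prod
  rw [← hkp]
  refine ⟨inferInstance, ?_⟩
  omega

end algebra

section complexes

variable {A : Type u} [CommRing A] [IsLocalRing A] (K : CochainComplex (ModuleCat.{u} A) ℤ)

lemma surjective_pOpcycles (k : ℤ) : Function.Surjective (K.pOpcycles k).hom :=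
  (ModuleCat.epi_iff_surjective _).1 inferInstance

lemma exact_fromOpcycles_pOpcycles (k : ℤ) :
    Function.Exact (K.fromOpcycles k (k + 1)).hom (K.pOpcycles (k + 1)).hom := by
  have hS : (ShortComplex.mk _ _ (K.d_pOpcycles k (k + 1))).Exact :=
    ShortComplex.exact_of_g_is_cokernel _ (K.opcyclesIsCokernel k (k + 1) (by simp))
  have h1 : Function.Exact (K.d k (k + 1)).hom (K.pOpcycles (k + 1)).hom :=
    (ShortComplex.ShortExact.moduleCat_exact_iff_function_exact _).1 hS
  have h2 : (K.d k (k + 1)).hom = (K.fromOpcycles k (k + 1)).hom ∘ₗ (K.pOpcycles k).hom := by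
    rw [← ModuleCat.hom_comp, K.p_fromOpcycles]
  intro y
  rw [h1 y]
  constructor
  · rintro ⟨x, rfl⟩
    exact ⟨(K.pOpcycles k).hom x, by rw [h2]; rfl⟩
  · rintro ⟨z, rfl⟩
    obtain ⟨x, rfl⟩ := surjective_pOpcycles K k z
    exact ⟨x, by rw [h2]; rfl⟩

/-- the homology is the kernel of `fromOpcycles` -/
noncomputable def homologyEquivKer (k : ℤ) :
    K.homology k ≃ₗ[A] LinearMap.ker (K.fromOpcycles k (k + 1)).hom :=
  (IsLimit.conePointUniqueUpToIso (K.homologyIsKernel k (k + 1) (by simp))
    (ModuleCat.kernelIsLimit (K.fromOpcycles k (k + 1)))).toLinearEquiv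

variable (hfin : ∀ k, Module.Finite A (K.X k)) (hfree : ∀ k, Module.Free A (K.X k))

include hfin in
lemma finite_opcycles (k : ℤ) : Module.Finite A (K.opcycles k) :=
  haveI := hfin k
  Module.Finite.of_surjective (K.pOpcycles k).hom (surjective_pOpcycles K k)

include hfin hfree in
/-- a complex of finite free modules over a local ring whose fibre cohomology vanishes outside
the degree `i` has flat cohomology commuting with passage to the fibre -/
theorem flat_homology_and_mu (i : ℤ)
    (h : ∀ k : ℤ, k ≠ i → mu A (K.opcycles k) + mu A (K.opcycles (k + 1)) = mu A (K.X (k + 1)))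
    (k : ℤ) :
    Module.Flat A (K.homology k) ∧
      mu A (K.homology k) + mu A (K.X (k + 1)) =
        mu A (K.opcycles k) + mu A (K.opcycles (k + 1)) := by
  have hfo : ∀ k, Module.Finite A (K.opcycles k) := finite_opcycles K hfin
  have hinj : ∀ k : ℤ, k ≠ i → Function.Injective
      ((K.fromOpcycles k (k + 1)).hom.lTensor (IsLocalRing.ResidueField A)) := fun k hk => by
    haveI := hfo k
    haveI := hfin (k + 1)
    exact lTensor_injective_of_mu _ _ (exact_fromOpcycles_pOpcycles K k)
      (surjective_pOpcycles K (k + 1)) (h k hk)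
  have hp1 : ∀ k : ℤ, k ≠ i → Module.Projective A (K.opcycles (k + 1)) := fun k hk => by
    haveI := hfo k
    haveI := hfin (k + 1)
    haveI := hfree (k + 1)
    haveI : Module.Free A (K.opcycles (k + 1)) :=
      Module.free_of_lTensor_residueField_injective _ _ (surjective_pOpcycles K (k + 1))
        (exact_fromOpcycles_pOpcycles K k) (hinj k hk)
    infer_instance
  have hp2 : ∀ k : ℤ, k ≠ i → Module.Projective A (K.opcycles k) := fun k hk => by
    haveI := hfo k
    haveI := hfin (k + 1)
    haveI := hfree (k + 1)
    obtain ⟨l', hl'⟩ := (IsLocalRing.split_injective_iff_lTensor_residueField_injective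
      (K.fromOpcycles k (k + 1)).hom).2 (hinj k hk)
    exact Module.Projective.of_split _ _ hl'
  have hp : ∀ k : ℤ, Module.Projective A (K.opcycles k) := fun k => by
    by_cases hk : k = i
    · obtain ⟨k', rfl⟩ : ∃ k', k = k' + 1 := ⟨k - 1, by ring⟩
      exact hp1 k' (by omega)
    · exact hp2 k hk
  haveI := hfo k
  haveI := hfin (k + 1)
  haveI := hfree (k + 1)
  haveI := hp k
  haveI := hp (k + 1)
  obtain ⟨h1, h2⟩ := flat_ker_and_mu _ _ (exact_fromOpcycles_pOpcycles K k)
    (surjective_pOpcycles K (k + 1))
  refine ⟨Module.Flat.of_linearEquiv (homologyEquivKer K k), ?_⟩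
  rw [mu_congr (homologyEquivKer K k)]
  exact h2

end complexes

end Groth.Agent.Lib.Helper1.LF
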