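import Mathlib
import Groth.Agent.Lib.Helper1LF1
import Groth.Agent.Lib.Helper1Fib6
import Groth.Agent.Lib.Helper1PC16
set_option backward.isDefEq.respectTransparency.types false

/-!
# A strictly perfect complex whose fibre cohomology at a point is concentrated in one degree
(helper1)
-/

set_option autoImplicit false
set_option linter.style.haveILetI false
set_option linter.unusedSectionVars false
universe u
open CategoryTheory CategoryTheory.Limits AlgebraicGeometry TopologicalSpace Opposite

attribute [local instance] HasDerivedCategory.standard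

namespace Groth.Agent.Lib.Helper1.LF

open Groth.Agent.Lib.Helper1.Sky Groth.Agent.Lib.Helper1.StalkTensor Groth.Agent.Lib.Helper1.SPL
open Groth.Agent.Lib.Helper2.RankLoc Groth.Agent.Lib.Helper1.KBC

variable {U : Scheme.{u}} (u : U)

lemma fibreRank_eq_mu (M : U.Modules) : fibreRank M u = mu (Sky.Ox u) ((stalkFun u).obj M) := rfl

variable (P : CochainComplex U.Modules ℤ)

/-- the complex of stalks -/
noncomputable abbrev stalkC : CochainComplex (ModuleCat.{u} (Sky.Ox u)) ℤ :=
  ((stalkFun u).mapHomologicalComplex (ComplexShape.up ℤ)).obj P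

noncomputable def stalkCOpcyclesIso (a b : ℤ) (hab : a + 1 = b) :
    (stalkC u P).opcycles b ≅ (stalkFun u).obj (cokernel (P.d a b)) :=
  IsColimit.coconePointUniqueUpToIso ((stalkC u P).opcyclesIsCokernel a b (by simp; omega))
    (cokernelIsCokernel ((stalkC u P).d a b)) ≪≫
    (PreservesCokernel.iso (stalkFun u) (P.d a b)).symm

noncomputable def stalkCHomologyIso (k : ℤ) :
    (stalkC u P).homology k ≅ (stalkFun u).obj (P.homology k) :=
  (P.sc k).mapHomologyIso (stalkFun u)

lemma mu_stalkC_opcycles (a b : ℤ) (hab : a + 1 = b) :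
    mu (Sky.Ox u) ((stalkC u P).opcycles b) = fibreRank (cokernel (P.d a b)) u :=
  mu_congr (stalkCOpcyclesIso u P a b hab).toLinearEquiv

lemma mu_stalkC_homology (k : ℤ) :
    mu (Sky.Ox u) ((stalkC u P).homology k) = fibreRank (P.homology k) u :=
  mu_congr (stalkCHomologyIso u P k).toLinearEquiv

lemma free_finite_stalk_of_isFinLocFree (M : U.Modules) (h : FlatMod.IsFinLocFree M) :
    Module.Free (Sky.Ox u) ((stalkFun u).obj M) ∧ Module.Finite (Sky.Ox u) ((stalkFun u).obj M) := by
  obtain ⟨D, n, huD, ⟨e⟩⟩ := h u
  exact free_finite_stalk_of_restrict_iso_freeMod M D.ι n e ⟨u, huD⟩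

/-- **Key local statement**: if the fibre cohomology of a strictly perfect complex at `u` vanishes
outside the degree `i`, all cohomology sheaves are finite locally free near `u`, with ranks the
fibre Betti numbers -/
theorem flfAt_homology_of_fibre (hP : DCoh.IsStrictlyPerfect P) (i : ℤ)
    (h : ∀ k : ℤ, k ≠ i → fibreRank (cokernel (P.d (k - 1) k)) u +
      fibreRank (cokernel (P.d k (k + 1))) u = fibreRank (P.X (k + 1)) u) (k : ℤ) :
    FlfAt (P.homology k) u ∧
      fibreRank (P.homology k) u + fibreRank (P.X (k + 1)) u =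
        fibreRank (cokernel (P.d (k - 1) k)) u + fibreRank (cokernel (P.d k (k + 1))) u := by
  have hff := fun k => free_finite_stalk_of_isFinLocFree u (P.X k) (hP.2 k)
  have hAT := flat_homology_and_mu (stalkC u P) (fun k => (hff k).2) (fun k => (hff k).1) i
    (fun k hk => by
      rw [mu_stalkC_opcycles u P (k - 1) k (by ring), mu_stalkC_opcycles u P k (k + 1) rfl]
      exact h k hk)
  have hfl : ∀ k : ℤ, FlatMod.IsFlatAt (P.homology k) u := fun k => by
    have h1 := (hAT k).1
    exact Module.Flat.of_linearEquiv (stalkCHomologyIso u P k).toLinearEquiv.symm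
  refine ⟨(flfAt_cycles_homology P hP u hfl k).2, ?_⟩
  have h2 := (hAT k).2
  rw [mu_stalkC_opcycles u P (k - 1) k (by ring), mu_stalkC_opcycles u P k (k + 1) rfl,
    mu_stalkC_homology] at h2
  exact h2

end Groth.Agent.Lib.Helper1.LF
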