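import Mathlib
import Groth.Agent.Lib.Helper1TQ9
import Groth.Agent.Lib.Helper1PC13
import Groth.Agent.Lib.Helper1PC7
import Groth.Prelude.Def_KSix
set_option backward.isDefEq.respectTransparency.types false

/-!
# Perfect amplitude = pseudo-coherence + tor amplitude (helper1)
-/

set_option autoImplicit false
set_option linter.style.haveILetI false
universe u
open CategoryTheory CategoryTheory.Limits AlgebraicGeometry HomologicalComplex

attribute [local instance] HasDerivedCategory.standard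

namespace Groth.Agent.Lib.Helper1.TQ

open Groth.Agent.Lib.Helper1.Sky Groth.Agent.Lib.Helper1.StalkTensor Groth.Agent.Lib.Helper1.KBC
  Groth.Agent.Lib.Helper1.Tor Groth.Agent.Lib.Helper1.BKF Groth.Agent.Lib.Helper1.CI
  Groth.Agent.Lib.Helper1.SPL

variable {X : Scheme.{u}}

/-- `K` is locally at `x` the class of a complex of finite locally free modules in `[m, n]` -/
def HasPresA (m n : ℤ) (K : DCoh.D X) (x : X) : Prop :=
  ∃ (U : Scheme.{u}) (j : U ⟶ X) (_ : IsOpenImmersion j), x ∈ j.opensRange ∧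
    ∃ E : CochainComplex U.Modules ℤ, DCoh.VanishesOutside E m n ∧
      (∀ i : ℤ, FlatMod.IsFinLocFree (E.X i)) ∧
      Nonempty ((resD j).obj K ≅ DerivedCategory.Q.obj E)

lemma HasPresA.of_iso {m n : ℤ} {K K' : DCoh.D X} (e : K ≅ K') {x : X} (h : HasPresA m n K x) :
    HasPresA m n K' x := by
  obtain ⟨U, j, hj, hx, E, hE, hfl, ⟨a⟩⟩ := h
  exact ⟨U, j, hj, hx, E, hE, hfl, ⟨(resD j).mapIso e.symm ≪≫ a⟩⟩

lemma HasPresA.exists_opens {m n : ℤ} {K : DCoh.D X} {x : X} (h : HasPresA m n K x) :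
    ∃ V : X.Opens, x ∈ V ∧ ∃ E : CochainComplex (V : Scheme.{u}).Modules ℤ,
      DCoh.VanishesOutside E m n ∧ (∀ i : ℤ, FlatMod.IsFinLocFree (E.X i)) ∧
      Nonempty ((resD V.ι).obj K ≅ DerivedCategory.Q.obj E) := by
  obtain ⟨U, j, hj, hx, E, hE, hfl, ⟨a⟩⟩ := h
  haveI := hj
  obtain ⟨b⟩ := nonempty_pres_comp j j.opensRange.ι j.isoOpensRange.inv (by simp) K E a
  exact ⟨j.opensRange, hx, (resC j.isoOpensRange.inv).obj E,
    fun i hi => (Scheme.Modules.restrictFunctor j.isoOpensRange.inv).map_isZero (hE i hi),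
    fun i => isFinLocFree_restrict j.isoOpensRange.inv (E.X i) (hfl i), ⟨b⟩⟩

lemma HasPresA.hasPres {m n : ℤ} {K : DCoh.D X} {x : X} (h : HasPresA m n K x) : HasPres K x := by
  obtain ⟨U, j, hj, hx, E, hE, hfl, ⟨a⟩⟩ := h
  exact ⟨U, j, hj, hx, E, ⟨⟨m, n, hE⟩, hfl⟩, ⟨a⟩⟩

theorem hasPerfectAmplitudeIn_iff_hasPresA (m n : ℤ) (K : DCoh.D X) :
    KSix.HasPerfectAmplitudeIn m n K ↔ ∀ x : X, HasPresA m n K x := by
  constructor
  · intro h x
    obtain ⟨V, hxV, hV⟩ := h x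
    let F₀ : CochainComplex X.Modules ℤ := DerivedCategory.Q.objPreimage K
    let e₀ : DCoh.toD X F₀ ≅ K := DerivedCategory.Q.objObjPreimageIso K
    obtain ⟨E, hE, hfl, ⟨eE⟩⟩ := hV F₀ ⟨e₀⟩
    refine ⟨V, V.ι, inferInstance, by simpa using hxV, E, hE, hfl, ⟨?_⟩⟩
    exact (resD V.ι).mapIso e₀.symm ≪≫ (facD V.ι).app F₀ ≪≫ eE
  · intro h x
    obtain ⟨V, hxV, E, hE, hfl, ⟨a⟩⟩ := (h x).exists_opens
    refine ⟨V, hxV, fun F ⟨eF⟩ => ⟨E, hE, hfl, ⟨?_⟩⟩⟩
    exact ((facD V.ι).app F).symm ≪≫ (resD V.ι).mapIso eF ≪≫ a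

/-- perfect amplitude gives pseudo-coherence and tor amplitude -/
theorem pc_and_flatAmp_of_hasPerfectAmplitudeIn (E : DCoh.D X) (m n : ℤ)
    (h : KSix.HasPerfectAmplitudeIn m n E) :
    DCoh.IsPseudoCoherentD (m - 1) E ∧ DCoh.HasFlatAmplitudeIn m n E := by
  rw [hasPerfectAmplitudeIn_iff_hasPresA] at h
  have hperf : DCoh.IsPerfect E := (isPerfect_iff_hasPres E).2 (fun x => (h x).hasPres)
  refine ⟨((isPerfect_iff_pseudoCoherent_locFiniteTorDim E).1 hperf).1 (m - 1), ?_⟩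
  let F₀ : CochainComplex X.Modules ℤ := DerivedCategory.Q.objPreimage E
  let e₀ : DCoh.toD X F₀ ≅ E := DerivedCategory.Q.objObjPreimageIso E
  rw [hasFlatAmplitudeIn_iff_hasTorAmplitudeIn]
  refine hasTorAmplitudeIn_of_iso e₀ m n ?_
  refine hasTorAmplitudeIn_of_cover F₀ m n (fun x => ?_)
  obtain ⟨V, hxV, P, hP, hfl, ⟨a⟩⟩ := (h x).exists_opens
  refine ⟨V, hxV, ?_⟩
  refine hasTorAmplitudeIn_of_hasFlatAmplitudeIn m n
    ⟨P, hP, fun i => isFlat_of_isFinLocFree' _ (hfl i), ⟨?_⟩⟩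
  exact a.symm ≪≫ (resD V.ι).mapIso e₀.symm ≪≫ (facD V.ι).app F₀


/-- truncating a strictly perfect complex which is exact above `b` -/
lemma exists_truncLE (T : CochainComplex X.Modules ℤ) (hT : DCoh.IsStrictlyPerfect T) (a b : ℤ)
    (hab : a ≤ b) [T.IsStrictlyGE a] (hex : ∀ i, b < i → IsZero (T.homology i)) :
    ∃ T' : CochainComplex X.Modules ℤ, DCoh.VanishesOutside T' a b ∧
      (∀ i, FlatMod.IsFinLocFree (T'.X i)) ∧
      Nonempty (DerivedCategory.Q.obj T' ≅ DerivedCategory.Q.obj T) := by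
  have hle : T.IsLE b := by
    rw [CochainComplex.isLE_iff]
    intro i hi
    rw [exactAt_iff_isZero_homology]
    exact hex i hi
  have hιi : IsIso (DerivedCategory.Q.map (T.ιTruncLE b)) := by
    rw [DerivedCategory.isIso_Q_map_iff_quasiIso]; infer_instance
  refine ⟨T.truncLE b, fun i hi => ?_, fun i => ?_, ⟨asIso (DerivedCategory.Q.map (T.ιTruncLE b))⟩⟩
  · rcases hi with hi | hi
    · exact IsZero.of_iso (T.isZero_of_isStrictlyGE a i hi) (T.truncLEXIso b i (by omega))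
    · exact (T.truncLE b).isZero_of_isStrictlyLE b i hi
  · obtain hi | rfl | hi := lt_trichotomy i b
    · exact Groth.Agent.Lib.Helper1.FLF.isFinLocFree_of_iso (T.truncLEXIso b i hi).symm (hT.2 i)
    · exact Groth.Agent.Lib.Helper1.FLF.isFinLocFree_of_iso (T.truncLEXIsoCycles i).symm
        (isFinLocFree_cycles T hT i hex i le_rfl)
    · exact isFinLocFree_of_isZero _ ((T.truncLE b).isZero_of_isStrictlyLE b i hi)

/-- a bounded flat complex in `[a, b]` which is `(a - 1)`-pseudo-coherent near `x` is near `x`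
the class of a complex of finite locally free modules in `[a, b]` -/
theorem hasPresA_of_flat_of_hasPresM (F₀ : CochainComplex X.Modules ℤ) (a b : ℤ) (hab : a ≤ b)
    (hFv : DCoh.VanishesOutside F₀ a b) (hFfl : ∀ i : ℤ, FlatMod.IsFlat (F₀.X i)) (x : X)
    (h : HasPresM (a - 1) (DerivedCategory.Q.obj F₀) x) :
    HasPresA a b (DerivedCategory.Q.obj F₀) x := by
  obtain ⟨V, hxV, P, α, hP, hα⟩ := h.exists_opens
  let F₁ : CochainComplex (V : Scheme.{u}).Modules ℤ := (resC V.ι).obj F₀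
  let α₁ : DerivedCategory.Q.obj P ⟶ DerivedCategory.Q.obj F₁ := α ≫ (facD V.ι).hom.app F₀
  have hα₁ : PropM (a - 1) α₁ := propM_comp _ hα (propM_of_isIso _ _)
  obtain ⟨V', hyV', β, hβ⟩ := exists_opens_chain_map hP α₁ (⟨x, hxV⟩ : (V : Scheme.{u}))
  have hQβ : PropM (a - 1) (DerivedCategory.Q.map β) := by
    have h1 : DerivedCategory.Q.map β = (facD V'.ι).inv.app P ≫ (resD V'.ι).map α₁ ≫
        (facD V'.ι).hom.app F₁ := by
      rw [hβ]
      simp only [Category.assoc, Iso.inv_hom_id_app, Iso.inv_hom_id_app_assoc]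
      exact (Category.comp_id _).symm
    rw [h1]
    exact propM_comp _ (propM_of_isIso _ _)
      (propM_comp _ (propM_mapDerivedCategory _ _ α₁ hα₁) (propM_of_isIso _ _))
  have hqi : ∀ i : ℤ, a ≤ i → QuasiIsoAt β i := fun i hi =>
    quasiIsoAt_of_isIso_homology_Q_map β i (hQβ.1 i (by omega))
  have hF₂v : DCoh.VanishesOutside ((resC V'.ι).obj F₁) a b := fun i hi =>
    (Scheme.Modules.restrictFunctor V'.ι).map_isZero
      ((Scheme.Modules.restrictFunctor V.ι).map_isZero (hFv i hi))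
  obtain ⟨hE, ⟨e⟩⟩ := isStrictlyPerfect_truncGE_of_flat ((resC V'.ι).obj P) ((resC V'.ι).obj F₁)
    (isStrictlyPerfect_resC _ _ hP) a b hF₂v
    (fun i => isFlat_restrict V'.ι _ (isFlat_restrict V.ι _ (hFfl i))) β hqi
  have hex : ∀ i, b < i → IsZero ((((resC V'.ι).obj P).truncGE a).homology i) := by
    intro i hi
    have h1 : IsZero (((resC V'.ι).obj F₁).homology i) :=
      isZero_homology_of_isZero_X _ i (hF₂v i (Or.inr hi))
    refine IsZero.of_iso h1 ?_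
    exact ((DerivedCategory.homologyFunctorFactors _ i).app _).symm ≪≫
      (DerivedCategory.homologyFunctor _ i).mapIso e ≪≫
      (DerivedCategory.homologyFunctorFactors _ i).app _
  obtain ⟨T', hT'v, hT'fl, ⟨e'⟩⟩ := exists_truncLE _ hE a b hab hex
  refine ⟨(V' : Scheme.{u}), V'.ι ≫ V.ι, inferInstance, ⟨⟨⟨x, hxV⟩, hyV'⟩, rfl⟩, T', hT'v, hT'fl,
    ⟨?_⟩⟩
  exact (resDComp V'.ι V.ι).app _ ≪≫ (resD V'.ι).mapIso ((facD V.ι).app F₀) ≪≫
    (facD V'.ι).app F₁ ≪≫ e.symm ≪≫ e'.symm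

/-- S4275 -/
theorem hasPerfectAmplitudeIn_iff (E : DCoh.D X) (m n : ℤ) (hmn : m ≤ n) :
    KSix.HasPerfectAmplitudeIn m n E ↔
      DCoh.IsPseudoCoherentD (m - 1) E ∧ DCoh.HasFlatAmplitudeIn m n E := by
  constructor
  · exact pc_and_flatAmp_of_hasPerfectAmplitudeIn E m n
  · rintro ⟨h2, h1⟩
    obtain ⟨F₀, hv, hfl, ⟨e⟩⟩ := h1
    rw [hasPerfectAmplitudeIn_iff_hasPresA]
    intro x
    have h3 := ((isPseudoCoherentD_iff_hasPresM (m - 1) E).1 h2 x).of_iso e.symm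
    exact (hasPresA_of_flat_of_hasPresM F₀ m n hmn hv hfl x h3).of_iso e

end Groth.Agent.Lib.Helper1.TQ
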