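import Mathlib
import Groth.Agent.Lib.Helper1TorO
import Groth.Agent.Lib.Helper1Sky11
import Groth.Agent.Lib.Helper1PC12
import Groth.Agent.Lib.Helper1PC1
set_option backward.isDefEq.respectTransparency.types false

/-!
# Ring level: tensoring maps of K-flat complexes which are isomorphisms in high degrees;
flatness of a cokernel from tor amplitude of the target (helper1)
-/

set_option autoImplicit false
set_option linter.style.haveILetI false
set_option maxHeartbeats 400000
universe u
open CategoryTheory CategoryTheory.Limits MonoidalCategory HomologicalComplex TensorProduct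
attribute [local instance] HasDerivedCategory.standard

namespace Groth.Agent.Lib.Helper1.TQ

open DerivedCategory Groth.Agent.Lib.Helper1.KF Groth.Agent.Lib.Helper1.Tor
  Groth.Agent.Lib.Helper1.DT Groth.Agent.Lib.Helper1.LDer Groth.Agent.Lib.Helper1.TorM
  Groth.Agent.Lib.Helper1.TorN Groth.Agent.Lib.Helper1.TorO Groth.Agent.Lib.Helper1.Sky
  Groth.Agent.Lib.Helper1.SPL

section Ring

variable {R : Type u} [CommRing R]

open CochainComplex in
/-- tensoring with a module preserves `PropM` for maps between K-flat complexes -/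
theorem propM_TC_map (N : ModuleCat.{u} R) {K L : Cx R} (φ : K ⟶ L) (hK : KFlat K) (hL : KFlat L)
    (m : ℤ) (h : PropM m (Q.map φ)) : PropM m (Q.map ((TC N).map φ)) := by
  rw [propM_Q_map_iff] at h ⊢
  intro i hi
  have hC : KFlat (mappingCone φ) := KFlat.cone φ hK hL
  have h1 : ((TC N).obj (mappingCone φ)).ExactAt i :=
    exactAt_TC_of_exactAt_above (mappingCone φ) hC (m - 1) (fun j hj => by
      rw [exactAt_iff_isZero_homology]; exact h j (by omega)) N i (by omega)
  rw [exactAt_iff_isZero_homology] at h1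
  exact h1.of_iso ((HomologicalComplex.homologyFunctor _ _ i).mapIso
    (mappingCone.mapHomologicalComplexIso φ (tensorLeft N))).symm

/-- the key vanishing: if `β : P ⟶ F` is an isomorphism on `H^i` for `i ≥ a - 1` and an epimorphism
on `H^{a-2}`, `P` is K-flat and `F` has tor amplitude in `[a, b]`, then `N ⊗ P` is exact in degree
`a - 1` for every module `N` -/
theorem exactAt_TC_of_propM {P F : Cx R} (β : P ⟶ F) (hP : KFlat P) (a b : ℤ)
    (hβ : PropM (a - 2) (Q.map β)) (hF : DRing.HasTorAmplitudeIn R a b (Q.obj F))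
    (N : ModuleCat.{u} R) : ((TC N).obj P).ExactAt (a - 1) := by
  obtain ⟨E, hE, hEf, ⟨e⟩⟩ := hF
  obtain ⟨G, π, hG, -, hπ, -⟩ := exists_kprojective_resolution F
  obtain ⟨P', ρ, hP', -, hρ, -⟩ := exists_kprojective_resolution P
  haveI := hG
  haveI := hP'
  have hπi : IsIso (Q.map π) := (DerivedCategory.isIso_Q_map_iff_quasiIso (φ := π)).2 hπ
  have hρi : IsIso (Q.map ρ) := (DerivedCategory.isIso_Q_map_iff_quasiIso (φ := ρ)).2 hρ
  obtain ⟨β', hβ'⟩ := Q_map_surjective P' G (Q.map ρ ≫ Q.map β ≫ inv (Q.map π))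
  have hβ'M : PropM (a - 2) (Q.map β') := by
    rw [hβ']
    exact propM_comp _ (propM_of_isIso _ _) (propM_comp _ hβ (propM_of_isIso _ _))
  have hGK : KFlat G := kflat_of_isKProjective G
  have hP'K : KFlat P' := kflat_of_isKProjective P'
  have h1 := propM_TC_map N β' hP'K hGK (a - 2) hβ'M
  have hTV : TorVan G a b :=
    torVan_of_iso_kflat G E hGK a b hE hEf (e ≪≫ (asIso (Q.map π)).symm)
  have h2 : ((TC N).obj G).ExactAt (a - 1) := hTV N (a - 1) (Or.inl (by omega))
  have h3 : QuasiIsoAt ((TC N).map β') (a - 1) :=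
    quasiIsoAt_of_isIso_homology_Q_map _ _ (h1.1 (a - 1) (by omega))
  have h4 : ((TC N).obj P').ExactAt (a - 1) := by
    rw [exactAt_iff_isZero_homology] at h2 ⊢
    have := (quasiIsoAt_iff_isIso_homologyMap _ _).1 h3
    exact h2.of_iso (asIso (homologyMap ((TC N).map β') (a - 1)))
  have q := quasiIso_TC_map_of_kflat N ρ hP'K hP
  have h5 : QuasiIsoAt ((TC N).map ρ) (a - 1) := q.quasiIsoAt (a - 1)
  rw [exactAt_iff_isZero_homology] at h4 ⊢
  have := (quasiIsoAt_iff_isIso_homologyMap _ _).1 h5
  exact h4.of_iso (asIso (homologyMap ((TC N).map ρ) (a - 1))).symm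

/-- flatness of the cokernel of `P^{a-1} ⟶ P^a` -/
theorem flat_coker_of_propM {P F : Cx R} (β : P ⟶ F) (hPf : DRing.TermwiseFlat P) (bP : ℤ)
    (hPb : ∀ q : ℤ, bP < q → IsZero (P.X q)) (a b : ℤ)
    (hβ : PropM (a - 2) (Q.map β)) (hF : DRing.HasTorAmplitudeIn R a b (Q.obj F))
    {C : Type*} [AddCommGroup C] [Module R C] (p : P.X a →ₗ[R] C)
    (hp : Function.Surjective p) (hdp : Function.Exact (P.d (a - 1) a).hom p) :
    Module.Flat R C := by
  have hPK : KFlat P := kflat_of_boundedAbove_flat P bP hPb hPf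
  have := hPf a
  have key := exactAt_TC_of_propM β hPK a b hβ hF
  refine flat_of_forall_exact_lTensor (P.d (a - 1 - 1) (a - 1)).hom (P.d (a - 1) a).hom p hp hdp
    ?_ ?_
  · have h1 := key (ModuleCat.of R R)
    rw [exactAt_TC_iff _ P (a - 1 - 1) (a - 1) a (by lia) (by lia)] at h1
    refine Function.Exact.of_ladder_linearEquiv_of_exact (e₁ := TensorProduct.lid R _)
      (e₂ := TensorProduct.lid R _) (e₃ := TensorProduct.lid R _) ?_ ?_ h1
    · ext x
      simp
    · ext x
      simp
  · intro I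
    have h1 := key (ModuleCat.of R (R ⧸ I))
    rw [exactAt_TC_iff _ P (a - 1 - 1) (a - 1) a (by lia) (by lia)] at h1
    exact h1

end Ring

end Groth.Agent.Lib.Helper1.TQ
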