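import Mathlib
import Groth.Agent.Lib.Helper1TQ11
import Groth.Agent.Lib.Helper1TQ10
import Groth.Agent.Lib.Helper1PC15
import Groth.Agent.Lib.Helper1Devissage
import Groth.Agent.Lib.Helper1TorH
set_option backward.isDefEq.respectTransparency.types false

/-!
# Pointwise tor amplitude + pseudo-coherence gives a local strictly perfect presentation (helper1)
-/

set_option autoImplicit false
set_option linter.style.haveILetI false
set_option maxHeartbeats 400000
universe w w' v v' u u' u''
open CategoryTheory CategoryTheory.Limits AlgebraicGeometry HomologicalComplex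

attribute [local instance] HasDerivedCategory.standard

namespace Groth.Agent.Lib.Helper1.TQ

open Groth.Agent.Lib.Helper1.Sky Groth.Agent.Lib.Helper1.StalkTensor Groth.Agent.Lib.Helper1.KBC
  Groth.Agent.Lib.Helper1.Tor Groth.Agent.Lib.Helper1.CI
  Groth.Agent.Lib.Helper1.SPL

section abstract

variable {A : Type u'} [Category.{v} A] [Abelian A] [HasDerivedCategory.{w} A]
  {B : Type u''} [Category.{v'} B] [Abelian B] [HasDerivedCategory.{w'} B]
  (G : A ⥤ B) [G.Additive] [PreservesFiniteLimits G] [PreservesFiniteColimits G]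

/-- an exact functor preserves `PropM` of chain maps -/
lemma propM_Q_map_mapHC {K L : CochainComplex A ℤ} (β : K ⟶ L) (m : ℤ)
    (h : PropM m (DerivedCategory.Q.map β)) :
    PropM m (DerivedCategory.Q.map ((G.mapHomologicalComplex (ComplexShape.up ℤ)).map β)) := by
  have h1 := propM_mapDerivedCategory G m (DerivedCategory.Q.map β) h
  refine (propM_iff_of_arrow_iso m ?_).1 h1
  exact Arrow.isoMk (G.mapDerivedCategoryFactors.app K) (G.mapDerivedCategoryFactors.app L)
    (G.mapDerivedCategoryFactors.hom.naturality β).symm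

end abstract

section ringdev

variable {R : Type u} [CommRing R]

open DerivedCategory in
/-- a bounded object of `D(R)` whose cohomology modules have finite tor dimension has finite tor
amplitude -/
theorem exists_hasTorAmp_of_finiteTorDim_homology (K : Dual.D R) (c d : ℤ)
    (hK : ∀ i : ℤ, (i < c ∨ d < i) → IsZero ((homologyFunctor (ModuleCat.{u} R) i).obj K))
    (hH : ∀ j : ℤ, c ≤ j → j ≤ d →
      DRing.HasFiniteTorDim R ((homologyFunctor (ModuleCat.{u} R) j).obj K)) :
    ∃ a : ℤ, DRing.HasTorAmplitudeIn R a d K := by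
  let P : ObjectProperty (DerivedCategory (ModuleCat.{u} R)) := fun K =>
    ∃ a : ℤ, DRing.HasTorAmplitudeIn R a d K
  have hPiso : P.IsClosedUnderIsomorphisms := ⟨fun e ⟨a, h⟩ => ⟨a, hasTorAmp_of_iso e h⟩⟩
  refine Groth.Agent.Lib.Helper1.Devissage.induction_homology' P
    (fun X hX => ⟨d, hasTorAmp_of_isZero _ hX _ _⟩)
    (fun T hT ⟨a₁, h₁⟩ ⟨a₃, h₃⟩ => ⟨min a₁ a₃, (hasTorAmp_two_out_of_three _ _ T hT).2.1
      (hasTorAmp_mono (min_le_left _ _) le_rfl h₁) (hasTorAmp_mono (min_le_right _ _) le_rfl h₃)⟩)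
    K c d hK (fun j hj1 hj2 => ?_)
  obtain ⟨n, hn⟩ := hH j hj1 hj2
  have h1 := (Groth.Agent.Lib.Helper1.TorDim.hasTorDimLE_iff_hasTorAmp _ n).1 hn
  refine ⟨j - n, hasTorAmp_mono le_rfl hj2 (hasTorAmp_single _ (j - n) j j ?_)⟩
  exact hasTorAmp_mono (by omega) (by omega) h1

end ringdev

variable {X : Scheme.{u}}

/-- flatness at `x` of the cokernel of `P^{a-1} ⟶ P^a` -/
theorem isFlatAt_opcycles (P F : CochainComplex X.Modules ℤ) (hP : DCoh.IsStrictlyPerfect P)
    (β : P ⟶ F) (a b : ℤ) (hβ : PropM (a - 2) (DerivedCategory.Q.map β)) (x : X)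
    (hFx : DRing.HasTorAmplitudeIn (StalkTensor.Ox x) a b (DRing.toD ((stalkC x).obj F))) :
    FlatMod.IsFlatAt (P.opcycles a) x := by
  obtain ⟨⟨aP, bP, hPv⟩, hPfl⟩ := id hP
  have hex : (ShortComplex.mk (P.d (a - 1) a) (P.pOpcycles a) (P.d_pOpcycles (a - 1) a)).Exact :=
    ShortComplex.exact_of_g_is_cokernel _ (P.opcyclesIsCokernel (a - 1) a (by simp))
  have hex' := hex.map (stalkFun x)
  rw [ShortComplex.ShortExact.moduleCat_exact_iff_function_exact] at hex'
  haveI : Epi ((stalkFun x).map (P.pOpcycles a)) := inferInstance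
  have hsurj : Function.Surjective ((stalkFun x).map (P.pOpcycles a)).hom :=
    (ModuleCat.epi_iff_surjective _).1 inferInstance
  show Module.Flat (Sky.Ox x) ((stalkFun x).obj (P.opcycles a))
  refine flat_coker_of_propM ((stalkC x).map β) (fun i => ?_) bP (fun q hq => ?_) a b
    (propM_Q_map_mapHC (stalkFun x) β _ hβ) hFx
    (p := ((stalkFun x).map (P.pOpcycles a)).hom) hsurj hex'
  · exact isFlat_of_isFinLocFree' _ (hPfl i) x
  · exact (stalkFun x).map_isZero (hPv q (Or.inr hq))

/-- a strictly perfect complex whose opcycles in degree `a` are finite locally free has strictly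
perfect canonical truncation -/
lemma isStrictlyPerfect_truncGE_of_opcycles (P : CochainComplex X.Modules ℤ)
    (hP : DCoh.IsStrictlyPerfect P) (a : ℤ) (h : FlatMod.IsFinLocFree (P.opcycles a)) :
    DCoh.IsStrictlyPerfect (P.truncGE a) := by
  obtain ⟨⟨aP, bP, hPv⟩, hPfl⟩ := id hP
  have hτz : ∀ i : ℤ, i < a → IsZero ((P.truncGE a).X i) := fun i hi =>
    CochainComplex.isZero_of_isStrictlyGE _ a i hi
  have hτfl : ∀ i : ℤ, a < i → FlatMod.IsFinLocFree ((P.truncGE a).X i) := fun i hi =>
    Groth.Agent.Lib.Helper1.FLF.isFinLocFree_of_iso (P.truncGEXIso a i hi).symm (hPfl i)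
  refine ⟨⟨a, bP, fun i hi => ?_⟩, fun i => ?_⟩
  · rcases hi with hi | hi
    · exact hτz i hi
    · by_cases h : a < i
      · exact IsZero.of_iso (hPv i (Or.inr hi)) (P.truncGEXIso a i h)
      · by_cases h' : i = a
        · subst h'
          exact IsZero.of_iso (IsZero.of_epi (P.pOpcycles i) (hPv i (Or.inr hi)))
            (P.truncGEXIsoOpcycles i)
        · exact hτz i (by omega)
  · rcases lt_trichotomy i a with h' | h' | h'
    · exact isFinLocFree_of_isZero _ (hτz i h')
    · subst h'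
      exact Groth.Agent.Lib.Helper1.FLF.isFinLocFree_of_iso (P.truncGEXIsoOpcycles i).symm h
    · exact hτfl i h'

/-- the main local statement, for a global chain map -/
theorem exists_opens_truncGE (P F : CochainComplex X.Modules ℤ) (hP : DCoh.IsStrictlyPerfect P)
    (β : P ⟶ F) (a b : ℤ) (hβ : PropM (a - 2) (DerivedCategory.Q.map β))
    (hlow : ∀ i : ℤ, i < a → IsZero (F.homology i)) (x : X)
    (hFx : DRing.HasTorAmplitudeIn (StalkTensor.Ox x) a b (DRing.toD ((stalkC x).obj F))) :
    ∃ W : X.Opens, x ∈ W ∧ DCoh.IsStrictlyPerfect (((resC W.ι).obj P).truncGE a) ∧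
      Nonempty (DerivedCategory.Q.obj (((resC W.ι).obj P).truncGE a) ≅
        DerivedCategory.Q.obj ((resC W.ι).obj F)) := by
  obtain ⟨⟨aP, bP, hPv⟩, hPfl⟩ := id hP
  have hfl := isFlatAt_opcycles P F hP β a b hβ x hFx
  have hex : (ShortComplex.mk (P.d (a - 1) a) (P.pOpcycles a) (P.d_pOpcycles (a - 1) a)).Exact :=
    ShortComplex.exact_of_g_is_cokernel _ (P.opcyclesIsCokernel (a - 1) a (by simp))
  obtain ⟨W, hxW, hW⟩ := flfAt_of_cokernel_of_isFlatAt (P.d (a - 1) a) (P.pOpcycles a)
    (P.d_pOpcycles (a - 1) a) hex x (flfAt_of_isFinLocFree _ (hPfl _) x)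
    (flfAt_of_isFinLocFree _ (hPfl _) x) hfl
  refine ⟨W, hxW, ?_, ?_⟩
  · refine isStrictlyPerfect_truncGE_of_opcycles _ (isStrictlyPerfect_resC _ _ hP) a ?_
    haveI : (Scheme.Modules.restrictFunctor W.ι).PreservesHomology := inferInstance
    exact Groth.Agent.Lib.Helper1.FLF.isFinLocFree_of_iso
      ((P.sc a).mapOpcyclesIso (Scheme.Modules.restrictFunctor W.ι)).symm hW
  · let PW := (resC W.ι).obj P
    let FW := (resC W.ι).obj F
    let βW : PW ⟶ FW := (resC W.ι).map β
    have hβW : PropM (a - 2) (DerivedCategory.Q.map βW) :=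
      propM_Q_map_mapHC (Scheme.Modules.restrictFunctor W.ι) β _ hβ
    have hqi : ∀ i : ℤ, a ≤ i → QuasiIsoAt βW i := fun i hi =>
      quasiIsoAt_of_isIso_homology_Q_map βW i (hβW.1 i (by omega))
    haveI : QuasiIso (CochainComplex.truncGEMap βW a) :=
      (CochainComplex.quasiIso_truncGEMap_iff βW a).2 hqi
    haveI : (Scheme.Modules.restrictFunctor W.ι).PreservesHomology := inferInstance
    have hFWge : FW.IsGE a := by
      rw [CochainComplex.isGE_iff]
      intro i hi
      rw [exactAt_iff_isZero_homology]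
      exact IsZero.of_iso ((Scheme.Modules.restrictFunctor W.ι).map_isZero (hlow i hi))
        ((F.sc i).mapHomologyIso (Scheme.Modules.restrictFunctor W.ι))
    haveI : QuasiIso (FW.πTruncGE a) := (CochainComplex.quasiIso_πTruncGE_iff FW a).2 hFWge
    haveI : IsIso (DerivedCategory.Q.map (CochainComplex.truncGEMap βW a)) := by
      rw [DerivedCategory.isIso_Q_map_iff_quasiIso]; infer_instance
    haveI : IsIso (DerivedCategory.Q.map (FW.πTruncGE a)) := by
      rw [DerivedCategory.isIso_Q_map_iff_quasiIso]; infer_instance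
    exact ⟨asIso (DerivedCategory.Q.map (CochainComplex.truncGEMap βW a)) ≪≫
      (asIso (DerivedCategory.Q.map (FW.πTruncGE a))).symm⟩

end Groth.Agent.Lib.Helper1.TQ
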