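import Mathlib
import Groth.Agent.Lib.Helper1TQ12
set_option backward.isDefEq.respectTransparency.types false

/-!
# Pseudo-coherent objects with stalks of finite tor dimension are perfect (helper1)
-/

set_option autoImplicit false
set_option linter.style.haveILetI false
set_option maxHeartbeats 400000
universe u
open CategoryTheory CategoryTheory.Limits AlgebraicGeometry HomologicalComplex

attribute [local instance] HasDerivedCategory.standard

namespace Groth.Agent.Lib.Helper1.TQ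

open Groth.Agent.Lib.Helper1.Sky Groth.Agent.Lib.Helper1.StalkTensor Groth.Agent.Lib.Helper1.KBC
  Groth.Agent.Lib.Helper1.Tor Groth.Agent.Lib.Helper1.CI
  Groth.Agent.Lib.Helper1.SPL

variable {X : Scheme.{u}}

/-- pointwise: an `(a - 2)`-pseudo-coherent object near `x`, without cohomology below `a`, whose
complex of stalks at `x` has tor amplitude in `[a, b]`, is strictly perfect near `x` -/
theorem hasPres_of_hasPresM_of_stalk (F₀ : CochainComplex X.Modules ℤ) (a b : ℤ) (x : X)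
    (hlow : ∀ i : ℤ, i < a → IsZero (F₀.homology i))
    (h : HasPresM (a - 2) (DerivedCategory.Q.obj F₀) x)
    (hx : DRing.HasTorAmplitudeIn (StalkTensor.Ox x) a b (DRing.toD ((stalkC x).obj F₀))) :
    HasPres (DerivedCategory.Q.obj F₀) x := by
  obtain ⟨V, hxV, P, α, hP, hα⟩ := h.exists_opens
  let F₁ : CochainComplex (V : Scheme.{u}).Modules ℤ := (resC V.ι).obj F₀
  let α₁ : DerivedCategory.Q.obj P ⟶ DerivedCategory.Q.obj F₁ := α ≫ (facD V.ι).hom.app F₀
  have hα₁ : PropM (a - 2) α₁ := propM_comp _ hα (propM_of_isIso _ _)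
  let y : (V : Scheme.{u}) := ⟨x, hxV⟩
  obtain ⟨V', hyV', β, hβ⟩ := exists_opens_chain_map hP α₁ y
  let y' : (V' : Scheme.{u}) := ⟨y, hyV'⟩
  have hQβ : PropM (a - 2) (DerivedCategory.Q.map β) := by
    have h1 : DerivedCategory.Q.map β = (facD V'.ι).inv.app P ≫ (resD V'.ι).map α₁ ≫
        (facD V'.ι).hom.app F₁ := by
      rw [hβ]
      simp only [Category.assoc, Iso.inv_hom_id_app, Iso.inv_hom_id_app_assoc]
      exact (Category.comp_id _).symm
    rw [h1]
    exact propM_comp _ (propM_of_isIso _ _)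
      (propM_comp _ (propM_mapDerivedCategory _ _ α₁ hα₁) (propM_of_isIso _ _))
  haveI : (Scheme.Modules.restrictFunctor V.ι).PreservesHomology := inferInstance
  haveI : (Scheme.Modules.restrictFunctor V'.ι).PreservesHomology := inferInstance
  have hlow' : ∀ i : ℤ, i < a → IsZero (((resC V'.ι).obj F₁).homology i) := fun i hi =>
    IsZero.of_iso ((Scheme.Modules.restrictFunctor V'.ι).map_isZero
      (IsZero.of_iso ((Scheme.Modules.restrictFunctor V.ι).map_isZero (hlow i hi))
        ((F₀.sc i).mapHomologyIso (Scheme.Modules.restrictFunctor V.ι))))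
      ((F₁.sc i).mapHomologyIso (Scheme.Modules.restrictFunctor V'.ι))
  have hx₁ : DRing.HasTorAmplitudeIn (StalkTensor.Ox y) a b
      (DRing.toD ((stalkC y).obj F₁)) := (hasTorAmp_stalkC_resC_iff V.ι y F₀ a b).2 hx
  have hx' : DRing.HasTorAmplitudeIn (StalkTensor.Ox y') a b
      (DRing.toD ((stalkC y').obj ((resC V'.ι).obj F₁))) :=
    (hasTorAmp_stalkC_resC_iff V'.ι y' F₁ a b).2 hx₁
  obtain ⟨W, hzW, hE, ⟨e⟩⟩ := exists_opens_truncGE ((resC V'.ι).obj P) ((resC V'.ι).obj F₁)
    (isStrictlyPerfect_resC _ _ hP) β a b hQβ hlow' y' hx'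
  have e₁ : (resD (V'.ι ≫ V.ι)).obj (DerivedCategory.Q.obj F₀) ≅
      DerivedCategory.Q.obj ((resC V'.ι).obj F₁) :=
    (resDComp V'.ι V.ι).app _ ≪≫ (resD V'.ι).mapIso ((facD V.ι).app F₀) ≪≫ (facD V'.ι).app F₁
  have e₂ : (resD (W.ι ≫ V'.ι ≫ V.ι)).obj (DerivedCategory.Q.obj F₀) ≅
      DerivedCategory.Q.obj ((((resC W.ι).obj ((resC V'.ι).obj P))).truncGE a) :=
    (resDComp W.ι (V'.ι ≫ V.ι)).app _ ≪≫ (resD W.ι).mapIso e₁ ≪≫ (facD W.ι).app _ ≪≫ e.symm
  have hmem : x ∈ (W.ι ≫ V'.ι ≫ V.ι).opensRange := ⟨⟨y', hzW⟩, rfl⟩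
  exact ⟨(W : Scheme.{u}), W.ι ≫ V'.ι ≫ V.ι, inferInstance, hmem, _, hE, ⟨e₂⟩⟩

/-- S6194, main direction, pointwise -/
theorem hasPres_of_pseudoCoherent_of_finiteTorDim (F : CochainComplex X.Modules ℤ) (c d : ℤ)
    [(DCoh.toD X F).IsGE c] [(DCoh.toD X F).IsLE d]
    (hpc : ∀ m : ℤ, DCoh.IsPseudoCoherentD m (DCoh.toD X F)) (x : X)
    (hX : ∀ (M : Type u) [AddCommGroup M] [Module (X.presheaf.stalk x) M],
      DRing.HasFiniteTorDim (X.presheaf.stalk x) M) :
    HasPres (DCoh.toD X F) x := by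
  have hF : ∀ i : ℤ, (i < c ∨ d < i) → IsZero (F.homology i) := by
    intro i hi
    refine IsZero.of_iso ?_ ((DerivedCategory.homologyFunctorFactors X.Modules i).app F).symm
    rcases hi with hi | hi
    · exact (DerivedCategory.isGE_iff (DCoh.toD X F) c).1 inferInstance i hi
    · exact (DerivedCategory.isLE_iff (DCoh.toD X F) d).1 inferInstance i hi
  -- the complex of stalks
  let K : DRing.Cx (StalkTensor.Ox x) := (stalkC x).obj F
  haveI : (stalkFun x).PreservesHomology := inferInstance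
  have hK : ∀ i : ℤ, (i < c ∨ d < i) →
      IsZero ((DerivedCategory.homologyFunctor (ModuleCat.{u} (StalkTensor.Ox x)) i).obj
        (DerivedCategory.Q.obj K)) := by
    intro i hi
    refine IsZero.of_iso ?_ ((DerivedCategory.homologyFunctorFactors _ i).app K)
    exact IsZero.of_iso ((stalkFun x).map_isZero (hF i hi)) ((F.sc i).mapHomologyIso (stalkFun x))
  obtain ⟨a', ha'⟩ := exists_hasTorAmp_of_finiteTorDim_homology (DerivedCategory.Q.obj K) c d hK
    (fun j _ _ => hX _)
  have hx : DRing.HasTorAmplitudeIn (StalkTensor.Ox x) (min a' c) d (DRing.toD K) :=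
    hasTorAmp_mono (min_le_left _ _) le_rfl ha'
  refine hasPres_of_hasPresM_of_stalk F (min a' c) d x
    (fun i hi => hF i (Or.inl (lt_of_lt_of_le hi (min_le_right _ _)))) ?_ hx
  exact (isPseudoCoherentD_iff_hasPresM _ _).1 (hpc _) x

/-- S6194 -/
theorem isPerfect_iff_pseudoCoherent_of_stalks_finiteTorDim
    (hX : ∀ (x : X) (M : Type u) [AddCommGroup M] [Module (X.presheaf.stalk x) M],
      DRing.HasFiniteTorDim (X.presheaf.stalk x) M)
    (F : CochainComplex X.Modules ℤ) (c d : ℤ) [(DCoh.toD X F).IsGE c] [(DCoh.toD X F).IsLE d] :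
    (∀ m : ℤ, DCoh.IsPseudoCoherentD m (DCoh.toD X F)) ↔ DCoh.IsPerfect (DCoh.toD X F) := by
  constructor
  · intro hpc
    rw [isPerfect_iff_hasPres]
    intro x
    exact hasPres_of_pseudoCoherent_of_finiteTorDim F c d hpc x (hX x)
  · intro h
    exact ((isPerfect_iff_pseudoCoherent_locFiniteTorDim _).1 h).1

end Groth.Agent.Lib.Helper1.TQ
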