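import Mathlib
import Groth.Agent.Lib.Helper1FibPerfA
import Groth.Agent.Lib.Helper1TIBCB
import Groth.Agent.Lib.Helper1TQ13
import Groth.Agent.Lib.Helper1LF2
import Groth.Agent.Lib.Helper1ChartInd5
set_option backward.isDefEq.respectTransparency.types false

/-!
# Perfection detected on the fibres of a flat morphism (helper1)
-/

set_option autoImplicit false
set_option linter.style.haveILetI false
set_option linter.unusedSectionVars false
set_option maxHeartbeats 800000
universe u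
open CategoryTheory CategoryTheory.Limits AlgebraicGeometry HomologicalComplex

attribute [local instance] HasDerivedCategory.standard

namespace Groth.Agent.Lib.Helper1.FibPerf

open Groth.Agent.Lib.Helper1.Sky Groth.Agent.Lib.Helper1.StalkTensor Groth.Agent.Lib.Helper1.KBC
  Groth.Agent.Lib.Helper1.Tor Groth.Agent.Lib.Helper1.Restrict Groth.Agent.Lib.Helper1.RelPC
  Groth.Agent.Lib.Helper1.TorDim Groth.Agent.Lib.Helper1.BKF Groth.Agent.Lib.Helper1.TorT
  Groth.Agent.Lib.Helper1.LDer Groth.Agent.Lib.Helper1.TQ Groth.Agent.Lib.Helper1.SPL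
  Groth.Agent.Lib.Helper1.Extend

variable {X : Scheme.{u}}

section StalkPC

/-- the complex of stalks of a strictly perfect complex is a bounded complex of finite free
modules -/
lemma stalkC_strictlyPerfect {U : Scheme.{u}} (E : CochainComplex U.Modules ℤ)
    (hE : DCoh.IsStrictlyPerfect E) (y : U) :
    ∃ a b : ℤ, DRing.VanishesOutside ((stalkC y).obj E) a b ∧
      DRing.TermwiseFiniteFree ((stalkC y).obj E) := by
  obtain ⟨⟨a, b, hv⟩, hfl⟩ := hE
  refine ⟨a, b, fun i hi => (stalkFun y).map_isZero (hv i hi), fun i => ?_⟩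
  have h := Groth.Agent.Lib.Helper1.LF.free_finite_stalk_of_isFinLocFree y (E.X i) (hfl i)
  exact ⟨h.2, h.1⟩

/-- pseudo-coherence of the complex of stalks is insensitive to restriction to an open
subscheme -/
theorem isPC_stalkC_of_resC {U : Scheme.{u}} (j : U ⟶ X) [IsOpenImmersion j] (y : U)
    (C : CochainComplex X.Modules ℤ) (m : ℤ)
    (h : DRing.IsPseudoCoherent (StalkTensor.Ox y) m
      (DRing.toD ((stalkC y).obj ((resC j).obj C)))) :
    DRing.IsPseudoCoherent (StalkTensor.Ox (j.base y)) m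
      (DRing.toD ((stalkC (j.base y)).obj C)) := by
  letI : Algebra (StalkTensor.Ox (j.base y)) (StalkTensor.Ox y) := (j.stalkMap y).hom.toAlgebra
  have hb : Function.Bijective (j.stalkMap y).hom :=
    ConcreteCategory.bijective_of_isIso (j.stalkMap y)
  haveI : Module.FaithfullyFlat (StalkTensor.Ox (j.base y)) (StalkTensor.Ox y) := by
    let e : StalkTensor.Ox (j.base y) ≃ₗ[StalkTensor.Ox (j.base y)] StalkTensor.Ox y :=
      { (RingEquiv.ofBijective (j.stalkMap y).hom hb).toAddEquiv with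
        map_smul' := fun r x => by
          change (j.stalkMap y).hom (r * x) = (j.stalkMap y).hom r * (j.stalkMap y).hom x
          exact map_mul _ r x }
    exact Module.FaithfullyFlat.of_linearEquiv _ _ e.symm
  have e : DRing.toD ((stalkC y).obj ((resC j).obj C)) ≅
      (extD (StalkTensor.Ox (j.base y)) (StalkTensor.Ox y)).obj
        (DRing.toD ((stalkC (j.base y)).obj C)) :=
    DerivedCategory.Q.mapIso (stalkCResIso j y C) ≪≫
      (mapQIso (Extend.ext _ _) ((stalkC (j.base y)).obj C)).symm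
  refine isPC_of_extD (A := StalkTensor.Ox (j.base y)) (B := StalkTensor.Ox y) _ m ?_
  obtain ⟨E, a, b, α, hE, hff, h1, h2⟩ := h
  have hα : Groth.Agent.Lib.Helper1.PC.Conn m (α ≫ e.hom) :=
    Groth.Agent.Lib.Helper1.PC.Conn.comp ⟨h1, h2⟩ ⟨fun _ _ => inferInstance, inferInstance⟩
  exact ⟨E, a, b, α ≫ e.hom, hE, hff, hα.1, hα.2⟩

/-- the complex of stalks of an `m`-pseudo-coherent complex is `m`-pseudo-coherent over the local
ring -/
theorem isPC_stalkC (F : CochainComplex X.Modules ℤ) (m : ℤ)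
    (h : DCoh.IsPseudoCoherentD m (DCoh.toD X F)) (x : X) :
    DRing.IsPseudoCoherent (StalkTensor.Ox x) m (DRing.toD ((stalkC x).obj F)) := by
  obtain ⟨V, hxV, E, α, hE, hα⟩ := ((isPseudoCoherentD_iff_hasPresM m _).1 h x).exists_opens
  let y : (V : Scheme.{u}) := ⟨x, hxV⟩
  let α₁ : DerivedCategory.Q.obj E ⟶ DerivedCategory.Q.obj ((resC V.ι).obj F) :=
    α ≫ (facD V.ι).hom.app F
  have hα₁ : PropM m α₁ := propM_comp _ hα (propM_of_isIso _ _)
  have hS := propM_mapDerivedCategory (stalkFun y) m α₁ hα₁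
  let β : DerivedCategory.Q.obj ((stalkC y).obj E) ⟶
      DerivedCategory.Q.obj ((stalkC y).obj ((resC V.ι).obj F)) :=
    ((stalkFun y).mapDerivedCategoryFactors.app E).inv ≫
      (stalkFun y).mapDerivedCategory.map α₁ ≫
      ((stalkFun y).mapDerivedCategoryFactors.app ((resC V.ι).obj F)).hom
  have hβ : PropM m β :=
    propM_comp _ (propM_of_isIso _ _) (propM_comp _ hS (propM_of_isIso _ _))
  obtain ⟨a, b, hv, hff⟩ := stalkC_strictlyPerfect E hE y
  have hy : DRing.IsPseudoCoherent (StalkTensor.Ox y) m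
      (DRing.toD ((stalkC y).obj ((resC V.ι).obj F))) :=
    ⟨(stalkC y).obj E, a, b, β, hv, hff, hβ.1, hβ.2⟩
  exact isPC_stalkC_of_resC V.ι y F m hy

end StalkPC


section StalkPerf

/-- the complex of stalks of a perfect complex has finite tor amplitude -/
theorem exists_hasTorAmp_stalkC_of_isPerfect (F : CochainComplex X.Modules ℤ)
    (h : DCoh.IsPerfect (DCoh.toD X F)) (x : X) :
    ∃ a b : ℤ, DRing.HasTorAmplitudeIn (StalkTensor.Ox x) a b
      (DRing.toD ((stalkC x).obj F)) := by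
  obtain ⟨V, hxV, E, hE, ⟨e⟩⟩ := ((isPerfect_iff_hasPres _).1 h x).exists_opens
  let y : (V : Scheme.{u}) := ⟨x, hxV⟩
  let e₁ : DerivedCategory.Q.obj ((resC V.ι).obj F) ≅ DerivedCategory.Q.obj E :=
    ((facD V.ι).app F).symm ≪≫ e
  let e₂ : DerivedCategory.Q.obj ((stalkC y).obj ((resC V.ι).obj F)) ≅
      DerivedCategory.Q.obj ((stalkC y).obj E) :=
    ((stalkFun y).mapDerivedCategoryFactors.app ((resC V.ι).obj F)).symm ≪≫
      (stalkFun y).mapDerivedCategory.mapIso e₁ ≪≫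
      (stalkFun y).mapDerivedCategoryFactors.app E
  obtain ⟨a, b, hv, hff⟩ := stalkC_strictlyPerfect E hE y
  refine ⟨a, b, ?_⟩
  have hy : DRing.HasTorAmplitudeIn (StalkTensor.Ox y) a b
      (DRing.toD ((stalkC y).obj ((resC V.ι).obj F))) :=
    ⟨(stalkC y).obj E, hv, fun i => by
      have := (hff i).2
      infer_instance, ⟨e₂.symm⟩⟩
  exact (hasTorAmp_stalkC_resC_iff V.ι y F a b).1 hy

/-- if `Lg^* K` is perfect, for a K-flat complex `K`, then the termwise base change of the complex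
of stalks of `K` has finite tor amplitude -/
theorem exists_hasTorAmp_bc_stalkC_of_isPerfect_lpull {X' : Scheme.{u}} (g : X' ⟶ X)
    [DCoh.HasLpull g] (K : CochainComplex X.Modules ℤ) (hK : DCoh.IsKFlat K)
    (h : DCoh.IsPerfect ((DCoh.Lpull g).obj (DCoh.toD X K))) (x' : X') :
    ∃ a b : ℤ, DRing.HasTorAmplitudeIn (StalkTensor.Ox x') a b
      (DRing.toD ((bcCx (g.stalkMap x').hom).obj ((stalkC (g.base x')).obj K))) := by
  have h1 : DCoh.IsPerfect (DCoh.toD X' ((pullC g).obj K)) :=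
    (isPerfect_iff_hasPres _).2 (fun z => ((isPerfect_iff_hasPres _).1 h z).of_iso (lpullIsoK g K hK))
  obtain ⟨a, b, hab⟩ := exists_hasTorAmp_stalkC_of_isPerfect _ h1 x'
  exact ⟨a, b, hasTorAmp_of_iso (DerivedCategory.Q.mapIso (stalkPullCIso g x' K)) hab⟩

end StalkPerf


section Main

open Groth.Agent.Lib.Helper1.ChartInd in
/-- **Perfection by fibres**: a pseudo-coherent object, locally of finite tor dimension relative
to `f` (only the local boundedness is used), whose derived pullbacks to the fibres of `f` are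
perfect, is perfect -/
theorem isPerfect_of_fibres {S : Scheme.{u}} (f : X ⟶ S)
    [∀ s : S, DCoh.HasLpull (f.fiberι s)] (E : DCoh.D X)
    (hpc : ∀ m : ℤ, DCoh.IsPseudoCoherentD m E) (hrel : DCoh.LocHasFiniteRelTorDim f E)
    (hfib : ∀ s : S, DCoh.IsPerfect ((DCoh.Lpull (f.fiberι s)).obj E)) : DCoh.IsPerfect E := by
  obtain ⟨K, q, hK, -, hq, -⟩ : ∃ (K : CochainComplex X.Modules ℤ)
      (q : K ⟶ DerivedCategory.Q.objPreimage E), DCoh.IsKFlat K ∧
      (∀ n : ℤ, ModSite.IsFlat (O := X.sheaf) (K.X n)) ∧ QuasiIso q ∧ ∀ n : ℤ, Epi (q.f n) :=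
    exists_kflat_flat_resolution X.sheaf _
  have hqi : IsIso (DerivedCategory.Q.map q) := by
    rw [DerivedCategory.isIso_Q_map_iff_quasiIso]; exact hq
  have eK : DCoh.toD X K ≅ E :=
    asIso (DerivedCategory.Q.map q) ≪≫ DerivedCategory.Q.objObjPreimageIso E
  rw [isPerfect_iff_hasPres]
  intro x
  refine HasPres.of_iso eK ?_
  -- the point of the fibre
  obtain ⟨z, hz⟩ : ∃ z : ↥(f.fiber (f.base x)), (f.fiberι (f.base x)).base z = x := by
    have hx : x ∈ Set.range (f.fiberι (f.base x)) := by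
      rw [Scheme.Hom.range_fiberι]; rfl
    exact hx
  have hKpc : ∀ m : ℤ, DCoh.IsPseudoCoherentD m (DCoh.toD X K) := fun m =>
    isPseudoCoherentD_of_iso eK.symm (hpc m)
  have hKfib : DCoh.IsPerfect ((DCoh.Lpull (f.fiberι (f.base x))).obj (DCoh.toD X K)) :=
    (isPerfect_iff_hasPres _).2 (fun w => ((isPerfect_iff_hasPres _).1 (hfib (f.base x)) w).of_iso
      ((DCoh.Lpull (f.fiberι (f.base x))).mapIso eK.symm))
  obtain ⟨a₁, b₁, h1⟩ :=
    exists_hasTorAmp_bc_stalkC_of_isPerfect_lpull (f.fiberι (f.base x)) K hK hKfib z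
  have hKz : Groth.Agent.Lib.Helper1.KF.KFlat
      ((stalkC ((f.fiberι (f.base x)).base z)).obj K) :=
    fun M hM => rKFlat_stalk_of_isKFlat _ K hK M hM
  have h2 : DRing.HasTorAmplitudeIn (StalkTensor.Ox ((f.fiberι (f.base x)).base z)) a₁ b₁
      (DRing.toD ((stalkC ((f.fiberι (f.base x)).base z)).obj K)) :=
    hasTorAmp_of_hasTorAmp_bc_local ((f.fiberι (f.base x)).stalkMap z).hom _ hKz
      (fun m => isPC_stalkC K m (hKpc m) _) a₁ b₁ h1
  have h3 : DRing.HasTorAmplitudeIn (StalkTensor.Ox x) a₁ b₁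
      (DRing.toD ((stalkC x).obj K)) := hz ▸ h2
  -- local boundedness
  obtain ⟨V, a₀, b₀, hxV, hV⟩ := hrel x
  obtain ⟨P₀, hP₀v, -, ⟨e₀⟩⟩ := hV K ⟨eK⟩
  let y : (V : Scheme.{u}) := ⟨x, hxV⟩
  let F₁ : CochainComplex (V : Scheme.{u}).Modules ℤ := (resC V.ι).obj K
  have hlow : ∀ i : ℤ, i < min a₀ a₁ → IsZero (F₁.homology i) := by
    intro i hi
    have hP : IsZero (P₀.homology i) := by
      rw [← HomologicalComplex.exactAt_iff_isZero_homology]
      exact ShortComplex.exact_of_isZero_X₂ _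
        (hP₀v i (Or.inl (lt_of_lt_of_le hi (min_le_left _ _))))
    refine IsZero.of_iso hP ?_
    exact ((DerivedCategory.homologyFunctorFactors _ i).app F₁).symm ≪≫
      (DerivedCategory.homologyFunctor _ i).mapIso e₀.symm ≪≫
      (DerivedCategory.homologyFunctorFactors _ i).app P₀
  have hpcV : HasPresM (min a₀ a₁ - 2) (DerivedCategory.Q.obj F₁) y :=
    (isPseudoCoherentD_iff_hasPresM _ _).1
      (isPseudoCoherentD_of_iso ((facD V.ι).app K)
        (isPseudoCoherentD_resD _ V.ι _ (hKpc _))) y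
  have hxy : DRing.HasTorAmplitudeIn (StalkTensor.Ox y) (min a₀ a₁) b₁
      (DRing.toD ((stalkC y).obj F₁)) :=
    (hasTorAmp_stalkC_resC_iff V.ι y K _ b₁).2 (hasTorAmp_mono (min_le_right _ _) le_rfl h3)
  obtain ⟨U, j, hj, hyU, E', hE', ⟨a'⟩⟩ :=
    hasPres_of_hasPresM_of_stalk F₁ (min a₀ a₁) b₁ y hlow hpcV hxy
  haveI := hj
  obtain ⟨w, hw⟩ := hyU
  refine ⟨U, j ≫ V.ι, inferInstance, ⟨w, ?_⟩, E', hE',
    ⟨(resDComp j V.ι).app _ ≪≫ (resD j).mapIso ((facD V.ι).app K) ≪≫ a'⟩⟩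
  change V.ι.base (j.base w) = x
  rw [hw]
  rfl

end Main


section Forward

/-- flat modules are flat over the base of a flat morphism -/
lemma isFlatOver_of_isFlat₁ {Y S : Scheme.{u}} (g : Y ⟶ S) [Flat g] (M : Y.Modules)
    (h : FlatMod.IsFlat M) : FlatMod.IsFlatOver g M := by
  intro y
  haveI h1 : Module.Flat (Y.presheaf.stalk y) ((stalkFun y).obj M) := h y
  exact flat_restrictScalars_of_flat (g.stalkMap y).hom (Flat.stalkMap g y) ((stalkFun y).obj M)

/-- perfect objects are locally of finite tor dimension relative to a flat morphism -/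
theorem locHasFiniteRelTorDim_of_isPerfect {S : Scheme.{u}} (f : X ⟶ S) [Flat f] (E : DCoh.D X)
    (h : DCoh.IsPerfect E) : DCoh.LocHasFiniteRelTorDim f E := by
  intro x
  obtain ⟨V, hxV, hV⟩ := h x
  let F₀ : CochainComplex X.Modules ℤ := DerivedCategory.Q.objPreimage E
  let e₀ : DCoh.toD X F₀ ≅ E := DerivedCategory.Q.objObjPreimageIso E
  obtain ⟨P, ⟨⟨a, b, hv⟩, hfl⟩, ⟨eP⟩⟩ := hV F₀ ⟨e₀⟩
  refine ⟨V, a, b, hxV, fun F' ⟨eF'⟩ => ⟨P, hv, fun i => ?_, ⟨?_⟩⟩⟩
  · exact isFlatOver_of_isFlat₁ (V.ι ≫ f) (P.X i) (isFlat_of_isFinLocFree' _ (hfl i))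
  · exact eP.symm ≪≫ ((facD V.ι).app F₀).symm ≪≫ (resD V.ι).mapIso (e₀ ≪≫ eF'.symm) ≪≫
      (facD V.ι).app F'

end Forward

end Groth.Agent.Lib.Helper1.FibPerf
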