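import Mathlib
import Groth.Agent.S14388
import Groth.Agent.S0973
import Groth.Agent.Lib.Helper1PerfHomA
import Groth.Agent.Lib.Helper1PCTower

set_option backward.isDefEq.respectTransparency.types false
set_option autoImplicit false
set_option linter.style.haveILetI false
set_option linter.unusedSectionVars false
set_option maxHeartbeats 400000
universe u
open CategoryTheory CategoryTheory.Limits
attribute [local instance] HasDerivedCategory.standard

namespace Groth.Agent.Lib.Helper1.TowerNC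

open DerivedCategory Pretriangulated
open Groth.Agent.S14388 ZeroObject
open Groth.Agent.Lib.Helper1.PCTower (inr_map shortExact_map isEventuallyConstantFrom_ofSequence)
open Groth.Agent.Lib.Helper1.PC (epi_map_iff_of_natIso)

variable {R : Type u} [Ring R]

/-- finite free modules over a (not necessarily commutative) ring -/
def FF (X : ModuleCat.{u} R) : Prop := Module.Finite R X ∧ Module.Free R X

lemma FF_iso (X Y : ModuleCat.{u} R) (e : X ≅ Y) (h : FF X) : FF Y := by
  obtain ⟨h1, h2⟩ := h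
  exact ⟨Module.Finite.equiv e.toLinearEquiv, Module.Free.of_equiv e.toLinearEquiv⟩

lemma FF_sum (X Y : ModuleCat.{u} R) (hX : FF X) (hY : FF Y) : FF (X ⊞ Y) := by
  obtain ⟨h1, h2⟩ := hX
  obtain ⟨h3, h4⟩ := hY
  refine FF_iso _ _ (ModuleCat.biprodIsoProd X Y).symm ⟨?_, ?_⟩
  · exact inferInstanceAs (Module.Finite R (X × Y))
  · exact inferInstanceAs (Module.Free R (X × Y))

lemma FF_proj (X : ModuleCat.{u} R) (h : FF X) : Module.Projective R X := by
  obtain ⟨h1, h2⟩ := h
  exact Module.Projective.of_free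

lemma FF_of_subsingleton (X : ModuleCat.{u} R) [Subsingleton X] : FF X :=
  ⟨inferInstance, inferInstance⟩

lemma FF_single_X (F : ModuleCat.{u} R) (hF : FF F) (n i : ℤ) :
    FF (((HomologicalComplex.single (ModuleCat.{u} R) (ComplexShape.up ℤ) n).obj F).X i) := by
  by_cases hi : i = n
  · subst hi
    exact FF_iso _ _ (HomologicalComplex.singleObjXSelf (ComplexShape.up ℤ) i F).symm hF
  · have := ModuleCat.subsingleton_of_isZero
      (HomologicalComplex.isZero_single_obj_X (ComplexShape.up ℤ) n F i hi)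
    exact FF_of_subsingleton _

/-- `α` is `m`-connected: iso on `H^i` for `i > m`, epi on `H^m` -/
def Conn (m : ℤ) {X Y : DerivedCategory (ModuleCat.{u} R)} (α : X ⟶ Y) : Prop :=
  (∀ i : ℤ, m < i → IsIso ((homologyFunctor (ModuleCat.{u} R) i).map α)) ∧
    Epi ((homologyFunctor (ModuleCat.{u} R) m).map α)

lemma Conn.comp {m : ℤ} {X Y Z : DerivedCategory (ModuleCat.{u} R)} {α : X ⟶ Y} {β : Y ⟶ Z}
    (hα : Conn m α) (hβ : Conn m β) : Conn m (α ≫ β) := by
  refine ⟨fun i hi => ?_, ?_⟩
  · have := hα.1 i hi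
    have := hβ.1 i hi
    rw [Functor.map_comp]
    infer_instance
  · have := hα.2
    have := hβ.2
    rw [Functor.map_comp]
    infer_instance

lemma Conn.of_isIso (m : ℤ) {X Y : DerivedCategory (ModuleCat.{u} R)} (α : X ⟶ Y) [IsIso α] :
    Conn m α :=
  ⟨fun _ _ => inferInstance, inferInstance⟩

/-- connectivity of the first map of a distinguished triangle in terms of the cone -/
lemma isLE_of_conn (T : Triangle (DerivedCategory (ModuleCat.{u} R)))
    (hT : T ∈ distTriang _) (m : ℤ) (h : Conn m T.mor₁) : T.obj₃.IsLE (m - 1) := by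
  rw [DerivedCategory.isLE_iff]
  obtain ⟨h1, h2⟩ := h
  intro i hi
  have hepi : Epi ((homologyFunctor (ModuleCat.{u} R) i).map T.mor₁) := by
    rcases (show m ≤ i by lia).eq_or_lt with rfl | h
    · exact h2
    · have := h1 i h
      infer_instance
  have hmono : Mono ((homologyFunctor (ModuleCat.{u} R) (i + 1)).map T.mor₁) := by
    have := h1 (i + 1) (by lia)
    infer_instance
  have e1 := (HomologySequence.epi_homologyMap_mor₁_iff T hT i).1 hepi
  have e2 := (HomologySequence.mono_homologyMap_mor₁_iff T hT i (i + 1) rfl).1 hmono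
  have ex := HomologySequence.exact₃ T hT i (i + 1) rfl
  exact ex.isZero_of_both_zeros e1 e2

lemma exists_chain_map (P L : CochainComplex (ModuleCat.{u} R) ℤ) [P.IsKProjective]
    (φ : Q.obj P ⟶ Q.obj L) : ∃ f : P ⟶ L, Q.map f = φ := by
  obtain ⟨g, hg⟩ := (CochainComplex.IsKProjective.Qh_map_bijective P
    ((HomotopyCategory.quotient _ (ComplexShape.up ℤ)).obj L)).2 φ
  obtain ⟨f, rfl⟩ := (HomotopyCategory.quotient _ (ComplexShape.up ℤ)).map_surjective g
  exact ⟨f, hg⟩

lemma isKProjective_single (F : ModuleCat.{u} R) (hF : FF F) (s : ℤ) :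
    CochainComplex.IsKProjective
      ((HomologicalComplex.single (ModuleCat.{u} R) (ComplexShape.up ℤ) s).obj F) := by
  let S : CochainComplex (ModuleCat.{u} R) ℤ :=
    (HomologicalComplex.single (ModuleCat.{u} R) (ComplexShape.up ℤ) s).obj F
  have hS : S.IsStrictlyLE s := by
    rw [CochainComplex.isStrictlyLE_iff]
    intro i hi
    exact HomologicalComplex.isZero_single_obj_X _ _ _ _ (by lia)
  have : ∀ i : ℤ, Projective (S.X i) := fun i => by
    by_cases hi : i = s
    · subst hi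
      have := FF_proj _ hF
      have : Projective F := ModuleCat.projective_of_categoryTheory_projective _
      exact Projective.of_iso (HomologicalComplex.singleObjXSelf (ComplexShape.up ℤ) i F).symm
        inferInstance
    · exact (HomologicalComplex.isZero_single_obj_X (ComplexShape.up ℤ) s F i hi).projective
  exact CochainComplex.isKProjective_of_projective S s

lemma hom_single_eq_zero (F : ModuleCat.{u} R) (hF : FF F) (s : ℤ)
    (Y : DerivedCategory (ModuleCat.{u} R)) [Y.IsLE (s - 1)]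
    (φ : (singleFunctor (ModuleCat.{u} R) s).obj F ⟶ Y) : φ = 0 := by
  let S : CochainComplex (ModuleCat.{u} R) ℤ :=
    (HomologicalComplex.single (ModuleCat.{u} R) (ComplexShape.up ℤ) s).obj F
  have hS : S.IsStrictlyGE s := by
    rw [CochainComplex.isStrictlyGE_iff]
    intro i hi
    exact HomologicalComplex.isZero_single_obj_X _ _ _ _ (by lia)
  have : S.IsKProjective := isKProjective_single F hF s
  let e : (singleFunctor (ModuleCat.{u} R) s).obj F ≅ Q.obj S := (singleFunctorIsoCompQ _ s).app F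
  have h0 : e.inv ≫ φ = 0 := Groth.Agent.Lib.Helper1.PerfHom.hom_eq_zero_of_isLE S s Y _
  rw [← cancel_epi e.inv, h0, comp_zero]

lemma isZero_homology_single (M : ModuleCat.{u} R) (n i : ℤ) (hi : i ≠ n) :
    IsZero ((homologyFunctor (ModuleCat.{u} R) i).obj ((singleFunctor (ModuleCat.{u} R) n).obj M)) :=
  isZero_homology_of_amp _ n i hi

/-- for `X ∈ D^{≤ s}` with finite `H^s`, there is an `s`-connected map from a finite free module
placed in degree `s` -/
lemma exists_single_conn (X : DerivedCategory (ModuleCat.{u} R)) (s : ℤ) [X.IsLE s]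
    (h : Module.Finite R ((homologyFunctor (ModuleCat.{u} R) s).obj X)) :
    ∃ (F : ModuleCat.{u} R) (ψ : (singleFunctor (ModuleCat.{u} R) s).obj F ⟶ X), FF F ∧ Conn s ψ := by
  obtain ⟨k, π, hπ⟩ := Module.Finite.exists_fin' R ((homologyFunctor (ModuleCat.{u} R) s).obj X)
  have hF : FF (ModuleCat.of R (Fin k → R)) :=
    ⟨inferInstanceAs (Module.Finite R (Fin k → R)), inferInstanceAs (Module.Free R (Fin k → R))⟩
  have hT := tt.triangleLTGE_distinguished s X
  have hGE : ((tt.truncGE s).obj X).IsGE s := inferInstance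
  have hLE : ((tt.truncGE s).obj X).IsLE s := inferInstance
  obtain ⟨e⟩ := Groth.Agent.S0973.iso_single_of_amp ((tt.truncGE s).obj X) s
  have hiso := isIso_homology_truncGEπ s s le_rfl X
  let eH : (homologyFunctor (ModuleCat.{u} R) s).obj X ≅
      (homologyFunctor (ModuleCat.{u} R) s).obj ((tt.truncGE s).obj X) :=
    asIso ((homologyFunctor _ s).map ((tt.truncGEπ s).app X))
  let g : (singleFunctor (ModuleCat.{u} R) s).obj (ModuleCat.of R (Fin k → R)) ⟶
      (tt.truncGE s).obj X :=
    (singleFunctor (ModuleCat.{u} R) s).map (ModuleCat.ofHom π ≫ eH.hom) ≫ e.inv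
  have hLT : ((tt.truncLT s).obj X).IsLE (s - 1) := inferInstance
  have hsh1 : (((tt.truncLT s).obj X)⟦(1 : ℤ)⟧).IsLE (s - 1 - 1) :=
    tt.isLE_shift ((tt.truncLT s).obj X) (s - 1) 1 (s - 1 - 1) (by lia)
  have hsh : (((tt.truncLT s).obj X)⟦(1 : ℤ)⟧).IsLE (s - 1) :=
    tt.isLE_of_le _ (s - 1 - 1) (s - 1) (by lia)
  have hz : g ≫ ((tt.triangleLTGE s).obj X).mor₃ = 0 :=
    @hom_single_eq_zero _ _ _ hF s (((tt.truncLT s).obj X)⟦(1 : ℤ)⟧) hsh _
  obtain ⟨ψ, hψ'⟩ : ∃ ψ : (singleFunctor (ModuleCat.{u} R) s).obj (ModuleCat.of R (Fin k → R)) ⟶ X,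
      g = ψ ≫ (tt.truncGEπ s).app X := Triangle.coyoneda_exact₃ _ hT g hz
  refine ⟨_, ψ, hF, fun i hi => ?_, ?_⟩
  · refine isIso_of_isZero_isZero _ (isZero_homology_single _ s i (by lia)) ?_
    exact (DerivedCategory.isLE_iff X s).1 inferInstance i hi
  · have hg : Epi ((homologyFunctor (ModuleCat.{u} R) s).map g) := by
      have : Epi (ModuleCat.ofHom π ≫ eH.hom) := by
        have : Epi (ModuleCat.ofHom π) := (ModuleCat.epi_iff_surjective _).2 hπ
        infer_instance
      have h1 : Epi ((homologyFunctor (ModuleCat.{u} R) s).map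
          ((singleFunctor (ModuleCat.{u} R) s).map (ModuleCat.ofHom π ≫ eH.hom))) :=
        (epi_map_iff_of_natIso (singleFunctorCompHomologyFunctorIso (ModuleCat.{u} R) s)
          (ModuleCat.ofHom π ≫ eH.hom)).2 (by dsimp; infer_instance)
      rw [Functor.map_comp]
      infer_instance
    have hfac : (homologyFunctor (ModuleCat.{u} R) s).map ψ =
        (homologyFunctor (ModuleCat.{u} R) s).map g ≫ eH.inv := by
      rw [hψ', Functor.map_comp]
      show _ = (_ ≫ eH.hom) ≫ eH.inv
      rw [Category.assoc, Iso.hom_inv_id, Category.comp_id]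
    rw [hfac]
    infer_instance

/-- chain-level version -/
lemma exists_attach (C : CochainComplex (ModuleCat.{u} R) ℤ) (s : ℤ) [(Q.obj C).IsLE s]
    (h : Module.Finite R ((homologyFunctor (ModuleCat.{u} R) s).obj (Q.obj C))) :
    ∃ (F : ModuleCat.{u} R) (Ψ : (HomologicalComplex.single _ (ComplexShape.up ℤ) s).obj F ⟶ C),
      FF F ∧ Conn s (Q.map Ψ) := by
  obtain ⟨F, ψ, hF, hψ⟩ := exists_single_conn (Q.obj C) s h
  let S : CochainComplex (ModuleCat.{u} R) ℤ :=
    (HomologicalComplex.single (ModuleCat.{u} R) (ComplexShape.up ℤ) s).obj F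
  have : S.IsKProjective := isKProjective_single F hF s
  let e : (singleFunctor (ModuleCat.{u} R) s).obj F ≅ Q.obj S := (singleFunctorIsoCompQ _ s).app F
  obtain ⟨Ψ, hΨ⟩ := exists_chain_map S C (e.inv ≫ ψ)
  refine ⟨F, Ψ, hF, ?_⟩
  rw [hΨ]
  exact (Conn.of_isIso s e.inv).comp hψ

section Tower

open CochainComplex HomComplex

/-- `inr` is an isomorphism in the degrees where the source of the map vanishes one step up -/
lemma isIso_inr_f {K L : CochainComplex (ModuleCat.{u} R) ℤ} (φ : K ⟶ L) (k : ℤ)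
    (h : IsZero (K.X (k + 1))) : IsIso ((mappingCone.inr φ).f k) := by
  refine ⟨(mappingCone.snd φ).v k k (add_zero k), mappingCone.inr_f_snd_v φ k, ?_⟩
  have hid := mappingCone.id_X φ k (k + 1) rfl
  rw [h.eq_of_tgt ((mappingCone.fst φ).1.v k (k + 1) rfl) 0, zero_comp, zero_add] at hid
  exact hid

/-- the abstract property propagated along the tower -/
structure Good (P : DerivedCategory (ModuleCat.{u} R) → Prop) : Prop where
  iso : ∀ {X Y : DerivedCategory (ModuleCat.{u} R)}, (X ≅ Y) → P X → P Y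
  finite : ∀ (X : DerivedCategory (ModuleCat.{u} R)) (n : ℤ), P X → X.IsLE n →
    Module.Finite R ((homologyFunctor (ModuleCat.{u} R) n).obj X)
  cone : ∀ T ∈ distTriang (DerivedCategory (ModuleCat.{u} R)), P T.obj₁ → P T.obj₂ → P T.obj₃
  single : ∀ (F : ModuleCat.{u} R) (n : ℤ), FF F →
    P ((DerivedCategory.singleFunctor (ModuleCat.{u} R) n).obj F)

variable {P : DerivedCategory (ModuleCat.{u} R) → Prop} (hP : Good P)

/-- the state of the construction at stage `n` -/
structure St (P : DerivedCategory (ModuleCat.{u} R) → Prop)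
    (K' : CochainComplex (ModuleCat.{u} R) ℤ) (b : ℤ) (n : ℕ) where
  C : CochainComplex (ModuleCat.{u} R) ℤ
  G : CochainComplex (ModuleCat.{u} R) ℤ
  i : K' ⟶ C
  q : C ⟶ G
  w : i ≫ q = 0
  se : (ShortComplex.mk i q w).ShortExact
  le : (Q.obj C).IsLE (b - n)
  pc : P (Q.obj C)
  ff : ∀ k : ℤ, FF (G.X k)
  zero : ∀ k : ℤ, (k < b - n ∨ b ≤ k) → IsZero (G.X k)

namespace St

variable {K' : CochainComplex (ModuleCat.{u} R) ℤ} {b : ℤ} {n : ℕ} (S : St P K' b n)

include hP in
lemma exists_attach' : ∃ (F : ModuleCat.{u} R)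
    (Ψ : (HomologicalComplex.single _ (ComplexShape.up ℤ) (b - n)).obj F ⟶ S.C),
    FF F ∧ Conn (b - n) (Q.map Ψ) := by
  have := S.le
  exact exists_attach S.C (b - n) (hP.finite _ _ S.pc S.le)

/-- the finite free module attached at stage `n` -/
noncomputable def F : ModuleCat.{u} R := (S.exists_attach' hP).choose

/-- the attaching map -/
noncomputable def Ψ : (HomologicalComplex.single _ (ComplexShape.up ℤ) (b - n)).obj (S.F hP) ⟶ S.C :=
  (S.exists_attach' hP).choose_spec.choose

lemma F_ff : FF (S.F hP) := (S.exists_attach' hP).choose_spec.choose_spec.1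

lemma Ψ_conn : Conn (b - n) (Q.map (S.Ψ hP)) := (S.exists_attach' hP).choose_spec.choose_spec.2

/-- the next stage -/
noncomputable def next : St P K' b (n + 1) where
  C := mappingCone (S.Ψ hP)
  G := mappingCone (S.Ψ hP ≫ S.q)
  i := S.i ≫ mappingCone.inr (S.Ψ hP)
  q := mappingCone.map (S.Ψ hP) (S.Ψ hP ≫ S.q) (𝟙 _) S.q (by simp)
  w := by rw [Category.assoc, inr_map, reassoc_of% S.w, zero_comp]
  se := shortExact_map (S.Ψ hP) S.i S.q S.w S.se
  le := by
    have hT := DerivedCategory.mappingCone_triangle_distinguished (S.Ψ hP)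
    have h := isLE_of_conn _ hT (b - n) (S.Ψ_conn hP)
    have e : b - ((n + 1 : ℕ) : ℤ) = b - n - 1 := by push_cast; ring
    rw [e]
    exact h
  pc := by
    have hT := DerivedCategory.mappingCone_triangle_distinguished (S.Ψ hP)
    exact hP.cone _ hT (hP.iso ((singleFunctorIsoCompQ _ (b - n)).app (S.F hP))
      (hP.single _ _ (S.F_ff hP))) S.pc
  ff := fun k => by
    have := HomologicalComplex.HasHomotopyCofiber.hasBinaryBiproduct (S.Ψ hP ≫ S.q) k (k + 1) rfl
    exact FF_iso _ _ (HomologicalComplex.homotopyCofiber.XIsoBiprod (S.Ψ hP ≫ S.q) k (k + 1) rfl).symm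
      (FF_sum _ _ (FF_single_X _ (S.F_ff hP) _ _) (S.ff k))
  zero := fun k hk => by
    rw [mappingCone.isZero_X_iff]
    have e : b - ((n + 1 : ℕ) : ℤ) = b - n - 1 := by push_cast; ring
    rw [e] at hk
    refine ⟨HomologicalComplex.isZero_single_obj_X _ _ _ _ (by lia), S.zero k (by lia)⟩

/-- transition maps -/
noncomputable def jC : S.C ⟶ (S.next hP).C := mappingCone.inr (S.Ψ hP)

noncomputable def jG : S.G ⟶ (S.next hP).G := mappingCone.inr (S.Ψ hP ≫ S.q)

lemma i_jC : S.i ≫ S.jC hP = (S.next hP).i := rfl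

lemma jC_q : S.jC hP ≫ (S.next hP).q = S.q ≫ S.jG hP := inr_map (S.Ψ hP) S.q

lemma isIso_jC_f (k : ℤ) (hk : b - n ≤ k) : IsIso ((S.jC hP).f k) :=
  isIso_inr_f _ k (HomologicalComplex.isZero_single_obj_X _ _ _ _ (by lia))

lemma isIso_jG_f (k : ℤ) (hk : b - n ≤ k) : IsIso ((S.jG hP).f k) :=
  isIso_inr_f _ k (HomologicalComplex.isZero_single_obj_X _ _ _ _ (by lia))

end St

section Seq

variable (X : ℕ → CochainComplex (ModuleCat.{u} R) ℤ) (f : ∀ n, X n ⟶ X (n + 1))

lemma isIso_colimit_ι_f (k : ℤ) (n₀ : ℕ) (h : ∀ n, n₀ ≤ n → IsIso ((f n).f k)) (n : ℕ)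
    (hn : n₀ ≤ n) : IsIso ((colimit.ι (Functor.ofSequence f) n).f k) := by
  have hq := isEventuallyConstantFrom_ofSequence f
    (HomologicalComplex.eval (ModuleCat.{u} R) (ComplexShape.up ℤ) k) n₀ h
  exact hq.isIso_ι_of_isColimit'
    (isColimitOfPreserves (HomologicalComplex.eval (ModuleCat.{u} R) (ComplexShape.up ℤ) k)
      (colimit.isColimit (Functor.ofSequence f))) n (homOfLE hn)

lemma quasiIsoAt_colimit_ι (k : ℤ) (n : ℕ)
    (h₀ : IsIso ((colimit.ι (Functor.ofSequence f) n).f (k - 1)))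
    (h₁ : IsIso ((colimit.ι (Functor.ofSequence f) n).f k))
    (h₂ : IsIso ((colimit.ι (Functor.ofSequence f) n).f (k + 1))) :
    QuasiIsoAt (colimit.ι (Functor.ofSequence f) n) k := by
  rw [quasiIsoAt_iff' _ (k - 1) k (k + 1) (by simp) (by simp)]
  let φ := (HomologicalComplex.shortComplexFunctor' (ModuleCat.{u} R) (ComplexShape.up ℤ)
    (k - 1) k (k + 1)).map (colimit.ι (Functor.ofSequence f) n)
  have : IsIso φ.τ₁ := h₀
  have : IsIso φ.τ₂ := h₁
  have : IsIso φ.τ₃ := h₂
  apply ShortComplex.quasiIso_of_epi_of_isIso_of_mono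

end Seq

section Main

variable (K' : CochainComplex (ModuleCat.{u} R) ℤ) (b : ℤ) (hle : (Q.obj K').IsLE b)
  (hpc : P (Q.obj K'))

/-- the initial state -/
noncomputable def St.init : St P K' b 0 where
  C := K'
  G := 0
  i := 𝟙 K'
  q := 0
  w := comp_zero
  se := by
    refine ShortComplex.ShortExact.mk' ?_ (inferInstanceAs (Mono (𝟙 K'))) ?_
    · rw [ShortComplex.exact_iff_epi _ rfl]
      exact inferInstanceAs (Epi (𝟙 K'))
    · exact (isZero_zero _).epi (0 : K' ⟶ 0)
  le := by
    have e : b - ((0 : ℕ) : ℤ) = b := by simp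
    rw [e]; exact hle
  pc := hpc
  ff := fun k => by
    have hz : IsZero ((0 : CochainComplex (ModuleCat.{u} R) ℤ).X k) :=
      (HomologicalComplex.eval _ _ k).map_isZero (isZero_zero _)
    have : Subsingleton ((0 : CochainComplex (ModuleCat.{u} R) ℤ).X k) :=
      ModuleCat.subsingleton_of_isZero hz
    exact FF_of_subsingleton _
  zero := fun k _ => (HomologicalComplex.eval _ _ k).map_isZero (isZero_zero _)

/-- the sequence of states -/
noncomputable def st : ∀ n : ℕ, St P K' b n
  | 0 => St.init K' b hle hpc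
  | n + 1 => (st n).next hP

/-- the sequence of the `C`'s -/
noncomputable abbrev FC : ℕ ⥤ CochainComplex (ModuleCat.{u} R) ℤ :=
  Functor.ofSequence (X := fun n => (st hP K' b hle hpc n).C) (fun n => (st hP K' b hle hpc n).jC hP)

/-- the sequence of the `G`'s -/
noncomputable abbrev FG : ℕ ⥤ CochainComplex (ModuleCat.{u} R) ℤ :=
  Functor.ofSequence (X := fun n => (st hP K' b hle hpc n).G) (fun n => (st hP K' b hle hpc n).jG hP)

/-- the maps `q` assemble -/
noncomputable def qNat : FC hP K' b hle hpc ⟶ FG hP K' b hle hpc :=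
  NatTrans.ofSequence (fun n => (st hP K' b hle hpc n).q) (fun n => by
    rw [Functor.ofSequence_map_homOfLE_succ, Functor.ofSequence_map_homOfLE_succ]
    exact (st hP K' b hle hpc n).jC_q hP)

/-- the colimit of the `C`'s -/
noncomputable abbrev CC : CochainComplex (ModuleCat.{u} R) ℤ := colimit (FC hP K' b hle hpc)

/-- the colimit of the `G`'s -/
noncomputable abbrev GC : CochainComplex (ModuleCat.{u} R) ℤ := colimit (FG hP K' b hle hpc)

noncomputable def iC : K' ⟶ CC hP K' b hle hpc :=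
  (st hP K' b hle hpc 0).i ≫ colimit.ι (FC hP K' b hle hpc) 0

noncomputable def qC : CC hP K' b hle hpc ⟶ GC hP K' b hle hpc := colimMap (qNat hP K' b hle hpc)

lemma i_ι (n : ℕ) :
    (st hP K' b hle hpc n).i ≫ colimit.ι (FC hP K' b hle hpc) n = iC hP K' b hle hpc := by
  induction n with
  | zero => rfl
  | succ n ih =>
    rw [← ih]
    have h2 : (st hP K' b hle hpc n).jC hP ≫ colimit.ι (FC hP K' b hle hpc) (n + 1) =
        colimit.ι (FC hP K' b hle hpc) n := by
      have h2 := colimit.w (FC hP K' b hle hpc) (homOfLE (Nat.le_add_right n 1))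
      rw [Functor.ofSequence_map_homOfLE_succ] at h2
      exact h2
    exact (Category.assoc (st hP K' b hle hpc n).i ((st hP K' b hle hpc n).jC hP)
      (colimit.ι (FC hP K' b hle hpc) (n + 1))).trans
        (congrArg (fun z => (st hP K' b hle hpc n).i ≫ z) h2)

lemma ι_qC (n : ℕ) :
    colimit.ι (FC hP K' b hle hpc) n ≫ qC hP K' b hle hpc =
      (st hP K' b hle hpc n).q ≫ colimit.ι (FG hP K' b hle hpc) n :=
  ι_colimMap _ _

lemma wC : iC hP K' b hle hpc ≫ qC hP K' b hle hpc = 0 := by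
  have h1 : iC hP K' b hle hpc ≫ qC hP K' b hle hpc = (st hP K' b hle hpc 0).i ≫
      (colimit.ι (FC hP K' b hle hpc) 0 ≫ qC hP K' b hle hpc) := Category.assoc _ _ _
  have h2 : (st hP K' b hle hpc 0).i ≫
      ((st hP K' b hle hpc 0).q ≫ colimit.ι (FG hP K' b hle hpc) 0) = 0 :=
    (Category.assoc _ _ _).symm.trans (by rw [(st hP K' b hle hpc 0).w, zero_comp])
  rw [h1]
  exact (congrArg (fun z => (st hP K' b hle hpc 0).i ≫ z) (ι_qC hP K' b hle hpc 0)).trans h2

lemma isIso_ιC (k : ℤ) (n : ℕ) (hn : (b - k).toNat ≤ n) :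
    IsIso ((colimit.ι (FC hP K' b hle hpc) n).f k) :=
  isIso_colimit_ι_f _ _ k (b - k).toNat
    (fun n hn => (st hP K' b hle hpc n).isIso_jC_f hP k (by lia)) n hn

lemma isIso_ιG (k : ℤ) (n : ℕ) (hn : (b - k).toNat ≤ n) :
    IsIso ((colimit.ι (FG hP K' b hle hpc) n).f k) :=
  isIso_colimit_ι_f _ _ k (b - k).toNat
    (fun n hn => (st hP K' b hle hpc n).isIso_jG_f hP k (by lia)) n hn

lemma seC : (ShortComplex.mk (iC hP K' b hle hpc) (qC hP K' b hle hpc)
    (wC hP K' b hle hpc)).ShortExact := by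
  apply HomologicalComplex.shortExact_of_degreewise_shortExact
  intro k
  have hk := (HomologicalComplex.shortExact_iff_degreewise_shortExact _).1
    (st hP K' b hle hpc (b - k).toNat).se k
  have h1 := isIso_ιC hP K' b hle hpc k (b - k).toNat le_rfl
  have h2 := isIso_ιG hP K' b hle hpc k (b - k).toNat le_rfl
  have e : (ShortComplex.mk (st hP K' b hle hpc (b - k).toNat).i (st hP K' b hle hpc (b - k).toNat).q
      (st hP K' b hle hpc (b - k).toNat).w).map (HomologicalComplex.eval _ _ k) ≅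
      (ShortComplex.mk (iC hP K' b hle hpc) (qC hP K' b hle hpc) (wC hP K' b hle hpc)).map
        (HomologicalComplex.eval _ _ k) := by
    refine ShortComplex.isoMk (Iso.refl _)
      (@asIso _ _ _ _ ((colimit.ι (FC hP K' b hle hpc) (b - k).toNat).f k) h1)
      (@asIso _ _ _ _ ((colimit.ι (FG hP K' b hle hpc) (b - k).toNat).f k) h2) ?_ ?_
    · show 𝟙 _ ≫ (iC hP K' b hle hpc).f k = (st hP K' b hle hpc (b - k).toNat).i.f k ≫
        (colimit.ι (FC hP K' b hle hpc) (b - k).toNat).f k
      rw [Category.id_comp, ← i_ι hP K' b hle hpc (b - k).toNat]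
      rfl
    · show (colimit.ι (FC hP K' b hle hpc) (b - k).toNat).f k ≫ (qC hP K' b hle hpc).f k =
        (st hP K' b hle hpc (b - k).toNat).q.f k ≫
          (colimit.ι (FG hP K' b hle hpc) (b - k).toNat).f k
      have := congrArg (fun z => z.f k) (ι_qC hP K' b hle hpc (b - k).toNat)
      exact this
  exact ShortComplex.shortExact_of_iso e hk

lemma isZero_Q_CC : IsZero (Q.obj (CC hP K' b hle hpc)) := by
  have hz : ∀ k : ℤ, IsZero ((homologyFunctor (ModuleCat.{u} R) k).obj
      (Q.obj (CC hP K' b hle hpc))) := by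
    intro k
    have hq : QuasiIsoAt (colimit.ι (FC hP K' b hle hpc) (b - k + 2).toNat) k :=
      quasiIsoAt_colimit_ι _ _ k _ (isIso_ιC hP K' b hle hpc (k - 1) _ (by lia))
        (isIso_ιC hP K' b hle hpc k _ (by lia)) (isIso_ιC hP K' b hle hpc (k + 1) _ (by lia))
    have h0 : IsZero ((homologyFunctor (ModuleCat.{u} R) k).obj
        (Q.obj (st hP K' b hle hpc (b - k + 2).toNat).C)) :=
      (DerivedCategory.isLE_iff _ (b - ((b - k + 2).toNat : ℤ))).1
        (st hP K' b hle hpc (b - k + 2).toNat).le k (by lia)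
    have h0' : IsZero ((st hP K' b hle hpc (b - k + 2).toNat).C.homology k) :=
      ((homologyFunctorFactors (ModuleCat.{u} R) k).app _).isZero_iff.1 h0
    rw [quasiIsoAt_iff_isIso_homologyMap] at hq
    have h1 : IsZero ((CC hP K' b hle hpc).homology k) :=
      IsZero.of_iso h0' (asIso (HomologicalComplex.homologyMap
        (colimit.ι (FC hP K' b hle hpc) (b - k + 2).toNat) k)).symm
    exact ((homologyFunctorFactors (ModuleCat.{u} R) k).app _).isZero_iff.2 h1
  have : (Q.obj (CC hP K' b hle hpc)).IsLE 0 := (DerivedCategory.isLE_iff _ 0).2 (fun i _ => hz i)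
  have : (Q.obj (CC hP K' b hle hpc)).IsGE 1 := (DerivedCategory.isGE_iff _ 1).2 (fun i _ => hz i)
  exact tt.isZero _ 0 1 (by lia)

lemma ff_GC (k : ℤ) : FF ((GC hP K' b hle hpc).X k) := by
  have h2 := isIso_ιG hP K' b hle hpc k (b - k).toNat le_rfl
  exact FF_iso _ _ (asIso ((colimit.ι (FG hP K' b hle hpc) (b - k).toNat).f k))
    ((st hP K' b hle hpc (b - k).toNat).ff k)

lemma isZero_GC (k : ℤ) (hk : b ≤ k) : IsZero ((GC hP K' b hle hpc).X k) := by
  have h2 := isIso_ιG hP K' b hle hpc k (b - k).toNat le_rfl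
  exact IsZero.of_iso ((st hP K' b hle hpc (b - k).toNat).zero k (Or.inr hk))
    (asIso ((colimit.ι (FG hP K' b hle hpc) (b - k).toNat).f k)).symm

include hP hle hpc in
/-- an object of `D^{≤ b}` with the property `P` is represented by a complex of finite free modules
vanishing above `b` -/
theorem exists_bddAbove_ff : ∃ E : CochainComplex (ModuleCat.{u} R) ℤ,
    (∀ i : ℤ, b < i → IsZero (E.X i)) ∧
    (∀ i : ℤ, FF (E.X i)) ∧ Nonempty (Q.obj E ≅ Q.obj K') := by
  have hS := seC hP K' b hle hpc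
  have hT := triangleOfSES_distinguished hS
  have hz : IsZero (triangleOfSES hS).obj₂ := isZero_Q_CC hP K' b hle hpc
  have hiso : IsIso (triangleOfSES hS).mor₃ := (Triangle.isZero₂_iff_isIso₃ _ hT).1 hz
  let e : Q.obj (GC hP K' b hle hpc) ≅ (Q.obj K')⟦(1 : ℤ)⟧ :=
    @asIso _ _ _ _ (triangleOfSES hS).mor₃ hiso
  refine ⟨(GC hP K' b hle hpc)⟦(-1 : ℤ)⟧, fun i hi => ?_, fun i => ?_,
    ⟨(Q.commShiftIso (-1 : ℤ)).app (GC hP K' b hle hpc) ≪≫
      (CategoryTheory.shiftFunctor _ (-1 : ℤ)).mapIso e ≪≫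
      (shiftEquiv _ (1 : ℤ)).unitIso.symm.app (Q.obj K')⟩⟩
  · exact isZero_GC hP K' b hle hpc (i + -1) (by lia)
  · exact ff_GC hP K' b hle hpc (i + -1)

end Main

include hP in
/-- object version -/
theorem exists_bddAbove_ff' (M : DerivedCategory (ModuleCat.{u} R)) (b : ℤ) (hle : M.IsLE b)
    (hM : P M) : ∃ E : CochainComplex (ModuleCat.{u} R) ℤ,
    (∀ i : ℤ, b < i → IsZero (E.X i)) ∧
    (∀ i : ℤ, FF (E.X i)) ∧ Nonempty (Q.obj E ≅ M) := by
  let K' := Q.objPreimage M
  let e : Q.obj K' ≅ M := Q.objObjPreimageIso M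
  have hle' : (Q.obj K').IsLE b := tt.isLE_of_iso e.symm _
  obtain ⟨E, h1, h2, ⟨e'⟩⟩ := exists_bddAbove_ff hP K' b hle' (hP.iso e.symm hM)
  exact ⟨E, h1, h2, ⟨e' ≪≫ e⟩⟩

end Tower

end Groth.Agent.Lib.Helper1.TowerNC
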