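import Mathlib
import Groth.Prelude.Def_DRing2
import Groth.Agent.Lib.Helper1TowerNC
import Groth.Agent.Lib.Helper1PC
import Groth.Agent.Lib.Helper1PCTower
import Groth.Agent.Lib.Helper17Hyp19
import Groth.Agent.S2068

set_option backward.isDefEq.respectTransparency.types false
set_option autoImplicit false
set_option linter.style.haveILetI false
set_option linter.unusedSectionVars false
set_option maxHeartbeats 400000
universe u
open CategoryTheory CategoryTheory.Limits
attribute [local instance] HasDerivedCategory.standard

namespace Groth.Agent.Lib.Helper1.FinFreeAlg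

open DerivedCategory Pretriangulated
open Groth.Agent.S14388 ZeroObject
open Groth.Agent.Lib.Helper1.TowerNC
open Groth.Agent.Lib.Helper1.PC (isPC_of_iso isPC_obj₃)
open Groth.Agent.Lib.Helper1.PCTower (isPC_single_of_finProj isPC_of_bddAbove_finProj)

variable {A : Type u} [CommRing A] {R : Type u} [Ring R] [Algebra A R]

/-- restriction of scalars -/
noncomputable abbrev res : ModuleCat.{u} R ⥤ ModuleCat.{u} A :=
  ModuleCat.restrictScalars.{u} (algebraMap A R)

lemma finite_of_res (M : ModuleCat.{u} R)
    (h : Module.Finite A ((res (A := A)).obj M)) : Module.Finite R M := by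
  letI : Module A M := Module.compHom M (algebraMap A R)
  haveI : IsScalarTower A R M := ⟨fun a r x => by
    show (a • r) • x = (algebraMap A R a) • (r • x)
    rw [Algebra.smul_def, mul_smul]⟩
  haveI : Module.Finite A M := h
  exact Module.Finite.of_restrictScalars_finite A R M

lemma ff_res [Module.Finite A R] [Module.Free A R] (F : ModuleCat.{u} R) (hF : FF F) :
    Module.Finite A ((res (A := A)).obj F) ∧ Module.Free A ((res (A := A)).obj F) := by
  obtain ⟨h1, h2⟩ := hF
  letI : Module A F := Module.compHom F (algebraMap A R)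
  haveI : IsScalarTower A R F := ⟨fun a r x => by
    show (a • r) • x = (algebraMap A R a) • (r • x)
    rw [Algebra.smul_def, mul_smul]⟩
  have h3 : Module.Finite A F := Module.Finite.trans R F
  have h4 : Module.Free A F :=
    Module.Free.of_basis ((Module.Free.chooseBasis A R).smulTower (Module.Free.chooseBasis R F))
  exact ⟨h3, h4⟩

lemma isZero_of_res (M : ModuleCat.{u} R) (h : IsZero ((res (A := A)).obj M)) : IsZero M := by
  have h' : Subsingleton ((res (A := A)).obj M) := ModuleCat.subsingleton_of_isZero h
  have : Subsingleton M := h'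
  exact ModuleCat.isZero_of_subsingleton M

lemma isZero_res (M : ModuleCat.{u} R) (h : IsZero M) : IsZero ((res (A := A)).obj M) :=
  (res (A := A)).map_isZero h

variable [PreservesFiniteLimits (ModuleCat.restrictScalars.{u} (algebraMap A R))]
  [PreservesFiniteColimits (ModuleCat.restrictScalars.{u} (algebraMap A R))]

/-- derived restriction of scalars -/
noncomputable abbrev resD : DerivedCategory (ModuleCat.{u} R) ⥤ DerivedCategory (ModuleCat.{u} A) :=
  (ModuleCat.restrictScalars.{u} (algebraMap A R)).mapDerivedCategory

/-- `H^i` commutes with restriction of scalars -/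
noncomputable def HIso (X : DerivedCategory (ModuleCat.{u} R)) (i : ℤ) :
    (homologyFunctor (ModuleCat.{u} A) i).obj ((resD (A := A)).obj X) ≅
      (res (A := A)).obj ((homologyFunctor (ModuleCat.{u} R) i).obj X) :=
  (Groth.Agent.Lib.Helper17.Hyp.homologyNatIso
    (ModuleCat.restrictScalars.{u} (algebraMap A R)) i).app X

lemma isLE_resD (X : DerivedCategory (ModuleCat.{u} R)) (n : ℤ) (h : X.IsLE n) :
    ((resD (A := A)).obj X).IsLE n := by
  rw [DerivedCategory.isLE_iff]
  intro i hi
  exact IsZero.of_iso (isZero_res _ ((DerivedCategory.isLE_iff X n).1 h i hi)) (HIso X i)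

lemma isLE_of_resD (X : DerivedCategory (ModuleCat.{u} R)) (n : ℤ)
    (h : ((resD (A := A)).obj X).IsLE n) : X.IsLE n := by
  rw [DerivedCategory.isLE_iff]
  intro i hi
  exact isZero_of_res _ (IsZero.of_iso ((DerivedCategory.isLE_iff _ n).1 h i hi) (HIso X i).symm)

variable (A) in
/-- the property: pseudo-coherent after restriction of scalars -/
def PP (X : DerivedCategory (ModuleCat.{u} R)) : Prop :=
  ∀ m : ℤ, DRing.IsPseudoCoherent A m ((resD (A := A)).obj X)

lemma good_PP [Module.Finite A R] [Module.Free A R] : Good (PP (R := R) A) where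
  iso := fun e h m => isPC_of_iso ((resD (A := A)).mapIso e) (h m)
  finite := fun X n h hle => by
    have hle' := isLE_resD (A := A) X n hle
    have hfin := (Groth.Agent.S2068.result ((resD (A := A)).obj X) n (h n)).1
      (fun i hi => (DerivedCategory.isLE_iff _ n).1 hle' i hi)
    have : Module.Finite A ((res (A := A)).obj ((homologyFunctor (ModuleCat.{u} R) n).obj X)) :=
      Module.Finite.equiv (HIso (A := A) X n).toLinearEquiv
    exact finite_of_res _ this
  cone := fun T hT h1 h2 m =>
    isPC_obj₃ ((resD (A := A)).mapTriangle.obj T) ((resD (A := A)).map_distinguished T hT) m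
      (h1 (m + 1)) (h2 m)
  single := fun F n hF m => by
    obtain ⟨h1, h2⟩ := ff_res (A := A) F hF
    have : Module.Projective A ((res (A := A)).obj F) := Module.Projective.of_free
    exact isPC_of_iso (((ModuleCat.restrictScalars.{u}
      (algebraMap A R)).mapDerivedCategorySingleFunctor n).app F).symm
      (isPC_single_of_finProj ((res (A := A)).obj F) n m)

/-- if `M ∈ D(R)` is pseudo-coherent in `D(A)`, where `R` is a finite free `A`-algebra, then `M` is
represented by a bounded above complex of finite free `R`-modules -/
theorem main [Module.Finite A R] [Module.Free A R] (M : DerivedCategory (ModuleCat.{u} R))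
    (hM : DRing.IsPseudoCoherent' A ((resD (A := A)).obj M)) :
    ∃ (F : CochainComplex (ModuleCat.{u} R) ℤ) (b : ℤ), (∀ i : ℤ, b < i → IsZero (F.X i)) ∧
      (∀ i : ℤ, Module.Finite R (F.X i) ∧ Module.Free R (F.X i)) ∧
      Nonempty (DerivedCategory.Q.obj F ≅ M) := by
  obtain ⟨E, b, hE, hff, ⟨e⟩⟩ := hM
  have hP : PP A M := fun m => isPC_of_iso e
    (isPC_of_bddAbove_finProj E b hE (fun i => ⟨(hff i).1, by
      have := (hff i).2
      exact Module.Projective.of_free⟩) m)
  have hEle : E.IsStrictlyLE b := by
    rw [CochainComplex.isStrictlyLE_iff]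
    exact hE
  have hQle : (Q.obj E).IsLE b := inferInstance
  have hle : M.IsLE b := isLE_of_resD (A := A) M b (tt.isLE_of_iso e b)
  obtain ⟨F, h1, h2, h3⟩ := exists_bddAbove_ff' (good_PP (A := A) (R := R)) M b hle hP
  exact ⟨F, b, h1, h2, h3⟩

end Groth.Agent.Lib.Helper1.FinFreeAlg
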