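import Mathlib
import Groth.Agent.Lib.Helper1FinPushB
import Groth.Agent.Lib.Helper1Fib3
import Groth.Agent.Lib.Helper5HasLDer
import Groth.Agent.Lib.Helper1LBC
import Groth.Agent.S1055
import Groth.Agent.S0910
import Groth.Agent.S0911
import Groth.Agent.S0959
import Groth.Agent.S6941
import Groth.Agent.S1004
set_option backward.isDefEq.respectTransparency.types false

/-!
# helper1: `m`-pseudo-coherence descends along flat surjective quasi-compact morphisms (on `D_QCoh`)
-/

set_option autoImplicit false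
set_option linter.style.haveILetI false
set_option linter.unusedSectionVars false
set_option maxHeartbeats 400000
universe u
open CategoryTheory CategoryTheory.Limits AlgebraicGeometry HomologicalComplex

attribute [local instance] HasDerivedCategory.standard

namespace Groth.Agent.Lib.Helper1.FpqcPC

open Groth.Agent.Lib.Helper1.SPL Groth.Agent.Lib.Helper1.ChartInd Groth.Agent.Lib.Helper1.ExtVan
  Groth.Agent.Lib.Helper1.LDer Groth.Agent.Lib.Helper1.KF Groth.Agent.Lib.Helper1.FinPush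

section alg

variable {A B : Type u} [CommRing A] [CommRing B] (φ : A →+* B)

/-- for flat `φ`, derived base change is computed termwise on every complex -/
lemma isIso_lbcCounit_app_of_flat [DRing.HasLBaseChange φ] (hφ : φ.Flat) (C : DRing.Cx A) :
    IsIso ((lbcCounit φ).app C) := by
  haveI : PreservesFiniteLimits (ModuleCat.extendScalars.{u, u, u} φ) :=
    ModuleCat.preservesFiniteLimits_extendScalars_of_flat hφ
  haveI : PreservesFiniteColimits (ModuleCat.extendScalars.{u, u, u} φ) := inferInstance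
  obtain ⟨P, π, hP, -, hπ, -⟩ := exists_kprojective_resolution C
  haveI := hP
  haveI := hπ
  have nat := (lbcCounit φ).naturality π
  haveI : IsIso ((DerivedCategory.Q : _ ⥤ Dual.D A).map π) := by
    rw [DerivedCategory.isIso_Q_map_iff_quasiIso]; infer_instance
  haveI : IsIso ((DerivedCategory.Q ⋙ DRing.LBaseChange φ).map π) := by
    dsimp; infer_instance
  haveI : QuasiIso ((bcCx φ).map π) := inferInstance
  haveI : IsIso ((bcCx φ ⋙ (DerivedCategory.Q : _ ⥤ Dual.D B)).map π) := by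
    dsimp
    rw [DerivedCategory.isIso_Q_map_iff_quasiIso]; infer_instance
  have h2 : IsIso ((DerivedCategory.Q ⋙ DRing.LBaseChange φ).map π ≫ (lbcCounit φ).app C) := by
    rw [nat]; infer_instance
  exact IsIso.of_isIso_comp_left ((DerivedCategory.Q ⋙ DRing.LBaseChange φ).map π) _

/-- faithfully flat descent of `m`-pseudo-coherence, for derived base change -/
theorem isPC_of_faithfullyFlat [DRing.HasLBaseChange φ] (hφ : φ.FaithfullyFlat)
    (M : Dual.D A) (m : ℤ) (h : DRing.IsPseudoCoherent B m ((DRing.LBaseChange φ).obj M)) :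
    DRing.IsPseudoCoherent A m M := by
  letI := φ.toAlgebra
  haveI : Module.FaithfullyFlat A B := hφ
  let K : DRing.Cx A := DerivedCategory.Q.objPreimage M
  let e : DRing.toD K ≅ M := DerivedCategory.Q.objObjPreimageIso M
  haveI := isIso_lbcCounit_app_of_flat φ hφ.flat K
  have e2 : (DRing.LBaseChange φ).obj M ≅ DRing.toD ((bcCx φ).obj K) :=
    (DRing.LBaseChange φ).mapIso e.symm ≪≫ asIso ((lbcCounit φ).app K)
  have h1 := Groth.Agent.Lib.Helper1.PC.isPC_of_iso e2 h
  exact Groth.Agent.Lib.Helper1.PC.isPC_of_iso e ((Groth.Agent.S6941.result K m).1 h1)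

end alg

section core

variable {X' X : Scheme.{u}} (f : X' ⟶ X) [DCoh.HasLpull f]

lemma nonempty_lpull_congr {Y Z : Scheme.{u}} {a b : Y ⟶ Z} (h : a = b) [DCoh.HasLpull a]
    [DCoh.HasLpull b] : Nonempty (DCoh.Lpull a ≅ DCoh.Lpull b) := by
  subst h
  exact ⟨Iso.refl _⟩

/-- the affine-local descent step -/
theorem core (E : DCoh.D X) (m : ℤ) {A B : Type u} [CommRing A] [CommRing B] (φ : A →+* B)
    (hφ : φ.FaithfullyFlat)
    (jV : Spec (CommRingCat.of A) ⟶ X) [IsOpenImmersion jV] (h : Spec (CommRingCat.of B) ⟶ X')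
    (sq : h ≫ f = Spec.map (CommRingCat.ofHom φ) ≫ jV)
    (M : Dual.D A) (c : (DCoh.tildeD (CommRingCat.of A)).obj M ≅ (resD jV).obj E)
    (hpc : DCoh.IsPseudoCoherentD m ((DCoh.Lpull f).obj E)) :
    DCoh.IsPseudoCoherentD m ((resD jV).obj E) := by
  haveI : DCoh.HasLpull h := Groth.Agent.S0959.result h
  haveI : DCoh.HasLpull jV := Groth.Agent.S0959.result jV
  haveI : DCoh.HasLpull (Spec.map (CommRingCat.ofHom φ)) := Groth.Agent.S0959.result _
  haveI : DCoh.HasLpull (h ≫ f) := Groth.Agent.S0959.result _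
  haveI : DCoh.HasLpull (Spec.map (CommRingCat.ofHom φ) ≫ jV) := Groth.Agent.S0959.result _
  haveI : DRing.HasLBaseChange φ := Groth.Agent.Lib.Helper5.HasLDer.hasLBaseChange φ
  have h1 := Groth.Agent.S0910.result h m _ hpc
  obtain ⟨c1⟩ := Groth.Agent.S0911.result h f
  obtain ⟨c2⟩ := Groth.Agent.S0911.result (Spec.map (CommRingCat.ofHom φ)) jV
  obtain ⟨c3⟩ := nonempty_lpull_congr sq
  obtain ⟨c4⟩ := Groth.Agent.Lib.Helper1.Fib.nonempty_lpull_iso_resD jV E
  obtain ⟨c5⟩ := Groth.Agent.S1055.result φ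
  -- `tildeD (M ⊗^L B) ≅ Lh^* Lf^* E`
  have e : (DCoh.tildeD (CommRingCat.of B)).obj ((DRing.LBaseChange φ).obj M) ≅
      (DCoh.Lpull h).obj ((DCoh.Lpull f).obj E) :=
    c5.app M ≪≫ (DCoh.Lpull (Spec.map (CommRingCat.ofHom φ))).mapIso (c ≪≫ c4.symm) ≪≫
      c2.app E ≪≫ (c3.app E).symm ≪≫ (c1.app E).symm
  have h2 := isPseudoCoherentD_of_iso e.symm h1
  have h3 := (Groth.Agent.S1004.result B ((DRing.LBaseChange φ).obj M) m).1 h2
  have h4 := isPC_of_faithfullyFlat φ hφ M m h3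
  have h5 := (Groth.Agent.S1004.result A M m).2 h4
  exact isPseudoCoherentD_of_iso c h5

end core


section main

theorem exists_cover' {X' X : Scheme.{u}} (f : X' ⟶ X) [Flat f] [Surjective f] [QuasiCompact f]
    {V : X.Opens} (hV : IsAffineOpen V) :
    ∃ (B : CommRingCat.{u}) (φ : Γ(X, V) ⟶ B) (h : Spec B ⟶ X'),
      φ.hom.FaithfullyFlat ∧ h ≫ f = Spec.map φ ≫ hV.fromSpec := by
  have hc : IsCompact (X := X') (f ⁻¹ᵁ V) := f.isCompact_preimage hV.isCompact
  obtain ⟨s, hs, e⟩ := isCompact_iff_finite_and_eq_biUnion_affineOpens.mp hc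
  haveI : Finite s := hs.to_subtype
  let W : s → Scheme.{u} := fun i => ((i.1 : X'.Opens) : Scheme.{u})
  haveI : ∀ i, IsAffine (W i) := fun i => i.1.2
  let h₀ : (∐ W) ⟶ X' := Sigma.desc (fun i => (i.1 : X'.Opens).ι)
  have hmem : ∀ x' : X', x' ∈ f ⁻¹ᵁ V ↔ ∃ y : (∐ W : Scheme.{u}), h₀ y = x' := by
    intro x'
    rw [e]
    simp only [TopologicalSpace.Opens.mem_iSup]
    constructor
    · rintro ⟨i, hi, hx⟩
      refine ⟨Sigma.ι W ⟨i, hi⟩ ⟨x', hx⟩, ?_⟩
      rw [← Scheme.Hom.comp_apply, Sigma.ι_desc]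
      rfl
    · rintro ⟨y, rfl⟩
      obtain ⟨⟨i, w⟩, rfl⟩ := (sigmaMk W).surjective y
      refine ⟨i.1, i.2, ?_⟩
      rw [sigmaMk_mk, ← Scheme.Hom.comp_apply, Sigma.ι_desc]
      exact w.2
  have hrange : Set.range (h₀ ≫ f) ⊆ Set.range hV.fromSpec := by
    rw [hV.range_fromSpec]
    rintro _ ⟨y, rfl⟩
    rw [Scheme.Hom.comp_apply]
    exact (hmem _).2 ⟨y, rfl⟩
  let g : (∐ W) ⟶ Spec Γ(X, V) := IsOpenImmersion.lift hV.fromSpec (h₀ ≫ f) hrange
  have hg : g ≫ hV.fromSpec = h₀ ≫ f := IsOpenImmersion.lift_fac _ _ _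
  haveI : Flat h₀ := inferInstance
  haveI : Flat (g ≫ hV.fromSpec) := by rw [hg]; infer_instance
  haveI : Flat g := MorphismProperty.of_postcomp (W := @Flat) (W' := @IsOpenImmersion) g
    hV.fromSpec inferInstance inferInstance
  haveI : Surjective g := by
    refine ⟨fun v => ?_⟩
    obtain ⟨x', hx'⟩ := f.surjective (hV.fromSpec v)
    have hx'V : x' ∈ f ⁻¹ᵁ V := by
      show f x' ∈ V
      rw [hx']
      have : hV.fromSpec v ∈ Set.range hV.fromSpec := ⟨v, rfl⟩
      rwa [hV.range_fromSpec] at this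
    obtain ⟨y, hy⟩ := (hmem x').1 hx'V
    refine ⟨y, ?_⟩
    apply hV.fromSpec.isOpenEmbedding.injective
    rw [← Scheme.Hom.comp_apply, hg, Scheme.Hom.comp_apply, hy, hx']
  let g' : Spec Γ(∐ W, ⊤) ⟶ Spec Γ(X, V) := (∐ W).isoSpec.inv ≫ g
  refine ⟨Γ(∐ W, ⊤), Spec.preimage g', (∐ W).isoSpec.inv ≫ h₀, ?_, ?_⟩
  · rw [← flat_and_surjective_SpecMap_iff, Spec.map_preimage]
    exact ⟨inferInstance, inferInstance⟩
  · rw [Spec.map_preimage, Category.assoc, Category.assoc, hg]

variable {X' X : Scheme.{u}} (f : X' ⟶ X) [Flat f] [Surjective f] [QuasiCompact f]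
  [DCoh.HasLpull f]

/-- **S1057**: `m`-pseudo-coherence descends along a flat, surjective, quasi-compact morphism,
for objects of `D_QCoh` -/
theorem isPseudoCoherentD_lpull_iff (E : DCoh.D X) (hE : DCoh.IsQCohD E) (m : ℤ) :
    DCoh.IsPseudoCoherentD m E ↔ DCoh.IsPseudoCoherentD m ((DCoh.Lpull f).obj E) := by
  constructor
  · exact Groth.Agent.S0910.result f m E
  · intro hpc
    rw [isPseudoCoherentD_iff_hasPresM]
    intro x
    obtain ⟨V, hVaff, hxV, -⟩ := TopologicalSpace.Opens.isBasis_iff_nbhd.1 X.isBasis_affineOpens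
      (show x ∈ (⊤ : X.Opens) from trivial)
    have hx' : x ∈ Set.range hVaff.fromSpec.base := by
      rw [hVaff.range_fromSpec]; exact hxV
    obtain ⟨x', rfl⟩ := hx'
    apply hasPresM_of_resD hVaff.fromSpec m _ x'
    obtain ⟨B, φ, h, hφ, sq⟩ := exists_cover' f hVaff
    obtain ⟨RG, adj, -, h2⟩ := Groth.Agent.Lib.Helper17.TildeD.tildeD_main Γ(X, V)
    have hEV : DCoh.IsQCohD ((resD hVaff.fromSpec).obj E) := isQCohD_restrictD hVaff.fromSpec E hE
    haveI := h2 _ hEV
    have h1 := core f E m φ.hom hφ hVaff.fromSpec h sq (RG.obj _) (asIso (adj.counit.app _)) hpc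
    exact (isPseudoCoherentD_iff_hasPresM m _).1 h1 x'

end main

end Groth.Agent.Lib.Helper1.FpqcPC
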