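import Mathlib
import Groth.Agent.Lib.Helper1FpqcPC
import Groth.Agent.Lib.Helper1FlatPull
import Groth.Agent.Lib.Helper1PerfHomB
import Groth.Agent.Lib.Helper1PC13
import Groth.Agent.S6961
import Groth.Agent.S1105
import Groth.Agent.S0921
import Groth.Agent.S11130
set_option backward.isDefEq.respectTransparency.types false

/-!
# helper1: perfectness descends along flat surjective quasi-compact morphisms
-/

set_option autoImplicit false
set_option linter.style.haveILetI false
set_option linter.unusedSectionVars false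
set_option maxHeartbeats 400000
universe u
open CategoryTheory CategoryTheory.Limits AlgebraicGeometry HomologicalComplex

attribute [local instance] HasDerivedCategory.standard

namespace Groth.Agent.Lib.Helper1.FpqcPerf

open Groth.Agent.Lib.Helper1.SPL Groth.Agent.Lib.Helper1.ChartInd Groth.Agent.Lib.Helper1.ExtVan
  Groth.Agent.Lib.Helper1.LDer Groth.Agent.Lib.Helper1.KF Groth.Agent.Lib.Helper1.FinPush
  Groth.Agent.Lib.Helper1.FpqcPC Groth.Agent.Lib.Helper4.PerfSupp

section alg

variable {A B : Type u} [CommRing A] [CommRing B] (φ : A →+* B)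

lemma dring_isPerfect_of_iso {K K' : Dual.D A} (e : K ≅ K') (h : DRing.IsPerfect A K) :
    DRing.IsPerfect A K' := by
  obtain ⟨E, a, b, hv, hfp, ⟨c⟩⟩ := h
  exact ⟨E, a, b, hv, hfp, ⟨c ≪≫ e⟩⟩

/-- faithfully flat descent of perfectness, for derived base change -/
theorem isPerfect_of_faithfullyFlat [DRing.HasLBaseChange φ] (hφ : φ.FaithfullyFlat)
    (M : Dual.D A) (h : DRing.IsPerfect B ((DRing.LBaseChange φ).obj M)) :
    DRing.IsPerfect A M := by
  letI := φ.toAlgebra
  haveI : Module.FaithfullyFlat A B := hφ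
  let K : DRing.Cx A := DerivedCategory.Q.objPreimage M
  let e : DRing.toD K ≅ M := DerivedCategory.Q.objObjPreimageIso M
  haveI := isIso_lbcCounit_app_of_flat φ hφ.flat K
  have e2 : (DRing.LBaseChange φ).obj M ≅ DRing.toD ((bcCx φ).obj K) :=
    (DRing.LBaseChange φ).mapIso e.symm ≪≫ asIso ((lbcCounit φ).app K)
  have h1 := dring_isPerfect_of_iso e2 h
  exact dring_isPerfect_of_iso e (Groth.Agent.S6961.result K h1)

end alg

section core

variable {X' X : Scheme.{u}} (f : X' ⟶ X) [DCoh.HasLpull f]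

/-- the affine-local descent step -/
theorem core (E : DCoh.D X) {A B : Type u} [CommRing A] [CommRing B] (φ : A →+* B)
    (hφ : φ.FaithfullyFlat)
    (jV : Spec (CommRingCat.of A) ⟶ X) [IsOpenImmersion jV] (h : Spec (CommRingCat.of B) ⟶ X')
    (sq : h ≫ f = Spec.map (CommRingCat.ofHom φ) ≫ jV)
    (M : Dual.D A) (c : (DCoh.tildeD (CommRingCat.of A)).obj M ≅ (resD jV).obj E)
    (hpc : DCoh.IsPerfect ((DCoh.Lpull f).obj E)) :
    DCoh.IsPerfect ((resD jV).obj E) := by
  haveI : DCoh.HasLpull h := Groth.Agent.S0959.result h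
  haveI : DCoh.HasLpull jV := Groth.Agent.S0959.result jV
  haveI : DCoh.HasLpull (Spec.map (CommRingCat.ofHom φ)) := Groth.Agent.S0959.result _
  haveI : DCoh.HasLpull (h ≫ f) := Groth.Agent.S0959.result _
  haveI : DCoh.HasLpull (Spec.map (CommRingCat.ofHom φ) ≫ jV) := Groth.Agent.S0959.result _
  haveI : DRing.HasLBaseChange φ := Groth.Agent.Lib.Helper5.HasLDer.hasLBaseChange φ
  have h1 := Groth.Agent.S0921.result h _ hpc
  obtain ⟨c1⟩ := Groth.Agent.S0911.result h f
  obtain ⟨c2⟩ := Groth.Agent.S0911.result (Spec.map (CommRingCat.ofHom φ)) jV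
  obtain ⟨c3⟩ := nonempty_lpull_congr sq
  obtain ⟨c4⟩ := Groth.Agent.Lib.Helper1.Fib.nonempty_lpull_iso_resD jV E
  obtain ⟨c5⟩ := Groth.Agent.S1055.result φ
  have e : (DCoh.tildeD (CommRingCat.of B)).obj ((DRing.LBaseChange φ).obj M) ≅
      (DCoh.Lpull h).obj ((DCoh.Lpull f).obj E) :=
    c5.app M ≪≫ (DCoh.Lpull (Spec.map (CommRingCat.ofHom φ))).mapIso (c ≪≫ c4.symm) ≪≫
      c2.app E ≪≫ (c3.app E).symm ≪≫ (c1.app E).symm
  have h2 := isPerfect_of_iso e.symm h1
  have h3 := (Groth.Agent.S1105.result B ((DRing.LBaseChange φ).obj M)).1 h2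
  have h4 := isPerfect_of_faithfullyFlat φ hφ M h3
  have h5 := (Groth.Agent.S1105.result A M).2 h4
  exact isPerfect_of_iso c h5

end core

section main

variable {X' X : Scheme.{u}} (f : X' ⟶ X) [Flat f] [Surjective f] [QuasiCompact f]
  [DCoh.HasLpull f]

/-- for flat `f`, the cohomology sheaves of `Lf^* E` are the pullbacks of those of `E` -/
theorem nonempty_HD_lpull_iso_of_flat (E : DCoh.D X) (i : ℤ) :
    Nonempty (DCoh.HD ((DCoh.Lpull f).obj E) i ≅ (Scheme.Modules.pullback f).obj (DCoh.HD E i)) := by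
  haveI := Groth.Agent.Lib.Helper1.FlatPull.preservesFiniteLimits_pullback_of_flat f
  haveI : PreservesFiniteColimits (Scheme.Modules.pullback f) := inferInstance
  let F₀ : CochainComplex X.Modules ℤ := DerivedCategory.Q.objPreimage E
  let e₀ : DCoh.toD X F₀ ≅ E := DerivedCategory.Q.objObjPreimageIso E
  let a := (DCoh.Lpull f).mapIso e₀.symm ≪≫ Groth.Agent.Lib.Helper1.Sky.lpullIsoOfExact f F₀
  exact ⟨(DerivedCategory.homologyFunctor _ i).mapIso a ≪≫
    (DerivedCategory.homologyFunctorFactors _ i).app _ ≪≫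
    (F₀.sc i).mapHomologyIso (Scheme.Modules.pullback f) ≪≫
    (Scheme.Modules.pullback f).mapIso
      (((DerivedCategory.homologyFunctorFactors _ i).app F₀).symm ≪≫
        (DerivedCategory.homologyFunctor _ i).mapIso e₀)⟩

/-- quasi-coherence of cohomology descends -/
theorem isQCohD_of_isQCohD_lpull (E : DCoh.D X) (h : DCoh.IsQCohD ((DCoh.Lpull f).obj E)) :
    DCoh.IsQCohD E := by
  intro i
  obtain ⟨e⟩ := nonempty_HD_lpull_iso_of_flat f E i
  rw [Groth.Agent.S11130.result f]
  haveI : (DCoh.HD ((DCoh.Lpull f).obj E) i).IsQuasicoherent := h i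
  exact (SheafOfModules.isQuasicoherent X'.ringCatSheaf).prop_of_iso e inferInstance

/-- **S1056**: perfectness descends along a flat, surjective, quasi-compact morphism -/
theorem isPerfect_lpull_iff (E : DCoh.D X) :
    DCoh.IsPerfect E ↔ DCoh.IsPerfect ((DCoh.Lpull f).obj E) := by
  constructor
  · exact Groth.Agent.S0921.result f E
  · intro hpc
    have hE : DCoh.IsQCohD E := isQCohD_of_isQCohD_lpull f E
      (Groth.Agent.Lib.Helper1.PerfHom.isQCohD_of_isPerfect _ hpc)
    rw [isPerfect_iff_hasPres]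
    intro x
    obtain ⟨V, hVaff, hxV, -⟩ := TopologicalSpace.Opens.isBasis_iff_nbhd.1 X.isBasis_affineOpens
      (show x ∈ (⊤ : X.Opens) from trivial)
    have hx' : x ∈ Set.range hVaff.fromSpec.base := by
      rw [hVaff.range_fromSpec]; exact hxV
    obtain ⟨x', rfl⟩ := hx'
    apply hasPres_of_resD hVaff.fromSpec _ x'
    obtain ⟨B, φ, h, hφ, sq⟩ := exists_cover' f hVaff
    obtain ⟨RG, adj, -, h2⟩ := Groth.Agent.Lib.Helper17.TildeD.tildeD_main Γ(X, V)
    have hEV : DCoh.IsQCohD ((resD hVaff.fromSpec).obj E) := isQCohD_restrictD hVaff.fromSpec E hE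
    haveI := h2 _ hEV
    have h1 := core f E φ.hom hφ hVaff.fromSpec h sq (RG.obj _) (asIso (adj.counit.app _)) hpc
    exact (isPerfect_iff_hasPres _).1 h1 x'

end main

end Groth.Agent.Lib.Helper1.FpqcPerf
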