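import Mathlib
import Groth.Agent.Lib.Helper1TensPCC
set_option backward.isDefEq.respectTransparency.types false
set_option autoImplicit false
set_option linter.style.haveILetI false
set_option maxHeartbeats 400000
universe u

/-!
# The derived tensor product of a perfect object and a relatively perfect object, II (helper1)
-/

open CategoryTheory CategoryTheory.Limits AlgebraicGeometry HomologicalComplex
attribute [local instance] HasDerivedCategory.standard

namespace Groth.Agent.Lib.Helper1.TQ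

open Groth.Agent.Lib.Helper1.Sky Groth.Agent.Lib.Helper1.StalkTensor Groth.Agent.Lib.Helper1.KBC
  Groth.Agent.Lib.Helper1.Tor Groth.Agent.Lib.Helper1.BKF Groth.Agent.Lib.Helper1.CI
  Groth.Agent.Lib.Helper1.SPL Groth.Agent.Lib.Helper1.Extend Groth.Agent.Lib.Helper1.RelPC
  Groth.Agent.Lib.Helper1.Restrict Groth.Agent.Lib.Helper1.RelTri Groth.Agent.Lib.Helper1.FLF
  Groth.Agent.Lib.Helper1.PT Groth.Agent.Lib.Helper1.TorT Groth.Agent.Lib.Helper1.LDer

variable {Y : Scheme.{u}}

/-- a presentation near a point can be given by a chain map -/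
lemma exists_chain_pres (N : CochainComplex Y.Modules ℤ) (m : ℤ) (y : Y)
    (h : HasPresM m (DerivedCategory.Q.obj N) y) :
    ∃ (U : Scheme.{u}) (j : U ⟶ Y) (_ : IsOpenImmersion j), y ∈ j.opensRange ∧
      ∃ (P' : CochainComplex U.Modules ℤ) (β : P' ⟶ (resC j).obj N),
        DCoh.IsStrictlyPerfect P' ∧ PropM m (DerivedCategory.Q.map β) := by
  obtain ⟨V, hyV, P₁, α, hP₁, hα⟩ := h.exists_opens
  let α' : DerivedCategory.Q.obj P₁ ⟶ DerivedCategory.Q.obj ((resC V.ι).obj N) :=
    α ≫ (facD V.ι).hom.app N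
  have hα' : PropM m α' := propM_comp _ hα (propM_of_isIso _ _)
  obtain ⟨V', hyV', β, hβ⟩ := exists_opens_chain_map hP₁ α' (⟨y, hyV⟩ : (V : Scheme.{u}))
  have hQβ : PropM m (DerivedCategory.Q.map β) := by
    have h1 : DerivedCategory.Q.map β = (facD V'.ι).inv.app P₁ ≫ (resD V'.ι).map α' ≫
        (facD V'.ι).hom.app ((resC V.ι).obj N) := by
      rw [hβ]
      simp only [Category.assoc, Iso.inv_hom_id_app, Iso.inv_hom_id_app_assoc]
      exact (Category.comp_id _).symm
    rw [h1]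
    exact propM_comp _ (propM_of_isIso _ _)
      (propM_comp _ (propM_mapDerivedCategory _ _ α' hα') (propM_of_isIso _ _))
  refine ⟨(V' : Scheme.{u}), V'.ι ≫ V.ι, inferInstance, ⟨⟨⟨y, hyV⟩, hyV'⟩, rfl⟩,
    (resC V'.ι).obj P₁, β ≫ (resCComp V'.ι V.ι).inv.app N, isStrictlyPerfect_resC _ _ hP₁, ?_⟩
  rw [Functor.map_comp]
  exact propM_comp _ hQβ (propM_of_isIso _ _)

/-- the tensor product of a strictly perfect complex and a pseudo-coherent complex is
pseudo-coherent -/
theorem isPseudoCoherentD_tensor_of_isStrictlyPerfect (E N : CochainComplex Y.Modules ℤ)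
    (hE : DCoh.IsStrictlyPerfect E)
    (hN : ∀ m : ℤ, DCoh.IsPseudoCoherentD m (DerivedCategory.Q.obj N)) (m : ℤ) :
    DCoh.IsPseudoCoherentD m (DerivedCategory.Q.obj ((DCoh.tensorCx.obj E).obj N)) := by
  rw [isPseudoCoherentD_iff_hasPresM]
  intro y
  obtain ⟨⟨a1, b1, hv⟩, hfl⟩ := id hE
  obtain ⟨U, j, hj, hy, P', β, hP', hβ⟩ := exists_chain_pres N (m - b1) y
    ((isPseudoCoherentD_iff_hasPresM (m - b1) _).1 (hN (m - b1)) y)
  haveI := hj
  have hEU : DCoh.IsStrictlyPerfect ((resC j).obj E) := isStrictlyPerfect_resC j E hE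
  have hK : DCoh.IsKFlat ((resC j).obj E) := (kffs_of_isStrictlyPerfect _ hEU).1
  have hz : ∀ p : ℤ, b1 < p → IsZero (((resC j).obj E).X p) := fun p hp =>
    (Scheme.Modules.restrictFunctor j).map_isZero (hv p (Or.inr hp))
  have hT : PropM (m - b1 + b1)
      (DerivedCategory.Q.map ((DCoh.tensorCx.obj ((resC j).obj E)).map β)) :=
    propM_TL_map U.sheaf ((resC j).obj E) hK b1 hz β (m - b1) hβ
  rw [sub_add_cancel] at hT
  obtain ⟨t⟩ := nonempty_resC_tensor j E N
  refine ⟨U, j, hj, hy, (DCoh.tensorCx.obj ((resC j).obj E)).obj P',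
    DerivedCategory.Q.map ((DCoh.tensorCx.obj ((resC j).obj E)).map β) ≫
      DerivedCategory.Q.map t.inv ≫ (facD j).inv.app _,
    isStrictlyPerfect_tensorCx _ _ hEU hP', ?_⟩
  exact propM_comp _ hT (propM_comp _ (propM_of_isIso _ _) (propM_of_isIso _ _))

end Groth.Agent.Lib.Helper1.TQ
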