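import Mathlib
import Groth.Agent.Lib.Helper1GermC
import Groth.Agent.Lib.Helper1PC15
import Groth.Agent.Lib.Helper1TensPCD
set_option backward.isDefEq.respectTransparency.types false

/-!
# Pseudo-coherent complexes whose stalk at a point is exact in high degrees are exact in those
degrees near the point (helper1)
-/

set_option autoImplicit false
set_option linter.style.haveILetI false
set_option maxHeartbeats 400000
universe u
open CategoryTheory CategoryTheory.Limits AlgebraicGeometry HomologicalComplex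

attribute [local instance] HasDerivedCategory.standard

namespace Groth.Agent.Lib.Helper1.Germ

open Groth.Agent.Lib.Helper1.Sky Groth.Agent.Lib.Helper1.StalkTensor Groth.Agent.Lib.Helper1.KBC
  Groth.Agent.Lib.Helper1.SPL Groth.Agent.Lib.Helper1.TQ Groth.Agent.Lib.Helper1.BKF
  Groth.Agent.Lib.Helper1.FLF Groth.Agent.Lib.Helper1.CI

variable {X : Scheme.{u}}

/-- cycles and homology in degrees `≥ n` of a strictly perfect complex whose homology sheaves in
degrees `≥ n` are flat at `x` are finite locally free near `x` -/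
theorem flfAt_cycles_homology_ge (E : CochainComplex X.Modules ℤ) (hE : DCoh.IsStrictlyPerfect E)
    (x : X) (n : ℤ) (hfl : ∀ k : ℤ, n ≤ k → FlatMod.IsFlatAt (E.homology k) x) :
    ∀ i : ℤ, n ≤ i → FlfAt (E.cycles i) x ∧ FlfAt (E.homology i) x := by
  obtain ⟨⟨a, b, hv⟩, hflf⟩ := hE
  have key : ∀ k : ℕ, ∀ i : ℤ, n ≤ i → b + 1 ≤ i + k →
      FlfAt (E.cycles i) x ∧ FlfAt (E.homology i) x := by
    intro k
    induction k with
    | zero =>
      intro i _ hi
      have hz : IsZero (E.X i) := hv i (Or.inr (by push_cast at hi; omega))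
      have hzc : IsZero (E.cycles i) := IsZero.of_mono (E.iCycles i) hz
      have hzh : IsZero (E.homology i) := IsZero.of_epi (E.homologyπ i) hzc
      exact ⟨flfAt_of_isFinLocFree _ (isFinLocFree_of_isZero _ hzc) x,
        flfAt_of_isFinLocFree _ (isFinLocFree_of_isZero _ hzh) x⟩
    | succ k ih =>
      intro i hni hi
      obtain ⟨hc, hh⟩ := ih (i + 1) (by omega) (by push_cast at hi ⊢; omega)
      -- boundaries
      have hB : FlfAt (kernel (E.homologyπ (i + 1))) x := flfAt_kernel _ x hc hh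
      have w : E.toCycles i (i + 1) ≫ E.homologyπ (i + 1) = 0 := E.toCycles_comp_homologyπ i (i + 1)
      let S := ShortComplex.mk _ _ w
      have hS : S.Exact := ShortComplex.exact_of_g_is_cokernel S
        (E.homologyIsCokernel i (i + 1) (by simp))
      let l : E.X i ⟶ kernel (E.homologyπ (i + 1)) := kernel.lift S.g S.f S.zero
      haveI : Epi l := S.exact_iff_epi_kernel_lift.1 hS
      have hl : l ≫ kernel.ι (E.homologyπ (i + 1)) = E.toCycles i (i + 1) := kernel.lift_ι _ _ _
      have h2 : FlfAt (kernel l) x := flfAt_kernel l x (flfAt_of_isFinLocFree _ (hflf i) x) hB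
      have e1 : kernel l ≅ kernel (E.d i (i + 1)) := by
        have h3 : (l ≫ kernel.ι (E.homologyπ (i + 1))) ≫ E.iCycles (i + 1) = E.d i (i + 1) := by
          rw [hl]
          exact E.toCycles_i i (i + 1)
        exact (kernelCompMono l (kernel.ι (E.homologyπ (i + 1)))).symm ≪≫
          (kernelCompMono (l ≫ kernel.ι (E.homologyπ (i + 1))) (E.iCycles (i + 1))).symm ≪≫
          kernelIsoOfEq h3
      have e2 : kernel (E.d i (i + 1)) ≅ E.cycles i :=
        IsLimit.conePointUniqueUpToIso (kernelIsKernel (E.d i (i + 1)))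
          (E.cyclesIsKernel i (i + 1) (by simp))
      have hci : FlfAt (E.cycles i) x := flfAt_of_iso (e1 ≪≫ e2) x h2
      refine ⟨hci, ?_⟩
      -- homology in degree `i`
      have w' : E.toCycles (i - 1) i ≫ E.homologyπ i = 0 := E.toCycles_comp_homologyπ (i - 1) i
      have hS' : (ShortComplex.mk _ _ w').Exact := ShortComplex.exact_of_g_is_cokernel _
        (E.homologyIsCokernel (i - 1) i (by simp))
      exact flfAt_of_cokernel_of_isFlatAt _ _ w' hS' x
        (flfAt_of_isFinLocFree _ (hflf (i - 1)) x) hci (hfl i hni)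
  intro i hi
  exact key (b + 1 - i).toNat i hi (by
    have := Int.self_le_toNat (b + 1 - i)
    omega)

open Groth.Agent.Lib.Helper23.UnitStalk in
/-- a free module of finite rank with vanishing stalk at a point has rank zero -/
lemma eq_zero_of_isZero_stalk_freeMod (U : Scheme.{u}) (n : ℕ) (y : U)
    (h : IsZero ((stalkFun y).obj (FlatMod.freeMod U n))) : n = 0 := by
  by_contra hn
  let i₀ : Fin n := ⟨0, Nat.pos_of_ne_zero hn⟩
  let f : Fin n → U.Modules := fun _ => Coh.structureModule U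
  let r : FlatMod.freeMod U n ⟶ Coh.structureModule U :=
    Sigma.desc (fun i => if i = i₀ then 𝟙 _ else 0)
  have hr : Sigma.ι f i₀ ≫ r = 𝟙 _ := by
    simp [r, f]
  have hz : IsZero ((stalkFun y).obj (Coh.structureModule U)) := by
    rw [IsZero.iff_id_eq_zero, ← (stalkFun y).map_id, ← hr, Functor.map_comp,
      h.eq_of_tgt ((stalkFun y).map (Sigma.ι f i₀)) 0, zero_comp]
  have e3 : Sky.Ox y ≃ₗ[Sky.Ox y] ((stalkFun y).obj (Coh.structureModule U)) := unitStalkEquiv y
  haveI : Subsingleton ((stalkFun y).obj (Coh.structureModule U)) :=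
    ModuleCat.subsingleton_of_isZero hz
  have : (1 : Sky.Ox y) = 0 := e3.injective (Subsingleton.elim _ _)
  exact one_ne_zero this

lemma isZero_freeMod_zero (U : Scheme.{u}) : IsZero (FlatMod.freeMod U 0) := by
  rw [IsZero.iff_id_eq_zero]
  apply Sigma.hom_ext
  intro i
  exact i.elim0

/-- `M` vanishes near `x` -/
def ZeroNear (M : X.Modules) (x : X) : Prop :=
  ∃ W : X.Opens, x ∈ W ∧ IsZero (M.restrict W.ι)

lemma isZero_restrict_of_factor {U U' : Scheme.{u}} (j : U ⟶ X) (j' : U' ⟶ X) (i : U' ⟶ U)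
    [IsOpenImmersion j] [IsOpenImmersion j'] [IsOpenImmersion i] (hi : i ≫ j = j')
    (M : X.Modules) (h : IsZero (M.restrict j)) : IsZero (M.restrict j') := by
  subst hi
  exact IsZero.of_iso ((Scheme.Modules.restrictFunctor i).map_isZero h)
    ((Scheme.Modules.restrictFunctorComp i j).app M)

lemma isZero_restrict_of_le (M : X.Modules) {W W' : X.Opens} (hle : W' ≤ W)
    (h : IsZero (M.restrict W.ι)) : IsZero (M.restrict W'.ι) :=
  isZero_restrict_of_factor W.ι W'.ι (X.homOfLE hle) (X.homOfLE_ι hle) M h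

lemma ZeroNear.of_immersion (M : X.Modules) {U : Scheme.{u}} (j : U ⟶ X) [IsOpenImmersion j] (y : U)
    (h : IsZero (M.restrict j)) : ZeroNear M (j y) :=
  ⟨j.opensRange, ⟨y, rfl⟩,
    isZero_restrict_of_factor j j.opensRange.ι j.isoOpensRange.inv (by simp) M h⟩

/-- a module which is finite locally free near `x` with vanishing stalk at `x` vanishes near `x` -/
lemma zeroNear_of_flfAt (M : X.Modules) (x : X) (h : FlfAt M x)
    (hz : IsZero ((stalkFun x).obj M)) : ZeroNear M x := by
  obtain ⟨W₁, hx₁, hflf⟩ := h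
  obtain ⟨W₂, n, hx₂, ⟨e⟩⟩ := hflf ⟨x, hx₁⟩
  have h1 : IsZero ((stalkFun (⟨x, hx₁⟩ : (W₁ : Scheme.{u}))).obj (M.restrict W₁.ι)) :=
    isZero_stalk_restrict W₁.ι (⟨x, hx₁⟩ : (W₁ : Scheme.{u})) M hz
  have h2 : IsZero ((stalkFun (⟨⟨x, hx₁⟩, hx₂⟩ : (W₂ : Scheme.{u}))).obj
      ((M.restrict W₁.ι).restrict W₂.ι)) :=
    isZero_stalk_restrict W₂.ι (⟨⟨x, hx₁⟩, hx₂⟩ : (W₂ : Scheme.{u})) (M.restrict W₁.ι) h1
  have hn : n = 0 := eq_zero_of_isZero_stalk_freeMod _ n (⟨⟨x, hx₁⟩, hx₂⟩ : (W₂ : Scheme.{u}))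
    (IsZero.of_iso h2 ((stalkFun _).mapIso e.symm))
  subst hn
  have h3 : IsZero ((M.restrict W₁.ι).restrict W₂.ι) := IsZero.of_iso (isZero_freeMod_zero _) e
  have h4 : IsZero (M.restrict (W₂.ι ≫ W₁.ι)) :=
    IsZero.of_iso h3 ((Scheme.Modules.restrictFunctorComp W₂.ι W₁.ι).app M)
  exact ZeroNear.of_immersion M (W₂.ι ≫ W₁.ι) (⟨⟨x, hx₁⟩, hx₂⟩ : (W₂ : Scheme.{u})) h4

/-- finitely many modules vanishing near `x` vanish on a common neighbourhood -/
lemma exists_opens_forall_isZero (M : ℤ → X.Modules) (a b : ℤ)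
    (hz : ∀ k : ℤ, b < k → IsZero (M k)) (x : X) (h : ∀ k, a ≤ k → ZeroNear (M k) x) :
    ∃ W : X.Opens, x ∈ W ∧ ∀ k : ℤ, a ≤ k → IsZero ((M k).restrict W.ι) := by
  have key : ∀ n : ℕ, ∃ W : X.Opens, x ∈ W ∧
      ∀ k : ℤ, a ≤ k → k < a + n → IsZero ((M k).restrict W.ι) := by
    intro n
    induction n with
    | zero => exact ⟨⊤, trivial, fun k h1 h2 => by omega⟩
    | succ n ih =>
      obtain ⟨W, hxW, hW⟩ := ih
      obtain ⟨W', hxW', hW'⟩ := h (a + n) (by omega)
      refine ⟨W ⊓ W', ⟨hxW, hxW'⟩, fun k h1 h2 => ?_⟩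
      by_cases hk : k < a + n
      · exact isZero_restrict_of_le _ inf_le_left (hW k h1 hk)
      · have : k = a + n := by push_cast at h2; omega
        subst this
        exact isZero_restrict_of_le _ inf_le_right hW'
  obtain ⟨W, hxW, hW⟩ := key (b + 1 - a).toNat
  refine ⟨W, hxW, fun k hk => ?_⟩
  by_cases hk' : k ≤ b
  · exact hW k hk (by
      have := Int.self_le_toNat (b + 1 - a)
      omega)
  · exact (Scheme.Modules.restrictFunctor W.ι).map_isZero (hz k (by omega))

/-- a module with vanishing stalk at `x` is flat at `x` -/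
lemma isFlatAt_of_isZero_stalk (M : X.Modules) (x : X) (h : IsZero ((stalkFun x).obj M)) :
    FlatMod.IsFlatAt M x := by
  haveI : Subsingleton ((stalkFun x).obj M) := ModuleCat.subsingleton_of_isZero h
  show Module.Flat (Sky.Ox x) ((stalkFun x).obj M)
  infer_instance

/-- a strictly perfect complex whose stalk at `x` is exact in degrees `≥ n` is exact in degrees
`≥ n` near `x` -/
theorem exists_opens_isZero_homology_ge (P : CochainComplex X.Modules ℤ)
    (hP : DCoh.IsStrictlyPerfect P) (x : X) (n : ℤ)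
    (h : ∀ i : ℤ, n ≤ i → IsZero ((stalkFun x).obj (P.homology i))) :
    ∃ W : X.Opens, x ∈ W ∧ ∀ i : ℤ, n ≤ i → IsZero ((P.homology i).restrict W.ι) := by
  have h1 := flfAt_cycles_homology_ge P hP x n (fun k hk => isFlatAt_of_isZero_stalk _ x (h k hk))
  obtain ⟨⟨a, b, hv⟩, -⟩ := id hP
  refine exists_opens_forall_isZero (fun k => P.homology k) n b (fun k hk => ?_) x
    (fun k hk => zeroNear_of_flfAt _ x (h1 k hk).2 (h k hk))
  exact IsZero.of_epi (P.homologyπ k) (IsZero.of_mono (P.iCycles k) (hv k (Or.inr hk)))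


/-- a pseudo-coherent complex whose stalk at `x` is exact in degrees `≥ n` is exact in degrees
`≥ n` near `x` -/
theorem exists_isZero_homology_ge_of_pseudoCoherent (K : CochainComplex X.Modules ℤ)
    (hK : ∀ m : ℤ, DCoh.IsPseudoCoherentD m (DerivedCategory.Q.obj K)) (x : X) (n : ℤ)
    (h : ∀ i : ℤ, n ≤ i → IsZero ((stalkFun x).obj (K.homology i))) :
    ∃ (U : Scheme.{u}) (j : U ⟶ X) (_ : IsOpenImmersion j) (y : U), j y = x ∧
      ∀ i : ℤ, n ≤ i → IsZero (((resC j).obj K).homology i) := by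
  obtain ⟨U, j, hj, hxj, P', β, hP', hβ⟩ := exists_chain_pres K (n - 1) x
    ((isPseudoCoherentD_iff_hasPresM _ _).1 (hK (n - 1)) x)
  haveI := hj
  obtain ⟨y, rfl⟩ : ∃ y : U, j y = x := hxj
  have hiso : ∀ i, n ≤ i → IsIso (homologyMap β i) := fun i hi =>
    ((propM_Q_map_iff β (n - 1)).1 hβ).1 i (by omega)
  have hst : ∀ i, n ≤ i → IsZero ((stalkFun y).obj (P'.homology i)) := fun i hi => by
    haveI := hiso i hi
    exact IsZero.of_iso (isZero_stalk_homology_resC j y K i (h i hi))
      ((stalkFun y).mapIso (asIso (homologyMap β i)))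
  obtain ⟨W, hyW, hW⟩ := exists_opens_isZero_homology_ge P' hP' y n hst
  refine ⟨W, W.ι ≫ j, inferInstance, ⟨y, hyW⟩, rfl, fun i hi => ?_⟩
  haveI := hiso i hi
  haveI : (Scheme.Modules.restrictFunctor W.ι).PreservesHomology := inferInstance
  have e1 := (HomologicalComplex.homologyFunctor _ _ i).mapIso ((resCComp W.ι j).app K)
  have e2 := (((resC j).obj K).sc i).mapHomologyIso (Scheme.Modules.restrictFunctor W.ι)
  have e3 := (Scheme.Modules.restrictFunctor W.ι).mapIso (asIso (homologyMap β i)).symm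
  exact IsZero.of_iso (hW i hi) (e1 ≪≫ e2 ≪≫ e3)

/-- a map of pseudo-coherent complexes whose stalk at `x` is an isomorphism on `H^i`, `i > m`, and
an epimorphism on `H^m` has the same property near `x` -/
theorem exists_propM_resC_of_stalk {K L : CochainComplex X.Modules ℤ} (g : K ⟶ L)
    (hK : ∀ m : ℤ, DCoh.IsPseudoCoherentD m (DerivedCategory.Q.obj K))
    (hL : ∀ m : ℤ, DCoh.IsPseudoCoherentD m (DerivedCategory.Q.obj L)) (x : X) (m : ℤ)
    (h : PropM m (DerivedCategory.Q.map ((stalkC x).map g))) :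
    ∃ (U : Scheme.{u}) (j : U ⟶ X) (_ : IsOpenImmersion j) (y : U), j y = x ∧
      PropM m (DerivedCategory.Q.map ((resC j).map g)) := by
  have hT : DerivedCategory.Q.mapTriangle.obj (CochainComplex.mappingCone.triangle g) ∈
      distTriang (DCoh.D X) :=
    (DerivedCategory.mem_distTriang_iff _).2 ⟨_, _, g, ⟨Iso.refl _⟩⟩
  have hC : ∀ m' : ℤ, DCoh.IsPseudoCoherentD m'
      (DerivedCategory.Q.obj (CochainComplex.mappingCone g)) := fun m' =>
    (isPseudoCoherentD_triangle m' _ hT).1 (hK (m' + 1)) (hL m')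
  have h1 := ((coneFunctor_mapHC (stalkFun x)).propM_iff g m).1 h
  obtain ⟨U, j, hj, y, hy, hz⟩ := exists_isZero_homology_ge_of_pseudoCoherent _ hC x m
    (fun i hi => IsZero.of_iso (h1 i hi) (stalkHomologyIso x _ i).symm)
  haveI := hj
  exact ⟨U, j, hj, y, hy, ((coneFunctor_mapHC (Scheme.Modules.restrictFunctor j)).propM_iff g m).2 hz⟩

end Groth.Agent.Lib.Helper1.Germ
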