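import Mathlib
import Groth.Agent.Lib.Helper1GermD
import Groth.Agent.Lib.Helper1TQ12
import Groth.Agent.Lib.Helper1DT2
import Groth.Agent.Lib.Helper1ChartInd5
import Groth.Agent.Lib.Helper1ClosedPC2
set_option backward.isDefEq.respectTransparency.types false

/-!
# Pseudo-coherent complexes with isomorphic stalks at a point are isomorphic near the point
(helper1)
-/

set_option autoImplicit false
set_option linter.style.haveILetI false
set_option maxHeartbeats 400000
universe u
open CategoryTheory CategoryTheory.Limits AlgebraicGeometry HomologicalComplex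

attribute [local instance] HasDerivedCategory.standard

namespace Groth.Agent.Lib.Helper1.Germ

open Groth.Agent.Lib.Helper1.Sky Groth.Agent.Lib.Helper1.StalkTensor Groth.Agent.Lib.Helper1.KBC
  Groth.Agent.Lib.Helper1.SPL Groth.Agent.Lib.Helper1.TQ Groth.Agent.Lib.Helper1.BKF
  Groth.Agent.Lib.Helper1.FLF Groth.Agent.Lib.Helper1.CI Groth.Agent.Lib.Helper1.Extend
  Groth.Agent.Lib.Helper1.Tor

variable {X : Scheme.{u}}

/-- the stalks of a strictly perfect complex form a K-projective complex -/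
lemma isKProjective_stalkC (P : CochainComplex X.Modules ℤ) (hP : DCoh.IsStrictlyPerfect P)
    (x : X) : ((stalkC x).obj P).IsKProjective := by
  obtain ⟨⟨a, b, hv⟩, hfl⟩ := hP
  haveI : ((stalkC x).obj P).IsStrictlyLE b := by
    rw [CochainComplex.isStrictlyLE_iff]
    intro i hi
    exact (stalkFun x).map_isZero (hv i (Or.inr hi))
  haveI : ∀ n : ℤ, Projective (((stalkC x).obj P).X n) := by
    intro n
    obtain ⟨U, k, hxU, ⟨e⟩⟩ := hfl n x
    have h := (free_finite_stalk_of_restrict_iso_freeMod (P.X n) U.ι k e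
      (⟨x, hxU⟩ : (U : Scheme.{u}))).1
    haveI : Module.Free (Sky.Ox x) ((stalkFun x).obj (P.X n)) := h
    exact (IsProjective.iff_projective (R := Sky.Ox x) ((stalkFun x).obj (P.X n))).1 inferInstance
  exact CochainComplex.isKProjective_of_projective _ b

/-- transport of an isomorphism of stalk complexes in the derived category to an open
subscheme -/
lemma nonempty_stalk_iso_resC {U : Scheme.{u}} (j : U ⟶ X) [IsOpenImmersion j] (y : U)
    (E F : CochainComplex X.Modules ℤ)
    (φ : DerivedCategory.Q.obj ((stalkC (j.base y)).obj E) ≅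
      DerivedCategory.Q.obj ((stalkC (j.base y)).obj F)) :
    Nonempty (DerivedCategory.Q.obj ((stalkC y).obj ((resC j).obj E)) ≅
      DerivedCategory.Q.obj ((stalkC y).obj ((resC j).obj F))) := by
  letI : Algebra (StalkTensor.Ox (j.base y)) (StalkTensor.Ox y) := (j.stalkMap y).hom.toAlgebra
  have hb : Function.Bijective (j.stalkMap y).hom :=
    ConcreteCategory.bijective_of_isIso (j.stalkMap y)
  haveI : Module.FaithfullyFlat (StalkTensor.Ox (j.base y)) (StalkTensor.Ox y) := by
    let e : StalkTensor.Ox (j.base y) ≃ₗ[StalkTensor.Ox (j.base y)] StalkTensor.Ox y :=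
      { (RingEquiv.ofBijective (j.stalkMap y).hom hb).toAddEquiv with
        map_smul' := fun r x => by
          change (j.stalkMap y).hom (r * x) = (j.stalkMap y).hom r * (j.stalkMap y).hom x
          exact map_mul _ r x }
    exact Module.FaithfullyFlat.of_linearEquiv _ _ e.symm
  have e : ∀ C : CochainComplex X.Modules ℤ,
      DRing.toD ((stalkC y).obj ((resC j).obj C)) ≅
      (extD (StalkTensor.Ox (j.base y)) (StalkTensor.Ox y)).obj
        (DRing.toD ((stalkC (j.base y)).obj C)) := fun C =>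
    DerivedCategory.Q.mapIso (stalkCResIso j y C) ≪≫
      (mapQIso (Extend.ext _ _) ((stalkC (j.base y)).obj C)).symm
  exact ⟨e E ≪≫ (extD (StalkTensor.Ox (j.base y)) (StalkTensor.Ox y)).mapIso φ ≪≫ (e F).symm⟩

/-- extension of scalars along the stalk map of an open immersion preserves `PropM` -/
lemma propM_ext_stalkMap {U : Scheme.{u}} (j : U ⟶ X) [IsOpenImmersion j] (y : U)
    {K L : CochainComplex (ModuleCat.{u} (Sky.Ox (j.base y))) ℤ} (γ : K ⟶ L) (m : ℤ)
    (h : PropM m (DerivedCategory.Q.map γ)) :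
    PropM m (DerivedCategory.Q.map
      (((KBC.ext (j.stalkMap y).hom).mapHomologicalComplex (ComplexShape.up ℤ)).map γ)) := by
  letI : Algebra (StalkTensor.Ox (j.base y)) (StalkTensor.Ox y) := (j.stalkMap y).hom.toAlgebra
  have hb : Function.Bijective (j.stalkMap y).hom :=
    ConcreteCategory.bijective_of_isIso (j.stalkMap y)
  haveI : Module.FaithfullyFlat (StalkTensor.Ox (j.base y)) (StalkTensor.Ox y) := by
    let e : StalkTensor.Ox (j.base y) ≃ₗ[StalkTensor.Ox (j.base y)] StalkTensor.Ox y :=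
      { (RingEquiv.ofBijective (j.stalkMap y).hom hb).toAddEquiv with
        map_smul' := fun r x => by
          change (j.stalkMap y).hom (r * x) = (j.stalkMap y).hom r * (j.stalkMap y).hom x
          exact map_mul _ r x }
    exact Module.FaithfullyFlat.of_linearEquiv _ _ e.symm
  exact propM_Q_map_mapHC (Extend.ext (StalkTensor.Ox (j.base y)) (StalkTensor.Ox y)) γ m h

section abstract

variable {A : Type*} [Category A] [Abelian A] [HasDerivedCategory A]

/-- two complexes with no cohomology in degrees `< c` receiving maps from a common complex which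
are isomorphisms on cohomology in degrees `≥ c` are isomorphic in the derived category -/
lemma nonempty_Q_iso_of_propM {P E F : CochainComplex A ℤ} (β : P ⟶ E) (g : P ⟶ F) (c : ℤ)
    (hβ : PropM (c - 2) (DerivedCategory.Q.map β)) (hg : PropM (c - 2) (DerivedCategory.Q.map g))
    (hE : ∀ i : ℤ, i < c → IsZero (E.homology i)) (hF : ∀ i : ℤ, i < c → IsZero (F.homology i)) :
    Nonempty (DerivedCategory.Q.obj E ≅ DerivedCategory.Q.obj F) := by
  have key : ∀ {G : CochainComplex A ℤ} (b : P ⟶ G), PropM (c - 2) (DerivedCategory.Q.map b) →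
      (∀ i : ℤ, i < c → IsZero (G.homology i)) →
      Nonempty (DerivedCategory.Q.obj (P.truncGE c) ≅ DerivedCategory.Q.obj G) := by
    intro G b hb hG
    have hqi : ∀ i : ℤ, c ≤ i → QuasiIsoAt b i := fun i hi =>
      quasiIsoAt_of_isIso_homology_Q_map b i (hb.1 i (by omega))
    haveI : QuasiIso (CochainComplex.truncGEMap b c) :=
      (CochainComplex.quasiIso_truncGEMap_iff b c).2 hqi
    have hGge : G.IsGE c := by
      rw [CochainComplex.isGE_iff]
      intro i hi
      rw [exactAt_iff_isZero_homology]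
      exact hG i hi
    haveI : QuasiIso (G.πTruncGE c) := (CochainComplex.quasiIso_πTruncGE_iff G c).2 hGge
    haveI : IsIso (DerivedCategory.Q.map (CochainComplex.truncGEMap b c)) := by
      rw [DerivedCategory.isIso_Q_map_iff_quasiIso]; infer_instance
    haveI : IsIso (DerivedCategory.Q.map (G.πTruncGE c)) := by
      rw [DerivedCategory.isIso_Q_map_iff_quasiIso]; infer_instance
    exact ⟨asIso (DerivedCategory.Q.map (CochainComplex.truncGEMap b c)) ≪≫
      (asIso (DerivedCategory.Q.map (G.πTruncGE c))).symm⟩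
  obtain ⟨e1⟩ := key β hβ hE
  obtain ⟨e2⟩ := key g hg hF
  exact ⟨e1.symm ≪≫ e2⟩

end abstract


open Groth.Agent.Lib.Helper1.ChartInd Groth.Agent.Lib.Helper1.ClosedPC in
/-- restriction of complexes preserves pseudo-coherence -/
lemma isPseudoCoherentD_Q_resC {U : Scheme.{u}} (j : U ⟶ X) [IsOpenImmersion j]
    (K : CochainComplex X.Modules ℤ) (m : ℤ)
    (h : DCoh.IsPseudoCoherentD m (DerivedCategory.Q.obj K)) :
    DCoh.IsPseudoCoherentD m (DerivedCategory.Q.obj ((resC j).obj K)) :=
  isPseudoCoherentD_of_iso ((facD j).app K) (isPseudoCoherentD_resD m j _ h)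

open Groth.Agent.Lib.Helper1.ChartInd Groth.Agent.Lib.Helper1.ClosedPC in
/-- **main theorem**: two pseudo-coherent complexes, cohomologically bounded below, whose stalk
complexes at `x` are isomorphic in the derived category of the local ring, are isomorphic in the
derived category of a neighbourhood of `x` -/
theorem exists_resC_iso_of_stalk_iso (x : X) (E F : CochainComplex X.Modules ℤ) (c : ℤ)
    (hEc : ∀ i : ℤ, i < c → IsZero (E.homology i)) (hFc : ∀ i : ℤ, i < c → IsZero (F.homology i))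
    (hE : ∀ m : ℤ, DCoh.IsPseudoCoherentD m (DerivedCategory.Q.obj E))
    (hF : ∀ m : ℤ, DCoh.IsPseudoCoherentD m (DerivedCategory.Q.obj F))
    (φ : DerivedCategory.Q.obj ((stalkC x).obj E) ≅ DerivedCategory.Q.obj ((stalkC x).obj F)) :
    ∃ (U : Scheme.{u}) (j : U ⟶ X) (_ : IsOpenImmersion j) (y : U), j y = x ∧
      Nonempty (DerivedCategory.Q.obj ((resC j).obj E) ≅
        DerivedCategory.Q.obj ((resC j).obj F)) := by
  -- a presentation of `E` near `x`
  obtain ⟨U₁, j₁, hj₁, hx₁, P, β, hP, hβ⟩ := exists_chain_pres E (c - 2) x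
    ((isPseudoCoherentD_iff_hasPresM _ _).1 (hE (c - 2)) x)
  haveI := hj₁
  obtain ⟨y₁, rfl⟩ : ∃ y : U₁, j₁ y = x := hx₁
  obtain ⟨φ₁⟩ := nonempty_stalk_iso_resC j₁ y₁ E F φ
  -- a chain map on stalks
  haveI := isKProjective_stalkC P hP y₁
  obtain ⟨γ, hγ⟩ := DT.Q_map_surjective ((stalkC y₁).obj P)
    ((stalkC y₁).obj ((resC j₁).obj F))
    (DerivedCategory.Q.map ((stalkC y₁).map β) ≫ φ₁.hom)
  have hγP : PropM (c - 2) (DerivedCategory.Q.map γ) := by
    rw [hγ]
    exact propM_comp _ (propM_Q_map_mapHC (stalkFun y₁) β _ hβ) (propM_of_isIso _ _)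
  -- spreading out
  obtain ⟨U₂, j₂, hj₂, y₂, hy₂, β₂, ⟨H⟩⟩ := exists_lift_unit hP y₁ γ
  haveI := hj₂
  subst hy₂
  obtain ⟨H'⟩ := nonempty_homotopy_stalk_of_lift j₂ y₂ γ β₂ H
  have hβ₂ : PropM (c - 2) (DerivedCategory.Q.map ((stalkC y₂).map β₂)) := by
    have h1 := propM_ext_stalkMap j₂ y₂ γ (c - 2) hγP
    have h2 := DT.Q_map_eq_of_homotopy H'
    rw [Functor.map_comp, Functor.map_comp] at h2
    have h3 : DerivedCategory.Q.map ((stalkC y₂).map β₂) =
        DerivedCategory.Q.map (stalkCResIso j₂ y₂ P).hom ≫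
          DerivedCategory.Q.map (((KBC.ext (j₂.stalkMap y₂).hom).mapHomologicalComplex
            (ComplexShape.up ℤ)).map γ) ≫
          DerivedCategory.Q.map (stalkCResIso j₂ y₂ ((resC j₁).obj F)).inv := by
      rw [← Category.assoc, ← h2, Category.assoc, ← Functor.map_comp, Iso.hom_inv_id,
        CategoryTheory.Functor.map_id, Category.comp_id]
    rw [h3]
    exact propM_comp _ (propM_of_isIso _ _) (propM_comp _ h1 (propM_of_isIso _ _))
  -- the map is a quasi-isomorphism in high degrees near the point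
  have hpcP : ∀ m : ℤ, DCoh.IsPseudoCoherentD m (DerivedCategory.Q.obj ((resC j₂).obj P)) :=
    fun m => (isPseudoCoherentD_iff_hasPresM _ _).2
      (fun z => hasPresM_Q_of_isStrictlyPerfect _ (isStrictlyPerfect_resC j₂ P hP) m z)
  have hpcF : ∀ m : ℤ, DCoh.IsPseudoCoherentD m
      (DerivedCategory.Q.obj ((resC j₂).obj ((resC j₁).obj F))) :=
    fun m => isPseudoCoherentD_Q_resC j₂ _ m (isPseudoCoherentD_Q_resC j₁ F m (hF m))
  obtain ⟨U₃, j₃, hj₃, y₃, hy₃, hg⟩ := exists_propM_resC_of_stalk β₂ hpcP hpcF y₂ (c - 2) hβ₂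
  haveI := hj₃
  subst hy₃
  -- conclusion
  have hβ₃ : PropM (c - 2) (DerivedCategory.Q.map ((resC j₃).map ((resC j₂).map β))) :=
    propM_Q_map_mapHC (Scheme.Modules.restrictFunctor j₃) _ _
      (propM_Q_map_mapHC (Scheme.Modules.restrictFunctor j₂) β _ hβ)
  have hz : ∀ (G : CochainComplex X.Modules ℤ), (∀ i : ℤ, i < c → IsZero (G.homology i)) →
      ∀ i : ℤ, i < c →
        IsZero (((resC j₃).obj ((resC j₂).obj ((resC j₁).obj G))).homology i) :=
    fun G hG i hi => isZero_homology_resC j₃ _ i (isZero_homology_resC j₂ _ i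
      (isZero_homology_resC j₁ G i (hG i hi)))
  obtain ⟨e⟩ := nonempty_Q_iso_of_propM ((resC j₃).map ((resC j₂).map β)) ((resC j₃).map β₂) c
    hβ₃ hg (hz E hEc) (hz F hFc)
  have τ : ∀ G : CochainComplex X.Modules ℤ, (resC (j₃ ≫ j₂ ≫ j₁)).obj G ≅
      (resC j₃).obj ((resC j₂).obj ((resC j₁).obj G)) := fun G =>
    (resCComp j₃ (j₂ ≫ j₁)).app G ≪≫ (resC j₃).mapIso ((resCComp j₂ j₁).app G)
  exact ⟨U₃, j₃ ≫ j₂ ≫ j₁, inferInstance, y₃, rfl,
    ⟨DerivedCategory.Q.mapIso (τ E) ≪≫ e ≪≫ (DerivedCategory.Q.mapIso (τ F)).symm⟩⟩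

end Groth.Agent.Lib.Helper1.Germ
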