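import Mathlib
import Groth.Agent.Lib.Helper1GermE
set_option backward.isDefEq.respectTransparency.types false

/-!
# Pseudo-coherent complexes with isomorphic stalks at a point: opens version (helper1)
-/

set_option autoImplicit false
set_option linter.style.haveILetI false
set_option maxHeartbeats 400000
universe u
open CategoryTheory CategoryTheory.Limits AlgebraicGeometry HomologicalComplex

attribute [local instance] HasDerivedCategory.standard

namespace Groth.Agent.Lib.Helper1.Germ

open Groth.Agent.Lib.Helper1.Sky Groth.Agent.Lib.Helper1.StalkTensor Groth.Agent.Lib.Helper1.KBC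
  Groth.Agent.Lib.Helper1.SPL Groth.Agent.Lib.Helper1.TQ

variable {X : Scheme.{u}}

/-- isomorphisms in the derived category of an open subscheme restrict to smaller opens -/
lemma nonempty_Q_resC_iso_of_factor {U U' : Scheme.{u}} (j : U ⟶ X) (j' : U' ⟶ X) (i : U' ⟶ U)
    [IsOpenImmersion j] [IsOpenImmersion j'] [IsOpenImmersion i] (hi : i ≫ j = j')
    (E F : CochainComplex X.Modules ℤ)
    (h : Nonempty (DerivedCategory.Q.obj ((resC j).obj E) ≅
      DerivedCategory.Q.obj ((resC j).obj F))) :
    Nonempty (DerivedCategory.Q.obj ((resC j').obj E) ≅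
      DerivedCategory.Q.obj ((resC j').obj F)) := by
  subst hi
  obtain ⟨e⟩ := h
  exact ⟨DerivedCategory.Q.mapIso ((resCComp i j).app E) ≪≫ ((facD i).app _).symm ≪≫
    (resD i).mapIso e ≪≫ (facD i).app _ ≪≫ (DerivedCategory.Q.mapIso ((resCComp i j).app F)).symm⟩

/-- opens version of `exists_resC_iso_of_stalk_iso`, with the prelude's stalk functor -/
theorem exists_opens_restrictCx_iso (x : X) (E F : CochainComplex X.Modules ℤ) (c : ℤ)
    (hEc : ∀ i : ℤ, i < c → IsZero (E.homology i)) (hFc : ∀ i : ℤ, i < c → IsZero (F.homology i))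
    (hE : ∀ m : ℤ, DCoh.IsPseudoCoherentD m (DerivedCategory.Q.obj E))
    (hF : ∀ m : ℤ, DCoh.IsPseudoCoherentD m (DerivedCategory.Q.obj F))
    (hx : Nonempty (DRing.toD (((DerSch.stalkFunctor X x).mapHomologicalComplex
        (ComplexShape.up ℤ)).obj E) ≅
      DRing.toD (((DerSch.stalkFunctor X x).mapHomologicalComplex (ComplexShape.up ℤ)).obj F))) :
    ∃ U : X.Opens, x ∈ U ∧
      Nonempty (DerivedCategory.Q.obj ((DCoh.restrictCx U).obj E) ≅
        DerivedCategory.Q.obj ((DCoh.restrictCx U).obj F)) := by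
  obtain ⟨φ₀⟩ := hx
  let s : ∀ G : CochainComplex X.Modules ℤ,
      ((DerSch.stalkFunctor X x).mapHomologicalComplex (ComplexShape.up ℤ)).obj G ≅
        (stalkC x).obj G := fun G =>
    (NatIso.mapHomologicalComplex (stalkFunctorIso (X := X) x) (ComplexShape.up ℤ)).app G
  let φ : DerivedCategory.Q.obj ((stalkC x).obj E) ≅ DerivedCategory.Q.obj ((stalkC x).obj F) :=
    (DerivedCategory.Q.mapIso (s E)).symm ≪≫ φ₀ ≪≫ DerivedCategory.Q.mapIso (s F)
  obtain ⟨U, j, hj, y, rfl, he⟩ := exists_resC_iso_of_stalk_iso x E F c hEc hFc hE hF φ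
  haveI := hj
  exact ⟨j.opensRange, ⟨y, rfl⟩,
    nonempty_Q_resC_iso_of_factor j j.opensRange.ι j.isoOpensRange.inv (by simp) E F he⟩

end Groth.Agent.Lib.Helper1.Germ
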