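import Mathlib
import Groth.Agent.Lib.Helper1TorT4
import Groth.Agent.Lib.Helper1Fibres
import Groth.Agent.Lib.Helper1GlDim
import Groth.Agent.Lib.Helper1TorG
set_option backward.isDefEq.respectTransparency.types false

/-!
# Perfectness from finite global dimension of the fibres (helper1)
-/

set_option autoImplicit false
set_option linter.style.haveILetI false
set_option maxHeartbeats 400000
universe u
open CategoryTheory CategoryTheory.Limits MonoidalCategory HomologicalComplex TensorProduct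
attribute [local instance] HasDerivedCategory.standard

namespace Groth.Agent.Lib.Helper1.GlFib

open DerivedCategory Groth.Agent.Lib.Helper1.KF Groth.Agent.Lib.Helper1.Tor
  Groth.Agent.Lib.Helper1.DT Groth.Agent.Lib.Helper1.TensPerf Groth.Agent.Lib.Helper1.KBC
  Groth.Agent.Lib.Helper1.Restrict Groth.Agent.Lib.Helper1.LDer Groth.Agent.Lib.Helper1.TorO
  Groth.Agent.Lib.Helper1.RelPC Groth.Agent.Lib.Helper1.TorM Groth.Agent.Lib.Helper1.TorT
  Groth.Agent.Lib.Helper1.LocalCx Groth.Agent.Lib.Helper1.RelBC Groth.Agent.Lib.Helper1.TQ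

section PD

variable {C : Type u} [CommRing C]

/-- if `W` is K-flat with cohomology in `[a, b]` and `M` has projective dimension `≤ d` then
`M ⊗ W` has cohomology in `[a - d, b]` -/
theorem exactAt_TC_of_pd (W : Cx C) (hW : KFlat W) (a b : ℤ) [W.IsGE a] [W.IsLE b]
    (M : ModuleCat.{u} C) (d : ℕ) (hM : HasProjectiveDimensionLT M (d + 1)) (i : ℤ)
    (hi : i < a - d ∨ b < i) : ((TC M).obj W).ExactAt i := by
  obtain ⟨Pr, hPr, hproj, ⟨e⟩⟩ := Groth.Agent.Lib.Helper1.GlDim.projAmp_single_zero M d hM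
  haveI : Pr.IsKProjective :=
    isKProjective_of_vanishesAbove Pr 0 (fun i hi => hPr i (Or.inr hi)) hproj
  have hPrK : KFlat Pr := kflat_of_isKProjective Pr
  let e' : Q.obj Pr ≅ Q.obj (sgl M) :=
    e ≪≫ (DerivedCategory.singleFunctorIsoCompQ (ModuleCat.{u} C) 0).app M
  obtain ⟨g, hg⟩ := Q_map_surjective Pr (sgl M) e'.hom
  have hgi : IsIso (Q.map g) := by rw [hg]; infer_instance
  have hgq : QuasiIso g := (DerivedCategory.isIso_Q_map_iff_quasiIso (φ := g)).1 hgi
  have q1 : QuasiIso (g ▷ W) := quasiIso_whiskerRight_of_kflat g W hW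
  have h1 : (W ⊗ Pr).ExactAt i := by
    rcases hi with hi | hi
    · exact Groth.Agent.Lib.Helper1.RelPT.exactAt_tensor_of_isGE W Pr a (-(d : ℤ)) hPrK
        (fun q hq => hPr q (Or.inl hq)) i (by lia)
    · exact Groth.Agent.Lib.Helper1.RelPT.exactAt_tensor_of_isLE W Pr b 0 hPrK
        (fun q hq => hPr q (Or.inr hq)) i (by lia)
  have h2 : (Pr ⊗ W).ExactAt i := (exactAt_of_iso (DTen.braidCx Pr W) i).2 h1
  have h3 : (sgl M ⊗ W).ExactAt i := (exactAt_of_quasiIso (g ▷ W) i).1 h2
  exact (exactAt_of_iso (singleTensorIso M W) i).2 h3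

end PD

section Main

variable {A B : Type u} [CommRing A] [CommRing B] [Algebra A B]

/-- the ring map `κ(p) ⊗[A] B → B ⧸ m` for a maximal ideal `m` of `B` over `p` -/
noncomputable def fibreToQuot (m : Ideal B) [hm : m.IsMaximal] :
    (m.comap (algebraMap A B)).ResidueField ⊗[A] B →ₐ[A] B ⧸ m :=
  letI := Ideal.Quotient.field m
  Algebra.TensorProduct.lift
    (Ideal.ResidueField.liftₐ (m.comap (algebraMap A B)) (Algebra.ofId A (B ⧸ m))
      (fun x hx => by
        rw [RingHom.mem_ker]
        show algebraMap A (B ⧸ m) x = 0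
        rw [IsScalarTower.algebraMap_apply A B (B ⧸ m)]
        exact Ideal.Quotient.eq_zero_iff_mem.2 hx)
      (fun x hx => by
        show IsUnit (algebraMap A (B ⧸ m) x)
        rw [isUnit_iff_ne_zero, IsScalarTower.algebraMap_apply A B (B ⧸ m)]
        intro h0
        exact hx (Ideal.mem_comap.2 ((Ideal.Quotient.eq_zero_iff_mem (I := m)).1 h0))))
    (IsScalarTower.toAlgHom A B (B ⧸ m)) (fun _ _ => Commute.all _ _)

lemma fibreToQuot_comp (m : Ideal B) [hm : m.IsMaximal] :
    Ideal.Quotient.mk m = (fibreToQuot (A := A) m).toRingHom.comp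
      (inr A (m.comap (algebraMap A B)).ResidueField B) := by
  ext x
  simp [fibreToQuot, inr]

theorem isPerfect_of_flat_fibres [Module.Flat A B] (d : ℕ)
    (hgl : ∀ (p : PrimeSpectrum A) (M : Type u) [AddCommGroup M]
      [Module (TensorProduct A p.asIdeal.ResidueField B) M],
      HasProjectiveDimensionLT (ModuleCat.of (TensorProduct A p.asIdeal.ResidueField B) M) (d + 1))
    (a b : ℤ) (K : Dual.D B) (hK : DRing.IsPseudoCoherent' B K)
    (hKa : DRing.HasTorAmplitudeIn A a b ((DRing.restrictD (algebraMap A B)).obj K)) :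
    DRing.IsPerfect B K ∧ DRing.HasTorAmplitudeIn B (a - d) b K := by
  have hK' := hK
  obtain ⟨F, bF, hFb, hFf, ⟨eF⟩⟩ := hK
  have hflat : (algebraMap A B).Flat := RingHom.flat_algebraMap_iff.2 inferInstance
  set F' := (DRing.restrictCx (algebraMap A B)).obj F with hF'
  have hF'b : DRing.VanishesAbove F' bF := fun i hi =>
    (ModuleCat.restrictScalars.{u} (algebraMap A B)).map_isZero (hFb i hi)
  have hF'f : DRing.TermwiseFlat F' := fun i => by
    have := (hFf i).2
    have : Module.Flat B (F.X i) := inferInstance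
    exact flat_restrictScalars_of_flat (algebraMap A B) hflat (F.X i)
  obtain ⟨G, hG, hGf, ⟨eG⟩⟩ := hKa
  have eF' : Q.obj G ≅ Q.obj F' :=
    eG ≪≫ (DRing.restrictD (algebraMap A B)).mapIso eF.symm ≪≫ restrictQIso (algebraMap A B) F
  have htv : TorVan F' a b := torVan_of_iso F' G bF hF'b hF'f a b hG hGf eF'
  have hamp : DRing.HasTorAmplitudeIn B (a - d) b (DRing.toD F) := by
    refine hasTorAmp_of_fibres F bF hFb hFf (a - d) b (fun m _ i hi => ?_)
    let p : PrimeSpectrum A := ⟨m.comap (algebraMap A B), inferInstance⟩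
    let κ := p.asIdeal.ResidueField
    let θ : κ ⊗[A] B →+* B ⧸ m := (fibreToQuot (A := A) m).toRingHom
    have hθ : Ideal.Quotient.mk m = θ.comp (inr A κ B) := fibreToQuot_comp m
    let FC := (bcCx (inr A κ B)).obj F
    have e1 : (bcCx (Ideal.Quotient.mk m)).obj F ≅ (bcCx θ).obj FC :=
      bcCxEqIso hθ F ≪≫ bcCxCompIso (inr A κ B) θ F
    refine (exactAt_of_iso e1 i).2 ?_
    rw [exactAt_bc_iff_TC]
    have htvC := torVan_res_bc (R := A) (R' := κ) F a b htv
    have hFCex : ∀ j, (j < a ∨ b < j) → FC.ExactAt j := fun j hj =>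
      (exactAt_restrict_iff _ FC j).1 (htvC.exactAt j hj)
    haveI : FC.IsGE a := by
      rw [CochainComplex.isGE_iff]
      exact fun j hj => hFCex j (Or.inl hj)
    haveI : FC.IsLE b := by
      rw [CochainComplex.isLE_iff]
      exact fun j hj => hFCex j (Or.inr hj)
    have hFCK : KFlat FC := kflat_of_boundedAbove_flat FC bF (vanishesAbove_bc _ F bF hFb)
      (fun i => by
        have := (termwiseFiniteFree_bc (inr A κ B) F hFf i).2
        infer_instance)
    let M0 : ModuleCat.{u} (κ ⊗[A] B) :=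
      (ModuleCat.restrictScalars.{u} θ).obj (ModuleCat.of (B ⧸ m) (B ⧸ m))
    have hpd : HasProjectiveDimensionLT M0 (d + 1) := hgl p M0
    exact exactAt_TC_of_pd FC hFCK a b M0 d hpd i hi
  have hamp' : DRing.HasTorAmplitudeIn B (a - d) b K := hasTorAmp_of_iso eF hamp
  obtain ⟨E, hE, hEp, hiso⟩ := exists_finiteProjective_of_pc_of_torAmp K hK' (a - d) b hamp'
  exact ⟨⟨E, a - d, b, hE, hEp, hiso⟩, hamp'⟩

end Main

end Groth.Agent.Lib.Helper1.GlFib
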