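import Mathlib
import Groth.Agent.Lib.Helper1GlFib
set_option backward.isDefEq.respectTransparency.types false

/-!
# Perfectness from a regular closed fibre of a flat local homomorphism (helper1)
-/

set_option autoImplicit false
set_option linter.style.haveILetI false
set_option maxHeartbeats 400000
universe u
open CategoryTheory CategoryTheory.Limits MonoidalCategory HomologicalComplex TensorProduct
attribute [local instance] HasDerivedCategory.standard

namespace Groth.Agent.Lib.Helper1.GlFib

open DerivedCategory Groth.Agent.Lib.Helper1.KF Groth.Agent.Lib.Helper1.Tor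
  Groth.Agent.Lib.Helper1.DT Groth.Agent.Lib.Helper1.TensPerf Groth.Agent.Lib.Helper1.KBC
  Groth.Agent.Lib.Helper1.Restrict Groth.Agent.Lib.Helper1.LDer Groth.Agent.Lib.Helper1.TorO
  Groth.Agent.Lib.Helper1.RelPC Groth.Agent.Lib.Helper1.TorM Groth.Agent.Lib.Helper1.TorT
  Groth.Agent.Lib.Helper1.LocalCx Groth.Agent.Lib.Helper1.RelBC Groth.Agent.Lib.Helper1.TQ

attribute [local instance] Algebra.TensorProduct.rightAlgebra

section PerModule

variable {R R' A : Type u} [CommRing R] [CommRing R'] [CommRing A] [Algebra R R'] [Algebra R A]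

/-- per-module version of `torVan_res_bc` -/
lemma exactAt_TC_res_bc (P : DRing.Cx A) (N' : ModuleCat.{u} R') (i : ℤ)
    (h : ((TC (RN (R := R) N')).obj ((DRing.restrictCx (algebraMap R A)).obj P)).ExactAt i) :
    ((TC N').obj ((DRing.restrictCx (algebraMap R' (R' ⊗[R] A))).obj
      ((bcCx (inr R R' A)).obj P))).ExactAt i := by
  rw [exactAt_TC_iff N' _ (i - 1) i (i + 1) (by lia) rfl]
  rw [exactAt_TC_iff _ _ (i - 1) i (i + 1) (by lia) rfl] at h
  exact exact_transfer N' (P.d (i - 1) i) (P.d i (i + 1)) h

/-- tensoring with the ring itself does not change exactness -/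
lemma exactAt_of_TC_unit {S : Type u} [CommRing S] (K : DRing.Cx S) (i : ℤ)
    (h1 : ((TC (ModuleCat.of S S)).obj K).ExactAt i) : K.ExactAt i := by
  rw [exactAt_TC_iff _ K (i - 1) i (i + 1) (by lia) rfl] at h1
  rw [exactAt_iff_fexact K (i - 1) i (i + 1) (by lia) rfl]
  refine Function.Exact.of_ladder_linearEquiv_of_exact (e₁ := TensorProduct.lid S _)
    (e₂ := TensorProduct.lid S _) (e₃ := TensorProduct.lid S _) ?_ ?_ h1
  · ext x
    simp
  · ext x
    simp

end PerModule

section Local

open IsLocalRing

variable {A B : Type u} [CommRing A] [CommRing B] [IsLocalRing A] [IsLocalRing B] [Algebra A B]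
  [IsLocalHom (algebraMap A B)]

/-- the ring map `κ_A ⊗[A] B → κ_B` -/
noncomputable def fibreToRes : ResidueField A ⊗[A] B →ₐ[A] ResidueField B :=
  Algebra.TensorProduct.lift (IsScalarTower.toAlgHom A (ResidueField A) (ResidueField B))
    (IsScalarTower.toAlgHom A B (ResidueField B)) (fun _ _ => Commute.all _ _)

lemma fibreToRes_comp :
    IsLocalRing.residue B = (fibreToRes (A := A) (B := B)).toRingHom.comp
      (inr A (ResidueField A) B) := by
  ext x
  simp [fibreToRes, inr]

/-- the closed fibre ring in its two guises -/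
noncomputable def fibreEquiv :
    (B ⧸ (maximalIdeal A).map (algebraMap A B)) ≃+* ResidueField A ⊗[A] B :=
  (Algebra.TensorProduct.quotIdealMapEquivQuotTensor B (maximalIdeal A)).toRingEquiv

theorem isPerfect_of_flat_local_regular_fibre [Module.Flat A B] (d : ℕ)
    [IsRegularLocalRing (B ⧸ (maximalIdeal A).map (algebraMap A B))]
    (hd : ringKrullDim (B ⧸ (maximalIdeal A).map (algebraMap A B)) = d)
    [DRing.HasLBaseChange (IsLocalRing.residue A)] (a b : ℤ) (K : Dual.D B)
    (hK : DRing.IsPseudoCoherent' B K)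
    (h : ∀ i : ℤ, (i < a ∨ b < i) → Subsingleton (Dual.HD (ResidueField A)
      ((DRing.LBaseChange (IsLocalRing.residue A)).obj
        ((DRing.restrictD (algebraMap A B)).obj K)) i)) :
    DRing.IsPerfect B K ∧ DRing.HasTorAmplitudeIn B (a - d) b K := by
  have hK' := hK
  obtain ⟨F, bF, hFb, hFf, ⟨eF⟩⟩ := hK
  have hflat : (algebraMap A B).Flat := RingHom.flat_algebraMap_iff.2 inferInstance
  set F' := (DRing.restrictCx (algebraMap A B)).obj F with hF'
  have hF'b : DRing.VanishesAbove F' bF := fun i hi =>
    (ModuleCat.restrictScalars.{u} (algebraMap A B)).map_isZero (hFb i hi)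
  have hF'f : DRing.TermwiseFlat F' := fun i => by
    have := (hFf i).2
    have : Module.Flat B (F.X i) := inferInstance
    exact flat_restrictScalars_of_flat (algebraMap A B) hflat (F.X i)
  -- a projective resolution of `F'`
  haveI : F'.IsStrictlyLE bF := by
    rw [CochainComplex.isStrictlyLE_iff]
    exact hF'b
  obtain ⟨P, p, hp, hPproj, hPle⟩ := Groth.Agent.Lib.Helper1.ProjRes.exists_proj_res F' bF
  have hPb : DRing.VanishesAbove P bF := fun i hi => P.isZero_of_isStrictlyLE bF i hi
  have hPp : ∀ k : ℤ, Module.Projective A (P.X k) := fun k => by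
    have := hPproj k
    exact ModuleCat.projective_of_module_projective _
  have hPf : DRing.TermwiseFlat P := fun k => by
    have := hPp k
    infer_instance
  haveI : P.IsKProjective := isKProjective_of_vanishesAbove P bF hPb hPp
  have hpi : IsIso (Q.map p) := (DerivedCategory.isIso_Q_map_iff_quasiIso (φ := p)).2 hp
  have hpbc : IsIso (Q.map ((bcCx (IsLocalRing.residue A)).map p)) :=
    isIso_Q_map_bc (IsLocalRing.residue A) p bF bF hPb hF'b hPf hF'f hpi
  have eL : (DRing.LBaseChange (IsLocalRing.residue A)).obj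
      ((DRing.restrictD (algebraMap A B)).obj K) ≅
      Q.obj ((bcCx (IsLocalRing.residue A)).obj F') :=
    (DRing.LBaseChange (IsLocalRing.residue A)).mapIso
      ((DRing.restrictD (algebraMap A B)).mapIso eF.symm ≪≫ restrictQIso (algebraMap A B) F ≪≫
        (asIso (Q.map p)).symm) ≪≫ lbcIso (IsLocalRing.residue A) P ≪≫
      asIso (Q.map ((bcCx (IsLocalRing.residue A)).map p))
  have hex0 : ∀ i : ℤ, (i < a ∨ b < i) → ((bcCx (IsLocalRing.residue A)).obj F').ExactAt i := by
    intro i hi
    have := h i hi
    have hz : IsZero ((DerivedCategory.homologyFunctor (ModuleCat.{u} (ResidueField A)) i).obj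
        ((DRing.LBaseChange (IsLocalRing.residue A)).obj
          ((DRing.restrictD (algebraMap A B)).obj K))) := ModuleCat.isZero_of_subsingleton _
    have hz2 := hz.of_iso (((DerivedCategory.homologyFunctorFactors _ i).app _).symm ≪≫
      (DerivedCategory.homologyFunctor _ i).mapIso eL.symm)
    exact (HomologicalComplex.exactAt_iff_isZero_homology _ _).2 hz2
  have hamp : DRing.HasTorAmplitudeIn B (a - d) b (DRing.toD F) := by
    refine hasTorAmp_of_fibres F bF hFb hFf (a - d) b (fun m hm i hi => ?_)
    obtain rfl : m = maximalIdeal B := IsLocalRing.eq_maximalIdeal hm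
    let κ := ResidueField A
    let θ : κ ⊗[A] B →+* ResidueField B := (fibreToRes (A := A) (B := B)).toRingHom
    have hθ : IsLocalRing.residue B = θ.comp (inr A κ B) := fibreToRes_comp
    let FC := (bcCx (inr A κ B)).obj F
    have e1 : (bcCx (Ideal.Quotient.mk (maximalIdeal B))).obj F ≅ (bcCx θ).obj FC :=
      bcCxEqIso hθ F ≪≫ bcCxCompIso (inr A κ B) θ F
    refine (exactAt_of_iso e1 i).2 ?_
    refine (exactAt_bc_iff_TC θ FC i).2 ?_
    have hFCex : ∀ j, (j < a ∨ b < j) → FC.ExactAt j := fun j hj => by
      have h1 := (exactAt_bc_iff_TC (IsLocalRing.residue A) F' j).1 (hex0 j hj)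
      have h2 := exactAt_TC_res_bc (R := A) (R' := κ) F (ModuleCat.of κ κ) j h1
      exact (exactAt_restrict_iff _ FC j).1 (exactAt_of_TC_unit _ j h2)
    haveI : FC.IsGE a := by
      rw [CochainComplex.isGE_iff]
      exact fun j hj => hFCex j (Or.inl hj)
    haveI : FC.IsLE b := by
      rw [CochainComplex.isLE_iff]
      exact fun j hj => hFCex j (Or.inr hj)
    have hFCK : KFlat FC := kflat_of_boundedAbove_flat FC bF (vanishesAbove_bc _ F bF hFb)
      (fun i => by
        have := (termwiseFiniteFree_bc (inr A κ B) F hFf i).2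
        infer_instance)
    let M0 : ModuleCat.{u} (κ ⊗[A] B) :=
      (ModuleCat.restrictScalars.{u} θ).obj (ModuleCat.of (ResidueField B) (ResidueField B))
    haveI : IsRegularLocalRing (κ ⊗[A] B) :=
      IsRegularLocalRing.of_ringEquiv (fibreEquiv (A := A) (B := B))
    have hd' : ringKrullDim (κ ⊗[A] B) = d := by
      rw [← ringKrullDim_eq_of_ringEquiv (fibreEquiv (A := A) (B := B))]
      exact hd
    have hpd : HasProjectiveDimensionLT M0 (d + 1) :=
      Groth.Agent.S0563.result (κ ⊗[A] B) d hd' M0
    exact exactAt_TC_of_pd FC hFCK a b M0 d hpd i hi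
  have hamp' : DRing.HasTorAmplitudeIn B (a - d) b K := hasTorAmp_of_iso eF hamp
  obtain ⟨E, hE, hEp, hiso⟩ := exists_finiteProjective_of_pc_of_torAmp K hK' (a - d) b hamp'
  exact ⟨⟨E, a - d, b, hE, hEp, hiso⟩, hamp'⟩

end Local

end Groth.Agent.Lib.Helper1.GlFib
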