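import Mathlib
import Groth.Agent.Lib.Helper1Glue2A
set_option backward.isDefEq.respectTransparency.types false

/-!
# helper1: gluing objects of the derived category on two opens
-/

set_option autoImplicit false
set_option linter.style.haveILetI false
set_option linter.unusedSectionVars false
set_option maxHeartbeats 400000
universe u
open CategoryTheory CategoryTheory.Limits AlgebraicGeometry HomologicalComplex

attribute [local instance] HasDerivedCategory.standard

namespace Groth.Agent.Lib.Helper1.Glue2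

open Groth.Agent.Lib.Helper1.PT Groth.Agent.Lib.Helper1.Proj Groth.Agent.Lib.Helper1.BKF
  Groth.Agent.Lib.Helper1.ClProj Groth.Agent.Lib.Helper1.Sky Groth.Agent.Lib.Helper1.KBC
  Groth.Agent.Lib.Helper1.SPL Groth.Agent.Lib.Helper1.TQ Groth.Agent.Lib.Helper1.Germ
  Groth.Agent.Lib.Helper1.RpushRes Groth.Agent.Lib.Helper17.KInj Groth.Agent.Lib.Helper1.DAdj
  Groth.Agent.Lib.Helper1.PerfProj

section restrictD

variable {X U : Scheme.{u}} (j : U ⟶ X) [IsOpenImmersion j]

/-- a map of complexes which restricts to a quasi-isomorphism becomes invertible under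
`restrictD` -/
theorem isIso_restrictD_map_Q_map {K L : CochainComplex X.Modules ℤ} (φ : K ⟶ L)
    (h : QuasiIso ((resC j).map φ)) :
    IsIso ((DCoh.restrictD j).map (DerivedCategory.Q.map φ)) := by
  have nat := (Scheme.Modules.restrictFunctor j).mapDerivedCategoryFactors.hom.naturality φ
  haveI : IsIso (DerivedCategory.Q.map ((resC j).map φ)) := by
    rw [DerivedCategory.isIso_Q_map_iff_quasiIso]
    exact h
  have h3 : (DCoh.restrictD j).map (DerivedCategory.Q.map φ) =
      (Scheme.Modules.restrictFunctor j).mapDerivedCategoryFactors.hom.app K ≫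
        DerivedCategory.Q.map ((resC j).map φ) ≫
        (Scheme.Modules.restrictFunctor j).mapDerivedCategoryFactors.inv.app L := by
    have nat' : (DCoh.restrictD j).map (DerivedCategory.Q.map φ) ≫
        (Scheme.Modules.restrictFunctor j).mapDerivedCategoryFactors.hom.app L =
        (Scheme.Modules.restrictFunctor j).mapDerivedCategoryFactors.hom.app K ≫
          DerivedCategory.Q.map ((resC j).map φ) := nat
    rw [← Category.assoc, ← nat', Category.assoc, Iso.hom_inv_id_app]
    exact (Category.comp_id _).symm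
  rw [h3]
  infer_instance

end restrictD

section main

variable {X : Scheme.{u}} (U V : X.Opens) {W : Scheme.{u}}
  (a : W ⟶ (U : Scheme.{u})) (b : W ⟶ (V : Scheme.{u})) [IsOpenImmersion a] [IsOpenImmersion b]

/-- gluing two objects of the derived categories of two opens `U`, `V` along an open `W` mapping
to both and containing `U ∩ V` -/
theorem exists_glue_general (hab : a ≫ U.ι = b ≫ V.ι)
    (hb : V.ι ⁻¹ᵁ U ≤ b.opensRange) (ha : U.ι ⁻¹ᵁ V ≤ a.opensRange)
    (A : DCoh.D (U : Scheme.{u})) (B : DCoh.D (V : Scheme.{u}))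
    (c : (DCoh.restrictD a).obj A ≅ (DCoh.restrictD b).obj B) :
    ∃ F : DCoh.D X, Nonempty ((DCoh.restrictD U.ι).obj F ≅ A) ∧
      Nonempty ((DCoh.restrictD V.ι).obj F ≅ B) := by
  -- K-injective representatives
  obtain ⟨IA, hIA, ⟨eA⟩⟩ : ∃ IA : CochainComplex (U : Scheme.{u}).Modules ℤ,
      IA.IsKInjective ∧ Nonempty (DerivedCategory.Q.obj IA ≅ A) := by
    refine ⟨(Rr (U : Scheme.{u})).obj (DerivedCategory.Q.objPreimage A), inferInstance, ⟨?_⟩⟩
    haveI : IsIso (DerivedCategory.Q.map
        ((rho (U : Scheme.{u})).app (DerivedCategory.Q.objPreimage A))) := by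
      rw [DerivedCategory.isIso_Q_map_iff_quasiIso]
      infer_instance
    exact (asIso (DerivedCategory.Q.map
      ((rho (U : Scheme.{u})).app (DerivedCategory.Q.objPreimage A)))).symm ≪≫
        DerivedCategory.Q.objObjPreimageIso A
  obtain ⟨IB, hIB, ⟨eB⟩⟩ : ∃ IB : CochainComplex (V : Scheme.{u}).Modules ℤ,
      IB.IsKInjective ∧ Nonempty (DerivedCategory.Q.obj IB ≅ B) := by
    refine ⟨(Rr (V : Scheme.{u})).obj (DerivedCategory.Q.objPreimage B), inferInstance, ⟨?_⟩⟩
    haveI : IsIso (DerivedCategory.Q.map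
        ((rho (V : Scheme.{u})).app (DerivedCategory.Q.objPreimage B))) := by
      rw [DerivedCategory.isIso_Q_map_iff_quasiIso]
      infer_instance
    exact (asIso (DerivedCategory.Q.map
      ((rho (V : Scheme.{u})).app (DerivedCategory.Q.objPreimage B)))).symm ≪≫
        DerivedCategory.Q.objObjPreimageIso B
  haveI := hIA
  haveI := hIB
  haveI hKA : ((resC a).obj IA).IsKInjective := isKInjective_resC a IA
  haveI hKB : ((resC b).obj IB).IsKInjective := isKInjective_resC b IB
  -- the gluing isomorphism on the level of complexes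
  let c' : DerivedCategory.Q.obj ((resC a).obj IA) ≅ DerivedCategory.Q.obj ((resC b).obj IB) :=
    ((Scheme.Modules.restrictFunctor a).mapDerivedCategoryFactors.app IA).symm ≪≫
      (DCoh.restrictD a).mapIso eA ≪≫ c ≪≫ (DCoh.restrictD b).mapIso eB.symm ≪≫
      (Scheme.Modules.restrictFunctor b).mapDerivedCategoryFactors.app IB
  obtain ⟨γ, hγ⟩ := exists_Q_map_eq c'.hom
  haveI hγq : QuasiIso γ := by
    rw [← DerivedCategory.isIso_Q_map_iff_quasiIso, hγ]
    infer_instance
  obtain ⟨e, he⟩ := homotopyEquiv_of_quasiIso γ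
  -- the comparison of the two pushforwards from `W`
  let θ : Scheme.Modules.pushforward a ⋙ Scheme.Modules.pushforward U.ι ≅
      Scheme.Modules.pushforward b ⋙ Scheme.Modules.pushforward V.ι :=
    Scheme.Modules.pushforwardComp a U.ι ≪≫ Scheme.Modules.pushforwardCongr hab ≪≫
      (Scheme.Modules.pushforwardComp b V.ι).symm
  let κ : (pushC U.ι).obj ((pushC a).obj ((resC b).obj IB)) ≅
      (pushC V.ι).obj ((pushC b).obj ((resC b).obj IB)) :=
    HomologicalComplex.Hom.isoOfComponents (fun i => θ.app (((resC b).obj IB).X i))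
      (fun i k _ => (θ.hom.naturality (((resC b).obj IB).d i k)).symm)
  -- the two maps
  let rB : (pushC V.ι).obj IB ⟶ (pushC V.ι).obj ((pushC b).obj ((resC b).obj IB)) :=
    (pushC V.ι).map (unitCj b IB)
  let rA : (pushC U.ι).obj IA ⟶ (pushC V.ι).obj ((pushC b).obj ((resC b).obj IB)) :=
    (pushC U.ι).map (unitCj a IA) ≫ (pushC U.ι).map ((pushC a).map γ) ≫ κ.hom
  have h₁ : IsIso ((DCoh.restrictD U.ι).map (DerivedCategory.Q.map rB)) := by
    refine isIso_restrictD_map_Q_map U.ι rB ?_
    haveI := isIso_resC_pushC_unitCj V.ι b U hb IB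
    show QuasiIso ((resC U.ι).map ((pushC V.ι).map (unitCj b IB)))
    infer_instance
  have h₂ : IsIso ((DCoh.restrictD V.ι).map (DerivedCategory.Q.map rA)) := by
    refine isIso_restrictD_map_Q_map V.ι rA ?_
    haveI := isIso_resC_pushC_unitCj U.ι a V ha IA
    haveI : QuasiIso ((resC V.ι).map ((pushC U.ι).map ((pushC a).map γ))) := by
      have h2 : ((Scheme.Modules.restrictFunctor V.ι).mapHomotopyEquiv
          ((Scheme.Modules.pushforward U.ι).mapHomotopyEquiv
            ((Scheme.Modules.pushforward a).mapHomotopyEquiv e))).hom =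
          (resC V.ι).map ((pushC U.ι).map ((pushC a).map γ)) := by
        rw [← he]; rfl
      rw [← h2]
      infer_instance
    show QuasiIso ((resC V.ι).map
      ((pushC U.ι).map (unitCj a IA) ≫ (pushC U.ι).map ((pushC a).map γ) ≫ κ.hom))
    rw [Functor.map_comp, Functor.map_comp]
    infer_instance
  obtain ⟨F, ⟨e₁⟩, ⟨e₂⟩⟩ := exists_glue (DCoh.restrictD U.ι) (DCoh.restrictD V.ι)
    (DerivedCategory.Q.map rA) (DerivedCategory.Q.map rB) h₁ h₂
  refine ⟨F, ⟨?_⟩, ⟨?_⟩⟩
  · exact e₁ ≪≫ (Scheme.Modules.restrictFunctor U.ι).mapDerivedCategoryFactors.app _ ≪≫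
      DerivedCategory.Q.mapIso ((counitC U).app IA) ≪≫ eA
  · exact e₂ ≪≫ (Scheme.Modules.restrictFunctor V.ι).mapDerivedCategoryFactors.app _ ≪≫
      DerivedCategory.Q.mapIso ((counitC V).app IB) ≪≫ eB

/-- gluing two objects of the derived categories of two opens `U`, `V` along `U ∩ V` -/
theorem exists_glue_two_opens (A : DCoh.D (U : Scheme.{u})) (B : DCoh.D (V : Scheme.{u}))
    (c : (DCoh.restrictD (X.homOfLE (inf_le_left : U ⊓ V ≤ U))).obj A ≅
      (DCoh.restrictD (X.homOfLE (inf_le_right : U ⊓ V ≤ V))).obj B) :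
    ∃ F : DCoh.D X, Nonempty ((DCoh.restrictD U.ι).obj F ≅ A) ∧
      Nonempty ((DCoh.restrictD V.ι).obj F ≅ B) := by
  refine exists_glue_general U V (X.homOfLE (inf_le_left : U ⊓ V ≤ U))
    (X.homOfLE (inf_le_right : U ⊓ V ≤ V)) ?_ ?_ ?_ A B c
  · rw [Scheme.homOfLE_ι, Scheme.homOfLE_ι]
  · rw [Scheme.opensRange_homOfLE]
    intro x hx
    exact ⟨hx, x.2⟩
  · rw [Scheme.opensRange_homOfLE]
    intro x hx
    exact ⟨x.2, hx⟩

end main

end Groth.Agent.Lib.Helper1.Glue2
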