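import Mathlib
import Groth.Agent.Lib.Helper1KF10
import Groth.Agent.Lib.Helper1KF12
import Groth.Agent.S6380
import Groth.Prelude.Def_DRing2
set_option backward.isDefEq.respectTransparency.types false

/-!
# K-flatness can be tested on finitely presented modules (helper1, K-flat cluster, part 13)
-/

set_option autoImplicit false
universe u
open CategoryTheory CategoryTheory.Limits MonoidalCategory HomologicalComplex

namespace Groth.Agent.Lib.Helper1.KF

section modules

open TensorProduct

variable {R : Type u} [CommRing R] {A B C : Type u} [AddCommGroup A] [Module R A]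
  [AddCommGroup B] [Module R B] [AddCommGroup C] [Module R C]

/-- exactness of `M ⊗ A → M ⊗ B → M ⊗ C` for all modules `M` follows from the case of finitely
presented modules. -/
lemma exact_lTensor_of_fp (f : A →ₗ[R] B) (g : B →ₗ[R] C) (hgf : g ∘ₗ f = 0)
    (hfp : ∀ (M' : Type u) [AddCommGroup M'] [Module R M'], Module.FinitePresentation R M' →
      Function.Exact (f.lTensor M') (g.lTensor M'))
    (M : Type u) [AddCommGroup M] [Module R M] :
    Function.Exact (f.lTensor M) (g.lTensor M) := by
  intro z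
  constructor
  · intro hz
    obtain ⟨s, m, b, rfl⟩ := TensorProduct.exists_sum_tmul_eq z
    let f₀ : (Fin s → R) →ₗ[R] M := Fintype.linearCombination R m
    let z₀ : (Fin s → R) ⊗[R] B := ∑ j, (Pi.single j (1 : R) : Fin s → R) ⊗ₜ[R] b j
    have hz₀ : f₀.rTensor B z₀ = ∑ j, m j ⊗ₜ[R] b j := by
      simp only [z₀, map_sum, LinearMap.rTensor_tmul, f₀]
      refine Finset.sum_congr rfl (fun j _ => ?_)
      rw [Fintype.linearCombination_apply_single, one_smul]
    have hu : f₀.rTensor C (g.lTensor (Fin s → R) z₀) = 0 := by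
      rw [← LinearMap.comp_apply, LinearMap.rTensor_comp_lTensor, ← LinearMap.lTensor_comp_rTensor,
        LinearMap.comp_apply, hz₀, hz]
    obtain ⟨P', _, _, hP', f', h, hfh, hx⟩ :=
      Groth.Agent.S6380.result R f₀ (g.lTensor (Fin s → R) z₀) hu
    have hz' : g.lTensor P' (f'.rTensor B z₀) = 0 := by
      rw [← LinearMap.comp_apply, LinearMap.lTensor_comp_rTensor, ← LinearMap.rTensor_comp_lTensor,
        LinearMap.comp_apply, hx]
    obtain ⟨w', hw'⟩ := (hfp P' hP' (f'.rTensor B z₀)).mp hz'
    refine ⟨h.rTensor A w', ?_⟩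
    rw [← LinearMap.comp_apply, LinearMap.lTensor_comp_rTensor, ← LinearMap.rTensor_comp_lTensor,
      LinearMap.comp_apply, hw', ← LinearMap.comp_apply, ← LinearMap.rTensor_comp, ← hfh, hz₀]
  · rintro ⟨w, rfl⟩
    rw [← LinearMap.comp_apply, ← LinearMap.lTensor_comp, hgf, LinearMap.lTensor_zero,
      LinearMap.zero_apply]

lemma exact_rTensor_iff_lTensor (f : A →ₗ[R] B) (g : B →ₗ[R] C) (M : Type u) [AddCommGroup M]
    [Module R M] :
    Function.Exact (f.rTensor M) (g.rTensor M) ↔ Function.Exact (f.lTensor M) (g.lTensor M) := by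
  constructor
  · intro h
    exact Function.Exact.of_ladder_linearEquiv_of_exact (e₁ := TensorProduct.comm R A M)
      (e₂ := TensorProduct.comm R B M) (e₃ := TensorProduct.comm R C M)
      (by ext; simp) (by ext; simp) h
  · intro h
    exact Function.Exact.of_ladder_linearEquiv_of_exact (e₁ := TensorProduct.comm R M A)
      (e₂ := TensorProduct.comm R M B) (e₃ := TensorProduct.comm R M C)
      (by ext; simp) (by ext; simp) h

end modules

section complexes

variable {R : Type u} [CommRing R]

lemma hom_whiskerRight' {A B : ModuleCat.{u} R} (f : A ⟶ B) (F : ModuleCat.{u} R) :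
    (f ▷ F).hom = LinearMap.rTensor F f.hom := rfl

/-- if `K ⊗ M` is acyclic for all finitely presented `M`, then it is acyclic for all `M`. -/
lemma exact_whiskerRight_of_fp (K : Cx R)
    (hK : ∀ (M : Type u) [AddCommGroup M] [Module R M], Module.FinitePresentation R M →
      Acyc (DRing.tensorCx K (ModuleCat.of R M)))
    (F : ModuleCat.{u} R) (i j k : ℤ) (hij : i + 1 = j) (hjk : j + 1 = k)
    (w : K.d i j ▷ F ≫ K.d j k ▷ F = 0) :
    (ShortComplex.mk (K.d i j ▷ F) (K.d j k ▷ F) w).Exact := by
  rw [ShortComplex.ShortExact.moduleCat_exact_iff_function_exact]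
  show Function.Exact (LinearMap.rTensor F (K.d i j).hom) (LinearMap.rTensor F (K.d j k).hom)
  rw [exact_rTensor_iff_lTensor]
  refine exact_lTensor_of_fp _ _ ?_ (fun M' _ _ hM' => ?_) F
  · rw [← ModuleCat.hom_comp, K.d_comp_d]; rfl
  · rw [← exact_rTensor_iff_lTensor]
    have h1 := hK M' hM' j
    rw [← exactAt_iff_isZero_homology, exactAt_iff' _ i j k (by simp; omega) (by simp; omega),
      ShortComplex.ShortExact.moduleCat_exact_iff_function_exact] at h1
    exact h1

end complexes

section contractible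

variable {C : Type*} [Category C] [Abelian C] (D : CochainComplex C ℤ)
  (hlift : ∀ (F : C) (q r : ℤ) (_ : r + 1 = q) (g : F ⟶ D.X q), g ≫ D.d q (q + 1) = 0 →
    ∃ h : F ⟶ D.X r, h ≫ D.d r q = g)

/-- the section of the differential on cycles -/
noncomputable def secZ (q r : ℤ) (hr : r + 1 = q) : kernel (D.d q (q + 1)) ⟶ D.X r :=
  (hlift _ q r hr (kernel.ι (D.d q (q + 1))) (kernel.condition _)).choose

lemma secZ_d (q r : ℤ) (hr : r + 1 = q) :
    secZ D hlift q r hr ≫ D.d r q = kernel.ι (D.d q (q + 1)) :=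
  (hlift _ q r hr (kernel.ι (D.d q (q + 1))) (kernel.condition _)).choose_spec

/-- the differential as a map to the cycles -/
noncomputable def dZ (q : ℤ) : D.X q ⟶ kernel (D.d (q + 1) (q + 1 + 1)) :=
  kernel.lift _ (D.d q (q + 1)) (D.d_comp_d _ _ _)

@[reassoc (attr := simp)]
lemma dZ_ι (q : ℤ) : dZ D q ≫ kernel.ι (D.d (q + 1) (q + 1 + 1)) = D.d q (q + 1) :=
  kernel.lift_ι _ _ _

/-- the projection to the cycles -/
noncomputable def projZ (q : ℤ) : D.X q ⟶ kernel (D.d q (q + 1)) :=
  kernel.lift _ (𝟙 (D.X q) - dZ D q ≫ secZ D hlift (q + 1) q rfl) (by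
    rw [Preadditive.sub_comp, Category.assoc, secZ_d, dZ_ι, Category.id_comp, sub_self])

@[reassoc]
lemma projZ_ι (q : ℤ) : projZ D hlift q ≫ kernel.ι (D.d q (q + 1)) =
    𝟙 (D.X q) - dZ D q ≫ secZ D hlift (q + 1) q rfl :=
  kernel.lift_ι _ _ _

lemma d_projZ (q : ℤ) : D.d q (q + 1) ≫ projZ D hlift (q + 1) = dZ D q := by
  rw [← cancel_mono (kernel.ι (D.d (q + 1) (q + 1 + 1))), Category.assoc, projZ_ι, dZ_ι,
    Preadditive.comp_sub, Category.comp_id, sub_eq_self]
  have : D.d q (q + 1) ≫ dZ D (q + 1) = 0 := by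
    rw [← cancel_mono (kernel.ι (D.d (q + 1 + 1) (q + 1 + 1 + 1))), Category.assoc, dZ_ι,
      D.d_comp_d, zero_comp]
  rw [reassoc_of% this, zero_comp]

include hlift in
/-- a complex all of whose `Hom(F, -)` are acyclic is contractible -/
theorem contractible_of_lifting : Nonempty (Homotopy (𝟙 D) 0) := by
  classical
  refine ⟨{ hom := fun q r => if hr : r + 1 = q then projZ D hlift q ≫ secZ D hlift q r hr else 0
            zero := fun q r h => dif_neg h
            comm := fun q => ?_ }⟩
  rw [dNext_eq _ (show (ComplexShape.up ℤ).Rel q (q+1) from rfl),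
    prevD_eq _ (show (ComplexShape.up ℤ).Rel (q-1) q by simp), HomologicalComplex.zero_f,
    add_zero, dif_pos rfl, dif_pos (show q - 1 + 1 = q by omega), HomologicalComplex.id_f,
    Category.assoc, secZ_d, projZ_ι, ← Category.assoc, d_projZ]
  abel

end contractible

section main

variable {R : Type u} [CommRing R]

/-- if `K ⊗ M` is acyclic for all finitely presented modules `M`, then `L ⊗ K` is acyclic for
every complex `L` (in particular `K` is K-flat). -/
theorem acyc_tensor_of_fp_acyclic (K : Cx R)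
    (hK : ∀ (M : Type u) [AddCommGroup M] [Module R M], Module.FinitePresentation R M →
      Acyc (DRing.tensorCx K (ModuleCat.of R M))) (L : Cx R) : Acyc (L ⊗ K) := by
  refine Acyc.of_iso (swapIso K L) ?_
  apply acyc_tensor_of_nullHomotopic K L
  intro J _ n ψ
  obtain ⟨h0⟩ := contractible_of_lifting (dualCx K J n) (fun F q r hr g hg => by
    obtain rfl : r = q - 1 := by omega
    have w : K.d (n - (q + 1)) (n - q) ▷ F ≫ K.d (n - q) (n - (q - 1)) ▷ F = 0 := by
      rw [← comp_whiskerRight, K.d_comp_d, MonoidalPreadditive.zero_whiskerRight]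
    have hex := exact_whiskerRight_of_fp K hK F (n - (q + 1)) (n - q) (n - (q - 1)) (by omega)
      (by omega) w
    rw [dualCx_d K J n q (q + 1) rfl] at hg
    rw [dualCx_d K J n (q - 1) q (by omega)]
    exact lifting_aux _ _ w hex _ _ g hg)
  exact ⟨(Homotopy.ofEq (by simp)).trans ((h0.compLeft ψ).trans (Homotopy.ofEq (by simp)))⟩

end main

end Groth.Agent.Lib.Helper1.KF
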