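import Mathlib
import Groth.Agent.Lib.Helper1PCDescent
import Groth.Agent.Lib.Helper1RelFlatPC
import Groth.Agent.Lib.Helper1TQ17
import Groth.Agent.Lib.Helper5PCHom
set_option backward.isDefEq.respectTransparency.types false
set_option autoImplicit false
set_option linter.style.haveILetI false
set_option maxHeartbeats 400000
universe u
open CategoryTheory CategoryTheory.Limits AlgebraicGeometry Opposite TopologicalSpace Pretriangulated

attribute [local instance] HasDerivedCategory.standard

namespace Groth.Agent.Lib.Helper1.ChartInd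

open Groth.Agent.Lib.Helper1.SPL Groth.Agent.Lib.Helper1.Sky ZeroObject
open Groth.Agent.Lib.Helper1.ClosedPC Groth.Agent.Lib.Helper1.ChartPC
open Groth.Agent.Lib.Helper1.KoszulPerf Groth.Agent.Lib.Helper1.TildePC
open Groth.Agent.Lib.Helper1.Restrict Groth.Agent.Lib.Helper1.RelPC Groth.Agent.Lib.Helper1.PC
open Groth.Agent.Lib.Helper1.Extend Groth.Agent.Lib.Helper1.PCTower Groth.Agent.S7017 Groth.Agent.S14388 Groth.Agent.Lib.Helper1.Cone
open Groth.Agent.Lib.Helper1.TQ Groth.Agent.Lib.Helper1.Tor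
open DerivedCategory TensorProduct

section Geom

variable {Z X : Scheme.{u}} (i : Z ⟶ X)

/-- over an affine open on which `i` is a closed immersion -/
lemma isAffineOpen_and_surjective_of_restrict (U : X.Opens) (hU : IsAffineOpen U)
    [IsClosedImmersion (i ∣_ U)] :
    IsAffineOpen (i ⁻¹ᵁ U) ∧ Function.Surjective (i.app U).hom := by
  haveI : IsAffine (U : Scheme.{u}) := hU
  obtain ⟨h1, h2⟩ := IsClosedImmersion.isAffine_surjective_of_isAffine (i ∣_ U)
  refine ⟨h1, ?_⟩
  have h3 : (i ∣_ U).appTop = i.appLE (U.ι ''ᵁ ⊤) ((i ⁻¹ᵁ U).ι ''ᵁ ⊤) _ :=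
    morphismRestrict_app' i U ⊤
  rw [h3] at h2
  rw [Scheme.Hom.app_eq_appLE]
  exact (Scheme.Hom.appLE_congr (f := i) _ (Scheme.Opens.ι_image_top U)
    (Scheme.Opens.ι_image_top (i ⁻¹ᵁ U)) (fun φ => Function.Surjective φ.hom)).1 h2

lemma imm_app_fromSpec (U : X.Opens) (hU : IsAffineOpen U) (hW : IsAffineOpen (i ⁻¹ᵁ U)) :
    imm (i ⁻¹ᵁ U) (i.app U).hom ≫ hU.fromSpec = (i ⁻¹ᵁ U).ι ≫ i := by
  unfold imm
  rw [Category.assoc, CommRingCat.ofHom_hom, Scheme.Hom.app_eq_appLE,
    hU.SpecMap_appLE_fromSpec i hW le_rfl, ← Category.assoc, hW.toSpecΓ_fromSpec]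

/-- relative pseudo-coherence of the structure sheaf of an immersion, from local charts -/
theorem isNPseudoCoherent_of_local_pcj [IsImmersion i] (m : ℤ)
    (h : ∀ z : Z, ∃ U : X.affineOpens, i z ∈ U.1 ∧ IsClosedImmersion (i ∣_ U.1) ∧
      PCj (i.app U.1).hom m) :
    DerSch.IsNPseudoCoherent i m := by
  choose U hzU hcl hpc using h
  refine isPseudoCoherentRel_of_openCover i m (fun z => i ⁻¹ᵁ (U z).1) ?_ _ (fun z => ?_)
  · apply le_antisymm le_top
    intro z _
    exact Opens.mem_iSup.2 ⟨z, hzU z⟩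
  · haveI := hcl z
    obtain ⟨hW, hβ⟩ := isAffineOpen_and_surjective_of_restrict i (U z).1 (U z).2
    haveI := isClosedImmersion_imm (i ⁻¹ᵁ (U z).1) hW (i.app (U z).1).hom hβ
    rw [← imm_app_fromSpec i (U z).1 (U z).2 hW]
    refine (isPseudoCoherentRel_iff_comp (imm (i ⁻¹ᵁ (U z).1) (i.app (U z).1).hom)
      (U z).2.fromSpec _ m (fun k => isNPseudoCoherent_of_flat (U z).2.fromSpec k)).1 ?_
    rw [isPseudoCoherentRel_closedImmersion_iff]
    refine isPseudoCoherentD_of_iso (chartUnitIso (imm (i ⁻¹ᵁ (U z).1) (i.app (U z).1).hom)).symm ?_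
    exact (isPC_imm_structure_iff_pcj hW (i.app (U z).1).hom m).2 (hpc z)

end Geom


section Ring

/-- the Koszul complex has tor amplitude in `[-length, 0]` -/
theorem hasTorAmp_koszul (R : Type u) [CommRing R] : ∀ l : List R,
    DRing.HasTorAmplitudeIn R (-(l.length : ℤ)) 0 (DRing.toD (Koszul.koszul R l))
  | [] => by
    have h := hasTorAmp_of_iso ((singleFunctorIsoCompQ (ModuleCat.{u} R) 0).app (ModuleCat.of R R))
      (hasTorAmp_single_of_flat (ModuleCat.of R R))
    have h0 : (-(([] : List R).length : ℤ)) = 0 := by simp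
    rw [h0]
    exact h
  | f :: l => by
    have ih := hasTorAmp_koszul R l
    let T := (Q (C := ModuleCat.{u} R)).mapTriangle.obj
      (CochainComplex.mappingCone.triangle (f • 𝟙 (Koszul.koszul R l)))
    have hT : T ∈ distTriang _ := mappingCone_triangle_distinguished _
    have h := hasTorAmp_cone T hT (-((f :: l).length : ℤ)) 0
      (hasTorAmp_mono (by simp) (by lia) ih) (hasTorAmp_mono (by simp) le_rfl ih)
    exact h

/-- the quotient by a Koszul-regular sequence has tor amplitude in `[-length, 0]` -/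
theorem hasTorAmp_quot_of_koszulRegular (R : Type u) [CommRing R] (l : List R)
    (hl : LCI.IsKoszulRegularSeq R l) :
    DRing.HasTorAmplitudeIn R (-(l.length : ℤ)) 0 (Dual.inD R (R ⧸ Ideal.ofList l)) := by
  obtain ⟨e⟩ := nonempty_koszul_iso' R l hl
  exact hasTorAmp_of_iso e (hasTorAmp_koszul R l)

/-- a surjection with kernel generated by a Koszul-regular sequence -/
theorem hasTorAmp_of_surjective_of_koszulRegular {R S : Type u} [CommRing R] [CommRing S]
    (β : R →+* S) (hβ : Function.Surjective β) (l : List R) (hl : LCI.IsKoszulRegularSeq R l)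
    (hker : RingHom.ker β = Ideal.ofList l) :
    DRing.HasTorAmplitudeIn R (-(l.length : ℤ)) 0
      ((DerivedCategory.singleFunctor (ModuleCat.{u} R) 0).obj (BoverA β)) := by
  letI := β.toAlgebra
  have hsurj : Function.Surjective (Algebra.linearMap R S) := hβ
  have hk : LinearMap.ker (Algebra.linearMap R S) = Ideal.ofList l := by
    rw [← hker]
    ext x
    rfl
  let eq : (R ⧸ Ideal.ofList l) ≃ₗ[R] S :=
    (Submodule.quotEquivOfEq (Ideal.ofList l) (LinearMap.ker (Algebra.linearMap R S)) hk.symm).trans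
      (LinearMap.quotKerEquivOfSurjective _ hsurj)
  refine hasTorAmp_of_iso ((DerivedCategory.singleFunctor (ModuleCat.{u} R) 0).mapIso
    (eq.toModuleIso ≪≫ (restrictScalarsAlgebraIso (A := R) (B := S) S).symm))
    (hasTorAmp_quot_of_koszulRegular R l hl)

/-- localization of a surjection: tor amplitude passes to the local rings -/
theorem hasTorAmp_localization_of_surjective {R S A B : Type u} [CommRing R] [CommRing S]
    [CommRing A] [CommRing B] [Algebra R A] [Algebra S B] (β : R →+* S)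
    (hβ : Function.Surjective β) (ψ : A →+* B)
    (hcomm : ψ.comp (algebraMap R A) = (algebraMap S B).comp β)
    (p : Ideal R) [p.IsPrime] (q : Ideal S) [q.IsPrime] (hp : q.comap β = p)
    [IsLocalization.AtPrime A p] [IsLocalization.AtPrime B q] (a b : ℤ)
    (h : DRing.HasTorAmplitudeIn R a b
      ((DerivedCategory.singleFunctor (ModuleCat.{u} R) 0).obj (BoverA β))) :
    DRing.HasTorAmplitudeIn A a b
      ((DerivedCategory.singleFunctor (ModuleCat.{u} A) 0).obj (BoverA ψ)) := by
  subst hp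
  letI := β.toAlgebra
  letI := ψ.toAlgebra
  letI : Algebra R B := (ψ.comp (algebraMap R A)).toAlgebra
  haveI : IsScalarTower R A B := IsScalarTower.of_algebraMap_eq (fun r => rfl)
  haveI : IsScalarTower R S B := IsScalarTower.of_algebraMap_eq (fun r => by
    exact congrArg (fun g => g r) hcomm)
  haveI : Module.Flat R A := IsLocalization.flat A (q.comap β).primeCompl
  have hsub : Algebra.algebraMapSubmonoid S (q.comap β).primeCompl = q.primeCompl := by
    ext s
    constructor
    · rintro ⟨r, hr, rfl⟩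
      exact hr
    · intro hs
      obtain ⟨r, rfl⟩ := hβ s
      exact ⟨r, hs, rfl⟩
  haveI : IsLocalization (Algebra.algebraMapSubmonoid S (q.comap β).primeCompl) B := by
    rw [hsub]
    infer_instance
  haveI hpo : Algebra.IsPushout R A S B :=
    (Algebra.isPushout_of_isLocalization (q.comap β).primeCompl A S B).symm
  have h1 := hasTorAmp_extD (A := R) (B := A) _ a b
    (hasTorAmp_of_iso ((DerivedCategory.singleFunctor (ModuleCat.{u} R) 0).mapIso
      (restrictScalarsAlgebraIso (A := R) (B := S) S)) h)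
  refine hasTorAmp_of_iso (extDInDIso (A := R) (B := A) S ≪≫
    (DerivedCategory.singleFunctor (ModuleCat.{u} A) 0).mapIso
      ((Algebra.IsPushout.equiv R A S B).toLinearEquiv.toModuleIso ≪≫
        (restrictScalarsAlgebraIso (A := A) (B := B) B).symm)) h1

end Ring


section Stalk

variable {Z X : Scheme.{u}} (i : Z ⟶ X)

/-- stalkwise tor amplitude of the structure sheaf of a Koszul-regular immersion -/
theorem hasTorAmplitudeAt_unit_of_koszul (z : Z) (U : X.Opens) (hU : IsAffineOpen U)
    (hx : i z ∈ U) [IsClosedImmersion (i ∣_ U)] (rs : List Γ(X, U))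
    (hrs : LCI.IsKoszulRegularSeq Γ(X, U) rs)
    (hker : RingHom.ker (i.app U).hom = Ideal.ofList rs) :
    DerSch.HasTorAmplitudeAt i (-(rs.length : ℤ)) 0 (DerSch.unitCx Z) z := by
  obtain ⟨hW, hβ⟩ := isAffineOpen_and_surjective_of_restrict i U hU
  have hz : z ∈ i ⁻¹ᵁ U := hx
  letI := X.presheaf.algebra_section_stalk ⟨i z, hx⟩
  haveI := hU.isLocalization_stalk ⟨i z, hx⟩
  letI := Z.presheaf.algebra_section_stalk ⟨z, hz⟩
  haveI := hW.isLocalization_stalk ⟨z, hz⟩
  have hp := IsAffineOpen.comap_primeIdealOf_appLE (f := i) U hU (i ⁻¹ᵁ U) hW le_rfl hz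
  have h0 := hasTorAmp_of_surjective_of_koszulRegular (i.app U).hom hβ rs hrs hker
  have hcomm : (i.stalkMap z).hom.comp (algebraMap Γ(X, U) (X.presheaf.stalk (i z))) =
      (algebraMap Γ(Z, i ⁻¹ᵁ U) (Z.presheaf.stalk z)).comp (i.app U).hom := by
    ext r
    exact Scheme.Hom.germ_stalkMap_apply i U z hx r
  have hp' : Ideal.comap (i.app U).hom (hW.primeIdealOf ⟨z, hz⟩).asIdeal =
      (hU.primeIdealOf ⟨i z, hx⟩).asIdeal := by
    rw [Scheme.Hom.app_eq_appLE]
    exact congrArg PrimeSpectrum.asIdeal hp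
  have h1 := hasTorAmp_localization_of_surjective (i.app U).hom hβ (i.stalkMap z).hom hcomm
    (hU.primeIdealOf ⟨i z, hx⟩).asIdeal (hW.primeIdealOf ⟨z, hz⟩).asIdeal hp' _ _ h0
  exact hasTorAmp_of_iso (stalkCxOverUnitIso i z).symm h1

end Stalk


section Main

open Groth.Agent.Lib.Helper5.PCHom Groth.Agent.Lib.Helper5.KzIdeal Groth.Agent.Lib.Helper5.LciLocal

/-- a surjection with kernel generated by a Koszul-regular sequence is pseudo-coherent -/
theorem pcj_of_koszulRegular {R S : Type u} [CommRing R] [CommRing S]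
    (β : R →+* S) (hβ : Function.Surjective β) (l : List R) (hl : LCI.IsKoszulRegularSeq R l)
    (hker : RingHom.ker β = Ideal.ofList l) (m : ℤ) : PCj β m := by
  have h : PCMod β := pcMod_of_surjective_of_kr β hβ (by
    rw [hker, kr_iff]
    exact kr_ofList l hl)
  exact (pcj_iff_isPseudoCoherentModule β m).2 (Groth.Agent.S6938.isPC_of_pc' _ h m)

variable {Z X : Scheme.{u}} (i : Z ⟶ X)

/-- **S6238**: a Koszul-regular immersion of codimension `d` has perfect dimension `≤ d` -/
theorem hasPerfDimLE_of_koszulRegularImmersionOfCodim (d : ℕ)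
    (hi : RegImm.IsRegularImmersionOfCodim RegImm.Kind.koszul d i) :
    DerSch.HasPerfDimLE i d := by
  obtain ⟨himm, h⟩ := hi
  haveI := himm
  refine ⟨fun m => isNPseudoCoherent_of_local_pcj i m (fun z => ?_), fun z => ?_⟩
  · obtain ⟨U, hzU, hcl, rs, hlen, hrs, hker⟩ := h z
    haveI := hcl
    obtain ⟨hW, hβ⟩ := isAffineOpen_and_surjective_of_restrict i U.1 U.2
    exact ⟨U, hzU, hcl, pcj_of_koszulRegular (i.app U.1).hom hβ rs hrs hker m⟩
  · obtain ⟨U, hzU, hcl, rs, hlen, hrs, hker⟩ := h z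
    haveI := hcl
    have h1 := hasTorAmplitudeAt_unit_of_koszul i z U.1 U.2 hzU rs hrs hker
    rw [hlen] at h1
    exact h1

end Main

end Groth.Agent.Lib.Helper1.ChartInd
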