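import Mathlib
import Groth.Agent.Lib.Helper1BKF4

set_option backward.isDefEq.respectTransparency.types false

/-!
# Tensoring a complex with an object placed in degree zero in the first variable
-/

set_option autoImplicit false
universe u
open CategoryTheory CategoryTheory.Limits HomologicalComplex ZeroObject

namespace Groth.Agent.Lib.Helper1.BKF

section first

variable {C₁ C₂ D : Type*} [Category C₁] [Category C₂] [Category D]
  [Abelian C₁] [Abelian C₂] [Abelian D]
  (F : C₁ ⥤ C₂ ⥤ D) [F.Additive] [∀ X, (F.obj X).Additive]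
  [∀ (K₁ : CochainComplex C₁ ℤ) (K₂ : CochainComplex C₂ ℤ),
    HasMapBifunctor K₁ K₂ F (ComplexShape.up ℤ)]
  (Y : C₁) (L : CochainComplex C₂ ℤ)

lemma isZero_summand_first (p q : ℤ) (hp : p ≠ 0) :
    IsZero ((F.obj ((sg Y 0).X p)).obj (L.X q)) :=
  (F.map_isZero (isZero_single_obj_X (ComplexShape.up ℤ) 0 Y p hp)).obj _

/-- the inclusion of `Y ⊗ L^n` into `Tot(Y[0] ⊗ L)^n` -/
noncomputable def sfι (n : ℤ) :
    (F.obj Y).obj (L.X n) ⟶ (mapBifunctor (sg Y 0) L F (ComplexShape.up ℤ)).X n :=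
  (F.map (singleObjXSelf (ComplexShape.up ℤ) 0 Y).inv).app (L.X n) ≫
    ιMapBifunctor (sg Y 0) L F (ComplexShape.up ℤ) 0 n n (zero_add n)

/-- the projection of `Tot(Y[0] ⊗ L)^n` onto `Y ⊗ L^n` -/
noncomputable def sfπ (n : ℤ) :
    (mapBifunctor (sg Y 0) L F (ComplexShape.up ℤ)).X n ⟶ (F.obj Y).obj (L.X n) :=
  mapBifunctorDesc (fun p q hpq =>
    if hp : p = 0 then
      (F.obj ((sg Y 0).X p)).map (L.XIsoOfEq (show q = n by
        have : p + q = n := hpq
        omega)).hom ≫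
        (F.map ((sg Y 0).XIsoOfEq hp).hom).app (L.X n) ≫
        (F.map (singleObjXSelf (ComplexShape.up ℤ) 0 Y).hom).app (L.X n)
    else 0)

lemma ι_sfπ (n : ℤ) :
    ιMapBifunctor (sg Y 0) L F (ComplexShape.up ℤ) 0 n n (zero_add n) ≫ sfπ F Y L n =
      (F.map (singleObjXSelf (ComplexShape.up ℤ) 0 Y).hom).app (L.X n) := by
  unfold sfπ
  rw [ι_mapBifunctorDesc, dif_pos rfl]
  simp

lemma sfι_sfπ (n : ℤ) : sfι F Y L n ≫ sfπ F Y L n = 𝟙 _ := by
  unfold sfι
  rw [Category.assoc, ι_sfπ, ← NatTrans.comp_app, ← Functor.map_comp, Iso.inv_hom_id,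
    CategoryTheory.Functor.map_id, NatTrans.id_app]

lemma sfπ_sfι (n : ℤ) : sfπ F Y L n ≫ sfι F Y L n = 𝟙 _ := by
  apply mapBifunctor.hom_ext
  intro p q hpq
  by_cases hp : p = 0
  · subst hp
    obtain rfl : q = n := by
      have : 0 + q = n := hpq
      omega
    rw [← Category.assoc, ι_sfπ]
    unfold sfι
    rw [← Category.assoc, ← NatTrans.comp_app, ← Functor.map_comp, Iso.hom_inv_id,
      CategoryTheory.Functor.map_id, NatTrans.id_app, Category.id_comp]
    exact (Category.comp_id _).symm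
  · exact (isZero_summand_first F Y L p q hp).eq_of_src _ _

/-- `Tot(Y[0] ⊗ L)^n ≅ Y ⊗ L^n` -/
noncomputable def sfIso (n : ℤ) :
    (F.obj Y).obj (L.X n) ≅ (mapBifunctor (sg Y 0) L F (ComplexShape.up ℤ)).X n where
  hom := sfι F Y L n
  inv := sfπ F Y L n
  hom_inv_id := sfι_sfπ F Y L n
  inv_hom_id := sfπ_sfι F Y L n

lemma sfι_comm (n n' : ℤ) (hn : n + 1 = n') :
    sfι F Y L n ≫ (mapBifunctor (sg Y 0) L F (ComplexShape.up ℤ)).d n n' =
      (F.obj Y).map (L.d n n') ≫ sfι F Y L n' := by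
  subst hn
  unfold sfι
  rw [Category.assoc, ι_mapBifunctor_d F (sg Y 0) L 0 n n (zero_add n) 1 (n + 1) (n + 1)
    (by simp) rfl rfl, single_obj_d, Functor.map_zero, NatTrans.app_zero, zero_comp, zero_add,
    Int.negOnePow_zero, one_smul, ← Category.assoc, ← Category.assoc, NatTrans.naturality]

variable {Y} in
lemma sfι_naturality {Y' : C₁} (y : Y ⟶ Y') (n : ℤ) :
    (F.map y).app (L.X n) ≫ sfι F Y' L n =
      sfι F Y L n ≫ ((TR F L).map ((single C₁ (ComplexShape.up ℤ) 0).map y)).f n := by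
  have key : (F.map y).app (L.X n) ≫
      (F.map (singleObjXSelf (ComplexShape.up ℤ) 0 Y').inv).app (L.X n) =
      (F.map (singleObjXSelf (ComplexShape.up ℤ) 0 Y).inv).app (L.X n) ≫
        (F.map (((single C₁ (ComplexShape.up ℤ) 0).map y).f 0)).app (L.X n) := by
    rw [← NatTrans.comp_app, ← NatTrans.comp_app, ← Functor.map_comp, ← Functor.map_comp,
      single_map_f_self, Iso.inv_hom_id_assoc]
  unfold sfι
  rw [Category.assoc, ι_TR_map]
  exact (Category.assoc _ _ _).symm.trans ((congrArg (· ≫ _) key).trans (Category.assoc _ _ _))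

/-- the arrow `Y ⊗ d_L` is isomorphic to the differential of `Tot(Y[0] ⊗ L)` -/
noncomputable def sfArrowIso (n n' : ℤ) (hn : n + 1 = n') :
    Arrow.mk ((F.obj Y).map (L.d n n')) ≅
      Arrow.mk ((mapBifunctor (sg Y 0) L F (ComplexShape.up ℤ)).d n n') :=
  Arrow.isoMk (sfIso F Y L n) (sfIso F Y L n') (sfι_comm F Y L n n' hn)

/-- `Y ⊗ coker(d_L) ≅ opcycles of Tot(Y[0] ⊗ L)` -/
noncomputable def sfOpcyclesIso [PreservesFiniteColimits (F.obj Y)] (n n' : ℤ) (hn : n + 1 = n') :
    (F.obj Y).obj (cokernel (L.d n n')) ≅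
      (mapBifunctor (sg Y 0) L F (ComplexShape.up ℤ)).opcycles n' :=
  CokernelCofork.mapIsoOfIsColimit
    ((CokernelCofork.ofπ (cokernel.π (L.d n n')) (cokernel.condition _)).mapIsColimit
      (cokernelIsCokernel (L.d n n')) (F.obj Y))
    ((mapBifunctor (sg Y 0) L F (ComplexShape.up ℤ)).opcyclesIsCokernel n n' (by simp [← hn]))
    (sfArrowIso F Y L n n' hn)

lemma π_sfOpcyclesIso_hom [PreservesFiniteColimits (F.obj Y)] (n n' : ℤ) (hn : n + 1 = n') :
    (F.obj Y).map (cokernel.π (L.d n n')) ≫ (sfOpcyclesIso F Y L n n' hn).hom =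
      sfι F Y L n' ≫ (mapBifunctor (sg Y 0) L F (ComplexShape.up ℤ)).pOpcycles n' := by
  exact CokernelCofork.π_mapOfIsColimit
    ((CokernelCofork.ofπ (cokernel.π (L.d n n')) (cokernel.condition _)).mapIsColimit
      (cokernelIsCokernel (L.d n n')) (F.obj Y))
    (CokernelCofork.ofπ ((mapBifunctor (sg Y 0) L F (ComplexShape.up ℤ)).pOpcycles n')
      ((mapBifunctor (sg Y 0) L F (ComplexShape.up ℤ)).d_pOpcycles n n'))
    (sfArrowIso F Y L n n' hn).hom

variable {Y} in
lemma sfOpcyclesIso_hom_naturality {Y' : C₁} (y : Y ⟶ Y') [PreservesFiniteColimits (F.obj Y)]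
    [PreservesFiniteColimits (F.obj Y')] (n n' : ℤ) (hn : n + 1 = n') :
    (F.map y).app (cokernel (L.d n n')) ≫ (sfOpcyclesIso F Y' L n n' hn).hom =
      (sfOpcyclesIso F Y L n n' hn).hom ≫
        opcyclesMap ((TR F L).map ((single C₁ (ComplexShape.up ℤ) 0).map y)) n' := by
  haveI : Epi ((F.obj Y).map (cokernel.π (L.d n n'))) := inferInstance
  rw [← cancel_epi ((F.obj Y).map (cokernel.π (L.d n n')))]
  have e1 : (F.obj Y).map (cokernel.π (L.d n n')) ≫ (F.map y).app (cokernel (L.d n n')) =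
      (F.map y).app (L.X n') ≫ (F.obj Y').map (cokernel.π (L.d n n')) :=
    (F.map y).naturality (cokernel.π (L.d n n'))
  have e2 := π_sfOpcyclesIso_hom F Y' L n n' hn
  have e3 := sfι_naturality F L y n'
  have e4 := p_opcyclesMap ((TR F L).map ((single C₁ (ComplexShape.up ℤ) 0).map y)) n'
  have e5 := π_sfOpcyclesIso_hom F Y L n n' hn
  calc (F.obj Y).map (cokernel.π (L.d n n')) ≫
        (F.map y).app (cokernel (L.d n n')) ≫ (sfOpcyclesIso F Y' L n n' hn).hom
      = ((F.obj Y).map (cokernel.π (L.d n n')) ≫ (F.map y).app (cokernel (L.d n n'))) ≫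
          (sfOpcyclesIso F Y' L n n' hn).hom := (Category.assoc _ _ _).symm
    _ = ((F.map y).app (L.X n') ≫ (F.obj Y').map (cokernel.π (L.d n n'))) ≫
          (sfOpcyclesIso F Y' L n n' hn).hom := congrArg (· ≫ _) e1
    _ = (F.map y).app (L.X n') ≫ (F.obj Y').map (cokernel.π (L.d n n')) ≫
          (sfOpcyclesIso F Y' L n n' hn).hom := Category.assoc _ _ _
    _ = (F.map y).app (L.X n') ≫ sfι F Y' L n' ≫
          (mapBifunctor (sg Y' 0) L F (ComplexShape.up ℤ)).pOpcycles n' := congrArg (_ ≫ ·) e2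
    _ = ((F.map y).app (L.X n') ≫ sfι F Y' L n') ≫
          (mapBifunctor (sg Y' 0) L F (ComplexShape.up ℤ)).pOpcycles n' :=
        (Category.assoc _ _ _).symm
    _ = (sfι F Y L n' ≫ ((TR F L).map ((single C₁ (ComplexShape.up ℤ) 0).map y)).f n') ≫
          (mapBifunctor (sg Y' 0) L F (ComplexShape.up ℤ)).pOpcycles n' := congrArg (· ≫ _) e3
    _ = sfι F Y L n' ≫ ((TR F L).map ((single C₁ (ComplexShape.up ℤ) 0).map y)).f n' ≫
          (mapBifunctor (sg Y' 0) L F (ComplexShape.up ℤ)).pOpcycles n' := Category.assoc _ _ _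
    _ = sfι F Y L n' ≫ (mapBifunctor (sg Y 0) L F (ComplexShape.up ℤ)).pOpcycles n' ≫
          opcyclesMap ((TR F L).map ((single C₁ (ComplexShape.up ℤ) 0).map y)) n' :=
        congrArg (_ ≫ ·) e4.symm
    _ = (sfι F Y L n' ≫ (mapBifunctor (sg Y 0) L F (ComplexShape.up ℤ)).pOpcycles n') ≫
          opcyclesMap ((TR F L).map ((single C₁ (ComplexShape.up ℤ) 0).map y)) n' :=
        (Category.assoc _ _ _).symm
    _ = ((F.obj Y).map (cokernel.π (L.d n n')) ≫ (sfOpcyclesIso F Y L n n' hn).hom) ≫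
          opcyclesMap ((TR F L).map ((single C₁ (ComplexShape.up ℤ) 0).map y)) n' :=
        congrArg (· ≫ _) e5.symm
    _ = _ := Category.assoc _ _ _

end first

section H1

variable {B : Type*} [Category B] [Abelian B] {K K' : CochainComplex B ℤ} (g : K ⟶ K') (i j : ℤ)

lemma opcyclesMap_comp_fromOpcycles' :
    opcyclesMap g i ≫ K'.fromOpcycles i j = K.fromOpcycles i j ≫ g.f j := by
  rw [← cancel_epi (K.pOpcycles i), p_opcyclesMap_assoc, p_fromOpcycles, p_fromOpcycles_assoc,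
    g.comm]

lemma mono_homologyMap_of_mono_opcyclesMap [Mono (opcyclesMap g i)] : Mono (homologyMap g i) := by
  have h := homologyι_naturality g i
  haveI : Mono (homologyMap g i ≫ K'.homologyι i) := by rw [h]; infer_instance
  exact mono_of_mono _ (K'.homologyι i)

lemma mono_opcyclesMap_of_mono_homologyMap (hij : i + 1 = j) [Mono (g.f j)]
    [Mono (homologyMap g i)] : Mono (opcyclesMap g i) := by
  apply Preadditive.mono_of_cancel_zero
  intro Z k hk
  have h1 : k ≫ K.fromOpcycles i j = 0 := by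
    rw [← cancel_mono (g.f j), Category.assoc, ← opcyclesMap_comp_fromOpcycles', ← Category.assoc,
      hk, zero_comp, zero_comp]
  let l := KernelFork.IsLimit.lift' (K.homologyIsKernel i j (by simp [← hij])) k h1
  have hl : l.1 ≫ K.homologyι i = k := l.2
  have h2 : l.1 ≫ homologyMap g i = 0 := by
    rw [← cancel_mono (K'.homologyι i), Category.assoc, homologyι_naturality, ← Category.assoc, hl,
      hk, zero_comp]
  have h3 : l.1 = 0 := by
    rw [← cancel_mono (homologyMap g i), h2, zero_comp]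
  rw [← hl, h3, zero_comp]

end H1

end Groth.Agent.Lib.Helper1.BKF
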