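import Mathlib
import Groth.Agent.Lib.Helper1LDer4
import Groth.Agent.Lib.Helper1LDer5
import Groth.Agent.Lib.Helper21FlatCalc

set_option backward.isDefEq.respectTransparency.types false

/-!
# Right exactness of `H^p(- ⊗ E)` and flatness of the cokernel of `d^p` (ringed sites)
-/

set_option autoImplicit false
universe u
open CategoryTheory CategoryTheory.Limits HomologicalComplex ZeroObject

namespace Groth.Agent.Lib.Helper1.BKF

open Groth.Agent.Lib.Helper21.ModTensor3 Groth.Agent.Lib.Helper21.ModTensor5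

variable {C : Type u} [SmallCategory C] {J : GrothendieckTopology C} {O : Sheaf J CommRingCat.{u}}

section sq

variable {A : Type*} [Category A] {X X' Y Y' : A}

lemma mono_of_sq_left (a : X ⟶ Y) (t : X' ⟶ Y') (s' : X ≅ X') (s : Y ≅ Y')
    (h : a ≫ s.hom = s'.hom ≫ t) [Mono a] : Mono t := by
  have h2 : t = s'.inv ≫ a ≫ s.hom := by rw [h, Iso.inv_hom_id_assoc]
  rw [h2]
  infer_instance

lemma mono_of_sq_right (a : X ⟶ Y) (t : X' ⟶ Y') (s' : X ≅ X') (s : Y ≅ Y')
    (h : a ≫ s.hom = s'.hom ≫ t) [Mono t] : Mono a := by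
  have h2 : a = s'.hom ≫ t ≫ s.inv := by
    rw [← Category.assoc, ← h, Category.assoc, Iso.hom_inv_id, Category.comp_id]
  rw [h2]
  infer_instance

end sq

lemma mono_singleTR_map_f (E : CochainComplex (ModSite.Mod O) ℤ)
    (hEf : ∀ i : ℤ, ModSite.IsFlat (E.X i)) {M' M : ModSite.Mod O} (j : M' ⟶ M) [Mono j] (n : ℤ) :
    Mono (((singleTR E).map j).f n) := by
  haveI := (hEf n).1
  haveI : Mono (((ModSite.tensorBi O).map j).app (E.X n)) :=
    inferInstanceAs (Mono ((tR O (E.X n)).map j))
  exact mono_of_sq_left (((ModSite.tensorBi O).map j).app (E.X n)) _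
    (sfIso (ModSite.tensorBi O) M' E n) (sfIso (ModSite.tensorBi O) M E n)
    (sfι_naturality (ModSite.tensorBi O) E j n)

lemma mono_opcyclesMap_iff (E : CochainComplex (ModSite.Mod O) ℤ) {M' M : ModSite.Mod O}
    (j : M' ⟶ M) (p : ℤ) :
    Mono (opcyclesMap ((singleTR E).map j) (p + 1)) ↔
      Mono ((tR O (cokernel (E.d p (p + 1)))).map j) := by
  have h := sfOpcyclesIso_hom_naturality (ModSite.tensorBi O) E j p (p + 1) rfl
  constructor
  · intro hm
    exact mono_of_sq_right (((ModSite.tensorBi O).map j).app (cokernel (E.d p (p + 1))))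
      (opcyclesMap ((singleTR E).map j) (p + 1))
      (sfOpcyclesIso (ModSite.tensorBi O) M' E p (p + 1) rfl)
      (sfOpcyclesIso (ModSite.tensorBi O) M E p (p + 1) rfl) h
  · intro hm
    haveI : Mono (((ModSite.tensorBi O).map j).app (cokernel (E.d p (p + 1)))) := hm
    exact mono_of_sq_left (((ModSite.tensorBi O).map j).app (cokernel (E.d p (p + 1))))
      (opcyclesMap ((singleTR E).map j) (p + 1))
      (sfOpcyclesIso (ModSite.tensorBi O) M' E p (p + 1) rfl)
      (sfOpcyclesIso (ModSite.tensorBi O) M E p (p + 1) rfl) h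

set_option maxHeartbeats 400000 in
/-- `H^{p+1}(- ⊗ E)` preserves monomorphisms iff `coker(d^p)` is flat -/
theorem forall_mono_Hn_iff_isFlat_cokernel (E : CochainComplex (ModSite.Mod O) ℤ)
    (hEf : ∀ i : ℤ, ModSite.IsFlat (E.X i)) (p : ℤ) :
    (∀ S : ShortComplex (ModSite.Mod O), S.ShortExact →
      Mono ((Hn (singleTR E) (p + 1)).map S.f)) ↔
      ModSite.IsFlat (cokernel (E.d p (p + 1))) := by
  constructor
  · intro h
    rw [isFlat_iff]
    apply Groth.Agent.Lib.Helper21.FlatCalc.preservesFiniteLimits_of_mono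
    intro M' M j hj
    have hS : (ShortComplex.mk j (cokernel.π j) (cokernel.condition j)).ShortExact :=
      ShortComplex.ShortExact.mk' (ShortComplex.exact_cokernel j) hj inferInstance
    have h0 := h _ hS
    haveI : Mono (homologyMap ((singleTR E).map j) (p + 1)) := by
      simp only [Functor.comp_map, homologyFunctor_map] at h0
      exact h0
    haveI := mono_singleTR_map_f E hEf j (p + 1 + 1)
    haveI := mono_opcyclesMap_of_mono_homologyMap ((singleTR E).map j) (p + 1) (p + 1 + 1) rfl
    exact (mono_opcyclesMap_iff E j p).1 inferInstance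
  · intro h S hS
    haveI := hS.mono_f
    haveI : PreservesFiniteLimits (tR O (cokernel (E.d p (p + 1)))) := h.1
    haveI : Mono (opcyclesMap ((singleTR E).map S.f) (p + 1)) :=
      (mono_opcyclesMap_iff E S.f p).2 inferInstance
    have h1 := mono_homologyMap_of_mono_opcyclesMap ((singleTR E).map S.f) (p + 1)
    simp only [Functor.comp_map, homologyFunctor_map]
    exact h1

section

variable {A B : Type*} [Category A] [Category B] [Abelian A] [Abelian B]
  (T : A ⥤ CochainComplex B ℤ) [T.Additive]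
  (hT : ∀ S : ShortComplex A, S.ShortExact → (S.map T).ShortExact)

include hT in
theorem preservesFiniteColimits_Hn_iff_forall_mono (p : ℤ) :
    PreservesFiniteColimits (Hn T p) ↔
      ∀ S : ShortComplex A, S.ShortExact → Mono ((Hn T (p + 1)).map S.f) :=
  (preservesFiniteColimits_Hn_iff T hT p).trans
    (forall₂_congr (fun S hS => epi_Hn_iff_mono_Hn T hT S hS p))

end

set_option maxHeartbeats 1000000 in
/-- `H^p(- ⊗ E)` is right exact iff `coker(d^p)` is flat (`E` with flat terms) -/
theorem preservesFiniteColimits_Hn_singleTR_iff_isFlat_cokernel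
    (E : CochainComplex (ModSite.Mod O) ℤ) (hEf : ∀ i : ℤ, ModSite.IsFlat (E.X i)) (p : ℤ) :
    PreservesFiniteColimits (Hn (singleTR E) p) ↔ ModSite.IsFlat (cokernel (E.d p (p + 1))) :=
  Iff.trans (preservesFiniteColimits_Hn_iff_forall_mono (A := ModSite.Mod O) (B := ModSite.Mod O)
    (singleTR E) (shortExact_map_singleTR E hEf) p)
    (forall_mono_Hn_iff_isFlat_cokernel E hEf p)

end Groth.Agent.Lib.Helper1.BKF
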