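import Mathlib
import Groth.Agent.Lib.Helper1LF2
import Groth.Agent.Lib.Helper26ModRank
import Groth.Agent.Lib.Helper23ModLocal
set_option backward.isDefEq.respectTransparency.types false

/-!
# The locus where a perfect object is a locally free module of rank `r` placed in degree `i`
(helper1)
-/

set_option autoImplicit false
set_option linter.style.haveILetI false
set_option linter.unusedSectionVars false
universe u
open CategoryTheory CategoryTheory.Limits AlgebraicGeometry TopologicalSpace Opposite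

attribute [local instance] HasDerivedCategory.standard

namespace Groth.Agent.Lib.Helper1.LF

open Groth.Agent.Lib.Helper1.Sky Groth.Agent.Lib.Helper1.StalkTensor Groth.Agent.Lib.Helper1.SPL
open Groth.Agent.Lib.Helper2.RankLoc Groth.Agent.Lib.Helper1.KBC Groth.Agent.Lib.Helper1.Fib
open Groth.Agent.Lib.Helper1.FLF

section derived

variable {C : Type*} [Category C] [Abelian C] [HasDerivedCategory C]

/-- an object of the derived category with cohomology in a single degree is that cohomology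
object placed in that degree -/
lemma nonempty_iso_single_of_isZero_homology (K : DerivedCategory C) (i : ℤ)
    (h : ∀ k : ℤ, k ≠ i → IsZero ((DerivedCategory.homologyFunctor C k).obj K)) :
    Nonempty (K ≅ (DerivedCategory.singleFunctor C i).obj
      ((DerivedCategory.homologyFunctor C i).obj K)) := by
  haveI : K.IsGE i := (DerivedCategory.isGE_iff K i).2 (fun k hk => h k (by omega))
  haveI : K.IsLE i := (DerivedCategory.isLE_iff K i).2 (fun k hk => h k (by omega))
  obtain ⟨Y, ⟨e⟩⟩ := DerivedCategory.exists_iso_singleFunctor_obj_of_isGE_of_isLE K i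
  let eY : (DerivedCategory.homologyFunctor C i).obj K ≅ Y :=
    (DerivedCategory.homologyFunctor C i).mapIso e ≪≫
      (DerivedCategory.singleFunctorCompHomologyFunctorIso C i).app Y
  exact ⟨e ≪≫ (DerivedCategory.singleFunctor C i).mapIso eY.symm⟩

/-- a module placed in degree `i` -/
noncomputable def shiftSingleIso (V : C) (i : ℤ) :
    ((DerivedCategory.singleFunctor C 0).obj V)⟦-i⟧ ≅ (DerivedCategory.singleFunctor C i).obj V :=
  ((DerivedCategory.singleFunctors C).shiftIso (-i) i 0 (by omega)).app V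

end derived

variable {X : Scheme.{u}}

/-- the complex with `F` in degree `i` -/
noncomputable abbrev Sg (i : ℤ) (F : X.Modules) : CochainComplex X.Modules ℤ :=
  (HomologicalComplex.single X.Modules (ComplexShape.up ℤ) i).obj F

lemma isStrictlyPerfect_Sg (i : ℤ) (F : X.Modules) (hF : FlatMod.IsFinLocFree F) :
    DCoh.IsStrictlyPerfect (Sg i F) := by
  refine ⟨⟨i, i, fun k hk => ?_⟩, fun k => ?_⟩
  · exact HomologicalComplex.isZero_single_obj_X _ _ _ _ (by omega)
  · by_cases hk : k = i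
    · subst hk
      exact isFinLocFree_of_iso (HomologicalComplex.singleObjXSelf (ComplexShape.up ℤ) k F).symm hF
    · exact isFinLocFree_of_isZero _ (HomologicalComplex.isZero_single_obj_X _ _ _ _ hk)

lemma isZero_HD_Q_Sg (i : ℤ) (F : X.Modules) (k : ℤ) (hk : k ≠ i) :
    IsZero (DCoh.HD (DerivedCategory.Q.obj (Sg i F)) k) :=
  IsZero.of_iso (HomologicalComplex.isZero_single_obj_homology _ _ F k hk)
    ((DerivedCategory.homologyFunctorFactors X.Modules k).app (Sg i F))

noncomputable def hdQSgIso (i : ℤ) (F : X.Modules) :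
    DCoh.HD (DerivedCategory.Q.obj (Sg i F)) i ≅ F :=
  (DerivedCategory.homologyFunctorFactors X.Modules i).app (Sg i F) ≪≫
    HomologicalComplex.singleObjHomologySelfIso _ _ F

noncomputable def pullCSgIso {Y : Scheme.{u}} (g : Y ⟶ X) (i : ℤ) (F : X.Modules) :
    (pullC g).obj (Sg i F) ≅ Sg i ((Scheme.Modules.pullback g).obj F) :=
  (HomologicalComplex.singleMapHomologicalComplex (Scheme.Modules.pullback g)
    (ComplexShape.up ℤ) i).app F

noncomputable def inDShiftIso (i : ℤ) (V : X.Modules) :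
    (DCoh.inD X V)⟦-i⟧ ≅ DerivedCategory.Q.obj (Sg i V) :=
  shiftSingleIso V i

section rank

open Groth.Agent.Lib.Helper20.LocFree Groth.Agent.Helper18Strict Groth.Agent.Lib.Helper2.LocFree

/-- rank version of `FlfAt.of_immersion` -/
lemma exists_opens_restrict_iso_freeMod_of_immersion (M : X.Modules) {D : Scheme.{u}}
    (j : D ⟶ X) [IsOpenImmersion j] (n : ℕ) (e : M.restrict j ≅ FlatMod.freeMod D n) (d : D) :
    ∃ W : X.Opens, j d ∈ W ∧ Nonempty (M.restrict W.ι ≅ FlatMod.freeMod (↑W) n) := by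
  let W := j.opensRange
  let φ : (W : Scheme.{u}) ⟶ D := j.isoOpensRange.inv
  have hφ : φ ≫ j = W.ι := by simp [φ, W]
  exact ⟨W, ⟨d, rfl⟩, ⟨(Scheme.Modules.restrictFunctorCongr hφ.symm).app M ≪≫
    (Scheme.Modules.restrictFunctorComp φ j).app M ≪≫
    (Scheme.Modules.restrictFunctor φ).mapIso e ≪≫ restrictFreeMod φ n⟩⟩

/-- a module finite locally free near `x` is free near `x` of rank the fibre rank -/
lemma exists_opens_restrict_iso_freeMod_of_flfAt (M : X.Modules) [M.IsQuasicoherent] (x : X)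
    (h : FlfAt M x) :
    ∃ W : X.Opens, x ∈ W ∧ Nonempty (M.restrict W.ι ≅ FlatMod.freeMod (↑W) (fibreRank M x)) := by
  obtain ⟨W₀, hx, hW₀⟩ := h
  obtain ⟨D, n, hxD, ⟨e⟩⟩ := hW₀ ⟨x, hx⟩
  let e' : M.restrict (D.ι ≫ W₀.ι) ≅ FlatMod.freeMod (↑D) n :=
    (Scheme.Modules.restrictFunctorComp D.ι W₀.ι).app M ≪≫ e
  obtain ⟨W, hxW, ⟨e''⟩⟩ := exists_opens_restrict_iso_freeMod_of_immersion M (D.ι ≫ W₀.ι) n e'
    ⟨⟨x, hx⟩, hxD⟩
  have hn : fibreRank M x = n := (fibreRank_eq_of_restrict_iso_freeMod W.ι M e'' ⟨x, hxW⟩).2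
  rw [hn]
  exact ⟨W, hxW, ⟨e''⟩⟩

lemma isFinLocFreeOfRank_of_iso_freeMod (M : X.Modules) (r : ℕ) (e : M ≅ FlatMod.freeMod X r) :
    FlatMod.IsFinLocFreeOfRank r M := fun _ =>
  ⟨⊤, trivial, ⟨(Scheme.Modules.restrictFunctor (⊤ : X.Opens).ι).mapIso e ≪≫
    restrictFreeMod (⊤ : X.Opens).ι r⟩⟩

lemma isFinLocFree_of_isFinLocFreeOfRank (M : X.Modules) (r : ℕ)
    (h : FlatMod.IsFinLocFreeOfRank r M) : FlatMod.IsFinLocFree M := fun x => by
  obtain ⟨W, hx, e⟩ := h x
  exact ⟨W, r, hx, e⟩

lemma isQuasicoherent_of_isFinLocFreeOfRank (M : X.Modules) (r : ℕ)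
    (h : FlatMod.IsFinLocFreeOfRank r M) : M.IsQuasicoherent :=
  isQCoh_of_isFP _ (isFP_of_isFinLocFree _ (isFinLocFree_of_isFinLocFreeOfRank M r h))

end rank

section formula

open Groth.Agent.Lib.Helper20.LocFree Groth.Agent.Helper18Strict Groth.Agent.Lib.Helper2.LocFree
open Groth.Agent.Lib.Helper23.FinType

/-- the dimensions of the cohomology of the fibre of a strictly perfect complex -/
theorem finrank_homology_pullC_add {Y U : Scheme.{u}} (y : Y)
    (g' : Spec (Y.residueField y) ⟶ U) (P : CochainComplex U.Modules ℤ)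
    (hP : DCoh.IsStrictlyPerfect P) (k : ℤ) :
    Module.finrank (Coh.Γtop (Spec (Y.residueField y)))
        ((ΓT (Spec (Y.residueField y))).obj (((pullC g').obj P).homology k)) +
      fibreRank (P.X (k + 1)) (g' default) =
      fibreRank (cokernel (P.d (k - 1) k)) (g' default) +
        fibreRank (cokernel (P.d k (k + 1))) (g' default) := by
  have hpt : ∀ W : (Spec (Y.residueField y)).Opens,
      (default : Spec (Y.residueField y)) ∈ W → W = ⊤ :=
    fun W h => opens_eq_top_of_mem_of_subsingleton _ W h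
  let K := (pullC g').obj P
  let C := ((ΓT (Spec (Y.residueField y))).mapHomologicalComplex (ComplexShape.up ℤ)).obj K
  obtain ⟨e1⟩ := nonempty_homology_ΓT_iso default hpt K k
  have hb : Module.finrank (Coh.Γtop (Spec (Y.residueField y)))
      ((ΓT (Spec (Y.residueField y))).obj (K.homology k)) =
      Module.finrank (Coh.Γtop (Spec (Y.residueField y))) (C.homology k) :=
    (LinearEquiv.finrank_eq e1.toLinearEquiv).symm
  have hfin : ∀ k, Module.Finite (Coh.Γtop (Spec (Y.residueField y))) (C.X k) := fun k => by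
    have h1 : CohB1.IsFP ((Scheme.Modules.pullback g').obj (P.X k)) :=
      isFP_pullback g' _ (isFP_of_isFinLocFree _ (hP.2 k))
    haveI : ((Scheme.Modules.pullback g').obj (P.X k)).IsQuasicoherent :=
      isQCoh_of_isFP _ h1
    haveI : SheafOfModules.IsFiniteType (R := (Spec (Y.residueField y)).ringCatSheaf)
      ((Scheme.Modules.pullback g').obj (P.X k)) :=
      isFT_of_isFP _ h1
    exact finite_of_isFiniteType
      ((Scheme.Modules.pullback g').obj (P.X k))
      (isAffineOpen_top (Spec (Y.residueField y)))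
  have hLA := finrank_homology_add' (isField_Γtop_residueField y) C k hfin
  haveI := preservesFiniteColimits_ΓT_residueField y
  have hcok : ∀ k : ℤ, Module.finrank (Coh.Γtop (Spec (Y.residueField y)))
      (cokernel (C.d k (k + 1)) : ModuleCat.{u} (Coh.Γtop (Spec (Y.residueField y)))) =
      fibreRank (cokernel (P.d k (k + 1))) (g' default) := fun k => by
    have e3 : cokernel (C.d k (k + 1)) ≅ (ΓT (Spec (Y.residueField y))).obj
        ((Scheme.Modules.pullback g').obj (cokernel (P.d k (k + 1)))) :=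
      (PreservesCokernel.iso (ΓT (Spec (Y.residueField y)))
        ((Scheme.Modules.pullback g').map (P.d k (k + 1)))).symm ≪≫
      (ΓT (Spec (Y.residueField y))).mapIso
        (PreservesCokernel.iso (Scheme.Modules.pullback g') (P.d k (k + 1))).symm
    rw [LinearEquiv.finrank_eq e3.toLinearEquiv, finrank_ΓT_pullback_residueField]
  have hX : Module.finrank (Coh.Γtop (Spec (Y.residueField y))) (C.X (k + 1)) =
      fibreRank (P.X (k + 1)) (g' default) :=
    finrank_ΓT_pullback_residueField y g' (P.X (k + 1))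
  have h1 := hcok (k - 1)
  rw [show k - 1 + 1 = k by ring] at h1
  rw [hb, ← hX, ← h1, ← hcok k]
  exact hLA

end formula

section locus

open Groth.Agent.Lib.Helper26.ModRank in
/-- the locus where `E` is a locally free module of rank `r` in degree `i` -/
def LocusProp (E : DCoh.D X) (i : ℤ) (r : ℕ) (x : X) : Prop :=
  ∃ (W : Scheme.{u}) (j : W ⟶ X) (_ : IsOpenImmersion j) (F : W.Modules),
    x ∈ Set.range j.base ∧ FlatMod.IsFinLocFreeOfRank r F ∧
      Nonempty ((resD j).obj E ≅ DerivedCategory.Q.obj (Sg i F))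

lemma isOpen_locusProp (E : DCoh.D X) (i : ℤ) (r : ℕ) : IsOpen {x : X | LocusProp E i r x} := by
  rw [isOpen_iff_forall_mem_open]
  rintro x ⟨W, j, hj, F, hx, hF, ha⟩
  exact ⟨Set.range j.base, fun x' hx' => ⟨W, j, hj, F, hx', hF, ha⟩,
    j.isOpenEmbedding.isOpen_range, hx⟩

/-- the forward direction -/
theorem exists_of_forall_locusProp (E : DCoh.D X) (i : ℤ) (r : ℕ) {Y : Scheme.{u}} (f : Y ⟶ X)
    [DCoh.HasLpull f] (h : ∀ y : Y, LocusProp E i r (f y)) :
    ∃ V : Y.Modules, FlatMod.IsFinLocFreeOfRank r V ∧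
      Nonempty ((DCoh.Lpull f).obj E ≅ (DCoh.inD Y V)⟦-i⟧) := by
  let L := (DCoh.Lpull f).obj E
  have hloc : ∀ y : Y, ∃ (Y' : Y.Opens) (G : (Y' : Scheme.{u}).Modules), y ∈ Y' ∧
      FlatMod.IsFinLocFreeOfRank r G ∧
      Nonempty ((resD Y'.ι).obj L ≅ DerivedCategory.Q.obj (Sg i G)) := by
    intro y
    obtain ⟨W, j, hj, F, ⟨w, hw⟩, hF, ⟨a⟩⟩ := h y
    haveI := hj
    let Y' : Y.Opens := f ⁻¹ᵁ j.opensRange
    have hyY' : y ∈ Y' := ⟨w, hw⟩
    let g : (Y' : Scheme.{u}) ⟶ X := Y'.ι ≫ f
    have hrange : Set.range g.base ⊆ Set.range j.base := by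
      rintro _ ⟨z, rfl⟩
      exact z.2
    let g' := IsOpenImmersion.lift j g hrange
    have hg : g' ≫ j = g := IsOpenImmersion.lift_fac j g hrange
    haveI : DCoh.HasLpull g := hasLpull _
    haveI : DCoh.HasLpull Y'.ι := hasLpull _
    have hFflf := isFinLocFree_of_isFinLocFreeOfRank F r hF
    obtain ⟨e1⟩ := nonempty_lpull_iso_of_factor E j (Sg i F) (isStrictlyPerfect_Sg i F hFflf) a
      g g' hg
    obtain ⟨c⟩ := nonempty_lpull_comp_iso Y'.ι f
    obtain ⟨b⟩ := nonempty_lpull_iso_resD Y'.ι L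
    haveI := isQuasicoherent_of_isFinLocFreeOfRank F r hF
    exact ⟨Y', (Scheme.Modules.pullback g').obj F, hyY',
      Groth.Agent.Lib.Helper26.ModRank.isFinLocFreeOfRank_pullback g' F hF,
      ⟨b.symm ≪≫ c.app E ≪≫ e1 ≪≫ DerivedCategory.Q.mapIso (pullCSgIso g' i F)⟩⟩
  choose Y' G hy hG hiso using hloc
  have hres : ∀ (y : Y) (k : ℤ), (DCoh.HD L k).restrict (Y' y).ι ≅
      DCoh.HD (DerivedCategory.Q.obj (Sg i (G y))) k := fun y k =>
    (homologyResDIso (Y' y).ι L k).symm ≪≫
      (DerivedCategory.homologyFunctor _ k).mapIso (hiso y).some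
  have hz : ∀ k : ℤ, k ≠ i → IsZero (DCoh.HD L k) := fun k hk =>
    Groth.Agent.Lib.Helper23.ModLocal.isZero_of_isZero_restrict
      (fun y : Y => ((Y' y : Y.Opens) : Scheme.{u})) (fun y => (Y' y).ι)
      (fun x => ⟨x, ⟨x, hy x⟩, rfl⟩)
      (fun y => IsZero.of_iso (isZero_HD_Q_Sg i (G y) k hk) (hres y k))
  obtain ⟨e⟩ := nonempty_iso_single_of_isZero_homology L i hz
  refine ⟨DCoh.HD L i, ?_, ⟨e ≪≫ (shiftSingleIso (DCoh.HD L i) i).symm⟩⟩
  intro y
  obtain ⟨D, hyD, ⟨eD⟩⟩ := hG y ⟨y, hy y⟩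
  let e' : (DCoh.HD L i).restrict (D.ι ≫ (Y' y).ι) ≅ FlatMod.freeMod (↑D) r :=
    (Scheme.Modules.restrictFunctorComp D.ι (Y' y).ι).app _ ≪≫
      (Scheme.Modules.restrictFunctor D.ι).mapIso (hres y i ≪≫ hdQSgIso i (G y)) ≪≫ eD
  obtain ⟨W, hW, he⟩ := exists_opens_restrict_iso_freeMod_of_immersion _ (D.ι ≫ (Y' y).ι) r e'
    ⟨⟨y, hy y⟩, hyD⟩
  exact ⟨W, hW, he⟩

end locus

section backward

open Groth.Agent.Lib.Helper20.LocFree Groth.Agent.Helper18Strict Groth.Agent.Lib.Helper2.LocFree

/-- the backward direction -/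
theorem locusProp_of_iso (E : DCoh.D X) (hE : DCoh.IsPerfect E) (i : ℤ) (r : ℕ) {Y : Scheme.{u}}
    (f : Y ⟶ X) [DCoh.HasLpull f] (V : Y.Modules) (hV : FlatMod.IsFinLocFreeOfRank r V)
    (e : (DCoh.Lpull f).obj E ≅ (DCoh.inD Y V)⟦-i⟧) (y : Y) : LocusProp E i r (f y) := by
  obtain ⟨U₀, j, hj, P, n, hx, hP, ⟨a⟩, hn⟩ := exists_pres_free E hE (f y)
  haveI := hj
  obtain ⟨u, hu⟩ := hx
  let gy : Spec (Y.residueField y) ⟶ Y := Y.fromSpecResidueField y
  let g : Spec (Y.residueField y) ⟶ X := gy ≫ f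
  have hgy : gy default = y := Scheme.fromSpecResidueField_apply y default
  have hgt : g default = f y := by
    show f (gy default) = f y
    rw [hgy]
  have hrange : Set.range g.base ⊆ Set.range j.base := by
    rintro _ ⟨t, rfl⟩
    have ht : t = default := Subsingleton.elim _ _
    subst ht
    exact ⟨u, hu.trans hgt.symm⟩
  let g' := IsOpenImmersion.lift j g hrange
  have hg : g' ≫ j = g := IsOpenImmersion.lift_fac j g hrange
  have hu' : g' default = u := by
    apply j.isOpenEmbedding.injective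
    have h1 : (g' ≫ j) default = f y := by
      rw [hg]
      exact hgt
    exact h1.trans hu.symm
  haveI : DCoh.HasLpull g := hasLpull _
  haveI : DCoh.HasLpull gy := hasLpull _
  obtain ⟨e1⟩ := nonempty_lpull_iso_of_factor E j P hP a g g' hg
  obtain ⟨c⟩ := nonempty_lpull_comp_iso gy f
  have hVflf := isFinLocFree_of_isFinLocFreeOfRank V r hV
  haveI := isQuasicoherent_of_isFinLocFreeOfRank V r hV
  let V' := (Scheme.Modules.pullback gy).obj V
  let e2 : (DCoh.Lpull g).obj E ≅ DerivedCategory.Q.obj (Sg i V') :=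
    (c.app E).symm ≪≫ (DCoh.Lpull gy).mapIso (e ≪≫ inDShiftIso i V) ≪≫
      lpullIso gy (Sg i V) (kffs_of_isStrictlyPerfect _ (isStrictlyPerfect_Sg i V hVflf)) ≪≫
      DerivedCategory.Q.mapIso (pullCSgIso gy i V)
  have hH : ∀ k : ℤ, ((pullC g').obj P).homology k ≅
      DCoh.HD (DerivedCategory.Q.obj (Sg i V')) k := fun k =>
    ((DerivedCategory.homologyFunctorFactors _ k).app _).symm ≪≫
      (DerivedCategory.homologyFunctor _ k).mapIso (e1.symm ≪≫ e2)
  have hrV : fibreRank V y = r := by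
    obtain ⟨W, hyW, ⟨eW⟩⟩ := hV y
    exact (fibreRank_eq_of_restrict_iso_freeMod W.ι V eW ⟨y, hyW⟩).2
  have hdim : ∀ k : ℤ, Module.finrank (Coh.Γtop (Spec (Y.residueField y)))
      ((ΓT (Spec (Y.residueField y))).obj (((pullC g').obj P).homology k)) =
        if k = i then r else 0 := by
    intro k
    by_cases hk : k = i
    · subst hk
      rw [if_pos rfl]
      have e3 := (ΓT (Spec (Y.residueField y))).mapIso (hH k ≪≫ hdQSgIso k V')
      rw [LinearEquiv.finrank_eq e3.toLinearEquiv, finrank_ΓT_pullback_residueField y gy V, hgy]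
      exact hrV
    · rw [if_neg hk]
      have hz : IsZero ((ΓT (Spec (Y.residueField y))).obj (((pullC g').obj P).homology k)) :=
        (ΓT (Spec (Y.residueField y))).map_isZero
          (IsZero.of_iso (isZero_HD_Q_Sg i V' k hk) (hH k))
      haveI : Subsingleton ((ΓT (Spec (Y.residueField y))).obj (((pullC g').obj P).homology k)) :=
        ModuleCat.subsingleton_of_isZero hz
      haveI : Nontrivial (Coh.Γtop (Spec (Y.residueField y))) :=
        (isField_Γtop_residueField y).nontrivial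
      exact Module.finrank_zero_of_subsingleton
  have hform : ∀ k : ℤ, (if k = i then r else 0) + fibreRank (P.X (k + 1)) u =
      fibreRank (cokernel (P.d (k - 1) k)) u + fibreRank (cokernel (P.d k (k + 1))) u := by
    intro k
    have h1 := finrank_homology_pullC_add y g' P hP k
    rw [hdim k, hu'] at h1
    exact h1
  have hkey := flfAt_homology_of_fibre u P hP i (fun k hk => by
    have h1 := hform k
    rw [if_neg hk] at h1
    omega)
  have hfr : ∀ k : ℤ, fibreRank (P.homology k) u = if k = i then r else 0 := fun k => by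
    have h1 := (hkey k).2
    have h2 := hform k
    omega
  haveI : ∀ k, (P.homology k).IsQuasicoherent := fun k =>
    isQuasicoherent_homology P (fun l => isQCoh_of_isFP _ (isFP_of_isFinLocFree _ (hP.2 l))) k
  have hnear : ∀ k : ℤ, ∃ W : U₀.Opens, u ∈ W ∧
      Nonempty ((P.homology k).restrict W.ι ≅
        FlatMod.freeMod (↑W) (if k = i then r else 0)) := fun k => by
    have h1 := exists_opens_restrict_iso_freeMod_of_flfAt (P.homology k) u (hkey k).1
    rwa [hfr k] at h1
  obtain ⟨⟨a', b', hv⟩, -⟩ := id hP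
  obtain ⟨W, huW, hW⟩ := exists_opens_forall_of_nhds u
    (fun k W => Nonempty ((P.homology k).restrict W.ι ≅
      FlatMod.freeMod (↑W) (if k = i then r else 0)))
    (fun k W W' hle ⟨e⟩ => nonempty_restrict_iso_freeMod_of_le _ hle e) hnear
    (min a' i) (max b' i)
  have hW' : ∀ k : ℤ, Nonempty ((P.homology k).restrict W.ι ≅
      FlatMod.freeMod (↑W) (if k = i then r else 0)) := fun k => by
    by_cases hk : min a' i ≤ k ∧ k ≤ max b' i
    · exact hW k hk.1 hk.2
    · have hki : k ≠ i := by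
        rintro rfl
        exact hk ⟨min_le_right _ _, le_max_right _ _⟩
      have hz : IsZero (P.homology k) := IsZero.of_epi (P.homologyπ k)
        (IsZero.of_mono (P.iCycles k) (hv k (by
          simp only [min_le_iff, le_max_iff, not_and_or, not_or, not_le] at hk
          omega)))
      rw [if_neg hki]
      exact ⟨IsZero.iso ((Scheme.Modules.restrictFunctor W.ι).map_isZero hz) isZero_freeMod_zero⟩
  -- the restriction of `E` to `W`
  let jW : (W : Scheme.{u}) ⟶ X := W.ι ≫ j
  let K : DCoh.D (W : Scheme.{u}) := (resD jW).obj E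
  let eK : K ≅ DerivedCategory.Q.obj ((resC W.ι).obj P) :=
    (resDComp W.ι j).app E ≪≫ (resD W.ι).mapIso a ≪≫ (facD W.ι).app P
  haveI : (Scheme.Modules.restrictFunctor W.ι).PreservesHomology := inferInstance
  have hHK : ∀ k : ℤ, DCoh.HD K k ≅ (P.homology k).restrict W.ι := fun k =>
    (DerivedCategory.homologyFunctor _ k).mapIso eK ≪≫
      (DerivedCategory.homologyFunctorFactors _ k).app _ ≪≫
      (P.sc k).mapHomologyIso (Scheme.Modules.restrictFunctor W.ι)
  have hzK : ∀ k : ℤ, k ≠ i → IsZero (DCoh.HD K k) := fun k hk => by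
    obtain ⟨e0⟩ := hW' k
    rw [if_neg hk] at e0
    exact IsZero.of_iso isZero_freeMod_zero (hHK k ≪≫ e0)
  obtain ⟨eS⟩ := nonempty_iso_single_of_isZero_homology K i hzK
  obtain ⟨e0⟩ := hW' i
  rw [if_pos rfl] at e0
  exact ⟨W, jW, inferInstance, DCoh.HD K i, ⟨⟨u, huW⟩, hu⟩,
    isFinLocFreeOfRank_of_iso_freeMod _ r (hHK i ≪≫ e0), ⟨eS⟩⟩

end backward

end Groth.Agent.Lib.Helper1.LF
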