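import Mathlib
import Groth.Agent.Lib.Helper1RelPC3
import Groth.Agent.Lib.Helper1TorJ

set_option autoImplicit false
set_option maxHeartbeats 400000
universe u
open CategoryTheory CategoryTheory.Limits TensorProduct
attribute [local instance] HasDerivedCategory.standard

namespace Groth.Agent.Lib.Helper1.LocBC

open Groth.Agent.Lib.Helper1.Tor

section Alg

variable {P A : Type u} [CommRing P] [CommRing A] [Algebra P A] (g : P)

example : Algebra P (Localization.Away (algebraMap P A g)) := inferInstance
example : IsScalarTower P A (Localization.Away (algebraMap P A g)) := inferInstance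

/-- the induced map on localizations -/
noncomputable def locMap : Localization.Away g →+* Localization.Away (algebraMap P A g) :=
  IsLocalization.Away.lift (S := Localization.Away g) g
    (g := (algebraMap A (Localization.Away (algebraMap P A g))).comp (algebraMap P A))
    (IsLocalization.Away.algebraMap_isUnit (algebraMap P A g))

lemma locMap_algebraMap (p : P) :
    locMap (A := A) g (algebraMap P (Localization.Away g) p) =
      algebraMap A (Localization.Away (algebraMap P A g)) (algebraMap P A p) :=
  IsLocalization.Away.lift_eq g _ p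

variable (M : Type u) [AddCommGroup M] [Module A M] [Module P M] [IsScalarTower P A M]

/-- `A_f ⊗_A M` as a module over `P_g` via `locMap` -/
noncomputable abbrev pgModule :
    Module (Localization.Away g) (Localization.Away (algebraMap P A g) ⊗[A] M) :=
  Module.compHom _ (locMap (A := A) g)

attribute [local instance] pgModule

instance : IsScalarTower P (Localization.Away g)
    (Localization.Away (algebraMap P A g) ⊗[A] M) := by
  refine IsScalarTower.of_algebraMap_smul (fun p n => ?_)
  show locMap (A := A) g (algebraMap P (Localization.Away g) p) • n = p • n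
  rw [locMap_algebraMap, ← IsScalarTower.algebraMap_apply, algebraMap_smul]

/-- base change compatibility for localization: `P_g ⊗_P M ≃ A_f ⊗_A M` -/
noncomputable def bcEquiv :
    (Localization.Away g ⊗[P] M) ≃ₗ[Localization.Away g]
      (Localization.Away (algebraMap P A g) ⊗[A] M) := by
  have h1 : IsLocalizedModule (Submonoid.powers (algebraMap P A g))
      (TensorProduct.mk A (Localization.Away (algebraMap P A g)) M 1) :=
    isLocalizedModule_mk (algebraMap P A g) M
  have h2 : IsLocalizedModule (Submonoid.powers g)
      ((TensorProduct.mk A (Localization.Away (algebraMap P A g)) M 1).restrictScalars P) :=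
    IsLocalizedModule.restrictScalars_powers g _
  exact ((isLocalizedModule_iff_isBaseChange (Submonoid.powers g) (Localization.Away g) _).1 h2).equiv

lemma bcEquiv_tmul (q : Localization.Away g) (m : M) :
    bcEquiv (A := A) g M (q ⊗ₜ m) = q • ((1 : Localization.Away (algebraMap P A g)) ⊗ₜ[A] m) := by
  unfold bcEquiv
  exact IsBaseChange.equiv_tmul _ q m

end Alg

section Cat

open Groth.Agent.Lib.Helper1.Extend ChangeOfRings

variable {P A : Type u} [CommRing P] [CommRing A] [Algebra P A] (g : P) (M₀ : ModuleCat.{u} A)

/-- the `P`-module structure on an `A`-module (the one of `restrictScalars`) -/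
noncomputable abbrev pMod : Module P M₀ := Module.compHom M₀ (algebraMap P A)

attribute [local instance] pMod pgModule

instance : IsScalarTower P A M₀ := ⟨fun p a x => by
  show (p • a) • x = algebraMap P A p • (a • x)
  rw [Algebra.smul_def, mul_smul]⟩

/-- the right hand side -/
noncomputable def rhsEquiv :
    ((ModuleCat.restrictScalars.{u} (locMap (A := A) g)).obj
      ((ext A (Localization.Away (algebraMap P A g))).obj M₀)) ≃ₗ[Localization.Away g]
      (Localization.Away (algebraMap P A g) ⊗[A] M₀) :=
  { (extEquiv (A := A) (B := Localization.Away (algebraMap P A g)) M₀) with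
    map_smul' := fun q y =>
      (extEquiv (A := A) (B := Localization.Away (algebraMap P A g)) M₀).map_smul
        (locMap (A := A) g q) y }

/-- base change compatibility, in `ModuleCat` -/
noncomputable def bcIso :
    (ext P (Localization.Away g)).obj ((ModuleCat.restrictScalars.{u} (algebraMap P A)).obj M₀) ≅
      (ModuleCat.restrictScalars.{u} (locMap (A := A) g)).obj
        ((ext A (Localization.Away (algebraMap P A g))).obj M₀) :=
  (extEquiv (A := P) (B := Localization.Away g) M₀).toModuleIso ≪≫
    (bcEquiv (A := A) g M₀).toModuleIso ≪≫ (rhsEquiv g M₀).symm.toModuleIso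

lemma bcIso_hom_one_tmul (x : M₀) :
    (bcIso g M₀).hom ((1 : Localization.Away g) ⊗ₜ[P, algebraMap P (Localization.Away g)]
      (show ((ModuleCat.restrictScalars.{u} (algebraMap P A)).obj M₀) from x)) =
      ((1 : Localization.Away (algebraMap P A g)) ⊗ₜ[A, algebraMap A _] x :
        (ext A (Localization.Away (algebraMap P A g))).obj M₀) := by
  have h1 : bcEquiv (A := A) g M₀ ((1 : Localization.Away g) ⊗ₜ[P] (x : M₀)) =
      (1 : Localization.Away (algebraMap P A g)) ⊗ₜ[A] x := by
    rw [bcEquiv_tmul, one_smul]
  show (rhsEquiv g M₀).symm (bcEquiv (A := A) g M₀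
    (extEquiv (A := P) (B := Localization.Away g) M₀ _)) = _
  rw [LinearEquiv.symm_apply_eq]
  exact h1

lemma bcIso_naturality {M₀ M₁ : ModuleCat.{u} A} (φ : M₀ ⟶ M₁) :
    (ext P (Localization.Away g)).map ((ModuleCat.restrictScalars.{u} (algebraMap P A)).map φ) ≫
        (bcIso g M₁).hom =
      (bcIso g M₀).hom ≫ (ModuleCat.restrictScalars.{u} (locMap (A := A) g)).map
        ((ext A (Localization.Away (algebraMap P A g))).map φ) := by
  apply ModuleCat.ExtendScalars.hom_ext
  intro x
  rw [ModuleCat.comp_apply, ModuleCat.comp_apply]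
  have e1 := bcIso_hom_one_tmul g M₁ (φ x)
  have e0 := bcIso_hom_one_tmul g M₀ x
  change (bcIso g M₁).hom ((1 : Localization.Away g) ⊗ₜ[P, algebraMap P (Localization.Away g)]
      (show ((ModuleCat.restrictScalars.{u} (algebraMap P A)).obj M₁) from φ x)) =
    (ext A (Localization.Away (algebraMap P A g))).map φ ((bcIso g M₀).hom
      ((1 : Localization.Away g) ⊗ₜ[P, algebraMap P (Localization.Away g)]
      (show ((ModuleCat.restrictScalars.{u} (algebraMap P A)).obj M₀) from x)))
  rw [e1, e0]
  rfl

/-- base change compatibility on complexes -/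
noncomputable def bcCxIso (K : DRing.Cx A) :
    (extCx P (Localization.Away g)).obj ((DRing.restrictCx (algebraMap P A)).obj K) ≅
      (DRing.restrictCx (locMap (A := A) g)).obj
        ((extCx A (Localization.Away (algebraMap P A g))).obj K) :=
  HomologicalComplex.Hom.isoOfComponents (fun i => bcIso g (K.X i))
    (fun i j _ => (bcIso_naturality g (K.d i j)).symm)

open DerivedCategory Groth.Agent.Lib.Helper1.Restrict in
/-- base change compatibility in the derived category -/
noncomputable def bcDIso (K : DRing.Cx A) :
    (extD P (Localization.Away g)).obj ((DRing.restrictD (algebraMap P A)).obj (Q.obj K)) ≅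
      (DRing.restrictD (locMap (A := A) g)).obj
        (Q.obj ((extCx A (Localization.Away (algebraMap P A g))).obj K)) :=
  (extD P (Localization.Away g)).mapIso (restrictQIso (algebraMap P A) K) ≪≫
    mapQIso (ext P (Localization.Away g)) _ ≪≫ Q.mapIso (bcCxIso g K) ≪≫
    (restrictQIso (locMap (A := A) g) _).symm

end Cat

section Away

open Groth.Agent.Lib.Helper1.RelPC Groth.Agent.Lib.Helper1.Restrict Polynomial

variable {P : Type u} [CommRing P] (g : P)

lemma regular_C_mul_X_sub_one (q : P[X]) (h : (C g * X - 1) * q = 0) : q = 0 := by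
  have h1 : ((C g * X - 1 : P[X]) : PowerSeries P) * (q : PowerSeries P) = 0 := by
    rw [← Polynomial.coe_mul, h, Polynomial.coe_zero]
  have hu : IsUnit ((C g * X - 1 : P[X]) : PowerSeries P) := by
    rw [PowerSeries.isUnit_iff_constantCoeff]
    simp
  have h2 : (q : PowerSeries P) = 0 := by
    rw [← hu.mul_right_inj, h1, mul_zero]
  exact Polynomial.coe_eq_zero_iff.1 h2

/-- `P[T] → P_g`, `T ↦ 1/g` -/
noncomputable def awayPres₀ : P[X] →+* Localization.Away g :=
  ((Localization.awayEquivAdjoin g).symm.toRingEquiv.toRingHom).comp (AdjoinRoot.mk (C g * X - 1))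

lemma awayPres₀_C (p : P) : awayPres₀ g (C p) = algebraMap P (Localization.Away g) p := by
  have h1 : AdjoinRoot.mk (C g * X - 1) (C p) = algebraMap P (AdjoinRoot (C g * X - 1)) p := by
    rw [AdjoinRoot.mk_C, AdjoinRoot.algebraMap_eq]
  show (Localization.awayEquivAdjoin g).symm (AdjoinRoot.mk (C g * X - 1) (C p)) = _
  rw [h1, AlgEquiv.commutes]

lemma awayPres₀_surjective : Function.Surjective (awayPres₀ g) :=
  (Localization.awayEquivAdjoin g).symm.surjective.comp AdjoinRoot.mk_surjective

lemma bpc_awayPres₀ : BPC (awayPres₀ g) := by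
  refine bpc_comp _ _ ?_ (bpc_of_bijective _ (Localization.awayEquivAdjoin g).symm.bijective)
  refine bpc_of_principal (AdjoinRoot.mk (C g * X - 1)) (C g * X - 1) AdjoinRoot.mk_surjective
    (fun q hq => ?_) AdjoinRoot.mk_self (fun q hq => regular_C_mul_X_sub_one g q hq)
  exact AdjoinRoot.mk_eq_zero.1 hq

/-- `MvPolynomial (Fin 1) P ≃ P[T]` -/
noncomputable def fin1Equiv (P : Type u) [CommRing P] : MvPolynomial (Fin 1) P ≃ₐ[P] P[X] :=
  MvPolynomial.uniqueAlgEquiv P (Fin 1)

/-- `P[t] → P_g` as a map from a multivariate polynomial ring -/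
noncomputable def awayPres : MvPolynomial (Fin 1) P →+* Localization.Away g :=
  (awayPres₀ g).comp (fin1Equiv P).toRingEquiv.toRingHom

lemma awayPres_C (p : P) : awayPres g (MvPolynomial.C p) = algebraMap P (Localization.Away g) p := by
  have h1 : fin1Equiv P (MvPolynomial.C p) = C p := by
    have := (fin1Equiv P).commutes p
    rwa [MvPolynomial.algebraMap_eq, Polynomial.algebraMap_eq] at this
  show awayPres₀ g (fin1Equiv P (MvPolynomial.C p)) = _
  rw [h1, awayPres₀_C]

lemma awayPres_surjective : Function.Surjective (awayPres g) :=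
  (awayPres₀_surjective g).comp (fin1Equiv P).surjective

lemma bpc_awayPres : BPC (awayPres g) :=
  bpc_comp _ _ (bpc_of_bijective _ (fin1Equiv P).bijective) (bpc_awayPres₀ g)

end Away

section Key

open Groth.Agent.Lib.Helper1.RelPC Groth.Agent.Lib.Helper1.Restrict Groth.Agent.Lib.Helper1.Extend
open Groth.Agent.Lib.Helper1.PC DerivedCategory

lemma locMap_surjective {P A : Type u} [CommRing P] [CommRing A] [Algebra P A] (g : P)
    (hs : Function.Surjective (algebraMap P A)) : Function.Surjective (locMap (A := A) g) := by
  intro z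
  obtain ⟨k, a, hz⟩ := IsLocalization.Away.surj (algebraMap P A g) z
  obtain ⟨p, rfl⟩ := hs a
  set u := algebraMap A (Localization.Away (algebraMap P A g)) (algebraMap P A g) with hu
  set v := locMap (A := A) g (IsLocalization.Away.invSelf g) with hv
  have huv : u * v = 1 := by
    rw [hu, hv, ← locMap_algebraMap, ← map_mul, IsLocalization.Away.mul_invSelf, map_one]
  refine ⟨algebraMap P (Localization.Away g) p * IsLocalization.Away.invSelf g ^ k, ?_⟩
  rw [map_mul, map_pow, locMap_algebraMap, ← hz, ← hv, mul_assoc, ← mul_pow, huv, one_pow, mul_one]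

variable {R A : Type u} [CommRing R] [CommRing A] [Algebra R A]

theorem rel_away_iff {n : ℕ} (α : MvPolynomial (Fin n) R →ₐ[R] A) (hα : Function.Surjective α)
    (g : MvPolynomial (Fin n) R) (a : A) (hga : α g = a) (K : DRing.Cx A) (m : ℤ) :
    letI : Algebra (MvPolynomial (Fin n) R) A := α.toRingHom.toAlgebra
    DerCA.IsRelPseudoCoherent R (Localization.Away a) m
        (DRing.toD ((extCx A (Localization.Away a)).obj K)) ↔
      DRing.IsPseudoCoherent (Localization.Away g) m
        ((extD (MvPolynomial (Fin n) R) (Localization.Away g)).obj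
          ((DRing.restrictD (α : MvPolynomial (Fin n) R →+* A)).obj (Q.obj K))) := by
  subst hga
  let _ : Algebra (MvPolynomial (Fin n) R) A := α.toRingHom.toAlgebra
  let γ : MvPolynomial (Fin 1) (MvPolynomial (Fin n) R) →+* Localization.Away (α g) :=
    (locMap (A := A) g).comp (awayPres g)
  have hγ : ∀ r : R, γ (MvPolynomial.C (MvPolynomial.C r)) =
      algebraMap R (Localization.Away (α g)) r := by
    intro r
    show locMap (A := A) g (awayPres g (MvPolynomial.C (MvPolynomial.C r))) = _
    rw [awayPres_C, locMap_algebraMap]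
    have h1 : algebraMap (MvPolynomial (Fin n) R) A (MvPolynomial.C r) = algebraMap R A r :=
      α.commutes r
    rw [h1, ← IsScalarTower.algebraMap_apply]
    rfl
  have hsurj : Function.Surjective γ :=
    (locMap_surjective (A := A) g hα).comp (awayPres_surjective g)
  rw [rel_iff_pc_twoStep γ hγ hsurj]
  rw [← isPC_restrictD_comp_iff, ← isPC_restrictD_iff _ (bpc_awayPres g)]
  exact ⟨fun h => isPC_of_iso (bcDIso g K).symm h, fun h => isPC_of_iso (bcDIso g K) h⟩

end Key

end Groth.Agent.Lib.Helper1.LocBC
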