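import Mathlib
import Groth.Agent.Lib.Helper1LBC
set_option backward.isDefEq.respectTransparency.types false

/-!
# Complexes of free modules given by matrices, and their base change (helper1)
-/

set_option autoImplicit false
set_option linter.style.haveILetI false
set_option maxHeartbeats 400000
universe u
open CategoryTheory CategoryTheory.Limits HomologicalComplex

namespace Groth.Agent.Lib.Helper1.MatCx

open Groth.Agent.Lib.Helper1.LDer Groth.Agent.Lib.Helper1.Extend

section Mat

variable (A : Type u) [CommRing A] {B : Type u} [CommRing B] (n : ℕ)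

/-- the free module `A^n` -/
abbrev Fr : ModuleCat.{u} A := ModuleCat.of A (Fin n → A)

variable {A n}

/-- the endomorphism of `A^n` given by a matrix -/
noncomputable def matHom (M : Matrix (Fin n) (Fin n) A) : Fr A n ⟶ Fr A n :=
  ModuleCat.ofHom (Matrix.toLin' M)

lemma matHom_apply (M : Matrix (Fin n) (Fin n) A) (v : Fin n → A) :
    (matHom M).hom v = M.mulVec v := rfl

lemma matHom_mul (M N : Matrix (Fin n) (Fin n) A) : matHom (M * N) = matHom N ≫ matHom M := by
  ext v
  simp [matHom, Matrix.toLin'_mul]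

lemma matHom_zero : matHom (0 : Matrix (Fin n) (Fin n) A) = 0 := by
  ext v
  simp [matHom]

lemma matHom_one : matHom (1 : Matrix (Fin n) (Fin n) A) = 𝟙 _ := by
  ext v
  simp [matHom]

lemma matHom_injective : Function.Injective (matHom : Matrix (Fin n) (Fin n) A → _) := by
  intro M N h
  have h1 : Matrix.toLin' M = Matrix.toLin' N := congrArg ModuleCat.Hom.hom h
  exact Matrix.toLin'.injective h1

lemma exists_matHom_eq (f : Fr A n ⟶ Fr A n) : ∃ M : Matrix (Fin n) (Fin n) A, matHom M = f :=
  ⟨LinearMap.toMatrix' f.hom, by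
    ext v
    simp [matHom]⟩

variable (φ : A →+* B) (n)

/-- the base change of `A^n` is `B^n` -/
noncomputable def κ : (ModuleCat.extendScalars.{u, u, u} φ).obj (Fr A n) ≅ Fr B n := by
  letI : Algebra A B := φ.toAlgebra
  exact ((extEquiv (A := A) (B := B) (Fin n → A)).trans
    (TensorProduct.piScalarRight A B B (Fin n))).toModuleIso

open ChangeOfRings in
lemma κ_hom_one_tmul (v : Fin n → A) :
    (κ n φ).hom ((1 : B) ⊗ₜ[A,φ] v) = fun i => φ (v i) := by
  letI : Algebra A B := φ.toAlgebra
  change TensorProduct.piScalarRight A B B (Fin n) ((1 : B) ⊗ₜ[A] v) = _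
  rw [TensorProduct.piScalarRight_apply, TensorProduct.piScalarRightHom_tmul]
  funext i
  change v i • (1 : B) = φ (v i)
  rw [Algebra.smul_def, mul_one]
  rfl

variable {n}

open ChangeOfRings in
lemma κ_naturality (M : Matrix (Fin n) (Fin n) A) :
    (ModuleCat.extendScalars.{u, u, u} φ).map (matHom M) ≫ (κ n φ).hom =
      (κ n φ).hom ≫ matHom (M.map φ) := by
  apply ModuleCat.ExtendScalars.hom_ext
  intro v
  calc ((ModuleCat.extendScalars.{u, u, u} φ).map (matHom M) ≫ (κ n φ).hom) ((1 : B) ⊗ₜ[A,φ] v)
      = (κ n φ).hom ((1 : B) ⊗ₜ[A,φ] (M.mulVec v)) := rfl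
    _ = fun i => φ ((M.mulVec v) i) := κ_hom_one_tmul n φ _
    _ = (M.map φ).mulVec (fun i => φ (v i)) := by
        funext i
        exact RingHom.map_mulVec φ M v i
    _ = ((κ n φ).hom ≫ matHom (M.map φ)) ((1 : B) ⊗ₜ[A,φ] v) := by
        rw [← κ_hom_one_tmul n φ v]
        rfl

end Mat


section Data

variable (A : Type u) [CommRing A] {B : Type u} [CommRing B] (n : ℕ)

/-- a complex `… → A^n → A^n → …` given by matrices, with an idempotent endomorphism given by
matrices -/
structure MatData where
  D : ℤ → Matrix (Fin n) (Fin n) A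
  e : ℤ → Matrix (Fin n) (Fin n) A
  DD : ∀ i, D (i + 1) * D i = 0
  ee : ∀ i, e i * e i = e i
  De : ∀ i, D i * e i = e (i + 1) * D i

variable {A n}

namespace MatData

/-- the complex attached to matrix data -/
noncomputable def cx (d : MatData A n) : CochainComplex (ModuleCat.{u} A) ℤ :=
  CochainComplex.of (fun _ => Fr A n) (fun i => matHom (d.D i))
    (fun i => by rw [← matHom_mul, d.DD, matHom_zero])

lemma cx_d (d : MatData A n) (i : ℤ) : d.cx.d i (i + 1) = matHom (d.D i) := by
  change CochainComplex.of.d (fun _ => Fr A n) (fun i => matHom (d.D i)) i (i + 1) = _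
  exact CochainComplex.of_d _ _ _

/-- the idempotent endomorphism attached to matrix data -/
noncomputable def idem (d : MatData A n) : d.cx ⟶ d.cx :=
  CochainComplex.ofHom (X := d.cx) (Y := d.cx) (fun i => matHom (d.e i))
    (fun i => by
      rw [cx_d]
      change matHom (d.e i) ≫ matHom (d.D i) = matHom (d.D i) ≫ matHom (d.e (i + 1))
      rw [← matHom_mul, ← matHom_mul, d.De])

lemma idem_f (d : MatData A n) (i : ℤ) : d.idem.f i = matHom (d.e i) := rfl

lemma idem_idem (d : MatData A n) : d.idem ≫ d.idem = d.idem := by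
  apply HomologicalComplex.hom_ext
  intro i
  change matHom (d.e i) ≫ matHom (d.e i) = matHom (d.e i)
  rw [← matHom_mul, d.ee]

/-- base change of matrix data -/
def map (φ : A →+* B) (d : MatData A n) : MatData B n where
  D i := (d.D i).map φ
  e i := (d.e i).map φ
  DD i := by rw [← Matrix.map_mul, d.DD, Matrix.map_zero _ (map_zero φ)]
  ee i := by rw [← Matrix.map_mul, d.ee]
  De i := by rw [← Matrix.map_mul, ← Matrix.map_mul, d.De]

/-- the base change of the complex attached to matrix data -/
noncomputable def bcIso (φ : A →+* B) (d : MatData A n) :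
    (bcCx φ).obj d.cx ≅ (d.map φ).cx :=
  HomologicalComplex.Hom.isoOfComponents (fun _ => κ n φ) (fun i j hij => by
    obtain rfl : i + 1 = j := hij
    change (κ n φ).hom ≫ (d.map φ).cx.d i (i + 1) =
      (ModuleCat.extendScalars.{u, u, u} φ).map (d.cx.d i (i + 1)) ≫ (κ n φ).hom
    rw [cx_d, cx_d]
    exact (κ_naturality φ (d.D i)).symm)

lemma bcIso_hom_idem (φ : A →+* B) (d : MatData A n) :
    (bcCx φ).map d.idem ≫ (d.bcIso φ).hom = (d.bcIso φ).hom ≫ (d.map φ).idem := by
  apply HomologicalComplex.hom_ext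
  intro i
  change (ModuleCat.extendScalars.{u, u, u} φ).map (d.idem.f i) ≫ (κ n φ).hom =
    (κ n φ).hom ≫ (d.map φ).idem.f i
  rw [idem_f, idem_f]
  exact κ_naturality φ (d.e i)

end MatData

end Data

end Groth.Agent.Lib.Helper1.MatCx
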