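import Mathlib
import Groth.Agent.Lib.Helper1MatCxA
set_option backward.isDefEq.respectTransparency.types false

/-!
# Bounded complexes of finite projective modules as retracts of matrix complexes (helper1)
-/

set_option autoImplicit false
set_option linter.style.haveILetI false
set_option maxHeartbeats 400000
universe u
open CategoryTheory CategoryTheory.Limits HomologicalComplex

namespace Groth.Agent.Lib.Helper1.MatCx

open Groth.Agent.Lib.Helper1.LDer

section Split

variable {C : Type*} [Category C]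

/-- splittings of idempotents which correspond under an isomorphism are isomorphic -/
def splitIso {X X' Y Y' : C} (κ : X ≅ X') (p : X ⟶ X) (p' : X' ⟶ X')
    (hκ : p ≫ κ.hom = κ.hom ≫ p') (i : Y ⟶ X) (s : X ⟶ Y) (his : i ≫ s = 𝟙 Y) (hsi : s ≫ i = p)
    (i' : Y' ⟶ X') (s' : X' ⟶ Y') (his' : i' ≫ s' = 𝟙 Y') (hsi' : s' ≫ i' = p') : Y ≅ Y' where
  hom := i ≫ κ.hom ≫ s'
  inv := i' ≫ κ.inv ≫ s
  hom_inv_id := by
    have h1 : κ.hom ≫ p' ≫ κ.inv = p := by
      rw [← Category.assoc, ← hκ, Category.assoc, Iso.hom_inv_id, Category.comp_id]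
    calc (i ≫ κ.hom ≫ s') ≫ i' ≫ κ.inv ≫ s = i ≫ (κ.hom ≫ (s' ≫ i') ≫ κ.inv) ≫ s := by
          simp only [Category.assoc]
      _ = i ≫ p ≫ s := by rw [hsi', h1]
      _ = (i ≫ s) ≫ (i ≫ s) := by rw [← hsi]; simp only [Category.assoc]
      _ = 𝟙 Y := by rw [his, Category.comp_id]
  inv_hom_id := by
    have h1 : κ.inv ≫ p ≫ κ.hom = p' := by
      rw [hκ, ← Category.assoc, Iso.inv_hom_id, Category.id_comp]
    calc (i' ≫ κ.inv ≫ s) ≫ i ≫ κ.hom ≫ s' = i' ≫ (κ.inv ≫ (s ≫ i) ≫ κ.hom) ≫ s' := by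
          simp only [Category.assoc]
      _ = i' ≫ p' ≫ s' := by rw [hsi, h1]
      _ = (i' ≫ s') ≫ (i' ≫ s') := by rw [← hsi']; simp only [Category.assoc]
      _ = 𝟙 Y' := by rw [his', Category.comp_id]

end Split

section Retract

variable {A : Type u} [CommRing A]

/-- a finite projective module generated by at most `n` elements is a retract of `A^n` -/
lemma exists_retract (M : ModuleCat.{u} A) [Module.Projective A M] (n m : ℕ) (hmn : m ≤ n)
    (f : (Fin m → A) →ₗ[A] M) (hf : Function.Surjective f) :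
    ∃ (F : Fr A n ⟶ M) (G : M ⟶ Fr A n), G ≫ F = 𝟙 M := by
  let r : (Fin n → A) →ₗ[A] (Fin m → A) := LinearMap.funLeft A A (Fin.castLE hmn)
  have hr : Function.Surjective r :=
    LinearMap.funLeft_surjective_of_injective A A _ (Fin.castLE_injective hmn)
  have hfr : Function.Surjective (f ∘ₗ r) := hf.comp hr
  obtain ⟨g, hg⟩ := Module.projective_lifting_property (f ∘ₗ r) LinearMap.id hfr
  refine ⟨ModuleCat.ofHom (f ∘ₗ r), ModuleCat.ofHom g, ?_⟩
  ext x
  exact LinearMap.congr_fun hg x

/-- a bounded complex of finite projective modules is a retract of a matrix complex -/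
theorem exists_matData (E : DRing.Cx A) (a b : ℤ) (hv : DRing.VanishesOutside E a b)
    (hp : DRing.TermwiseFiniteProjective E) :
    ∃ (n : ℕ) (d : MatData A n) (i : E ⟶ d.cx) (s : d.cx ⟶ E), i ≫ s = 𝟙 E ∧ s ≫ i = d.idem ∧
      ∀ k : ℤ, k < a ∨ b < k → d.D k = 0 ∧ d.e k = 0 := by
  classical
  have hfin : ∀ k : ℤ, ∃ (m : ℕ) (f : (Fin m → A) →ₗ[A] E.X k), Function.Surjective f := fun k => by
    haveI := (hp k).1
    exact Module.Finite.exists_fin' A (E.X k)
  choose m f hf using hfin
  let n : ℕ := ∑ k ∈ Finset.Icc a b, m k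
  have hmn : ∀ k : ℤ, a ≤ k → k ≤ b → m k ≤ n := fun k h1 h2 =>
    Finset.single_le_sum (f := m) (fun _ _ => Nat.zero_le _) (Finset.mem_Icc.2 ⟨h1, h2⟩)
  have hFG : ∀ k : ℤ, ∃ (F : Fr A n ⟶ E.X k) (G : E.X k ⟶ Fr A n), G ≫ F = 𝟙 (E.X k) ∧
      ((k < a ∨ b < k) → F = 0) := by
    intro k
    by_cases hk : k < a ∨ b < k
    · exact ⟨0, 0, (hv k hk).eq_of_src _ _, fun _ => rfl⟩
    · haveI := (hp k).2
      obtain ⟨F, G, h⟩ := exists_retract (E.X k) n (m k) (hmn k (by omega) (by omega)) (f k) (hf k)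
      exact ⟨F, G, h, fun h' => absurd h' hk⟩
  choose F G hGF hF0 using hFG
  have hD : ∀ k : ℤ, ∃ M : Matrix (Fin n) (Fin n) A, matHom M = F k ≫ E.d k (k + 1) ≫ G (k + 1) :=
    fun k => exists_matHom_eq _
  have he : ∀ k : ℤ, ∃ M : Matrix (Fin n) (Fin n) A, matHom M = F k ≫ G k :=
    fun k => exists_matHom_eq _
  choose D hD using hD
  choose e he using he
  let d : MatData A n :=
    { D := D
      e := e
      DD := fun k => by
        apply matHom_injective
        rw [matHom_mul, hD, hD, matHom_zero]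
        simp only [Category.assoc]
        rw [reassoc_of% (hGF (k + 1)), HomologicalComplex.d_comp_d_assoc, zero_comp, comp_zero]
      ee := fun k => by
        apply matHom_injective
        rw [matHom_mul, he]
        simp only [Category.assoc]
        rw [reassoc_of% (hGF k)]
      De := fun k => by
        apply matHom_injective
        rw [matHom_mul, matHom_mul, hD, he, he]
        simp only [Category.assoc]
        rw [reassoc_of% (hGF k), reassoc_of% (hGF (k + 1))] }
  have hdD : ∀ k, d.cx.d k (k + 1) = F k ≫ E.d k (k + 1) ≫ G (k + 1) := fun k =>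
    (d.cx_d k).trans (hD k)
  let i : E ⟶ d.cx := CochainComplex.ofHom (X := E) (Y := d.cx) (fun k => G k) (fun k => by
    rw [hdD]
    exact (reassoc_of% (hGF k)) (E.d k (k + 1) ≫ G (k + 1)))
  let s : d.cx ⟶ E := CochainComplex.ofHom (X := d.cx) (Y := E) (fun k => F k) (fun k => by
    rw [hdD]
    exact (by rw [Category.assoc, Category.assoc, hGF (k + 1), Category.comp_id] :
      (F k ≫ E.d k (k + 1) ≫ G (k + 1)) ≫ F (k + 1) = F k ≫ E.d k (k + 1)).symm)
  refine ⟨n, d, i, s, ?_, ?_, ?_⟩
  · apply HomologicalComplex.hom_ext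
    intro k
    exact hGF k
  · apply HomologicalComplex.hom_ext
    intro k
    exact (he k).symm
  · intro k hk
    constructor
    · apply matHom_injective
      rw [hD k, hF0 k hk, zero_comp, matHom_zero]
    · apply matHom_injective
      rw [he k, hF0 k hk, zero_comp, matHom_zero]

end Retract


section Props

variable {A : Type u} [CommRing A] {n : ℕ}

/-- the image of the idempotent of matrix data is a complex of finite projective modules, bounded
if the idempotent is -/
lemma split_props (d : MatData A n) (a b : ℤ) (hd : ∀ k : ℤ, k < a ∨ b < k → d.e k = 0)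
    (Y : DRing.Cx A) (i : Y ⟶ d.cx) (s : d.cx ⟶ Y) (his : i ≫ s = 𝟙 Y) (hsi : s ≫ i = d.idem) :
    DRing.VanishesOutside Y a b ∧ DRing.TermwiseFiniteProjective Y := by
  have h1 : ∀ k : ℤ, i.f k ≫ s.f k = 𝟙 (Y.X k) := fun k => by
    rw [← HomologicalComplex.comp_f, his]
    rfl
  have h2 : ∀ k : ℤ, s.f k ≫ i.f k = matHom (d.e k) := fun k => by
    rw [← HomologicalComplex.comp_f, hsi]
    rfl
  constructor
  · intro k hk
    rw [IsZero.iff_id_eq_zero]
    have h3 : s.f k ≫ i.f k = 0 := by
      rw [h2, hd k hk]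
      exact matHom_zero
    calc 𝟙 (Y.X k) = (i.f k ≫ s.f k) ≫ (i.f k ≫ s.f k) := by rw [h1, Category.comp_id]
      _ = i.f k ≫ (s.f k ≫ i.f k) ≫ s.f k := by simp only [Category.assoc]
      _ = 0 := by rw [h3, zero_comp, comp_zero]
  · intro k
    have hcomp : (s.f k).hom.comp (i.f k).hom = LinearMap.id := by
      have := congrArg ModuleCat.Hom.hom (h1 k)
      exact this
    have hsurj : Function.Surjective (s.f k).hom := fun y =>
      ⟨(i.f k).hom y, LinearMap.congr_fun hcomp y⟩
    haveI : Module.Finite A (d.cx.X k) := inferInstanceAs (Module.Finite A (Fin n → A))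
    haveI : Module.Projective A (d.cx.X k) := inferInstanceAs (Module.Projective A (Fin n → A))
    refine ⟨Module.Finite.of_surjective (s.f k).hom hsurj, ?_⟩
    exact Module.Projective.of_split (i.f k).hom (s.f k).hom hcomp

attribute [local instance] HasDerivedCategory.standard

/-- a retract of a matrix complex whose matrix data lift along a ring map is the derived base
change of a perfect complex -/
theorem exists_perfect_of_matData_lift {A' : Type u} [CommRing A'] (φ : A' →+* A)
    [DRing.HasLBaseChange φ] (E : DRing.Cx A) (d' : MatData A' n)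
    (i : E ⟶ (d'.map φ).cx) (s : (d'.map φ).cx ⟶ E) (his : i ≫ s = 𝟙 E)
    (hsi : s ≫ i = (d'.map φ).idem) (a b : ℤ) (hz : ∀ k : ℤ, k < a ∨ b < k → d'.e k = 0) :
    ∃ K' : Dual.D A', DRing.IsPerfect A' K' ∧
      Nonempty ((DRing.LBaseChange φ).obj K' ≅ DerivedCategory.Q.obj E) := by
  obtain ⟨Y, i', s', his', hsi'⟩ := IsIdempotentComplete.idempotents_split d'.cx d'.idem d'.idem_idem
  obtain ⟨hY1, hY2⟩ := split_props d' a b hz Y i' s' his' hsi'
  haveI : Y.IsKProjective := isKProjective_of_vanishesAbove Y b (fun k hk => hY1 k (Or.inr hk))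
    (fun k => (hY2 k).2)
  refine ⟨DerivedCategory.Q.obj Y, ⟨Y, a, b, hY1, hY2, ⟨Iso.refl _⟩⟩, ⟨?_⟩⟩
  have e : (bcCx φ).obj Y ≅ E :=
    splitIso (d'.bcIso φ) ((bcCx φ).map d'.idem) (d'.map φ).idem (d'.bcIso_hom_idem φ)
      ((bcCx φ).map i') ((bcCx φ).map s')
      (by rw [← Functor.map_comp, his', CategoryTheory.Functor.map_id])
      (by rw [← Functor.map_comp, hsi']) i s his hsi
  exact lbcIso φ Y ≪≫ DerivedCategory.Q.mapIso e

end Props

end Groth.Agent.Lib.Helper1.MatCx
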