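import Mathlib
import Groth.Agent.Lib.Helper1MatCxB
set_option backward.isDefEq.respectTransparency.types false

/-!
# Lifting matrix data through a filtered colimit of rings (helper1)
-/

set_option autoImplicit false
set_option linter.style.haveILetI false
set_option maxHeartbeats 400000
universe u
open CategoryTheory CategoryTheory.Limits HomologicalComplex

namespace Groth.Agent.Lib.Helper1.MatCx

section Filtered

variable {J : Type u} [SmallCategory J] [IsFiltered J] (F : J ⥤ CommRingCat.{u}) (c : Cocone F)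
  (hc : IsColimit c)

include hc

/-- finitely many elements of a filtered colimit of rings lift to a common stage -/
lemma exists_lift_fin {T : Type*} [Finite T] (t : T → c.pt) :
    ∃ (j : J) (t' : T → F.obj j), ∀ k, (c.ι.app j).hom (t' k) = t k := by
  classical
  haveI := Fintype.ofFinite T
  choose i y hy using fun k => Concrete.isColimit_exists_rep F hc (t k)
  obtain ⟨j, hj⟩ := IsFiltered.sup_objs_exists (Finset.univ.image i)
  have hj' : ∀ k, Nonempty (i k ⟶ j) := fun k =>
    hj (Finset.mem_image_of_mem _ (Finset.mem_univ k))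
  choose v _ using fun k => (hj' k).elim (fun f => (⟨f, trivial⟩ : ∃ _ : i k ⟶ j, True))
  refine ⟨j, fun k => (F.map (v k)).hom (y k), fun k => ?_⟩
  have h1 : F.map (v k) ≫ c.ι.app j = c.ι.app (i k) := c.w (v k)
  have h2 : (c.ι.app j).hom ((F.map (v k)).hom (y k)) = (c.ι.app (i k)).hom (y k) := by
    rw [← h1]
    rfl
  rw [h2]
  exact hy k

/-- finitely many equalities in a filtered colimit of rings hold at a common later stage -/
lemma exists_kill_fin {T : Type*} [Finite T] (j : J) (z z' : T → F.obj j)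
    (h : ∀ k, (c.ι.app j).hom (z k) = (c.ι.app j).hom (z' k)) :
    ∃ (j' : J) (f : j ⟶ j'), ∀ k, (F.map f).hom (z k) = (F.map f).hom (z' k) := by
  classical
  haveI := Fintype.ofFinite T
  suffices hs : ∀ s : Finset T, ∃ (j' : J) (f : j ⟶ j'), ∀ k ∈ s,
      (F.map f).hom (z k) = (F.map f).hom (z' k) by
    obtain ⟨j', f, hf⟩ := hs Finset.univ
    exact ⟨j', f, fun k => hf k (Finset.mem_univ k)⟩
  intro s
  induction s using Finset.induction_on with
  | empty => exact ⟨j, 𝟙 j, fun k hk => absurd hk (Finset.notMem_empty k)⟩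
  | insert k₀ s _ ih =>
    obtain ⟨l, g, hg⟩ := ih
    have h1 : F.map g ≫ c.ι.app l = c.ι.app j := c.w g
    have h0 : (c.ι.app l) ((F.map g).hom (z k₀)) = (c.ι.app l) ((F.map g).hom (z' k₀)) := by
      have e1 : ∀ x : F.obj j, (c.ι.app l).hom ((F.map g).hom x) = (c.ι.app j).hom x := fun x => by
        rw [← h1]
        rfl
      exact (e1 _).trans ((h k₀).trans (e1 _).symm)
    obtain ⟨m, u, v, huv⟩ := (Concrete.isColimit_rep_eq_iff_exists F hc _ _).1 h0
    let w : l ⟶ IsFiltered.coeq u v := u ≫ IsFiltered.coeqHom u v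
    have hw : w = v ≫ IsFiltered.coeqHom u v := IsFiltered.coeq_condition u v
    refine ⟨IsFiltered.coeq u v, g ≫ w, fun k hk => ?_⟩
    have e2 : ∀ x : F.obj j, (F.map (g ≫ w)).hom x = (F.map w).hom ((F.map g).hom x) := fun x => by
      rw [F.map_comp]
      rfl
    rw [e2, e2]
    rcases Finset.mem_insert.1 hk with rfl | hk
    · have e3 : ∀ x : F.obj l, (F.map w).hom x =
          (F.map (IsFiltered.coeqHom u v)).hom ((F.map u).hom x) := fun x => by
        change (F.map (u ≫ IsFiltered.coeqHom u v)).hom x = _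
        rw [F.map_comp]
        rfl
      have e4 : ∀ x : F.obj l, (F.map w).hom x =
          (F.map (IsFiltered.coeqHom u v)).hom ((F.map v).hom x) := fun x => by
        rw [hw, F.map_comp]
        rfl
      rw [e3, e4]
      exact congrArg _ huv
    · rw [hg k hk]


end Filtered

section Lift

lemma MatData.ext' {A : Type u} [CommRing A] {n : ℕ} {d d' : MatData A n} (hD : d.D = d'.D)
    (he : d.e = d'.e) : d = d' := by
  cases d
  cases d'
  simp only at hD he
  subst hD he
  rfl

variable {J : Type u} [SmallCategory J] [IsFiltered J] (F : J ⥤ CommRingCat.{u}) (c : Cocone F)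
  (hc : IsColimit c)

include hc

/-- matrix data over a filtered colimit of rings, supported in `[a, b]`, lift to some stage -/
theorem exists_matData_lift {n : ℕ} (d : MatData c.pt n) (a b : ℤ)
    (hd : ∀ k : ℤ, k < a ∨ b < k → d.D k = 0 ∧ d.e k = 0) :
    ∃ (j : J) (d' : MatData (F.obj j) n), d'.map (c.ι.app j).hom = d ∧
      ∀ k : ℤ, k < a ∨ b < k → d'.e k = 0 := by
  classical
  let I := {k : ℤ // k ∈ Finset.Icc a b}
  have hI : ∀ k : ℤ, k ∉ Finset.Icc a b → k < a ∨ b < k := fun k hk => by
    rw [Finset.mem_Icc] at hk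
    omega
  -- lifting the entries
  let t : Bool × I × Fin n × Fin n → c.pt := fun x =>
    if x.1 then d.D x.2.1.1 x.2.2.1 x.2.2.2 else d.e x.2.1.1 x.2.2.1 x.2.2.2
  obtain ⟨j₀, t', ht'⟩ := exists_lift_fin F c hc t
  let ι₀ : F.obj j₀ →+* c.pt := (c.ι.app j₀).hom
  let D₀ : ℤ → Matrix (Fin n) (Fin n) (F.obj j₀) := fun k =>
    if h : k ∈ Finset.Icc a b then Matrix.of (fun p q => t' (true, ⟨k, h⟩, p, q)) else 0
  let e₀ : ℤ → Matrix (Fin n) (Fin n) (F.obj j₀) := fun k =>
    if h : k ∈ Finset.Icc a b then Matrix.of (fun p q => t' (false, ⟨k, h⟩, p, q)) else 0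
  have hD₀ : ∀ k, (D₀ k).map ι₀ = d.D k := by
    intro k
    by_cases h : k ∈ Finset.Icc a b
    · ext p q
      simp only [D₀, dif_pos h, Matrix.map_apply, Matrix.of_apply]
      exact (ht' (true, ⟨k, h⟩, p, q)).trans (by simp [t])
    · simp only [D₀, dif_neg h]
      rw [(hd k (hI k h)).1]
      exact Matrix.map_zero _ (map_zero ι₀)
  have he₀ : ∀ k, (e₀ k).map ι₀ = d.e k := by
    intro k
    by_cases h : k ∈ Finset.Icc a b
    · ext p q
      simp only [e₀, dif_pos h, Matrix.map_apply, Matrix.of_apply]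
      exact (ht' (false, ⟨k, h⟩, p, q)).trans (by simp [t])
    · simp only [e₀, dif_neg h]
      rw [(hd k (hI k h)).2]
      exact Matrix.map_zero _ (map_zero ι₀)
  have hD₀z : ∀ k, k ∉ Finset.Icc a b → D₀ k = 0 := fun k h => by simp only [D₀, dif_neg h]
  have he₀z : ∀ k, k ∉ Finset.Icc a b → e₀ k = 0 := fun k h => by simp only [e₀, dif_neg h]
  -- the relations
  let z : Fin 3 × I × Fin n × Fin n → F.obj j₀ := fun x =>
    if x.1 = 0 then (D₀ (x.2.1.1 + 1) * D₀ x.2.1.1) x.2.2.1 x.2.2.2
    else if x.1 = 1 then (e₀ x.2.1.1 * e₀ x.2.1.1) x.2.2.1 x.2.2.2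
    else (D₀ x.2.1.1 * e₀ x.2.1.1) x.2.2.1 x.2.2.2
  let z' : Fin 3 × I × Fin n × Fin n → F.obj j₀ := fun x =>
    if x.1 = 0 then 0
    else if x.1 = 1 then (e₀ x.2.1.1) x.2.2.1 x.2.2.2
    else (e₀ (x.2.1.1 + 1) * D₀ x.2.1.1) x.2.2.1 x.2.2.2
  have hmap : ∀ (M : Matrix (Fin n) (Fin n) (F.obj j₀)) (p q : Fin n),
      ι₀ (M p q) = (M.map ι₀) p q := fun M p q => rfl
  have hzz' : ∀ x, (c.ι.app j₀).hom (z x) = (c.ι.app j₀).hom (z' x) := by
    rintro ⟨r, k, p, q⟩
    change ι₀ (z (r, k, p, q)) = ι₀ (z' (r, k, p, q))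
    fin_cases r
    · simp only [z, z']
      simp only [Fin.zero_eta, if_true, map_zero]
      rw [hmap, Matrix.map_mul, hD₀, hD₀, d.DD]
      rfl
    · simp only [z, z']
      simp only [Fin.mk_one, one_ne_zero, if_false, if_true]
      rw [hmap, hmap, Matrix.map_mul, he₀, d.ee]
    · simp only [z, z']
      have h20 : ((2 : Fin 3) = 0) = False := by decide
      have h21 : ((2 : Fin 3) = 1) = False := by decide
      simp only [Fin.reduceFinMk, h20, h21, if_false]
      rw [hmap, hmap, Matrix.map_mul, Matrix.map_mul, hD₀, he₀, he₀, d.De]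
  obtain ⟨j, f, hf⟩ := exists_kill_fin F c hc j₀ z z' hzz'
  let g : F.obj j₀ →+* F.obj j := (F.map f).hom
  have hgι : ∀ M : Matrix (Fin n) (Fin n) (F.obj j₀), (M.map g).map (c.ι.app j).hom = M.map ι₀ := by
    intro M
    rw [Matrix.map_map]
    congr 1
    funext x
    have h1 : F.map f ≫ c.ι.app j = c.ι.app j₀ := c.w f
    change (c.ι.app j).hom ((F.map f).hom x) = (c.ι.app j₀).hom x
    rw [← h1]
    rfl
  have hkill : ∀ (M N : Matrix (Fin n) (Fin n) (F.obj j₀)),
      (∀ p q, g (M p q) = g (N p q)) → M.map g = N.map g := fun M N h => by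
    ext p q
    exact h p q
  let d' : MatData (F.obj j) n :=
    { D := fun k => (D₀ k).map g
      e := fun k => (e₀ k).map g
      DD := fun k => by
        rw [← Matrix.map_mul]
        by_cases h : k ∈ Finset.Icc a b
        · rw [hkill _ 0 (fun p q => by
            have := hf (0, ⟨k, h⟩, p, q)
            simpa [z, z'] using this)]
          exact Matrix.map_zero _ (map_zero g)
        · rw [hD₀z k h, mul_zero]
          exact Matrix.map_zero _ (map_zero g)
      ee := fun k => by
        rw [← Matrix.map_mul]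
        by_cases h : k ∈ Finset.Icc a b
        · exact hkill _ _ (fun p q => by
            have := hf (1, ⟨k, h⟩, p, q)
            simpa [z, z'] using this)
        · rw [he₀z k h, mul_zero]
      De := fun k => by
        rw [← Matrix.map_mul, ← Matrix.map_mul]
        by_cases h : k ∈ Finset.Icc a b
        · exact hkill _ _ (fun p q => by
            have := hf (2, ⟨k, h⟩, p, q)
            have h20 : ((2 : Fin 3) = 0) = False := by decide
            have h21 : ((2 : Fin 3) = 1) = False := by decide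
            simpa [z, z', h20, h21] using this)
        · rw [hD₀z k h, mul_zero, zero_mul] }
  refine ⟨j, d', ?_, fun k hk => ?_⟩
  · apply MatData.ext'
    · funext k
      change ((D₀ k).map g).map (c.ι.app j).hom = d.D k
      rw [hgι, hD₀]
    · funext k
      change ((e₀ k).map g).map (c.ι.app j).hom = d.e k
      rw [hgι, he₀]
  · change (e₀ k).map g = 0
    rw [he₀z k (by rw [Finset.mem_Icc]; omega)]
    exact Matrix.map_zero _ (map_zero g)


attribute [local instance] HasDerivedCategory.standard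

/-- a perfect object over a filtered colimit of rings is the derived base change of a perfect
object over some stage -/
theorem exists_perfect_descends [∀ j : J, DRing.HasLBaseChange (c.ι.app j).hom]
    (K : Dual.D c.pt) (hK : DRing.IsPerfect c.pt K) :
    ∃ (j : J) (Kj : Dual.D (F.obj j)), DRing.IsPerfect (F.obj j) Kj ∧
      Nonempty ((DRing.LBaseChange (c.ι.app j).hom).obj Kj ≅ K) := by
  obtain ⟨E, a, b, hv, hp, ⟨e⟩⟩ := hK
  obtain ⟨n, d, i, s, his, hsi, hz⟩ := exists_matData E a b hv hp
  obtain ⟨j, d', hd', hz'⟩ := exists_matData_lift F c hc d a b hz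
  subst hd'
  obtain ⟨K', hK', ⟨e'⟩⟩ := exists_perfect_of_matData_lift (c.ι.app j).hom E d' i s his hsi a b hz'
  exact ⟨j, K', hK', ⟨e' ≪≫ e⟩⟩

end Lift

end Groth.Agent.Lib.Helper1.MatCx
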