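import Mathlib
import Groth.Agent.Lib.Helper1TIBCA
set_option backward.isDefEq.respectTransparency.types false

/-!
# Tor-independent base change of tor amplitude, ring level (helper1)
-/

set_option autoImplicit false
set_option linter.style.haveILetI false
set_option linter.unusedSectionVars false
set_option maxHeartbeats 400000
universe u
open CategoryTheory CategoryTheory.Limits MonoidalCategory HomologicalComplex TensorProduct
attribute [local instance] HasDerivedCategory.standard

namespace Groth.Agent.Lib.Helper1.TIBC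

open DerivedCategory Groth.Agent.Lib.Helper1.KF Groth.Agent.Lib.Helper1.Tor
  Groth.Agent.Lib.Helper1.DT Groth.Agent.Lib.Helper1.TensPerf Groth.Agent.Lib.Helper1.KBC
  Groth.Agent.Lib.Helper1.Restrict Groth.Agent.Lib.Helper1.LDer Groth.Agent.Lib.Helper1.TorO
  Groth.Agent.Lib.Helper1.RelPC Groth.Agent.Lib.Helper1.TorT Groth.Agent.Lib.Helper1.TQ
  Groth.Agent.Lib.Helper1.Extend Groth.Agent.Lib.Helper1.RelDescent Groth.Agent.Lib.Helper1.LocalCx
  Groth.Agent.Lib.Helper1.TorBC

section TorVanBC

variable {R R' : Type u} [CommRing R] [CommRing R'] (ψ : R →+* R')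

/-- `res (N' ⊗ ext P) ≅ res N' ⊗ P` termwise, as complexes -/
noncomputable def resTCbcIso (N' : ModuleCat.{u} R') (P : Cx R) :
    (DRing.restrictCx ψ).obj ((TC N').obj ((bcCx ψ).obj P)) ≅
      (TC ((res ψ).obj N')).obj P :=
  HomologicalComplex.Hom.isoOfComponents (fun i => (((pfIso ψ).app N').app (P.X i)).symm)
    (fun i j _ => (((pfIso ψ).app N').inv.naturality (P.d i j)).symm)

/-- tensor-vanishing is preserved by base change -/
lemma torVan_bcCx (P : Cx R) (a b : ℤ) (h : TorVan P a b) : TorVan ((bcCx ψ).obj P) a b := by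
  intro N' i hi
  have h1 := h ((res ψ).obj N') i hi
  have h2 := h1.of_iso (resTCbcIso ψ N' P).symm
  exact (exactAt_restrict_iff ψ _ i).1 h2

end TorVanBC


section TITor

variable {P B B' : Type u} (P' : Type u) [CommRing P] [CommRing P'] [CommRing B] [CommRing B']
  [Algebra P P'] [Algebra P B] [Algebra P' B'] [Algebra B B'] [Algebra P B']
  [IsScalarTower P P' B'] [IsScalarTower P B B'] [Algebra.IsPushout P P' B B']
  [Module.Flat P B]

include P'

/-- in a pushout square `B' = P' ⊗_P B` with `B` flat over `P`: termwise base change along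
`B → B'` preserves quasi-isomorphisms between complexes which are K-flat over `P` -/
lemma quasiIso_bcCx_map_of_kflat_restrict {L L' : Cx B} (p : L ⟶ L') [QuasiIso p]
    (hL : KFlat ((DRing.restrictCx (algebraMap P B)).obj L))
    (hL' : KFlat ((DRing.restrictCx (algebraMap P B)).obj L')) :
    QuasiIso ((bcCx (algebraMap B B')).map p) := by
  apply quasiIso_of_acyc_cone
  refine Acyc.of_iso (CochainComplex.mappingCone.mapHomologicalComplexIso p
    (ModuleCat.extendScalars.{u, u, u} (algebraMap B B'))) ?_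
  set C := CochainComplex.mappingCone p with hC
  have hCac : Acyc C := acyc_cone_of_quasiIso p
  have hCK : KFlat ((DRing.restrictCx (algebraMap P B)).obj C) :=
    KFlat.of_iso' (CochainComplex.mappingCone.mapHomologicalComplexIso p
      (ModuleCat.restrictScalars.{u} (algebraMap P B))).symm
      (KFlat.cone ((DRing.restrictCx (algebraMap P B)).map p) hL hL')
  have hCac' : Acyc ((DRing.restrictCx (algebraMap P B)).obj C) := by
    rw [acyc_iff_exactAt] at hCac ⊢
    exact fun i => (exactAt_restrict_iff _ _ i).2 (hCac i)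
  have s3 := acyc_bcCx_of_kflat_acyc (algebraMap P P') _ hCK hCac'
  have s4 : Acyc ((DRing.restrictCx (algebraMap P' B')).obj ((bcCx (algebraMap B B')).obj C)) :=
    Acyc.of_iso (bcCxIso' (P := P) (P' := P') (B := B) (B' := B') C) s3
  rw [acyc_iff_exactAt] at s4 ⊢
  exact fun i => (exactAt_restrict_iff _ _ i).1 (s4 i)

/-- **Tor-independent base change of tor amplitude**: in a pushout square `B' = P' ⊗_P B` with `B`
flat over `P`, a complex `L` over `B` which is K-flat over `P` and has tor amplitude in `[a, b]`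
over `B` has termwise base change of tor amplitude in `[a, b]` over `B'` -/
theorem hasTorAmp_bcCx_of_torIndep (L : Cx B)
    (hL : KFlat ((DRing.restrictCx (algebraMap P B)).obj L)) (a b : ℤ)
    (h : DRing.HasTorAmplitudeIn B a b (DRing.toD L)) :
    DRing.HasTorAmplitudeIn B' a b (DRing.toD ((bcCx (algebraMap B B')).obj L)) := by
  obtain ⟨G, p, hG, -, hp, -⟩ := exists_kprojective_resolution L
  have hpi : IsIso (Q.map p) := (DerivedCategory.isIso_Q_map_iff_quasiIso (φ := p)).2 hp
  have hGK : KFlat G := kflat_of_isKProjective G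
  obtain ⟨E', hE'v, hE'f, ⟨e'⟩⟩ := h
  have htv : TorVan G a b :=
    torVan_of_iso_kflat G E' hGK a b hE'v hE'f (e' ≪≫ (asIso (Q.map p)).symm)
  have h1 : DRing.HasTorAmplitudeIn B' a b (Q.obj ((bcCx (algebraMap B B')).obj G)) :=
    hasTorAmp_of_torVan_kflat _ (kflat_bcCx _ G hGK) a b (torVan_bcCx _ G a b htv)
  have hflat : (algebraMap P B).Flat :=
    (RingHom.flat_algebraMap_iff (R := P) (S := B)).2 inferInstance
  have hGP : KFlat ((DRing.restrictCx (algebraMap P B)).obj G) :=
    kflat_restrictCx_of_flat _ hflat G hGK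
  haveI := quasiIso_bcCx_map_of_kflat_restrict (P := P) P' (B' := B') p hGP hL
  have hqi : IsIso (Q.map ((bcCx (algebraMap B B')).map p)) :=
    (DerivedCategory.isIso_Q_map_iff_quasiIso (φ := (bcCx (algebraMap B B')).map p)).2
      inferInstance
  exact hasTorAmp_of_iso (asIso (Q.map ((bcCx (algebraMap B B')).map p))) h1

end TITor


section Main

variable {A B₀ B₀' B B' Λ Λ' R R' : Type u} (A₁ : Type u) [CommRing A] [CommRing A₁] [CommRing B₀]
  [CommRing B₀'] [CommRing B] [CommRing B']
  [CommRing Λ] [CommRing Λ'] [CommRing R] [CommRing R']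
  [Algebra A A₁] [Algebra A B₀] [Algebra A₁ B₀'] [Algebra B₀ B₀'] [Algebra A B₀']
  [IsScalarTower A A₁ B₀'] [IsScalarTower A B₀ B₀'] [Algebra.IsPushout A A₁ B₀ B₀']
  [Module.Flat A B₀]
  [Algebra B₀ B] [Algebra B₀' B'] [Algebra B B'] [Algebra B₀ B']
  [IsScalarTower B₀ B₀' B'] [IsScalarTower B₀ B B'] [Algebra.IsPushout B₀ B₀' B B']
  [Algebra B₀ Λ] [Module.Flat B₀ Λ]
  [Algebra B₀' Λ'] [Algebra B R] [Algebra B' R']

include A₁ in
/-- Tor-independent base change of relative tor amplitude, for localizations of a pushout square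
of rings `B₀ → B₀'`, `B₀ → B`, `B' = B₀' ⊗ B` in which `B₀' = A₁ ⊗_A B₀` is itself a base change
from a ring `A` over which `B₀` and `B` are flat -/
theorem hasTorAmp_bc_localization_ti
    (hAB : ((algebraMap B₀ B).comp (algebraMap A B₀)).Flat)
    (SΛ' : Submonoid B₀') [IsLocalization SΛ' Λ']
    (SR : Submonoid B) [IsLocalization SR R] (SR' : Submonoid B') [IsLocalization SR' R']
    (hle : Algebra.algebraMapSubmonoid B' SR ≤ SR')
    (φ : Λ →+* R) (ψ : R →+* R') (φ' : Λ' →+* R')
    (h1 : φ.comp (algebraMap B₀ Λ) = (algebraMap B R).comp (algebraMap B₀ B))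
    (h2 : ψ.comp (algebraMap B R) = (algebraMap B' R').comp (algebraMap B B'))
    (h3 : φ'.comp (algebraMap B₀' Λ') = (algebraMap B' R').comp (algebraMap B₀' B'))
    (K : Cx R) (hK : KFlat K) (a b : ℤ)
    (h : DRing.HasTorAmplitudeIn Λ a b (DRing.toD ((DRing.restrictCx φ).obj K))) :
    DRing.HasTorAmplitudeIn Λ' a b
      (DRing.toD ((DRing.restrictCx φ').obj ((bcCx ψ).obj K))) := by
  -- the intermediate ring `T = B'[SR⁻¹]`
  let MT := Algebra.algebraMapSubmonoid B' SR
  let T := Localization MT
  letI aTR' : Algebra T R' := IsLocalization.localizationAlgebraOfSubmonoidLe T R' MT SR' hle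
  haveI : IsScalarTower B' T R' :=
    IsLocalization.localization_isScalarTower_of_submonoid_le T R' MT SR' hle
  haveI : IsLocalization (SR'.map (algebraMap B' T)) R' :=
    IsLocalization.isLocalization_of_submonoid_le T R' MT SR' hle
  haveI flTR' : Module.Flat T R' := IsLocalization.flat R' (SR'.map (algebraMap B' T))
  haveI : IsScalarTower B B' T := inferInstance
  haveI : IsScalarTower B₀ B' T := inferInstance
  haveI : IsScalarTower B₀' B' T := inferInstance
  letI aRT : Algebra R T :=
    (IsLocalization.lift (M := SR) (S := R) (g := algebraMap B T) (fun y => by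
      rw [IsScalarTower.algebraMap_apply B B' T]
      exact IsLocalization.map_units T (⟨algebraMap B B' y, ⟨y, y.2, rfl⟩⟩ : MT))).toAlgebra
  haveI : IsScalarTower B R T := IsScalarTower.of_algebraMap_eq' (IsLocalization.lift_comp _).symm
  letI aAR : Algebra B₀ R := ((algebraMap B R).comp (algebraMap B₀ B)).toAlgebra
  haveI : IsScalarTower B₀ B R := IsScalarTower.of_algebraMap_eq (fun _ => rfl)
  haveI : IsScalarTower B₀ B₀' T := IsScalarTower.of_algebraMap_eq (fun x => by
    rw [IsScalarTower.algebraMap_apply B₀ B' T, IsScalarTower.algebraMap_apply B₀' B' T,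
      ← IsScalarTower.algebraMap_apply B₀ B₀' B'])
  haveI : IsScalarTower B₀ B T := IsScalarTower.of_algebraMap_eq (fun x => by
    rw [IsScalarTower.algebraMap_apply B₀ B' T, IsScalarTower.algebraMap_apply B B' T,
      ← IsScalarTower.algebraMap_apply B₀ B B'])
  haveI : IsScalarTower B₀ R T := IsScalarTower.of_algebraMap_eq (fun x => by
    rw [IsScalarTower.algebraMap_apply B₀ B R, ← IsScalarTower.algebraMap_apply B R T,
      ← IsScalarTower.algebraMap_apply B₀ B T])
  -- pushout squares
  have hp1 : Algebra.IsPushout B B' R T := Algebra.isPushout_of_isLocalization SR R B' T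
  haveI hp0 : Algebra.IsPushout B₀ B B₀' B' := Algebra.IsPushout.symm inferInstance
  have hp2 : Algebra.IsPushout B₀ R B₀' T := (Algebra.IsPushout.comp_iff B₀ B B₀' B').2 hp1.symm
  haveI hp3 : Algebra.IsPushout B₀ B₀' R T := hp2.symm
  -- step 1: tor amplitude over `B₀`
  have hαflat : (algebraMap B₀ Λ).Flat :=
    (RingHom.flat_algebraMap_iff (R := B₀) (S := Λ)).2 inferInstance
  have s1 := hasTorAmp_restrictCx_of_flat (algebraMap B₀ Λ) hαflat _ a b h
  have hcomp1 : φ.comp (algebraMap B₀ Λ) = algebraMap B₀ R := h1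
  have s1' : DRing.HasTorAmplitudeIn B₀ a b
      (DRing.toD ((DRing.restrictCx (algebraMap B₀ R)).obj K)) :=
    hasTorAmp_of_iso (Q.mapIso (restrictCxCompIso (algebraMap B₀ Λ) φ K ≪≫
      restrictCxEqIso hcomp1 K)) s1
  -- step 2: Tor-independent base change to `B₀'`
  have hBRflat : (algebraMap B R).Flat := by
    haveI : Module.Flat B R := IsLocalization.flat R SR
    exact (RingHom.flat_algebraMap_iff (R := B) (S := R)).2 inferInstance
  have hARflat : ((algebraMap B R).comp ((algebraMap B₀ B).comp (algebraMap A B₀))).Flat :=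
    RingHom.Flat.comp hAB hBRflat
  have hKA : KFlat ((DRing.restrictCx ((algebraMap B R).comp
      ((algebraMap B₀ B).comp (algebraMap A B₀)))).obj K) :=
    kflat_restrictCx_of_flat _ hARflat K hK
  have hcompA : (algebraMap B₀ R).comp (algebraMap A B₀) =
      (algebraMap B R).comp ((algebraMap B₀ B).comp (algebraMap A B₀)) := rfl
  have hLA : KFlat ((DRing.restrictCx (algebraMap A B₀)).obj
      ((DRing.restrictCx (algebraMap B₀ R)).obj K)) :=
    KFlat.of_iso' ((restrictCxCompIso (algebraMap A B₀) (algebraMap B₀ R) K ≪≫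
      restrictCxEqIso hcompA K).symm) hKA
  have s2 := hasTorAmp_bcCx_of_torIndep (P := A) A₁ (B := B₀) (B' := B₀') _ hLA a b s1'
  have s2' : DRing.HasTorAmplitudeIn B₀' a b
      (DRing.toD ((DRing.restrictCx (algebraMap B₀' T)).obj
        ((bcCx (algebraMap R T)).obj K))) :=
    hasTorAmp_of_iso (Q.mapIso (bcCxIso' (P := B₀) (P' := B₀') (B := R) (B' := T) K)) s2
  -- step 3: localize to `R'`
  have hμflat : (algebraMap T R').Flat :=
    (RingHom.flat_algebraMap_iff (R := T) (S := R')).2 flTR'
  have hB' : DRing.HasTorAmplitudeIn T (-((0 : ℕ) : ℤ)) 0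
      ((DerivedCategory.singleFunctor (ModuleCat.{u} T) 0).obj (BoverA (algebraMap T R'))) := by
    haveI : Module.Flat T (BoverA (algebraMap T R')) :=
      flat_restrictScalars_of_flat _ hμflat (ModuleCat.of _ _)
    rw [Nat.cast_zero, neg_zero]
    exact hasTorAmp_single_of_flat (BoverA (algebraMap T R'))
  have s3 := hasTorAmp_restrict_ext (algebraMap B₀' T) (algebraMap T R') 0 hB'
    ((bcCx (algebraMap R T)).obj K) (kflat_bcCx _ K hK) a b s2'
  rw [Nat.cast_zero, sub_zero] at s3
  -- step 4: identifications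
  have hψ : (algebraMap T R').comp (algebraMap R T) = ψ := by
    apply IsLocalization.ringHom_ext SR
    rw [RingHom.comp_assoc, h2]
    ext x
    change algebraMap T R' (algebraMap R T (algebraMap B R x)) =
      algebraMap B' R' (algebraMap B B' x)
    rw [← IsScalarTower.algebraMap_apply B R T, IsScalarTower.algebraMap_apply B B' T,
      ← IsScalarTower.algebraMap_apply B' T R']
  have hφ' : (algebraMap T R').comp (algebraMap B₀' T) = φ'.comp (algebraMap B₀' Λ') := by
    rw [h3]
    ext x
    change algebraMap T R' (algebraMap B₀' T x) = algebraMap B' R' (algebraMap B₀' B' x)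
    rw [IsScalarTower.algebraMap_apply B₀' B' T, ← IsScalarTower.algebraMap_apply B' T R']
  have e4 : (DRing.restrictCx ((algebraMap T R').comp (algebraMap B₀' T))).obj
      ((bcCx (algebraMap T R')).obj ((bcCx (algebraMap R T)).obj K)) ≅
      (DRing.restrictCx (algebraMap B₀' Λ')).obj ((DRing.restrictCx φ').obj ((bcCx ψ).obj K)) :=
    restrictCxEqIso hφ' _ ≪≫ (restrictCxCompIso (algebraMap B₀' Λ') φ' _).symm ≪≫
      (DRing.restrictCx (algebraMap B₀' Λ')).mapIso ((DRing.restrictCx φ').mapIso
        ((bcCxCompIso (algebraMap R T) (algebraMap T R') K).symm ≪≫ bcCxEqIso hψ K))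
  have s4 := hasTorAmp_of_iso (Q.mapIso e4) s3
  exact hasTorAmp_of_restrict_localization (R := B₀') (S := Λ') SΛ' _ a b s4

end Main

end Groth.Agent.Lib.Helper1.TIBC
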