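import Mathlib
import Groth.Agent.Lib.Helper1TIBCC
import Groth.Agent.Lib.Helper1TIBCB
set_option backward.isDefEq.respectTransparency.types false

/-!
# Tor-independent base change of relative tor amplitude (helper1)
-/

set_option autoImplicit false
set_option linter.style.haveILetI false
set_option linter.unusedSectionVars false
set_option maxHeartbeats 1600000
universe u
open CategoryTheory CategoryTheory.Limits AlgebraicGeometry HomologicalComplex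

attribute [local instance] HasDerivedCategory.standard

namespace Groth.Agent.Lib.Helper1.TIBC

open Groth.Agent.Lib.Helper1.Sky Groth.Agent.Lib.Helper1.StalkTensor Groth.Agent.Lib.Helper1.KBC
  Groth.Agent.Lib.Helper1.Tor Groth.Agent.Lib.Helper1.Restrict Groth.Agent.Lib.Helper1.RelPC
  Groth.Agent.Lib.Helper1.TorDim Groth.Agent.Lib.Helper1.BKF Groth.Agent.Lib.Helper1.TorT
  Groth.Agent.Lib.Helper1.LDer Groth.Agent.Lib.Helper1.TQ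
  Groth.Agent.Lib.Helper2.FlatOver Groth.Agent.Lib.Helper2.PullbackFlat
  Groth.Agent.Lib.Helper2.PullbackSec

variable {S W₁ Y₂ Y' X₂ X' : Scheme.{u}} {q₁ : W₁ ⟶ S} {q₂ : Y₂ ⟶ S} {pW₁ : Y' ⟶ W₁}
  {pY₂ : Y' ⟶ Y₂} {f₂ : X₂ ⟶ Y₂} {g' : X' ⟶ X₂} {f' : X' ⟶ Y'}

/-- affine neighbourhoods inside an open -/
lemma exists_affine_nhds_le {T : Scheme.{u}} (t : T) (O : T.Opens) (ht : t ∈ O) :
    ∃ U : T.Opens, IsAffineOpen U ∧ t ∈ U ∧ U ≤ O := by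
  obtain ⟨W, hW⟩ := (T.isBasis_affineOpens).exists_subset_of_mem_open ht O.isOpen
  obtain ⟨⟨U, hU, rfl⟩, hxU, hle⟩ := hW
  exact ⟨U, hU, hxU, hle⟩

/-- stalkwise Tor-independent base change of relative tor amplitude: the square `hZ` is the base
change of `f₂` along `pY₂ : Y' → Y₂`, itself the base change (square `hY`) of an arbitrary
`q₁ : W₁ → S` along `q₂ : Y₂ → S`, with `Y₂` and `X₂` flat over `S` -/
theorem hasTorAmp_stalk_of_isPullback_ti (hY : IsPullback pW₁ pY₂ q₁ q₂)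
    (hZ : IsPullback g' f' f₂ pY₂) [Flat q₂] [Flat (f₂ ≫ q₂)] (x' : X')
    (K : DRing.Cx (X₂.presheaf.stalk (g'.base x')))
    (hK : Groth.Agent.Lib.Helper1.KF.KFlat K) (a b : ℤ)
    (h : DRing.HasTorAmplitudeIn (Y₂.presheaf.stalk (f₂.base (g'.base x'))) a b
      (DRing.toD ((DRing.restrictCx (f₂.stalkMap (g'.base x')).hom).obj K))) :
    DRing.HasTorAmplitudeIn (Y'.presheaf.stalk (f'.base x')) a b
      (DRing.toD ((DRing.restrictCx (f'.stalkMap x').hom).obj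
        ((bcCx (g'.stalkMap x').hom).obj K))) := by
  have hwZ : pY₂.base (f'.base x') = f₂.base (g'.base x') := by
    have := congrArg (fun φ => φ.base x') hZ.w
    simpa using this.symm
  have hwY : q₁.base (pW₁.base (f'.base x')) = q₂.base (pY₂.base (f'.base x')) := by
    have := congrArg (fun φ => φ.base (f'.base x')) hY.w
    simpa using this
  -- affine charts
  obtain ⟨V₂, W, hV₂, hW, hyV₂, eV₂⟩ := exists_affine_nhds q₂ (f₂.base (g'.base x'))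
  obtain ⟨U₂, hU₂, hxU₂, eU₂⟩ := exists_affine_nhds_le (g'.base x') (f₂ ⁻¹ᵁ V₂) hyV₂
  obtain ⟨V₁, hV₁, hwV₁, eV₁⟩ := exists_affine_nhds_le (pW₁.base (f'.base x')) (q₁ ⁻¹ᵁ W) (by
    change q₁.base (pW₁.base (f'.base x')) ∈ W
    rw [hwY, hwZ]
    exact eV₂ hyV₂)
  set V' : Y'.Opens := pW₁ ⁻¹ᵁ V₁ ⊓ pY₂ ⁻¹ᵁ V₂ with hV'def
  have hV' : IsAffineOpen V' := isAffineOpen_inf_preimage hY eV₂ eV₁ hW hV₂ hV₁
  have d1 : V' ≤ pW₁ ⁻¹ᵁ V₁ := inf_le_left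
  have d2 : V' ≤ pY₂ ⁻¹ᵁ V₂ := inf_le_right
  have hyV' : f'.base x' ∈ V' := ⟨hwV₁, by
    change pY₂.base (f'.base x') ∈ V₂
    rw [hwZ]; exact hyV₂⟩
  set U' : X'.Opens := g' ⁻¹ᵁ U₂ ⊓ f' ⁻¹ᵁ V' with hU'def
  have hU' : IsAffineOpen U' := isAffineOpen_inf_preimage hZ d2 eU₂ hV₂ hV' hU₂
  have e1 : U' ≤ g' ⁻¹ᵁ U₂ := inf_le_left
  have e2 : U' ≤ f' ⁻¹ᵁ V' := inf_le_right
  have hx' : x' ∈ U' := ⟨hxU₂, hyV'⟩
  -- ring structures, first square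
  letI aAA₁ : Algebra Γ(S, W) Γ(W₁, V₁) := (q₁.appLE W V₁ eV₁).hom.toAlgebra
  letI aAB₀ : Algebra Γ(S, W) Γ(Y₂, V₂) := (q₂.appLE W V₂ eV₂).hom.toAlgebra
  letI aA₁B₀' : Algebra Γ(W₁, V₁) Γ(Y', V') := (pW₁.appLE V₁ V' d1).hom.toAlgebra
  letI aB₀B₀' : Algebra Γ(Y₂, V₂) Γ(Y', V') := (pY₂.appLE V₂ V' d2).hom.toAlgebra
  letI aAB₀' : Algebra Γ(S, W) Γ(Y', V') :=
    ((pW₁.appLE V₁ V' d1).hom.comp (q₁.appLE W V₁ eV₁).hom).toAlgebra
  haveI tAA₁B₀' : IsScalarTower Γ(S, W) Γ(W₁, V₁) Γ(Y', V') :=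
    IsScalarTower.of_algebraMap_eq (fun a => rfl)
  have hsqY : ∀ a : Γ(S, W), (pW₁.appLE V₁ V' d1).hom ((q₁.appLE W V₁ eV₁).hom a) =
      (pY₂.appLE V₂ V' d2).hom ((q₂.appLE W V₂ eV₂).hom a) := by
    intro a
    have h1 := Scheme.Hom.appLE_comp_appLE pW₁ q₁ W V₁ V' eV₁ d1
    have h2 := Scheme.Hom.appLE_comp_appLE pY₂ q₂ W V₂ V' eV₂ d2
    have h3 : (q₁.appLE W V₁ eV₁ ≫ pW₁.appLE V₁ V' d1) =
        (q₂.appLE W V₂ eV₂ ≫ pY₂.appLE V₂ V' d2) := by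
      rw [h1, h2]
      congr 1
      exact hY.w
    exact congrArg (fun φ => φ.hom a) h3
  haveI tAB₀B₀' : IsScalarTower Γ(S, W) Γ(Y₂, V₂) Γ(Y', V') :=
    IsScalarTower.of_algebraMap_eq (fun a => hsqY a)
  have hPOY : Algebra.IsPushout Γ(S, W) Γ(Y₂, V₂) Γ(W₁, V₁) Γ(Y', V') :=
    algebra_isPushout hY eV₂ eV₁ hW hV₂ hV₁ d1 d2
  haveI hPOY' : Algebra.IsPushout Γ(S, W) Γ(W₁, V₁) Γ(Y₂, V₂) Γ(Y', V') := hPOY.symm
  haveI flAB₀ : Module.Flat Γ(S, W) Γ(Y₂, V₂) :=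
    HasRingHomProperty.appLE (P := @Flat) q₂ inferInstance ⟨W, hW⟩ ⟨V₂, hV₂⟩ eV₂
  -- ring structures, second square
  letI aB₀B : Algebra Γ(Y₂, V₂) Γ(X₂, U₂) := (f₂.appLE V₂ U₂ eU₂).hom.toAlgebra
  letI aBB' : Algebra Γ(X₂, U₂) Γ(X', U') := (g'.appLE U₂ U' e1).hom.toAlgebra
  letI aB₀'B' : Algebra Γ(Y', V') Γ(X', U') := (f'.appLE V' U' e2).hom.toAlgebra
  letI aB₀B' : Algebra Γ(Y₂, V₂) Γ(X', U') :=
    ((g'.appLE U₂ U' e1).hom.comp (f₂.appLE V₂ U₂ eU₂).hom).toAlgebra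
  haveI tB₀BB' : IsScalarTower Γ(Y₂, V₂) Γ(X₂, U₂) Γ(X', U') :=
    IsScalarTower.of_algebraMap_eq (fun a => rfl)
  have hsqZ : ∀ a : Γ(Y₂, V₂), (g'.appLE U₂ U' e1).hom ((f₂.appLE V₂ U₂ eU₂).hom a) =
      (f'.appLE V' U' e2).hom ((pY₂.appLE V₂ V' d2).hom a) := by
    intro a
    have h1 := Scheme.Hom.appLE_comp_appLE g' f₂ V₂ U₂ U' eU₂ e1
    have h2 := Scheme.Hom.appLE_comp_appLE f' pY₂ V₂ V' U' d2 e2
    have h3 : (f₂.appLE V₂ U₂ eU₂ ≫ g'.appLE U₂ U' e1) =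
        (pY₂.appLE V₂ V' d2 ≫ f'.appLE V' U' e2) := by
      rw [h1, h2]
      congr 1
      exact hZ.w
    exact congrArg (fun φ => φ.hom a) h3
  haveI tB₀B₀'B' : IsScalarTower Γ(Y₂, V₂) Γ(Y', V') Γ(X', U') :=
    IsScalarTower.of_algebraMap_eq (fun a => hsqZ a)
  haveI hPOZ : Algebra.IsPushout Γ(Y₂, V₂) Γ(Y', V') Γ(X₂, U₂) Γ(X', U') :=
    algebra_isPushout hZ d2 eU₂ hV₂ hV' hU₂ e1 e2
  have hAB : ((algebraMap Γ(Y₂, V₂) Γ(X₂, U₂)).comp (algebraMap Γ(S, W) Γ(Y₂, V₂))).Flat := by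
    have hcomp := Scheme.Hom.appLE_comp_appLE f₂ q₂ W V₂ U₂ eV₂ eU₂
    have hfl := HasRingHomProperty.appLE (P := @Flat) (f₂ ≫ q₂) inferInstance ⟨W, hW⟩
      ⟨U₂, hU₂⟩ (eU₂.trans (fun _ hz => eV₂ hz))
    have : (algebraMap Γ(Y₂, V₂) Γ(X₂, U₂)).comp (algebraMap Γ(S, W) Γ(Y₂, V₂)) =
        ((f₂ ≫ q₂).appLE W U₂ (eU₂.trans (fun _ hz => eV₂ hz))).hom := by
      have := congrArg (fun φ => φ.hom) hcomp
      exact this
    rw [this]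
    exact hfl
  -- stalk rings
  letI aBR : Algebra Γ(X₂, U₂) (X₂.presheaf.stalk (g'.base x')) :=
    X₂.presheaf.algebra_section_stalk ⟨g'.base x', hxU₂⟩
  letI aB'R' : Algebra Γ(X', U') (X'.presheaf.stalk x') :=
    X'.presheaf.algebra_section_stalk ⟨x', hx'⟩
  letI aB₀'Λ' : Algebra Γ(Y', V') (Y'.presheaf.stalk (f'.base x')) :=
    Y'.presheaf.algebra_section_stalk ⟨f'.base x', hyV'⟩
  letI aB₀Λ : Algebra Γ(Y₂, V₂) (Y₂.presheaf.stalk (f₂.base (g'.base x'))) :=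
    Y₂.presheaf.algebra_section_stalk ⟨f₂.base (g'.base x'), eU₂ hxU₂⟩
  haveI lR := hU₂.isLocalization_stalk ⟨g'.base x', hxU₂⟩
  haveI lR' := hU'.isLocalization_stalk ⟨x', hx'⟩
  haveI lΛ := hV₂.isLocalization_stalk ⟨f₂.base (g'.base x'), eU₂ hxU₂⟩
  haveI lΛ' := hV'.isLocalization_stalk ⟨f'.base x', hyV'⟩
  haveI flΛ : Module.Flat Γ(Y₂, V₂) (Y₂.presheaf.stalk (f₂.base (g'.base x'))) :=
    IsLocalization.flat _ (hV₂.primeIdealOf ⟨f₂.base (g'.base x'), eU₂ hxU₂⟩).asIdeal.primeCompl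
  have hle : Algebra.algebraMapSubmonoid Γ(X', U')
      (hU₂.primeIdealOf ⟨g'.base x', hxU₂⟩).asIdeal.primeCompl ≤
      (hU'.primeIdealOf ⟨x', hx'⟩).asIdeal.primeCompl := by
    rintro _ ⟨a, ha, rfl⟩
    have h1 : IsUnit (algebraMap Γ(X₂, U₂) (X₂.presheaf.stalk (g'.base x')) a) :=
      (IsLocalization.AtPrime.isUnit_to_map_iff _
        (hU₂.primeIdealOf ⟨g'.base x', hxU₂⟩).asIdeal a).2 ha
    have h2 : IsUnit ((g'.stalkMap x').hom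
        (algebraMap Γ(X₂, U₂) (X₂.presheaf.stalk (g'.base x')) a)) := h1.map _
    have h3 : (g'.stalkMap x').hom (algebraMap Γ(X₂, U₂) (X₂.presheaf.stalk (g'.base x')) a) =
        algebraMap Γ(X', U') (X'.presheaf.stalk x') (algebraMap Γ(X₂, U₂) Γ(X', U') a) :=
      stalkMap_germ_eq g' e1 x' hx' a
    rw [h3] at h2
    exact (IsLocalization.AtPrime.isUnit_to_map_iff _
      (hU'.primeIdealOf ⟨x', hx'⟩).asIdeal _).1 h2
  refine hasTorAmp_bc_localization_ti (A := Γ(S, W)) Γ(W₁, V₁) (B₀ := Γ(Y₂, V₂))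
    (B₀' := Γ(Y', V')) (B := Γ(X₂, U₂)) (B' := Γ(X', U')) hAB
    (hV'.primeIdealOf ⟨f'.base x', hyV'⟩).asIdeal.primeCompl
    (hU₂.primeIdealOf ⟨g'.base x', hxU₂⟩).asIdeal.primeCompl
    (hU'.primeIdealOf ⟨x', hx'⟩).asIdeal.primeCompl hle
    (f₂.stalkMap (g'.base x')).hom (g'.stalkMap x').hom (f'.stalkMap x').hom ?_ ?_ ?_ K hK a b h
  · ext a
    exact stalkMap_germ_eq f₂ eU₂ (g'.base x') hxU₂ a
  · ext a
    exact stalkMap_germ_eq g' e1 x' hx' a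
  · ext a
    exact stalkMap_germ_eq f' e2 x' hx' a

/-- Tor-independent base change of relative tor amplitude, sheaf level: the square `hZ` is the
base change of `f₂ : X₂ ⟶ Y₂` along `pY₂ : Y' ⟶ Y₂`, where `Y' = W₁ ×_S Y₂` (square `hY`), with
`Y₂` and `X₂` flat over `S`. -/
theorem hasTorAmplitudeD_lpull_of_isPullback_ti (hY : IsPullback pW₁ pY₂ q₁ q₂)
    (hZ : IsPullback g' f' f₂ pY₂) [Flat q₂] [Flat (f₂ ≫ q₂)] [DCoh.HasLpull g']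
    (F : CochainComplex X₂.Modules ℤ) (a b : ℤ)
    (hF : DerSch.HasTorAmplitude f₂ a b F) :
    DerSch.HasTorAmplitudeD f' a b ((DCoh.Lpull g').obj (DCoh.toD X₂ F)) := by
  obtain ⟨K, q, hK, -, hq, -⟩ : ∃ (K : CochainComplex X₂.Modules ℤ)
      (q : K ⟶ F), DCoh.IsKFlat K ∧
      (∀ n : ℤ, ModSite.IsFlat (O := X₂.sheaf) (K.X n)) ∧ QuasiIso q ∧ ∀ n : ℤ, Epi (q.f n) :=
    exists_kflat_flat_resolution X₂.sheaf F
  have hqi : IsIso (DerivedCategory.Q.map q) := by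
    rw [DerivedCategory.isIso_Q_map_iff_quasiIso]; exact hq
  have eK : DCoh.toD X₂ K ≅ DCoh.toD X₂ F := asIso (DerivedCategory.Q.map q)
  have hGK : DerSch.HasTorAmplitude f₂ a b K := hasTorAmplitude_of_iso f₂ eK.symm a b hF
  have eL : (DCoh.Lpull g').obj (DCoh.toD X₂ F) ≅ DCoh.toD _ ((pullC g').obj K) :=
    (DCoh.Lpull g').mapIso eK.symm ≪≫ lpullIsoK g' K hK
  rintro F' ⟨eF⟩
  refine hasTorAmplitude_of_iso f' (eF ≪≫ eL).symm _ _ ?_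
  intro x'
  rw [hasTorAmplitudeAt_iff]
  have hKy : Groth.Agent.Lib.Helper1.KF.KFlat ((stalkC (g'.base x')).obj K) :=
    fun M hM => rKFlat_stalk_of_isKFlat (g'.base x') K hK M hM
  have hL := (hasTorAmplitudeAt_iff f₂ K a b (g'.base x')).1 (hGK (g'.base x'))
  have key := hasTorAmp_stalk_of_isPullback_ti hY hZ x' _ hKy a b hL
  exact hasTorAmp_of_iso (DerivedCategory.Q.mapIso
    ((DRing.restrictCx _).mapIso (stalkPullCIso g' x' K).symm)) key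

end Groth.Agent.Lib.Helper1.TIBC
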