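import Mathlib
import Groth.Agent.Lib.Helper1TorT6
set_option backward.isDefEq.respectTransparency.types false

/-!
# Bounded complexes tensored with complexes of finite tor amplitude (helper1)
-/

set_option autoImplicit false
set_option linter.style.haveILetI false
set_option maxHeartbeats 400000
universe u
open CategoryTheory CategoryTheory.Limits MonoidalCategory HomologicalComplex TensorProduct
attribute [local instance] HasDerivedCategory.standard

namespace Groth.Agent.Lib.Helper1.TorT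

open DerivedCategory Groth.Agent.Lib.Helper1.KF Groth.Agent.Lib.Helper1.Tor
  Groth.Agent.Lib.Helper1.DT Groth.Agent.Lib.Helper1.TensPerf Groth.Agent.Lib.Helper1.KBC
  Groth.Agent.Lib.Helper1.Restrict Groth.Agent.Lib.Helper1.LDer Groth.Agent.Lib.Helper1.TorO
  Groth.Agent.Lib.Helper1.RelPC Groth.Agent.Lib.Helper1.TQ

section Alg

variable {A B : Type u} [CommRing A] [CommRing B]

/-- a bounded complex of flat modules placed in `[c, d]` tensored with a complex with cohomology
in `[a, b]` has cohomology in `[c + a, d + b]` -/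
lemma exactAt_tensor_of_flat_bounded (G : Cx A) (c d : ℤ)
    (hG : ∀ q : ℤ, q < c ∨ d < q → IsZero (G.X q)) (hGf : ∀ q, Module.Flat A (G.X q))
    (N' : Cx A) (a b : ℤ) (hN' : ∀ i : ℤ, i < a ∨ b < i → N'.ExactAt i) (j : ℤ)
    (hj : j < c + a ∨ d + b < j) : (G ⊗ N').ExactAt j := by
  have hGK : KFlat G := kflat_of_boundedAbove_flat G d (fun q hq => hG q (Or.inr hq)) hGf
  haveI : N'.IsLE b := by
    rw [CochainComplex.isLE_iff]
    exact fun i hi => hN' i (Or.inr hi)
  haveI : QuasiIso (N'.ιTruncLE b) := inferInstance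
  haveI : (N'.truncLE b).IsGE a := by
    rw [CochainComplex.isGE_iff]
    intro i hi
    exact (exactAt_of_quasiIso (N'.ιTruncLE b) i).2 (hN' i (Or.inl hi))
  haveI : QuasiIso ((N'.truncLE b).πTruncGE a) := inferInstance
  set T₁ := N'.truncLE b with hT₁
  set T₂ := T₁.truncGE a with hT₂
  haveI : T₁.IsStrictlyLE b := inferInstance
  haveI : T₂.IsStrictlyLE b := inferInstance
  haveI : T₂.IsStrictlyGE a := inferInstance
  have q1 : QuasiIso (G ◁ N'.ιTruncLE b) := quasiIso_whiskerLeft_of_kflatL _ G hGK.kflatL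
  have q2 : QuasiIso (G ◁ T₁.πTruncGE a) := quasiIso_whiskerLeft_of_kflatL _ G hGK.kflatL
  have hz : IsZero ((G ⊗ T₂).X j) := by
    apply isZero_tensor_X
    intro p q hpq
    by_cases hp : p < c ∨ d < p
    · exact Or.inl (hG p hp)
    · right
      push_neg at hp
      rcases hj with hj | hj
      · exact T₂.isZero_of_isStrictlyGE a q (by lia)
      · exact T₂.isZero_of_isStrictlyLE b q (by lia)
  have h0 : (G ⊗ T₂).ExactAt j := ShortComplex.exact_of_isZero_X₂ _ hz
  have h1 : (G ⊗ T₁).ExactAt j := (exactAt_of_quasiIso (G ◁ T₁.πTruncGE a) j).2 h0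
  exact (exactAt_of_quasiIso (G ◁ N'.ιTruncLE b) j).1 h1

/-- bounded variant of `exactAt_tensor_ext_of_hasTorAmp'` -/
lemma exactAt_tensor_ext_of_hasTorAmp_bounded [Algebra A B] (L : Cx B) (c d : ℤ)
    (hL : DRing.HasTorAmplitudeIn A c d (Q.obj ((DRing.restrictCx (algebraMap A B)).obj L)))
    (N' : Cx A) (hN' : KFlat N') (a b : ℤ) (hN'ex : ∀ i : ℤ, i < a ∨ b < i → N'.ExactAt i)
    (j : ℤ) (hj : j < c + a ∨ d + b < j) :
    (L ⊗ ((ext (algebraMap A B)).mapHomologicalComplex (ComplexShape.up ℤ)).obj N').ExactAt j := by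
  rw [← exactAt_restrict_iff (algebraMap A B)]
  obtain ⟨e⟩ := nonempty_pfCxIso (algebraMap A B) L N'
  refine (exactAt_of_iso e j).2 ?_
  obtain ⟨G, hG, hGf, ⟨eG⟩⟩ := hL
  set rL := ((res (algebraMap A B)).mapHomologicalComplex (ComplexShape.up ℤ)).obj L with hrL
  obtain ⟨P, p, hP, -, hp, -⟩ := exists_kprojective_resolution rL
  have hpi : IsIso (Q.map p) := (DerivedCategory.isIso_Q_map_iff_quasiIso (φ := p)).2 hp
  obtain ⟨g, hg⟩ := Q_map_surjective P G (Q.map p ≫ eG.inv)
  have hgi : IsIso (Q.map g) := by rw [hg]; infer_instance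
  have hgq : QuasiIso g := (DerivedCategory.isIso_Q_map_iff_quasiIso (φ := g)).1 hgi
  have q1 : QuasiIso (p ▷ N') := quasiIso_whiskerRight_of_kflat p N' hN'
  have q2 : QuasiIso (g ▷ N') := quasiIso_whiskerRight_of_kflat g N' hN'
  have h1 : (G ⊗ N').ExactAt j := exactAt_tensor_of_flat_bounded G c d hG hGf N' a b hN'ex j hj
  have h2 : (P ⊗ N').ExactAt j := (exactAt_of_quasiIso (g ▷ N') j).2 h1
  exact (exactAt_of_quasiIso (p ▷ N') j).1 h2

/-- ring-hom form: `(N' ⊗_A B) ⊗_B L` has cohomology in `[c + a, d + b]` for `L` of tor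
amplitude `[c, d]` over `A` and `N'` K-flat with cohomology in `[a, b]` -/
lemma exactAt_bc_tensor_of_hasTorAmp_bounded (ψ : A →+* B) (L : Cx B) (c d : ℤ)
    (hL : DRing.HasTorAmplitudeIn A c d (DRing.toD ((DRing.restrictCx ψ).obj L)))
    (N' : Cx A) (hN' : KFlat N') (a b : ℤ) (hN'ex : ∀ i : ℤ, i < a ∨ b < i → N'.ExactAt i)
    (j : ℤ) (hj : j < c + a ∨ d + b < j) : ((bcCx ψ).obj N' ⊗ L).ExactAt j := by
  letI : Algebra A B := ψ.toAlgebra
  have h := exactAt_tensor_ext_of_hasTorAmp_bounded (A := A) L c d hL N' hN' a b hN'ex j hj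
  exact (exactAt_of_iso (DTen.braidCx ((bcCx ψ).obj N') L) j).2 h

/-- tensoring a K-flat complex with two complexes isomorphic in the derived category -/
lemma exactAt_tensor_iff_of_iso_kflat (L : Cx B) (hL : KFlat L) {M M' : Cx B}
    (e : Q.obj M ≅ Q.obj M') (j : ℤ) : (L ⊗ M).ExactAt j ↔ (L ⊗ M').ExactAt j := by
  obtain ⟨P, p, hP, -, hp, -⟩ := exists_kprojective_resolution M
  have hpi : IsIso (Q.map p) := (DerivedCategory.isIso_Q_map_iff_quasiIso (φ := p)).2 hp
  obtain ⟨g, hg⟩ := Q_map_surjective P M' (Q.map p ≫ e.hom)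
  have hgi : IsIso (Q.map g) := by rw [hg]; infer_instance
  have hgq : QuasiIso g := (DerivedCategory.isIso_Q_map_iff_quasiIso (φ := g)).1 hgi
  have q1 : QuasiIso (L ◁ p) := quasiIso_whiskerLeft_of_kflatL p L hL.kflatL
  have q2 : QuasiIso (L ◁ g) := quasiIso_whiskerLeft_of_kflatL g L hL.kflatL
  rw [← exactAt_of_quasiIso (L ◁ p) j, exactAt_of_quasiIso (L ◁ g) j]

end Alg

end Groth.Agent.Lib.Helper1.TorT
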