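import Mathlib
import Groth.Agent.Lib.Helper1TIBCG
import Groth.Agent.Lib.Helper1TIBCC
set_option backward.isDefEq.respectTransparency.types false

/-!
# Tor-independent base change of pseudo-coherence, ring level (helper1)
-/

set_option autoImplicit false
set_option linter.style.haveILetI false
set_option linter.unusedSectionVars false
set_option maxHeartbeats 400000
universe u
open CategoryTheory CategoryTheory.Limits MonoidalCategory HomologicalComplex TensorProduct
attribute [local instance] HasDerivedCategory.standard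

namespace Groth.Agent.Lib.Helper1.TIBC

open DerivedCategory Groth.Agent.Lib.Helper1.KF Groth.Agent.Lib.Helper1.Tor
  Groth.Agent.Lib.Helper1.DT Groth.Agent.Lib.Helper1.TensPerf Groth.Agent.Lib.Helper1.KBC
  Groth.Agent.Lib.Helper1.Restrict Groth.Agent.Lib.Helper1.LDer Groth.Agent.Lib.Helper1.TorO
  Groth.Agent.Lib.Helper1.RelPC Groth.Agent.Lib.Helper1.TorT Groth.Agent.Lib.Helper1.TQ
  Groth.Agent.Lib.Helper1.Extend Groth.Agent.Lib.Helper1.RelDescent Groth.Agent.Lib.Helper1.LocalCx
  Groth.Agent.Lib.Helper1.TorBC Groth.Agent.Lib.Helper1.PC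

section RightExact

variable {R R' : Type u} [CommRing R] [CommRing R'] (ψ : R →+* R')

/-- a bounded above complex of flat modules placed in degrees `≤ d` tensored with a complex with
cohomology in degrees `≤ b` has cohomology in degrees `≤ d + b` -/
lemma exactAt_tensor_of_flat_boundedAbove (G : Cx R) (d : ℤ)
    (hG : ∀ q : ℤ, d < q → IsZero (G.X q)) (hGf : ∀ q, Module.Flat R (G.X q))
    (N' : Cx R) (b : ℤ) (hN' : ∀ i : ℤ, b < i → N'.ExactAt i) (j : ℤ)
    (hj : d + b < j) : (G ⊗ N').ExactAt j := by
  have hGK : KFlat G := kflat_of_boundedAbove_flat G d hG hGf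
  haveI : N'.IsLE b := by
    rw [CochainComplex.isLE_iff]
    exact fun i hi => hN' i hi
  haveI : QuasiIso (N'.ιTruncLE b) := inferInstance
  set T₁ := N'.truncLE b with hT₁
  haveI : T₁.IsStrictlyLE b := inferInstance
  have q1 : QuasiIso (G ◁ N'.ιTruncLE b) := quasiIso_whiskerLeft_of_kflatL _ G hGK.kflatL
  have hz : IsZero ((G ⊗ T₁).X j) := by
    apply isZero_tensor_X
    intro p q hpq
    by_cases hp : d < p
    · exact Or.inl (hG p hp)
    · right
      push_neg at hp
      exact T₁.isZero_of_isStrictlyLE b q (by lia)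
  have h0 : (G ⊗ T₁).ExactAt j := ShortComplex.exact_of_isZero_X₂ _ hz
  exact (exactAt_of_quasiIso (G ◁ N'.ιTruncLE b) j).1 h0

/-- tensoring a K-flat complex with cohomology in degrees `≤ b` with a module: cohomology in
degrees `≤ b` -/
lemma exactAt_sgl_tensor_of_kflat (X : Cx R) (hX : KFlat X) (b : ℤ)
    (h : ∀ i : ℤ, b < i → X.ExactAt i) (N : ModuleCat.{u} R) (j : ℤ) (hj : b < j) :
    (sgl N ⊗ X).ExactAt j := by
  haveI : (Q.obj (sgl N)).IsLE 0 := by
    rw [DerivedCategory.isLE_Q_obj_iff]
    infer_instance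
  obtain ⟨G', hG'le, hG'p, ⟨e⟩⟩ :=
    Groth.Agent.Lib.Helper1.ProjRes.exists_iso_Q_proj (Q.obj (sgl N)) 0
  have hG'f : ∀ q, Module.Flat R (G'.X q) := fun i =>
    have := hG'p i
    have : Module.Projective R (G'.X i) := ModuleCat.projective_of_module_projective _
    inferInstance
  have h1 : (G' ⊗ X).ExactAt j :=
    exactAt_tensor_of_flat_boundedAbove G' 0 (fun q hq => G'.isZero_of_isStrictlyLE 0 q hq) hG'f
      X b h j (by lia)
  have h2 : (X ⊗ G').ExactAt j := (exactAt_of_iso (DTen.braidCx X G') j).2 h1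
  have h3 : (X ⊗ sgl N).ExactAt j := (exactAt_tensor_iff_of_iso_kflat X hX e j).1 h2
  exact (exactAt_of_iso (DTen.braidCx (sgl N) X) j).2 h3

/-- base change of a K-flat complex with cohomology in degrees `≤ b` has cohomology in
degrees `≤ b` -/
lemma exactAt_bcCx_of_kflat_of_exactAbove (X : Cx R) (hX : KFlat X) (b : ℤ)
    (h : ∀ i : ℤ, b < i → X.ExactAt i) (j : ℤ) (hj : b < j) : ((bcCx ψ).obj X).ExactAt j := by
  have h1 := exactAt_sgl_tensor_of_kflat X hX b h ((res ψ).obj (𝟙_ (ModuleCat.{u} R'))) j hj
  have h2 : ((DRing.restrictCx ψ).obj ((bcCx ψ).obj X)).ExactAt j :=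
    (exactAt_of_iso ((singleTensorIso _ X).symm ≪≫ (resExtCxIso ψ X).symm) j).1 h1
  exact (exactAt_restrict_iff ψ _ j).1 h2

end RightExact

section TIPC

variable {P B B' : Type u} (P' : Type u) [CommRing P] [CommRing P'] [CommRing B] [CommRing B']
  [Algebra P P'] [Algebra P B] [Algebra P' B'] [Algebra B B'] [Algebra P B']
  [IsScalarTower P P' B'] [IsScalarTower P B B'] [Algebra.IsPushout P P' B B']
  [Module.Flat P B]

include P'

/-- **Tor-independent base change of pseudo-coherence**: in a pushout square `B' = P' ⊗_P B` with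
`B` flat over `P`, a complex `L` over `B` which is K-flat over `P` and `m`-pseudo-coherent over `B`
has `m`-pseudo-coherent termwise base change over `B'` -/
theorem isPC_bcCx_of_torIndep (L : Cx B)
    (hL : KFlat ((DRing.restrictCx (algebraMap P B)).obj L)) (m : ℤ)
    (h : DRing.IsPseudoCoherent B m (DRing.toD L)) :
    DRing.IsPseudoCoherent B' m (DRing.toD ((bcCx (algebraMap B B')).obj L)) := by
  obtain ⟨E, a, b, α, hEv, hEff, hiso, hepi⟩ := h
  have hEp : ∀ i : ℤ, Module.Projective B (E.X i) := fun i => by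
    have := (hEff i).1
    have := (hEff i).2
    infer_instance
  haveI : E.IsKProjective :=
    isKProjective_of_vanishesAbove E b (fun i hi => hEv i (Or.inr hi)) hEp
  obtain ⟨g, hg⟩ := Q_map_surjective E L α
  have hconn : Conn m (Q.map g) := by rw [hg]; exact ⟨hiso, hepi⟩
  set C := CochainComplex.mappingCone g with hC
  have hT := DerivedCategory.mappingCone_triangle_distinguished g
  have hCle : (Q.obj C).IsLE (m - 1) := (conn_iff_of_distTriang _ hT m).1 hconn
  have hCex : ∀ i : ℤ, m - 1 < i → C.ExactAt i := by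
    rw [DerivedCategory.isLE_Q_obj_iff, CochainComplex.isLE_iff] at hCle
    exact hCle
  -- K-flatness of the cone over `P`
  have hflat : (algebraMap P B).Flat :=
    (RingHom.flat_algebraMap_iff (R := P) (S := B)).2 inferInstance
  have hEK : KFlat E := kflat_of_isKProjective E
  have hEP : KFlat ((DRing.restrictCx (algebraMap P B)).obj E) :=
    kflat_restrictCx_of_flat _ hflat E hEK
  have hCK : KFlat ((DRing.restrictCx (algebraMap P B)).obj C) :=
    KFlat.of_iso' (CochainComplex.mappingCone.mapHomologicalComplexIso g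
      (ModuleCat.restrictScalars.{u} (algebraMap P B))).symm
      (KFlat.cone ((DRing.restrictCx (algebraMap P B)).map g) hEP hL)
  have hCex' : ∀ i : ℤ, m - 1 < i →
      ((DRing.restrictCx (algebraMap P B)).obj C).ExactAt i :=
    fun i hi => (exactAt_restrict_iff _ _ i).2 (hCex i hi)
  -- the cone of the base change
  have hC'ex : ∀ i : ℤ, m - 1 < i → ((bcCx (algebraMap B B')).obj C).ExactAt i := by
    intro i hi
    have s3 := exactAt_bcCx_of_kflat_of_exactAbove (algebraMap P P') _ hCK (m - 1) hCex' i hi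
    have s4 : ((DRing.restrictCx (algebraMap P' B')).obj
        ((bcCx (algebraMap B B')).obj C)).ExactAt i :=
      (exactAt_of_iso (bcCxIso' (P := P) (P' := P') (B := B) (B' := B') C) i).1 s3
    exact (exactAt_restrict_iff _ _ i).1 s4
  set g' := (bcCx (algebraMap B B')).map g with hg'
  have hT' := DerivedCategory.mappingCone_triangle_distinguished g'
  have hC'le : (Q.obj (CochainComplex.mappingCone g')).IsLE (m - 1) := by
    rw [DerivedCategory.isLE_Q_obj_iff, CochainComplex.isLE_iff]
    intro i hi
    exact (exactAt_of_iso (CochainComplex.mappingCone.mapHomologicalComplexIso g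
      (ModuleCat.extendScalars.{u, u, u} (algebraMap B B'))) i).1 (hC'ex i hi)
  have hconn' : Conn m (Q.map g') := (conn_iff_of_distTriang _ hT' m).2 hC'le
  refine ⟨(bcCx (algebraMap B B')).obj E, a, b, Q.map g', fun i hi => ?_, fun i => ?_,
    hconn'.1, hconn'.2⟩
  · exact (ModuleCat.extendScalars.{u, u, u} (algebraMap B B')).map_isZero (hEv i hi)
  · exact FF_ext (A := B) (B := B') _ (hEff i)

end TIPC

end Groth.Agent.Lib.Helper1.TIBC
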