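import Mathlib
import Groth.Agent.Lib.Helper1TIBCI
import Groth.Agent.Lib.Helper1PCBaseChange
import Groth.Agent.Lib.Helper1TIBCD
set_option backward.isDefEq.respectTransparency.types false

/-!
# Tor-independent base change of charts of pseudo-coherent morphisms (helper1)
-/

set_option autoImplicit false
set_option linter.style.haveILetI false
set_option linter.unusedSectionVars false
set_option maxHeartbeats 800000
universe u
open CategoryTheory CategoryTheory.Limits AlgebraicGeometry Opposite TopologicalSpace Pretriangulated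

attribute [local instance] HasDerivedCategory.standard

namespace Groth.Agent.Lib.Helper1.ChartInd

open Groth.Agent.Lib.Helper1.SPL Groth.Agent.Lib.Helper1.Sky ZeroObject
open Groth.Agent.Lib.Helper1.ClosedPC Groth.Agent.Lib.Helper1.ChartPC
open Groth.Agent.Lib.Helper1.KoszulPerf Groth.Agent.Lib.Helper1.TildePC
open Groth.Agent.Lib.Helper1.Restrict Groth.Agent.Lib.Helper1.RelPC Groth.Agent.Lib.Helper1.PC
open Groth.Agent.Lib.Helper1.TIBC Groth.Agent.Lib.Helper1.Extend Groth.Agent.Lib.Helper1.KBC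

section Ring

/-- a module flat over the base, in degree `0`, restricted to the base, is K-flat -/
lemma kflat_restrict_single_of_flat {A P : Type u} [CommRing A] [CommRing P] [Algebra A P]
    (N : Type u) [AddCommGroup N] [Module P N] [Module A N] [IsScalarTower A P N]
    [Module.Flat A N] :
    Groth.Agent.Lib.Helper1.KF.KFlat ((DRing.restrictCx (algebraMap A P)).obj
      ((HomologicalComplex.single (ModuleCat.{u} P) (ComplexShape.up ℤ) 0).obj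
        (ModuleCat.of P N))) := by
  refine Groth.Agent.Lib.Helper1.KF.kflat_of_boundedAbove_flat _ 0 (fun q hq => ?_) (fun q => ?_)
  · exact (ModuleCat.restrictScalars.{u} (algebraMap A P)).map_isZero
      (HomologicalComplex.isZero_single_obj_X _ _ _ _ (by omega))
  · by_cases hq : q = 0
    · subst hq
      have e : (ModuleCat.restrictScalars.{u} (algebraMap A P)).obj
          (((HomologicalComplex.single (ModuleCat.{u} P) (ComplexShape.up ℤ) 0).obj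
            (ModuleCat.of P N)).X 0) ≅ ModuleCat.of A N :=
        (ModuleCat.restrictScalars.{u} (algebraMap A P)).mapIso
          (HomologicalComplex.singleObjXSelf (ComplexShape.up ℤ) 0 (ModuleCat.of P N)) ≪≫
          restrictScalarsAlgebraIso (A := A) (B := P) N
      exact Module.Flat.of_linearEquiv e.toLinearEquiv
    · have hz : IsZero ((ModuleCat.restrictScalars.{u} (algebraMap A P)).obj
          (((HomologicalComplex.single (ModuleCat.{u} P) (ComplexShape.up ℤ) 0).obj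
            (ModuleCat.of P N)).X q)) :=
        (ModuleCat.restrictScalars.{u} (algebraMap A P)).map_isZero
          (HomologicalComplex.isZero_single_obj_X _ _ _ _ hq)
      haveI := ModuleCat.subsingleton_of_isZero hz
      exact inferInstanceAs (Module.Flat A ((ModuleCat.restrictScalars.{u} (algebraMap A P)).obj
          (((HomologicalComplex.single (ModuleCat.{u} P) (ComplexShape.up ℤ) 0).obj
            (ModuleCat.of P N)).X q)))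

/-- Tor-independent base change of a pseudo-coherent module: `P' = A' ⊗_A P`, `P` flat over `A`,
`N` a `P`-module flat over `A` and `n`-pseudo-coherent over `P` -/
theorem isPseudoCoherentModule_tensor_of_torIndep {A A' P P' : Type u} [CommRing A] [CommRing A']
    [CommRing P] [CommRing P'] [Algebra A A'] [Algebra A P] [Algebra A' P'] [Algebra P P']
    [Algebra A P'] [IsScalarTower A A' P'] [IsScalarTower A P P'] [Algebra.IsPushout A A' P P']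
    [Module.Flat A P] (N : Type u) [AddCommGroup N] [Module P N] [Module A N]
    [IsScalarTower A P N] [Module.Flat A N] (n : ℤ)
    (h : DRing.IsPseudoCoherentModule P n N) :
    DRing.IsPseudoCoherentModule P' n (TensorProduct P P' N) := by
  have hL := kflat_restrict_single_of_flat (A := A) (P := P) N
  have h1 : DRing.IsPseudoCoherent P n (DRing.toD
      ((HomologicalComplex.single (ModuleCat.{u} P) (ComplexShape.up ℤ) 0).obj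
        (ModuleCat.of P N))) :=
    isPC_of_iso ((DerivedCategory.singleFunctorIsoCompQ (ModuleCat.{u} P) 0).app _) h
  have h2 := isPC_bcCx_of_torIndep (P := A) A' (B := P) (B' := P') _ hL n h1
  refine isPC_of_iso ?_ h2
  exact DerivedCategory.Q.mapIso
      ((HomologicalComplex.singleMapHomologicalComplex
        (ModuleCat.extendScalars.{u, u, u} (algebraMap P P')) (ComplexShape.up ℤ) 0).app
        (ModuleCat.of P N)) ≪≫
    ((DerivedCategory.singleFunctorIsoCompQ (ModuleCat.{u} P') 0).app _).symm ≪≫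
    (DerivedCategory.singleFunctor (ModuleCat.{u} P') 0).mapIso (extIso (A := P) (B := P') N)

attribute [local instance] MvPolynomial.algebraMvPolynomial in
/-- Tor-independent base change of a chart -/
theorem pcj_baseChange_ti {A A' R R' B B' : Type u} [CommRing A] [CommRing A'] [CommRing R]
    [CommRing R'] [CommRing B] [CommRing B']
    [Algebra A A'] [Algebra A R] [Algebra A' R'] [Algebra R R'] [Algebra A R']
    [IsScalarTower A A' R'] [IsScalarTower A R R'] [hpoA : Algebra.IsPushout A A' R R']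
    [Algebra R B] [Algebra B B'] [Algebra R' B'] [Algebra R B']
    [IsScalarTower R B B'] [IsScalarTower R R' B'] [hpo : Algebra.IsPushout R R' B B']
    [Module.Flat A R] [Algebra A B] [IsScalarTower A R B] [Module.Flat A B]
    {k : ℕ} (φ : MvPolynomial (Fin k) R →+* B) (hφs : Function.Surjective φ)
    (hφC : φ.comp MvPolynomial.C = algebraMap R B) (n : ℤ) (hpc : PCj φ n) :
    ∃ φ' : MvPolynomial (Fin k) R' →+* B', Function.Surjective φ' ∧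
      φ'.comp MvPolynomial.C = algebraMap R' B' ∧ PCj φ' n := by
  classical
  let P := MvPolynomial (Fin k) R
  let P' := MvPolynomial (Fin k) R'
  let φ' : P' →+* B' := MvPolynomial.eval₂Hom (algebraMap R' B')
    (fun i => algebraMap B B' (φ (MvPolynomial.X i)))
  have hφ'C : φ'.comp MvPolynomial.C = algebraMap R' B' := by
    ext r
    exact MvPolynomial.eval₂Hom_C _ _ r
  have hsq : φ'.comp (MvPolynomial.map (algebraMap R R')) = (algebraMap B B').comp φ := by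
    apply MvPolynomial.ringHom_ext
    · intro r
      have h1 : φ (MvPolynomial.C r) = algebraMap R B r := congrArg (fun g => g r) hφC
      rw [RingHom.comp_apply, RingHom.comp_apply, MvPolynomial.map_C, h1]
      refine (MvPolynomial.eval₂Hom_C _ _ _).trans ?_
      rw [← IsScalarTower.algebraMap_apply R R' B', ← IsScalarTower.algebraMap_apply R B B']
    · intro i
      rw [RingHom.comp_apply, RingHom.comp_apply, MvPolynomial.map_X]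
      exact MvPolynomial.eval₂Hom_X' _ _ i
  letI aPB : Algebra P B := φ.toAlgebra
  letI aP'B' : Algebra P' B' := φ'.toAlgebra
  letI aPB' : Algebra P B' := ((algebraMap B B').comp φ).toAlgebra
  haveI t1 : IsScalarTower R P B := IsScalarTower.of_algebraMap_eq
    (fun r => (congrArg (fun g => g r) hφC).symm)
  haveI t2 : IsScalarTower P B B' := IsScalarTower.of_algebraMap_eq (fun _ => rfl)
  haveI t3 : IsScalarTower P P' B' := IsScalarTower.of_algebraMap_eq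
    (fun p => (congrArg (fun g => g p) hsq).symm)
  haveI t4 : IsScalarTower R' P' B' := IsScalarTower.of_algebraMap_eq
    (fun r => (congrArg (fun g => g r) hφ'C).symm)
  haveI t5 : IsScalarTower R P B' := IsScalarTower.of_algebraMap_eq (fun r => by
    change algebraMap R B' r = algebraMap B B' (φ (MvPolynomial.C r))
    have h1 : φ (MvPolynomial.C r) = algebraMap R B r := congrArg (fun g => g r) hφC
    rw [h1, ← IsScalarTower.algebraMap_apply R B B'])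
  haveI t6 : IsScalarTower R P' B' := IsScalarTower.of_algebraMap_eq (fun r => by
    change algebraMap R B' r = φ' (MvPolynomial.C (algebraMap R R' r))
    have h1 : φ' (MvPolynomial.C (algebraMap R R' r)) = algebraMap R' B' (algebraMap R R' r) :=
      congrArg (fun g => g (algebraMap R R' r)) hφ'C
    rw [h1, ← IsScalarTower.algebraMap_apply R R' B'])
  have hpo2 : Algebra.IsPushout P B P' B' :=
    (Algebra.IsPushout.comp_iff (R := R) (S := P) (T := B) (R' := R') (S' := P') (T' := B')).1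
      hpo.symm
  have hpo3 : Algebra.IsPushout P P' B B' := hpo2.symm
  have hbc : IsBaseChange P' (IsScalarTower.toAlgHom P B B').toLinearMap := hpo3.out
  -- the structures over `A`
  haveI tA1 : IsScalarTower A P P' := IsScalarTower.of_algebraMap_eq (fun a => by
    rw [MvPolynomial.algebraMap_apply, MvPolynomial.algebraMap_def, MvPolynomial.algebraMap_apply,
      MvPolynomial.map_C, ← IsScalarTower.algebraMap_apply A R R'])
  haveI hpoA' : Algebra.IsPushout A R A' R' := hpoA.symm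
  have hpoAP : Algebra.IsPushout A P A' P' :=
    (Algebra.IsPushout.comp_iff (R := A) (S := R) (T := P) (R' := A') (S' := R') (T' := P')).2
      inferInstance
  haveI hpoAP' : Algebra.IsPushout A A' P P' := hpoAP.symm
  haveI : Module.Flat A P := Module.Flat.trans A R P
  haveI tA2 : IsScalarTower A P B := IsScalarTower.of_algebraMap_eq (fun a => by
    change algebraMap A B a = φ (algebraMap A P a)
    rw [MvPolynomial.algebraMap_apply]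
    have h1 : φ (MvPolynomial.C (algebraMap A R a)) = algebraMap R B (algebraMap A R a) :=
      congrArg (fun g => g (algebraMap A R a)) hφC
    rw [h1, ← IsScalarTower.algebraMap_apply A R B])
  have h1 : DRing.IsPseudoCoherentModule P n B := (pcj_iff_isPseudoCoherentModule φ n).1 hpc
  have h2 : DRing.IsPseudoCoherentModule P' n (TensorProduct P P' B) :=
    isPseudoCoherentModule_tensor_of_torIndep (A := A) (A' := A') (P := P) (P' := P') B n h1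
  have h3 : DRing.IsPseudoCoherentModule P' n B' :=
    isPC_of_iso ((DerivedCategory.singleFunctor (ModuleCat.{u} P') 0).mapIso
      hbc.equiv.toModuleIso) h2
  refine ⟨φ', ?_, hφ'C, (pcj_iff_isPseudoCoherentModule φ' n).2 h3⟩
  intro x
  refine hpo.out.inductionOn x _ ⟨0, map_zero _⟩ (fun b => ?_) (fun s y hy => ?_)
    (fun y₁ y₂ h₁ h₂ => ?_)
  · obtain ⟨p, rfl⟩ := hφs b
    exact ⟨MvPolynomial.map (algebraMap R R') p, congrArg (fun g => g p) hsq⟩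
  · obtain ⟨q, rfl⟩ := hy
    refine ⟨MvPolynomial.C s * q, ?_⟩
    rw [map_mul, Algebra.smul_def]
    congr 1
    exact congrArg (fun g => g s) hφ'C
  · obtain ⟨q₁, rfl⟩ := h₁
    obtain ⟨q₂, rfl⟩ := h₂
    exact ⟨q₁ + q₂, map_add _ _ _⟩

end Ring

section GeomTI

open Groth.Agent.Lib.Helper2.PullbackSec Groth.Agent.Lib.Helper2.FlatOver

variable {S W₁ Y₂ Y' X₂ X' : Scheme.{u}} {q₁ : W₁ ⟶ S} {q₂ : Y₂ ⟶ S} {pW₁ : Y' ⟶ W₁}
  {pY₂ : Y' ⟶ Y₂} {f₂ : X₂ ⟶ Y₂} {g' : X' ⟶ X₂} {f' : X' ⟶ Y'}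

/-- Tor-independent base change of an `n`-pseudo-coherent morphism: the square `hZ` is the base
change of `f₂` along `pY₂ : Y' → Y₂`, itself the base change (square `hY`) of an arbitrary
`q₁ : W₁ → S` along `q₂ : Y₂ → S`, with `Y₂` and `X₂` flat over `S` -/
theorem isNPseudoCoherent_of_isPullback_ti (hY : IsPullback pW₁ pY₂ q₁ q₂)
    (hZ : IsPullback g' f' f₂ pY₂) [Flat q₂] [Flat (f₂ ≫ q₂)] [LocallyOfFiniteType f₂] (n : ℤ)
    (hf : DerSch.IsNPseudoCoherent f₂ n) : DerSch.IsNPseudoCoherent f' n := by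
  haveI : LocallyOfFiniteType f' :=
    MorphismProperty.of_isPullback (P := @LocallyOfFiniteType) hZ ‹_›
  refine ⟨inferInstance, {V' : Y'.affineOpens | ∃ (W : S.affineOpens) (V₂ : Y₂.affineOpens)
    (V₁ : W₁.affineOpens), (V₂ : Y₂.Opens) ≤ q₂ ⁻¹ᵁ (W : S.Opens) ∧
      (V₁ : W₁.Opens) ≤ q₁ ⁻¹ᵁ (W : S.Opens) ∧
      (V' : Y'.Opens) = pW₁ ⁻¹ᵁ (V₁ : W₁.Opens) ⊓ pY₂ ⁻¹ᵁ (V₂ : Y₂.Opens)}, ?_, ?_⟩
  · apply le_antisymm le_top
    intro y' _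
    have hwY : q₁.base (pW₁.base y') = q₂.base (pY₂.base y') := by
      have := congrArg (fun φ => φ.base y') hY.w
      simpa using this
    obtain ⟨V₂, W, hV₂, hW, hyV₂, eV₂⟩ := exists_affine_nhds q₂ (pY₂.base y')
    obtain ⟨V₁, hV₁, hwV₁, eV₁⟩ := Groth.Agent.Lib.Helper1.TIBC.exists_affine_nhds_le
      (pW₁.base y') (q₁ ⁻¹ᵁ W) (by
        change q₁.base (pW₁.base y') ∈ W
        rw [hwY]
        exact eV₂ hyV₂)
    simp only [Opens.mem_iSup]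
    exact ⟨⟨_, isAffineOpen_inf_preimage hY eV₂ eV₁ hW hV₂ hV₁⟩,
      ⟨⟨W, hW⟩, ⟨V₂, hV₂⟩, ⟨V₁, hV₁⟩, eV₂, eV₁, rfl⟩, ⟨hwV₁, hyV₂⟩⟩
  · rintro ⟨V', hV'⟩ ⟨⟨W, hW⟩, ⟨V₂, hV₂⟩, ⟨V₁, hV₁⟩, eV₂, eV₁, hV'e⟩
    change V' = _ at hV'e
    change V₂ ≤ q₂ ⁻¹ᵁ W at eV₂
    change V₁ ≤ q₁ ⁻¹ᵁ W at eV₁
    subst hV'e
    have d1 : pW₁ ⁻¹ᵁ V₁ ⊓ pY₂ ⁻¹ᵁ V₂ ≤ pW₁ ⁻¹ᵁ V₁ := inf_le_left
    have d2 : pW₁ ⁻¹ᵁ V₁ ⊓ pY₂ ⁻¹ᵁ V₂ ≤ pY₂ ⁻¹ᵁ V₂ := inf_le_right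
    refine ⟨{U' : X'.affineOpens | ∃ U₂ : X₂.affineOpens,
      (U₂ : X₂.Opens) ≤ f₂ ⁻¹ᵁ V₂ ∧
        (U' : X'.Opens) = g' ⁻¹ᵁ (U₂ : X₂.Opens) ⊓ f' ⁻¹ᵁ (pW₁ ⁻¹ᵁ V₁ ⊓ pY₂ ⁻¹ᵁ V₂)}, ?_, ?_⟩
    · apply le_antisymm
      · refine iSup₂_le ?_
        rintro U' ⟨U₂, hUV, hU'⟩
        rw [hU']
        exact inf_le_right
      · intro x' hx'
        have hx1 : g'.base x' ∈ f₂ ⁻¹ᵁ V₂ := by
          have hw := congrArg (fun φ => φ.base x') hZ.w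
          simp only [Scheme.Hom.comp_base, TopCat.comp_app] at hw
          show f₂.base (g'.base x') ∈ V₂
          rw [hw]
          exact hx'.2
        obtain ⟨U₂, hU₂, hxU₂, hUV⟩ := Opens.isBasis_iff_nbhd.1 X₂.isBasis_affineOpens hx1
        simp only [Opens.mem_iSup]
        exact ⟨⟨_, isAffineOpen_inf_preimage hZ d2 hUV hV₂ hV' hU₂⟩, ⟨⟨U₂, hU₂⟩, hUV, rfl⟩,
          ⟨hxU₂, hx'⟩⟩
    · rintro ⟨U', hU'⟩ ⟨⟨U₂, hU₂⟩, eU₂, hU'e⟩ h'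
      change U' = _ at hU'e
      change U₂ ≤ f₂ ⁻¹ᵁ V₂ at eU₂
      subst hU'e
      obtain ⟨k, φ, hφ⟩ := exists_isChart f₂ hU₂ hV₂ eU₂
      have c := chartPC_of_isPseudoCoherentRel f₂ _ n hf hU₂ hV₂ eU₂ φ hφ
      have hpcj : PCj φ n := (chartPC_unit_iff_pcj hU₂ φ hφ.1 n).1 c
      have e1 : g' ⁻¹ᵁ U₂ ⊓ f' ⁻¹ᵁ (pW₁ ⁻¹ᵁ V₁ ⊓ pY₂ ⁻¹ᵁ V₂) ≤ g' ⁻¹ᵁ U₂ := inf_le_left
      have e2 : g' ⁻¹ᵁ U₂ ⊓ f' ⁻¹ᵁ (pW₁ ⁻¹ᵁ V₁ ⊓ pY₂ ⁻¹ᵁ V₂) ≤
          f' ⁻¹ᵁ (pW₁ ⁻¹ᵁ V₁ ⊓ pY₂ ⁻¹ᵁ V₂) := inf_le_right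
      -- ring structures, first square
      letI aAA₁ : Algebra Γ(S, W) Γ(W₁, V₁) := (q₁.appLE W V₁ eV₁).hom.toAlgebra
      letI aAB₀ : Algebra Γ(S, W) Γ(Y₂, V₂) := (q₂.appLE W V₂ eV₂).hom.toAlgebra
      letI aA₁B₀' : Algebra Γ(W₁, V₁) Γ(Y', pW₁ ⁻¹ᵁ V₁ ⊓ pY₂ ⁻¹ᵁ V₂) :=
        (pW₁.appLE V₁ _ d1).hom.toAlgebra
      letI aB₀B₀' : Algebra Γ(Y₂, V₂) Γ(Y', pW₁ ⁻¹ᵁ V₁ ⊓ pY₂ ⁻¹ᵁ V₂) :=
        (pY₂.appLE V₂ _ d2).hom.toAlgebra
      letI aAB₀' : Algebra Γ(S, W) Γ(Y', pW₁ ⁻¹ᵁ V₁ ⊓ pY₂ ⁻¹ᵁ V₂) :=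
        ((pW₁.appLE V₁ _ d1).hom.comp (q₁.appLE W V₁ eV₁).hom).toAlgebra
      haveI tAA₁B₀' : IsScalarTower Γ(S, W) Γ(W₁, V₁) Γ(Y', pW₁ ⁻¹ᵁ V₁ ⊓ pY₂ ⁻¹ᵁ V₂) :=
        IsScalarTower.of_algebraMap_eq (fun a => rfl)
      have hsqY : ∀ a : Γ(S, W), (pW₁.appLE V₁ _ d1).hom ((q₁.appLE W V₁ eV₁).hom a) =
          (pY₂.appLE V₂ _ d2).hom ((q₂.appLE W V₂ eV₂).hom a) := by
        intro a
        have h1 := Scheme.Hom.appLE_comp_appLE pW₁ q₁ W V₁ _ eV₁ d1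
        have h2 := Scheme.Hom.appLE_comp_appLE pY₂ q₂ W V₂ _ eV₂ d2
        have h3 : (q₁.appLE W V₁ eV₁ ≫ pW₁.appLE V₁ _ d1) =
            (q₂.appLE W V₂ eV₂ ≫ pY₂.appLE V₂ _ d2) := by
          rw [h1, h2]
          congr 1
          exact hY.w
        exact congrArg (fun φ => φ.hom a) h3
      haveI tAB₀B₀' : IsScalarTower Γ(S, W) Γ(Y₂, V₂) Γ(Y', pW₁ ⁻¹ᵁ V₁ ⊓ pY₂ ⁻¹ᵁ V₂) :=
        IsScalarTower.of_algebraMap_eq (fun a => hsqY a)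
      have hPOY : Algebra.IsPushout Γ(S, W) Γ(Y₂, V₂) Γ(W₁, V₁)
          Γ(Y', pW₁ ⁻¹ᵁ V₁ ⊓ pY₂ ⁻¹ᵁ V₂) :=
        algebra_isPushout hY eV₂ eV₁ hW hV₂ hV₁ d1 d2
      haveI hPOY' : Algebra.IsPushout Γ(S, W) Γ(W₁, V₁) Γ(Y₂, V₂)
          Γ(Y', pW₁ ⁻¹ᵁ V₁ ⊓ pY₂ ⁻¹ᵁ V₂) := hPOY.symm
      haveI flAB₀ : Module.Flat Γ(S, W) Γ(Y₂, V₂) :=
        HasRingHomProperty.appLE (P := @Flat) q₂ inferInstance ⟨W, hW⟩ ⟨V₂, hV₂⟩ eV₂
      -- ring structures, second square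
      letI aB₀B : Algebra Γ(Y₂, V₂) Γ(X₂, U₂) := (f₂.appLE V₂ U₂ eU₂).hom.toAlgebra
      letI aBB' : Algebra Γ(X₂, U₂) Γ(X', g' ⁻¹ᵁ U₂ ⊓ f' ⁻¹ᵁ (pW₁ ⁻¹ᵁ V₁ ⊓ pY₂ ⁻¹ᵁ V₂)) :=
        (g'.appLE U₂ _ e1).hom.toAlgebra
      letI aB₀'B' : Algebra Γ(Y', pW₁ ⁻¹ᵁ V₁ ⊓ pY₂ ⁻¹ᵁ V₂)
          Γ(X', g' ⁻¹ᵁ U₂ ⊓ f' ⁻¹ᵁ (pW₁ ⁻¹ᵁ V₁ ⊓ pY₂ ⁻¹ᵁ V₂)) :=
        (f'.appLE _ _ h').hom.toAlgebra
      letI aB₀B' : Algebra Γ(Y₂, V₂) Γ(X', g' ⁻¹ᵁ U₂ ⊓ f' ⁻¹ᵁ (pW₁ ⁻¹ᵁ V₁ ⊓ pY₂ ⁻¹ᵁ V₂)) :=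
        ((g'.appLE U₂ _ e1).hom.comp (f₂.appLE V₂ U₂ eU₂).hom).toAlgebra
      haveI tB₀BB' : IsScalarTower Γ(Y₂, V₂) Γ(X₂, U₂)
          Γ(X', g' ⁻¹ᵁ U₂ ⊓ f' ⁻¹ᵁ (pW₁ ⁻¹ᵁ V₁ ⊓ pY₂ ⁻¹ᵁ V₂)) :=
        IsScalarTower.of_algebraMap_eq (fun a => rfl)
      have hsqZ : ∀ a : Γ(Y₂, V₂), (g'.appLE U₂ _ e1).hom ((f₂.appLE V₂ U₂ eU₂).hom a) =
          (f'.appLE _ _ h').hom ((pY₂.appLE V₂ _ d2).hom a) := by
        intro a
        have h1 := Scheme.Hom.appLE_comp_appLE g' f₂ V₂ U₂ _ eU₂ e1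
        have h2 := Scheme.Hom.appLE_comp_appLE f' pY₂ V₂ _ _ d2 h'
        have h3 : (f₂.appLE V₂ U₂ eU₂ ≫ g'.appLE U₂ _ e1) =
            (pY₂.appLE V₂ _ d2 ≫ f'.appLE _ _ h') := by
          rw [h1, h2]
          congr 1
          exact hZ.w
        exact congrArg (fun φ => φ.hom a) h3
      haveI tB₀B₀'B' : IsScalarTower Γ(Y₂, V₂) Γ(Y', pW₁ ⁻¹ᵁ V₁ ⊓ pY₂ ⁻¹ᵁ V₂)
          Γ(X', g' ⁻¹ᵁ U₂ ⊓ f' ⁻¹ᵁ (pW₁ ⁻¹ᵁ V₁ ⊓ pY₂ ⁻¹ᵁ V₂)) :=
        IsScalarTower.of_algebraMap_eq (fun a => hsqZ a)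
      haveI hPOZ : Algebra.IsPushout Γ(Y₂, V₂) Γ(Y', pW₁ ⁻¹ᵁ V₁ ⊓ pY₂ ⁻¹ᵁ V₂) Γ(X₂, U₂)
          Γ(X', g' ⁻¹ᵁ U₂ ⊓ f' ⁻¹ᵁ (pW₁ ⁻¹ᵁ V₁ ⊓ pY₂ ⁻¹ᵁ V₂)) :=
        algebra_isPushout hZ d2 eU₂ hV₂ hV' hU₂ e1 h'
      -- the structure of `Γ(X₂, U₂)` over `Γ(S, W)`
      have eUW : U₂ ≤ (f₂ ≫ q₂) ⁻¹ᵁ W := eU₂.trans (fun _ hz => eV₂ hz)
      letI aAB : Algebra Γ(S, W) Γ(X₂, U₂) := ((f₂ ≫ q₂).appLE W U₂ eUW).hom.toAlgebra
      haveI tAB₀B : IsScalarTower Γ(S, W) Γ(Y₂, V₂) Γ(X₂, U₂) :=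
        IsScalarTower.of_algebraMap_eq (fun a => by
          have hcomp := Scheme.Hom.appLE_comp_appLE f₂ q₂ W V₂ U₂ eV₂ eU₂
          exact (congrArg (fun φ => φ.hom a) hcomp).symm)
      haveI flAB : Module.Flat Γ(S, W) Γ(X₂, U₂) :=
        HasRingHomProperty.appLE (P := @Flat) (f₂ ≫ q₂) inferInstance ⟨W, hW⟩ ⟨U₂, hU₂⟩ eUW
      obtain ⟨φ', hs, hC, hpc'⟩ := pcj_baseChange_ti (A := Γ(S, W)) (A' := Γ(W₁, V₁))
        (R := Γ(Y₂, V₂)) (R' := Γ(Y', pW₁ ⁻¹ᵁ V₁ ⊓ pY₂ ⁻¹ᵁ V₂)) (B := Γ(X₂, U₂))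
        (B' := Γ(X', g' ⁻¹ᵁ U₂ ⊓ f' ⁻¹ᵁ (pW₁ ⁻¹ᵁ V₁ ⊓ pY₂ ⁻¹ᵁ V₂))) φ hφ.1 hφ.2 n hpcj
      exact ⟨k, φ', ⟨hs, hC⟩, (chartPC_unit_iff_pcj hU' φ' hs n).2 hpc'⟩

end GeomTI

section GeomFlat

open Groth.Agent.Lib.Helper2.PullbackSec in
/-- flat base change of an `n`-pseudo-coherent morphism, arbitrary cartesian square -/
theorem isNPseudoCoherent_of_isPullback_flat {X Y Y' X' : Scheme.{u}} {f : X ⟶ Y} {h : Y' ⟶ Y}
    {g' : X' ⟶ X} {f' : X' ⟶ Y'} (hc : IsPullback g' f' f h) [LocallyOfFiniteType f] (n : ℤ)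
    (hf : DerSch.IsNPseudoCoherent f n) [Flat h] :
    DerSch.IsNPseudoCoherent f' n := by
  haveI : LocallyOfFiniteType f' :=
    MorphismProperty.of_isPullback (P := @LocallyOfFiniteType) hc ‹_›
  refine ⟨inferInstance, {V' : Y'.affineOpens | ∃ V : Y.affineOpens,
    (V' : Y'.Opens) ≤ h ⁻¹ᵁ (V : Y.Opens)}, ?_, ?_⟩
  · apply le_antisymm le_top
    intro y' _
    obtain ⟨V, hV, hyV, -⟩ := Opens.isBasis_iff_nbhd.1 Y.isBasis_affineOpens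
      (U := ⊤) (x := h.base y') trivial
    obtain ⟨V', hV', hy'V', hV'V⟩ := Opens.isBasis_iff_nbhd.1 Y'.isBasis_affineOpens
      (U := h ⁻¹ᵁ V) (x := y') hyV
    simp only [Opens.mem_iSup]
    exact ⟨⟨V', hV'⟩, ⟨⟨V, hV⟩, hV'V⟩, hy'V'⟩
  · rintro V' ⟨V, hV'V⟩
    refine ⟨{U' : X'.affineOpens | ∃ U : X.affineOpens,
      (U : X.Opens) ≤ f ⁻¹ᵁ (V : Y.Opens) ∧
        (U' : X'.Opens) = g' ⁻¹ᵁ (U : X.Opens) ⊓
          f' ⁻¹ᵁ (V' : Y'.Opens)}, ?_, ?_⟩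
    · apply le_antisymm
      · refine iSup₂_le ?_
        rintro U' ⟨U, hUV, hU'⟩
        rw [hU']
        exact inf_le_right
      · intro x' hx'
        have hx1 : g'.base x' ∈ f ⁻¹ᵁ (V : Y.Opens) := by
          have hw := congrArg (fun φ => φ.base x') hc.w
          simp only [Scheme.Hom.comp_base, TopCat.comp_app] at hw
          show f.base (g'.base x') ∈ (V : Y.Opens)
          rw [hw]
          exact hV'V hx'
        obtain ⟨U, hU, hxU, hUV⟩ := Opens.isBasis_iff_nbhd.1 X.isBasis_affineOpens hx1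
        simp only [Opens.mem_iSup]
        exact ⟨⟨_, isAffineOpen_inf_preimage hc hV'V hUV V.2 V'.2 hU⟩, ⟨⟨U, hU⟩, hUV, rfl⟩,
          ⟨hxU, hx'⟩⟩
    · rintro ⟨W, hW⟩ ⟨U, hUV, hWe⟩ h'
      change W = _ at hWe
      subst hWe
      obtain ⟨k, φ, hφ⟩ := exists_isChart f U.2 V.2 hUV
      have c := chartPC_of_isPseudoCoherentRel f _ n hf U.2 V.2 hUV φ hφ
      have hpcj : PCj φ n := (chartPC_unit_iff_pcj U.2 φ hφ.1 n).1 c
      have e1 : g' ⁻¹ᵁ (U : X.Opens) ⊓ f' ⁻¹ᵁ (V' : Y'.Opens) ≤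
          g' ⁻¹ᵁ (U : X.Opens) := inf_le_left
      letI a1 : Algebra Γ(Y, (V : Y.Opens)) Γ(X, (U : X.Opens)) :=
        (f.appLE (V : Y.Opens) (U : X.Opens) hUV).hom.toAlgebra
      letI a2 : Algebra Γ(Y, (V : Y.Opens)) Γ(Y', (V' : Y'.Opens)) :=
        (h.appLE (V : Y.Opens) (V' : Y'.Opens) hV'V).hom.toAlgebra
      letI a3 : Algebra Γ(X, (U : X.Opens)) Γ(X', g' ⁻¹ᵁ (U : X.Opens) ⊓
          f' ⁻¹ᵁ (V' : Y'.Opens)) :=
        (g'.appLE (U : X.Opens) _ e1).hom.toAlgebra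
      letI a4 : Algebra Γ(Y', (V' : Y'.Opens)) Γ(X',
          g' ⁻¹ᵁ (U : X.Opens) ⊓ f' ⁻¹ᵁ (V' : Y'.Opens)) :=
        (f'.appLE (V' : Y'.Opens) _ h').hom.toAlgebra
      letI a5 : Algebra Γ(Y, (V : Y.Opens)) Γ(X',
          g' ⁻¹ᵁ (U : X.Opens) ⊓ f' ⁻¹ᵁ (V' : Y'.Opens)) :=
        ((g'.appLE (U : X.Opens) _ e1).hom.comp
          (f.appLE (V : Y.Opens) (U : X.Opens) hUV).hom).toAlgebra
      haveI t1 : IsScalarTower Γ(Y, (V : Y.Opens)) Γ(X, (U : X.Opens)) Γ(X',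
          g' ⁻¹ᵁ (U : X.Opens) ⊓ f' ⁻¹ᵁ (V' : Y'.Opens)) :=
        IsScalarTower.of_algebraMap_eq (fun _ => rfl)
      haveI t2 : IsScalarTower Γ(Y, (V : Y.Opens)) Γ(Y', (V' : Y'.Opens)) Γ(X',
          g' ⁻¹ᵁ (U : X.Opens) ⊓ f' ⁻¹ᵁ (V' : Y'.Opens)) := by
        refine IsScalarTower.of_algebraMap_eq (fun r => ?_)
        change (g'.appLE (U : X.Opens) _ e1).hom
            ((f.appLE (V : Y.Opens) (U : X.Opens) hUV).hom r) =
          (f'.appLE (V' : Y'.Opens) _ h').hom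
            ((h.appLE (V : Y.Opens) (V' : Y'.Opens) hV'V).hom r)
        rw [← CommRingCat.comp_apply, ← CommRingCat.comp_apply,
          Scheme.Hom.appLE_comp_appLE, Scheme.Hom.appLE_comp_appLE]
        congr 3
        exact hc.w
      haveI hpo := algebra_isPushout hc hV'V hUV V.2 V'.2 U.2 e1 h'
      haveI hfl : Module.Flat Γ(Y, (V : Y.Opens)) Γ(Y', (V' : Y'.Opens)) :=
        HasRingHomProperty.appLE @Flat h inferInstance V V' hV'V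
      obtain ⟨φ', hs, hC, hpc'⟩ := pcj_baseChange (R' := Γ(Y', (V' : Y'.Opens)))
        (B' := Γ(X', g' ⁻¹ᵁ (U : X.Opens) ⊓
          f' ⁻¹ᵁ (V' : Y'.Opens))) φ hφ.1 hφ.2 n hpcj
      exact ⟨k, φ', ⟨hs, hC⟩, (chartPC_unit_iff_pcj hW φ' hs n).2 hpc'⟩

end GeomFlat

section External

/-- S6260: a fibre product of `n`-pseudo-coherent morphisms is `n`-pseudo-coherent (flat second
factor) -/
theorem isNPseudoCoherent_external {S X₁ Y₁ X₂ Y₂ X Y : Scheme.{u}} (f₁ : X₁ ⟶ Y₁) (q₁ : Y₁ ⟶ S)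
    (f₂ : X₂ ⟶ Y₂) (q₂ : Y₂ ⟶ S) [Flat q₂] [Flat (f₂ ≫ q₂)]
    (pX₁ : X ⟶ X₁) (pX₂ : X ⟶ X₂) (hX : IsPullback pX₁ pX₂ (f₁ ≫ q₁) (f₂ ≫ q₂))
    (pY₁ : Y ⟶ Y₁) (pY₂ : Y ⟶ Y₂) (hY : IsPullback pY₁ pY₂ q₁ q₂)
    (f : X ⟶ Y) (hf₁ : f ≫ pY₁ = pX₁ ≫ f₁) (hf₂ : f ≫ pY₂ = pX₂ ≫ f₂)
    [LocallyOfFiniteType f₁] [LocallyOfFiniteType f₂] (n : ℤ)
    (h₁ : DerSch.IsNPseudoCoherent f₁ n) (h₂ : DerSch.IsNPseudoCoherent f₂ n) :
    DerSch.IsNPseudoCoherent f n := by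
  have hZ' : IsPullback (pullback.fst (f₁ ≫ q₁) q₂) (pullback.snd (f₁ ≫ q₁) q₂) (f₁ ≫ q₁) q₂ :=
    IsPullback.of_hasPullback _ _
  generalize pullback.fst (f₁ ≫ q₁) q₂ = r₁ at hZ'
  generalize pullback.snd (f₁ ≫ q₁) q₂ = r₂ at hZ'
  generalize pullback (f₁ ≫ q₁) q₂ = Z' at r₁ r₂ hZ'
  have hu : ∃ u' : X ⟶ Z', u' ≫ r₁ = pX₁ ∧ u' ≫ r₂ = pX₂ ≫ f₂ :=
    ⟨hZ'.lift pX₁ (pX₂ ≫ f₂) (by simpa using hX.w), hZ'.lift_fst _ _ _, hZ'.lift_snd _ _ _⟩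
  obtain ⟨u', hu1, hu2⟩ := hu
  have hsq1 : IsPullback u' pX₂ r₂ f₂ := by
    refine IsPullback.of_right ?_ hu2 hZ'
    rw [hu1]; exact hX
  have hv : ∃ v' : Z' ⟶ Y, v' ≫ pY₁ = r₁ ≫ f₁ ∧ v' ≫ pY₂ = r₂ :=
    ⟨hY.lift (r₁ ≫ f₁) r₂ (by simpa using hZ'.w), hY.lift_fst _ _ _, hY.lift_snd _ _ _⟩
  obtain ⟨v', hv1, hv2⟩ := hv
  have hsq2 : IsPullback r₁ v' f₁ pY₁ := by
    refine IsPullback.of_bot ?_ hv1.symm hY
    rw [hv2]; exact hZ'
  have hfuv : u' ≫ v' = f := by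
    apply hY.hom_ext
    · rw [Category.assoc, hv1, ← Category.assoc, hu1, hf₁]
    · rw [Category.assoc, hv2, hu2, hf₂]
  haveI : Flat pY₁ := MorphismProperty.of_isPullback (P := @Flat) hY.flip ‹Flat q₂›
  have hu' : DerSch.IsNPseudoCoherent u' n :=
    isNPseudoCoherent_of_isPullback_ti hZ' hsq1.flip n h₂
  have hv' : DerSch.IsNPseudoCoherent v' n := isNPseudoCoherent_of_isPullback_flat hsq2 n h₁
  haveI := hu'.1
  haveI := hv'.1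
  have key := isNPseudoCoherent_comp u' v' n n hu' hv'
  rw [hfuv, max_self] at key
  exact key

end External

end Groth.Agent.Lib.Helper1.ChartInd
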