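import Mathlib
import Groth.Agent.Lib.Helper1TIBCJ
import Groth.Agent.Lib.Helper10TrivBCA
set_option backward.isDefEq.respectTransparency.types false

/-!
# Relative pseudo-coherence and Tor-independent derived base change, ring level (helper1)
-/

set_option autoImplicit false
set_option linter.style.haveILetI false
set_option linter.unusedSectionVars false
set_option maxHeartbeats 800000
universe u
open CategoryTheory CategoryTheory.Limits MonoidalCategory HomologicalComplex TensorProduct
attribute [local instance] HasDerivedCategory.standard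

namespace Groth.Agent.Lib.Helper1.TIBC

open DerivedCategory Groth.Agent.Lib.Helper1.KF Groth.Agent.Lib.Helper1.Tor
  Groth.Agent.Lib.Helper1.DT Groth.Agent.Lib.Helper1.TensPerf Groth.Agent.Lib.Helper1.KBC
  Groth.Agent.Lib.Helper1.Restrict Groth.Agent.Lib.Helper1.LDer Groth.Agent.Lib.Helper1.TorO
  Groth.Agent.Lib.Helper1.RelPC Groth.Agent.Lib.Helper1.TorT Groth.Agent.Lib.Helper1.TQ
  Groth.Agent.Lib.Helper1.Extend Groth.Agent.Lib.Helper1.RelDescent Groth.Agent.Lib.Helper1.LocalCx
  Groth.Agent.Lib.Helper1.TorBC Groth.Agent.Lib.Helper1.PC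

section PCBC

variable {B B' : Type u} [CommRing B] [CommRing B'] (ψ : B →+* B')

/-- (non-flat) termwise base change of a K-flat `m`-pseudo-coherent complex is
`m`-pseudo-coherent -/
theorem isPC_bcCx_of_kflat (G : Cx B) (hG : KFlat G) (m : ℤ)
    (h : DRing.IsPseudoCoherent B m (DRing.toD G)) :
    DRing.IsPseudoCoherent B' m (DRing.toD ((bcCx ψ).obj G)) := by
  letI : Algebra B B' := ψ.toAlgebra
  obtain ⟨E, a, b, α, hEv, hEff, hiso, hepi⟩ := h
  have hEp : ∀ i : ℤ, Module.Projective B (E.X i) := fun i => by
    have := (hEff i).1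
    have := (hEff i).2
    infer_instance
  haveI : E.IsKProjective :=
    isKProjective_of_vanishesAbove E b (fun i hi => hEv i (Or.inr hi)) hEp
  obtain ⟨g, hg⟩ := Q_map_surjective E G α
  have hconn : Conn m (Q.map g) := by rw [hg]; exact ⟨hiso, hepi⟩
  set C := CochainComplex.mappingCone g with hC
  have hT := DerivedCategory.mappingCone_triangle_distinguished g
  have hCle : (Q.obj C).IsLE (m - 1) := (conn_iff_of_distTriang _ hT m).1 hconn
  have hCex : ∀ i : ℤ, m - 1 < i → C.ExactAt i := by
    rw [DerivedCategory.isLE_Q_obj_iff, CochainComplex.isLE_iff] at hCle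
    exact hCle
  have hEK : KFlat E := kflat_of_isKProjective E
  have hCK : KFlat C := KFlat.cone g hEK hG
  have hC'ex : ∀ i : ℤ, m - 1 < i → ((bcCx ψ).obj C).ExactAt i :=
    fun i hi => exactAt_bcCx_of_kflat_of_exactAbove ψ C hCK (m - 1) hCex i hi
  set g' := (bcCx ψ).map g with hg'
  have hT' := DerivedCategory.mappingCone_triangle_distinguished g'
  have hC'le : (Q.obj (CochainComplex.mappingCone g')).IsLE (m - 1) := by
    rw [DerivedCategory.isLE_Q_obj_iff, CochainComplex.isLE_iff]
    intro i hi
    exact (exactAt_of_iso (CochainComplex.mappingCone.mapHomologicalComplexIso g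
      (ModuleCat.extendScalars.{u, u, u} ψ)) i).1 (hC'ex i hi)
  have hconn' : Conn m (Q.map g') := (conn_iff_of_distTriang _ hT' m).2 hC'le
  refine ⟨(bcCx ψ).obj E, a, b, Q.map g', fun i hi => ?_, fun i => ?_,
    hconn'.1, hconn'.2⟩
  · exact (ModuleCat.extendScalars.{u, u, u} ψ).map_isZero (hEv i hi)
  · exact FF_ext (A := B) (B := B') _ (hEff i)

end PCBC

section TIqi

variable {P B B' : Type u} (P' : Type u) [CommRing P] [CommRing P'] [CommRing B] [CommRing B']
  [Algebra P P'] [Algebra P B] [Algebra P' B'] [Algebra B B'] [Algebra P B']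
  [IsScalarTower P P' B'] [IsScalarTower P B B'] [Algebra.IsPushout P P' B B']

include P'

/-- in a pushout square `B' = P' ⊗_P B`: a quasi-isomorphism over `B` whose restriction to `P`
stays a quasi-isomorphism after base change to `P'` stays a quasi-isomorphism after base change
to `B'` -/
lemma quasiIso_bcCx_map_of_restrict {L L' : Cx B} (p : L ⟶ L')
    (h : QuasiIso ((bcCx (algebraMap P P')).map ((DRing.restrictCx (algebraMap P B)).map p))) :
    QuasiIso ((bcCx (algebraMap B B')).map p) := by
  apply quasiIso_of_acyc_cone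
  refine Acyc.of_iso (CochainComplex.mappingCone.mapHomologicalComplexIso p
    (ModuleCat.extendScalars.{u, u, u} (algebraMap B B'))) ?_
  set C := CochainComplex.mappingCone p with hC
  have s1 : Acyc (CochainComplex.mappingCone
      ((bcCx (algebraMap P P')).map ((DRing.restrictCx (algebraMap P B)).map p))) :=
    acyc_cone_of_quasiIso _
  have s2 : Acyc ((bcCx (algebraMap P P')).obj (CochainComplex.mappingCone
      ((DRing.restrictCx (algebraMap P B)).map p))) :=
    Acyc.of_iso (CochainComplex.mappingCone.mapHomologicalComplexIso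
      ((DRing.restrictCx (algebraMap P B)).map p)
      (ModuleCat.extendScalars.{u, u, u} (algebraMap P P'))).symm s1
  have s3 : Acyc ((bcCx (algebraMap P P')).obj ((DRing.restrictCx (algebraMap P B)).obj C)) :=
    Acyc.of_iso ((bcCx (algebraMap P P')).mapIso
      (CochainComplex.mappingCone.mapHomologicalComplexIso p
        (ModuleCat.restrictScalars.{u} (algebraMap P B))).symm) s2
  have s4 : Acyc ((DRing.restrictCx (algebraMap P' B')).obj ((bcCx (algebraMap B B')).obj C)) :=
    Acyc.of_iso (bcCxIso' (P := P) (P' := P') (B := B) (B' := B') C) s3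
  rw [acyc_iff_exactAt] at s4 ⊢
  exact fun i => (exactAt_restrict_iff _ _ i).1 (s4 i)

end TIqi

section RelPC

open Groth.Agent.Lib.Helper1.ChartInd

attribute [local instance] MvPolynomial.algebraMvPolynomial in
/-- Tor-independent derived base change of relative pseudo-coherence (chart form): `A' = R' ⊗_R A`
with `Tor_p^R(A, R') = 0` for `p > 0`, `φ : R[x] → A` a presentation along which `K ∈ D(A)` is
`m`-pseudo-coherent. Then `K ⊗^L_A A'` is `m`-pseudo-coherent along the induced presentation
`R'[x] → A'`. -/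
theorem relPC_lbc_of_tor {R R' A A' : Type u} [CommRing R] [CommRing R'] [CommRing A]
    [CommRing A'] [Algebra R R'] [Algebra R A] [Algebra A A'] [Algebra R' A'] [Algebra R A']
    [IsScalarTower R A A'] [IsScalarTower R R' A'] [hpo : Algebra.IsPushout R R' A A']
    (htor : ∀ p : ℕ, 1 ≤ p → Subsingleton (DRing.Tor R p A R'))
    [DRing.HasLBaseChange (algebraMap A A')]
    {k : ℕ} (φ : MvPolynomial (Fin k) R →+* A) (hφs : Function.Surjective φ)
    (hφC : φ.comp MvPolynomial.C = algebraMap R A) (K : Dual.D A) (m : ℤ)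
    (h : DRing.IsPseudoCoherent (MvPolynomial (Fin k) R) m ((DRing.restrictD φ).obj K)) :
    ∃ φ' : MvPolynomial (Fin k) R' →+* A', Function.Surjective φ' ∧
      φ'.comp MvPolynomial.C = algebraMap R' A' ∧
      DRing.IsPseudoCoherent (MvPolynomial (Fin k) R') m
        ((DRing.restrictD φ').obj ((DRing.LBaseChange (algebraMap A A')).obj K)) := by
  classical
  let P := MvPolynomial (Fin k) R
  let P' := MvPolynomial (Fin k) R'
  let φ' : P' →+* A' := MvPolynomial.eval₂Hom (algebraMap R' A')
    (fun i => algebraMap A A' (φ (MvPolynomial.X i)))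
  have hφ'C : φ'.comp MvPolynomial.C = algebraMap R' A' := by
    ext r
    exact MvPolynomial.eval₂Hom_C _ _ r
  have hsq : φ'.comp (MvPolynomial.map (algebraMap R R')) = (algebraMap A A').comp φ := by
    apply MvPolynomial.ringHom_ext
    · intro r
      have h1 : φ (MvPolynomial.C r) = algebraMap R A r := congrArg (fun g => g r) hφC
      rw [RingHom.comp_apply, RingHom.comp_apply, MvPolynomial.map_C, h1]
      refine (MvPolynomial.eval₂Hom_C _ _ _).trans ?_
      rw [← IsScalarTower.algebraMap_apply R R' A', ← IsScalarTower.algebraMap_apply R A A']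
    · intro i
      rw [RingHom.comp_apply, RingHom.comp_apply, MvPolynomial.map_X]
      exact MvPolynomial.eval₂Hom_X' _ _ i
  letI aPB : Algebra P A := φ.toAlgebra
  letI aP'B' : Algebra P' A' := φ'.toAlgebra
  letI aPB' : Algebra P A' := ((algebraMap A A').comp φ).toAlgebra
  haveI t1 : IsScalarTower R P A := IsScalarTower.of_algebraMap_eq
    (fun r => (congrArg (fun g => g r) hφC).symm)
  haveI t2 : IsScalarTower P A A' := IsScalarTower.of_algebraMap_eq (fun _ => rfl)
  haveI t3 : IsScalarTower P P' A' := IsScalarTower.of_algebraMap_eq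
    (fun p => (congrArg (fun g => g p) hsq).symm)
  haveI t4 : IsScalarTower R' P' A' := IsScalarTower.of_algebraMap_eq
    (fun r => (congrArg (fun g => g r) hφ'C).symm)
  haveI t5 : IsScalarTower R P A' := IsScalarTower.of_algebraMap_eq (fun r => by
    change algebraMap R A' r = algebraMap A A' (φ (MvPolynomial.C r))
    have h1 : φ (MvPolynomial.C r) = algebraMap R A r := congrArg (fun g => g r) hφC
    rw [h1, ← IsScalarTower.algebraMap_apply R A A'])
  haveI t6 : IsScalarTower R P' A' := IsScalarTower.of_algebraMap_eq (fun r => by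
    change algebraMap R A' r = φ' (MvPolynomial.C (algebraMap R R' r))
    have h1 : φ' (MvPolynomial.C (algebraMap R R' r)) = algebraMap R' A' (algebraMap R R' r) :=
      congrArg (fun g => g (algebraMap R R' r)) hφ'C
    rw [h1, ← IsScalarTower.algebraMap_apply R R' A'])
  have hpo2 : Algebra.IsPushout P A P' A' :=
    (Algebra.IsPushout.comp_iff (R := R) (S := P) (T := A) (R' := R') (S' := P') (T' := A')).1
      hpo.symm
  haveI hpo3 : Algebra.IsPushout P P' A A' := hpo2.symm
  have hs : Function.Surjective φ' := by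
    intro x
    refine hpo.out.inductionOn x _ ⟨0, map_zero _⟩ (fun b => ?_) (fun s y hy => ?_)
      (fun y₁ y₂ h₁ h₂ => ?_)
    · obtain ⟨p, rfl⟩ := hφs b
      exact ⟨MvPolynomial.map (algebraMap R R') p, congrArg (fun g => g p) hsq⟩
    · obtain ⟨q, rfl⟩ := hy
      refine ⟨MvPolynomial.C s * q, ?_⟩
      rw [map_mul, Algebra.smul_def]
      congr 1
      exact congrArg (fun g => g s) hφ'C
    · obtain ⟨q₁, rfl⟩ := h₁
      obtain ⟨q₂, rfl⟩ := h₂
      exact ⟨q₁ + q₂, map_add _ _ _⟩
  refine ⟨φ', hs, hφ'C, ?_⟩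
  -- a K-projective representative of `K`
  obtain ⟨K₀, ⟨eK₀⟩⟩ : ∃ K₀ : Cx A, Nonempty (Q.obj K₀ ≅ K) := ⟨_, ⟨Q.objObjPreimageIso K⟩⟩
  obtain ⟨F, pF, hF, -, hpF, -⟩ := exists_kprojective_resolution K₀
  have hpFi : IsIso (Q.map pF) := (DerivedCategory.isIso_Q_map_iff_quasiIso (φ := pF)).2 hpF
  have eF : Q.obj F ≅ K := asIso (Q.map pF) ≪≫ eK₀
  have hFK : KFlat F := kflat_of_isKProjective F
  -- its restriction to `P`, and a K-projective resolution
  have hL : DRing.IsPseudoCoherent P m (Q.obj ((DRing.restrictCx φ).obj F)) :=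
    isPC_of_iso ((DRing.restrictD φ).mapIso eF.symm ≪≫ restrictQIso φ F) h
  obtain ⟨G, q, hG, -, hq, -⟩ := exists_kprojective_resolution ((DRing.restrictCx φ).obj F)
  have hqi : IsIso (Q.map q) := (DerivedCategory.isIso_Q_map_iff_quasiIso (φ := q)).2 hq
  have hGK : KFlat G := kflat_of_isKProjective G
  have hGpc : DRing.IsPseudoCoherent P m (Q.obj G) := isPC_of_iso (asIso (Q.map q)).symm hL
  have h1 : DRing.IsPseudoCoherent P' m (Q.obj ((bcCx (algebraMap P P')).obj G)) :=
    isPC_bcCx_of_kflat (algebraMap P P') G hGK m hGpc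
  -- Tor independence: `bcCx q` is a quasi-isomorphism
  have hflat : (algebraMap R P).Flat :=
    (RingHom.flat_algebraMap_iff (R := R) (S := P)).2 inferInstance
  have hGR : KFlat ((DRing.restrictCx (algebraMap R P)).obj G) :=
    kflat_restrictCx_of_flat _ hflat G hGK
  have hcomp : φ.comp (algebraMap R P) = algebraMap R A := by
    rw [MvPolynomial.algebraMap_eq]; exact hφC
  let ic : (DRing.restrictCx (algebraMap R P)).obj ((DRing.restrictCx φ).obj F) ≅
      (DTen.resCx (algebraMap R A)).obj F :=
    restrictCxCompIso (algebraMap R P) φ F ≪≫ restrictCxEqIso hcomp F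
  haveI hq0 : QuasiIso q := hq
  haveI hq' : QuasiIso ((DRing.restrictCx (algebraMap R P)).map q) :=
    inferInstanceAs (QuasiIso (((ModuleCat.restrictScalars.{u} (algebraMap R P)).mapHomologicalComplex
      (ComplexShape.up ℤ)).map q))
  haveI hπ' : QuasiIso ((DRing.restrictCx (algebraMap R P)).map q ≫ ic.hom) := inferInstance
  have hqe := Groth.Agent.Lib.Helper10.TrivBCA.quasiIso_extCx_map_of_tor htor F hFK
    ((DRing.restrictCx (algebraMap R P)).obj G) hGR
    ((DRing.restrictCx (algebraMap R P)).map q ≫ ic.hom)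
  have hqe' : QuasiIso ((bcCx (algebraMap R R')).map
      ((DRing.restrictCx (algebraMap R P)).map q)) := by
    have hc : (DTen.extCx (algebraMap R R')).map
        ((DRing.restrictCx (algebraMap R P)).map q ≫ ic.hom) =
        (bcCx (algebraMap R R')).map ((DRing.restrictCx (algebraMap R P)).map q) ≫
          (bcCx (algebraMap R R')).map ic.hom := Functor.map_comp _ _ _
    rw [hc] at hqe
    haveI : IsIso ((bcCx (algebraMap R R')).map ic.hom) := inferInstance
    exact quasiIso_of_comp_right _ ((bcCx (algebraMap R R')).map ic.hom)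
  haveI hqb : QuasiIso ((bcCx (algebraMap P P')).map q) :=
    quasiIso_bcCx_map_of_restrict (P := R) R' (B := P) (B' := P') q hqe'
  have hqbi : IsIso (Q.map ((bcCx (algebraMap P P')).map q)) :=
    (DerivedCategory.isIso_Q_map_iff_quasiIso (φ := (bcCx (algebraMap P P')).map q)).2 hqb
  -- identifications
  have e2 : (bcCx (algebraMap P P')).obj ((DRing.restrictCx φ).obj F) ≅
      (DRing.restrictCx φ').obj ((bcCx (algebraMap A A')).obj F) :=
    bcCxIso' (P := P) (P' := P') (B := A) (B' := A') F
  have e3 : (DRing.LBaseChange (algebraMap A A')).obj (Q.obj F) ≅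
      Q.obj ((bcCx (algebraMap A A')).obj F) := lbcIso (algebraMap A A') F
  refine isPC_of_iso ?_ h1
  exact asIso (Q.map ((bcCx (algebraMap P P')).map q)) ≪≫ Q.mapIso e2 ≪≫
    (restrictQIso φ' _).symm ≪≫
    (DRing.restrictD φ').mapIso (e3.symm ≪≫ (DRing.LBaseChange (algebraMap A A')).mapIso eF)

attribute [local instance] Algebra.TensorProduct.rightAlgebra in
/-- S6998: relative pseudo-coherence is preserved by Tor-independent derived base change -/
theorem isRelPseudoCoherent_lbc_of_tor {R A R' : Type u} [CommRing R] [CommRing A]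
    [CommRing R'] [Algebra R A] [Algebra R R']
    (htor : ∀ p : ℕ, 0 < p → Subsingleton (DRing.Tor R p A R'))
    [hL : DRing.HasLBaseChange
      (Algebra.TensorProduct.includeRight : A →ₐ[R] TensorProduct R R' A).toRingHom]
    (K : Dual.D A) (m : ℤ) (h : DerCA.IsRelPseudoCoherent R A m K) :
    DerCA.IsRelPseudoCoherent R' (TensorProduct R R' A) m
      ((DRing.LBaseChange
        (Algebra.TensorProduct.includeRight : A →ₐ[R] TensorProduct R R' A).toRingHom).obj K) := by
  obtain ⟨n, α, hα, hK⟩ := h
  haveI : DRing.HasLBaseChange (algebraMap A (TensorProduct R R' A)) := hL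
  have hφC : (α : MvPolynomial (Fin n) R →+* A).comp MvPolynomial.C = algebraMap R A := by
    ext r
    have := α.commutes r
    rwa [MvPolynomial.algebraMap_eq] at this
  obtain ⟨φ', hs, hC, hpc⟩ := relPC_lbc_of_tor (R := R) (R' := R') (A := A)
    (A' := TensorProduct R R' A) (fun p hp => htor p hp)
    (α : MvPolynomial (Fin n) R →+* A) hα hφC K m hK
  let α' : MvPolynomial (Fin n) R' →ₐ[R'] TensorProduct R R' A :=
    { φ' with
      commutes' := fun r => by
        have := congrArg (fun g => g r) hC
        simpa [MvPolynomial.algebraMap_eq] using this }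
  exact ⟨n, α', hs, hpc⟩

end RelPC

end Groth.Agent.Lib.Helper1.TIBC
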