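import Mathlib
import Groth.Agent.Lib.Helper1TIBCK
import Groth.Agent.S6935
import Groth.Agent.Lib.Helper5HasLDer
import Groth.Agent.Lib.Helper13TorMore
set_option backward.isDefEq.respectTransparency.types false

/-!
# Tensoring a pseudo-coherent complex with a pseudo-coherent module (helper1)
-/

set_option autoImplicit false
set_option linter.style.haveILetI false
set_option linter.unusedSectionVars false
set_option maxHeartbeats 400000
universe u
open CategoryTheory CategoryTheory.Limits MonoidalCategory HomologicalComplex TensorProduct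
attribute [local instance] HasDerivedCategory.standard

namespace Groth.Agent.Lib.Helper1.PCTens

open DerivedCategory Groth.Agent.Lib.Helper1.KF Groth.Agent.Lib.Helper1.Tor
  Groth.Agent.Lib.Helper1.Restrict Groth.Agent.Lib.Helper1.LDer
  Groth.Agent.Lib.Helper1.RelPC Groth.Agent.Lib.Helper1.Extend
  Groth.Agent.Lib.Helper1.PC Groth.Agent.Lib.Helper1.PCTower Groth.Agent.S14388 Groth.Agent.S7017

section Functor

variable {A : Type u} [CommRing A]

/-- functoriality of `M ⊗ G` in the module `M` -/
noncomputable def tcMap {M M' : ModuleCat.{u} A} (f : M ⟶ M') (G : DRing.Cx A) :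
    (TC M).obj G ⟶ (TC M').obj G :=
  (NatTrans.mapHomologicalComplex ((curriedTensor (ModuleCat.{u} A)).map f)
    (ComplexShape.up ℤ)).app G

lemma tcMap_f {M M' : ModuleCat.{u} A} (f : M ⟶ M') (G : DRing.Cx A) (i : ℤ) :
    (tcMap f G).f i = f ▷ G.X i := rfl

lemma tcMap_comp_zero (S : ShortComplex (ModuleCat.{u} A)) (G : DRing.Cx A) :
    tcMap S.f G ≫ tcMap S.g G = 0 := by
  ext i : 1
  change S.f ▷ G.X i ≫ S.g ▷ G.X i = 0
  rw [← comp_whiskerRight, S.zero]
  exact MonoidalPreadditive.zero_whiskerRight

lemma shortExact_tc (S : ShortComplex (ModuleCat.{u} A)) (hS : S.ShortExact) (G : DRing.Cx A)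
    (hG : DRing.TermwiseFlat G) :
    (ShortComplex.mk (tcMap S.f G) (tcMap S.g G) (tcMap_comp_zero S G)).ShortExact := by
  rw [HomologicalComplex.shortExact_iff_degreewise_shortExact]
  intro i
  have := hG i
  exact hS.map_of_exact (tensorRight (G.X i))

lemma isZero_tc_X (M : ModuleCat.{u} A) (G : DRing.Cx A) (i : ℤ) (h : IsZero (G.X i)) :
    IsZero (((TC M).obj G).X i) := (tensorLeft M).map_isZero h

/-- `𝟙 ⊗ G ≅ G` -/
noncomputable def tcUnitIso (G : DRing.Cx A) : (TC (𝟙_ (ModuleCat.{u} A))).obj G ≅ G :=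
  HomologicalComplex.Hom.isoOfComponents (fun i => λ_ (G.X i))
    (fun i j _ => (leftUnitor_naturality (G.d i j)).symm)

lemma isZero_tc_of_isZero (M : ModuleCat.{u} A) (hM : IsZero M) (G : DRing.Cx A) :
    IsZero ((TC M).obj G) := by
  rw [IsZero.iff_id_eq_zero]
  ext i : 1
  exact ((tensorRight (G.X i)).map_isZero hM).eq_of_src _ _

end Functor

section Step

variable {A P : Type u} [CommRing A] [CommRing P] (π : P →+* A)

lemma step (G : DRing.Cx A) (hG : DRing.TermwiseFlat G) (S : ShortComplex (ModuleCat.{u} A))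
    (hS : S.ShortExact) (j : ℤ)
    (h1 : DRing.IsPseudoCoherent P (j + 1)
      ((DRing.restrictD π).obj (Q.obj ((TC S.X₁).obj G))))
    (h2 : DRing.IsPseudoCoherent P j ((DRing.restrictD π).obj (Q.obj ((TC S.X₂).obj G)))) :
    DRing.IsPseudoCoherent P j ((DRing.restrictD π).obj (Q.obj ((TC S.X₃).obj G))) := by
  have hT := triangleOfSES_distinguished (shortExact_tc S hS G hG)
  have hT' := (DRing.restrictD π).map_distinguished _ hT
  exact isPC_obj₃ _ hT' j h1 h2

/-- the free module of rank `r` -/
noncomputable abbrev Fr (A : Type u) [CommRing A] (r : ℕ) : ModuleCat.{u} A :=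
  ModuleCat.of A (Fin r → A)

/-- `0 → A^r → A^{r+1} → A → 0` -/
noncomputable def frSC (A : Type u) [CommRing A] (r : ℕ) : ShortComplex (ModuleCat.{u} A) :=
  ShortComplex.mk (X₁ := Fr A r) (X₂ := Fr A (r + 1)) (X₃ := 𝟙_ (ModuleCat.{u} A))
    (ModuleCat.ofHom
      { toFun := fun x => Fin.cons 0 x
        map_add' := fun x y => by
          funext i
          refine Fin.cases ?_ (fun i => ?_) i <;> simp
        map_smul' := fun a x => by
          funext i
          refine Fin.cases ?_ (fun i => ?_) i <;> simp })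
    (ModuleCat.ofHom (LinearMap.proj (0 : Fin (r + 1))))
    (by
      ext x
      simp)

lemma frSC_shortExact (A : Type u) [CommRing A] (r : ℕ) : (frSC A r).ShortExact := by
  refine ShortComplex.ShortExact.mk' ?_ ?_ ?_
  · rw [ShortComplex.moduleCat_exact_iff]
    intro (y : Fin (r + 1) → A) hy
    have hy' : y 0 = 0 := hy
    refine ⟨Fin.tail y, ?_⟩
    show Fin.cons 0 (Fin.tail y) = y
    rw [← hy']
    exact Fin.cons_self_tail y
  · rw [ModuleCat.mono_iff_injective]
    intro (a : Fin r → A) (b : Fin r → A) hab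
    have hab' : (Fin.cons 0 a : Fin (r + 1) → A) = Fin.cons 0 b := hab
    exact (Fin.cons_injective2 hab').2
  · rw [ModuleCat.epi_iff_surjective]
    intro (y : A)
    exact ⟨fun _ => y, rfl⟩

lemma isPC_tc_free (G : DRing.Cx A) (hG : DRing.TermwiseFlat G) (m : ℤ)
    (h : DRing.IsPseudoCoherent P m ((DRing.restrictD π).obj (Q.obj G))) : ∀ r : ℕ,
    DRing.IsPseudoCoherent P m ((DRing.restrictD π).obj (Q.obj ((TC (Fr A r)).obj G))) := by
  have h1 : DRing.IsPseudoCoherent P m
      ((DRing.restrictD π).obj (Q.obj ((TC (𝟙_ (ModuleCat.{u} A))).obj G))) :=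
    isPC_of_iso ((DRing.restrictD π).mapIso (Q.mapIso (tcUnitIso G).symm)) h
  intro r
  induction r with
  | zero =>
    apply isPC_of_isZero
    apply (DRing.restrictD π).map_isZero
    apply Q.map_isZero
    apply isZero_tc_of_isZero
    have : Subsingleton (Fr A 0) := inferInstanceAs (Subsingleton (Fin 0 → A))
    exact ModuleCat.isZero_of_subsingleton _
  | succ r ih =>
    have hT := triangleOfSES_distinguished (shortExact_tc _ (frSC_shortExact A r) G hG)
    have hT' := (DRing.restrictD π).map_distinguished _ hT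
    exact isPC_obj₂ _ hT' m ih h1

lemma finite_of_isPC_single (M : ModuleCat.{u} A) (k : ℕ)
    (h : DRing.IsPseudoCoherent A (-(k : ℤ))
      ((DerivedCategory.singleFunctor (ModuleCat.{u} A) 0).obj M)) : Module.Finite A M := by
  have h0 : DRing.IsPseudoCoherent A 0
      ((DerivedCategory.singleFunctor (ModuleCat.{u} A) 0).obj M) :=
    isPC_mono (by omega) h
  exact (Groth.Agent.S6935.result A M).1.1 h0

/-- main induction: tensoring a termwise flat, bounded above complex which is `m`-pseudo-coherent
over `P` with a `(-k)`-pseudo-coherent module gives a `max m (b - k)`-pseudo-coherent complex -/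
theorem isPC_tc_of_isPC (G : DRing.Cx A) (hG : DRing.TermwiseFlat G) (b : ℤ)
    (hb : DRing.VanishesAbove G b) (m : ℤ)
    (h : DRing.IsPseudoCoherent P m ((DRing.restrictD π).obj (Q.obj G))) :
    ∀ (k : ℕ) (M : ModuleCat.{u} A),
      DRing.IsPseudoCoherent A (-(k : ℤ))
        ((DerivedCategory.singleFunctor (ModuleCat.{u} A) 0).obj M) →
      ∀ j : ℤ, m ≤ j → b - k ≤ j →
        DRing.IsPseudoCoherent P j ((DRing.restrictD π).obj (Q.obj ((TC M).obj G))) := by
  intro k
  induction k with
  | zero =>
    intro M hM j hmj hbj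
    have hfin := finite_of_isPC_single M 0 hM
    obtain ⟨r, f, hf⟩ := Module.Finite.exists_fin' A M
    let S : ShortComplex (ModuleCat.{u} A) :=
      ShortComplex.mk (X₁ := ModuleCat.of A (LinearMap.ker f)) (X₂ := Fr A r) (X₃ := M)
        (ModuleCat.ofHom (LinearMap.ker f).subtype) (ModuleCat.ofHom f)
        (by ext x; exact x.2)
    have hS : S.ShortExact := by
      refine ShortComplex.ShortExact.mk' ?_ ?_ ?_
      · rw [ShortComplex.moduleCat_exact_iff]
        intro (y : Fin r → A) hy
        exact ⟨⟨y, hy⟩, rfl⟩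
      · rw [ModuleCat.mono_iff_injective]
        exact Subtype.val_injective
      · rw [ModuleCat.epi_iff_surjective]
        exact hf
    refine step π G hG S hS j ?_ (isPC_mono hmj (isPC_tc_free π G hG m h r))
    have hle : (Q.obj ((TC S.X₁).obj G)).IsLE j := by
      rw [DerivedCategory.isLE_Q_obj_iff]
      have : ((TC S.X₁).obj G).IsStrictlyLE j := by
        rw [CochainComplex.isStrictlyLE_iff]
        intro i hi
        exact isZero_tc_X _ G i (hb i (by simp at hbj; omega))
      infer_instance
    have hle' : ((DRing.restrictD π).obj (Q.obj ((TC S.X₁).obj G))).IsLE (j + 1 - 1) := by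
      rw [add_sub_cancel_right]
      exact (isLE_restrictD_iff π _ j).2 hle
    exact isPC_of_isLE (j + 1) _
  | succ k ih =>
    intro M hM j hmj hbj
    have hfin := finite_of_isPC_single M (k + 1) hM
    obtain ⟨r, f, hf⟩ := Module.Finite.exists_fin' A M
    let S : ShortComplex (ModuleCat.{u} A) :=
      ShortComplex.mk (X₁ := ModuleCat.of A (LinearMap.ker f)) (X₂ := Fr A r) (X₃ := M)
        (ModuleCat.ofHom (LinearMap.ker f).subtype) (ModuleCat.ofHom f)
        (by ext x; exact x.2)
    have hS : S.ShortExact := by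
      refine ShortComplex.ShortExact.mk' ?_ ?_ ?_
      · rw [ShortComplex.moduleCat_exact_iff]
        intro (y : Fin r → A) hy
        exact ⟨⟨y, hy⟩, rfl⟩
      · rw [ModuleCat.mono_iff_injective]
        exact Subtype.val_injective
      · rw [ModuleCat.epi_iff_surjective]
        exact hf
    refine step π G hG S hS j ?_ (isPC_mono hmj (isPC_tc_free π G hG m h r))
    have hT := hS.singleTriangle_distinguished
    have hFF : FF (Fr A r) := ⟨inferInstanceAs (Module.Finite A (Fin r → A)),
      inferInstanceAs (Module.Free A (Fin r → A))⟩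
    have h2 : DRing.IsPseudoCoherent A (-((k + 1 : ℕ) : ℤ) + 1)
        ((DerivedCategory.singleFunctor (ModuleCat.{u} A) 0).obj (Fr A r)) :=
      isPC_of_rep _ (rep_single _ hFF 0)
    have h1 := isPC_obj₁ _ hT (-((k + 1 : ℕ) : ℤ)) h2 hM
    have e : (-((k + 1 : ℕ) : ℤ) + 1) = -(k : ℤ) := by push_cast; ring
    rw [e] at h1
    exact ih S.X₁ h1 (j + 1) (by omega) (by push_cast at hbj; omega)

end Step

section ExtRes

variable {A B : Type u} [CommRing A] [CommRing B] (β : A →+* B)

/-- `B` as an `A`-module -/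
noncomputable abbrev resSelf : ModuleCat.{u} A :=
  (ModuleCat.restrictScalars.{u} β).obj (ModuleCat.of B B)

/-- `B ⊗_A X` with `A` acting through `β`, as an object of `ModuleCat A` -/
noncomputable abbrev resExt (X : ModuleCat.{u} A) : ModuleCat.{u} A :=
  (ModuleCat.restrictScalars.{u} β).obj ((ModuleCat.extendScalars.{u, u, u} β).obj X)

lemma resExt_smul (X : ModuleCat.{u} A) (a : A) (t : TensorProduct A (resSelf β) X) :
    (show TensorProduct A (resSelf β) X from
      (DistribSMul.toAddMonoidHom (resExt β X) a) t) =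
    (DistribSMul.toAddMonoidHom (TensorProduct A (resSelf β) X) a) t := by
  let φ₁ : TensorProduct A (resSelf β) X →+ TensorProduct A (resSelf β) X :=
    DistribSMul.toAddMonoidHom (resExt β X) a
  let φ₂ : TensorProduct A (resSelf β) X →+ TensorProduct A (resSelf β) X :=
    DistribSMul.toAddMonoidHom (TensorProduct A (resSelf β) X) a
  show φ₁ t = φ₂ t
  induction t using TensorProduct.induction_on with
  | zero => exact (map_zero φ₁).trans (map_zero φ₂).symm
  | tmul b x => rfl
  | add t t' h h' =>
    exact (map_add φ₁ t t').trans ((congrArg₂ (· + ·) h h').trans (map_add φ₂ t t').symm)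

noncomputable def resExtEquiv (X : ModuleCat.{u} A) :
    resExt β X ≃ₗ[A] (resSelf β ⊗ X : ModuleCat.{u} A) where
  toFun := fun t => t
  invFun := fun t => t
  map_add' := fun _ _ => rfl
  map_smul' := fun a t => resExt_smul β X a t
  left_inv := fun _ => rfl
  right_inv := fun _ => rfl

noncomputable def resExtIso (X : ModuleCat.{u} A) : resExt β X ≅ resSelf β ⊗ X :=
  (resExtEquiv β X).toModuleIso

noncomputable def resExtCxIso (G : DRing.Cx A) :
    (DRing.restrictCx β).obj ((bcCx β).obj G) ≅ (TC (resSelf β)).obj G :=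
  HomologicalComplex.Hom.isoOfComponents (fun i => resExtIso β (G.X i))
    (fun i j _ => by
      ext t
      let f₁ := ModuleCat.Hom.hom ((resExtIso β (G.X i)).hom ≫ ((TC (resSelf β)).obj G).d i j)
      let f₂ := ModuleCat.Hom.hom
        (((DRing.restrictCx β).obj ((bcCx β).obj G)).d i j ≫ (resExtIso β (G.X j)).hom)
      show f₁ t = f₂ t
      induction t using TensorProduct.induction_on with
      | zero => exact (map_zero f₁).trans (map_zero f₂).symm
      | tmul b x => rfl
      | add t t' h h' =>
        exact (map_add f₁ t t').trans ((congrArg₂ (· + ·) h h').trans (map_add f₂ t t').symm))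

end ExtRes

section Main

open Groth.Agent.Lib.Helper1.TIBC Groth.Agent.Lib.Helper1.LocalCx Groth.Agent.Lib.Helper1.ProjRes

attribute [local instance] MvPolynomial.algebraMvPolynomial in
/-- S6986 (degree `m`): relative pseudo-coherence is preserved by derived base change along a
pseudo-coherent ring map -/
theorem isRelPseudoCoherent_lbc {R A B : Type u} [CommRing R] [CommRing A] [CommRing B]
    [Algebra R A] [Algebra A B] [Algebra R B] [IsScalarTower R A B]
    (hB : DerCA.IsRelPseudoCoherentModuleAll A B B)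
    [DRing.HasLBaseChange (algebraMap A B)] (K : Dual.D A) (m : ℤ)
    (h : DerCA.IsRelPseudoCoherent R A m K) :
    DerCA.IsRelPseudoCoherent R B m ((DRing.LBaseChange (algebraMap A B)).obj K) := by
  classical
  obtain ⟨n, α, hα, hK⟩ := h
  obtain ⟨k, β, hβ, -⟩ := hB 0
  have hBall : ∀ j : ℤ, DerCA.IsRelPseudoCoherentVia β j (Dual.inD B B) :=
    fun j => (rel_iff_via β hβ _ j).1 (hB j)
  let Ry := MvPolynomial (Fin k) R
  let Ay := MvPolynomial (Fin k) A
  let β' : Ay →+* B := β
  haveI : DRing.HasLBaseChange (algebraMap A Ay) :=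
    Groth.Agent.Lib.Helper5.HasLDer.hasLBaseChange _
  have htor : ∀ p : ℕ, 1 ≤ p → Subsingleton (DRing.Tor R p A Ry) := fun p hp =>
    ModuleCat.subsingleton_of_isZero
      (Groth.Agent.Helper13Tor.isZero_tor_of_flat_right (ModuleCat.of R A) (ModuleCat.of R Ry) p hp)
  have hφC : (α : MvPolynomial (Fin n) R →+* A).comp MvPolynomial.C = algebraMap R A := by
    ext r
    have := α.commutes r
    rwa [MvPolynomial.algebraMap_eq] at this
  obtain ⟨φ', hs, hC, hpc⟩ := relPC_lbc_of_tor (R := R) (R' := Ry) (A := A) (A' := Ay) htor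
    (α : MvPolynomial (Fin n) R →+* A) hα hφC K m hK
  -- a bounded above projective representative of `K`
  obtain ⟨b, hb⟩ := exists_isLE_of_isPC m _ hK
  haveI hKle : K.IsLE b := (isLE_restrictD_iff _ K b).1 hb
  obtain ⟨F, hFle, hFp, ⟨eF⟩⟩ := exists_iso_Q_proj K b
  have hFb : DRing.VanishesAbove F b := by
    rw [CochainComplex.isStrictlyLE_iff] at hFle
    exact hFle
  have hFp' : ∀ i : ℤ, Module.Projective A (F.X i) := fun i =>
    (IsProjective.iff_projective (R := A) (P := F.X i)).2 (hFp i)
  haveI : F.IsKProjective := isKProjective_of_vanishesAbove F b hFb hFp'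
  have hFflat : DRing.TermwiseFlat F := fun i => by
    have := hFp' i
    infer_instance
  let G : DRing.Cx Ay := (bcCx (algebraMap A Ay)).obj F
  have hGflat : DRing.TermwiseFlat G := termwiseFlat_bc _ F hFflat
  have hGb : DRing.VanishesAbove G b := vanishesAbove_bc _ F b hFb
  have hGpc : DRing.IsPseudoCoherent (MvPolynomial (Fin n) Ry) m
      ((DRing.restrictD φ').obj (Q.obj G)) :=
    isPC_of_iso ((DRing.restrictD φ').mapIso
      ((DRing.LBaseChange (algebraMap A Ay)).mapIso eF.symm ≪≫ lbcIso (algebraMap A Ay) F)) hpc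
  -- `B` as a pseudo-coherent `A[y]`-module
  let M : ModuleCat.{u} Ay := resSelf β'
  have hM : ∀ j : ℤ, DRing.IsPseudoCoherent Ay j
      ((DerivedCategory.singleFunctor (ModuleCat.{u} Ay) 0).obj M) := fun j =>
    isPC_of_iso (restrictDSingleIso β' (ModuleCat.of B B) 0) (hBall j)
  have hmain : DRing.IsPseudoCoherent (MvPolynomial (Fin n) Ry) m
      ((DRing.restrictD φ').obj (Q.obj ((TC M).obj G))) :=
    isPC_tc_of_isPC φ' G hGflat b hGb m hGpc (b - m).toNat M (hM _) m le_rfl (by omega)
  -- identifications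
  have hcomp : β'.comp (algebraMap A Ay) = algebraMap A B := by
    ext a
    exact β.commutes a
  let e1 : (bcCx (algebraMap A B)).obj F ≅ (bcCx β').obj G :=
    bcCxEqIso hcomp.symm F ≪≫ bcCxCompIso (algebraMap A Ay) β' F
  let e2 : (DRing.restrictD β').obj ((DRing.LBaseChange (algebraMap A B)).obj K) ≅
      Q.obj ((TC M).obj G) :=
    (DRing.restrictD β').mapIso
      ((DRing.LBaseChange (algebraMap A B)).mapIso eF.symm ≪≫ lbcIso (algebraMap A B) F) ≪≫
    restrictQIso β' _ ≪≫ Q.mapIso ((DRing.restrictCx β').mapIso e1 ≪≫ resExtCxIso β' G)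
  let γ : MvPolynomial (Fin n) Ry →+* B := β'.comp φ'
  have hγ : ∀ r : R, γ (MvPolynomial.C (MvPolynomial.C r)) = algebraMap R B r := by
    intro r
    have h1 : φ' (MvPolynomial.C (MvPolynomial.C r)) = algebraMap Ry Ay (MvPolynomial.C r) :=
      congrArg (fun g => g (MvPolynomial.C r)) hC
    have h2 : algebraMap Ry Ay (MvPolynomial.C r) = MvPolynomial.C (algebraMap R A r) :=
      MvPolynomial.map_C _ r
    show β' (φ' (MvPolynomial.C (MvPolynomial.C r))) = algebraMap R B r
    rw [h1, h2]
    have h3 : β' (MvPolynomial.C (algebraMap R A r)) = algebraMap A B (algebraMap R A r) :=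
      β.commutes _
    rw [h3, ← IsScalarTower.algebraMap_apply R A B]
  have hγs : Function.Surjective γ := hβ.comp hs
  refine (rel_iff_pc_twoStep γ hγ hγs _ m).2 ?_
  refine isPC_of_iso ?_ hmain
  exact (DRing.restrictD φ').mapIso e2.symm ≪≫ restrictDCompIso φ' β' _

end Main

end Groth.Agent.Lib.Helper1.PCTens
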