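import Mathlib
import Groth.Agent.Lib.Helper1PCNil2
import Groth.Agent.Lib.Helper1Fibres
import Groth.Agent.Lib.Helper5HasLDer
import Groth.Agent.S6954
import Groth.Agent.S6952
set_option backward.isDefEq.respectTransparency.types false

/-!
# Two ideals with zero product: descent of pseudo-coherence, tor amplitude and perfectness (helper1)
-/

set_option autoImplicit false
set_option maxHeartbeats 400000
universe u
open CategoryTheory CategoryTheory.Limits MonoidalCategory HomologicalComplex TensorProduct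
attribute [local instance] HasDerivedCategory.standard

namespace Groth.Agent.Lib.Helper1.PCTwo

open DerivedCategory Pretriangulated Groth.Agent.Lib.Helper1.KF Groth.Agent.Lib.Helper1.Tor
  Groth.Agent.Lib.Helper1.DT Groth.Agent.Lib.Helper1.LDer Groth.Agent.Lib.Helper1.TorM
  Groth.Agent.Lib.Helper1.TorN Groth.Agent.Lib.Helper1.TorO Groth.Agent.Lib.Helper1.PC
  Groth.Agent.Lib.Helper1.PCTower Groth.Agent.S14388 Groth.Agent.Lib.Helper1.PCNil

section Nak

variable {R : Type*} [CommRing R] {M : Type*} [AddCommGroup M] [Module R M]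

/-- Nakayama for two ideals with zero product -/
lemma eq_top_of_sup_smul_eq_top_two (I J : Ideal R) (hIJ : I * J = ⊥) (N : Submodule R M)
    (hI : N ⊔ I • (⊤ : Submodule R M) = ⊤) (hJ : N ⊔ J • (⊤ : Submodule R M) = ⊤) : N = ⊤ := by
  have h1 : I • (⊤ : Submodule R M) ≤ N :=
    calc I • (⊤ : Submodule R M) = I • (N ⊔ J • (⊤ : Submodule R M)) := by rw [hJ]
      _ = I • N ⊔ I • (J • (⊤ : Submodule R M)) := Submodule.smul_sup _ _ _
      _ ≤ N := by
        refine sup_le Submodule.smul_le_right ?_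
        rw [← Submodule.mul_smul, hIJ, Submodule.bot_smul]
        exact bot_le
  rw [← hI]
  exact (sup_eq_left.2 h1).symm

/-- lifting a finite generating set of a quotient -/
lemma exists_fg_sup_eq_top (P : Submodule R M) (h : Module.Finite R (M ⧸ P)) :
    ∃ N : Submodule R M, N.FG ∧ N ⊔ P = ⊤ := by
  classical
  obtain ⟨s, hs⟩ := h.fg_top
  have hsurj := P.mkQ_surjective
  let t : Finset M := s.image (Function.surjInv hsurj)
  refine ⟨Submodule.span R (t : Set M), ⟨t, rfl⟩, ?_⟩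
  rw [eq_top_iff]
  intro m _
  have hm : P.mkQ m ∈ Submodule.span R (s : Set (M ⧸ P)) := by rw [hs]; trivial
  have hmap : Submodule.span R (s : Set (M ⧸ P)) ≤ (Submodule.span R (t : Set M)).map P.mkQ := by
    rw [Submodule.span_le]
    intro x hx
    refine ⟨Function.surjInv hsurj x, Submodule.subset_span ?_, Function.surjInv_eq hsurj x⟩
    exact Finset.mem_coe.2 (Finset.mem_image_of_mem _ hx)
  obtain ⟨n, hn, hnm⟩ := hmap hm
  have : m - n ∈ P := by
    rw [← Submodule.ker_mkQ P, LinearMap.mem_ker, map_sub, hnm, sub_self]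
  have h2 : m = n + (m - n) := by abel
  rw [h2]
  exact Submodule.add_mem_sup hn this

/-- if `M ⧸ I M` and `M ⧸ J M` are finite and `I J = 0` then `M` is finite -/
lemma finite_of_finite_quotient_two (I J : Ideal R) (hIJ : I * J = ⊥)
    (hI : Module.Finite R (M ⧸ (I • (⊤ : Submodule R M))))
    (hJ : Module.Finite R (M ⧸ (J • (⊤ : Submodule R M)))) : Module.Finite R M := by
  obtain ⟨N₁, hN₁, h₁⟩ := exists_fg_sup_eq_top _ hI
  obtain ⟨N₂, hN₂, h₂⟩ := exists_fg_sup_eq_top _ hJ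
  have hN : (N₁ ⊔ N₂) = ⊤ := by
    apply eq_top_of_sup_smul_eq_top_two I J hIJ
    · have a1 : N₁ ⊔ I • (⊤ : Submodule R M) ≤ (N₁ ⊔ N₂) ⊔ I • (⊤ : Submodule R M) :=
        sup_le_sup_right le_sup_left _
      rw [h₁] at a1
      exact eq_top_iff.2 a1
    · have a2 : N₂ ⊔ J • (⊤ : Submodule R M) ≤ (N₁ ⊔ N₂) ⊔ J • (⊤ : Submodule R M) :=
        sup_le_sup_right le_sup_right _
      rw [h₂] at a2
      exact eq_top_iff.2 a2
  have hfg : (N₁ ⊔ N₂).FG := hN₁.sup hN₂
  rw [hN] at hfg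
  exact ⟨hfg⟩

end Nak

section Ext

variable {R' R₁ R₂ : Type u} [CommRing R'] [CommRing R₁] [CommRing R₂]
  (φ₁ : R' →+* R₁) (φ₂ : R' →+* R₂)

/-- the quotient by `ker φ • ⊤` is finite when the extension of scalars is -/
lemma finite_quotient_of_finite_extendScalars {R : Type u} [CommRing R] (φ : R' →+* R)
    (hφ : Function.Surjective φ) (M : ModuleCat.{u} R')
    (h : Module.Finite R ((ModuleCat.extendScalars φ).obj M)) :
    Module.Finite R' (M ⧸ (RingHom.ker φ • (⊤ : Submodule R' M))) := by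
  letI : Algebra R' R := φ.toAlgebra
  have h0 : Module.Finite R (R ⊗[R'] M) := h
  have hRfin : Module.Finite R' R := Module.Finite.of_surjective (Algebra.linearMap R' R) hφ
  have h1 : Module.Finite R' (R ⊗[R'] M) := Module.Finite.trans R _
  let f : R' →ₐ[R'] R := Algebra.ofId R' R
  have hf : Function.Surjective f := hφ
  let ψ : (R' ⧸ RingHom.ker f) ≃ₐ[R'] R := Ideal.quotientKerAlgEquivOfSurjective hf
  let e1 : R ⊗[R'] M ≃ₗ[R'] (R' ⧸ RingHom.ker f) ⊗[R'] M :=
    TensorProduct.congr ψ.symm.toLinearEquiv (LinearEquiv.refl R' M)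
  let e2 := TensorProduct.quotTensorEquivQuotSMul M (RingHom.ker f)
  exact Module.Finite.equiv (e1.trans e2)

/-- finiteness descends along two surjections whose kernels have zero product -/
theorem finite_of_finite_extendScalars_two (h₁ : Function.Surjective φ₁)
    (h₂ : Function.Surjective φ₂) (hker : RingHom.ker φ₁ * RingHom.ker φ₂ = ⊥)
    (M : ModuleCat.{u} R')
    (hf₁ : Module.Finite R₁ ((ModuleCat.extendScalars φ₁).obj M))
    (hf₂ : Module.Finite R₂ ((ModuleCat.extendScalars φ₂).obj M)) : Module.Finite R' M :=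
  finite_of_finite_quotient_two _ _ hker
    (finite_quotient_of_finite_extendScalars φ₁ h₁ M hf₁)
    (finite_quotient_of_finite_extendScalars φ₂ h₂ M hf₂)

end Ext

section Devissage

variable {R : Type u} [CommRing R] (I J : Ideal R)

/-- dévissage for two ideals with zero product, in a fixed degree -/
theorem exactAt_TC_two (hIJ : I * J = ⊥) (F : Cx R) (hFf : DRing.TermwiseFlat F) (i : ℤ)
    (hI : ∀ (N : Type u) [AddCommGroup N] [Module R N], (∀ r ∈ I, ∀ x : N, r • x = 0) →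
      ((TC (ModuleCat.of R N)).obj F).ExactAt i)
    (hJ : ∀ (N : Type u) [AddCommGroup N] [Module R N], (∀ r ∈ J, ∀ x : N, r • x = 0) →
      ((TC (ModuleCat.of R N)).obj F).ExactAt i)
    (N : Type u) [AddCommGroup N] [Module R N] : ((TC (ModuleCat.of R N)).obj F).ExactAt i := by
  let N' : Submodule R N := J • (⊤ : Submodule R N)
  have h1 : ((TC (ModuleCat.of R N')).obj F).ExactAt i := by
    apply hI N'
    intro r hr x
    apply Subtype.ext
    show r • (x : N) = 0
    refine Submodule.smul_induction_on x.2 ?_ ?_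
    · intro s hs y _
      rw [smul_smul]
      have : r * s ∈ I * J := Ideal.mul_mem_mul hr hs
      rw [hIJ] at this
      rw [(Submodule.mem_bot R).1 this, zero_smul]
    · intro a b ha hb
      rw [smul_add, ha, hb, add_zero]
  have h3 : ((TC (ModuleCat.of R (N ⧸ N'))).obj F).ExactAt i := by
    apply hJ (N ⧸ N')
    intro r hr x
    induction x using Submodule.Quotient.induction_on with
    | _ y =>
      rw [← Submodule.Quotient.mk_smul, Submodule.Quotient.mk_eq_zero]
      exact Submodule.smul_mem_smul hr Submodule.mem_top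
  let S : ShortComplex (ModuleCat.{u} R) :=
    ShortComplex.mk (ModuleCat.ofHom N'.subtype) (ModuleCat.ofHom N'.mkQ) (by
      ext x
      simp)
  have hS : S.ShortExact :=
    { exact := by
        rw [ShortComplex.ShortExact.moduleCat_exact_iff_function_exact]
        exact LinearMap.exact_subtype_mkQ N'
      mono_f := (ModuleCat.mono_iff_injective _).2 N'.subtype_injective
      epi_g := (ModuleCat.epi_iff_surjective _).2 N'.mkQ_surjective }
  exact exactAt_TC_of_shortExact S hS F hFf i h1 h3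

end Devissage

section Derived

variable {R' R₁ R₂ : Type u} [CommRing R'] [CommRing R₁] [CommRing R₂]

/-- extension of scalars of the top homology of a projective resolution is finite -/
theorem finite_ext_homology_top {R : Type u} [CommRing R] (φ : R' →+* R)
    [DRing.HasLBaseChange φ] (X : Dual.D R') (b : ℤ) (F₁ : Cx R') [F₁.IsStrictlyLE b]
    [F₁.IsKProjective] (e : Q.obj F₁ ≅ X)
    (hpc : DRing.IsPseudoCoherent' R ((DRing.LBaseChange φ).obj X)) :
    Module.Finite R ((ModuleCat.extendScalars φ).obj (F₁.homology b)) := by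
  have iso1 : (DRing.LBaseChange φ).obj X ≅ Q.obj ((DTen.extCx φ).obj F₁) :=
    (DRing.LBaseChange φ).mapIso e.symm ≪≫ lbcIso φ F₁
  obtain ⟨E, c, hEc, hEff, ⟨eE⟩⟩ := hpc
  have hex : ∀ i : ℤ, b < i → E.ExactAt i := by
    intro i hi
    have h1 : ((DTen.extCx φ).obj F₁).ExactAt i :=
      ShortComplex.exact_of_isZero_X₂ _
        ((ModuleCat.extendScalars φ).map_isZero (F₁.isZero_of_isStrictlyLE b i hi))
    exact exactAt_of_Q_iso (iso1.symm ≪≫ eE.symm) i h1
  have hker := (ker_d_finite_projective E b c hEc (fun i _ => by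
    have := (hEff i).1
    have := (hEff i).2
    exact ⟨inferInstance, inferInstance⟩) hex b le_rfl).1
  have hfinE : Module.Finite R (E.homology b) := finite_homology_of_ker E b hker
  have isoH : E.homology b ≅ ((DTen.extCx φ).obj F₁).homology b :=
    ((homologyFunctorFactors (ModuleCat.{u} R) b).app E).symm ≪≫
      (homologyFunctor (ModuleCat.{u} R) b).mapIso (eE ≪≫ iso1) ≪≫
      (homologyFunctorFactors (ModuleCat.{u} R) b).app _
  exact Module.Finite.equiv (isoH ≪≫ homologyExtIso φ F₁ b).toLinearEquiv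

variable (φ₁ : R' →+* R₁) (φ₂ : R' →+* R₂) [DRing.HasLBaseChange φ₁] [DRing.HasLBaseChange φ₂]

/-- if `X ∈ D^{≤ b}(R')` and both base changes are pseudo-coherent then `H^b(X)` is finite -/
theorem finite_HD_top_two (h₁ : Function.Surjective φ₁) (h₂ : Function.Surjective φ₂)
    (hker : RingHom.ker φ₁ * RingHom.ker φ₂ = ⊥) (X : Dual.D R') (b : ℤ) [X.IsLE b]
    (hpc₁ : DRing.IsPseudoCoherent' R₁ ((DRing.LBaseChange φ₁).obj X))
    (hpc₂ : DRing.IsPseudoCoherent' R₂ ((DRing.LBaseChange φ₂).obj X)) :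
    Module.Finite R' ((homologyFunctor (ModuleCat.{u} R') b).obj X) := by
  obtain ⟨F₁, hle, hproj, ⟨e⟩⟩ := Groth.Agent.Lib.Helper1.ProjRes.exists_iso_Q_proj X b
  have hF₁b : DRing.VanishesAbove F₁ b := fun j hj => F₁.isZero_of_isStrictlyLE b j hj
  haveI hF₁K : F₁.IsKProjective := by
    apply isKProjective_of_vanishesAbove F₁ b hF₁b
    intro j
    have := hproj j
    exact ModuleCat.projective_of_module_projective _
  have hfin3 : Module.Finite R' (F₁.homology b) :=
    finite_of_finite_extendScalars_two φ₁ φ₂ h₁ h₂ hker _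
      (finite_ext_homology_top φ₁ X b F₁ e hpc₁) (finite_ext_homology_top φ₂ X b F₁ e hpc₂)
  have hfin4 : Module.Finite R' ((HomologicalComplex.homologyFunctor (ModuleCat.{u} R')
      (ComplexShape.up ℤ) b).obj F₁) := hfin3
  exact Module.Finite.equiv (((homologyFunctorFactors (ModuleCat.{u} R') b).app F₁).symm ≪≫
    (homologyFunctor (ModuleCat.{u} R') b).mapIso e).toLinearEquiv

/-- the base case of the dévissage: modules killed by the kernel -/
theorem exactAt_TC_of_ker_smul {R : Type u} [CommRing R] (φ : R' →+* R)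
    (hφ : Function.Surjective φ) (F : Cx R') (i : ℤ)
    (h : ∀ Nb : ModuleCat.{u} R, ((TC Nb).obj ((DTen.extCx φ).obj F)).ExactAt i)
    (N : Type u) [AddCommGroup N] [Module R' N] (hN : ∀ r ∈ RingHom.ker φ, ∀ x : N, r • x = 0) :
    ((TC (ModuleCat.of R' N)).obj F).ExactAt i := by
  obtain ⟨Nb, ⟨eN⟩⟩ := exists_iso_restrictScalars_of_ker_smul_eq_zero φ hφ N hN
  exact exactAt_TC_of_iso eN F i (exactAt_TC_restrict_of_exactAt_TC_ext φ Nb F i (h Nb))

/-- boundedness above descends along two surjections whose kernels have zero product -/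
theorem isLE_two (h₁ : Function.Surjective φ₁) (h₂ : Function.Surjective φ₂)
    (hker : RingHom.ker φ₁ * RingHom.ker φ₂ = ⊥) (X : Dual.D R') (c : ℤ)
    (hc₁ : ((DRing.LBaseChange φ₁).obj X).IsLE c) (hc₂ : ((DRing.LBaseChange φ₂).obj X).IsLE c) :
    X.IsLE c := by
  obtain ⟨F, hF, hproj, ⟨e⟩⟩ := exists_kproj_iso X
  have hFf : DRing.TermwiseFlat F := fun i =>
    have := hproj i
    have : Module.Projective R' (F.X i) := ModuleCat.projective_of_module_projective _
    inferInstance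
  have key : ∀ {R : Type u} [CommRing R] (φ : R' →+* R) [DRing.HasLBaseChange φ],
      ((DRing.LBaseChange φ).obj X).IsLE c → ∀ (Nb : ModuleCat.{u} R) (i : ℤ), c < i →
        ((TC Nb).obj ((DTen.extCx φ).obj F)).ExactAt i := by
    intro R _ φ _ h Nb i hi
    have iso1 : (DRing.LBaseChange φ).obj X ≅ Q.obj ((DTen.extCx φ).obj F) :=
      (DRing.LBaseChange φ).mapIso e.symm ≪≫ lbcIso φ F
    have hle : (Q.obj ((DTen.extCx φ).obj F)).IsLE c := tt.isLE_of_iso iso1 c
    rw [DerivedCategory.isLE_Q_obj_iff, CochainComplex.isLE_iff] at hle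
    have hGK : KFlat ((DTen.extCx φ).obj F) := kflat_of_isKProjective _
    exact exactAt_TC_of_exactAt_above _ hGK c hle Nb i hi
  have hFle : (Q.obj F).IsLE c := by
    rw [DerivedCategory.isLE_Q_obj_iff, CochainComplex.isLE_iff]
    intro i hi
    have h1 := exactAt_TC_two (RingHom.ker φ₁) (RingHom.ker φ₂) hker F hFf i
      (fun N _ _ hN => exactAt_TC_of_ker_smul φ₁ h₁ F i (fun Nb => key φ₁ hc₁ Nb i hi) N hN)
      (fun N _ _ hN => exactAt_TC_of_ker_smul φ₂ h₂ F i (fun Nb => key φ₂ hc₂ Nb i hi) N hN) R'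
    rw [exactAt_TC_iff _ F (i - 1) i (i + 1) (by lia) rfl] at h1
    rw [exactAt_iff_fexact F (i - 1) i (i + 1) (by lia) rfl]
    refine Function.Exact.of_ladder_linearEquiv_of_exact (e₁ := TensorProduct.lid R' _)
      (e₂ := TensorProduct.lid R' _) (e₃ := TensorProduct.lid R' _) ?_ ?_ h1
    · ext x
      simp
    · ext x
      simp
  exact tt.isLE_of_iso e c

end Derived

section Derived2

variable {R' R₁ R₂ : Type u} [CommRing R'] [CommRing R₁] [CommRing R₂]
  (φ₁ : R' →+* R₁) (φ₂ : R' →+* R₂) [DRing.HasLBaseChange φ₁] [DRing.HasLBaseChange φ₂]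

/-- the inductive step -/
theorem isPC_aux_two (h₁ : Function.Surjective φ₁) (h₂ : Function.Surjective φ₂)
    (hker : RingHom.ker φ₁ * RingHom.ker φ₂ = ⊥) :
    ∀ (n : ℕ) (X : Dual.D R') (b : ℤ), X.IsLE b →
      DRing.IsPseudoCoherent' R₁ ((DRing.LBaseChange φ₁).obj X) →
      DRing.IsPseudoCoherent' R₂ ((DRing.LBaseChange φ₂).obj X) →
      DRing.IsPseudoCoherent R' (b + 1 - n) X := by
  obtain ⟨adj₁⟩ := Groth.Agent.S12898.result φ₁
  letI : (DRing.LBaseChange φ₁).CommShift ℤ := adj₁.leftAdjointCommShift ℤ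
  haveI : adj₁.CommShift ℤ := adj₁.commShift_of_rightAdjoint ℤ
  haveI : (DRing.LBaseChange φ₁).IsTriangulated := adj₁.isTriangulated_leftAdjoint
  obtain ⟨adj₂⟩ := Groth.Agent.S12898.result φ₂
  letI : (DRing.LBaseChange φ₂).CommShift ℤ := adj₂.leftAdjointCommShift ℤ
  haveI : adj₂.CommShift ℤ := adj₂.commShift_of_rightAdjoint ℤ
  haveI : (DRing.LBaseChange φ₂).IsTriangulated := adj₂.isTriangulated_leftAdjoint
  intro n
  induction n with
  | zero =>
    intro X b hX _ _
    have : X.IsLE (b + 1 - ((0 : ℕ) : ℤ) - 1) := by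
      have e : b + 1 - ((0 : ℕ) : ℤ) - 1 = b := by simp
      rw [e]
      exact hX
    exact isPC_of_isLE _ X
  | succ n ih =>
    intro X b hX hpc₁ hpc₂
    have hfin := finite_HD_top_two φ₁ φ₂ h₁ h₂ hker X b hpc₁ hpc₂
    obtain ⟨F, ψ, hF, hψ⟩ := exists_single_conn X b hfin
    obtain ⟨C, v, w, hC⟩ := distinguished_cocone_triangle ψ
    have hCle : C.IsLE (b - 1) := (conn_iff_of_distTriang _ hC b).1 hψ
    have hs : ∀ m : ℤ, DRing.IsPseudoCoherent R' m ((singleFunctor (ModuleCat.{u} R') b).obj F) :=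
      fun m => isPC_of_rep m (rep_single F hF b)
    have hLs₁ : DRing.IsPseudoCoherent' R₁
        ((DRing.LBaseChange φ₁).obj ((singleFunctor (ModuleCat.{u} R') b).obj F)) :=
      isPseudoCoherent'_of_forall _ (fun m => Groth.Agent.S2137.result φ₁ _ m (hs m))
    have hLs₂ : DRing.IsPseudoCoherent' R₂
        ((DRing.LBaseChange φ₂).obj ((singleFunctor (ModuleCat.{u} R') b).obj F)) :=
      isPseudoCoherent'_of_forall _ (fun m => Groth.Agent.S2137.result φ₂ _ m (hs m))
    have hLT₁ := (DRing.LBaseChange φ₁).map_distinguished _ hC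
    have hLT₂ := (DRing.LBaseChange φ₂).map_distinguished _ hC
    have hLC₁ : DRing.IsPseudoCoherent' R₁ ((DRing.LBaseChange φ₁).obj C) :=
      (Groth.Agent.S7017.result R₁ _ hLT₁).1 hLs₁ hpc₁
    have hLC₂ : DRing.IsPseudoCoherent' R₂ ((DRing.LBaseChange φ₂).obj C) :=
      (Groth.Agent.S7017.result R₂ _ hLT₂).1 hLs₂ hpc₂
    have ihC := ih C (b - 1) hCle hLC₁ hLC₂
    have e : b - 1 + 1 - (n : ℤ) = b + 1 - ((n + 1 : ℕ) : ℤ) := by push_cast; ring
    rw [e] at ihC
    exact isPC_obj₂ _ hC _ (hs _) ihC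

/-- **pseudo-coherence descends along two surjections whose kernels have zero product** -/
theorem isPseudoCoherent'_two (h₁ : Function.Surjective φ₁) (h₂ : Function.Surjective φ₂)
    (hker : RingHom.ker φ₁ * RingHom.ker φ₂ = ⊥) (X : Dual.D R')
    (hpc₁ : DRing.IsPseudoCoherent' R₁ ((DRing.LBaseChange φ₁).obj X))
    (hpc₂ : DRing.IsPseudoCoherent' R₂ ((DRing.LBaseChange φ₂).obj X)) :
    DRing.IsPseudoCoherent' R' X := by
  obtain ⟨E₁, c₁, hEc₁, -, ⟨eE₁⟩⟩ := id hpc₁
  obtain ⟨E₂, c₂, hEc₂, -, ⟨eE₂⟩⟩ := id hpc₂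
  have hle : ∀ {R : Type u} [CommRing R] (E : Cx R) (c c' : ℤ), c ≤ c' →
      DRing.VanishesAbove E c → (Q.obj E).IsLE c' := by
    intro R _ E c c' hcc hE
    have : E.IsStrictlyLE c' := by
      rw [CochainComplex.isStrictlyLE_iff]
      exact fun i hi => hE i (by omega)
    infer_instance
  have hL₁ : ((DRing.LBaseChange φ₁).obj X).IsLE (max c₁ c₂) :=
    have := hle E₁ c₁ (max c₁ c₂) (le_max_left _ _) hEc₁
    tt.isLE_of_iso eE₁ _
  have hL₂ : ((DRing.LBaseChange φ₂).obj X).IsLE (max c₁ c₂) :=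
    have := hle E₂ c₂ (max c₁ c₂) (le_max_right _ _) hEc₂
    tt.isLE_of_iso eE₂ _
  have hX : X.IsLE (max c₁ c₂) := isLE_two φ₁ φ₂ h₁ h₂ hker X _ hL₁ hL₂
  apply isPseudoCoherent'_of_forall
  intro m
  have h1 := isPC_aux_two φ₁ φ₂ h₁ h₂ hker (max c₁ c₂ + 1 - m).toNat X _ hX hpc₁ hpc₂
  exact isPC_mono (by lia) h1

/-- tor amplitude descends -/
theorem hasTorAmp_two (h₁ : Function.Surjective φ₁) (h₂ : Function.Surjective φ₂)
    (hker : RingHom.ker φ₁ * RingHom.ker φ₂ = ⊥) (X : Dual.D R') (a b : ℤ)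
    (ht₁ : DRing.HasTorAmplitudeIn R₁ a b ((DRing.LBaseChange φ₁).obj X))
    (ht₂ : DRing.HasTorAmplitudeIn R₂ a b ((DRing.LBaseChange φ₂).obj X)) :
    DRing.HasTorAmplitudeIn R' a b X := by
  obtain ⟨F, hF, hproj, ⟨e⟩⟩ := exists_kproj_iso X
  have hFf : DRing.TermwiseFlat F := fun i =>
    have := hproj i
    have : Module.Projective R' (F.X i) := ModuleCat.projective_of_module_projective _
    inferInstance
  have key : ∀ {R : Type u} [CommRing R] (φ : R' →+* R) [DRing.HasLBaseChange φ],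
      DRing.HasTorAmplitudeIn R a b ((DRing.LBaseChange φ).obj X) →
        TorVan ((DTen.extCx φ).obj F) a b := by
    intro R _ φ _ h
    obtain ⟨E, hE, hEf, ⟨eE⟩⟩ := h
    have e2 : Q.obj E ≅ Q.obj ((DTen.extCx φ).obj F) :=
      eE ≪≫ (DRing.LBaseChange φ).mapIso e.symm ≪≫ lbcIso φ F
    have hGK : KFlat ((DTen.extCx φ).obj F) := kflat_of_isKProjective _
    exact torVan_of_iso_kflat _ E hGK a b hE hEf e2
  have hv₁ := key φ₁ ht₁
  have hv₂ := key φ₂ ht₂
  have hv' : TorVan F a b := by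
    intro M i hi
    exact exactAt_TC_two (RingHom.ker φ₁) (RingHom.ker φ₂) hker F hFf i
      (fun N _ _ hN => exactAt_TC_of_ker_smul φ₁ h₁ F i (fun Nb => hv₁ Nb i hi) N hN)
      (fun N _ _ hN => exactAt_TC_of_ker_smul φ₂ h₂ F i (fun Nb => hv₂ Nb i hi) N hN) M
  exact hasTorAmp_of_iso e (hasTorAmp_of_torVan_kflat F (kflat_of_isKProjective F) a b hv')

end Derived2

section Perfect

variable {R' R₁ R₂ : Type u} [CommRing R'] [CommRing R₁] [CommRing R₂]
  (φ₁ : R' →+* R₁) (φ₂ : R' →+* R₂) [DRing.HasLBaseChange φ₁] [DRing.HasLBaseChange φ₂]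

lemma hasTorAmp_mono {R : Type u} [CommRing R] {a b a' b' : ℤ} (ha : a' ≤ a) (hb : b ≤ b')
    {K : Dual.D R} (h : DRing.HasTorAmplitudeIn R a b K) : DRing.HasTorAmplitudeIn R a' b' K := by
  obtain ⟨E, hE, hEf, he⟩ := h
  exact ⟨E, fun i hi => hE i (by omega), hEf, he⟩

/-- **perfectness descends along two surjections whose kernels have zero product** -/
theorem isPerfect_two (h₁ : Function.Surjective φ₁) (h₂ : Function.Surjective φ₂)
    (hker : RingHom.ker φ₁ * RingHom.ker φ₂ = ⊥) (X : Dual.D R')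
    (hp₁ : DRing.IsPerfect R₁ ((DRing.LBaseChange φ₁).obj X))
    (hp₂ : DRing.IsPerfect R₂ ((DRing.LBaseChange φ₂).obj X)) : DRing.IsPerfect R' X := by
  obtain ⟨hpc₁, a₁, b₁, hab₁⟩ := (Groth.Agent.S6954.result R₁ _).1 hp₁
  obtain ⟨hpc₂, a₂, b₂, hab₂⟩ := (Groth.Agent.S6954.result R₂ _).1 hp₂
  rw [Groth.Agent.S6954.result]
  exact ⟨isPseudoCoherent'_two φ₁ φ₂ h₁ h₂ hker X hpc₁ hpc₂, min a₁ a₂, max b₁ b₂,
    hasTorAmp_two φ₁ φ₂ h₁ h₂ hker X _ _
      (hasTorAmp_mono (min_le_left _ _) (le_max_left _ _) hab₁)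
      (hasTorAmp_mono (min_le_right _ _) (le_max_right _ _) hab₂)⟩

end Perfect

section Comp

variable {A B C : Type u} [CommRing A] [CommRing B] [CommRing C]

open Groth.Agent.Lib.Helper1.LocalCx in
/-- transitivity of derived base change -/
theorem nonempty_lbc_comp_iso (φ : A →+* B) (ψ : B →+* C) [DRing.HasLBaseChange φ]
    [DRing.HasLBaseChange ψ] [DRing.HasLBaseChange (ψ.comp φ)] (K : Dual.D A) :
    Nonempty ((DRing.LBaseChange ψ).obj ((DRing.LBaseChange φ).obj K) ≅
      (DRing.LBaseChange (ψ.comp φ)).obj K) := by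
  obtain ⟨F, hF, -, ⟨e⟩⟩ := exists_kproj_iso K
  haveI := hF
  exact ⟨(DRing.LBaseChange ψ).mapIso ((DRing.LBaseChange φ).mapIso e.symm ≪≫ lbcIso φ F) ≪≫
    lbcIso ψ ((bcCx φ).obj F) ≪≫ Q.mapIso (bcCxCompIso φ ψ F).symm ≪≫
    (lbcIso (ψ.comp φ) F).symm ≪≫ (DRing.LBaseChange (ψ.comp φ)).mapIso e⟩

/-- derived base change along equal ring maps -/
theorem nonempty_lbc_congr {φ φ' : A →+* B} (h : φ = φ') [DRing.HasLBaseChange φ]
    [DRing.HasLBaseChange φ'] (K : Dual.D A) :
    Nonempty ((DRing.LBaseChange φ).obj K ≅ (DRing.LBaseChange φ').obj K) := by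
  subst h
  exact ⟨Iso.refl _⟩

end Comp

/-- **S6980** -/
theorem main (R : Type u) [CommRing R] (I J : Ideal R)
    [DRing.HasLBaseChange (Ideal.Quotient.mk I)] [DRing.HasLBaseChange (Ideal.Quotient.mk J)]
    [DRing.HasLBaseChange (Ideal.Quotient.mk (I * J))] (K : Dual.D R)
    (hI : DRing.IsPerfect (R ⧸ I) ((DRing.LBaseChange (Ideal.Quotient.mk I)).obj K))
    (hJ : DRing.IsPerfect (R ⧸ J) ((DRing.LBaseChange (Ideal.Quotient.mk J)).obj K)) :
    DRing.IsPerfect (R ⧸ (I * J)) ((DRing.LBaseChange (Ideal.Quotient.mk (I * J))).obj K) := by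
  let φ₁ : R ⧸ (I * J) →+* R ⧸ I := Ideal.Quotient.factor Ideal.mul_le_left
  let φ₂ : R ⧸ (I * J) →+* R ⧸ J := Ideal.Quotient.factor Ideal.mul_le_right
  haveI := Groth.Agent.Lib.Helper5.HasLDer.hasLBaseChange φ₁
  haveI := Groth.Agent.Lib.Helper5.HasLDer.hasLBaseChange φ₂
  haveI := Groth.Agent.Lib.Helper5.HasLDer.hasLBaseChange (φ₁.comp (Ideal.Quotient.mk (I * J)))
  haveI := Groth.Agent.Lib.Helper5.HasLDer.hasLBaseChange (φ₂.comp (Ideal.Quotient.mk (I * J)))
  have hs₁ : Function.Surjective φ₁ := Ideal.Quotient.factor_surjective _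
  have hs₂ : Function.Surjective φ₂ := Ideal.Quotient.factor_surjective _
  have hc₁ : φ₁.comp (Ideal.Quotient.mk (I * J)) = Ideal.Quotient.mk I :=
    Ideal.Quotient.factor_comp_mk _
  have hc₂ : φ₂.comp (Ideal.Quotient.mk (I * J)) = Ideal.Quotient.mk J :=
    Ideal.Quotient.factor_comp_mk _
  have hkk : ∀ (I' : Ideal R) (hle : I * J ≤ I'),
      RingHom.ker (Ideal.Quotient.factor hle) = I'.map (Ideal.Quotient.mk (I * J)) := by
    intro I' hle
    ext x
    obtain ⟨y, rfl⟩ := Ideal.Quotient.mk_surjective x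
    rw [RingHom.mem_ker, Ideal.Quotient.factor_mk, Ideal.Quotient.eq_zero_iff_mem,
      Ideal.mem_map_iff_of_surjective _ Ideal.Quotient.mk_surjective]
    constructor
    · intro hy
      exact ⟨y, hy, rfl⟩
    · rintro ⟨z, hz, hzy⟩
      have : z - y ∈ I * J := by
        rw [← Ideal.Quotient.eq_zero_iff_mem, map_sub, hzy, sub_self]
      have h2 : y = z - (z - y) := by ring
      rw [h2]
      exact I'.sub_mem hz (hle this)
  have hk₁ : RingHom.ker φ₁ = I.map (Ideal.Quotient.mk (I * J)) := hkk I _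
  have hk₂ : RingHom.ker φ₂ = J.map (Ideal.Quotient.mk (I * J)) := hkk J _
  have hker : RingHom.ker φ₁ * RingHom.ker φ₂ = ⊥ := by
    rw [hk₁, hk₂, ← Ideal.map_mul, Ideal.map_quotient_self]
  obtain ⟨e₁⟩ := nonempty_lbc_comp_iso (Ideal.Quotient.mk (I * J)) φ₁ K
  obtain ⟨e₁'⟩ := nonempty_lbc_congr hc₁ K
  obtain ⟨e₂⟩ := nonempty_lbc_comp_iso (Ideal.Quotient.mk (I * J)) φ₂ K
  obtain ⟨e₂'⟩ := nonempty_lbc_congr hc₂ K
  refine isPerfect_two φ₁ φ₂ hs₁ hs₂ hker _ ?_ ?_
  · obtain ⟨E, a, b, hE, hP, ⟨e⟩⟩ := hI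
    exact ⟨E, a, b, hE, hP, ⟨e ≪≫ (e₁ ≪≫ e₁').symm⟩⟩
  · obtain ⟨E, a, b, hE, hP, ⟨e⟩⟩ := hJ
    exact ⟨E, a, b, hE, hP, ⟨e ≪≫ (e₂ ≪≫ e₂').symm⟩⟩

end Groth.Agent.Lib.Helper1.PCTwo
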