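import Groth.Agent.Lib.Helper17PCoh13

/-! Pseudo-coherence (punctual site): the split one-step modification, finite and infinite
iteration (helper1; builds on helper17's PCoh1–13). -/
set_option autoImplicit false
set_option backward.isDefEq.respectTransparency false
set_option backward.isDefEq.respectTransparency.types false
set_option maxHeartbeats 400000
universe w v u
open CategoryTheory CategoryTheory.Limits CochainComplex

namespace Groth.Agent.Lib.Helper1.PCohTower

open Groth.Agent.Lib.Helper17.PCoh4 Groth.Agent.Lib.Helper17.PCoh5 Groth.Agent.Lib.Helper17.PCoh6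
  Groth.Agent.Lib.Helper17.PCoh7 Groth.Agent.Lib.Helper17.PCoh8 Groth.Agent.Lib.Helper17.PCoh9
  Groth.Agent.Lib.Helper17.PCoh10 Groth.Agent.Lib.Helper17.PCoh12

variable {C : Type u} [Category.{v} C] [Abelian C]

/-- a termwise retraction of the inclusion into the pullback. -/
theorem exists_retraction_pbv {E F T : CochainComplex C ℤ} (u : E ⟶ F) (ζ : T ⟶ (S u).X₃) (i : ℤ) :
    ∃ r : (pullback (S u).g ζ).X i ⟶ E.X i, (pbv (S u) ζ).f i ≫ r = 𝟙 _ := by
  refine ⟨(pullback.fst (S u).g ζ).f i ≫ (biprod.fst : M E F ⟶ _).f i ≫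
    (mappingCone.snd (𝟙 E)).v i i (add_zero i), ?_⟩
  rw [← Category.assoc, ← HomologicalComplex.comp_f, pbv_fst]
  exact j_f_comp u i

theorem isStrictPC_of_isStrictPCAll {P : ObjectProperty C} {E : CochainComplex C ℤ}
    (hE : PCoh.IsStrictPCAll P E) (n : ℤ) :
    PCoh.IsStrictPC P n E := ⟨hE.1, fun i _ => hE.2 i⟩

omit [Abelian C] in
theorem isZero_of_isIso [HasZeroMorphisms C] {X Y : C} (f : X ⟶ Y) [IsIso f] (h : IsZero X) :
    IsZero Y :=
  h.of_iso (asIso f).symm

theorem prop_biprod (P : ObjectProperty C) [P.IsClosedUnderIsomorphisms]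
    (hsum : ∀ X Y : C, P X → P Y → P (X ⨯ Y)) {X Y : C} (hX : P X) (hY : P Y) : P (X ⊞ Y) :=
  P.prop_of_iso (biprod.isoProd X Y).symm (hsum X Y hX hY)

theorem prop_pullback_X (P : ObjectProperty C) [P.IsClosedUnderIsomorphisms]
    (hsum : ∀ X Y : C, P X → P Y → P (X ⨯ Y))
    {E F T : CochainComplex C ℤ} (u : E ⟶ F) (ζ : T ⟶ (S u).X₃) (i : ℤ)
    (hE : P (E.X i)) (hT : P (T.X i)) : P ((pullback (S u).g ζ).X i) := by
  obtain ⟨r, hr⟩ := exists_retraction_pbv u ζ i
  have h := pb_shortExact_eval ζ (S_shortExact u) i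
  have := h.epi_g
  let σ := ShortComplex.Splitting.ofExactOfRetraction _ h.exact r hr h.epi_g
  exact P.prop_of_iso σ.isoBinaryBiproduct.symm (prop_biprod P hsum hE hT)


/-- one step modification, with control of the new term. -/
theorem exists_step (P : ObjectProperty C) [P.IsClosedUnderIsomorphisms]
    (hsum : ∀ X Y : C, P X → P Y → P (X ⨯ Y)) (hql : PCoh.IsQuasiLiftable P)
    (n : ℤ) (E F : CochainComplex C ℤ) (u : E ⟶ F)
    (hu : IsNQuasiIso (n + 1) u)
    (hcone : PCoh.IsOfFiniteType P ((CochainComplex.mappingCone u).homology n)) :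
    ∃ (E' : CochainComplex C ℤ) (v : E ⟶ E') (u' : E' ⟶ F), v ≫ u' = u ∧ (∀ i : ℤ, Mono (v.f i)) ∧
      (∀ i : ℤ, i ≠ n → IsIso (v.f i)) ∧ (P (E.X n) → P (E'.X n)) ∧ IsNQuasiIso n u' := by
  obtain ⟨hiso, hepi⟩ := hu
  have hS := S_shortExact u
  have hNft : PCoh.IsOfFiniteType P ((S u).X₃.homology n) :=
    Groth.Agent.Lib.Helper17.PCoh1.isOfFiniteType_of_epi P (homologyIso u n).hom hcone
  obtain ⟨L, z, hL, hz⟩ := exists_cycle_lift P hql (S u).X₃ n hNft
  set ζ := cycleMap z with hζ
  have hζn : Epi (HomologicalComplex.homologyMap ζ n) := epi_homologyMap_cycleMap z hz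
  have hNz : ∀ i : ℤ, n < i → IsZero ((S u).X₃.homology i) := fun i hi =>
    (exactAt_cokernel u (n + 1) hiso hepi i (by omega)).isZero_homology
  have hTz : ∀ i : ℤ, i ≠ n →
      IsZero (((HomologicalComplex.single C (ComplexShape.up ℤ) n).obj L).homology i) :=
    fun i hi => HomologicalComplex.isZero_single_obj_homology _ _ _ _ hi
  have hS' := pb_shortExact ζ hS
  have hid : ∀ i : ℤ, IsIso (HomologicalComplex.homologyMap (pbMap (S u) ζ).τ₁ i) := fun i => by
    show IsIso (HomologicalComplex.homologyMap (𝟙 _) i)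
    rw [HomologicalComplex.homologyMap_id]
    infer_instance
  have hζepi : ∀ i : ℤ, n ≤ i → Epi (HomologicalComplex.homologyMap (pbMap (S u) ζ).τ₃ i) := by
    intro i hi
    show Epi (HomologicalComplex.homologyMap ζ i)
    rcases hi.eq_or_lt with rfl | hlt
    · exact hζn
    · exact epi_of_isZero_tgt _ (hNz i hlt)
  have hζmono : ∀ i : ℤ, n < i → Mono (HomologicalComplex.homologyMap (pbMap (S u) ζ).τ₃ i) := by
    intro i hi
    show Mono (HomologicalComplex.homologyMap ζ i)
    exact mono_of_isZero_src _ (hTz i (by omega))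
  have hfstepi : ∀ i : ℤ, n ≤ i →
      Epi (HomologicalComplex.homologyMap (pullback.fst (S u).g ζ) i) := fun i hi => by
    have := hid i
    have := hid (i + 1)
    exact epi_homologyMap_τ₂ (pbMap (S u) ζ) hS' hS i (i + 1) (by simp) inferInstance
      (hζepi i hi) inferInstance
  have hfstmono : ∀ i : ℤ, n < i →
      Mono (HomologicalComplex.homologyMap (pullback.fst (S u).g ζ) i) := fun i hi => by
    have := hid i
    exact mono_homologyMap_τ₂ (pbMap (S u) ζ) hS' hS (i - 1) i (by simp)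
      (hζepi (i - 1) (by omega)) inferInstance (hζmono i hi)
  refine ⟨pullback (S u).g ζ, pbv (S u) ζ, pullback.fst (S u).g ζ ≫ q E F, ?_, ?_, ?_, ?_, ?_, ?_⟩
  · rw [← Category.assoc, pbv_fst]
    exact j_q u
  · intro i
    exact mono_pbv_f ζ hS i
  · intro i hi
    exact isIso_pbv_f ζ hS i (HomologicalComplex.isZero_single_obj_X _ _ _ _ hi)
  · intro hE
    exact prop_pullback_X P hsum u ζ n hE
      (P.prop_of_iso (HomologicalComplex.singleObjXSelf (ComplexShape.up ℤ) n L).symm hL)
  · intro i hi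
    rw [HomologicalComplex.homologyMap_comp]
    have := hfstepi i hi.le
    have := hfstmono i hi
    have : IsIso (HomologicalComplex.homologyMap (pullback.fst (S u).g ζ) i) :=
      isIso_of_mono_of_epi _
    infer_instance
  · rw [HomologicalComplex.homologyMap_comp]
    have := hfstepi n le_rfl
    infer_instance

section Derived

variable [HasDerivedCategory.{w} C]

/-- the top homology of an `n`-pseudo-coherent complex acyclic above `n` is of finite type. -/
theorem isOfFiniteType_homology_of_isNPC (P : ObjectProperty C)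
    (hqs : PCoh.IsQuasiStableUnderKernels P) (n : ℤ) (N : CochainComplex C ℤ)
    (h : IsNPC P n (DerivedCategory.Q.obj N)) (hac : ∀ i : ℤ, n < i → IsZero (N.homology i)) :
    PCoh.IsOfFiniteType P (N.homology n) := by
  obtain ⟨G, hG, ⟨e⟩⟩ := h
  have ei : ∀ i : ℤ, G.homology i ≅ N.homology i := fun i =>
    (homologyIsoQ G i).symm ≪≫ (DerivedCategory.homologyFunctor C i).mapIso e ≪≫ homologyIsoQ N i
  have h1 := Groth.Agent.Lib.Helper17.PCoh2.isOfFiniteType_homology_of_strictPC P hqs n G hG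
    (fun i hi => IsZero.of_iso (hac i hi) (ei i))
  exact Groth.Agent.Lib.Helper17.PCoh1.isOfFiniteType_of_epi P (ei n).hom h1

end Derived


section Derived2

open CategoryTheory.Pretriangulated Groth.Agent.Lib.Helper17.PCoh13

variable [HasDerivedCategory.{w} C]
variable (P : ObjectProperty C) [P.IsClosedUnderIsomorphisms] [P.ContainsZero]
  (hsum : ∀ X Y : C, P X → P Y → P (X ⨯ Y))
  (hqs : PCoh.IsQuasiStableUnderKernels P) (hql : PCoh.IsQuasiLiftable P)

include hsum hqs hql in
theorem isNPC_mappingCone (m : ℤ) {E F : CochainComplex C ℤ} (u : E ⟶ F)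
    (hE : IsNPC P (m + 1) (DerivedCategory.Q.obj E)) (hF : IsNPC P m (DerivedCategory.Q.obj F)) :
    IsNPC P m (DerivedCategory.Q.obj (mappingCone u)) :=
  isNPC_obj₃ P hsum hqs hql m _ (DerivedCategory.mappingCone_triangle_distinguished u) hE hF

include hsum hqs hql in
/-- the one-step modification, from pseudo-coherence hypotheses. -/
theorem exists_step' (m : ℤ) (E F : CochainComplex C ℤ) (u : E ⟶ F)
    (hu : IsNQuasiIso (m + 1) u)
    (hE : IsNPC P (m + 1) (DerivedCategory.Q.obj E)) (hF : IsNPC P m (DerivedCategory.Q.obj F)) :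
    ∃ (E' : CochainComplex C ℤ) (v : E ⟶ E') (u' : E' ⟶ F), v ≫ u' = u ∧ (∀ i : ℤ, Mono (v.f i)) ∧
      (∀ i : ℤ, i ≠ m → IsIso (v.f i)) ∧ (P (E.X m) → P (E'.X m)) ∧ IsNQuasiIso m u' := by
  refine exists_step P hsum hql m E F u hu ?_
  refine isOfFiniteType_homology_of_isNPC P hqs m _ (isNPC_mappingCone P hsum hqs hql m u hE hF) ?_
  intro i hi
  exact isZero_homology_mappingCone u (m + 1) hu i (by omega)

omit [P.IsClosedUnderIsomorphisms] [P.ContainsZero] in
theorem isNPC_of_isStrictPC {n : ℤ} {E : CochainComplex C ℤ} (hE : PCoh.IsStrictPC P n E) :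
    IsNPC P n (DerivedCategory.Q.obj E) := ⟨E, hE, ⟨Iso.refl _⟩⟩

include hsum hqs hql in
/-- finitely many modifications. -/
theorem exists_finite_iteration (n : ℤ) (F : CochainComplex C ℤ)
    (hF : IsNPC P n (DerivedCategory.Q.obj F)) (k : ℕ) :
    ∀ (E : CochainComplex C ℤ) (_ : PCoh.IsStrictPC P n E) (u : E ⟶ F)
      (_ : IsNQuasiIso (n + k) u),
      ∃ (E' : CochainComplex C ℤ) (v : E ⟶ E') (u' : E' ⟶ F), v ≫ u' = u ∧
        PCoh.IsStrictPC P n E' ∧ IsNQuasiIso n u' ∧ (∀ j : ℤ, Mono (v.f j)) ∧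
        (∀ j : ℤ, n + k ≤ j → IsIso (v.f j)) := by
  induction k with
  | zero =>
    intro E hE u hu
    refine ⟨E, 𝟙 E, u, Category.id_comp _, hE, by simpa using hu, fun j => ?_, fun j _ => ?_⟩
    · rw [HomologicalComplex.id_f]; infer_instance
    · rw [HomologicalComplex.id_f]; infer_instance
  | succ k ih =>
    intro E hE u hu
    have hu' : IsNQuasiIso (n + k + 1) u := by
      have : n + ((k + 1 : ℕ) : ℤ) = n + k + 1 := by push_cast; ring
      rwa [this] at hu
    obtain ⟨E₁, v₁, u₁, hvu, hmono, hiso, hP, hu₁⟩ := exists_step' P hsum hqs hql (n + k) E F u hu'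
      (isNPC_of_isStrictPC P (isStrictPC_of_le P (by omega) hE))
      (isNPC_of_le P (by omega) hF)
    have hE₁ : PCoh.IsStrictPC P n E₁ := by
      obtain ⟨⟨b, hb⟩, hEP⟩ := hE
      refine ⟨⟨max b (n + k), fun i hi => ?_⟩, fun i hi => ?_⟩
      · have := hiso i (by intro h; rw [h] at hi; exact absurd hi (by simp))
        exact isZero_of_isIso (v₁.f i) (hb i (lt_of_le_of_lt (le_max_left _ _) hi))
      · by_cases h : i = n + k
        · subst h
          exact hP (hEP _ hi)
        · have := hiso i h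
          exact P.prop_of_iso (asIso (v₁.f i)) (hEP i hi)
    obtain ⟨E', v₂, u', hvu₂, hE', hu'', hmono₂, hiso₂⟩ := ih E₁ hE₁ u₁ hu₁
    refine ⟨E', v₁ ≫ v₂, u', by rw [Category.assoc, hvu₂, hvu], hE', hu'', fun j => ?_,
      fun j hj => ?_⟩
    · rw [HomologicalComplex.comp_f]
      have := hmono j
      have := hmono₂ j
      exact mono_comp _ _
    · rw [HomologicalComplex.comp_f]
      have : n + ((k + 1 : ℕ) : ℤ) = n + k + 1 := by push_cast; ring
      have := hiso j (by omega)
      have := hiso₂ j (by omega)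
      infer_instance

end Derived2

end Groth.Agent.Lib.Helper1.PCohTower
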