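import Groth.Agent.Lib.Helper1PCohA
import Mathlib.CategoryTheory.Functor.OfSequence
import Mathlib.CategoryTheory.Limits.Constructions.EventuallyConstant
import Mathlib.Algebra.Homology.HomologicalComplexLimits

/-! Pseudo-coherence (punctual site): infinitely many modifications, via a degreewise eventually
constant colimit (helper1). -/
set_option autoImplicit false
set_option backward.isDefEq.respectTransparency false
set_option backward.isDefEq.respectTransparency.types false
set_option maxHeartbeats 400000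
universe w v u
open CategoryTheory CategoryTheory.Limits CochainComplex

namespace Groth.Agent.Lib.Helper1.PCohTower

open Groth.Agent.Lib.Helper17.PCoh10 Groth.Agent.Lib.Helper17.PCoh12

section Seq

lemma isIso_map_ofSequence {D E : Type*} [Category D] [Category E] {X : ℕ → D}
    (f : ∀ n, X n ⟶ X (n + 1)) (H : D ⥤ E) (n₀ : ℕ) (h : ∀ n, n₀ ≤ n → IsIso (H.map (f n)))
    (i j : ℕ) (hi : n₀ ≤ i) (hij : i ≤ j) :
    IsIso (H.map ((Functor.ofSequence f).map (homOfLE hij))) := by
  induction j, hij using Nat.le_induction with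
  | base =>
    have : homOfLE (le_refl i) = 𝟙 i := rfl
    rw [this, CategoryTheory.Functor.map_id, CategoryTheory.Functor.map_id]
    infer_instance
  | succ j hij ih =>
    have e : homOfLE (hij.trans (Nat.le_add_right j 1)) =
        homOfLE hij ≫ homOfLE (Nat.le_add_right j 1) := rfl
    have h1 := h j (hi.trans hij)
    rw [e, Functor.map_comp, Functor.map_comp, Functor.ofSequence_map_homOfLE_succ]
    exact @IsIso.comp_isIso _ _ _ _ _ _ _ ih h1

lemma isEventuallyConstantFrom_ofSequence {D E : Type*} [Category D] [Category E] {X : ℕ → D}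
    (f : ∀ n, X n ⟶ X (n + 1)) (H : D ⥤ E) (n₀ : ℕ) (h : ∀ n, n₀ ≤ n → IsIso (H.map (f n))) :
    (Functor.ofSequence f ⋙ H).IsEventuallyConstantFrom n₀ := by
  intro j φ
  have := isIso_map_ofSequence f H n₀ h n₀ j le_rfl (leOfHom φ)
  exact this

variable {C : Type u} [Category.{v} C] [Abelian C]

/-- a sequence of complexes which is eventually constant in each degree has a colimit, computed
degreewise. -/
theorem exists_colimit (X : ℕ → CochainComplex C ℤ) (f : ∀ n, X n ⟶ X (n + 1)) (κ : ℤ → ℕ)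
    (hκ : ∀ k n, κ k ≤ n → IsIso ((f n).f k)) :
    ∃ (Y : CochainComplex C ℤ) (ι : ∀ n, X n ⟶ Y), (∀ n, f n ≫ ι (n + 1) = ι n) ∧
      (∀ k n, κ k ≤ n → IsIso ((ι n).f k)) ∧
      (∀ (Z : CochainComplex C ℤ) (g : ∀ n, X n ⟶ Z), (∀ n, f n ≫ g (n + 1) = g n) →
        ∃ d : Y ⟶ Z, ∀ n, ι n ≫ d = g n) := by
  have hec : ∀ k : ℤ, (Functor.ofSequence f ⋙
      HomologicalComplex.eval C (ComplexShape.up ℤ) k).IsEventuallyConstantFrom (κ k) := fun k =>
    isEventuallyConstantFrom_ofSequence f (HomologicalComplex.eval C (ComplexShape.up ℤ) k) (κ k)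
      (hκ k)
  have : ∀ k : ℤ, HasColimit (Functor.ofSequence f ⋙
      HomologicalComplex.eval C (ComplexShape.up ℤ) k) := fun k => (hec k).hasColimit
  refine ⟨colimit (Functor.ofSequence f), fun n => colimit.ι (Functor.ofSequence f) n, ?_, ?_, ?_⟩
  · intro n
    rw [← Functor.ofSequence_map_homOfLE_succ f n]
    exact colimit.w (Functor.ofSequence f) (homOfLE (Nat.le_add_right n 1))
  · intro k n hn
    exact (hec k).isIso_ι_of_isColimit'
      (isColimitOfPreserves (HomologicalComplex.eval C (ComplexShape.up ℤ) k)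
        (colimit.isColimit (Functor.ofSequence f))) n (homOfLE hn)
  · intro Z g hg
    let c : Cocone (Functor.ofSequence f) :=
      { pt := Z
        ι := NatTrans.ofSequence (G := (Functor.const ℕ).obj Z) g (fun n => by
          rw [Functor.ofSequence_map_homOfLE_succ]
          simp [hg n]) }
    exact ⟨colimit.desc _ c, fun n => colimit.ι_desc c n⟩

theorem quasiIsoAt_of_isIso_f {K L : CochainComplex C ℤ} (φ : K ⟶ L) (k : ℤ)
    (h₀ : IsIso (φ.f (k - 1))) (h₁ : IsIso (φ.f k)) (h₂ : IsIso (φ.f (k + 1))) :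
    QuasiIsoAt φ k := by
  rw [quasiIsoAt_iff' _ (k - 1) k (k + 1) (by simp) (by simp)]
  let ψ := (HomologicalComplex.shortComplexFunctor' C (ComplexShape.up ℤ)
    (k - 1) k (k + 1)).map φ
  have : IsIso ψ.τ₁ := h₀
  have : IsIso ψ.τ₂ := h₁
  have : IsIso ψ.τ₃ := h₂
  apply ShortComplex.quasiIso_of_epi_of_isIso_of_mono

end Seq


section Tower

variable {C : Type u} [Category.{v} C] [Abelian C] [HasDerivedCategory.{w} C]

/-- a stage of the tower. -/
structure St (P : ObjectProperty C) (n : ℤ) (F : CochainComplex C ℤ) (k : ℕ) where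
  E : CochainComplex C ℤ
  u : E ⟶ F
  pc : PCoh.IsStrictPCAll P E
  qi : IsNQuasiIso (n - k) u

/-- the standing hypotheses. -/
structure Hyp (P : ObjectProperty C) (F : CochainComplex C ℤ) : Prop where
  iso : P.IsClosedUnderIsomorphisms
  zero : P.ContainsZero
  hsum : ∀ X Y : C, P X → P Y → P (X ⨯ Y)
  hqs : PCoh.IsQuasiStableUnderKernels P
  hql : PCoh.IsQuasiLiftable P
  hF : ∀ m : ℤ, IsNPC P m (DerivedCategory.Q.obj F)

namespace St

variable {P : ObjectProperty C} {n : ℤ} {F : CochainComplex C ℤ} (H : Hyp P F)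

include H in
theorem exists_next {k : ℕ} (S : St P n F k) :
    ∃ (S' : St P n F (k + 1)) (v : S.E ⟶ S'.E), v ≫ S'.u = S.u ∧ (∀ i : ℤ, Mono (v.f i)) ∧
      (∀ i : ℤ, i ≠ n - k - 1 → IsIso (v.f i)) := by
  have := H.iso
  have := H.zero
  have hu : IsNQuasiIso (n - k - 1 + 1) S.u := by
    have : n - (k : ℤ) - 1 + 1 = n - k := by ring
    rw [this]; exact S.qi
  obtain ⟨E', v, u', hvu, hmono, hiso, hP, hu'⟩ :=
    exists_step' P H.hsum H.hqs H.hql (n - k - 1) S.E F S.u hu
      (isNPC_of_isStrictPC P (isStrictPC_of_isStrictPCAll S.pc _)) (H.hF _)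
  have hE' : PCoh.IsStrictPCAll P E' := by
    obtain ⟨⟨b, hb⟩, hEP⟩ := S.pc
    refine ⟨⟨max b (n - k - 1), fun i hi => ?_⟩, fun i => ?_⟩
    · have := hiso i (by intro h; rw [h] at hi; exact absurd hi (by simp))
      exact isZero_of_isIso (v.f i) (hb i (lt_of_le_of_lt (le_max_left _ _) hi))
    · by_cases h : i = n - k - 1
      · subst h
        exact hP (hEP _)
      · have := hiso i h
        exact P.prop_of_iso (asIso (v.f i)) (hEP i)
  refine ⟨⟨E', u', hE', ?_⟩, v, hvu, hmono, hiso⟩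
  have : n - ((k + 1 : ℕ) : ℤ) = n - k - 1 := by push_cast; ring
  rw [this]; exact hu'

/-- the next stage. -/
noncomputable def next {k : ℕ} (S : St P n F k) : St P n F (k + 1) := (S.exists_next H).choose

/-- the transition map. -/
noncomputable def j {k : ℕ} (S : St P n F k) : S.E ⟶ (S.next H).E :=
  (S.exists_next H).choose_spec.choose

theorem j_u {k : ℕ} (S : St P n F k) : S.j H ≫ (S.next H).u = S.u :=
  (S.exists_next H).choose_spec.choose_spec.1

theorem mono_j_f {k : ℕ} (S : St P n F k) (i : ℤ) : Mono ((S.j H).f i) :=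
  (S.exists_next H).choose_spec.choose_spec.2.1 i

theorem isIso_j_f {k : ℕ} (S : St P n F k) (i : ℤ) (hi : i ≠ n - k - 1) : IsIso ((S.j H).f i) :=
  (S.exists_next H).choose_spec.choose_spec.2.2 i hi

/-- the tower. -/
noncomputable def st (S₀ : St P n F 0) : ∀ k : ℕ, St P n F k
  | 0 => S₀
  | k + 1 => (st S₀ k).next H

end St

open St in
/-- infinitely many modifications. -/
theorem exists_infinite_iteration (P : ObjectProperty C) [P.IsClosedUnderIsomorphisms]
    [P.ContainsZero] (hsum : ∀ X Y : C, P X → P Y → P (X ⨯ Y))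
    (hqs : PCoh.IsQuasiStableUnderKernels P) (hql : PCoh.IsQuasiLiftable P)
    (n : ℤ) (E F : CochainComplex C ℤ) (hE : PCoh.IsStrictPCAll P E)
    (hF : PCoh.IsPC P (DerivedCategory.Q.obj F)) (u : E ⟶ F) (hu : IsNQuasiIso n u) :
    ∃ (E' : CochainComplex C ℤ) (v : E ⟶ E') (u' : E' ⟶ F), v ≫ u' = u ∧
      PCoh.IsStrictPCAll P E' ∧ QuasiIso u' ∧ (∀ j : ℤ, Mono (v.f j)) ∧
      (∀ j : ℤ, n ≤ j → IsIso (v.f j)) := by
  have H : Hyp P F := ⟨inferInstance, inferInstance, hsum, hqs, hql, hF⟩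
  let S₀ : St P n F 0 := ⟨E, u, hE, by simpa using hu⟩
  let X : ℕ → CochainComplex C ℤ := fun k => (st H S₀ k).E
  let f : ∀ k, X k ⟶ X (k + 1) := fun k => (st H S₀ k).j H
  let κ : ℤ → ℕ := fun i => (n - i).toNat
  have hκ : ∀ i k, κ i ≤ k → IsIso ((f k).f i) := by
    intro i k hk
    refine (st H S₀ k).isIso_j_f H i ?_
    have h1 : n - i ≤ ((n - i).toNat : ℤ) := Int.self_le_toNat _
    have h2 : ((n - i).toNat : ℤ) ≤ k := by exact_mod_cast hk
    omega
  obtain ⟨Y, ι, hι, hιiso, hdesc⟩ := exists_colimit X f κ hκ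
  obtain ⟨d, hd⟩ := hdesc F (fun k => (st H S₀ k).u) (fun k => (st H S₀ k).j_u H)
  have hcomp : ∀ k : ℕ, ∃ g : E ⟶ X k, (∀ i, Mono (g.f i)) ∧ g ≫ ι k = ι 0 := by
    intro k
    induction k with
    | zero =>
      refine ⟨𝟙 _, fun i => ?_, Category.id_comp _⟩
      rw [HomologicalComplex.id_f]; infer_instance
    | succ k ih =>
      obtain ⟨g, hg, hgι⟩ := ih
      refine ⟨g ≫ f k, fun i => ?_, by rw [Category.assoc, hι, hgι]⟩
      rw [HomologicalComplex.comp_f]
      have := hg i
      have := (st H S₀ k).mono_j_f H i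
      exact mono_comp _ _
  refine ⟨Y, ι 0, d, hd 0, ?_, ?_, ?_, ?_⟩
  · obtain ⟨⟨b, hb⟩, _⟩ := hE
    refine ⟨⟨max b n, fun i hi => ?_⟩, fun i => ?_⟩
    · have : IsIso ((ι 0).f i) := hιiso i 0 (by
        have : n - i ≤ 0 := by
          have := lt_of_le_of_lt (le_max_right b n) hi
          omega
        simp [κ, Int.toNat_of_nonpos this])
      exact isZero_of_isIso ((ι 0).f i) (hb i (lt_of_le_of_lt (le_max_left _ _) hi))
    · have := hιiso i (κ i) le_rfl
      exact P.prop_of_iso (asIso ((ι (κ i)).f i)) ((st H S₀ (κ i)).pc.2 i)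
  · rw [quasiIso_iff]
    intro i
    -- choose a large stage
    let k : ℕ := max (max (κ (i - 1)) (κ i)) (max (κ (i + 1)) (n - i + 1).toNat)
    have hk1 : κ (i - 1) ≤ k := le_trans (le_max_left _ _) (le_max_left _ _)
    have hk2 : κ i ≤ k := le_trans (le_max_right _ _) (le_max_left _ _)
    have hk3 : κ (i + 1) ≤ k := le_trans (le_max_left _ _) (le_max_right _ _)
    have hk4 : (n - i + 1).toNat ≤ k := le_trans (le_max_right _ _) (le_max_right _ _)
    have hq : QuasiIsoAt (ι k) i :=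
      quasiIsoAt_of_isIso_f (ι k) i (hιiso _ k hk1) (hιiso _ k hk2) (hιiso _ k hk3)
    have hqu : QuasiIsoAt (st H S₀ k).u i := by
      rw [quasiIsoAt_iff_isIso_homologyMap]
      refine (st H S₀ k).qi.1 i ?_
      have h1 : n - i + 1 ≤ ((n - i + 1).toNat : ℤ) := Int.self_le_toNat _
      have h2 : ((n - i + 1).toNat : ℤ) ≤ k := by exact_mod_cast hk4
      omega
    rw [← hd k] at hqu
    exact (quasiIsoAt_iff_comp_left (ι k) d i).1 hqu
  · intro i
    obtain ⟨g, hg, hgι⟩ := hcomp (κ i)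
    have := hιiso i (κ i) le_rfl
    have := hg i
    rw [← hgι, HomologicalComplex.comp_f]
    exact mono_comp _ _
  · intro i hi
    exact hιiso i 0 (by simp [κ, Int.toNat_of_nonpos (show n - i ≤ 0 by omega)])

end Tower

end Groth.Agent.Lib.Helper1.PCohTower
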