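import Groth.Agent.Lib.Helper1PCohB

/-! Pseudo-coherence (punctual site): strictly pseudo-coherent resolutions; the functor
`K⁻(C₀)/acyclic ⟶ D(C)` is full and faithful onto pseudo-coherent objects (helper1). -/
set_option autoImplicit false
set_option backward.isDefEq.respectTransparency false
set_option backward.isDefEq.respectTransparency.types false
set_option maxHeartbeats 400000
universe w v u
open CategoryTheory CategoryTheory.Limits CochainComplex ZeroObject

namespace Groth.Agent.Lib.Helper1.PCohTower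

open Groth.Agent.Lib.Helper17.PCoh9 Groth.Agent.Lib.Helper17.PCoh10 Groth.Agent.Lib.Helper17.PCoh12

variable {C : Type u} [Category.{v} C] [Abelian C] [HasDerivedCategory.{w} C]
variable (P : ObjectProperty C) [P.IsClosedUnderIsomorphisms] [P.ContainsZero]
  (hsum : ∀ X Y : C, P X → P Y → P (X ⨯ Y))
  (hqs : PCoh.IsQuasiStableUnderKernels P) (hql : PCoh.IsQuasiLiftable P)

include hsum hqs hql in
/-- a pseudo-coherent complex acyclic in degrees `≥ m` has a strictly pseudo-coherent resolution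
which is zero in degrees `≥ m`. -/
theorem exists_strictPCAll_quasiIso_of_acyclic (F : CochainComplex C ℤ)
    (hF : PCoh.IsPC P (DerivedCategory.Q.obj F)) (m : ℤ)
    (hac : ∀ i : ℤ, m ≤ i → IsZero (F.homology i)) :
    ∃ (E : CochainComplex C ℤ) (u : E ⟶ F), PCoh.IsStrictPCAll P E ∧ QuasiIso u ∧
      ∀ i : ℤ, m ≤ i → IsZero (E.X i) := by
  have hz : ∀ i : ℤ, IsZero ((0 : CochainComplex C ℤ).X i) := fun i =>
    (HomologicalComplex.eval C (ComplexShape.up ℤ) i).map_isZero (isZero_zero _)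
  have h0 : PCoh.IsStrictPCAll P (0 : CochainComplex C ℤ) :=
    ⟨⟨0, fun i _ => hz i⟩, fun i => P.prop_of_isZero (hz i)⟩
  have hu : IsNQuasiIso m (0 : (0 : CochainComplex C ℤ) ⟶ F) := by
    refine ⟨fun i hi => ?_, epi_of_isZero_tgt _ (hac m le_rfl)⟩
    have h1 : IsZero ((0 : CochainComplex C ℤ).homology i) :=
      isZero_homology_of_isZero_X _ i (hz i)
    have h2 := hac i hi.le
    exact ⟨⟨0, h1.eq_of_src _ _, h2.eq_of_src _ _⟩⟩
  obtain ⟨E, v, u, _, hE, hq, _, hv⟩ :=
    exists_infinite_iteration P hsum hqs hql m 0 F h0 hF 0 hu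
  refine ⟨E, u, hE, hq, fun i hi => ?_⟩
  have := hv i hi
  exact isZero_of_isIso (v.f i) (hz i)

include hsum hqs hql in
/-- a pseudo-coherent complex has a strictly pseudo-coherent resolution. -/
theorem exists_strictPCAll_quasiIso (F : CochainComplex C ℤ)
    (hF : PCoh.IsPC P (DerivedCategory.Q.obj F)) :
    ∃ (E : CochainComplex C ℤ) (u : E ⟶ F), PCoh.IsStrictPCAll P E ∧ QuasiIso u := by
  obtain ⟨E₀, ⟨⟨b, hb⟩, _⟩, ⟨e⟩⟩ := hF 0
  have hac : ∀ i : ℤ, b + 1 ≤ i → IsZero (F.homology i) := fun i hi => by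
    have h1 : IsZero (E₀.homology i) := isZero_homology_of_isZero_X _ i (hb i (by omega))
    exact h1.of_iso ((homologyIsoQ F i).symm ≪≫
      (DerivedCategory.homologyFunctor C i).mapIso e.symm ≪≫ homologyIsoQ E₀ i)
  obtain ⟨E, u, hE, hq, _⟩ :=
    exists_strictPCAll_quasiIso_of_acyclic P hsum hqs hql F hF (b + 1) hac
  exact ⟨E, u, hE, hq⟩

omit [P.IsClosedUnderIsomorphisms] [P.ContainsZero] in
theorem isPC_of_isStrictPCAll {E : CochainComplex C ℤ} (hE : PCoh.IsStrictPCAll P E) :
    PCoh.IsPC P (DerivedCategory.Q.obj E) :=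
  fun n => ⟨E, isStrictPC_of_isStrictPCAll hE n, ⟨Iso.refl _⟩⟩

omit [P.IsClosedUnderIsomorphisms] [P.ContainsZero] in
theorem isPC_of_iso {F F' : DerivedCategory C} (e : F ≅ F') (h : PCoh.IsPC P F) :
    PCoh.IsPC P F' := fun n => isNPC_of_iso P e (h n)

omit [P.IsClosedUnderIsomorphisms] [P.ContainsZero] in
theorem isPC_of_quasiIso {X E : CochainComplex C ℤ} (s : X ⟶ E) [QuasiIso s]
    (h : PCoh.IsPC P (DerivedCategory.Q.obj E)) : PCoh.IsPC P (DerivedCategory.Q.obj X) :=
  isPC_of_iso P (asIso (DerivedCategory.Q.map s)).symm h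

/-- equality in the derived category is witnessed by a homotopy after precomposition with a
quasi-isomorphism. -/
theorem exists_quasiIso_homotopy_of_Q_map_eq {E E' : CochainComplex C ℤ} (f g : E ⟶ E')
    (hfg : DerivedCategory.Q.map f = DerivedCategory.Q.map g) :
    ∃ (X : CochainComplex C ℤ) (t : X ⟶ E), QuasiIso t ∧ Nonempty (Homotopy (t ≫ f) (t ≫ g)) := by
  have h1 : DerivedCategory.Qh.map ((HomotopyCategory.quotient _ _).map f) =
      DerivedCategory.Qh.map ((HomotopyCategory.quotient _ _).map g) := by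
    have e := (DerivedCategory.quotientCompQhIso C)
    have hf := e.hom.naturality f
    have hg := e.hom.naturality g
    simp only [Functor.comp_map] at hf hg
    rw [← cancel_mono (e.hom.app E'), hf, hg, hfg]
  rw [MorphismProperty.map_eq_iff_precomp DerivedCategory.Qh
    (HomotopyCategory.quasiIso C (ComplexShape.up ℤ))] at h1
  obtain ⟨X, s, hs, hsfg⟩ := h1
  obtain ⟨X, rfl⟩ := HomotopyCategory.quotient_obj_surjective X
  obtain ⟨t, rfl⟩ := (HomotopyCategory.quotient _ _).map_surjective s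
  rw [HomotopyCategory.quotient_map_mem_quasiIso_iff] at hs
  refine ⟨X, t, hs, ⟨HomotopyCategory.homotopyOfEq _ _ ?_⟩⟩
  rw [Functor.map_comp, Functor.map_comp, hsfg]

end Groth.Agent.Lib.Helper1.PCohTower
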