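import Mathlib
import Groth.Agent.Lib.Helper1ChartLevel
import Groth.Agent.Lib.Helper1TorT6
set_option backward.isDefEq.respectTransparency.types false
set_option autoImplicit false
set_option linter.style.haveILetI false
set_option maxHeartbeats 400000
universe u
open CategoryTheory CategoryTheory.Limits AlgebraicGeometry Opposite TopologicalSpace Pretriangulated

attribute [local instance] HasDerivedCategory.standard

namespace Groth.Agent.Lib.Helper1.ChartInd

open Groth.Agent.Lib.Helper1.TQ Groth.Agent.Lib.Helper1.Restrict Groth.Agent.Lib.Helper1.Tor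

section Ring

variable {R : Type u} [CommRing R]

/-- a module whose `[0]` has tor amplitude in `[0, 0]` is flat -/
theorem flat_of_hasTorAmp_single (T : ModuleCat.{u} R)
    (h : DRing.HasTorAmplitudeIn R 0 0
      ((DerivedCategory.singleFunctor (ModuleCat.{u} R) 0).obj T)) : Module.Flat R T := by
  obtain ⟨E, hv, hfl, ⟨e⟩⟩ := h
  haveI : E.IsStrictlyGE 0 := by
    rw [CochainComplex.isStrictlyGE_iff]
    intro i hi
    exact hv i (Or.inl hi)
  haveI : E.IsStrictlyLE 0 := by
    rw [CochainComplex.isStrictlyLE_iff]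
    intro i hi
    exact hv i (Or.inr hi)
  obtain ⟨M', ⟨e'⟩⟩ := CochainComplex.exists_iso_single E 0
  have e1 : E.X 0 ≅ M' :=
    (HomologicalComplex.eval _ _ 0).mapIso e' ≪≫
      HomologicalComplex.singleObjXSelf (ComplexShape.up ℤ) 0 M'
  have e2 : (DerivedCategory.singleFunctor (ModuleCat.{u} R) 0).obj M' ≅
      (DerivedCategory.singleFunctor (ModuleCat.{u} R) 0).obj T :=
    (DerivedCategory.singleFunctorIsoCompQ (ModuleCat.{u} R) 0).app M' ≪≫
      DerivedCategory.Q.mapIso e'.symm ≪≫ e
  have e3 : M' ≅ T :=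
    ((DerivedCategory.singleFunctorCompHomologyFunctorIso (ModuleCat.{u} R) 0).app M').symm ≪≫
      (DerivedCategory.homologyFunctor _ 0).mapIso e2 ≪≫
      (DerivedCategory.singleFunctorCompHomologyFunctorIso (ModuleCat.{u} R) 0).app T
  haveI := hfl 0
  exact Module.Flat.of_linearEquiv (e1 ≪≫ e3).symm.toLinearEquiv

theorem hasTorAmp_single_iff_flat (T : ModuleCat.{u} R) :
    DRing.HasTorAmplitudeIn R 0 0
      ((DerivedCategory.singleFunctor (ModuleCat.{u} R) 0).obj T) ↔ Module.Flat R T :=
  ⟨flat_of_hasTorAmp_single T, fun h => by haveI := h; exact hasTorAmp_single_of_flat T⟩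

lemma flat_BoverA_iff {A B : Type u} [CommRing A] [CommRing B] (ψ : A →+* B) :
    Module.Flat A (BoverA ψ) ↔ ψ.Flat := by
  letI := ψ.toAlgebra
  let e : (BoverA ψ) ≃ₗ[A] B :=
    { toFun := fun b => b
      invFun := fun b => b
      map_add' := fun _ _ => rfl
      map_smul' := fun _ _ => rfl
      left_inv := fun _ => rfl
      right_inv := fun _ => rfl }
  exact ⟨fun h => by haveI := h; exact Module.Flat.of_linearEquiv e.symm,
    fun h => by haveI : Module.Flat A B := h; exact Module.Flat.of_linearEquiv e⟩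

end Ring

section Geom

variable {X Y : Scheme.{u}} (f : X ⟶ Y)

/-- tor dimension `≤ 0` is flatness -/
theorem hasTorDimLE_zero_iff_flat : DerSch.HasTorDimLE f 0 ↔ Flat f := by
  rw [Flat.iff_flat_stalkMap]
  refine forall_congr' fun x => ?_
  rw [← flat_BoverA_iff, ← hasTorAmp_single_iff_flat]
  show DRing.HasTorAmplitudeIn _ (-((0 : ℕ) : ℤ)) 0 _ ↔ _
  rw [Nat.cast_zero, neg_zero]
  exact ⟨hasTorAmp_of_iso (stalkCxOverUnitIso f x), hasTorAmp_of_iso (stalkCxOverUnitIso f x).symm⟩

/-- **S6214** -/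
theorem hasPerfDimLE_zero_iff [LocallyOfFiniteType f] :
    DerSch.HasPerfDimLE f 0 ↔ (Flat f ∧ LocallyOfFinitePresentation f) := by
  constructor
  · rintro ⟨hpc, htor⟩
    exact ⟨(hasTorDimLE_zero_iff_flat f).1 htor, (isNPseudoCoherent_negOne_iff f).1 (hpc (-1))⟩
  · rintro ⟨hfl, hfp⟩
    exact ⟨fun n => isNPseudoCoherent_of_flat f n, (hasTorDimLE_zero_iff_flat f).2 hfl⟩

end Geom

end Groth.Agent.Lib.Helper1.ChartInd
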