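import Mathlib
import Groth.Agent.Lib.Helper1PerfHomC
import Groth.Agent.Lib.Helper17WayOut
set_option backward.isDefEq.respectTransparency.types false

/-!
# helper1: maps from large negative shifts of a perfect object see only the truncation `τ_{≥ a}`
-/

set_option autoImplicit false
set_option linter.style.haveILetI false
set_option linter.unusedSectionVars false
set_option maxHeartbeats 400000
universe w v u
open CategoryTheory CategoryTheory.Limits AlgebraicGeometry Opposite TopologicalSpace Pretriangulated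

attribute [local instance] HasDerivedCategory.standard

namespace Groth.Agent.Lib.Helper1.PerfHom

open Groth.Agent.Lib.Helper1.SPL DerivedCategory

variable {X : Scheme.{u}}

theorem HomVan.shift {K : DCoh.D X} {a b : ℤ} (h : HomVan K a b) (m : ℤ) :
    HomVan (K⟦m⟧) (a - m) (b - m) := by
  intro L hL hz φ
  have h1 : (shiftEquiv (DCoh.D X) m).unitIso.hom.app K ≫
      (shiftFunctor (DCoh.D X) (-m)).map φ = 0 :=
    h _ (isQCohD_shift L hL (-m))
      (fun i hi hi' => IsZero.of_iso (hz (-m + i) (by lia) (by lia)) (HDShiftIso L (-m) i)) _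
  have h2 : (shiftFunctor (DCoh.D X) (-m)).map φ = 0 :=
    (cancel_epi ((shiftEquiv (DCoh.D X) m).unitIso.hom.app K)).1 (h1.trans comp_zero.symm)
  apply (shiftFunctor (DCoh.D X) (-m)).map_injective
  rw [h2, CategoryTheory.Functor.map_zero]

theorem isQCohD_truncLT (E : DCoh.D X) (hE : DCoh.IsQCohD E) (a : ℤ) :
    DCoh.IsQCohD ((TStructure.t.truncLT a).obj E) := by
  intro i
  let P : ObjectProperty X.Modules := fun M => M.IsQuasicoherent
  haveI : P.IsClosedUnderIsomorphisms :=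
    ⟨fun e h => (SheafOfModules.isQuasicoherent X.ringCatSheaf).prop_of_iso e h⟩
  exact Groth.Agent.Lib.Helper17.WayOut.prop_truncLT P
    (fun Z hZ => Groth.Agent.Lib.Helper17.QCPush.isQuasicoherent_of_isZero hZ) E a hE i

theorem hom_shift_vanishing_iff_truncGE (X : Scheme.{u}) [CompactSpace ↥X] [QuasiSeparatedSpace ↥X]
    (P : DCoh.D X) (hP : DCoh.IsPerfect P) (E : DCoh.D X) (hE : DCoh.IsQCohD E) (a : ℤ) :
    (∃ N : ℤ, ∀ i : ℤ, N ≤ i → ∀ φ : P⟦-i⟧ ⟶ E, φ = 0) ↔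
    (∃ N : ℤ, ∀ i : ℤ, N ≤ i → ∀ φ : P⟦-i⟧ ⟶ (TStructure.t.truncGE a).obj E, φ = 0) := by
  obtain ⟨a₀, b₀, hab, h⟩ := exists_homVan X P hP
  let T := (TStructure.t.triangleLTGE a).obj E
  have hT : T ∈ distTriang _ := TStructure.t.triangleLTGE_distinguished a E
  have hLq : DCoh.IsQCohD T.obj₁ := isQCohD_truncLT E hE a
  have hLz : ∀ k : ℤ, a ≤ k → IsZero (DCoh.HD T.obj₁ k) := fun k hk =>
    isZero_of_isLE ((TStructure.t.truncLT a).obj E) (a - 1) k (by lia)
  have c1 : ∀ i : ℤ, a - a₀ ≤ i → ∀ ψ : P⟦-i⟧ ⟶ T.obj₁, ψ = 0 := by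
    intro i hi ψ
    exact (h.shift (-i)) _ hLq (fun j hj hj' => hLz j (by lia)) ψ
  have c2 : ∀ i : ℤ, a - a₀ ≤ i → ∀ ψ : P⟦-i⟧ ⟶ T.obj₁⟦(1 : ℤ)⟧, ψ = 0 := by
    intro i hi ψ
    exact (h.shift (-i)) _ (isQCohD_shift _ hLq 1)
      (fun j hj hj' => IsZero.of_iso (hLz (1 + j) (by lia)) (HDShiftIso _ 1 j)) ψ
  constructor
  · rintro ⟨N, hN⟩
    refine ⟨max N (a - a₀), fun i hi φ => ?_⟩
    have h3 : φ ≫ T.mor₃ = 0 := c2 i ((le_max_right _ _).trans hi) _
    obtain ⟨ψ, hψ⟩ := Triangle.coyoneda_exact₃ T hT φ h3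
    rw [hψ, show ψ = 0 from hN i ((le_max_left _ _).trans hi) ψ]
    exact zero_comp
  · rintro ⟨N, hN⟩
    refine ⟨max N (a - a₀), fun i hi φ => ?_⟩
    have h3 : φ ≫ T.mor₂ = 0 := hN i ((le_max_left _ _).trans hi) _
    obtain ⟨ψ, hψ⟩ := Triangle.coyoneda_exact₂ T hT φ h3
    rw [hψ, show ψ = 0 from c1 i ((le_max_right _ _).trans hi) ψ]
    exact zero_comp

end Groth.Agent.Lib.Helper1.PerfHom
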