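import Mathlib
import Groth.Agent.Lib.Helper1ChartLevel
import Groth.Agent.Lib.Helper5PCHom
import Groth.Agent.S6946
import Groth.Agent.S6954
set_option backward.isDefEq.respectTransparency.types false
set_option autoImplicit false
set_option linter.style.haveILetI false
set_option maxHeartbeats 400000
universe u
open CategoryTheory CategoryTheory.Limits AlgebraicGeometry Opposite TopologicalSpace Pretriangulated

attribute [local instance] HasDerivedCategory.standard

namespace Groth.Agent.Lib.Helper1.ChartInd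

open Groth.Agent.Lib.Helper1.SPL Groth.Agent.Lib.Helper1.Sky ZeroObject
open Groth.Agent.Lib.Helper1.ClosedPC Groth.Agent.Lib.Helper1.ChartPC
open Groth.Agent.Lib.Helper1.KoszulPerf Groth.Agent.Lib.Helper1.TildePC
open Groth.Agent.Lib.Helper1.Restrict Groth.Agent.Lib.Helper1.RelPC Groth.Agent.Lib.Helper1.PC
open Groth.Agent.Lib.Helper5.PCHom

section Ring

variable {R B : Type u} [CommRing R] [CommRing B]

/-- the target of a surjective perfect ring map is a perfect module over the source -/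
theorem isPerfect_of_isPerfectHom_of_surjective (γ : R →+* B) (hγ : Function.Surjective γ)
    (h : @MoreMor.IsPerfectHom R B _ _ γ.toAlgebra) :
    letI := γ.toAlgebra
    DRing.IsPerfect R (Dual.inD R B) := by
  letI := γ.toAlgebra
  let e : MvPolynomial (Fin 0) R ≃ₐ[R] R := MvPolynomial.isEmptyAlgEquiv R (Fin 0)
  let β : MvPolynomial (Fin 0) R →ₐ[R] B := (Algebra.ofId R B).comp e.toAlgHom
  have hβ : Function.Surjective β := by
    intro b
    obtain ⟨r, rfl⟩ := hγ b
    exact ⟨e.symm r, by simp [β]; rfl⟩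
  have h1 : PCMod β.toRingHom := pcMod_of_isPseudoCoherentHom h.1 β hβ
  let ε : R ≃+* MvPolynomial (Fin 0) R := e.symm.toRingEquiv
  have hρ : PCMod (ε : R →+* MvPolynomial (Fin 0) R) := pcMod_ringEquiv ε
  have h2 := (pcMod_comp_iff (ε : R →+* MvPolynomial (Fin 0) R) β.toRingHom hρ).1 h1
  have hcomp : β.toRingHom.comp (ε : R →+* MvPolynomial (Fin 0) R) = γ := by
    ext r
    simp [β, ε]
    rfl
  rw [hcomp] at h2
  have hpc : DRing.IsPseudoCoherent' R (Dual.inD R B) := h2
  obtain ⟨n, hn⟩ := h.2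
  have htor : DRing.HasFiniteTorDimCx R (Dual.inD R B) :=
    ⟨-(n : ℤ), 0, (Groth.Agent.S6946.result R B n).1.1 hn⟩
  exact (Groth.Agent.S6954.result R (Dual.inD R B)).2 ⟨hpc, htor⟩

end Ring

section Geom

variable {Z X : Scheme.{u}} (i : Z ⟶ X) [IsClosedImmersion i]

/-- **S7175** -/
theorem isPerfect_pushforward_structure_of_isPerfectMor (hi : MoreMor.IsPerfectMor i) :
    DCoh.IsPerfect (DCoh.inD X (MM i)) := by
  rw [isPerfect_iff_hasPres]
  intro x
  obtain ⟨U, hU, hxU, -⟩ := Opens.isBasis_iff_nbhd.1 X.isBasis_affineOpens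
    (show x ∈ (⊤ : X.Opens) from trivial)
  have hV : IsAffineOpen (i ⁻¹ᵁ U) := hU.preimage i
  have hsurj : Function.Surjective (i.app U).hom := Scheme.Hom.app_surjective i _ hU
  have hperf := hi (i ⁻¹ᵁ U) U hV hU le_rfl
  have happ : (i.appLE U (i ⁻¹ᵁ U) le_rfl) = i.app U := by
    simp [Scheme.Hom.appLE]
  rw [happ] at hperf
  have hP := isPerfect_of_isPerfectHom_of_surjective (i.app U).hom hsurj hperf
  let I : Ideal Γ(X, U) := RingHom.ker (i.app U).hom
  have hP' : DRing.IsPerfect Γ(X, U) ((DerivedCategory.singleFunctor _ 0).obj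
      (ModuleCat.of Γ(X, U) (Γ(X, U) ⧸ I))) := by
    letI := (i.app U).hom.toAlgebra
    refine Groth.Agent.Lib.Helper17.DCompare.isPerfect_of_iso ?_ hP
    exact (DerivedCategory.singleFunctor _ 0).mapIso
      ((restrictScalarsAlgebraIso (A := Γ(X, U)) (B := Γ(Z, i ⁻¹ᵁ U)) Γ(Z, i ⁻¹ᵁ U)).symm ≪≫
        (quotKerIso (i.app U).hom hsurj).symm)
  have hp : DCoh.IsPerfect ((resD hU.fromSpec).obj (DCoh.inD X (MM i))) := by
    have e1 : (resD hU.fromSpec).obj (DCoh.inD X (MM i)) ≅
        DCoh.inD (Spec Γ(X, U)) (NN i hU) :=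
      ((Scheme.Modules.restrictFunctor hU.fromSpec).mapDerivedCategorySingleFunctor 0).app (MM i)
    have e2 : DCoh.inD (Spec Γ(X, U)) (NN i hU) ≅ DCoh.inD (Spec Γ(X, U))
        (tilde (ModuleCat.of Γ(X, U) (Γ(X, U) ⧸ I))) :=
      (DerivedCategory.singleFunctor _ 0).mapIso (restrictIsoTilde i hU I rfl)
    have e3 : (tildeD' Γ(X, U)).obj ((DerivedCategory.singleFunctor _ 0).obj
        (ModuleCat.of Γ(X, U) (Γ(X, U) ⧸ I))) ≅
        DCoh.inD (Spec Γ(X, U)) (tilde (ModuleCat.of Γ(X, U) (Γ(X, U) ⧸ I))) :=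
      ((tilde.functor (CommRingCat.of Γ(X, U))).mapDerivedCategorySingleFunctor 0).app _
    exact Groth.Agent.Lib.Helper4.PerfSupp.isPerfect_of_iso (e3 ≪≫ e2.symm ≪≫ e1.symm)
      (isPerfect_tildeD' _ _ hP')
  have hx' : x ∈ hU.fromSpec.opensRange := by rw [hU.opensRange_fromSpec]; exact hxU
  obtain ⟨y, rfl⟩ := hx'
  exact hasPres_of_resD hU.fromSpec _ y ((isPerfect_iff_hasPres _).1 hp y)

end Geom

end Groth.Agent.Lib.Helper1.ChartInd
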