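import Mathlib
import Groth.Agent.Lib.Helper1PerfProjF
import Groth.Agent.Lib.Helper1FLF2
import Groth.Agent.Lib.Helper1LDer4
set_option backward.isDefEq.respectTransparency.types false

/-!
# helper1: the projection formula `Rf_* E ⊗^L P ≅ Rf_*(E ⊗^L f^* P)` for `P` K-flat and perfect
-/

set_option autoImplicit false
set_option linter.style.haveILetI false
set_option linter.unusedSectionVars false
set_option maxHeartbeats 400000
universe u
open CategoryTheory CategoryTheory.Limits AlgebraicGeometry HomologicalComplex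

attribute [local instance] HasDerivedCategory.standard

namespace Groth.Agent.Lib.Helper1.PerfProj

open Groth.Agent.Lib.Helper1.PT Groth.Agent.Lib.Helper1.Proj Groth.Agent.Lib.Helper1.BKF
  Groth.Agent.Lib.Helper1.ClProj Groth.Agent.Lib.Helper1.Sky Groth.Agent.Lib.Helper1.KBC
  Groth.Agent.Lib.Helper1.SPL Groth.Agent.Lib.Helper1.TQ Groth.Agent.Lib.Helper1.Germ
  Groth.Agent.Lib.Helper1.RpushRes Groth.Agent.Lib.Helper17.KInj Groth.Agent.Lib.Helper1.DAdj
  Groth.Agent.Lib.Helper1.FLF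

section free

variable {Y : Scheme.{u}}

lemma isFreeMod_of_isZero {M : Y.Modules} (hM : IsZero M) : IsFreeMod M := by
  refine ⟨0, ⟨hM.iso ?_⟩⟩
  rw [IsZero.iff_id_eq_zero]
  apply Sigma.hom_ext
  intro i
  exact Fin.elim0 i

/-- transporting a free presentation on an open of an open to the image open -/
lemma isFreeMod_pullback_homOfLE {V1 : Y.Opens} (M : (V1 : Scheme.{u}).Modules)
    (U : (V1 : Scheme.{u}).Opens) (n : ℕ)
    (e : M.restrict U.ι ≅ FlatMod.freeMod (U : Scheme.{u}) n) :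
    IsFreeMod ((Scheme.Modules.pullback (Y.homOfLE (V1.ι_image_le U))).obj M) :=
  ⟨n, ⟨(Scheme.Modules.pullbackCongr (Scheme.Opens.isoImage_ι_inv_ι V1 U).symm).app M ≪≫
    ((Scheme.Modules.pullbackComp (V1.ι.isoImage U).inv U.ι).app M).symm ≪≫
    (Scheme.Modules.pullback (V1.ι.isoImage U).inv).mapIso
      ((Scheme.Modules.restrictFunctorIsoPullback U.ι).symm.app M ≪≫ e) ≪≫
    Groth.Agent.Lib.Helper1.Fib.pullbackFreeModIso _ n⟩⟩

end free

section local_presentation

variable {Y : Scheme.{u}}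

/-- local structure of a perfect complex: near every point it is, in the derived category,
a bounded complex of finite free modules -/
lemma exists_local_free_presentation (P : CochainComplex Y.Modules ℤ)
    (hperf : DCoh.IsPerfect (DerivedCategory.Q.obj P)) (y : Y) :
    ∃ (V : Y.Opens) (_ : y ∈ V) (S : CochainComplex (V : Scheme.{u}).Modules ℤ) (a b : ℤ),
      (∀ i, i < a ∨ b < i → IsZero (S.X i)) ∧ (∀ i, IsFreeMod (S.X i)) ∧ DCoh.IsKFlat S ∧
        Nonempty (DerivedCategory.Q.obj ((resC V.ι).obj P) ≅ DerivedCategory.Q.obj S) := by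
  obtain ⟨V1, hy1, h1⟩ := hperf y
  obtain ⟨E1, hE1, ⟨i1⟩⟩ := h1 P ⟨Iso.refl _⟩
  have hE1' := hE1
  obtain ⟨⟨a, b, hv⟩, hfl⟩ := hE1'
  obtain ⟨U, n, hyU, e⟩ := exists_common_open (X := (V1 : Scheme.{u}))
    (J := ↥(Finset.Icc a b)) (fun j => E1.X j.1) (fun j => hfl j.1) ⟨y, hy1⟩
  have hle : V1.ι ''ᵁ U ≤ V1 := V1.ι_image_le U
  have hyV : y ∈ V1.ι ''ᵁ U := ⟨⟨y, hy1⟩, hyU, rfl⟩
  have hS0 : ∀ i, i < a ∨ b < i → IsZero (((pullC (Y.homOfLE hle)).obj E1).X i) := fun i hi =>
    (Scheme.Modules.pullback (Y.homOfLE hle)).map_isZero (hv i hi)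
  refine ⟨V1.ι ''ᵁ U, hyV, (pullC (Y.homOfLE hle)).obj E1, a, b, hS0, ?_, ?_, ?_⟩
  · intro i
    by_cases hi : a ≤ i ∧ i ≤ b
    · exact isFreeMod_pullback_homOfLE (E1.X i) U (n ⟨i, Finset.mem_Icc.2 hi⟩)
        (e ⟨i, Finset.mem_Icc.2 hi⟩).some
    · exact isFreeMod_of_isZero (hS0 i (by omega))
  · exact (kffs_of_isStrictlyPerfect _ (isStrictlyPerfect_pullC (Y.homOfLE hle) E1 hE1)).1
  · obtain ⟨r⟩ := nonempty_restrict_iso P hle E1 (kffs_of_isStrictlyPerfect E1 hE1).1 i1
    exact ⟨DerivedCategory.Q.mapIso ((resCIsoPullC (V1.ι ''ᵁ U).ι).app P) ≪≫ r⟩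

end local_presentation

section star

variable {X Y : Scheme.{u}} (f : X ⟶ Y) (I : CochainComplex X.Modules ℤ) [I.IsKInjective]

/-- **the key statement**: for `I` K-injective and `P` K-flat and perfect, the map
`f_* I ⊗ P ⟶ f_* R(I ⊗ f^* P)` is a quasi-isomorphism -/
theorem quasiIso_Psi (P : CochainComplex Y.Modules ℤ) (hP : DCoh.IsKFlat P)
    (hperf : DCoh.IsPerfect (DerivedCategory.Q.obj P)) : QuasiIso (Psi f I P) := by
  refine quasiIso_of_locally_quasiIso _ (fun y => ?_)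
  obtain ⟨V, hyV, S, a, b, hS0, hSfree, hSk, ⟨φ⟩⟩ := exists_local_free_presentation P hperf y
  refine ⟨V, hyV, ?_⟩
  obtain ⟨T', s, hs, g, hfac⟩ := DerivedCategory.right_fac φ.hom
  haveI := hs
  haveI hg : IsIso (DerivedCategory.Q.map g) := by
    have h : DerivedCategory.Q.map g = DerivedCategory.Q.map s ≫ φ.hom := by
      rw [hfac, IsIso.hom_inv_id_assoc]
    rw [h]
    infer_instance
  obtain ⟨T0, q0, hT, -, hq, -⟩ := exists_kflat_flat_resolution (O := (V : Scheme.{u}).sheaf) T'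
  obtain ⟨T, q, hT, hq⟩ : ∃ (T : CochainComplex (V : Scheme.{u}).Modules ℤ) (q : T ⟶ T'),
      DCoh.IsKFlat T ∧ QuasiIso q := ⟨T0, q0, hT, hq⟩
  haveI : QuasiIso q := hq
  haveI : QuasiIso s := (DerivedCategory.isIso_Q_map_iff_quasiIso (φ := s)).1 hs
  haveI : QuasiIso g := (DerivedCategory.isIso_Q_map_iff_quasiIso (φ := g)).1 hg
  have hT' : DCoh.IsKFlat T := hT
  have hPV := isKFlat_resC V.ι P hP
  have g3 : GoodOn f I V ((pushC V.ι).obj S) := goodOn_pushC f V I S a b hS0 hSfree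
  have g2 : GoodOn f I V ((pushC V.ι).obj T) :=
    (goodOn_iff f I V ((pushC V.ι).map (q ≫ g)) (isKFlat_resC_pushC V T hT')
      (isKFlat_resC_pushC V S hSk) (quasiIso_resC_pushC_map' V (q ≫ g))).2 g3
  have g1 : GoodOn f I V ((pushC V.ι).obj ((resC V.ι).obj P)) :=
    (goodOn_iff f I V ((pushC V.ι).map (q ≫ s)) (isKFlat_resC_pushC V T hT')
      (isKFlat_resC_pushC V _ hPV) (quasiIso_resC_pushC_map' V (q ≫ s))).1 g2
  exact (goodOn_iff f I V (unitC V P) hPV (isKFlat_resC_pushC V _ hPV) inferInstance).2 g1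

end star

section final

variable {X Y : Scheme.{u}} (f : X ⟶ Y)

/-- **S0961**: the projection formula `Rf_* E ⊗^L P ≅ Rf_*(E ⊗^L f^* P)` for an arbitrary
morphism `f` and a K-flat complex `P` representing a perfect object -/
theorem nonempty_projection_formula_perfect [DCoh.HasRpush f] (P : CochainComplex Y.Modules ℤ)
    (hP : DCoh.IsKFlat P) (hperf : DCoh.IsPerfect (DerivedCategory.Q.obj P))
    [DCoh.HasLTensorCx P]
    [DCoh.HasLTensorCx (((Scheme.Modules.pullback f).mapHomologicalComplex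
      (ComplexShape.up ℤ)).obj P)] (E : DCoh.D X) :
    Nonempty ((DCoh.LTensorCx P).obj ((DCoh.Rpush f).obj E) ≅
      (DCoh.Rpush f).obj ((DCoh.LTensorCx (((Scheme.Modules.pullback f).mapHomologicalComplex
        (ComplexShape.up ℤ)).obj P)).obj E)) := by
  haveI : DCoh.HasLpull f := Groth.Agent.Lib.Helper1.Sky.hasLpull f
  let P' : CochainComplex X.Modules ℤ := (pullC f).obj P
  have hP' : DCoh.IsKFlat P' := Groth.Agent.S0960.isKFlat_pullC f P hP
  haveI hI1 : ModSite.HasLTensorCx (O := Y.sheaf) P := (inferInstance : DCoh.HasLTensorCx P)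
  haveI hI2 : ModSite.HasLTensorCx (O := X.sheaf) P' := (inferInstance : DCoh.HasLTensorCx P')
  haveI q1 : QuasiIso (𝟙 P) := inferInstance
  haveI q2 : QuasiIso (𝟙 P') := inferInstance
  obtain ⟨t1⟩ := @nonempty_iso_Q_comp_LTensorCx _ _ _ Y.sheaf P P (𝟙 P) q1 hP hI1
  obtain ⟨t2⟩ := @nonempty_iso_Q_comp_LTensorCx _ _ _ X.sheaf P' P' (𝟙 P') q2 hP' hI2
  -- a K-injective representative of `E`
  let E' : CochainComplex X.Modules ℤ := DerivedCategory.Q.objPreimage E
  let e : DerivedCategory.Q.obj E' ≅ E := DerivedCategory.Q.objObjPreimageIso E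
  let I : CochainComplex X.Modules ℤ := (Rr X).obj E'
  haveI : IsIso (DerivedCategory.Q.map ((rho X).app E')) := by
    rw [DerivedCategory.isIso_Q_map_iff_quasiIso]
    infer_instance
  have eI : DerivedCategory.Q.obj I ≅ E := (asIso (DerivedCategory.Q.map ((rho X).app E'))).symm ≪≫ e
  -- the comparison maps at K-injective complexes
  haveI hβ1 : IsIso ((rpushNat f).app I) :=
    isIso_app_of_isKInjective (Scheme.Modules.pushforward f) (DCoh.Rpush f) (rpushNat f) I
  let J : CochainComplex X.Modules ℤ := (Rr X).obj ((Bf f I).obj P)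
  haveI hβ2 : IsIso ((rpushNat f).app J) :=
    isIso_app_of_isKInjective (Scheme.Modules.pushforward f) (DCoh.Rpush f) (rpushNat f) J
  -- the key quasi-isomorphism
  haveI := quasiIso_Psi f I P hP hperf
  haveI : IsIso (DerivedCategory.Q.map (Psi f I P)) := by
    rw [DerivedCategory.isIso_Q_map_iff_quasiIso]
    infer_instance
  haveI : IsIso (DerivedCategory.Q.map ((rho X).app ((Bf f I).obj P))) := by
    rw [DerivedCategory.isIso_Q_map_iff_quasiIso]
    infer_instance
  -- left hand side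
  have l1 : (DCoh.LTensorCx P).obj ((DCoh.Rpush f).obj E) ≅
      (DCoh.LTensorCx P).obj (DerivedCategory.Q.obj ((pushC f).obj I)) :=
    (DCoh.LTensorCx P).mapIso ((DCoh.Rpush f).mapIso eI.symm ≪≫ (asIso ((rpushNat f).app I)).symm)
  have l2 : (DCoh.LTensorCx P).obj (DerivedCategory.Q.obj ((pushC f).obj I)) ≅
      DerivedCategory.Q.obj ((DCoh.tensorCx.obj ((pushC f).obj I)).obj P) :=
    t1.app ((pushC f).obj I)
  have m : DerivedCategory.Q.obj ((DCoh.tensorCx.obj ((pushC f).obj I)).obj P) ≅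
      DerivedCategory.Q.obj ((pushC f).obj J) :=
    asIso (DerivedCategory.Q.map (Psi f I P))
  -- right hand side
  have r1 : (DCoh.LTensorCx P').obj E ≅ DerivedCategory.Q.obj ((Bf f I).obj P) :=
    (DCoh.LTensorCx P').mapIso eI.symm ≪≫ t2.app I
  have r2 : DerivedCategory.Q.obj ((Bf f I).obj P) ≅ DerivedCategory.Q.obj J :=
    asIso (DerivedCategory.Q.map ((rho X).app ((Bf f I).obj P)))
  have r3 : DerivedCategory.Q.obj ((pushC f).obj J) ≅ (DCoh.Rpush f).obj (DerivedCategory.Q.obj J) :=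
    asIso ((rpushNat f).app J)
  exact ⟨l1 ≪≫ l2 ≪≫ m ≪≫ r3 ≪≫ (DCoh.Rpush f).mapIso (r2.symm ≪≫ r1.symm)⟩

end final

end Groth.Agent.Lib.Helper1.PerfProj
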