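import Mathlib
import Groth.Agent.Lib.Helper17MV10
import Groth.Agent.Lib.Helper1SPL5
import Groth.Agent.Lib.Helper1RpushRes
import Groth.Agent.Lib.Helper1PC5
import Groth.Agent.Lib.Helper17Cpt2

set_option backward.isDefEq.respectTransparency.types false
set_option linter.style.haveILetI false
set_option maxHeartbeats 400000
set_option autoImplicit false

universe u

open CategoryTheory CategoryTheory.Limits AlgebraicGeometry DerivedCategory ZeroObject

attribute [local instance] HasDerivedCategory.standard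

namespace Groth.Agent.Lib.Helper1.PerfPush

open Groth.Agent.Lib.Helper1.SPL Groth.Agent.Lib.Helper17.MV

variable {X : Scheme.{u}}

/-- the zero complex is strictly perfect. -/
lemma isStrictlyPerfect_zero (Y : Scheme.{u}) :
    DCoh.IsStrictlyPerfect (0 : CochainComplex Y.Modules ℤ) := by
  refine ⟨⟨0, 0, fun i _ => ?_⟩, fun i => isFinLocFree_of_isZero _ ?_⟩
  · exact (HomologicalComplex.eval _ _ i).map_isZero (isZero_zero _)
  · exact (HomologicalComplex.eval _ _ i).map_isZero (isZero_zero _)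

/-- `j^* j_! F ≅ F` on derived categories. -/
theorem nonempty_restrictD_extZeroD_iso (U : X.Opens) [PreservesFiniteLimits (CxOX.extZero U.ι)]
    (F : DCoh.D (U : Scheme.{u})) :
    Nonempty ((resD U.ι).obj ((CxOX.extZeroD U.ι).obj F) ≅ F) := by
  obtain ⟨K, ⟨eF⟩⟩ : ∃ K : CochainComplex (U : Scheme.{u}).Modules ℤ,
      Nonempty (F ≅ (Q : _ ⥤ DCoh.D (U : Scheme.{u})).obj K) :=
    ⟨_, ⟨((Q : _ ⥤ DCoh.D (U : Scheme.{u})).objObjPreimageIso F).symm⟩⟩
  have eE' : (CxOX.extZeroD U.ι).obj F ≅ (Q : _ ⥤ DCoh.D X).obj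
      (((CxOX.extZero U.ι).mapHomologicalComplex (ComplexShape.up ℤ)).obj K) :=
    (CxOX.extZeroD U.ι).mapIso eF ≪≫ (CxOX.extZero U.ι).mapDerivedCategoryFactors.app K
  exact ⟨(resD U.ι).mapIso eE' ≪≫
      (Scheme.Modules.restrictFunctor U.ι).mapDerivedCategoryFactors.app _ ≪≫
      (Q : _ ⥤ DCoh.D (U : Scheme.{u})).mapIso ((NatIso.mapHomologicalComplex
        (asIso (CxOX.extZeroAdj U.ι).unit).symm (ComplexShape.up ℤ)).app K) ≪≫ eF.symm⟩

/-- `j_! F` restricts to zero on an open over which the cohomology of `F` vanishes. -/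
theorem isZero_resD_extZeroD (U O : X.Opens) [PreservesFiniteLimits (CxOX.extZero U.ι)]
    (F : DCoh.D (U : Scheme.{u}))
    (hF : ∀ (i : ℤ) (y : (U : Scheme.{u})), U.ι y ∈ O →
      Subsingleton ((DCoh.HD F i).presheaf.stalk y)) :
    IsZero ((resD O.ι).obj ((CxOX.extZeroD U.ι).obj F)) := by
  obtain ⟨K, ⟨eF⟩⟩ : ∃ K : CochainComplex (U : Scheme.{u}).Modules ℤ,
      Nonempty (F ≅ (Q : _ ⥤ DCoh.D (U : Scheme.{u})).obj K) :=
    ⟨_, ⟨((Q : _ ⥤ DCoh.D (U : Scheme.{u})).objObjPreimageIso F).symm⟩⟩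
  have eE' : (CxOX.extZeroD U.ι).obj F ≅ (Q : _ ⥤ DCoh.D X).obj
      (((CxOX.extZero U.ι).mapHomologicalComplex (ComplexShape.up ℤ)).obj K) :=
    (CxOX.extZeroD U.ι).mapIso eF ≪≫ (CxOX.extZero U.ι).mapDerivedCategoryFactors.app K
  have e2 : (resD O.ι).obj ((CxOX.extZeroD U.ι).obj F) ≅ (Q : _ ⥤ DCoh.D (O : Scheme.{u})).obj
      (((Scheme.Modules.restrictFunctor O.ι).mapHomologicalComplex (ComplexShape.up ℤ)).obj
        (((CxOX.extZero U.ι).mapHomologicalComplex (ComplexShape.up ℤ)).obj K)) :=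
    (resD O.ι).mapIso eE' ≪≫ (Scheme.Modules.restrictFunctor O.ι).mapDerivedCategoryFactors.app _
  refine IsZero.of_iso ?_ e2
  apply Groth.Agent.Lib.Helper17.Cpt.isZero_Q_obj_of_acyclic
  have hK : ∀ i : ℤ, IsZero ((Scheme.Modules.restrictFunctor O.ι).obj
      ((((CxOX.extZero U.ι).mapHomologicalComplex (ComplexShape.up ℤ)).obj K).homology i)) := by
    intro i
    have e3 : (((CxOX.extZero U.ι).mapHomologicalComplex (ComplexShape.up ℤ)).obj K).homology i ≅
        (CxOX.extZero U.ι).obj (K.homology i) := (K.sc i).mapHomologyIso (CxOX.extZero U.ι)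
    refine IsZero.of_iso ?_ ((Scheme.Modules.restrictFunctor O.ι).mapIso e3)
    apply isZero_restrict_extZero U O
    intro y hy
    have hs := hF i y hy
    have e4 : DCoh.HD F i ≅ K.homology i := homologyIso K eF i
    have e' := (TopCat.Presheaf.stalkFunctor AddCommGrpCat.{u} y).mapIso
      ((Scheme.Modules.toPresheaf (U : Scheme.{u})).mapIso e4)
    exact @Equiv.subsingleton _ _ e'.symm.addCommGroupIsoToAddEquiv.toEquiv hs
  exact acyclic_map_of_isZero _ _ hK

/-- **S6519**. -/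
theorem main (U : X.Opens) [DCoh.HasRpush U.ι]
    (E : DCoh.D (U : Scheme.{u})) (hE : DCoh.IsPerfect E) (T : Set (U : Scheme.{u}))
    (hjT : IsClosed ((fun x : (U : Scheme.{u}) => U.ι.base x) '' T))
    (hsupp : ∀ i : ℤ, CohB1.support (DCoh.HD E i) ⊆ T) :
    DCoh.IsPerfect ((DCoh.Rpush U.ι).obj E) := by
  haveI := Groth.Agent.Lib.Helper1.RpushRes.preservesFiniteLimits_extZero U
  have hTU : ((fun x : (U : Scheme.{u}) => U.ι.base x) '' T) ⊆ (U : Set X) := by
    rintro _ ⟨y, _, rfl⟩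
    exact y.2
  obtain ⟨iso⟩ := nonempty_iso_extZeroD_rpush U _ hjT hTU E
    (fun i => Set.image_mono (hsupp i))
  rw [isPerfect_iff_hasPres]
  intro x
  refine HasPres.of_iso iso ?_
  by_cases hx : x ∈ ((fun x : (U : Scheme.{u}) => U.ι.base x) '' T)
  · obtain ⟨y, hyT, rfl⟩ := hx
    obtain ⟨W, i, hi, hy, P, hP, ⟨a⟩⟩ := (isPerfect_iff_hasPres E).1 hE y
    haveI := hi
    obtain ⟨r⟩ := nonempty_restrictD_extZeroD_iso U E
    refine ⟨W, i ≫ U.ι, inferInstance, ?_, P, hP, ⟨?_⟩⟩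
    · obtain ⟨w, hw⟩ := hy
      exact ⟨w, by rw [← hw]; rfl⟩
    · exact (resDComp i U.ι).app _ ≪≫ (resD i).mapIso r ≪≫ a
  · let O : X.Opens := complOpen _ hjT
    refine ⟨O, O.ι, inferInstance, by simpa using (show x ∈ O from hx), 0,
      isStrictlyPerfect_zero _, ⟨?_⟩⟩
    have hz : IsZero ((resD O.ι).obj ((CxOX.extZeroD U.ι).obj E)) := by
      apply isZero_resD_extZeroD U O E
      intro i y hy
      by_contra hns
      exact hy ⟨y, hsupp i hns, rfl⟩
    exact hz.iso (Functor.map_isZero _ (isZero_zero _))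

end Groth.Agent.Lib.Helper1.PerfPush
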