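import Mathlib
import Groth.Agent.Lib.Helper1TensPCD
set_option backward.isDefEq.respectTransparency.types false
set_option autoImplicit false
set_option linter.style.haveILetI false
set_option maxHeartbeats 400000
universe u

/-!
# The derived tensor product of a perfect object and a relatively perfect object, III (helper1)
-/

open CategoryTheory CategoryTheory.Limits AlgebraicGeometry HomologicalComplex
attribute [local instance] HasDerivedCategory.standard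

namespace Groth.Agent.Lib.Helper1.TQ

open Groth.Agent.Lib.Helper1.Sky Groth.Agent.Lib.Helper1.StalkTensor Groth.Agent.Lib.Helper1.KBC
  Groth.Agent.Lib.Helper1.Tor Groth.Agent.Lib.Helper1.BKF Groth.Agent.Lib.Helper1.CI
  Groth.Agent.Lib.Helper1.SPL Groth.Agent.Lib.Helper1.Extend Groth.Agent.Lib.Helper1.RelPC
  Groth.Agent.Lib.Helper1.Restrict Groth.Agent.Lib.Helper1.RelTri Groth.Agent.Lib.Helper1.FLF
  Groth.Agent.Lib.Helper1.PT Groth.Agent.Lib.Helper1.TorT Groth.Agent.Lib.Helper1.LDer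
  Groth.Agent.Lib.Helper1.ChartInd

variable {Y S : Scheme.{u}}

/-- stalkwise tor amplitude of the tensor product with a strictly perfect complex -/
theorem tAAt_tensor_of_isStrictlyPerfect (g : Y ⟶ S) (E N : CochainComplex Y.Modules ℤ)
    (hE : DCoh.IsStrictlyPerfect E) (a1 b1 : ℤ) (hv : DCoh.VanishesOutside E a1 b1) (c d : ℤ)
    (y : Y) (hN : TAAt g c d (DerivedCategory.Q.obj N) y) :
    TAAt g (a1 + c) (b1 + d) (DerivedCategory.Q.obj ((DCoh.tensorCx.obj E).obj N)) y := by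
  rw [← hasTorAmplitudeAt_iff_tAAt, hasTorAmplitudeAt_iff] at hN ⊢
  have hK : DCoh.IsKFlat E := (kffs_of_isStrictlyPerfect _ hE).1
  have hKy : Groth.Agent.Lib.Helper1.KF.KFlat ((stalkC y).obj E) :=
    fun M hM => rKFlat_stalk_of_isKFlat y E hK M hM
  have hEv : DRing.VanishesOutside ((stalkC y).obj E) a1 b1 := fun i hi =>
    (stalkFun y).map_isZero (hv i hi)
  letI : Algebra (S.presheaf.stalk (g.base y)) (Y.presheaf.stalk y) :=
    (g.stalkMap y).hom.toAlgebra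
  have h1 := hasTorAmp_restrict_tensor (A := S.presheaf.stalk (g.base y))
    ((stalkC y).obj E) ((stalkC y).obj N) a1 b1 c d hKy hEv hN
  obtain ⟨e⟩ := nonempty_stalkTotIso y E N
  exact hasTorAmp_of_iso (DerivedCategory.Q.mapIso ((DRing.restrictCx _).mapIso e.symm)) h1

/-- S7249 -/
theorem relPerfect_LTensorCx {X : Scheme.{u}} (f : X ⟶ S) [Flat f]
    (K : DCoh.D X) (hK : DCoh.IsPerfect K) (M : CochainComplex X.Modules ℤ)
    (hMpc : ∀ m : ℤ, DCoh.IsPseudoCoherentD m (DCoh.toD X M))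
    (hMtor : DCoh.LocHasFiniteRelTorDim f (DCoh.toD X M)) [DCoh.HasLTensorCx M] :
    (∀ m : ℤ, DCoh.IsPseudoCoherentD m ((DCoh.LTensorCx M).obj K)) ∧
      DCoh.LocHasFiniteRelTorDim f ((DCoh.LTensorCx M).obj K) := by
  let F0 := (DerivedCategory.Q (C := X.Modules)).objPreimage K
  have e0 : DerivedCategory.Q.obj F0 ≅ K := (DerivedCategory.Q (C := X.Modules)).objObjPreimageIso K
  obtain ⟨P, q, hP, -, hq, -⟩ := exists_kflat_flat_resolution (O := X.sheaf) F0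
  haveI : QuasiIso q := hq
  have hP' : DCoh.IsKFlat P := hP
  haveI : IsIso (DerivedCategory.Q.map q) := by
    rw [DerivedCategory.isIso_Q_map_iff_quasiIso]; exact hq
  have eK : K ≅ DerivedCategory.Q.obj P := e0.symm ≪≫ (asIso (DerivedCategory.Q.map q)).symm
  haveI hI1 : ModSite.HasLTensorCx (O := X.sheaf) M := (inferInstance : DCoh.HasLTensorCx M)
  have i : (DCoh.LTensorCx M).obj (DerivedCategory.Q.obj P) ≅
      DerivedCategory.Q.obj ((DCoh.tensorCx.obj P).obj M) :=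
    lTensorCxIsoOfIsKFlat (O := X.sheaf) M P hP
  set T0 : CochainComplex X.Modules ℤ := (DCoh.tensorCx.obj P).obj M with hT0
  have eT : (DCoh.LTensorCx M).obj K ≅ DerivedCategory.Q.obj T0 :=
    (DCoh.LTensorCx M).mapIso eK ≪≫ i
  have hloc : ∀ x : X, ∃ (V : X.Opens) (_ : x ∈ V)
      (E1 : CochainComplex (V : Scheme.{u}).Modules ℤ) (a1 b1 : ℤ),
      DCoh.IsStrictlyPerfect E1 ∧ DCoh.VanishesOutside E1 a1 b1 ∧
      Nonempty (DerivedCategory.Q.obj ((resC V.ι).obj T0) ≅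
        DerivedCategory.Q.obj ((DCoh.tensorCx.obj E1).obj ((resC V.ι).obj M))) := by
    intro x
    obtain ⟨V1, hx1, h1⟩ := hK x
    obtain ⟨E1, hE1, ⟨i1⟩⟩ := h1 P ⟨eK.symm⟩
    obtain ⟨⟨a1, b1, hv⟩, -⟩ := id hE1
    obtain ⟨t⟩ := nonempty_resC_tensor V1.ι P M
    obtain ⟨c⟩ := nonempty_Q_tensor_iso_left ((resC V1.ι).obj P) E1 ((resC V1.ι).obj M)
      (isKFlat_resC V1.ι P hP') (kffs_of_isStrictlyPerfect _ hE1).1 i1
    exact ⟨V1, hx1, E1, a1, b1, hE1, hv, ⟨DerivedCategory.Q.mapIso t ≪≫ c⟩⟩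
  have hpcT : ∀ m : ℤ, DCoh.IsPseudoCoherentD m (DerivedCategory.Q.obj T0) := by
    intro m
    rw [isPseudoCoherentD_iff_hasPresM]
    intro x
    obtain ⟨V, hxV, E1, a1, b1, hE1, hv, ⟨c⟩⟩ := hloc x
    have hN : ∀ m' : ℤ, DCoh.IsPseudoCoherentD m' (DerivedCategory.Q.obj ((resC V.ι).obj M)) :=
      fun m' => isPseudoCoherentD_of_iso ((facD V.ι).app M)
        (isPseudoCoherentD_resD m' V.ι _ (hMpc m'))
    have h2 := isPseudoCoherentD_tensor_of_isStrictlyPerfect E1 _ hE1 hN m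
    have h3 : DCoh.IsPseudoCoherentD m ((resD V.ι).obj (DerivedCategory.Q.obj T0)) :=
      isPseudoCoherentD_of_iso (c.symm ≪≫ ((facD V.ι).app T0).symm) h2
    exact hasPresM_of_resD V.ι m _ ⟨x, hxV⟩
      ((isPseudoCoherentD_iff_hasPresM m _).1 h3 ⟨x, hxV⟩)
  have hpcT' : ∀ m : ℤ, DCoh.IsPseudoCoherentD m ((DCoh.LTensorCx M).obj K) := fun m =>
    isPseudoCoherentD_of_iso eT.symm (hpcT m)
  refine ⟨hpcT', ?_⟩
  rw [locHasFiniteRelTorDim_iff_locTA f _ hpcT']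
  refine LocTA.of_iso eT.symm ?_
  have hMta : LocTA f (DerivedCategory.Q.obj M) := locTA_of_locHasFiniteRelTorDim f _ hMtor
  intro x
  obtain ⟨V, hxV, E1, a1, b1, hE1, hv, ⟨c⟩⟩ := hloc x
  obtain ⟨V2, c', d', hxV2, hV2⟩ := hMta x
  refine ⟨V ⊓ V2, a1 + c', b1 + d', ⟨hxV, hxV2⟩, fun y hy => ?_⟩
  let y' : (V : Scheme.{u}) := ⟨y, hy.1⟩
  have hN : TAAt (V.ι ≫ f) c' d' (DerivedCategory.Q.obj ((resC V.ι).obj M)) y' := by
    rw [← hasTorAmplitudeAt_iff_tAAt, hasTorAmplitudeAt_resC_iff V.ι f M c' d' y',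
      hasTorAmplitudeAt_iff_tAAt]
    exact hV2 y hy.2
  have h4 := tAAt_tensor_of_isStrictlyPerfect (V.ι ≫ f) E1 _ hE1 a1 b1 hv c' d' y' hN
  have h5 : TAAt (V.ι ≫ f) (a1 + c') (b1 + d') (DerivedCategory.Q.obj ((resC V.ι).obj T0)) y' :=
    h4.of_iso c.symm
  rw [← hasTorAmplitudeAt_iff_tAAt, hasTorAmplitudeAt_resC_iff V.ι f T0 _ _ y',
    hasTorAmplitudeAt_iff_tAAt] at h5
  exact h5

end Groth.Agent.Lib.Helper1.TQ
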