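import Mathlib
import Groth.Agent.Lib.Helper1TensPCE
import Groth.Agent.Lib.Helper1LDer6
import Groth.Agent.Lib.Helper1LDer7
import Groth.Agent.Lib.Helper1TorN
import Groth.Agent.Lib.Helper1TorL
set_option backward.isDefEq.respectTransparency.types false
set_option autoImplicit false
set_option linter.style.haveILetI false
set_option maxHeartbeats 400000
universe u

/-!
# The derived tensor product over a ring computed on a K-flat resolution of the fixed factor
(helper1)
-/

open CategoryTheory CategoryTheory.Limits MonoidalCategory HomologicalComplex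
attribute [local instance] HasDerivedCategory.standard

namespace Groth.Agent.Lib.Helper1.RExact

open DerivedCategory Groth.Agent.Lib.Helper1.KF Groth.Agent.Lib.Helper1.Tor
  Groth.Agent.Lib.Helper1.DT Groth.Agent.Lib.Helper1.LDer Groth.Agent.Lib.Helper1.BKF

variable {R : Type u} [CommRing R]

/-- `L ⊗ -` is a cone functor -/
theorem coneFunctor_tensorLeft (L : Cx R) : ConeFunctor (tensorLeft L) where
  ses S hS := tensorLeft_shortExact_of_splitting L S (fun n => (hS n).some)
  shift X := ⟨tensorShiftRightIso L X 1⟩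
  coneId X :=
    BKF.acyc_of_homotopy_id_zero
      ((Homotopy.ofEq (MonoidalCategory.whiskerLeft_id L _).symm).trans
        ((mapBifunctorMapHomotopy₂ (𝟙 L) (CochainComplex.mappingCone.homotopyToZeroOfId X)
          (curriedTensor (ModuleCat.{u} R)) (ComplexShape.up ℤ)).trans
          (Homotopy.ofEq (by
            rw [← whiskerLeft_eq]
            exact (tensorLeft L).map_zero _ _))))

lemma inverts_tensorCxQ_of_kflat (P : Cx R) (hP : KFlat P) :
    (HomologicalComplex.quasiIso (ModuleCat.{u} R) (ComplexShape.up ℤ)).IsInvertedBy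
      (DRing.tensorCxQ R P) := fun X Y f hf => by
  rw [HomologicalComplex.mem_quasiIso_iff] at hf
  haveI := quasiIso_whiskerRight_of_kflat f P hP
  exact inferInstanceAs (IsIso (Q.map (f ▷ P)))

/-- `- ⊗^L E` is computed by `- ⊗ P` for a K-flat resolution `P → E` -/
theorem nonempty_iso_Q_comp_LTensorCx (E P : Cx R) (q : P ⟶ E) [QuasiIso q] (hP : KFlat P)
    [DRing.HasLTensorCx R E] :
    Nonempty (Q ⋙ DRing.LTensorCx R E ≅ DRing.tensorCxQ R P) := by
  let W := HomologicalComplex.quasiIso (ModuleCat.{u} R) (ComplexShape.up ℤ)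
  let G : DerivedCategory (ModuleCat.{u} R) ⥤ DerivedCategory (ModuleCat.{u} R) :=
    Localization.lift (DRing.tensorCxQ R P) (inverts_tensorCxQ_of_kflat P hP) Q
  let e : Q ⋙ G ≅ DRing.tensorCxQ R P :=
    Localization.fac (DRing.tensorCxQ R P) (inverts_tensorCxQ_of_kflat P hP) Q
  let β : Q ⋙ G ⟶ DRing.tensorCxQ R E :=
    e.hom ≫ Functor.whiskerRight ((tensoringRight (Cx R)).map q) Q
  have hres : ∀ X : Cx R, ∃ (Y : Cx R) (r : Y ⟶ X),
      (fun P : Cx R => P.IsKProjective) Y ∧ IsIso (Q.map r) := fun X => by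
    obtain ⟨P, π, hP, -, hπ, -⟩ := exists_kprojective_resolution X
    exact ⟨P, π, hP, (DerivedCategory.isIso_Q_map_iff_quasiIso (φ := π)).2 hπ⟩
  have hsurj : ∀ Y : Cx R, (fun P : Cx R => P.IsKProjective) Y → ∀ X,
      Function.Surjective (Q.map : (Y ⟶ X) → (Q.obj Y ⟶ Q.obj X)) := fun Y hY X => by
    haveI : Y.IsKProjective := hY
    exact Q_map_surjective Y X
  have hβ : ∀ X : Cx R, (fun P : Cx R => P.IsKProjective) X → IsIso (β.app X) := fun X hX => by
    haveI : X.IsKProjective := hX
    haveI := quasiIso_whiskerLeft_of_kflatL q X (kflat_of_isKProjective X).kflatL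
    haveI : IsIso (Q.map (((tensoringRight (Cx R)).map q).app X)) :=
      inferInstanceAs (IsIso (Q.map (X ◁ q)))
    simp only [β, NatTrans.comp_app, Functor.whiskerRight_app]
    infer_instance
  haveI : G.IsLeftDerivedFunctor β W :=
    LDerRes.isLeftDerivedFunctor_of_isIso_of_surjective Q W (DRing.tensorCxQ R E)
      (fun P : Cx R => P.IsKProjective) hres hsurj G β hβ
  exact ⟨Functor.isoWhiskerLeft Q
    (Functor.leftDerivedUnique (LF := DRing.LTensorCx R E) (LF' := G)
      (α := (DRing.tensorCxQ R E).totalLeftDerivedCounit Q W) (α'₂ := β) W) ≪≫ e⟩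

/-- `M ↦ M[0] ⊗ P` -/
noncomputable abbrev singleTRr (P : Cx R) : ModuleCat.{u} R ⥤ Cx R :=
  CochainComplex.singleFunctor (ModuleCat.{u} R) 0 ⋙ tensorRight P

/-- `M ↦ H^p(M ⊗^L E)` is `M ↦ H^p(M[0] ⊗ P)` for a K-flat resolution `P → E` -/
theorem nonempty_iso_single_LTensorCx_homology (E P : Cx R) (q : P ⟶ E) [QuasiIso q]
    (hP : KFlat P) [DRing.HasLTensorCx R E] (p : ℤ) :
    Nonempty (DerivedCategory.singleFunctor (ModuleCat.{u} R) 0 ⋙ DRing.LTensorCx R E ⋙
        DerivedCategory.homologyFunctor (ModuleCat.{u} R) p ≅ Hn (singleTRr P) p) := by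
  obtain ⟨i⟩ := nonempty_iso_Q_comp_LTensorCx E P q hP
  exact ⟨Functor.isoWhiskerRight (DerivedCategory.singleFunctorIsoCompQ (ModuleCat.{u} R) 0) _ ≪≫
    Functor.associator _ _ _ ≪≫
    Functor.isoWhiskerLeft _ ((Functor.associator _ _ _).symm ≪≫
      Functor.isoWhiskerRight i _ ≪≫ Functor.associator _ _ _ ≪≫
      Functor.isoWhiskerLeft _ (DerivedCategory.homologyFunctorFactors (ModuleCat.{u} R) p)) ≪≫
    (Functor.associator _ _ _).symm⟩

/-- `M ↦ M[0] ⊗ P` is exact when `P` has flat terms -/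
theorem shortExact_map_singleTRr (P : Cx R) (hP : ∀ n, Module.Flat R (P.X n))
    (S : ShortComplex (ModuleCat.{u} R)) (hS : S.ShortExact) :
    (S.map (singleTRr P)).ShortExact := by
  refine tensorRight_shortExact P
    (S.map (CochainComplex.singleFunctor (ModuleCat.{u} R) 0)) (fun p q => ?_)
  haveI := hP q
  have h1 : (S.map (CochainComplex.singleFunctor (ModuleCat.{u} R) 0)).ShortExact :=
    hS.map_of_exact (HomologicalComplex.single (ModuleCat.{u} R) (ComplexShape.up ℤ) 0)
  have h2 : ((S.map (CochainComplex.singleFunctor (ModuleCat.{u} R) 0)).map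
      (HomologicalComplex.eval _ _ p)).ShortExact := h1.map_of_exact _
  exact Groth.Agent.Lib.Helper1.TorM.tensorRight_shortExact_of_flat' (P.X q) _ h2

end Groth.Agent.Lib.Helper1.RExact
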