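import Mathlib
import Groth.Agent.Lib.Helper1RExA
import Groth.Agent.Lib.Helper1TorT
set_option backward.isDefEq.respectTransparency.types false
set_option autoImplicit false
set_option linter.style.haveILetI false
set_option maxHeartbeats 400000
universe u

/-!
# Exactness of `M ↦ H^p(M ⊗^L E)` over a ring and flatness of `coker(d^p)` (helper1)
-/

open CategoryTheory CategoryTheory.Limits MonoidalCategory HomologicalComplex
attribute [local instance] HasDerivedCategory.standard

namespace Groth.Agent.Lib.Helper1.RExact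

open DerivedCategory Groth.Agent.Lib.Helper1.KF Groth.Agent.Lib.Helper1.Tor
  Groth.Agent.Lib.Helper1.DT Groth.Agent.Lib.Helper1.LDer Groth.Agent.Lib.Helper1.BKF
  Groth.Agent.Lib.Helper1.Sky

variable {R : Type u} [CommRing R]

lemma mono_whiskerRight_of_flat {M' M : ModuleCat.{u} R} (j : M' ⟶ M) [Mono j]
    (N : ModuleCat.{u} R) [Module.Flat R N] : Mono (j ▷ N) := by
  rw [ModuleCat.mono_iff_injective]
  exact Module.Flat.rTensor_preserves_injective_linearMap j.hom
    ((ModuleCat.mono_iff_injective j).1 inferInstance)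

lemma flat_of_forall_mono_whiskerRight (N : ModuleCat.{u} R)
    (h : ∀ {M' M : ModuleCat.{u} R} (j : M' ⟶ M), Mono j → Mono (j ▷ N)) : Module.Flat R N := by
  rw [Module.Flat.iff_rTensor_preserves_injective_linearMap]
  intro A B _ _ _ _ f hf
  have := h (ModuleCat.ofHom f) ((ModuleCat.mono_iff_injective _).2 hf)
  exact (ModuleCat.mono_iff_injective _).1 this

instance (Y : ModuleCat.{u} R) :
    PreservesFiniteColimits ((curriedTensor (ModuleCat.{u} R)).obj Y) := by
  have : PreservesColimitsOfSize.{0, 0} (tensorLeft Y) :=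
    (ihom.adjunction Y).leftAdjoint_preservesColimits
  exact inferInstanceAs (PreservesFiniteColimits (tensorLeft Y))

lemma mono_singleTRr_map_f (E : Cx R) (hEf : ∀ i : ℤ, Module.Flat R (E.X i))
    {M' M : ModuleCat.{u} R} (j : M' ⟶ M) [Mono j] (n : ℤ) :
    Mono (((singleTRr E).map j).f n) := by
  haveI := hEf n
  haveI : Mono (((curriedTensor (ModuleCat.{u} R)).map j).app (E.X n)) :=
    mono_whiskerRight_of_flat j (E.X n)
  exact mono_of_sq_left (((curriedTensor (ModuleCat.{u} R)).map j).app (E.X n)) _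
    (sfIso (curriedTensor (ModuleCat.{u} R)) M' E n) (sfIso (curriedTensor (ModuleCat.{u} R)) M E n)
    (sfι_naturality (curriedTensor (ModuleCat.{u} R)) E j n)

lemma mono_opcyclesMap_iff (E : Cx R) {M' M : ModuleCat.{u} R} (j : M' ⟶ M) (p : ℤ) :
    Mono (opcyclesMap ((singleTRr E).map j) (p + 1)) ↔
      Mono (j ▷ cokernel (E.d p (p + 1))) := by
  have h := sfOpcyclesIso_hom_naturality (curriedTensor (ModuleCat.{u} R)) E j p (p + 1) rfl
  constructor
  · intro hm
    exact mono_of_sq_right (((curriedTensor (ModuleCat.{u} R)).map j).app (cokernel (E.d p (p + 1))))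
      (opcyclesMap ((singleTRr E).map j) (p + 1))
      (sfOpcyclesIso (curriedTensor (ModuleCat.{u} R)) M' E p (p + 1) rfl)
      (sfOpcyclesIso (curriedTensor (ModuleCat.{u} R)) M E p (p + 1) rfl) h
  · intro hm
    haveI : Mono (((curriedTensor (ModuleCat.{u} R)).map j).app (cokernel (E.d p (p + 1)))) := hm
    exact mono_of_sq_left (((curriedTensor (ModuleCat.{u} R)).map j).app (cokernel (E.d p (p + 1))))
      (opcyclesMap ((singleTRr E).map j) (p + 1))
      (sfOpcyclesIso (curriedTensor (ModuleCat.{u} R)) M' E p (p + 1) rfl)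
      (sfOpcyclesIso (curriedTensor (ModuleCat.{u} R)) M E p (p + 1) rfl) h

/-- `H^{p+1}(- ⊗ E)` preserves monomorphisms iff `coker(d^p)` is flat -/
theorem forall_mono_Hn_iff_flat_cokernel (E : Cx R) (hEf : ∀ i : ℤ, Module.Flat R (E.X i))
    (p : ℤ) :
    (∀ S : ShortComplex (ModuleCat.{u} R), S.ShortExact →
      Mono ((Hn (singleTRr E) (p + 1)).map S.f)) ↔
      Module.Flat R (cokernel (E.d p (p + 1)) : ModuleCat.{u} R) := by
  constructor
  · intro h
    apply flat_of_forall_mono_whiskerRight
    intro M' M j hj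
    have hS : (ShortComplex.mk j (cokernel.π j) (cokernel.condition j)).ShortExact :=
      ShortComplex.ShortExact.mk' (ShortComplex.exact_cokernel j) hj inferInstance
    have h0 := h _ hS
    haveI : Mono (homologyMap ((singleTRr E).map j) (p + 1)) := by
      simp only [Functor.comp_map, homologyFunctor_map] at h0
      exact h0
    haveI := mono_singleTRr_map_f E hEf j (p + 1 + 1)
    haveI := mono_opcyclesMap_of_mono_homologyMap ((singleTRr E).map j) (p + 1) (p + 1 + 1) rfl
    exact (mono_opcyclesMap_iff E j p).1 inferInstance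
  · intro h S hS
    haveI := hS.mono_f
    haveI : Mono (S.f ▷ cokernel (E.d p (p + 1))) := mono_whiskerRight_of_flat S.f _
    haveI : Mono (opcyclesMap ((singleTRr E).map S.f) (p + 1)) :=
      (mono_opcyclesMap_iff E S.f p).2 inferInstance
    have h1 := mono_homologyMap_of_mono_opcyclesMap ((singleTRr E).map S.f) (p + 1)
    simp only [Functor.comp_map, homologyFunctor_map]
    exact h1

/-- `H^p(- ⊗ E)` is right exact iff `coker(d^p)` is flat (`E` with flat terms) -/
theorem preservesFiniteColimits_Hn_singleTRr_iff_flat_cokernel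
    (E : Cx R) (hEf : ∀ i : ℤ, Module.Flat R (E.X i)) (p : ℤ) :
    PreservesFiniteColimits (Hn (singleTRr E) p) ↔ Module.Flat R (cokernel (E.d p (p + 1)) : ModuleCat.{u} R) :=
  Iff.trans (preservesFiniteColimits_Hn_iff_forall_mono (singleTRr E)
    (shortExact_map_singleTRr E hEf) p)
    (forall_mono_Hn_iff_flat_cokernel E hEf p)

/-- right exactness of `M ↦ H^p(M ⊗^L F)` gives flatness of `coker(d^p)` of a K-flat
resolution with flat terms -/
theorem flat_cokernel_of_preservesFiniteColimits (F E : Cx R) (q : E ⟶ F) [QuasiIso q]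
    (hE : KFlat E) (hEf : ∀ i : ℤ, Module.Flat R (E.X i)) [DRing.HasLTensorCx R F] (p : ℤ)
    (h : PreservesFiniteColimits (DerivedCategory.singleFunctor (ModuleCat.{u} R) 0 ⋙
      DRing.LTensorCx R F ⋙ DerivedCategory.homologyFunctor (ModuleCat.{u} R) p)) :
    Module.Flat R (cokernel (E.d p (p + 1)) : ModuleCat.{u} R) := by
  obtain ⟨i1⟩ := nonempty_iso_single_LTensorCx_homology F E q hE p
  have h1 : PreservesFiniteColimits (Hn (singleTRr E) p) :=
    @preservesFiniteColimits_of_natIso _ _ _ _ _ _ i1 h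
  exact (preservesFiniteColimits_Hn_singleTRr_iff_flat_cokernel E hEf p).1 h1

/-- left exactness of `M ↦ H^p(M ⊗^L F)` gives flatness of `coker(d^{p-1})` of a K-flat
resolution with flat terms -/
theorem flat_cokernel_of_preservesFiniteLimits (F E : Cx R) (q : E ⟶ F) [QuasiIso q]
    (hE : KFlat E) (hEf : ∀ i : ℤ, Module.Flat R (E.X i)) [DRing.HasLTensorCx R F] (p' p : ℤ)
    (hp : p' + 1 = p)
    (h : PreservesFiniteLimits (DerivedCategory.singleFunctor (ModuleCat.{u} R) 0 ⋙
      DRing.LTensorCx R F ⋙ DerivedCategory.homologyFunctor (ModuleCat.{u} R) p)) :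
    Module.Flat R (cokernel (E.d p' (p' + 1)) : ModuleCat.{u} R) := by
  subst hp
  obtain ⟨i1⟩ := nonempty_iso_single_LTensorCx_homology F E q hE (p' + 1)
  have h1 : PreservesFiniteLimits (Hn (singleTRr E) (p' + 1)) :=
    @preservesFiniteLimits_of_natIso _ _ _ _ _ _ i1 h
  have h2 := (preservesFiniteColimits_Hn_iff_preservesFiniteLimits_Hn_succ (singleTRr E)
    (shortExact_map_singleTRr E hEf) p').2 h1
  exact (preservesFiniteColimits_Hn_singleTRr_iff_flat_cokernel E hEf p').1 h2

section compare

variable (P E : Cx R) (β : P ⟶ E)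

/-- if `cone(β)` is K-flat and exact in degrees `≥ p`, then `H^i(M[0] ⊗ β)` is invertible for
`i > p` -/
theorem isIso_homologyMap_whiskerLeft (hP : KFlat P) (hE : KFlat E) (p : ℤ)
    (hβ : PropM p (Q.map β)) (M : ModuleCat.{u} R) (i : ℤ) (hi : p < i) :
    IsIso (homologyMap (sgl M ◁ β) i) := by
  rw [propM_iff_isZero_homology_cone] at hβ
  have hC : KFlat (CochainComplex.mappingCone β) := KFlat.cone β hP hE
  have hz : ∀ j : ℤ, p ≤ j →
      IsZero (((tensorLeft (sgl M)).obj (CochainComplex.mappingCone β)).homology j) := by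
    intro j hj
    have h1 := Groth.Agent.Lib.Helper1.TorN.exactAt_TC_of_exactAt_above
      (CochainComplex.mappingCone β) hC (p - 1)
      (fun k hk => by
        rw [exactAt_iff_isZero_homology]
        exact hβ k (by omega)) M j (by omega)
    have h2 := (Groth.Agent.Lib.Helper1.TorT.exactAt_of_iso
      (singleTensorIso M (CochainComplex.mappingCone β)) j).1 h1
    rw [exactAt_iff_isZero_homology] at h2
    exact h2
  have e1 := ((coneFunctor_tensorLeft (sgl M)).isZero_homology_cone_iff β i).1 (hz i (by omega))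
  have e2 := ((coneFunctor_tensorLeft (sgl M)).isZero_homology_cone_iff β (i - 1)).1
    (hz (i - 1) (by omega))
  rw [sub_add_cancel] at e2
  haveI : Epi (homologyMap (sgl M ◁ β) i) := e1.1
  haveI : Mono (homologyMap (sgl M ◁ β) i) := e2.2
  exact isIso_of_mono_of_epi _

/-- comparison of the flatness of `coker(d^p)` along a map which is an isomorphism on `H^i`,
`i > p`, and an epimorphism on `H^p` -/
theorem flat_cokernel_iff_of_propM (hP : KFlat P) (hE : KFlat E)
    (hPf : ∀ i : ℤ, Module.Flat R (P.X i)) (hEf : ∀ i : ℤ, Module.Flat R (E.X i)) (p : ℤ)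
    (hβ : PropM p (Q.map β)) :
    Module.Flat R (cokernel (P.d p (p + 1)) : ModuleCat.{u} R) ↔ Module.Flat R (cokernel (E.d p (p + 1)) : ModuleCat.{u} R) := by
  rw [← forall_mono_Hn_iff_flat_cokernel P hPf p, ← forall_mono_Hn_iff_flat_cokernel E hEf p]
  have key : ∀ S : ShortComplex (ModuleCat.{u} R),
      Mono ((Hn (singleTRr P) (p + 1)).map S.f) ↔ Mono ((Hn (singleTRr E) (p + 1)).map S.f) := by
    intro S
    haveI i1 := isIso_homologyMap_whiskerLeft P E β hP hE p hβ S.X₁ (p + 1) (by omega)
    haveI i2 := isIso_homologyMap_whiskerLeft P E β hP hE p hβ S.X₂ (p + 1) (by omega)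
    have sq : (singleTRr P).map S.f ≫ (sgl S.X₂ ◁ β) = (sgl S.X₁ ◁ β) ≫ (singleTRr E).map S.f :=
      (whisker_exchange ((CochainComplex.singleFunctor (ModuleCat.{u} R) 0).map S.f) β).symm
    have sq' : homologyMap ((singleTRr P).map S.f) (p + 1) ≫
        (asIso (homologyMap (sgl S.X₂ ◁ β) (p + 1))).hom =
        (asIso (homologyMap (sgl S.X₁ ◁ β) (p + 1))).hom ≫
          homologyMap ((singleTRr E).map S.f) (p + 1) := by
      simp only [asIso_hom]
      exact (homologyMap_comp ((singleTRr P).map S.f) (sgl S.X₂ ◁ β) (p + 1)).symm.trans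
        ((congrArg (fun t => homologyMap t (p + 1)) sq).trans
          (homologyMap_comp (sgl S.X₁ ◁ β) ((singleTRr E).map S.f) (p + 1)))
    show Mono (homologyMap ((singleTRr P).map S.f) (p + 1)) ↔
      Mono (homologyMap ((singleTRr E).map S.f) (p + 1))
    constructor
    · intro hm
      exact @mono_of_sq_left _ _ _ _ _ _ _ _ _ _ sq' hm
    · intro hm
      exact @mono_of_sq_right _ _ _ _ _ _ _ _ _ _ sq' hm
  exact forall₂_congr (fun S _ => key S)

end compare

end Groth.Agent.Lib.Helper1.RExact
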