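import Mathlib
import Groth.Agent.Lib.Helper1ChartInd10
import Groth.Agent.Lib.Helper1FinPushB
import Groth.Agent.Lib.Helper17TildePush1
import Groth.Agent.S1004
import Groth.Agent.S7208
set_option backward.isDefEq.respectTransparency.types false

/-!
# helper1: dictionary between the chart test of relative pseudo-coherence and algebra
-/

set_option autoImplicit false
set_option linter.style.haveILetI false
set_option linter.unusedSectionVars false
set_option maxHeartbeats 400000
universe u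
open CategoryTheory CategoryTheory.Limits AlgebraicGeometry Opposite TopologicalSpace

attribute [local instance] HasDerivedCategory.standard

namespace Groth.Agent.Lib.Helper1.RelDict

open Groth.Agent.Lib.Helper1.SPL Groth.Agent.Lib.Helper1.ChartInd Groth.Agent.Lib.Helper1.ExtVan
  Groth.Agent.Lib.Helper1.FinPush Groth.Agent.Lib.Helper1.ClosedPC
  Groth.Agent.Lib.Helper17.TildePush

section tilde

variable {R S : CommRingCat.{u}} (φ : R ⟶ S) [IsClosedImmersion (Spec.map φ)]

/-- `(Spec φ)_* (M~) ≅ (M_R)~` on derived categories, for `Spec φ` a closed immersion -/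
noncomputable def tildePushD :
    DCoh.tildeD S ⋙ pushD (Spec.map φ) ≅ DRing.restrictD φ.hom ⋙ DCoh.tildeD R :=
  mapDCompIso (tilde.functor S) (tilde.functor R) (Scheme.Modules.pushforward (Spec.map φ))
    (ModuleCat.restrictScalars φ.hom) (tildePushIso φ)

end tilde

section chart

variable {X : Scheme.{u}} {U : X.Opens} (hU : IsAffineOpen U) {Q : Type u} [CommRing Q]
  (θ : Q →+* Γ(X, U)) (hθ : Function.Surjective θ)

include hθ in
/-- **the chart dictionary**: for `E|_U ≅ M~`, the chart test along `θ : Q ↠ Γ(X, U)` is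
`m`-pseudo-coherence over `Q` of `M` restricted along `θ` -/
theorem isPC_pushD_imm_iff [IsClosedImmersion (imm U θ)] (K : DCoh.D X)
    (M : Dual.D Γ(X, U)) (c : (DCoh.tildeD Γ(X, U)).obj M ≅ (resD hU.fromSpec).obj K) (m : ℤ) :
    DCoh.IsPseudoCoherentD m ((pushD (imm U θ)).obj ((resD U.ι).obj K)) ↔
      DRing.IsPseudoCoherent Q m ((DRing.restrictD θ).obj M) := by
  haveI : IsClosedImmersion (Spec.map (CommRingCat.ofHom θ)) :=
    IsClosedImmersion.spec_of_surjective _ hθ
  have h2 : hU.isoSpec.inv ≫ imm U θ = Spec.map (CommRingCat.ofHom θ) := by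
    unfold imm
    rw [← hU.isoSpec_hom, Iso.inv_hom_id_assoc]
  haveI : IsClosedImmersion (hU.isoSpec.inv ≫ imm U θ) := by rw [h2]; infer_instance
  have h1 := isPC_pushD_iso_comp_iff hU.isoSpec.inv (imm U θ) ((resD U.ι).obj K) m
  have h3 := isPseudoCoherentD_pushD_congr h2 ((resD hU.isoSpec.inv).obj ((resD U.ι).obj K)) m
  have e1 : (resD hU.isoSpec.inv).obj ((resD U.ι).obj K) ≅ (DCoh.tildeD Γ(X, U)).obj M :=
    ((resDComp hU.isoSpec.inv U.ι).app K).symm ≪≫ c.symm
  have e2 : (pushD (Spec.map (CommRingCat.ofHom θ))).obj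
      ((resD hU.isoSpec.inv).obj ((resD U.ι).obj K)) ≅
      (DCoh.tildeD (CommRingCat.of Q)).obj ((DRing.restrictD θ).obj M) :=
    (pushD (Spec.map (CommRingCat.ofHom θ))).mapIso e1 ≪≫
      (tildePushD (CommRingCat.ofHom θ)).app M
  have h4 := Groth.Agent.S1004.result Q ((DRing.restrictD θ).obj M) m
  rw [← h1, h3, ← h4]
  exact ⟨isPseudoCoherentD_of_iso e2, isPseudoCoherentD_of_iso e2.symm⟩

end chart


section transport

variable {X : Scheme.{u}} {U : X.Opens} (hU : IsAffineOpen U)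

/-- the complex `G|_U` carried to `Spec Γ(X, U)` along `U ≅ Spec Γ(X, U)` represents
`E|_{Spec Γ(X, U)}` -/
noncomputable def pushCxIsoSpecIso (G : CochainComplex X.Modules ℤ) :
    DCoh.toD _ ((DerSch.pushCx hU.isoSpec.hom).obj ((DCoh.restrictCx U).obj G)) ≅
      (resD hU.fromSpec).obj (DCoh.toD X G) :=
  DerivedCategory.Q.mapIso
      ((NatIso.mapHomologicalComplex
        ((restrictIsoPush hU.isoSpec.inv).trans
          (Scheme.Modules.pushforwardCongr (IsIso.Iso.inv_inv hU.isoSpec)))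
        (ComplexShape.up ℤ)).app ((DCoh.restrictCx U).obj G)).symm ≪≫
    ((facD hU.isoSpec.inv).app ((DCoh.restrictCx U).obj G)).symm ≪≫
    (resD hU.isoSpec.inv).mapIso ((facD U.ι).app G).symm ≪≫
    ((resDComp hU.isoSpec.inv U.ι).app (DCoh.toD X G)).symm

end transport

section main

variable {X S : Scheme.{u}} (f : X ⟶ S) [LocallyOfFiniteType f]

/-- the chart test for an affine pair, in algebraic terms -/
theorem exists_chartPC_iff (E : DCoh.D X) (m : ℤ) {U : X.Opens} (hU : IsAffineOpen U)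
    {V : S.Opens} (hV : IsAffineOpen V) (h : U ≤ f ⁻¹ᵁ V)
    (M : Dual.D Γ(X, U)) (c : (DCoh.tildeD Γ(X, U)).obj M ≅ (resD hU.fromSpec).obj E) :
    (∃ (n : ℕ) (φ : MvPolynomial (Fin n) Γ(S, V) →+* Γ(X, U)),
        DerSch.IsChart f U V h φ ∧ DerSch.ChartPC m E U V φ) ↔
      @DerCA.IsRelPseudoCoherent Γ(S, V) Γ(X, U) _ _ (f.appLE V U h).hom.toAlgebra m M := by
  letI := (f.appLE V U h).hom.toAlgebra
  constructor
  · rintro ⟨n, φ, hφ, hpc⟩
    haveI := isClosedImmersion_chartImm' f hU h φ hφ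
    haveI : IsClosedImmersion (imm U φ) := isClosedImmersion_imm U hU φ hφ.1
    have h1 := (chartPC_iff m E U V φ).1 hpc
    have h2 := (isPC_pushD_imm_iff hU φ hφ.1 E M c m).1 h1
    let α : MvPolynomial (Fin n) Γ(S, V) →ₐ[Γ(S, V)] Γ(X, U) :=
      { φ with commutes' := fun r => congrArg (fun g : Γ(S, V) →+* Γ(X, U) => g r) hφ.2 }
    exact ⟨n, α, hφ.1, h2⟩
  · rintro ⟨n, α, hα, hvia⟩
    have hchart : DerSch.IsChart f U V h (α : MvPolynomial (Fin n) Γ(S, V) →+* Γ(X, U)) :=
      ⟨hα, RingHom.ext fun r => α.commutes r⟩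
    haveI := isClosedImmersion_chartImm' f hU h _ hchart
    haveI : IsClosedImmersion (imm U (α : MvPolynomial (Fin n) Γ(S, V) →+* Γ(X, U))) :=
      isClosedImmersion_imm U hU _ hα
    refine ⟨n, α, hchart, (chartPC_iff m E U V _).2 ?_⟩
    exact (isPC_pushD_imm_iff hU (α : MvPolynomial (Fin n) Γ(S, V) →+* Γ(X, U)) hα E M c m).2 hvia

/-- **S7234** -/
theorem isPseudoCoherentRel_iff_forall_isRelPseudoCoherent (E : DCoh.D X)
    (hE : DCoh.IsQCohD E) (m : ℤ) :
    DerSch.IsPseudoCoherentRel f m E ↔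
      ∀ (U : X.affineOpens) (V : S.affineOpens) (h : (U : X.Opens) ≤ f ⁻¹ᵁ (V : S.Opens))
        (G : CochainComplex X.Modules ℤ), Nonempty (DCoh.toD X G ≅ E) →
        ∀ M : Dual.D Γ(X, (U : X.Opens)),
          Nonempty ((DCoh.tildeD (X.presheaf.obj (op (U : X.Opens)))).obj M ≅
            DCoh.toD _ ((DerSch.pushCx U.2.isoSpec.hom).obj
              ((DCoh.restrictCx (U : X.Opens)).obj G))) →
          @DerCA.IsRelPseudoCoherent Γ(S, (V : S.Opens)) Γ(X, (U : X.Opens)) _ _
            (f.appLE (V : S.Opens) (U : X.Opens) h).hom.toAlgebra m M := by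
  rw [Groth.Agent.S7208.result f m E]
  constructor
  · intro H U V h G ⟨eG⟩ M ⟨eM⟩
    have c : (DCoh.tildeD Γ(X, (U : X.Opens))).obj M ≅ (resD U.2.fromSpec).obj E :=
      eM ≪≫ pushCxIsoSpecIso U.2 G ≪≫ (resD U.2.fromSpec).mapIso eG
    exact (exists_chartPC_iff f E m U.2 V.2 h M c).1 (H U V h)
  · intro H U V h
    let G := DerivedCategory.Q.objPreimage E
    have eG : DCoh.toD X G ≅ E := DerivedCategory.Q.objObjPreimageIso E
    obtain ⟨RG, adj, -, h2⟩ := Groth.Agent.Lib.Helper17.TildeD.tildeD_main Γ(X, (U : X.Opens))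
    have hEU : DCoh.IsQCohD ((resD U.2.fromSpec).obj E) := isQCohD_restrictD U.2.fromSpec E hE
    haveI := h2 _ hEU
    have c : (DCoh.tildeD Γ(X, (U : X.Opens))).obj (RG.obj ((resD U.2.fromSpec).obj E)) ≅
        (resD U.2.fromSpec).obj E := asIso (adj.counit.app _)
    refine (exists_chartPC_iff f E m U.2 V.2 h _ c).2 (H U V h G ⟨eG⟩ _ ⟨?_⟩)
    exact c ≪≫ (resD U.2.fromSpec).mapIso eG.symm ≪≫ (pushCxIsoSpecIso U.2 G).symm

end main

end Groth.Agent.Lib.Helper1.RelDict
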