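import Mathlib
import Groth.Agent.Lib.Helper1PCDescent
import Groth.Agent.Lib.Helper1ClosedPC
import Groth.Agent.Lib.Helper1FpqcPC
import Groth.Agent.Lib.Helper1RelDict

set_option backward.isDefEq.respectTransparency.types false
set_option autoImplicit false
set_option linter.style.haveILetI false
set_option linter.unusedSectionVars false
set_option maxHeartbeats 400000
universe u
open CategoryTheory CategoryTheory.Limits AlgebraicGeometry Opposite TopologicalSpace

attribute [local instance] HasDerivedCategory.standard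

namespace Groth.Agent.Lib.Helper1.RelDescent

open Groth.Agent.Lib.Helper1.Extend TensorProduct
open Groth.Agent.Lib.Helper1.SPL Groth.Agent.Lib.Helper1.ChartInd Groth.Agent.Lib.Helper1.ExtVan
  Groth.Agent.Lib.Helper1.LDer Groth.Agent.Lib.Helper1.FinPush Groth.Agent.Lib.Helper1.FpqcPC

section lbc

variable {B B' : Type u} [CommRing B] [CommRing B'] [Algebra B B'] [Module.Flat B B']

/-- for a flat algebra, derived base change is termwise extension of scalars -/
lemma nonempty_lbc_iso_extD [DRing.HasLBaseChange (algebraMap B B')] (M : Dual.D B) :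
    Nonempty ((DRing.LBaseChange (algebraMap B B')).obj M ≅ (extD B B').obj M) := by
  have hφ : (algebraMap B B').Flat := (RingHom.flat_algebraMap_iff (R := B) (S := B')).2 inferInstance
  let K : DRing.Cx B := DerivedCategory.Q.objPreimage M
  let eK : DRing.toD K ≅ M := DerivedCategory.Q.objObjPreimageIso M
  haveI := isIso_lbcCounit_app_of_flat (algebraMap B B') hφ K
  exact ⟨(DRing.LBaseChange (algebraMap B B')).mapIso eK.symm ≪≫
    asIso ((lbcCounit (algebraMap B B')).app K) ≪≫ (mapQIso (ext B B') K).symm ≪≫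
    (extD B B').mapIso eK⟩

end lbc

section geom

variable {X' X : Scheme.{u}} (g : X' ⟶ X) [DCoh.HasLpull g]

/-- the restriction of `Lg^* E` to an affine open `Spec B'` lying over an affine open `Spec B`
with `E|_{Spec B} = M~` and `B → B'` flat is `(M ⊗_B B')~` -/
theorem nonempty_tildeD_extD_iso (E : DCoh.D X) {B B' : Type u} [CommRing B] [CommRing B']
    [Algebra B B'] [Module.Flat B B']
    (jU : Spec (CommRingCat.of B) ⟶ X) [IsOpenImmersion jU]
    (jW : Spec (CommRingCat.of B') ⟶ X') [IsOpenImmersion jW]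
    (sq : jW ≫ g = Spec.map (CommRingCat.ofHom (algebraMap B B')) ≫ jU)
    (M : Dual.D B) (c : (DCoh.tildeD (CommRingCat.of B)).obj M ≅ (resD jU).obj E) :
    Nonempty ((DCoh.tildeD (CommRingCat.of B')).obj ((extD B B').obj M) ≅
      (resD jW).obj ((DCoh.Lpull g).obj E)) := by
  haveI : DCoh.HasLpull jW := Groth.Agent.S0959.result jW
  haveI : DCoh.HasLpull jU := Groth.Agent.S0959.result jU
  haveI : DCoh.HasLpull (Spec.map (CommRingCat.ofHom (algebraMap B B'))) := Groth.Agent.S0959.result _
  haveI : DCoh.HasLpull (jW ≫ g) := Groth.Agent.S0959.result _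
  haveI : DCoh.HasLpull (Spec.map (CommRingCat.ofHom (algebraMap B B')) ≫ jU) :=
    Groth.Agent.S0959.result _
  haveI : DRing.HasLBaseChange (algebraMap B B') :=
    Groth.Agent.Lib.Helper5.HasLDer.hasLBaseChange (algebraMap B B')
  obtain ⟨c1⟩ := Groth.Agent.S0911.result jW g
  obtain ⟨c2⟩ := Groth.Agent.S0911.result (Spec.map (CommRingCat.ofHom (algebraMap B B'))) jU
  obtain ⟨c3⟩ := nonempty_lpull_congr sq
  obtain ⟨c4⟩ := Groth.Agent.Lib.Helper1.Fib.nonempty_lpull_iso_resD jU E
  obtain ⟨c4'⟩ := Groth.Agent.Lib.Helper1.Fib.nonempty_lpull_iso_resD jW ((DCoh.Lpull g).obj E)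
  obtain ⟨c5⟩ := Groth.Agent.S1055.result (algebraMap B B')
  obtain ⟨c6⟩ := nonempty_lbc_iso_extD (B := B) (B' := B') M
  exact ⟨(DCoh.tildeD (CommRingCat.of B')).mapIso c6.symm ≪≫
    c5.app M ≪≫ (DCoh.Lpull (Spec.map (CommRingCat.ofHom (algebraMap B B')))).mapIso (c ≪≫ c4.symm) ≪≫
      c2.app E ≪≫ (c3.app E).symm ≪≫ (c1.app E).symm ≪≫ c4'⟩

end geom

end Groth.Agent.Lib.Helper1.RelDescent
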