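import Mathlib
import Groth.Agent.Lib.Helper1RelDescentA
import Groth.Agent.Lib.Helper1RelDescentB

set_option backward.isDefEq.respectTransparency.types false
set_option autoImplicit false
set_option linter.style.haveILetI false
set_option linter.unusedSectionVars false
set_option maxHeartbeats 400000
universe u
open CategoryTheory CategoryTheory.Limits AlgebraicGeometry Opposite TopologicalSpace

attribute [local instance] HasDerivedCategory.standard

namespace Groth.Agent.Lib.Helper1.RelDescent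

open Groth.Agent.Lib.Helper1.Extend TensorProduct
open Groth.Agent.Lib.Helper1.SPL Groth.Agent.Lib.Helper1.ChartInd Groth.Agent.Lib.Helper1.ExtVan
  Groth.Agent.Lib.Helper1.LDer Groth.Agent.Lib.Helper1.FinPush Groth.Agent.Lib.Helper1.FpqcPC
  Groth.Agent.Lib.Helper1.PC Groth.Agent.Lib.Helper1.RelDict

section BaseChart

variable {R B : Type u} [CommRing R] [CommRing B] [Algebra R B]
  (R' B' : Type u) [CommRing R'] [CommRing B']
  [Algebra R R'] [Algebra B B'] [Algebra R' B'] [Algebra R B']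
  [IsScalarTower R B B'] [IsScalarTower R R' B'] [hpo : Algebra.IsPushout R R' B B']

attribute [local instance] MvPolynomial.algebraMvPolynomial in
/-- restriction along the base-changed chart of the base change of `M` is the base change of the
restriction of `M` along the chart -/
theorem isPC_restrictD_baseChart_iff [Module.Flat R R'] [Module.Flat B B'] {k : ℕ}
    [Module.Flat (MvPolynomial (Fin k) R) (MvPolynomial (Fin k) R')]
    (φ : MvPolynomial (Fin k) R →+* B)
    (hφC : φ.comp MvPolynomial.C = algebraMap R B) (M : Dual.D B) (n : ℤ) :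
    DRing.IsPseudoCoherent (MvPolynomial (Fin k) R') n
        ((DRing.restrictD (baseChart R' B' φ)).obj ((extD B B').obj M)) ↔
      DRing.IsPseudoCoherent (MvPolynomial (Fin k) R') n
        ((extD (MvPolynomial (Fin k) R) (MvPolynomial (Fin k) R')).obj
          ((DRing.restrictD φ).obj M)) := by
  classical
  let P := MvPolynomial (Fin k) R
  let P' := MvPolynomial (Fin k) R'
  let φ' : P' →+* B' := baseChart R' B' φ
  have hφ'C : φ'.comp MvPolynomial.C = algebraMap R' B' := baseChart_comp_C R' B' φ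
  have hsq : φ'.comp (MvPolynomial.map (algebraMap R R')) = (algebraMap B B').comp φ :=
    baseChart_comp_map R' B' φ hφC
  letI aPB : Algebra P B := φ.toAlgebra
  letI aP'B' : Algebra P' B' := φ'.toAlgebra
  letI aPB' : Algebra P B' := ((algebraMap B B').comp φ).toAlgebra
  haveI t1 : IsScalarTower R P B := IsScalarTower.of_algebraMap_eq
    (fun r => (congrArg (fun g => g r) hφC).symm)
  haveI t2 : IsScalarTower P B B' := IsScalarTower.of_algebraMap_eq (fun _ => rfl)
  haveI t3 : IsScalarTower P P' B' := IsScalarTower.of_algebraMap_eq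
    (fun p => (congrArg (fun g => g p) hsq).symm)
  haveI t4 : IsScalarTower R' P' B' := IsScalarTower.of_algebraMap_eq
    (fun r => (congrArg (fun g => g r) hφ'C).symm)
  haveI t5 : IsScalarTower R P B' := IsScalarTower.of_algebraMap_eq (fun r => by
    change algebraMap R B' r = algebraMap B B' (φ (MvPolynomial.C r))
    have h1 : φ (MvPolynomial.C r) = algebraMap R B r := congrArg (fun g => g r) hφC
    rw [h1, ← IsScalarTower.algebraMap_apply R B B'])
  haveI t6 : IsScalarTower R P' B' := IsScalarTower.of_algebraMap_eq (fun r => by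
    change algebraMap R B' r = φ' (MvPolynomial.C (algebraMap R R' r))
    have h1 : φ' (MvPolynomial.C (algebraMap R R' r)) = algebraMap R' B' (algebraMap R R' r) :=
      congrArg (fun g => g (algebraMap R R' r)) hφ'C
    rw [h1, ← IsScalarTower.algebraMap_apply R R' B'])
  have hpo2 : Algebra.IsPushout P B P' B' :=
    (Algebra.IsPushout.comp_iff (R := R) (S := P) (T := B) (R' := R') (S' := P') (T' := B')).1
      hpo.symm
  haveI hpo3 : Algebra.IsPushout P P' B B' := hpo2.symm
  have e := (bcIsoD P P' B B').app M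
  exact ⟨isPC_of_iso e.symm, isPC_of_iso e⟩

end BaseChart

section FamilyChart

attribute [local instance] MvPolynomial.algebraMvPolynomial in
/-- descent of pseudo-coherence of the restriction along a chart, along a finite flat family along
which vanishing descends -/
theorem isPC_restrictD_of_baseChart_family {R B : Type u} [CommRing R] [CommRing B] [Algebra R B]
    {J : Type*} [Finite J] (R' B' : J → Type u) [∀ j, CommRing (R' j)] [∀ j, CommRing (B' j)]
    [∀ j, Algebra R (R' j)] [∀ j, Algebra B (B' j)] [∀ j, Algebra (R' j) (B' j)]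
    [∀ j, Algebra R (B' j)] [∀ j, IsScalarTower R B (B' j)] [∀ j, IsScalarTower R (R' j) (B' j)]
    [∀ j, Algebra.IsPushout R (R' j) B (B' j)] [∀ j, Module.Flat R (R' j)]
    [∀ j, Module.Flat B (B' j)]
    (hz : ZeroFam (R := R) R') {k : ℕ} (φ : MvPolynomial (Fin k) R →+* B)
    (hφC : φ.comp MvPolynomial.C = algebraMap R B) (M : Dual.D B) (n : ℤ)
    (h : ∀ j, DRing.IsPseudoCoherent (MvPolynomial (Fin k) (R' j)) n
        ((DRing.restrictD (baseChart (R' j) (B' j) φ)).obj ((extD B (B' j)).obj M))) :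
    DRing.IsPseudoCoherent (MvPolynomial (Fin k) R) n ((DRing.restrictD φ).obj M) := by
  haveI hfl : ∀ j, Module.Flat (MvPolynomial (Fin k) R) (MvPolynomial (Fin k) (R' j)) := fun j =>
    Module.Flat.isBaseChange R (MvPolynomial (Fin k) R) (R' j) (MvPolynomial (Fin k) (R' j))
      (inferInstance : Algebra.IsPushout R (MvPolynomial (Fin k) R) (R' j)
        (MvPolynomial (Fin k) (R' j))).out
  refine (zeroFam_mvPolynomial R' (Fin k) hz).isPC _ n (fun j => ?_)
  exact (isPC_restrictD_baseChart_iff (R' j) (B' j) φ hφC M n).1 (h j)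

end FamilyChart

section Geom

variable {X Y Y' : Scheme.{u}}

open Groth.Agent.Lib.Helper2.PullbackSec in
/-- **S6211**: descent of relative `n`-pseudo-coherence along a flat, surjective, quasi-compact
base change, for objects of `D_QCoh` -/
theorem isPseudoCoherentRel_of_lpull_baseChange (f : X ⟶ Y) [LocallyOfFiniteType f]
    (h : Y' ⟶ Y) [Flat h] [Surjective h] [QuasiCompact h] [DCoh.HasLpull (pullback.fst f h)]
    (n : ℤ) (E : DCoh.D X) (hq : DCoh.IsQCohD E)
    (hE : DerSch.IsPseudoCoherentRel (pullback.snd f h) n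
      ((DCoh.Lpull (pullback.fst f h)).obj E)) :
    DerSch.IsPseudoCoherentRel f n E := by
  have hc : IsPullback (pullback.fst f h) (pullback.snd f h) f h := IsPullback.of_hasPullback f h
  refine isPseudoCoherentRel_of_forall f _ n (fun U V hUV => ?_)
  obtain ⟨k, φ, hφ⟩ := exists_isChart f U.2 V.2 hUV
  refine ⟨k, φ, hφ, ?_⟩
  -- the module `M = RΓ(U, E)`
  obtain ⟨RG, adj, -, h2⟩ := Groth.Agent.Lib.Helper17.TildeD.tildeD_main Γ(X, (U : X.Opens))
  have hEU : DCoh.IsQCohD ((resD U.2.fromSpec).obj E) := isQCohD_restrictD U.2.fromSpec E hq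
  haveI := h2 _ hEU
  let M : Dual.D Γ(X, (U : X.Opens)) := RG.obj ((resD U.2.fromSpec).obj E)
  have c : (DCoh.tildeD Γ(X, (U : X.Opens))).obj M ≅ (resD U.2.fromSpec).obj E :=
    asIso (adj.counit.app _)
  haveI := isClosedImmersion_chartImm' f U.2 hUV φ hφ
  haveI : IsClosedImmersion (imm (U : X.Opens) φ) := isClosedImmersion_imm (U : X.Opens) U.2 φ hφ.1
  rw [chartPC_iff]
  refine (isPC_pushD_imm_iff U.2 φ hφ.1 E M c n).2 ?_
  -- the cover of `h⁻¹ V`
  have hcomp : IsCompact ((h ⁻¹ᵁ (V : Y.Opens) : Y'.Opens) : Set Y') :=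
    h.isCompact_preimage V.2.isCompact
  obtain ⟨s, hsfin, hse⟩ := isCompact_iff_finite_and_eq_biUnion_affineOpens.mp hcomp
  haveI : Finite s := hsfin.to_subtype
  have hle : ∀ j : s, ((j : Y'.affineOpens) : Y'.Opens) ≤ h ⁻¹ᵁ (V : Y.Opens) := fun j => by
    rw [hse]
    exact le_iSup₂ (f := fun (i : Y'.affineOpens) (_ : i ∈ s) => (i : Y'.Opens)) j.1 j.2
  let W : s → (pullback f h).Opens := fun j =>
    (pullback.fst f h) ⁻¹ᵁ (U : X.Opens) ⊓ (pullback.snd f h) ⁻¹ᵁ ((j : Y'.affineOpens) : Y'.Opens)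
  have hW : ∀ j, IsAffineOpen (W j) := fun j =>
    isAffineOpen_inf_preimage hc (hle j) hUV V.2 j.1.2 U.2
  have e1 : ∀ j, W j ≤ (pullback.fst f h) ⁻¹ᵁ (U : X.Opens) := fun j => inf_le_left
  have e2 : ∀ j, W j ≤ (pullback.snd f h) ⁻¹ᵁ ((j : Y'.affineOpens) : Y'.Opens) :=
    fun j => inf_le_right
  letI a1 : Algebra Γ(Y, (V : Y.Opens)) Γ(X, (U : X.Opens)) :=
    (f.appLE (V : Y.Opens) (U : X.Opens) hUV).hom.toAlgebra
  letI a2 : ∀ j : s, Algebra Γ(Y, (V : Y.Opens)) Γ(Y', ((j : Y'.affineOpens) : Y'.Opens)) :=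
    fun j => (h.appLE (V : Y.Opens) _ (hle j)).hom.toAlgebra
  letI a3 : ∀ j : s, Algebra Γ(X, (U : X.Opens)) Γ(pullback f h, W j) :=
    fun j => ((pullback.fst f h).appLE (U : X.Opens) (W j) (e1 j)).hom.toAlgebra
  letI a4 : ∀ j : s, Algebra Γ(Y', ((j : Y'.affineOpens) : Y'.Opens)) Γ(pullback f h, W j) :=
    fun j => ((pullback.snd f h).appLE _ (W j) (e2 j)).hom.toAlgebra
  letI a5 : ∀ j : s, Algebra Γ(Y, (V : Y.Opens)) Γ(pullback f h, W j) :=
    fun j => (((pullback.fst f h).appLE (U : X.Opens) (W j) (e1 j)).hom.comp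
      (f.appLE (V : Y.Opens) (U : X.Opens) hUV).hom).toAlgebra
  haveI t1 : ∀ j : s, IsScalarTower Γ(Y, (V : Y.Opens)) Γ(X, (U : X.Opens))
      Γ(pullback f h, W j) := fun j => IsScalarTower.of_algebraMap_eq (fun _ => rfl)
  haveI t2 : ∀ j : s, IsScalarTower Γ(Y, (V : Y.Opens))
      Γ(Y', ((j : Y'.affineOpens) : Y'.Opens)) Γ(pullback f h, W j) := by
    intro j
    refine IsScalarTower.of_algebraMap_eq (fun r => ?_)
    change ((pullback.fst f h).appLE (U : X.Opens) _ (e1 j)).hom
        ((f.appLE (V : Y.Opens) (U : X.Opens) hUV).hom r) =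
      ((pullback.snd f h).appLE _ _ (e2 j)).hom
        ((h.appLE (V : Y.Opens) _ (hle j)).hom r)
    rw [← CommRingCat.comp_apply, ← CommRingCat.comp_apply,
      Scheme.Hom.appLE_comp_appLE, Scheme.Hom.appLE_comp_appLE]
    congr 3
    exact hc.w
  haveI hpo : ∀ j : s, Algebra.IsPushout Γ(Y, (V : Y.Opens))
      Γ(Y', ((j : Y'.affineOpens) : Y'.Opens)) Γ(X, (U : X.Opens)) Γ(pullback f h, W j) :=
    fun j => algebra_isPushout hc (hle j) hUV V.2 j.1.2 U.2 (e1 j) (e2 j)
  haveI hfl : ∀ j : s, Module.Flat Γ(Y, (V : Y.Opens))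
      Γ(Y', ((j : Y'.affineOpens) : Y'.Opens)) :=
    fun j => HasRingHomProperty.appLE @Flat h inferInstance V j.1 (hle j)
  haveI hfl' : ∀ j : s, Module.Flat Γ(X, (U : X.Opens)) Γ(pullback f h, W j) :=
    fun j => HasRingHomProperty.appLE @Flat (pullback.fst f h) inferInstance U ⟨W j, hW j⟩ (e1 j)
  have hz : ZeroFam (R := Γ(Y, (V : Y.Opens)))
      (fun j : s => Γ(Y', ((j : Y'.affineOpens) : Y'.Opens))) := by
    refine zeroFam_of_map_ne_top _ (fun p hp => ?_)
    haveI := hp.isPrime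
    let y : Y := V.2.fromSpec.base ⟨p, hp.isPrime⟩
    obtain ⟨y', hy'⟩ := h.surjective y
    have hyV : y ∈ (V : Y.Opens) := by
      have : y ∈ V.2.fromSpec.opensRange := ⟨_, rfl⟩
      rwa [V.2.opensRange_fromSpec] at this
    have hy'V : y' ∈ h ⁻¹ᵁ (V : Y.Opens) := by
      show h.base y' ∈ (V : Y.Opens)
      rw [hy']
      exact hyV
    rw [hse] at hy'V
    simp only [Opens.mem_iSup] at hy'V
    obtain ⟨j, hjs, hy'j⟩ := hy'V
    refine ⟨⟨j, hjs⟩, ?_⟩
    let z := j.2.primeIdealOf ⟨y', hy'j⟩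
    have hz1 : j.2.fromSpec.base z = y' := j.2.fromSpec_primeIdealOf ⟨y', hy'j⟩
    have hsq := IsAffineOpen.SpecMap_appLE_fromSpec h V.2 j.2 (hle ⟨j, hjs⟩)
    have h3 : V.2.fromSpec.base ((Spec.map (h.appLE (V : Y.Opens) (j : Y'.Opens)
        (hle ⟨j, hjs⟩))).base z) = V.2.fromSpec.base ⟨p, hp.isPrime⟩ := by
      have := congrArg (fun φ => φ.base z) hsq
      simp only [Scheme.Hom.comp_base, TopCat.comp_app] at this
      rw [this, hz1, hy']
    have hinj := V.2.fromSpec.isOpenEmbedding.injective h3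
    intro htop
    have hcm : Ideal.comap (h.appLE (V : Y.Opens) (j : Y'.Opens) (hle ⟨j, hjs⟩)).hom z.asIdeal = p :=
      congrArg PrimeSpectrum.asIdeal hinj
    have hle' : Ideal.map (h.appLE (V : Y.Opens) (j : Y'.Opens) (hle ⟨j, hjs⟩)).hom p ≤
        z.asIdeal := by
      rw [Ideal.map_le_iff_le_comap]
      exact le_of_eq hcm.symm
    change Ideal.map (h.appLE (V : Y.Opens) (j : Y'.Opens) (hle ⟨j, hjs⟩)).hom p = ⊤ at htop
    rw [htop] at hle'
    exact z.2.ne_top (top_le_iff.1 hle')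
  refine isPC_restrictD_of_baseChart_family (fun j : s => Γ(Y', ((j : Y'.affineOpens) : Y'.Opens)))
    (fun j : s => Γ(pullback f h, W j)) hz φ hφ.2 M n (fun j => ?_)
  have hch : DerSch.IsChart (pullback.snd f h) (W j) ((j : Y'.affineOpens) : Y'.Opens) (e2 j)
      (baseChart Γ(Y', ((j : Y'.affineOpens) : Y'.Opens)) Γ(pullback f h, W j) φ) :=
    ⟨baseChart_surjective _ _ φ hφ.1 hφ.2, baseChart_comp_C _ _ φ⟩
  have cpc := chartPC_of_isPseudoCoherentRel (pullback.snd f h) _ n hE (hW j) j.1.2 (e2 j) _ hch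
  haveI := isClosedImmersion_chartImm' (pullback.snd f h) (hW j) (e2 j) _ hch
  haveI : IsClosedImmersion (imm (W j)
      (baseChart Γ(Y', ((j : Y'.affineOpens) : Y'.Opens)) Γ(pullback f h, W j) φ)) :=
    isClosedImmersion_imm (W j) (hW j) _ hch.1
  rw [chartPC_iff] at cpc
  have sq : (hW j).fromSpec ≫ pullback.fst f h =
      Spec.map (CommRingCat.ofHom (algebraMap Γ(X, (U : X.Opens)) Γ(pullback f h, W j))) ≫
        U.2.fromSpec :=
    (IsAffineOpen.SpecMap_appLE_fromSpec (pullback.fst f h) U.2 (hW j) (e1 j)).symm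
  obtain ⟨c'⟩ := nonempty_tildeD_extD_iso (pullback.fst f h) E
    (B := Γ(X, (U : X.Opens))) (B' := Γ(pullback f h, W j)) U.2.fromSpec (hW j).fromSpec sq M c
  exact (isPC_pushD_imm_iff (hW j) _ hch.1 _ _ c' n).1 cpc

end Geom

end Groth.Agent.Lib.Helper1.RelDescent
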