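import Mathlib
import Groth.Agent.Lib.Helper1RelDescentC
import Groth.Agent.Lib.Helper1TorBCB
import Groth.Agent.Lib.Helper1ChartQC

set_option backward.isDefEq.respectTransparency.types false
set_option autoImplicit false
set_option linter.style.haveILetI false
set_option linter.unusedSectionVars false
set_option maxHeartbeats 400000
universe u
open CategoryTheory CategoryTheory.Limits AlgebraicGeometry Opposite TopologicalSpace

attribute [local instance] HasDerivedCategory.standard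

namespace Groth.Agent.Lib.Helper1.RelDescent

open Groth.Agent.Lib.Helper1.Extend TensorProduct
open Groth.Agent.Lib.Helper1.SPL Groth.Agent.Lib.Helper1.ChartInd Groth.Agent.Lib.Helper1.ExtVan
  Groth.Agent.Lib.Helper1.LDer Groth.Agent.Lib.Helper1.FinPush Groth.Agent.Lib.Helper1.FpqcPC
  Groth.Agent.Lib.Helper1.PC Groth.Agent.Lib.Helper1.RelDict

section BaseChartFwd

attribute [local instance] MvPolynomial.algebraMvPolynomial in
/-- pseudo-coherence of the restriction along a chart passes to the base-changed chart -/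
theorem isPC_restrictD_baseChart_of_isPC {R B : Type u} [CommRing R] [CommRing B] [Algebra R B]
    (R' B' : Type u) [CommRing R'] [CommRing B']
    [Algebra R R'] [Algebra B B'] [Algebra R' B'] [Algebra R B']
    [IsScalarTower R B B'] [IsScalarTower R R' B'] [Algebra.IsPushout R R' B B']
    [Module.Flat R R'] [Module.Flat B B'] {k : ℕ} (φ : MvPolynomial (Fin k) R →+* B)
    (hφC : φ.comp MvPolynomial.C = algebraMap R B) (M : Dual.D B) (n : ℤ)
    (h : DRing.IsPseudoCoherent (MvPolynomial (Fin k) R) n ((DRing.restrictD φ).obj M)) :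
    DRing.IsPseudoCoherent (MvPolynomial (Fin k) R') n
      ((DRing.restrictD (baseChart R' B' φ)).obj ((extD B B').obj M)) := by
  haveI hfl : Module.Flat (MvPolynomial (Fin k) R) (MvPolynomial (Fin k) R') :=
    Module.Flat.isBaseChange R (MvPolynomial (Fin k) R) R' (MvPolynomial (Fin k) R')
      (inferInstance : Algebra.IsPushout R (MvPolynomial (Fin k) R) R'
        (MvPolynomial (Fin k) R')).out
  exact (isPC_restrictD_baseChart_iff R' B' φ hφC M n).2 (isPC_extD _ n h)

end BaseChartFwd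

section Geom

variable {X Y Y' : Scheme.{u}}

open Groth.Agent.Lib.Helper2.PullbackSec in
/-- relative `n`-pseudo-coherence is preserved by flat base change, for objects of `D_QCoh` -/
theorem isPseudoCoherentRel_lpull_baseChange_of_flat (f : X ⟶ Y) [LocallyOfFiniteType f]
    (h : Y' ⟶ Y) [Flat h] [DCoh.HasLpull (pullback.fst f h)]
    (n : ℤ) (E : DCoh.D X) (hq : DCoh.IsQCohD E)
    (hE : DerSch.IsPseudoCoherentRel f n E) :
    DerSch.IsPseudoCoherentRel (pullback.snd f h) n
      ((DCoh.Lpull (pullback.fst f h)).obj E) := by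
  have hc : IsPullback (pullback.fst f h) (pullback.snd f h) f h := IsPullback.of_hasPullback f h
  refine ⟨inferInstance, {V' : Y'.affineOpens | ∃ V : Y.affineOpens,
    (V' : Y'.Opens) ≤ h ⁻¹ᵁ (V : Y.Opens)}, ?_, ?_⟩
  · apply le_antisymm le_top
    intro y' _
    obtain ⟨V, hV, hyV, -⟩ := Opens.isBasis_iff_nbhd.1 Y.isBasis_affineOpens
      (show h.base y' ∈ (⊤ : Y.Opens) from trivial)
    obtain ⟨V', hV', hy'V', hV'V⟩ := Opens.isBasis_iff_nbhd.1 Y'.isBasis_affineOpens
      (show y' ∈ h ⁻¹ᵁ V from hyV)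
    exact Opens.mem_iSup.2 ⟨⟨V', hV'⟩, Opens.mem_iSup.2 ⟨⟨⟨V, hV⟩, hV'V⟩, hy'V'⟩⟩
  · rintro V' ⟨V, hV'V⟩
    refine ⟨{W : (pullback f h).affineOpens | ∃ U : X.affineOpens,
      (U : X.Opens) ≤ f ⁻¹ᵁ (V : Y.Opens) ∧
      (W : (pullback f h).Opens) = (pullback.fst f h) ⁻¹ᵁ (U : X.Opens) ⊓
        (pullback.snd f h) ⁻¹ᵁ (V' : Y'.Opens)}, ?_, ?_⟩
    · apply le_antisymm
      · refine iSup₂_le ?_
        rintro W ⟨U, -, hW⟩
        rw [hW]
        exact inf_le_right
      · intro x' hx'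
        have hw : h.base ((pullback.snd f h).base x') = f.base ((pullback.fst f h).base x') := by
          have := congrArg (fun φ => φ.base x') hc.w
          simpa using this.symm
        have hxV : (pullback.fst f h).base x' ∈ f ⁻¹ᵁ (V : Y.Opens) := by
          change f.base ((pullback.fst f h).base x') ∈ (V : Y.Opens)
          rw [← hw]
          exact hV'V hx'
        obtain ⟨U, hU, hxU, hUV⟩ := Opens.isBasis_iff_nbhd.1 X.isBasis_affineOpens hxV
        exact Opens.mem_iSup.2 ⟨⟨_, isAffineOpen_inf_preimage hc hV'V hUV V.2 V'.2 hU⟩,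
          Opens.mem_iSup.2 ⟨⟨⟨U, hU⟩, hUV, rfl⟩, ⟨hxU, hx'⟩⟩⟩
    · rintro ⟨W, hWaff⟩ ⟨U, hUV, hW⟩ e2
      change W = _ at hW
      subst hW
      obtain ⟨k, φ, hφ⟩ := exists_isChart f U.2 V.2 hUV
      -- the module `M = RΓ(U, E)`
      obtain ⟨RG, adj, -, h2⟩ := Groth.Agent.Lib.Helper17.TildeD.tildeD_main Γ(X, (U : X.Opens))
      have hEU : DCoh.IsQCohD ((resD U.2.fromSpec).obj E) := isQCohD_restrictD U.2.fromSpec E hq
      haveI := h2 _ hEU
      let M : Dual.D Γ(X, (U : X.Opens)) := RG.obj ((resD U.2.fromSpec).obj E)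
      have c : (DCoh.tildeD Γ(X, (U : X.Opens))).obj M ≅ (resD U.2.fromSpec).obj E :=
        asIso (adj.counit.app _)
      haveI := isClosedImmersion_chartImm' f U.2 hUV φ hφ
      haveI : IsClosedImmersion (imm (U : X.Opens) φ) :=
        isClosedImmersion_imm (U : X.Opens) U.2 φ hφ.1
      have cpc := chartPC_of_isPseudoCoherentRel f E n hE U.2 V.2 hUV φ hφ
      rw [chartPC_iff] at cpc
      have hM := (isPC_pushD_imm_iff U.2 φ hφ.1 E M c n).1 cpc
      set W : (pullback f h).Opens := (pullback.fst f h) ⁻¹ᵁ (U : X.Opens) ⊓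
        (pullback.snd f h) ⁻¹ᵁ (V' : Y'.Opens) with hWdef
      have e1 : W ≤ (pullback.fst f h) ⁻¹ᵁ (U : X.Opens) := inf_le_left
      letI a1 : Algebra Γ(Y, (V : Y.Opens)) Γ(X, (U : X.Opens)) :=
        (f.appLE (V : Y.Opens) (U : X.Opens) hUV).hom.toAlgebra
      letI a2 : Algebra Γ(Y, (V : Y.Opens)) Γ(Y', (V' : Y'.Opens)) :=
        (h.appLE (V : Y.Opens) _ hV'V).hom.toAlgebra
      letI a3 : Algebra Γ(X, (U : X.Opens)) Γ(pullback f h, W) :=
        ((pullback.fst f h).appLE (U : X.Opens) W e1).hom.toAlgebra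
      letI a4 : Algebra Γ(Y', (V' : Y'.Opens)) Γ(pullback f h, W) :=
        ((pullback.snd f h).appLE _ W e2).hom.toAlgebra
      letI a5 : Algebra Γ(Y, (V : Y.Opens)) Γ(pullback f h, W) :=
        (((pullback.fst f h).appLE (U : X.Opens) W e1).hom.comp
          (f.appLE (V : Y.Opens) (U : X.Opens) hUV).hom).toAlgebra
      haveI t1 : IsScalarTower Γ(Y, (V : Y.Opens)) Γ(X, (U : X.Opens))
          Γ(pullback f h, W) := IsScalarTower.of_algebraMap_eq (fun _ => rfl)
      haveI t2 : IsScalarTower Γ(Y, (V : Y.Opens))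
          Γ(Y', (V' : Y'.Opens)) Γ(pullback f h, W) := by
        refine IsScalarTower.of_algebraMap_eq (fun r => ?_)
        change ((pullback.fst f h).appLE (U : X.Opens) _ e1).hom
            ((f.appLE (V : Y.Opens) (U : X.Opens) hUV).hom r) =
          ((pullback.snd f h).appLE _ _ e2).hom
            ((h.appLE (V : Y.Opens) _ hV'V).hom r)
        rw [← CommRingCat.comp_apply, ← CommRingCat.comp_apply,
          Scheme.Hom.appLE_comp_appLE, Scheme.Hom.appLE_comp_appLE]
        congr 3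
        exact hc.w
      haveI hpo : Algebra.IsPushout Γ(Y, (V : Y.Opens))
          Γ(Y', (V' : Y'.Opens)) Γ(X, (U : X.Opens)) Γ(pullback f h, W) :=
        algebra_isPushout hc hV'V hUV V.2 V'.2 U.2 e1 e2
      haveI hfl : Module.Flat Γ(Y, (V : Y.Opens)) Γ(Y', (V' : Y'.Opens)) :=
        HasRingHomProperty.appLE @Flat h inferInstance V V' hV'V
      haveI hfl' : Module.Flat Γ(X, (U : X.Opens)) Γ(pullback f h, W) :=
        HasRingHomProperty.appLE @Flat (pullback.fst f h) inferInstance U ⟨W, hWaff⟩ e1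
      have hch : DerSch.IsChart (pullback.snd f h) W (V' : Y'.Opens) e2
          (baseChart Γ(Y', (V' : Y'.Opens)) Γ(pullback f h, W) φ) :=
        ⟨baseChart_surjective _ _ φ hφ.1 hφ.2, baseChart_comp_C _ _ φ⟩
      refine ⟨k, baseChart Γ(Y', (V' : Y'.Opens)) Γ(pullback f h, W) φ, hch, ?_⟩
      haveI := isClosedImmersion_chartImm' (pullback.snd f h) hWaff e2 _ hch
      haveI : IsClosedImmersion (imm W
          (baseChart Γ(Y', (V' : Y'.Opens)) Γ(pullback f h, W) φ)) :=
        isClosedImmersion_imm W hWaff _ hch.1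
      rw [chartPC_iff]
      have sq : hWaff.fromSpec ≫ pullback.fst f h =
          Spec.map (CommRingCat.ofHom (algebraMap Γ(X, (U : X.Opens)) Γ(pullback f h, W))) ≫
            U.2.fromSpec :=
        (IsAffineOpen.SpecMap_appLE_fromSpec (pullback.fst f h) U.2 hWaff e1).symm
      obtain ⟨c'⟩ := nonempty_tildeD_extD_iso (pullback.fst f h) E
        (B := Γ(X, (U : X.Opens))) (B' := Γ(pullback f h, W)) U.2.fromSpec hWaff.fromSpec sq M c
      refine (isPC_pushD_imm_iff hWaff _ hch.1 _ _ c' n).2 ?_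
      exact isPC_restrictD_baseChart_of_isPC Γ(Y', (V' : Y'.Opens)) Γ(pullback f h, W) φ hφ.2 M n hM

/-- relative pseudo-coherence is invariant under isomorphism -/
theorem isPseudoCoherentRel_of_iso {X Y : Scheme.{u}} (f : X ⟶ Y) (m : ℤ) {K K' : DCoh.D X}
    (e : K ≅ K') (hK : DerSch.IsPseudoCoherentRel f m K) : DerSch.IsPseudoCoherentRel f m K' := by
  obtain ⟨hft, 𝒱, h𝒱, H⟩ := hK
  refine ⟨hft, 𝒱, h𝒱, fun V hV => ?_⟩
  obtain ⟨𝒰, h𝒰, H'⟩ := H V hV
  refine ⟨𝒰, h𝒰, fun U hU hUV => ?_⟩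
  obtain ⟨n, φ, hφ, hpc⟩ := H' U hU hUV
  exact ⟨n, φ, hφ, fun G ⟨eG⟩ => hpc G ⟨eG ≪≫ e.symm⟩⟩

/-- **S6230**: perfect amplitude relative to a morphism is preserved by flat base change -/
theorem hasPerfAmplitudeRel_Lpull_baseChange_of_flat (f : X ⟶ Y) [LocallyOfFiniteType f]
    (h : Y' ⟶ Y) [Flat h] [DCoh.HasLpull (pullback.fst f h)] (a b : ℤ)
    (F : CochainComplex X.Modules ℤ) (hF : DerSch.HasPerfAmplitudeRel f a b F) :
    ∀ F' : CochainComplex (pullback f h).Modules ℤ,
      Nonempty (DCoh.toD (pullback f h) F' ≅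
        (DCoh.Lpull (pullback.fst f h)).obj (DCoh.toD X F)) →
        DerSch.HasPerfAmplitudeRel (pullback.snd f h) a b F' := by
  rintro F' ⟨e⟩
  obtain ⟨hpc, hta⟩ := hF
  refine ⟨fun m => ?_, ?_⟩
  · have hq : DCoh.IsQCohD (DCoh.toD X F) :=
      Groth.Agent.Lib.Helper1.ChartQC.isQCohD_of_isPseudoCoherentRelAll f _ hpc
    exact isPseudoCoherentRel_of_iso _ m e.symm
      (isPseudoCoherentRel_lpull_baseChange_of_flat f h m _ hq (hpc m))
  · exact Groth.Agent.Lib.Helper1.TorBC.hasTorAmplitudeD_Lpull_baseChange_of_flat f h F a b hta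
      F' ⟨e⟩

end Geom

end Groth.Agent.Lib.Helper1.RelDescent
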