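import Mathlib
import Groth.Agent.Lib.Helper1RelDescentD

set_option backward.isDefEq.respectTransparency.types false
set_option autoImplicit false
set_option linter.style.haveILetI false
set_option linter.unusedSectionVars false
set_option maxHeartbeats 800000
universe u
open CategoryTheory CategoryTheory.Limits AlgebraicGeometry Opposite TopologicalSpace

attribute [local instance] HasDerivedCategory.standard

namespace Groth.Agent.Lib.Helper1.RelDescent

open Groth.Agent.Lib.Helper1.Extend TensorProduct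
open Groth.Agent.Lib.Helper1.SPL Groth.Agent.Lib.Helper1.ChartInd Groth.Agent.Lib.Helper1.ExtVan
  Groth.Agent.Lib.Helper1.LDer Groth.Agent.Lib.Helper1.FinPush Groth.Agent.Lib.Helper1.FpqcPC
  Groth.Agent.Lib.Helper1.PC Groth.Agent.Lib.Helper1.RelDict

section Geom

variable {X Y : Scheme.{u}}

open Groth.Agent.Lib.Helper2.PullbackSec in
/-- descent of relative `n`-pseudo-coherence along an fppf covering family of the base, for objects
of `D_QCoh` -/
theorem isPseudoCoherentRel_of_lpull_baseChange_family (f : X ⟶ Y) [LocallyOfFiniteType f]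
    {ι : Type u} (Si : ι → Scheme.{u}) (h : ∀ i, Si i ⟶ Y) [∀ i, Flat (h i)]
    [∀ i, LocallyOfFinitePresentation (h i)]
    (hcov : ∀ s : Y, ∃ (i : ι) (t : Si i), (h i).base t = s)
    [∀ i, DCoh.HasLpull (pullback.fst f (h i))]
    (n : ℤ) (E : DCoh.D X) (hq : DCoh.IsQCohD E)
    (hE : ∀ i, DerSch.IsPseudoCoherentRel (pullback.snd f (h i)) n
      ((DCoh.Lpull (pullback.fst f (h i))).obj E)) :
    DerSch.IsPseudoCoherentRel f n E := by
  have hc : ∀ i, IsPullback (pullback.fst f (h i)) (pullback.snd f (h i)) f (h i) :=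
    fun i => IsPullback.of_hasPullback f (h i)
  refine isPseudoCoherentRel_of_forall f _ n (fun U V hUV => ?_)
  obtain ⟨k, φ, hφ⟩ := exists_isChart f U.2 V.2 hUV
  refine ⟨k, φ, hφ, ?_⟩
  -- the module `M = RΓ(U, E)`
  obtain ⟨RG, adj, -, h2⟩ := Groth.Agent.Lib.Helper17.TildeD.tildeD_main Γ(X, (U : X.Opens))
  have hEU : DCoh.IsQCohD ((resD U.2.fromSpec).obj E) := isQCohD_restrictD U.2.fromSpec E hq
  haveI := h2 _ hEU
  let M : Dual.D Γ(X, (U : X.Opens)) := RG.obj ((resD U.2.fromSpec).obj E)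
  have c : (DCoh.tildeD Γ(X, (U : X.Opens))).obj M ≅ (resD U.2.fromSpec).obj E :=
    asIso (adj.counit.app _)
  haveI := isClosedImmersion_chartImm' f U.2 hUV φ hφ
  haveI : IsClosedImmersion (imm (U : X.Opens) φ) := isClosedImmersion_imm (U : X.Opens) U.2 φ hφ.1
  rw [chartPC_iff]
  refine (isPC_pushD_imm_iff U.2 φ hφ.1 E M c n).2 ?_
  -- the finite family covering `V`
  have hch : ∀ y : (V : Y.Opens), ∃ (i : ι) (V' : (Si i).affineOpens),
      ((V' : (Si i).Opens) ≤ h i ⁻¹ᵁ (V : Y.Opens)) ∧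
      (y : Y) ∈ (h i).base '' ((V' : (Si i).Opens) : Set (Si i)) := by
    intro y
    obtain ⟨i, t, ht⟩ := hcov y
    have htV : t ∈ h i ⁻¹ᵁ (V : Y.Opens) := by
      show (h i).base t ∈ (V : Y.Opens)
      rw [ht]; exact y.2
    obtain ⟨V', hV', htV', hV'V⟩ := Opens.isBasis_iff_nbhd.1 (Si i).isBasis_affineOpens htV
    exact ⟨i, ⟨V', hV'⟩, hV'V, ⟨t, htV', ht⟩⟩
  choose ii VV hVV himg using hch
  have hVc : IsCompact ((V : Y.Opens) : Set Y) := V.2.isCompact
  obtain ⟨T, hT⟩ := hVc.elim_finite_subcover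
    (fun y : (V : Y.Opens) => (h (ii y)).base '' ((VV y : (Si (ii y)).Opens) : Set (Si (ii y))))
    (fun y => (h (ii y)).isOpenMap _ (VV y : (Si (ii y)).Opens).isOpen)
    (fun y hy => Set.mem_iUnion.2 ⟨⟨y, hy⟩, himg ⟨y, hy⟩⟩)
  let J := {y : (V : Y.Opens) // y ∈ T}
  haveI : Finite J := inferInstance
  let i' : J → ι := fun j => ii j.1
  let V' : ∀ j : J, (Si (i' j)).affineOpens := fun j => VV j.1
  have hle : ∀ j : J, ((V' j : (Si (i' j)).affineOpens) : (Si (i' j)).Opens) ≤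
      h (i' j) ⁻¹ᵁ (V : Y.Opens) := fun j => hVV j.1
  let W : ∀ j : J, (pullback f (h (i' j))).Opens := fun j =>
    (pullback.fst f (h (i' j))) ⁻¹ᵁ (U : X.Opens) ⊓
      (pullback.snd f (h (i' j))) ⁻¹ᵁ ((V' j : (Si (i' j)).affineOpens) : (Si (i' j)).Opens)
  have hW : ∀ j, IsAffineOpen (W j) := fun j =>
    isAffineOpen_inf_preimage (hc (i' j)) (hle j) hUV V.2 (V' j).2 U.2
  have e1 : ∀ j, W j ≤ (pullback.fst f (h (i' j))) ⁻¹ᵁ (U : X.Opens) := fun j => inf_le_left
  have e2 : ∀ j, W j ≤ (pullback.snd f (h (i' j))) ⁻¹ᵁ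
      ((V' j : (Si (i' j)).affineOpens) : (Si (i' j)).Opens) := fun j => inf_le_right
  letI a1 : Algebra Γ(Y, (V : Y.Opens)) Γ(X, (U : X.Opens)) :=
    (f.appLE (V : Y.Opens) (U : X.Opens) hUV).hom.toAlgebra
  letI a2 : ∀ j : J, Algebra Γ(Y, (V : Y.Opens))
      Γ(Si (i' j), ((V' j : (Si (i' j)).affineOpens) : (Si (i' j)).Opens)) :=
    fun j => ((h (i' j)).appLE (V : Y.Opens) _ (hle j)).hom.toAlgebra
  letI a3 : ∀ j : J, Algebra Γ(X, (U : X.Opens)) Γ(pullback f (h (i' j)), W j) :=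
    fun j => ((pullback.fst f (h (i' j))).appLE (U : X.Opens) (W j) (e1 j)).hom.toAlgebra
  letI a4 : ∀ j : J, Algebra Γ(Si (i' j), ((V' j : (Si (i' j)).affineOpens) : (Si (i' j)).Opens))
      Γ(pullback f (h (i' j)), W j) :=
    fun j => ((pullback.snd f (h (i' j))).appLE _ (W j) (e2 j)).hom.toAlgebra
  letI a5 : ∀ j : J, Algebra Γ(Y, (V : Y.Opens)) Γ(pullback f (h (i' j)), W j) :=
    fun j => (((pullback.fst f (h (i' j))).appLE (U : X.Opens) (W j) (e1 j)).hom.comp
      (f.appLE (V : Y.Opens) (U : X.Opens) hUV).hom).toAlgebra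
  haveI t1 : ∀ j : J, IsScalarTower Γ(Y, (V : Y.Opens)) Γ(X, (U : X.Opens))
      Γ(pullback f (h (i' j)), W j) := fun j => IsScalarTower.of_algebraMap_eq (fun _ => rfl)
  haveI t2 : ∀ j : J, IsScalarTower Γ(Y, (V : Y.Opens))
      Γ(Si (i' j), ((V' j : (Si (i' j)).affineOpens) : (Si (i' j)).Opens))
      Γ(pullback f (h (i' j)), W j) := by
    intro j
    refine IsScalarTower.of_algebraMap_eq (fun r => ?_)
    change ((pullback.fst f (h (i' j))).appLE (U : X.Opens) _ (e1 j)).hom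
        ((f.appLE (V : Y.Opens) (U : X.Opens) hUV).hom r) =
      ((pullback.snd f (h (i' j))).appLE _ _ (e2 j)).hom
        (((h (i' j)).appLE (V : Y.Opens) _ (hle j)).hom r)
    rw [← CommRingCat.comp_apply, ← CommRingCat.comp_apply,
      Scheme.Hom.appLE_comp_appLE, Scheme.Hom.appLE_comp_appLE]
    congr 3
    exact (hc (i' j)).w
  haveI hpo : ∀ j : J, Algebra.IsPushout Γ(Y, (V : Y.Opens))
      Γ(Si (i' j), ((V' j : (Si (i' j)).affineOpens) : (Si (i' j)).Opens))
      Γ(X, (U : X.Opens)) Γ(pullback f (h (i' j)), W j) :=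
    fun j => algebra_isPushout (hc (i' j)) (hle j) hUV V.2 (V' j).2 U.2 (e1 j) (e2 j)
  haveI hfl : ∀ j : J, Module.Flat Γ(Y, (V : Y.Opens))
      Γ(Si (i' j), ((V' j : (Si (i' j)).affineOpens) : (Si (i' j)).Opens)) :=
    fun j => HasRingHomProperty.appLE @Flat (h (i' j)) inferInstance V (V' j) (hle j)
  haveI hfl' : ∀ j : J, Module.Flat Γ(X, (U : X.Opens)) Γ(pullback f (h (i' j)), W j) :=
    fun j => HasRingHomProperty.appLE @Flat (pullback.fst f (h (i' j))) inferInstance U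
      ⟨W j, hW j⟩ (e1 j)
  have hz : ZeroFam (R := Γ(Y, (V : Y.Opens)))
      (fun j : J => Γ(Si (i' j), ((V' j : (Si (i' j)).affineOpens) : (Si (i' j)).Opens))) := by
    refine zeroFam_of_map_ne_top _ (fun p hp => ?_)
    haveI := hp.isPrime
    let y : Y := V.2.fromSpec.base ⟨p, hp.isPrime⟩
    have hyV : y ∈ (V : Y.Opens) := by
      have : y ∈ V.2.fromSpec.opensRange := ⟨_, rfl⟩
      rwa [V.2.opensRange_fromSpec] at this
    have hyT := hT hyV
    simp only [Set.mem_iUnion] at hyT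
    obtain ⟨y0, hy0T, y', hy'V', hy'⟩ := hyT
    let j : J := ⟨y0, hy0T⟩
    refine ⟨j, ?_⟩
    let z := (V' j).2.primeIdealOf ⟨y', hy'V'⟩
    have hz1 : (V' j).2.fromSpec.base z = y' := (V' j).2.fromSpec_primeIdealOf ⟨y', hy'V'⟩
    have hsq := IsAffineOpen.SpecMap_appLE_fromSpec (h (i' j)) V.2 (V' j).2 (hle j)
    have h3 : V.2.fromSpec.base ((Spec.map ((h (i' j)).appLE (V : Y.Opens)
        ((V' j : (Si (i' j)).affineOpens) : (Si (i' j)).Opens)
        (hle j))).base z) = V.2.fromSpec.base ⟨p, hp.isPrime⟩ := by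
      have := congrArg (fun φ => φ.base z) hsq
      simp only [Scheme.Hom.comp_base, TopCat.comp_app] at this
      rw [this, hz1]
      exact hy'
    have hinj := V.2.fromSpec.isOpenEmbedding.injective h3
    intro htop
    have hcm : Ideal.comap ((h (i' j)).appLE (V : Y.Opens)
        ((V' j : (Si (i' j)).affineOpens) : (Si (i' j)).Opens) (hle j)).hom z.asIdeal = p :=
      congrArg PrimeSpectrum.asIdeal hinj
    have hle' : Ideal.map ((h (i' j)).appLE (V : Y.Opens)
        ((V' j : (Si (i' j)).affineOpens) : (Si (i' j)).Opens) (hle j)).hom p ≤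
        z.asIdeal := by
      rw [Ideal.map_le_iff_le_comap]
      exact le_of_eq hcm.symm
    change Ideal.map ((h (i' j)).appLE (V : Y.Opens)
        ((V' j : (Si (i' j)).affineOpens) : (Si (i' j)).Opens) (hle j)).hom p = ⊤ at htop
    rw [htop] at hle'
    exact z.2.ne_top (top_le_iff.1 hle')
  refine isPC_restrictD_of_baseChart_family
    (fun j : J => Γ(Si (i' j), ((V' j : (Si (i' j)).affineOpens) : (Si (i' j)).Opens)))
    (fun j : J => Γ(pullback f (h (i' j)), W j)) hz φ hφ.2 M n (fun j => ?_)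
  have hch : DerSch.IsChart (pullback.snd f (h (i' j))) (W j)
      ((V' j : (Si (i' j)).affineOpens) : (Si (i' j)).Opens) (e2 j)
      (baseChart Γ(Si (i' j), ((V' j : (Si (i' j)).affineOpens) : (Si (i' j)).Opens))
        Γ(pullback f (h (i' j)), W j) φ) :=
    ⟨baseChart_surjective _ _ φ hφ.1 hφ.2, baseChart_comp_C _ _ φ⟩
  have cpc := chartPC_of_isPseudoCoherentRel (pullback.snd f (h (i' j))) _ n (hE (i' j)) (hW j)
    (V' j).2 (e2 j) _ hch
  haveI := isClosedImmersion_chartImm' (pullback.snd f (h (i' j))) (hW j) (e2 j) _ hch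
  haveI : IsClosedImmersion (imm (W j)
      (baseChart Γ(Si (i' j), ((V' j : (Si (i' j)).affineOpens) : (Si (i' j)).Opens))
        Γ(pullback f (h (i' j)), W j) φ)) :=
    isClosedImmersion_imm (W j) (hW j) _ hch.1
  rw [chartPC_iff] at cpc
  have sq : (hW j).fromSpec ≫ pullback.fst f (h (i' j)) =
      Spec.map (CommRingCat.ofHom (algebraMap Γ(X, (U : X.Opens))
        Γ(pullback f (h (i' j)), W j))) ≫ U.2.fromSpec :=
    (IsAffineOpen.SpecMap_appLE_fromSpec (pullback.fst f (h (i' j))) U.2 (hW j) (e1 j)).symm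
  obtain ⟨c'⟩ := nonempty_tildeD_extD_iso (pullback.fst f (h (i' j))) E
    (B := Γ(X, (U : X.Opens))) (B' := Γ(pullback f (h (i' j)), W j)) U.2.fromSpec
    (hW j).fromSpec sq M c
  exact (isPC_pushD_imm_iff (hW j) _ hch.1 _ _ c' n).1 cpc

/-- **S7228** -/
theorem isPseudoCoherentRel_iff_forall_lpull_fppf_base (f : X ⟶ Y) [LocallyOfFiniteType f]
    {ι : Type u} (Si : ι → Scheme.{u}) (h : ∀ i, Si i ⟶ Y) [∀ i, Flat (h i)]
    [∀ i, LocallyOfFinitePresentation (h i)]
    (hcov : ∀ s : Y, ∃ (i : ι) (t : Si i), (h i).base t = s)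
    [∀ i, DCoh.HasLpull (pullback.fst f (h i))] (m : ℤ) (E : DCoh.D X) (hE : DCoh.IsQCohD E) :
    DerSch.IsPseudoCoherentRel f m E ↔
      ∀ i, DerSch.IsPseudoCoherentRel (pullback.snd f (h i)) m
        ((DCoh.Lpull (pullback.fst f (h i))).obj E) :=
  ⟨fun H i => isPseudoCoherentRel_lpull_baseChange_of_flat f (h i) m E hE H,
    fun H => isPseudoCoherentRel_of_lpull_baseChange_family f Si h hcov m E hE H⟩

end Geom

end Groth.Agent.Lib.Helper1.RelDescent
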