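import Mathlib
import Groth.Agent.Lib.Helper1RelDict
import Groth.Agent.S6984
set_option backward.isDefEq.respectTransparency.types false

/-!
# helper1: relative pseudo-coherence and finite pushforward (S7210)
-/

set_option autoImplicit false
set_option linter.style.haveILetI false
set_option linter.unusedSectionVars false
set_option maxHeartbeats 400000
universe u
open CategoryTheory CategoryTheory.Limits AlgebraicGeometry Opposite TopologicalSpace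

attribute [local instance] HasDerivedCategory.standard

namespace Groth.Agent.Lib.Helper1.RelFin

open Groth.Agent.Lib.Helper1.SPL Groth.Agent.Lib.Helper1.ChartInd Groth.Agent.Lib.Helper1.ExtVan
  Groth.Agent.Lib.Helper1.FinPush Groth.Agent.Lib.Helper1.ClosedPC
  Groth.Agent.Lib.Helper1.RelDict

variable {X Y S : Scheme.{u}} (q : Y ⟶ S) [LocallyOfFiniteType q] (π : X ⟶ Y) [IsFinite π]
  [LocallyOfFiniteType (π ≫ q)] [DCoh.HasRpush π]

/-- the affine-local equivalence -/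
theorem key (E : DCoh.D X) (hE : DCoh.IsQCohD E) (m : ℤ) {V : S.Opens} (hV : IsAffineOpen V)
    {W : Y.Opens} (hW : IsAffineOpen W) (h : W ≤ q ⁻¹ᵁ V) (h' : π ⁻¹ᵁ W ≤ (π ≫ q) ⁻¹ᵁ V) :
    (∃ (n : ℕ) (φ : MvPolynomial (Fin n) Γ(S, V) →+* Γ(X, π ⁻¹ᵁ W)),
        DerSch.IsChart (π ≫ q) (π ⁻¹ᵁ W) V h' φ ∧ DerSch.ChartPC m E (π ⁻¹ᵁ W) V φ) ↔
      (∃ (n : ℕ) (φ : MvPolynomial (Fin n) Γ(S, V) →+* Γ(Y, W)),
        DerSch.IsChart q W V h φ ∧ DerSch.ChartPC m ((DCoh.Rpush π).obj E) W V φ) := by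
  have hU : IsAffineOpen (π ⁻¹ᵁ W) := hW.preimage π
  obtain ⟨RG, adj, -, h2⟩ := Groth.Agent.Lib.Helper17.TildeD.tildeD_main Γ(X, π ⁻¹ᵁ W)
  have hEU : DCoh.IsQCohD ((resD hU.fromSpec).obj E) := isQCohD_restrictD hU.fromSpec E hE
  haveI := h2 _ hEU
  let M := RG.obj ((resD hU.fromSpec).obj E)
  have c : (DCoh.tildeD Γ(X, π ⁻¹ᵁ W)).obj M ≅ (resD hU.fromSpec).obj E :=
    asIso (adj.counit.app _)
  obtain ⟨i1⟩ := nonempty_iso1 π hW hU E M c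
  rw [exists_chartPC_iff (π ≫ q) E m hU hV h' M c,
    exists_chartPC_iff q ((DCoh.Rpush π).obj E) m hW hV h _ i1.symm]
  letI algRA : Algebra Γ(S, V) Γ(Y, W) := (q.appLE V W h).hom.toAlgebra
  letI algAB : Algebra Γ(Y, W) Γ(X, π ⁻¹ᵁ W) := (π.appLE W (π ⁻¹ᵁ W) le_rfl).hom.toAlgebra
  letI algRB : Algebra Γ(S, V) Γ(X, π ⁻¹ᵁ W) := ((π ≫ q).appLE V (π ⁻¹ᵁ W) h').hom.toAlgebra
  haveI : IsScalarTower Γ(S, V) Γ(Y, W) Γ(X, π ⁻¹ᵁ W) := by
    refine IsScalarTower.of_algebraMap_eq' ?_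
    show ((π ≫ q).appLE V (π ⁻¹ᵁ W) h').hom =
      (π.appLE W (π ⁻¹ᵁ W) le_rfl).hom.comp (q.appLE V W h).hom
    rw [← CommRingCat.hom_comp, Scheme.Hom.appLE_comp_appLE]
  haveI : Algebra.FiniteType Γ(S, V) Γ(Y, W) := q.finiteType_appLE hV hW h
  haveI : Algebra.FiniteType Γ(S, V) Γ(X, π ⁻¹ᵁ W) := (π ≫ q).finiteType_appLE hV hU h'
  haveI : Module.Finite Γ(Y, W) Γ(X, π ⁻¹ᵁ W) := by
    have := π.finite_app W hW
    rw [Scheme.Hom.app_eq_appLE] at this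
    exact this
  exact (Groth.Agent.S6984.result (R := Γ(S, V)) (A := Γ(Y, W)) (B := Γ(X, π ⁻¹ᵁ W)) M m).1


omit [LocallyOfFiniteType (π ≫ q)] in
/-- **S7210** -/
theorem isPseudoCoherentRel_rpush_iff (p : X ⟶ S) [LocallyOfFiniteType p] (w : π ≫ q = p)
    (m : ℤ) (E : DCoh.D X) (hE : DCoh.IsQCohD E) :
    DerSch.IsPseudoCoherentRel p m E ↔
      DerSch.IsPseudoCoherentRel q m ((DCoh.Rpush π).obj E) := by
  subst w
  constructor
  · intro H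
    rw [Groth.Agent.S7208.result] at H ⊢
    intro W V h
    have h' : π ⁻¹ᵁ (W : Y.Opens) ≤ (π ≫ q) ⁻¹ᵁ (V : S.Opens) := fun x hx => h hx
    exact (key q π E hE m V.2 W.2 h h').1 (H ⟨π ⁻¹ᵁ (W : Y.Opens), W.2.preimage π⟩ V h')
  · intro H
    rw [Groth.Agent.S7208.result] at H
    refine ⟨inferInstance, Set.univ, ?_, fun V _ => ⟨{U | ∃ W : Y.affineOpens,
      (W : Y.Opens) ≤ q ⁻¹ᵁ (V : S.Opens) ∧ (U : X.Opens) = π ⁻¹ᵁ (W : Y.Opens)}, ?_, ?_⟩⟩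
    · apply le_antisymm le_top
      intro s _
      obtain ⟨V, hV, hsV, -⟩ := Opens.isBasis_iff_nbhd.1 S.isBasis_affineOpens
        (show s ∈ (⊤ : S.Opens) from trivial)
      exact Opens.mem_iSup.2 ⟨⟨V, hV⟩, Opens.mem_iSup.2 ⟨Set.mem_univ _, hsV⟩⟩
    · apply le_antisymm
      · refine iSup₂_le fun U hU => ?_
        obtain ⟨W, hWV, hUW⟩ := hU
        rw [hUW]
        exact fun x hx => hWV hx
      · intro x hx
        obtain ⟨W, hW, hxW, hWV⟩ := Opens.isBasis_iff_nbhd.1 Y.isBasis_affineOpens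
          (show π x ∈ q ⁻¹ᵁ (V : S.Opens) from hx)
        exact Opens.mem_iSup.2 ⟨⟨π ⁻¹ᵁ W, hW.preimage π⟩,
          Opens.mem_iSup.2 ⟨⟨⟨W, hW⟩, hWV, rfl⟩, hxW⟩⟩
    · rintro ⟨U, hUaff⟩ ⟨W, hWV, hUW⟩ hle
      change U = π ⁻¹ᵁ (W : Y.Opens) at hUW
      subst hUW
      exact (key q π E hE m V.2 W.2 hWV hle).2 (H W V hWV)

end Groth.Agent.Lib.Helper1.RelFin
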