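import Mathlib
import Groth.Agent.Lib.Helper1RelPT
import Groth.Agent.Lib.Helper1PCNil2
import Groth.Agent.Lib.Helper1TorO
set_option backward.isDefEq.respectTransparency.types false

/-!
# `R`-perfectness descends along nilpotent thickenings of the base (helper1)
-/

set_option autoImplicit false
set_option linter.style.haveILetI false
set_option maxHeartbeats 400000
universe u
open CategoryTheory CategoryTheory.Limits MonoidalCategory HomologicalComplex TensorProduct
attribute [local instance] HasDerivedCategory.standard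

namespace Groth.Agent.Lib.Helper1.RelNil

open DerivedCategory Groth.Agent.Lib.Helper1.KF Groth.Agent.Lib.Helper1.Tor
  Groth.Agent.Lib.Helper1.DT Groth.Agent.Lib.Helper1.LDer Groth.Agent.Lib.Helper1.TorM
  Groth.Agent.Lib.Helper1.TorN Groth.Agent.Lib.Helper1.TorO Groth.Agent.Lib.Helper1.RelBC
  Groth.Agent.Lib.Helper1.TorDim Groth.Agent.Lib.Helper1.Restrict Groth.Agent.Lib.Helper1.TQ

section Ring

variable {R' A' R : Type u} [CommRing R'] [CommRing A'] [Algebra R' A'] [CommRing R] [Algebra R' R]

lemma includeRight_surjective (hs : Function.Surjective (algebraMap R' R)) :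
    Function.Surjective (Algebra.TensorProduct.includeRight.toRingHom : A' →+* R ⊗[R'] A') := by
  intro x
  induction x using TensorProduct.induction_on with
  | zero => exact ⟨0, map_zero _⟩
  | tmul r a =>
    obtain ⟨r', rfl⟩ := hs r
    refine ⟨r' • a, ?_⟩
    show (1 : R) ⊗ₜ[R'] (r' • a) = algebraMap R' R r' ⊗ₜ a
    rw [TensorProduct.tmul_smul, TensorProduct.smul_tmul', Algebra.algebraMap_eq_smul_one]
  | add x y hx hy =>
    obtain ⟨a, rfl⟩ := hx
    obtain ⟨b, rfl⟩ := hy
    exact ⟨a + b, map_add _ _ _⟩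

lemma ker_includeRight_le (hs : Function.Surjective (algebraMap R' R)) :
    RingHom.ker (Algebra.TensorProduct.includeRight.toRingHom : A' →+* R ⊗[R'] A') ≤
      (RingHom.ker (algebraMap R' R)).map (algebraMap R' A') := by
  intro a ha
  have hs' : Function.Surjective (Algebra.ofId R' R) := hs
  have h1 : (1 : R') ⊗ₜ[R'] a ∈
      RingHom.ker (Algebra.TensorProduct.map (Algebra.ofId R' R) (AlgHom.id R' A')) := by
    rw [RingHom.mem_ker] at ha ⊢
    simpa using ha
  rw [Algebra.TensorProduct.rTensor_ker _ hs'] at h1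
  have hle : Ideal.map (Algebra.TensorProduct.includeLeft : R' →ₐ[R'] R' ⊗[R'] A')
      (RingHom.ker (Algebra.ofId R' R)) ≤
      ((RingHom.ker (algebraMap R' R)).map (algebraMap R' A')).comap
        (Algebra.TensorProduct.lid R' A') := by
    rw [Ideal.map_le_iff_le_comap]
    intro r hr
    rw [Ideal.mem_comap, Ideal.mem_comap]
    have h0 : (Algebra.TensorProduct.lid R' A')
        ((Algebra.TensorProduct.includeLeft : R' →ₐ[R'] R' ⊗[R'] A') r) = algebraMap R' A' r := by
      simp [Algebra.algebraMap_eq_smul_one]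
    rw [h0]
    exact Ideal.mem_map_of_mem _ hr
  have h2 := hle h1
  rw [Ideal.mem_comap] at h2
  simpa using h2

lemma isNilpotent_ker_includeRight (hs : Function.Surjective (algebraMap R' R))
    (hn : IsNilpotent (RingHom.ker (algebraMap R' R))) :
    IsNilpotent (RingHom.ker
      (Algebra.TensorProduct.includeRight.toRingHom : A' →+* R ⊗[R'] A')) := by
  obtain ⟨k, hk⟩ := hn
  refine ⟨k, ?_⟩
  have h1 := Ideal.pow_right_mono (ker_includeRight_le (A' := A') hs) k
  rw [← Ideal.map_pow, hk] at h1
  rw [Ideal.zero_eq_bot, Ideal.map_bot] at h1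
  exact le_bot_iff.1 h1

end Ring

section Transfer

attribute [local instance] Algebra.TensorProduct.rightAlgebra

variable {R R' A : Type u} [CommRing R] [CommRing R'] [CommRing A] [Algebra R R'] [Algebra R A]

lemma E_symm_nat (N' : ModuleCat.{u} R') {X Y : ModuleCat.{u} A} (f : X ⟶ Y)
    (t : N' ⊗[R'] (REX (R := R) (R' := R') X : Type u)) :
    ((((ModuleCat.restrictScalars.{u} (algebraMap R A)).map f).hom.lTensor
        (RN (R := R) N')) ((E (R := R) N' X).symm t)) =
      (E (R := R) N' Y).symm (((resext (R := R) (R' := R') f).hom.lTensor N') t) := by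
  apply (E (R := R) N' Y).injective
  rw [AddEquiv.apply_symm_apply, ← E_nat, AddEquiv.apply_symm_apply]

lemma exact_transfer_symm (N' : ModuleCat.{u} R') {X Y Z : ModuleCat.{u} A} (f : X ⟶ Y)
    (g : Y ⟶ Z)
    (h : Function.Exact ((resext (R := R) (R' := R') f).hom.lTensor N')
      ((resext (R := R) (R' := R') g).hom.lTensor N')) :
    Function.Exact
      (((ModuleCat.restrictScalars.{u} (algebraMap R A)).map f).hom.lTensor (RN (R := R) N'))
      (((ModuleCat.restrictScalars.{u} (algebraMap R A)).map g).hom.lTensor (RN (R := R) N')) :=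
  exact_of_ladder _ _ _ _ (E (R := R) N' X).symm.toEquiv (E (R := R) N' Y).symm.toEquiv
    (E (R := R) N' Z).symm.toEquiv (map_zero (E (R := R) N' Z).symm)
    (fun t => E_symm_nat N' f t) (fun t => E_symm_nat N' g t) h

theorem exactAt_TC_res_of_torVan (P : DRing.Cx A) (a b : ℤ)
    (h : TorVan ((DRing.restrictCx (algebraMap R' (R' ⊗[R] A))).obj
      ((bcCx (inr R R' A)).obj P)) a b) (N' : ModuleCat.{u} R') (i : ℤ) (hi : i < a ∨ b < i) :
    ((TC (RN (R := R) N')).obj ((DRing.restrictCx (algebraMap R A)).obj P)).ExactAt i := by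
  rw [exactAt_TC_iff _ _ (i - 1) i (i + 1) (by lia) rfl]
  have h1 := h N' i hi
  rw [exactAt_TC_iff N' _ (i - 1) i (i + 1) (by lia) rfl] at h1
  exact exact_transfer_symm N' (P.d (i - 1) i) (P.d i (i + 1)) h1

end Transfer

section Nilpotent

variable {R' R : Type u} [CommRing R'] [CommRing R] (φ : R' →+* R)

/-- variant of `torVan_of_torVan_extCx` phrased through restriction of scalars -/
theorem torVan_of_forall_restrict (hφ : Function.Surjective φ)
    (hnil : IsNilpotent (RingHom.ker φ))
    (F : Cx R') (hFf : DRing.TermwiseFlat F) (a b : ℤ)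
    (h : ∀ (Nb : ModuleCat.{u} R) (i : ℤ), (i < a ∨ b < i) →
      ((TC ((ModuleCat.restrictScalars φ).obj Nb)).obj F).ExactAt i) : TorVan F a b := by
  obtain ⟨k, hk⟩ := hnil
  intro M i hi
  have hbase : ∀ (N : Type u) [AddCommGroup N] [Module R' N],
      (∀ r ∈ RingHom.ker φ, ∀ x : N, r • x = 0) → ((TC (ModuleCat.of R' N)).obj F).ExactAt i := by
    intro N _ _ hN
    obtain ⟨Nb, ⟨e⟩⟩ := exists_iso_restrictScalars_of_ker_smul_eq_zero φ hφ N hN
    exact exactAt_TC_of_iso e F i (h Nb i hi)
  have := exactAt_TC_of_pow_smul_eq_zero' (RingHom.ker φ) F hFf i hbase k M (by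
    intro r hr x
    rw [hk] at hr
    rw [(Submodule.mem_bot R').1 hr, zero_smul])
  exact this

end Nilpotent

section Main

open Groth.Agent.Lib.Helper1.PCNil

/-- S7076: `R'`-perfectness can be checked after a nilpotent thickening of the base -/
theorem isRelPerfect_of_LBC_nilpotent (R' A' R : Type u) [CommRing R'] [CommRing A']
    [Algebra R' A'] [CommRing R] [Algebra R' R] [Module.Flat R' A']
    (hs : Function.Surjective (algebraMap R' R)) (hn : IsNilpotent (RingHom.ker (algebraMap R' R)))
    [DRing.HasLBaseChange (Algebra.TensorProduct.includeRight.toRingHom : A' →+* R ⊗[R'] A')]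
    (K' : Dual.D A')
    (hK : Dual2.IsRelPerfect R (R ⊗[R'] A')
      ((DRing.LBaseChange
        (Algebra.TensorProduct.includeRight.toRingHom : A' →+* R ⊗[R'] A')).obj K')) :
    Dual2.IsRelPerfect R' A' K' := by
  have hφs := includeRight_surjective (A' := A') hs
  have hφn := isNilpotent_ker_includeRight (A' := A') hs hn
  have hpc : DRing.IsPseudoCoherent' A' K' :=
    isPseudoCoherent'_of_LBC (inr R' R A') hφs hφn K' hK.1
  refine ⟨hpc, ?_⟩
  obtain ⟨F, bF, hFb, hFf, ⟨eF⟩⟩ := hpc
  have hFproj : ∀ i, Module.Projective A' (F.X i) := fun i =>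
    have := (hFf i).2
    inferInstance
  haveI : F.IsKProjective := isKProjective_of_vanishesAbove F bF hFb hFproj
  obtain ⟨c, d, G, hG, hGf, ⟨eG⟩⟩ := hK.2
  have hflat' : (algebraMap R' A').Flat := RingHom.flat_algebraMap_iff.2 inferInstance
  have hflat : (algebraMap R (R ⊗[R'] A')).Flat := RingHom.flat_algebraMap_iff.2 inferInstance
  set F2 := (DRing.restrictCx (algebraMap R (R ⊗[R'] A'))).obj ((bcCx (inr R' R A')).obj F)
    with hF2
  have hF2b : DRing.VanishesAbove F2 bF := fun i hi =>
    (ModuleCat.restrictScalars.{u} (algebraMap R (R ⊗[R'] A'))).map_isZero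
      (vanishesAbove_bc (inr R' R A') F bF hFb i hi)
  have hF2f : DRing.TermwiseFlat F2 := fun i => by
    have := hFproj i
    have : Module.Flat A' (F.X i) := inferInstance
    haveI : Module.Flat (R ⊗[R'] A') (((bcCx (inr R' R A')).obj F).X i) :=
      flat_bc (inr R' R A') (F.X i)
    exact flat_restrictScalars_of_flat (algebraMap R (R ⊗[R'] A')) hflat
      (((bcCx (inr R' R A')).obj F).X i)
  have eF2 : Q.obj G ≅ Q.obj F2 :=
    eG ≪≫ (DRing.restrictD (algebraMap R (R ⊗[R'] A'))).mapIso
      ((DRing.LBaseChange (inr R' R A')).mapIso eF.symm ≪≫ lbcIso (inr R' R A') F) ≪≫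
      restrictQIso (algebraMap R (R ⊗[R'] A')) _
  have htv : TorVan F2 c d := torVan_of_iso F2 G bF hF2b hF2f c d hG hGf eF2
  set F1 := (DRing.restrictCx (algebraMap R' A')).obj F with hF1
  have hF1b : DRing.VanishesAbove F1 bF := fun i hi =>
    (ModuleCat.restrictScalars.{u} (algebraMap R' A')).map_isZero (hFb i hi)
  have hF1f : DRing.TermwiseFlat F1 := fun i => by
    have := hFproj i
    have : Module.Flat A' (F.X i) := inferInstance
    exact flat_restrictScalars_of_flat (algebraMap R' A') hflat' (F.X i)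
  have htv1 : TorVan F1 c d :=
    torVan_of_forall_restrict (algebraMap R' R) hs hn F1 hF1f c d
      (fun N i hi => exactAt_TC_res_of_torVan (R := R') (R' := R) (A := A') F c d htv N i hi)
  refine ⟨c, d, ?_⟩
  have h1 := hasTorAmp_of_torVan F1 bF hF1b hF1f c d htv1
  exact hasTorAmp_of_iso ((restrictQIso (algebraMap R' A') F).symm ≪≫
    (DRing.restrictD (algebraMap R' A')).mapIso eF) h1

end Main

end Groth.Agent.Lib.Helper1.RelNil
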