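import Mathlib
import Groth.Agent.Lib.Helper1TorSrc
import Groth.Agent.Lib.Helper1RelFlatPC
import Groth.Agent.Lib.Helper1TorI
set_option backward.isDefEq.respectTransparency.types false
set_option autoImplicit false
set_option linter.style.haveILetI false
set_option maxHeartbeats 400000
universe u
open CategoryTheory CategoryTheory.Limits AlgebraicGeometry Opposite TopologicalSpace Pretriangulated

attribute [local instance] HasDerivedCategory.standard

namespace Groth.Agent.Lib.Helper1.ChartInd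

open Groth.Agent.Lib.Helper1.SPL Groth.Agent.Lib.Helper1.Sky ZeroObject
open Groth.Agent.Lib.Helper1.ClosedPC Groth.Agent.Lib.Helper1.ChartPC
open Groth.Agent.Lib.Helper1.KoszulPerf Groth.Agent.Lib.Helper1.TildePC
open Groth.Agent.Lib.Helper1.Restrict Groth.Agent.Lib.Helper1.RelPC Groth.Agent.Lib.Helper1.PC
open Groth.Agent.Lib.Helper1.Extend Groth.Agent.Lib.Helper1.PCTower Groth.Agent.S7017 Groth.Agent.S14388 Groth.Agent.Lib.Helper1.Cone
open Groth.Agent.Lib.Helper1.TQ Groth.Agent.Lib.Helper1.Tor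
open DerivedCategory TensorProduct

section RelPerfAff

variable (R A : Type u) [CommRing R] [CommRing A] [Algebra R A]

/-- pseudo-coherence of `M~` in all degrees -/
theorem forall_isPseudoCoherentD_tildeD_iff (M : Dual.D A) :
    (∀ m : ℤ, DCoh.IsPseudoCoherentD m ((tildeD' A).obj M)) ↔ DRing.IsPseudoCoherent' A M :=
  ⟨fun h => isPseudoCoherent'_of_forall M (fun m => (isPseudoCoherentD_tildeD'_iff M m).1 (h m)),
    fun h m => (isPseudoCoherentD_tildeD'_iff M m).2 (Groth.Agent.S6938.isPC_of_pc' _ h m)⟩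

variable {R A}

/-- a bounded above complex of flat `A`-modules, with `A` flat over `R`, whose restriction to `R`
has tor amplitude in `[a, b]`: its truncation is a bounded complex of `R`-flat `A`-modules -/
theorem exists_truncation_of_hasTorAmp [Module.Flat R A] (P : DRing.Cx A) (bP : ℤ)
    (hPb : DRing.VanishesAbove P bP) (hPf : DRing.TermwiseFlat P) (a b : ℤ)
    (htor : DRing.HasTorAmplitudeIn R a b
      (DRing.toD ((DRing.restrictCx (algebraMap R A)).obj P))) :
    ∃ (E : DRing.Cx A), DRing.VanishesOutside E a (max bP a) ∧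
      (∀ i : ℤ, Module.Flat R ((ModuleCat.restrictScalars.{u} (algebraMap R A)).obj (E.X i))) ∧
      Nonempty (Q.obj E ≅ Q.obj P) := by
  set φ := algebraMap R A with hφ
  set G := (DRing.restrictCx φ).obj P with hG
  have hGb : DRing.VanishesAbove G bP := fun i hi =>
    (ModuleCat.restrictScalars.{u} φ).map_isZero (hPb i hi)
  have hflatR : ∀ (N : ModuleCat.{u} A), Module.Flat A N →
      Module.Flat R ((ModuleCat.restrictScalars.{u} φ).obj N) := by
    intro N hN
    letI : Module R N := Module.compHom N φ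
    haveI : IsScalarTower R A N := IsScalarTower.of_algebraMap_smul (fun r m => rfl)
    have h : Module.Flat R N := Module.Flat.trans R A N
    exact h
  have hGf : DRing.TermwiseFlat G := fun i => hflatR _ (hPf i)
  obtain ⟨E₀, hE₀, hE₀f, ⟨e₀⟩⟩ := htor
  have htv : TorVan G a b := torVan_of_iso G E₀ bP hGb hGf a b hE₀ hE₀f e₀
  have hex : ∀ i : ℤ, i < a → P.ExactAt i := fun i hi =>
    (exactAt_restrict_iff φ P i).1 (htv.exactAt i (Or.inl hi))
  have hPge : CochainComplex.IsGE P a := by
    rw [CochainComplex.isGE_iff]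
    exact hex
  have hq : QuasiIso (P.πTruncGE a) := (P.quasiIso_πTruncGE_iff a).2 hPge
  have hiso : IsIso (Q.map (P.πTruncGE a)) :=
    (DerivedCategory.isIso_Q_map_iff_quasiIso (φ := P.πTruncGE a)).2 hq
  have hflat' : Module.Flat R (G.opcycles a) :=
    flat_of_torVan G hGf a b htv (G.pOpcycles a).hom
      ((ModuleCat.epi_iff_surjective _).1 inferInstance) (fexact_d_pOpcycles G a)
  have eop : G.opcycles a ≅ (ModuleCat.restrictScalars.{u} φ).obj (P.opcycles a) :=
    ShortComplex.mapOpcyclesIso (P.sc a) (ModuleCat.restrictScalars.{u} φ)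
  refine ⟨P.truncGE a, ?_, ?_, ⟨(asIso (Q.map (P.πTruncGE a))).symm⟩⟩
  · intro i hi
    rcases hi with hi | hi
    · exact (P.truncGE a).isZero_of_isStrictlyGE a i hi
    · have hi1 : a < i := lt_of_le_of_lt (le_max_right _ _) hi
      have hi2 : bP < i := lt_of_le_of_lt (le_max_left _ _) hi
      exact (hPb i hi2).of_iso (P.truncGEXIso a i hi1)
  · intro i
    obtain hi | rfl | hi := lt_trichotomy i a
    · have hz : IsZero ((ModuleCat.restrictScalars.{u} φ).obj ((P.truncGE a).X i)) :=
        (ModuleCat.restrictScalars.{u} φ).map_isZero ((P.truncGE a).isZero_of_isStrictlyGE a i hi)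
      have := ModuleCat.subsingleton_of_isZero hz
      infer_instance
    · exact Module.Flat.of_linearEquiv
        (((ModuleCat.restrictScalars.{u} φ).mapIso (P.truncGEXIsoOpcycles i)) ≪≫
          eop.symm).toLinearEquiv
    · have : Module.Flat R ((ModuleCat.restrictScalars.{u} φ).obj (P.X i)) := hGf i
      exact Module.Flat.of_linearEquiv
        ((ModuleCat.restrictScalars.{u} φ).mapIso (P.truncGEXIso a i hi)).toLinearEquiv


/-- `M` pseudo-coherent over `A` with finite tor dimension over `R` ⟹ `M~` is locally of finite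
relative tor dimension -/
theorem locHasFiniteRelTorDim_tildeD [Module.Flat R A] (M : Dual.D A)
    (hpc : DRing.IsPseudoCoherent' A M) (a b : ℤ)
    (htor : DRing.HasTorAmplitudeIn R a b ((DRing.restrictD (algebraMap R A)).obj M)) :
    DCoh.LocHasFiniteRelTorDim (Spec.map (CommRingCat.ofHom (algebraMap R A)))
      ((tildeD' A).obj M) := by
  obtain ⟨P, bP, hPb, hPff, ⟨eP⟩⟩ := hpc
  have hPf : DRing.TermwiseFlat P := fun i => by
    have := (hPff i).1
    have := (hPff i).2
    infer_instance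
  have htor' : DRing.HasTorAmplitudeIn R a b
      (DRing.toD ((DRing.restrictCx (algebraMap R A)).obj P)) :=
    hasTorAmp_of_iso ((DRing.restrictD (algebraMap R A)).mapIso eP.symm ≪≫
      restrictQIso (algebraMap R A) P) htor
  obtain ⟨E, hEv, hEf, ⟨eE⟩⟩ := exists_truncation_of_hasTorAmp P bP hPb hPf a b htor'
  intro x
  refine ⟨⊤, a, max bP a, trivial, fun F' hF' => ?_⟩
  obtain ⟨eF⟩ := hF'
  refine ⟨(resC (⊤ : (Spec (CommRingCat.of A)).Opens).ι).obj ((TCt (CommRingCat.of A)).obj E),
    ?_, ?_, ⟨?_⟩⟩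
  · intro i hi
    exact (Scheme.Modules.restrictFunctor _).map_isZero
      ((tilde.functor (CommRingCat.of A)).map_isZero (hEv i hi))
  · intro i
    letI : Module R (E.X i) := Module.compHom (E.X i) (algebraMap R A)
    have hfl : Module.Flat R (E.X i) := hEf i
    have hν : ∀ (r : R) (n : E.X i), (AddEquiv.refl (E.X i)) (r • n) =
        (algebraMap R A r) • (AddEquiv.refl (E.X i)) n := fun r n => rfl
    have h1 : FlatMod.IsFlatOver (Spec.map (CommRingCat.ofHom (algebraMap R A))) (tilde (E.X i)) :=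
      (Groth.Agent.Lib.Helper2.FlatOver.tilde_isFlatOver_iff
        (R := CommRingCat.of R) (S := CommRingCat.of A) (CommRingCat.ofHom (algebraMap R A)) (E.X i)
        (N := E.X i) (AddEquiv.refl _) hν).2 hfl
    have h2 := isFlatOver_restrict (Spec.map (CommRingCat.ofHom (algebraMap R A)))
      (tilde (R := CommRingCat.of A) (E.X i)) h1 ⊤
    exact h2
  · exact ((facD _).app _).symm ≪≫
      (resD _).mapIso ((tildeDQIso (CommRingCat.of A) E).symm ≪≫
        (tildeD' A).mapIso (eE ≪≫ eP) ≪≫ eF.symm) ≪≫ (facD _).app F'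


/-- `M~` locally of finite relative tor dimension ⟹ `M` has finite tor dimension over `R` -/
theorem hasFiniteTorDimCx_of_locHasFiniteRelTorDim (M : Dual.D A)
    (hloc : DCoh.LocHasFiniteRelTorDim (Spec.map (CommRingCat.ofHom (algebraMap R A)))
      ((tildeD' A).obj M)) :
    DRing.HasFiniteTorDimCx R ((DRing.restrictD (algebraMap R A)).obj M) := by
  let C : DRing.Cx A := Q.objPreimage M
  let eC : Q.obj C ≅ M := Q.objObjPreimageIso M
  let F' : CochainComplex (Spec (CommRingCat.of A)).Modules ℤ := (TCt (CommRingCat.of A)).obj C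
  have e0 : DCoh.toD _ F' ≅ (tildeD' A).obj M :=
    (tildeDQIso (CommRingCat.of A) C).symm ≪≫ (tildeD' A).mapIso eC
  choose V a b hxV hV using hloc
  have hpt : ∀ x x' : Spec (CommRingCat.of A), x' ∈ V x →
      DerSch.HasTorAmplitudeAt (Spec.map (CommRingCat.ofHom (algebraMap R A))) (a x) (b x) F' x' := by
    intro x x' hx'
    obtain ⟨E', hE'v, hE'f, ⟨eE'⟩⟩ := hV x F' ⟨e0⟩
    have h1 := hasTorAmplitude_of_termwise_flat
      ((V x).ι ≫ Spec.map (CommRingCat.ofHom (algebraMap R A))) E' (a x) (b x) hE'v hE'f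
    have h2 : DerSch.HasTorAmplitude ((V x).ι ≫ Spec.map (CommRingCat.ofHom (algebraMap R A)))
        (a x) (b x) ((resC (V x).ι).obj F') :=
      hasTorAmplitude_of_iso _ eE' (a x) (b x) h1
    exact (hasTorAmplitudeAt_resC_iff (V x).ι (Spec.map (CommRingCat.ofHom (algebraMap R A))) F'
      (a x) (b x) ⟨x', hx'⟩).1 (h2 ⟨x', hx'⟩)
  obtain ⟨t, ht⟩ := isCompact_univ.elim_finite_subcover
    (fun x => ((V x : (Spec (CommRingCat.of A)).Opens) : Set (Spec (CommRingCat.of A))))
    (fun x => (V x).isOpen) (fun x _ => Set.mem_iUnion.2 ⟨x, hxV x⟩)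
  let N : ℕ := t.sup (fun x => (a x).natAbs + (b x).natAbs)
  have hN : ∀ x ∈ t, -(N : ℤ) ≤ a x ∧ b x ≤ (N : ℤ) := by
    intro x hx
    have h1 : (a x).natAbs + (b x).natAbs ≤ N :=
      Finset.le_sup (f := fun x => (a x).natAbs + (b x).natAbs) hx
    have h2 : ((a x).natAbs : ℤ) + ((b x).natAbs : ℤ) ≤ (N : ℤ) := by exact_mod_cast h1
    constructor <;> lia
  refine ⟨-(N : ℤ), N, ?_⟩
  refine (hasTorAmplitude_rel_tildeD_iff (algebraMap R A) M F' ⟨e0⟩ _ _).1 (fun x' => ?_)
  obtain ⟨x, hxt, hx'⟩ : ∃ x ∈ t, x' ∈ V x := by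
    have := ht (Set.mem_univ x')
    simpa using this
  exact hasTorAmp_mono (hN x hxt).1 (hN x hxt).2 (hpt x x' hx')

/-- **S7264** -/
theorem relPerfect_tildeD_iff [Module.Flat R A] (M : Dual.D A) :
    ((∀ m : ℤ, DCoh.IsPseudoCoherentD m ((tildeD' A).obj M)) ∧
      DCoh.LocHasFiniteRelTorDim (Spec.map (CommRingCat.ofHom (algebraMap R A)))
        ((tildeD' A).obj M)) ↔ Dual2.IsRelPerfect R A M := by
  constructor
  · rintro ⟨h1, h2⟩
    exact ⟨(forall_isPseudoCoherentD_tildeD_iff A M).1 h1,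
      hasFiniteTorDimCx_of_locHasFiniteRelTorDim M h2⟩
  · rintro ⟨h1, a, b, h2⟩
    exact ⟨(forall_isPseudoCoherentD_tildeD_iff A M).2 h1,
      locHasFiniteRelTorDim_tildeD M h1 a b h2⟩

end RelPerfAff

end Groth.Agent.Lib.Helper1.ChartInd
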