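import Mathlib
import Groth.Agent.Lib.Helper1RelFlatPC
import Groth.Agent.Lib.Helper1ClosedPCLevel
import Groth.Agent.Lib.Helper1PC10
import Groth.Agent.S6935
import Groth.Agent.Lib.Helper1PCBaseChange
set_option backward.isDefEq.respectTransparency.types false
set_option autoImplicit false
set_option linter.style.haveILetI false
set_option maxHeartbeats 400000
universe u
open CategoryTheory CategoryTheory.Limits AlgebraicGeometry Opposite TopologicalSpace Pretriangulated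

attribute [local instance] HasDerivedCategory.standard

namespace Groth.Agent.Lib.Helper1.ChartInd

open Groth.Agent.Lib.Helper1.SPL Groth.Agent.Lib.Helper1.Sky ZeroObject
open Groth.Agent.Lib.Helper1.ClosedPC Groth.Agent.Lib.Helper1.ChartPC
open Groth.Agent.Lib.Helper1.KoszulPerf Groth.Agent.Lib.Helper1.TildePC
open Groth.Agent.Lib.Helper1.Restrict Groth.Agent.Lib.Helper1.RelPC Groth.Agent.Lib.Helper1.PC

section Sections

variable {X : Scheme.{u}} (M : X.Modules) (U : X.Opens) {R : CommRingCat.{u}}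
  (φ : R ⟶ Γ(X, U))

/-- the morphism `U ⟶ Spec R` attached to `φ` -/
noncomputable abbrev immC : (U : Scheme.{u}) ⟶ Spec R := U.toSpecΓ ≫ Spec.map φ

lemma image_top_eq' : U.ι ''ᵁ ((immC U φ) ⁻¹ᵁ ⊤) = U := Scheme.Opens.ι_image_top U

lemma key_chart (p : R) :
    (immC U φ).appTop.hom ((Scheme.ΓSpecIso R).inv.hom p) = U.topIso.inv.hom (φ.hom p) := by
  have h2 := Scheme.ΓSpecIso_inv_naturality φ
  have h3 := Scheme.Opens.toSpecΓ_appTop U
  have hc : (immC U φ).appTop = (Spec.map φ).appTop ≫ U.toSpecΓ.appTop :=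
    Scheme.Hom.comp_appTop _ _
  rw [hc, h3]
  have h2' := congr($(h2).hom p)
  simp only [CommRingCat.hom_comp, RingHom.comp_apply] at h2' ⊢
  rw [← h2']
  refine congrArg _ ?_
  exact congr($((Scheme.ΓSpecIso Γ(X, U)).inv_hom_id).hom (φ.hom p))

lemma smul_eq_chart (p : R)
    (x : Γ((Scheme.Modules.pushforward (immC U φ)).obj (M.restrict U.ι), ⊤)) :
    p • x = (show Γ((Scheme.Modules.pushforward (immC U φ)).obj (M.restrict U.ι), ⊤) from
      ((show Γ(X, U.ι ''ᵁ ((immC U φ) ⁻¹ᵁ ⊤)) from U.topIso.inv.hom (φ.hom p)) •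
        (show Γ(M, U.ι ''ᵁ ((immC U φ) ⁻¹ᵁ ⊤)) from x))) := by
  rw [Scheme.Modules.smul_Spec_def]
  show ((U.ι.appIso ((immC U φ) ⁻¹ᵁ ⊤)).inv.hom (((immC U φ).app ⊤).hom
    (((Spec R).presheaf.map (⊤ : (Spec R).Opens).leTop.op).hom
      ((Scheme.ΓSpecIso R).inv.hom p))) •
    (show Γ(M, U.ι ''ᵁ ((immC U φ) ⁻¹ᵁ ⊤)) from x) : Γ(M, U.ι ''ᵁ ((immC U φ) ⁻¹ᵁ ⊤))) = _
  have h1 : (Spec R).presheaf.map (⊤ : (Spec R).Opens).leTop.op = 𝟙 _ := by
    rw [show (⊤ : (Spec R).Opens).leTop = 𝟙 _ from Subsingleton.elim _ _]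
    simp
  have h4 : (U.ι.appIso ((immC U φ) ⁻¹ᵁ ⊤)).inv = 𝟙 _ := by
    rw [Scheme.Opens.ι_appIso]
    rfl
  rw [h1, h4]
  have := key_chart U φ p
  exact congrArg (fun a : Γ(X, U.ι ''ᵁ ((immC U φ) ⁻¹ᵁ ⊤)) =>
    (a • (show Γ(M, U.ι ''ᵁ ((immC U φ) ⁻¹ᵁ ⊤)) from x) : Γ(M, U.ι ''ᵁ ((immC U φ) ⁻¹ᵁ ⊤)))) this


/-- sections of the direct image of `M|_U` along `U ⟶ Spec R`: `Γ(M, U)` with `R` acting
through `φ` -/
theorem exists_semilinear_chart :
    ∃ e : (moduleSpecΓFunctor (R := R)).obj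
        ((Scheme.Modules.pushforward (immC U φ)).obj (M.restrict U.ι)) ≃+ Γ(M, U),
      ∀ (p : R) (x : (moduleSpecΓFunctor (R := R)).obj
        ((Scheme.Modules.pushforward (immC U φ)).obj (M.restrict U.ι))),
        e (p • x) = φ.hom p • e x := by
  have hU' : U.ι ''ᵁ ((immC U φ) ⁻¹ᵁ ⊤) = U := image_top_eq' U φ
  let e2 : Γ(M, U.ι ''ᵁ ((immC U φ) ⁻¹ᵁ ⊤)) ≃+ Γ(M, U) :=
    (M.presheaf.mapIso (eqToIso hU'.symm).op).addCommGroupIsoToAddEquiv
  refine ⟨e2, fun p x => ?_⟩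
  have h1 := smul_eq_chart M U φ p x
  have h2 : X.presheaf.map (eqToHom hU'.symm).op (U.topIso.inv.hom (φ.hom p)) = φ.hom p := by
    exact congr($(U.topIso.inv_hom_id).hom (φ.hom p))
  show M.presheaf.map (eqToHom hU'.symm).op (p • x) = φ.hom p • M.presheaf.map (eqToHom hU'.symm).op x
  rw [← h2]
  exact (congrArg (M.presheaf.map (eqToHom hU'.symm).op) h1).trans
    (Scheme.Modules.map_smul M (eqToHom hU'.symm) _ _)

end Sections


section PushLevel

variable {X Z : Scheme.{u}} (i : Z ⟶ X) [IsClosedImmersion i]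

/-- level-wise form of `hasPresM_pushD`: an object with vanishing cohomology above `n` and `H^n`
of finite type has `n`-pseudo-coherent direct image as soon as `i_* O_Z` is of finite type -/
theorem hasPresM_pushD_level (hO : HOm i 0) (E : DCoh.D Z) (n : ℤ)
    (hv : ∀ j : ℤ, n < j → IsZero (DCoh.HD E j)) (hF : CohB1.IsFT (DCoh.HD E n)) (x : X) :
    HasPresM n ((pushD i).obj E) x := by
  by_cases hx : x ∈ Set.range i.base
  · obtain ⟨z, rfl⟩ := hx
    obtain ⟨V, hzV, M', α, hM', hα⟩ := exists_single_presentation E n hv hF z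
    obtain ⟨W, rfl⟩ := Groth.Agent.Lib.Helper27ClosedTransfer.exists_preimage_eq i V
    have hO' : HOm (i ∣_ W) (n - n) := by
      rw [sub_self]
      exact hO.restrict W
    have h1 : HasPresM n ((pushD (i ∣_ W)).obj ((resD (i ⁻¹ᵁ W).ι).obj E)) ⟨i.base z, hzV⟩ :=
      hasPresM_of_propM _ (propM_mapDerivedCategory _ n α hα) _
        (pcm_pushD_single hO' M' hM' _)
    exact hasPresM_of_resD W.ι n _ ⟨i.base z, hzV⟩ (h1.of_iso ((pushResIso i W).app E).symm)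
  · let W : X.Opens := ⟨(Set.range i.base)ᶜ, i.isClosedEmbedding.isClosed_range.isOpen_compl⟩
    haveI : IsEmpty ↥(i ⁻¹ᵁ W) := ⟨fun z => z.2 ⟨z.1, rfl⟩⟩
    haveI : IsEmpty (↑(i ⁻¹ᵁ W) : Scheme.{u}) := this
    have hz : IsZero ((resD W.ι).obj ((pushD i).obj E)) :=
      IsZero.of_iso ((pushD (i ∣_ W)).map_isZero (isZero_D_of_isEmpty _)) ((pushResIso i W).app E)
    exact hasPresM_of_resD W.ι n _ ⟨x, hx⟩ (pcAll_of_isZero _ hz n _)

end PushLevel


section Single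

variable {X S : Scheme.{u}} (f : X ⟶ S) (M : X.Modules)

lemma chartPC_single_iff (m : ℤ) (U : X.Opens) (V : S.Opens) {n : ℕ}
    (φ : MvPolynomial (Fin n) Γ(S, V) →+* Γ(X, U)) [IsClosedImmersion (DerSch.chartImm U φ)] :
    DerSch.ChartPC m (DCoh.inD X M) U V φ ↔
      DCoh.IsPseudoCoherentD m (DCoh.inD _
        ((Scheme.Modules.pushforward (DerSch.chartImm U φ)).obj (M.restrict U.ι))) := by
  rw [chartPC_iff]
  exact ⟨isPseudoCoherentD_of_iso (chartSingleIso _ M),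
    isPseudoCoherentD_of_iso (chartSingleIso _ M).symm⟩

omit f in
lemma isZero_HD_inD (N : X.Modules) (i : ℤ) (hi : 0 < i) : IsZero (DCoh.HD (DCoh.inD X N) i) :=
  DerivedCategory.isZero_of_isLE _ 0 i hi

/-- **S7212 (1)** -/
theorem isPseudoCoherentRel_single_pos [LocallyOfFiniteType f] (m : ℤ) (hm : 0 < m) :
    DerSch.IsPseudoCoherentRel f m (DCoh.inD X M) := by
  refine isPseudoCoherentRel_of_forall f (DCoh.inD X M) m (fun U V h => ?_)
  obtain ⟨n, φ, hφ⟩ := exists_isChart f U.2 V.2 h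
  haveI := isClosedImmersion_chartImm' f U.2 h φ hφ
  refine ⟨n, φ, hφ, (chartPC_single_iff M m U.1 V.1 φ).2 ?_⟩
  exact isPseudoCoherentD_of_isZero_homology
    (DCoh.inD _ ((Scheme.Modules.pushforward (DerSch.chartImm U.1 φ)).obj (M.restrict U.1.ι))) m
    (fun i hi => isZero_HD_inD
      ((Scheme.Modules.pushforward (DerSch.chartImm U.1 φ)).obj (M.restrict U.1.ι)) i (by omega))

omit f M in
/-- the structure sheaf of a chart is of finite type over affine space -/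
lemma hom_imm_zero {U : X.Opens} (hU : IsAffineOpen U) {P : Type u} [CommRing P]
    (φ : P →+* Γ(X, U)) (hφ : Function.Surjective φ) [IsClosedImmersion (imm U φ)] :
    HOm (imm U φ) 0 := by
  have h0 : (letI := φ.toAlgebra; Module.Finite P Γ(X, U)) := by
    letI := φ.toAlgebra
    exact Module.Finite.of_surjective (Algebra.linearMap P Γ(X, U)) hφ
  have h1 : PCj φ 0 := (pcj_iff_isPseudoCoherentModule φ 0).2
    (letI := φ.toAlgebra; (Groth.Agent.S6935.result P Γ(X, U)).1.2 h0)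
  have h2 := (isPC_imm_structure_iff_pcj hU φ 0).2 h1
  exact (isPseudoCoherentD_iff_hasPresM 0 _).1 h2


omit f in
/-- cohomology of the restriction of a module in degree `0` -/
noncomputable def hdResInDIso (U : X.Opens) :
    DCoh.HD ((resD U.ι).obj (DCoh.inD X M)) 0 ≅ M.restrict U.ι :=
  (DerivedCategory.homologyFunctor _ 0).mapIso (resDSingleIso U.ι M) ≪≫
    (DerivedCategory.singleFunctorCompHomologyFunctorIso _ 0).app (M.restrict U.ι)

omit f in
lemma isZero_HD_resD_inD (U : X.Opens) (j : ℤ) (hj : 0 < j) :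
    IsZero (DCoh.HD ((resD U.ι).obj (DCoh.inD X M)) j) :=
  (isZero_HD_inD (M.restrict U.ι) j hj).of_iso
    ((DerivedCategory.homologyFunctor _ j).mapIso (resDSingleIso U.ι M))

omit f in
lemma isFT_restrict (h : CohB1.IsFT M) (U : X.Opens) : CohB1.IsFT (M.restrict U.ι) := by
  have h1 : DCoh.IsPseudoCoherentD 0 (DCoh.inD X M) := (isPseudoCoherentD_single_iff M).1.2 h
  have h2 := isPseudoCoherentD_resD 0 U.ι (DCoh.inD X M) h1
  exact (isPseudoCoherentD_single_iff (M.restrict U.ι)).1.1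
    (isPseudoCoherentD_of_iso (resDSingleIso U.ι M) h2)

/-- **S7212 (2)** -/
theorem isPseudoCoherentRel_single_zero_iff [LocallyOfFiniteType f] :
    DerSch.IsPseudoCoherentRel f 0 (DCoh.inD X M) ↔ CohB1.IsFT M := by
  constructor
  · intro h
    rw [← (isPseudoCoherentD_single_iff M).1, isPseudoCoherentD_iff_hasPresM]
    intro x
    obtain ⟨-, 𝒱, h𝒱, hV⟩ := h
    have hx : f.base x ∈ (⨆ V ∈ 𝒱, (V : S.Opens)) := by rw [h𝒱]; trivial
    simp only [Opens.mem_iSup] at hx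
    obtain ⟨V, hV𝒱, hxV⟩ := hx
    obtain ⟨𝒰, h𝒰, hU⟩ := hV V hV𝒱
    have hx' : x ∈ (⨆ U ∈ 𝒰, (U : X.Opens)) := by rw [h𝒰]; exact hxV
    simp only [Opens.mem_iSup] at hx'
    obtain ⟨U, hU𝒰, hxU⟩ := hx'
    have hle : (U : X.Opens) ≤ f ⁻¹ᵁ (V : S.Opens) := by
      rw [← h𝒰]
      exact le_iSup₂ (f := fun (U : X.affineOpens) (_ : U ∈ 𝒰) => (U : X.Opens)) U hU𝒰
    obtain ⟨k, φ, hφ, hpc⟩ := hU U hU𝒰 hle
    haveI hcl := isClosedImmersion_chartImm' f U.2 hle φ hφ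
    have h1 := (chartPC_iff 0 (DCoh.inD X M) U.1 V.1 φ).1 hpc
    have hO : HOm (DerSch.chartImm U.1 φ) (0 + 1 - 0) :=
      (isPseudoCoherentD_iff_hasPresM _ _).1 (isPseudoCoherentD_of_isZero_homology
        (DCoh.inD _ ((Scheme.Modules.pushforward (DerSch.chartImm U.1 φ)).obj
          (Coh.structureModule (U.1 : Scheme.{u})))) (0 + 1 - 0)
        (fun i hi => isZero_HD_inD _ i (by omega)))
    have h2 := isPseudoCoherentD_of_pushD_level (DerSch.chartImm U.1 φ)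
      ((resD U.1.ι).obj (DCoh.inD X M)) 0 0 (isZero_HD_resD_inD M U.1) hO h1
    exact hasPresM_of_resD U.1.ι 0 (DCoh.inD X M) ⟨x, hxU⟩
      ((isPseudoCoherentD_iff_hasPresM 0 _).1 h2 ⟨x, hxU⟩)
  · intro h
    refine isPseudoCoherentRel_of_forall f (DCoh.inD X M) 0 (fun U V hle => ?_)
    obtain ⟨n, φ, hφ⟩ := exists_isChart f U.2 V.2 hle
    haveI := isClosedImmersion_chartImm' f U.2 hle φ hφ
    haveI : IsClosedImmersion (imm U.1 φ) := isClosedImmersion_imm U.1 U.2 φ hφ.1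
    refine ⟨n, φ, hφ, (chartPC_iff 0 (DCoh.inD X M) U.1 V.1 φ).2 ?_⟩
    rw [isPseudoCoherentD_iff_hasPresM]
    exact hasPresM_pushD_level (DerSch.chartImm U.1 φ) (hom_imm_zero U.2 φ hφ.1)
      ((resD U.1.ι).obj (DCoh.inD X M)) 0 (isZero_HD_resD_inD M U.1)
      (isFT_of_iso' (hdResInDIso M U.1).symm (isFT_restrict M h U.1))


omit f in
/-- on a chart, the direct image of `M|_U` is finitely presented iff `Γ(M, U)` is finitely
presented over the ring -/
theorem isFP_push_immC_iff [M.IsQuasicoherent] {U : X.Opens} {R : CommRingCat.{u}}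
    (φ : R ⟶ Γ(X, U)) [IsClosedImmersion (immC U φ)] :
    CohB1.IsFP ((Scheme.Modules.pushforward (immC U φ)).obj (M.restrict U.ι)) ↔
      @Module.FinitePresentation R Γ(M, U) _ _ (Module.compHom Γ(M, U) φ.hom) := by
  haveI : ((Scheme.Modules.pushforward (immC U φ)).obj (M.restrict U.ι)).IsQuasicoherent :=
    Groth.Agent.Lib.Helper23.QCohLocal.isQuasicoherent_pushforward (immC U φ) (M.restrict U.ι)
  let N₀ : ModuleCat.{u} R := (moduleSpecΓFunctor (R := R)).obj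
    ((Scheme.Modules.pushforward (immC U φ)).obj (M.restrict U.ι))
  have eT : (Scheme.Modules.pushforward (immC U φ)).obj (M.restrict U.ι) ≅ tilde N₀ :=
    Groth.Agent.Lib.Helper20.OmegaAff.isoTildeOfΓIso _ N₀ (Iso.refl _)
  obtain ⟨e, he⟩ := exists_semilinear_chart M U φ
  letI : Module R Γ(M, U) := Module.compHom Γ(M, U) φ.hom
  let eL : N₀ ≃ₗ[R] Γ(M, U) := { e with map_smul' := fun p x => he p x }
  have h1 : CohB1.IsFP ((Scheme.Modules.pushforward (immC U φ)).obj (M.restrict U.ι)) ↔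
      CohB1.IsFP (tilde N₀) := ⟨isFP_of_iso' eT, isFP_of_iso' eT.symm⟩
  rw [h1]
  have h2 := Groth.Agent.Lib.Helper2.FPAff.isFinitePresentation_tilde_iff R N₀
  refine h2.trans ⟨fun h => ?_, fun h => ?_⟩
  · haveI : Module.FinitePresentation R N₀ := h
    exact Module.FinitePresentation.of_equiv eL
  · haveI : Module.FinitePresentation R Γ(M, U) := h
    exact Module.FinitePresentation.of_equiv eL.symm


omit f in
lemma chartPC_neg_one_iff [M.IsQuasicoherent] (U : X.Opens) (V : S.Opens) {n : ℕ}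
    (φ : MvPolynomial (Fin n) Γ(S, V) →+* Γ(X, U)) [IsClosedImmersion (DerSch.chartImm U φ)] :
    DerSch.ChartPC (-1) (DCoh.inD X M) U V φ ↔
      @Module.FinitePresentation (MvPolynomial (Fin n) Γ(S, V)) Γ(M, U) _ _
        (Module.compHom Γ(M, U) φ) := by
  rw [chartPC_single_iff, (isPseudoCoherentD_single_iff _).2]
  haveI : IsClosedImmersion (immC U (CommRingCat.ofHom φ)) :=
    ‹IsClosedImmersion (DerSch.chartImm U φ)›
  exact isFP_push_immC_iff M (CommRingCat.ofHom φ)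


/-- **S7212 (3)** -/
theorem isPseudoCoherentRel_single_neg_one_iff [LocallyOfFiniteType f] :
    DerSch.IsPseudoCoherentRel f (-1) (DCoh.inD X M) ↔ (Coh.IsQCoh M ∧ Flatn.IsRelFP f M) := by
  constructor
  · intro h
    haveI hq : M.IsQuasicoherent := isQuasicoherent_of_isPseudoCoherentRel_single f M h
    refine ⟨hq, ?_⟩
    obtain ⟨-, 𝒱, h𝒱, hV⟩ := h
    refine ⟨𝒱, h𝒱, fun V hV𝒱 => ?_⟩
    obtain ⟨𝒰, h𝒰, hU⟩ := hV V hV𝒱
    refine ⟨𝒰, h𝒰, fun U hU𝒰 hle => ?_⟩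
    obtain ⟨n, φ, hφ, hpc⟩ := hU U hU𝒰 hle
    haveI := isClosedImmersion_chartImm' f U.2 hle φ hφ
    have hfp := (chartPC_neg_one_iff M U.1 V.1 φ).1 hpc
    letI := (f.appLE V.1 U.1 hle).hom.toAlgebra
    let φA : MvPolynomial (Fin n) Γ(S, V.1) →ₐ[Γ(S, V.1)] Γ(X, U.1) :=
      { φ with commutes' := fun r => congrArg (fun g => g r) hφ.2 }
    exact ⟨n, φA, hφ.1, hfp⟩
  · rintro ⟨hq, 𝒱, h𝒱, hV⟩
    haveI : M.IsQuasicoherent := hq
    refine ⟨inferInstance, 𝒱, h𝒱, fun V hV𝒱 => ?_⟩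
    obtain ⟨𝒰, h𝒰, hU⟩ := hV V hV𝒱
    refine ⟨𝒰, h𝒰, fun U hU𝒰 hle => ?_⟩
    letI := (f.appLE V.1 U.1 hle).hom.toAlgebra
    obtain ⟨n, φA, hsurj, hfp⟩ := hU U hU𝒰 hle
    have hφ : DerSch.IsChart f U.1 V.1 hle φA.toRingHom :=
      ⟨hsurj, by ext r; exact φA.commutes r⟩
    haveI := isClosedImmersion_chartImm' f U.2 hle φA.toRingHom hφ
    exact ⟨n, φA.toRingHom, hφ, (chartPC_neg_one_iff M U.1 V.1 φA.toRingHom).2 hfp⟩

/-- **S7212** -/
theorem isPseudoCoherentRel_single_all [LocallyOfFiniteType f] :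
    (∀ m : ℤ, 0 < m → DerSch.IsPseudoCoherentRel f m (DCoh.inD X M)) ∧
      (DerSch.IsPseudoCoherentRel f 0 (DCoh.inD X M) ↔ CohB1.IsFT M) ∧
      (DerSch.IsPseudoCoherentRel f (-1) (DCoh.inD X M) ↔ (Coh.IsQCoh M ∧ Flatn.IsRelFP f M)) :=
  ⟨isPseudoCoherentRel_single_pos f M, isPseudoCoherentRel_single_zero_iff f M,
    isPseudoCoherentRel_single_neg_one_iff f M⟩

end Single

end Groth.Agent.Lib.Helper1.ChartInd
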