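import Mathlib
import Groth.Prelude.Def_LocCohZ
import Groth.Agent.Lib.Helper16Flasque
import Groth.Agent.Lib.Helper16ClosedEmb
import Groth.Agent.Lib.Helper23AffVanish1
import Groth.Agent.Lib.Helper23PushAcyclic

/-!
# Vanishing of higher direct images above a bound (helper23)

* `rightDerived_vanish_graded`: graded version of helper16's dimension-shifting lemma `rightDerived_vanish`.
* `isZero_Rpush_of_basis_bound`: for a continuous map `g : X ⟶ Y`, a basis `B` of opens of `Y` and an abelian sheaf
  `G` on `X` with `H^{i+1}(g⁻¹V, G) = 0` for all `V ∈ B` and all `i ≥ d`, the higher direct images `R^{n+1} g_* G`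
  vanish for `n ≥ d`.
-/

set_option autoImplicit false
universe v v' u u'
open CategoryTheory CategoryTheory.Limits Opposite TopologicalSpace Abelian

namespace Groth.Agent.Lib.Helper23.PushBound

open Groth.Agent.Lib.Helper16.Flasque

section RD

variable {𝒜 : Type u} [Category.{v} 𝒜] [Abelian 𝒜]
variable [EnoughInjectives 𝒜] {ℬ : Type u'} [Category.{v'} ℬ] [Abelian ℬ]

/-- Graded dimension shifting for right derived functors. -/
theorem rightDerived_vanish_graded (G : 𝒜 ⥤ ℬ) [G.Additive] [PreservesFiniteLimits G] (P : ℕ → 𝒜 → Prop)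
    (hinj : ∀ (k : ℕ) (I : 𝒜), Injective I → P k I)
    (hmono : ∀ (k : ℕ) (A : 𝒜), P k A → P (k + 1) A)
    (h23 : ∀ (k : ℕ) (S : ShortComplex 𝒜), S.ShortExact → P (k + 1) S.X₁ → P k S.X₂ → P k S.X₃)
    (hepi : ∀ S : ShortComplex 𝒜, S.ShortExact → P 0 S.X₁ → Epi (G.map S.g))
    (F : 𝒜) (d : ℕ) (hF : P d F) (n : ℕ) (hn : d ≤ n) : IsZero ((G.rightDerived (n + 1)).obj F) := by
  have hle : ∀ (A : 𝒜) (k k' : ℕ), k ≤ k' → P k A → P k' A := by
    intro A k k' hkk' hA
    induction k', hkk' using Nat.le_induction with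
    | base => exact hA
    | succ m _ ih => exact hmono m A ih
  let I : InjectiveResolution F := Classical.choice (HasInjectiveResolution.out)
  refine IsZero.of_iso ?_ (I.isoRightDerivedObj G (n + 1))
  set K := I.cocomplex with hK
  -- the short exact sequences
  have hS' := shortExact_lift (I.ι.f 0) (K.d 0 1) (K.d 1 2) I.ι_f_zero_comp_complex_d
    (K.d_comp_d 0 1 2) I.exact₀ (I.exact_succ 0)
  have hS : ∀ k : ℕ, (ShortComplex.mk (kernel.ι (K.d (k + 1) (k + 2)))
      (kernel.lift (K.d (k + 2) (k + 3)) (K.d (k + 1) (k + 2)) (K.d_comp_d _ _ _)) (by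
        apply (cancel_mono (kernel.ι _)).1
        rw [Category.assoc, kernel.lift_ι, kernel.condition, zero_comp])).ShortExact := fun k =>
    shortExact_lift (kernel.ι (K.d (k + 1) (k + 2))) (K.d (k + 1) (k + 2)) (K.d (k + 2) (k + 3))
      (kernel.condition _) (K.d_comp_d _ _ _)
      (ShortComplex.exact_of_f_is_kernel _ (kernelIsKernel _)) (I.exact_succ (k + 1))
  have hP : ∀ k : ℕ, P (d - (k + 1)) (kernel (K.d (k + 1) (k + 2))) := by
    intro k
    induction k with
    | zero =>
      exact h23 _ _ hS' (hle F d _ (by omega) hF) (hinj _ _ (I.injective 0))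
    | succ k ih =>
      exact h23 _ _ (hS k) (hle _ _ _ (by omega) ih) (hinj _ _ (I.injective (k + 1)))
  have hE : Epi (G.map (kernel.lift (K.d (n + 1) (n + 2)) (K.d n (n + 1)) (K.d_comp_d _ _ _))) := by
    cases n with
    | zero =>
      have hd : d = 0 := by omega
      subst hd
      exact hepi _ hS' hF
    | succ m =>
      have h0 : d - (m + 1) = 0 := by omega
      have := hP m
      rw [h0] at this
      exact hepi _ (hS m) this
  change IsZero (((G.mapHomologicalComplex _).obj K).homology (n + 1))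
  rw [← HomologicalComplex.exactAt_iff_isZero_homology,
    HomologicalComplex.exactAt_iff' _ n (n + 1) (n + 2) (by simp)
      (by simp only [CochainComplex.next]; rfl)]
  rw [ShortComplex.exact_iff_epi_kernel_lift]
  haveI : IsIso (kernelComparison (K.d (n + 1) (n + 2)) G) := by
    rw [← PreservesKernel.iso_hom]; infer_instance
  have key : Epi (G.map (kernel.lift (K.d (n + 1) (n + 2)) (K.d n (n + 1)) (K.d_comp_d _ _ _)) ≫
      kernelComparison (K.d (n + 1) (n + 2)) G) := inferInstance
  rw [map_lift_kernelComparison] at key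
  exact key

end RD

open Groth.Agent.Lib.Helper23.AffVanish

variable {X Y : TopCat.{u}} (g : X ⟶ Y)

/-- the acyclicity property above a bound on a family of opens -/
def AcyclicFrom (B : Set (Opens Y)) (k : ℕ) (A : CohTop.Ab X) : Prop :=
  ∀ V ∈ B, ∀ i : ℕ, k ≤ i → Subsingleton (HE A (i + 1) ((Opens.map g).obj V))

attribute [local instance] Ext.subsingleton_of_injective in
lemma acyclicFrom_of_injective (B : Set (Opens Y)) (k : ℕ) (I : CohTop.Ab X) [Injective I] :
    AcyclicFrom g B k I :=
  fun _ _ _ _ => inferInstance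

lemma acyclicFrom_X₃ (B : Set (Opens Y)) (k : ℕ) (S : ShortComplex (CohTop.Ab X)) (hS : S.ShortExact)
    (h₁ : AcyclicFrom g B (k + 1) S.X₁) (h₂ : AcyclicFrom g B k S.X₂) : AcyclicFrom g B k S.X₃ := by
  intro V hV i hi
  refine ⟨fun a b => ?_⟩
  have key : ∀ x₃ : HE S.X₃ (i + 1) ((Opens.map g).obj V), x₃ = 0 := by
    intro x₃
    haveI := h₁ V hV (i + 1) (by omega)
    haveI := h₂ V hV i hi
    obtain ⟨x₂, hx₂⟩ := Ext.covariant_sequence_exact₃ (ZU ((Opens.map g).obj V)) hS x₃ rfl
      (Subsingleton.elim (α := HE S.X₁ (i + 1 + 1) ((Opens.map g).obj V)) _ _)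
    have : x₂ = 0 := Subsingleton.elim (α := HE S.X₂ (i + 1) ((Opens.map g).obj V)) _ _
    rw [← hx₂, this, Ext.zero_comp]
  exact (key a).trans (key b).symm

/-- Vanishing of higher direct images above a bound from vanishing of cohomology over preimages of a basis. -/
theorem isZero_Rpush_of_basis_bound (B : Set (Opens Y)) (hB : Opens.IsBasis B) (G : CohTop.Ab X) (d : ℕ)
    (hG : ∀ V ∈ B, ∀ i : ℕ, d ≤ i → Subsingleton (HE G (i + 1) ((Opens.map g).obj V))) (n : ℕ) (hn : d ≤ n) :
    IsZero ((CohTop.Rpush g (n + 1)).obj G) := by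
  haveI := Groth.Agent.Lib.Helper16.ClosedEmb.push_preservesFiniteLimits g
  exact rightDerived_vanish_graded (CohTop.push g) (AcyclicFrom g B)
    (fun k I hI => acyclicFrom_of_injective g B k I)
    (fun k A hA V hV i hi => hA V hV i (by omega))
    (fun k S hS h₁ h₂ => acyclicFrom_X₃ g B k S hS h₁ h₂)
    (fun S hS h₁ => epi_push_map_of_acyclicOn g B hB S hS (fun V hV i => h₁ V hV i (Nat.zero_le _))) G d hG n hn

end Groth.Agent.Lib.Helper23.PushBound
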