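import Mathlib
import Groth.Prelude.Def_LocCohZ
import Groth.Agent.Lib.Helper23AffOpen4

/-!
# Uniform bounds for the cohomology of preimages of affine opens (helper23)

* `isAffineOpen_inf_preimage`: `U ⊓ f⁻¹V` is affine for `U` affine mapping into an affine `V₀ ≥ V`, `V` affine.
* `exists_bound_inf_of_isCompact_le_affine`, `exists_bound_inf_of_list`: uniform versions of the bounds of
  `Helper23AffOpen4` after intersecting with a family of opens `Ω` such that `U ⊓ Ω` stays affine.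
* `exists_bound_preimage`: for `f` quasi-compact and quasi-separated and `V₀` affine in the target there is `d`
  with `H^n(f⁻¹V, F) = 0` for all affine `V ≤ V₀`, all quasi-coherent `F` and all `n ≥ d`.
-/

set_option autoImplicit false
universe u
open CategoryTheory CategoryTheory.Limits Opposite TopologicalSpace AlgebraicGeometry Abelian

namespace Groth.Agent.Lib.Helper23.AffVanish

variable {X : Scheme.{u}}

theorem isAffineOpen_inf_preimage {S : Scheme.{u}} (f : X ⟶ S) {V₀ V : S.Opens} (hV₀ : IsAffineOpen V₀)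
    (hV : IsAffineOpen V) (hVV₀ : V ≤ V₀) {U : X.Opens} (hU : IsAffineOpen U) (hUV₀ : U ≤ f ⁻¹ᵁ V₀) :
    IsAffineOpen (U ⊓ f ⁻¹ᵁ V) := by
  haveI : IsAffine ↑U := hU
  haveI : IsAffine ↑V₀ := hV₀
  have hO : IsAffineOpen (V₀.ι ⁻¹ᵁ V) := hV.preimage_of_isOpenImmersion V₀.ι (by simpa using hVV₀)
  have h1 : IsAffineOpen ((f.resLE V₀ U hUV₀) ⁻¹ᵁ (V₀.ι ⁻¹ᵁ V)) := hO.preimage _
  have h2 := h1.image_of_isOpenImmersion U.ι
  convert h2 using 1
  rw [Scheme.Hom.resLE_preimage, Scheme.Hom.image_preimage_eq_opensRange_inf,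
    Scheme.Hom.image_preimage_eq_opensRange_inf]
  simp [inf_eq_right.2 hVV₀]

lemma isCompact_supList (l : List X.Opens) (hl : ∀ U ∈ l, IsCompact (U : Set X)) :
    IsCompact (supList l : Set X) := by
  induction l with
  | nil => simp
  | cons U l ih =>
    rw [supList_cons]
    exact (hl U List.mem_cons_self).union (ih fun U' hU' => hl U' (List.mem_cons_of_mem _ hU'))

theorem exists_bound_inf_of_isCompact_le_affine {U : X.Opens} (hU : IsAffineOpen U) (W : X.Opens)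
    (hWU : W ≤ U) (hW : IsCompact (W : Set X)) (𝒱 : Set X.Opens) (h𝒱 : ∀ Ω ∈ 𝒱, IsAffineOpen (U ⊓ Ω)) :
    ∃ t : ℕ, ∀ Ω ∈ 𝒱, ∀ (F : X.Modules) [F.IsQuasicoherent] (n : ℕ), t ≤ n →
      Subsingleton (HE (ab' F) n (W ⊓ Ω)) := by
  have hloc : ∀ x : W, ∃ f : Γ(X, U), X.basicOpen f ≤ W ∧ (x : X) ∈ X.basicOpen f :=
    fun x => hU.exists_basicOpen_le (V := W) x (hWU x.2)
  choose f hfW hxf using hloc
  obtain ⟨s, hs⟩ := hW.elim_finite_subcover (fun x : W => (X.basicOpen (f x) : Set X))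
    (fun x => (X.basicOpen (f x)).2) (fun y hy => Set.mem_iUnion.2 ⟨⟨y, hy⟩, hxf ⟨y, hy⟩⟩)
  let l : List X.Opens := s.toList.map (fun x => X.basicOpen (f x))
  have hl : supList l = W := by
    apply le_antisymm
    · apply supList_le
      intro V hV
      obtain ⟨x, _, rfl⟩ := List.mem_map.1 hV
      exact hfW x
    · intro y hy
      obtain ⟨x, hx⟩ := Set.mem_iUnion.1 (hs hy)
      obtain ⟨hxs, hyx⟩ := Set.mem_iUnion.1 hx
      exact le_supList_of_mem (List.mem_map.2 ⟨x, Finset.mem_toList.2 hxs, rfl⟩) hyx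
  refine ⟨l.length, fun Ω hΩ F _ n hn => ?_⟩
  rw [← hl, inf_comm, inf_supList]
  refine subsingleton_HE_of_list_class (Set.range (X.basicOpen : Γ(X, U ⊓ Ω) → X.Opens)) ?_ ?_ F
    (l.map (Ω ⊓ ·)) ?_ n (by simpa using hn)
  · rintro _ ⟨g, rfl⟩
    exact (h𝒱 Ω hΩ).basicOpen g
  · rintro _ ⟨g, rfl⟩ _ ⟨g', rfl⟩
    exact ⟨g * g', X.basicOpen_mul g g'⟩
  · intro V hV
    obtain ⟨V', hV', rfl⟩ := List.mem_map.1 hV
    obtain ⟨x, _, rfl⟩ := List.mem_map.1 hV'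
    refine ⟨X.presheaf.map (homOfLE (inf_le_left : U ⊓ Ω ≤ U)).op (f x), ?_⟩
    rw [Scheme.basicOpen_res]
    have : X.basicOpen (f x) ≤ U := X.basicOpen_le _
    rw [inf_assoc, inf_comm U, inf_assoc, inf_eq_left.2 this]

theorem exists_bound_inf_of_list (T : X.Opens) (hT : IsQuasiSeparated (T : Set X)) (𝒱 : Set X.Opens)
    (h𝒱 : ∀ U : X.Opens, IsAffineOpen U → U ≤ T → ∀ Ω ∈ 𝒱, IsAffineOpen (U ⊓ Ω)) :
    ∀ l : List X.Opens, (∀ U ∈ l, IsAffineOpen U ∧ U ≤ T) → ∃ d : ℕ, ∀ Ω ∈ 𝒱,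
      ∀ (F : X.Modules) [F.IsQuasicoherent] (n : ℕ), d ≤ n → Subsingleton (HE (ab' F) n (supList l ⊓ Ω)) := by
  intro l
  induction l with
  | nil =>
    intro _
    refine ⟨0, fun Ω _ F _ n _ => ?_⟩
    have h : (supList ([] : List X.Opens) ⊓ Ω) = ⊥ := by simp
    exact ⟨fun a b => (HE_eq_zero_of_eq_bot _ n h a).trans (HE_eq_zero_of_eq_bot _ n h b).symm⟩
  | cons U l ih =>
    intro hl
    have hUa : IsAffineOpen U := (hl U List.mem_cons_self).1
    have hUT : U ≤ T := (hl U List.mem_cons_self).2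
    have hl' : ∀ U' ∈ l, IsAffineOpen U' ∧ U' ≤ T := fun U' hU' => hl U' (List.mem_cons_of_mem _ hU')
    obtain ⟨dS, hdS⟩ := ih hl'
    set S := supList l with hS
    have hSc : IsCompact (S : Set X) := isCompact_supList l fun U' hU' => (hl' U' hU').1.isCompact
    have hST : S ≤ T := supList_le fun U' hU' => (hl' U' hU').2
    have hSU : IsCompact ((U ⊓ S : X.Opens) : Set X) :=
      hT _ _ hUT U.2 hUa.isCompact hST S.2 hSc
    obtain ⟨t, ht⟩ := exists_bound_inf_of_isCompact_le_affine hUa (U ⊓ S) inf_le_left hSU 𝒱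
      (fun Ω hΩ => h𝒱 U hUa hUT Ω hΩ)
    refine ⟨max dS (t + 1), fun Ω hΩ F _ n hn => ?_⟩
    obtain ⟨m, rfl⟩ : ∃ m, n = m + 1 := ⟨n - 1, by omega⟩
    haveI h1 : Subsingleton (HE (ab' F) (m + 1) (U ⊓ Ω)) :=
      subsingleton_HE_of_isAffineOpen (h𝒱 U hUa hUT Ω hΩ) F m
    haveI h2 : Subsingleton (HE (ab' F) (m + 1) (S ⊓ Ω)) := hdS Ω hΩ F (m + 1) (by omega)
    have h3 : Subsingleton (HE (ab' F) m ((U ⊓ Ω) ⊓ (S ⊓ Ω))) := by
      have e : (U ⊓ Ω) ⊓ (S ⊓ Ω) = (U ⊓ S) ⊓ Ω := (inf_inf_distrib_right U S Ω).symm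
      rw [e]
      exact ht Ω hΩ F m (by omega)
    refine ⟨fun a b => ?_⟩
    have key : ∀ α : HE (ab' F) (m + 1) (supList (U :: l) ⊓ Ω), α = 0 := by
      intro α
      exact eq_zero_of_mv (ab' F) m (U ⊓ Ω) (S ⊓ Ω) (supList (U :: l) ⊓ Ω)
        (inf_le_inf_right _ le_sup_left) (inf_le_inf_right _ le_sup_right)
        (by rw [supList_cons, inf_sup_right]) α
        (Subsingleton.elim _ _) (Subsingleton.elim _ _)
        (fun γ => ⟨0, 0, @Subsingleton.elim _ h3 _ _⟩)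
    exact (key a).trans (key b).symm

theorem exists_bound_preimage {S : Scheme.{u}} (f : X ⟶ S) [QuasiCompact f] [QuasiSeparated f]
    {V₀ : S.Opens} (hV₀ : IsAffineOpen V₀) :
    ∃ d : ℕ, ∀ V : S.Opens, IsAffineOpen V → V ≤ V₀ → ∀ (F : X.Modules) [F.IsQuasicoherent] (n : ℕ), d ≤ n →
      Subsingleton (HE (ab' F) n (f ⁻¹ᵁ V)) := by
  set T : X.Opens := f ⁻¹ᵁ V₀ with hTdef
  have hTc : IsCompact (T : Set X) := f.isCompact_preimage hV₀.isCompact
  have hTq : IsQuasiSeparated (T : Set X) := f.isQuasiSeparated_preimage hV₀.isQuasiSeparated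
  have hloc : ∀ x : T, ∃ U : X.Opens, IsAffineOpen U ∧ (x : X) ∈ U ∧ U ≤ T := by
    intro x
    obtain ⟨U, hU, hxU, hUT⟩ := (Opens.isBasis_iff_nbhd.1 X.isBasis_affineOpens) x.2
    exact ⟨U, hU, hxU, hUT⟩
  choose Ux hUa hxU hUT using hloc
  obtain ⟨s, hs⟩ := hTc.elim_finite_subcover (fun x : T => (Ux x : Set X))
    (fun x => (Ux x).2) (fun y hy => Set.mem_iUnion.2 ⟨⟨y, hy⟩, hxU ⟨y, hy⟩⟩)
  let l : List X.Opens := s.toList.map Ux
  have hl : supList l = T := by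
    apply le_antisymm
    · apply supList_le
      intro V hV
      obtain ⟨x, _, rfl⟩ := List.mem_map.1 hV
      exact hUT x
    · intro y hy
      obtain ⟨x, hx⟩ := Set.mem_iUnion.1 (hs hy)
      obtain ⟨hxs, hyx⟩ := Set.mem_iUnion.1 hx
      exact le_supList_of_mem (List.mem_map.2 ⟨x, Finset.mem_toList.2 hxs, rfl⟩) hyx
  obtain ⟨d, hd⟩ := exists_bound_inf_of_list T hTq
    {Ω | ∃ V : S.Opens, IsAffineOpen V ∧ V ≤ V₀ ∧ Ω = f ⁻¹ᵁ V}
    (by
      rintro U hU hUT' _ ⟨V, hV, hVV₀, rfl⟩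
      exact isAffineOpen_inf_preimage f hV₀ hV hVV₀ hU hUT') l
    (by
      intro U hU
      obtain ⟨x, _, rfl⟩ := List.mem_map.1 hU
      exact ⟨hUa x, hUT x⟩)
  refine ⟨d, fun V hV hVV₀ F _ n hn => ?_⟩
  have := hd (f ⁻¹ᵁ V) ⟨V, hV, hVV₀, rfl⟩ F n hn
  rw [hl] at this
  have e : T ⊓ f ⁻¹ᵁ V = f ⁻¹ᵁ V := inf_eq_right.2 ((Opens.map f.base).monotone hVV₀)
  rwa [e] at this

end Groth.Agent.Lib.Helper23.AffVanish
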