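import Mathlib
import Groth.Agent.Lib.Helper1RpushCl
import Groth.Agent.Lib.Helper1RDTri
import Groth.Agent.Lib.Helper4CohThick
import Groth.Agent.S0031

set_option backward.isDefEq.respectTransparency.types false
set_option linter.style.haveILetI false
set_option maxHeartbeats 400000
set_option autoImplicit false

universe u
open CategoryTheory Limits AlgebraicGeometry Opposite TopologicalSpace

attribute [local instance] HasDerivedCategory.standard

namespace Groth.Agent.Lib.Helper1.RpushCl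

local instance (X : Scheme.{u}) : EnoughInjectives X.Modules :=
  Groth.Agent.Lib.Helper17.QCPush.enoughInjectives X

open Groth.Agent.Lib.Helper21 Groth.Agent.Lib.Helper1.RDTri

/-- a coherent module with proper support is the direct image of a coherent module on a closed
subscheme which is proper over the base. -/
theorem exists_proper_model {X S : Scheme.{u}} (f : X ⟶ S)
    [LocallyOfFiniteType f] [IsLocallyNoetherian S]
    (F : X.Modules) (hF : Coh.IsCoh F) (hs : ClSub.IsProperOver f (CohB1.support F)) :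
    ∃ (Z : Scheme.{u}) (i : Z ⟶ X) (_ : IsClosedImmersion i) (G : Z.Modules),
      Coh.IsCoh G ∧ Nonempty ((Scheme.Modules.pushforward i).obj G ≅ F) ∧ IsProper (i ≫ f) := by
  haveI : IsLocallyNoetherian X := LocallyOfFiniteType.isLocallyNoetherian f
  haveI : F.IsQuasicoherent := hF.1
  obtain ⟨J, hJ, -, -, hsupp⟩ := Groth.Agent.Helper18Ann.main_S9377 F hF.2
  have hk : ClSub.KilledByIdeal J.subschemeι.ker F := by
    intro U a ha m
    rw [Scheme.IdealSheafData.ker_subschemeι, hJ U] at ha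
    exact Module.mem_annihilator.1 ha m
  obtain ⟨G, hG, ⟨e⟩⟩ := Groth.Agent.S0786.result J.subschemeι F hF hk
  have hrange : Set.range J.subschemeι = CohB1.support F := by
    rw [Scheme.IdealSheafData.range_subschemeι, hsupp]
  exact ⟨J.subscheme, J.subschemeι, inferInstance, G, hG, ⟨e⟩,
    (Groth.Agent.Lib.Helper1.isProperOver_iff_isProper_comp f J.subschemeι _ hrange).1 hs⟩

/-- uniform vanishing of the higher direct images of a coherent module with proper support. -/
theorem exists_vanishing_bound {X S : Scheme.{u}} (f : X ⟶ S)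
    [LocallyOfFiniteType f] [IsLocallyNoetherian S] [CompactSpace S]
    (F : X.Modules) (hF : Coh.IsCoh F) (hs : ClSub.IsProperOver f (CohB1.support F)) :
    ∃ N : ℕ, ∀ p : ℕ, N ≤ p → IsZero ((Coh.Rpush f p).obj F) := by
  obtain ⟨Z, i, hi, G, hG, ⟨e⟩, hp⟩ := exists_proper_model f F hF hs
  haveI := hi
  haveI := hp
  obtain ⟨N, hN⟩ := Groth.Agent.S0031.result (i ≫ f)
  refine ⟨N, fun p hp' => ?_⟩
  obtain ⟨e2⟩ := nonempty_Rpush_push_iso i f G p
  obtain ⟨e3⟩ := Groth.Agent.Lib.Helper23.ModAbBridge.nonempty_toAb_Rpush_iso (i ≫ f) G p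
  have hz : IsZero ((Coh.Rpush (i ≫ f) p).obj G) :=
    Groth.Agent.Lib.Helper21.RelExtSS.isZero_of_isZero_toAb _ ((hN G hG.1 p hp').of_iso e3)
  exact hz.of_iso (((Coh.Rpush f p).mapIso e).symm ≪≫ e2.symm)

/-- the class of coherent modules. -/
def cohProp (S : Scheme.{u}) : ObjectProperty S.Modules := fun M => Coh.IsCoh M

/-- coherent modules on a locally Noetherian scheme form a weak Serre class. -/
theorem weakSerre_isCoh (S : Scheme.{u}) [IsLocallyNoetherian S] :
    WeakSerre (cohProp S) where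
  iso e h := Groth.Agent.Lib.Helper4.Dev.isCoh_of_iso e h
  ker f h1 h2 := Groth.Agent.Lib.Helper4.Dev.isCoh_kernel f h1 h2
  coker f h1 h2 := Groth.Agent.Lib.Helper4.Dev.isCoh_cokernel f h1 h2
  ext T hT h1 h3 := Groth.Agent.Lib.Helper4.CohThick.isCoh_of_shortExact T hT h1 h3

theorem isCoh_of_isZero' (S : Scheme.{u}) [IsLocallyNoetherian S] (M : S.Modules) (hM : IsZero M) :
    cohProp S M :=
  Groth.Agent.Lib.Helper4.Dev.isCoh_of_isZero hM
    (Groth.Agent.Lib.Helper4.Dev.isCoh_structureModule S)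

instance (S : Scheme.{u}) : (cohProp S).IsClosedUnderIsomorphisms where
  of_iso e h := Groth.Agent.Lib.Helper4.Dev.isCoh_of_iso e h

/-- **S1107**: `Rf_*` of a bounded below complex with coherent cohomology with proper supports. -/
theorem isCohD_Rpush_of_isGE {X S : Scheme.{u}} [IsNoetherian S] (f : X ⟶ S)
    [LocallyOfFiniteType f] [DCoh.HasRpush f] (E : DCoh.D X) (a : ℤ) [E.IsGE a]
    (hE : DCoh.IsCohD E)
    (hsupp : ∀ i : ℤ, ClSub.IsProperOver f (CohB1.support (DCoh.HD E i))) :
    DCoh.IsCohD ((DCoh.Rpush f).obj E) ∧ ((DCoh.Rpush f).obj E).IsGE a := by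
  haveI := Groth.Agent.Lib.Helper17.MV.isGrothendieckAbelian X
  refine ⟨?_, isGE_RG_obj (Scheme.Modules.pushforward f) E a⟩
  exact goodP_of_isGE (Scheme.Modules.pushforward f) (weakSerre_isCoh S) (isCoh_of_isZero' S) E a
    (fun j p => isCoh_Rpush_of_proper_support f _ (hE j) (hsupp j) p)

/-- **S1001**: the bounded case. -/
theorem isCohD_Rpush_of_bounded {X S : Scheme.{u}} [IsNoetherian S] (f : X ⟶ S)
    [LocallyOfFiniteType f] [DCoh.HasRpush f] (E : DCoh.D X) (a b : ℤ) [E.IsGE a] [E.IsLE b]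
    (hE : DCoh.IsCohD E)
    (hsupp : ∀ i : ℤ, ClSub.IsProperOver f (CohB1.support (DCoh.HD E i))) :
    DCoh.IsCohD ((DCoh.Rpush f).obj E) ∧ ((DCoh.Rpush f).obj E).IsGE a ∧
      ∃ b' : ℤ, ((DCoh.Rpush f).obj E).IsLE b' := by
  haveI := Groth.Agent.Lib.Helper17.MV.isGrothendieckAbelian X
  obtain ⟨h1, h2⟩ := isCohD_Rpush_of_isGE f E a hE hsupp
  refine ⟨h1, h2, ?_⟩
  choose N hN using fun j : ℤ => exists_vanishing_bound f (DCoh.HD E j) (hE j) (hsupp j)
  refine ⟨b + ((Finset.Icc a b).sup N : ℕ), ?_⟩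
  rw [DerivedCategory.isLE_iff]
  have hX : ∀ i : ℤ, (i < a ∨ b < i) →
      IsZero ((DerivedCategory.homologyFunctor X.Modules i).obj E) := by
    rintro i (hi | hi)
    · exact DerivedCategory.isZero_of_isGE E a i hi
    · exact DerivedCategory.isZero_of_isLE E b i hi
  have hz := goodZ_of_bounded (Scheme.Modules.pushforward f) E a b
    (b + ((Finset.Icc a b).sup N : ℕ)) hX (fun j hj1 hj2 p hp => by
      apply hN j p
      have hle : N j ≤ (Finset.Icc a b).sup N :=
        Finset.le_sup (f := N) (Finset.mem_Icc.2 ⟨hj1, hj2⟩)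
      omega)
  intro i hi
  exact hz i hi

end Groth.Agent.Lib.Helper1.RpushCl
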