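import Mathlib
import Groth.Agent.Lib.Helper1RpushCl2
import Groth.Agent.Lib.Helper17QCPush5

set_option backward.isDefEq.respectTransparency.types false
set_option linter.style.haveILetI false
set_option maxHeartbeats 400000
set_option autoImplicit false

universe w w₁ w₂ v v' u' u
open CategoryTheory Limits AlgebraicGeometry Opposite TopologicalSpace DerivedCategory

attribute [local instance] HasDerivedCategory.standard

namespace Groth.Agent.Lib.Helper1.RDTri

open Groth.Agent.Lib.Helper17.KInj Groth.Agent.Lib.Helper17.MV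

section General

variable {A : Type u'} [Category.{v'} A] [Abelian A] {B : Type u} [Category.{v} B] [Abelian B]
  [IsGrothendieckAbelian.{w} B] [HasDerivedCategory.{w₁} A] [HasDerivedCategory.{w₂} B]
  (G : B ⥤ A) [G.Additive]
  [(G.mapHomotopyCategory (ComplexShape.up ℤ) ⋙ DerivedCategory.Qh).HasRightDerivedFunctor
    (HomotopyCategory.quasiIso B (ComplexShape.up ℤ))] [EnoughInjectives B]

open Groth.Agent.S14388 in
/-- **bounded below case, partial version**: degrees `≤ n` only. -/
theorem prop_homology_of_isGE_le {P : ObjectProperty A} [P.IsClosedUnderIsomorphisms]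
    (hP : WeakSerre P) (hP0 : ∀ Z : A, IsZero Z → P Z) (X : DerivedCategory B) (a : ℤ) [X.IsGE a]
    (n : ℤ)
    (h : ∀ (j : ℤ), j ≤ n → ∀ p : ℕ, P ((G.rightDerived p).obj ((homologyFunctor B j).obj X)))
    (i : ℤ) (hi : i ≤ n) : P ((homologyFunctor A i).obj ((RG G).obj X)) := by
  have hT := tt.triangleLTGE_distinguished (n + 1) X
  have hbd : ∀ k : ℤ, (k < a ∨ n < k) →
      IsZero ((homologyFunctor B k).obj ((tt.truncLT (n + 1)).obj X)) := by
    rintro k (hk | hk)
    · by_cases hk2 : k < n + 1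
      · haveI := isIso_homology_truncLTι (n + 1) k hk2 X
        exact (isZero_of_isGE X a k hk).of_iso
          (asIso ((homologyFunctor B k).map ((tt.truncLTι (n + 1)).app X)))
      · haveI : ((tt.truncLT (n + 1)).obj X).IsLE (n + 1 - 1) := inferInstance
        exact isZero_of_isLE _ (n + 1 - 1) k (by omega)
    · haveI : ((tt.truncLT (n + 1)).obj X).IsLE (n + 1 - 1) := inferInstance
      exact isZero_of_isLE _ (n + 1 - 1) k (by omega)
  have h1 : GoodP G P ((tt.truncLT (n + 1)).obj X) := by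
    refine goodP_of_bounded G hP hP0 _ a n hbd ?_
    intro j p
    by_cases hj : j < n + 1
    · haveI := isIso_homology_truncLTι (n + 1) j hj X
      exact P.prop_of_iso ((G.rightDerived p).mapIso
        (asIso ((homologyFunctor B j).map ((tt.truncLTι (n + 1)).app X)))).symm
        (h j (by omega) p)
    · exact hP0 _ (isZero_rightDerived_obj G p _ (hbd j (Or.inr (by omega))))
  haveI h3 : ((RG G).obj ((tt.truncGE (n + 1)).obj X)).IsGE (n + 1) := isGE_RG_obj G _ _
  have z1 : IsZero ((homologyFunctor A (i - 1)).obj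
      ((RG G).obj ((tt.truncGE (n + 1)).obj X))) :=
    DerivedCategory.isZero_of_isGE _ (n + 1) (i - 1) (by omega)
  have z2 : IsZero ((homologyFunctor A i).obj ((RG G).obj ((tt.truncGE (n + 1)).obj X))) :=
    DerivedCategory.isZero_of_isGE _ (n + 1) i (by omega)
  exact prop_homology_of_distTriang hP _ hT i (hP0 _ z1) (h1 i) (hP0 _ z2) (h1 (i + 1))

end General

end Groth.Agent.Lib.Helper1.RDTri

namespace Groth.Agent.Lib.Helper1.RpushCl

local instance (X : Scheme.{u}) : EnoughInjectives X.Modules :=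
  Groth.Agent.Lib.Helper17.QCPush.enoughInjectives X

open Groth.Agent.Lib.Helper21 Groth.Agent.Lib.Helper1.RDTri Groth.Agent.Lib.Helper17.QCPush
  Groth.Agent.Lib.Helper17.MV

/-- `Rf_*(Rg_*(F[0])) ≅ R(g ≫ f)_*(F[0])` when `g_*` preserves injectives. -/
theorem nonempty_rpush_comp_inD_iso {U X S : Scheme.{u}} (g : U ⟶ X) (f : X ⟶ S)
    [(Scheme.Modules.pushforward g).PreservesInjectiveObjects]
    [DCoh.HasRpush g] [DCoh.HasRpush f] [DCoh.HasRpush (g ≫ f)] (F : U.Modules) :
    Nonempty ((DCoh.Rpush f).obj ((DCoh.Rpush g).obj (DCoh.inD U F)) ≅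
      (DCoh.Rpush (g ≫ f)).obj (DCoh.inD U F)) := by
  haveI := isGrothendieckAbelian X
  let I : InjectiveResolution F := injectiveResolution F
  let J : CochainComplex X.Modules ℤ :=
    ((Scheme.Modules.pushforward g).mapHomologicalComplex (ComplexShape.up ℤ)).obj I.cochainComplex
  haveI : ∀ n : ℤ, Injective (J.X n) := fun n =>
    Functor.PreservesInjectiveObjects.injective_obj (F := Scheme.Modules.pushforward g)
      (inferInstance : Injective (I.cochainComplex.X n))
  haveI : J.IsStrictlyGE 0 := by dsimp [J]; infer_instance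
  haveI : J.IsKInjective := CochainComplex.isKInjective_of_injective J 0
  let e1 : (DCoh.Rpush f).obj ((DCoh.Rpush g).obj (DCoh.inD U F)) ≅
      (Q : _ ⥤ DCoh.D S).obj
        (((Scheme.Modules.pushforward f).mapHomologicalComplex (ComplexShape.up ℤ)).obj J) :=
    (DCoh.Rpush f).mapIso (rpushInDIso g I) ≪≫ isoOfKInj (Scheme.Modules.pushforward f) J
  let e2 : ((Scheme.Modules.pushforward f).mapHomologicalComplex (ComplexShape.up ℤ)).obj J ≅
      ((Scheme.Modules.pushforward (g ≫ f)).mapHomologicalComplex (ComplexShape.up ℤ)).obj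
        I.cochainComplex :=
    (NatIso.mapHomologicalComplex (Scheme.Modules.pushforwardComp g f) (ComplexShape.up ℤ)).app
      I.cochainComplex
  exact ⟨e1 ≪≫ (Q : _ ⥤ DCoh.D S).mapIso e2 ≪≫ (rpushInDIso (g ≫ f) I).symm⟩

/-- **S5186**. -/
theorem isCoh_Rpush_comp_of_open {X S : Scheme.{u}} (f : X ⟶ S) [IsProper f]
    [IsLocallyNoetherian S] (U : X.Opens) (F : (U : Scheme.{u}).Modules) (n : ℕ)
    (hg : ∀ i : ℕ, i ≤ n → Coh.IsCoh ((Coh.Rpush U.ι i).obj F)) (i : ℕ) (hi : i ≤ n) :
    Coh.IsCoh ((Coh.Rpush (U.ι ≫ f) i).obj F) := by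
  haveI := isGrothendieckAbelian X
  haveI := isGrothendieckAbelian (U : Scheme.{u})
  haveI := hasRpush U.ι
  haveI := hasRpush f
  haveI := hasRpush (U.ι ≫ f)
  haveI : IsLocallyNoetherian X := LocallyOfFiniteType.isLocallyNoetherian f
  obtain ⟨e⟩ := nonempty_rpush_comp_inD_iso U.ι f F
  obtain ⟨e'⟩ := nonempty_HD_rpush_inD_iso (U.ι ≫ f) F i (i : ℤ) rfl
  let E : DCoh.D X := (DCoh.Rpush U.ι).obj (DCoh.inD _ F)
  haveI : E.IsGE 0 := isGE_RG_obj (Scheme.Modules.pushforward U.ι) _ 0
  have key := prop_homology_of_isGE_le (Scheme.Modules.pushforward f) (weakSerre_isCoh S)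
    (isCoh_of_isZero' S) E 0 (n : ℤ) (fun j hj p => by
      by_cases hj0 : j < 0
      · exact isCoh_of_isZero' S _ (isZero_rightDerived_obj _ p _ (isZero_HD_rpush_inD U.ι F j hj0))
      · obtain ⟨q, rfl⟩ : ∃ q : ℕ, (q : ℤ) = j := ⟨j.toNat, by omega⟩
        obtain ⟨eq⟩ := nonempty_HD_rpush_inD_iso U.ι F q (q : ℤ) rfl
        have hc : Coh.IsCoh ((Coh.Rpush U.ι q).obj F) := hg q (by omega)
        have hc2 : Coh.IsCoh (DCoh.HD E (q : ℤ)) := Groth.Agent.Lib.Helper4.Dev.isCoh_of_iso eq.symm hc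
        exact Groth.Agent.Lib.Helper17.FinCore.isCoh_Rpush_of_isProper f _ hc2 p)
    (i : ℤ) (by exact_mod_cast hi)
  exact Groth.Agent.Lib.Helper4.Dev.isCoh_of_iso
    ((DerivedCategory.homologyFunctor S.Modules (i : ℤ)).mapIso e ≪≫ e') key

end Groth.Agent.Lib.Helper1.RpushCl
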