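import Mathlib
import Groth.Agent.Lib.Helper1ChartLevel
import Groth.Agent.Lib.Helper1RpushRes
import Groth.Agent.Lib.Helper17QCPush1
import Groth.Agent.Lib.Helper17AdjWay1
import Groth.Agent.S1001
import Groth.Agent.S1039
import Groth.Agent.S6942
import Groth.Agent.S0020
import Groth.Agent.S7213
import Groth.Agent.S2066
import Groth.Agent.Lib.Helper1ExtVan
set_option backward.isDefEq.respectTransparency.types false
set_option autoImplicit false
set_option linter.style.haveILetI false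
set_option linter.unusedSectionVars false
set_option maxHeartbeats 400000
universe u
open CategoryTheory CategoryTheory.Limits AlgebraicGeometry Opposite TopologicalSpace Pretriangulated

attribute [local instance] HasDerivedCategory.standard

namespace Groth.Agent.Lib.Helper1.RpushPCN

open Groth.Agent.Lib.Helper1.SPL Groth.Agent.Lib.Helper1.Sky ZeroObject
open Groth.Agent.Lib.Helper1.ClosedPC Groth.Agent.Lib.Helper1.ChartPC
open Groth.Agent.Lib.Helper1.KoszulPerf Groth.Agent.Lib.Helper1.TildePC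
open Groth.Agent.Lib.Helper1.Restrict Groth.Agent.Lib.Helper1.RelPC Groth.Agent.Lib.Helper1.PC
open Groth.Agent.Lib.Helper1.ChartInd

/-- a morphism locally of finite type over a locally Noetherian base is pseudo-coherent -/
theorem isNPseudoCoherent_of_isLocallyNoetherian {T S : Scheme.{u}} (f : T ⟶ S)
    [LocallyOfFiniteType f] [IsLocallyNoetherian S] (n : ℤ) : DerSch.IsNPseudoCoherent f n := by
  refine isPseudoCoherentRel_of_forall f _ n (fun U V h => ?_)
  obtain ⟨k, φ, hφ⟩ := exists_isChart f U.2 V.2 h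
  refine ⟨k, φ, hφ, ?_⟩
  rw [chartPC_unit_iff_pcj U.2 φ hφ.1]
  haveI : IsNoetherianRing Γ(S, (V : S.Opens)) := IsLocallyNoetherian.component_noetherian V
  let M : ModuleCat.{u} (MvPolynomial (Fin k) Γ(S, (V : S.Opens))) :=
    (ModuleCat.restrictScalars.{u} φ).obj (ModuleCat.of Γ(T, (U : T.Opens)) Γ(T, (U : T.Opens)))
  let π : MvPolynomial (Fin k) Γ(S, (V : S.Opens)) →ₗ[MvPolynomial (Fin k) Γ(S, (V : S.Opens))] M :=
    { toFun := fun p => (φ p : Γ(T, (U : T.Opens)))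
      map_add' := fun a b => map_add φ _ _
      map_smul' := fun a b => by
        show φ (a * b) = φ a * φ b
        exact map_mul φ _ _ }
  haveI : Module.Finite (MvPolynomial (Fin k) Γ(S, (V : S.Opens))) M :=
    Module.Finite.of_surjective π hφ.1
  have h1 := (Groth.Agent.S6942.result (MvPolynomial (Fin k) Γ(S, (V : S.Opens))) n
    (Dual.inD _ M) M).2.2 inferInstance
  exact (Groth.Agent.S2066.result _).1.2 h1 n

variable {X Y S : Scheme.{u}}

/-- over a locally Noetherian base, relative and absolute pseudo-coherence agree -/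
theorem rel_iff_abs (p : X ⟶ S) [LocallyOfFiniteType p] [IsLocallyNoetherian S] (m : ℤ)
    (E : DCoh.D X) : DerSch.IsPseudoCoherentRel p m E ↔ DCoh.IsPseudoCoherentD m E :=
  (isPseudoCoherentD_iff_isPseudoCoherentRel p
    (fun n => isNPseudoCoherent_of_isLocallyNoetherian p n) m E).symm

/-- quasi-coherence of the cohomology of a relatively pseudo-coherent object -/
theorem isQCohD_of_relAll (p : X ⟶ S) (E : DCoh.D X) (hE : DerSch.IsPseudoCoherentRelAll p E) :
    DCoh.IsQCohD E := fun i =>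
  Groth.Agent.S7213.result p (i - 1) E (hE (i - 1)) i (by omega)

/-- the Noetherian case: S6222 in absolute form -/
theorem abs_main [IsNoetherian Y] (f : X ⟶ Y) [IsProper f] [DCoh.HasRpush f] (E : DCoh.D X)
    (hq : DCoh.IsQCohD E) (a b : ℤ) [E.IsGE a] [E.IsLE b]
    (hE : ∀ m : ℤ, DCoh.IsPseudoCoherentD m E) :
    (∃ c : ℤ, ((DCoh.Rpush f).obj E).IsLE c) ∧ ((DCoh.Rpush f).obj E).IsGE a ∧
      ∀ m : ℤ, DCoh.IsPseudoCoherentD m ((DCoh.Rpush f).obj E) := by
  haveI : IsLocallyNoetherian X := LocallyOfFiniteType.isLocallyNoetherian f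
  haveI : CompactSpace X := QuasiCompact.compactSpace_of_compactSpace f
  haveI : IsNoetherian X := {}
  have hcoh : DCoh.IsCohD E := fun i =>
    ((Groth.Agent.S1039.result X E hq i).1 (hE i)).1 i le_rfl
  have hsupp : ∀ i : ℤ, ClSub.IsProperOver f (CohB1.support (DCoh.HD E i)) := fun i =>
    ⟨Groth.Agent.S0020.result X _ (hcoh i).2, inferInstance⟩
  obtain ⟨h1, h2, c, h3⟩ := Groth.Agent.S1001.result f E a b hcoh hsupp
  refine ⟨⟨c, h3⟩, h2, fun m => ?_⟩
  have hq' : DCoh.IsQCohD ((DCoh.Rpush f).obj E) := fun i => (h1 i).1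
  exact (Groth.Agent.S1039.result Y _ hq' m).2 ⟨fun i _ => h1 i, c, h3⟩

/-- the locally Noetherian case: S6220 in absolute form -/
theorem abs_main_loc [IsLocallyNoetherian Y] (f : X ⟶ Y) [IsProper f] [DCoh.HasRpush f]
    (E : DCoh.D X) (hq : DCoh.IsQCohD E) (a : ℤ) [E.IsGE a]
    (hE : ∀ m : ℤ, DCoh.IsPseudoCoherentD m E) (m : ℤ) :
    DCoh.IsPseudoCoherentD m ((DCoh.Rpush f).obj E) := by
  rw [isPseudoCoherentD_iff_hasPresM]
  intro y
  obtain ⟨V', hV', hyV', -⟩ := Opens.isBasis_iff_nbhd.1 Y.isBasis_affineOpens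
    (show y ∈ (⊤ : Y.Opens) from trivial)
  obtain ⟨V, hV, hyV⟩ : ∃ V : Y.Opens, IsAffineOpen V ∧ y ∈ V := ⟨V', hV', hyV'⟩
  haveI : IsAffine (V : Scheme.{u}) := hV
  haveI : IsNoetherian (V : Scheme.{u}) := {}
  haveI := Groth.Agent.Lib.Helper17.QCPush.hasRpush (f ∣_ V)
  obtain ⟨e⟩ := Groth.Agent.Lib.Helper1.RpushRes.nonempty_rpush_restrict_iso f V
  let E' : DCoh.D ((f ⁻¹ᵁ V : X.Opens) : Scheme.{u}) := (DCoh.restrictD (f ⁻¹ᵁ V).ι).obj E
  haveI : E'.IsGE a :=
    Groth.Agent.Lib.Helper17.AdjWay.isGE_map (Scheme.Modules.restrictFunctor (f ⁻¹ᵁ V).ι) E a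
  have hq' : DCoh.IsQCohD E' := Groth.Agent.Lib.Helper1.ExtVan.isQCohD_restrictD _ E hq
  have hE' : ∀ m, DCoh.IsPseudoCoherentD m E' := fun m =>
    isPseudoCoherentD_resD m (f ⁻¹ᵁ V).ι E (hE m)
  haveI : IsLocallyNoetherian ((f ⁻¹ᵁ V : X.Opens) : Scheme.{u}) :=
    LocallyOfFiniteType.isLocallyNoetherian (f ∣_ V)
  haveI : CompactSpace ((f ⁻¹ᵁ V : X.Opens) : Scheme.{u}) :=
    QuasiCompact.compactSpace_of_compactSpace (f ∣_ V)
  haveI : IsNoetherian ((f ⁻¹ᵁ V : X.Opens) : Scheme.{u}) := {}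
  obtain ⟨b, hb⟩ := ((Groth.Agent.S1039.result _ E' hq' 0).1 (hE' 0)).2
  haveI := hb
  obtain ⟨-, -, h3⟩ := abs_main (f ∣_ V) E' hq' a b hE'
  have h4 : DCoh.IsPseudoCoherentD m ((resD V.ι).obj ((DCoh.Rpush f).obj E)) :=
    isPseudoCoherentD_of_iso (e.app E).symm (h3 m)
  exact hasPresM_of_resD V.ι m _ ⟨y, hyV⟩ ((isPseudoCoherentD_iff_hasPresM m _).1 h4 ⟨y, hyV⟩)

/-- **S6220** -/
theorem main_loc [IsLocallyNoetherian S] (p : X ⟶ S) (q : Y ⟶ S) [LocallyOfFiniteType p]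
    [LocallyOfFiniteType q] (f : X ⟶ Y) [IsProper f] (w : f ≫ q = p) [DCoh.HasRpush f]
    (E : DCoh.D X) (a : ℤ) [E.IsGE a] (hE : DerSch.IsPseudoCoherentRelAll p E) :
    DerSch.IsPseudoCoherentRelAll q ((DCoh.Rpush f).obj E) := by
  haveI : IsLocallyNoetherian Y := LocallyOfFiniteType.isLocallyNoetherian q
  intro m
  rw [rel_iff_abs]
  exact abs_main_loc f E (isQCohD_of_relAll p E hE) a (fun m => (rel_iff_abs p m E).1 (hE m)) m

/-- **S6222** -/
theorem main_noeth [IsNoetherian S] (p : X ⟶ S) (q : Y ⟶ S) [LocallyOfFiniteType p]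
    [QuasiCompact p] [LocallyOfFiniteType q] [QuasiCompact q] (f : X ⟶ Y) [IsProper f]
    (w : f ≫ q = p) [DCoh.HasRpush f] (E : DCoh.D X) (a b : ℤ) [E.IsGE a] [E.IsLE b]
    (hE : DerSch.IsPseudoCoherentRelAll p E) :
    (∃ c : ℤ, ((DCoh.Rpush f).obj E).IsLE c) ∧ ((DCoh.Rpush f).obj E).IsGE a ∧
      DerSch.IsPseudoCoherentRelAll q ((DCoh.Rpush f).obj E) := by
  haveI : IsLocallyNoetherian Y := LocallyOfFiniteType.isLocallyNoetherian q
  haveI : CompactSpace Y := QuasiCompact.compactSpace_of_compactSpace q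
  haveI : IsNoetherian Y := {}
  obtain ⟨h1, h2, h3⟩ := abs_main f E (isQCohD_of_relAll p E hE) a b
    (fun m => (rel_iff_abs p m E).1 (hE m))
  exact ⟨h1, h2, fun m => (rel_iff_abs q m _).2 (h3 m)⟩

end Groth.Agent.Lib.Helper1.RpushPCN
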