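import Mathlib
import Groth.Agent.Lib.Helper1PC17
import Groth.Agent.Lib.Helper1ChartQC
import Groth.Agent.Lib.Helper17RpushBound2
import Groth.Agent.Lib.Helper17RDTri1
import Groth.Agent.S14388
import Groth.Agent.Lib.Helper1FinPushB
set_option backward.isDefEq.respectTransparency.types false
set_option autoImplicit false
set_option linter.style.haveILetI false
set_option linter.unusedSectionVars false
set_option maxHeartbeats 400000
universe u
open CategoryTheory CategoryTheory.Limits AlgebraicGeometry Opposite TopologicalSpace Pretriangulated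

attribute [local instance] HasDerivedCategory.standard

namespace Groth.Agent.Lib.Helper1.RpushPCShift

open Groth.Agent.Lib.Helper1.SPL Groth.Agent.Lib.Helper1.Sky ZeroObject
open Groth.Agent.S14388

variable {X Y : Scheme.{u}}

/-- a pseudo-coherent object on a quasi-compact scheme is bounded above -/
theorem exists_isLE_of_isPseudoCoherentD [CompactSpace X] (K : DCoh.D X) (m : ℤ)
    (h : DCoh.IsPseudoCoherentD m K) : ∃ n : ℤ, K.IsLE n := by
  rw [isPseudoCoherentD_iff_hasPresM] at h
  choose U j hj N hx hmN hN using fun x => (h x).exists_isZero_homology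
  haveI := hj
  obtain ⟨t, ht⟩ := isCompact_univ.elim_finite_subcover
    (fun x => ((j x).opensRange : Set X))
    (fun x => (j x).opensRange.isOpen) (fun x _ => Set.mem_iUnion.2 ⟨x, hx x⟩)
  let n : ℤ := ((t.sup fun x => (N x).toNat : ℕ) : ℤ)
  have hn : ∀ x ∈ t, N x ≤ n := fun x hxt => (Int.self_le_toNat _).trans
    (Int.ofNat_le.2 (Finset.le_sup (f := fun x => (N x).toNat) hxt))
  refine ⟨n, ?_⟩
  rw [DerivedCategory.isLE_iff]
  intro i hi
  refine Groth.Agent.Lib.Helper23.ModLocal.isZero_of_isZero_restrict (ι := t) (fun x => U x)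
    (fun x => j x) (fun y => ?_) (fun x => ?_)
  · have := ht (Set.mem_univ y)
    simp only [Set.mem_iUnion] at this
    obtain ⟨x, hxt, hy⟩ := this
    obtain ⟨y', rfl⟩ := hy
    exact ⟨⟨x, hxt⟩, y', rfl⟩
  · exact IsZero.of_iso (hN x i (lt_of_le_of_lt (hn x x.2) hi)) (homologyResDIso (j x) _ i).symm

/-- an object pseudo-coherent in all degrees has quasi-coherent cohomology -/
theorem isQCohD_of_forall_isPseudoCoherentD (K : DCoh.D X)
    (h : ∀ m : ℤ, DCoh.IsPseudoCoherentD m K) : DCoh.IsQCohD K := fun q =>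
  Groth.Agent.Lib.Helper1.ChartQC.isQuasicoherent_HD_of_hasPresM K (q - 1) q (by omega)
    ((isPseudoCoherentD_iff_hasPresM _ _).1 (h (q - 1)))

open Groth.Agent.Lib.Helper17.AffPush in
/-- uniform vanishing bound with amplitude, over a quasi-compact base -/
theorem exists_bound (f : X ⟶ Y) [QuasiCompact f] [QuasiSeparated f] [CompactSpace Y]
    [DCoh.HasRpush f] :
    ∃ N : ℤ, ∀ (E : DCoh.D X), DCoh.IsQCohD E → ∀ a : ℤ, E.IsLE a → ∀ m : ℤ, N + a ≤ m →
      IsZero (DCoh.HD ((DCoh.Rpush f).obj E) m) := by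
  choose N hN using fun V : Y.affineOpens => exists_bound_local f V.1 V.2
  obtain ⟨t, ht⟩ := isCompact_univ.elim_finite_subcover
    (fun V : Y.affineOpens => ((V : Y.Opens) : Set Y))
    (fun V => (V : Y.Opens).isOpen) (fun y _ => by
      obtain ⟨V, hV, hyV, -⟩ := Opens.isBasis_iff_nbhd.1 Y.isBasis_affineOpens
        (show y ∈ (⊤ : Y.Opens) from trivial)
      exact Set.mem_iUnion.2 ⟨⟨V, hV⟩, hyV⟩)
  let n : ℤ := ((t.sup fun V => (N V).toNat : ℕ) : ℤ)
  have hn : ∀ V ∈ t, N V ≤ n := fun V hVt => (Int.self_le_toNat _).trans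
    (Int.ofNat_le.2 (Finset.le_sup (f := fun V => (N V).toNat) hVt))
  refine ⟨n, fun E hE a ha m hm => ?_⟩
  refine Groth.Agent.Lib.Helper23.ModLocal.isZero_of_isZero_restrict (ι := t)
    (fun V => ((V : Y.affineOpens) : Y.Opens)) (fun V => ((V : Y.affineOpens) : Y.Opens).ι)
    (fun y => ?_) (fun V => ?_)
  · have := ht (Set.mem_univ y)
    simp only [Set.mem_iUnion] at this
    obtain ⟨V, hVt, hy⟩ := this
    exact ⟨⟨V, hVt⟩, ⟨y, hy⟩, rfl⟩
  · exact hN V.1 E hE a ha m (by have := hn V.1 V.2; omega)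

/-- **S11122** -/
theorem main (f : X ⟶ Y) [QuasiCompact f] [QuasiSeparated f] [CompactSpace Y] [DCoh.HasRpush f]
    (k : ℤ)
    (hK : ∀ (F : DCoh.D X) (n a b : ℤ), F.IsGE a → F.IsLE b → DCoh.IsPseudoCoherentD n F →
      DCoh.IsPseudoCoherentD (n + k) ((DCoh.Rpush f).obj F))
    (F : DCoh.D X) (hF : ∀ m : ℤ, DCoh.IsPseudoCoherentD m F) (m : ℤ) :
    DCoh.IsPseudoCoherentD m ((DCoh.Rpush f).obj F) := by
  haveI : CompactSpace X := QuasiCompact.compactSpace_of_compactSpace f
  obtain ⟨b, hb⟩ := exists_isLE_of_isPseudoCoherentD F 0 (hF 0)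
  have hq := isQCohD_of_forall_isPseudoCoherentD F hF
  obtain ⟨N, hN⟩ := exists_bound f
  obtain ⟨n, hn⟩ : ∃ n : ℤ, n = m - k := ⟨_, rfl⟩
  obtain ⟨a, ha⟩ : ∃ a : ℤ, a = min (m - k) (m - N) := ⟨_, rfl⟩
  have ha1 : a ≤ m - k := ha ▸ min_le_left _ _
  have ha2 : a ≤ m - N := ha ▸ min_le_right _ _
  have hT := (tt (C := X.Modules)).triangleLTGE_distinguished a F
  -- the left part has quasi-coherent cohomology
  have hLq : DCoh.IsQCohD ((tt.truncLT a).obj F) := by
    intro i
    by_cases hi : i < a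
    · haveI := isIso_homology_truncLTι a i hi F
      haveI : (DCoh.HD F i).IsQuasicoherent := hq i
      exact (SheafOfModules.isQuasicoherent X.ringCatSheaf).prop_of_iso
        (asIso ((DerivedCategory.homologyFunctor X.Modules i).map ((tt.truncLTι a).app F))).symm
        (hq i)
    · exact Groth.Agent.Lib.Helper1.FinPush.isQuasicoherent_of_isZero _
        (DerivedCategory.isZero_of_isLE ((tt.truncLT a).obj F) (a - 1) i (by omega))
  -- the left part is `(n+1)`-pseudo-coherent
  have hL : DCoh.IsPseudoCoherentD (n + 1) ((tt.truncLT a).obj F) :=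
    isPseudoCoherentD_of_isZero_homology _ (n + 1) (fun i hi =>
      DerivedCategory.isZero_of_isLE ((tt.truncLT a).obj F) (a - 1) i (by omega))
  -- the right part is `n`-pseudo-coherent and bounded
  have hG : DCoh.IsPseudoCoherentD n ((tt.truncGE a).obj F) :=
    (isPseudoCoherentD_triangle n _ hT).1 hL (hF n)
  haveI hGle : ((tt.truncGE a).obj F).IsLE b := by
    rw [DerivedCategory.isLE_iff]
    intro i hi
    by_cases hia : a ≤ i
    · haveI := isIso_homology_truncGEπ a i hia F
      exact IsZero.of_iso (DerivedCategory.isZero_of_isLE F b i hi)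
        (asIso ((DerivedCategory.homologyFunctor X.Modules i).map
          ((tt.truncGEπ a).app F))).symm
    · exact DerivedCategory.isZero_of_isGE ((tt.truncGE a).obj F) a i (by omega)
  have hRG : DCoh.IsPseudoCoherentD m ((DCoh.Rpush f).obj ((tt.truncGE a).obj F)) := by
    have := hK ((tt.truncGE a).obj F) n a b inferInstance hGle hG
    rwa [show n + k = m by omega] at this
  -- the image of the left part vanishes in degrees `≥ m`
  have hRL : DCoh.IsPseudoCoherentD m ((DCoh.Rpush f).obj ((tt.truncLT a).obj F)) :=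
    isPseudoCoherentD_of_isZero_homology _ m (fun i hi =>
      hN _ hLq (a - 1) inferInstance i (by omega))
  haveI : IsGrothendieckAbelian.{u} X.Modules :=
    Groth.Agent.Lib.Helper21.ModTensor3.isGrothendieckAbelian (O := X.sheaf)
  letI := Groth.Agent.Lib.Helper17.RDTri.commShift.{u} (DCoh.pushKh f) (DCoh.Rpush f)
    ((DCoh.pushKh f).totalRightDerivedUnit DerivedCategory.Qh
      (HomotopyCategory.quasiIso X.Modules (ComplexShape.up ℤ)))
  haveI : (DCoh.Rpush f).IsTriangulated :=
    Groth.Agent.Lib.Helper17.RDTri.isTriangulated.{u} (DCoh.pushKh f) (DCoh.Rpush f)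
      ((DCoh.pushKh f).totalRightDerivedUnit DerivedCategory.Qh
        (HomotopyCategory.quasiIso X.Modules (ComplexShape.up ℤ)))
  have hT' := (DCoh.Rpush f).map_distinguished _ hT
  exact (isPseudoCoherentD_triangle m _ hT').2.1 hRL hRG

end Groth.Agent.Lib.Helper1.RpushPCShift
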