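import Mathlib
import Groth.Agent.Lib.Helper1RExB
import Groth.Agent.Lib.Helper1TQ12
import Groth.Agent.Lib.Helper1TorT5
set_option backward.isDefEq.respectTransparency.types false
set_option autoImplicit false
set_option linter.style.haveILetI false
set_option maxHeartbeats 400000
universe u

/-!
# Flatness of `coker(d^p)` of a K-flat resolution of a pseudo-coherent complex spreads out
(helper1)
-/

open CategoryTheory CategoryTheory.Limits AlgebraicGeometry HomologicalComplex
attribute [local instance] HasDerivedCategory.standard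

namespace Groth.Agent.Lib.Helper1.TQ

open Groth.Agent.Lib.Helper1.Sky Groth.Agent.Lib.Helper1.StalkTensor Groth.Agent.Lib.Helper1.KBC
  Groth.Agent.Lib.Helper1.Tor Groth.Agent.Lib.Helper1.BKF Groth.Agent.Lib.Helper1.CI
  Groth.Agent.Lib.Helper1.SPL Groth.Agent.Lib.Helper1.Extend Groth.Agent.Lib.Helper1.RelPC
  Groth.Agent.Lib.Helper1.Restrict Groth.Agent.Lib.Helper1.RelTri Groth.Agent.Lib.Helper1.FLF
  Groth.Agent.Lib.Helper1.PT Groth.Agent.Lib.Helper1.TorT Groth.Agent.Lib.Helper1.LDer
  Groth.Agent.Lib.Helper1.RExact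

section ring

/-- flatness descends along a bijective ring homomorphism -/
lemma flat_of_extendScalars_of_bijective {A B : Type u} [CommRing A] [CommRing B] (σ : A →+* B)
    (hσ : Function.Bijective σ) (M : ModuleCat.{u} A)
    (h : Module.Flat B ((ModuleCat.extendScalars.{u, u, u} σ).obj M)) : Module.Flat A M := by
  letI : Algebra A B := σ.toAlgebra
  haveI h' : Module.Flat B (TensorProduct A B M) := h
  let eAB : A ≃ₗ[A] B := LinearEquiv.ofBijective (Algebra.linearMap A B) hσ
  haveI : Module.Flat A B := Module.Flat.of_linearEquiv eAB.symm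
  haveI : Module.Flat A (TensorProduct A B M) := Module.Flat.trans A B _
  let ψ : M ≃ₗ[A] TensorProduct A B M :=
    (TensorProduct.lid A M).symm ≪≫ₗ TensorProduct.congr eAB (LinearEquiv.refl A M)
  exact Module.Flat.of_linearEquiv ψ

end ring

variable {X : Scheme.{u}}

/-- flatness at a point can be checked on an open subscheme -/
lemma isFlatAt_of_restrict {U : Scheme.{u}} (j : U ⟶ X) [IsOpenImmersion j] (M : X.Modules) (y : U)
    (h : FlatMod.IsFlatAt (M.restrict j) y) : FlatMod.IsFlatAt M (j y) := by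
  have h1 : Module.Flat (Sky.Ox y) ((stalkFun y).obj (M.restrict j)) := h
  let ε : (stalkFun y).obj (M.restrict j) ≅
      (ModuleCat.extendScalars.{u, u, u} (j.stalkMap y).hom).obj ((stalkFun (j y)).obj M) :=
    (stalkFun y).mapIso ((Scheme.Modules.restrictFunctorIsoPullback j).app M) ≪≫
      (stalkPullbackIso j y).app M
  have h2 : Module.Flat (Sky.Ox y) ((ModuleCat.extendScalars.{u, u, u} (j.stalkMap y).hom).obj
      ((stalkFun (j y)).obj M)) :=
    @Module.Flat.of_linearEquiv _ _ _ _ _ _ _ _ h1 ε.toLinearEquiv.symm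
  have hσ : Function.Bijective (j.stalkMap y).hom :=
    ConcreteCategory.bijective_of_isIso (j.stalkMap y)
  exact flat_of_extendScalars_of_bijective (j.stalkMap y).hom hσ ((stalkFun (j y)).obj M) h2

/-- flatness at `x` of a cokernel of a differential, in terms of the complex of stalks -/
lemma isFlatAt_cokernel_iff (E : CochainComplex X.Modules ℤ) (x : X) (a b : ℤ) :
    FlatMod.IsFlatAt (cokernel (E.d a b)) x ↔
      Module.Flat (Sky.Ox x)
        (cokernel (((stalkC x).obj E).d a b) : ModuleCat.{u} (Sky.Ox x)) := by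
  let e : (stalkFun x).obj (cokernel (E.d a b)) ≅ cokernel ((stalkFun x).map (E.d a b)) :=
    PreservesCokernel.iso (stalkFun x) (E.d a b)
  constructor
  · intro h
    have h1 : Module.Flat (Sky.Ox x) ((stalkFun x).obj (cokernel (E.d a b))) := h
    exact @Module.Flat.of_linearEquiv _ _ _ _ _ _ _ _ h1 e.toLinearEquiv.symm
  · intro h
    show Module.Flat (Sky.Ox x) ((stalkFun x).obj (cokernel (E.d a b)))
    exact @Module.Flat.of_linearEquiv _ _ _ _ _ _ _ _ h e.toLinearEquiv

/-- the same with the stalk functor of the prelude -/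
lemma isFlatAt_cokernel_of_flat_stalk (E : CochainComplex X.Modules ℤ) (x : X) (a b : ℤ)
    (h : Module.Flat (X.presheaf.stalk x)
      (cokernel ((((DerSch.stalkFunctor X x).mapHomologicalComplex (ComplexShape.up ℤ)).obj E).d a b) :
        ModuleCat.{u} (X.presheaf.stalk x))) :
    FlatMod.IsFlatAt (cokernel (E.d a b)) x := by
  rw [isFlatAt_cokernel_iff]
  let e := (NatIso.mapHomologicalComplex (stalkFunctorIso x) (ComplexShape.up ℤ)).app E
  let c : cokernel ((((DerSch.stalkFunctor X x).mapHomologicalComplex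
      (ComplexShape.up ℤ)).obj E).d a b) ≅ cokernel (((stalkC x).obj E).d a b) :=
    cokernel.mapIso _ _ (HomologicalComplex.Hom.isoApp e a) (HomologicalComplex.Hom.isoApp e b)
      (e.hom.comm a b).symm
  exact @Module.Flat.of_linearEquiv _ _ _ _ _ _ _ _ h c.toLinearEquiv.symm

/-- comparison of flatness at a point of `coker(d^p)` along a strictly perfect approximation -/
theorem isFlatAt_cokernel_iff_of_propM {U : Scheme.{u}} (P E' : CochainComplex U.Modules ℤ)
    (β : P ⟶ E') (hP : DCoh.IsStrictlyPerfect P) (hE' : DCoh.IsKFlat E')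
    (hE'f : ∀ n : ℤ, FlatMod.IsFlat (E'.X n)) (p : ℤ)
    (hβ : PropM p (DerivedCategory.Q.map β)) (u : U) :
    FlatMod.IsFlatAt (cokernel (P.d p (p + 1))) u ↔
      FlatMod.IsFlatAt (cokernel (E'.d p (p + 1))) u := by
  rw [isFlatAt_cokernel_iff, isFlatAt_cokernel_iff]
  have hPK : DCoh.IsKFlat P := (kffs_of_isStrictlyPerfect P hP).1
  exact flat_cokernel_iff_of_propM ((stalkC u).obj P) ((stalkC u).obj E') ((stalkC u).map β)
    (fun M hM => rKFlat_stalk_of_isKFlat u P hPK M hM)
    (fun M hM => rKFlat_stalk_of_isKFlat u E' hE' M hM)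
    (fun i => isFlat_of_isFinLocFree' _ (hP.2 i) u) (fun i => hE'f i u) p
    (propM_Q_map_mapHC (stalkFun u) β p hβ)

/-- the locus where `coker(d^p)` of a K-flat complex with flat terms, `p`-pseudo-coherent near
`x`, is flat is a neighbourhood of `x` as soon as it contains `x` -/
theorem exists_nhd_isFlatAt_cokernel (E : CochainComplex X.Modules ℤ) (hE : DCoh.IsKFlat E)
    (hEf : ∀ n : ℤ, FlatMod.IsFlat (E.X n)) (p : ℤ) (x : X)
    (hpc : HasPresM p (DerivedCategory.Q.obj E) x)
    (hx : FlatMod.IsFlatAt (cokernel (E.d p (p + 1))) x) :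
    ∃ W : X.Opens, x ∈ W ∧ ∀ w : X, w ∈ W → FlatMod.IsFlatAt (cokernel (E.d p (p + 1))) w := by
  obtain ⟨U, j, hj, hy, P, β, hP, hβ⟩ := exists_chain_pres E p x hpc
  haveI := hj
  obtain ⟨u₀, hu₀⟩ := hy
  have hE' : DCoh.IsKFlat ((resC j).obj E) := isKFlat_resC j E hE
  have hE'f : ∀ n : ℤ, FlatMod.IsFlat (((resC j).obj E).X n) := fun n =>
    isFlat_restrict j (E.X n) (hEf n)
  let c : cokernel (((resC j).obj E).d p (p + 1)) ≅ (cokernel (E.d p (p + 1))).restrict j :=
    (PreservesCokernel.iso (Scheme.Modules.restrictFunctor j) (E.d p (p + 1))).symm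
  have key : ∀ u : U, FlatMod.IsFlatAt (cokernel (((resC j).obj E).d p (p + 1))) u ↔
      FlatMod.IsFlatAt (cokernel (E.d p (p + 1))) (j u) := fun u =>
    ⟨fun h => isFlatAt_of_restrict j _ u (isFlatAt_of_iso c u h),
      fun h => isFlatAt_of_iso c.symm u (isFlatAt_restrict j _ u h)⟩
  have h0 : FlatMod.IsFlatAt (cokernel (((resC j).obj E).d p (p + 1))) u₀ := by
    rw [key]
    have : j u₀ = x := hu₀
    rw [this]
    exact hx
  have h1 : FlatMod.IsFlatAt (cokernel (P.d p (p + 1))) u₀ :=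
    (isFlatAt_cokernel_iff_of_propM P _ β hP hE' hE'f p hβ u₀).2 h0
  obtain ⟨W', hu₀W', hW'⟩ := flfAt_of_cokernel_of_isFlatAt (P.d p (p + 1))
    (cokernel.π (P.d p (p + 1))) (cokernel.condition _) (ShortComplex.exact_cokernel _) u₀
    (flfAt_of_isFinLocFree _ (hP.2 _) u₀) (flfAt_of_isFinLocFree _ (hP.2 _) u₀) h1
  refine ⟨j ''ᵁ W', ⟨u₀, hu₀W', hu₀⟩, ?_⟩
  rintro w ⟨u, hu, rfl⟩
  have h2 : FlatMod.IsFlatAt ((cokernel (P.d p (p + 1))).restrict W'.ι) ⟨u, hu⟩ :=
    isFlat_of_isFinLocFree' _ hW' ⟨u, hu⟩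
  have h3 : FlatMod.IsFlatAt (cokernel (P.d p (p + 1))) u :=
    isFlatAt_of_restrict W'.ι _ ⟨u, hu⟩ h2
  exact (key u).1 ((isFlatAt_cokernel_iff_of_propM P _ β hP hE' hE'f p hβ u).1 h3)

end Groth.Agent.Lib.Helper1.TQ
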