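import Mathlib
import Groth.Agent.Lib.Helper1SExA
import Groth.Agent.Lib.Helper1LDer6
set_option backward.isDefEq.respectTransparency.types false
set_option autoImplicit false
set_option linter.style.haveILetI false
set_option maxHeartbeats 400000
universe u

/-!
# Exactness of `M ↦ H^p(M ⊗^L F)` spreads out from the stalk at a point (helper1)
-/

open CategoryTheory CategoryTheory.Limits AlgebraicGeometry HomologicalComplex
attribute [local instance] HasDerivedCategory.standard

namespace Groth.Agent.Lib.Helper1.TQ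

open Groth.Agent.Lib.Helper1.Sky Groth.Agent.Lib.Helper1.StalkTensor Groth.Agent.Lib.Helper1.KBC
  Groth.Agent.Lib.Helper1.Tor Groth.Agent.Lib.Helper1.BKF Groth.Agent.Lib.Helper1.CI
  Groth.Agent.Lib.Helper1.SPL Groth.Agent.Lib.Helper1.Extend Groth.Agent.Lib.Helper1.RelPC
  Groth.Agent.Lib.Helper1.Restrict Groth.Agent.Lib.Helper1.RelTri Groth.Agent.Lib.Helper1.FLF
  Groth.Agent.Lib.Helper1.PT Groth.Agent.Lib.Helper1.TorT Groth.Agent.Lib.Helper1.LDer
  Groth.Agent.Lib.Helper1.RExact Groth.Agent.Lib.Helper1.ChartInd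

variable {X : Scheme.{u}}

set_option maxHeartbeats 4000000 in
/-- if `coker(d^a)` of a K-flat resolution with flat terms is flat at all points of `W`, then
`H^a(- ⊗^L F|_W)` is right exact and `H^{a+1}(- ⊗^L F|_W)` is left exact -/
theorem exact_of_forall_isFlatAt (F E : CochainComplex X.Modules ℤ) (q : E ⟶ F) [QuasiIso q]
    (hE : DCoh.IsKFlat E) (hEf : ∀ n : ℤ, FlatMod.IsFlat (E.X n)) (W : X.Opens) (a : ℤ)
    (hW : ∀ w : X, w ∈ W → FlatMod.IsFlatAt (cokernel (E.d a (a + 1))) w)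
    [DCoh.HasLTensorCx ((DCoh.restrictCx W).obj F)] :
    PreservesFiniteColimits (DerivedCategory.singleFunctor (W : Scheme.{u}).Modules 0 ⋙
      DCoh.LTensorCx ((DCoh.restrictCx W).obj F) ⋙
        DerivedCategory.homologyFunctor (W : Scheme.{u}).Modules a) ∧
    PreservesFiniteLimits (DerivedCategory.singleFunctor (W : Scheme.{u}).Modules 0 ⋙
      DCoh.LTensorCx ((DCoh.restrictCx W).obj F) ⋙
        DerivedCategory.homologyFunctor (W : Scheme.{u}).Modules (a + 1)) := by
  haveI : (Scheme.Modules.restrictFunctor W.ι).PreservesHomology := inferInstance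
  have hq' : QuasiIso ((resC W.ι).map q) := inferInstance
  let EW : CochainComplex (ModSite.Mod (W : Scheme.{u}).sheaf) ℤ := (resC W.ι).obj E
  let FW : CochainComplex (ModSite.Mod (W : Scheme.{u}).sheaf) ℤ := (resC W.ι).obj F
  let qW : EW ⟶ FW := (resC W.ι).map q
  haveI : QuasiIso qW := hq'
  have hEW : DCoh.IsKFlat EW := isKFlat_resC W.ι E hE
  have hEWf : ∀ n : ℤ, ModSite.IsFlat (O := (W : Scheme.{u}).sheaf) (EW.X n) := fun n =>
    (modSite_isFlat_iff _).2 (isFlat_restrict W.ι _ (hEf n))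
  haveI : ModSite.HasLTensorCx (O := (W : Scheme.{u}).sheaf) FW :=
    (inferInstance : DCoh.HasLTensorCx ((DCoh.restrictCx W).obj F))
  obtain ⟨i1⟩ := BKF.nonempty_iso_single_LTensorCx_homology (O := (W : Scheme.{u}).sheaf) FW EW qW hEW a
  obtain ⟨i2⟩ := BKF.nonempty_iso_single_LTensorCx_homology (O := (W : Scheme.{u}).sheaf) FW EW qW hEW
    (a + 1)
  let c : cokernel (EW.d a (a + 1)) ≅ (cokernel (E.d a (a + 1))).restrict W.ι :=
    (PreservesCokernel.iso (Scheme.Modules.restrictFunctor W.ι) (E.d a (a + 1))).symm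
  have hfl : ModSite.IsFlat (O := (W : Scheme.{u}).sheaf) (cokernel (EW.d a (a + 1))) :=
    (modSite_isFlat_iff _).2 (fun w =>
      isFlatAt_of_iso c.symm w (isFlatAt_restrict W.ι _ w (hW _ w.2)))
  have h1 : PreservesFiniteColimits (Hn (singleTR EW) a) :=
    (preservesFiniteColimits_Hn_singleTR_iff_isFlat_cokernel EW hEWf a).2 hfl
  have h2 : PreservesFiniteLimits (Hn (singleTR EW) (a + 1)) :=
    (preservesFiniteColimits_Hn_iff_preservesFiniteLimits_Hn_succ (singleTR EW)
      (shortExact_map_singleTR EW hEWf) a).1 h1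
  exact ⟨@preservesFiniteColimits_of_natIso _ _ _ _ _ _ i1.symm h1,
    @preservesFiniteLimits_of_natIso _ _ _ _ _ _ i2.symm h2⟩

section stalk

variable (x : X)

/-- the complex of stalks (prelude form) -/
noncomputable abbrev Sx : CochainComplex X.Modules ℤ ⥤ DRing.Cx (X.presheaf.stalk x) :=
  (DerSch.stalkFunctor X x).mapHomologicalComplex (ComplexShape.up ℤ)

lemma quasiIso_Sx_map {E F : CochainComplex X.Modules ℤ} (q : E ⟶ F) [QuasiIso q] :
    QuasiIso ((Sx x).map q) := by
  let s := NatIso.mapHomologicalComplex (stalkFunctorIso (X := X) x) (ComplexShape.up ℤ)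
  have h : (Sx x).map q = s.hom.app E ≫ (stalkC x).map q ≫ s.inv.app F := by
    rw [← s.hom.naturality_assoc]
    simp
  haveI : QuasiIso ((stalkC x).map q) := inferInstance
  rw [h]
  infer_instance

lemma kflat_Sx (E : CochainComplex X.Modules ℤ) (hE : DCoh.IsKFlat E) :
    Groth.Agent.Lib.Helper1.KF.KFlat ((Sx x).obj E) :=
  fun M hM => ((isKFlat_iff_forall_stalk E).1 hE x) M hM

end stalk

/-- a K-flat resolution with flat terms -/
lemma exists_resolution (F : CochainComplex X.Modules ℤ) :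
    ∃ (E : CochainComplex X.Modules ℤ) (q : E ⟶ F), DCoh.IsKFlat E ∧
      (∀ n : ℤ, FlatMod.IsFlat (E.X n)) ∧ QuasiIso q := by
  obtain ⟨E, q, hE, hEf, hq, -⟩ : ∃ (E : CochainComplex X.Modules ℤ)
      (q : E ⟶ F), DCoh.IsKFlat E ∧
      (∀ n : ℤ, ModSite.IsFlat (O := X.sheaf) (E.X n)) ∧ QuasiIso q ∧ ∀ n : ℤ, Epi (q.f n) :=
    exists_kflat_flat_resolution X.sheaf F
  exact ⟨E, q, hE, fun n => (modSite_isFlat_iff _).1 (hEf n), hq⟩

/-- S6245 -/
theorem exists_nhd_rightExact (F : CochainComplex X.Modules ℤ) (p : ℤ)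
    (hpc : DCoh.IsPseudoCoherentD p (DCoh.toD X F)) (x : X)
    [DRing.HasLTensorCx (X.presheaf.stalk x) ((Sx x).obj F)]
    (h : PreservesFiniteColimits
      (DerivedCategory.singleFunctor (ModuleCat.{u} (X.presheaf.stalk x)) 0 ⋙
        DRing.LTensorCx (X.presheaf.stalk x) ((Sx x).obj F) ⋙
          DerivedCategory.homologyFunctor (ModuleCat.{u} (X.presheaf.stalk x)) p))
    [∀ U : X.Opens, DCoh.HasLTensorCx ((DCoh.restrictCx U).obj F)] :
    ∃ U : X.Opens, x ∈ U ∧ PreservesFiniteColimits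
      (DerivedCategory.singleFunctor (U : Scheme.{u}).Modules 0 ⋙
        DCoh.LTensorCx ((DCoh.restrictCx U).obj F) ⋙
          DerivedCategory.homologyFunctor (U : Scheme.{u}).Modules p) := by
  obtain ⟨E, q, hE, hEf, hq⟩ := exists_resolution F
  haveI := hq
  haveI := quasiIso_Sx_map x q
  have hfl := flat_cokernel_of_preservesFiniteColimits ((Sx x).obj F) ((Sx x).obj E)
    ((Sx x).map q) (kflat_Sx x E hE) (fun i => hEf i x) p h
  have hx : FlatMod.IsFlatAt (cokernel (E.d p (p + 1))) x :=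
    isFlatAt_cokernel_of_flat_stalk E x p (p + 1) hfl
  haveI : IsIso (DerivedCategory.Q.map q) := by
    rw [DerivedCategory.isIso_Q_map_iff_quasiIso]; exact hq
  have hpcE : DCoh.IsPseudoCoherentD p (DerivedCategory.Q.obj E) :=
    isPseudoCoherentD_of_iso (asIso (DerivedCategory.Q.map q)).symm hpc
  obtain ⟨W, hxW, hW⟩ := exists_nhd_isFlatAt_cokernel E hE hEf p x
    ((isPseudoCoherentD_iff_hasPresM p _).1 hpcE x) hx
  exact ⟨W, hxW, (exact_of_forall_isFlatAt F E q hE hEf W p hW).1⟩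

/-- S6246 -/
theorem exists_nhd_leftExact (F : CochainComplex X.Modules ℤ) (p : ℤ)
    (hpc : DCoh.IsPseudoCoherentD (p - 1) (DCoh.toD X F)) (x : X)
    [DRing.HasLTensorCx (X.presheaf.stalk x) ((Sx x).obj F)]
    (h : PreservesFiniteLimits
      (DerivedCategory.singleFunctor (ModuleCat.{u} (X.presheaf.stalk x)) 0 ⋙
        DRing.LTensorCx (X.presheaf.stalk x) ((Sx x).obj F) ⋙
          DerivedCategory.homologyFunctor (ModuleCat.{u} (X.presheaf.stalk x)) p))
    [∀ U : X.Opens, DCoh.HasLTensorCx ((DCoh.restrictCx U).obj F)] :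
    ∃ U : X.Opens, x ∈ U ∧ PreservesFiniteLimits
      (DerivedCategory.singleFunctor (U : Scheme.{u}).Modules 0 ⋙
        DCoh.LTensorCx ((DCoh.restrictCx U).obj F) ⋙
          DerivedCategory.homologyFunctor (U : Scheme.{u}).Modules p) := by
  obtain ⟨E, q, hE, hEf, hq⟩ := exists_resolution F
  haveI := hq
  haveI := quasiIso_Sx_map x q
  have hfl := flat_cokernel_of_preservesFiniteLimits ((Sx x).obj F) ((Sx x).obj E)
    ((Sx x).map q) (kflat_Sx x E hE) (fun i => hEf i x) (p - 1) p (by omega) h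
  have hx : FlatMod.IsFlatAt (cokernel (E.d (p - 1) (p - 1 + 1))) x :=
    isFlatAt_cokernel_of_flat_stalk E x (p - 1) (p - 1 + 1) hfl
  haveI : IsIso (DerivedCategory.Q.map q) := by
    rw [DerivedCategory.isIso_Q_map_iff_quasiIso]; exact hq
  have hpcE : DCoh.IsPseudoCoherentD (p - 1) (DerivedCategory.Q.obj E) :=
    isPseudoCoherentD_of_iso (asIso (DerivedCategory.Q.map q)).symm hpc
  obtain ⟨W, hxW, hW⟩ := exists_nhd_isFlatAt_cokernel E hE hEf (p - 1) x
    ((isPseudoCoherentD_iff_hasPresM (p - 1) _).1 hpcE x) hx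
  have h2 := (exact_of_forall_isFlatAt F E q hE hEf W (p - 1) hW).2
  rw [sub_add_cancel] at h2
  exact ⟨W, hxW, h2⟩

end Groth.Agent.Lib.Helper1.TQ
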