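import Mathlib
import Groth.Agent.Lib.Helper1SExB
import Groth.Agent.Lib.Helper1Fib7
import Groth.Agent.Lib.Helper1PC15
set_option backward.isDefEq.respectTransparency.types false
set_option autoImplicit false
set_option linter.style.haveILetI false
set_option maxHeartbeats 400000
universe u

/-!
# Exactness of `M ↦ H^p(M ⊗^L F)` and local freeness of `H^p(F)` (helper1)
-/

open CategoryTheory CategoryTheory.Limits AlgebraicGeometry HomologicalComplex
attribute [local instance] HasDerivedCategory.standard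

namespace Groth.Agent.Lib.Helper1.TQ

open Groth.Agent.Lib.Helper1.Sky Groth.Agent.Lib.Helper1.StalkTensor Groth.Agent.Lib.Helper1.KBC
  Groth.Agent.Lib.Helper1.Tor Groth.Agent.Lib.Helper1.BKF Groth.Agent.Lib.Helper1.CI
  Groth.Agent.Lib.Helper1.SPL Groth.Agent.Lib.Helper1.Extend Groth.Agent.Lib.Helper1.RelPC
  Groth.Agent.Lib.Helper1.Restrict Groth.Agent.Lib.Helper1.RelTri Groth.Agent.Lib.Helper1.FLF
  Groth.Agent.Lib.Helper1.PT Groth.Agent.Lib.Helper1.TorT Groth.Agent.Lib.Helper1.LDer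
  Groth.Agent.Lib.Helper1.RExact Groth.Agent.Lib.Helper1.ChartInd Groth.Agent.Lib.Helper1.Fib
  Groth.Agent.Lib.Helper2.RankLoc Groth.Agent.Helper18Strict Groth.Agent.Lib.Helper2.LocFree

variable {X : Scheme.{u}}

/-- a cokernel of a differential of a strictly perfect complex which is flat is finite locally
free -/
lemma isFinLocFree_cokernel_of_isFlat (P : CochainComplex X.Modules ℤ)
    (hP : DCoh.IsStrictlyPerfect P) (a b : ℤ)
    (h : FlatMod.IsFlat (cokernel (P.d a b))) : FlatMod.IsFinLocFree (cokernel (P.d a b)) := by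
  have hfp : CohB1.IsFP (cokernel (P.d a b)) := isFP_of_cokernel (P.d a b) (cokernel.π _)
    (cokernel.condition _) (hP.2 _) (hP.2 _) (ShortComplex.exact_cokernel _)
  haveI : SheafOfModules.IsFinitePresentation (R := X.ringCatSheaf) (cokernel (P.d a b)) := hfp
  haveI : (cokernel (P.d a b)).IsQuasicoherent := isQCoh_of_isFP _ hfp
  intro x
  obtain ⟨D, m, hxD, h'⟩ := exists_restrict_iso_freeMod_of_isFlatAt _ x (h x)
  exact ⟨D, m, hxD, h'⟩

/-- if the cokernels of `d^{a}` and `d^{b}` of a strictly perfect complex are finite locally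
free, so is `H^b` -/
theorem isFinLocFree_homology_of_cokernel (P : CochainComplex X.Modules ℤ)
    (hP : DCoh.IsStrictlyPerfect P) (a b c : ℤ) (hab : a + 1 = b) (hbc : b + 1 = c)
    (hA : FlatMod.IsFinLocFree (cokernel (P.d a b)))
    (hB : FlatMod.IsFinLocFree (cokernel (P.d b c))) :
    FlatMod.IsFinLocFree (P.homology b) := by
  have hrab : (ComplexShape.up ℤ).Rel a b := hab
  have hrbc : (ComplexShape.up ℤ).Rel b c := hbc
  -- opcycles in degree `b`
  have eOp : cokernel (P.d a b) ≅ P.opcycles b :=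
    IsColimit.coconePointUniqueUpToIso (cokernelIsCokernel (P.d a b))
      (P.opcyclesIsCokernel a b (by subst hab; simp))
  have hOp : FlatMod.IsFinLocFree (P.opcycles b) := isFinLocFree_of_iso eOp hA
  -- the image of `d^b`
  let πc := cokernel.π (P.d b c)
  have hK : FlatMod.IsFinLocFree (kernel πc) := isFinLocFree_kernel πc (hP.2 c) hB
  have hf : P.fromOpcycles b c ≫ πc = 0 := by
    rw [← cancel_epi (P.pOpcycles b), p_fromOpcycles_assoc, comp_zero]
    exact cokernel.condition _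
  let δ : P.opcycles b ⟶ kernel πc := kernel.lift πc (P.fromOpcycles b c) hf
  have hδ : δ ≫ kernel.ι πc = P.fromOpcycles b c := kernel.lift_ι _ _ _
  haveI : Epi δ := by
    have h1 : P.pOpcycles b ≫ δ = Abelian.factorThruImage (P.d b c) := by
      rw [← cancel_mono (kernel.ι πc), Category.assoc, hδ, p_fromOpcycles]
      exact (Abelian.image.fac (P.d b c)).symm
    haveI : Epi (P.pOpcycles b ≫ δ) := by rw [h1]; infer_instance
    exact epi_of_epi (P.pOpcycles b) δ
  have hker : FlatMod.IsFinLocFree (kernel δ) := isFinLocFree_kernel δ hOp hK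
  have e1 : kernel δ ≅ kernel (P.fromOpcycles b c) :=
    (kernelCompMono δ (kernel.ι πc)).symm ≪≫ kernelIsoOfEq hδ
  have e2 : kernel (P.fromOpcycles b c) ≅ P.homology b :=
    IsLimit.conePointUniqueUpToIso (kernelIsKernel (P.fromOpcycles b c))
      (P.homologyIsKernel b c (by subst hbc; simp))
  exact isFinLocFree_of_iso (e1 ≪≫ e2) hker

/-- variant of `isFlatAt_cokernel_iff_of_propM` -/
theorem isFlatAt_cokernel_iff_of_propM' {U : Scheme.{u}} (P E' : CochainComplex U.Modules ℤ)
    (β : P ⟶ E') (hP : DCoh.IsStrictlyPerfect P) (hE' : DCoh.IsKFlat E')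
    (hE'f : ∀ n : ℤ, FlatMod.IsFlat (E'.X n)) (a b : ℤ) (hab : a + 1 = b)
    (hβ : PropM a (DerivedCategory.Q.map β)) (u : U) :
    FlatMod.IsFlatAt (cokernel (P.d a b)) u ↔ FlatMod.IsFlatAt (cokernel (E'.d a b)) u := by
  subst hab
  exact isFlatAt_cokernel_iff_of_propM P E' β hP hE' hE'f a hβ u

/-- flatness of a cokernel of a differential restricts to open subschemes -/
lemma isFlatAt_cokernel_resC (E : CochainComplex X.Modules ℤ) {U : Scheme.{u}} (j : U ⟶ X)
    [IsOpenImmersion j] (a b : ℤ) (h : FlatMod.IsFlat (cokernel (E.d a b))) (u : U) :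
    FlatMod.IsFlatAt (cokernel (((resC j).obj E).d a b)) u := by
  let c : cokernel (((resC j).obj E).d a b) ≅ (cokernel (E.d a b)).restrict j :=
    (PreservesCokernel.iso (Scheme.Modules.restrictFunctor j) (E.d a b)).symm
  exact isFlatAt_of_iso c.symm u (isFlatAt_restrict j _ u (h (j u)))

set_option maxHeartbeats 4000000 in
/-- right exactness of `H^a(- ⊗^L F)` gives flatness of `coker(d^a)` of a K-flat resolution with
flat terms -/
theorem isFlat_cokernel_of_rightExact (F E : CochainComplex X.Modules ℤ) (q : E ⟶ F) [QuasiIso q]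
    (hE : DCoh.IsKFlat E) (hEf : ∀ n : ℤ, FlatMod.IsFlat (E.X n)) [DCoh.HasLTensorCx F] (a : ℤ)
    (h : PreservesFiniteColimits (DerivedCategory.singleFunctor X.Modules 0 ⋙ DCoh.LTensorCx F ⋙
      DerivedCategory.homologyFunctor X.Modules a)) :
    FlatMod.IsFlat (cokernel (E.d a (a + 1))) := by
  have hEf' : ∀ n : ℤ, ModSite.IsFlat (O := X.sheaf) (E.X n) := fun n =>
    (modSite_isFlat_iff _).2 (hEf n)
  have hq' : QuasiIso q := inferInstance
  let E' : CochainComplex (ModSite.Mod X.sheaf) ℤ := E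
  let F' : CochainComplex (ModSite.Mod X.sheaf) ℤ := F
  let q' : E' ⟶ F' := q
  haveI : QuasiIso q' := hq'
  haveI : ModSite.HasLTensorCx (O := X.sheaf) F' := (inferInstance : DCoh.HasLTensorCx F)
  obtain ⟨i1⟩ := BKF.nonempty_iso_single_LTensorCx_homology (O := X.sheaf) F' E' q' hE a
  have h1 : PreservesFiniteColimits (Hn (singleTR E') a) :=
    @preservesFiniteColimits_of_natIso _ _ _ _ _ _ i1 h
  exact (modSite_isFlat_iff _).1
    ((preservesFiniteColimits_Hn_singleTR_iff_isFlat_cokernel E' hEf' a).1 h1)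

set_option maxHeartbeats 4000000 in
/-- left exactness of `H^a(- ⊗^L F)` gives flatness of `coker(d^{a-1})` of a K-flat resolution
with flat terms -/
theorem isFlat_cokernel_of_leftExact (F E : CochainComplex X.Modules ℤ) (q : E ⟶ F) [QuasiIso q]
    (hE : DCoh.IsKFlat E) (hEf : ∀ n : ℤ, FlatMod.IsFlat (E.X n)) [DCoh.HasLTensorCx F] (a' a : ℤ)
    (ha : a' + 1 = a)
    (h : PreservesFiniteLimits (DerivedCategory.singleFunctor X.Modules 0 ⋙ DCoh.LTensorCx F ⋙
      DerivedCategory.homologyFunctor X.Modules a)) :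
    FlatMod.IsFlat (cokernel (E.d a' a)) := by
  subst ha
  have hEf' : ∀ n : ℤ, ModSite.IsFlat (O := X.sheaf) (E.X n) := fun n =>
    (modSite_isFlat_iff _).2 (hEf n)
  have hq' : QuasiIso q := inferInstance
  let E' : CochainComplex (ModSite.Mod X.sheaf) ℤ := E
  let F' : CochainComplex (ModSite.Mod X.sheaf) ℤ := F
  let q' : E' ⟶ F' := q
  haveI : QuasiIso q' := hq'
  haveI : ModSite.HasLTensorCx (O := X.sheaf) F' := (inferInstance : DCoh.HasLTensorCx F)
  obtain ⟨i1⟩ := BKF.nonempty_iso_single_LTensorCx_homology (O := X.sheaf) F' E' q' hE (a' + 1)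
  have h1 : PreservesFiniteLimits (Hn (singleTR E') (a' + 1)) :=
    @preservesFiniteLimits_of_natIso _ _ _ _ _ _ i1 h
  have h2 : PreservesFiniteColimits (Hn (singleTR E') a') :=
    (preservesFiniteColimits_Hn_iff_preservesFiniteLimits_Hn_succ (singleTR E')
      (shortExact_map_singleTR E' hEf') a').2 h1
  exact (modSite_isFlat_iff _).1
    ((preservesFiniteColimits_Hn_singleTR_iff_isFlat_cokernel E' hEf' a').1 h2)

/-- local structure of a `(p-1)`-pseudo-coherent complex for which `H^p(- ⊗^L F)` is exact -/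
theorem exists_pres_flf (F : CochainComplex X.Modules ℤ) (p : ℤ)
    (hpc : DCoh.IsPseudoCoherentD (p - 1) (DCoh.toD X F)) [DCoh.HasLTensorCx F]
    (hl : PreservesFiniteLimits (DerivedCategory.singleFunctor X.Modules 0 ⋙ DCoh.LTensorCx F ⋙
      DerivedCategory.homologyFunctor X.Modules p))
    (hr : PreservesFiniteColimits (DerivedCategory.singleFunctor X.Modules 0 ⋙ DCoh.LTensorCx F ⋙
      DerivedCategory.homologyFunctor X.Modules p)) (x : X) :
    ∃ (U : Scheme.{u}) (j : U ⟶ X) (_ : IsOpenImmersion j), x ∈ j.opensRange ∧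
      ∃ (P : CochainComplex U.Modules ℤ)
        (α : DerivedCategory.Q.obj P ⟶ (resD j).obj (DCoh.toD X F)),
        DCoh.IsStrictlyPerfect P ∧ PropM (p - 1) α ∧
        FlatMod.IsFinLocFree (cokernel (P.d (p - 1) p)) ∧
        FlatMod.IsFinLocFree (cokernel (P.d p (p + 1))) := by
  obtain ⟨E, q, hE, hEf, hq⟩ := exists_resolution F
  haveI := hq
  have hA : FlatMod.IsFlat (cokernel (E.d (p - 1) p)) :=
    isFlat_cokernel_of_leftExact F E q hE hEf (p - 1) p (by omega) hl
  have hB : FlatMod.IsFlat (cokernel (E.d p (p + 1))) :=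
    isFlat_cokernel_of_rightExact F E q hE hEf p hr
  haveI : IsIso (DerivedCategory.Q.map q) := by
    rw [DerivedCategory.isIso_Q_map_iff_quasiIso]; exact hq
  have hpcE : DCoh.IsPseudoCoherentD (p - 1) (DerivedCategory.Q.obj E) :=
    isPseudoCoherentD_of_iso (asIso (DerivedCategory.Q.map q)).symm hpc
  obtain ⟨U, j, hj, hy, P, β, hP, hβ⟩ := exists_chain_pres E (p - 1) x
    ((isPseudoCoherentD_iff_hasPresM (p - 1) _).1 hpcE x)
  haveI := hj
  have hE' : DCoh.IsKFlat ((resC j).obj E) := isKFlat_resC j E hE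
  have hE'f : ∀ n : ℤ, FlatMod.IsFlat (((resC j).obj E).X n) := fun n =>
    isFlat_restrict j (E.X n) (hEf n)
  haveI : (Scheme.Modules.restrictFunctor j).PreservesHomology := inferInstance
  haveI : QuasiIso ((resC j).map q) := inferInstance
  haveI : IsIso (DerivedCategory.Q.map ((resC j).map q)) := by
    rw [DerivedCategory.isIso_Q_map_iff_quasiIso]; infer_instance
  refine ⟨U, j, hj, hy, P, DerivedCategory.Q.map β ≫ DerivedCategory.Q.map ((resC j).map q) ≫
    (facD j).inv.app F, hP, ?_, ?_, ?_⟩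
  · exact propM_comp _ hβ (propM_comp _ (propM_of_isIso _ _) (propM_of_isIso _ _))
  · apply isFinLocFree_cokernel_of_isFlat P hP
    intro u
    exact (isFlatAt_cokernel_iff_of_propM' P _ β hP hE' hE'f (p - 1) p (by omega) hβ u).2
      (isFlatAt_cokernel_resC E j (p - 1) p hA u)
  · apply isFinLocFree_cokernel_of_isFlat P hP
    intro u
    exact (isFlatAt_cokernel_iff_of_propM' P _ β hP hE' hE'f p (p + 1) rfl
      (propM_of_le (by omega) hβ) u).2 (isFlatAt_cokernel_resC E j p (p + 1) hB u)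

/-- S6243 -/
theorem isFinLocFree_HD_and_betti (F : CochainComplex X.Modules ℤ) (p : ℤ)
    (hpc : DCoh.IsPseudoCoherentD (p - 1) (DCoh.toD X F)) [DCoh.HasLTensorCx F]
    (hl : PreservesFiniteLimits (DerivedCategory.singleFunctor X.Modules 0 ⋙ DCoh.LTensorCx F ⋙
      DerivedCategory.homologyFunctor X.Modules p))
    (hr : PreservesFiniteColimits (DerivedCategory.singleFunctor X.Modules 0 ⋙ DCoh.LTensorCx F ⋙
      DerivedCategory.homologyFunctor X.Modules p))
    [∀ x : X, DCoh.HasLpull (X.fromSpecResidueField x)] :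
    FlatMod.IsFinLocFree (DCoh.HD (DCoh.toD X F) p) ∧
      IsLocallyConstant (fun x : X => PerfD.betti (DCoh.toD X F) x p) := by
  constructor
  · refine isFinLocFree_of_local _ (fun x => ?_)
    obtain ⟨U, j, hj, hy, P, α, hP, hα, hA, hB⟩ := exists_pres_flf F p hpc hl hr x
    haveI := hj
    refine ⟨U, j, hj, hy, ?_⟩
    haveI := hα.1 p (by omega)
    have iso : (DCoh.HD (DCoh.toD X F) p).restrict j ≅ P.homology p :=
      (homologyResDIso j (DCoh.toD X F) p).symm ≪≫
        (asIso ((DerivedCategory.homologyFunctor U.Modules p).map α)).symm ≪≫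
        (DerivedCategory.homologyFunctorFactors U.Modules p).app P
    exact isFinLocFree_of_iso iso.symm
      (isFinLocFree_homology_of_cokernel P hP (p - 1) p (p + 1) (by omega) rfl hA hB)
  · rw [IsLocallyConstant.iff_exists_open]
    intro x
    obtain ⟨U, j, hj, hy, P, α, hP, hα, hA, hB⟩ := exists_pres_flf F p hpc hl hr x
    haveI := hj
    obtain ⟨y₀, rfl⟩ := hy
    haveI hq1 : (cokernel (P.d (p - 1) p)).IsQuasicoherent :=
      isQCoh_of_isFP _ (isFP_of_isFinLocFree _ hA)
    haveI hq2 : (cokernel (P.d p (p + 1))).IsQuasicoherent :=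
      isQCoh_of_isFP _ (isFP_of_isFinLocFree _ hB)
    haveI hq3 : (P.X (p + 1)).IsQuasicoherent :=
      isQCoh_of_isFP _ (isFP_of_isFinLocFree _ (hP.2 (p + 1)))
    obtain ⟨D₁, hD₁, hy₁, h₁⟩ := (IsLocallyConstant.iff_exists_open _).1
      (isLocallyConstant_fibreRank_of_isFinLocFree (cokernel (P.d (p - 1) p)) hA).2 y₀
    obtain ⟨D₂, hD₂, hy₂, h₂⟩ := (IsLocallyConstant.iff_exists_open _).1
      (isLocallyConstant_fibreRank_of_isFinLocFree (cokernel (P.d p (p + 1))) hB).2 y₀
    obtain ⟨D₃, hD₃, hy₃, h₃⟩ := (IsLocallyConstant.iff_exists_open _).1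
      (isLocallyConstant_fibreRank_of_isFinLocFree (P.X (p + 1)) (hP.2 (p + 1))).2 y₀
    let D : U.Opens := ⟨D₁, hD₁⟩ ⊓ ⟨D₂, hD₂⟩ ⊓ ⟨D₃, hD₃⟩
    refine ⟨(j ''ᵁ D : X.Opens), (j ''ᵁ D).isOpen, ⟨y₀, ⟨⟨hy₁, hy₂⟩, hy₃⟩, rfl⟩, ?_⟩
    rintro _ ⟨y, hyD, rfl⟩
    have e := betti_add_fibreRank_eq (DCoh.toD X F) j P hP α p hα y
    have e₀ := betti_add_fibreRank_eq (DCoh.toD X F) j P hP α p hα y₀
    have i1 := h₁ y hyD.1.1
    have i2 := h₂ y hyD.1.2
    have i3 := h₃ y hyD.2
    show PerfD.betti (DCoh.toD X F) (j y) p = PerfD.betti (DCoh.toD X F) (j y₀) p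
    omega

end Groth.Agent.Lib.Helper1.TQ
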