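import Mathlib
set_option autoImplicit false
set_option linter.style.haveILetI false
set_option maxHeartbeats 400000
universe u

/-!
# Descending a bounded complex of finite free modules from a localization (helper1)
-/

namespace Groth.Agent.Lib.Helper1.Spread

section R0

variable {A B : Type u} [CommRing A] [CommRing B] [Algebra A B] (S : Submonoid A)
  [IsLocalization S B]

/-- the localization map of a free module onto a free module over the localization with a
given basis -/
noncomputable def gMap {N : Type u} [AddCommGroup N] [Module A N] [Module B N]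
    [IsScalarTower A B N] {n : ℕ} (bs : Module.Basis (Fin n) B N) : (Fin n →₀ A) →ₗ[A] N :=
  (bs.repr.symm.restrictScalars A).toLinearMap ∘ₗ
    Finsupp.mapRange.linearMap (Algebra.linearMap A B)

instance isLocalizedModule_gMap {N : Type u} [AddCommGroup N] [Module A N] [Module B N]
    [IsScalarTower A B N] {n : ℕ} (bs : Module.Basis (Fin n) B N) :
    IsLocalizedModule S (gMap bs) := by
  unfold gMap
  exact IsLocalizedModule.of_linearEquiv S
    (Finsupp.mapRange.linearMap (α := Fin n) (Algebra.linearMap A B))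
    (bs.repr.symm.restrictScalars A)

theorem exists_descent_data {N : ℤ → Type u} [∀ i, AddCommGroup (N i)] [∀ i, Module A (N i)]
    [∀ i, Module B (N i)] [∀ i, IsScalarTower A B (N i)]
    (d : ∀ i, N i →ₗ[B] N (i + 1)) (hd : ∀ i, d (i + 1) ∘ₗ d i = 0)
    (n : ℤ → ℕ) (bs : ∀ i, Module.Basis (Fin (n i)) B (N i)) (a : ℤ)
    (ha : ∀ i, i < a → n i = 0) :
    ∃ (D : ∀ i, (Fin (n i) →₀ A) →ₗ[A] (Fin (n (i + 1)) →₀ A))
      (g : ∀ i, (Fin (n i) →₀ A) →ₗ[A] N i),
      (∀ i, D (i + 1) ∘ₗ D i = 0) ∧ (∀ i, IsLocalizedModule S (g i)) ∧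
      ∀ i, g (i + 1) ∘ₗ D i = (d i).restrictScalars A ∘ₗ g i := by
  classical
  let g₀ : ∀ i, (Fin (n i) →₀ A) →ₗ[A] N i := fun i => gMap (bs i)
  have hg₀ : ∀ i, IsLocalizedModule S (g₀ i) := fun i => isLocalizedModule_gMap S (bs i)
  have h1 : ∀ i, ∃ (h : (Fin (n i) →₀ A) →ₗ[A] (Fin (n (i + 1)) →₀ A)) (s : S),
      g₀ (i + 1) ∘ₗ h = s • ((d i).restrictScalars A ∘ₗ g₀ i) := fun i =>
    Module.FinitePresentation.exists_lift_of_isLocalizedModule S (g₀ (i + 1)) _
  choose h s hs using h1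
  have hdA : ∀ i, (d (i + 1)).restrictScalars A ∘ₗ (d i).restrictScalars A = 0 := fun i => by
    ext x
    exact LinearMap.congr_fun (hd i) x
  have h2 : ∀ i, ∃ u : S, u • (h (i + 1) ∘ₗ h i) =
      u • (0 : (Fin (n i) →₀ A) →ₗ[A] (Fin (n (i + 1 + 1)) →₀ A)) := fun i => by
    refine Module.Finite.exists_smul_of_comp_eq_of_isLocalizedModule S (g₀ (i + 1 + 1)) _ _ ?_
    rw [LinearMap.comp_zero, ← LinearMap.comp_assoc, hs (i + 1), LinearMap.smul_comp,
      LinearMap.comp_assoc, hs i, LinearMap.comp_smul, ← LinearMap.comp_assoc, hdA i]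
    simp
  choose u hu using h2
  let cu : ℤ → Bˣ := fun i => (IsLocalization.map_units B (u i * s i)).unit
  let lam : ℤ → Bˣ := fun i => ∏ j ∈ Finset.Ico a i, (cu j)⁻¹
  have hlam : ∀ i, a ≤ i → lam (i + 1) * cu i = lam i := fun i hi => by
    change (∏ j ∈ Finset.Ico a (i + 1), (cu j)⁻¹) * cu i = ∏ j ∈ Finset.Ico a i, (cu j)⁻¹
    rw [← Finset.prod_Ico_mul_eq_prod_Ico_add_one hi, mul_assoc, inv_mul_cancel, mul_one]
  let g : ∀ i, (Fin (n i) →₀ A) →ₗ[A] N i := fun i =>
    ((LinearEquiv.smulOfUnit (M := N i) (lam i)).restrictScalars A).toLinearMap ∘ₗ g₀ i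
  have hg_apply : ∀ i x, g i x = (lam i : B) • g₀ i x := fun i x => rfl
  refine ⟨fun i => u i • h i, g, fun i => ?_, fun i => ?_, fun i => ?_⟩
  · rw [LinearMap.smul_comp, LinearMap.comp_smul, hu i, smul_zero, smul_zero]
  · haveI := hg₀ i
    exact IsLocalizedModule.of_linearEquiv S (g₀ i)
      ((LinearEquiv.smulOfUnit (M := N i) (lam i)).restrictScalars A)
  · refine LinearMap.ext fun x => ?_
    by_cases hi : a ≤ i
    · have e1 : g₀ (i + 1) (h i x) = (s i : A) • (d i (g₀ i x)) := LinearMap.congr_fun (hs i) x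
      change g (i + 1) ((u i : A) • h i x) = d i (g i x)
      rw [hg_apply, hg_apply, map_smul, map_smul, e1, ← hlam i hi]
      have e2 : ((lam (i + 1) * cu i : Bˣ) : B) =
          (lam (i + 1) : B) * algebraMap A B ((u i : A) * (s i : A)) := by
        rw [Units.val_mul]; rfl
      rw [e2, mul_smul, algebraMap_smul, mul_smul]
    · have h0 : n i = 0 := ha i (not_le.1 hi)
      haveI : IsEmpty (Fin (n i)) := by rw [h0]; infer_instance
      rw [Subsingleton.elim x 0, map_zero, map_zero]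

end R0

end Groth.Agent.Lib.Helper1.Spread
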