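import Mathlib
import Groth.Agent.Lib.Helper1Extend
import Groth.Agent.Lib.Helper1SpreadA
set_option autoImplicit false
set_option linter.style.haveILetI false
set_option maxHeartbeats 400000
universe u

/-!
# Descending a bounded complex of finite free modules from a localization, complexes (helper1)
-/

open CategoryTheory CategoryTheory.Limits TensorProduct ChangeOfRings
attribute [local instance] HasDerivedCategory.standard

namespace Groth.Agent.Lib.Helper1.Spread

open Groth.Agent.Lib.Helper1.Extend

section R1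

variable {A B : Type u} [CommRing A] [CommRing B] [Algebra A B]

/-- the comparison isomorphism from a base change map -/
noncomputable def bcIso {M : Type u} [AddCommGroup M] [Module A M] (N : ModuleCat.{u} B)
    [Module A N] [IsScalarTower A B N] (g : M →ₗ[A] N) (hg : IsBaseChange B g) :
    (ext A B).obj (ModuleCat.of A M) ≅ N :=
  extIso (A := A) (B := B) M ≪≫ hg.equiv.toModuleIso ≪≫ (Iso.refl N : ModuleCat.of B N ≅ N)

lemma bcIso_hom_one_tmul {M : Type u} [AddCommGroup M] [Module A M] (N : ModuleCat.{u} B)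
    [Module A N] [IsScalarTower A B N] (g : M →ₗ[A] N) (hg : IsBaseChange B g) (m : M) :
    (bcIso N g hg).hom ((1 : B) ⊗ₜ[A, algebraMap A B] (show ((ModuleCat.of A M : ModuleCat.{u} A)) from m)) = g m := by
  change hg.equiv ((1 : B) ⊗ₜ[A] m) = g m
  rw [IsBaseChange.equiv_tmul, one_smul]

lemma bcIso_natural {M M' : Type u} [AddCommGroup M] [Module A M] [AddCommGroup M'] [Module A M']
    (N N' : ModuleCat.{u} B) [Module A N] [IsScalarTower A B N] [Module A N']
    [IsScalarTower A B N'] (g : M →ₗ[A] N) (hg : IsBaseChange B g) (g' : M' →ₗ[A] N')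
    (hg' : IsBaseChange B g') (D : M →ₗ[A] M') (d : N ⟶ N')
    (h : g' ∘ₗ D = d.hom.restrictScalars A ∘ₗ g) :
    (ext A B).map (ModuleCat.ofHom D) ≫ (bcIso N' g' hg').hom = (bcIso N g hg).hom ≫ d := by
  apply ModuleCat.ExtendScalars.hom_ext
  intro m
  have e1 : ((ext A B).map (ModuleCat.ofHom D) ≫ (bcIso N' g' hg').hom)
      ((1 : B) ⊗ₜ[A, algebraMap A B] m) = g' (D m) := bcIso_hom_one_tmul N' g' hg' (D m)
  have e2 : ((bcIso N g hg).hom ≫ d) ((1 : B) ⊗ₜ[A, algebraMap A B] m) = d.hom (g m) :=
    congrArg d.hom (bcIso_hom_one_tmul N g hg m)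
  exact e1.trans ((LinearMap.congr_fun h m).trans e2.symm)

/-- a bounded complex of finite free modules over a localization `B` of `A` descends to a
bounded complex of finite free `A`-modules -/
theorem exists_descent_cx (S : Submonoid A) [IsLocalization S B] [Module.Flat A B] [Nontrivial B]
    (E : DRing.Cx B) (a b : ℤ) (hv : DRing.VanishesOutside E a b)
    (hf : DRing.TermwiseFiniteFree E) :
    ∃ E' : DRing.Cx A, DRing.VanishesOutside E' a b ∧ DRing.TermwiseFiniteFree E' ∧
      Nonempty ((extCx A B).obj E' ≅ E) := by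
  classical
  letI : ∀ i, Module A (E.X i) := fun i => Module.compHom (E.X i) (algebraMap A B)
  haveI : ∀ i, IsScalarTower A B (E.X i) := fun i =>
    IsScalarTower.of_algebraMap_smul (fun r m => rfl)
  haveI : ∀ i, Module.Finite B (E.X i) := fun i => (hf i).1
  haveI : ∀ i, Module.Free B (E.X i) := fun i => (hf i).2
  let n : ℤ → ℕ := fun i => Module.finrank B (E.X i)
  let bs : ∀ i, Module.Basis (Fin (n i)) B (E.X i) := fun i => Module.finBasis B (E.X i)
  have hn : ∀ i, i < a ∨ b < i → n i = 0 := fun i hi => by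
    haveI : Subsingleton (E.X i) := ModuleCat.subsingleton_of_isZero (hv i hi)
    exact Module.finrank_zero_of_subsingleton
  obtain ⟨D, g, hD, hg, hgd⟩ := exists_descent_data S (N := fun i => E.X i)
    (fun i => (E.d i (i + 1)).hom)
    (fun i => by
      rw [← ModuleCat.hom_comp, E.d_comp_d]; rfl) n bs a (fun i hi => hn i (Or.inl hi))
  have hbc : ∀ i, IsBaseChange B (g i) := fun i =>
    (isLocalizedModule_iff_isBaseChange S B (g i)).1 (hg i)
  let E' : DRing.Cx A := CochainComplex.of (fun i => ModuleCat.of A (Fin (n i) →₀ A))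
    (fun i => ModuleCat.ofHom (D i)) (fun i => by
      rw [← ModuleCat.ofHom_comp, hD i]; rfl)
  refine ⟨E', fun i hi => ?_, fun i => ?_, ⟨?_⟩⟩
  · have h0 : n i = 0 := hn i hi
    haveI : IsEmpty (Fin (n i)) := by rw [h0]; infer_instance
    exact ModuleCat.isZero_of_subsingleton (ModuleCat.of A (Fin (n i) →₀ A))
  · exact ⟨inferInstanceAs (Module.Finite A (Fin (n i) →₀ A)),
      inferInstanceAs (Module.Free A (Fin (n i) →₀ A))⟩
  · refine HomologicalComplex.Hom.isoOfComponents (fun i => bcIso (E.X i) (g i) (hbc i)) ?_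
    intro i j hij
    have hij' : i + 1 = j := hij
    subst hij'
    have hd : E'.d i (i + 1) = ModuleCat.ofHom (D i) :=
      CochainComplex.of_d (fun i => ModuleCat.of A (Fin (n i) →₀ A)) (fun i => ModuleCat.ofHom (D i)) i
    change _ = (ext A B).map (E'.d i (i + 1)) ≫ _
    rw [hd]
    exact Eq.symm <| bcIso_natural (E.X i) (E.X (i + 1)) (g i) (hbc i) (g (i + 1)) (hbc (i + 1)) (D i)
      (E.d i (i + 1)) (hgd i)

end R1

end Groth.Agent.Lib.Helper1.Spread
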