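import Mathlib
import Groth.Agent.Lib.Helper1SpreadB
import Groth.Agent.Lib.Helper1TorSrc
import Groth.Agent.Lib.Helper1KoszulPerf
import Groth.Agent.Lib.Helper1TQ8
import Groth.Agent.Lib.Helper1TQ6
set_option backward.isDefEq.respectTransparency.types false
set_option autoImplicit false
set_option linter.style.haveILetI false
set_option maxHeartbeats 400000
universe u

/-!
# A perfect complex over a local ring of a scheme spreads out to a neighbourhood (helper1)
-/

open CategoryTheory CategoryTheory.Limits AlgebraicGeometry HomologicalComplex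
attribute [local instance] HasDerivedCategory.standard

namespace Groth.Agent.Lib.Helper1.Spread

open Groth.Agent.Lib.Helper1.Sky Groth.Agent.Lib.Helper1.StalkTensor Groth.Agent.Lib.Helper1.KBC
  Groth.Agent.Lib.Helper1.Tor Groth.Agent.Lib.Helper1.BKF Groth.Agent.Lib.Helper1.CI
  Groth.Agent.Lib.Helper1.SPL Groth.Agent.Lib.Helper1.Extend Groth.Agent.Lib.Helper1.RelPC
  Groth.Agent.Lib.Helper1.TQ Groth.Agent.S7017

variable {X : Scheme.{u}}

/-- termwise direct image -/
noncomputable abbrev pushC {W : Scheme.{u}} (j : W ⟶ X) :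
    CochainComplex W.Modules ℤ ⥤ CochainComplex X.Modules ℤ :=
  (Scheme.Modules.pushforward j).mapHomologicalComplex (ComplexShape.up ℤ)

/-- `j^* j_* G ≅ G` for complexes -/
noncomputable def counitCxIso {W : Scheme.{u}} (j : W ⟶ X) [IsOpenImmersion j]
    (G : CochainComplex W.Modules ℤ) : (resC j).obj ((pushC j).obj G) ≅ G :=
  HomologicalComplex.Hom.isoOfComponents
    (fun n => (Scheme.Modules.restrictFunctorAdjCounitIso j).app (G.X n))
    (fun n m _ => ((Scheme.Modules.restrictFunctorAdjCounitIso j).hom.naturality (G.d n m)).symm)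

lemma nonempty_resC_push {U W : Scheme.{u}} (i : W ⟶ U) (ι : U ⟶ X) [IsOpenImmersion i]
    [IsOpenImmersion ι] (j : W ⟶ X) [IsOpenImmersion j] (h : i ≫ ι = j)
    (G : CochainComplex W.Modules ℤ) :
    Nonempty ((resC i).obj ((resC ι).obj ((pushC j).obj G)) ≅ G) := by
  subst h
  exact ⟨((resCComp i ι).app _).symm ≪≫ counitCxIso (i ≫ ι) G⟩

/-- the direct image of a strictly perfect complex along an open immersion is perfect over the
image -/
theorem isPerfect_restrict_push {W : Scheme.{u}} (j : W ⟶ X) [IsOpenImmersion j]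
    (G : CochainComplex W.Modules ℤ) (hG : DCoh.IsStrictlyPerfect G) :
    DCoh.IsPerfect (DerivedCategory.Q.obj ((DCoh.restrictCx j.opensRange).obj ((pushC j).obj G))) := by
  rw [isPerfect_iff_hasPres]
  intro z
  obtain ⟨c⟩ := nonempty_resC_push j.isoOpensRange.hom j.opensRange.ι j (by simp) G
  refine ⟨W, j.isoOpensRange.hom, inferInstance, ?_, G, hG, ⟨?_⟩⟩
  · have h := Scheme.Hom.opensRange_of_isIso j.isoOpensRange.hom
    exact h ▸ (trivial : z ∈ (⊤ : (j.opensRange : Scheme.{u}).Opens))
  · exact (facD j.isoOpensRange.hom).app _ ≪≫ DerivedCategory.Q.mapIso c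

section Main

variable {A : Type u} [CommRing A]

attribute [local instance] stalkAlg

theorem exists_spread (j : Spec (CommRingCat.of A) ⟶ X) [IsOpenImmersion j]
    (y : Spec (CommRingCat.of A)) (P : Dual.D ((X.presheaf.stalk (j.base y)) : Type u))
    (hP : DRing.IsPerfect ((X.presheaf.stalk (j.base y)) : Type u) P) :
    ∃ F' : CochainComplex X.Modules ℤ,
      DCoh.IsPerfect (DerivedCategory.Q.obj ((DCoh.restrictCx j.opensRange).obj F')) ∧
      Nonempty (DRing.toD (((DerSch.stalkFunctor X (j.base y)).mapHomologicalComplex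
        (ComplexShape.up ℤ)).obj F') ≅ P) := by
  obtain ⟨E, a, b, hv, hfp, ⟨e⟩⟩ := hP
  have hφ : Function.Bijective (j.stalkMap y).hom :=
    ConcreteCategory.bijective_of_isIso (j.stalkMap y)
  have hff : ∀ i, FF (E.X i) := fun i => by
    haveI := (hfp i).1
    haveI := (hfp i).2
    exact ⟨inferInstance, Module.free_of_flat_of_isLocalRing⟩
  let E2 : DRing.Cx (StalkTensor.Ox y) :=
    ((KBC.ext (j.stalkMap y).hom).mapHomologicalComplex (ComplexShape.up ℤ)).obj E
  have hv2 : DRing.VanishesOutside E2 a b := fun i hi =>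
    (KBC.ext (j.stalkMap y).hom).map_isZero (hv i hi)
  have hf2 : DRing.TermwiseFiniteFree E2 := fun i => by
    letI : Algebra (X.presheaf.stalk (j.base y)) (StalkTensor.Ox y) :=
      (j.stalkMap y).hom.toAlgebra
    exact FF_ext (A := X.presheaf.stalk (j.base y)) (B := StalkTensor.Ox y) (E.X i) (hff i)
  obtain ⟨E', hv', hf', ⟨e'⟩⟩ := exists_descent_cx (A := A) (B := StalkTensor.Ox y)
    y.asIdeal.primeCompl E2 a b hv2 hf2
  let G : CochainComplex (Spec (CommRingCat.of A)).Modules ℤ := (TCt (CommRingCat.of A)).obj E'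
  have hG : DCoh.IsStrictlyPerfect G :=
    ⟨⟨a, b, fun i hi => (tilde.functor (CommRingCat.of A)).map_isZero (hv' i hi)⟩, fun i =>
      (Groth.Agent.Lib.Helper2.FPAff.isFinLocFree_tilde_iff _ _).2
        ⟨(hf' i).1, haveI := (hf' i).2; inferInstance⟩⟩
  refine ⟨(pushC j).obj G, isPerfect_restrict_push j G hG, ⟨?_⟩⟩
  have hi : Topology.IsInducing j.base := j.isOpenEmbedding.isInducing
  let s1 := (NatIso.mapHomologicalComplex (stalkFunctorIso (X := X) (j.base y))
    (ComplexShape.up ℤ)).app ((pushC j).obj G)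
  let s2 := pushStalkCIso (i := j) (x := y) hi G
  let s3 := (DRing.restrictCx (j.stalkMap y).hom).mapIso (stalkCTildeIso A y E' ≪≫ e')
  let s4 := (unitCxIso (j.stalkMap y).hom hφ E).symm
  exact DerivedCategory.Q.mapIso (s1 ≪≫ s2 ≪≫ s3 ≪≫ s4) ≪≫ e

end Main

end Groth.Agent.Lib.Helper1.Spread
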