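import Mathlib
import Groth.Agent.Lib.Helper1BKF17
import Groth.Agent.Lib.Helper1LDer4
set_option backward.isDefEq.respectTransparency.types false

/-!
# Naturality of the associativity of the total tensor complex (helper1)
-/

set_option autoImplicit false
set_option linter.style.haveILetI false
universe u
open CategoryTheory CategoryTheory.Limits HomologicalComplex ZeroObject MonoidalCategory

namespace Groth.Agent.Lib.Helper1.BKF

variable {C : Type u} [SmallCategory C] {J : GrothendieckTopology C} {O : Sheaf J CommRingCat.{u}}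

lemma assocT_naturality₁ {A A' : ModSite.Mod O} (g : A ⟶ A') (B X : ModSite.Mod O) :
    ((ModSite.tensorBi O).map (((ModSite.tensorBi O).map g).app B)).app X ≫
        (((assocT O).hom.app A').app B).app X =
      (((assocT O).hom.app A).app B).app X ≫
        ((ModSite.tensorBi O).map g).app (((ModSite.tensorBi O).obj B).obj X) := by
  have h := congr_app (congr_app ((assocT O).hom.naturality g) B) X
  exact h

lemma totAssoc_hom_naturality₁ {K₁ K₁' : CochainComplex (ModSite.Mod O) ℤ} (f : K₁ ⟶ K₁')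
    (K₂ K₃ : CochainComplex (ModSite.Mod O) ℤ) :
    mapBifunctorMap (mapBifunctorMap f (𝟙 K₂) (ModSite.tensorBi O) (ComplexShape.up ℤ)) (𝟙 K₃)
        (ModSite.tensorBi O) (ComplexShape.up ℤ) ≫ (totAssoc K₁' K₂ K₃).hom =
      (totAssoc K₁ K₂ K₃).hom ≫
        mapBifunctorMap f (𝟙 (mapBifunctor K₂ K₃ (ModSite.tensorBi O) (ComplexShape.up ℤ)))
          (ModSite.tensorBi O) (ComplexShape.up ℤ) := by
  refine HomologicalComplex.hom_ext _ _ (fun j => ?_)
  apply mapBifunctor₁₂.hom_ext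
  intro i₁ i₂ i₃ h
  obtain rfl : i₁ + i₂ + i₃ = j := h
  have e1 := mapBifunctor₁₂.ι_eq (ModSite.tensorBi O) (ModSite.tensorBi O) K₁ K₂ K₃
    (ComplexShape.up ℤ) (ComplexShape.up ℤ) i₁ i₂ i₃ (i₁ + i₂) (i₁ + i₂ + i₃) rfl rfl
  have e1' := mapBifunctor₁₂.ι_eq (ModSite.tensorBi O) (ModSite.tensorBi O) K₁' K₂ K₃
    (ComplexShape.up ℤ) (ComplexShape.up ℤ) i₁ i₂ i₃ (i₁ + i₂) (i₁ + i₂ + i₃) rfl rfl
  have e2 := mapBifunctor₂₃.ι_eq (ModSite.tensorBi O) (ModSite.tensorBi O) K₁ K₂ K₃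
    (ComplexShape.up ℤ) (ComplexShape.up ℤ) (ComplexShape.up ℤ) i₁ i₂ i₃ (i₂ + i₃)
    (i₁ + i₂ + i₃) rfl (by change i₁ + (i₂ + i₃) = _; ring)
  have e2' := mapBifunctor₂₃.ι_eq (ModSite.tensorBi O) (ModSite.tensorBi O) K₁' K₂ K₃
    (ComplexShape.up ℤ) (ComplexShape.up ℤ) (ComplexShape.up ℤ) i₁ i₂ i₃ (i₂ + i₃)
    (i₁ + i₂ + i₃) rfl (by change i₁ + (i₂ + i₃) = _; ring)
  have hA : ∀ (L₁ : CochainComplex (ModSite.Mod O) ℤ), (totAssoc L₁ K₂ K₃).hom.f (i₁ + i₂ + i₃) =
      (mapBifunctorAssociatorX (assocT O) L₁ K₂ K₃ (ComplexShape.up ℤ) (ComplexShape.up ℤ)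
        (ComplexShape.up ℤ) (i₁ + i₂ + i₃)).hom := fun _ => rfl
  rw [HomologicalComplex.comp_f, HomologicalComplex.comp_f, hA, hA,
    ι_mapBifunctorAssociatorX_hom_assoc]
  -- left hand side
  rw [e1, Category.assoc, ι_mapBifunctorMap_assoc]
  have l1 : ιMapBifunctor K₁ K₂ (ModSite.tensorBi O) (ComplexShape.up ℤ) i₁ i₂ (i₁ + i₂) rfl ≫
      (mapBifunctorMap f (𝟙 K₂) (ModSite.tensorBi O) (ComplexShape.up ℤ)).f (i₁ + i₂) =
      ((ModSite.tensorBi O).map (f.f i₁)).app (K₂.X i₂) ≫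
        ιMapBifunctor K₁' K₂ (ModSite.tensorBi O) (ComplexShape.up ℤ) i₁ i₂ (i₁ + i₂) rfl := by
    rw [ι_mapBifunctorMap, HomologicalComplex.id_f, CategoryTheory.Functor.map_id, Category.id_comp]
  rw [HomologicalComplex.id_f, CategoryTheory.Functor.map_id, Category.id_comp, ← NatTrans.comp_app_assoc,
    ← CategoryTheory.Functor.map_comp, l1, CategoryTheory.Functor.map_comp, NatTrans.comp_app, Category.assoc,
    ← Category.assoc (((ModSite.tensorBi O).map (ιMapBifunctor K₁' K₂ (ModSite.tensorBi O)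
      (ComplexShape.up ℤ) i₁ i₂ (i₁ + i₂) rfl)).app (K₃.X i₃)), ← e1',
    ι_mapBifunctorAssociatorX_hom]
  have key := assocT_naturality₁ (f.f i₁) (K₂.X i₂) (K₃.X i₃)
  have h3 := ((ModSite.tensorBi O).map (f.f i₁)).naturality_assoc
    (ιMapBifunctor K₂ K₃ (ModSite.tensorBi O) (ComplexShape.up ℤ) i₂ i₃ (i₂ + i₃) rfl)
    (ιMapBifunctor K₁' (mapBifunctor K₂ K₃ (ModSite.tensorBi O) (ComplexShape.up ℤ))
      (ModSite.tensorBi O) (ComplexShape.up ℤ) i₁ (i₂ + i₃) (i₁ + i₂ + i₃)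
      (by change i₁ + (i₂ + i₃) = _; ring))
  have r1 : mapBifunctor₂₃.ι (ModSite.tensorBi O) (ModSite.tensorBi O) K₁ K₂ K₃
      (ComplexShape.up ℤ) (ComplexShape.up ℤ) (ComplexShape.up ℤ) i₁ i₂ i₃ (i₁ + i₂ + i₃) rfl ≫
      (mapBifunctorMap f (𝟙 (mapBifunctor K₂ K₃ (ModSite.tensorBi O) (ComplexShape.up ℤ)))
        (ModSite.tensorBi O) (ComplexShape.up ℤ)).f (i₁ + i₂ + i₃) =
      ((ModSite.tensorBi O).map (f.f i₁)).app (((ModSite.tensorBi O).obj (K₂.X i₂)).obj (K₃.X i₃)) ≫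
        mapBifunctor₂₃.ι (ModSite.tensorBi O) (ModSite.tensorBi O) K₁' K₂ K₃
          (ComplexShape.up ℤ) (ComplexShape.up ℤ) (ComplexShape.up ℤ) i₁ i₂ i₃
          (i₁ + i₂ + i₃) rfl := by
    rw [e2, e2', Category.assoc, ι_mapBifunctorMap, HomologicalComplex.id_f,
      CategoryTheory.Functor.map_id, Category.id_comp]
    exact h3
  exact ((Category.assoc _ _ _).symm.trans
    ((congrArg (fun t => t ≫ _) key).trans (Category.assoc _ _ _))).trans
    (congrArg (fun t => _ ≫ t) r1.symm)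

set_option maxHeartbeats 1600000 in
/-- `(N ⊗ K) ⊗ L ≅ N ⊗ (K ⊗ L)`, naturally in `N` -/
noncomputable def assocNat (K L : CochainComplex (ModSite.Mod O) ℤ) :
    (ModSite.tensorCx O).flip.obj K ⋙ (ModSite.tensorCx O).flip.obj L ≅
      (ModSite.tensorCx O).flip.obj (((ModSite.tensorCx O).obj K).obj L) :=
  NatIso.ofComponents (fun N => totAssoc N K L) (fun {N N'} f => by
    have h := totAssoc_hom_naturality₁ f K L
    exact h)

attribute [local instance] HasDerivedCategory.standard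

open Groth.Agent.Lib.Helper21.ModTensor3 Groth.Agent.Lib.Helper21.ModTensor5 in
/-- `(- ⊗^L K) ⊗^L L ≅ - ⊗^L (K ⊗ L)` for `L` K-flat -/
theorem nonempty_LTensorCx_comp_iso (K L : CochainComplex (ModSite.Mod O) ℤ)
    (hL : ModSite.IsKFlat L) [ModSite.HasLTensorCx K] [ModSite.HasLTensorCx L]
    [ModSite.HasLTensorCx (((ModSite.tensorCx O).obj K).obj L)] :
    Nonempty (ModSite.LTensorCx K ⋙ ModSite.LTensorCx L ≅
      ModSite.LTensorCx (((ModSite.tensorCx O).obj K).obj L)) := by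
  obtain ⟨R, ψ, hR⟩ := exists_functorial_kflat_flat_resolution O
  let W := HomologicalComplex.quasiIso (ModSite.Mod O) (ComplexShape.up ℤ)
  haveI : QuasiIso (𝟙 L) := inferInstance
  obtain ⟨eL⟩ := nonempty_iso_Q_comp_LTensorCx L L (𝟙 L) hL
  let cK : DerivedCategory.Q ⋙ ModSite.LTensorCx K ⟶ ModSite.tensorCxQ K :=
    (ModSite.tensorCxQ K).totalLeftDerivedCounit DerivedCategory.Q W
  let G := ModSite.LTensorCx K ⋙ ModSite.LTensorCx L
  let β : DerivedCategory.Q ⋙ G ⟶ ModSite.tensorCxQ (((ModSite.tensorCx O).obj K).obj L) :=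
    (Functor.associator _ _ _).inv ≫ Functor.whiskerRight cK (ModSite.LTensorCx L) ≫
      (Functor.associator _ _ _).hom ≫
      Functor.whiskerLeft ((ModSite.tensorCx O).flip.obj K) eL.hom ≫
      (Functor.associator _ _ _).inv ≫
      Functor.whiskerRight (assocNat K L).hom DerivedCategory.Q
  have hβ : ∀ X, ModSite.IsKFlat X → IsIso (β.app X) := fun X hX => by
    haveI : IsIso (cK.app X) := isIso_counit_of_isKFlat K _ cK X hX
    simp only [β, NatTrans.comp_app, Functor.whiskerRight_app, Functor.whiskerLeft_app,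
      Functor.associator_inv_app, Functor.associator_hom_app]
    infer_instance
  haveI : G.IsLeftDerivedFunctor β W :=
    Groth.Agent.Lib.Helper1.LDerRes.isLeftDerivedFunctor_of_isIso_good DerivedCategory.Q W
      (ModSite.tensorCxQ (((ModSite.tensorCx O).obj K).obj L)) R ψ
      (fun X => (hR X).2.2.1) (fun X => ModSite.IsKFlat X) (fun X => (hR X).1)
      (fun X Y f hf hX hY => by
        haveI : QuasiIso f := (HomologicalComplex.mem_quasiIso_iff f).1 hf
        haveI := quasiIso_TR_map_of_isKFlat_of_isKFlat X Y hX hY f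
          (((ModSite.tensorCx O).obj K).obj L)
        exact inferInstanceAs (IsIso (DerivedCategory.Q.map
          ((TR (ModSite.tensorBi O) (((ModSite.tensorCx O).obj K).obj L)).map f))))
      G β hβ
  exact ⟨Functor.leftDerivedUnique
    (ModSite.LTensorCx (((ModSite.tensorCx O).obj K).obj L)) G β
    ((ModSite.tensorCxQ (((ModSite.tensorCx O).obj K).obj L)).totalLeftDerivedCounit
      DerivedCategory.Q W) W⟩

end Groth.Agent.Lib.Helper1.BKF
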