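import Mathlib
import Groth.Agent.Lib.Helper1TIBCD
import Groth.Agent.Lib.Helper1TorT5
import Groth.Agent.Lib.Helper1Sky9
set_option backward.isDefEq.respectTransparency.types false

/-!
# External tensor products and relative tor amplitude (helper1)
-/

set_option autoImplicit false
set_option linter.style.haveILetI false
set_option linter.unusedSectionVars false
set_option maxHeartbeats 800000
universe u
open CategoryTheory CategoryTheory.Limits AlgebraicGeometry HomologicalComplex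

attribute [local instance] HasDerivedCategory.standard

namespace Groth.Agent.Lib.Helper1.TIBC

open Groth.Agent.Lib.Helper1.Sky Groth.Agent.Lib.Helper1.StalkTensor Groth.Agent.Lib.Helper1.KBC
  Groth.Agent.Lib.Helper1.Tor Groth.Agent.Lib.Helper1.Restrict Groth.Agent.Lib.Helper1.RelPC
  Groth.Agent.Lib.Helper1.TorDim Groth.Agent.Lib.Helper1.BKF Groth.Agent.Lib.Helper1.TorT
  Groth.Agent.Lib.Helper1.LDer Groth.Agent.Lib.Helper1.TQ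
  Groth.Agent.Lib.Helper2.FlatOver Groth.Agent.Lib.Helper2.PullbackFlat
  Groth.Agent.Lib.Helper2.PullbackSec Groth.Agent.Lib.Helper1.TorBC

/-- flat base change of relative tor amplitude for an arbitrary cartesian square -/
theorem hasTorAmplitudeD_lpull_of_isPullback_flat {X S X' S' : Scheme.{u}} {f : X ⟶ S}
    {f' : X' ⟶ S'} {g' : X' ⟶ X} {g : S' ⟶ S} (hc : IsPullback g' f' f g) [Flat g]
    [DCoh.HasLpull g'] (F : CochainComplex X.Modules ℤ) (a b : ℤ)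
    (hF : DerSch.HasTorAmplitude f a b F) :
    DerSch.HasTorAmplitudeD f' a b ((DCoh.Lpull g').obj (DCoh.toD X F)) := by
  obtain ⟨K, q, hK, -, hq, -⟩ : ∃ (K : CochainComplex X.Modules ℤ)
      (q : K ⟶ F), DCoh.IsKFlat K ∧
      (∀ n : ℤ, ModSite.IsFlat (O := X.sheaf) (K.X n)) ∧ QuasiIso q ∧ ∀ n : ℤ, Epi (q.f n) :=
    exists_kflat_flat_resolution X.sheaf F
  have hqi : IsIso (DerivedCategory.Q.map q) := by
    rw [DerivedCategory.isIso_Q_map_iff_quasiIso]; exact hq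
  have eK : DCoh.toD X K ≅ DCoh.toD X F := asIso (DerivedCategory.Q.map q)
  have hGK : DerSch.HasTorAmplitude f a b K := hasTorAmplitude_of_iso f eK.symm a b hF
  have eL : (DCoh.Lpull g').obj (DCoh.toD X F) ≅ DCoh.toD _ ((pullC g').obj K) :=
    (DCoh.Lpull g').mapIso eK.symm ≪≫ lpullIsoK g' K hK
  rintro F' ⟨eF⟩
  refine hasTorAmplitude_of_iso f' (eF ≪≫ eL).symm _ _ ?_
  intro x'
  rw [hasTorAmplitudeAt_iff]
  have hKy : Groth.Agent.Lib.Helper1.KF.KFlat ((stalkC (g'.base x')).obj K) :=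
    fun M hM => rKFlat_stalk_of_isKFlat (g'.base x') K hK M hM
  have hL := (hasTorAmplitudeAt_iff f K a b (g'.base x')).1 (hGK (g'.base x'))
  have key := hasTorAmp_stalk_of_isPullback hc x' _ hKy a b hL
  exact hasTorAmp_of_iso (DerivedCategory.Q.mapIso
    ((DRing.restrictCx _).mapIso (stalkPullCIso g' x' K).symm)) key

lemma hasTorAmplitudeD_of_iso {X Y : Scheme.{u}} (f : X ⟶ Y) {K K' : DCoh.D X} (e : K ≅ K')
    (a b : ℤ) (h : DerSch.HasTorAmplitudeD f a b K) : DerSch.HasTorAmplitudeD f a b K' := by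
  rintro F ⟨eF⟩
  exact h F ⟨eF ≪≫ e.symm⟩

/-- every object of `D(O_X)` is represented by a cochain complex -/
lemma exists_rep {X : Scheme.{u}} (K : DCoh.D X) :
    ∃ F : CochainComplex X.Modules ℤ, Nonempty (DCoh.toD X F ≅ K) := by
  exact ⟨(DerivedCategory.Q (C := X.Modules)).objPreimage K,
    ⟨(DerivedCategory.Q (C := X.Modules)).objObjPreimageIso K⟩⟩

/-- S6257: relative tor amplitude of an external tensor product, flat second factor -/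
theorem hasTorAmplitudeD_external {S X₁ Y₁ X₂ Y₂ X Y : Scheme.{u}} (f₁ : X₁ ⟶ Y₁) (q₁ : Y₁ ⟶ S)
    (f₂ : X₂ ⟶ Y₂) (q₂ : Y₂ ⟶ S) [Flat q₂] [Flat (f₂ ≫ q₂)]
    (pX₁ : X ⟶ X₁) (pX₂ : X ⟶ X₂) (hX : IsPullback pX₁ pX₂ (f₁ ≫ q₁) (f₂ ≫ q₂))
    (pY₁ : Y ⟶ Y₁) (pY₂ : Y ⟶ Y₂) (hY : IsPullback pY₁ pY₂ q₁ q₂)
    (f : X ⟶ Y) (hf₁ : f ≫ pY₁ = pX₁ ≫ f₁) (hf₂ : f ≫ pY₂ = pX₂ ≫ f₂)
    (E₁ : CochainComplex X₁.Modules ℤ) (a₁ b₁ : ℤ) (h₁ : DerSch.HasTorAmplitude f₁ a₁ b₁ E₁)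
    (E₂ : CochainComplex X₂.Modules ℤ) (a₂ b₂ : ℤ) (h₂ : DerSch.HasTorAmplitude f₂ a₂ b₂ E₂)
    [DCoh.HasLpull pX₁] [DCoh.HasLpull pX₂]
    (K₂ : CochainComplex X.Modules ℤ) [DCoh.HasLTensorCx K₂]
    (eK₂ : DCoh.toD X K₂ ≅ (DCoh.Lpull pX₂).obj (DCoh.toD X₂ E₂)) :
    DerSch.HasTorAmplitudeD f (a₁ + a₂) (b₁ + b₂)
      ((DCoh.LTensorCx K₂).obj ((DCoh.Lpull pX₁).obj (DCoh.toD X₁ E₁))) := by
  have hZ' : IsPullback (pullback.fst (f₁ ≫ q₁) q₂) (pullback.snd (f₁ ≫ q₁) q₂) (f₁ ≫ q₁) q₂ :=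
    IsPullback.of_hasPullback _ _
  generalize pullback.fst (f₁ ≫ q₁) q₂ = r₁ at hZ'
  generalize pullback.snd (f₁ ≫ q₁) q₂ = r₂ at hZ'
  generalize pullback (f₁ ≫ q₁) q₂ = Z' at r₁ r₂ hZ'
  -- the map `u' : X ⟶ Z'`
  have hu : ∃ u' : X ⟶ Z', u' ≫ r₁ = pX₁ ∧ u' ≫ r₂ = pX₂ ≫ f₂ :=
    ⟨hZ'.lift pX₁ (pX₂ ≫ f₂) (by simpa using hX.w), hZ'.lift_fst _ _ _, hZ'.lift_snd _ _ _⟩
  obtain ⟨u', hu1, hu2⟩ := hu
  have hsq1 : IsPullback u' pX₂ r₂ f₂ := by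
    refine IsPullback.of_right ?_ hu2 hZ'
    rw [hu1]; exact hX
  -- the map `v' : Z' ⟶ Y`
  have hv : ∃ v' : Z' ⟶ Y, v' ≫ pY₁ = r₁ ≫ f₁ ∧ v' ≫ pY₂ = r₂ :=
    ⟨hY.lift (r₁ ≫ f₁) r₂ (by simpa using hZ'.w), hY.lift_fst _ _ _, hY.lift_snd _ _ _⟩
  obtain ⟨v', hv1, hv2⟩ := hv
  have hsq2 : IsPullback r₁ v' f₁ pY₁ := by
    refine IsPullback.of_bot ?_ hv1.symm hY
    rw [hv2]; exact hZ'
  have hfuv : u' ≫ v' = f := by
    apply hY.hom_ext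
    · rw [Category.assoc, hv1, ← Category.assoc, hu1, hf₁]
    · rw [Category.assoc, hv2, hu2, hf₂]
  haveI : Flat pY₁ := MorphismProperty.of_isPullback (P := @Flat) hY.flip ‹Flat q₂›
  haveI : DCoh.HasLpull r₁ := hasLpull r₁
  haveI : DCoh.HasLpull u' := hasLpull u'
  -- tor amplitude of `K₂` relative to `u'`
  have hK₂ : DerSch.HasTorAmplitude u' a₂ b₂ K₂ :=
    hasTorAmplitudeD_lpull_of_isPullback_ti hZ' hsq1.flip E₂ a₂ b₂ h₂ K₂ ⟨eK₂⟩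
  -- a complex representing `L r₁^* E₁`
  obtain ⟨G, ⟨eG⟩⟩ := exists_rep ((DCoh.Lpull r₁).obj (DCoh.toD X₁ E₁))
  have hG : DerSch.HasTorAmplitude v' a₁ b₁ G :=
    hasTorAmplitudeD_lpull_of_isPullback_flat hsq2 E₁ a₁ b₁ h₁ G ⟨eG⟩
  have key := hasTorAmplitudeD_ltensor_Lpull u' v' K₂ a₂ b₂ hK₂ G a₁ b₁ hG
  -- identify `L pX₁^* E₁` with `L u'^* G`
  haveI : DCoh.HasLpull (u' ≫ r₁) := hasLpull _
  obtain ⟨e1⟩ := nonempty_lpull_comp_iso u' r₁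
  obtain ⟨e2⟩ := nonempty_lpull_congr hu1
  have e3 : (DCoh.Lpull u').obj (DCoh.toD Z' G) ≅ (DCoh.Lpull pX₁).obj (DCoh.toD X₁ E₁) :=
    (DCoh.Lpull u').mapIso eG ≪≫ e1.app _ ≪≫ e2.app _
  have key2 := hasTorAmplitudeD_of_iso (u' ≫ v') ((DCoh.LTensorCx K₂).mapIso e3) _ _ key
  rw [hfuv, add_comm a₂ a₁, add_comm b₂ b₁] at key2
  exact key2

end Groth.Agent.Lib.Helper1.TIBC
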