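import Mathlib
import Groth.Agent.Lib.Helper1TIBCE
set_option backward.isDefEq.respectTransparency.types false

/-!
# Tor dimension of fibre product maps (helper1)
-/

set_option autoImplicit false
set_option linter.style.haveILetI false
set_option linter.unusedSectionVars false
set_option maxHeartbeats 800000
universe u
open CategoryTheory CategoryTheory.Limits AlgebraicGeometry HomologicalComplex

attribute [local instance] HasDerivedCategory.standard

namespace Groth.Agent.Lib.Helper1.TIBC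

open Groth.Agent.Lib.Helper1.Sky Groth.Agent.Lib.Helper1.StalkTensor Groth.Agent.Lib.Helper1.KBC
  Groth.Agent.Lib.Helper1.Tor Groth.Agent.Lib.Helper1.Restrict Groth.Agent.Lib.Helper1.RelPC
  Groth.Agent.Lib.Helper1.TorDim Groth.Agent.Lib.Helper1.BKF Groth.Agent.Lib.Helper1.TorT
  Groth.Agent.Lib.Helper1.LDer Groth.Agent.Lib.Helper1.TQ
  Groth.Agent.Lib.Helper2.FlatOver Groth.Agent.Lib.Helper2.PullbackFlat
  Groth.Agent.Lib.Helper2.PullbackSec Groth.Agent.Lib.Helper1.TorBC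

section ring

variable {A B : Type u} [CommRing A] [CommRing B]

/-- the ring as a complex in degree `0` -/
noncomputable abbrev unitC (B : Type u) [CommRing B] : DRing.Cx B :=
  (HomologicalComplex.single (ModuleCat.{u} B) (ComplexShape.up ℤ) 0).obj (ModuleCat.of B B)

lemma kflat_unitC (B : Type u) [CommRing B] : Groth.Agent.Lib.Helper1.KF.KFlat (unitC B) := by
  refine Groth.Agent.Lib.Helper1.KF.kflat_of_boundedAbove_flat _ 0 (fun q hq => ?_) (fun q => ?_)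
  · exact HomologicalComplex.isZero_single_obj_X _ _ _ _ (by omega)
  · by_cases hq : q = 0
    · subst hq
      exact Module.Flat.of_linearEquiv
        ((HomologicalComplex.singleObjXSelf (ComplexShape.up ℤ) 0
          (ModuleCat.of B B)).toLinearEquiv)
    · have hz : IsZero ((unitC B).X q) := HomologicalComplex.isZero_single_obj_X _ _ _ _ hq
      haveI : Subsingleton ((unitC B).X q) := ModuleCat.subsingleton_of_isZero hz
      infer_instance

/-- restriction of scalars of the unit complex -/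
noncomputable def restrictUnitCIso (ψ : A →+* B) :
    DRing.toD ((DRing.restrictCx ψ).obj (unitC B)) ≅
      (DerivedCategory.singleFunctor (ModuleCat.{u} A) 0).obj (BoverA ψ) :=
  DerivedCategory.Q.mapIso
      ((HomologicalComplex.singleMapHomologicalComplex (ModuleCat.restrictScalars.{u} ψ)
        (ComplexShape.up ℤ) 0).app (ModuleCat.of B B)) ≪≫
    ((DerivedCategory.singleFunctorIsoCompQ _ 0).app _).symm

/-- base change of the unit complex -/
noncomputable def bcUnitCIso (φ : A →+* B) : (bcCx φ).obj (unitC A) ≅ unitC B :=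
  letI := φ.toAlgebra
  (HomologicalComplex.singleMapHomologicalComplex (ModuleCat.extendScalars.{u, u, u} φ)
      (ComplexShape.up ℤ) 0).app (ModuleCat.of A A) ≪≫
    (HomologicalComplex.single (ModuleCat.{u} B) (ComplexShape.up ℤ) 0).mapIso
      (((bcEquiv φ (ModuleCat.of A A)).trans
        (TensorProduct.AlgebraTensorModule.rid A B B)).toModuleIso)

end ring

variable {S W₁ Y₂ Y' X₂ X' : Scheme.{u}} {q₁ : W₁ ⟶ S} {q₂ : Y₂ ⟶ S} {pW₁ : Y' ⟶ W₁}
  {pY₂ : Y' ⟶ Y₂} {f₂ : X₂ ⟶ Y₂} {g' : X' ⟶ X₂} {f' : X' ⟶ Y'}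

/-- Tor-independent base change of tor dimension -/
theorem hasTorDimLE_of_isPullback_ti (hY : IsPullback pW₁ pY₂ q₁ q₂)
    (hZ : IsPullback g' f' f₂ pY₂) [Flat q₂] [Flat (f₂ ≫ q₂)] (n : ℕ)
    (h : DerSch.HasTorDimLE f₂ n) : DerSch.HasTorDimLE f' n := by
  intro x'
  have hB := hasTorAmp_of_iso (stalkCxOverUnitIso f₂ (g'.base x')) (h (g'.base x'))
  have h1 := hasTorAmp_of_iso (restrictUnitCIso (f₂.stalkMap (g'.base x')).hom).symm hB
  have key := hasTorAmp_stalk_of_isPullback_ti hY hZ x' (unitC _) (kflat_unitC _) _ _ h1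
  have h2 := hasTorAmp_of_iso (DerivedCategory.Q.mapIso
    ((DRing.restrictCx (f'.stalkMap x').hom).mapIso (bcUnitCIso (g'.stalkMap x').hom))) key
  have h3 := hasTorAmp_of_iso (restrictUnitCIso (f'.stalkMap x').hom) h2
  exact hasTorAmp_of_iso (stalkCxOverUnitIso f' x').symm h3

/-- flat base change of tor dimension -/
theorem hasTorDimLE_of_isPullback_flat {X S X' S' : Scheme.{u}} {f : X ⟶ S}
    {f' : X' ⟶ S'} {g' : X' ⟶ X} {g : S' ⟶ S} (hc : IsPullback g' f' f g) [Flat g] (n : ℕ)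
    (h : DerSch.HasTorDimLE f n) : DerSch.HasTorDimLE f' n := by
  intro x'
  have hB := hasTorAmp_of_iso (stalkCxOverUnitIso f (g'.base x')) (h (g'.base x'))
  have h1 := hasTorAmp_of_iso (restrictUnitCIso (f.stalkMap (g'.base x')).hom).symm hB
  have key := hasTorAmp_stalk_of_isPullback hc x' (unitC _) (kflat_unitC _) _ _ h1
  have h2 := hasTorAmp_of_iso (DerivedCategory.Q.mapIso
    ((DRing.restrictCx (f'.stalkMap x').hom).mapIso (bcUnitCIso (g'.stalkMap x').hom))) key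
  have h3 := hasTorAmp_of_iso (restrictUnitCIso (f'.stalkMap x').hom) h2
  exact hasTorAmp_of_iso (stalkCxOverUnitIso f' x').symm h3

/-- S6242: tor dimension of a fibre product of morphisms, flat second factor -/
theorem hasTorDimLE_external {S X₁ Y₁ X₂ Y₂ X Y : Scheme.{u}} (f₁ : X₁ ⟶ Y₁) (q₁ : Y₁ ⟶ S)
    (f₂ : X₂ ⟶ Y₂) (q₂ : Y₂ ⟶ S) [Flat q₂] [Flat (f₂ ≫ q₂)]
    (pX₁ : X ⟶ X₁) (pX₂ : X ⟶ X₂) (hX : IsPullback pX₁ pX₂ (f₁ ≫ q₁) (f₂ ≫ q₂))
    (pY₁ : Y ⟶ Y₁) (pY₂ : Y ⟶ Y₂) (hY : IsPullback pY₁ pY₂ q₁ q₂)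
    (f : X ⟶ Y) (hf₁ : f ≫ pY₁ = pX₁ ≫ f₁) (hf₂ : f ≫ pY₂ = pX₂ ≫ f₂)
    (n₁ n₂ : ℕ) (h₁ : DerSch.HasTorDimLE f₁ n₁) (h₂ : DerSch.HasTorDimLE f₂ n₂) :
    DerSch.HasTorDimLE f (n₁ + n₂) := by
  have hZ' : IsPullback (pullback.fst (f₁ ≫ q₁) q₂) (pullback.snd (f₁ ≫ q₁) q₂) (f₁ ≫ q₁) q₂ :=
    IsPullback.of_hasPullback _ _
  generalize pullback.fst (f₁ ≫ q₁) q₂ = r₁ at hZ'
  generalize pullback.snd (f₁ ≫ q₁) q₂ = r₂ at hZ'
  generalize pullback (f₁ ≫ q₁) q₂ = Z' at r₁ r₂ hZ'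
  have hu : ∃ u' : X ⟶ Z', u' ≫ r₁ = pX₁ ∧ u' ≫ r₂ = pX₂ ≫ f₂ :=
    ⟨hZ'.lift pX₁ (pX₂ ≫ f₂) (by simpa using hX.w), hZ'.lift_fst _ _ _, hZ'.lift_snd _ _ _⟩
  obtain ⟨u', hu1, hu2⟩ := hu
  have hsq1 : IsPullback u' pX₂ r₂ f₂ := by
    refine IsPullback.of_right ?_ hu2 hZ'
    rw [hu1]; exact hX
  have hv : ∃ v' : Z' ⟶ Y, v' ≫ pY₁ = r₁ ≫ f₁ ∧ v' ≫ pY₂ = r₂ :=
    ⟨hY.lift (r₁ ≫ f₁) r₂ (by simpa using hZ'.w), hY.lift_fst _ _ _, hY.lift_snd _ _ _⟩
  obtain ⟨v', hv1, hv2⟩ := hv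
  have hsq2 : IsPullback r₁ v' f₁ pY₁ := by
    refine IsPullback.of_bot ?_ hv1.symm hY
    rw [hv2]; exact hZ'
  have hfuv : u' ≫ v' = f := by
    apply hY.hom_ext
    · rw [Category.assoc, hv1, ← Category.assoc, hu1, hf₁]
    · rw [Category.assoc, hv2, hu2, hf₂]
  haveI : Flat pY₁ := MorphismProperty.of_isPullback (P := @Flat) hY.flip ‹Flat q₂›
  have hu' : DerSch.HasTorDimLE u' n₂ := hasTorDimLE_of_isPullback_ti hZ' hsq1.flip n₂ h₂
  have hv' : DerSch.HasTorDimLE v' n₁ := hasTorDimLE_of_isPullback_flat hsq2 n₁ h₁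
  have key := hasTorAmplitude_comp_of_hasTorDimLE u' v' n₁ hv' (DerSch.unitCx X) _ _ hu'
  rw [hfuv] at key
  have e : (-(n₂ : ℤ) - (n₁ : ℤ)) = -((n₁ + n₂ : ℕ) : ℤ) := by push_cast; ring
  rw [e] at key
  exact key

end Groth.Agent.Lib.Helper1.TIBC
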