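import Mathlib
import Groth.Agent.Lib.Helper1TIBCG
import Groth.Agent.Lib.Helper1TIBCF
set_option backward.isDefEq.respectTransparency.types false

/-!
# External tensor products: cohomological amplitude (helper1)
-/

set_option autoImplicit false
set_option linter.style.haveILetI false
set_option linter.unusedSectionVars false
set_option maxHeartbeats 800000
universe u
open CategoryTheory CategoryTheory.Limits MonoidalCategory HomologicalComplex TensorProduct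
attribute [local instance] HasDerivedCategory.standard

namespace Groth.Agent.Lib.Helper1.TIBC

open AlgebraicGeometry
open Groth.Agent.Lib.Helper1.Sky Groth.Agent.Lib.Helper1.StalkTensor Groth.Agent.Lib.Helper1.KBC
  Groth.Agent.Lib.Helper1.Tor Groth.Agent.Lib.Helper1.Restrict Groth.Agent.Lib.Helper1.RelPC
  Groth.Agent.Lib.Helper1.TorDim Groth.Agent.Lib.Helper1.BKF Groth.Agent.Lib.Helper1.TorT
  Groth.Agent.Lib.Helper1.LDer Groth.Agent.Lib.Helper1.DT Groth.Agent.Lib.Helper1.TQ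
  Groth.Agent.Lib.Helper1.LocalCx Groth.Agent.Lib.Helper1.TorBC

variable {X Z W : Scheme.{u}}

/-- `F` of tor amplitude `[a₁, b₁]` relative to `u : X ⟶ Z`, `s : Z ⟶ W` flat, `E` on `W` with
cohomology in `[a₂, b₂]`: `L(u ≫ s)^* E ⊗^L F` has cohomology in `[a₁ + a₂, b₁ + b₂]`. -/
theorem isZero_HD_ltensor_of_hasTorAmplitudeD (u : X ⟶ Z) (s : Z ⟶ W) [Flat s] (p : X ⟶ W)
    (hp : u ≫ s = p) [DCoh.HasLpull p] (E : CochainComplex W.Modules ℤ) (a₂ b₂ : ℤ)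
    [(DCoh.toD W E).IsGE a₂] [(DCoh.toD W E).IsLE b₂]
    (K₂ : CochainComplex X.Modules ℤ) [DCoh.HasLTensorCx K₂]
    (eK₂ : DCoh.toD X K₂ ≅ (DCoh.Lpull p).obj (DCoh.toD W E))
    (P : DCoh.D X) (a₁ b₁ : ℤ) (hP : DerSch.HasTorAmplitudeD u a₁ b₁ P)
    (j : ℤ) (hj : j < a₁ + a₂ ∨ b₁ + b₂ < j) :
    IsZero (DCoh.HD ((DCoh.LTensorCx K₂).obj P) j) := by
  subst hp
  -- K-flat resolution of `E`
  obtain ⟨E', q, hE', -, hq, -⟩ : ∃ (E' : CochainComplex W.Modules ℤ)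
      (q : E' ⟶ E), DCoh.IsKFlat E' ∧
      (∀ n : ℤ, ModSite.IsFlat (O := W.sheaf) (E'.X n)) ∧ QuasiIso q ∧ ∀ n : ℤ, Epi (q.f n) :=
    exists_kflat_flat_resolution W.sheaf E
  have hqi : IsIso (DerivedCategory.Q.map q) := by
    rw [DerivedCategory.isIso_Q_map_iff_quasiIso]; exact hq
  have eE' : DCoh.toD W E' ≅ DCoh.toD W E := asIso (DerivedCategory.Q.map q)
  have eL : (DCoh.Lpull (u ≫ s)).obj (DCoh.toD W E) ≅ DCoh.toD X ((pullC (u ≫ s)).obj E') :=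
    (DCoh.Lpull (u ≫ s)).mapIso eE'.symm ≪≫ lpullIsoK (u ≫ s) E' hE'
  -- K-flat representative of `P`
  obtain ⟨F₀, ⟨eF₀⟩⟩ := exists_rep P
  obtain ⟨F₁, q₁, hF₁, -, hq₁, -⟩ : ∃ (F₁ : CochainComplex X.Modules ℤ)
      (q₁ : F₁ ⟶ F₀), DCoh.IsKFlat F₁ ∧
      (∀ n : ℤ, ModSite.IsFlat (O := X.sheaf) (F₁.X n)) ∧ QuasiIso q₁ ∧ ∀ n : ℤ, Epi (q₁.f n) :=
    exists_kflat_flat_resolution X.sheaf F₀
  have hq₁i : IsIso (DerivedCategory.Q.map q₁) := by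
    rw [DerivedCategory.isIso_Q_map_iff_quasiIso]; exact hq₁
  have eF₁ : DCoh.toD X F₁ ≅ P := asIso (DerivedCategory.Q.map q₁) ≪≫ eF₀
  have hF₁t : DerSch.HasTorAmplitude u a₁ b₁ F₁ := hP F₁ ⟨eF₁⟩
  haveI hI1 : ModSite.HasLTensorCx (O := X.sheaf) K₂ := (inferInstance : DCoh.HasLTensorCx K₂)
  have i0 : (DCoh.LTensorCx K₂).obj (DerivedCategory.Q.obj F₁) ≅
      DerivedCategory.Q.obj ((DCoh.tensorCx.obj F₁).obj K₂) :=
    lTensorCxIsoOfIsKFlat (O := X.sheaf) K₂ _ hF₁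
  set T := (DCoh.tensorCx.obj F₁).obj K₂ with hT
  have eT : (DCoh.LTensorCx K₂).obj P ≅ DerivedCategory.Q.obj T :=
    (DCoh.LTensorCx K₂).mapIso eF₁.symm ≪≫ i0
  refine IsZero.of_iso ?_ ((DerivedCategory.homologyFunctor _ j).mapIso eT ≪≫
    (DerivedCategory.homologyFunctorFactors _ j).app T)
  apply isZero_of_forall_isZero_stalk
  intro x
  refine IsZero.of_iso ?_ ((T.sc j).mapHomologyIso (stalkFun x)).symm
  have hex : ((stalkC x).obj T).ExactAt j := by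
    obtain ⟨e⟩ := nonempty_stalkTotIso x F₁ K₂
    refine (exactAt_of_iso e j).2 ?_
    have hKF₁ : Groth.Agent.Lib.Helper1.KF.KFlat ((stalkC x).obj F₁) :=
      fun M hM => rKFlat_stalk_of_isKFlat x F₁ hF₁ M hM
    have hN₂K : Groth.Agent.Lib.Helper1.KF.KFlat ((stalkC ((u ≫ s).base x)).obj E') :=
      fun M hM => rKFlat_stalk_of_isKFlat ((u ≫ s).base x) E' hE' M hM
    -- exactness of the stalk complex of `E'` outside `[a₂, b₂]`
    have hN₂ex : ∀ i : ℤ, i < a₂ ∨ b₂ < i →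
        ((stalkC ((u ≫ s).base x)).obj E').ExactAt i := by
      intro i hi
      have hEi : IsZero (E.homology i) := by
        rw [← HomologicalComplex.exactAt_iff_isZero_homology]
        rcases hi with hi | hi
        · haveI : E.IsGE a₂ := (DerivedCategory.isGE_Q_obj_iff E a₂).1 ‹_›
          exact CochainComplex.exactAt_of_isGE E a₂ i hi
        · haveI : E.IsLE b₂ := (DerivedCategory.isLE_Q_obj_iff E b₂).1 ‹_›
          exact CochainComplex.exactAt_of_isLE E b₂ i hi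
      haveI := hq
      have hE'i : IsZero (E'.homology i) := (isZero_homology_of_quasiIso q i).2 hEi
      rw [HomologicalComplex.exactAt_iff_isZero_homology]
      exact IsZero.of_iso ((stalkFun ((u ≫ s).base x)).map_isZero hE'i)
        ((E'.sc i).mapHomologyIso (stalkFun ((u ≫ s).base x)))
    -- the stalk of `K₂`
    have hcomp : ((u ≫ s).stalkMap x).hom =
        (u.stalkMap x).hom.comp (s.stalkMap (u.base x)).hom := by
      rw [Scheme.Hom.stalkMap_comp]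
      rfl
    have hsflat : (s.stalkMap (u.base x)).hom.Flat := (Flat.iff_flat_stalkMap s).1 ‹_› (u.base x)
    let N₂ : DRing.Cx (W.presheaf.stalk (s.base (u.base x))) :=
      (stalkC ((u ≫ s).base x)).obj E'
    let N' := (bcCx (s.stalkMap (u.base x)).hom).obj N₂
    have hN'K : Groth.Agent.Lib.Helper1.KF.KFlat N' := kflat_bcCx _ N₂ hN₂K
    have hN'ex : ∀ i : ℤ, i < a₂ ∨ b₂ < i → N'.ExactAt i :=
      fun i hi => exactAt_bc_of_flat_hom _ hsflat N₂ i (hN₂ex i hi)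
    have eM : DerivedCategory.Q.obj ((stalkC x).obj K₂) ≅
        DerivedCategory.Q.obj ((bcCx (u.stalkMap x).hom).obj N') :=
      stalkCDIso (eK₂ ≪≫ eL) x ≪≫ DerivedCategory.Q.mapIso
        (stalkPullCIso (u ≫ s) x E' ≪≫ bcCxEqIso hcomp N₂ ≪≫ bcCxCompIso _ _ N₂)
    refine (exactAt_tensor_iff_of_iso_kflat ((stalkC x).obj F₁) hKF₁ eM j).2 ?_
    have hFx := (hasTorAmplitudeAt_iff u F₁ a₁ b₁ x).1 (hF₁t x)
    have key := exactAt_bc_tensor_of_hasTorAmp_bounded (u.stalkMap x).hom _ a₁ b₁ hFx N' hN'K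
      a₂ b₂ hN'ex j hj
    exact (exactAt_of_iso (DTen.braidCx ((stalkC x).obj F₁) ((bcCx (u.stalkMap x).hom).obj N'))
      j).2 key
  exact (HomologicalComplex.exactAt_iff_isZero_homology _ _).1 hex

/-- S6258: cohomological amplitude of an external tensor product, flat first factor -/
theorem isGE_isLE_external {S X₁ Y₁ X₂ Y₂ X : Scheme.{u}} (f₁ : X₁ ⟶ Y₁) (q₁ : Y₁ ⟶ S)
    (f₂ : X₂ ⟶ Y₂) (q₂ : Y₂ ⟶ S) [Flat q₁] [Flat (f₁ ≫ q₁)]
    (pX₁ : X ⟶ X₁) (pX₂ : X ⟶ X₂) (hX : IsPullback pX₁ pX₂ (f₁ ≫ q₁) (f₂ ≫ q₂))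
    (E₁ : CochainComplex X₁.Modules ℤ) (a₁ b₁ : ℤ) (h₁ : DerSch.HasTorAmplitude f₁ a₁ b₁ E₁)
    (E₂ : CochainComplex X₂.Modules ℤ) (a₂ b₂ : ℤ) [(DCoh.toD X₂ E₂).IsGE a₂]
    [(DCoh.toD X₂ E₂).IsLE b₂] [DCoh.HasLpull pX₁] [DCoh.HasLpull pX₂]
    (K₂ : CochainComplex X.Modules ℤ) [DCoh.HasLTensorCx K₂]
    (eK₂ : DCoh.toD X K₂ ≅ (DCoh.Lpull pX₂).obj (DCoh.toD X₂ E₂)) :
    ((DCoh.LTensorCx K₂).obj ((DCoh.Lpull pX₁).obj (DCoh.toD X₁ E₁))).IsGE (a₁ + a₂) ∧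
      ((DCoh.LTensorCx K₂).obj ((DCoh.Lpull pX₁).obj (DCoh.toD X₁ E₁))).IsLE (b₁ + b₂) := by
  have hZ : IsPullback (pullback.fst q₁ (f₂ ≫ q₂)) (pullback.snd q₁ (f₂ ≫ q₂)) q₁ (f₂ ≫ q₂) :=
    IsPullback.of_hasPullback _ _
  generalize pullback.fst q₁ (f₂ ≫ q₂) = s₁ at hZ
  generalize pullback.snd q₁ (f₂ ≫ q₂) = s₂ at hZ
  generalize pullback q₁ (f₂ ≫ q₂) = Z at s₁ s₂ hZ
  have hu : ∃ u : X ⟶ Z, u ≫ s₁ = pX₁ ≫ f₁ ∧ u ≫ s₂ = pX₂ :=
    ⟨hZ.lift (pX₁ ≫ f₁) pX₂ (by simpa using hX.w), hZ.lift_fst _ _ _, hZ.lift_snd _ _ _⟩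
  obtain ⟨u, hu1, hu2⟩ := hu
  have hsq : IsPullback pX₁ u f₁ s₁ := by
    refine IsPullback.of_bot ?_ hu1.symm hZ
    rw [hu2]; exact hX
  haveI : Flat s₂ := MorphismProperty.of_isPullback (P := @Flat) hZ ‹Flat q₁›
  have hP : DerSch.HasTorAmplitudeD u a₁ b₁ ((DCoh.Lpull pX₁).obj (DCoh.toD X₁ E₁)) :=
    hasTorAmplitudeD_lpull_of_isPullback_ti hZ.flip hsq E₁ a₁ b₁ h₁
  have key := fun j hj => isZero_HD_ltensor_of_hasTorAmplitudeD u s₂ pX₂ hu2 E₂ a₂ b₂ K₂ eK₂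
    _ a₁ b₁ hP j hj
  exact ⟨(DerivedCategory.isGE_iff _ _).2 (fun j hj => key j (Or.inl hj)),
    (DerivedCategory.isLE_iff _ _).2 (fun j hj => key j (Or.inr hj))⟩

end Groth.Agent.Lib.Helper1.TIBC
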