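import Mathlib
import Groth.Agent.Lib.Helper1TorO
import Groth.Agent.Lib.Helper1LBC
import Groth.Agent.Lib.Helper1TorD
import Groth.Agent.Lib.Helper1ProjRes
import Groth.Agent.S0973
set_option backward.isDefEq.respectTransparency.types false

/-!
# Glueing flatness in `D(R)` along `R → R_f` and `R → R/f` (helper1)
-/

set_option autoImplicit false
set_option linter.style.haveILetI false
set_option maxHeartbeats 400000
universe u
open CategoryTheory CategoryTheory.Limits MonoidalCategory HomologicalComplex TensorProduct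
attribute [local instance] HasDerivedCategory.standard

namespace Groth.Agent.Lib.Helper1.TQ

open DerivedCategory Groth.Agent.Lib.Helper1.KF Groth.Agent.Lib.Helper1.Tor
  Groth.Agent.Lib.Helper1.DT Groth.Agent.Lib.Helper1.LDer Groth.Agent.Lib.Helper1.TorM
  Groth.Agent.Lib.Helper1.TorN Groth.Agent.Lib.Helper1.TorO

section Ring

variable {R : Type u} [CommRing R]

/-- left term of the long exact sequence for `N ↦ N ⊗ F` -/
theorem exactAt_TC_left_of_shortExact (S : ShortComplex (ModuleCat.{u} R)) (hS : S.ShortExact)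
    (F : DRing.Cx R) (hF : DRing.TermwiseFlat F) (i : ℤ)
    (h2 : ((TC S.X₂).obj F).ExactAt i) (h3 : ((TC S.X₃).obj F).ExactAt (i - 1)) :
    ((TC S.X₁).obj F).ExactAt i := by
  have hT := TCshort_shortExact S hS F hF
  have hex := hT.homology_exact₁ (i - 1) i (by simp)
  rw [HomologicalComplex.exactAt_iff_isZero_homology] at h2 h3 ⊢
  exact hex.isZero_of_both_zeros (h3.eq_of_src _ _) (h2.eq_of_tgt _ _)

/-- the short exact sequence `0 → N' → N → N/N' → 0` -/
lemma shortExact_subtype_mkQ {N : Type u} [AddCommGroup N] [Module R N] (N' : Submodule R N) :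
    (ShortComplex.mk (ModuleCat.ofHom N'.subtype) (ModuleCat.ofHom N'.mkQ) (by
        ext x
        simp)).ShortExact :=
  { exact := by
      rw [ShortComplex.ShortExact.moduleCat_exact_iff_function_exact]
      exact LinearMap.exact_subtype_mkQ N'
    mono_f := (ModuleCat.mono_iff_injective _).2 N'.subtype_injective
    epi_g := (ModuleCat.epi_iff_surjective _).2 N'.mkQ_surjective }

/-- modules killed by a power of `I`, in a fixed degree -/
theorem exactAt_TC_of_pow_smul_eq_zero_of_base (I : Ideal R) (F : Cx R)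
    (hFf : DRing.TermwiseFlat F) (i : ℤ)
    (h : ∀ (N : Type u) [AddCommGroup N] [Module R N], (∀ r ∈ I, ∀ x : N, r • x = 0) →
      ((TC (ModuleCat.of R N)).obj F).ExactAt i) :
    ∀ (k : ℕ) (N : Type u) [AddCommGroup N] [Module R N],
      (∀ r ∈ I ^ k, ∀ x : N, r • x = 0) → ((TC (ModuleCat.of R N)).obj F).ExactAt i := by
  intro k
  induction k with
  | zero =>
    intro N _ _ hN
    have : Subsingleton N := ⟨fun x y => by
      have hx := hN 1 (by simp) x
      have hy := hN 1 (by simp) y
      rw [one_smul] at hx hy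
      rw [hx, hy]⟩
    exact exactAt_TC_of_subsingleton _ F i
  | succ k ih =>
    intro N _ _ hN
    let N' : Submodule R N := I • (⊤ : Submodule R N)
    have h1 : ((TC (ModuleCat.of R N')).obj F).ExactAt i := by
      apply ih N'
      intro r hr x
      apply Subtype.ext
      show r • (x : N) = 0
      refine Submodule.smul_induction_on x.2 ?_ ?_
      · intro s hs y _
        rw [smul_smul]
        exact hN (r * s) (by rw [pow_succ]; exact Ideal.mul_mem_mul hr hs) y
      · intro a b ha hb
        rw [smul_add, ha, hb, add_zero]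
    have h3 : ((TC (ModuleCat.of R (N ⧸ N'))).obj F).ExactAt i := by
      apply h (N ⧸ N')
      intro r hr x
      induction x using Submodule.Quotient.induction_on with
      | _ y =>
        rw [← Submodule.Quotient.mk_smul, Submodule.Quotient.mk_eq_zero]
        exact Submodule.smul_mem_smul hr Submodule.mem_top
    exact exactAt_TC_of_shortExact _ (shortExact_subtype_mkQ N') F hFf i h1 h3

/-- a module all of whose elements are killed by a power of `f` -/
def IsPowTors (f : R) (T : Type u) [AddCommGroup T] [Module R T] : Prop :=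
  ∀ x : T, ∃ k : ℕ, f ^ k • x = 0

/-- a finitely generated `f`-power torsion module is killed by a power of `f` -/
lemma exists_pow_smul_eq_zero_of_fg (f : R) {T : Type u} [AddCommGroup T] [Module R T]
    (T₀ : Submodule R T) (hfg : T₀.FG) (hT : IsPowTors f T) :
    ∃ k : ℕ, ∀ x : T₀, f ^ k • x = 0 := by
  obtain ⟨s, hs⟩ := hfg
  choose kk hkk using hT
  refine ⟨s.sup kk, fun x => ?_⟩
  apply Subtype.ext
  show f ^ (s.sup kk) • (x : T) = 0
  have hx : (x : T) ∈ Submodule.span R (s : Set T) := hs ▸ x.2
  refine Submodule.span_induction ?_ ?_ ?_ ?_ hx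
  · intro y hy
    have hle : kk y ≤ s.sup kk := Finset.le_sup hy
    obtain ⟨d, hd⟩ := Nat.exists_eq_add_of_le hle
    rw [hd, pow_add, mul_comm, mul_smul, hkk y, smul_zero]
  · exact smul_zero _
  · intro a b _ _ ha hb
    rw [smul_add, ha, hb, add_zero]
  · intro r a _ ha
    rw [smul_comm, ha, smul_zero]

/-- `f`-power torsion modules: exactness in a fixed degree from the modules killed by a power of `f` -/
theorem exactAt_TC_of_isPowTors (f : R) (F : Cx R) (hFf : DRing.TermwiseFlat F) (i : ℤ)
    (h : ∀ (k : ℕ) (N : Type u) [AddCommGroup N] [Module R N], (∀ x : N, f ^ k • x = 0) →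
      ((TC (ModuleCat.of R N)).obj F).ExactAt i)
    (T : Type u) [AddCommGroup T] [Module R T] (hT : IsPowTors f T) :
    ((TC (ModuleCat.of R T)).obj F).ExactAt i := by
  rw [exactAt_TC_iff _ F (i - 1) i (i + 1) (by lia) rfl]
  intro z
  constructor
  · intro hz
    obtain ⟨T₀, hfin, hsub⟩ := TensorProduct.exists_finite_submodule_left_of_setFinite
      ({z} : Set (T ⊗[R] F.X i)) (Set.finite_singleton z)
    obtain ⟨z₀, hz₀⟩ := hsub (Set.mem_singleton z)
    obtain ⟨k, hk⟩ := exists_pow_smul_eq_zero_of_fg f T₀ (Module.Finite.iff_fg.1 hfin) hT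
    have hex := h k T₀ hk
    rw [exactAt_TC_iff _ F (i - 1) i (i + 1) (by lia) rfl] at hex
    have := hFf (i + 1)
    have hinj : Function.Injective (T₀.subtype.rTensor (F.X (i + 1))) :=
      Module.Flat.rTensor_preserves_injective_linearMap _ T₀.subtype_injective
    have hz₀' : ((F.d i (i + 1)).hom.lTensor T₀) z₀ = 0 := by
      apply hinj
      rw [map_zero]
      have hc : (T₀.subtype.rTensor (F.X (i + 1))) (((F.d i (i + 1)).hom.lTensor T₀) z₀) =
          ((F.d i (i + 1)).hom.lTensor T) ((T₀.subtype.rTensor (F.X i)) z₀) := by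
        rw [← LinearMap.comp_apply, ← LinearMap.comp_apply, LinearMap.rTensor_comp_lTensor,
          LinearMap.lTensor_comp_rTensor]
      rw [hc, hz₀]
      exact hz
    obtain ⟨w₀, hw₀⟩ := (hex z₀).1 hz₀'
    refine ⟨(T₀.subtype.rTensor (F.X (i - 1))) w₀, ?_⟩
    rw [← hz₀, ← hw₀, ← LinearMap.comp_apply, ← LinearMap.comp_apply,
      LinearMap.lTensor_comp_rTensor, LinearMap.rTensor_comp_lTensor]
  · rintro ⟨w, rfl⟩
    rw [← LinearMap.comp_apply, ← LinearMap.lTensor_comp]
    have : (F.d i (i + 1)).hom ∘ₗ (F.d (i - 1) i).hom = 0 := by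
      rw [← ModuleCat.hom_comp, F.d_comp_d]
      rfl
    rw [this, LinearMap.lTensor_zero, LinearMap.zero_apply]


/-- dévissage along `N[f^∞] ⊆ N → N_f`: exactness of `N ⊗ F` in negative degrees for all modules
follows from the case of `R_f`-modules and of modules killed by `f` -/
theorem exactAt_TC_of_away_of_quot (f : R) (F : Cx R) (hFf : DRing.TermwiseFlat F)
    (hA : ∀ i : ℤ, i < 0 → ∀ (N : Type u) [AddCommGroup N] [Module R N]
      [Module (Localization.Away f) N] [IsScalarTower R (Localization.Away f) N],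
      ((TC (ModuleCat.of R N)).obj F).ExactAt i)
    (hB : ∀ i : ℤ, i < 0 → ∀ (N : Type u) [AddCommGroup N] [Module R N], (∀ x : N, f • x = 0) →
      ((TC (ModuleCat.of R N)).obj F).ExactAt i)
    (N : Type u) [AddCommGroup N] [Module R N] (i : ℤ) (hi : i < 0) :
    ((TC (ModuleCat.of R N)).obj F).ExactAt i := by
  -- modules killed by a power of `f`
  have hk : ∀ j : ℤ, j < 0 → ∀ (k : ℕ) (N' : Type u) [AddCommGroup N'] [Module R N'],
      (∀ x : N', f ^ k • x = 0) → ((TC (ModuleCat.of R N')).obj F).ExactAt j := by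
    intro j hj k N' _ _ hN'
    refine exactAt_TC_of_pow_smul_eq_zero_of_base (Ideal.span {f}) F hFf j
      (fun N'' _ _ hN'' => hB j hj N'' (fun x => hN'' f (Ideal.mem_span_singleton_self f) x))
      k N' (fun r hr x => ?_)
    rw [Ideal.span_singleton_pow, Ideal.mem_span_singleton'] at hr
    obtain ⟨a, rfl⟩ := hr
    rw [mul_smul, hN' x, smul_zero]
  -- power torsion modules
  have ht : ∀ j : ℤ, j < 0 → ∀ (T : Type u) [AddCommGroup T] [Module R T], IsPowTors f T →
      ((TC (ModuleCat.of R T)).obj F).ExactAt j := fun j hj T _ _ hT =>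
    exactAt_TC_of_isPowTors f F hFf j (hk j hj) T hT
  let Nf := LocalizedModule (Submonoid.powers f) N
  let ℓ : N →ₗ[R] Nf := LocalizedModule.mkLinearMap (Submonoid.powers f) N
  -- the kernel is power torsion
  have hker : IsPowTors f (LinearMap.ker ℓ) := by
    intro x
    obtain ⟨c, hc⟩ := (IsLocalizedModule.eq_zero_iff (Submonoid.powers f) ℓ).1 x.2
    obtain ⟨k, hk'⟩ := c.2
    refine ⟨k, Subtype.ext ?_⟩
    show f ^ k • (x : N) = 0
    have hk'' : f ^ k = (c : R) := hk'
    rw [hk'']
    exact hc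
  -- the cokernel is power torsion
  have hcoker : IsPowTors f (Nf ⧸ LinearMap.range ℓ) := by
    intro y
    induction y using Submodule.Quotient.induction_on with
    | _ y' =>
      obtain ⟨⟨x, c⟩, hx⟩ := IsLocalizedModule.surj (Submonoid.powers f) ℓ y'
      obtain ⟨k, hk'⟩ := c.2
      refine ⟨k, ?_⟩
      rw [← Submodule.Quotient.mk_smul, Submodule.Quotient.mk_eq_zero]
      refine ⟨x, ?_⟩
      have hk'' : f ^ k = (c : R) := hk'
      rw [hk'']
      exact hx.symm
  -- first sequence
  have hS₁ : (ShortComplex.mk (ModuleCat.ofHom (LinearMap.ker ℓ).subtype)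
      (ModuleCat.ofHom ℓ.rangeRestrict) (by
        rw [← ModuleCat.ofHom_comp]
        have h0 : ℓ.rangeRestrict ∘ₗ (LinearMap.ker ℓ).subtype = 0 := by
          ext x
          exact LinearMap.mem_ker.1 x.2
        rw [h0]
        rfl)).ShortExact :=
    { exact := by
        rw [ShortComplex.ShortExact.moduleCat_exact_iff_function_exact]
        intro y
        constructor
        · intro h
          exact ⟨⟨y, congrArg Subtype.val h⟩, rfl⟩
        · rintro ⟨x, rfl⟩
          exact Subtype.ext (show ℓ (x : N) = 0 from LinearMap.mem_ker.1 x.2)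
      mono_f := (ModuleCat.mono_iff_injective _).2 (LinearMap.ker ℓ).subtype_injective
      epi_g := (ModuleCat.epi_iff_surjective _).2 ℓ.surjective_rangeRestrict }
  have hS₂ := shortExact_subtype_mkQ (LinearMap.range ℓ)
  have g1 : ((TC (ModuleCat.of R (LinearMap.range ℓ))).obj F).ExactAt i :=
    exactAt_TC_left_of_shortExact _ hS₂ F hFf i (hA i hi Nf)
      (ht (i - 1) (by omega) _ hcoker)
  exact exactAt_TC_of_shortExact _ hS₁ F hFf i (ht i hi _ hker) g1

section BC

variable {S : Type u} [CommRing S] (φ : R →+* S) [DRing.HasLBaseChange φ]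

/-- if `M ⊗^L S` is a flat module in degree `0`, the base change of a bounded above projective
representative of `M` has tensor-vanishing outside degree `0` -/
lemma torVan_bc_of_iso_inD (P : Cx R) (hPb : DRing.VanishesAbove P 0)
    (hPp : ∀ k : ℤ, Module.Projective R (P.X k)) (M : Dual.D R) (e : Q.obj P ≅ M)
    (N₀ : Type u) [AddCommGroup N₀] [Module S N₀] [Module.Flat S N₀]
    (e₂ : (DRing.LBaseChange φ).obj M ≅ Dual.inD S N₀) :
    TorVan ((bcCx φ).obj P) 0 0 := by
  haveI : P.IsKProjective := isKProjective_of_vanishesAbove P 0 hPb hPp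
  have hPf : DRing.TermwiseFlat P := fun k => by
    have := hPp k
    infer_instance
  let E : Cx S := (HomologicalComplex.single (ModuleCat.{u} S) (ComplexShape.up ℤ) 0).obj
    (ModuleCat.of S N₀)
  refine torVan_of_iso _ E 0 (vanishesAbove_bc φ P 0 hPb) (termwiseFlat_bc φ P hPf) 0 0 ?_ ?_ ?_
  · intro i hi
    exact HomologicalComplex.isZero_single_obj_X (ComplexShape.up ℤ) 0 _ i (by omega)
  · intro i
    by_cases h : i = 0
    · subst h
      exact Module.Flat.of_linearEquiv
        (HomologicalComplex.singleObjXSelf (ComplexShape.up ℤ) 0 (ModuleCat.of S N₀)).toLinearEquiv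
    · have hz : IsZero (E.X i) := HomologicalComplex.isZero_single_obj_X (ComplexShape.up ℤ) 0 _ i h
      have := ModuleCat.subsingleton_of_isZero hz
      infer_instance
  · exact ((DerivedCategory.singleFunctorIsoCompQ (ModuleCat.{u} S) 0).app _).symm ≪≫ e₂.symm ≪≫
      (DRing.LBaseChange φ).mapIso e.symm ≪≫ lbcIso φ P

omit [DRing.HasLBaseChange φ] in
/-- modules over `S`, viewed over `R` -/
lemma exactAt_TC_of_torVan_bc (P : Cx R) (a b : ℤ) (h : TorVan ((bcCx φ).obj P) a b)
    (N : Type u) [AddCommGroup N] [Module R N] [Module S N]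
    (hsm : ∀ (r : R) (x : N), φ r • x = r • x) (i : ℤ) (hi : i < a ∨ b < i) :
    ((TC (ModuleCat.of R N)).obj P).ExactAt i := by
  have h2 := exactAt_TC_restrict_of_exactAt_TC_ext φ (ModuleCat.of S N) P i
    (h (ModuleCat.of S N) i hi)
  have hsm' : ∀ (r : R) (x : (ModuleCat.restrictScalars φ).obj (ModuleCat.of S N)),
      r • x = φ r • (show N from x) := fun r x => rfl
  let l : (ModuleCat.restrictScalars φ).obj (ModuleCat.of S N) →ₗ[R] N :=
    { toFun := fun x => x
      map_add' := fun _ _ => rfl
      map_smul' := fun r x => by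
        rw [hsm' r x]
        exact hsm r x }
  let e : (ModuleCat.restrictScalars φ).obj (ModuleCat.of S N) ≅ ModuleCat.of R N :=
    LinearEquiv.toModuleIso (LinearEquiv.ofBijective l ⟨fun _ _ h => h, fun x => ⟨x, rfl⟩⟩)
  exact exactAt_TC_of_iso e P i h2

end BC

/-- S12899 -/
theorem exists_flat_inD_iso_of_away_and_quotient (f : R) (M : Dual.D R)
    [DRing.HasLBaseChange (algebraMap R (Localization.Away f))]
    [DRing.HasLBaseChange (Ideal.Quotient.mk (Ideal.span ({f} : Set R)))]
    (h1 : ∀ i : ℤ, 0 < i → Subsingleton (Dual.HD R M i))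
    (h2 : ∃ (N : Type u) (_ : AddCommGroup N) (_ : Module (Localization.Away f) N),
      Module.Flat (Localization.Away f) N ∧
        Nonempty ((DRing.LBaseChange (algebraMap R (Localization.Away f))).obj M ≅
          Dual.inD (Localization.Away f) N))
    (h3 : ∃ (N : Type u) (_ : AddCommGroup N) (_ : Module (R ⧸ Ideal.span ({f} : Set R)) N),
      Module.Flat (R ⧸ Ideal.span ({f} : Set R)) N ∧
        Nonempty ((DRing.LBaseChange (Ideal.Quotient.mk (Ideal.span ({f} : Set R)))).obj M ≅
          Dual.inD (R ⧸ Ideal.span ({f} : Set R)) N)) :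
    ∃ (N : Type u) (_ : AddCommGroup N) (_ : Module R N), Module.Flat R N ∧
      Nonempty (M ≅ Dual.inD R N) := by
  obtain ⟨N₂, _, _, hN₂, ⟨e₂⟩⟩ := h2
  obtain ⟨N₃, _, _, hN₃, ⟨e₃⟩⟩ := h3
  haveI hle : M.IsLE 0 := (DerivedCategory.isLE_iff M 0).2 (fun i hi => by
    have := h1 i hi
    exact ModuleCat.isZero_of_subsingleton _)
  obtain ⟨P, hPle, hPproj, ⟨e⟩⟩ := Groth.Agent.Lib.Helper1.ProjRes.exists_iso_Q_proj M 0
  have hPb : DRing.VanishesAbove P 0 := fun i hi => P.isZero_of_isStrictlyLE 0 i hi
  have hPp : ∀ k : ℤ, Module.Projective R (P.X k) := fun k => by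
    have := hPproj k
    exact ModuleCat.projective_of_module_projective _
  have hPf : DRing.TermwiseFlat P := fun k => by
    have := hPp k
    infer_instance
  have tv₂ := torVan_bc_of_iso_inD (algebraMap R (Localization.Away f)) P hPb hPp M e N₂ e₂
  have tv₃ := torVan_bc_of_iso_inD (Ideal.Quotient.mk (Ideal.span ({f} : Set R))) P hPb hPp M e
    N₃ e₃
  have hTV : TorVan P 0 0 := by
    intro N i hi
    rcases hi with hi | hi
    · refine exactAt_TC_of_away_of_quot f P hPf (fun j hj N' _ _ _ _ => ?_)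
        (fun j hj N' _ _ hN' => ?_) N i hi
      · exact exactAt_TC_of_torVan_bc (algebraMap R (Localization.Away f)) P 0 0 tv₂ N'
          (fun r x => algebraMap_smul (Localization.Away f) r x) j (Or.inl hj)
      · have htors : Module.IsTorsionBySet R N' (Ideal.span ({f} : Set R) : Set R) := by
          intro x a
          obtain ⟨b, hb⟩ := Ideal.mem_span_singleton'.1 a.2
          show (a : R) • x = 0
          rw [← hb, mul_smul, hN' x, smul_zero]
        letI : Module (R ⧸ Ideal.span ({f} : Set R)) N' := Module.IsTorsionBySet.module htors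
        exact exactAt_TC_of_torVan_bc (Ideal.Quotient.mk (Ideal.span ({f} : Set R))) P 0 0 tv₃ N'
          (fun r x => Module.IsTorsionBySet.mk_smul htors r x) j (Or.inl hj)
    · exact exactAt_of_isZero_X _ i ((T N).map_isZero (hPb i hi))
  -- conclusion
  obtain ⟨E, hE, hEf, ⟨eE⟩⟩ := hasTorAmp_of_torVan P 0 hPb hPf 0 0 hTV
  haveI : E.IsStrictlyGE 0 := (CochainComplex.isStrictlyGE_iff E 0).2 (fun i hi => hE i (Or.inl hi))
  haveI : E.IsStrictlyLE 0 := (CochainComplex.isStrictlyLE_iff E 0).2 (fun i hi => hE i (Or.inr hi))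
  obtain ⟨M', ⟨eM'⟩⟩ := CochainComplex.exists_iso_single E 0
  have eX : E.X 0 ≅ M' := (HomologicalComplex.eval _ _ 0).mapIso eM' ≪≫
    HomologicalComplex.singleObjXSelf (ComplexShape.up ℤ) 0 M'
  have hflat : Module.Flat R M' := by
    have := hEf 0
    exact Module.Flat.of_linearEquiv eX.toLinearEquiv.symm
  exact ⟨M', inferInstance, inferInstance, hflat, ⟨e.symm ≪≫ eE.symm ≪≫ Q.mapIso eM' ≪≫
    ((DerivedCategory.singleFunctorIsoCompQ (ModuleCat.{u} R) 0).app M').symm⟩⟩

end Ring

end Groth.Agent.Lib.Helper1.TQ
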