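import Mathlib
import Groth.Agent.Lib.Helper1TQ14
import Groth.Agent.Lib.Helper1TorH
import Groth.Agent.S2380
set_option backward.isDefEq.respectTransparency.types false

/-!
# Glueing flatness of a module along `R → R_{f_i}` and `R → R/(f_1, …, f_r)` (helper1)
-/

set_option autoImplicit false
set_option linter.style.haveILetI false
set_option maxHeartbeats 400000
universe u
open CategoryTheory CategoryTheory.Limits MonoidalCategory HomologicalComplex TensorProduct
attribute [local instance] HasDerivedCategory.standard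

namespace Groth.Agent.Lib.Helper1.TQ

open DerivedCategory Groth.Agent.Lib.Helper1.KF Groth.Agent.Lib.Helper1.Tor
  Groth.Agent.Lib.Helper1.DT Groth.Agent.Lib.Helper1.LDer Groth.Agent.Lib.Helper1.TorM
  Groth.Agent.Lib.Helper1.TorN Groth.Agent.Lib.Helper1.TorO

section Ring

variable {R : Type u} [CommRing R]

/-- exactness of `T ⊗ F` in a fixed degree can be checked on the finitely generated submodules
of `T` -/
theorem exactAt_TC_of_forall_fg (F : Cx R) (hFf : DRing.TermwiseFlat F) (i : ℤ)
    (T : Type u) [AddCommGroup T] [Module R T]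
    (h : ∀ T₀ : Submodule R T, T₀.FG → ((TC (ModuleCat.of R T₀)).obj F).ExactAt i) :
    ((TC (ModuleCat.of R T)).obj F).ExactAt i := by
  rw [exactAt_TC_iff _ F (i - 1) i (i + 1) (by lia) rfl]
  intro z
  constructor
  · intro hz
    obtain ⟨T₀, hfin, hsub⟩ := TensorProduct.exists_finite_submodule_left_of_setFinite
      ({z} : Set (T ⊗[R] F.X i)) (Set.finite_singleton z)
    obtain ⟨z₀, hz₀⟩ := hsub (Set.mem_singleton z)
    have hex := h T₀ (Module.Finite.iff_fg.1 hfin)
    rw [exactAt_TC_iff _ F (i - 1) i (i + 1) (by lia) rfl] at hex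
    have := hFf (i + 1)
    have hinj : Function.Injective (T₀.subtype.rTensor (F.X (i + 1))) :=
      Module.Flat.rTensor_preserves_injective_linearMap _ T₀.subtype_injective
    have hz₀' : ((F.d i (i + 1)).hom.lTensor T₀) z₀ = 0 := by
      apply hinj
      rw [map_zero]
      have hc : (T₀.subtype.rTensor (F.X (i + 1))) (((F.d i (i + 1)).hom.lTensor T₀) z₀) =
          ((F.d i (i + 1)).hom.lTensor T) ((T₀.subtype.rTensor (F.X i)) z₀) := by
        rw [← LinearMap.comp_apply, ← LinearMap.comp_apply, LinearMap.rTensor_comp_lTensor,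
          LinearMap.lTensor_comp_rTensor]
      rw [hc, hz₀]
      exact hz
    obtain ⟨w₀, hw₀⟩ := (hex z₀).1 hz₀'
    refine ⟨(T₀.subtype.rTensor (F.X (i - 1))) w₀, ?_⟩
    rw [← hz₀, ← hw₀, ← LinearMap.comp_apply, ← LinearMap.comp_apply,
      LinearMap.lTensor_comp_rTensor, LinearMap.rTensor_comp_lTensor]
  · rintro ⟨w, rfl⟩
    rw [← LinearMap.comp_apply, ← LinearMap.lTensor_comp]
    have : (F.d i (i + 1)).hom ∘ₗ (F.d (i - 1) i).hom = 0 := by
      rw [← ModuleCat.hom_comp, F.d_comp_d]
      rfl
    rw [this, LinearMap.lTensor_zero, LinearMap.zero_apply]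

/-- the elements `f i`, `i < j`, act locally nilpotently on `T` -/
def TorsUpTo {r : ℕ} (f : Fin r → R) (j : ℕ) (T : Type u) [AddCommGroup T] [Module R T] : Prop :=
  ∀ x : T, ∀ i : Fin r, i.val < j → ∃ k : ℕ, f i ^ k • x = 0

/-- a finitely generated module on which all `f i` act locally nilpotently is killed by a power of
the ideal they generate -/
lemma exists_pow_smul_eq_zero_of_torsUpTo {r : ℕ} (f : Fin r → R) {T : Type u} [AddCommGroup T]
    [Module R T] (hT : TorsUpTo f r T) (T₀ : Submodule R T) (hfg : T₀.FG) :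
    ∃ K : ℕ, ∀ a ∈ Ideal.span (Set.range f) ^ K, ∀ x : T₀, a • x = 0 := by
  have h1 : ∀ i : Fin r, ∃ k : ℕ, ∀ x : T₀, f i ^ k • x = 0 := fun i =>
    exists_pow_smul_eq_zero_of_fg (f i) T₀ hfg (fun x => hT x i i.2)
  have h2 : Ideal.span (Set.range f) ≤ (Module.annihilator R T₀).radical := by
    rw [Ideal.span_le]
    rintro _ ⟨i, rfl⟩
    obtain ⟨k, hk⟩ := h1 i
    exact ⟨k, Module.mem_annihilator.2 hk⟩
  have h3 : (Ideal.span (Set.range f)).FG :=
    Submodule.fg_span (Set.finite_range f)
  obtain ⟨K, hK⟩ := Ideal.exists_pow_le_of_le_radical_of_fg h2 h3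
  exact ⟨K, fun a ha x => Module.mem_annihilator.1 (hK ha) x⟩

/-- base of the dévissage: modules on which all `f i` act locally nilpotently -/
theorem exactAt_TC_of_torsUpTo_top {r : ℕ} (f : Fin r → R) (F : Cx R)
    (hFf : DRing.TermwiseFlat F) (i : ℤ)
    (h : ∀ (N : Type u) [AddCommGroup N] [Module R N],
      (∀ a ∈ Ideal.span (Set.range f), ∀ x : N, a • x = 0) →
        ((TC (ModuleCat.of R N)).obj F).ExactAt i)
    (T : Type u) [AddCommGroup T] [Module R T] (hT : TorsUpTo f r T) :
    ((TC (ModuleCat.of R T)).obj F).ExactAt i := by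
  refine exactAt_TC_of_forall_fg F hFf i T (fun T₀ hfg => ?_)
  obtain ⟨K, hK⟩ := exists_pow_smul_eq_zero_of_torsUpTo f hT T₀ hfg
  exact exactAt_TC_of_pow_smul_eq_zero_of_base (Ideal.span (Set.range f)) F hFf i h K T₀ hK

/-- one step of the dévissage: from `(f_1, …, f_{j+1})`-torsion modules to
`(f_1, …, f_j)`-torsion modules, losing one degree -/
theorem exactAt_TC_of_torsUpTo_step {r : ℕ} (f : Fin r → R) (F : Cx R)
    (hFf : DRing.TermwiseFlat F) (j : ℕ) (hj : j < r) (i : ℤ)
    (hA : ∀ (N : Type u) [AddCommGroup N] [Module R N]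
      [Module (Localization.Away (f ⟨j, hj⟩)) N]
      [IsScalarTower R (Localization.Away (f ⟨j, hj⟩)) N],
      ((TC (ModuleCat.of R N)).obj F).ExactAt i)
    (hT : ∀ (T : Type u) [AddCommGroup T] [Module R T], TorsUpTo f (j + 1) T →
      ((TC (ModuleCat.of R T)).obj F).ExactAt i ∧ ((TC (ModuleCat.of R T)).obj F).ExactAt (i - 1))
    (N : Type u) [AddCommGroup N] [Module R N] (hN : TorsUpTo f j N) :
    ((TC (ModuleCat.of R N)).obj F).ExactAt i := by
  set g : R := f ⟨j, hj⟩ with hg
  let Nf := LocalizedModule (Submonoid.powers g) N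
  let ℓ : N →ₗ[R] Nf := LocalizedModule.mkLinearMap (Submonoid.powers g) N
  -- the kernel is torsion
  have hker : TorsUpTo f (j + 1) (LinearMap.ker ℓ) := by
    intro x i' hi'
    by_cases hlt : i'.val < j
    · obtain ⟨k, hk⟩ := hN (x : N) i' hlt
      exact ⟨k, Subtype.ext hk⟩
    · have hi'j : i' = ⟨j, hj⟩ := Fin.ext (by simp only; omega)
      subst hi'j
      obtain ⟨c, hc⟩ := (IsLocalizedModule.eq_zero_iff (Submonoid.powers g) ℓ).1 x.2
      obtain ⟨k, hk'⟩ := c.2
      refine ⟨k, Subtype.ext ?_⟩
      show g ^ k • (x : N) = 0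
      have hk'' : g ^ k = (c : R) := hk'
      rw [hk'']
      exact hc
  -- the cokernel is torsion
  have hcoker : TorsUpTo f (j + 1) (Nf ⧸ LinearMap.range ℓ) := by
    intro y i' hi'
    induction y using Submodule.Quotient.induction_on with
    | _ y' =>
      obtain ⟨⟨x, c⟩, hx⟩ := IsLocalizedModule.surj (Submonoid.powers g) ℓ y'
      by_cases hlt : i'.val < j
      · obtain ⟨k, hk⟩ := hN x i' hlt
        refine ⟨k, ?_⟩
        rw [← Submodule.Quotient.mk_smul, Submodule.Quotient.mk_eq_zero]
        have h0 : f i' ^ k • y' = 0 := by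
          apply IsLocalizedModule.smul_injective ℓ c
          show c • (f i' ^ k • y') = c • (0 : Nf)
          rw [smul_zero, smul_comm]
          have hx' : c • y' = ℓ x := hx
          rw [hx', ← map_smul, hk, map_zero]
        rw [h0]
        exact Submodule.zero_mem _
      · have hi'j : i' = ⟨j, hj⟩ := Fin.ext (by simp only; omega)
        subst hi'j
        obtain ⟨k, hk'⟩ := c.2
        refine ⟨k, ?_⟩
        rw [← Submodule.Quotient.mk_smul, Submodule.Quotient.mk_eq_zero]
        refine ⟨x, ?_⟩
        have hk'' : g ^ k = (c : R) := hk'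
        rw [hk'']
        exact hx.symm
  -- first sequence
  have hS₁ : (ShortComplex.mk (ModuleCat.ofHom (LinearMap.ker ℓ).subtype)
      (ModuleCat.ofHom ℓ.rangeRestrict) (by
        rw [← ModuleCat.ofHom_comp]
        have h0 : ℓ.rangeRestrict ∘ₗ (LinearMap.ker ℓ).subtype = 0 := by
          ext x
          exact LinearMap.mem_ker.1 x.2
        rw [h0]
        rfl)).ShortExact :=
    { exact := by
        rw [ShortComplex.ShortExact.moduleCat_exact_iff_function_exact]
        intro y
        constructor
        · intro h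
          exact ⟨⟨y, congrArg Subtype.val h⟩, rfl⟩
        · rintro ⟨x, rfl⟩
          exact Subtype.ext (show ℓ (x : N) = 0 from LinearMap.mem_ker.1 x.2)
      mono_f := (ModuleCat.mono_iff_injective _).2 (LinearMap.ker ℓ).subtype_injective
      epi_g := (ModuleCat.epi_iff_surjective _).2 ℓ.surjective_rangeRestrict }
  have hS₂ := shortExact_subtype_mkQ (LinearMap.range ℓ)
  have g1 : ((TC (ModuleCat.of R (LinearMap.range ℓ))).obj F).ExactAt i :=
    exactAt_TC_left_of_shortExact _ hS₂ F hFf i (hA Nf) (hT _ hcoker).2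
  exact exactAt_TC_of_shortExact _ hS₁ F hFf i (hT _ hker).1 g1

/-- the full dévissage -/
theorem exactAt_TC_neg_one_of_away_of_quot {r : ℕ} (f : Fin r → R) (F : Cx R)
    (hFf : DRing.TermwiseFlat F)
    (hA : ∀ (j : Fin r) (i : ℤ), i < 0 → ∀ (N : Type u) [AddCommGroup N] [Module R N]
      [Module (Localization.Away (f j)) N] [IsScalarTower R (Localization.Away (f j)) N],
      ((TC (ModuleCat.of R N)).obj F).ExactAt i)
    (hB : ∀ i : ℤ, -((r : ℤ) + 1) ≤ i → i < 0 → ∀ (N : Type u) [AddCommGroup N] [Module R N],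
      (∀ a ∈ Ideal.span (Set.range f), ∀ x : N, a • x = 0) →
        ((TC (ModuleCat.of R N)).obj F).ExactAt i)
    (N : Type u) [AddCommGroup N] [Module R N] :
    ((TC (ModuleCat.of R N)).obj F).ExactAt (-1) := by
  have key : ∀ d : ℕ, d ≤ r → ∀ (T : Type u) [AddCommGroup T] [Module R T],
      TorsUpTo f (r - d) T → ∀ i : ℤ, -((r : ℤ) + 1 - d) ≤ i → i < 0 →
        ((TC (ModuleCat.of R T)).obj F).ExactAt i := by
    intro d
    induction d with
    | zero =>
      intro _ T _ _ hT i hi1 hi2
      exact exactAt_TC_of_torsUpTo_top f F hFf i (hB i (by push_cast at hi1; omega) hi2) T hT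
    | succ d ih =>
      intro hd T _ _ hT i hi1 hi2
      have hj : r - (d + 1) < r := by omega
      refine exactAt_TC_of_torsUpTo_step f F hFf (r - (d + 1)) hj i
        (fun N' _ _ _ _ => hA ⟨r - (d + 1), hj⟩ i hi2 N') (fun T' _ _ hT' => ?_) T hT
      have hT'' : TorsUpTo f (r - d) T' := by
        have : r - (d + 1) + 1 = r - d := by omega
        rwa [this] at hT'
      push_cast at hi1
      exact ⟨ih (by omega) T' hT'' i (by omega) hi2, ih (by omega) T' hT'' (i - 1) (by omega) (by omega)⟩
  refine key r le_rfl N (fun x i' hi' => ?_) (-1) (by simp) (by norm_num)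
  simp at hi'

/-- a complex of flat modules which is exact in degrees in `(k, a)` and has a flat cokernel in
degree `a` stays exact in these degrees after tensoring with any module -/
theorem exactAt_TC_of_flat_coker (G : Cx R) (hG : DRing.TermwiseFlat G) (a' a : ℤ)
    (ha : a' + 1 = a) {C : Type u} [AddCommGroup C] [Module R C] [Module.Flat R C]
    (p : G.X a →ₗ[R] C) (hp : Function.Surjective p)
    (hex : Function.Exact (G.d a' a).hom p) (k : ℤ)
    (hk : ∀ j : ℤ, k < j → j < a → G.ExactAt j) (N : ModuleCat.{u} R) (j : ℤ) (hj1 : k < j)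
    (hj2 : j < a) : ((TC N).obj G).ExactAt j := by
  subst ha
  have hpflat : Module.Flat R (LinearMap.range p) :=
    Module.Flat.of_linearEquiv (LinearEquiv.ofTop _ (LinearMap.range_eq_top.2 hp))
  have key : ∀ (n : ℕ) (i : ℤ), i + n = a' → k ≤ i →
      Module.Flat R (LinearMap.range (G.d i (i + 1)).hom) := by
    intro n
    induction n with
    | zero =>
      intro i hi _
      obtain rfl : i = a' := by simpa using hi
      have := hG (i + 1)
      exact flat_range_of_exact _ _ hex
    | succ n ih =>
      intro i hi hki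
      have h1 : Module.Flat R (LinearMap.range (G.d (i + 1) (i + 1 + 1)).hom) :=
        ih (i + 1) (by push_cast at hi; omega) (by omega)
      have h2 := (exactAt_iff_fexact G i (i + 1) (i + 1 + 1) rfl rfl).1
        (hk (i + 1) (by omega) (by push_cast at hi; omega))
      have := hG (i + 1)
      exact flat_range_of_exact _ _ h2
  rw [exactAt_TC_iff N G (j - 1) j (j + 1) (by lia) rfl]
  have h1 := (exactAt_iff_fexact G (j - 1) j (j + 1) (by lia) rfl).1 (hk j hj1 hj2)
  by_cases hja : j = a'
  · subst hja
    exact exact_lTensor_of_flat_range _ _ p h1 hex N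
  · have h2 := (exactAt_iff_fexact G j (j + 1) (j + 1 + 1) rfl rfl).1
      (hk (j + 1) (by omega) (by omega))
    have := key (a' - (j + 1)).toNat (j + 1) (by omega) (by omega)
    exact exact_lTensor_of_flat_range _ _ _ h1 h2 N

section BC2

variable {S : Type u} [CommRing S] (φ : R →+* S)

/-- right exactness of extension of scalars -/
lemma exact_extendScalars {X Y Z : ModuleCat.{u} R} (v : X ⟶ Y) (w : Y ⟶ Z)
    (hvw : Function.Exact v.hom w.hom) (hw : Function.Surjective w.hom) :
    Function.Exact ((ModuleCat.extendScalars.{u, u, u} φ).map v).hom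
        ((ModuleCat.extendScalars.{u, u, u} φ).map w).hom ∧
      Function.Surjective ((ModuleCat.extendScalars.{u, u, u} φ).map w).hom := by
  have hzero : v ≫ w = 0 := by
    ext x
    exact hvw.apply_apply_eq_zero x
  let Sc := ShortComplex.mk v w hzero
  have hS : Sc.Exact := (ShortComplex.ShortExact.moduleCat_exact_iff_function_exact Sc).2 hvw
  haveI : Epi Sc.g := (ModuleCat.epi_iff_surjective _).2 hw
  haveI : PreservesFiniteColimits (ModuleCat.extendScalars.{u, u, u} φ) := by
    haveI : PreservesColimitsOfSize.{0, 0} (ModuleCat.extendScalars.{u, u, u} φ) :=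
      (ModuleCat.extendRestrictScalarsAdj φ).leftAdjoint_preservesColimits
    exact PreservesColimitsOfSize.preservesFiniteColimits _
  haveI : (ModuleCat.extendScalars.{u, u, u} φ).Additive :=
    (ModuleCat.extendRestrictScalarsAdj φ).left_adjoint_additive
  have hpf : PreservesFiniteColimits (ModuleCat.extendScalars.{u, u, u} φ) := inferInstance
  have htfae := ((ModuleCat.extendScalars.{u, u, u} φ).preservesFiniteColimits_tfae.out 3 1).1 hpf
  obtain ⟨h1, h2⟩ := htfae Sc ⟨hS, inferInstance⟩
  exact ⟨(ShortComplex.ShortExact.moduleCat_exact_iff_function_exact _).1 h1,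
    (ModuleCat.epi_iff_surjective _).1 h2⟩

/-- base change step: if `P ⊗ S` is exact in degrees in `(k, a)` and the base change of the
cokernel of `P` in degree `a` is flat over `S`, then `N ⊗ P` is exact in these degrees for every
`S`-module `N` -/
theorem exactAt_TC_restrict_of_flat_coker (P : Cx R) (hPf : DRing.TermwiseFlat P) (a' a : ℤ)
    (ha : a' + 1 = a) (M : ModuleCat.{u} R) (ε : P.X a ⟶ M) (hε : Function.Surjective ε.hom)
    (hex : Function.Exact (P.d a' a).hom ε.hom)
    (hflat : Module.Flat S ((ModuleCat.extendScalars.{u, u, u} φ).obj M)) (k : ℤ)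
    (hk : ∀ j : ℤ, k < j → j < a → ((TC (resA φ)).obj P).ExactAt j)
    (N : ModuleCat.{u} S) (j : ℤ) (hj1 : k < j) (hj2 : j < a) :
    ((TC ((ModuleCat.restrictScalars.{u} φ).obj N)).obj P).ExactAt j := by
  apply exactAt_TC_restrict_of_exactAt_TC_ext
  obtain ⟨h1, h2⟩ := exact_extendScalars φ (P.d a' a) ε hex hε
  exact exactAt_TC_of_flat_coker ((DTen.extCx φ).obj P) (termwiseFlat_bc φ P hPf) a' a ha
    ((ModuleCat.extendScalars.{u, u, u} φ).map ε).hom h2 h1 k
    (fun j' hj1' hj2' => (exactAt_extCx_iff φ P j').2 (hk j' hj1' hj2')) N j hj1 hj2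

end BC2

section Balance

/-- balancing of `Tor`: vanishing of Mathlib's `Tor` (which resolves the second variable) gives
exactness of `N ⊗ P` for a K-flat resolution `P` of the first variable -/
theorem exactAt_TC_of_isZero_tor (M N : Type u) [AddCommGroup M] [Module R M] [AddCommGroup N]
    [Module R N] (P : Cx R) (hP : KFlat P) (π : P ⟶ sgl (ModuleCat.of R M)) [QuasiIso π] (q : ℕ)
    (h : IsZero (((Tor (ModuleCat.{u} R) (q + 1)).obj (ModuleCat.of R M)).obj
      (ModuleCat.of R N))) :
    ((TC (ModuleCat.of R N)).obj P).ExactAt (-((q + 1 : ℕ) : ℤ)) := by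
  let QN := ProjectiveResolution.of (ModuleCat.of R N)
  have h0 : ((TC (ModuleCat.of R M)).obj QN.cochainComplex).ExactAt (-((q + 1 : ℕ) : ℤ)) :=
    exactAt_TC_of_subsingleton_tor M N QN q (ModuleCat.subsingleton_of_isZero h)
  have hF : KFlat QN.cochainComplex := kflat_of_isKProjective _
  let πN : QN.cochainComplex ⟶ sgl (ModuleCat.of R N) := QN.π'
  haveI : QuasiIso πN := inferInstanceAs (QuasiIso QN.π')
  have q1 : QuasiIso (πN ▷ P) := quasiIso_whiskerRight_of_kflat πN P hP
  have q2 : QuasiIso (π ▷ QN.cochainComplex) := quasiIso_whiskerRight_of_kflat π _ hF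
  have i1 : IsIso (Q.map (πN ▷ P)) := (DerivedCategory.isIso_Q_map_iff_quasiIso (φ := πN ▷ P)).2 q1
  have i2 : IsIso (Q.map (π ▷ QN.cochainComplex)) :=
    (DerivedCategory.isIso_Q_map_iff_quasiIso (φ := π ▷ QN.cochainComplex)).2 q2
  let e : Q.obj ((TC (ModuleCat.of R M)).obj QN.cochainComplex) ≅
      Q.obj ((TC (ModuleCat.of R N)).obj P) :=
    Q.mapIso (singleTensorIso (ModuleCat.of R M) QN.cochainComplex) ≪≫
      (asIso (Q.map (π ▷ QN.cochainComplex))).symm ≪≫
      Q.mapIso (swapIso P QN.cochainComplex) ≪≫ asIso (Q.map (πN ▷ P)) ≪≫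
      Q.mapIso (singleTensorIso (ModuleCat.of R N) P).symm
  exact exactAt_of_Q_iso e _ h0

end Balance

section Main

variable {S : Type u} [CommRing S] (φ : R →+* S)

/-- modules over `S`, viewed over `R`: exactness of `N ⊗ P` from flatness of the base change of
the cokernel -/
theorem exactAt_TC_of_flat_coker_bc (P : Cx R) (hPf : DRing.TermwiseFlat P) (a' a : ℤ)
    (ha : a' + 1 = a) (M : ModuleCat.{u} R) (ε : P.X a ⟶ M) (hε : Function.Surjective ε.hom)
    (hex : Function.Exact (P.d a' a).hom ε.hom)
    (hflat : Module.Flat S ((ModuleCat.extendScalars.{u, u, u} φ).obj M)) (k : ℤ)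
    (hk : ∀ j : ℤ, k < j → j < a → ((TC (resA φ)).obj P).ExactAt j)
    (N : Type u) [AddCommGroup N] [Module R N] [Module S N]
    (hsm : ∀ (r : R) (x : N), φ r • x = r • x) (j : ℤ) (hj1 : k < j) (hj2 : j < a) :
    ((TC (ModuleCat.of R N)).obj P).ExactAt j := by
  have h2 := exactAt_TC_restrict_of_flat_coker φ P hPf a' a ha M ε hε hex hflat k hk
    (ModuleCat.of S N) j hj1 hj2
  have hsm' : ∀ (r : R) (x : (ModuleCat.restrictScalars φ).obj (ModuleCat.of S N)),
      r • x = φ r • (show N from x) := fun r x => rfl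
  let l : (ModuleCat.restrictScalars φ).obj (ModuleCat.of S N) →ₗ[R] N :=
    { toFun := fun x => x
      map_add' := fun _ _ => rfl
      map_smul' := fun r x => by
        rw [hsm' r x]
        exact hsm r x }
  let e : (ModuleCat.restrictScalars φ).obj (ModuleCat.of S N) ≅ ModuleCat.of R N :=
    LinearEquiv.toModuleIso (LinearEquiv.ofBijective l ⟨fun _ _ h => h, fun x => ⟨x, rfl⟩⟩)
  exact exactAt_TC_of_iso e P j h2

end Main

/-- flatness of the extension of scalars along `algebraMap` from flatness of the tensor product -/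
lemma flat_extendScalars_of_flat_tensor {S : Type u} [CommRing S] [Algebra R S]
    (M M' : ModuleCat.{u} R) (e : M' ≅ M) (h : Module.Flat S (S ⊗[R] M)) :
    Module.Flat S ((ModuleCat.extendScalars.{u, u, u} (algebraMap R S)).obj M') := by
  have e1 := ((ModuleCat.extendScalars.{u, u, u} (algebraMap R S)).mapIso e).toLinearEquiv
  exact Module.Flat.of_linearEquiv (e1.trans (Groth.Agent.S2380.bridge R S M))

/-- S6377 -/
theorem flat_of_flat_away_of_flat_quot_of_tor (M : Type u) [AddCommGroup M] [Module R M] {r : ℕ}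
    (f : Fin r → R)
    (h1 : ∀ i, Module.Flat (Localization.Away (f i)) (LocalizedModule (Submonoid.powers (f i)) M))
    (h2 : Module.Flat (R ⧸ Ideal.span (Set.range f)) ((R ⧸ Ideal.span (Set.range f)) ⊗[R] M))
    (h3 : ∀ i : ℕ, 1 ≤ i → i ≤ r + 1 →
      IsZero (((Tor (ModuleCat.{u} R) i).obj (ModuleCat.of R M)).obj
        (ModuleCat.of R (R ⧸ Ideal.span (Set.range f))))) :
    Module.Flat R M := by
  let RM := ProjectiveResolution.of (ModuleCat.of R M)
  let P : Cx R := RM.cochainComplex
  have hPK : KFlat P := kflat_of_isKProjective P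
  have hPf : DRing.TermwiseFlat P := fun k => by
    have : Module.Projective R (P.X k) :=
      (IsProjective.iff_projective (P.X k)).2 (inferInstanceAs (Projective (RM.cochainComplex.X k)))
    infer_instance
  let π : P ⟶ sgl (ModuleCat.of R M) := RM.π'
  haveI : QuasiIso π := inferInstanceAs (QuasiIso RM.π')
  -- the cokernel of `P` in degree `0`
  let C : ModuleCat.{u} R := P.opcycles 0
  let ε : P.X 0 ⟶ C := P.pOpcycles 0
  have hε : Function.Surjective ε.hom := (ModuleCat.epi_iff_surjective _).1 inferInstance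
  have hex : Function.Exact (P.d (0 - 1) 0).hom ε.hom := fexact_d_pOpcycles P 0
  have hz1 : IsZero (P.X 1) := RM.cochainComplex.isZero_of_isStrictlyLE 0 1 (by norm_num)
  haveI : IsIso (P.homologyι 0) :=
    HomologicalComplex.isIso_homologyι P 0 1 (by simp) (hz1.eq_of_tgt _ _)
  let eC : C ≅ ModuleCat.of R M :=
    (asIso (P.homologyι 0)).symm ≪≫ isoOfQuasiIsoAt π 0 ≪≫
      HomologicalComplex.singleObjHomologySelfIso (ComplexShape.up ℤ) 0 (ModuleCat.of R M)
  -- exactness of `P` in negative degrees
  have hPex : ∀ j : ℤ, j < 0 → P.ExactAt j := by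
    have : RM.cochainComplex.IsGE 0 := inferInstance
    exact (CochainComplex.isGE_iff P 0).1 this
  -- tensoring with a flat module
  have hflatTC : ∀ (F : ModuleCat.{u} R) [Module.Flat R F] (j : ℤ), j < 0 →
      ((TC F).obj P).ExactAt j := by
    intro F _ j hj
    rw [exactAt_TC_iff F P (j - 1) j (j + 1) (by lia) rfl]
    exact Module.Flat.lTensor_exact F
      ((exactAt_iff_fexact P (j - 1) j (j + 1) (by lia) rfl).1 (hPex j hj))
  -- modules over the localizations
  have hA : ∀ (j : Fin r) (i : ℤ), i < 0 → ∀ (N : Type u) [AddCommGroup N] [Module R N]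
      [Module (Localization.Away (f j)) N] [IsScalarTower R (Localization.Away (f j)) N],
      ((TC (ModuleCat.of R N)).obj P).ExactAt i := by
    intro j i hi N _ _ _ _
    have hfl : Module.Flat (Localization.Away (f j))
        ((Localization.Away (f j)) ⊗[R] M) := by
      have hbc := IsLocalizedModule.isBaseChange (Submonoid.powers (f j)) (Localization.Away (f j))
        (LocalizedModule.mkLinearMap (Submonoid.powers (f j)) M)
      have := h1 j
      exact Module.Flat.of_linearEquiv hbc.equiv
    have hflat := flat_extendScalars_of_flat_tensor (S := Localization.Away (f j))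
      (ModuleCat.of R M) C eC hfl
    haveI : Module.Flat R (resA (algebraMap R (Localization.Away (f j)))) := by
      have : Module.Flat R (Localization.Away (f j)) :=
        IsLocalization.flat (Localization.Away (f j)) (Submonoid.powers (f j))
      let l : resA (algebraMap R (Localization.Away (f j))) →ₗ[R] Localization.Away (f j) :=
        { toFun := fun x => x
          map_add' := fun _ _ => rfl
          map_smul' := fun a x => by
            show (algebraMap R (Localization.Away (f j)) a) • (show Localization.Away (f j) from x) =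
              a • (show Localization.Away (f j) from x)
            rw [algebraMap_smul] }
      exact Module.Flat.of_linearEquiv
        (LinearEquiv.ofBijective l ⟨fun _ _ h => h, fun x => ⟨x, rfl⟩⟩)
    exact exactAt_TC_of_flat_coker_bc (algebraMap R (Localization.Away (f j))) P hPf (0 - 1) 0
      (by norm_num) C ε hε hex hflat (i - 1)
      (fun j' _ hj' => hflatTC (resA (algebraMap R (Localization.Away (f j)))) j' hj') N
      (fun a x => algebraMap_smul (Localization.Away (f j)) a x) i (by omega) hi
  -- modules killed by the ideal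
  have hB : ∀ i : ℤ, -((r : ℤ) + 1) ≤ i → i < 0 → ∀ (N : Type u) [AddCommGroup N] [Module R N],
      (∀ a ∈ Ideal.span (Set.range f), ∀ x : N, a • x = 0) →
        ((TC (ModuleCat.of R N)).obj P).ExactAt i := by
    intro i hi1 hi2 N _ _ hN
    have hflat := flat_extendScalars_of_flat_tensor (S := R ⧸ Ideal.span (Set.range f))
      (ModuleCat.of R M) C eC h2
    have htors : Module.IsTorsionBySet R N (Ideal.span (Set.range f) : Set R) := by
      intro x a
      exact hN a a.2 x
    letI : Module (R ⧸ Ideal.span (Set.range f)) N := Module.IsTorsionBySet.module htors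
    refine exactAt_TC_of_flat_coker_bc (Ideal.Quotient.mk (Ideal.span (Set.range f))) P hPf
      (0 - 1) 0 (by norm_num) C ε hε hex hflat (-((r : ℤ) + 1) - 1) (fun j' hj1' hj2' => ?_) N
      (fun a x => Module.IsTorsionBySet.mk_smul htors a x) i (by omega) hi2
    refine exactAt_TC_of_iso (quotIso (Ideal.span (Set.range f))) P j' ?_
    obtain ⟨q, hq⟩ : ∃ q : ℕ, j' = -((q + 1 : ℕ) : ℤ) := ⟨(-j' - 1).toNat, by push_cast; omega⟩
    rw [hq]
    refine exactAt_TC_of_isZero_tor M (R ⧸ Ideal.span (Set.range f)) P hPK π q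
      (h3 (q + 1) (by omega) ?_)
    push_cast at hq
    omega
  have hmain := exactAt_TC_neg_one_of_away_of_quot f P hPf hA hB
  -- conclusion
  have hCflat : Module.Flat R C := by
    have := hPf 0
    refine flat_of_forall_exact_lTensor (P.d (0 - 1 - 1) (0 - 1)).hom (P.d (0 - 1) 0).hom ε.hom hε
      hex ?_ (fun I => ?_)
    · exact (exactAt_iff_fexact P (0 - 1 - 1) (0 - 1) 0 (by norm_num) (by norm_num)).1
        (hPex (0 - 1) (by norm_num))
    · have h := hmain (R ⧸ I)
      have e : (-1 : ℤ) = 0 - 1 := by norm_num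
      rw [e, exactAt_TC_iff _ P (0 - 1 - 1) (0 - 1) 0 (by norm_num) (by norm_num)] at h
      exact h
  exact Module.Flat.of_linearEquiv eC.toLinearEquiv.symm

end Ring

end Groth.Agent.Lib.Helper1.TQ
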