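import Mathlib
import Groth.Agent.Lib.Helper1LDer2
import Groth.Agent.Lib.Helper17SumPush2
import Groth.Agent.Lib.Helper21DCoprod
set_option backward.isDefEq.respectTransparency.types false

/-!
# The derived tensor product `- ⊗^L D` commutes with coproducts (helper1)
-/

set_option autoImplicit false
set_option linter.style.haveILetI false
set_option linter.unusedSectionVars false
set_option maxHeartbeats 400000
universe u
open CategoryTheory CategoryTheory.Limits HomologicalComplex

attribute [local instance] HasDerivedCategory.standard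

namespace Groth.Agent.Lib.Helper1.TensSum

open Groth.Agent.Lib.Helper1.BKF Groth.Agent.Lib.Helper21.ModTensor3
  Groth.Agent.Lib.Helper21.ModTensor5 Groth.Agent.Lib.Helper21.DCoprod
  Groth.Agent.Lib.Helper17.SumPush

section site

variable {C : Type u} [SmallCategory C] {J : GrothendieckTopology C} {O : Sheaf J CommRingCat.{u}}

/-- `Tot(- ⊗ D) ≅ Tot(D ⊗ -)` as functors -/
noncomputable def trIsoTl (D : CochainComplex (ModSite.Mod O) ℤ) :
    TR (ModSite.tensorBi O) D ≅ TL (ModSite.tensorBi O) D :=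
  NatIso.ofComponents (fun K => symIso (ModSite.tensorBi O) (brd O) K D)
    (fun {K K'} f => symIso_hom_naturality (ModSite.tensorBi O) (brd O) f (𝟙 D))

/-- `Tot(- ⊗ D)` preserves coproducts of complexes -/
noncomputable def isColimitTRCofan (D : CochainComplex (ModSite.Mod O) ℤ) {ι : Type u}
    (P : ι → CochainComplex (ModSite.Mod O) ℤ) (c : Cofan P) (hc : IsColimit c) :
    IsColimit ((TR (ModSite.tensorBi O) D).mapCocone c) := by
  haveI := isGrothendieckAbelian O
  have h1 : IsColimit ((TL (ModSite.tensorBi O) D).mapCocone c) :=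
    HomologicalComplex.isColimitOfEval _ _ (fun n =>
      isColimitTL (ModSite.tensorBi O) D (Discrete.functor P) c
        (fun q => isColimitOfPreserves _ hc) n)
  exact IsColimit.mapCoconeEquiv (trIsoTl D).symm h1

/-- `- ⊗^L D` commutes with coproducts in `D(O)` -/
theorem isIso_sigmaDesc_LTensorCx (D : CochainComplex (ModSite.Mod O) ℤ)
    [ModSite.HasLTensorCx D] {ι : Type u} (Cs : ι → DCoh.DMod (ModSite.ringSh O))
    [HasCoproduct Cs] [HasCoproduct (fun i => (ModSite.LTensorCx D).obj (Cs i))] :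
    IsIso (Sigma.desc (fun i => (ModSite.LTensorCx D).map (Sigma.ι Cs i))) := by
  haveI := isGrothendieckAbelian O
  haveI := hasExactColimitsOfShape_discrete O ι
  suffices hmain : Nonempty (IsColimit (Cofan.mk ((ModSite.LTensorCx D).obj (∐ Cs))
      (fun i => (ModSite.LTensorCx D).map (Sigma.ι Cs i)))) from
    isIso_sigmaDesc_of_isColimit _ hmain.some
  let W := HomologicalComplex.quasiIso (ModSite.Mod O) (ComplexShape.up ℤ)
  let F := ModSite.LTensorCx D
  let α : DerivedCategory.Q ⋙ F ⟶ ModSite.tensorCxQ D :=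
    (ModSite.tensorCxQ D).totalLeftDerivedCounit DerivedCategory.Q W
  obtain ⟨R, ψ, hR⟩ := exists_functorial_kflat_flat_resolution O
  let K₀ : ι → CochainComplex (ModSite.Mod O) ℤ := fun i =>
    (DerivedCategory.Q : _ ⥤ DCoh.DMod (ModSite.ringSh O)).objPreimage (Cs i)
  let P : ι → CochainComplex (ModSite.Mod O) ℤ := fun i => R.obj (K₀ i)
  have hP : ∀ i, ModSite.IsKFlat (P i) := fun i => (hR (K₀ i)).1
  haveI : ∀ i, QuasiIso (ψ.app (K₀ i)) := fun i => (hR (K₀ i)).2.2.1
  let e : ∀ i, DerivedCategory.Q.obj (P i) ≅ Cs i := fun i =>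
    asIso (DerivedCategory.Q.map (ψ.app (K₀ i))) ≪≫
      (DerivedCategory.Q : _ ⥤ DCoh.DMod (ModSite.ringSh O)).objObjPreimageIso (Cs i)
  let S : CochainComplex (ModSite.Mod O) ℤ := ∐ P
  let cP : Cofan P := Cofan.mk S (Sigma.ι P)
  have hcP : IsColimit cP := coproductIsCoproduct P
  have hSK : ModSite.IsKFlat S :=
    isKFlat_of_isColimit_discrete (Discrete.functor P) cP hcP (fun j => hP j.as)
  have h1 : IsColimit (Cofan.mk (DerivedCategory.Q.obj S)
      (fun i => DerivedCategory.Q.map (Sigma.ι P i))) :=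
    isColimitQMapCofan (fun i => Sigma.ι P i) hcP
  have h2' : IsColimit ((TR (ModSite.tensorBi O) D).mapCocone cP) := isColimitTRCofan D P cP hcP
  have h2 : IsColimit (Cofan.mk (DerivedCategory.Q.obj ((TR (ModSite.tensorBi O) D).obj S))
      (fun i => DerivedCategory.Q.map ((TR (ModSite.tensorBi O) D).map (Sigma.ι P i)))) :=
    isColimitQMapCofan (fun i => (TR (ModSite.tensorBi O) D).map (Sigma.ι P i))
      (isColimitMapCoconeCofanMkEquiv _ _ _ h2')
  have h1' : IsColimit (Cofan.mk (DerivedCategory.Q.obj S)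
      (fun i => (e i).inv ≫ DerivedCategory.Q.map (Sigma.ι P i))) :=
    isColimitCofanOfIso e (Iso.refl _) (fun i => DerivedCategory.Q.map (Sigma.ι P i)) _
      (fun i => by simp) h1
  let ψS : ∐ Cs ≅ DerivedCategory.Q.obj S :=
    (coproductIsCoproduct Cs).coconePointUniqueUpToIso h1'
  have hψS : ∀ i, Sigma.ι Cs i ≫ ψS.hom =
      (e i).inv ≫ DerivedCategory.Q.map (Sigma.ι P i) := fun i =>
    (coproductIsCoproduct Cs).comp_coconePointUniqueUpToIso_hom h1' ⟨i⟩
  haveI : ∀ i, IsIso (α.app (P i)) := fun i => isIso_counit_of_isKFlat D F α (P i) (hP i)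
  haveI : IsIso (α.app S) := isIso_counit_of_isKFlat D F α S hSK
  refine ⟨isColimitCofanOfIso
    (fun i => (asIso (α.app (P i))).symm ≪≫ F.mapIso (e i))
    ((asIso (α.app S)).symm ≪≫ F.mapIso ψS.symm)
    (fun i => DerivedCategory.Q.map ((TR (ModSite.tensorBi O) D).map (Sigma.ι P i))) _
    (fun i => ?_) h2⟩
  have nat := α.naturality (Sigma.ι P i)
  have e1 : DerivedCategory.Q.map (Sigma.ι P i) ≫ ψS.inv = (e i).hom ≫ Sigma.ι Cs i := by
    rw [Iso.comp_inv_eq, Category.assoc, hψS, Iso.hom_inv_id_assoc]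
  have e2 : DerivedCategory.Q.map ((TR (ModSite.tensorBi O) D).map (Sigma.ι P i)) ≫
      inv (α.app S) = inv (α.app (P i)) ≫ F.map (DerivedCategory.Q.map (Sigma.ι P i)) := by
    rw [IsIso.comp_inv_eq, Category.assoc, IsIso.eq_inv_comp]
    exact nat.symm
  dsimp only [Iso.trans_hom, Iso.symm_hom, asIso_inv, Functor.mapIso_hom, Iso.symm_hom]
  rw [← Category.assoc, e2, Category.assoc, Category.assoc, ← F.map_comp, e1, F.map_comp]

end site

open AlgebraicGeometry in
/-- scheme version -/
theorem isIso_sigmaDesc_LTensorCx_scheme (X : Scheme.{u}) (D : CochainComplex X.Modules ℤ)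
    [DCoh.HasLTensorCx D] {ι : Type u} (Cs : ι → DCoh.D X) [HasCoproduct Cs]
    [HasCoproduct (fun i => (DCoh.LTensorCx D).obj (Cs i))] :
    IsIso (Sigma.desc (fun i => (DCoh.LTensorCx D).map (Sigma.ι Cs i))) := by
  haveI : ModSite.HasLTensorCx (O := X.sheaf) D := ‹DCoh.HasLTensorCx D›
  have h1 : HasCoproduct Cs := inferInstance
  have h2 : HasCoproduct (fun i => (DCoh.LTensorCx D).obj (Cs i)) := inferInstance
  exact @isIso_sigmaDesc_LTensorCx _ _ _ X.sheaf D _ ι Cs h1 h2

end Groth.Agent.Lib.Helper1.TensSum
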