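import Mathlib.AlgebraicGeometry.Morphisms.QuasiSeparated
import Mathlib.AlgebraicGeometry.Morphisms.ClosedImmersion
import Mathlib.AlgebraicGeometry.Morphisms.UniversallyClosed
import Mathlib.AlgebraicGeometry.Morphisms.UniversallyInjective
import Mathlib.AlgebraicGeometry.Morphisms.UniversallyOpen
import Mathlib.AlgebraicGeometry.Morphisms.Separated
import Groth.Prelude.Def_MoreMor

/-!
Helper library (helper1): thickenings (surjective closed immersions) and descent of topological
properties of morphisms along surjective precomposition.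
-/

set_option autoImplicit false
universe u

open CategoryTheory Limits MorphismProperty AlgebraicGeometry

namespace Groth.Agent.Lib.Helper1

variable {X Y Z : Scheme.{u}}

/-- If `i` is surjective and `i ≫ g` is quasi-compact then `g` is quasi-compact. -/
lemma quasiCompact_of_comp_surjective (i : X ⟶ Y) (g : Y ⟶ Z) [Surjective i]
    [QuasiCompact (i ≫ g)] : QuasiCompact g := by
  constructor
  intro U hU hUc
  have h1 : IsCompact ((i ≫ g) ⁻¹' U) := QuasiCompact.isCompact_preimage U hU hUc
  have h2 : g ⁻¹' U = i '' ((i ≫ g) ⁻¹' U) := by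
    ext y
    constructor
    · intro hy
      obtain ⟨x, rfl⟩ := i.surjective y
      exact ⟨x, by simpa using hy, rfl⟩
    · rintro ⟨x, hx, rfl⟩
      simpa using hx
  rw [h2]
  exact h1.image i.continuous

/-- Quasi-separatedness of a subset descends along a surjective quasi-compact morphism. -/
lemma isQuasiSeparated_of_surjective_quasiCompact (p : X ⟶ Y) [Surjective p] [QuasiCompact p]
    {s : Set Y} (h : IsQuasiSeparated (p ⁻¹' s)) : IsQuasiSeparated s := by
  intro U V hUs hU hUc hVs hV hVc
  have h1 : IsCompact (p ⁻¹' U ∩ p ⁻¹' V) :=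
    h _ _ (Set.preimage_mono hUs) (hU.preimage p.continuous)
      (QuasiCompact.isCompact_preimage U hU hUc) (Set.preimage_mono hVs) (hV.preimage p.continuous)
      (QuasiCompact.isCompact_preimage V hV hVc)
  have h2 : U ∩ V = p '' (p ⁻¹' U ∩ p ⁻¹' V) := by
    rw [← Set.preimage_inter, Set.image_preimage_eq _ p.surjective]
  rw [h2]
  exact h1.image p.continuous

/-- If `i` is surjective and quasi-compact and `i ≫ g` is quasi-separated then `g` is
quasi-separated. -/
lemma quasiSeparated_of_comp_surjective (i : X ⟶ Y) (g : Y ⟶ Z) [Surjective i] [QuasiCompact i]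
    [QuasiSeparated (i ≫ g)] : QuasiSeparated g := by
  rw [HasAffineProperty.eq_targetAffineLocally (P := @QuasiSeparated)]
  intro U
  change QuasiSeparatedSpace ↥(g ⁻¹ᵁ U.1)
  refine (isQuasiSeparated_iff_quasiSeparatedSpace _ (g ⁻¹ᵁ U.1).2).mp ?_
  apply isQuasiSeparated_of_surjective_quasiCompact i
  exact (i ≫ g).isQuasiSeparated_preimage (U := U.1) U.2.isQuasiSeparated

/-- A pullback square stays a pullback square after composing the cospan with a monomorphism. -/
lemma isPullback_comp_mono {C : Type*} [Category C] {P X Y W Z : C} {fst : P ⟶ X} {snd : P ⟶ Y}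
    {f : X ⟶ W} {g : Y ⟶ W} (H : IsPullback fst snd f g) (i : W ⟶ Z) [Mono i] :
    IsPullback fst snd (f ≫ i) (g ≫ i) :=
  IsPullback.of_isLimit (PullbackCone.isLimitOfCompMono f g i _ H.isLimit)

/-- If `f` is surjective and `f ≫ g` is universally injective then so is `g`. -/
lemma universallyInjective_of_comp_surjective (f : X ⟶ Y) (g : Y ⟶ Z)
    [UniversallyInjective (f ≫ g)] [Surjective f] : UniversallyInjective g := by
  constructor
  intro X' Y' i₁ i₂ f' H
  have h1 := UniversallyInjective.universally_injective _ _ _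
    ((IsPullback.of_hasPullback i₁ f).paste_horiz H) (f := f ≫ g)
  have h2 : Function.Surjective (pullback.fst i₁ f) :=
    (MorphismProperty.pullback_fst (P := @Surjective) _ _ ‹_›).1
  intro a b hab
  obtain ⟨a', rfl⟩ := h2 a
  obtain ⟨b', rfl⟩ := h2 b
  have : a' = b' := h1 (by simpa using hab)
  rw [this]

/-- If `f ≫ g` is universally injective then so is `f`. -/
lemma universallyInjective_of_comp (f : X ⟶ Y) (g : Y ⟶ Z)
    [UniversallyInjective (f ≫ g)] : UniversallyInjective f := by
  have h := ((tfae_universallyInjective (f ≫ g)).out 0 1).1 ‹UniversallyInjective (f ≫ g)›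
  refine ((tfae_universallyInjective f).out 0 1).2 ?_
  intro K _ g₁ g₂ hg
  apply h K
  simp only [← Category.assoc]
  exact congrArg (· ≫ g) hg

/-- If `f` is surjective and `f ≫ g` is universally open then so is `g`. -/
lemma universallyOpen_of_comp_surjective (f : X ⟶ Y) (g : Y ⟶ Z)
    [UniversallyOpen (f ≫ g)] [Surjective f] : UniversallyOpen g := by
  constructor
  intro X' Y' i₁ i₂ f' H
  have h1 := UniversallyOpen.universally_isOpenMap _ _ _
    ((IsPullback.of_hasPullback i₁ f).paste_horiz H) (f := f ≫ g)
  have h2 : Function.Surjective (pullback.fst i₁ f) :=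
    (MorphismProperty.pullback_fst (P := @Surjective) _ _ ‹_›).1
  refine IsOpenMap.of_comp (Scheme.Hom.continuous _) h2 ?_
  change IsOpenMap (pullback.fst i₁ f ≫ f') at h1
  have e : (⇑f' ∘ ⇑(pullback.fst i₁ f)) = ⇑(pullback.fst i₁ f ≫ f') := by
    funext x
    exact (Scheme.Hom.comp_apply _ _ x).symm
  rw [e]
  exact h1

/-- If `g` is a monomorphism and `f ≫ g` is universally open then so is `f`. -/
lemma universallyOpen_of_comp_mono (f : X ⟶ Y) (g : Y ⟶ Z)
    [UniversallyOpen (f ≫ g)] [Mono g] : UniversallyOpen f := by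
  constructor
  intro X' Y' i₁ i₂ f' H
  exact UniversallyOpen.universally_isOpenMap _ _ _ (isPullback_comp_mono H g) (f := f ≫ g)

/-- A surjective closed immersion is a homeomorphism. -/
lemma isHomeomorph_of_isThickening {X X' : Scheme.{u}} (i : X ⟶ X') (h : MoreMor.IsThickening i) :
    IsHomeomorph i := by
  obtain ⟨hc, hs⟩ := h
  rw [isHomeomorph_iff_isEmbedding_surjective]
  exact ⟨i.isClosedEmbedding.isEmbedding, i.surjective⟩

/-- A thickening is universally open. -/
lemma universallyOpen_of_isThickening {X X' : Scheme.{u}} (i : X ⟶ X') (h : MoreMor.IsThickening i) :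
    UniversallyOpen i := by
  obtain ⟨hc, hs⟩ := h
  constructor
  intro X₁ Y₁ i₁ i₂ f' H
  have h1 : IsClosedImmersion f' := MorphismProperty.of_isPullback H.flip hc
  have h2 : Surjective f' := MorphismProperty.of_isPullback H.flip hs
  exact (isHomeomorph_of_isThickening f' ⟨h1, h2⟩).isOpenMap

end Groth.Agent.Lib.Helper1
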