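import Mathlib
import Groth.Agent.S7077

/-!
# Two-term complexes in the derived category (helper1)

For a cochain complex `E` concentrated in degrees `-1, 0` we produce the distinguished triangle
`E⁰[0] ⟶ E ⟶ E⁻¹[1] ⟶ E⁰[1]` of `D(A)` whose third map is (the shift of) the differential.
-/
set_option autoImplicit false
universe w v u
open CategoryTheory CategoryTheory.Limits CategoryTheory.Pretriangulated

namespace Groth.Agent.Lib.Helper1.TwoTerm

open CochainComplex HomologicalComplex DerivedCategory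

variable {A : Type u} [Category.{v} A] [Abelian A] [HasDerivedCategory.{w} A]

/-- the triangle of a degreewise split short exact sequence of complexes is distinguished in `D(A)` -/
lemma degreewiseSplit_distinguished (S : ShortComplex (CochainComplex A ℤ))
    (σ : ∀ n, (S.map (eval A _ n)).Splitting) :
    Q.mapTriangle.obj (triangleOfDegreewiseSplit S σ) ∈ distTriang (DerivedCategory A) := by
  rw [rotate_distinguished_triangle, rotate_distinguished_triangle]
  refine isomorphic_distinguished _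
    (mappingCone_triangle_distinguished (homOfDegreewiseSplit S σ)) _ ?_
  exact (rotate _).mapIso (Q.mapTriangleRotateIso.app _) ≪≫ Q.mapTriangleRotateIso.app _ ≪≫
    Q.mapTriangle.mapIso (triangleOfDegreewiseSplitRotateRotateIso S σ)

/-- compatibility of the shift isomorphisms of the single functors of `D(A)` and of complexes -/
lemma singleFunctors_shiftIso_hom_app (n a a' : ℤ) (ha' : n + a = a') (X : A) :
    ((DerivedCategory.singleFunctors A).shiftIso n a a' ha').hom.app X =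
      (Q.commShiftIso n).inv.app _ ≫
        Q.map (((CochainComplex.singleFunctors A).shiftIso n a a' ha').hom.app X) := by
  have h := congr_app ((singleFunctorsPostcompQIso A).hom.comm n a a' ha') X
  rw [singleFunctorsPostcompQIso_hom_hom, singleFunctorsPostcompQIso_hom_hom] at h
  simp only [NatTrans.comp_app, NatTrans.id_app, Functor.whiskerRight_app] at h
  erw [Category.comp_id, CategoryTheory.Functor.map_id, Category.id_comp] at h
  exact h.trans (SingleFunctors.postcomp_shiftIso_hom_app _ _ _ _ _ _ _)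

section twoTerm

variable (E : CochainComplex A ℤ) (hE : ∀ i : ℤ, i ≠ -1 → i ≠ 0 → IsZero (E.X i))

/-- the inclusion of the degree `0` term -/
noncomputable def ι : (single A (ComplexShape.up ℤ) 0).obj (E.X 0) ⟶ E :=
  mkHomFromSingle (𝟙 _) (fun k hk => by
    have hk' : (0 : ℤ) + 1 = k := hk
    exact (hE k (by lia) (by lia)).eq_of_tgt _ _)

/-- the projection to the degree `-1` term -/
noncomputable def π : E ⟶ (single A (ComplexShape.up ℤ) (-1)).obj (E.X (-1)) :=
  mkHomToSingle (𝟙 _) (fun i hi => by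
    have hi' : i + 1 = (-1 : ℤ) := hi
    exact (hE i (by lia) (by lia)).eq_of_src _ _)

omit [HasDerivedCategory.{w} A] in
lemma ι_π : ι E hE ≫ π E hE = 0 := by
  apply from_single_hom_ext
  exact (isZero_single_obj_X (ComplexShape.up ℤ) (-1) (E.X (-1)) 0 (by decide)).eq_of_tgt _ _

/-- the short complex `E⁰[0] ⟶ E ⟶ E⁻¹[1]` -/
noncomputable abbrev S : ShortComplex (CochainComplex A ℤ) :=
  ShortComplex.mk (ι E hE) (π E hE) (ι_π E hE)

omit [HasDerivedCategory.{w} A] in
lemma isIso_of_isZero {X Y : A} (f : X ⟶ Y) (hX : IsZero X) (hY : IsZero Y) : IsIso f :=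
  ⟨0, hX.eq_of_src _ _, hY.eq_of_src _ _⟩

omit [HasDerivedCategory.{w} A] in
lemma isIso_ι_f : IsIso ((ι E hE).f 0) := by
  rw [ι, mkHomFromSingle_f]
  infer_instance

omit [HasDerivedCategory.{w} A] in
lemma isIso_π_f : IsIso ((π E hE).f (-1)) := by
  rw [π, mkHomToSingle_f]
  infer_instance

/-- the degreewise splitting -/
noncomputable def σ (n : ℤ) : ((S E hE).map (eval A _ n)).Splitting :=
  if h : n = 0 then
    ShortComplex.Splitting.ofIsIsoOfIsZero _ (by
      subst h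
      exact isIso_ι_f E hE) (by
      subst h
      exact isZero_single_obj_X (ComplexShape.up ℤ) (-1) (E.X (-1)) 0 (by decide))
  else
    ShortComplex.Splitting.ofIsZeroOfIsIso _
      (isZero_single_obj_X (ComplexShape.up ℤ) 0 (E.X 0) n h) (by
      by_cases h1 : n = -1
      · subst h1
        exact isIso_π_f E hE
      · exact isIso_of_isZero _ (hE n h1 h)
          (isZero_single_obj_X (ComplexShape.up ℤ) (-1) (E.X (-1)) n h1))

lemma σ_neg_one_s : (σ E hE (-1)).s = (singleObjXSelf (ComplexShape.up ℤ) (-1) (E.X (-1))).hom := by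
  haveI := isIso_π_f E hE
  have h : (σ E hE (-1)).s = inv ((π E hE).f (-1)) := by
    rw [σ, dif_neg (by decide)]
    rfl
  rw [h]
  apply IsIso.inv_eq_of_hom_inv_id
  rw [π, mkHomToSingle_f, Category.id_comp, Iso.inv_hom_id]

lemma σ_zero_r : (σ E hE 0).r = (singleObjXSelf (ComplexShape.up ℤ) 0 (E.X 0)).inv := by
  haveI := isIso_ι_f E hE
  have h : (σ E hE 0).r = inv ((ι E hE).f 0) := by
    rw [σ, dif_pos rfl]
    rfl
  rw [h]
  apply IsIso.inv_eq_of_hom_inv_id
  rw [ι, mkHomFromSingle_f, Category.comp_id, Iso.hom_inv_id]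

lemma hom_f_neg_one :
    (homOfDegreewiseSplit (S E hE) (σ E hE)).f (-1) =
      (singleObjXSelf (ComplexShape.up ℤ) (-1) (E.X (-1))).hom ≫ E.d (-1) 0 ≫
        (singleObjXSelf (ComplexShape.up ℤ) 0 (E.X 0)).inv := by
  rw [homOfDegreewiseSplit_f]
  have h : (cocycleOfDegreewiseSplit (S E hE) (σ E hE)).1.v (-1) (-1 + 1) rfl =
      (σ E hE (-1)).s ≫ E.d (-1) 0 ≫ (σ E hE 0).r := by
    simp only [cocycleOfDegreewiseSplit, HomComplex.Cocycle.mk_coe, HomComplex.Cochain.mk_v]
    rfl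
  exact h.trans (by rw [σ_neg_one_s, σ_zero_r]; rfl)

lemma hom_comp_shiftIso :
    homOfDegreewiseSplit (S E hE) (σ E hE) ≫
      ((CochainComplex.singleFunctors A).shiftIso 1 (-1) 0 (by simp)).hom.app (E.X 0) =
    (CochainComplex.singleFunctor A (-1)).map (E.d (-1) 0) := by
  apply from_single_hom_ext (j := (-1 : ℤ))
  rw [comp_f, hom_f_neg_one]
  erw [single_map_f_self]
  have key : (singleObjXSelf (ComplexShape.up ℤ) 0 (E.X 0)).inv ≫
      (((CochainComplex.singleFunctors A).shiftIso 1 (-1) 0 (by simp)).hom.app (E.X 0)).f (-1) =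
      (singleObjXSelf (ComplexShape.up ℤ) (-1) (E.X 0)).inv := by
    simp [CochainComplex.singleFunctors, singleObjXSelf, singleObjXIsoOfEq]
  refine (Category.assoc _ _ _).trans ?_
  refine congrArg (fun x => (singleObjXSelf (ComplexShape.up ℤ) (-1) (E.X (-1))).hom ≫ x) ?_
  refine (Category.assoc _ _ _).trans ?_
  exact congrArg (fun x => E.d (-1) 0 ≫ x) key

lemma key_eq :
    (Q.map (homOfDegreewiseSplit (S E hE) (σ E hE)) ≫
        (Q.commShiftIso (1 : ℤ)).hom.app ((single A (ComplexShape.up ℤ) 0).obj (E.X 0))) ≫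
      ((DerivedCategory.singleFunctors A).shiftIso 1 (-1) 0 (by simp)).hom.app (E.X 0) =
    (DerivedCategory.singleFunctor A (-1)).map (E.d (-1) 0) := by
  have hc := singleFunctors_shiftIso_hom_app (A := A) 1 (-1) 0 (by simp) (E.X 0)
  refine (congrArg (fun x => (Q.map (homOfDegreewiseSplit (S E hE) (σ E hE)) ≫
        (Q.commShiftIso (1 : ℤ)).hom.app ((single A (ComplexShape.up ℤ) 0).obj (E.X 0))) ≫ x)
        hc).trans ?_
  dsimp only
  rw [Category.assoc]
  erw [Iso.hom_inv_id_app_assoc]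
  exact (Q.map_comp _ _).symm.trans (congrArg (fun f => Q.map f) (hom_comp_shiftIso E hE))

/-- **The triangle of a two-term complex.** -/
theorem exists_triangle :
    ∃ (i : (DerivedCategory.singleFunctor A 0).obj (E.X 0) ⟶ Q.obj E)
      (p : Q.obj E ⟶ ((DerivedCategory.singleFunctor A 0).obj (E.X (-1)))⟦(1 : ℤ)⟧),
      Triangle.mk i p (((DerivedCategory.singleFunctor A 0).map (E.d (-1) 0))⟦(1 : ℤ)⟧') ∈
        distTriang (DerivedCategory A) ∧ i = Q.map (ι E hE) := by
  obtain ⟨βM, hβM⟩ : ∃ βM : ((DerivedCategory.singleFunctor A 0).obj (E.X (-1)))⟦(1 : ℤ)⟧ ≅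
      (DerivedCategory.singleFunctor A (-1)).obj (E.X (-1)),
      βM = ((DerivedCategory.singleFunctors A).shiftIso 1 (-1) 0 (by simp)).app (E.X (-1)) :=
    ⟨_, rfl⟩
  obtain ⟨βP, hβP⟩ : ∃ βP : ((DerivedCategory.singleFunctor A 0).obj (E.X 0))⟦(1 : ℤ)⟧ ≅
      (DerivedCategory.singleFunctor A (-1)).obj (E.X 0),
      βP = ((DerivedCategory.singleFunctors A).shiftIso 1 (-1) 0 (by simp)).app (E.X 0) :=
    ⟨_, rfl⟩
  obtain ⟨i, hi⟩ : ∃ i : (DerivedCategory.singleFunctor A 0).obj (E.X 0) ⟶ Q.obj E,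
      i = Q.map (ι E hE) := ⟨_, rfl⟩
  obtain ⟨p₀, hp₀⟩ : ∃ p₀ : Q.obj E ⟶ (DerivedCategory.singleFunctor A (-1)).obj (E.X (-1)),
      p₀ = Q.map (π E hE) := ⟨_, rfl⟩
  obtain ⟨δ₀, hδ₀⟩ : ∃ δ₀ : (DerivedCategory.singleFunctor A (-1)).obj (E.X (-1)) ⟶
      ((DerivedCategory.singleFunctor A 0).obj (E.X 0))⟦(1 : ℤ)⟧,
      δ₀ = Q.map (homOfDegreewiseSplit (S E hE) (σ E hE)) ≫
        (Q.commShiftIso (1 : ℤ)).hom.app ((single A (ComplexShape.up ℤ) 0).obj (E.X 0)) :=
    ⟨_, rfl⟩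
  have hT : Triangle.mk i p₀ δ₀ ∈ distTriang (DerivedCategory A) := by
    rw [hi, hp₀, hδ₀]
    exact degreewiseSplit_distinguished (S E hE) (σ E hE)
  have hkey : δ₀ ≫ βP.hom = (DerivedCategory.singleFunctor A (-1)).map (E.d (-1) 0) := by
    rw [hδ₀, hβP]
    exact key_eq E hE
  have hnat : ((DerivedCategory.singleFunctor A 0).map (E.d (-1) 0))⟦(1 : ℤ)⟧' ≫ βP.hom =
      βM.hom ≫ (DerivedCategory.singleFunctor A (-1)).map (E.d (-1) 0) := by
    rw [hβP, hβM]
    exact ((DerivedCategory.singleFunctors A).shiftIso 1 (-1) 0 (by simp)).hom.naturality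
      (E.d (-1) 0)
  refine ⟨i, p₀ ≫ βM.inv, ?_, hi⟩
  refine isomorphic_distinguished _ hT _ ?_
  have c1 : i ≫ 𝟙 (Q.obj E) = 𝟙 ((DerivedCategory.singleFunctor A 0).obj (E.X 0)) ≫ i := by
    rw [Category.comp_id, Category.id_comp]
  have c2 : (p₀ ≫ βM.inv) ≫ βM.hom = 𝟙 (Q.obj E) ≫ p₀ := by
    rw [Category.assoc, Iso.inv_hom_id, Category.comp_id, Category.id_comp]
  have c3 : ((DerivedCategory.singleFunctor A 0).map (E.d (-1) 0))⟦(1 : ℤ)⟧' ≫
      (𝟙 ((DerivedCategory.singleFunctor A 0).obj (E.X 0)))⟦(1 : ℤ)⟧' = βM.hom ≫ δ₀ := by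
    rw [CategoryTheory.Functor.map_id, Category.comp_id, ← cancel_mono βP.hom, hnat,
      Category.assoc, hkey]
  exact Triangle.isoMk _ _ (Iso.refl _) (Iso.refl _) βM c1 c2 c3

end twoTerm

section existence

open Groth.Agent.S14388

/-- a projective cover of `H⁰(K)` lifts to a map `F[0] ⟶ K` which is epi on `H⁰` -/
lemma exists_lift (K : DerivedCategory A) [K.IsLE 0]
    (F : A) [Projective F] (p : F ⟶ (homologyFunctor A 0).obj K) [Epi p] :
    ∃ φ : (DerivedCategory.singleFunctor A 0).obj F ⟶ K, Epi ((homologyFunctor A 0).map φ) := by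
  obtain ⟨π, hπ⟩ : ∃ π : K ⟶ (tt.truncGE 0).obj K, π = (tt.truncGEπ 0).app K := ⟨_, rfl⟩
  have hπiso : IsIso ((homologyFunctor A 0).map π) := by
    rw [hπ]; exact isIso_homology_truncGEπ 0 0 le_rfl K
  have i1 : ((tt.truncGE 0).obj K).IsGE 0 := inferInstance
  have i2 : ((tt.truncGE 0).obj K).IsLE 0 := inferInstance
  obtain ⟨e₀⟩ := Groth.Agent.S0973.iso_single_of_amp ((tt.truncGE 0).obj K) 0
  obtain ⟨ψ, hψ⟩ : ∃ ψ : (DerivedCategory.singleFunctor A 0).obj F ⟶ (tt.truncGE 0).obj K,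
      ψ = (DerivedCategory.singleFunctor A 0).map (p ≫ (homologyFunctor A 0).map π) ≫ e₀.inv :=
    ⟨_, rfl⟩
  have hT := tt.triangleLTGE_distinguished 0 K
  have i0 : ((tt.truncLT 0).obj K).IsLE (-1) :=
    (inferInstance : ((tt.truncLT 0).obj K).IsLE (0 - 1))
  have i3 : (((tt.truncLT 0).obj K)⟦(1 : ℤ)⟧).IsLE (-2) :=
    tt.isLE_shift ((tt.truncLT 0).obj K) (-1) 1 (-2) (by lia)
  obtain ⟨δ₀, hδ₀⟩ : ∃ δ₀ : (tt.truncGE 0).obj K ⟶ ((tt.truncLT 0).obj K)⟦(1 : ℤ)⟧,
      δ₀ = (tt.truncGEδLT 0).app K := ⟨_, rfl⟩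
  have hz : ψ ≫ δ₀ = 0 :=
    Groth.Agent.S7077.hom_single_proj_eq_zero F 0 (-2) (by lia) _ _
  rw [hδ₀] at hz
  obtain ⟨φ, hφ⟩ : ∃ φ : (DerivedCategory.singleFunctor A 0).obj F ⟶ K,
      ψ = φ ≫ (tt.truncGEπ 0).app K :=
    Triangle.coyoneda_exact₃ _ hT ψ hz
  rw [← hπ] at hφ
  have hψepi : Epi ((homologyFunctor A 0).map ψ) := by
    rw [hψ, Functor.map_comp]
    have : Epi ((homologyFunctor A 0).map ((DerivedCategory.singleFunctor A 0).map
        (p ≫ (homologyFunctor A 0).map π))) := by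
      have hnat := (singleFunctorCompHomologyFunctorIso A 0).hom.naturality
        (p ≫ (homologyFunctor A 0).map π)
      dsimp at hnat
      have : (homologyFunctor A 0).map ((DerivedCategory.singleFunctor A 0).map
          (p ≫ (homologyFunctor A 0).map π)) =
          (singleFunctorCompHomologyFunctorIso A 0).hom.app _ ≫
            (p ≫ (homologyFunctor A 0).map π) ≫
            (singleFunctorCompHomologyFunctorIso A 0).inv.app _ := by
        rw [← Category.assoc, ← hnat, Category.assoc, Iso.hom_inv_id_app]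
        exact (Category.comp_id _).symm
      rw [this]
      infer_instance
    infer_instance
  refine ⟨φ, ?_⟩
  have h1 : (homologyFunctor A 0).map ψ =
      (homologyFunctor A 0).map φ ≫ (homologyFunctor A 0).map π := by
    rw [hφ, Functor.map_comp]
  have h2 : (homologyFunctor A 0).map φ =
      (homologyFunctor A 0).map ψ ≫ inv ((homologyFunctor A 0).map π) := by
    rw [h1, Category.assoc, IsIso.hom_inv_id, Category.comp_id]
  rw [h2]
  infer_instance

/-- the cone of such a lift is concentrated in degree `-1` -/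
lemma cone_amp (K : DerivedCategory A) [K.IsLE 0] [K.IsGE (-1)] (F : A)
    (φ : (DerivedCategory.singleFunctor A 0).obj F ⟶ K) [Epi ((homologyFunctor A 0).map φ)]
    {C : DerivedCategory A} (g : K ⟶ C) (δ : C ⟶ ((DerivedCategory.singleFunctor A 0).obj F)⟦(1 : ℤ)⟧)
    (hC : Triangle.mk φ g δ ∈ distTriang (DerivedCategory A)) : C.IsLE (-1) ∧ C.IsGE (-1) := by
  constructor
  · rw [DerivedCategory.isLE_iff]
    intro i hi
    have hex := HomologySequence.exact₃ _ hC i (i + 1) rfl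
    refine hex.isZero_of_both_zeros ?_ ?_
    · show (homologyFunctor A i).map g = 0
      by_cases hi0 : 0 < i
      · exact (isZero_of_isLE K 0 i hi0).eq_of_src _ _
      · obtain rfl : i = 0 := by lia
        rw [← cancel_epi ((homologyFunctor A 0).map φ), comp_zero, ← Functor.map_comp]
        have : φ ≫ g = 0 := comp_distTriang_mor_zero₁₂ _ hC
        rw [this, Functor.map_zero]
    · exact (isZero_of_isLE ((DerivedCategory.singleFunctor A 0).obj F) 0 (i + 1)
        (by lia)).eq_of_tgt _ _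
  · rw [DerivedCategory.isGE_iff]
    intro i hi
    have hex := HomologySequence.exact₃ _ hC i (i + 1) rfl
    refine hex.isZero_of_both_zeros ?_ ?_
    · exact (isZero_of_isGE K (-1) i hi).eq_of_src _ _
    · exact (isZero_of_isGE ((DerivedCategory.singleFunctor A 0).obj F) 0 (i + 1)
        (by lia)).eq_of_tgt _ _

/-- every object of `D^{[-1,0]}` sits in a triangle `F[0] ⟶ K ⟶ N[1] ⟶ F[1]` whose third map is
the shift of a map `d : N ⟶ F` of `A`, for any projective `F` covering `H⁰(K)`. -/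
lemma exists_cone_data (K : DerivedCategory A) [K.IsLE 0] [K.IsGE (-1)]
    (F : A) [Projective F] (p : F ⟶ (homologyFunctor A 0).obj K) [Epi p] :
    ∃ (N : A) (d : N ⟶ F) (φ : (DerivedCategory.singleFunctor A 0).obj F ⟶ K)
      (q : K ⟶ ((DerivedCategory.singleFunctor A 0).obj N)⟦(1 : ℤ)⟧),
      Triangle.mk φ q (((DerivedCategory.singleFunctor A 0).map d)⟦(1 : ℤ)⟧') ∈
        distTriang (DerivedCategory A) ∧ Epi ((homologyFunctor A 0).map φ) := by
  obtain ⟨φ, hφ⟩ := exists_lift K F p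
  obtain ⟨C, g, δ, hC⟩ := distinguished_cocone_triangle φ
  obtain ⟨hCLE, hCGE⟩ := cone_amp K F φ g δ hC
  obtain ⟨e⟩ := Groth.Agent.S0973.iso_single_of_amp C (-1)
  obtain ⟨N, hN⟩ : ∃ N : A, N = (homologyFunctor A (-1)).obj C := ⟨_, rfl⟩
  rw [← hN] at e
  let α : (DerivedCategory.singleFunctor A (-1)).obj N ≅
      ((DerivedCategory.singleFunctor A 0).obj N)⟦(1 : ℤ)⟧ :=
    (((DerivedCategory.singleFunctors A).shiftIso 1 (-1) 0 (by simp)).app _).symm
  obtain ⟨ε, hε⟩ : ∃ ε : C ≅ ((DerivedCategory.singleFunctor A 0).obj N)⟦(1 : ℤ)⟧,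
      ε = e ≪≫ α := ⟨_, rfl⟩
  obtain ⟨d', hd'⟩ : ∃ d' : (DerivedCategory.singleFunctor A 0).obj N ⟶
      (DerivedCategory.singleFunctor A 0).obj F, d'⟦(1 : ℤ)⟧' = ε.inv ≫ δ :=
    (CategoryTheory.shiftFunctor (DerivedCategory A) (1 : ℤ)).map_surjective _
  obtain ⟨d, hd⟩ : ∃ d : N ⟶ F, (DerivedCategory.singleFunctor A 0).map d = d' :=
    (DerivedCategory.singleFunctor A 0).map_surjective _
  refine ⟨N, d, φ, g ≫ ε.hom, ?_, hφ⟩
  refine isomorphic_distinguished _ hC _ ?_
  have c1 : φ ≫ 𝟙 K = 𝟙 ((DerivedCategory.singleFunctor A 0).obj F) ≫ φ := by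
    rw [Category.comp_id, Category.id_comp]
  have c2 : (g ≫ ε.hom) ≫ ε.inv = 𝟙 K ≫ g := by
    rw [Category.assoc, Iso.hom_inv_id, Category.comp_id, Category.id_comp]
  have c3 : ((DerivedCategory.singleFunctor A 0).map d)⟦(1 : ℤ)⟧' ≫
      (𝟙 ((DerivedCategory.singleFunctor A 0).obj F))⟦(1 : ℤ)⟧' = ε.inv ≫ δ := by
    rw [CategoryTheory.Functor.map_id, Category.comp_id, hd, hd']
  exact Triangle.isoMk _ _ (Iso.refl _) (Iso.refl _) ε.symm c1 c2 c3

/-- two distinguished triangles with isomorphic third maps have isomorphic middle terms -/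
lemma nonempty_iso_obj₂ {T T' : Triangle (DerivedCategory A)}
    (hT : T ∈ distTriang (DerivedCategory A)) (hT' : T' ∈ distTriang (DerivedCategory A))
    (a : T.obj₁ ≅ T'.obj₁) (c : T.obj₃ ≅ T'.obj₃)
    (comm : T.mor₃ ≫ a.hom⟦(1 : ℤ)⟧' = c.hom ≫ T'.mor₃) : Nonempty (T.obj₂ ≅ T'.obj₂) := by
  obtain ⟨b, hb1, hb2⟩ := complete_distinguished_triangle_morphism₂ T T' hT hT' a.hom c.hom comm
  let φ : T ⟶ T' :=
    { hom₁ := a.hom
      hom₂ := b
      hom₃ := c.hom
      comm₁ := hb1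
      comm₂ := hb2
      comm₃ := comm }
  have i1 : IsIso φ.hom₁ := (inferInstance : IsIso a.hom)
  have i3 : IsIso φ.hom₃ := (inferInstance : IsIso c.hom)
  have i2 : IsIso φ.hom₂ := isIso₂_of_isIso₁₃ φ hT hT' i1 i3
  exact ⟨@asIso _ _ _ _ b i2⟩

/-- **Two-term representatives.** every object of `D^{[-1,0]}` is represented by a two-term complex
whose degree `0` term is (isomorphic to) any given projective cover of `H⁰`. -/
theorem exists_twoTerm_rep (K : DerivedCategory A) [K.IsLE 0] [K.IsGE (-1)]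
    (F : A) [Projective F] (p : F ⟶ (homologyFunctor A 0).obj K) [Epi p] :
    ∃ (E : CochainComplex A ℤ), (∀ i : ℤ, i ≠ -1 → i ≠ 0 → IsZero (E.X i)) ∧
      Nonempty (E.X 0 ≅ F) ∧ Nonempty (Q.obj E ≅ K) := by
  obtain ⟨N, d, φ, q, hT, -⟩ := exists_cone_data K F p
  have hrel : (ComplexShape.up ℤ).Rel (-1) 0 := by simp
  have hne : (-1 : ℤ) ≠ 0 := by decide
  have hEz : ∀ i : ℤ, i ≠ -1 → i ≠ 0 → IsZero ((HomologicalComplex.double d hrel).X i) :=
    fun i h1 h0 => HomologicalComplex.isZero_double_X d hrel i h1 h0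
  obtain ⟨x₀, hx₀⟩ : ∃ x₀ : (HomologicalComplex.double d hrel).X (-1) ≅ N,
      x₀ = HomologicalComplex.doubleXIso₀ d hrel := ⟨_, rfl⟩
  obtain ⟨x₁, hx₁⟩ : ∃ x₁ : (HomologicalComplex.double d hrel).X 0 ≅ F,
      x₁ = HomologicalComplex.doubleXIso₁ d hrel hne := ⟨_, rfl⟩
  have hd : (HomologicalComplex.double d hrel).d (-1) 0 ≫ x₁.hom = x₀.hom ≫ d := by
    rw [hx₀, hx₁, HomologicalComplex.double_d d hrel hne, Category.assoc, Category.assoc,
      Iso.inv_hom_id, Category.comp_id]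
  obtain ⟨i, p', hT', -⟩ := exists_triangle (HomologicalComplex.double d hrel) hEz
  refine ⟨HomologicalComplex.double d hrel, hEz, ⟨x₁⟩, ?_⟩
  refine nonempty_iso_obj₂ hT' hT ((DerivedCategory.singleFunctor A 0).mapIso x₁)
    ((CategoryTheory.shiftFunctor (DerivedCategory A) (1 : ℤ)).mapIso
      ((DerivedCategory.singleFunctor A 0).mapIso x₀)) ?_
  show ((DerivedCategory.singleFunctor A 0).map ((HomologicalComplex.double d hrel).d (-1) 0))⟦(1 : ℤ)⟧' ≫
      ((DerivedCategory.singleFunctor A 0).map x₁.hom)⟦(1 : ℤ)⟧' =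
    ((DerivedCategory.singleFunctor A 0).map x₀.hom)⟦(1 : ℤ)⟧' ≫
      ((DerivedCategory.singleFunctor A 0).map d)⟦(1 : ℤ)⟧'
  rw [← Functor.map_comp, ← Functor.map_comp, ← Functor.map_comp, ← Functor.map_comp, hd]

end existence

end Groth.Agent.Lib.Helper1.TwoTerm
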