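import Mathlib
import Groth.Agent.Lib.Helper14WEFlat
import Groth.Agent.Lib.Helper1TQ6
import Groth.Agent.Lib.Helper1TorD
import Groth.Agent.Lib.Helper1TorF
import Groth.Agent.Lib.Helper1RelPC
import Groth.Agent.Lib.Helper1Restrict
import Groth.Agent.Lib.Helper1ProjRes
set_option backward.isDefEq.respectTransparency.types false

/-!
# Tor amplitude is detected after restriction along a weakly étale ring map (helper1)
-/

set_option autoImplicit false
set_option linter.style.haveILetI false
set_option maxHeartbeats 400000
universe u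
open CategoryTheory CategoryTheory.Limits MonoidalCategory HomologicalComplex TensorProduct
attribute [local instance] HasDerivedCategory.standard

namespace Groth.Agent.Lib.Helper1.WETor

open Groth.Agent.Lib.Helper14.WEFlat

section Mod

variable (A B : Type*) [CommRing A] [CommRing B] [Algebra A B]
variable (M : Type*) [AddCommGroup M] [Module A M] [Module B M] [IsScalarTower A B M]
variable {X Y Z : Type*} [AddCommGroup X] [Module A X] [Module B X] [IsScalarTower A B X]
  [AddCommGroup Y] [Module A Y] [Module B Y] [IsScalarTower A B Y]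
  [AddCommGroup Z] [Module A Z] [Module B Z] [IsScalarTower A B Z]

/-- naturality of `rho` in the second variable -/
lemma lTensor_rho (g : X →ₗ[B] Y) (c : B ⊗[A] B) (t : M ⊗[A] X) :
    (g.restrictScalars A).lTensor M (rho A B M X c t) =
      rho A B M Y c ((g.restrictScalars A).lTensor M t) := by
  induction c using TensorProduct.induction_on with
  | zero => simp
  | add c c' hc hc' =>
    rw [map_add, LinearMap.add_apply, map_add, hc, hc', map_add, LinearMap.add_apply]
  | tmul b b' =>
    induction t using TensorProduct.induction_on with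
    | zero => simp
    | add x y hx hy => rw [map_add, map_add, hx, hy, map_add, map_add]
    | tmul m x =>
      rw [rho_tmul, LinearMap.lTensor_tmul, LinearMap.lTensor_tmul, rho_tmul]
      simp

/-- naturality of `pi` in the second variable -/
lemma pi_lTensor (g : X →ₗ[B] Y) (t : M ⊗[A] X) :
    pi A B M Y ((g.restrictScalars A).lTensor M t) = g.lTensor M (pi A B M X t) := by
  induction t using TensorProduct.induction_on with
  | zero => simp
  | add x y hx hy => rw [map_add, map_add, hx, hy, map_add, map_add]
  | tmul m x => rfl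

lemma pi_surjective : Function.Surjective (pi A B M X) :=
  TensorProduct.mapOfCompatibleSMul_surjective B A B M X

/-- **Weakly étale maps detect exactness of tensor products**: if `M ⊗_A X → M ⊗_A Y → M ⊗_A Z`
is exact then so is `M ⊗_B X → M ⊗_B Y → M ⊗_B Z`. -/
theorem exact_lTensor_of_weaklyEtale [Algebra.WeaklyEtale A B] (f : X →ₗ[B] Y) (g : Y →ₗ[B] Z)
    (hgf : g ∘ₗ f = 0)
    (h : Function.Exact ((f.restrictScalars A).lTensor M) ((g.restrictScalars A).lTensor M)) :
    Function.Exact (f.lTensor M) (g.lTensor M) := by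
  intro y
  constructor
  · intro hy
    obtain ⟨y', rfl⟩ := pi_surjective A B M y
    have h1 : pi A B M Z ((g.restrictScalars A).lTensor M y') = 0 := by
      rw [pi_lTensor, hy]
    obtain ⟨u, hu1, hu2⟩ := exists_rho_eq_zero A B M Z _ h1
    rw [← lTensor_rho] at hu2
    obtain ⟨x', hx'⟩ := (h _).1 hu2
    refine ⟨pi A B M X x', ?_⟩
    rw [← pi_lTensor, hx', pi_rho, hu1, one_smul]
  · rintro ⟨x, rfl⟩
    rw [← LinearMap.comp_apply, ← LinearMap.lTensor_comp, hgf, LinearMap.lTensor_zero,
      LinearMap.zero_apply]

end Mod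

section Cx

variable {A B : Type u} [CommRing A] [CommRing B] [Algebra A B]

open Groth.Agent.Lib.Helper1.Tor Groth.Agent.Lib.Helper1.Restrict Groth.Agent.Lib.Helper1.ProjRes
  Groth.Agent.Lib.Helper1.TQ DerivedCategory Groth.Agent.S14388

/-- exactness of `N ⊗_B P` in degree `i` follows from that of `N ⊗_A P` when `A → B` is weakly
étale -/
theorem exactAt_TC_of_restrict [Algebra.WeaklyEtale A B] (P : DRing.Cx B) (N : ModuleCat.{u} B)
    (i : ℤ)
    (h : ((TC ((ModuleCat.restrictScalars.{u} (algebraMap A B)).obj N)).obj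
      ((DRing.restrictCx (algebraMap A B)).obj P)).ExactAt i) :
    ((TC N).obj P).ExactAt i := by
  rw [exactAt_TC_iff _ _ (i - 1) i (i + 1) (by lia) rfl] at h ⊢
  letI : Module A N := Module.compHom N (algebraMap A B)
  haveI : IsScalarTower A B N := IsScalarTower.of_algebraMap_smul (fun r m => rfl)
  letI : ∀ j, Module A (P.X j) := fun j => Module.compHom (P.X j) (algebraMap A B)
  haveI : ∀ j, IsScalarTower A B (P.X j) := fun j =>
    IsScalarTower.of_algebraMap_smul (fun r m => rfl)
  refine exact_lTensor_of_weaklyEtale A B N (P.d (i - 1) i).hom (P.d i (i + 1)).hom ?_ h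
  rw [← ModuleCat.hom_comp, P.d_comp_d]
  rfl

/-- **Tor amplitude is detected after restriction along a weakly étale map.** -/
theorem hasTorAmp_of_restrictD_of_weaklyEtale [Algebra.WeaklyEtale A B] (K : Dual.D B) (a b : ℤ)
    (h : DRing.HasTorAmplitudeIn A a b ((DRing.restrictD (algebraMap A B)).obj K)) :
    DRing.HasTorAmplitudeIn B a b K := by
  obtain ⟨E, hE, hEf, ⟨e⟩⟩ := h
  have hEle : E.IsStrictlyLE b := by
    rw [CochainComplex.isStrictlyLE_iff]
    exact fun i hi => hE i (Or.inr hi)
  have hle' : ((DRing.restrictD (algebraMap A B)).obj K).IsLE b := by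
    have : (Q.obj E).IsLE b := inferInstance
    exact tt.isLE_of_iso e b
  have hle : K.IsLE b := (isLE_restrictD_iff (algebraMap A B) K b).1 hle'
  obtain ⟨P, hPle, hPproj, ⟨eP⟩⟩ := exists_iso_Q_proj K b
  have hPb : DRing.VanishesAbove P b := fun i hi => P.isZero_of_isStrictlyLE b i hi
  have hPf : DRing.TermwiseFlat P := termwiseFlat_of_projective P hPproj
  set P' := (DRing.restrictCx (algebraMap A B)).obj P with hP'
  have hP'b : DRing.VanishesAbove P' b := fun i hi =>
    (ModuleCat.restrictScalars.{u} (algebraMap A B)).map_isZero (hPb i hi)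
  have hflat : (algebraMap A B).Flat :=
    RingHom.flat_algebraMap_iff.2 inferInstance
  have hP'f : DRing.TermwiseFlat P' := fun i => by
    have := hPf i
    exact flat_restrictScalars_of_flat (algebraMap A B) hflat (P.X i)
  have eP' : Q.obj E ≅ Q.obj P' :=
    e ≪≫ (DRing.restrictD (algebraMap A B)).mapIso eP.symm ≪≫ restrictQIso (algebraMap A B) P
  have htv : TorVan P' a b := torVan_of_iso P' E b hP'b hP'f a b hE hEf eP'
  have htvB : TorVan P a b := fun N i hi => exactAt_TC_of_restrict P N i (htv _ i hi)
  exact hasTorAmp_of_iso eP (hasTorAmp_of_torVan P b hPb hPf a b htvB)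

/-- tor amplitude passes to the restriction of scalars along a flat ring map (derived category
version) -/
theorem hasTorAmp_restrictD_of_flat [Module.Flat A B] (K : Dual.D B) (a b : ℤ)
    (h : DRing.HasTorAmplitudeIn B a b K) :
    DRing.HasTorAmplitudeIn A a b ((DRing.restrictD (algebraMap A B)).obj K) := by
  obtain ⟨E, hE, hEf, ⟨e⟩⟩ := h
  have hflat : (algebraMap A B).Flat :=
    RingHom.flat_algebraMap_iff.2 inferInstance
  refine ⟨(DRing.restrictCx (algebraMap A B)).obj E, fun i hi => ?_, fun i => ?_,
    ⟨(restrictQIso (algebraMap A B) E).symm ≪≫ (DRing.restrictD (algebraMap A B)).mapIso e⟩⟩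
  · exact (ModuleCat.restrictScalars.{u} (algebraMap A B)).map_isZero (hE i hi)
  · have := hEf i
    exact flat_restrictScalars_of_flat (algebraMap A B) hflat (E.X i)

theorem hasTorAmp_restrictD_iff_of_weaklyEtale [Algebra.WeaklyEtale A B] (K : Dual.D B) (a b : ℤ) :
    DRing.HasTorAmplitudeIn A a b ((DRing.restrictD (algebraMap A B)).obj K) ↔
      DRing.HasTorAmplitudeIn B a b K :=
  ⟨hasTorAmp_of_restrictD_of_weaklyEtale K a b, hasTorAmp_restrictD_of_flat K a b⟩

end Cx

end Groth.Agent.Lib.Helper1.WETor
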