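import Groth.Agent.Lib.Helper20WeakNorm

/-!
# Existence of the absolute weak normalization of a ring (helper20)

`A^awn` is constructed inside `∏_p AlgebraicClosure k(p)` as the union of the images of all
universal homeomorphisms `A → C`.
-/

universe u

namespace Groth.Agent.Lib.Helper20.AWN

open AlgebraicGeometry CategoryTheory TensorProduct
open Groth.Agent.Lib.Helper20.EtaPt Groth.Agent.Lib.Helper20.WeakNorm

/-- Ring-theoretic form of "`Spec ψ` is a universal homeomorphism". -/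
def UH {A C : Type u} [CommRing A] [CommRing C] (ψ : A →+* C) : Prop :=
  ψ.IsIntegral ∧ Function.Surjective (PrimeSpectrum.comap ψ) ∧
    ∀ (K : Type u) [Field K] (χ₁ χ₂ : C →+* K), χ₁.comp ψ = χ₂.comp ψ → χ₁ = χ₂

theorem isUnivHomeo_iff_UH {A C : Type u} [CommRing A] [CommRing C] (ψ : A →+* C) :
    FlatMor.IsUnivHomeo (Spec.map (CommRingCat.ofHom ψ)) ↔ UH ψ := by
  constructor
  · intro h1
    refine ⟨?_, (comap_bijective_of_isUnivHomeo ψ h1).2, fun K _ χ₁ χ₂ h =>
      hom_ext_of_isUnivHomeo ψ h1 K χ₁ χ₂ h⟩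
    have hc : UniversallyClosed (Spec.map (CommRingCat.ofHom ψ)) :=
      ⟨fun X' Y' i₁ i₂ f' hp => (h1 i₁ i₂ f' hp).isClosedMap⟩
    have : IsIntegralHom (Spec.map (CommRingCat.ofHom ψ)) :=
      IsIntegralHom.iff_universallyClosed_and_isAffineHom.mpr ⟨hc, inferInstance⟩
    exact IsIntegralHom.SpecMap_iff.mp this
  · rintro ⟨hint, hs, hext⟩
    have h1 : IsIntegralHom (Spec.map (CommRingCat.ofHom ψ)) := IsIntegralHom.SpecMap_iff.mpr hint
    have h2 : Surjective (Spec.map (CommRingCat.ofHom ψ)) := ⟨hs⟩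
    have h3 : UniversallyInjective (Spec.map (CommRingCat.ofHom ψ)) :=
      universallyInjective_Spec_of ψ hext
    exact isUnivHomeo_of _

theorem UH_id (A : Type u) [CommRing A] : UH (RingHom.id A) := by
  refine ⟨fun a => ⟨Polynomial.X - Polynomial.C a, Polynomial.monic_X_sub_C a, by simp⟩,
    fun P => ⟨P, ?_⟩, fun K _ χ₁ χ₂ h => h⟩
  rw [PrimeSpectrum.comap_id]

/-- `UH` is stable under tensor products. -/
theorem UH_tensor {A C₁ C₂ : Type u} [CommRing A] [CommRing C₁] [CommRing C₂] [Algebra A C₁]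
    [Algebra A C₂] (h₁ : UH (algebraMap A C₁)) (h₂ : UH (algebraMap A C₂)) :
    UH (algebraMap A (C₁ ⊗[A] C₂)) := by
  obtain ⟨hi₁, hs₁, he₁⟩ := h₁
  obtain ⟨hi₂, hs₂, he₂⟩ := h₂
  refine ⟨?_, ?_, ?_⟩
  · have : Algebra.IsIntegral A C₁ := ⟨hi₁⟩
    have : Algebra.IsIntegral A C₂ := ⟨hi₂⟩
    have : Algebra.IsIntegral C₁ (C₁ ⊗[A] C₂) := inferInstance
    have : Algebra.IsIntegral A (C₁ ⊗[A] C₂) := Algebra.IsIntegral.trans C₁
    exact algebraMap_isIntegral_iff.mpr this
  · intro P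
    let L := AlgebraicClosure P.asIdeal.ResidueField
    let j : A →+* L := (algebraMap P.asIdeal.ResidueField L).comp (algebraMap A P.asIdeal.ResidueField)
    obtain ⟨g₁, hg₁⟩ := exists_extend_algClosed (algebraMap A C₁) hi₁ hs₁ L j
    obtain ⟨g₂, hg₂⟩ := exists_extend_algClosed (algebraMap A C₂) hi₂ hs₂ L j
    letI : Algebra A L := j.toAlgebra
    let G₁ : C₁ →ₐ[A] L := { g₁ with commutes' := fun a => RingHom.congr_fun hg₁ a }
    let G₂ : C₂ →ₐ[A] L := { g₂ with commutes' := fun a => RingHom.congr_fun hg₂ a }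
    let G : C₁ ⊗[A] C₂ →ₐ[A] L := Algebra.TensorProduct.productMap G₁ G₂
    refine ⟨⟨RingHom.ker G.toRingHom, RingHom.ker_isPrime _⟩, ?_⟩
    apply PrimeSpectrum.ext
    ext a
    show G (algebraMap A (C₁ ⊗[A] C₂) a) = 0 ↔ a ∈ P.asIdeal
    rw [AlgHom.commutes]
    show algebraMap P.asIdeal.ResidueField L (algebraMap A P.asIdeal.ResidueField a) = 0 ↔ _
    rw [map_eq_zero, Ideal.algebraMap_residueField_eq_zero]
  · intro K _ χ₁ χ₂ h
    have e₁ : χ₁.comp (Algebra.TensorProduct.includeLeftRingHom : C₁ →+* C₁ ⊗[A] C₂) =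
        χ₂.comp (Algebra.TensorProduct.includeLeftRingHom : C₁ →+* C₁ ⊗[A] C₂) := by
      apply he₁ K
      refine RingHom.ext fun a => ?_
      have := RingHom.congr_fun h a
      simp only [RingHom.comp_apply] at this ⊢
      have e : (Algebra.TensorProduct.includeLeftRingHom : C₁ →+* C₁ ⊗[A] C₂) (algebraMap A C₁ a) =
          algebraMap A (C₁ ⊗[A] C₂) a :=
        (Algebra.TensorProduct.includeLeft : C₁ →ₐ[A] C₁ ⊗[A] C₂).commutes a
      rw [e]
      exact this
    have e₂ : χ₁.comp (Algebra.TensorProduct.includeRight : C₂ →ₐ[A] C₁ ⊗[A] C₂).toRingHom =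
        χ₂.comp (Algebra.TensorProduct.includeRight : C₂ →ₐ[A] C₁ ⊗[A] C₂).toRingHom := by
      apply he₂ K
      refine RingHom.ext fun a => ?_
      have := RingHom.congr_fun h a
      simp only [RingHom.comp_apply] at this ⊢
      have e : (Algebra.TensorProduct.includeRight : C₂ →ₐ[A] C₁ ⊗[A] C₂).toRingHom
          (algebraMap A C₂ a) = algebraMap A (C₁ ⊗[A] C₂) a :=
        (Algebra.TensorProduct.includeRight : C₂ →ₐ[A] C₁ ⊗[A] C₂).commutes a
      rw [e]
      exact this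
    refine RingHom.ext fun z => ?_
    induction z using TensorProduct.induction_on with
    | zero => rw [map_zero, map_zero]
    | tmul c₁ c₂ =>
      have e : c₁ ⊗ₜ[A] c₂ = (c₁ ⊗ₜ[A] (1 : C₂)) * ((1 : C₁) ⊗ₜ[A] c₂) := by
        rw [Algebra.TensorProduct.tmul_mul_tmul, mul_one, one_mul]
      rw [e, map_mul, map_mul]
      congr 1
      · exact RingHom.congr_fun e₁ c₁
      · exact RingHom.congr_fun e₂ c₂
    | add x y hx hy => rw [map_add, map_add, hx, hy]

section Construction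

variable (A : Type u) [CommRing A]

/-- The ambient ring. -/
abbrev Om : Type u := ∀ p : PrimeSpectrum A, AlgebraicClosure p.asIdeal.ResidueField

/-- The diagonal map. -/
noncomputable def delta : A →+* Om A :=
  RingHom.pi fun p => (algebraMap p.asIdeal.ResidueField (AlgebraicClosure p.asIdeal.ResidueField)).comp
    (algebraMap A p.asIdeal.ResidueField)

theorem delta_apply (a : A) (p : PrimeSpectrum A) :
    delta A a p = algebraMap p.asIdeal.ResidueField (AlgebraicClosure p.asIdeal.ResidueField)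
      (algebraMap A p.asIdeal.ResidueField a) := rfl

theorem ker_delta_le : RingHom.ker (delta A) ≤ nilradical A := by
  intro a ha
  rw [nilradical_eq_sInf, Ideal.mem_sInf]
  intro P hP
  have hP' : P.IsPrime := hP
  have h1 : delta A a ⟨P, hP'⟩ = 0 := by
    have : delta A a = 0 := ha
    rw [this]
    rfl
  rw [delta_apply, map_eq_zero, Ideal.algebraMap_residueField_eq_zero] at h1
  exact h1

variable {A}

theorem exists_theta {C : Type u} [CommRing C] (ψ : A →+* C) (h : UH ψ) :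
    ∃ θ : C →+* Om A, θ.comp ψ = delta A := by
  have : ∀ p : PrimeSpectrum A, ∃ g : C →+* AlgebraicClosure p.asIdeal.ResidueField,
      g.comp ψ = (algebraMap p.asIdeal.ResidueField (AlgebraicClosure p.asIdeal.ResidueField)).comp
        (algebraMap A p.asIdeal.ResidueField) :=
    fun p => exists_extend_algClosed ψ h.1 h.2.1 _ _
  choose g hg using this
  refine ⟨RingHom.pi g, ?_⟩
  refine RingHom.ext fun a => funext fun p => ?_
  exact RingHom.congr_fun (hg p) a

theorem theta_unique {C : Type u} [CommRing C] (ψ : A →+* C) (h : UH ψ) (θ θ' : C →+* Om A)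
    (e : θ.comp ψ = θ'.comp ψ) : θ = θ' := by
  refine RingHom.ext fun c => funext fun p => ?_
  have := h.2.2 (AlgebraicClosure p.asIdeal.ResidueField)
    ((Pi.evalRingHom (fun p : PrimeSpectrum A => AlgebraicClosure p.asIdeal.ResidueField) p).comp θ)
    ((Pi.evalRingHom (fun p : PrimeSpectrum A => AlgebraicClosure p.asIdeal.ResidueField) p).comp θ')
    (by rw [RingHom.comp_assoc, RingHom.comp_assoc, e])
  exact RingHom.congr_fun this c

variable (A)

/-- The carrier of `A^awn`. -/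
def awnCarrier : Set (Om A) :=
  {x | ∃ (C : Type u) (_ : CommRing C) (ψ : A →+* C) (θ : C →+* Om A),
    UH ψ ∧ θ.comp ψ = delta A ∧ x ∈ θ.range}

variable {A}

theorem mem_awnCarrier_of {C : Type u} [CommRing C] (ψ : A →+* C) (θ : C →+* Om A) (h : UH ψ)
    (e : θ.comp ψ = delta A) (c : C) : θ c ∈ awnCarrier A :=
  ⟨C, inferInstance, ψ, θ, h, e, ⟨c, rfl⟩⟩

/-- Two members of the carrier come from a common `C`. -/
theorem exists_common {x y : Om A} (hx : x ∈ awnCarrier A) (hy : y ∈ awnCarrier A) :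
    ∃ (C : Type u) (_ : CommRing C) (ψ : A →+* C) (θ : C →+* Om A),
      UH ψ ∧ θ.comp ψ = delta A ∧ x ∈ θ.range ∧ y ∈ θ.range := by
  obtain ⟨C₁, _, ψ₁, θ₁, h₁, e₁, c₁, rfl⟩ := hx
  obtain ⟨C₂, _, ψ₂, θ₂, h₂, e₂, c₂, rfl⟩ := hy
  letI : Algebra A C₁ := ψ₁.toAlgebra
  letI : Algebra A C₂ := ψ₂.toAlgebra
  letI : Algebra A (Om A) := (delta A).toAlgebra
  let Θ₁ : C₁ →ₐ[A] Om A := { θ₁ with commutes' := fun a => RingHom.congr_fun e₁ a }
  let Θ₂ : C₂ →ₐ[A] Om A := { θ₂ with commutes' := fun a => RingHom.congr_fun e₂ a }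
  let Θ : C₁ ⊗[A] C₂ →ₐ[A] Om A := Algebra.TensorProduct.productMap Θ₁ Θ₂
  refine ⟨C₁ ⊗[A] C₂, inferInstance, algebraMap A (C₁ ⊗[A] C₂), Θ.toRingHom,
    UH_tensor h₁ h₂, ?_, ⟨c₁ ⊗ₜ[A] 1, ?_⟩, ⟨1 ⊗ₜ[A] c₂, ?_⟩⟩
  · refine RingHom.ext fun a => ?_
    exact Θ.commutes a
  · show Θ (c₁ ⊗ₜ[A] 1) = θ₁ c₁
    rw [Algebra.TensorProduct.productMap_apply_tmul, map_one, mul_one]
    rfl
  · show Θ (1 ⊗ₜ[A] c₂) = θ₂ c₂
    rw [Algebra.TensorProduct.productMap_apply_tmul, map_one, one_mul]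
    rfl

variable (A)

/-- `A^awn` as a subring of the ambient ring. -/
def awn : Subring (Om A) where
  carrier := awnCarrier A
  mul_mem' := by
    intro x y hx hy
    obtain ⟨C, _, ψ, θ, h, e, ⟨c, rfl⟩, ⟨c', rfl⟩⟩ := exists_common hx hy
    rw [← map_mul]
    exact mem_awnCarrier_of ψ θ h e _
  one_mem' := by
    have := mem_awnCarrier_of (RingHom.id A) (delta A) (UH_id A) rfl 1
    rwa [map_one] at this
  add_mem' := by
    intro x y hx hy
    obtain ⟨C, _, ψ, θ, h, e, ⟨c, rfl⟩, ⟨c', rfl⟩⟩ := exists_common hx hy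
    rw [← map_add]
    exact mem_awnCarrier_of ψ θ h e _
  zero_mem' := by
    have := mem_awnCarrier_of (RingHom.id A) (delta A) (UH_id A) rfl 0
    rwa [map_zero] at this
  neg_mem' := by
    rintro _ ⟨C, _, ψ, θ, h, e, c, rfl⟩
    rw [← map_neg]
    exact mem_awnCarrier_of ψ θ h e _

/-- The structure map `A → A^awn`. -/
noncomputable def toAwn : A →+* awn A :=
  (delta A).codRestrict (awn A) fun a => mem_awnCarrier_of (RingHom.id A) (delta A) (UH_id A) rfl a

theorem toAwn_coe (a : A) : ((toAwn A a : awn A) : Om A) = delta A a := rfl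

variable {A}

/-- The comparison map from any universal homeomorphism. -/
noncomputable def cmp {C : Type u} [CommRing C] (ψ : A →+* C) (θ : C →+* Om A) (h : UH ψ)
    (e : θ.comp ψ = delta A) : C →+* awn A :=
  θ.codRestrict (awn A) fun c => mem_awnCarrier_of ψ θ h e c

theorem cmp_comp {C : Type u} [CommRing C] (ψ : A →+* C) (θ : C →+* Om A) (h : UH ψ)
    (e : θ.comp ψ = delta A) : (cmp ψ θ h e).comp ψ = toAwn A := by
  refine RingHom.ext fun a => Subtype.ext ?_
  exact RingHom.congr_fun e a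

variable (A)

theorem toAwn_isIntegral : (toAwn A).IsIntegral := by
  rintro ⟨b, hb⟩
  have hb' := hb
  obtain ⟨C, _, ψ, θ, h, e, c, hc⟩ := hb'
  obtain ⟨P, hP, hPc⟩ := h.1 c
  refine ⟨P, hP, ?_⟩
  apply Subtype.ext
  have h1 : (awn A).subtype (Polynomial.eval₂ (toAwn A) ⟨b, hb⟩ P) =
      Polynomial.eval₂ ((awn A).subtype.comp (toAwn A)) b P :=
    Polynomial.hom_eval₂ P (toAwn A) (awn A).subtype ⟨b, hb⟩
  have h2 : (awn A).subtype.comp (toAwn A) = θ.comp ψ := by rw [e]; rfl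
  have h3 : θ (Polynomial.eval₂ ψ c P) = Polynomial.eval₂ (θ.comp ψ) (θ c) P :=
    Polynomial.hom_eval₂ P ψ θ c
  show (awn A).subtype (Polynomial.eval₂ (toAwn A) ⟨b, hb⟩ P) = 0
  rw [h1, h2, ← hc, ← h3, hPc, map_zero]

theorem UH_toAwn : UH (toAwn A) := by
  refine ⟨toAwn_isIntegral A, ?_, ?_⟩
  · apply comap_surjective_of_isIntegral_of_ker_le _ (toAwn_isIntegral A)
    intro a ha
    apply ker_delta_le A
    have : toAwn A a = 0 := ha
    exact congrArg Subtype.val this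
  · intro K _ χ₁ χ₂ hχ
    refine RingHom.ext ?_
    rintro ⟨b, hb⟩
    have hb' := hb
    obtain ⟨C, _, ψ, θ, h, e, c, hc⟩ := hb'
    have h1 : (χ₁.comp (cmp ψ θ h e)).comp ψ = (χ₂.comp (cmp ψ θ h e)).comp ψ := by
      rw [RingHom.comp_assoc, RingHom.comp_assoc, cmp_comp, hχ]
    have h2 := h.2.2 K _ _ h1
    have h3 : cmp ψ θ h e c = ⟨b, hb⟩ := Subtype.ext hc
    rw [← h3]
    exact RingHom.congr_fun h2 c

theorem isRingAWN_toAwn : HTop.IsRingAWN (toAwn A) := by
  refine ⟨(isUnivHomeo_iff_UH _).mpr (UH_toAwn A), ?_⟩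
  intro C _ ψ hψ
  have h : UH ψ := (isUnivHomeo_iff_UH ψ).mp hψ
  obtain ⟨θ, e⟩ := exists_theta ψ h
  refine ⟨cmp ψ θ h e, cmp_comp ψ θ h e, ?_⟩
  intro χ' hχ'
  refine RingHom.ext fun c => Subtype.ext ?_
  have h1 : ((awn A).subtype.comp χ').comp ψ = θ.comp ψ := by
    rw [RingHom.comp_assoc, hχ', e]
    rfl
  have h2 := theta_unique ψ h _ _ h1
  exact RingHom.congr_fun h2 c

end Construction

end Groth.Agent.Lib.Helper20.AWN
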