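import Groth.Agent.Lib.Helper20AWNRing
import Groth.Agent.Lib.Helper11SN

/-!
# Functoriality and localization of the absolute weak normalization of a ring (helper20)
-/

set_option autoImplicit false
set_option linter.style.haveILetI false

universe u

namespace Groth.Agent.Lib.Helper20.AWNFun

open AlgebraicGeometry CategoryTheory TensorProduct
open Groth.Agent.Lib.Helper20.AWN Groth.Agent.Lib.Helper20.WeakNorm

/-- `UH` is stable under base change. -/
theorem UH_baseChange {A A' C : Type u} [CommRing A] [CommRing A'] [CommRing C] [Algebra A A']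
    [Algebra A C] (h : UH (algebraMap A C)) : UH (algebraMap A' (A' ⊗[A] C)) := by
  obtain ⟨hi, hs, he⟩ := h
  refine ⟨?_, ?_, ?_⟩
  · have : Algebra.IsIntegral A C := ⟨hi⟩
    have : Algebra.IsIntegral A' (A' ⊗[A] C) := inferInstance
    exact algebraMap_isIntegral_iff.mpr this
  · intro P
    let L := AlgebraicClosure P.asIdeal.ResidueField
    let j' : A' →+* L :=
      (algebraMap P.asIdeal.ResidueField L).comp (algebraMap A' P.asIdeal.ResidueField)
    let j : A →+* L := j'.comp (algebraMap A A')
    obtain ⟨g, hg⟩ := exists_extend_algClosed (algebraMap A C) hi hs L j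
    letI : Algebra A L := j.toAlgebra
    let G₁ : A' →ₐ[A] L := { j' with commutes' := fun a => rfl }
    let G₂ : C →ₐ[A] L := { g with commutes' := fun a => RingHom.congr_fun hg a }
    let G : A' ⊗[A] C →ₐ[A] L := Algebra.TensorProduct.productMap G₁ G₂
    refine ⟨⟨RingHom.ker G.toRingHom, RingHom.ker_isPrime _⟩, ?_⟩
    apply PrimeSpectrum.ext
    ext a
    show G (algebraMap A' (A' ⊗[A] C) a) = 0 ↔ a ∈ P.asIdeal
    have e : algebraMap A' (A' ⊗[A] C) a = a ⊗ₜ[A] (1 : C) := rfl
    rw [e, Algebra.TensorProduct.productMap_apply_tmul, map_one, mul_one]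
    show algebraMap P.asIdeal.ResidueField L (algebraMap A' P.asIdeal.ResidueField a) = 0 ↔ _
    rw [map_eq_zero, Ideal.algebraMap_residueField_eq_zero]
  · intro K _ χ₁ χ₂ hχ
    have e₂ : χ₁.comp (Algebra.TensorProduct.includeRight : C →ₐ[A] A' ⊗[A] C).toRingHom =
        χ₂.comp (Algebra.TensorProduct.includeRight : C →ₐ[A] A' ⊗[A] C).toRingHom := by
      apply he K
      refine RingHom.ext fun a => ?_
      have := RingHom.congr_fun hχ (algebraMap A A' a)
      simp only [RingHom.comp_apply] at this ⊢
      have e : (Algebra.TensorProduct.includeRight : C →ₐ[A] A' ⊗[A] C).toRingHom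
          (algebraMap A C a) = algebraMap A' (A' ⊗[A] C) (algebraMap A A' a) := by
        have h1 := (Algebra.TensorProduct.includeRight : C →ₐ[A] A' ⊗[A] C).commutes a
        rw [IsScalarTower.algebraMap_apply A A' (A' ⊗[A] C)] at h1
        exact h1
      rw [e]
      exact this
    refine RingHom.ext fun z => ?_
    induction z using TensorProduct.induction_on with
    | zero => rw [map_zero, map_zero]
    | tmul c₁ c₂ =>
      have e : c₁ ⊗ₜ[A] c₂ = (c₁ ⊗ₜ[A] (1 : C)) * ((1 : A') ⊗ₜ[A] c₂) := by
        rw [Algebra.TensorProduct.tmul_mul_tmul, mul_one, one_mul]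
      rw [e, map_mul, map_mul]
      congr 1
      · exact RingHom.congr_fun hχ c₁
      · exact RingHom.congr_fun e₂ c₂
    | add x y hx hy => rw [map_add, map_add, hx, hy]

/-- Maps out of the target of a `UH` map into a reduced ring are determined by their
restriction to the source. -/
theorem hom_ext_of_UH {A C R : Type u} [CommRing A] [CommRing C] [CommRing R] [IsReduced R]
    (ψ : A →+* C) (h : UH ψ) (m m' : C →+* R) (e : m.comp ψ = m'.comp ψ) : m = m' := by
  refine RingHom.ext fun c => ?_
  rw [← sub_eq_zero]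
  have hn : m c - m' c ∈ nilradical R := by
    rw [nilradical_eq_sInf, Ideal.mem_sInf]
    intro P hP
    have hP' : P.IsPrime := hP
    have h1 := h.2.2 P.ResidueField ((algebraMap R P.ResidueField).comp m)
      ((algebraMap R P.ResidueField).comp m') (by rw [RingHom.comp_assoc, RingHom.comp_assoc, e])
    have h2 := RingHom.congr_fun h1 c
    simp only [RingHom.comp_apply] at h2
    rw [← Ideal.algebraMap_residueField_eq_zero, map_sub, h2, sub_self]
  rwa [nilradical_eq_zero] at hn

section Functor

variable {A A' A'' : Type u} [CommRing A] [CommRing A'] [CommRing A'']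

instance : IsReduced (awn A) := isReduced_of_isRingAWN _ (isRingAWN_toAwn A)

theorem isAWNRing_awn (A : Type u) [CommRing A] : HTop.IsAWNRing (awn A) :=
  isAWNRing_of_isRingAWN _ (isRingAWN_toAwn A)

/-- The comparison map out of the base change. -/
theorem exists_cmpTensor (g : A →+* A') :
    letI : Algebra A A' := g.toAlgebra
    letI : Algebra A (awn A) := (toAwn A).toAlgebra
    ∃ χ : A' ⊗[A] awn A →+* awn A', χ.comp (algebraMap A' (A' ⊗[A] awn A)) = toAwn A' := by
  letI : Algebra A A' := g.toAlgebra
  letI : Algebra A (awn A) := (toAwn A).toAlgebra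
  have hC : UH (algebraMap A' (A' ⊗[A] awn A)) := UH_baseChange (UH_toAwn A)
  obtain ⟨χ, hχ, -⟩ := (isRingAWN_toAwn A').2 (A' ⊗[A] awn A) (algebraMap A' (A' ⊗[A] awn A))
    ((isUnivHomeo_iff_UH _).mpr hC)
  exact ⟨χ, hχ⟩

/-- The comparison map `A' ⊗[A] A^awn → A'^awn`. -/
noncomputable def cmpTensor (g : A →+* A') :
    letI : Algebra A A' := g.toAlgebra
    letI : Algebra A (awn A) := (toAwn A).toAlgebra
    A' ⊗[A] awn A →+* awn A' :=
  (exists_cmpTensor g).choose

theorem cmpTensor_comp (g : A →+* A') :
    letI : Algebra A A' := g.toAlgebra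
    letI : Algebra A (awn A) := (toAwn A).toAlgebra
    (cmpTensor g).comp (algebraMap A' (A' ⊗[A] awn A)) = toAwn A' :=
  (exists_cmpTensor g).choose_spec

/-- Functoriality of `awn`. -/
noncomputable def awnMap (g : A →+* A') : awn A →+* awn A' :=
  letI : Algebra A A' := g.toAlgebra
  letI : Algebra A (awn A) := (toAwn A).toAlgebra
  (cmpTensor g).comp (Algebra.TensorProduct.includeRight : awn A →ₐ[A] A' ⊗[A] awn A).toRingHom

theorem awnMap_comp_toAwn (g : A →+* A') : (awnMap g).comp (toAwn A) = (toAwn A').comp g := by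
  letI : Algebra A A' := g.toAlgebra
  letI : Algebra A (awn A) := (toAwn A).toAlgebra
  refine RingHom.ext fun a => ?_
  have h1 := (Algebra.TensorProduct.includeRight : awn A →ₐ[A] A' ⊗[A] awn A).commutes a
  rw [IsScalarTower.algebraMap_apply A A' (A' ⊗[A] awn A)] at h1
  have h2 := RingHom.congr_fun (cmpTensor_comp g) (g a)
  simp only [RingHom.comp_apply] at h2 ⊢
  show cmpTensor g ((Algebra.TensorProduct.includeRight : awn A →ₐ[A] A' ⊗[A] awn A)
    (algebraMap A (awn A) a)) = _
  rw [h1]
  exact h2

theorem awnMap_unique (g : A →+* A') (m : awn A →+* awn A')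
    (hm : m.comp (toAwn A) = (toAwn A').comp g) : m = awnMap g :=
  hom_ext_of_UH (toAwn A) (UH_toAwn A) _ _ (hm.trans (awnMap_comp_toAwn g).symm)

theorem awnMap_id : awnMap (RingHom.id A) = RingHom.id (awn A) :=
  (awnMap_unique (RingHom.id A) (RingHom.id (awn A)) rfl).symm

theorem awnMap_comp (g : A →+* A') (g' : A' →+* A'') :
    awnMap (g'.comp g) = (awnMap g').comp (awnMap g) := by
  symm
  apply awnMap_unique
  rw [RingHom.comp_assoc, awnMap_comp_toAwn, ← RingHom.comp_assoc, awnMap_comp_toAwn,
    RingHom.comp_assoc]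

/-- `awn` commutes with localization away from an element. -/
theorem isLocalization_awnMap (g : A →+* A') (f : A)
    (hloc : @IsLocalization.Away A _ f A' _ g.toAlgebra) :
    @IsLocalization.Away (awn A) _ (toAwn A f) (awn A') _ (awnMap g).toAlgebra := by
  letI : Algebra A A' := g.toAlgebra
  letI : Algebra A (awn A) := (toAwn A).toAlgebra
  letI : Algebra (awn A) (A' ⊗[A] awn A) := Algebra.TensorProduct.rightAlgebra
  haveI : IsLocalization.Away f A' := hloc
  have h1 : IsLocalization.Away (algebraMap A (awn A) f) (A' ⊗[A] awn A) :=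
    IsLocalization.Away.tensorRight f A'
  have hC : HTop.IsAWNRing (A' ⊗[A] awn A) :=
    Groth.Agent.Lib.Helper11.isAWNRing_away (algebraMap A (awn A) f) (isAWNRing_awn A)
  have hψ : UH (algebraMap A' (A' ⊗[A] awn A)) := UH_baseChange (UH_toAwn A)
  have hχ : UH (cmpTensor g) :=
    UH_of_comp_of_UH _ _ hψ (by rw [cmpTensor_comp]; exact UH_toAwn A')
  have hbij := bijective_of_UH_of_isAWNRing (cmpTensor g) hχ hC
  letI : Algebra (awn A) (awn A') := (awnMap g).toAlgebra
  let e : (A' ⊗[A] awn A) ≃ₐ[awn A] awn A' :=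
    AlgEquiv.ofBijective ⟨cmpTensor g, fun r => rfl⟩ hbij
  exact IsLocalization.isLocalization_of_algEquiv (Submonoid.powers (toAwn A f)) e

theorem isAWNRing_of_ringEquiv {B B' : Type u} [CommRing B] [CommRing B'] (e : B ≃+* B')
    (h : HTop.IsAWNRing B) : HTop.IsAWNRing B' := by
  letI : Algebra B B' := e.toRingHom.toAlgebra
  haveI : IsLocalization.Away (1 : B) B' :=
    IsLocalization.away_of_isUnit_of_bijective B' isUnit_one e.bijective
  exact Groth.Agent.Lib.Helper11.isAWNRing_away (1 : B) h

end Functor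

end Groth.Agent.Lib.Helper20.AWNFun
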