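import Groth.Agent.Lib.Helper20TowerUH

/-!
# Absolutely weakly normal rings and the absolute weak normalization (helper20)
-/

universe u

namespace Groth.Agent.Lib.Helper20.AWN

open AlgebraicGeometry CategoryTheory
open Groth.Agent.Lib.Helper20.Tower

theorem eq_of_sq_cube_of_isReduced {R : Type*} [CommRing R] [IsReduced R] {a b : R}
    (h2 : a ^ 2 = b ^ 2) (h3 : a ^ 3 = b ^ 3) : a = b := by
  have : (a - b) ^ 3 = 0 := by linear_combination 4 * h3 - 3 * (a + b) * h2
  exact sub_eq_zero.mp (IsReduced.eq_zero _ ⟨3, this⟩)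

theorem eq_of_prime_of_isReduced {R : Type*} [CommRing R] [IsReduced R] {a b : R} (p : ℕ)
    (hp : p.Prime) (h1 : (p : R) * a = p * b) (h2 : a ^ p = b ^ p) : a = b := by
  obtain ⟨r, hr⟩ := exists_add_pow_prime_eq hp b (a - b)
  have hpd : (p : R) * (a - b) = 0 := by rw [mul_sub, h1, sub_self]
  have : (a - b) ^ p = 0 := by
    have e : b + (a - b) = a := by ring
    rw [e, h2] at hr
    have e2 : (p : R) * b * (a - b) * r = b * ((p : R) * (a - b)) * r := by ring
    rw [e2, hpd, mul_zero, zero_mul, add_zero] at hr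
    linear_combination (-1 : R) * hr
  exact sub_eq_zero.mp (IsReduced.eq_zero _ ⟨p, this⟩)

section UHbasics

variable {A B C : Type u} [CommRing A] [CommRing B] [CommRing C]

theorem UH_comp (ψ : A →+* B) (χ : B →+* C) (h1 : UH ψ) (h2 : UH χ) : UH (χ.comp ψ) := by
  refine ⟨RingHom.IsIntegral.trans _ _ h1.1 h2.1, ?_, ?_⟩
  · intro P
    obtain ⟨Q, hQ⟩ := h1.2.1 P
    obtain ⟨R, hR⟩ := h2.2.1 Q
    refine ⟨R, ?_⟩
    rw [← hQ, ← hR]
    rfl
  · intro K _ χ₁ χ₂ h
    apply h2.2.2 K
    apply h1.2.2 K
    rw [RingHom.comp_assoc, RingHom.comp_assoc]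
    exact h

theorem UH_of_comp_of_UH (ψ : A →+* B) (χ : B →+* C) (h1 : UH ψ) (h : UH (χ.comp ψ)) :
    UH χ := by
  refine ⟨RingHom.IsIntegral.tower_top ψ χ h.1, ?_, ?_⟩
  · intro Q
    obtain ⟨R, hR⟩ := h.2.1 (PrimeSpectrum.comap ψ Q)
    refine ⟨R, ?_⟩
    apply h1.comap_injective
    rw [← hR]
    rfl
  · intro K _ χ₁ χ₂ hχ
    apply h.2.2 K
    rw [← RingHom.comp_assoc, ← RingHom.comp_assoc, hχ]

theorem comap_surjective_of_isIntegral_of_ker_le' (φ : A →+* B) (hint : φ.IsIntegral)
    (hker : RingHom.ker φ ≤ nilradical A) : Function.Surjective (PrimeSpectrum.comap φ) := by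
  intro P
  letI := φ.toAlgebra
  haveI : Algebra.IsIntegral A B := ⟨hint⟩
  have hle : (⊥ : Ideal B).comap (algebraMap A B) ≤ P.asIdeal := by
    intro x hx
    have hx' : x ∈ RingHom.ker φ := by
      rw [RingHom.mem_ker]
      exact hx
    have h2 := hker hx'
    rw [nilradical_eq_sInf, Ideal.mem_sInf] at h2
    exact h2 P.2
  obtain ⟨Q, -, hQ, hQP⟩ := Ideal.exists_ideal_over_prime_of_isIntegral P.asIdeal (⊥ : Ideal B) hle
  exact ⟨⟨Q, hQ⟩, PrimeSpectrum.ext hQP⟩

theorem UH_of_surjective (ι : A →+* B) (hs : Function.Surjective ι)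
    (hker : RingHom.ker ι ≤ nilradical A) : UH ι := by
  refine ⟨RingHom.isIntegral_of_surjective ι hs,
    comap_surjective_of_isIntegral_of_ker_le' ι (RingHom.isIntegral_of_surjective ι hs) hker, ?_⟩
  intro K _ χ₁ χ₂ h
  refine RingHom.ext fun b => ?_
  obtain ⟨a, rfl⟩ := hs b
  exact RingHom.congr_fun h a

end UHbasics

section Retraction

variable {A W : Type u} [CommRing A] [CommRing W] (φ : A →+* W)

theorem exists_retraction_of_isRingAWN (hφ : HTop.IsRingAWN φ) {W' : Type u} [CommRing W']
    (ι : W →+* W') (hι : UH ι) : ∃ r : W' →+* W, r.comp ι = RingHom.id W := by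
  obtain ⟨hφ1, hφ2⟩ := hφ
  have hUHφ : UH φ := (isUnivHomeo_iff_UH φ).mp hφ1
  obtain ⟨r, hr, -⟩ := hφ2 W' (ι.comp φ) ((isUnivHomeo_iff_UH _).mpr (UH_comp φ ι hUHφ hι))
  refine ⟨r, ?_⟩
  obtain ⟨χ₀, -, huniq⟩ := hφ2 W φ hφ1
  have h1 : r.comp ι = χ₀ := huniq _ (by
    show (r.comp ι).comp φ = φ
    rw [RingHom.comp_assoc]; exact hr)
  have h2 : RingHom.id W = χ₀ := huniq _ (RingHom.id_comp φ)
  rw [h1, h2]

theorem isReduced_of_isRingAWN (hφ : HTop.IsRingAWN φ) : IsReduced W := by
  obtain ⟨r, hr⟩ := exists_retraction_of_isRingAWN φ hφ (Ideal.Quotient.mk (nilradical W))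
    (UH_of_surjective _ Ideal.Quotient.mk_surjective (by rw [Ideal.mk_ker]))
  have hinj : Function.Injective (Ideal.Quotient.mk (nilradical W)) := by
    intro a b hab
    have h1 := congrArg r hab
    have h2 : ∀ w, r (Ideal.Quotient.mk (nilradical W) w) = w := fun w => RingHom.congr_fun hr w
    rwa [h2, h2] at h1
  constructor
  intro x hx
  apply hinj
  rw [map_zero, Ideal.Quotient.eq_zero_iff_mem]
  exact mem_nilradical.mpr hx

end Retraction

section Elementary

variable (W : Type u) [CommRing W]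

/-- A copy of `Om W` with the `W`-algebra structure given by `delta`. -/
def OmAlg : Type u := Om W

noncomputable instance : CommRing (OmAlg W) := inferInstanceAs (CommRing (Om W))

noncomputable instance : Algebra W (OmAlg W) := (delta W).toAlgebra

theorem algebraMap_omAlg (w : W) : algebraMap W (OmAlg W) w = delta W w := rfl

variable {W}

theorem delta_injective [IsReduced W] : Function.Injective (delta W) := by
  rw [injective_iff_map_eq_zero]
  intro a ha
  have := ker_delta_le W (RingHom.mem_ker.mpr ha)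
  rw [nilradical_eq_zero] at this
  exact this

/-- Adjoining one elementary element gives a `UH` extension. -/
theorem UH_adjoin_of_StP [IsReduced W] (t : OmAlg W) (ht : StP (⊥ : Subalgebra W (OmAlg W)) t) :
    UH (algebraMap W (Algebra.adjoin W {t})) := by
  have hinj : Function.Injective (algebraMap W (Algebra.adjoin W {t})) := by
    intro a b hab
    apply delta_injective (W := W)
    exact congrArg Subtype.val hab
  apply UH_of_towers hinj
  intro b
  let t' : Algebra.adjoin W {t} := ⟨t, Algebra.subset_adjoin rfl⟩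
  have hbot : ∀ z : Algebra.adjoin W {t}, (z : OmAlg W) ∈ (⊥ : Subalgebra W (OmAlg W)) →
      z ∈ Algebra.adjoin W {x : Algebra.adjoin W {t} | x ∈ ([] : List (Algebra.adjoin W {t}))} := by
    intro z hz
    obtain ⟨w, hw⟩ := Algebra.mem_bot.mp hz
    have : z = algebraMap W (Algebra.adjoin W {t}) w := Subtype.ext hw.symm
    rw [this]
    exact Subalgebra.algebraMap_mem _ w
  have hSt : StP (Algebra.adjoin W {x : Algebra.adjoin W {t} | x ∈ ([] : List _)}) t' := by
    rcases ht with ⟨h2, h3⟩ | ⟨p, hp, h1, h2⟩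
    · exact Or.inl ⟨hbot (t' ^ 2) h2, hbot (t' ^ 3) h3⟩
    · refine Or.inr ⟨p, hp, hbot ((p : Algebra.adjoin W {t}) * t') ?_, hbot (t' ^ p) h2⟩
      simpa using h1
  have htower : IsTower (StP (A := W) (B := Algebra.adjoin W {t})) ([] ++ [t']) :=
    isTower_concat StP_mono (isTower_nil _) hSt
  refine ⟨[] ++ [t'], htower, ?_⟩
  have htop : Algebra.adjoin W {x : Algebra.adjoin W {t} | x ∈ ([] ++ [t'] : List _)} = ⊤ := by
    have e : {x : Algebra.adjoin W {t} | x ∈ ([] ++ [t'] : List _)} =
        ((↑) : Algebra.adjoin W {t} → OmAlg W) ⁻¹' {t} := by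
      ext x
      simp only [List.nil_append, List.mem_singleton, Set.mem_ofPred_eq, Set.mem_preimage,
        Set.mem_singleton_iff]
      exact ⟨fun h => by rw [h], fun h => Subtype.ext h⟩
    rw [e]
    exact Algebra.adjoin_adjoin_coe_preimage
  rw [htop]
  exact Algebra.mem_top

/-- Pointwise roots for the square-cube relation in a field. -/
theorem exists_sq_cube_field {K : Type*} [Field K] (u v : K) (h : u ^ 3 = v ^ 2) :
    ∃ t : K, t ^ 2 = u ∧ t ^ 3 = v := by
  by_cases hu : u = 0
  · subst hu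
    have hv : v = 0 := by
      have : v ^ 2 = 0 := by rw [← h]; ring
      exact (pow_eq_zero_iff (by norm_num)).mp this
    exact ⟨0, by ring, by rw [hv]; ring⟩
  · refine ⟨v / u, ?_, ?_⟩
    · rw [div_pow, ← h]; field_simp
    · rw [div_pow]
      have : v ^ 3 = v * u ^ 3 := by rw [h]; ring
      rw [this]; field_simp

/-- Pointwise roots for the `p`-relation in an algebraically closed field. -/
theorem exists_prime_field {K : Type*} [Field K] [IsAlgClosed K] (p : ℕ) (hp : p.Prime) (u v : K)
    (h : (p : K) ^ p * u = v ^ p) : ∃ t : K, (p : K) * t = v ∧ t ^ p = u := by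
  by_cases h0 : (p : K) = 0
  · obtain ⟨t, ht⟩ := IsAlgClosed.exists_pow_nat_eq u hp.pos
    have hv : v = 0 := by
      have : v ^ p = 0 := by rw [← h, h0, zero_pow hp.ne_zero, zero_mul]
      exact (pow_eq_zero_iff hp.ne_zero).mp this
    exact ⟨t, by rw [h0, hv, zero_mul], ht⟩
  · refine ⟨v / p, by field_simp, ?_⟩
    rw [div_pow, ← h]
    field_simp

variable {A : Type u} [CommRing A] (φ : A →+* W)

theorem exists_of_StP_of_isRingAWN (hφ : HTop.IsRingAWN φ) (t : OmAlg W)
    (ht : StP (⊥ : Subalgebra W (OmAlg W)) t) : ∃ a : W, delta W a = t := by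
  haveI : IsReduced W := isReduced_of_isRingAWN φ hφ
  obtain ⟨r, hr⟩ := exists_retraction_of_isRingAWN φ hφ _ (UH_adjoin_of_StP t ht)
  let t' : Algebra.adjoin W {t} := ⟨t, Algebra.subset_adjoin rfl⟩
  have hr' : ∀ w : W, r (algebraMap W (Algebra.adjoin W {t}) w) = w :=
    fun w => RingHom.congr_fun hr w
  have hval : ∀ (z : Algebra.adjoin W {t}) (w : W), (z : OmAlg W) = delta W w → r z = w := by
    intro z w hzw
    have : z = algebraMap W (Algebra.adjoin W {t}) w := Subtype.ext hzw
    rw [this, hr']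
  refine ⟨r t', ?_⟩
  rcases ht with ⟨h2, h3⟩ | ⟨p, hp, h1, h2⟩
  · obtain ⟨x, hx⟩ := Algebra.mem_bot.mp h2
    obtain ⟨y, hy⟩ := Algebra.mem_bot.mp h3
    have e2 : r t' ^ 2 = x := by
      rw [← map_pow]
      exact hval _ _ hx.symm
    have e3 : r t' ^ 3 = y := by
      rw [← map_pow]
      exact hval _ _ hy.symm
    funext q
    apply eq_of_sq_cube
    · have := congrFun hx q
      have h' : (delta W (r t') q) ^ 2 = delta W x q := by
        rw [← e2, map_pow]; rfl
      rw [h']
      exact this
    · have := congrFun hy q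
      have h' : (delta W (r t') q) ^ 3 = delta W y q := by
        rw [← e3, map_pow]; rfl
      rw [h']
      exact this
  · obtain ⟨y, hy⟩ := Algebra.mem_bot.mp h1
    obtain ⟨x, hx⟩ := Algebra.mem_bot.mp h2
    have e1 : (p : W) * r t' = y := by
      have : (p : W) * r t' = r ((p : Algebra.adjoin W {t}) * t') := by
        rw [map_mul, map_natCast]
      rw [this]
      apply hval
      refine Eq.trans ?_ hy.symm
      rw [Subalgebra.coe_mul]
      congr 1
    have e2 : r t' ^ p = x := by
      rw [← map_pow]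
      exact hval _ _ hx.symm
    funext q
    apply eq_of_prime p hp
    · have := congrFun hy q
      have h' : (p : AlgebraicClosure q.asIdeal.ResidueField) * (delta W (r t') q) =
          delta W y q := by
        rw [← e1, map_mul, map_natCast]; rfl
      rw [h']
      exact this
    · have := congrFun hx q
      have h' : (delta W (r t') q) ^ p = delta W x q := by
        rw [← e2, map_pow]; rfl
      rw [h']
      exact this

theorem isAWNRing_of_isRingAWN (hφ : HTop.IsRingAWN φ) : HTop.IsAWNRing W := by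
  haveI : IsReduced W := isReduced_of_isRingAWN φ hφ
  refine ⟨?_, ?_⟩
  · intro x y hxy
    have hpt : ∀ q : PrimeSpectrum W, ∃ t : AlgebraicClosure q.asIdeal.ResidueField,
        t ^ 2 = delta W x q ∧ t ^ 3 = delta W y q := by
      intro q
      apply exists_sq_cube_field
      have := congrArg (fun w => delta W w q) hxy
      simpa [map_pow] using this
    choose t ht2 ht3 using hpt
    obtain ⟨a, ha⟩ := exists_of_StP_of_isRingAWN φ hφ (t : OmAlg W) (Or.inl
      ⟨Algebra.mem_bot.mpr ⟨x, funext fun q => (ht2 q).symm⟩,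
        Algebra.mem_bot.mpr ⟨y, funext fun q => (ht3 q).symm⟩⟩)
    have hx : x = a ^ 2 := by
      apply delta_injective (W := W)
      rw [map_pow, ha]
      funext q
      exact (ht2 q).symm
    have hy : y = a ^ 3 := by
      apply delta_injective (W := W)
      rw [map_pow, ha]
      funext q
      exact (ht3 q).symm
    refine ⟨a, ⟨hx, hy⟩, ?_⟩
    rintro a' ⟨hx', hy'⟩
    exact eq_of_sq_cube_of_isReduced (by rw [← hx', ← hx]) (by rw [← hy', ← hy])
  · intro p hp x y hxy
    have hpt : ∀ q : PrimeSpectrum W, ∃ t : AlgebraicClosure q.asIdeal.ResidueField,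
        (p : AlgebraicClosure q.asIdeal.ResidueField) * t = delta W y q ∧
          t ^ p = delta W x q := by
      intro q
      apply exists_prime_field p hp
      have := congrArg (fun w => delta W w q) hxy
      simpa [map_pow, map_mul] using this
    choose t ht1 ht2 using hpt
    obtain ⟨a, ha⟩ := exists_of_StP_of_isRingAWN φ hφ (t : OmAlg W) (Or.inr
      ⟨p, hp, Algebra.mem_bot.mpr ⟨y, funext fun q => by
          rw [algebraMap_omAlg]
          refine (ht1 q).symm.trans ?_
          rfl⟩,
        Algebra.mem_bot.mpr ⟨x, funext fun q => (ht2 q).symm⟩⟩)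
    have hx : x = a ^ p := by
      apply delta_injective (W := W)
      rw [map_pow, ha]
      funext q
      exact (ht2 q).symm
    have hy : y = (p : W) * a := by
      apply delta_injective (W := W)
      rw [map_mul, map_natCast, ha]
      funext q
      exact (ht1 q).symm
    refine ⟨a, ⟨hx, hy⟩, ?_⟩
    rintro a' ⟨hx', hy'⟩
    exact eq_of_prime_of_isReduced p hp (by rw [← hy', ← hy]) (by rw [← hx', ← hx])

end Elementary

section Converse

variable {B W : Type u} [CommRing B] [CommRing W]

theorem isReduced_of_isAWNRing (hB : HTop.IsAWNRing B) : IsReduced B := by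
  constructor
  intro b hb
  -- reduce to square-zero
  have key : ∀ c : B, c ^ 2 = 0 → c = 0 := by
    intro c hc
    have hc3 : c ^ 3 = 0 := by rw [pow_succ, hc, zero_mul]
    obtain ⟨a, -, huniq⟩ := hB.1 0 0 (by ring)
    have h1 : c = a := huniq c ⟨hc.symm, hc3.symm⟩
    have h2 : (0 : B) = a := huniq 0 ⟨by ring, by ring⟩
    rw [h1, ← h2]
  obtain ⟨n, hn⟩ := hb
  induction n using Nat.strong_induction_on generalizing b with
  | _ n ih =>
    rcases (show n = 0 ∨ n = 1 ∨ 2 ≤ n by omega) with rfl | rfl | h2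
    · rw [pow_zero] at hn
      have : b = b * 1 := (mul_one b).symm
      rw [this, hn, mul_zero]
    · rwa [pow_one] at hn
    · -- b ^ (n - 1) squares to zero
      have h3 : (b ^ (n - 1)) ^ 2 = 0 := by
        rw [← pow_mul]
        have : (n - 1) * 2 = n + (n - 2) := by omega
        rw [this, pow_add, hn, zero_mul]
      exact ih (n - 1) (by omega) b (key _ h3)

theorem bijective_of_UH_of_isAWNRing (χ : B →+* W) (hχ : UH χ) (hB : HTop.IsAWNRing B)
    [IsReduced W] : Function.Bijective χ := by
  haveI : IsReduced B := isReduced_of_isAWNRing hB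
  have hinj : Function.Injective χ := by
    rw [injective_iff_map_eq_zero]
    intro b hb
    have hmem : b ∈ RingHom.ker χ := RingHom.mem_ker.mpr hb
    have h1 : b ∈ nilradical B := by
      rw [nilradical_eq_sInf, Ideal.mem_sInf]
      intro P hP
      obtain ⟨Q, hQ⟩ := hχ.2.1 ⟨P, hP⟩
      have h1 : b ∈ (PrimeSpectrum.comap χ Q).asIdeal := by
        show χ b ∈ Q.asIdeal
        rw [hb]
        exact zero_mem _
      rw [hQ] at h1
      exact h1
    rw [nilradical_eq_zero] at h1
    exact h1
  refine ⟨hinj, ?_⟩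
  letI := χ.toAlgebra
  have hmem : ∀ w : W, w ∈ (⊥ : Subalgebra B W) ↔ w ∈ χ.range := by
    intro w
    rw [Algebra.mem_bot]
    rfl
  have hι_int : (algebraMap (⊥ : Subalgebra B W) W).IsIntegral := by
    intro w
    exact (show IsIntegral B w from hχ.1 w).tower_top
  have hUH' : UH (algebraMap (⊥ : Subalgebra B W) W) :=
    UH_of_comp_right (algebraMap B (⊥ : Subalgebra B W)) (algebraMap (⊥ : Subalgebra B W) W)
      Subtype.val_injective hι_int hχ
  have htop : (⊥ : Subalgebra B W) = ⊤ := by
    apply eq_top_of_closed _ hUH'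
    · intro w h2 h3
      obtain ⟨x, hx⟩ := (hmem _).mp h2
      obtain ⟨y, hy⟩ := (hmem _).mp h3
      have hxy : x ^ 3 = y ^ 2 := by
        apply hinj
        rw [map_pow, map_pow, hx, hy]
        ring
      obtain ⟨a, ⟨ha2, ha3⟩, -⟩ := hB.1 x y hxy
      have : χ a = w := by
        apply eq_of_sq_cube_of_isReduced
        · rw [← map_pow, ← ha2, hx]
        · rw [← map_pow, ← ha3, hy]
      exact (hmem w).mpr ⟨a, this⟩
    · intro p hp w h1 h2
      obtain ⟨y, hy⟩ := (hmem _).mp h1
      obtain ⟨x, hx⟩ := (hmem _).mp h2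
      have hxy : (p : B) ^ p * x = y ^ p := by
        apply hinj
        rw [map_mul, map_pow, map_pow, map_natCast, hx, hy]
        ring
      obtain ⟨a, ⟨ha1, ha2⟩, -⟩ := hB.2 p hp x y hxy
      have : χ a = w := by
        apply eq_of_prime_of_isReduced p hp
        · rw [← hy, ha2, map_mul, map_natCast]
        · rw [← map_pow, ← ha1, hx]
      exact (hmem w).mpr ⟨a, this⟩
  intro w
  have hw : w ∈ (⊥ : Subalgebra B W) := htop ▸ Algebra.mem_top
  exact (hmem w).mp hw

end Converse

end Groth.Agent.Lib.Helper20.AWN
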