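import Mathlib
import Groth.Prelude.Def_HTop2
import Groth.Agent.Lib.Helper20EtaPtSN

set_option autoImplicit false
set_option linter.style.haveILetI false

universe u

open AlgebraicGeometry CategoryTheory Limits

namespace Groth.Agent.Lib.Helper20.ImgUH

variable {X Y Z W : Scheme.{u}}

theorem isHomeomorph_of_isUnivHomeo (f : X ⟶ Y) (h : FlatMor.IsUnivHomeo f) :
    IsHomeomorph f :=
  h (𝟙 X) (𝟙 Y) f (IsPullback.of_id_snd)

theorem universallyClosed_of_isUnivHomeo (f : X ⟶ Y) (h : FlatMor.IsUnivHomeo f) :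
    UniversallyClosed f :=
  ⟨fun _ _ i₁ i₂ f' hp => (h i₁ i₂ f' hp).isClosedMap⟩

theorem universallyInjective_of_isUnivHomeo (f : X ⟶ Y) (h : FlatMor.IsUnivHomeo f) :
    UniversallyInjective f :=
  ⟨fun _ _ i₁ i₂ f' hp => (h i₁ i₂ f' hp).injective⟩

theorem surjective_of_isUnivHomeo (f : X ⟶ Y) (h : FlatMor.IsUnivHomeo f) :
    Surjective f :=
  ⟨(isHomeomorph_of_isUnivHomeo f h).surjective⟩

theorem universallyInjective_of_comp_surjective (f : X ⟶ Y) (g : Y ⟶ Z)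
    [UniversallyInjective (f ≫ g)] [Surjective f] : UniversallyInjective g := by
  constructor
  intro X' Y' i₁ i₂ f' H
  have := UniversallyInjective.universally_injective _ _ _
    ((IsPullback.of_hasPullback i₁ f).paste_horiz H)
  have hs : Function.Surjective (pullback.fst i₁ f) :=
    (MorphismProperty.pullback_fst (P := @Surjective) _ _ ‹_›).1
  intro a b hab
  obtain ⟨a', rfl⟩ := hs a
  obtain ⟨b', rfl⟩ := hs b
  congr 1
  apply this
  simpa using hab

theorem residueFieldsIso_of_comp_surjective (f : X ⟶ Y) (g : Y ⟶ Z) [Surjective f]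
    (h : HTop.ResidueFieldsIso (f ≫ g)) : HTop.ResidueFieldsIso g := by
  intro y
  obtain ⟨x, rfl⟩ := f.surjective y
  have key : (f ≫ g).residueFieldMap x = g.residueFieldMap (f x) ≫ f.residueFieldMap x :=
    Scheme.residueFieldMap_comp f g x
  obtain ⟨i, hi1, hi2⟩ := (h x).out
  let i' : X.residueField x ⟶ Z.residueField (g (f x)) := i
  have hi1' : (g.residueFieldMap (f x) ≫ f.residueFieldMap x) ≫ i' = 𝟙 _ :=
    (congrArg (· ≫ i) key).symm.trans hi1
  have hi2' : i' ≫ (g.residueFieldMap (f x) ≫ f.residueFieldMap x) = 𝟙 _ :=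
    (congrArg (i ≫ ·) key).symm.trans hi2
  have hm : Mono (f.residueFieldMap x) :=
    ConcreteCategory.mono_of_injective _ (f.residueFieldMap x).hom.injective
  have hse : IsSplitEpi (f.residueFieldMap x) :=
    ⟨⟨⟨i' ≫ g.residueFieldMap (f x), by rw [Category.assoc, hi2']⟩⟩⟩
  have h2 : IsIso (f.residueFieldMap x) := isIso_of_mono_of_isSplitEpi _
  have h1 : IsIso (g.residueFieldMap (f x) ≫ f.residueFieldMap x) := ⟨⟨i', hi1', hi2'⟩⟩
  exact @IsIso.of_isIso_comp_right _ _ _ _ _ (g.residueFieldMap (f x)) (f.residueFieldMap x) h2 h1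

theorem ker_toImage (f : X ⟶ Y) [QuasiCompact f] : f.toImage.ker = ⊥ := by
  refine Scheme.IdealSheafData.ext_of_iSup_eq_top (ι := Y.affineOpens)
    (fun U => ⟨f.imageι ⁻¹ᵁ U.1, U.2.preimage f.imageι⟩) ?_ ?_
  · rw [eq_top_iff]
    rintro x -
    obtain ⟨U, hU, hxU, -⟩ := exists_isAffineOpen_mem_and_subset (x := f.imageι x)
      (U := ⊤) trivial
    exact TopologicalSpace.Opens.mem_iSup.mpr ⟨⟨U, hU⟩, hxU⟩
  · intro U
    rw [Scheme.Hom.ker_apply]
    change _ = (⊥ : Ideal _)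
    rw [← RingHom.injective_iff_ker_eq_bot]
    exact f.toImage_app_injective U

theorem ext_of_ker_eq_bot (ι : W ⟶ X) (hι : ι.ker = ⊥) {f g : X ⟶ Y}
    (s : Y ⟶ Z) [IsSeparated s] (h : f ≫ s = g ≫ s) (hU : ι ≫ f = ι ≫ g) : f = g := by
  let X' : Over Z := Over.mk (f ≫ s)
  let Y' : Over Z := Over.mk s
  let U' : Over Z := Over.mk (ι ≫ f ≫ s)
  let f' : X' ⟶ Y' := Over.homMk f
  let g' : X' ⟶ Y' := Over.homMk g
  let ι' : U' ⟶ X' := Over.homMk ι
  have : IsSeparated Y'.hom := ‹_›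
  have hfac : (equalizer.lift ι' (by ext1; exact hU : ι' ≫ f' = ι' ≫ g')).left ≫
      (equalizer.ι f' g').left = ι := by
    rw [← Over.comp_left, equalizer.lift_ι]
    rfl
  have hk : (equalizer.ι f' g').left.ker = ⊥ := by
    rw [eq_bot_iff, ← hι, ← hfac]
    exact Scheme.Hom.le_ker_comp _ _
  have := (IsClosedImmersion.isIso_iff_ker_eq_bot (f := (equalizer.ι f' g').left)).mpr hk
  rw [← cancel_epi (equalizer.ι f' g').left]
  exact congr($(equalizer.condition f' g').left)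

/-- The key construction: scheme-theoretic image of a lift of a universal homeomorphism
into a separated, locally finite type `T`-scheme is finite and a universal homeomorphism. -/
theorem image_isFinite_isUnivHomeo {T' T P : Scheme.{u}} (ν : T' ⟶ T) (hν : FlatMor.IsUnivHomeo ν)
    (p : P ⟶ T) [IsSeparated p] [LocallyOfFiniteType p] (γ : T' ⟶ P) [QuasiCompact γ]
    (hγ : γ ≫ p = ν) :
    IsFinite (γ.imageι ≫ p) ∧ FlatMor.IsUnivHomeo (γ.imageι ≫ p) ∧
      (HTop.ResidueFieldsIso ν → HTop.ResidueFieldsIso (γ.imageι ≫ p)) := by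
  have h1 := universallyClosed_of_isUnivHomeo ν hν
  have h2 := universallyInjective_of_isUnivHomeo ν hν
  have h3 := surjective_of_isUnivHomeo ν hν
  have e1 : γ.toImage ≫ γ.imageι ≫ p = ν := by
    rw [← Category.assoc, γ.toImage_imageι, hγ]
  have : UniversallyClosed γ := by
    have : UniversallyClosed (γ ≫ p) := by rw [hγ]; exact h1
    exact UniversallyClosed.of_comp_of_isSeparated γ p
  have : UniversallyClosed γ.toImage := by
    have : UniversallyClosed (γ.toImage ≫ γ.imageι) := by rw [γ.toImage_imageι]; infer_instance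
    exact UniversallyClosed.of_comp_of_isSeparated γ.toImage γ.imageι
  have hsurj : Surjective γ.toImage :=
    surjective_of_isDominant_of_isClosed_range _ (γ.toImage.isClosedMap.isClosed_range)
  have : UniversallyClosed (γ.toImage ≫ γ.imageι ≫ p) := by rw [e1]; exact h1
  have : UniversallyInjective (γ.toImage ≫ γ.imageι ≫ p) := by rw [e1]; exact h2
  have : Surjective (γ.toImage ≫ γ.imageι ≫ p) := by rw [e1]; exact h3
  have : UniversallyClosed (γ.imageι ≫ p) := UniversallyClosed.of_comp_surjective γ.toImage _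
  have : UniversallyInjective (γ.imageι ≫ p) :=
    universallyInjective_of_comp_surjective γ.toImage _
  have : Surjective (γ.imageι ≫ p) := Surjective.of_comp γ.toImage _
  have : IsProper (γ.imageι ≫ p) := {}
  refine ⟨IsFinite.of_isProper_of_locallyQuasiFinite _, ?_, ?_⟩
  · exact Groth.Agent.Lib.Helper20.EtaPt.isUnivHomeo_of _
  · intro hres
    apply residueFieldsIso_of_comp_surjective γ.toImage
    rw [e1]
    exact hres

theorem noetherianSpace_of_isUnivHomeo {T' T : Scheme.{u}} [IsNoetherian T] (ν : T' ⟶ T)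
    (hν : FlatMor.IsUnivHomeo ν) : TopologicalSpace.NoetherianSpace T' :=
  (TopologicalSpace.noetherianSpace_iff_of_homeomorph
    (isHomeomorph_of_isUnivHomeo ν hν).homeomorph).mpr inferInstance

theorem main_exists {S X T T' : Scheme.{u}} [IsNoetherian T] [X.IsSeparated]
    (fX : X ⟶ S) [LocallyOfFiniteType fX] (fT : T ⟶ S) (ν : T' ⟶ T)
    (hν : FlatMor.IsUnivHomeo ν) (g : T' ⟶ X) (hg : g ≫ fX = ν ≫ fT) :
    ∃ (T₁ : Scheme.{u}) (π : T₁ ⟶ T) (_ : IsFinite π) (_ : FlatMor.IsUnivHomeo π)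
      (_ : HTop.ResidueFieldsIso ν → HTop.ResidueFieldsIso π) (g₁ : T₁ ⟶ X) (h : T' ⟶ T₁),
      h ≫ π = ν ∧ g₁ ≫ fX = π ≫ fT ∧ h ≫ g₁ = g := by
  have := noetherianSpace_of_isUnivHomeo ν hν
  let γ : T' ⟶ pullback fT fX := pullback.lift ν g hg.symm
  have hγ : γ ≫ pullback.fst fT fX = ν := pullback.lift_fst _ _ _
  obtain ⟨h1, h2, h3⟩ := image_isFinite_isUnivHomeo ν hν (pullback.fst fT fX) γ hγ
  refine ⟨γ.image, γ.imageι ≫ pullback.fst fT fX, h1, h2, h3, γ.imageι ≫ pullback.snd fT fX,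
    γ.toImage, ?_, ?_, ?_⟩
  · rw [← Category.assoc, γ.toImage_imageι, hγ]
  · rw [Category.assoc, Category.assoc, pullback.condition]
  · rw [← Category.assoc, γ.toImage_imageι]
    exact pullback.lift_snd _ _ _

theorem main_unique {S X T T' : Scheme.{u}} [IsNoetherian T] [X.IsSeparated]
    (fX : X ⟶ S) (fT : T ⟶ S) (ν : T' ⟶ T) (hν : FlatMor.IsUnivHomeo ν)
    (T₁ T₂ : Scheme.{u}) (π₁ : T₁ ⟶ T) (π₂ : T₂ ⟶ T) [IsFinite π₁] [IsFinite π₂]
    (g₁ : T₁ ⟶ X) (g₂ : T₂ ⟶ X) (h₁ : T' ⟶ T₁) (h₂ : T' ⟶ T₂)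
    (e₁ : g₁ ≫ fX = π₁ ≫ fT) (e₂ : g₂ ≫ fX = π₂ ≫ fT) (hh₁ : h₁ ≫ π₁ = ν) (hh₂ : h₂ ≫ π₂ = ν)
    (hg : h₁ ≫ g₁ = h₂ ≫ g₂) :
    ∃ (T₃ : Scheme.{u}) (π₃ : T₃ ⟶ T) (_ : IsFinite π₃) (_ : FlatMor.IsUnivHomeo π₃)
      (_ : HTop.ResidueFieldsIso ν → HTop.ResidueFieldsIso π₃) (a₁ : T₃ ⟶ T₁) (a₂ : T₃ ⟶ T₂),
      a₁ ≫ π₁ = π₃ ∧ a₂ ≫ π₂ = π₃ ∧ a₁ ≫ g₁ = a₂ ≫ g₂ := by
  have := noetherianSpace_of_isUnivHomeo ν hν
  let γ : T' ⟶ pullback π₁ π₂ := pullback.lift h₁ h₂ (hh₁.trans hh₂.symm)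
  have hγ : γ ≫ (pullback.fst π₁ π₂ ≫ π₁) = ν := by
    rw [← Category.assoc, pullback.lift_fst, hh₁]
  obtain ⟨h1, h2, h3⟩ := image_isFinite_isUnivHomeo ν hν (pullback.fst π₁ π₂ ≫ π₁) γ hγ
  refine ⟨γ.image, γ.imageι ≫ pullback.fst π₁ π₂ ≫ π₁, h1, h2, h3,
    γ.imageι ≫ pullback.fst π₁ π₂, γ.imageι ≫ pullback.snd π₁ π₂, ?_, ?_, ?_⟩
  · rw [Category.assoc]
  · rw [Category.assoc, pullback.condition]
  · have : IsSeparated fX := inferInstance
    refine ext_of_ker_eq_bot γ.toImage (ker_toImage γ) fX ?_ ?_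
    · simp only [Category.assoc]
      rw [e₁, e₂, ← Category.assoc (pullback.snd π₁ π₂), ← pullback.condition]
      simp only [Category.assoc]
    · rw [← Category.assoc, ← Category.assoc, γ.toImage_imageι, pullback.lift_fst,
        ← Category.assoc, ← Category.assoc, γ.toImage_imageι, pullback.lift_snd, hg]

end Groth.Agent.Lib.Helper20.ImgUH
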