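import Groth.Agent.Lib.Helper20AWNFun
import Groth.Agent.Lib.Helper20ImgUH
import Groth.Agent.Lib.Helper10RedInd
import Groth.Agent.S7420
import Groth.Agent.S7421

/-!
# Absolute weak normalization of schemes (helper20)
-/

set_option autoImplicit false
set_option linter.style.haveILetI false

universe u

namespace Groth.Agent.Lib.Helper20.AWNSch

open AlgebraicGeometry CategoryTheory Limits TopologicalSpace
open Groth.Agent.Lib.Helper20.AWN Groth.Agent.Lib.Helper20.AWNFun Groth.Agent.Lib.Helper20.ImgUH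

variable {X Y Z W : Scheme.{u}}

theorem isUnivHomeo_iff (f : X ⟶ Y) :
    FlatMor.IsUnivHomeo f ↔ UniversallyClosed f ∧ UniversallyInjective f ∧ Surjective f :=
  ⟨fun h => ⟨universallyClosed_of_isUnivHomeo f h, universallyInjective_of_isUnivHomeo f h,
    surjective_of_isUnivHomeo f h⟩,
   fun ⟨_, _, _⟩ => Groth.Agent.Lib.Helper20.EtaPt.isUnivHomeo_of f⟩

theorem isAffineHom_of_isUnivHomeo (f : X ⟶ Y) (h : FlatMor.IsUnivHomeo f) : IsAffineHom f := by
  have hh := isHomeomorph_of_isUnivHomeo f h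
  refine isAffineHom_of_isInducing f hh.isInducing ?_
  rw [hh.surjective.range_eq]
  exact isClosed_univ

instance : FlatMor.IsUnivHomeo.IsStableUnderBaseChange := by
  unfold FlatMor.IsUnivHomeo; infer_instance

instance : FlatMor.IsUnivHomeo.RespectsIso := by
  unfold FlatMor.IsUnivHomeo; infer_instance

theorem isUnivHomeo_of_isPullback {P : Scheme.{u}} {fst : P ⟶ X} {snd : P ⟶ Y} {f : X ⟶ Z}
    {g : Y ⟶ Z} (h : IsPullback fst snd f g) (hg : FlatMor.IsUnivHomeo g) :
    FlatMor.IsUnivHomeo fst :=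
  MorphismProperty.of_isPullback (P := FlatMor.IsUnivHomeo) h.flip hg

theorem isUnivHomeo_of_isIso (f : X ⟶ Y) [IsIso f] : FlatMor.IsUnivHomeo f :=
  Groth.Agent.Lib.Helper20.EtaPt.isUnivHomeo_of f

theorem isUnivHomeo_comp (f : X ⟶ Y) (g : Y ⟶ Z) (hf : FlatMor.IsUnivHomeo f)
    (hg : FlatMor.IsUnivHomeo g) : FlatMor.IsUnivHomeo (f ≫ g) := by
  obtain ⟨_, h1, _⟩ := (isUnivHomeo_iff f).mp hf
  obtain ⟨_, h2, _⟩ := (isUnivHomeo_iff g).mp hg
  exact (isUnivHomeo_iff _).mpr ⟨inferInstance,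
    MorphismProperty.comp_mem @UniversallyInjective f g h1 h2, inferInstance⟩

theorem universallyInjective_of_comp (f : X ⟶ Y) (g : Y ⟶ Z) [UniversallyInjective (f ≫ g)] :
    UniversallyInjective f := by
  refine ((tfae_universallyInjective f).out 0 1).mpr ?_
  intro K _ a b hab
  have h1 : UniversallyInjective (f ≫ g) := inferInstance
  have h2 : ∀ (K : Type u) [Field K],
      Function.Injective (fun t : Spec (.of K) ⟶ X ↦ t ≫ f ≫ g) :=
    ((tfae_universallyInjective (f ≫ g)).out 0 1).mp h1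
  apply h2 K
  show a ≫ f ≫ g = b ≫ f ≫ g
  rw [← Category.assoc, ← Category.assoc]
  exact congrArg (· ≫ g) hab

theorem isUnivHomeo_of_comp (h : W ⟶ Y) (π : Y ⟶ X) (hπ : FlatMor.IsUnivHomeo π)
    (hν : FlatMor.IsUnivHomeo (h ≫ π)) : FlatMor.IsUnivHomeo h := by
  have := isAffineHom_of_isUnivHomeo π hπ
  obtain ⟨_, _, _⟩ := (isUnivHomeo_iff _).mp hν
  obtain ⟨_, hπi, _⟩ := (isUnivHomeo_iff _).mp hπ
  refine (isUnivHomeo_iff _).mpr ⟨UniversallyClosed.of_comp_of_isSeparated h π,
    universallyInjective_of_comp h π, ⟨fun y => ?_⟩⟩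
  obtain ⟨w, hw⟩ := (h ≫ π).surjective (π y)
  exact ⟨w, π.injective (by rw [← hw]; rfl)⟩

/-- A universal homeomorphism from a reduced affine scheme to an affine scheme with
absolutely weakly normal coordinate ring is an isomorphism. -/
theorem isIso_of_isAffine [IsAffine Z] [IsAffine W] (g : Z ⟶ W) (hg : FlatMor.IsUnivHomeo g)
    [IsReduced Z] (hW : HTop.IsAWNRing Γ(W, ⊤)) : IsIso g := by
  have h1 : FlatMor.IsUnivHomeo (Spec.map g.appTop) :=
    (MorphismProperty.arrow_mk_iso_iff FlatMor.IsUnivHomeo (arrowIsoSpecΓOfIsAffine g)).mp hg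
  have h2 : UH g.appTop.hom := (isUnivHomeo_iff_UH _).mp h1
  have h3 := bijective_of_UH_of_isAWNRing g.appTop.hom h2 hW
  have h4 : IsIso g.appTop := (ConcreteCategory.isIso_iff_bijective _).mpr h3
  have h5 : IsIso (Spec.map g.appTop) := inferInstance
  exact (MorphismProperty.arrow_mk_iso_iff (MorphismProperty.isomorphisms Scheme)
    (arrowIsoSpecΓOfIsAffine g)).mpr h5

/-- (K) A universal homeomorphism from a reduced scheme to an absolutely weakly normal scheme is
an isomorphism. -/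
theorem isIso_of_isUnivHomeo_of_isAWN (q : Z ⟶ W) (hq : FlatMor.IsUnivHomeo q) [IsReduced Z]
    (hW : HTop.IsAWN W) : IsIso q := by
  have := isAffineHom_of_isUnivHomeo q hq
  have hW' := (Groth.Agent.S7420.result W).2.mp hW
  change MorphismProperty.isomorphisms Scheme q
  rw [IsZariskiLocalAtTarget.iff_of_iSup_eq_top (P := MorphismProperty.isomorphisms Scheme)
    (fun U : W.affineOpens => U.1) (iSup_affineOpens_eq_top W)]
  intro U
  have h1 : IsAffine (U.1 : Scheme) := U.2
  have h2 : IsAffine (q ⁻¹ᵁ U.1 : Scheme) := U.2.preimage q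
  have h3 : FlatMor.IsUnivHomeo (q ∣_ U.1) :=
    MorphismProperty.of_isPullback (P := FlatMor.IsUnivHomeo) (isPullback_morphismRestrict q U.1).flip hq
  refine isIso_of_isAffine (q ∣_ U.1) h3 ?_
  exact isAWNRing_of_ringEquiv (U.1.topIso).symm.commRingCatIsoToRingEquiv (hW' U)

/-- (U) Morphisms from a reduced scheme into the source of a universal homeomorphism are
determined by their composites with it. -/
theorem hom_ext_of_isUnivHomeo [IsReduced Z] (π : Y ⟶ X) (hπ : FlatMor.IsUnivHomeo π)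
    (h h' : Z ⟶ Y) (e : h ≫ π = h' ≫ π) : h = h' := by
  have := isAffineHom_of_isUnivHomeo π hπ
  have hinj := universallyInjective_of_isUnivHomeo π hπ
  have h2 : ∀ (K : Type u) [Field K],
      Function.Injective (fun t : Spec (.of K) ⟶ Y ↦ t ≫ π) :=
    ((tfae_universallyInjective π).out 0 1).mp hinj
  refine ext_of_fromSpecResidueField_eq h h' π Set.univ dense_univ (fun z _ => ?_) e
  apply h2 (Z.residueField z)
  show (Z.fromSpecResidueField z ≫ h) ≫ π = (Z.fromSpecResidueField z ≫ h') ≫ π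
  rw [Category.assoc, Category.assoc, e]

theorem exists_reduced (P : Scheme.{u}) :
    ∃ (R : Scheme.{u}) (i : R ⟶ P), IsReduced R ∧ FlatMor.IsUnivHomeo i := by
  refine ⟨(Scheme.IdealSheafData.vanishingIdeal (⊤ : Closeds P)).subscheme,
    (Scheme.IdealSheafData.vanishingIdeal (⊤ : Closeds P)).subschemeι,
    Groth.Agent.Lib.Helper10.RedInd.isReduced_subscheme_vanishingIdeal ⊤, ?_⟩
  have : Surjective (Scheme.IdealSheafData.vanishingIdeal (⊤ : Closeds P)).subschemeι := by
    constructor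
    rw [← Set.range_eq_univ, Scheme.IdealSheafData.range_subschemeι,
      Scheme.IdealSheafData.coe_support_vanishingIdeal]
    rfl
  exact Groth.Agent.Lib.Helper20.EtaPt.isUnivHomeo_of _

theorem exists_section (q : Z ⟶ W) (hq : FlatMor.IsUnivHomeo q) (hW : HTop.IsAWN W) :
    ∃ s : W ⟶ Z, s ≫ q = 𝟙 W := by
  obtain ⟨R, i, hR, hi⟩ := exists_reduced Z
  have : IsIso (i ≫ q) := isIso_of_isUnivHomeo_of_isAWN _ (isUnivHomeo_comp i q hi hq) hW
  exact ⟨inv (i ≫ q) ≫ i, by rw [Category.assoc, IsIso.inv_hom_id]⟩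

theorem isSeminormal_of_isAWN (hX : HTop.IsAWN X) : HTop.IsSeminormal X := by
  intro x
  obtain ⟨U, hxU, hU⟩ := hX x
  exact ⟨U, hxU, hU.1⟩

theorem isReduced_of_isAWN (hX : HTop.IsAWN X) : IsReduced X :=
  Groth.Agent.S7421.result.2 X (isSeminormal_of_isAWN hX)

/-- (G) A universal homeomorphism with absolutely weakly normal source is an absolute weak
normalization. -/
theorem isAWNormalization_of_isAWN {X' : Scheme.{u}} (ν : X' ⟶ X) (hν : FlatMor.IsUnivHomeo ν)
    (hX' : HTop.IsAWN X') : HTop.IsAWNormalization ν := by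
  refine ⟨hν, fun Y π hπ => ?_⟩
  haveI : IsReduced X' := isReduced_of_isAWN hX'
  obtain ⟨s, hs⟩ := exists_section (pullback.fst ν π)
    (isUnivHomeo_of_isPullback (IsPullback.of_hasPullback ν π) hπ) hX'
  refine ⟨s ≫ pullback.snd ν π, ?_, fun h' hh' => hom_ext_of_isUnivHomeo π hπ _ _ ?_⟩
  · show (s ≫ pullback.snd ν π) ≫ π = ν
    rw [Category.assoc, ← pullback.condition, ← Category.assoc, hs, Category.id_comp]
  · rw [hh', Category.assoc, ← pullback.condition, ← Category.assoc, hs, Category.id_comp]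

end Groth.Agent.Lib.Helper20.AWNSch
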