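import Groth.Agent.Lib.Helper20AWNFun
import Groth.Agent.Lib.Helper20ImgUH
import Groth.Agent.Lib.Helper20AWNSchA

set_option autoImplicit false
set_option linter.style.haveILetI false

universe u

namespace Groth.Agent.Lib.Helper20.AWNSch

open AlgebraicGeometry CategoryTheory Limits TopologicalSpace
open Groth.Agent.Lib.Helper20.AWN Groth.Agent.Lib.Helper20.AWNFun Groth.Agent.Lib.Helper20.ImgUH
open Scheme.AffineZariskiSite

section Construction

variable (X : Scheme.{u})

/-- The presheaf of absolute weak normalizations of the rings of sections. -/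
noncomputable def awnDiagram : X.Opensᵒᵖ ⥤ CommRingCat.{u} where
  obj U := .of (awn Γ(X, U.unop))
  map {U V} i := CommRingCat.ofHom (awnMap (X.presheaf.map i).hom)
  map_id U := by
    rw [X.presheaf.map_id]
    exact congrArg CommRingCat.ofHom awnMap_id
  map_comp i j := by
    rw [X.presheaf.map_comp]
    exact congrArg CommRingCat.ofHom (awnMap_comp _ _)

/-- The structure map to the presheaf of absolute weak normalizations. -/
noncomputable def awnDiagramMap : X.presheaf ⟶ awnDiagram X where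
  app U := CommRingCat.ofHom (toAwn Γ(X, U.unop))
  naturality {U V} i := by
    ext x
    exact (RingHom.congr_fun (awnMap_comp_toAwn (X.presheaf.map i).hom) x).symm

theorem coequifibered_awnDiagramMap :
    ((toOpensFunctor X).op.whiskerLeft (awnDiagramMap X)).Coequifibered := by
  refine coequifibered_iff_forall_isLocalizationAway.mpr fun U r => ?_
  have := U.2.isLocalization_basicOpen r
  exact isLocalization_awnMap _ r this

/-- The relative gluing data. -/
noncomputable def awnGlueData : (directedCover X).RelativeGluingData :=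
  relativeGluingData (coequifibered_awnDiagramMap X)

instance : ((awnGlueData X).functor ⋙ Scheme.forget).IsLocallyDirected :=
  Scheme.Cover.RelativeGluingData.instIsLocallyDirectedI₀CompFunctorForgetOfIsThin ..

/-- The absolute weak normalization of a scheme. -/
noncomputable def awnScheme : Scheme.{u} := (awnGlueData X).glued

/-- The structure morphism of the absolute weak normalization. -/
noncomputable def awnHom : awnScheme X ⟶ X := (awnGlueData X).toBase

/-- The charts. -/
noncomputable def awnChart (U : X.AffineZariskiSite) :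
    Spec (.of (awn Γ(X, U.1))) ⟶ awnScheme X :=
  colimit.ι (awnGlueData X).functor U

instance (U : X.AffineZariskiSite) : IsOpenImmersion (awnChart X U) :=
  inferInstanceAs (IsOpenImmersion ((awnGlueData X).cover.f U))

theorem isPullback_awnChart (U : X.AffineZariskiSite) :
    IsPullback (Spec.map (CommRingCat.ofHom (toAwn Γ(X, U.1))) ≫ U.2.isoSpec.inv)
      (awnChart X U) U.1.ι (awnHom X) :=
  (awnGlueData X).isPullback_natTrans_ι_toBase U

theorem exists_awnChart_eq (x : awnScheme X) :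
    ∃ (U : X.AffineZariskiSite) (y : Spec (.of (awn Γ(X, U.1)))), awnChart X U y = x :=
  (awnGlueData X).cover.exists_eq x

theorem isUnivHomeo_chartHom (U : X.AffineZariskiSite) :
    FlatMor.IsUnivHomeo (Spec.map (CommRingCat.ofHom (toAwn Γ(X, U.1))) ≫ U.2.isoSpec.inv) := by
  have h1 : FlatMor.IsUnivHomeo (Spec.map (CommRingCat.ofHom (toAwn Γ(X, U.1)))) :=
    (isUnivHomeo_iff_UH _).mpr (UH_toAwn _)
  exact isUnivHomeo_comp _ _ h1 (isUnivHomeo_of_isIso _)

theorem of_charts (P : MorphismProperty Scheme.{u}) [IsZariskiLocalAtTarget P]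
    (h : ∀ U : X.AffineZariskiSite,
      P (Spec.map (CommRingCat.ofHom (toAwn Γ(X, U.1))) ≫ U.2.isoSpec.inv)) :
    P (awnHom X) := by
  rw [IsZariskiLocalAtTarget.iff_of_openCover (P := P) (directedCover X)]
  intro U
  have sq := (isPullback_awnChart X U).flip
  have e : sq.isoPullback.hom ≫ pullback.snd (awnHom X) U.1.ι =
      Spec.map (CommRingCat.ofHom (toAwn Γ(X, U.1))) ≫ U.2.isoSpec.inv :=
    sq.isoPullback_hom_snd
  have h2 := h U
  rw [← e, P.cancel_left_of_respectsIso] at h2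
  exact h2

theorem isUnivHomeo_awnHom : FlatMor.IsUnivHomeo (awnHom X) := by
  have h := fun U => (Groth.Agent.Lib.Helper20.AWNSch.isUnivHomeo_iff _).mp
    (isUnivHomeo_chartHom X U)
  exact (Groth.Agent.Lib.Helper20.AWNSch.isUnivHomeo_iff _).mpr
    ⟨of_charts X @UniversallyClosed fun U => (h U).1,
     of_charts X @UniversallyInjective fun U => (h U).2.1,
     of_charts X @Surjective fun U => (h U).2.2⟩

theorem isAWN_awnScheme : HTop.IsAWN (awnScheme X) := by
  intro x
  obtain ⟨U, y, rfl⟩ := exists_awnChart_eq X x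
  refine ⟨⟨(awnChart X U) ''ᵁ ⊤, (isAffineOpen_top _).image_of_isOpenImmersion _⟩,
    ⟨y, trivial, rfl⟩, ?_⟩
  have e1 : Γ(awnScheme X, (awnChart X U) ''ᵁ ⊤) ≅ Γ(Spec (.of (awn Γ(X, U.1))), ⊤) :=
    (awnChart X U).appIso ⊤
  have e2 := Scheme.ΓSpecIso (.of (awn Γ(X, U.1)))
  exact isAWNRing_of_ringEquiv (e1 ≪≫ e2).symm.commRingCatIsoToRingEquiv (isAWNRing_awn _)

end Construction

theorem exists_isAWNormalization (X : Scheme.{u}) :
    ∃ (X' : Scheme.{u}) (ν : X' ⟶ X), HTop.IsAWNormalization ν :=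
  ⟨awnScheme X, awnHom X,
    isAWNormalization_of_isAWN _ (isUnivHomeo_awnHom X) (isAWN_awnScheme X)⟩

theorem isAWN_of_iso {X Y : Scheme.{u}} (e : X ≅ Y) (hY : HTop.IsAWN Y) : HTop.IsAWN X := by
  intro x
  obtain ⟨U, hxU, hU⟩ := hY (e.hom x)
  refine ⟨⟨e.hom ⁻¹ᵁ U.1, U.2.preimage_of_isIso e.hom⟩, hxU, ?_⟩
  exact isAWNRing_of_ringEquiv (asIso (e.hom.app U.1)).commRingCatIsoToRingEquiv hU

theorem isAWN_source_of_isAWNormalization {X' X : Scheme.{u}} (ν : X' ⟶ X)
    (hν : HTop.IsAWNormalization ν) : HTop.IsAWN X' := by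
  have h0 := isAWNormalization_of_isAWN _ (isUnivHomeo_awnHom X) (isAWN_awnScheme X)
  obtain ⟨a, ha, -⟩ := hν.2 (awnScheme X) (awnHom X) (isUnivHomeo_awnHom X)
  obtain ⟨b, hb, -⟩ := h0.2 X' ν hν.1
  have ha' : a ≫ awnHom X = ν := ha
  have hb' : b ≫ ν = awnHom X := hb
  have h1 : a ≫ b = 𝟙 X' := by
    obtain ⟨c, -, hc⟩ := hν.2 X' ν hν.1
    rw [hc (a ≫ b) (by show (a ≫ b) ≫ ν = ν; rw [Category.assoc, hb', ha']),
      hc (𝟙 _) (Category.id_comp _)]
  have h2 : b ≫ a = 𝟙 (awnScheme X) := by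
    obtain ⟨c, -, hc⟩ := h0.2 (awnScheme X) (awnHom X) (isUnivHomeo_awnHom X)
    rw [hc (b ≫ a) (by show (b ≫ a) ≫ awnHom X = awnHom X; rw [Category.assoc, ha', hb']),
      hc (𝟙 _) (Category.id_comp _)]
  exact isAWN_of_iso ⟨a, b, h1, h2⟩ (isAWN_awnScheme X)

theorem main_S7425 {X X' Y : Scheme.{u}} (ν : X' ⟶ X) (hν : HTop.IsAWNormalization ν)
    (π : Y ⟶ X) (hπ : FlatMor.IsUnivHomeo π) (h : X' ⟶ Y) (hh : h ≫ π = ν) :
    IsIso h ↔ HTop.IsAWN Y := by
  have hX' := isAWN_source_of_isAWNormalization ν hν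
  constructor
  · intro _
    exact isAWN_of_iso (asIso h).symm hX'
  · intro hY
    haveI := isReduced_of_isAWN hX'
    exact isIso_of_isUnivHomeo_of_isAWN h (isUnivHomeo_of_comp h π hπ (hh ▸ hν.1)) hY

theorem main_S7426 (X : Scheme.{u}) :
    (HTop.IsAWN X ↔ HTop.IsAWNormalization (𝟙 X)) ∧
    (HTop.IsAWN X ↔ ∀ (Y : Scheme.{u}) (π : Y ⟶ X), FlatMor.IsUnivHomeo π →
      AlgebraicGeometry.IsReduced Y → IsIso π) := by
  refine ⟨⟨fun h => isAWNormalization_of_isAWN (𝟙 X) (isUnivHomeo_of_isIso _) h,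
    fun h => isAWN_source_of_isAWNormalization _ h⟩,
    ⟨fun h Y π hπ hY => isIso_of_isUnivHomeo_of_isAWN π hπ h, fun h => ?_⟩⟩
  haveI := isReduced_of_isAWN (isAWN_awnScheme X)
  haveI := h _ (awnHom X) (isUnivHomeo_awnHom X) inferInstance
  exact isAWN_of_iso (asIso (awnHom X)).symm (isAWN_awnScheme X)

end Groth.Agent.Lib.Helper20.AWNSch
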