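import Mathlib

set_option autoImplicit false
universe v₁ v₂ v₃ v₄ u₁ u₂ u₃ u₄
open CategoryTheory

namespace Groth.Agent.Lib.Helper20.BaseChangeAbs

variable {𝒮 : Type u₁} {𝒳 : Type u₂} {𝒮' : Type u₃} {𝒳' : Type u₄}
  [Category.{v₁} 𝒮] [Category.{v₂} 𝒳] [Category.{v₃} 𝒮'] [Category.{v₄} 𝒳']
  {L : 𝒮 ⥤ 𝒳} {R : 𝒳 ⥤ 𝒮} {L' : 𝒮' ⥤ 𝒳'} {R' : 𝒳' ⥤ 𝒮'}
  {ρ : 𝒮 ⥤ 𝒮'} {j : 𝒮' ⥤ 𝒮} {ρ' : 𝒳 ⥤ 𝒳'} {j' : 𝒳' ⥤ 𝒳}
  (adj : L ⊣ R) (adj' : L' ⊣ R') (a : ρ ⊣ j) (a' : ρ' ⊣ j')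
  (e : j' ⋙ R ≅ R' ⋙ j) (c : R ⋙ ρ ≅ ρ' ⋙ R')

/-- base change for left adjoints: `ρ' L ≅ L' ρ`. -/
noncomputable def θ : L ⋙ ρ' ≅ ρ ⋙ L' :=
  (conjugateIsoEquiv (a.comp adj') (adj.comp a')).symm e.symm

include e c in
theorem isIso_map_unit [IsIso a.counit] [IsIso a'.counit] (M : 𝒮)
    (h : IsIso (adj'.unit.app (ρ.obj M))) : IsIso (ρ.map (adj.unit.app M)) := by
  have key : (a.comp adj').unit.app M ≫ e.inv.app _ =
      (adj.comp a').unit.app M ≫ (j' ⋙ R).map ((θ adj adj' a a' e).hom.app M) :=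
    unit_conjugateEquiv_symm (a.comp adj') (adj.comp a') e.inv M
  rw [Adjunction.comp_unit_app, Adjunction.comp_unit_app] at key
  have key2 := congrArg ρ.map key
  simp only [Functor.map_comp, Functor.comp_map] at key2
  -- left side is an isomorphism
  have h1 : IsIso (ρ.map (a.unit.app M)) := by
    rw [IsIso.eq_inv_of_inv_hom_id (a.left_triangle_components M)]
    infer_instance
  have h2 : IsIso (ρ'.map (a'.unit.app (L.obj M))) := by
    rw [IsIso.eq_inv_of_inv_hom_id (a'.left_triangle_components (L.obj M))]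
    infer_instance
  have h3 : IsIso (ρ.map (R.map (a'.unit.app (L.obj M)))) := by
    have hn := c.hom.naturality (a'.unit.app (L.obj M))
    simp only [Functor.comp_map] at hn
    have : ρ.map (R.map (a'.unit.app (L.obj M))) =
        c.hom.app _ ≫ R'.map (ρ'.map (a'.unit.app (L.obj M))) ≫ c.inv.app _ := by
      rw [← Category.assoc, ← hn]
      simp
    rw [this]
    infer_instance
  haveI := h
  have hl : IsIso ((ρ.map (a.unit.app M) ≫ ρ.map (j.map (adj'.unit.app (ρ.obj M)))) ≫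
      ρ.map (e.inv.app ((ρ ⋙ L').obj M))) := inferInstance
  rw [key2] at hl
  have hr : IsIso (ρ.map (R.map (a'.unit.app (L.obj M))) ≫
      ρ.map (R.map (j'.map ((θ adj adj' a a' e).hom.app M)))) := inferInstance
  rw [Category.assoc] at hl
  exact IsIso.of_isIso_comp_right _ (ρ.map (R.map (a'.unit.app (L.obj M))) ≫
      ρ.map (R.map (j'.map ((θ adj adj' a a' e).hom.app M))))

end Groth.Agent.Lib.Helper20.BaseChangeAbs
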