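import Groth.Agent.Lib.Helper20SNSch
import Groth.Agent.S5863
import Groth.Prelude.Def_EGA4Misc

/-!
# Pointwise-birational morphisms are stable under flat base change (helper20)
-/

set_option autoImplicit false
set_option linter.style.haveILetI false

universe u

namespace Groth.Agent.Lib.Helper20.Birat

open AlgebraicGeometry CategoryTheory Limits TopologicalSpace
open Groth.Agent.Lib.Helper20.SNSch

section Top

variable {α β : Type*} [TopologicalSpace α] [TopologicalSpace β]

theorem mem_genericPoints_iff [QuasiSober α] [T0Space α] (x : α) :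
    x ∈ genericPoints α ↔ ∀ z : α, z ⤳ x → z = x := by
  constructor
  · intro hx z hz
    have h1 : closure {x} ⊆ closure {z} := by
      rw [← specializes_iff_closure_subset]
      exact hz
    have h2 : closure {z} ⊆ closure {x} :=
      hx.2 isIrreducible_singleton.closure h1
    have h3 : x ⤳ z := by
      rw [specializes_iff_closure_subset]
      exact h2
    exact ((hz.antisymm h3).eq)
  · intro hx
    refine ⟨isIrreducible_singleton.closure, ?_⟩
    intro Z hZ hle
    have hZc : IsIrreducible (closure Z) := hZ.closure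
    let z := hZc.genericPoint
    have hz : IsGenericPoint z (closure Z) := hZc.isGenericPoint_genericPoint isClosed_closure
    have htZ : x ∈ closure Z :=
      subset_closure (hle (subset_closure (Set.mem_singleton _)))
    have hzt : z ⤳ x := by
      refine specializes_iff_mem_closure.2 ?_
      rw [hz.def]
      exact htZ
    have hzeq : z = x := hx _ hzt
    have h1 : closure Z = closure {x} := by rw [← hz.def, hzeq]
    exact subset_closure.trans h1.le

theorem map_mem_genericPoints_of_generalizingMap [QuasiSober α] [T0Space α] [QuasiSober β]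
    [T0Space β] {f : α → β} (hf : GeneralizingMap f) {x : α} (hx : x ∈ genericPoints α) :
    f x ∈ genericPoints β := by
  rw [mem_genericPoints_iff] at hx ⊢
  intro z hz
  obtain ⟨x', hx', rfl⟩ := hf hz
  rw [hx x' hx']

end Top

variable {X Y : Scheme.{u}}

/-- pointwise lifting of field-valued points at a point with trivial residue field extension -/
theorem exists_lift_of_isIso_residueFieldMap (f : X ⟶ Y) (x : X) [IsIso (f.residueFieldMap x)]
    (K : Type u) [Field K] (a : Spec (.of K) ⟶ Y) (ha : f x = a (IsLocalRing.closedPoint K)) :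
    ∃ c : Spec (.of K) ⟶ X, c ≫ f = a ∧ c (IsLocalRing.closedPoint K) = x := by
  have ha' := Scheme.descResidueField_stalkClosedPointTo_fromSpecResidueField K Y a
  refine ⟨Spec.map (inv (f.residueFieldMap x) ≫ (Y.residueFieldCongr ha).hom ≫
    Scheme.descResidueField (Scheme.stalkClosedPointTo a)) ≫ X.fromSpecResidueField x, ?_, ?_⟩
  · rw [Category.assoc, ← Scheme.Hom.SpecMap_residueFieldMap_fromSpecResidueField, ← Category.assoc,
      ← Spec.map_comp, ← Category.assoc, IsIso.hom_inv_id, Category.id_comp, Spec.map_comp,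
      Category.assoc, Scheme.residueFieldCongr_fromSpecResidueField, ha']
  · rw [Scheme.Hom.comp_apply]
    exact Scheme.fromSpecResidueField_apply _ _

/-- the pointwise condition in `RadPt.IsBirational` -/
def Cond (f : X ⟶ Y) (y : Y) : Prop :=
  (∀ x x' : X, f x = y → f x' = y → x = x') ∧
    ∀ x : X, f x = y → Function.Bijective (f.residueFieldMap x).hom

theorem isPurelyInseparable_of_surjective {F E : Type*} [Field F] [Field E] (φ : F →+* E)
    (h : Function.Surjective φ) : φ.IsPurelyInseparable := by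
  letI := φ.toAlgebra
  show IsPurelyInseparable F E
  rw [isPurelyInseparable_iff]
  intro x
  obtain ⟨a, rfl⟩ := h x
  exact ⟨isIntegral_algebraMap (R := F) (A := E) (x := a), fun _ => ⟨a, rfl⟩⟩

theorem Cond.isRadicialAt {f : X ⟶ Y} {y : Y} (h : Cond f y) : RadPt.IsRadicialAt f y :=
  ⟨h.1, fun x hx => isPurelyInseparable_of_surjective _ (h.2 x hx).2⟩

theorem cond_of_isPullback {X Y X' Y' : Scheme.{u}} {f : X ⟶ Y} {g : Y' ⟶ Y} {f' : X' ⟶ Y'}
    {g' : X' ⟶ X} (sq : IsPullback g' f' f g) (y' : Y') (h : Cond f (g y')) : Cond f' y' := by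
  have hrad := (Groth.Agent.S5863.result sq y').mp h.isRadicialAt
  refine ⟨hrad.1, fun x' hx' => ?_⟩
  have hfx : f (g' x') = g y' := by
    rw [← hx']
    show (g' ≫ f) x' = (f' ≫ g) x'
    rw [sq.w]
  haveI : IsIso (f.residueFieldMap (g' x')) :=
    (ConcreteCategory.isIso_iff_bijective _).mpr (h.2 _ hfx)
  obtain ⟨c, hc, hcpt⟩ := exists_lift_of_isIso_residueFieldMap f (g' x') (Y'.residueField y')
    (Y'.fromSpecResidueField y' ≫ g) (by
      rw [hfx, Scheme.Hom.comp_apply, Scheme.fromSpecResidueField_apply])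
  let b := sq.lift c (Y'.fromSpecResidueField y') hc
  have hb : b ≫ f' = Spec.map (𝟙 _) ≫ Y'.fromSpecResidueField y' := by
    rw [sq.lift_snd, Spec.map_id, Category.id_comp]
  have h1 := isIso_residueFieldMap_of_lift f' (Y'.residueField y') y' (𝟙 _) b hb
  have hpt : b (IsLocalRing.closedPoint (Y'.residueField y')) = x' := by
    apply hrad.1 _ _ _ hx'
    rw [← Scheme.Hom.comp_apply, sq.lift_snd, Scheme.fromSpecResidueField_apply]
  rw [hpt] at h1
  exact (ConcreteCategory.isIso_iff_bijective _).mp h1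

theorem exists_point_of_isIso {X Y X' Y' : Scheme.{u}} {f : X ⟶ Y} {g : Y' ⟶ Y} {f' : X' ⟶ Y'}
    {g' : X' ⟶ X} (sq : IsPullback g' f' f g) (y' : Y') (x : X) (hx : f x = g y')
    [IsIso (f.residueFieldMap x)] : ∃ x' : X', f' x' = y' := by
  obtain ⟨c, hc, -⟩ := exists_lift_of_isIso_residueFieldMap f x (Y'.residueField y')
    (Y'.fromSpecResidueField y' ≫ g) (by
      rw [hx, Scheme.Hom.comp_apply, Scheme.fromSpecResidueField_apply])
  refine ⟨sq.lift c (Y'.fromSpecResidueField y') hc
    (IsLocalRing.closedPoint (Y'.residueField y')), ?_⟩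
  rw [← Scheme.Hom.comp_apply, sq.lift_snd, Scheme.fromSpecResidueField_apply]

/-- specializations inside the fibre of `g` over `f x` lift along `f'` -/
theorem exists_specializes_lift {X Y X' Y' : Scheme.{u}} {f : X ⟶ Y} {g : Y' ⟶ Y} {f' : X' ⟶ Y'}
    {g' : X' ⟶ X} (sq : IsPullback g' f' f g) (x : X) [IsIso (f.residueFieldMap x)]
    (y'₀ y' : Y') (hsp : y'₀ ⤳ y') (h0 : g y'₀ = f x) (h1 : g y' = f x) :
    ∃ x'₀ x'' : X', f' x'₀ = y'₀ ∧ f' x'' = y' ∧ x'₀ ⤳ x'' := by
  have hr := g.range_fiberι (f x)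
  obtain ⟨w₀, hw₀⟩ : y'₀ ∈ Set.range (g.fiberι (f x)) := by rw [hr]; exact h0
  obtain ⟨w, hw⟩ : y' ∈ Set.range (g.fiberι (f x)) := by rw [hr]; exact h1
  have hsp' : w₀ ⤳ w := by
    rw [← (g.fiberι (f x)).isEmbedding.isInducing.specializes_iff, hw₀, hw]
    exact hsp
  let s : g.fiber (f x) ⟶ X := g.fiberToSpecResidueField (f x) ≫
    Spec.map (inv (f.residueFieldMap x)) ≫ X.fromSpecResidueField x
  have hs : s ≫ f = g.fiberι (f x) ≫ g := by
    simp only [s, Category.assoc]
    rw [← Scheme.Hom.SpecMap_residueFieldMap_fromSpecResidueField, ← Spec.map_comp_assoc,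
      IsIso.hom_inv_id, Spec.map_id, Category.id_comp, g.fiber_fac]
  let σ := sq.lift s (g.fiberι (f x)) hs
  have hσ : σ ≫ f' = g.fiberι (f x) := sq.lift_snd _ _ _
  refine ⟨σ w₀, σ w, ?_, ?_, hsp'.map σ.continuous⟩
  · rw [← Scheme.Hom.comp_apply, hσ, hw₀]
  · rw [← Scheme.Hom.comp_apply, hσ, hw]

theorem main_S5864 {X Y X' Y' : Scheme.{u}} {f : X ⟶ Y} {g : Y' ⟶ Y} [Flat g] {f' : X' ⟶ Y'}
    {g' : X' ⟶ X} (sq : IsPullback g' f' f g) (hf : RadPt.IsBirational f) :
    RadPt.IsBirational f' := by
  have hflat' : Flat g' := MorphismProperty.of_isPullback (P := @Flat) sq.flip ‹Flat g›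
  have hgen : GeneralizingMap g := Flat.generalizingMap g
  have hgen' : GeneralizingMap g' := Flat.generalizingMap g'
  have hw : ∀ x' : X', f (g' x') = g (f' x') := fun x' => by
    show (g' ≫ f) x' = (f' ≫ g) x'
    rw [sq.w]
  have hcond : ∀ y : Y, y ∈ genericPoints Y → Cond f y := fun y hy => hf.2 y hy
  -- (F1)
  have F1 : ∀ y' ∈ genericPoints Y', Cond f' y' := fun y' hy' =>
    cond_of_isPullback sq y' (hcond _ (map_mem_genericPoints_of_generalizingMap hgen hy'))
  -- (F2)
  have F2 : ∀ x' ∈ genericPoints X', f' x' ∈ genericPoints Y' := by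
    intro x' hx'
    have hx : g' x' ∈ genericPoints X := map_mem_genericPoints_of_generalizingMap hgen' hx'
    have hy : f (g' x') ∈ genericPoints Y := hf.1.mapsTo hx
    have hc := hcond _ hy
    haveI : IsIso (f.residueFieldMap (g' x')) :=
      (ConcreteCategory.isIso_iff_bijective _).mpr (hc.2 _ rfl)
    have hc' : Cond f' (f' x') := cond_of_isPullback sq (f' x') (by rw [← hw]; exact hc)
    rw [mem_genericPoints_iff]
    intro y'₀ hsp
    have h0 : g y'₀ = f (g' x') := by
      have := hsp.map g.continuous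
      rw [← hw] at this
      exact (mem_genericPoints_iff _).mp hy _ this
    obtain ⟨x'₀, x'', e0, e1, hsp'⟩ := exists_specializes_lift sq (g' x') y'₀ (f' x') hsp h0
      (hw x').symm
    have e2 : x'' = x' := hc'.1 _ _ e1 rfl
    rw [e2] at hsp'
    have e3 : x'₀ = x' := (mem_genericPoints_iff _).mp hx' _ hsp'
    rw [← e0, e3]
  refine ⟨⟨F2, ?_, ?_⟩, fun y' hy' => F1 y' hy'⟩
  · intro x₁ hx₁ x₂ hx₂ he
    exact (F1 _ (F2 _ hx₂)).1 _ _ he rfl
  · intro y' hy'
    have hy : g y' ∈ genericPoints Y := map_mem_genericPoints_of_generalizingMap hgen hy'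
    obtain ⟨x, hx, hxy⟩ := hf.1.surjOn hy
    haveI : IsIso (f.residueFieldMap x) :=
      (ConcreteCategory.isIso_iff_bijective _).mpr ((hcond _ hy).2 _ hxy)
    obtain ⟨x', hx'⟩ := exists_point_of_isIso sq y' x hxy
    refine ⟨x', ?_, hx'⟩
    rw [mem_genericPoints_iff]
    intro z hz
    have h1 : f' z ⤳ y' := hx' ▸ hz.map f'.continuous
    have h2 : f' z = y' := (mem_genericPoints_iff _).mp hy' _ h1
    exact (F1 y' hy').1 _ _ h2 hx'

end Groth.Agent.Lib.Helper20.Birat
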