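import Mathlib

/-!
# Helper20: the Chase–Harrison–Rosenberg lemma for free actions of finite groups on rings

If a finite group `G` acts on a commutative ring `A` freely (for `g ≠ 1` the elements `g • a - a`
generate the unit ideal), there are `x_i, y_i` with `∑ i, x i * g • y i = δ_{g,1}`.  Consequences:
`A` is finite projective over the invariants, `A ⊗ A ≃ ∏_G A`, and if the invariants inclusion has
a retraction `ε`, `A ≃ ∏_G B`.
-/

set_option autoImplicit false
set_option linter.unusedSectionVars false

namespace Groth.Agent.Lib.Helper20.CHR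

open scoped Classical

variable {G : Type*} [Group G] {A : Type*} [CommRing A] [MulSemiringAction G A]

/-- freeness of the action in ring terms. -/
def IsFreeAct (G : Type*) [Group G] (A : Type*) [CommRing A] [MulSemiringAction G A] : Prop :=
  ∀ g : G, g ≠ 1 → Ideal.span (Set.range fun a : A => g • a - a) = ⊤

/-- families `c : G → A` of the form `g ↦ ∑ i, x i * g • y i`. -/
def Rep (c : G → A) : Prop :=
  ∃ (n : ℕ) (x y : Fin n → A), ∀ g : G, c g = ∑ i, x i * g • y i

theorem Rep.of_fintype {c : G → A} {ι : Type*} [Fintype ι] (x y : ι → A)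
    (h : ∀ g : G, c g = ∑ i, x i * g • y i) : Rep c := by
  refine ⟨Fintype.card ι, x ∘ (Fintype.equivFin ι).symm, y ∘ (Fintype.equivFin ι).symm, fun g => ?_⟩
  rw [h g]
  exact ((Fintype.equivFin ι).symm.sum_comp (fun i => x i * g • y i)).symm

theorem Rep.one : Rep (fun _ : G => (1 : A)) :=
  Rep.of_fintype (ι := Unit) (fun _ => 1) (fun _ => 1) (fun g => by simp)

theorem Rep.mul {c d : G → A} (hc : Rep c) (hd : Rep d) : Rep (fun g => c g * d g) := by
  obtain ⟨n, x, y, h⟩ := hc
  obtain ⟨m, x', y', h'⟩ := hd
  refine Rep.of_fintype (ι := Fin n × Fin m) (fun ij => x ij.1 * x' ij.2)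
    (fun ij => y ij.1 * y' ij.2) (fun g => ?_)
  rw [h g, h' g, Finset.sum_mul_sum, Fintype.sum_prod_type]
  refine Finset.sum_congr rfl fun i _ => Finset.sum_congr rfl fun j _ => ?_
  rw [smul_mul']
  ring

theorem Rep.prod {κ : Type*} (s : Finset κ) (c : κ → G → A) (h : ∀ k ∈ s, Rep (c k)) :
    Rep (fun g => ∏ k ∈ s, c k g) := by
  classical
  induction s using Finset.induction_on with
  | empty => simpa using Rep.one
  | insert a s ha ih =>
    have h1 := (h a (Finset.mem_insert_self a s)).mul
      (ih (fun k hk => h k (Finset.mem_insert_of_mem hk)))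
    simpa [Finset.prod_insert ha] using h1

theorem rep_of_ne (hfree : IsFreeAct G A) (g₀ : G) (hg₀ : g₀ ≠ 1) :
    ∃ c : G → A, Rep c ∧ c 1 = 1 ∧ c g₀ = 0 := by
  classical
  have h1 : (1 : A) ∈ Ideal.span (Set.range fun a : A => g₀ • a - a) := by
    rw [hfree g₀ hg₀]; trivial
  rw [Ideal.span, Finsupp.mem_span_range_iff_exists_finsupp] at h1
  obtain ⟨l, hl⟩ := h1
  rw [Finsupp.sum] at hl
  refine ⟨fun g => ∑ a ∈ l.support, l a * (g₀ • a - g • a), ?_, ?_, ?_⟩
  · refine Rep.of_fintype (ι := Option l.support)
      (fun o => o.elim (∑ a ∈ l.support, l a * g₀ • a) (fun a => - l a.1))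
      (fun o => o.elim 1 (fun a => a.1)) (fun g => ?_)
    rw [Fintype.sum_option]
    simp only [Option.elim_none, Option.elim_some, smul_one, mul_one]
    rw [← Finset.sum_coe_sort l.support (fun a => l a * (g₀ • a - g • a)),
      ← Finset.sum_coe_sort l.support (fun a => l a * g₀ • a), ← Finset.sum_add_distrib]
    refine Finset.sum_congr rfl fun a _ => ?_
    ring
  · simp only [one_smul]
    simpa [smul_eq_mul] using hl
  · simp

/-- The Chase–Harrison–Rosenberg elements. -/
theorem exists_dual [Finite G] (hfree : IsFreeAct G A) :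
    ∃ (n : ℕ) (x y : Fin n → A), ∀ g : G, ∑ i, x i * g • y i = if g = 1 then 1 else 0 := by
  classical
  cases nonempty_fintype G
  choose! c hc1 hc2 hc3 using rep_of_ne hfree
  obtain ⟨n, x, y, h⟩ := Rep.prod ((Finset.univ : Finset G).erase 1) c
    (fun k hk => hc1 k (Finset.ne_of_mem_erase hk))
  refine ⟨n, x, y, fun g => ?_⟩
  rw [← h g]
  split_ifs with hg
  · subst hg
    exact Finset.prod_eq_one fun k hk => hc2 k (Finset.ne_of_mem_erase hk)
  · exact Finset.prod_eq_zero (Finset.mem_erase.mpr ⟨hg, Finset.mem_univ g⟩) (hc3 g hg)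

theorem dual' {n : ℕ} {x y : Fin n → A}
    (h : ∀ g : G, ∑ i, x i * g • y i = if g = 1 then 1 else 0) (g τ : G) :
    ∑ i, g • x i * τ • y i = if g = τ then 1 else 0 := by
  have h1 := congrArg (fun a => g • a) (h (g⁻¹ * τ))
  simp only [Finset.smul_sum, smul_mul', smul_smul, mul_inv_cancel_left] at h1
  rw [h1]
  by_cases hgt : g = τ
  · subst hgt; simp
  · have : g⁻¹ * τ ≠ 1 := fun h2 => hgt (by rw [inv_mul_eq_one] at h2; exact h2)
    simp [this, hgt]

section main

variable [Finite G] {B : Type*} [CommRing B] (f : B →+* A)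

theorem trace_mem (hinv : ∀ a : A, (∀ g : G, g • a = a) → a ∈ Set.range f) [Fintype G] (a : A) :
    ∑ g : G, g • a ∈ Set.range f := by
  apply hinv
  intro g
  rw [Finset.smul_sum]
  simp only [smul_smul]
  exact Fintype.sum_equiv (Equiv.mulLeft g) _ _ (fun _ => rfl)

/-- `a = ∑ i, tr(a x_i) y_i`. -/
theorem trace_dual_right [Fintype G] {n : ℕ} {x y : Fin n → A}
    (h : ∀ g : G, ∑ i, x i * g • y i = if g = 1 then 1 else 0) (a : A) :
    ∑ i, (∑ g : G, g • (a * x i)) * y i = a := by
  classical
  have h1 : ∀ g : G, ∑ i, g • x i * y i = if g = 1 then 1 else 0 := by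
    intro g
    simpa using dual' h g 1
  calc ∑ i, (∑ g : G, g • (a * x i)) * y i
      = ∑ g : G, g • a * ∑ i, g • x i * y i := by
        simp only [Finset.sum_mul, Finset.mul_sum, smul_mul']
        rw [Finset.sum_comm]
        refine Finset.sum_congr rfl fun g _ => Finset.sum_congr rfl fun i _ => ?_
        ring
    _ = a := by simp [h1]

/-- `a = ∑ i, x_i tr(y_i a)`. -/
theorem trace_dual_left [Fintype G] {n : ℕ} {x y : Fin n → A}
    (h : ∀ g : G, ∑ i, x i * g • y i = if g = 1 then 1 else 0) (a : A) :
    ∑ i, x i * (∑ g : G, g • (y i * a)) = a := by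
  classical
  calc ∑ i, x i * (∑ g : G, g • (y i * a))
      = ∑ g : G, (∑ i, x i * g • y i) * g • a := by
        simp only [Finset.sum_mul, Finset.mul_sum, smul_mul']
        rw [Finset.sum_comm]
        refine Finset.sum_congr rfl fun g _ => Finset.sum_congr rfl fun i _ => ?_
        ring
    _ = a := by simp [h]

/-- If `R` is generated by two copies of `A` agreeing on the invariants `B` and `ψ g : R → A` are
ring maps with `ψ g (φ₁ a) = a`, `ψ g (φ₂ a) = g • a`, then `R ≃ ∏_G A`. -/
theorem bijective_of_gen {R : Type*} [CommRing R]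
    (hinv : ∀ a : A, (∀ g : G, g • a = a) → a ∈ Set.range f)
    (hfree : IsFreeAct G A) (φ₁ φ₂ : A →+* R) (hφ : ∀ b, φ₁ (f b) = φ₂ (f b))
    (hgen : ∀ r : R, r ∈ AddSubmonoid.closure (Set.range fun aa : A × A => φ₁ aa.1 * φ₂ aa.2))
    (ψ : G → R →+* A) (hψ₁ : ∀ g a, ψ g (φ₁ a) = a) (hψ₂ : ∀ g a, ψ g (φ₂ a) = g • a) :
    Function.Bijective (fun (r : R) (g : G) => ψ g r) := by
  classical
  cases nonempty_fintype G
  obtain ⟨n, x, y, h⟩ := exists_dual (G := G) hfree
  have key : ∀ r : R, r = ∑ g : G, ∑ i, φ₁ (ψ g r * g • x i) * φ₂ (y i) := by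
    intro r
    induction hgen r using AddSubmonoid.closure_induction with
    | zero => simp
    | add r s _ _ hr hs =>
      conv_lhs => rw [hr, hs]
      rw [← Finset.sum_add_distrib]
      refine Finset.sum_congr rfl fun g _ => ?_
      rw [← Finset.sum_add_distrib]
      refine Finset.sum_congr rfl fun i _ => ?_
      simp only [map_add, add_mul]
    | mem r hr =>
      obtain ⟨⟨a, a'⟩, rfl⟩ := hr
      dsimp only
      have h2 : ∀ i, ∃ b : B, f b = ∑ g : G, g • (a' * x i) := fun i => trace_mem f hinv _
      choose b hb using h2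
      have h3 : ∀ i, φ₁ (∑ g : G, g • (a' * x i)) = φ₂ (∑ g : G, g • (a' * x i)) := by
        intro i
        rw [← hb i, hφ]
      calc φ₁ a * φ₂ a' = φ₁ a * φ₂ (∑ i, (∑ g : G, g • (a' * x i)) * y i) := by
            rw [trace_dual_right h a']
        _ = φ₁ a * ∑ i, φ₁ (∑ g : G, g • (a' * x i)) * φ₂ (y i) := by
            simp only [map_sum, map_mul, h3]
        _ = _ := by
            simp only [map_sum, map_mul, hψ₁, hψ₂, Finset.mul_sum, Finset.sum_mul, smul_mul']
            rw [Finset.sum_comm]
            refine Finset.sum_congr rfl fun g _ => Finset.sum_congr rfl fun i _ => ?_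
            ring
  constructor
  · intro r s hrs
    rw [key r, key s]
    refine Finset.sum_congr rfl fun g _ => ?_
    have : ψ g r = ψ g s := congrFun hrs g
    rw [this]
  · intro c
    refine ⟨∑ g : G, ∑ i, φ₁ (c g * g • x i) * φ₂ (y i), ?_⟩
    funext τ
    simp only [map_sum, map_mul, hψ₁, hψ₂]
    calc ∑ g : G, ∑ i, c g * g • x i * τ • y i
        = ∑ g : G, c g * ∑ i, g • x i * τ • y i := by
          refine Finset.sum_congr rfl fun g _ => ?_
          rw [Finset.mul_sum]
          refine Finset.sum_congr rfl fun i _ => ?_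
          ring
      _ = c τ := by simp [dual' h]

/-- If the inclusion of the invariants has a retraction `ε`, then `A ≃ ∏_G B`. -/
theorem bijective_of_retraction
    (hfix : ∀ (g : G) (b : B), g • f b = f b)
    (hinv : ∀ a : A, (∀ g : G, g • a = a) → a ∈ Set.range f)
    (hfree : IsFreeAct G A) (ε : A →+* B) (hε : ∀ b, ε (f b) = b) :
    Function.Bijective (fun (a : A) (g : G) => ε (g • a)) := by
  classical
  cases nonempty_fintype G
  obtain ⟨n, x, y, h⟩ := exists_dual (G := G) hfree
  have key : ∀ a : A, a = ∑ g : G, ∑ i, f (ε (g • a)) * f (ε (g • x i)) * y i := by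
    intro a
    have h2 : ∀ i, ∃ b : B, f b = ∑ g : G, g • (a * x i) := fun i => trace_mem f hinv _
    choose b hb using h2
    have h3 : ∀ i, f (ε (∑ g : G, g • (a * x i))) = ∑ g : G, g • (a * x i) := by
      intro i
      rw [← hb i, hε]
    calc a = ∑ i, (∑ g : G, g • (a * x i)) * y i := (trace_dual_right h a).symm
      _ = ∑ i, f (ε (∑ g : G, g • (a * x i))) * y i := by simp only [h3]
      _ = _ := by
        simp only [map_sum, map_mul, smul_mul', Finset.sum_mul]
        rw [Finset.sum_comm]
  constructor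
  · intro a a' haa'
    rw [key a, key a']
    refine Finset.sum_congr rfl fun g _ => ?_
    have : ε (g • a) = ε (g • a') := congrFun haa' g
    rw [this]
  · intro c
    refine ⟨∑ g : G, ∑ i, f (c g) * f (ε (g • x i)) * y i, ?_⟩
    funext τ
    simp only [Finset.smul_sum, smul_mul', hfix, map_sum, map_mul, hε]
    calc ∑ g : G, ∑ i, c g * ε (g • x i) * ε (τ • y i)
        = ∑ g : G, c g * ε (∑ i, g • x i * τ • y i) := by
          refine Finset.sum_congr rfl fun g _ => ?_
          rw [map_sum, Finset.mul_sum]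
          refine Finset.sum_congr rfl fun i _ => ?_
          rw [map_mul]
          ring
      _ = c τ := by simp [dual' h]

/-- `A` is flat (indeed finite projective) over the invariants. -/
theorem flat_of_free (hf : Function.Injective f)
    (hfix : ∀ (g : G) (b : B), g • f b = f b)
    (hinv : ∀ a : A, (∀ g : G, g • a = a) → a ∈ Set.range f)
    (hfree : IsFreeAct G A) : f.Flat ∧ f.Finite := by
  classical
  cases nonempty_fintype G
  obtain ⟨n, x, y, h⟩ := exists_dual (G := G) hfree
  letI : Algebra B A := f.toAlgebra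
  have halg : ∀ b : B, algebraMap B A b = f b := fun _ => rfl
  have h2 : ∀ a : A, ∃ b : B, f b = ∑ g : G, g • a := fun a => trace_mem f hinv a
  choose t ht using h2
  have htadd : ∀ a a', t (a + a') = t a + t a' := by
    intro a a'
    apply hf
    rw [map_add, ht, ht, ht]
    simp [smul_add, Finset.sum_add_distrib]
  have htsmul : ∀ (b : B) (a : A), t (b • a) = b * t a := by
    intro b a
    apply hf
    rw [map_mul, ht, ht, Algebra.smul_def, halg, Finset.mul_sum]
    refine Finset.sum_congr rfl fun g _ => ?_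
    rw [smul_mul', hfix]
  let l : A →ₗ[B] (Fin n → B) :=
    { toFun := fun a i => t (y i * a)
      map_add' := fun a a' => by
        funext i
        simp only [mul_add, htadd, Pi.add_apply]
      map_smul' := fun b a => by
        funext i
        simp only [RingHom.id_apply, Pi.smul_apply, smul_eq_mul]
        rw [mul_smul_comm, htsmul] }
  let s : (Fin n → B) →ₗ[B] A := Fintype.linearCombination B x
  have hsl : s ∘ₗ l = LinearMap.id := by
    ext a
    simp only [LinearMap.coe_comp, Function.comp_apply, LinearMap.id_coe, id_eq, s, l,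
      Fintype.linearCombination_apply, LinearMap.coe_mk, AddHom.coe_mk]
    have := trace_dual_left h a
    conv_rhs => rw [← this]
    refine Finset.sum_congr rfl fun i _ => ?_
    rw [Algebra.smul_def, halg, ht, mul_comm]
  have hproj : Module.Projective B A := Module.Projective.of_split l s hsl
  have hfin : Module.Finite B A := by
    refine Module.Finite.of_surjective s ?_
    intro a
    exact ⟨l a, congrArg (fun φ => φ a) hsl⟩
  exact ⟨(inferInstance : Module.Flat B A), hfin⟩

end main

end Groth.Agent.Lib.Helper20.CHR
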