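import Groth.Agent.Lib.Helper20PRadical

/-!
# Stacks 0CNF: universal homeomorphisms which are isomorphisms away from `p` (helper20)
-/

universe u

namespace Groth.Agent.Lib.Helper20.AWN

open AlgebraicGeometry CategoryTheory

section

variable {A B : Type u} [CommRing A] [CommRing B]

/-- The easy direction. -/
theorem UH_of_pow_mul_mem (φ : A →+* B) (p : ℕ) (hp : p.Prime)
    (hker : ∀ a ∈ RingHom.ker φ, IsNilpotent a)
    (H : ∀ b : B, ∃ n : ℕ, (p ^ n : B) * b ∈ φ.range ∧ b ^ (p ^ n) ∈ φ.range) : UH φ := by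
  have hint : φ.IsIntegral := by
    intro b
    obtain ⟨n, -, a, e⟩ := H b
    letI := φ.toAlgebra
    show IsIntegral A b
    apply IsIntegral.of_pow (n := p ^ n) (pow_pos hp.pos n)
    rw [← e]
    exact isIntegral_algebraMap
  refine ⟨hint, ?_, ?_⟩
  · apply comap_surjective_of_isIntegral_of_ker_le φ hint
    intro a ha
    exact mem_nilradical.mpr (hker a ha)
  · intro K _ χ₁ χ₂ hχ
    refine RingHom.ext fun b => ?_
    obtain ⟨n, ⟨a, e1⟩, ⟨a', e2⟩⟩ := H b
    have h1 : (p ^ n : K) * χ₁ b = (p ^ n : K) * χ₂ b := by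
      have := RingHom.congr_fun hχ a
      simp only [RingHom.comp_apply, e1, map_mul, map_pow, map_natCast] at this
      exact this
    have h2 : χ₁ b ^ p ^ n = χ₂ b ^ p ^ n := by
      have := RingHom.congr_fun hχ a'
      simp only [RingHom.comp_apply, e2, map_pow] at this
      exact this
    by_cases h0 : (p : K) = 0
    · haveI : CharP K p := (CharP.charP_iff_prime_eq_zero hp).mpr h0
      haveI : Fact p.Prime := ⟨hp⟩
      apply iterateFrobenius_inj K p n
      rw [iterateFrobenius_def, iterateFrobenius_def]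
      exact h2
    · exact mul_left_cancel₀ (pow_ne_zero n h0) h1

end

section Hard

variable {A B : Type u} [CommRing A] [CommRing B] [Algebra A B]

/-- A uniform `p`-power multiplier for a finite subalgebra. -/
theorem exists_pow_mul_mem_adjoin (p : ℕ)
    (H : ∀ x : B, ∃ m : ℕ, (p ^ m : B) * x ∈ (algebraMap A B).range) (c : B)
    (hc : IsIntegral A c) :
    ∃ k : ℕ, ∀ x ∈ Algebra.adjoin A {c}, (p ^ k : B) * x ∈ (algebraMap A B).range := by
  obtain ⟨s, hs⟩ := hc.fg_adjoin_singleton
  choose kf hkf using H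
  refine ⟨s.sup kf, ?_⟩
  have key : ∀ x ∈ Submodule.span A (s : Set B),
      (p ^ (s.sup kf) : B) * x ∈ (algebraMap A B).range := by
    intro x hx
    induction hx using Submodule.span_induction with
    | mem y hy =>
      have hle : kf y ≤ s.sup kf := Finset.le_sup hy
      obtain ⟨j, hj⟩ := Nat.exists_eq_add_of_le hle
      have e : (p ^ (s.sup kf) : B) * y = (p ^ j : B) * ((p ^ kf y : B) * y) := by
        rw [hj, pow_add]; ring
      rw [e]
      exact mul_mem (pow_mem (natCast_mem _ _) _) (hkf y)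
    | zero =>
      rw [mul_zero]
      exact zero_mem _
    | add y z _ _ hy hz =>
      rw [mul_add]
      exact add_mem hy hz
    | smul a y _ hy =>
      have e : (p ^ (s.sup kf) : B) * (a • y) =
          algebraMap A B a * ((p ^ (s.sup kf) : B) * y) := by
        rw [Algebra.smul_def]; ring
      rw [e]
      exact mul_mem (RingHom.mem_range_self _ a) hy
  intro x hx
  apply key
  rw [hs]
  exact hx

/-- The hard direction of Stacks 0CNF. -/
theorem UH.exists_pow_mem_range_of_forall_mul (p : ℕ) (hp : p.Prime) (hUH : UH (algebraMap A B))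
    (H : ∀ x : B, ∃ m : ℕ, (p ^ m : B) * x ∈ (algebraMap A B).range) (b : B) :
    ∃ n : ℕ, b ^ p ^ n ∈ (algebraMap A B).range := by
  obtain ⟨N, a, c, e⟩ := UH.exists_pow_eq_add p hp hUH b
  have hc : IsIntegral A c := hUH.1 c
  obtain ⟨k, hk⟩ := exists_pow_mul_mem_adjoin p H c hc
  let c' : Algebra.adjoin A {c} := ⟨c, Algebra.subset_adjoin rfl⟩
  let α' : Algebra.adjoin A {c} := algebraMap A (Algebra.adjoin A {c}) a
  have hdvd : (p : Algebra.adjoin A {c}) ∣ (α' + p * c') - α' := ⟨c', by ring⟩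
  obtain ⟨d', hd'⟩ := dvd_sub_pow_of_dvd_sub hdvd k
  have hd : (algebraMap A B a + p * c) ^ p ^ k - (algebraMap A B a) ^ p ^ k =
      (p : B) ^ (k + 1) * (d' : B) := by
    have := congrArg (Subtype.val) hd'
    simpa [α', c'] using this
  refine ⟨N + k, ?_⟩
  rw [pow_add, pow_mul, e]
  have e2 : (algebraMap A B a + p * c) ^ p ^ k =
      (algebraMap A B a) ^ p ^ k + (p : B) * ((p : B) ^ k * (d' : B)) := by
    rw [← sub_eq_iff_eq_add', hd]; ring
  rw [e2]
  exact add_mem (pow_mem (RingHom.mem_range_self _ a) _) (mul_mem (natCast_mem _ _) (hk _ d'.2))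

end Hard

section Main

variable {A B : Type u} [CommRing A] [CommRing B]

/-- Stacks 0CNF. -/
theorem UH_iff_of_awayMap_bijective (φ : A →+* B) (p : ℕ) (hp : p.Prime)
    (h : Function.Surjective (Localization.awayMap φ (p : A))) :
    UH φ ↔ (∀ a ∈ RingHom.ker φ, IsNilpotent a) ∧
      ∀ b : B, ∃ n : ℕ, (p ^ n : B) * b ∈ φ.range ∧ b ^ (p ^ n) ∈ φ.range := by
  constructor
  · intro hUH
    refine ⟨fun a ha => mem_nilradical.mp (UH.ker_le_nilradical φ hUH ha), ?_⟩
    have H : ∀ x : B, ∃ m : ℕ, (p ^ m : B) * x ∈ φ.range := by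
      intro x
      obtain ⟨a, m, e⟩ := Localization.awayMap_surjective_iff.mp h x
      refine ⟨m, a, ?_⟩
      rw [e, map_natCast]
    intro b
    letI := φ.toAlgebra
    obtain ⟨n, hn⟩ := UH.exists_pow_mem_range_of_forall_mul p hp
      (show UH (algebraMap A B) from hUH) H b
    obtain ⟨m, hm⟩ := H b
    refine ⟨n + m, ?_, ?_⟩
    · have e : (p ^ (n + m) : B) * b = (p ^ n : B) * ((p ^ m : B) * b) := by
        rw [pow_add]; ring
      rw [e]
      exact mul_mem (pow_mem (natCast_mem _ _) _) hm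
    · rw [pow_add, pow_mul]
      exact pow_mem hn _
  · rintro ⟨hker, H⟩
    exact UH_of_pow_mul_mem φ p hp hker H

end Main

end Groth.Agent.Lib.Helper20.AWN
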