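import Groth.Agent.Lib.Helper20PropInt
import Groth.Prelude.Def_Found

/-! Dimension formula in catenary local rings and proper intersection with an effective Cartier
divisor (helper20). -/

set_option autoImplicit false
set_option linter.style.haveILetI false
universe u
open CategoryTheory AlgebraicGeometry CategoryTheory.Limits TopologicalSpace

namespace Groth.Agent.Lib.Helper20.CatDim
open Groth.Agent.Lib.Helper20.EffCartier Groth.Agent.Lib.Helper20.EffCartUFD
open Groth.Agent.Lib.Helper20.CDivOrd2 Groth.Agent.Lib.Helper20.PropInt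

open Order

/-- a chain realizing the height of its last element has `height (p i) = i`, hence is saturated. -/
theorem covBy_of_length_eq_height {α : Type*} [PartialOrder α] (p : LTSeries α)
    (h : (p.length : ℕ∞) = height p.last) (i : Fin p.length) :
    p (Fin.castSucc i) ⋖ p (Fin.succ i) := by
  refine ⟨p.strictMono (Fin.castSucc_lt_succ), ?_⟩
  intro c hc1 hc2
  have h1 := Order.height_eq_index_of_length_eq_height_last h (Fin.castSucc i)
  have h2 := Order.height_eq_index_of_length_eq_height_last h (Fin.succ i)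
  have h3 : height (p (Fin.castSucc i)) + 1 ≤ height c := Order.height_add_one_le hc1
  have h4 : height c + 1 ≤ height (p (Fin.succ i)) := Order.height_add_one_le hc2
  rw [h1] at h3
  rw [h2] at h4
  have h5 : ((i : ℕ) : ℕ∞) + 1 + 1 ≤ ((i : ℕ) + 1 : ℕ) := by
    calc ((i : ℕ) : ℕ∞) + 1 + 1 ≤ height c + 1 := by gcongr; exact_mod_cast h3
      _ ≤ _ := by exact_mod_cast h4
  have h6 : (i : ℕ) + 1 + 1 ≤ (i : ℕ) + 1 := by exact_mod_cast h5
  omega

theorem isMin_head_of_length_eq_height {α : Type*} [PartialOrder α] (p : LTSeries α)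
    (h : (p.length : ℕ∞) = height p.last) : IsMin p.head := by
  have h1 := Order.height_eq_index_of_length_eq_height_last h 0
  rw [← Order.height_eq_zero]
  show height (p 0) = 0
  simpa using h1

section
variable {α : Type*} [PartialOrder α] (s1 : LTSeries α) (m : α)

theorem snocFun_step (hrel : s1.last < m) (i : Fin (s1.length + 1)) :
    (Fin.snoc (α := fun _ => α) s1.toFun m : Fin (s1.length + 1 + 1) → α) (Fin.castSucc i) <
      (Fin.snoc (α := fun _ => α) s1.toFun m : Fin (s1.length + 1 + 1) → α) (Fin.succ i) := by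
  refine Fin.lastCases ?_ (fun j => ?_) i
  · rw [Fin.snoc_castSucc, Fin.succ_last, Fin.snoc_last]
    exact hrel
  · rw [Fin.snoc_castSucc, ← Fin.castSucc_succ, Fin.snoc_castSucc]
    exact s1.strictMono (Fin.castSucc_lt_succ)

/-- hand-made `snoc` with syntactically nice length. -/
def mySnoc (hrel : s1.last < m) : LTSeries α where
  length := s1.length + 1
  toFun := Fin.snoc (α := fun _ => α) s1.toFun m
  step := snocFun_step s1 m hrel

theorem mySnoc_head (hrel : s1.last < m) : (mySnoc s1 m hrel).head = s1.head := by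
  show (Fin.snoc (α := fun _ => α) s1.toFun m : Fin (s1.length + 1 + 1) → α) 0 = s1.toFun 0
  rw [show (0 : Fin (s1.length + 1 + 1)) = Fin.castSucc 0 from rfl, Fin.snoc_castSucc]

theorem mySnoc_last (hrel : s1.last < m) : (mySnoc s1 m hrel).last = m := by
  show (Fin.snoc (α := fun _ => α) s1.toFun m : Fin (s1.length + 1 + 1) → α)
    (Fin.last (s1.length + 1)) = m
  rw [Fin.snoc_last]

theorem mySnoc_covBy (hrel : s1.last < m)
    (hcov : s1.last ⋖ m) (hsat : ∀ j : Fin s1.length, s1 (Fin.castSucc j) ⋖ s1 (Fin.succ j)) :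
    ∀ i : Fin (mySnoc s1 m hrel).length,
      (mySnoc s1 m hrel) (Fin.castSucc i) ⋖ (mySnoc s1 m hrel) (Fin.succ i) := by
  intro i
  show (Fin.snoc (α := fun _ => α) s1.toFun m : Fin (s1.length + 1 + 1) → α) (Fin.castSucc i) ⋖
      (Fin.snoc (α := fun _ => α) s1.toFun m : Fin (s1.length + 1 + 1) → α) (Fin.succ i)
  refine Fin.lastCases ?_ (fun j => ?_) i
  · rw [Fin.snoc_castSucc, Fin.succ_last, Fin.snoc_last]
    exact hcov
  · rw [Fin.snoc_castSucc, ← Fin.castSucc_succ, Fin.snoc_castSucc]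
    exact hsat j
end

theorem mem_minimalPrimes_of_isMin {R : Type*} [CommRing R] (q : PrimeSpectrum R) (hq : IsMin q) :
    q.asIdeal ∈ minimalPrimes R := by
  refine ⟨⟨q.2, bot_le⟩, ?_⟩
  intro p' hp' hle
  exact hq (b := ⟨p', hp'.1⟩) hle

/-- the dimension formula in a catenary Noetherian local ring with a unique minimal prime, for a
prime `P` such that the maximal ideal is the only prime containing `P` and `t`. -/
theorem ringKrullDim_eq_height_add_one {R : Type u} [CommRing R] [IsNoetherianRing R]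
    [IsLocalRing R] (hcat : CAlg.IsCatenary R)
    (hmin : ∀ p q : Ideal R, p ∈ minimalPrimes R → q ∈ minimalPrimes R → p = q)
    (P : Ideal R) [hP : P.IsPrime] (t : R) (htm : t ∈ IsLocalRing.maximalIdeal R) (htP : t ∉ P)
    (honly : ∀ q : Ideal R, q.IsPrime → P ≤ q → t ∈ q → q = IsLocalRing.maximalIdeal R) :
    ringKrullDim R = ((P.height + 1 : ℕ∞) : WithBot ℕ∞) := by
  set m : PrimeSpectrum R := IsLocalRing.closedPoint R with hm
  set Pp : PrimeSpectrum R := ⟨P, hP⟩ with hPp
  have hPm : P ≤ IsLocalRing.maximalIdeal R := IsLocalRing.le_maximalIdeal hP.ne_top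
  have hlt : Pp < m := by
    refine lt_of_le_of_ne hPm ?_
    intro e
    apply htP
    have : P = IsLocalRing.maximalIdeal R := congrArg PrimeSpectrum.asIdeal e
    rw [this]; exact htm
  -- covering
  have hcov : Pp ⋖ m := by
    refine ⟨hlt, ?_⟩
    intro c hc1 hc2
    have hc1' : P < c.asIdeal := hc1
    have hc2' : c.asIdeal < IsLocalRing.maximalIdeal R := hc2
    have hmmin : IsLocalRing.maximalIdeal R ∈
        (Ideal.span (insert t (P : Set R))).minimalPrimes := by
      refine ⟨⟨inferInstance, ?_⟩, ?_⟩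
      · rw [Ideal.span_le]
        intro x hx
        rcases hx with rfl | hx
        · exact htm
        · exact hPm hx
      · intro q hq _
        have hq1 : P ≤ q := fun x hx => hq.2 (Ideal.subset_span (Set.mem_insert_of_mem _ hx))
        have hq2 : t ∈ q := hq.2 (Ideal.subset_span (Set.mem_insert _ _))
        rw [honly q hq.1 hq1 hq2]
    haveI := c.2
    have := Ideal.mem_minimalPrimes_span_of_mem_minimalPrimes_span_insert hc2' t (P : Set R) hmmin
      (P : Set R) (fun x hx => hc1'.le hx)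
      (fun x hx => Ideal.le_radical (Ideal.subset_span (Set.mem_insert_of_mem _ hx)))
    rw [Ideal.span_eq, Ideal.minimalPrimes_eq_subsingleton_self] at this
    exact hc1'.ne this.symm
  -- chain for P
  obtain ⟨s1, hs1last, hs1len⟩ := Ideal.exists_ltSeries_length_eq_height P
  have hs1h : (s1.length : ℕ∞) = height s1.last := by
    rw [hs1len, hs1last, ← PrimeSpectrum.height_eq_orderHeight]
  -- chain for m
  obtain ⟨s2, hs2last, hs2len⟩ := Ideal.exists_ltSeries_length_eq_height (IsLocalRing.maximalIdeal R)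
  have hs2h : (s2.length : ℕ∞) = height s2.last := by
    rw [hs2len, hs2last, ← PrimeSpectrum.height_eq_orderHeight]
  -- extend s1 by m
  have hrel : s1.last < m := by rw [hs1last]; exact hlt
  have hshead : (mySnoc s1 m hrel).head = s2.head := by
    rw [mySnoc_head]
    apply PrimeSpectrum.ext
    exact hmin _ _ (mem_minimalPrimes_of_isMin _ (isMin_head_of_length_eq_height s1 hs1h))
      (mem_minimalPrimes_of_isMin _ (isMin_head_of_length_eq_height s2 hs2h))
  have hslast : (mySnoc s1 m hrel).last = s2.last := by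
    rw [mySnoc_last, hs2last]
    rfl
  have hssat := mySnoc_covBy s1 m hrel (hs1last ▸ hcov) (covBy_of_length_eq_height s1 hs1h)
  have hlen : s1.length + 1 = s2.length :=
    hcat.2 (mySnoc s1 m hrel) s2 hshead hslast hssat (covBy_of_length_eq_height s2 hs2h)
  rw [← IsLocalRing.maximalIdeal_height_eq_ringKrullDim, ← hs2len, ← hs1len, ← hlen]
  simp

theorem height_eq_height_add_one_of_localization {A : Type u} [CommRing A] [IsNoetherianRing A]
    (𝔪 : Ideal A) [h𝔪 : 𝔪.IsPrime] (R : Type u) [CommRing R] [Algebra A R]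
    [IsLocalization.AtPrime R 𝔪] (hcat : CAlg.IsCatenary R) (p0 : Ideal A) [hp0' : p0.IsPrime]
    (hp0 : ∀ q : Ideal A, q.IsPrime → p0 ≤ q) (P : Ideal A) [hPp : P.IsPrime] (hP : P ≤ 𝔪) (t : A)
    (htm : t ∈ 𝔪) (htP : t ∉ P)
    (honly : ∀ q : Ideal A, q.IsPrime → P ≤ q → t ∈ q → q ≤ 𝔪 → q = 𝔪) :
    𝔪.height = P.height + 1 := by
  haveI : IsLocalRing R := IsLocalization.AtPrime.isLocalRing R 𝔪
  haveI : IsNoetherianRing R := IsLocalization.isNoetherianRing 𝔪.primeCompl R inferInstance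
  have hdisj : ∀ q : Ideal A, q ≤ 𝔪 → Disjoint (𝔪.primeCompl : Set A) (q : Set A) := by
    intro q hq
    rw [Set.disjoint_left]
    intro x hx hxq
    exact hx (hq hxq)
  haveI hP' : (P.map (algebraMap A R)).IsPrime :=
    IsLocalization.isPrime_of_isPrime_disjoint 𝔪.primeCompl R P hPp (hdisj P hP)
  have hp0m : p0 ≤ 𝔪 := hp0 𝔪 h𝔪
  have hp0map : (p0.map (algebraMap A R)).IsPrime :=
    IsLocalization.isPrime_of_isPrime_disjoint 𝔪.primeCompl R p0 hp0' (hdisj p0 hp0m)
  have hle : ∀ q : Ideal R, q.IsPrime → p0.map (algebraMap A R) ≤ q := by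
    intro q hq
    have h1 : p0 ≤ q.comap (algebraMap A R) := hp0 _ (hq.comap _)
    exact (Ideal.map_mono h1).trans Ideal.map_comap_le
  have hmin : ∀ p q : Ideal R, p ∈ minimalPrimes R → q ∈ minimalPrimes R → p = q := by
    intro p q hp hq
    have e1 : p = p0.map (algebraMap A R) :=
      le_antisymm (hp.2 ⟨hp0map, bot_le⟩ (hle p hp.1.1)) (hle p hp.1.1)
    have e2 : q = p0.map (algebraMap A R) :=
      le_antisymm (hq.2 ⟨hp0map, bot_le⟩ (hle q hq.1.1)) (hle q hq.1.1)
    rw [e1, e2]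
  have hmax : IsLocalRing.maximalIdeal R = 𝔪.map (algebraMap A R) :=
    (IsLocalization.AtPrime.map_eq_maximalIdeal 𝔪 R).symm
  have key := ringKrullDim_eq_height_add_one hcat hmin (P.map (algebraMap A R))
    (algebraMap A R t) (hmax ▸ Ideal.mem_map_of_mem _ htm) ?_ ?_
  · rw [IsLocalization.AtPrime.ringKrullDim_eq_height 𝔪 R,
      IsLocalization.height_map_of_disjoint 𝔪.primeCompl P (hdisj P hP)] at key
    exact_mod_cast key
  · intro h
    have h1 : t ∈ (P.map (algebraMap A R)).under A := h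
    rw [IsLocalization.under_map_of_isPrime_disjoint 𝔪.primeCompl R hPp (hdisj P hP)] at h1
    exact htP h1
  · intro q hq hPq htq
    have hqA : (q.comap (algebraMap A R)).IsPrime := hq.comap _
    have h1 : P ≤ q.comap (algebraMap A R) := Ideal.map_le_iff_le_comap.mp hPq
    have h2 : t ∈ q.comap (algebraMap A R) := htq
    have h3 : q.comap (algebraMap A R) ≤ 𝔪 := by
      have := ((IsLocalization.isPrime_iff_isPrime_disjoint 𝔪.primeCompl R q).mp hq).2
      intro x hx
      by_contra hxm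
      exact Set.disjoint_left.mp this hxm hx
    have h4 := honly _ hqA h1 h2 h3
    rw [hmax, ← h4]
    exact (IsLocalization.map_under 𝔪.primeCompl R q).symm

/-- if the pullback of `𝓘` to the integral scheme `Z` is effective Cartier, the generic point of
`Z` does not lie on the divisor. -/
theorem generic_not_mem_support {X Z : Scheme.{u}} (𝓘 : X.IdealSheafData) (i : Z ⟶ X)
    [IsIntegral Z] (hc : BlowUp.IsEffCartierIdeal (𝓘.comap i)) :
    i (genericPoint ↥Z) ∉ 𝓘.support := by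
  intro h
  set ξ := genericPoint ↥Z with hξdef
  have hξ : ξ ∈ (𝓘.comap i).support := by
    rw [Scheme.IdealSheafData.support_comap]
    exact h
  obtain ⟨V, hξV, f, hf, hIf⟩ := hc ξ
  have h1 : (𝓘.comap i).ideal V ≤ (V.2.primeIdealOf ⟨ξ, hξV⟩).asIdeal :=
    (mem_support_iff_le (𝓘.comap i) V.2 ξ hξV).mp hξ
  have h2 : f ∈ (V.2.primeIdealOf ⟨ξ, hξV⟩).asIdeal := h1 (hIf ▸ Ideal.mem_span_singleton_self f)
  have h3 : Z.presheaf.germ V.1 ξ hξV f ∈ IsLocalRing.maximalIdeal (Z.presheaf.stalk ξ) :=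
    (mem_primeIdealOf_iff V.2 ξ hξV f).mp h2
  have hfield : IsField (Z.presheaf.stalk ξ) := by
    letI : Field (Z.presheaf.stalk ξ) := inferInstanceAs (Field Z.functionField)
    exact Field.toIsField _
  rw [IsLocalRing.isField_iff_maximalIdeal_eq.mp hfield] at h3
  have h4 : Z.presheaf.germ V.1 ξ hξV f = 0 := h3
  have h5 : f = 0 := by
    apply germ_injective_of_isIntegral Z ξ hξV
    rw [h4, map_zero]
  rw [h5] at hf
  have h6 : (1 : Γ(Z, V.1)) = 0 := by
    have := (mem_nonZeroDivisors_iff_right.mp hf) 1 (by simp)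
    exact this
  have h7 : (1 : Z.presheaf.stalk ξ) = 0 := by
    rw [← map_one (Z.presheaf.germ V.1 ξ hξV).hom, h6, map_zero]
  exact one_ne_zero h7

/-- specialization between points of an affine chart from containment of primes. -/
theorem specializes_of_primeIdealOf_le {X : Scheme.{u}} {W : X.Opens} (hW : IsAffineOpen W)
    (x y : X) (hx : x ∈ W) (hy : y ∈ W)
    (h : (hW.primeIdealOf ⟨y, hy⟩).asIdeal ≤ (hW.primeIdealOf ⟨x, hx⟩).asIdeal) : y ⤳ x := by
  have h1 := fromSpec_specializes hW x hx (hW.primeIdealOf ⟨y, hy⟩) h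
  rwa [hW.fromSpec_primeIdealOf ⟨y, hy⟩] at h1

theorem dim_formula {X Z : Scheme.{u}}
    [IsLocallyNoetherian X] [IrreducibleSpace ↥X]
    (hcat : ∀ x : ↥X, CAlg.IsCatenary ↑(X.presheaf.stalk x))
    (𝓘 : X.IdealSheafData) (hY : BlowUp.IsEffCartierIdeal 𝓘)
    (i : Z ⟶ X) [IsClosedImmersion i] [IsIntegral Z] (hc : BlowUp.IsEffCartierIdeal (𝓘.comap i))
    (ζ : ↥X) (hζ : ζ ∈ (𝓘.support : Set ↥X) ∩ Set.range i.base)
    (hmax : ∀ ζ' : ↥X, ζ' ∈ (𝓘.support : Set ↥X) ∩ Set.range i.base → ζ' ⤳ ζ → ζ' = ζ) :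
    ringKrullDim ↑(X.presheaf.stalk ζ) =
      (⨅ y : (𝓘.support : Set ↥X), ringKrullDim ↑(X.presheaf.stalk y.1)) +
        ringKrullDim ↑(X.presheaf.stalk (i (genericPoint ↥Z))) := by
  obtain ⟨hζY, ζ', hζ'⟩ := hζ
  set ξ := genericPoint ↥Z with hξdef
  have hsp : i ξ ⤳ ζ := by
    rw [← hζ']
    exact (genericPoint_specializes ζ').map i.continuous
  obtain ⟨U, hζU, t, ht, hIt⟩ := hY ζ
  have hξU : i ξ ∈ U.1 := hsp.mem_open U.1.isOpen hζU
  haveI : IsNoetherianRing Γ(X, U.1) := IsLocallyNoetherian.component_noetherian U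
  set 𝔪 := (U.2.primeIdealOf ⟨ζ, hζU⟩).asIdeal with h𝔪
  set P := (U.2.primeIdealOf ⟨i ξ, hξU⟩).asIdeal with hPdef
  have hP : P ≤ 𝔪 := primeIdealOf_le_of_specializes U.2 ζ (i ξ) hζU hξU hsp
  have hI𝔪 : 𝓘.ideal U ≤ 𝔪 := (mem_support_iff_le 𝓘 U.2 ζ hζU).mp hζY
  have htm : t ∈ 𝔪 := hI𝔪 (hIt ▸ Ideal.mem_span_singleton_self t)
  have htP : t ∉ P := by
    intro h
    apply generic_not_mem_support 𝓘 i hc
    rw [mem_support_iff_le 𝓘 U.2 (i ξ) hξU, hIt, Ideal.span_singleton_le_iff_mem]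
    exact h
  -- generic point of X
  set η := genericPoint ↥X with hηdef
  have hηU : η ∈ U.1 := (genericPoint_specializes ζ).mem_open U.1.isOpen hζU
  set p0 := (U.2.primeIdealOf ⟨η, hηU⟩).asIdeal with hp0def
  have hp0 : ∀ q : Ideal Γ(X, U.1), q.IsPrime → p0 ≤ q := by
    intro q hq
    have h1 := primeIdealOf_le_of_specializes U.2 (U.2.fromSpec ⟨q, hq⟩) η
      (fromSpec_mem U.2 ⟨q, hq⟩) hηU (genericPoint_specializes _)
    rwa [primeIdealOf_fromSpec U.2 ⟨q, hq⟩] at h1
  have honly : ∀ q : Ideal Γ(X, U.1), q.IsPrime → P ≤ q → t ∈ q → q ≤ 𝔪 → q = 𝔪 := by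
    intro q hq hPq htq hq𝔪
    set y := U.2.fromSpec ⟨q, hq⟩ with hy
    have hyU : y ∈ U.1 := fromSpec_mem U.2 ⟨q, hq⟩
    have hpy : U.2.primeIdealOf ⟨y, hyU⟩ = ⟨q, hq⟩ := primeIdealOf_fromSpec U.2 ⟨q, hq⟩
    have hyζ : y ⤳ ζ := fromSpec_specializes U.2 ζ hζU ⟨q, hq⟩ hq𝔪
    have hyY : y ∈ (𝓘.support : Set ↥X) := by
      show y ∈ 𝓘.support
      rw [mem_support_iff_le 𝓘 U.2 y hyU, hpy, hIt, Ideal.span_singleton_le_iff_mem]
      exact htq
    have hξy : i ξ ⤳ y := by
      apply specializes_of_primeIdealOf_le U.2 y (i ξ) hyU hξU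
      rw [hpy]
      exact hPq
    have hyZ : y ∈ Set.range i.base :=
      hξy.mem_closed i.isClosedEmbedding.isClosed_range ⟨ξ, rfl⟩
    have hyeq : y = ζ := hmax y ⟨hyY, hyZ⟩ hyζ
    have h2 : (⟨y, hyU⟩ : U.1) = ⟨ζ, hζU⟩ := Subtype.ext hyeq
    rw [h𝔪, ← h2, hpy]
  letI := X.presheaf.algebra_section_stalk ⟨ζ, hζU⟩
  haveI := U.2.isLocalization_stalk ⟨ζ, hζU⟩
  have key := height_eq_height_add_one_of_localization 𝔪 (X.presheaf.stalk ζ) (hcat ζ) p0 hp0 P hP t
    htm htP honly
  have hdimζ : ringKrullDim (X.presheaf.stalk ζ) = 𝔪.height :=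
    IsLocalization.AtPrime.ringKrullDim_eq_height 𝔪 (X.presheaf.stalk ζ)
  have hdimξ : ringKrullDim (X.presheaf.stalk (i ξ)) = P.height := by
    letI := X.presheaf.algebra_section_stalk ⟨i ξ, hξU⟩
    haveI := U.2.isLocalization_stalk ⟨i ξ, hξU⟩
    exact IsLocalization.AtPrime.ringKrullDim_eq_height P (X.presheaf.stalk (i ξ))
  -- the infimum is one
  have hinf : (⨅ y : (𝓘.support : Set ↥X), ringKrullDim ↑(X.presheaf.stalk y.1)) = 1 := by
    apply le_antisymm
    · have hle : Ideal.span {t} ≤ 𝔪 := (Ideal.span_singleton_le_iff_mem _).mpr htm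
      obtain ⟨q0, hq0min, hq0le⟩ := Ideal.exists_minimalPrimes_le hle
      have hq0 : q0.IsPrime := hq0min.1.1
      set y0 := U.2.fromSpec ⟨q0, hq0⟩ with hy0
      have hy0U : y0 ∈ U.1 := fromSpec_mem U.2 ⟨q0, hq0⟩
      have hpy0 : U.2.primeIdealOf ⟨y0, hy0U⟩ = ⟨q0, hq0⟩ := primeIdealOf_fromSpec U.2 ⟨q0, hq0⟩
      have hy0Y : y0 ∈ (𝓘.support : Set ↥X) := by
        show y0 ∈ 𝓘.support
        rw [mem_support_iff_le 𝓘 U.2 y0 hy0U, hpy0, hIt]
        exact hq0min.1.2
      have hdim0 : ringKrullDim (X.presheaf.stalk y0) = q0.height := by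
        letI := X.presheaf.algebra_section_stalk ⟨y0, hy0U⟩
        haveI := U.2.isLocalization_stalk ⟨y0, hy0U⟩
        haveI : IsLocalization.AtPrime (X.presheaf.stalk y0) q0 := by
          have := U.2.isLocalization_stalk ⟨y0, hy0U⟩
          rwa [hpy0] at this
        exact IsLocalization.AtPrime.ringKrullDim_eq_height q0 (X.presheaf.stalk y0)
      have hht : q0.height ≤ 1 :=
        Ideal.height_le_one_of_isPrincipal_of_mem_minimalPrimes (Ideal.span {t}) q0 hq0min
      calc (⨅ y : (𝓘.support : Set ↥X), ringKrullDim ↑(X.presheaf.stalk y.1))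
          ≤ ringKrullDim (X.presheaf.stalk y0) := iInf_le _ (⟨y0, hy0Y⟩ : (𝓘.support : Set ↥X))
        _ = q0.height := hdim0
        _ ≤ 1 := by exact_mod_cast hht
    · exact le_iInf fun y => one_le_dim_of_mem_support 𝓘 hY y.1 y.2
  rw [hinf, hdimζ, hdimξ, key, add_comm]
  push_cast
  rfl

end Groth.Agent.Lib.Helper20.CatDim
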