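import Mathlib
import Groth.Agent.Lib.Helper20EtSplit

/-!
# Equalizers of finite étale algebras (helper20)

Algebraic core for coequalizers in the category of finite étale covers: the equalizer of two
maps between finite étale algebras is, étale locally on the base, a product of copies of the base.
-/

set_option autoImplicit false
universe u v

open scoped TensorProduct

namespace Groth.Agent.Lib.Helper20.CoeqAlg

section CRT

variable {R : Type u} [CommRing R] {T : Type} [Fintype T] [DecidableEq T] {I : Type} [Finite I]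
  (w : T → R) (hw : CompleteOrthogonalIdempotents w) (ρ : T → I → I → Prop)

/-- the subalgebra of functions which are `w t`-locally constant along `ρ t` -/
def locConst : Subalgebra R (I → R) where
  carrier := {c | ∀ t i i', ρ t i i' → w t * c i = w t * c i'}
  mul_mem' {c d} hc hd t i i' h := by
    have h1 := hc t i i' h
    have h2 := hd t i i' h
    simp only [Pi.mul_apply]
    calc w t * (c i * d i) = (w t * c i) * d i := by ring
      _ = c i' * (w t * d i) := by rw [h1]; ring
      _ = w t * (c i' * d i') := by rw [h2]; ring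
  add_mem' {c d} hc hd t i i' h := by
    simp only [Pi.add_apply, mul_add]
    rw [hc t i i' h, hd t i i' h]
  algebraMap_mem' r t i i' h := by
    simp

variable {w ρ}

omit [Fintype T] [DecidableEq T] [Finite I] in
theorem locConst_eqvGen {c : I → R} (hc : c ∈ locConst w ρ) (t : T) {i i' : I}
    (h : Relation.EqvGen (ρ t) i i') : w t * c i = w t * c i' := by
  induction h with
  | rel a b h => exact hc t a b h
  | refl a => rfl
  | symm a b _ ih => exact ih.symm
  | trans a b c _ _ ih1 ih2 => exact ih1.trans ih2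

open Classical in
/-- the idempotent attached to a class -/
noncomputable def classIdem (x : Σ t : T, Quot (ρ t)) : I → R :=
  fun i => if Quot.mk (ρ x.1) i = x.2 then w x.1 else 0

include hw in
omit [Finite I] in
theorem classIdem_mem (x : Σ t : T, Quot (ρ t)) : classIdem (w := w) x ∈ locConst w ρ := by
  intro t i i' h
  unfold classIdem
  by_cases ht : t = x.1
  · subst ht
    have : Quot.mk (ρ x.1) i = Quot.mk (ρ x.1) i' := Quot.sound h
    rw [this]
  · have h1 : w t * w x.1 = 0 := hw.ortho ht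
    split_ifs <;> simp [h1]

/-- the class idempotents as elements of the subalgebra -/
noncomputable def classIdem' (x : Σ t : T, Quot (ρ t)) : locConst w ρ :=
  ⟨classIdem (w := w) x, classIdem_mem hw x⟩

/-- a fintype instance on the classes -/
@[instance_reducible]
noncomputable def quotFintype (t : T) : Fintype (Quot (ρ t)) := Fintype.ofFinite _

attribute [local instance] quotFintype

theorem coi_classIdem :
    CompleteOrthogonalIdempotents (classIdem' (ρ := ρ) hw) := by
  classical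
  refine ⟨⟨fun x => ?_, fun x x' hxx' => ?_⟩, ?_⟩
  · apply Subtype.ext
    funext i
    change classIdem (w := w) x i * classIdem (w := w) x i = classIdem (w := w) x i
    unfold classIdem
    split_ifs
    · exact (hw.idem x.1).eq
    · simp
  · apply Subtype.ext
    funext i
    change classIdem (w := w) x i * classIdem (w := w) x' i = 0
    unfold classIdem
    split_ifs with h1 h2
    · by_cases ht : x.1 = x'.1
      · exfalso
        apply hxx'
        obtain ⟨t, κ⟩ := x
        obtain ⟨t', κ'⟩ := x'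
        simp only at ht h1 h2
        subst ht
        rw [← h1, ← h2]
      · exact hw.ortho ht
    · simp
    · simp
    · simp
  · apply Subtype.ext
    funext i
    change (∑ x, classIdem' (ρ := ρ) hw x : locConst w ρ).1 i = 1
    have e1 : (∑ x, classIdem' (ρ := ρ) hw x : locConst w ρ).1 i =
        ∑ x : (Σ t : T, Quot (ρ t)), classIdem (w := w) x i := by
      rw [← Subalgebra.coe_val, map_sum, Finset.sum_apply]
      rfl
    rw [e1, Fintype.sum_sigma]
    have e2 : ∀ t : T, ∑ κ : Quot (ρ t), classIdem (w := w) ⟨t, κ⟩ i = w t := by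
      intro t
      unfold classIdem
      simp only
      rw [Finset.sum_ite_eq]
      simp
    simp_rw [e2]
    exact hw.complete

omit [Fintype T] [DecidableEq T] [Finite I] in
theorem mem_span_one_sub_iff {S : Type*} [CommRing S] {e : S} (he : IsIdempotentElem e) (x : S) :
    x ∈ Ideal.span {1 - e} ↔ e * x = 0 := by
  rw [Ideal.mem_span_singleton']
  constructor
  · rintro ⟨c, rfl⟩
    calc e * (c * (1 - e)) = c * (e - e * e) := by ring
      _ = 0 := by rw [he.eq, sub_self, mul_zero]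
  · intro h
    exact ⟨x, by rw [mul_sub, mul_one, mul_comm x e, h, sub_zero]⟩

theorem isLocalizationAway_quot (x : Σ t : T, Quot (ρ t)) :
    IsLocalization.Away (w x.1) (locConst w ρ ⧸ Ideal.span {1 - classIdem' (ρ := ρ) hw x}) := by
  classical
  have hε : IsIdempotentElem (classIdem' (ρ := ρ) hw x) := (coi_classIdem (ρ := ρ) hw).idem x
  obtain ⟨t, κ⟩ := x
  obtain ⟨i₀, rfl⟩ := Quot.exists_rep κ
  have hi₀ : classIdem (w := w) (⟨t, Quot.mk _ i₀⟩ : Σ t : T, Quot (ρ t)) i₀ = w t := by
    unfold classIdem; simp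
  have hval : ∀ i, classIdem (w := w) (⟨t, Quot.mk _ i₀⟩ : Σ t : T, Quot (ρ t)) i =
      if Quot.mk (ρ t) i = Quot.mk (ρ t) i₀ then w t else 0 := fun i => rfl
  have key : ∀ r : R, algebraMap R (locConst w ρ ⧸ Ideal.span
      {1 - classIdem' (ρ := ρ) hw (⟨t, Quot.mk _ i₀⟩ : Σ t : T, Quot (ρ t))}) r =
      Ideal.Quotient.mk _ (algebraMap R (locConst w ρ) r) := fun r => rfl
  refine IsLocalization.away_of_isIdempotentElem_of_mul (hw.idem t) (fun r s => ?_) ?_
  · rw [key, key, Ideal.Quotient.eq, mem_span_one_sub_iff hε]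
    constructor
    · intro h
      have h1 := congrArg (fun c : locConst w ρ => c.1 i₀) h
      have h2 : classIdem (w := w) (⟨t, Quot.mk _ i₀⟩ : Σ t : T, Quot (ρ t)) i₀ * (r - s) = 0 := by
        simpa [classIdem', Algebra.algebraMap_eq_smul_one] using h1
      rw [hi₀, mul_sub, sub_eq_zero] at h2
      exact h2
    · intro h
      apply Subtype.ext
      funext i
      change classIdem (w := w) (⟨t, Quot.mk _ i₀⟩ : Σ t : T, Quot (ρ t)) i *
        ((algebraMap R (locConst w ρ) r).1 i - (algebraMap R (locConst w ρ) s).1 i) = 0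
      have e1 : ∀ r : R, (algebraMap R (locConst w ρ) r).1 i = r := fun r => rfl
      rw [e1, e1, hval]
      split_ifs
      · rw [mul_sub, h, sub_self]
      · simp
  · intro c
    obtain ⟨c, rfl⟩ := Ideal.Quotient.mk_surjective c
    refine ⟨c.1 i₀, ?_⟩
    rw [key, Ideal.Quotient.eq, mem_span_one_sub_iff hε]
    apply Subtype.ext
    funext i
    change classIdem (w := w) (⟨t, Quot.mk _ i₀⟩ : Σ t : T, Quot (ρ t)) i *
        ((algebraMap R (locConst w ρ) (c.1 i₀)).1 i - c.1 i) = 0
    have e1 : ∀ r : R, (algebraMap R (locConst w ρ) r).1 i = r := fun r => rfl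
    rw [e1, hval]
    split_ifs with h
    · rw [mul_sub, sub_eq_zero]
      exact (locConst_eqvGen c.2 t (Quot.eqvGen_exact h)).symm
    · simp

include hw in
theorem etale_locConst : Algebra.Etale R (locConst w ρ) := by
  classical
  have hε := coi_classIdem (ρ := ρ) hw
  haveI : ∀ x : (Σ t : T, Quot (ρ t)),
      Algebra.Etale R (locConst w ρ ⧸ Ideal.span {1 - classIdem' (ρ := ρ) hw x}) := fun x =>
    haveI := isLocalizationAway_quot (ρ := ρ) hw x
    Algebra.Etale.of_isLocalizationAway (w x.1)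
  let f : locConst w ρ →ₐ[R] (Π x : (Σ t : T, Quot (ρ t)),
      locConst w ρ ⧸ Ideal.span {1 - classIdem' (ρ := ρ) hw x}) :=
    AlgHom.pi (fun x => Ideal.Quotient.mkₐ R _)
  have hf : Function.Bijective f := hε.bijective_pi
  haveI : Algebra.Etale R (Π x : (Σ t : T, Quot (ρ t)),
      locConst w ρ ⧸ Ideal.span {1 - classIdem' (ρ := ρ) hw x}) := inferInstance
  exact Algebra.Etale.of_equiv (A := (Π x : (Σ t : T, Quot (ρ t)),
      locConst w ρ ⧸ Ideal.span {1 - classIdem' (ρ := ρ) hw x})) (AlgEquiv.ofBijective f hf).symm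

include hw in
omit [Finite I] in
theorem eqvGen_of_locConst {Ω : Type*} [Field Ω] [Algebra R Ω] (t₀ : T)
    (ht₀ : algebraMap R Ω (w t₀) = 1) (i i' : I)
    (h : ∀ c ∈ locConst w ρ, algebraMap R Ω (c i) = algebraMap R Ω (c i')) :
    Relation.EqvGen (ρ t₀) i i' := by
  classical
  have h1 := h _ (classIdem_mem hw (⟨t₀, Quot.mk _ i⟩ : Σ t : T, Quot (ρ t)))
  unfold classIdem at h1
  simp only [if_true] at h1
  by_cases hc : Quot.mk (ρ t₀) i' = Quot.mk (ρ t₀) i
  · exact (Quot.eqvGen_exact hc).symm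
  · rw [if_neg hc, ht₀, map_zero] at h1
    exact absurd h1 one_ne_zero

end CRT


section Prod

variable {R : Type u} [CommRing R]

theorem coi_mul {K K' : Type} [Fintype K] [Fintype K'] {e : K → R} {e' : K' → R}
    (he : CompleteOrthogonalIdempotents e) (he' : CompleteOrthogonalIdempotents e') :
    CompleteOrthogonalIdempotents (fun k : K × K' => e k.1 * e' k.2) := by
  refine ⟨⟨fun k => ?_, fun k k' hkk' => ?_⟩, ?_⟩
  · exact (he.idem k.1).mul (he'.idem k.2)
  · change e k.1 * e' k.2 * (e k'.1 * e' k'.2) = 0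
    by_cases h1 : k.1 = k'.1
    · have h2 : k.2 ≠ k'.2 := fun h2 => hkk' (Prod.ext h1 h2)
      have := he'.ortho h2
      simp only at this
      calc e k.1 * e' k.2 * (e k'.1 * e' k'.2) = e k.1 * e k'.1 * (e' k.2 * e' k'.2) := by ring
        _ = 0 := by rw [this, mul_zero]
    · have := he.ortho h1
      simp only at this
      calc e k.1 * e' k.2 * (e k'.1 * e' k'.2) = (e k.1 * e k'.1) * (e' k.2 * e' k'.2) := by ring
        _ = 0 := by rw [this, zero_mul]
  · rw [Fintype.sum_prod_type]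
    simp_rw [← Finset.mul_sum, he'.complete, mul_one]
    exact he.complete

theorem coi_pi {J K : Type} [Fintype J] [DecidableEq J] [Fintype K] [DecidableEq K] {e : J → K → R}
    (he : ∀ j, CompleteOrthogonalIdempotents (e j)) :
    CompleteOrthogonalIdempotents (fun t : J → K => ∏ j, e j (t j)) := by
  refine ⟨⟨fun t => ?_, fun t t' htt' => ?_⟩, ?_⟩
  · change (∏ j, e j (t j)) * (∏ j, e j (t j)) = ∏ j, e j (t j)
    rw [← Finset.prod_mul_distrib]
    exact Finset.prod_congr rfl fun j _ => ((he j).idem (t j)).eq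
  · change (∏ j, e j (t j)) * (∏ j, e j (t' j)) = 0
    obtain ⟨j, hj⟩ := Function.ne_iff.mp htt'
    rw [← Finset.prod_mul_distrib]
    exact Finset.prod_eq_zero (Finset.mem_univ j) ((he j).ortho hj)
  · have h1 := Finset.prod_univ_sum (fun _ : J => (Finset.univ : Finset K)) (fun j k => e j k)
    rw [Fintype.piFinset_univ] at h1
    rw [← h1]
    exact Finset.prod_eq_one fun j _ => (he j).complete

end Prod

section Matrix

variable {R : Type u} [CommRing R] {I J : Type} [Fintype I] [DecidableEq I] [Fintype J]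
  [DecidableEq J] (Φ Ψ : (I → R) →ₐ[R] (J → R))

/-- the matrix of idempotents of an algebra map between split algebras -/
def mat (i : I) (j : J) : R := Φ (Pi.single i 1) j

omit [Fintype J] [DecidableEq J] in
theorem coi_mat (j : J) : CompleteOrthogonalIdempotents (fun i => mat Φ i j) :=
  (CompleteOrthogonalIdempotents.single (fun _ : I => R)).map
    ((Pi.evalRingHom (fun _ : J => R) j).comp Φ.toRingHom)

omit [Fintype J] [DecidableEq J] in
theorem apply_eq_sum (c : I → R) (j : J) : Φ c j = ∑ i, c i * mat Φ i j := by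
  have h1 : c = ∑ i, c i • (Pi.single i 1 : I → R) := by
    funext k
    rw [Finset.sum_apply]
    simp [Pi.single_apply]
  conv_lhs => rw [h1]
  rw [map_sum, Finset.sum_apply]
  refine Finset.sum_congr rfl fun i _ => ?_
  rw [map_smul]
  rfl

/-- the idempotents attached to the combinatorial types -/
def wt (t : J → I × I) : R := ∏ j, mat Φ (t j).1 j * mat Ψ (t j).2 j

theorem coi_wt : CompleteOrthogonalIdempotents (wt Φ Ψ) :=
  coi_pi (e := fun j (k : I × I) => mat Φ k.1 j * mat Ψ k.2 j)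
    (fun j => coi_mul (coi_mat Φ j) (coi_mat Ψ j))

theorem wt_mul_mat_fst (t : J → I × I) (i : I) (j : J) :
    wt Φ Ψ t * mat Φ i j = if (t j).1 = i then wt Φ Ψ t else 0 := by
  unfold wt
  rw [← Finset.mul_prod_erase Finset.univ _ (Finset.mem_univ j)]
  have h1 := (coi_mat Φ j).mul_eq (t j).1 i
  split_ifs with h
  · subst h
    have h2 : mat Φ (t j).1 j * mat Φ (t j).1 j = mat Φ (t j).1 j := by simpa using h1
    calc _ = (mat Φ (t j).1 j * mat Φ (t j).1 j) * mat Ψ (t j).2 j *
          ∏ x ∈ Finset.univ.erase j, mat Φ (t x).1 x * mat Ψ (t x).2 x := by ring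
      _ = _ := by rw [h2]
  · rw [if_neg h] at h1
    calc _ = (mat Φ (t j).1 j * mat Φ i j) * mat Ψ (t j).2 j *
          ∏ x ∈ Finset.univ.erase j, mat Φ (t x).1 x * mat Ψ (t x).2 x := by ring
      _ = 0 := by rw [h1]; ring

theorem wt_mul_mat_snd (t : J → I × I) (i : I) (j : J) :
    wt Φ Ψ t * mat Ψ i j = if (t j).2 = i then wt Φ Ψ t else 0 := by
  unfold wt
  rw [← Finset.mul_prod_erase Finset.univ _ (Finset.mem_univ j)]
  have h1 := (coi_mat Ψ j).mul_eq (t j).2 i
  split_ifs with h
  · subst h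
    have h2 : mat Ψ (t j).2 j * mat Ψ (t j).2 j = mat Ψ (t j).2 j := by simpa using h1
    calc _ = mat Φ (t j).1 j * (mat Ψ (t j).2 j * mat Ψ (t j).2 j) *
          ∏ x ∈ Finset.univ.erase j, mat Φ (t x).1 x * mat Ψ (t x).2 x := by ring
      _ = _ := by rw [h2]
  · rw [if_neg h] at h1
    calc _ = mat Φ (t j).1 j * (mat Ψ (t j).2 j * mat Ψ i j) *
          ∏ x ∈ Finset.univ.erase j, mat Φ (t x).1 x * mat Ψ (t x).2 x := by ring
      _ = 0 := by rw [h1]; ring

theorem wt_mul_apply_fst (t : J → I × I) (c : I → R) (j : J) :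
    wt Φ Ψ t * Φ c j = wt Φ Ψ t * c (t j).1 := by
  rw [apply_eq_sum, Finset.mul_sum]
  have : ∀ i, wt Φ Ψ t * (c i * mat Φ i j) = if (t j).1 = i then wt Φ Ψ t * c i else 0 := by
    intro i
    calc _ = c i * (wt Φ Ψ t * mat Φ i j) := by ring
      _ = _ := by rw [wt_mul_mat_fst]; split_ifs <;> ring
  simp_rw [this]
  rw [Finset.sum_ite_eq]
  simp

theorem wt_mul_apply_snd (t : J → I × I) (c : I → R) (j : J) :
    wt Φ Ψ t * Ψ c j = wt Φ Ψ t * c (t j).2 := by
  rw [apply_eq_sum, Finset.mul_sum]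
  have : ∀ i, wt Φ Ψ t * (c i * mat Ψ i j) = if (t j).2 = i then wt Φ Ψ t * c i else 0 := by
    intro i
    calc _ = c i * (wt Φ Ψ t * mat Ψ i j) := by ring
      _ = _ := by rw [wt_mul_mat_snd]; split_ifs <;> ring
  simp_rw [this]
  rw [Finset.sum_ite_eq]
  simp

/-- the relation on `I` attached to a combinatorial type -/
def rel (t : J → I × I) (i i' : I) : Prop := ∃ j, t j = (i, i')

theorem equalizer_eq_locConst :
    AlgHom.equalizer Φ Ψ = locConst (wt Φ Ψ) (rel (I := I) (J := J)) := by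
  ext c
  rw [AlgHom.mem_equalizer]
  constructor
  · rintro h t i i' ⟨j, hj⟩
    have h1 : wt Φ Ψ t * Φ c j = wt Φ Ψ t * Ψ c j := by rw [h]
    rw [wt_mul_apply_fst, wt_mul_apply_snd, hj] at h1
    exact h1
  · intro h
    funext j
    have e1 : ∀ x : R, x = ∑ t, wt Φ Ψ t * x := by
      intro x
      rw [← Finset.sum_mul, (coi_wt Φ Ψ).complete, one_mul]
    rw [e1 (Φ c j), e1 (Ψ c j)]
    refine Finset.sum_congr rfl fun t _ => ?_
    rw [wt_mul_apply_fst, wt_mul_apply_snd]
    exact h t _ _ ⟨j, rfl⟩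

theorem etale_equalizer_split : Algebra.Etale R (AlgHom.equalizer Φ Ψ) := by
  have := etale_locConst (coi_wt Φ Ψ) (ρ := rel (I := I) (J := J))
  rwa [← equalizer_eq_locConst] at this

end Matrix

section Field

theorem eqvGen_map {α β : Type*} {r : α → α → Prop} {r' : β → β → Prop} (f : α → β)
    (h : ∀ a b, r a b → r' (f a) (f b)) {a b : α} (hab : Relation.EqvGen r a b) :
    Relation.EqvGen r' (f a) (f b) := by
  induction hab with
  | rel a b h' => exact Relation.EqvGen.rel _ _ (h _ _ h')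
  | refl => exact Relation.EqvGen.refl _
  | symm a b _ ih => exact Relation.EqvGen.symm _ _ ih
  | trans a b c _ _ hab hbc => exact Relation.EqvGen.trans _ _ _ hab hbc

theorem exists_eq_one_of_coi {R : Type*} [CommRing R] {Ω : Type*} [Field Ω] (f : R →+* Ω)
    {K : Type*} [Fintype K] {e : K → R} (he : CompleteOrthogonalIdempotents e) :
    ∃ k, f (e k) = 1 ∧ ∀ k', k' ≠ k → f (e k') = 0 := by
  have h1 : ∑ k, f (e k) = 1 := by rw [← map_sum, he.complete, map_one]
  have h2 : ∃ k, f (e k) ≠ 0 := by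
    by_contra hcon
    push_neg at hcon
    rw [Finset.sum_eq_zero (fun k _ => hcon k)] at h1
    exact zero_ne_one h1
  obtain ⟨k, hk⟩ := h2
  have h3 : f (e k) = 1 := by
    have : IsIdempotentElem (f (e k)) := (he.idem k).map f
    exact (IsIdempotentElem.iff_eq_zero_or_one.mp this).resolve_left hk
  refine ⟨k, h3, fun k' hk' => ?_⟩
  have h4 : f (e k') * f (e k) = 0 := by rw [← map_mul, he.ortho hk', map_zero]
  rwa [h3, mul_one] at h4

variable {R : Type u} [CommRing R] {I J : Type} [Fintype I] [DecidableEq I] [Fintype J]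
  [DecidableEq J] (Φ Ψ : (I → R) →ₐ[R] (J → R)) {Ω : Type v} [Field Ω] [Algebra R Ω]

/-- evaluation at an index followed by the structure map -/
def evalHom (K : Type) (k : K) : (K → R) →ₐ[R] Ω :=
  (Algebra.ofId R Ω).comp (Pi.evalAlgHom R (fun _ : K => R) k)

omit [Fintype J] [DecidableEq J] in
theorem exists_eq_evalHom (σ : (I → R) →ₐ[R] Ω) : ∃ i, σ = evalHom (Ω := Ω) I i := by
  obtain ⟨i, hi1, hi2⟩ := exists_eq_one_of_coi σ.toRingHom
    (CompleteOrthogonalIdempotents.single (fun _ : I => R))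
  refine ⟨i, ?_⟩
  ext c
  have h1 : c = ∑ k, c k • (Pi.single k 1 : I → R) := by
    funext k
    rw [Finset.sum_apply]
    simp [Pi.single_apply]
  conv_lhs => rw [h1]
  rw [map_sum]
  have h2 : ∀ k, σ (c k • (Pi.single k 1 : I → R)) = if k = i then algebraMap R Ω (c i) else 0 := by
    intro k
    rw [map_smul, Algebra.smul_def]
    split_ifs with h
    · subst h
      have : σ (Pi.single k 1) = 1 := hi1
      rw [this, mul_one]
    · have : σ (Pi.single k 1) = 0 := hi2 k h
      rw [this, mul_zero]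
  simp_rw [h2]
  rw [Finset.sum_ite_eq']
  simp [evalHom]

theorem eqvGen_split (σ σ' : (I → R) →ₐ[R] Ω) (h : ∀ c ∈ AlgHom.equalizer Φ Ψ, σ c = σ' c) :
    Relation.EqvGen (fun s s' : (I → R) →ₐ[R] Ω =>
      ∃ τ : (J → R) →ₐ[R] Ω, s = τ.comp Φ ∧ s' = τ.comp Ψ) σ σ' := by
  obtain ⟨i, rfl⟩ := exists_eq_evalHom σ
  obtain ⟨i', rfl⟩ := exists_eq_evalHom σ'
  obtain ⟨t₀, ht₀, -⟩ := exists_eq_one_of_coi (algebraMap R Ω) (coi_wt Φ Ψ)
  rw [equalizer_eq_locConst] at h
  have h1 : Relation.EqvGen (rel (I := I) (J := J) t₀) i i' :=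
    eqvGen_of_locConst (coi_wt Φ Ψ) t₀ ht₀ i i' (fun c hc => h c hc)
  refine eqvGen_map (fun k => evalHom (Ω := Ω) I k) ?_ h1
  rintro k k' ⟨j, hj⟩
  refine ⟨evalHom (Ω := Ω) J j, ?_, ?_⟩
  · ext c
    change algebraMap R Ω (c k) = algebraMap R Ω (Φ c j)
    have e1 := congrArg (algebraMap R Ω) (wt_mul_apply_fst Φ Ψ t₀ c j)
    rw [map_mul, map_mul, ht₀, one_mul, one_mul, hj] at e1
    exact e1.symm
  · ext c
    change algebraMap R Ω (c k') = algebraMap R Ω (Ψ c j)
    have e1 := congrArg (algebraMap R Ω) (wt_mul_apply_snd Φ Ψ t₀ c j)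
    rw [map_mul, map_mul, ht₀, one_mul, one_mul, hj] at e1
    exact e1.symm

end Field

section FlatBC

variable {A : Type u} [CommRing A] (A' : Type u) [CommRing A'] [Algebra A A'] [Module.Flat A A']
  {C D E : Type u} [CommRing C] [CommRing D] [CommRing E] [Algebra A C] [Algebra A D] [Algebra A E]
  (φ ψ : C →ₐ[A] D) (ι : E →ₐ[A] C)

theorem map_id_eq_lTensor {C D : Type u} [CommRing C] [CommRing D] [Algebra A C] [Algebra A D]
    (φ : C →ₐ[A] D) (x : A' ⊗[A] C) :
    Algebra.TensorProduct.map (AlgHom.id A' A') φ x = φ.toLinearMap.lTensor A' x := by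
  induction x using TensorProduct.induction_on with
  | zero => simp
  | tmul a c => simp
  | add x y hx hy => rw [map_add, map_add, hx, hy]

theorem injective_map_of_flat (hinj : Function.Injective ι) :
    Function.Injective (Algebra.TensorProduct.map (AlgHom.id A' A') ι) := by
  have h1 : Function.Injective (ι.toLinearMap.lTensor A') :=
    Module.Flat.lTensor_preserves_injective_linearMap ι.toLinearMap hinj
  intro x y hxy
  apply h1
  rw [← map_id_eq_lTensor, ← map_id_eq_lTensor]
  exact hxy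

theorem range_map_of_flat (hrange : ∀ c, φ c = ψ c ↔ c ∈ Set.range ι) (x : A' ⊗[A] C) :
    Algebra.TensorProduct.map (AlgHom.id A' A') φ x =
      Algebra.TensorProduct.map (AlgHom.id A' A') ψ x ↔
      x ∈ Set.range (Algebra.TensorProduct.map (AlgHom.id A' A') ι) := by
  have hex : Function.Exact ι.toLinearMap (φ.toLinearMap - ψ.toLinearMap) := by
    intro c
    rw [LinearMap.sub_apply, sub_eq_zero]
    exact hrange c
  have h1 := Module.Flat.lTensor_exact A' hex
  rw [map_id_eq_lTensor, map_id_eq_lTensor, ← sub_eq_zero, ← LinearMap.sub_apply,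
    ← LinearMap.lTensor_sub]
  rw [h1 x]
  constructor
  · rintro ⟨e, he⟩
    exact ⟨e, by rw [map_id_eq_lTensor]; exact he⟩
  · rintro ⟨e, he⟩
    exact ⟨e, by rw [← map_id_eq_lTensor]; exact he⟩

end FlatBC

theorem exists_double_split (A C D : Type u) [CommRing A] [CommRing C] [CommRing D] [Algebra A C]
    [Algebra A D] [Module.Finite A C] [Algebra.Etale A C] [Module.Finite A D] [Algebra.Etale A D]
    (p : PrimeSpectrum A) :
    ∃ (A' : Type u) (_ : CommRing A') (_ : Algebra A A') (_ : Algebra.Etale A A')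
      (P : PrimeSpectrum A'), P.comap (algebraMap A A') = p ∧ ∃ n m : ℕ,
        Nonempty (A' ⊗[A] C ≃ₐ[A'] (Fin n → A')) ∧ Nonempty (A' ⊗[A] D ≃ₐ[A'] (Fin m → A')) := by
  obtain ⟨A₁, _, _, _, P₁, hP₁, ⟨α₁⟩⟩ :=
    Groth.Agent.Lib.Helper20.EtSplit.exists_etale_split _ A C p rfl
  obtain ⟨A₂, _, _, _, P₂, hP₂, ⟨β₂⟩⟩ :=
    Groth.Agent.Lib.Helper20.EtSplit.exists_etale_split _ A₁ (A₁ ⊗[A] D) P₁ rfl
  letI : Algebra A A₂ := ((algebraMap A₁ A₂).comp (algebraMap A A₁)).toAlgebra
  haveI : IsScalarTower A A₁ A₂ := .of_algebraMap_eq' rfl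
  haveI : Algebra.Etale A A₂ := Algebra.Etale.comp A A₁ A₂
  refine ⟨A₂, inferInstance, inferInstance, inferInstance, P₂, ?_, Module.rankAtStalk C p,
    Module.rankAtStalk (A₁ ⊗[A] D) P₁, ⟨?_⟩, ⟨?_⟩⟩
  · rw [← hP₁, ← hP₂, ← PrimeSpectrum.comap_comp_apply]
    rfl
  · exact (Algebra.TensorProduct.cancelBaseChange A A₁ A₂ A₂ C).symm.trans
      ((Algebra.TensorProduct.congr AlgEquiv.refl α₁).trans
        (Algebra.TensorProduct.piScalarRight A₁ A₂ A₂ (Fin _)))
  · exact (Algebra.TensorProduct.cancelBaseChange A A₁ A₂ A₂ D).symm.trans β₂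

section Main

variable {A : Type u} [CommRing A] {C D E : Type u} [CommRing C] [CommRing D] [CommRing E]
  [Algebra A C] [Algebra A D] [Algebra A E] (φ ψ : C →ₐ[A] D) (ι : E →ₐ[A] C)
  (hinj : Function.Injective ι) (hrange : ∀ c, φ c = ψ c ↔ c ∈ Set.range ι)

section Split

variable (A' : Type u) [CommRing A'] [Algebra A A'] [Module.Flat A A'] {n m : ℕ}
  (α : A' ⊗[A] C ≃ₐ[A'] (Fin n → A')) (β : A' ⊗[A] D ≃ₐ[A'] (Fin m → A'))

/-- the base-changed map in split coordinates -/
noncomputable def splitMap (φ : C →ₐ[A] D) : (Fin n → A') →ₐ[A'] (Fin m → A') :=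
  (β.toAlgHom.comp (Algebra.TensorProduct.map (AlgHom.id A' A') φ)).comp α.symm.toAlgHom

/-- the base-changed equalizer inclusion in split coordinates -/
noncomputable def splitIncl : A' ⊗[A] E →ₐ[A'] (Fin n → A') :=
  α.toAlgHom.comp (Algebra.TensorProduct.map (AlgHom.id A' A') ι)

include hinj in
theorem splitIncl_injective : Function.Injective (splitIncl ι A' α) :=
  α.injective.comp (injective_map_of_flat A' ι hinj)

include hrange in
theorem splitIncl_range (x : Fin n → A') :
    splitMap A' α β φ x = splitMap A' α β ψ x ↔ x ∈ Set.range (splitIncl ι A' α) := by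
  change β (Algebra.TensorProduct.map (AlgHom.id A' A') φ (α.symm x)) =
    β (Algebra.TensorProduct.map (AlgHom.id A' A') ψ (α.symm x)) ↔ _
  rw [β.injective.eq_iff, range_map_of_flat A' φ ψ ι hrange]
  constructor
  · rintro ⟨e, he⟩
    exact ⟨e, (congrArg α he).trans (AlgEquiv.apply_symm_apply α x)⟩
  · rintro ⟨e, rfl⟩
    exact ⟨e, (AlgEquiv.symm_apply_apply α _).symm⟩

include hinj hrange in
theorem etale_tensor_of_split (α : A' ⊗[A] C ≃ₐ[A'] (Fin n → A'))
    (β : A' ⊗[A] D ≃ₐ[A'] (Fin m → A')) : Algebra.Etale A' (A' ⊗[A] E) := by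
  let f : A' ⊗[A] E →ₐ[A'] AlgHom.equalizer (splitMap A' α β φ) (splitMap A' α β ψ) :=
    (splitIncl ι A' α).codRestrict _ (fun e => (splitIncl_range φ ψ ι hrange A' α β _).mpr ⟨e, rfl⟩)
  have hf : Function.Bijective f := by
    constructor
    · intro x y hxy
      exact splitIncl_injective ι hinj A' α (congrArg Subtype.val hxy)
    · rintro ⟨x, hx⟩
      obtain ⟨e, he⟩ := (splitIncl_range φ ψ ι hrange A' α β x).mp hx
      exact ⟨e, Subtype.ext he⟩
  haveI := etale_equalizer_split (splitMap A' α β φ) (splitMap A' α β ψ)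
  exact Algebra.Etale.of_equiv (AlgEquiv.ofBijective f hf).symm

section Fib

variable {Ω : Type v} [Field Ω] [Algebra A Ω] [Algebra A' Ω] [IsScalarTower A A' Ω]

/-- extension of a point to the base change -/
noncomputable def liftPt {C : Type u} [CommRing C] [Algebra A C] (σ : C →ₐ[A] Ω) :
    A' ⊗[A] C →ₐ[A'] Ω :=
  Algebra.TensorProduct.lift (Algebra.ofId A' Ω) σ (fun _ _ => Commute.all _ _)

omit [Module.Flat A A'] in
theorem liftPt_map {C E : Type u} [CommRing C] [CommRing E] [Algebra A C] [Algebra A E]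
    (ι : E →ₐ[A] C) (σ : C →ₐ[A] Ω) (e : A' ⊗[A] E) :
    liftPt A' σ (Algebra.TensorProduct.map (AlgHom.id A' A') ι e) = liftPt A' (σ.comp ι) e := by
  induction e using TensorProduct.induction_on with
  | zero => simp
  | tmul a e => simp [liftPt]
  | add x y hx hy => rw [map_add, map_add, map_add, hx, hy]

/-- a point of the split algebra, restricted to the original algebra -/
noncomputable def backPt {C : Type u} [CommRing C] [Algebra A C] {n : ℕ}
    (α : A' ⊗[A] C ≃ₐ[A'] (Fin n → A')) (s : (Fin n → A') →ₐ[A'] Ω) : C →ₐ[A] Ω :=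
  ((s.comp α.toAlgHom).restrictScalars A).comp Algebra.TensorProduct.includeRight

omit [Module.Flat A A'] in
theorem backPt_apply {C : Type u} [CommRing C] [Algebra A C] {n : ℕ}
    (α : A' ⊗[A] C ≃ₐ[A'] (Fin n → A')) (s : (Fin n → A') →ₐ[A'] Ω) (c : C) :
    backPt A' α s c = s (α (1 ⊗ₜ c)) := rfl

omit [Module.Flat A A'] in
theorem backPt_liftPt {C : Type u} [CommRing C] [Algebra A C] {n : ℕ}
    (α : A' ⊗[A] C ≃ₐ[A'] (Fin n → A')) (σ : C →ₐ[A] Ω) :
    backPt A' α ((liftPt A' σ).comp α.symm.toAlgHom) = σ := by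
  ext c
  rw [backPt_apply]
  change liftPt A' σ (α.symm (α (1 ⊗ₜ c))) = σ c
  rw [AlgEquiv.symm_apply_apply]
  simp [liftPt]

include hrange in
theorem eqvGen_of_split (α : A' ⊗[A] C ≃ₐ[A'] (Fin n → A'))
    (β : A' ⊗[A] D ≃ₐ[A'] (Fin m → A')) (σ σ' : C →ₐ[A] Ω) (h : σ.comp ι = σ'.comp ι) :
    Relation.EqvGen (fun s s' : C →ₐ[A] Ω => ∃ τ : D →ₐ[A] Ω, s = τ.comp φ ∧ s' = τ.comp ψ)
      σ σ' := by
  have h1 : ∀ x ∈ AlgHom.equalizer (splitMap A' α β φ) (splitMap A' α β ψ),
      ((liftPt A' σ).comp α.symm.toAlgHom) x = ((liftPt A' σ').comp α.symm.toAlgHom) x := by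
    intro x hx
    obtain ⟨e, rfl⟩ := (splitIncl_range φ ψ ι hrange A' α β x).mp hx
    change liftPt A' σ (α.symm (α _)) = liftPt A' σ' (α.symm (α _))
    rw [AlgEquiv.symm_apply_apply]
    exact (liftPt_map A' ι σ e).trans
      ((congrArg (fun s => liftPt A' s e) h).trans (liftPt_map A' ι σ' e).symm)
  have h2 := eqvGen_split (splitMap A' α β φ) (splitMap A' α β ψ) _ _ h1
  have h3 := eqvGen_map (r' := fun s s' : C →ₐ[A] Ω =>
    ∃ τ : D →ₐ[A] Ω, s = τ.comp φ ∧ s' = τ.comp ψ) (backPt A' α) ?_ h2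
  · rwa [backPt_liftPt, backPt_liftPt] at h3
  · rintro s s' ⟨τ, rfl, rfl⟩
    refine ⟨backPt A' β τ, ?_, ?_⟩
    · ext c
      rw [backPt_apply]
      change τ (β (Algebra.TensorProduct.map (AlgHom.id A' A') φ (α.symm (α (1 ⊗ₜ c))))) = _
      rw [AlgEquiv.symm_apply_apply]
      simp [backPt_apply]
    · ext c
      rw [backPt_apply]
      change τ (β (Algebra.TensorProduct.map (AlgHom.id A' A') ψ (α.symm (α (1 ⊗ₜ c))))) = _
      rw [AlgEquiv.symm_apply_apply]
      simp [backPt_apply]

end Fib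

end Split

include hinj hrange in
theorem exists_local_structure [Module.Finite A C] [Algebra.Etale A C] [Module.Finite A D]
    [Algebra.Etale A D] (p : PrimeSpectrum A) :
    ∃ (A' : Type u) (_ : CommRing A') (_ : Algebra A A') (_ : Algebra.Etale A A')
      (P : PrimeSpectrum A'), P.comap (algebraMap A A') = p ∧ Algebra.Etale A' (A' ⊗[A] E) ∧
        ∀ (Ω : Type u) [Field Ω] [Algebra A Ω] [Algebra A' Ω] [IsScalarTower A A' Ω]
          (σ σ' : C →ₐ[A] Ω), σ.comp ι = σ'.comp ι →
            Relation.EqvGen (fun s s' : C →ₐ[A] Ω =>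
              ∃ τ : D →ₐ[A] Ω, s = τ.comp φ ∧ s' = τ.comp ψ) σ σ' := by
  obtain ⟨A', _, _, _, P, hP, n, m, ⟨α⟩, ⟨β⟩⟩ := exists_double_split A C D p
  refine ⟨A', inferInstance, inferInstance, inferInstance, P, hP,
    etale_tensor_of_split φ ψ ι hinj hrange A' α β, ?_⟩
  intro Ω _ _ _ _ σ σ' h
  exact eqvGen_of_split φ ψ ι hrange A' α β σ σ' h

end Main

end Groth.Agent.Lib.Helper20.CoeqAlg
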