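import Groth.Agent.Lib.Helper20GalCoprod
import Groth.Agent.S13597
import Mathlib

set_option autoImplicit false
universe u
open CategoryTheory CategoryTheory.Limits AlgebraicGeometry TopologicalSpace

namespace Groth.Agent.Lib.Helper20.GalPoint

open SGA1 Groth.Agent.Lib.Helper20

/-- a finite scheme over an algebraically closed field has a section through each point -/
theorem exists_section_of_finite {Ω : Type u} [Field Ω] [IsAlgClosed Ω] {T : Scheme.{u}}
    (g : T ⟶ Spec (CommRingCat.of Ω)) [IsFinite g] (t : T) :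
    ∃ σ : Spec (CommRingCat.of Ω) ⟶ T, σ ≫ g = 𝟙 _ ∧ ∀ pt, σ pt = t := by
  haveI : IsAffine T := isAffine_of_isAffineHom g
  let ι : Ω →+* Γ(T, ⊤) := ((Scheme.ΓSpecIso (CommRingCat.of Ω)).inv ≫ g.appTop).hom
  letI : Algebra Ω Γ(T, ⊤) := ι.toAlgebra
  haveI : Module.Finite Ω Γ(T, ⊤) := by
    have h1 : g.appTop.hom.Finite := g.finite_appTop
    have h2 : ι.Finite := by
      have h3 : ι = g.appTop.hom.comp (Scheme.ΓSpecIso (CommRingCat.of Ω)).inv.hom := rfl
      rw [h3]
      refine RingHom.Finite.comp h1 (RingHom.Finite.of_surjective _ ?_)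
      exact (ConcreteCategory.bijective_of_isIso (Scheme.ΓSpecIso (CommRingCat.of Ω)).inv).2
    exact RingHom.finite_algebraMap.mp h2
  let 𝔭 : Ideal Γ(T, ⊤) := (T.isoSpec.hom t).asIdeal
  haveI : 𝔭.IsPrime := (T.isoSpec.hom t).isPrime
  haveI : Module.Finite Ω (Γ(T, ⊤) ⧸ 𝔭) := inferInstance
  haveI : Algebra.IsIntegral Ω (Γ(T, ⊤) ⧸ 𝔭) := inferInstance
  have hbij : Function.Bijective (algebraMap Ω (Γ(T, ⊤) ⧸ 𝔭)) :=
    IsAlgClosed.algebraMap_bijective_of_isIntegral
  let e : Ω ≃+* (Γ(T, ⊤) ⧸ 𝔭) := RingEquiv.ofBijective (algebraMap Ω (Γ(T, ⊤) ⧸ 𝔭)) hbij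
  let r : Γ(T, ⊤) →+* Ω := e.symm.toRingHom.comp (Ideal.Quotient.mk 𝔭)
  have hrι : ∀ a, r (ι a) = a := by
    intro a
    show e.symm (Ideal.Quotient.mk 𝔭 (algebraMap Ω Γ(T, ⊤) a)) = a
    rw [e.symm_apply_eq]
    rfl
  have hker : ∀ x, r x = 0 ↔ x ∈ 𝔭 := by
    intro x
    show e.symm (Ideal.Quotient.mk 𝔭 x) = 0 ↔ _
    rw [map_eq_zero_iff _ e.symm.injective, Ideal.Quotient.eq_zero_iff_mem]
  refine ⟨Spec.map (CommRingCat.ofHom r) ≫ T.isoSpec.inv, ?_, ?_⟩
  · have h1 : T.isoSpec.inv ≫ g = Spec.map (CommRingCat.ofHom ι) := by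
      rw [← Scheme.isoSpec_inv_naturality, Scheme.isoSpec_Spec_inv, ← Spec.map_comp]
      rfl
    rw [Category.assoc, h1, ← Spec.map_comp]
    have h2 : CommRingCat.ofHom ι ≫ CommRingCat.ofHom r = 𝟙 _ := by
      ext a
      exact hrι a
    rw [h2, Spec.map_id]
  · intro pt
    rw [Scheme.Hom.comp_apply]
    have h3 : Spec.map (CommRingCat.ofHom r) pt = T.isoSpec.hom t := by
      apply PrimeSpectrum.ext
      ext x
      show r x ∈ pt.asIdeal ↔ x ∈ 𝔭
      haveI := pt.isPrime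
      rw [Ideal.eq_bot_of_prime pt.asIdeal, Ideal.mem_bot, hker]
    rw [h3, ← Scheme.Hom.comp_apply, Iso.hom_inv_id]
    rfl

/-- lifting a point of a finite `S`-scheme over a geometric point to a geometric point -/
theorem exists_lift_of_finite {Ω : Type u} [Field Ω] [IsAlgClosed Ω] {Y S : Scheme.{u}}
    (f : Y ⟶ S) [IsFinite f] (ξ : Spec (CommRingCat.of Ω) ⟶ S) (y : Y) (pt₀ : Spec (CommRingCat.of Ω))
    (hy : f y = ξ pt₀) :
    ∃ s : Spec (CommRingCat.of Ω) ⟶ Y, s ≫ f = ξ ∧ ∀ pt, s pt = y := by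
  obtain ⟨z, hz1, hz2⟩ := Scheme.Pullback.exists_preimage_pullback (f := f) (g := ξ) y pt₀ hy
  obtain ⟨σ, hσ1, hσ2⟩ := exists_section_of_finite (pullback.snd f ξ) z
  refine ⟨σ ≫ pullback.fst f ξ, ?_, ?_⟩
  · rw [Category.assoc, pullback.condition, ← Category.assoc, hσ1, Category.id_comp]
  · intro pt
    rw [Scheme.Hom.comp_apply, hσ2 pt, hz1]

/-- on a connected base, every nonempty clopen of a finite etale cover contains a geometric point
over a given geometric point of the base -/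
theorem exists_lift_mem_clopen {Ω : Type u} [Field Ω] [IsAlgClosed Ω] {T X : Scheme.{u}}
    [ConnectedSpace X] (t : T ⟶ X) [IsFinite t] [Etale t] (ξ : Spec (CommRingCat.of Ω) ⟶ X)
    (W : Set T) (hW : IsClopen W) (hne : W.Nonempty) :
    ∃ s : Spec (CommRingCat.of Ω) ⟶ T, s ≫ t = ξ ∧ ∀ pt, s pt ∈ W := by
  have hopen : IsOpenMap t := t.isOpenMap
  have hclosed : IsClosedMap t := t.isClosedMap
  have hcl : IsClopen (t '' W) := ⟨hclosed _ hW.1, hopen _ hW.2⟩
  have huniv : t '' W = Set.univ := hcl.eq_univ (hne.image _)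
  let pt₀ : Spec (CommRingCat.of Ω) := default
  obtain ⟨w, hw, hw2⟩ : ξ pt₀ ∈ t '' W := by rw [huniv]; trivial
  obtain ⟨s, hs1, hs2⟩ := exists_lift_of_finite t ξ w pt₀ hw2
  exact ⟨s, hs1, fun pt => by rw [hs2 pt]; exact hw⟩



theorem geom_orbit_aux {Y Z : Scheme.{u}} {G : Type u} [Group G] [Finite G] (ρ : G →* Aut Y)
    (p : Y ⟶ Z) (hp : IsQuot ρ p) {Ω : Type u} [Field Ω] (y : Y)
    (a a' : Y.residueField y ⟶ CommRingCat.of Ω)
    (h : p.residueFieldMap y ≫ a = p.residueFieldMap y ≫ a') :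
    ∃ g : G, Spec.map a' ≫ Y.fromSpecResidueField y =
      (Spec.map a ≫ Y.fromSpecResidueField y) ≫ (ρ g).hom := by
  obtain ⟨hnorm, hτ⟩ := Groth.Agent.S13597.result ρ p hp y
  letI alg1 : Algebra (Z.residueField (p.base y)) (Y.residueField y) :=
    (p.residueFieldMap y).hom.toAlgebra
  letI alg2 : Algebra (Y.residueField y) Ω := a.hom.toAlgebra
  letI alg3 : Algebra (Z.residueField (p.base y)) Ω := (p.residueFieldMap y ≫ a).hom.toAlgebra
  haveI : IsScalarTower (Z.residueField (p.base y)) (Y.residueField y) Ω :=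
    IsScalarTower.of_algebraMap_eq (fun x => rfl)
  let a'alg : Y.residueField y →ₐ[Z.residueField (p.base y)] Ω :=
    { a'.hom with
      commutes' := fun r => by
        have := congrArg (fun f => f.hom r) h
        exact this.symm }
  let τ := Normal.algHomEquivAut (Z.residueField (p.base y)) Ω (Y.residueField y) a'alg
  have h1 : a'alg = (IsScalarTower.toAlgHom _ _ _).comp τ.toAlgHom :=
    ((Normal.algHomEquivAut (Z.residueField (p.base y)) Ω (Y.residueField y)).symm_apply_apply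
      a'alg).symm
  let τc : Y.residueField y ≅ Y.residueField y := τ.toRingEquiv.toCommRingCatIso
  have h2 : a' = τc.hom ≫ a := by
    ext x
    have := congrArg (fun f => f x) h1
    exact this
  have h3 : p.residueFieldMap y ≫ τc.hom = p.residueFieldMap y := by
    ext x
    exact τ.commutes x
  obtain ⟨g, e, hg⟩ := hτ τc h3
  refine ⟨g, ?_⟩
  rw [h2, hg, Spec.map_comp, Spec.map_comp, Category.assoc, Category.assoc, Category.assoc,
    Scheme.residueFieldCongr_inv, Scheme.residueFieldCongr_fromSpecResidueField,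
    Scheme.Hom.SpecMap_residueFieldMap_fromSpecResidueField]

/-- two geometric points of `Y` with the same image in the quotient `Y/G` differ by an element
of `G` -/
theorem geom_orbit {Y Z : Scheme.{u}} {G : Type u} [Group G] [Finite G] (ρ : G →* Aut Y)
    (p : Y ⟶ Z) (hp : IsQuot ρ p) {Ω : Type u} [Field Ω] (s s' : Spec (CommRingCat.of Ω) ⟶ Y)
    (h : s ≫ p = s' ≫ p) : ∃ g : G, s' = s ≫ (ρ g).hom := by
  let pt : Spec (CommRingCat.of Ω) := IsLocalRing.closedPoint Ω
  have hpt : p.base (s.base pt) = p.base (s'.base pt) := by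
    have := congrArg (fun f : Spec (CommRingCat.of Ω) ⟶ Z => f.base pt) h
    simpa using this
  obtain ⟨g₀, hg₀⟩ := (fibre_iff_orbit hp (s.base pt) (s'.base pt)).mp hpt
  -- reduce to the case of equal points
  suffices H : ∀ s₁ : Spec (CommRingCat.of Ω) ⟶ Y, s₁.base pt = s'.base pt → s₁ ≫ p = s' ≫ p →
      ∃ g : G, s' = s₁ ≫ (ρ g).hom by
    obtain ⟨g, hg⟩ := H (s ≫ (ρ g₀).hom) (by simpa using hg₀) (by rw [Category.assoc, hp.inv, h])
    exact ⟨g * g₀, by rw [hg, Category.assoc, rho_mul_hom]⟩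
  intro s₁ hs₁ h1
  obtain ⟨⟨y, a⟩, rfl⟩ := (Scheme.SpecToEquivOfField Ω Y).symm.surjective s₁
  obtain ⟨⟨y', a'⟩, rfl⟩ := (Scheme.SpecToEquivOfField Ω Y).symm.surjective s'
  simp only [Scheme.SpecToEquivOfField_symm_apply] at hs₁ h1 ⊢
  have hyy : y = y' := by simpa using hs₁
  subst hyy
  have h2 : p.residueFieldMap y ≫ a = p.residueFieldMap y ≫ a' := by
    rw [Category.assoc, Category.assoc, ← Scheme.Hom.SpecMap_residueFieldMap_fromSpecResidueField,
      ← Spec.map_comp_assoc, ← Spec.map_comp_assoc] at h1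
    have h3 := (Scheme.SpecToEquivOfField Ω Z).symm.injective
      (a₁ := ⟨p.base y, p.residueFieldMap y ≫ a⟩) (a₂ := ⟨p.base y, p.residueFieldMap y ≫ a'⟩) h1
    rw [Scheme.SpecToEquivOfField_eq_iff] at h3
    obtain ⟨e, he⟩ := h3
    simpa using he
  exact geom_orbit_aux ρ p hp y a a' h2

end Groth.Agent.Lib.Helper20.GalPoint
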