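import Mathlib
import Groth.Agent.Lib.Helper20GalPoint
import Groth.Agent.Lib.Helper20CoeqAlg

/-!
# Equalizers of finite étale algebras: étaleness and geometric fibres (helper20)
-/

set_option autoImplicit false
universe u
open CategoryTheory CategoryTheory.Limits AlgebraicGeometry TopologicalSpace
open scoped TensorProduct

namespace Groth.Agent.Lib.Helper20.CoeqEt

/-- étaleness can be checked étale locally on the target -/
theorem etale_of_etale_local {Q S : Scheme.{u}} (q : Q ⟶ S)
    (h : ∀ s : S, ∃ (U Q' : Scheme.{u}) (g : U ⟶ S) (q' : Q' ⟶ U) (g' : Q' ⟶ Q),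
      Etale g ∧ s ∈ Set.range g ∧ IsPullback g' q' q g ∧ Etale q') : Etale q := by
  have hloc : ∀ x : S, ∃ W : S.Opens, x ∈ W ∧ Etale (q ∣_ W) := by
    intro x
    obtain ⟨U, Q', g, q', g', hg, ⟨u, hgu⟩, hpb, hq'⟩ := h x
    let W : S.Opens := ⟨Set.range g, g.isOpenMap.isOpen_range⟩
    have hxW : x ∈ W := ⟨u, hgu⟩
    let gW : U ⟶ W.toScheme := IsOpenImmersion.lift W.ι g (by
      rw [Scheme.Opens.range_ι]; exact subset_rfl)
    have hgW : gW ≫ W.ι = g := IsOpenImmersion.lift_fac _ _ _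
    let snd' : Q' ⟶ (q ⁻¹ᵁ W).toScheme :=
      IsOpenImmersion.lift (q ⁻¹ᵁ W).ι g' (by
        rw [Scheme.Opens.range_ι]
        rintro _ ⟨a, rfl⟩
        change q (g' a) ∈ W
        rw [← Scheme.Hom.comp_apply, hpb.w, Scheme.Hom.comp_apply]
        exact Set.mem_range_self _)
    have hsnd' : snd' ≫ (q ⁻¹ᵁ W).ι = g' := IsOpenImmersion.lift_fac _ _ _
    have hsq : IsPullback q' snd' gW (q ∣_ W) := by
      refine IsPullback.flip (IsPullback.of_right ?_ ?_ (isPullback_morphismRestrict q W).flip)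
      · rw [hsnd', hgW]
        exact hpb
      · rw [← cancel_mono W.ι, Category.assoc, Category.assoc, hgW,
          morphismRestrict_ι, ← Category.assoc, hsnd', hpb.w]
    have hQ : (@Surjective ⊓ @Flat ⊓ @LocallyOfFinitePresentation : MorphismProperty Scheme.{u})
        gW := by
      refine ⟨⟨⟨fun w => ?_⟩, ?_⟩, ?_⟩
      · obtain ⟨v, hv⟩ : w.1 ∈ Set.range g := w.2
        refine ⟨v, ?_⟩
        apply W.ι.isOpenEmbedding.injective
        rw [← Scheme.Hom.comp_apply, hgW]
        exact hv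
      · haveI : Flat (gW ≫ W.ι) := by rw [hgW]; infer_instance
        exact MorphismProperty.of_postcomp (W := @Flat) (W' := @IsOpenImmersion) gW W.ι
          inferInstance inferInstance
      · haveI : LocallyOfFinitePresentation (gW ≫ W.ι) := by rw [hgW]; infer_instance
        exact MorphismProperty.of_postcomp (W := @LocallyOfFinitePresentation)
          (W' := @IsOpenImmersion) gW W.ι inferInstance inferInstance
    exact ⟨W, hxW, MorphismProperty.of_isPullback_of_descendsAlong (P := @Etale)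
      (Q := @Surjective ⊓ @Flat ⊓ @LocallyOfFinitePresentation) hsq hQ hq'⟩
  choose W hW1 hW2 using hloc
  have hcov : ⨆ x : S, W x = ⊤ := by
    rw [eq_top_iff]
    intro x _
    exact Opens.mem_iSup.mpr ⟨x, hW1 x⟩
  exact (IsZariskiLocalAtTarget.iff_of_iSup_eq_top (P := @Etale) W hcov).mpr hW2

/-- an affine étale scheme over a field is finite -/
theorem isFinite_of_etale_of_isAffine {Ω : Type u} [Field Ω] {W : Scheme.{u}} [IsAffine W]
    (h : W ⟶ Spec (CommRingCat.of Ω)) [Etale h] : IsFinite h := by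
  obtain ⟨θ, hθ⟩ := Spec.map_surjective (W.isoSpec.inv ≫ h)
  haveI : Etale (Spec.map θ) := by rw [hθ]; infer_instance
  have h1 : θ.hom.Etale := (HasRingHomProperty.Spec_iff (P := @Etale)).mp inferInstance
  letI : Algebra Ω Γ(W, ⊤) := θ.hom.toAlgebra
  haveI : Algebra.Etale Ω Γ(W, ⊤) := RingHom.etale_algebraMap.mp h1
  haveI : Module.Finite Ω Γ(W, ⊤) := Algebra.FormallyUnramified.finite_of_free Ω Γ(W, ⊤)
  have h2 : θ.hom.Finite := RingHom.finite_algebraMap.mpr inferInstance
  haveI : IsFinite (Spec.map θ) := (IsFinite.SpecMap_iff θ).mpr h2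
  have h3 : h = W.isoSpec.hom ≫ Spec.map θ := by rw [hθ, Iso.hom_inv_id_assoc]
  rw [h3]
  infer_instance

/-- lifting a geometric point along an étale morphism, through a given point of the fibre -/
theorem exists_lift_of_etale {Ω : Type u} [Field Ω] [IsAlgClosed Ω] {U S : Scheme.{u}}
    (g : U ⟶ S) [Etale g] (ξ : Spec (CommRingCat.of Ω) ⟶ S) (u : U)
    (pt₀ : Spec (CommRingCat.of Ω)) (hu : g u = ξ pt₀) :
    ∃ s : Spec (CommRingCat.of Ω) ⟶ U, s ≫ g = ξ ∧ ∀ pt, s pt = u := by
  obtain ⟨t, ht1, ht2⟩ := Scheme.Pullback.exists_preimage_pullback (f := g) (g := ξ) u pt₀ hu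
  obtain ⟨W, hW, htW, -⟩ := exists_isAffineOpen_mem_and_subset (x := t) (U := ⊤) trivial
  haveI : IsAffine W.toScheme := hW
  haveI : IsFinite (W.ι ≫ pullback.snd g ξ) := isFinite_of_etale_of_isAffine _
  obtain ⟨σ, hσ1, hσ2⟩ := Groth.Agent.Lib.Helper20.GalPoint.exists_section_of_finite
    (W.ι ≫ pullback.snd g ξ) (⟨t, htW⟩ : W.toScheme)
  refine ⟨σ ≫ W.ι ≫ pullback.fst g ξ, ?_, fun pt => ?_⟩
  · rw [Category.assoc, Category.assoc, pullback.condition, ← Category.assoc W.ι,
      ← Category.assoc σ, hσ1, Category.id_comp]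
  · rw [Scheme.Hom.comp_apply, hσ2 pt, Scheme.Hom.comp_apply]
    exact ht1

section RingHom

open Groth.Agent.Lib.Helper20.CoeqAlg

variable {A C D E : Type u} [CommRing A] [CommRing C] [CommRing D] [CommRing E]
  (fC : A →+* C) (fD : A →+* D) (fE : A →+* E) (φ ψ : C →+* D) (ι : E →+* C)
  (hφ : φ.comp fC = fD) (hψ : ψ.comp fC = fD) (hι : ι.comp fE = fC)
  (hinj : Function.Injective ι) (hrange : ∀ c, φ c = ψ c ↔ c ∈ Set.range ι)
  (hCfin : fC.Finite) (hCet : fC.Etale) (hDfin : fD.Finite) (hDet : fD.Etale)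

include hφ hψ hι hinj hrange hCfin hCet hDfin hDet in
theorem etale_SpecMap_equalizer : Etale (Spec.map (CommRingCat.ofHom fE)) := by
  letI := fC.toAlgebra
  letI := fD.toAlgebra
  letI := fE.toAlgebra
  let φ' : C →ₐ[A] D := { φ with commutes' := fun r => congrArg (fun f => f r) hφ }
  let ψ' : C →ₐ[A] D := { ψ with commutes' := fun r => congrArg (fun f => f r) hψ }
  let ι' : E →ₐ[A] C := { ι with commutes' := fun r => congrArg (fun f => f r) hι }
  haveI : Module.Finite A C := hCfin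
  haveI : Module.Finite A D := hDfin
  haveI : Algebra.Etale A C := RingHom.etale_algebraMap.mp hCet
  haveI : Algebra.Etale A D := RingHom.etale_algebraMap.mp hDet
  refine etale_of_etale_local _ fun s => ?_
  obtain ⟨A', _, _, hA'et, P, hP, hE', -⟩ :=
    exists_local_structure φ' ψ' ι' hinj hrange s
  refine ⟨Spec (CommRingCat.of A'), Spec (CommRingCat.of (A' ⊗[A] E)),
    Spec.map (CommRingCat.ofHom (algebraMap A A')),
    Spec.map (CommRingCat.ofHom (Algebra.TensorProduct.includeLeftRingHom)),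
    Spec.map (CommRingCat.ofHom (Algebra.TensorProduct.includeRight (R := A) (A := A') (B := E)).toRingHom),
    ?_, ⟨P, hP⟩, ?_, ?_⟩
  · rw [HasRingHomProperty.Spec_iff (P := @Etale)]
    exact RingHom.etale_algebraMap.mpr hA'et
  · exact (isPullback_SpecMap_of_isPushout _ _ _ _
      (CommRingCat.isPushout_tensorProduct A A' E)).flip
  · rw [HasRingHomProperty.Spec_iff (P := @Etale)]
    exact RingHom.etale_algebraMap.mpr hE'

include hφ hψ hι hinj hrange hCfin hCet hDfin hDet in
theorem eqvGen_equalizer {Ω : Type u} [Field Ω] [IsAlgClosed Ω] (ξ : A →+* Ω) (σ σ' : C →+* Ω)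
    (hσ : σ.comp fC = ξ) (hσ' : σ'.comp fC = ξ) (h : σ.comp ι = σ'.comp ι) :
    Relation.EqvGen (fun s s' : C →+* Ω =>
      ∃ τ : D →+* Ω, τ.comp fD = ξ ∧ s = τ.comp φ ∧ s' = τ.comp ψ) σ σ' := by
  letI := fC.toAlgebra
  letI := fD.toAlgebra
  letI := fE.toAlgebra
  let φ' : C →ₐ[A] D := { φ with commutes' := fun r => congrArg (fun f => f r) hφ }
  let ψ' : C →ₐ[A] D := { ψ with commutes' := fun r => congrArg (fun f => f r) hψ }
  let ι' : E →ₐ[A] C := { ι with commutes' := fun r => congrArg (fun f => f r) hι }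
  haveI : Module.Finite A C := hCfin
  haveI : Module.Finite A D := hDfin
  haveI : Algebra.Etale A C := RingHom.etale_algebraMap.mp hCet
  haveI : Algebra.Etale A D := RingHom.etale_algebraMap.mp hDet
  let p : PrimeSpectrum A := ⟨RingHom.ker ξ, RingHom.ker_isPrime ξ⟩
  obtain ⟨A', _, _, hA'et, P, hP, -, hF⟩ :=
    exists_local_structure φ' ψ' ι' hinj hrange p
  -- lift the geometric point
  haveI : Etale (Spec.map (CommRingCat.ofHom (algebraMap A A'))) := by
    rw [HasRingHomProperty.Spec_iff (P := @Etale)]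
    exact RingHom.etale_algebraMap.mpr hA'et
  have hu : Spec.map (CommRingCat.ofHom (algebraMap A A')) P =
      Spec.map (CommRingCat.ofHom ξ) (default : Spec (CommRingCat.of Ω)) := by
    change P.comap (algebraMap A A') = _
    rw [hP]
    apply PrimeSpectrum.ext
    have e1 : ((Spec.map (CommRingCat.ofHom ξ)) default).asIdeal =
        Ideal.comap ξ (default : Spec (CommRingCat.of Ω)).asIdeal := rfl
    rw [e1]
    change RingHom.ker ξ = _
    rw [RingHom.ker_eq_comap_bot]
    haveI := (default : Spec (CommRingCat.of Ω)).isPrime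
    rw [Ideal.eq_bot_of_prime (default : Spec (CommRingCat.of Ω)).asIdeal]
  obtain ⟨s, hs, -⟩ := exists_lift_of_etale (Spec.map (CommRingCat.ofHom (algebraMap A A')))
    (Spec.map (CommRingCat.ofHom ξ)) P default hu
  obtain ⟨θ, rfl⟩ := Spec.map_surjective s
  rw [← Spec.map_comp] at hs
  have hθ : CommRingCat.ofHom (algebraMap A A') ≫ θ = CommRingCat.ofHom ξ := Spec.map_injective hs
  have hθ' : θ.hom.comp (algebraMap A A') = ξ := congrArg CommRingCat.Hom.hom hθ
  letI : Algebra A Ω := ξ.toAlgebra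
  letI : Algebra A' Ω := θ.hom.toAlgebra
  haveI : IsScalarTower A A' Ω := .of_algebraMap_eq' hθ'.symm
  let σa : C →ₐ[A] Ω := { σ with commutes' := fun r => congrArg (fun f => f r) hσ }
  let σa' : C →ₐ[A] Ω := { σ' with commutes' := fun r => congrArg (fun f => f r) hσ' }
  have hσσ' : σa.comp ι' = σa'.comp ι' := by
    ext e
    exact congrArg (fun f => f e) h
  have key := hF Ω σa σa' hσσ'
  have := eqvGen_map (r' := fun s s' : C →+* Ω =>
      ∃ τ : D →+* Ω, τ.comp fD = ξ ∧ s = τ.comp φ ∧ s' = τ.comp ψ)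
    (fun s : C →ₐ[A] Ω => s.toRingHom) ?_ key
  · exact this
  · rintro s₁ s₂ ⟨τ, rfl, rfl⟩
    refine ⟨τ.toRingHom, ?_, rfl, rfl⟩
    ext r
    exact τ.commutes r

end RingHom

end Groth.Agent.Lib.Helper20.CoeqEt
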