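import Mathlib
import Groth.Prelude.Def_RelSpec
import Groth.Agent.Lib.Helper13QCAlgOfAffine

set_option autoImplicit false
universe u
open CategoryTheory CategoryTheory.Limits AlgebraicGeometry TopologicalSpace Opposite
open Scheme.AffineZariskiSite

namespace Groth.Agent.Lib.Helper20.CoeqGlue

/-- equalizers commute with localization away from an element -/
theorem isLocalizationAway_eqLocus {C C' D D' : Type*} [CommRing C] [CommRing C'] [CommRing D]
    [CommRing D'] (φ ψ : C →+* D) (φ' ψ' : C' →+* D') (ρC : C →+* C') (ρD : D →+* D')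
    (hφ : ρD.comp φ = φ'.comp ρC) (hψ : ρD.comp ψ = ψ'.comp ρC) (c : C) (hc : φ c = ψ c)
    (hC : letI := ρC.toAlgebra; IsLocalization.Away c C')
    (hD : letI := ρD.toAlgebra; IsLocalization.Away (φ c) D')
    (hres : ∀ x ∈ φ.eqLocus ψ, ρC x ∈ φ'.eqLocus ψ') :
    letI := (ρC.restrict (φ.eqLocus ψ) (φ'.eqLocus ψ') hres).toAlgebra
    IsLocalization.Away (⟨c, hc⟩ : φ.eqLocus ψ) (φ'.eqLocus ψ') := by
  letI algC := ρC.toAlgebra
  letI algD := ρD.toAlgebra
  letI algE := (ρC.restrict (φ.eqLocus ψ) (φ'.eqLocus ψ') hres).toAlgebra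
  have hφ' : ∀ x, ρD (φ x) = φ' (ρC x) := fun x => congrArg (fun f => f x) hφ
  have hψ' : ∀ x, ρD (ψ x) = ψ' (ρC x) := fun x => congrArg (fun f => f x) hψ
  have hunitC : IsUnit (ρC c) := IsLocalization.Away.algebraMap_isUnit (S := C') c
  have hcc : φ' (ρC c) = ψ' (ρC c) := by rw [← hφ', ← hψ', hc]
  have halg : ∀ x : φ.eqLocus ψ, ((algebraMap (φ.eqLocus ψ) (φ'.eqLocus ψ') x : φ'.eqLocus ψ') : C')
      = ρC x.1 := fun x => rfl
  refine IsLocalization.Away.mk (R := φ.eqLocus ψ) (S := φ'.eqLocus ψ') _ ?_ ?_ ?_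
  · obtain ⟨u, hu⟩ := isUnit_iff_exists_inv.mp hunitC
    have hu' : u ∈ φ'.eqLocus ψ' := by
      change φ' u = ψ' u
      have h1 : φ' (ρC c) * φ' u = 1 := by rw [← map_mul, hu, map_one]
      have h2 : φ' (ρC c) * ψ' u = 1 := by rw [hcc, ← map_mul, hu, map_one]
      calc φ' u = φ' u * (φ' (ρC c) * ψ' u) := by rw [h2, mul_one]
        _ = (φ' (ρC c) * φ' u) * ψ' u := by ring
        _ = ψ' u := by rw [h1, one_mul]
    refine isUnit_iff_exists_inv.mpr ⟨⟨u, hu'⟩, ?_⟩
    apply Subtype.ext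
    change ρC c * u = 1
    exact hu
  · rintro ⟨s, hs⟩
    obtain ⟨n, x, hx⟩ := IsLocalization.Away.surj (S := C') c s
    have hx' : s * ρC c ^ n = ρC x := hx
    have hs' : φ' s = ψ' s := hs
    have h1 : ρD (φ x) = ρD (ψ x) := by
      rw [hφ', hψ', ← hx', map_mul, map_mul, map_pow, map_pow, hcc, hs']
    obtain ⟨k, hk⟩ := IsLocalization.Away.exists_of_eq (S := D') (φ c) h1
    have hmem : c ^ k * x ∈ φ.eqLocus ψ := by
      change φ (c ^ k * x) = ψ (c ^ k * x)
      rw [map_mul, map_mul, map_pow, map_pow, ← hc, hk]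
    refine ⟨n + k, ⟨c ^ k * x, hmem⟩, ?_⟩
    apply Subtype.ext
    change s * ρC c ^ (n + k) = ρC (c ^ k * x)
    rw [map_mul, map_pow, ← hx', pow_add]
    ring
  · rintro ⟨a, ha⟩ ⟨b, hb⟩ hab
    have h1 : ρC a = ρC b := congrArg Subtype.val hab
    obtain ⟨n, hn⟩ := IsLocalization.Away.exists_of_eq (S := C') c h1
    exact ⟨n, Subtype.ext hn⟩

noncomputable section

variable {X Y Z : Scheme.{u}} (z : Z ⟶ X) (y : Y ⟶ X) (a b : Y ⟶ Z) (ha : a ≫ z = y) (hb : b ≫ z = y)

include ha in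
theorem le_a (U : X.Opens) : y ⁻¹ᵁ U ≤ a ⁻¹ᵁ (z ⁻¹ᵁ U) := by
  subst ha; exact le_rfl

/-- the ring of functions on `z⁻¹U` equalized by `a` and `b` -/
def eqRing (U : X.Opens) : Subring Γ(Z, z ⁻¹ᵁ U) :=
  RingHom.eqLocus (a.appLE (z ⁻¹ᵁ U) (y ⁻¹ᵁ U) (le_a z y a ha U)).hom
    (b.appLE (z ⁻¹ᵁ U) (y ⁻¹ᵁ U) (le_a z y b hb U)).hom

theorem appLE_res {U V : X.Opens} (h : V ≤ U) (c : Y ⟶ Z) (hc : c ≫ z = y) (x : Γ(Z, z ⁻¹ᵁ U)) :
    (c.appLE (z ⁻¹ᵁ V) (y ⁻¹ᵁ V) (le_a z y c hc V)).hom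
        ((Z.presheaf.map (homOfLE (z.preimage_mono h)).op).hom x) =
      (Y.presheaf.map (homOfLE (y.preimage_mono h)).op).hom
        ((c.appLE (z ⁻¹ᵁ U) (y ⁻¹ᵁ U) (le_a z y c hc U)).hom x) := by
  rw [← CommRingCat.comp_apply, ← CommRingCat.comp_apply, Scheme.Hom.map_appLE,
    Scheme.Hom.appLE_map]

theorem res_mem {U V : X.Opens} (h : V ≤ U) (x : Γ(Z, z ⁻¹ᵁ U)) (hx : x ∈ eqRing z y a b ha hb U) :
    (Z.presheaf.map (homOfLE (z.preimage_mono h)).op).hom x ∈ eqRing z y a b ha hb V := by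
  change (a.appLE _ _ _).hom _ = (b.appLE _ _ _).hom _
  have hx' : (a.appLE _ _ _).hom x = (b.appLE _ _ _).hom x := hx
  rw [appLE_res z y h a ha, appLE_res z y h b hb, hx']

theorem appLE_app (U : X.Opens) (c : Y ⟶ Z) (hc : c ≫ z = y) (r : Γ(X, U)) :
    (c.appLE (z ⁻¹ᵁ U) (y ⁻¹ᵁ U) (le_a z y c hc U)).hom ((z.app U).hom r) = (y.app U).hom r := by
  subst hc
  rw [← CommRingCat.comp_apply, Scheme.Hom.app_eq_appLE, Scheme.Hom.appLE_comp_appLE,
    Scheme.Hom.app_eq_appLE]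

theorem app_mem (U : X.Opens) (r : Γ(X, U)) : (z.app U).hom r ∈ eqRing z y a b ha hb U := by
  change (a.appLE _ _ _).hom _ = (b.appLE _ _ _).hom _
  rw [appLE_app z y U a ha, appLE_app z y U b hb]

/-- the presheaf of equalizers on the affine opens -/
def eqFunctor : X.AffineZariskiSiteᵒᵖ ⥤ CommRingCat.{u} where
  obj U := CommRingCat.of (eqRing z y a b ha hb U.unop.1)
  map {U V} i := CommRingCat.ofHom
    ((Z.presheaf.map (homOfLE (z.preimage_mono (toOpens_mono i.unop.le))).op).hom.restrict _ _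
      (res_mem z y a b ha hb (toOpens_mono i.unop.le)))
  map_id U := by
    ext x
    change (Z.presheaf.map _).hom x.1 = x.1
    rw [show (homOfLE (z.preimage_mono (toOpens_mono (𝟙 U).unop.le))).op = 𝟙 _ from rfl,
      Z.presheaf.map_id]
    rfl
  map_comp {U V W} i j := by
    ext x
    change (Z.presheaf.map _).hom x.1 = (Z.presheaf.map _).hom ((Z.presheaf.map _).hom x.1)
    rw [← CommRingCat.comp_apply, ← Z.presheaf.map_comp]
    rfl

/-- the structure map -/
def eqStr : (toOpensFunctor X).op ⋙ X.presheaf ⟶ eqFunctor z y a b ha hb where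
  app U := CommRingCat.ofHom ((z.app U.unop.1).hom.codRestrict (eqRing z y a b ha hb U.unop.1)
    (app_mem z y a b ha hb U.unop.1))
  naturality {U V} i := by
    ext x
    apply Subtype.ext
    exact congr($(z.naturality ((toOpensFunctor X).op.map i)) x)

variable [QuasiCompact z] [QuasiSeparated z] [QuasiCompact y] [QuasiSeparated y]

theorem coequifibered_eqStr : (eqStr z y a b ha hb).Coequifibered := by
  refine coequifibered_iff_forall_isLocalizationAway.mpr fun U r => ?_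
  have hC := RelSpec.QCAlg.isQC_pushforward z U.1 U.2 r
  have hD := RelSpec.QCAlg.isQC_pushforward y U.1 U.2 r
  have key := isLocalizationAway_eqLocus
    (a.appLE (z ⁻¹ᵁ U.1) (y ⁻¹ᵁ U.1) (le_a z y a ha U.1)).hom
    (b.appLE (z ⁻¹ᵁ U.1) (y ⁻¹ᵁ U.1) (le_a z y b hb U.1)).hom
    (a.appLE (z ⁻¹ᵁ X.basicOpen r) (y ⁻¹ᵁ X.basicOpen r) (le_a z y a ha _)).hom
    (b.appLE (z ⁻¹ᵁ X.basicOpen r) (y ⁻¹ᵁ X.basicOpen r) (le_a z y b hb _)).hom
    (Z.presheaf.map (homOfLE (z.preimage_mono (X.basicOpen_le r))).op).hom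
    (Y.presheaf.map (homOfLE (y.preimage_mono (X.basicOpen_le r))).op).hom
    (by ext x; exact (appLE_res z y (X.basicOpen_le r) a ha x).symm)
    (by ext x; exact (appLE_res z y (X.basicOpen_le r) b hb x).symm)
    ((z.app U.1).hom r) (app_mem z y a b ha hb U.1 r) hC
    (by rw [appLE_app z y U.1 a ha]; exact hD)
    (res_mem z y a b ha hb (X.basicOpen_le r))
  exact key

open Groth.Agent.Helper13QCAlgOfAffine in
/-- the coequalizer scheme -/
def Q : Scheme.{u} := spec (coequifibered_eqStr z y a b ha hb)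

open Groth.Agent.Helper13QCAlgOfAffine in
/-- its structure morphism -/
def q : Q z y a b ha hb ⟶ X := π (coequifibered_eqStr z y a b ha hb)

open Groth.Agent.Helper13QCAlgOfAffine in
/-- the charts -/
def chart (U : X.AffineZariskiSite) :
    Spec (CommRingCat.of (eqRing z y a b ha hb U.1)) ⟶ Q z y a b ha hb :=
  ι (coequifibered_eqStr z y a b ha hb) U.1 U.2

/-- the inclusion of the equalizer ring -/
def incl (U : X.Opens) : CommRingCat.of (eqRing z y a b ha hb U) ⟶ Γ(Z, z ⁻¹ᵁ U) :=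
  CommRingCat.ofHom (eqRing z y a b ha hb U).subtype

set_option backward.defeqAttrib.useBackward true in
set_option backward.isDefEq.respectTransparency false in
/-- the projection to the coequalizer -/
def p : Z ⟶ Q z y a b ha hb :=
  Scheme.OpenCover.glueMorphismsOfLocallyDirected
    ((directedCover X).pullback₁ z)
    (fun U ↦ (pullbackRestrictIsoRestrict z _).hom ≫ (z ⁻¹ᵁ U.1).toSpecΓ ≫
      Spec.map (incl z y a b ha hb U.1) ≫ chart z y a b ha hb U) fun {U V : X.AffineZariskiSite} i ↦ by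
  have : (pullbackRestrictIsoRestrict z U.1).inv ≫
      Scheme.Cover.trans ((directedCover X).pullback₁ z) i ≫
      (pullbackRestrictIsoRestrict z V.1).hom = Z.homOfLE
        (z.preimage_mono (toOpens_mono i.1.1)) := by
    rw [← cancel_mono (Scheme.Opens.ι _)]
    simp +instances [Scheme.Cover.trans, Scheme.Cover.locallyDirectedPullbackCover]
  rw [← Iso.inv_comp_eq, reassoc_of% this, ← Scheme.Opens.toSpecΓ_SpecMap_presheaf_map_assoc,
    ← Spec.map_comp_assoc]
  dsimp [chart]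
  rw [← Groth.Agent.Helper13QCAlgOfAffine.ι_res (coequifibered_eqStr z y a b ha hb) i]
  rw [← Spec.map_comp_assoc]
  rfl

set_option backward.isDefEq.respectTransparency.types false in
set_option backward.defeqAttrib.useBackward true in
theorem ι_p (U : X.AffineZariskiSite) :
    (z ⁻¹ᵁ U.1).ι ≫ p z y a b ha hb = (z ⁻¹ᵁ U.1).toSpecΓ ≫
      Spec.map (incl z y a b ha hb U.1) ≫ chart z y a b ha hb U := by
  rw [← cancel_epi (pullbackRestrictIsoRestrict z U.1).hom, ← Category.assoc]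
  trans ((directedCover X).pullback₁ z).f U ≫ p z y a b ha hb
  · congr 1; simp
  delta p
  generalize_proofs _ _ _ _ H
  exact Scheme.OpenCover.map_glueMorphismsOfLocallyDirected _ _ H _

instance : IsAffineHom (q z y a b ha hb) :=
  Groth.Agent.Helper13QCAlgOfAffine.isAffineHom_π _

instance (U : X.AffineZariskiSite) : IsOpenImmersion (chart z y a b ha hb U) :=
  (Groth.Agent.Helper13QCAlgOfAffine.glueData (coequifibered_eqStr z y a b ha hb)).cover.map_prop _

/-- the structure map of the equalizer ring -/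
def str (U : X.Opens) : Γ(X, U) ⟶ CommRingCat.of (eqRing z y a b ha hb U) :=
  CommRingCat.ofHom ((z.app U).hom.codRestrict (eqRing z y a b ha hb U) (app_mem z y a b ha hb U))

theorem chart_q (U : X.AffineZariskiSite) :
    chart z y a b ha hb U ≫ q z y a b ha hb = Spec.map (str z y a b ha hb U.1) ≫ U.2.fromSpec :=
  Groth.Agent.Helper13QCAlgOfAffine.ι_π _ U.1 U.2

theorem q_preimage (U : X.AffineZariskiSite) :
    q z y a b ha hb ⁻¹ᵁ U.1 = (chart z y a b ha hb U).opensRange :=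
  Groth.Agent.Helper13QCAlgOfAffine.π_preimage _ U.1 U.2

omit [QuasiCompact z] [QuasiSeparated z] [QuasiCompact y] [QuasiSeparated y] in
theorem str_incl (U : X.Opens) : str z y a b ha hb U ≫ incl z y a b ha hb U = z.app U := rfl

set_option backward.isDefEq.respectTransparency false in
theorem p_q : p z y a b ha hb ≫ q z y a b ha hb = z := by
  refine Scheme.Cover.hom_ext (Z.openCoverOfIsOpenCover _
    (.comap (iSup_affineOpens_eq_top X) z.base.1)) _ _ fun U ↦ ?_
  change (z ⁻¹ᵁ U.1).ι ≫ p z y a b ha hb ≫ q z y a b ha hb = (z ⁻¹ᵁ U.1).ι ≫ z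
  rw [reassoc_of% (ι_p z y a b ha hb U), chart_q, ← Spec.map_comp_assoc, str_incl]
  simp

omit [QuasiCompact z] [QuasiSeparated z] [QuasiCompact y] [QuasiSeparated y] in
theorem incl_appLE (U : X.Opens) :
    incl z y a b ha hb U ≫ a.appLE (z ⁻¹ᵁ U) (y ⁻¹ᵁ U) (le_a z y a ha U) =
      incl z y a b ha hb U ≫ b.appLE (z ⁻¹ᵁ U) (y ⁻¹ᵁ U) (le_a z y b hb U) := by
  ext x
  exact x.2

theorem ι_comp_p (U : X.AffineZariskiSite) (c : Y ⟶ Z) (hc : c ≫ z = y) :
    (y ⁻¹ᵁ U.1).ι ≫ c ≫ p z y a b ha hb = (y ⁻¹ᵁ U.1).toSpecΓ ≫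
      Spec.map (incl z y a b ha hb U.1 ≫ c.appLE (z ⁻¹ᵁ U.1) (y ⁻¹ᵁ U.1) (le_a z y c hc U.1)) ≫
        chart z y a b ha hb U := by
  rw [← Scheme.Hom.resLE_comp_ι_assoc c (le_a z y c hc U.1), ι_p, Spec.map_comp, Category.assoc,
    ← Scheme.Opens.toSpecΓ_SpecMap_appLE_assoc]

theorem a_p : a ≫ p z y a b ha hb = b ≫ p z y a b ha hb := by
  refine Scheme.Cover.hom_ext (Y.openCoverOfIsOpenCover _
    (.comap (iSup_affineOpens_eq_top X) y.base.1)) _ _ fun U ↦ ?_
  change (y ⁻¹ᵁ U.1).ι ≫ a ≫ p z y a b ha hb = (y ⁻¹ᵁ U.1).ι ≫ b ≫ p z y a b ha hb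
  rw [ι_comp_p z y a b ha hb U a ha, ι_comp_p z y a b ha hb U b hb, incl_appLE]

set_option backward.isDefEq.respectTransparency false in
theorem q_of_target_local (P : MorphismProperty Scheme.{u}) [IsZariskiLocalAtTarget P]
    (h : ∀ U : X.AffineZariskiSite, P (Spec.map (str z y a b ha hb U.1))) : P (q z y a b ha hb) := by
  rw [IsZariskiLocalAtTarget.iff_of_iSup_eq_top (P := P) _ (iSup_affineOpens_eq_top _)]
  intro U
  let e := IsOpenImmersion.isoOfRangeEq (q z y a b ha hb ⁻¹ᵁ U).ι (chart z y a b ha hb U)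
      (by simpa using congr($(q_preimage z y a b ha hb U).1))
  rw [← MorphismProperty.cancel_left_of_respectsIso P e.inv,
    ← MorphismProperty.cancel_right_of_respectsIso P _ U.2.isoSpec.hom]
  convert h U
  rw [← cancel_mono U.2.fromSpec]
  simp [IsAffineOpen.isoSpec_hom, e, chart_q]

theorem fromSpec_p [IsAffineHom z] (U : X.AffineZariskiSite) :
    (U.2.preimage z).fromSpec ≫ p z y a b ha hb =
      Spec.map (incl z y a b ha hb U.1) ≫ chart z y a b ha hb U := by
  rw [← (U.2.preimage z).isoSpec_inv_ι, Category.assoc, ι_p, ← IsAffineOpen.isoSpec_hom (U.2.preimage z),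
    Iso.inv_hom_id_assoc]

end

end Groth.Agent.Lib.Helper20.CoeqGlue
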