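import Mathlib
import Groth.Prelude.Def_FEt

/-!
# Finiteness of the fibre of a finite cover at a field-valued point
-/

set_option autoImplicit false
universe u
open AlgebraicGeometry CategoryTheory CategoryTheory.Limits

namespace Groth.Agent.Lib.Helper27FEtFib

theorem finite_sections_of_isFinite {P : Scheme.{u}} {Ω : Type u} [Field Ω]
    (p : P ⟶ Spec (CommRingCat.of Ω)) [IsFinite p] :
    Finite {t : Spec (CommRingCat.of Ω) ⟶ P // t ≫ p = 𝟙 _} := by
  haveI : IsAffine P := isAffine_of_isAffineHom p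
  let ι : Ω →+* Γ(P, ⊤) := ((Scheme.ΓSpecIso (CommRingCat.of Ω)).inv ≫ p.appTop).hom
  letI : Algebra Ω Γ(P, ⊤) := ι.toAlgebra
  haveI : Module.Finite Ω Γ(P, ⊤) := by
    have h1 : p.appTop.hom.Finite := p.finite_appTop
    have h2 : ι.Finite := by
      have h3 : ι = p.appTop.hom.comp (Scheme.ΓSpecIso (CommRingCat.of Ω)).inv.hom := rfl
      rw [h3]
      refine RingHom.Finite.comp h1 (RingHom.Finite.of_surjective _ ?_)
      exact (ConcreteCategory.bijective_of_isIso (Scheme.ΓSpecIso (CommRingCat.of Ω)).inv).2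
    exact RingHom.finite_algebraMap.mp h2
  let F : {t : Spec (CommRingCat.of Ω) ⟶ P // t ≫ p = 𝟙 _} → (Γ(P, ⊤) →ₐ[Ω] Ω) := fun t =>
    { toRingHom := (t.1.appTop ≫ (Scheme.ΓSpecIso (CommRingCat.of Ω)).hom).hom
      commutes' := by
        intro r
        show (Scheme.ΓSpecIso (CommRingCat.of Ω)).hom (t.1.appTop (p.appTop
          ((Scheme.ΓSpecIso (CommRingCat.of Ω)).inv r))) = r
        have h4 : p.appTop ≫ t.1.appTop = 𝟙 _ := by
          rw [← Scheme.Hom.comp_appTop, t.2]
          rfl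
        have h5 : t.1.appTop (p.appTop ((Scheme.ΓSpecIso (CommRingCat.of Ω)).inv r)) =
            (Scheme.ΓSpecIso (CommRingCat.of Ω)).inv r := by
          have := congrArg (fun f => f.hom ((Scheme.ΓSpecIso (CommRingCat.of Ω)).inv r)) h4
          simpa using this
        rw [h5]
        have := congrArg (fun f => f.hom r) (Scheme.ΓSpecIso (CommRingCat.of Ω)).inv_hom_id
        simpa using this }
  apply Finite.of_injective F
  intro t t' htt'
  apply Subtype.ext
  apply ext_of_isAffine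
  have h6 : (t.1.appTop ≫ (Scheme.ΓSpecIso (CommRingCat.of Ω)).hom).hom =
      (t'.1.appTop ≫ (Scheme.ΓSpecIso (CommRingCat.of Ω)).hom).hom :=
    congrArg (fun f : Γ(P, ⊤) →ₐ[Ω] Ω => f.toRingHom) htt'
  have h7 : t.1.appTop ≫ (Scheme.ΓSpecIso (CommRingCat.of Ω)).hom =
      t'.1.appTop ≫ (Scheme.ΓSpecIso (CommRingCat.of Ω)).hom := CommRingCat.hom_ext h6
  exact (cancel_mono _).mp h7

theorem finite_fiber {X Y : Scheme.{u}} (f : Y ⟶ X) [IsFinite f] {Ω : Type u} [Field Ω]
    (ξ : Spec (CommRingCat.of Ω) ⟶ X) :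
    Finite {s : Spec (CommRingCat.of Ω) ⟶ Y // s ≫ f = ξ} := by
  haveI := finite_sections_of_isFinite (pullback.snd f ξ)
  let G : {s : Spec (CommRingCat.of Ω) ⟶ Y // s ≫ f = ξ} →
      {t : Spec (CommRingCat.of Ω) ⟶ pullback f ξ // t ≫ pullback.snd f ξ = 𝟙 _} := fun s =>
    ⟨pullback.lift s.1 (𝟙 _) (by rw [s.2, Category.id_comp]), pullback.lift_snd _ _ _⟩
  apply Finite.of_injective G
  intro s s' hss'
  apply Subtype.ext
  have := congrArg (fun t => t.1 ≫ pullback.fst f ξ) hss'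
  simp only [G, pullback.lift_fst] at this
  exact this

end Groth.Agent.Lib.Helper27FEtFib
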