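import Groth.Agent.Lib.Helper20GalPoint
import Groth.Agent.S0294
import Mathlib

set_option autoImplicit false
universe u
open CategoryTheory CategoryTheory.Limits AlgebraicGeometry TopologicalSpace Opposite

namespace Groth.Agent.Lib.Helper20.GalFiber

open SGA1 Groth.Agent.Lib.Helper20 Groth.Agent.Lib.Helper20.GalCat Groth.Agent.Lib.Helper20.GalPoint

variable {X : Scheme.{u}} {Ω : Type u} [Field Ω] (ξ : Spec (CommRingCat.of Ω) ⟶ X)

/-- the fibre functor is corepresented (on `Over X`) by the geometric point -/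
noncomputable def fiberIso : FEt.fiber ξ ≅
    MorphismProperty.Over.forget FEt.prop ⊤ X ⋙ coyoneda.obj (op (Over.mk ξ)) :=
  NatIso.ofComponents (fun Y => Equiv.toIso
    { toFun := fun s => Over.homMk s.1 s.2
      invFun := fun φ => ⟨φ.left, Over.w φ⟩
      left_inv := fun s => rfl
      right_inv := fun φ => by
        apply Over.OverMorphism.ext
        rfl }) (by
    intro Y Z f
    ext s
    apply Over.OverMorphism.ext
    rfl)

instance : PreservesFiniteLimits (FEt.fiber ξ) :=
  preservesFiniteLimits_of_natIso (fiberIso ξ).symm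

theorem range_subset_of_mem {Z : Scheme.{u}} (s : Spec (CommRingCat.of Ω) ⟶ Z) (pt : Spec (CommRingCat.of Ω))
    (U : Set Z) (h : s pt ∈ U) : Set.range s ⊆ U := by
  rintro _ ⟨pt', rfl⟩
  have : pt' = pt := Subsingleton.elim _ _
  rw [this]; exact h

theorem fiber_map_val {Y Z : FEt.Cat X} (f : Y ⟶ Z) (s : FEt.fiberObj ξ Y) :
    ((FEt.fiber ξ).map f s).1 = s.1 ≫ f.left := rfl

theorem fiber_binaryCofan {Y₁ Y₂ Z : FEt.Cat X} (i₁ : Y₁ ⟶ Z) (i₂ : Y₂ ⟶ Z)
    [IsOpenImmersion i₁.left] [IsOpenImmersion i₂.left]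
    (h : IsCompl i₁.left.opensRange i₂.left.opensRange) :
    Nonempty (IsColimit (BinaryCofan.mk ((FEt.fiber ξ).map i₁) ((FEt.fiber ξ).map i₂))) := by
  let pt : Spec (CommRingCat.of Ω) := default
  rw [Types.binaryCofan_isColimit_iff]
  refine ⟨?_, ?_, ?_, ?_⟩
  · intro s s' hss'
    apply Subtype.ext
    have := congrArg Subtype.val hss'
    exact (cancel_mono i₁.left).mp this
  · intro s s' hss'
    apply Subtype.ext
    have := congrArg Subtype.val hss'
    exact (cancel_mono i₂.left).mp this
  · rw [Set.disjoint_iff]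
    rintro s ⟨⟨s₁, rfl⟩, ⟨s₂, h2⟩⟩
    have h3 : (s₂.1 ≫ i₂.left) pt = (s₁.1 ≫ i₁.left) pt :=
      congrArg (fun t : FEt.fiberObj ξ Z => t.1 pt) h2
    have h4 : (s₁.1 ≫ i₁.left) pt ∈ (i₁.left.opensRange ⊓ i₂.left.opensRange : Z.left.Opens) :=
      ⟨⟨s₁.1 pt, by simp⟩, ⟨s₂.1 pt, by rw [← h3]; simp⟩⟩
    rw [h.inf_eq_bot] at h4
    exact h4
  · rw [codisjoint_iff, eq_top_iff]
    rintro s -
    have hs : s.1 pt ∈ (i₁.left.opensRange ⊔ i₂.left.opensRange : Z.left.Opens) := by
      rw [h.sup_eq_top]; trivial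
    rcases hs with hs | hs
    · left
      have hr : Set.range s.1 ⊆ Set.range i₁.left := range_subset_of_mem s.1 pt _ hs
      refine ⟨⟨IsOpenImmersion.lift i₁.left s.1 hr, ?_⟩, ?_⟩
      · rw [← MorphismProperty.Over.w i₁, ← Category.assoc, IsOpenImmersion.lift_fac]
        exact s.2
      · apply Subtype.ext
        exact IsOpenImmersion.lift_fac _ _ _
    · right
      have hr : Set.range s.1 ⊆ Set.range i₂.left := range_subset_of_mem s.1 pt _ hs
      refine ⟨⟨IsOpenImmersion.lift i₂.left s.1 hr, ?_⟩, ?_⟩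
      · rw [← MorphismProperty.Over.w i₂, ← Category.assoc, IsOpenImmersion.lift_fac]
        exact s.2
      · apply Subtype.ext
        exact IsOpenImmersion.lift_fac _ _ _

instance preservesBinaryCoproducts :
    PreservesColimitsOfShape (Discrete WalkingPair) (FEt.fiber ξ) := by
  constructor
  intro K
  haveI : PreservesColimit (pair (K.obj ⟨WalkingPair.left⟩) (K.obj ⟨WalkingPair.right⟩))
      (FEt.fiber ξ) := by
    obtain ⟨hc⟩ := nonempty_isColimit_coprod (K.obj ⟨.left⟩) (K.obj ⟨.right⟩)
    apply preservesColimit_of_preserves_colimit_cocone hc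
    refine (isColimitMapCoconeBinaryCofanEquiv _ _ _).symm ?_
    haveI : IsOpenImmersion (coprodInl (K.obj ⟨.left⟩) (K.obj ⟨.right⟩)).left :=
      inferInstanceAs (IsOpenImmersion (coprod.inl : (K.obj ⟨.left⟩).left ⟶ _ ⨿ (K.obj ⟨.right⟩).left))
    haveI : IsOpenImmersion (coprodInr (K.obj ⟨.left⟩) (K.obj ⟨.right⟩)).left :=
      inferInstanceAs (IsOpenImmersion (coprod.inr : (K.obj ⟨.right⟩).left ⟶ (K.obj ⟨.left⟩).left ⨿ _))
    exact (fiber_binaryCofan ξ _ _ (isCompl_opensRange_inl_inr _ _)).some
  exact preservesColimit_of_iso_diagram _ (diagramIsoPair K).symm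

instance preservesInitial : PreservesColimitsOfShape (Discrete PEmpty.{1}) (FEt.fiber ξ) := by
  haveI : PreservesColimit (Functor.empty.{0} (FEt.Cat X)) (FEt.fiber ξ) := by
    apply preservesColimit_of_preserves_colimit_cocone (isInitialOfIsEmpty (emptyObj X))
    refine (isColimitMapCoconeEmptyCoconeEquiv _ _).symm ?_
    haveI : IsEmpty ((FEt.fiber ξ).obj (emptyObj X)) :=
      ⟨fun s => (inferInstance : IsEmpty (emptyObj X).left).false (s.1 default)⟩
    exact ((Types.initial_iff_empty _).mpr inferInstance).some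
  exact preservesColimitsOfShape_pempty_of_preservesInitial _

instance preservesFiniteCoproducts : PreservesFiniteCoproducts (FEt.fiber ξ) :=
  ⟨fun n => preservesShape_fin_of_preserves_binary_and_initial _ n⟩



/-- a clopen subset of a finite etale cover, as a finite etale cover -/
noncomputable def clopenObj (Z : FEt.Cat X) (V : Z.left.Opens) (hV : IsClosed (V : Set Z.left)) :
    FEt.Cat X :=
  haveI : IsClosedImmersion V.ι := IsClosedImmersion.of_isPreimmersion V.ι (by
    rw [Scheme.Opens.range_ι]; exact hV)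
  MorphismProperty.Over.mk ⊤ (V.ι ≫ Z.hom) ⟨inferInstance, inferInstance⟩

noncomputable def clopenι (Z : FEt.Cat X) (V : Z.left.Opens) (hV : IsClosed (V : Set Z.left)) :
    clopenObj Z V hV ⟶ Z :=
  MorphismProperty.Over.homMk V.ι rfl trivial

instance (Z : FEt.Cat X) (V : Z.left.Opens) (hV : IsClosed (V : Set Z.left)) :
    IsOpenImmersion (clopenι Z V hV).left := inferInstanceAs (IsOpenImmersion V.ι)

theorem opensRange_clopenι (Z : FEt.Cat X) (V : Z.left.Opens) (hV : IsClosed (V : Set Z.left)) :
    (clopenι Z V hV).left.opensRange = V := Scheme.Opens.opensRange_ι V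

theorem nonempty_isColimit_clopen (Z : FEt.Cat X) (V V' : Z.left.Opens)
    (hV : IsClosed (V : Set Z.left)) (hV' : IsClosed (V' : Set Z.left)) (h : IsCompl V V') :
    Nonempty (IsColimit (BinaryCofan.mk (clopenι Z V hV) (clopenι Z V' hV'))) := by
  apply nonempty_isColimit_binaryCofan
  rw [opensRange_clopenι, opensRange_clopenι]
  exact h

theorem surjective_left_of_epi {Y Z : FEt.Cat X} (f : Y ⟶ Z) [Epi f] :
    Function.Surjective f.left := by
  have hop : IsOpen (Set.range f.left) := f.left.isOpenMap.isOpen_range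
  have hcl : IsClosed (Set.range f.left) := f.left.isClosedMap.isClosed_range
  let V : Z.left.Opens := ⟨Set.range f.left, hop⟩
  let V' : Z.left.Opens := ⟨(Set.range f.left)ᶜ, hcl.isOpen_compl⟩
  have hV : IsClosed (V : Set Z.left) := hcl
  have hV' : IsClosed (V' : Set Z.left) := hop.isClosed_compl
  have hcompl : IsCompl V V' := by
    constructor
    · rw [disjoint_iff]
      ext z
      simp only [Opens.coe_inf, Opens.coe_bot, Set.mem_inter_iff, Set.mem_empty_iff_false,
        iff_false]
      rintro ⟨h1, h2⟩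
      exact h2 h1
    · rw [codisjoint_iff]
      ext z
      simp only [Opens.coe_sup, Opens.coe_top, Set.mem_union, Set.mem_univ, iff_true]
      by_cases hz : z ∈ Set.range f.left
      · exact Or.inl hz
      · exact Or.inr hz
  obtain ⟨hc⟩ := nonempty_isColimit_clopen Z V V' hV hV' hcompl
  let j₁ := clopenι Z V hV
  let j₂ := clopenι Z V' hV'
  obtain ⟨g₂, hg1, hg2⟩ := BinaryCofan.IsColimit.desc' hc (j₁ ≫ coprodInl Z Z) (j₂ ≫ coprodInr Z Z)
  -- `f` factors through `j₁`
  have hr : Set.range f.left ⊆ Set.range j₁.left := by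
    rw [show Set.range j₁.left = ((clopenι Z V hV).left.opensRange : Set Z.left) from rfl,
      opensRange_clopenι]
    exact subset_rfl
  let f' : Y ⟶ clopenObj Z V hV := MorphismProperty.Over.homMk
    (IsOpenImmersion.lift j₁.left f.left hr) (by
      rw [← MorphismProperty.Over.w j₁, ← Category.assoc, IsOpenImmersion.lift_fac]
      exact MorphismProperty.Over.w f) trivial
  have hf' : f' ≫ j₁ = f := by
    apply MorphismProperty.Over.Hom.ext
    exact IsOpenImmersion.lift_fac _ _ _
  have h1 : f ≫ g₂ = f ≫ coprodInl Z Z := by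
    rw [← hf', Category.assoc, Category.assoc]
    congr 1
  have h2 : g₂ = coprodInl Z Z := (cancel_epi f).mp h1
  have h3 : j₂ ≫ coprodInl Z Z = j₂ ≫ coprodInr Z Z := by
    rw [← h2]; exact hg2
  have h4 : j₂.left ≫ (coprod.inl : Z.left ⟶ Z.left ⨿ Z.left) = j₂.left ≫ coprod.inr :=
    congrArg (fun φ => φ.left) h3
  intro z
  by_contra hz
  have hz' : z ∈ (V' : Set Z.left) := hz
  have h5 : (coprod.inl : Z.left ⟶ Z.left ⨿ Z.left) z = (coprod.inr : Z.left ⟶ Z.left ⨿ Z.left) z := by
    have := congrArg (fun φ : (clopenObj Z V' hV').left ⟶ Z.left ⨿ Z.left => φ ⟨z, hz'⟩) h4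
    exact this
  have h6 : (coprod.inl : Z.left ⟶ Z.left ⨿ Z.left) z ∈
      ((coprod.inl : Z.left ⟶ Z.left ⨿ Z.left).opensRange ⊓
        (coprod.inr : Z.left ⟶ Z.left ⨿ Z.left).opensRange : (Z.left ⨿ Z.left).Opens) :=
    ⟨⟨z, rfl⟩, ⟨z, h5.symm⟩⟩
  rw [(isCompl_opensRange_inl_inr Z.left Z.left).inf_eq_bot] at h6
  exact h6

theorem fiber_map_surjective [IsAlgClosed Ω] {Y Z : FEt.Cat X} (f : Y ⟶ Z)
    (hf : Function.Surjective f.left) : Function.Surjective ((FEt.fiber ξ).map f) := by
  intro s'
  obtain ⟨y, hy⟩ := hf (s'.1 default)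
  obtain ⟨s, hs1, -⟩ := exists_lift_of_finite f.left s'.1 y default hy
  refine ⟨⟨s, ?_⟩, Subtype.ext hs1⟩
  rw [← MorphismProperty.Over.w f, ← Category.assoc, hs1]
  exact s'.2

theorem isColimit_fiber_mapCocone [IsAlgClosed Ω] {G : Type u} [Group G] [Finite G]
    (K : SingleObj G ⥤ FEt.Cat X) (c : Cocone K)
    (hq : IsQuot (act K) (c.ι.app (SingleObj.star G)).left) :
    Nonempty (IsColimit ((FEt.fiber ξ).mapCocone c)) := by
  have hsurj : Function.Surjective ((FEt.fiber ξ).map (c.ι.app (SingleObj.star G))) :=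
    fiber_map_surjective ξ _ (surjective_of_isQuot hq)
  have key : ∀ (s : Cocone (K ⋙ FEt.fiber ξ)) (y y' : FEt.fiberObj ξ (base K)),
      (FEt.fiber ξ).map (c.ι.app (SingleObj.star G)) y =
        (FEt.fiber ξ).map (c.ι.app (SingleObj.star G)) y' →
      s.ι.app (SingleObj.star G) y = s.ι.app (SingleObj.star G) y' := by
    intro s y y' hyy'
    have h1 : y'.1 ≫ (c.ι.app (SingleObj.star G)).left = y.1 ≫ (c.ι.app (SingleObj.star G)).left :=
      (congrArg Subtype.val hyy').symm
    obtain ⟨g, hg⟩ := geom_orbit (act K) _ hq y'.1 y.1 h1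
    have h2 : y = (K ⋙ FEt.fiber ξ).map (X := SingleObj.star G) (Y := SingleObj.star G) g y' :=
      Subtype.ext hg
    rw [h2]
    have h3 := s.w (j := SingleObj.star G) (j' := SingleObj.star G) g
    exact congrArg (fun φ => φ y') h3
  refine ⟨{ desc := fun s => TypeCat.ofHom
              (fun z => s.ι.app (SingleObj.star G) (hsurj z).choose),
            fac := ?_, uniq := ?_ }⟩
  · intro s j
    ext y
    exact key s _ _ (hsurj _).choose_spec
  · intro s m hm
    ext z
    have h1 := congrArg (fun φ => φ (hsurj z).choose) (hm (SingleObj.star G))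
    refine Eq.trans ?_ h1
    change m z = m ((FEt.fiber ξ).map (c.ι.app (SingleObj.star G)) (hsurj z).choose)
    rw [(hsurj z).choose_spec]

theorem isIso_left_of_bijective [IsAlgClosed Ω] [ConnectedSpace X] {Y Z : FEt.Cat X} (f : Y ⟶ Z)
    (hf : Function.Bijective ((FEt.fiber ξ).map f)) : IsIso f.left := by
  let pt : Spec (CommRingCat.of Ω) := default
  have hsurj : Function.Surjective f.left := by
    by_contra hns
    have hop : IsOpen (Set.range f.left) := f.left.isOpenMap.isOpen_range
    have hcl : IsClosed (Set.range f.left) := f.left.isClosedMap.isClosed_range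
    have hW : IsClopen (Set.range f.left)ᶜ := ⟨hop.isClosed_compl, hcl.isOpen_compl⟩
    have hne : ((Set.range f.left)ᶜ).Nonempty := by
      rw [Set.nonempty_compl]
      intro h
      exact hns (Set.range_eq_univ.mp h)
    obtain ⟨s, hs1, hs2⟩ := exists_lift_mem_clopen (X := X) Z.hom ξ _ hW hne
    obtain ⟨s₀, hs₀⟩ := hf.2 ⟨s, hs1⟩
    apply hs2 pt
    have : s = s₀.1 ≫ f.left := (congrArg Subtype.val hs₀).symm
    rw [this]
    exact ⟨s₀.1 pt, by simp⟩
  haveI : Surjective f.left := ⟨hsurj⟩
  haveI : Mono f.left := by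
    rw [← pullback.isIso_diagonal_iff]
    let Δ := pullback.diagonal f.left
    have hop : IsOpen (Set.range Δ) := Δ.isOpenEmbedding.isOpen_range
    have hcl : IsClosed (Set.range Δ) := Δ.isClosedEmbedding.isClosed_range
    have hW : IsClopen (Set.range Δ)ᶜ := ⟨hop.isClosed_compl, hcl.isOpen_compl⟩
    have hΔsurj : Function.Surjective Δ := by
      by_contra hns
      have hne : ((Set.range Δ)ᶜ).Nonempty := by
        rw [Set.nonempty_compl]
        intro h
        exact hns (Set.range_eq_univ.mp h)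
      obtain ⟨s, hs1, hs2⟩ :=
        exists_lift_mem_clopen (X := X) (pullback.fst f.left f.left ≫ Y.hom) ξ _ hW hne
      have hs1' : (s ≫ pullback.snd f.left f.left) ≫ Y.hom = ξ := by
        rw [← hs1, ← MorphismProperty.Over.w f, Category.assoc, pullback.condition_assoc]
      have h1 : (FEt.fiber ξ).map f ⟨s ≫ pullback.fst f.left f.left, by rw [Category.assoc, hs1]⟩ =
          (FEt.fiber ξ).map f ⟨s ≫ pullback.snd f.left f.left, hs1'⟩ := by
        apply Subtype.ext
        change (s ≫ pullback.fst f.left f.left) ≫ f.left = (s ≫ pullback.snd f.left f.left) ≫ f.left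
        rw [Category.assoc, Category.assoc, pullback.condition]
      have h2 : s ≫ pullback.fst f.left f.left = s ≫ pullback.snd f.left f.left :=
        congrArg Subtype.val (hf.1 h1)
      have h3 : s = (s ≫ pullback.fst f.left f.left) ≫ Δ := by
        apply pullback.hom_ext
        · simp [Δ]
        · simp [Δ, h2]
      apply hs2 pt
      rw [h3]
      exact ⟨(s ≫ pullback.fst f.left f.left) pt, by simp⟩
    haveI : Epi Δ.base := (TopCat.epi_iff_surjective _).mpr hΔsurj
    exact IsOpenImmersion.isIso Δ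
  exact Flat.isIso_of_surjective_of_mono f.left



instance preservesQuot [IsAlgClosed Ω] {G : Type u} [Group G] [Finite G] :
    PreservesColimitsOfShape (SingleObj G) (FEt.fiber ξ) := by
  constructor
  intro K
  obtain ⟨c, ⟨hc⟩, hq⟩ := exists_cocone_isQuot K
  exact preservesColimit_of_preserves_colimit_cocone hc (isColimit_fiber_mapCocone ξ K c hq).some

/-- the fibre functor with values in finite sets -/
noncomputable def fib : FEt.Cat X ⥤ FintypeCat.{u} :=
  ObjectProperty.lift Finite (FEt.fiber ξ) (fun Y => Groth.Agent.S0294.result ξ Y)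

noncomputable def fibCompIncl : fib ξ ⋙ FintypeCat.incl ≅ FEt.fiber ξ :=
  ObjectProperty.liftCompιIso _ _ _

theorem isIso_of_isIso_left {Y Z : FEt.Cat X} (f : Y ⟶ Z) [IsIso f.left] : IsIso f := by
  haveI : IsIso ((Over.forget X).map ((MorphismProperty.Over.forget FEt.prop ⊤ X).map f)) :=
    inferInstanceAs (IsIso f.left)
  haveI : IsIso ((MorphismProperty.Over.forget FEt.prop ⊤ X).map f) :=
    isIso_of_reflects_iso _ (Over.forget X)
  exact isIso_of_reflects_iso _ (MorphismProperty.Over.forget FEt.prop ⊤ X)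

instance fiberFunctor [IsAlgClosed Ω] [ConnectedSpace X] :
    PreGaloisCategory.FiberFunctor (fib ξ) where
  preservesTerminalObjects := by
    haveI : PreservesLimitsOfShape (Discrete PEmpty.{1}) (fib ξ ⋙ FintypeCat.incl) :=
      preservesLimitsOfShape_of_natIso (fibCompIncl ξ).symm
    exact preservesLimitsOfShape_of_reflects_of_preserves (fib ξ) FintypeCat.incl
  preservesPullbacks := by
    haveI : PreservesLimitsOfShape WalkingCospan (fib ξ ⋙ FintypeCat.incl) :=
      preservesLimitsOfShape_of_natIso (fibCompIncl ξ).symm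
    exact preservesLimitsOfShape_of_reflects_of_preserves (fib ξ) FintypeCat.incl
  preservesFiniteCoproducts := by
    refine ⟨fun n => ?_⟩
    haveI : PreservesColimitsOfShape (Discrete (Fin n)) (fib ξ ⋙ FintypeCat.incl) :=
      preservesColimitsOfShape_of_natIso (fibCompIncl ξ).symm
    exact preservesColimitsOfShape_of_reflects_of_preserves (fib ξ) FintypeCat.incl
  preservesEpis := by
    refine ⟨fun {Y Z} f hf => ?_⟩
    apply FintypeCat.incl.epi_of_epi_map
    change Epi ((FEt.fiber ξ).map f)
    rw [epi_iff_surjective]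
    exact fiber_map_surjective ξ f (surjective_left_of_epi f)
  preservesQuotientsByFiniteGroups G _ _ := by
    haveI : PreservesColimitsOfShape (SingleObj G) (fib ξ ⋙ FintypeCat.incl) :=
      preservesColimitsOfShape_of_natIso (fibCompIncl ξ).symm
    exact preservesColimitsOfShape_of_reflects_of_preserves (fib ξ) FintypeCat.incl
  reflectsIsos := by
    refine ⟨fun {Y Z} f hf => ?_⟩
    have h1 : IsIso ((FEt.fiber ξ).map f) :=
      inferInstanceAs (IsIso (FintypeCat.incl.map ((fib ξ).map f)))
    rw [isIso_iff_bijective] at h1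
    haveI := isIso_left_of_bijective ξ f h1
    exact isIso_of_isIso_left f

end Groth.Agent.Lib.Helper20.GalFiber
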