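import Mathlib
import Groth.Agent.Lib.Helper20CoeqGlue
import Groth.Agent.Lib.Helper20CoeqEt
import Groth.Agent.Lib.Helper20GalFiber

set_option autoImplicit false
universe u
open CategoryTheory CategoryTheory.Limits AlgebraicGeometry TopologicalSpace Opposite
open Scheme.AffineZariskiSite

namespace Groth.Agent.Lib.Helper20.CoeqSch

open Groth.Agent.Lib.Helper20.CoeqGlue Groth.Agent.Lib.Helper20.CoeqEt

noncomputable section

variable {X Y Z : Scheme.{u}} (z : Z ⟶ X) (y : Y ⟶ X) (a b : Y ⟶ Z) (ha : a ≫ z = y) (hb : b ≫ z = y)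

theorem incl_injective (U : X.Opens) : Function.Injective (incl z y a b ha hb U).hom :=
  Subtype.val_injective

theorem incl_range (U : X.Opens) (c : Γ(Z, z ⁻¹ᵁ U)) :
    (a.appLE (z ⁻¹ᵁ U) (y ⁻¹ᵁ U) (le_a z y a ha U)).hom c =
      (b.appLE (z ⁻¹ᵁ U) (y ⁻¹ᵁ U) (le_a z y b hb U)).hom c ↔
      c ∈ Set.range (incl z y a b ha hb U).hom := by
  constructor
  · intro h
    exact ⟨⟨c, h⟩, rfl⟩
  · rintro ⟨e, rfl⟩
    exact e.2

theorem comp_app (U : X.Opens) (c : Y ⟶ Z) (hc : c ≫ z = y) :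
    (c.appLE (z ⁻¹ᵁ U) (y ⁻¹ᵁ U) (le_a z y c hc U)).hom.comp (z.app U).hom = (y.app U).hom := by
  ext r
  exact appLE_app z y U c hc r

theorem finite_app [IsFinite z] (U : X.AffineZariskiSite) : (z.app U.1).hom.Finite :=
  z.finite_app U.1 U.2

theorem etale_app [IsFinite z] [Etale z] (U : X.AffineZariskiSite) : (z.app U.1).hom.Etale := by
  have := z.etale_appLE U.2 (U.2.preimage z) le_rfl
  rwa [Scheme.Hom.appLE_eq_app] at this

variable [IsFinite z] [Etale z] [IsFinite y] [Etale y]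

instance etale_q : Etale (q z y a b ha hb) := by
  refine q_of_target_local z y a b ha hb @Etale fun U => ?_
  exact etale_SpecMap_equalizer (z.app U.1).hom (y.app U.1).hom (str z y a b ha hb U.1).hom
    (a.appLE (z ⁻¹ᵁ U.1) (y ⁻¹ᵁ U.1) (le_a z y a ha U.1)).hom
    (b.appLE (z ⁻¹ᵁ U.1) (y ⁻¹ᵁ U.1) (le_a z y b hb U.1)).hom
    (incl z y a b ha hb U.1).hom
    (comp_app z y U.1 a ha) (comp_app z y U.1 b hb) rfl
    (incl_injective z y a b ha hb U.1) (incl_range z y a b ha hb U.1)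
    (finite_app z U) (etale_app z U) (finite_app y U) (etale_app y U)

instance isIntegralHom_q : IsIntegralHom (q z y a b ha hb) := by
  refine q_of_target_local z y a b ha hb @IsIntegralHom fun U => ?_
  rw [IsIntegralHom.SpecMap_iff]
  have h1 : ((incl z y a b ha hb U.1).hom.comp (str z y a b ha hb U.1).hom).IsIntegral :=
    z.isIntegral_app U.1 U.2
  exact RingHom.IsIntegral.tower_bot _ _ (incl_injective z y a b ha hb U.1) h1

instance isFinite_q : IsFinite (q z y a b ha hb) :=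
  (IsFinite.iff_isIntegralHom_and_locallyOfFiniteType _).mpr ⟨inferInstance, inferInstance⟩

instance isFinite_p : IsFinite (p z y a b ha hb) := by
  haveI : IsFinite (p z y a b ha hb ≫ q z y a b ha hb) := by rw [p_q]; infer_instance
  exact IsFinite.of_comp _ (q z y a b ha hb)

theorem surjective_p : Function.Surjective (p z y a b ha hb) := by
  intro w
  obtain ⟨_, ⟨V, hV, rfl⟩, hwV, -⟩ := X.isBasis_affineOpens.exists_subset_of_mem_open
    (Set.mem_univ (q z y a b ha hb w)) isOpen_univ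
  let U : X.AffineZariskiSite := ⟨V, hV⟩
  have hw : w ∈ (chart z y a b ha hb U).opensRange := by
    rw [← q_preimage]; exact hwV
  obtain ⟨e, rfl⟩ := hw
  -- lying over
  letI : Algebra (eqRing z y a b ha hb U.1) Γ(Z, z ⁻¹ᵁ U.1) := (incl z y a b ha hb U.1).hom.toAlgebra
  haveI : Algebra.IsIntegral (eqRing z y a b ha hb U.1) Γ(Z, z ⁻¹ᵁ U.1) := by
    have h1 : ((incl z y a b ha hb U.1).hom.comp (str z y a b ha hb U.1).hom).IsIntegral :=
      z.isIntegral_app U.1 U.2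
    exact ⟨RingHom.IsIntegral.tower_top _ _ h1⟩
  haveI := e.isPrime
  obtain ⟨P, -, hP, hPe⟩ := Ideal.exists_ideal_over_prime_of_isIntegral
    (R := eqRing z y a b ha hb U.1) (S := Γ(Z, z ⁻¹ᵁ U.1)) e.asIdeal ⊥ (by
      intro x hx
      have hx' : (incl z y a b ha hb U.1).hom x = 0 := hx
      have : x = 0 := incl_injective z y a b ha hb U.1 (hx'.trans (map_zero _).symm)
      rw [this]
      exact zero_mem _)
  let c : Spec Γ(Z, z ⁻¹ᵁ U.1) := ⟨P, hP⟩
  refine ⟨(U.2.preimage z).fromSpec c, ?_⟩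
  rw [← Scheme.Hom.comp_apply, fromSpec_p, Scheme.Hom.comp_apply]
  congr 1
  exact PrimeSpectrum.ext hPe

section Geom

variable {Ω : Type u} [Field Ω]

omit [IsFinite z] [Etale z] [IsFinite y] [Etale y] in
theorem exists_SpecMap_fromSpec {T : Scheme.{u}} {V : T.Opens} (hV : IsAffineOpen V)
    (s : Spec (CommRingCat.of Ω) ⟶ T) (hs : s default ∈ V) :
    ∃ σ : Γ(T, V) ⟶ CommRingCat.of Ω, s = Spec.map σ ≫ hV.fromSpec := by
  have hr : Set.range s ⊆ Set.range hV.fromSpec := by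
    rw [hV.range_fromSpec]
    exact Groth.Agent.Lib.Helper20.GalFiber.range_subset_of_mem s default V hs
  obtain ⟨σ, hσ⟩ := Spec.map_surjective (IsOpenImmersion.lift hV.fromSpec s hr)
  refine ⟨σ, ?_⟩
  rw [hσ, IsOpenImmersion.lift_fac]

variable [IsAlgClosed Ω]

theorem exists_lift_p (ζ : Spec (CommRingCat.of Ω) ⟶ Q z y a b ha hb) :
    ∃ s : Spec (CommRingCat.of Ω) ⟶ Z, s ≫ p z y a b ha hb = ζ := by
  obtain ⟨z₀, hz₀⟩ := surjective_p z y a b ha hb (ζ default)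
  obtain ⟨s, hs, -⟩ := Groth.Agent.Lib.Helper20.GalPoint.exists_lift_of_finite
    (p z y a b ha hb) ζ z₀ default hz₀
  exact ⟨s, hs⟩

theorem eqvGen_geom (s s' : Spec (CommRingCat.of Ω) ⟶ Z)
    (h : s ≫ p z y a b ha hb = s' ≫ p z y a b ha hb) :
    Relation.EqvGen (fun s₁ s₂ : Spec (CommRingCat.of Ω) ⟶ Z =>
      ∃ t : Spec (CommRingCat.of Ω) ⟶ Y, s₁ = t ≫ a ∧ s₂ = t ≫ b) s s' := by
  have hz : s ≫ z = s' ≫ z := by
    rw [← p_q z y a b ha hb, ← Category.assoc, h, Category.assoc]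
  obtain ⟨_, ⟨V, hV, rfl⟩, hxV, -⟩ := X.isBasis_affineOpens.exists_subset_of_mem_open
    (Set.mem_univ ((s ≫ z) default)) isOpen_univ
  let U : X.AffineZariskiSite := ⟨V, hV⟩
  have hZU : IsAffineOpen (z ⁻¹ᵁ U.1) := U.2.preimage z
  have hYU : IsAffineOpen (y ⁻¹ᵁ U.1) := U.2.preimage y
  obtain ⟨ξ, hξ⟩ := exists_SpecMap_fromSpec U.2 (s ≫ z) hxV
  obtain ⟨σ, hσ⟩ := exists_SpecMap_fromSpec hZU s (by
    change z (s default) ∈ U.1
    rw [← Scheme.Hom.comp_apply]; exact hxV)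
  obtain ⟨σ', hσ'⟩ := exists_SpecMap_fromSpec hZU s' (by
    change z (s' default) ∈ U.1
    rw [← Scheme.Hom.comp_apply, ← hz]; exact hxV)
  -- the dictionary
  have hzσ : ∀ (τ : Γ(Z, z ⁻¹ᵁ U.1) ⟶ CommRingCat.of Ω),
      (Spec.map τ ≫ hZU.fromSpec) ≫ z = Spec.map (z.app U.1 ≫ τ) ≫ U.2.fromSpec := by
    intro τ
    rw [Category.assoc, ← IsAffineOpen.SpecMap_appLE_fromSpec z U.2 hZU le_rfl,
      Scheme.Hom.appLE_eq_app, Spec.map_comp, Category.assoc]
  have hpσ : ∀ (τ : Γ(Z, z ⁻¹ᵁ U.1) ⟶ CommRingCat.of Ω),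
      (Spec.map τ ≫ hZU.fromSpec) ≫ p z y a b ha hb =
        Spec.map (incl z y a b ha hb U.1 ≫ τ) ≫ chart z y a b ha hb U := by
    intro τ
    rw [Category.assoc, fromSpec_p, Spec.map_comp, Category.assoc]
  have h1 : z.app U.1 ≫ σ = ξ := by
    have := hzσ σ
    rw [← hσ, hξ] at this
    exact (Spec.map_injective ((cancel_mono _).mp this)).symm
  have h1' : z.app U.1 ≫ σ' = ξ := by
    have := hzσ σ'
    rw [← hσ', ← hz, hξ] at this
    exact (Spec.map_injective ((cancel_mono _).mp this)).symm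
  have h2 : incl z y a b ha hb U.1 ≫ σ = incl z y a b ha hb U.1 ≫ σ' := by
    have e1 := hpσ σ
    have e2 := hpσ σ'
    rw [← hσ] at e1
    rw [← hσ'] at e2
    rw [e1, e2] at h
    exact Spec.map_injective ((cancel_mono _).mp h)
  have key := eqvGen_equalizer (z.app U.1).hom (y.app U.1).hom (str z y a b ha hb U.1).hom
    (a.appLE (z ⁻¹ᵁ U.1) (y ⁻¹ᵁ U.1) (le_a z y a ha U.1)).hom
    (b.appLE (z ⁻¹ᵁ U.1) (y ⁻¹ᵁ U.1) (le_a z y b hb U.1)).hom
    (incl z y a b ha hb U.1).hom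
    (comp_app z y U.1 a ha) (comp_app z y U.1 b hb) rfl
    (incl_injective z y a b ha hb U.1) (incl_range z y a b ha hb U.1)
    (finite_app z U) (etale_app z U) (finite_app y U) (etale_app y U)
    ξ.hom σ.hom σ'.hom (congrArg CommRingCat.Hom.hom h1) (congrArg CommRingCat.Hom.hom h1')
    (congrArg CommRingCat.Hom.hom h2)
  have := Groth.Agent.Lib.Helper20.CoeqAlg.eqvGen_map
    (r' := fun s₁ s₂ : Spec (CommRingCat.of Ω) ⟶ Z =>
      ∃ t : Spec (CommRingCat.of Ω) ⟶ Y, s₁ = t ≫ a ∧ s₂ = t ≫ b)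
    (fun τ : Γ(Z, z ⁻¹ᵁ U.1) →+* Ω => Spec.map (CommRingCat.ofHom τ) ≫ hZU.fromSpec) ?_ key
  · rw [hσ, hσ']
    exact this
  · rintro _ _ ⟨τ, -, rfl, rfl⟩
    refine ⟨Spec.map (CommRingCat.ofHom τ) ≫ hYU.fromSpec, ?_, ?_⟩
    · rw [Category.assoc, ← IsAffineOpen.SpecMap_appLE_fromSpec a hZU hYU (le_a z y a ha U.1),
        ← Spec.map_comp_assoc]
      rfl
    · rw [Category.assoc, ← IsAffineOpen.SpecMap_appLE_fromSpec b hZU hYU (le_a z y b hb U.1),
        ← Spec.map_comp_assoc]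
      rfl

end Geom

end

end Groth.Agent.Lib.Helper20.CoeqSch
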