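/-
Helper library (helper4): a criterion for fullness of base change of finite étale covers.
-/
import Mathlib
import Groth.Prelude.Def_FEt

set_option autoImplicit false
set_option linter.style.haveILetI false
universe u

open AlgebraicGeometry CategoryTheory CategoryTheory.Limits

namespace Groth.Agent.Lib.Helper4.FEtFull

/-- `FEt.restrict f` is full as soon as morphisms from the base change of a cover `Y` to a cover
`Y'` (over the base) extend to `Y`. -/
theorem full_restrict_of_exists_extension {X S : Scheme.{u}} (f : X ⟶ S)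
    (H : ∀ (Y Y' : FEt.Cat S) (a : pullback (Y.hom : Y.left ⟶ S) f ⟶ Y'.left),
      a ≫ (Y'.hom : Y'.left ⟶ S) = pullback.fst (Y.hom : Y.left ⟶ S) f ≫ Y.hom →
      ∃ φ : Y.left ⟶ Y'.left, φ ≫ (Y'.hom : Y'.left ⟶ S) = Y.hom ∧
        pullback.fst (Y.hom : Y.left ⟶ S) f ≫ φ = a) :
    (FEt.restrict f).Full := by
  constructor
  intro Y Y' ψ
  let l : pullback (Y.hom : Y.left ⟶ S) f ⟶ pullback (Y'.hom : Y'.left ⟶ S) f := ψ.left
  have hw : l ≫ pullback.snd (Y'.hom : Y'.left ⟶ S) f = pullback.snd (Y.hom : Y.left ⟶ S) f :=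
    MorphismProperty.Over.w ψ
  have ha : (l ≫ pullback.fst (Y'.hom : Y'.left ⟶ S) f) ≫ (Y'.hom : Y'.left ⟶ S) =
      pullback.fst (Y.hom : Y.left ⟶ S) f ≫ Y.hom := by
    rw [Category.assoc, pullback.condition, reassoc_of% hw, ← pullback.condition]
  obtain ⟨φ₀, hφ₀, hφ₁⟩ := H Y Y' _ ha
  refine ⟨MorphismProperty.Over.homMk φ₀ hφ₀ trivial, ?_⟩
  apply MorphismProperty.Over.Hom.ext
  have e1 : ((FEt.restrict f).map (MorphismProperty.Over.homMk φ₀ hφ₀ trivial)).left ≫
      pullback.fst (Y'.hom : Y'.left ⟶ S) f = pullback.fst (Y.hom : Y.left ⟶ S) f ≫ φ₀ := by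
    dsimp [FEt.restrict, MorphismProperty.Over.pullback]
    exact pullback.lift_fst _ _ _
  have e2 : ((FEt.restrict f).map (MorphismProperty.Over.homMk φ₀ hφ₀ trivial)).left ≫
      pullback.snd (Y'.hom : Y'.left ⟶ S) f = pullback.snd (Y.hom : Y.left ⟶ S) f := by
    dsimp [FEt.restrict, MorphismProperty.Over.pullback]
    exact pullback.lift_snd _ _ _
  refine pullback.hom_ext (f := (Y'.hom : Y'.left ⟶ S)) (g := f) ?_ ?_
  · exact e1.trans hφ₁
  · exact e2.trans hw.symm

end Groth.Agent.Lib.Helper4.FEtFull
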