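import Mathlib
import Groth.Prelude.Def_FEt
import Groth.Agent.Lib.Helper4FEtFull
import Groth.Agent.Lib.Helper20FEtFaith

/-!
# Full faithfulness of `FEt.restrict f` from connectedness of fibres (helper22)

Let `f : X ⟶ S` be flat, surjective, quasi-compact and universally open, such that every base change
`T ⟶ U` of `f` along a locally quasi-finite, locally finite type `U ⟶ S` has preconnected fibres.
Then `FEt.restrict f` is full and faithful (`full_faithful_of_connected_fibres`).

The proof is the graph argument: for `a : Y ×_S X ⟶ Y'` the image `Γ` of the graph in `Y ×_S Y'` is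
open, the projection `Γ ⟶ Y` becomes an isomorphism after the fpqc base change `Y ×_S X ⟶ Y`
(the graph section has clopen image meeting every connected fibre) and hence is an isomorphism.

`isPreconnected_fibre_of_geometric` derives the fibre hypothesis from connectedness of all geometric
fibres of `f`.
-/

set_option autoImplicit false
set_option linter.style.haveILetI false
universe u

open AlgebraicGeometry CategoryTheory CategoryTheory.Limits

namespace Groth.Agent.Lib.Helper22.FEtGraph

/-- the graph argument. -/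
theorem exists_extension {X S : Scheme.{u}} (f : X ⟶ S)
    [Surjective f] [Flat f] [QuasiCompact f] [UniversallyOpen f]
    (hconn : ∀ {U T : Scheme.{u}} (u : U ⟶ S) [LocallyQuasiFinite u] [LocallyOfFiniteType u]
      (π : T ⟶ U) (t : T ⟶ X), IsPullback π t u f → ∀ z : U, _root_.IsPreconnected (π ⁻¹' {z}))
    {Y Y' : Scheme.{u}} (y : Y ⟶ S) (y' : Y' ⟶ S)
    [IsFinite y] [Etale y] [IsFinite y'] [Etale y']
    (a : pullback y f ⟶ Y') (ha : a ≫ y' = pullback.fst y f ≫ y) :
    ∃ φ : Y ⟶ Y', φ ≫ y' = y ∧ pullback.fst y f ≫ φ = a := by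
  let p₁ : pullback y f ⟶ Y := pullback.fst y f
  let p₂ : pullback y f ⟶ X := pullback.snd y f
  let q₁ : pullback y y' ⟶ Y := pullback.fst y y'
  let q₂ : pullback y y' ⟶ Y' := pullback.snd y y'
  let γ : pullback y f ⟶ pullback y y' := pullback.lift p₁ a ha.symm
  have hγ1 : γ ≫ q₁ = p₁ := pullback.lift_fst _ _ _
  have hγ2 : γ ≫ q₂ = a := pullback.lift_snd _ _ _
  -- the range of the graph is open
  have hopen : IsOpen (Set.range γ) := by
    let g : pullback (q₁ ≫ y) f ⟶ pullback y y' := pullback.fst (q₁ ≫ y) f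
    let γ₀ : pullback y f ⟶ pullback (q₁ ≫ y) f := pullback.lift γ p₂ (by
      rw [reassoc_of% hγ1]
      exact pullback.condition)
    have hγ₀ : γ₀ ≫ g = γ := pullback.lift_fst _ _ _
    let pr : pullback (q₁ ≫ y) f ⟶ pullback y f :=
      pullback.lift (g ≫ q₁) (pullback.snd (q₁ ≫ y) f) (by
        rw [Category.assoc]
        exact pullback.condition)
    have hpr1 : pr ≫ p₁ = g ≫ q₁ := pullback.lift_fst _ _ _
    have hpr2 : pr ≫ p₂ = pullback.snd (q₁ ≫ y) f := pullback.lift_snd _ _ _
    have hsec : γ₀ ≫ pr = 𝟙 _ := by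
      apply pullback.hom_ext
      · rw [Category.assoc, Category.id_comp]
        change γ₀ ≫ pr ≫ p₁ = p₁
        rw [hpr1, reassoc_of% hγ₀, hγ1]
      · rw [Category.assoc, Category.id_comp]
        change γ₀ ≫ pr ≫ p₂ = p₂
        rw [hpr2]
        exact pullback.lift_snd _ _ _
    have Hpr : IsPullback pr g p₁ q₁ := by
      refine IsPullback.of_right ?_ hpr1 (IsPullback.of_hasPullback y f).flip
      rw [hpr2]
      exact (IsPullback.of_hasPullback (q₁ ≫ y) f).flip
    haveI : Etale pr := MorphismProperty.of_isPullback (P := @Etale) Hpr.flip inferInstance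
    haveI : Etale (γ₀ ≫ pr) := by rw [hsec]; infer_instance
    haveI : Etale γ₀ := Etale.of_comp γ₀ pr
    have h1 : IsOpen (Set.range γ₀) := γ₀.isOpenMap.isOpen_range
    have h2 : Set.range γ = g '' Set.range γ₀ := by
      rw [← Set.range_comp, ← hγ₀]
      rfl
    rw [h2]
    exact g.isOpenMap _ h1
  let U : (pullback y y').Opens := ⟨Set.range γ, hopen⟩
  let γ' : pullback y f ⟶ U := IsOpenImmersion.lift U.ι γ (by simp [U])
  have hγ' : γ' ≫ U.ι = γ := IsOpenImmersion.lift_fac _ _ _
  let r : (U : Scheme) ⟶ Y := U.ι ≫ q₁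
  have hγr : γ' ≫ r = p₁ := by rw [← hγ1, ← hγ', Category.assoc]
  let π₁ : pullback r p₁ ⟶ U := pullback.fst r p₁
  let π₂ : pullback r p₁ ⟶ pullback y f := pullback.snd r p₁
  let σ : pullback y f ⟶ pullback r p₁ := pullback.lift γ' (𝟙 _) (by rw [hγr, Category.id_comp])
  have hσ1 : σ ≫ π₁ = γ' := pullback.lift_fst _ _ _
  have hσ2 : σ ≫ π₂ = 𝟙 _ := pullback.lift_snd _ _ _
  obtain ⟨C, hC, hC1, hC2⟩ := Groth.Agent.Lib.Helper20.FEtFaith.exists_isClopen_agree π₂ π₂
    (𝟙 _) (π₂ ≫ σ) (Category.id_comp _) (by rw [Category.assoc, hσ2, Category.comp_id])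
  have hσC : Set.range σ ⊆ C := hC1 σ (by rw [Category.comp_id, reassoc_of% hσ2])
  have HT : IsPullback π₁ (π₂ ≫ p₂) (r ≫ y) f :=
    (IsPullback.of_hasPullback r p₁).paste_vert (IsPullback.of_hasPullback y f)
  have hCuniv : C = Set.univ := by
    rw [Set.eq_univ_iff_forall]
    intro t
    have hz : (U.ι (π₁ t)) ∈ Set.range γ := (π₁ t).2
    obtain ⟨w, hw⟩ := hz
    have hw' : γ' w = π₁ t := by
      apply U.ι.injective
      rw [← Scheme.Hom.comp_apply, hγ', hw]
    have hpre := hconn (r ≫ y) π₁ (π₂ ≫ p₂) HT (π₁ t)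
    have hsub := hpre.subset_isClopen hC ⟨σ w, by
      simp only [Set.mem_preimage, Set.mem_singleton_iff]
      rw [← Scheme.Hom.comp_apply, hσ1, hw'], hσC ⟨w, rfl⟩⟩
    exact hsub rfl
  have hid : 𝟙 _ = π₂ ≫ σ := hC2 hCuniv
  haveI : IsIso π₂ := ⟨σ, hid.symm, hσ2⟩
  haveI : IsIso r := MorphismProperty.of_pullback_snd_of_descendsAlong
    (P := MorphismProperty.isomorphisms Scheme) (Q := @Surjective ⊓ @Flat ⊓ @QuasiCompact)
    (f := r) (g := p₁) ⟨⟨inferInstance, inferInstance⟩, inferInstance⟩ ‹IsIso π₂›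
  refine ⟨inv r ≫ U.ι ≫ q₂, ?_, ?_⟩
  · rw [Category.assoc, Category.assoc, ← pullback.condition, IsIso.inv_comp_eq]
    simp only [r, Category.assoc, q₁]
  · change p₁ ≫ _ = a
    rw [← hγr, Category.assoc, IsIso.hom_inv_id_assoc, reassoc_of% hγ', hγ2]

/-- full faithfulness from connectedness of the fibres of all quasi-finite base changes. -/
theorem full_faithful_of_connected_fibres {X S : Scheme.{u}} (f : X ⟶ S)
    [Surjective f] [Flat f] [QuasiCompact f] [UniversallyOpen f]
    (hconn : ∀ {U T : Scheme.{u}} (u : U ⟶ S) [LocallyQuasiFinite u] [LocallyOfFiniteType u]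
      (π : T ⟶ U) (t : T ⟶ X), IsPullback π t u f → ∀ z : U, _root_.IsPreconnected (π ⁻¹' {z})) :
    (FEt.restrict f).Full ∧ (FEt.restrict f).Faithful := by
  refine ⟨?_, ?_⟩
  · apply Groth.Agent.Lib.Helper4.FEtFull.full_restrict_of_exists_extension
    intro Y Y' a ha
    have hY : IsFinite Y.hom ∧ Etale Y.hom := Y.prop
    have hY' : IsFinite Y'.hom ∧ Etale Y'.hom := Y'.prop
    haveI := hY.1
    haveI := hY.2
    haveI := hY'.1
    haveI := hY'.2
    exact exists_extension f hconn Y.hom Y'.hom a ha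
  · apply Groth.Agent.Lib.Helper20.FEtFaith.faithful_of_forall_clopen
    intro A C hC hsub
    rw [Set.range_eq_univ.mpr f.surjective, Set.preimage_univ] at hsub
    exact Set.univ_subset_iff.mp hsub

/-- a geometric point over a given point. -/
theorem exists_geometric_point {U : Scheme.{u}} (z : U) :
    ∃ (Ω : Type u) (_ : Field Ω) (_ : IsAlgClosed Ω) (ζ : Spec (CommRingCat.of Ω) ⟶ U),
      Set.range ζ = {z} := by
  let Ω := AlgebraicClosure (U.residueField z)
  refine ⟨Ω, inferInstance, inferInstance,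
    Spec.map (CommRingCat.ofHom (algebraMap (U.residueField z) Ω)) ≫ U.fromSpecResidueField z, ?_⟩
  ext x
  simp only [Set.mem_range, Set.mem_singleton_iff]
  constructor
  · rintro ⟨w, rfl⟩
    rw [Scheme.Hom.comp_apply]
    exact U.fromSpecResidueField_apply z _
  · rintro rfl
    refine ⟨default, ?_⟩
    rw [Scheme.Hom.comp_apply]
    exact U.fromSpecResidueField_apply _ _

/-- if all geometric fibres of `f` are connected, every base change of `f` has preconnected
fibres. -/
theorem isPreconnected_fibre_of_geometric {X S : Scheme.{u}} (f : X ⟶ S)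
    (hfib : ∀ (Ω : Type u) [Field Ω] [IsAlgClosed Ω] (s : Spec (CommRingCat.of Ω) ⟶ S),
      ConnectedSpace ↥(pullback f s))
    {U T : Scheme.{u}} (u : U ⟶ S) (π : T ⟶ U) (t : T ⟶ X) (H : IsPullback π t u f) (z : U) :
    _root_.IsPreconnected (π ⁻¹' {z}) := by
  obtain ⟨Ω, _, _, ζ, hζr⟩ := exists_geometric_point z
  have H1 : IsPullback (pullback.fst π ζ ≫ t) (pullback.snd π ζ) f
      (ζ ≫ u) := (IsPullback.of_hasPullback π ζ).paste_horiz H.flip
  haveI := hfib Ω (ζ ≫ u)
  have hr : π ⁻¹' {z} = Set.range (H1.isoPullback.inv ≫ pullback.fst π ζ) := by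
    rw [← hζr, ← Scheme.Pullback.range_fst, Scheme.Hom.comp_base]
    simp [Set.range_comp]
  rw [hr]
  exact isPreconnected_range (H1.isoPullback.inv ≫ pullback.fst π ζ).continuous

/-- if all geometric fibres of `f` are nonempty, `f` is surjective. -/
theorem surjective_of_geometric {X S : Scheme.{u}} (f : X ⟶ S)
    (hfib : ∀ (Ω : Type u) [Field Ω] [IsAlgClosed Ω] (s : Spec (CommRingCat.of Ω) ⟶ S),
      Nonempty ↥(pullback f s)) : Surjective f := by
  refine ⟨fun s => ?_⟩
  obtain ⟨Ω, _, _, ζ, hζr⟩ := exists_geometric_point s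
  obtain ⟨x'⟩ := hfib Ω ζ
  refine ⟨(pullback.fst f ζ) x', ?_⟩
  rw [← Scheme.Hom.comp_apply, pullback.condition, Scheme.Hom.comp_apply]
  have : ζ ((pullback.snd f ζ) x') ∈ Set.range ζ := ⟨_, rfl⟩
  rw [hζr] at this
  exact this

end Groth.Agent.Lib.Helper22.FEtGraph
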