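import Mathlib
import Groth.Agent.Lib.Helper20GalFiber
import Groth.Agent.Lib.Helper20GalPoint
import Groth.Agent.S14460
import Groth.Agent.Lib.Helper20CoeqSch

set_option autoImplicit false
universe u
open CategoryTheory CategoryTheory.Limits AlgebraicGeometry TopologicalSpace

namespace Groth.Agent.Lib.Helper20.CoeqCat

open Groth.Agent.Lib.Helper20 Groth.Agent.Lib.Helper20.GalCat Groth.Agent.Lib.Helper20.GalFiber

variable {X : Scheme.{u}}

/-- a morphism of finite étale covers which is bijective on geometric points is an isomorphism -/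
theorem isIso_of_geomPoints {Y Z : FEt.Cat X} (φ : Y ⟶ Z)
    (h : ∀ (Ω : Type u) [Field Ω] [IsAlgClosed Ω] (t : Spec (CommRingCat.of Ω) ⟶ Z.left),
      ∃! t' : Spec (CommRingCat.of Ω) ⟶ Y.left, t' ≫ φ.left = t) : IsIso φ := by
  haveI : IsIso φ.left := Groth.Agent.S14460.isIso_of_bijective_geomPoints φ.left h
  exact isIso_of_isIso_left φ

section GT

variable {Y Z Q : FEt.Cat X} (f g : Y ⟶ Z) (π : Z ⟶ Q) (w : f ≫ π = g ≫ π)
  (F1 : ∀ (Ω : Type u) [Field Ω] [IsAlgClosed Ω] (ζ : Spec (CommRingCat.of Ω) ⟶ Q.left),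
    ∃ s : Spec (CommRingCat.of Ω) ⟶ Z.left, s ≫ π.left = ζ)
  (F2 : ∀ (Ω : Type u) [Field Ω] [IsAlgClosed Ω] (s s' : Spec (CommRingCat.of Ω) ⟶ Z.left),
    s ≫ π.left = s' ≫ π.left →
      Relation.EqvGen (fun s₁ s₂ : Spec (CommRingCat.of Ω) ⟶ Z.left =>
        ∃ t : Spec (CommRingCat.of Ω) ⟶ Y.left, s₁ = t ≫ f.left ∧ s₂ = t ≫ g.left) s s')

include F1 in
/-- a fibrewise surjective morphism is an epimorphism -/
theorem epi_of_F1 : Epi π := by
  constructor
  intro W k k' hkk'
  let ι := equalizer.ι k k'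
  haveI : Mono ι.left := mono_left ι
  haveI : IsIso ι := by
    refine isIso_of_geomPoints ι fun Ω _ _ t => ?_
    obtain ⟨s, hs⟩ := F1 Ω t
    -- the fibre functor preserves the equalizer
    let ξ := t ≫ Q.hom
    have hlim := isLimitForkMapOfIsLimit (FEt.fiber ξ) (equalizer.condition k k')
      (equalizerIsEqualizer k k')
    have hlim' := (Types.type_equalizer_iff_unique _ _).mp ⟨hlim⟩
    have hy : (FEt.fiber ξ).map k (⟨t, rfl⟩ : FEt.fiberObj ξ Q) =
        (FEt.fiber ξ).map k' (⟨t, rfl⟩ : FEt.fiberObj ξ Q) := by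
      apply Subtype.ext
      change t ≫ k.left = t ≫ k'.left
      rw [← hs, Category.assoc, Category.assoc]
      exact congrArg (fun m => s ≫ m.left) hkk'
    obtain ⟨x, hx, hx'⟩ := hlim' (⟨t, rfl⟩ : FEt.fiberObj ξ Q) hy
    refine ⟨x.1, congrArg Subtype.val hx, fun t' ht' => ?_⟩
    have h1 : t' ≫ (equalizer k k').hom = ξ := by
      rw [← MorphismProperty.Over.w ι, ← Category.assoc, ht']
    exact congrArg Subtype.val (hx' (⟨t', h1⟩ : FEt.fiberObj ξ (equalizer k k'))
      (Subtype.ext ht'))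
  exact eq_of_epi_equalizer (f := k) (g := k')

omit F1 in
include F2 in
/-- morphisms coequalizing `f, g` are constant on the classes -/
theorem comp_eq_of_F2 {W : FEt.Cat X} (h : Z ⟶ W) (hh : f ≫ h = g ≫ h) (Ω : Type u) [Field Ω]
    [IsAlgClosed Ω] (s s' : Spec (CommRingCat.of Ω) ⟶ Z.left) (hs : s ≫ π.left = s' ≫ π.left) :
    s ≫ h.left = s' ≫ h.left := by
  have hE := F2 Ω s s' hs
  clear hs
  induction hE with
  | rel s₁ s₂ hr =>
    obtain ⟨t, rfl, rfl⟩ := hr
    rw [Category.assoc, Category.assoc]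
    exact congrArg (fun m => t ≫ m.left) hh
  | refl => rfl
  | symm _ _ _ ih => exact ih.symm
  | trans _ _ _ _ _ ih1 ih2 => exact ih1.trans ih2

include F1 F2 in
theorem exists_desc {W : FEt.Cat X} (h : Z ⟶ W) (hh : f ≫ h = g ≫ h) :
    ∃ k : Q ⟶ W, π ≫ k = h := by
  let P : FEt.Cat X := MorphismProperty.Over.mk ⊤ (pullback.fst Q.hom W.hom ≫ Q.hom)
    ⟨inferInstance, inferInstance⟩
  let pr₁ : P ⟶ Q := MorphismProperty.Over.homMk (pullback.fst Q.hom W.hom) rfl trivial
  let pr₂ : P ⟶ W := MorphismProperty.Over.homMk (pullback.snd Q.hom W.hom)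
    pullback.condition.symm trivial
  let γ : Z ⟶ P := MorphismProperty.Over.homMk
    (pullback.lift π.left h.left (by rw [MorphismProperty.Over.w, MorphismProperty.Over.w]))
    (by
      change pullback.lift π.left h.left _ ≫ pullback.fst Q.hom W.hom ≫ Q.hom = Z.hom
      rw [pullback.lift_fst_assoc, MorphismProperty.Over.w]) trivial
  have hγ1 : γ.left ≫ pullback.fst Q.hom W.hom = π.left := pullback.lift_fst _ _ _
  have hγ2 : γ.left ≫ pullback.snd Q.hom W.hom = h.left := pullback.lift_snd _ _ _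
  let V : P.left.Opens := ⟨Set.range γ.left, γ.left.isOpenMap.isOpen_range⟩
  have hV : IsClosed (V : Set P.left) := γ.left.isClosedMap.isClosed_range
  let j : clopenObj P V hV ⟶ P := clopenι P V hV
  have hjr : Set.range j.left = Set.range γ.left := by
    have := congrArg (fun U : P.left.Opens => (U : Set P.left)) (opensRange_clopenι P V hV)
    exact this
  let e₀ : Z.left ⟶ (clopenObj P V hV).left := IsOpenImmersion.lift j.left γ.left (by rw [hjr])
  have he₀ : e₀ ≫ j.left = γ.left := IsOpenImmersion.lift_fac _ _ _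
  let e : Z ⟶ clopenObj P V hV := MorphismProperty.Over.homMk e₀ (by
    rw [← MorphismProperty.Over.w j, ← Category.assoc, he₀, MorphismProperty.Over.w]) trivial
  have he : e ≫ j = γ := by
    apply MorphismProperty.Over.Hom.ext
    exact he₀
  have hesurj : Function.Surjective e.left := by
    intro x
    have : j.left x ∈ Set.range γ.left := by rw [← hjr]; exact ⟨x, rfl⟩
    obtain ⟨z₀, hz₀⟩ := this
    refine ⟨z₀, ?_⟩
    apply j.left.isOpenEmbedding.injective
    rw [← Scheme.Hom.comp_apply]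
    change (e₀ ≫ j.left) z₀ = _
    rw [he₀, hz₀]
  have hpr : e ≫ j ≫ pr₁ = π := by
    rw [← Category.assoc, he]
    apply MorphismProperty.Over.Hom.ext
    exact hγ1
  haveI : IsIso (j ≫ pr₁) := by
    refine isIso_of_geomPoints _ fun Ω _ _ t => ?_
    obtain ⟨s, hs⟩ := F1 Ω t
    refine ⟨s ≫ e.left, ?_, fun t' ht' => ?_⟩
    · change (s ≫ e.left) ≫ (j ≫ pr₁).left = t
      rw [Category.assoc]
      change s ≫ (e ≫ j ≫ pr₁).left = t
      rw [hpr, hs]
    · obtain ⟨z₁, hz₁⟩ := hesurj (t' default)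
      obtain ⟨s', hs', -⟩ := Groth.Agent.Lib.Helper20.GalPoint.exists_lift_of_finite e.left t' z₁
        default hz₁
      have h1 : s' ≫ π.left = s ≫ π.left := by
        rw [hs, ← ht', ← hs', Category.assoc]
        change _ = s' ≫ (e ≫ j ≫ pr₁).left
        rw [hpr]
      have h2 : s' ≫ h.left = s ≫ h.left := comp_eq_of_F2 f g π F2 h hh Ω s' s h1
      rw [← hs']
      apply (cancel_mono j.left).mp
      rw [Category.assoc, Category.assoc]
      change s' ≫ (e ≫ j).left = s ≫ (e ≫ j).left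
      rw [he]
      apply pullback.hom_ext
      · exact (Category.assoc _ _ _).trans ((congrArg (s' ≫ ·) hγ1).trans
          (h1.trans ((congrArg (s ≫ ·) hγ1).symm.trans (Category.assoc _ _ _).symm)))
      · exact (Category.assoc _ _ _).trans ((congrArg (s' ≫ ·) hγ2).trans
          (h2.trans ((congrArg (s ≫ ·) hγ2).symm.trans (Category.assoc _ _ _).symm)))
  refine ⟨inv (j ≫ pr₁) ≫ j ≫ pr₂, ?_⟩
  have h3 : π ≫ inv (j ≫ pr₁) = e := by
    rw [IsIso.comp_inv_eq, hpr]
  rw [← Category.assoc, h3, ← Category.assoc, he]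
  apply MorphismProperty.Over.Hom.ext
  exact hγ2

include w F1 F2 in
theorem nonempty_isColimit_cofork : Nonempty (IsColimit (Cofork.ofπ π w)) := by
  haveI := epi_of_F1 π F1
  refine ⟨Cofork.IsColimit.mk _ (fun s => (exists_desc f g π F1 F2 s.π s.condition).choose)
    (fun s => (exists_desc f g π F1 F2 s.π s.condition).choose_spec) (fun s m hm => ?_)⟩
  rw [← cancel_epi π]
  exact hm.trans (exists_desc f g π F1 F2 s.π s.condition).choose_spec.symm

end GT

section Coeq

open Groth.Agent.Lib.Helper20.CoeqGlue Groth.Agent.Lib.Helper20.CoeqSch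

variable {Y Z : FEt.Cat X} (f g : Y ⟶ Z)

/-- the coequalizer object -/
noncomputable def coeqObj : FEt.Cat X :=
  MorphismProperty.Over.mk ⊤ (q Z.hom Y.hom f.left g.left (MorphismProperty.Over.w f)
    (MorphismProperty.Over.w g)) ⟨inferInstance, inferInstance⟩

/-- the projection to the coequalizer -/
noncomputable def coeqπ : Z ⟶ coeqObj f g :=
  MorphismProperty.Over.homMk (p Z.hom Y.hom f.left g.left (MorphismProperty.Over.w f)
    (MorphismProperty.Over.w g)) (p_q _ _ _ _ _ _) trivial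

theorem coeq_condition : f ≫ coeqπ f g = g ≫ coeqπ f g := by
  apply MorphismProperty.Over.Hom.ext
  exact a_p _ _ _ _ _ _

theorem coeq_F1 (Ω : Type u) [Field Ω] [IsAlgClosed Ω]
    (ζ : Spec (CommRingCat.of Ω) ⟶ (coeqObj f g).left) :
    ∃ s : Spec (CommRingCat.of Ω) ⟶ Z.left, s ≫ (coeqπ f g).left = ζ :=
  exists_lift_p _ _ _ _ _ _ ζ

theorem coeq_F2 (Ω : Type u) [Field Ω] [IsAlgClosed Ω] (s s' : Spec (CommRingCat.of Ω) ⟶ Z.left)
    (h : s ≫ (coeqπ f g).left = s' ≫ (coeqπ f g).left) :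
    Relation.EqvGen (fun s₁ s₂ : Spec (CommRingCat.of Ω) ⟶ Z.left =>
      ∃ t : Spec (CommRingCat.of Ω) ⟶ Y.left, s₁ = t ≫ f.left ∧ s₂ = t ≫ g.left) s s' :=
  eqvGen_geom _ _ _ _ _ _ s s' h

theorem nonempty_isColimit_coeq :
    Nonempty (IsColimit (Cofork.ofπ (coeqπ f g) (coeq_condition f g))) :=
  nonempty_isColimit_cofork f g _ _ (coeq_F1 f g) (coeq_F2 f g)

instance hasCoequalizers : HasCoequalizers (FEt.Cat X) :=
  haveI : ∀ {Y Z : FEt.Cat X} (f g : Y ⟶ Z), HasColimit (parallelPair f g) := fun f g =>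
    HasColimit.mk ⟨_, (nonempty_isColimit_coeq f g).some⟩
  hasCoequalizers_of_hasColimit_parallelPair _

instance hasFiniteColimits : HasFiniteColimits (FEt.Cat X) :=
  hasFiniteColimits_of_hasCoequalizers_and_finite_coproducts

end Coeq

end Groth.Agent.Lib.Helper20.CoeqCat
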