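import Mathlib
import Groth.Agent.Lib.Helper20CoeqCat

set_option autoImplicit false
universe u
open CategoryTheory CategoryTheory.Limits AlgebraicGeometry TopologicalSpace

namespace Groth.Agent.Lib.Helper20.CoeqRestrict

open Groth.Agent.Lib.Helper20 Groth.Agent.Lib.Helper20.GalCat Groth.Agent.Lib.Helper20.GalFiber
  Groth.Agent.Lib.Helper20.CoeqCat

variable {X X' : Scheme.{u}} (φ : X ⟶ X')

/-- the base change of a morphism of covers -/
noncomputable def bcMap {A B : FEt.Cat X'} (g : A ⟶ B) : pullback A.hom φ ⟶ pullback B.hom φ :=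
  pullback.lift (pullback.fst A.hom φ ≫ g.left) (pullback.snd A.hom φ)
    (by rw [Category.assoc, MorphismProperty.Over.w, pullback.condition])

theorem restrict_map_left {A B : FEt.Cat X'} (g : A ⟶ B) :
    ((FEt.restrict φ).map g).left = bcMap φ g := rfl

@[reassoc]
theorem bcMap_fst {A B : FEt.Cat X'} (g : A ⟶ B) :
    bcMap φ g ≫ pullback.fst B.hom φ = pullback.fst A.hom φ ≫ g.left :=
  pullback.lift_fst _ _ _

@[reassoc]
theorem bcMap_snd {A B : FEt.Cat X'} (g : A ⟶ B) :
    bcMap φ g ≫ pullback.snd B.hom φ = pullback.snd A.hom φ :=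
  pullback.lift_snd _ _ _

section Coeq

variable {Y Z : FEt.Cat X'} (f g : Y ⟶ Z)

theorem restrict_F1 (Ω : Type u) [Field Ω] [IsAlgClosed Ω]
    (ζ : Spec (CommRingCat.of Ω) ⟶ pullback (coeqObj f g).hom φ) :
    ∃ s : Spec (CommRingCat.of Ω) ⟶ pullback Z.hom φ, s ≫ bcMap φ (coeqπ f g) = ζ := by
  obtain ⟨s₀, hs₀⟩ := coeq_F1 f g Ω (ζ ≫ pullback.fst (coeqObj f g).hom φ)
  have h1 : s₀ ≫ Z.hom = (ζ ≫ pullback.snd (coeqObj f g).hom φ) ≫ φ := by
    rw [← MorphismProperty.Over.w (coeqπ f g), ← Category.assoc, hs₀, Category.assoc,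
      Category.assoc, pullback.condition]
  refine ⟨pullback.lift s₀ (ζ ≫ pullback.snd (coeqObj f g).hom φ) h1, ?_⟩
  apply pullback.hom_ext
  · rw [Category.assoc, bcMap_fst, pullback.lift_fst_assoc, hs₀]
  · rw [Category.assoc, bcMap_snd, pullback.lift_snd]

/-- points related downstairs lie over the same point of the base -/
theorem hom_eq_of_eqvGen {Ω : Type u} [Field Ω] {u v : Spec (CommRingCat.of Ω) ⟶ Z.left}
    (h : Relation.EqvGen (fun s₁ s₂ : Spec (CommRingCat.of Ω) ⟶ Z.left =>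
      ∃ t : Spec (CommRingCat.of Ω) ⟶ Y.left, s₁ = t ≫ f.left ∧ s₂ = t ≫ g.left) u v) :
    u ≫ Z.hom = v ≫ Z.hom := by
  induction h with
  | rel s₁ s₂ hr =>
    obtain ⟨t, rfl, rfl⟩ := hr
    rw [Category.assoc, Category.assoc, MorphismProperty.Over.w, MorphismProperty.Over.w]
  | refl => rfl
  | symm _ _ _ ih => exact ih.symm
  | trans _ _ _ _ _ ih1 ih2 => exact ih1.trans ih2

theorem lift_eqvGen {Ω : Type u} [Field Ω] {u v : Spec (CommRingCat.of Ω) ⟶ Z.left}
    (h : Relation.EqvGen (fun s₁ s₂ : Spec (CommRingCat.of Ω) ⟶ Z.left =>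
      ∃ t : Spec (CommRingCat.of Ω) ⟶ Y.left, s₁ = t ≫ f.left ∧ s₂ = t ≫ g.left) u v) :
    ∀ (w₁ w₂ : Spec (CommRingCat.of Ω) ⟶ pullback Z.hom φ),
      w₁ ≫ pullback.fst Z.hom φ = u → w₂ ≫ pullback.fst Z.hom φ = v →
      w₁ ≫ pullback.snd Z.hom φ = w₂ ≫ pullback.snd Z.hom φ →
      Relation.EqvGen (fun s₁ s₂ : Spec (CommRingCat.of Ω) ⟶ pullback Z.hom φ =>
        ∃ t : Spec (CommRingCat.of Ω) ⟶ pullback Y.hom φ,
          s₁ = t ≫ bcMap φ f ∧ s₂ = t ≫ bcMap φ g) w₁ w₂ := by
  induction h with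
  | rel s₁ s₂ hr =>
    obtain ⟨t, rfl, rfl⟩ := hr
    intro w₁ w₂ h1 h2 h3
    have ht : t ≫ Y.hom = (w₁ ≫ pullback.snd Z.hom φ) ≫ φ := by
      rw [Category.assoc, ← pullback.condition, ← Category.assoc, h1, Category.assoc,
        MorphismProperty.Over.w]
    refine Relation.EqvGen.rel _ _ ⟨pullback.lift t (w₁ ≫ pullback.snd Z.hom φ) ht, ?_, ?_⟩
    · apply pullback.hom_ext
      · rw [Category.assoc, bcMap_fst, pullback.lift_fst_assoc, h1]
      · rw [Category.assoc, bcMap_snd, pullback.lift_snd]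
    · apply pullback.hom_ext
      · rw [Category.assoc, bcMap_fst, pullback.lift_fst_assoc, h2]
      · rw [Category.assoc, bcMap_snd, pullback.lift_snd, h3]
  | refl x =>
    intro w₁ w₂ h1 h2 h3
    have : w₁ = w₂ := by
      apply pullback.hom_ext
      · rw [h1, h2]
      · exact h3
    rw [this]
    exact Relation.EqvGen.refl _
  | symm x y _ ih =>
    intro w₁ w₂ h1 h2 h3
    exact Relation.EqvGen.symm _ _ (ih w₂ w₁ h2 h1 h3.symm)
  | trans x y z' hxy _ ih1 ih2 =>
    intro w₁ w₂ h1 h2 h3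
    have hy : y ≫ Z.hom = (w₁ ≫ pullback.snd Z.hom φ) ≫ φ := by
      rw [← hom_eq_of_eqvGen f g hxy, ← h1, Category.assoc, Category.assoc, pullback.condition]
    exact Relation.EqvGen.trans _ _ _
      (ih1 w₁ (pullback.lift y (w₁ ≫ pullback.snd Z.hom φ) hy) h1 (pullback.lift_fst _ _ _)
        (pullback.lift_snd _ _ _).symm)
      (ih2 (pullback.lift y (w₁ ≫ pullback.snd Z.hom φ) hy) w₂ (pullback.lift_fst _ _ _) h2
        ((pullback.lift_snd _ _ _).trans h3))

theorem restrict_F2 (Ω : Type u) [Field Ω] [IsAlgClosed Ω]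
    (s s' : Spec (CommRingCat.of Ω) ⟶ pullback Z.hom φ)
    (h : s ≫ bcMap φ (coeqπ f g) = s' ≫ bcMap φ (coeqπ f g)) :
    Relation.EqvGen (fun s₁ s₂ : Spec (CommRingCat.of Ω) ⟶ pullback Z.hom φ =>
        ∃ t : Spec (CommRingCat.of Ω) ⟶ pullback Y.hom φ,
          s₁ = t ≫ bcMap φ f ∧ s₂ = t ≫ bcMap φ g) s s' := by
  have h1 : (s ≫ pullback.fst Z.hom φ) ≫ (coeqπ f g).left =
      (s' ≫ pullback.fst Z.hom φ) ≫ (coeqπ f g).left := by
    rw [Category.assoc, Category.assoc, ← bcMap_fst, ← Category.assoc, h, Category.assoc]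
  have h2 : s ≫ pullback.snd Z.hom φ = s' ≫ pullback.snd Z.hom φ := by
    rw [← bcMap_snd φ (coeqπ f g), ← Category.assoc, h, Category.assoc]
  exact lift_eqvGen φ f g (coeq_F2 f g Ω _ _ h1) s s' rfl rfl h2

theorem nonempty_isColimit_restrict_coeq :
    Nonempty (IsColimit (Cofork.ofπ ((FEt.restrict φ).map (coeqπ f g))
      (by rw [← Functor.map_comp, ← Functor.map_comp, coeq_condition]) :
        Cofork ((FEt.restrict φ).map f) ((FEt.restrict φ).map g))) :=
  nonempty_isColimit_cofork _ _ _ _ (fun Ω _ _ ζ => restrict_F1 φ f g Ω ζ)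
    (fun Ω _ _ s s' h => restrict_F2 φ f g Ω s s' h)

instance preservesCoequalizers :
    PreservesColimitsOfShape WalkingParallelPair (FEt.restrict φ) := by
  constructor
  intro K
  haveI : PreservesColimit (parallelPair (K.map WalkingParallelPairHom.left)
      (K.map WalkingParallelPairHom.right)) (FEt.restrict φ) := by
    obtain ⟨hc⟩ := nonempty_isColimit_coeq (K.map WalkingParallelPairHom.left)
      (K.map WalkingParallelPairHom.right)
    apply preservesColimit_of_preserves_colimit_cocone hc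
    exact (isColimitMapCoconeCoforkEquiv _ _).symm (nonempty_isColimit_restrict_coeq φ _ _).some
  exact preservesColimit_of_iso_diagram _ (diagramIsoParallelPair K).symm

end Coeq

section Coprod

theorem isPullback_bcMap {A B : FEt.Cat X'} (i : A ⟶ B) :
    IsPullback (bcMap φ i) (pullback.fst A.hom φ) (pullback.fst B.hom φ) i.left := by
  refine IsPullback.of_right (h₁₂ := pullback.snd B.hom φ) (h₂₂ := B.hom) (v₁₃ := φ) ?_
    (bcMap_fst φ i) (IsPullback.of_hasPullback B.hom φ).flip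
  rw [bcMap_snd, MorphismProperty.Over.w]
  exact (IsPullback.of_hasPullback A.hom φ).flip

instance isOpenImmersion_bcMap {A B : FEt.Cat X'} (i : A ⟶ B) [IsOpenImmersion i.left] :
    IsOpenImmersion (bcMap φ i) :=
  MorphismProperty.of_isPullback (P := @IsOpenImmersion) (isPullback_bcMap φ i).flip inferInstance

theorem mem_opensRange_bcMap {A B : FEt.Cat X'} (i : A ⟶ B) [IsOpenImmersion i.left]
    (x : ↥(pullback B.hom φ)) :
    x ∈ (bcMap φ i).opensRange ↔ pullback.fst B.hom φ x ∈ i.left.opensRange := by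
  have h := Scheme.image_preimage_eq_of_isPullback (isPullback_bcMap φ i).flip Set.univ
  rw [Set.preimage_univ, Set.image_univ, Set.image_univ] at h
  change x ∈ Set.range (bcMap φ i) ↔ _
  rw [h]
  rfl

theorem isCompl_bcMap {A₁ A₂ B : FEt.Cat X'} (i₁ : A₁ ⟶ B) (i₂ : A₂ ⟶ B) [IsOpenImmersion i₁.left]
    [IsOpenImmersion i₂.left] (h : IsCompl i₁.left.opensRange i₂.left.opensRange) :
    IsCompl (bcMap φ i₁).opensRange (bcMap φ i₂).opensRange := by
  rw [isCompl_iff, disjoint_iff, codisjoint_iff]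
  constructor
  · ext x
    simp only [Opens.coe_inf, Set.mem_inter_iff, SetLike.mem_coe, Opens.coe_bot, Set.mem_empty_iff_false,
      iff_false, not_and]
    intro h1 h2
    rw [mem_opensRange_bcMap] at h1 h2
    have : pullback.fst B.hom φ x ∈ i₁.left.opensRange ⊓ i₂.left.opensRange := ⟨h1, h2⟩
    rw [h.inf_eq_bot] at this
    exact this
  · ext x
    simp only [Opens.coe_sup, Set.mem_union, SetLike.mem_coe, Opens.coe_top, Set.mem_univ, iff_true]
    have : pullback.fst B.hom φ x ∈ i₁.left.opensRange ⊔ i₂.left.opensRange := by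
      rw [h.sup_eq_top]; trivial
    rcases this with h1 | h1
    · exact Or.inl ((mem_opensRange_bcMap φ i₁ x).mpr h1)
    · exact Or.inr ((mem_opensRange_bcMap φ i₂ x).mpr h1)

instance preservesBinaryCoproducts :
    PreservesColimitsOfShape (Discrete WalkingPair) (FEt.restrict φ) := by
  constructor
  intro K
  haveI : PreservesColimit (pair (K.obj ⟨WalkingPair.left⟩) (K.obj ⟨WalkingPair.right⟩))
      (FEt.restrict φ) := by
    obtain ⟨hc⟩ := nonempty_isColimit_coprod (K.obj ⟨.left⟩) (K.obj ⟨.right⟩)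
    apply preservesColimit_of_preserves_colimit_cocone hc
    refine (isColimitMapCoconeBinaryCofanEquiv _ _ _).symm ?_
    haveI : IsOpenImmersion (coprodInl (K.obj ⟨.left⟩) (K.obj ⟨.right⟩)).left :=
      inferInstanceAs (IsOpenImmersion (coprod.inl : (K.obj ⟨.left⟩).left ⟶ _ ⨿ (K.obj ⟨.right⟩).left))
    haveI : IsOpenImmersion (coprodInr (K.obj ⟨.left⟩) (K.obj ⟨.right⟩)).left :=
      inferInstanceAs (IsOpenImmersion (coprod.inr : (K.obj ⟨.right⟩).left ⟶ (K.obj ⟨.left⟩).left ⨿ _))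
    haveI : IsOpenImmersion ((FEt.restrict φ).map (coprodInl (K.obj ⟨.left⟩) (K.obj ⟨.right⟩))).left :=
      isOpenImmersion_bcMap φ _
    haveI : IsOpenImmersion ((FEt.restrict φ).map (coprodInr (K.obj ⟨.left⟩) (K.obj ⟨.right⟩))).left :=
      isOpenImmersion_bcMap φ _
    exact (nonempty_isColimit_binaryCofan _ _
      (isCompl_bcMap φ _ _ (isCompl_opensRange_inl_inr _ _))).some
  exact preservesColimit_of_iso_diagram _ (diagramIsoPair K).symm

instance preservesInitial : PreservesColimitsOfShape (Discrete PEmpty.{1}) (FEt.restrict φ) := by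
  haveI : PreservesColimit (Functor.empty.{0} (FEt.Cat X')) (FEt.restrict φ) := by
    apply preservesColimit_of_preserves_colimit_cocone (isInitialOfIsEmpty (emptyObj X'))
    refine (isColimitMapCoconeEmptyCoconeEquiv _ _).symm ?_
    haveI h0 : IsEmpty (emptyObj X').left := inferInstance
    haveI : IsEmpty ((FEt.restrict φ).obj (emptyObj X')).left :=
      @Function.isEmpty _ _ h0 (pullback.fst (emptyObj X').hom φ)
    exact isInitialOfIsEmpty _
  exact preservesColimitsOfShape_pempty_of_preservesInitial _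

instance preservesFiniteCoproducts : PreservesFiniteCoproducts (FEt.restrict φ) :=
  ⟨fun n => preservesShape_fin_of_preserves_binary_and_initial _ n⟩

instance preservesFiniteColimits : PreservesFiniteColimits (FEt.restrict φ) :=
  preservesFiniteColimits_of_preservesCoequalizers_and_finiteCoproducts _

end Coprod

end Groth.Agent.Lib.Helper20.CoeqRestrict
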