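import Mathlib
import Groth.Agent.Lib.Helper4DevM
import Groth.Agent.Lib.Helper2FibreCrit2

/-!
# Serre classes of coherent modules and supports (helper20)

On top of helper4's dévissage library.

* `IsSerre P`: in every short exact sequence of coherent modules, the middle term has `P` iff both outer terms do.
* `IsSerre.of_mono`, `IsSerre.of_epi`, `IsSerre.of_iso`, `IsSerre.zero`.
* `isSerre_support T`: `support ⊆ T` is a Serre class.
* `mem_of_support_subset`: on a Noetherian scheme, a Serre class containing the coherent `F` contains every coherent `E`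
  with `Supp E ⊆ Supp F`.
* `exists_isCoh_support_eq`: every closed subset is the support of a coherent module.
-/

set_option autoImplicit false
set_option linter.style.haveILetI false
universe u
open CategoryTheory Limits AlgebraicGeometry TopologicalSpace Opposite

namespace Groth.Agent.Lib.Helper20.CohGab

open Groth.Agent.Lib.Helper4.Dev

variable {X : Scheme.{u}}

/-- Serre class on coherent modules. -/
def IsSerre (P : ObjectProperty X.Modules) : Prop :=
  ∀ S : ShortComplex X.Modules, S.ShortExact → Coh.IsCoh S.X₁ → Coh.IsCoh S.X₂ →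
    Coh.IsCoh S.X₃ → (P S.X₂ ↔ P S.X₁ ∧ P S.X₃)

theorem IsSerre.of_mono [IsLocallyNoetherian X] {P : ObjectProperty X.Modules} (hP : IsSerre P)
    {A B : X.Modules} (m : A ⟶ B) [Mono m] (hA : Coh.IsCoh A) (hB : Coh.IsCoh B) (h : P B) : P A :=
  ((hP (sesOfMono m) (sesOfMono_shortExact m) hA hB (isCoh_cokernel m hA hB)).1 h).1

theorem IsSerre.of_epi [IsLocallyNoetherian X] {P : ObjectProperty X.Modules} (hP : IsSerre P)
    {A B : X.Modules} (e : A ⟶ B) [Epi e] (hA : Coh.IsCoh A) (hB : Coh.IsCoh B) (h : P A) : P B :=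
  ((hP (sesOfEpi e) (sesOfEpi_shortExact e) (isCoh_kernel e hA hB) hA hB).1 h).2

theorem IsSerre.of_iso [IsLocallyNoetherian X] {P : ObjectProperty X.Modules} (hP : IsSerre P)
    {A B : X.Modules} (e : A ≅ B) (hA : Coh.IsCoh A) (h : P A) : P B :=
  hP.of_epi e.hom hA (isCoh_of_iso e hA) h

theorem IsSerre.zero [IsLocallyNoetherian X] {P : ObjectProperty X.Modules} (hP : IsSerre P)
    {F : X.Modules} (hF : Coh.IsCoh F) (hPF : P F) {M : X.Modules} (hM : IsZero M) : P M :=
  ((hP _ (shortExact_zero_id M F hM) (isCoh_of_isZero hM hF) hF hF).1 hPF).1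

theorem isSerre_support (T : Set X) : IsSerre (fun M : X.Modules => CohB1.support M ⊆ T) := by
  intro S hS _ _ _
  haveI := hS.mono_f
  haveI := hS.epi_g
  constructor
  · intro h
    exact ⟨(support_subset_of_mono S.f).trans h, (support_subset_of_epi S.g).trans h⟩
  · rintro ⟨h1, h3⟩ x hx
    by_contra hxT
    apply hx
    have s1 : Subsingleton (S.X₁.presheaf.stalk x) :=
      subsingleton_stalk_of_notMem_support (fun h => hxT (h1 h))
    have s3 : Subsingleton (S.X₃.presheaf.stalk x) :=
      subsingleton_stalk_of_notMem_support (fun h => hxT (h3 h))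
    have key : ∀ z : S.X₂.presheaf.stalk x, z = 0 := by
      intro z
      have hz : stalkL S.g x z = 0 := Subsingleton.elim _ _
      obtain ⟨w, rfl⟩ := (stalkL_exact S hS x z).1 hz
      rw [Subsingleton.elim w 0, map_zero]
    exact ⟨fun a b => by rw [key a, key b]⟩

/-- Key step: a Serre class containing the coherent module `F` contains a coherent module supported in `closure {y}`
with stalk of length one at `y`, for each `y ∈ Supp F`. -/
theorem exists_simple_of_mem_support [IsNoetherian X] {P : ObjectProperty X.Modules} (hP : IsSerre P)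
    {F : X.Modules} (hF : Coh.IsCoh F) (hPF : P F) (y : X) (hy : y ∈ CohB1.support F) :
    ∃ G : X.Modules, Coh.IsCoh G ∧ P G ∧ CohB1.support G ⊆ closure {y} ∧
      Module.length (X.presheaf.stalk y) (G.presheaf.stalk y) = 1 := by
  haveI : IsLocallyNoetherian X := inferInstance
  obtain ⟨Z, i, hci, hint, hrange, hgen, hker⟩ := exists_integral_closed' y
  subst hgen
  set B : X.Modules := (Scheme.Modules.pushforward i).obj (Coh.structureModule Z) with hBdef
  have hB : Coh.IsCoh B := isCoh_push_closed i _ (isCoh_structureModule Z)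
  have hlenB : Module.length (X.presheaf.stalk (i (genericPoint Z))) (B.presheaf.stalk (i (genericPoint Z))) = 1 :=
    length_stalk_push_structure i hker
  haveI : F.IsQuasicoherent := hF.1
  haveI : SheafOfModules.IsFiniteType (R := X.ringCatSheaf) F := hF.2
  haveI : Module.Finite (X.presheaf.stalk (i (genericPoint Z))) (F.presheaf.stalk (i (genericPoint Z))) :=
    Groth.Agent.Lib.Helper2.FibreCrit.finite_stalk F _
  haveI : Nontrivial (F.presheaf.stalk (i (genericPoint Z))) := not_subsingleton_iff_nontrivial.1 hy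
  obtain ⟨f, hf⟩ := exists_surjective_to_residue (R := X.presheaf.stalk (i (genericPoint Z)))
    (M := F.presheaf.stalk (i (genericPoint Z)))
  obtain ⟨eB⟩ := nonempty_linearEquiv_of_length_eq_one hlenB
  obtain ⟨H, p₁, p₂, hH, hmono, hbij, ⟨u, hu, hrel⟩⟩ :=
    exists_graph_of_stalk_coh' F B hF hB (i (genericPoint Z)) (eB.symm.toLinearMap ∘ₗ f)
      (fun U hU hyU => mono_unit_push_structure i hU hyU)
  haveI := hmono
  have hPH : P H := hP.of_mono p₁ hH hF hPF
  let e := Abelian.factorThruImage p₂
  let m := Abelian.image.ι p₂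
  have hfac : e ≫ m = p₂ := Abelian.image.fac p₂
  haveI : Epi e := inferInstanceAs (Epi (Abelian.factorThruImage p₂))
  haveI : Mono m := inferInstanceAs (Mono (Abelian.image.ι p₂))
  have hI : Coh.IsCoh (Abelian.image p₂) := isCoh_image p₂ hH hB
  have hPI : P (Abelian.image p₂) := hP.of_epi e hH hI hPH
  refine ⟨Abelian.image p₂, hI, hPI, ?_, ?_⟩
  · exact ((support_subset_of_mono m).trans (support_push_subset i _)).trans hrange.le
  · haveI : (Abelian.image p₂).IsQuasicoherent := hI.1
    refine length_stalk_of_mono_push_structure i hker (Abelian.image p₂) m ?_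
    intro hz
    -- then `p₂ = 0`, contradicting surjectivity at the stalk
    have hp0 : p₂ = 0 := by rw [← hfac, hz.eq_of_tgt e 0, zero_comp]
    obtain ⟨a, ha⟩ := hf (Submodule.Quotient.mk 1)
    obtain ⟨x, rfl⟩ := hbij.2 a
    have h1 := hrel x
    rw [hp0, stalkL_zero] at h1
    have h2 : u • (eB.symm (f (stalkL p₁ (i (genericPoint Z)) x))) = 0 := h1.symm
    rw [ha] at h2
    have h3 : eB.symm (Submodule.Quotient.mk 1) = 0 := by
      have := congrArg (fun z => (hu.unit⁻¹ : (X.presheaf.stalk (i (genericPoint Z)))ˣ).1 • z) h2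
      simp [smul_smul] at this
    have h4 : (Submodule.Quotient.mk (1 : X.presheaf.stalk (i (genericPoint Z))) :
        X.presheaf.stalk (i (genericPoint Z)) ⧸ IsLocalRing.maximalIdeal _) = 0 :=
      eB.symm.injective (by rw [h3, map_zero])
    rw [Submodule.Quotient.mk_eq_zero] at h4
    exact (IsLocalRing.maximalIdeal.isMaximal _).ne_top ((Ideal.eq_top_iff_one _).2 h4)

theorem mem_of_support_subset [IsNoetherian X] {P : ObjectProperty X.Modules} (hP : IsSerre P)
    {F : X.Modules} (hF : Coh.IsCoh F) (hPF : P F) {E : X.Modules} (hE : Coh.IsCoh E)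
    (hsupp : CohB1.support E ⊆ CohB1.support F) : P E := by
  haveI : IsLocallyNoetherian X := inferInstance
  let K : X.Modules → Prop := fun M => Coh.IsCoh M ∧ P M
  have hiso : ∀ M N : X.Modules, Nonempty (M ≅ N) → K M → K N := fun M N ⟨e⟩ h =>
    ⟨isCoh_of_iso e h.1, hP.of_iso e h.1 h.2⟩
  have hzero : ∀ M : X.Modules, IsZero M → K M := fun M hM =>
    ⟨isCoh_of_isZero hM hF, hP.zero hF hPF hM⟩
  have h23 : ∀ S : ShortComplex X.Modules, S.ShortExact → Coh.IsCoh S.X₁ → Coh.IsCoh S.X₂ → Coh.IsCoh S.X₃ →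
      (K S.X₁ → K S.X₂ → K S.X₃) ∧ (K S.X₁ → K S.X₃ → K S.X₂) ∧ (K S.X₂ → K S.X₃ → K S.X₁) := by
    intro S hS h1 h2 h3
    have := hP S hS h1 h2 h3
    exact ⟨fun _ k2 => ⟨h3, (this.1 k2.2).2⟩, fun k1 k3 => ⟨h2, this.2 ⟨k1.2, k3.2⟩⟩,
      fun k2 _ => ⟨h1, (this.1 k2.2).1⟩⟩
  refine (noetherian_induction_coh K (CohB1.support F) hiso hzero
    (fun S hS h1 h2 h3 _ => (h23 S hS h1 h2 h3).2.1) ?_ E hE hsupp).2
  intro y hyT IH E' hE' hsE'
  have hyF : y ∈ CohB1.support F := hyT (subset_closure rfl)
  obtain ⟨G, hG, hPG, hsG, hlen⟩ := exists_simple_of_mem_support hP hF hPF y hyF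
  have hK : Exact23 K (closure {y}) := ⟨hiso, fun S hS h1 h2 h3 _ => h23 S hS h1 h2 h3⟩
  exact devissage_irreducible y hK IH hG hsG ⟨hG, hPG⟩ hlen E' hE' hsE'

/-- every closed subset is the support of a coherent module -/
theorem exists_isCoh_support_eq [IsLocallyNoetherian X] (Z : Closeds X) :
    ∃ F : X.Modules, Coh.IsCoh F ∧ CohB1.support F = (Z : Set X) := by
  let I := Scheme.IdealSheafData.vanishingIdeal Z
  let i := I.subschemeι
  refine ⟨(Scheme.Modules.pushforward i).obj (Coh.structureModule I.subscheme),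
    isCoh_push_closed i _ (isCoh_structureModule _), ?_⟩
  have hrange : Set.range ⇑i = (Z : Set X) := range_subschemeι_vanishingIdeal' Z
  apply Set.Subset.antisymm
  · exact (support_push_subset i _).trans hrange.le
  · intro x hx
    rw [← hrange] at hx
    obtain ⟨z, rfl⟩ := hx
    intro hsub
    exact germ_pushOne_ne_zero i z (Subsingleton.elim _ _)

end Groth.Agent.Lib.Helper20.CohGab
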