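import Groth.Agent.Lib.Helper20UHStep
import Mathlib.FieldTheory.IsPerfectClosure
import Mathlib.NumberTheory.Basic

/-!
# Universal homeomorphisms and `p`-radical maps (helper20)
-/

universe u

namespace Groth.Agent.Lib.Helper20.AWN

open AlgebraicGeometry CategoryTheory

/-- If `c ^ 2` and `c ^ 3` lie in a subring then so do all `c ^ k`, `k ≥ 2`. -/
theorem pow_mem_of_sq_cube {B : Type*} [CommRing B] (R : Subring B) (c : B) (h2 : c ^ 2 ∈ R)
    (h3 : c ^ 3 ∈ R) : ∀ k, 2 ≤ k → c ^ k ∈ R := by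
  intro k
  induction k using Nat.strong_induction_on with
  | _ k ih =>
    intro hk
    rcases (show k = 2 ∨ k = 3 ∨ 4 ≤ k by omega) with rfl | rfl | hk4
    · exact h2
    · exact h3
    · have : c ^ k = c ^ (k - 2) * c ^ 2 := by
        rw [← pow_add]; congr 1; omega
      rw [this]
      exact R.mul_mem (ih (k - 2) (by omega) (by omega)) h2

section General

variable {A B : Type u} [CommRing A] [CommRing B] [Algebra A B]

/-- The subalgebra `A + p B`. -/
def addP (A B : Type u) [CommRing A] [CommRing B] [Algebra A B] (p : ℕ) : Subalgebra A B where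
  carrier := {x | ∃ (a : A) (c : B), x = algebraMap A B a + (p : B) * c}
  mul_mem' := by
    rintro x y ⟨a, c, rfl⟩ ⟨a', c', rfl⟩
    exact ⟨a * a', algebraMap A B a * c' + c * algebraMap A B a' + (p : B) * c * c', by
      rw [map_mul]; ring⟩
  add_mem' := by
    rintro x y ⟨a, c, rfl⟩ ⟨a', c', rfl⟩
    exact ⟨a + a', c + c', by rw [map_add]; ring⟩
  algebraMap_mem' := fun a => ⟨a, 0, by simp⟩

theorem mem_addP (p : ℕ) (x : B) :
    x ∈ addP A B p ↔ ∃ (a : A) (c : B), x = algebraMap A B a + (p : B) * c := Iff.rfl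

theorem natCast_mul_mem_addP (p : ℕ) (x : B) : (p : B) * x ∈ addP A B p :=
  ⟨0, x, by simp⟩

/-- The subalgebra of elements with a `p`-power power in `A + p B`. -/
def powP (A B : Type u) [CommRing A] [CommRing B] [Algebra A B] (p : ℕ) (hp : p.Prime) :
    Subalgebra A B where
  carrier := {x | ∃ N : ℕ, x ^ p ^ N ∈ addP A B p}
  mul_mem' := by
    rintro x y ⟨N, hx⟩ ⟨M, hy⟩
    refine ⟨N + M, ?_⟩
    have e : (x * y) ^ p ^ (N + M) = (x ^ p ^ N) ^ p ^ M * (y ^ p ^ M) ^ p ^ N := by
      rw [mul_pow, ← pow_mul, ← pow_mul, ← pow_add, ← pow_add, add_comm M N]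
    rw [e]
    exact mul_mem (pow_mem hx _) (pow_mem hy _)
  add_mem' := by
    rintro x y ⟨N, hx⟩ ⟨M, hy⟩
    refine ⟨N + M, ?_⟩
    obtain ⟨r, hr⟩ := exists_add_pow_prime_pow_eq hp x y (N + M)
    rw [hr]
    have e1 : x ^ p ^ (N + M) = (x ^ p ^ N) ^ p ^ M := by rw [← pow_mul, ← pow_add]
    have e2 : y ^ p ^ (N + M) = (y ^ p ^ M) ^ p ^ N := by
      rw [← pow_mul, ← pow_add, add_comm M N]
    rw [e1, e2, mul_assoc, mul_assoc]
    exact add_mem (add_mem (pow_mem hx _) (pow_mem hy _)) (natCast_mul_mem_addP p _)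
  algebraMap_mem' := fun a => ⟨0, by
    rw [pow_zero, pow_one]
    exact Subalgebra.algebraMap_mem _ a⟩

theorem mem_powP (p : ℕ) (hp : p.Prime) (x : B) :
    x ∈ powP A B p hp ↔ ∃ N : ℕ, x ^ p ^ N ∈ addP A B p := Iff.rfl

/-- Key lemma (the mod-`p` part of Stacks 0CNF): if `Spec B → Spec A` is a universal homeomorphism
then every element of `B` has a `p`-power power in `A + p B`. -/
theorem UH.exists_pow_eq_add (p : ℕ) (hp : p.Prime) (hUH : UH (algebraMap A B)) (b : B) :
    ∃ (N : ℕ) (a : A) (c : B), b ^ p ^ N = algebraMap A B a + (p : B) * c := by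
  have hι_int : (algebraMap (powP A B p hp) B).IsIntegral := by
    intro b
    exact (show IsIntegral A b from hUH.1 b).tower_top
  have hUH' : UH (algebraMap (powP A B p hp) B) :=
    UH_of_comp_right (algebraMap A (powP A B p hp)) (algebraMap (powP A B p hp) B)
      Subtype.val_injective hι_int hUH
  have htop : powP A B p hp = ⊤ := by
    apply eq_top_of_closed _ hUH'
    · rintro b ⟨N, h2⟩ ⟨M, h3⟩
      -- same exponent
      have h2' : (b ^ p ^ (N + M)) ^ 2 ∈ (addP A B p).toSubring := by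
        have e : (b ^ p ^ (N + M)) ^ 2 = ((b ^ 2) ^ p ^ N) ^ p ^ M := by
          rw [← pow_mul, ← pow_mul, ← pow_mul, pow_add]; ring_nf
        rw [e]
        exact pow_mem h2 _
      have h3' : (b ^ p ^ (N + M)) ^ 3 ∈ (addP A B p).toSubring := by
        have e : (b ^ p ^ (N + M)) ^ 3 = ((b ^ 3) ^ p ^ M) ^ p ^ N := by
          rw [← pow_mul, ← pow_mul, ← pow_mul, pow_add]; ring_nf
        rw [e]
        exact pow_mem h3 _
      refine ⟨N + M + 1, ?_⟩
      have e : b ^ p ^ (N + M + 1) = (b ^ p ^ (N + M)) ^ p := by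
        rw [← pow_mul, ← pow_succ]
      rw [e]
      exact pow_mem_of_sq_cube _ _ h2' h3' p hp.two_le
    · rintro q hq b ⟨N, h1⟩ ⟨M, h2⟩
      by_cases hqp : q = p
      · subst hqp
        refine ⟨M + 1, ?_⟩
        have e : b ^ q ^ (M + 1) = (b ^ q) ^ q ^ M := by
          rw [← pow_mul, ← pow_succ']
        rw [e]
        exact h2
      · refine ⟨N, ?_⟩
        have hcop : Nat.Coprime (q ^ p ^ N) p :=
          Nat.Coprime.pow_left _ ((Nat.coprime_primes hq hp).mpr hqp)
        have hbez : ((q ^ p ^ N : ℕ) : ℤ) * Nat.gcdA (q ^ p ^ N) p +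
            (p : ℤ) * Nat.gcdB (q ^ p ^ N) p = 1 := by
          have := Nat.gcd_eq_gcd_ab (q ^ p ^ N) p
          rw [hcop] at this
          simpa using this.symm
        have hbez' : ((q ^ p ^ N : ℕ) : B) * ((Nat.gcdA (q ^ p ^ N) p : ℤ) : B) +
            (p : B) * ((Nat.gcdB (q ^ p ^ N) p : ℤ) : B) = 1 := by
          have := congrArg (Int.cast : ℤ → B) hbez
          push_cast at this
          push_cast
          exact this
        have e : b ^ p ^ N = ((Nat.gcdA (q ^ p ^ N) p : ℤ) : B) * (((q : B) * b) ^ p ^ N) +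
            (p : B) * (((Nat.gcdB (q ^ p ^ N) p : ℤ) : B) * b ^ p ^ N) := by
          have : b ^ p ^ N = (((q ^ p ^ N : ℕ) : B) * ((Nat.gcdA (q ^ p ^ N) p : ℤ) : B) +
            (p : B) * ((Nat.gcdB (q ^ p ^ N) p : ℤ) : B)) * b ^ p ^ N := by
            rw [hbez', one_mul]
          refine this.trans ?_
          push_cast
          ring
        rw [e]
        refine add_mem ?_ (natCast_mul_mem_addP p _)
        exact mul_mem (intCast_mem _ _) h1
  have hb : b ∈ powP A B p hp := htop ▸ Algebra.mem_top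
  obtain ⟨N, a, c, h⟩ := hb
  exact ⟨N, a, c, h⟩

end General

section CharP

variable {A B : Type u} [CommRing A] [CommRing B]

theorem UH.ker_le_nilradical (φ : A →+* B) (h : UH φ) : RingHom.ker φ ≤ nilradical A := by
  intro x hx
  rw [nilradical_eq_sInf, Ideal.mem_sInf]
  intro P hP
  obtain ⟨Q, hQ⟩ := h.2.1 ⟨P, hP⟩
  have h1 : x ∈ (PrimeSpectrum.comap φ Q).asIdeal := by
    show φ x ∈ Q.asIdeal
    rw [RingHom.mem_ker.mp hx]
    exact zero_mem _
  rw [hQ] at h1
  exact h1

/-- Integral maps with nil kernel are surjective on spectra. -/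
theorem comap_surjective_of_isIntegral_of_ker_le (φ : A →+* B) (hint : φ.IsIntegral)
    (hker : RingHom.ker φ ≤ nilradical A) : Function.Surjective (PrimeSpectrum.comap φ) := by
  intro P
  letI := φ.toAlgebra
  haveI : Algebra.IsIntegral A B := ⟨hint⟩
  have hle : (⊥ : Ideal B).comap (algebraMap A B) ≤ P.asIdeal := by
    intro x hx
    have hx' : x ∈ RingHom.ker φ := by
      rw [RingHom.mem_ker]
      exact hx
    have h2 := hker hx'
    rw [nilradical_eq_sInf, Ideal.mem_sInf] at h2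
    exact h2 P.2
  obtain ⟨Q, -, hQ, hQP⟩ := Ideal.exists_ideal_over_prime_of_isIntegral P.asIdeal (⊥ : Ideal B) hle
  exact ⟨⟨Q, hQ⟩, PrimeSpectrum.ext hQP⟩

theorem natCast_eq_zero_of_charP (p : ℕ) [CharP A p] (φ : A →+* B) : (p : B) = 0 := by
  have : (p : B) = φ (p : A) := (map_natCast φ p).symm
  rw [this, CharP.cast_eq_zero, map_zero]

theorem isPRadical_of_UH (p : ℕ) [Fact p.Prime] [CharP A p] (φ : A →+* B) (h : UH φ) :
    IsPRadical φ p where
  pow_mem' := by
    intro b
    letI := φ.toAlgebra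
    obtain ⟨N, a, c, e⟩ := UH.exists_pow_eq_add p Fact.out (show UH (algebraMap A B) from h) b
    refine ⟨N, a, ?_⟩
    rw [e, natCast_eq_zero_of_charP p φ, zero_mul, add_zero]
    rfl
  ker_le' := by
    rw [pNilradical_prime Fact.out]
    exact UH.ker_le_nilradical φ h

theorem UH_of_isPRadical (p : ℕ) [Fact p.Prime] [CharP A p] (φ : A →+* B) [IsPRadical φ p] :
    UH φ := by
  have hp : p.Prime := Fact.out
  have hint : φ.IsIntegral := by
    intro b
    obtain ⟨n, a, e⟩ := IsPRadical.pow_mem φ p b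
    letI := φ.toAlgebra
    show IsIntegral A b
    apply IsIntegral.of_pow (n := p ^ n) (pow_pos hp.pos n)
    rw [← e]
    exact isIntegral_algebraMap
  refine ⟨hint, ?_, ?_⟩
  · apply comap_surjective_of_isIntegral_of_ker_le φ hint
    have := IsPRadical.ker_le φ p
    rwa [pNilradical_prime hp] at this
  · intro K _ χ₁ χ₂ hχ
    haveI : CharP K p :=
      (CharP.charP_iff_prime_eq_zero hp).mpr (natCast_eq_zero_of_charP p (χ₁.comp φ))
    refine RingHom.ext fun b => ?_
    obtain ⟨n, a, e⟩ := IsPRadical.pow_mem φ p b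
    have h1 : χ₁ b ^ p ^ n = χ₂ b ^ p ^ n := by
      rw [← map_pow, ← map_pow, ← e]
      exact RingHom.congr_fun hχ a
    apply iterateFrobenius_inj K p n
    rw [iterateFrobenius_def, iterateFrobenius_def]
    exact h1

theorem charP_of_UH (p : ℕ) [Fact p.Prime] [CharP A p] (φ : A →+* B) (h : UH φ) : CharP B p := by
  have hp : p.Prime := Fact.out
  have : Nontrivial A := CharP.nontrivial_of_char_ne_one (R := A) (v := p) hp.ne_one
  obtain ⟨P, hP, -⟩ := Ideal.exists_le_maximal (⊥ : Ideal A) bot_ne_top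
  obtain ⟨Q, -⟩ := h.2.1 ⟨P, hP.isPrime⟩
  have h1 : (1 : B) ∉ Q.asIdeal := (Ideal.ne_top_iff_one _).mp Q.2.ne_top
  have : Nontrivial B := ⟨⟨0, 1, fun e => h1 (e ▸ zero_mem _)⟩⟩
  exact (CharP.charP_iff_prime_eq_zero hp).mpr (natCast_eq_zero_of_charP p φ)

theorem UH_iff_isPRadical (p : ℕ) [Fact p.Prime] [CharP A p] (φ : A →+* B) :
    UH φ ↔ IsPRadical φ p :=
  ⟨isPRadical_of_UH p φ, fun _ => UH_of_isPRadical p φ⟩

end CharP

end Groth.Agent.Lib.Helper20.AWN
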