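import Groth.Agent.Lib.Helper20UCUI
import Groth.Agent.Lib.Helper20PRadical

/-!
# Properties of ring maps inherited from "stages" (helper20)

A ring map `ψ : A → B` inherits integrality, determination of maps to fields, and residue field
surjectivity if every element of `B` comes from a stage `A → C → B` with the property.
-/

universe u

namespace Groth.Agent.Lib.Helper20.AWN

open AlgebraicGeometry CategoryTheory
open Groth.Agent.Lib.Helper20.EtaPt

variable {A B : Type u} [CommRing A] [CommRing B]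

theorem isIntegral_of_stages (ψ : A →+* B)
    (h : ∀ b : B, ∃ (C : Type u) (_ : CommRing C) (ψ' : A →+* C) (ι : C →+* B) (y : C),
      ι.comp ψ' = ψ ∧ ι y = b ∧ ψ'.IsIntegral) : ψ.IsIntegral := by
  intro b
  obtain ⟨C, _, ψ', ι, y, hψ, rfl, hint⟩ := h b
  subst hψ
  obtain ⟨P, hP, hPy⟩ := hint y
  refine ⟨P, hP, ?_⟩
  rw [← Polynomial.hom_eval₂, hPy, map_zero]

theorem FM_of_stages (ψ : A →+* B)
    (h : ∀ b : B, ∃ (C : Type u) (_ : CommRing C) (ψ' : A →+* C) (ι : C →+* B) (y : C),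
      ι.comp ψ' = ψ ∧ ι y = b ∧ FM ψ') : FM ψ := by
  intro K _ χ₁ χ₂ hχ
  refine RingHom.ext fun b => ?_
  obtain ⟨C, _, ψ', ι, y, hψ, rfl, hFM⟩ := h b
  have := hFM K (χ₁.comp ι) (χ₂.comp ι) (by
    rw [RingHom.comp_assoc, RingHom.comp_assoc, hψ, hχ])
  exact RingHom.congr_fun this y

theorem residue_surjective_of_stages (ψ : A →+* B) (Q : PrimeSpectrum B)
    (h : ∀ b : B, ∃ (C : Type u) (_ : CommRing C) (ψ' : A →+* C) (ι : C →+* B) (y : C),
      ι.comp ψ' = ψ ∧ ι y = b ∧ ∀ Q' : PrimeSpectrum C, Function.Surjective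
        (Ideal.ResidueField.map (PrimeSpectrum.comap ψ' Q').asIdeal Q'.asIdeal ψ' rfl)) :
    Function.Surjective (Ideal.ResidueField.map
      (PrimeSpectrum.comap ψ Q).asIdeal Q.asIdeal ψ rfl) := by
  have hall : ∀ b : B, algebraMap B Q.asIdeal.ResidueField b ∈ (Ideal.ResidueField.map
      (PrimeSpectrum.comap ψ Q).asIdeal Q.asIdeal ψ rfl).fieldRange := by
    intro b
    obtain ⟨C, _, ψ', ι, y, hψ, rfl, hres⟩ := h b
    subst hψ
    obtain ⟨z, hz⟩ := hres (PrimeSpectrum.comap ι Q) (algebraMap C _ y)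
    have hcomp := residueField_map_comp
      (PrimeSpectrum.comap ψ' (PrimeSpectrum.comap ι Q)).asIdeal
      (PrimeSpectrum.comap ι Q).asIdeal Q.asIdeal ψ' ι rfl rfl rfl
    refine ⟨z, ?_⟩
    have h1 := RingHom.congr_fun hcomp z
    rw [RingHom.comp_apply, hz, Ideal.ResidueField.map_algebraMap] at h1
    exact h1
  intro y
  obtain ⟨t, ht, a, hta⟩ := exists_mul_eq_algebraMap Q.asIdeal y
  have ht0 : algebraMap B Q.asIdeal.ResidueField t ≠ 0 := by
    intro h0
    exact ht (Ideal.algebraMap_residueField_eq_zero.mp h0)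
  have e : y = algebraMap B Q.asIdeal.ResidueField a *
      (algebraMap B Q.asIdeal.ResidueField t)⁻¹ := by
    rw [← hta]; field_simp
  have hy : y ∈ (Ideal.ResidueField.map
      (PrimeSpectrum.comap ψ Q).asIdeal Q.asIdeal ψ rfl).fieldRange := by
    rw [e]
    exact mul_mem (hall a) (inv_mem (hall t))
  exact hy

theorem UH_of_stages (ψ : A →+* B)
    (h : ∀ b : B, ∃ (C : Type u) (_ : CommRing C) (ψ' : A →+* C) (ι : C →+* B) (y : C),
      ι.comp ψ' = ψ ∧ ι y = b ∧ UH ψ')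
    (hker : ∀ a : A, ψ a = 0 → ∃ (C : Type u) (_ : CommRing C) (ψ' : A →+* C), ψ' a = 0 ∧ UH ψ') :
    UH ψ := by
  have hint : ψ.IsIntegral := isIntegral_of_stages ψ (fun b => by
    obtain ⟨C, _, ψ', ι, y, h1, h2, h3⟩ := h b
    exact ⟨C, _, ψ', ι, y, h1, h2, h3.1⟩)
  refine ⟨hint, ?_, ?_⟩
  · apply comap_surjective_of_isIntegral_of_ker_le ψ hint
    intro a ha
    obtain ⟨C, _, ψ', h0, hUH⟩ := hker a (RingHom.mem_ker.mp ha)
    exact UH.ker_le_nilradical ψ' hUH (RingHom.mem_ker.mpr h0)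
  · exact FM_of_stages ψ (fun b => by
      obtain ⟨C, _, ψ', ι, y, h1, h2, h3⟩ := h b
      exact ⟨C, _, ψ', ι, y, h1, h2, h3.2.2⟩)

end Groth.Agent.Lib.Helper20.AWN
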