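import Mathlib
import Groth.Agent.Lib.Helper20SubStalk
import Groth.Agent.Lib.Helper20CatDim

set_option autoImplicit false
set_option linter.style.haveILetI false
set_option linter.unusedSectionVars false
universe u
open CategoryTheory CategoryTheory.Limits AlgebraicGeometry TopologicalSpace Opposite

namespace Groth.Agent.Lib.Helper20.CycSub

open Groth.Agent.Lib.Helper20.CDivOrd2 Groth.Agent.Lib.Helper20.EffCartUFD Groth.Agent.Lib.Helper20.CatDim
open Groth.Agent.Lib.Helper20.EffCartUFD2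

variable {X : Scheme.{u}}

/-- E4: two points with DVR stalks, one specializing to the other, are equal. -/
theorem eq_of_specializes_of_dvr (x x' : X) (h : x' ⤳ x)
    [IsDomain (X.presheaf.stalk x)] [IsDiscreteValuationRing (X.presheaf.stalk x)]
    [IsDomain (X.presheaf.stalk x')] [IsDiscreteValuationRing (X.presheaf.stalk x')] : x' = x := by
  by_contra hne
  have h1 : Order.coheight x = 1 := by
    have := ringKrullDim_stalk_eq_coheight x
    rw [IsDiscreteValuationRing.ringKrullDim_eq_one] at this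
    exact_mod_cast this.symm
  have h2 : Order.coheight x' = 1 := by
    have := ringKrullDim_stalk_eq_coheight x'
    rw [IsDiscreteValuationRing.ringKrullDim_eq_one] at this
    exact_mod_cast this.symm
  have hlt : x < x' := by
    refine lt_of_le_not_ge (Scheme.le_iff_specializes.mpr h) ?_
    intro h'
    exact hne ((Scheme.le_iff_specializes.mp h').antisymm h).eq.symm
  have := Order.coheight_add_one_le hlt
  rw [h1, h2] at this
  exact absurd this (by decide)

/-- the quotient map `O_x → O_x / m^n`. -/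
noncomputable abbrev quotMap (x : X) (n : ℕ) : X.presheaf.stalk x ⟶
    CommRingCat.of (X.presheaf.stalk x ⧸ IsLocalRing.maximalIdeal (X.presheaf.stalk x) ^ n) :=
  CommRingCat.ofHom (Ideal.Quotient.mk _)

/-- the morphism `Spec (O_x / m^n) ⟶ X`. -/
noncomputable abbrev ptHom (x : X) (n : ℕ) :
    Spec (CommRingCat.of (X.presheaf.stalk x ⧸ IsLocalRing.maximalIdeal (X.presheaf.stalk x) ^ n)) ⟶ X :=
  Spec.map (quotMap x n) ≫ X.fromSpecStalk x

/-- ideal sheaf of the `n`-th infinitesimal neighbourhood of the point `x`. -/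
noncomputable def ptIdeal (x : X) (n : ℕ) : X.IdealSheafData := (ptHom x n).ker

theorem ptHom_apply (x : X) (n : ℕ) (q) : ptHom x n q = x := by
  rw [ptHom, Scheme.Hom.comp_apply]
  have : Spec.map (quotMap x n) q = IsLocalRing.closedPoint (X.presheaf.stalk x) := by
    apply PrimeSpectrum.ext
    change q.asIdeal.comap (Ideal.Quotient.mk _) = IsLocalRing.maximalIdeal _
    symm
    apply (IsLocalRing.maximalIdeal.isMaximal _).eq_of_le (Ideal.IsPrime.ne_top inferInstance)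
    apply Ideal.IsPrime.le_of_pow_le (n := n)
    intro a ha
    rw [Ideal.mem_comap, Ideal.Quotient.eq_zero_iff_mem.mpr ha]
    exact zero_mem _
  rw [this, Scheme.fromSpecStalk_closedPoint]

theorem ptIdeal_ideal_of_mem [QuasiSeparatedSpace X] (x : X) (n : ℕ) (hn : n ≠ 0) (U : X.affineOpens)
    (hx : x ∈ U.1) :
    (ptIdeal x n).ideal U =
      (IsLocalRing.maximalIdeal (X.presheaf.stalk x) ^ n).comap (X.presheaf.germ U.1 x hx).hom := by
  rw [ptIdeal, Scheme.Hom.ker_apply]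
  haveI : Nontrivial (X.presheaf.stalk x ⧸ IsLocalRing.maximalIdeal (X.presheaf.stalk x) ^ n) := by
    rw [Ideal.Quotient.nontrivial_iff]
    intro h
    have := Ideal.pow_le_self (I := IsLocalRing.maximalIdeal (X.presheaf.stalk x)) hn
    rw [h] at this
    exact (IsLocalRing.maximalIdeal.isMaximal _).ne_top (top_le_iff.mp this)
  haveI : IsLocalRing (X.presheaf.stalk x ⧸ IsLocalRing.maximalIdeal (X.presheaf.stalk x) ^ n) :=
    IsLocalRing.of_surjective' (Ideal.Quotient.mk _) Ideal.Quotient.mk_surjective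
  haveI : IsLocalHom (quotMap x n).hom :=
    IsLocalHom.of_surjective (Ideal.Quotient.mk _) Ideal.Quotient.mk_surjective
  have hcl : (ptHom x n) (IsLocalRing.closedPoint _) ∈ U.1 := by
    rw [ptHom_apply]; exact hx
  have e1 := Scheme.germ_stalkClosedPointTo_Spec_fromSpecStalk (quotMap x n) U.1 hcl
  have e2 := Scheme.germ_stalkClosedPointTo (ptHom x n) U.1 hcl
  rw [e1] at e2
  ext a
  rw [RingHom.mem_ker, Ideal.mem_comap, ← Ideal.Quotient.eq_zero_iff_mem]
  have e3 : Ideal.Quotient.mk (IsLocalRing.maximalIdeal ↑(X.presheaf.stalk x) ^ n)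
      ((X.presheaf.germ U.1 x hx).hom a) = _ := congrArg (fun g => g.hom a) e2
  rw [e3]
  simp only [CommRingCat.hom_comp, RingHom.comp_apply]
  set e := ((Spec _).presheaf.mapIso
    (eqToIso (Scheme.preimage_eq_top_of_closedPoint_mem (ptHom x n) hcl).symm).op ≪≫
        Scheme.ΓSpecIso _) with he
  constructor
  · intro h; rw [h, map_zero]
  · intro h
    have hinj : Function.Injective e.hom.hom := e.commRingCatIsoToRingEquiv.injective
    exact hinj (by rw [h, map_zero])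

theorem ptIdeal_ideal_of_notMem [QuasiSeparatedSpace X] (x : X) (n : ℕ) (U : X.affineOpens)
    (hx : x ∉ U.1) : (ptIdeal x n).ideal U = ⊤ := by
  rw [ptIdeal, Scheme.Hom.ker_apply, Ideal.eq_top_iff_one, RingHom.mem_ker]
  have h1 : ptHom x n ⁻¹ᵁ U.1 = ⊥ := by
    ext q
    simp only [Scheme.Hom.mem_preimage, SetLike.mem_coe, Opens.coe_bot, Set.mem_empty_iff_false,
      iff_false]
    rw [ptHom_apply]; exact hx
  have : Subsingleton Γ(Spec _, ptHom x n ⁻¹ᵁ U.1) := by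
    rw [h1]
    infer_instance
  exact Subsingleton.elim _ _

/-- the ideal sheaf of the cycle `∑ n x · x`. -/
noncomputable def cycIdeal (S : Set X) (n : X → ℕ) : X.IdealSheafData :=
  ⨅ x ∈ S, ptIdeal x (n x)

theorem mem_cycIdeal_iff [QuasiSeparatedSpace X] (S : Set X) (hS : S.Finite) (n : X → ℕ)
    (hn : ∀ x ∈ S, n x ≠ 0) (U : X.affineOpens) (a : Γ(X, U.1)) :
    a ∈ (cycIdeal S n).ideal U ↔ ∀ x ∈ S, ∀ hx : x ∈ U.1,
      (X.presheaf.germ U.1 x hx).hom a ∈ IsLocalRing.maximalIdeal (X.presheaf.stalk x) ^ n x := by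
  rw [cycIdeal, Scheme.IdealSheafData.ideal_biInf _ hS]
  simp only [iInf_apply, Ideal.mem_iInf]
  constructor
  · intro h x hxS hxU
    have := h x hxS
    rwa [ptIdeal_ideal_of_mem x (n x) (hn x hxS) U hxU] at this
  · intro h x hxS
    by_cases hxU : x ∈ U.1
    · rw [ptIdeal_ideal_of_mem x (n x) (hn x hxS) U hxU]
      exact h x hxS hxU
    · rw [ptIdeal_ideal_of_notMem x (n x) U hxU]
      trivial

theorem exists_avoid (S : Set X) (hS : S.Finite) (n : X → ℕ) {U : X.Opens} (hU : IsAffineOpen U)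
    (y : X) (hy : y ∈ U) :
    ∃ s : Γ(X, U), s ∉ (hU.primeIdealOf ⟨y, hy⟩).asIdeal ∧ ∀ x ∈ S, ∀ hx : x ∈ U, ¬ (x ⤳ y) →
      (X.presheaf.germ U x hx).hom s ∈ IsLocalRing.maximalIdeal (X.presheaf.stalk x) ^ n x := by
  have key : ∀ x : X, ∃ t : Γ(X, U), t ∉ (hU.primeIdealOf ⟨y, hy⟩).asIdeal ∧
      ∀ hx : x ∈ U, ¬ (x ⤳ y) →
        (X.presheaf.germ U x hx).hom t ∈ IsLocalRing.maximalIdeal (X.presheaf.stalk x) := by
    intro x
    by_cases hx : x ∈ U ∧ ¬ (x ⤳ y)
    · have hnle : ¬ (hU.primeIdealOf ⟨x, hx.1⟩).asIdeal ≤ (hU.primeIdealOf ⟨y, hy⟩).asIdeal :=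
        fun hle => hx.2 (specializes_of_primeIdealOf_le hU y x hy hx.1 hle)
      obtain ⟨t, htx, hty⟩ := Set.not_subset.mp hnle
      exact ⟨t, hty, fun _ _ => (mem_primeIdealOf_iff hU x hx.1 t).mp htx⟩
    · exact ⟨1, (Ideal.ne_top_iff_one _).mp (hU.primeIdealOf ⟨y, hy⟩).isPrime.ne_top,
        fun hxU hns => absurd ⟨hxU, hns⟩ hx⟩
  choose t ht1 ht2 using key
  classical
  refine ⟨∏ x ∈ hS.toFinset, t x ^ n x, ?_, ?_⟩
  · intro hmem
    obtain ⟨x, -, hx⟩ := ((hU.primeIdealOf ⟨y, hy⟩).isPrime.prod_mem_iff).mp hmem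
    exact ht1 x ((hU.primeIdealOf ⟨y, hy⟩).isPrime.mem_of_pow_mem _ hx)
  · intro x hxS hxU hns
    rw [map_prod, ← Finset.mul_prod_erase _ _ (hS.mem_toFinset.mpr hxS)]
    apply Ideal.mul_mem_right
    rw [map_pow]
    exact Ideal.pow_mem_pow (ht2 x hxU hns) _

theorem mem_support_cycIdeal_iff [QuasiSeparatedSpace X] (S : Set X) (hS : S.Finite) (n : X → ℕ)
    (hn : ∀ x ∈ S, n x ≠ 0) (y : X) :
    y ∈ (cycIdeal S n).support ↔ ∃ x ∈ S, x ⤳ y := by
  obtain ⟨_, ⟨U, hU, rfl⟩, hy, -⟩ :=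
    X.isBasis_affineOpens.exists_subset_of_mem_open (Set.mem_univ y) isOpen_univ
  have hU : IsAffineOpen U := hU
  rw [mem_support_iff_le _ hU y hy]
  constructor
  · intro hle
    by_contra hcon
    push Not at hcon
    obtain ⟨s, hs1, hs2⟩ := exists_avoid S hS n hU y hy
    refine hs1 (hle ?_)
    rw [mem_cycIdeal_iff S hS n hn ⟨U, hU⟩]
    intro x hxS hxU
    exact hs2 x hxS hxU (hcon x hxS)
  · rintro ⟨x, hxS, hxy⟩ a ha
    have hxU : x ∈ U := hxy.mem_open U.2 hy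
    apply primeIdealOf_le_of_specializes hU y x hy hxU hxy
    rw [mem_primeIdealOf_iff hU x hxU]
    have := (mem_cycIdeal_iff S hS n hn ⟨U, hU⟩ a).mp ha x hxS hxU
    exact Ideal.pow_le_self (hn x hxS) this

theorem map_cycIdeal_eq [QuasiSeparatedSpace X] (S : Set X) (hS : S.Finite) (n : X → ℕ)
    (hn : ∀ x ∈ S, n x ≠ 0) (x : X) (hxS : x ∈ S) (hE : ∀ x' ∈ S, x' ⤳ x → x' = x)
    {U : X.Opens} (hU : IsAffineOpen U) (hx : x ∈ U) :
    ((cycIdeal S n).ideal ⟨U, hU⟩).map (X.presheaf.germ U x hx).hom =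
      IsLocalRing.maximalIdeal (X.presheaf.stalk x) ^ n x := by
  apply le_antisymm
  · rw [Ideal.map_le_iff_le_comap]
    intro a ha
    exact (mem_cycIdeal_iff S hS n hn ⟨U, hU⟩ a).mp ha x hxS hx
  · intro β hβ
    letI := X.presheaf.algebra_section_stalk ⟨x, hx⟩
    haveI := hU.isLocalization_stalk ⟨x, hx⟩
    obtain ⟨⟨a, ⟨s, hs⟩⟩, has⟩ :=
      IsLocalization.surj (hU.primeIdealOf ⟨x, hx⟩).asIdeal.primeCompl β
    have has' : β * (X.presheaf.germ U x hx).hom s = (X.presheaf.germ U x hx).hom a := has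
    have hsu : IsUnit ((X.presheaf.germ U x hx).hom s) := by
      by_contra hnu
      exact hs ((mem_primeIdealOf_iff hU x hx s).mpr ((IsLocalRing.mem_maximalIdeal _).mpr hnu))
    obtain ⟨s', hs'1, hs'2⟩ := exists_avoid S hS n hU x hx
    have hs'u : IsUnit ((X.presheaf.germ U x hx).hom s') := by
      by_contra hnu
      exact hs'1 ((mem_primeIdealOf_iff hU x hx s').mpr ((IsLocalRing.mem_maximalIdeal _).mpr hnu))
    have hmem : s' * a ∈ (cycIdeal S n).ideal ⟨U, hU⟩ := by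
      rw [mem_cycIdeal_iff S hS n hn ⟨U, hU⟩]
      intro x' hx'S hx'U
      rw [map_mul]
      by_cases hsp : x' ⤳ x
      · obtain rfl := hE x' hx'S hsp
        apply Ideal.mul_mem_left
        rw [← has']
        exact Ideal.mul_mem_right _ _ hβ
      · exact Ideal.mul_mem_right _ _ (hs'2 x' hx'S hx'U hsp)
    have h1 := Ideal.mem_map_of_mem (X.presheaf.germ U x hx).hom hmem
    rw [map_mul, ← has', ← mul_assoc] at h1
    exact (Ideal.unit_mul_mem_iff_mem _ hs'u).mp ((Ideal.mul_unit_mem_iff_mem _ hsu).mp h1)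

theorem eq_pow_of_length_quotient {R : Type*} [CommRing R] [IsDomain R]
    [IsDiscreteValuationRing R] (K : Ideal R) (n : ℕ)
    (h : Module.length R (R ⧸ K) = n) : K = IsLocalRing.maximalIdeal R ^ n := by
  rw [Module.length_quotient] at h
  have h1 := Order.coheight_orderIso (IsDiscreteValuationRing.idealOrderIsoENat R) K
  rw [h] at h1
  set m := IsDiscreteValuationRing.idealOrderIsoENat R K with hm
  have h2 : m = OrderDual.toDual (n : ℕ∞) := by
    have : Order.coheight m = Order.height (OrderDual.ofDual m) := by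
      rw [← Order.coheight_toDual]; rfl
    rw [this, Order.height_enat] at h1
    rw [← h1]; rfl
  have h3 : K = (IsDiscreteValuationRing.idealOrderIsoENat R).symm m := by
    rw [hm, OrderIso.symm_apply_apply]
  rw [h3, h2]
  exact IsDiscreteValuationRing.idealOrderIsoENat_symm_apply_coe R n

theorem length_eq_of_surjective_ker {R S : Type*} [CommRing R] [CommRing S] (φ : R →+* S)
    (hφ : Function.Surjective φ) (K : Ideal R) (hK : RingHom.ker φ = K) :
    Module.length S S = Module.length R (R ⧸ K) := by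
  subst hK
  letI := φ.toAlgebra
  have h1 : Module.length R S = Module.length S S :=
    Module.length_eq_of_surjective (S := R) (R := S) (M := S) hφ
  rw [← h1]
  have hker : LinearMap.ker (Algebra.linearMap R S) = RingHom.ker φ := by
    ext a
    rw [LinearMap.mem_ker, RingHom.mem_ker]
    rfl
  have e1 : (R ⧸ LinearMap.ker (Algebra.linearMap R S)) ≃ₗ[R] S :=
    LinearMap.quotKerEquivOfSurjective (Algebra.linearMap R S) hφ
  have e2 : (R ⧸ LinearMap.ker (Algebra.linearMap R S)) ≃ₗ[R] (R ⧸ RingHom.ker φ) :=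
    Submodule.quotEquivOfEq _ _ hker
  exact (e2.symm.trans e1).length_eq.symm

theorem mem_associatedPrimes_of_stalk_subscheme [IsLocallyNoetherian X] (𝓚 : X.IdealSheafData)
    {U : X.Opens} (hU : IsAffineOpen U) (z : 𝓚.subscheme) (hz : 𝓚.subschemeι z ∈ U)
    (hass : IsAssociatedPrime (IsLocalRing.maximalIdeal (𝓚.subscheme.presheaf.stalk z))
      (𝓚.subscheme.presheaf.stalk z)) :
    (hU.primeIdealOf ⟨𝓚.subschemeι z, hz⟩).asIdeal ∈
      associatedPrimes Γ(X, U) (Γ(X, U) ⧸ 𝓚.ideal ⟨U, hU⟩) := by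
  haveI : IsNoetherianRing Γ(X, U) := IsLocallyNoetherian.component_noetherian ⟨U, hU⟩
  letI := X.presheaf.algebra_section_stalk ⟨𝓚.subschemeι z, hz⟩
  haveI := hU.isLocalization_stalk ⟨𝓚.subschemeι z, hz⟩
  set φ := (𝓚.subschemeι.stalkMap z).hom with hφ
  have hsurj : Function.Surjective φ := 𝓚.subschemeι.stalkMap_surjective z
  have hker : RingHom.ker φ = (𝓚.ideal ⟨U, hU⟩).map
      (algebraMap Γ(X, U) (X.presheaf.stalk (𝓚.subschemeι z))) :=
    Groth.Agent.Lib.Helper20.SubStalk.ker_stalkMap_subschemeι 𝓚 hU z hz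
  obtain ⟨hprime, ζ, hζ⟩ := hass
  obtain ⟨β, rfl⟩ := hsurj ζ
  have h1 : IsLocalRing.maximalIdeal (X.presheaf.stalk (𝓚.subschemeι z)) ∈
      associatedPrimes (X.presheaf.stalk (𝓚.subschemeι z)) ((X.presheaf.stalk (𝓚.subschemeι z)) ⧸
        (𝓚.ideal ⟨U, hU⟩).map (algebraMap Γ(X, U) (X.presheaf.stalk (𝓚.subschemeι z)))) := by
    refine ⟨inferInstance, Ideal.Quotient.mk _ β, ?_⟩
    ext t
    have h2 : φ t ∈ IsLocalRing.maximalIdeal (𝓚.subscheme.presheaf.stalk z) ↔
        ∃ k : ℕ, φ t ^ k * φ β = 0 := by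
      rw [hζ, Ideal.mem_radical_iff]
      simp only [Submodule.mem_colon_singleton, Submodule.mem_bot, smul_eq_mul]
    have h4 : t ∈ IsLocalRing.maximalIdeal (X.presheaf.stalk (𝓚.subschemeι z)) ↔
        φ t ∈ IsLocalRing.maximalIdeal (𝓚.subscheme.presheaf.stalk z) := by
      rw [IsLocalRing.mem_maximalIdeal, IsLocalRing.mem_maximalIdeal, map_mem_nonunits_iff]
    rw [h4, h2, Ideal.mem_radical_iff]
    apply exists_congr
    intro k
    rw [Submodule.mem_colon_singleton, Submodule.mem_bot, Algebra.smul_def,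
      Ideal.Quotient.algebraMap_eq, ← map_mul, Ideal.Quotient.eq_zero_iff_mem, ← hker,
      RingHom.mem_ker, map_mul, map_pow]
  have h3 := comap_mem_associatedPrimes' (hU.primeIdealOf ⟨𝓚.subschemeι z, hz⟩).asIdeal.primeCompl
    (𝓚.ideal ⟨U, hU⟩) _ h1
  convert h3 using 1
  ext c
  rw [mem_primeIdealOf_iff hU _ hz c, Ideal.mem_comap]
  rfl

theorem main (X : Scheme.{u}) [IsNoetherian X] (W : X → ℤ) (hfin : {x | W x ≠ 0}.Finite)
    (hpos : ∀ x, 0 ≤ W x)
    (hreg : ∀ x, W x ≠ 0 → ∃ _ : IsDomain ↑(X.presheaf.stalk x),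
      IsDiscreteValuationRing ↑(X.presheaf.stalk x)) :
    ∃! 𝓘 : X.IdealSheafData,
      (∀ z : ↥𝓘.subscheme,
        IsAssociatedPrime (IsLocalRing.maximalIdeal ↑(𝓘.subscheme.presheaf.stalk z))
          ↑(𝓘.subscheme.presheaf.stalk z) → ∀ z' : ↥𝓘.subscheme, z' ⤳ z → z' = z) ∧
      (∀ z : ↥𝓘.subscheme, (∀ z' : ↥𝓘.subscheme, z' ⤳ z → z' = z) →
        Module.length ↑(𝓘.subscheme.presheaf.stalk z) ↑(𝓘.subscheme.presheaf.stalk z) =
          ((W (𝓘.subschemeι.base z)).toNat : ℕ∞)) ∧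
      (∀ x : X, W x ≠ 0 → ∃ z : ↥𝓘.subscheme, 𝓘.subschemeι.base z = x ∧
        ∀ z' : ↥𝓘.subscheme, z' ⤳ z → z' = z) := by
  set S : Set X := {x | W x ≠ 0} with hS
  set n : X → ℕ := fun x => (W x).toNat with hn_def
  have hn : ∀ x ∈ S, n x ≠ 0 := by
    intro x hx
    have h1 : W x ≠ 0 := hx
    have h2 := hpos x
    simp only [hn_def]
    omega
  have hE : ∀ x ∈ S, ∀ x' ∈ S, x' ⤳ x → x' = x := by
    intro x hx x' hx' h
    obtain ⟨_, _⟩ := hreg x hx
    obtain ⟨_, _⟩ := hreg x' hx'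
    exact eq_of_specializes_of_dvr x x' h
  -- general dictionary
  have hinj : ∀ 𝓚 : X.IdealSheafData, Function.Injective 𝓚.subschemeι :=
    fun 𝓚 => 𝓚.subschemeι.isEmbedding.injective
  have hspec : ∀ (𝓚 : X.IdealSheafData) (z z' : 𝓚.subscheme),
      𝓚.subschemeι z' ⤳ 𝓚.subschemeι z ↔ z' ⤳ z :=
    fun 𝓚 z z' => 𝓚.subschemeι.isEmbedding.toIsInducing.specializes_iff
  have hrange : ∀ (𝓚 : X.IdealSheafData) (y : X), y ∈ 𝓚.support ↔ ∃ z, 𝓚.subschemeι z = y := by
    intro 𝓚 y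
    rw [← SetLike.mem_coe, ← 𝓚.range_subschemeι]
    rfl
  have hlen : ∀ (𝓚 : X.IdealSheafData) {U : X.Opens} (hU : IsAffineOpen U) (z : 𝓚.subscheme)
      (hz : 𝓚.subschemeι z ∈ U),
      Module.length (𝓚.subscheme.presheaf.stalk z) (𝓚.subscheme.presheaf.stalk z) =
      Module.length (X.presheaf.stalk (𝓚.subschemeι z)) (X.presheaf.stalk (𝓚.subschemeι z) ⧸
        (𝓚.ideal ⟨U, hU⟩).map (X.presheaf.germ U _ hz).hom) :=
    fun 𝓚 U hU z hz => length_eq_of_surjective_ker _ (𝓚.subschemeι.stalkMap_surjective z) _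
      (Groth.Agent.Lib.Helper20.SubStalk.ker_stalkMap_subschemeι 𝓚 hU z hz)
  set 𝓘 := cycIdeal S n with h𝓘
  have hsupp : ∀ y, y ∈ 𝓘.support ↔ ∃ x ∈ S, x ⤳ y := mem_support_cycIdeal_iff S hfin n hn
  have hM1 : ∀ z : 𝓘.subscheme, 𝓘.subschemeι z ∈ S → ∀ z' : 𝓘.subscheme, z' ⤳ z → z' = z := by
    intro z hzS z' hz'
    have h1 : 𝓘.subschemeι z' ⤳ 𝓘.subschemeι z := (hspec 𝓘 z z').mpr hz'
    obtain ⟨x', hx'S, hx'⟩ := (hsupp _).mp ((hrange 𝓘 _).mpr ⟨z', rfl⟩)
    have h2 : x' = 𝓘.subschemeι z := hE _ hzS x' hx'S (hx'.trans h1)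
    rw [h2] at hx'
    exact hinj 𝓘 (h1.antisymm hx').eq
  refine ⟨𝓘, ⟨?_, ?_, ?_⟩, ?_⟩
  · -- C1
    intro z hass
    apply hM1
    obtain ⟨_, ⟨U, hU, rfl⟩, hy, -⟩ :=
      X.isBasis_affineOpens.exists_subset_of_mem_open (Set.mem_univ (𝓘.subschemeι z)) isOpen_univ
    have hU : IsAffineOpen U := hU
    haveI : IsNoetherianRing Γ(X, U) := IsLocallyNoetherian.component_noetherian ⟨U, hU⟩
    have h1 := mem_associatedPrimes_of_stalk_subscheme 𝓘 hU z hy hass
    obtain ⟨hprime, m, hm⟩ := (isAssociatedPrime_iff (M := Γ(X, U) ⧸ 𝓘.ideal ⟨U, hU⟩)).mp h1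
    obtain ⟨b, rfl⟩ := Ideal.Quotient.mk_surjective m
    have hmem : ∀ r, r ∈ (hU.primeIdealOf ⟨𝓘.subschemeι z, hy⟩).asIdeal ↔
        r * b ∈ 𝓘.ideal ⟨U, hU⟩ := by
      intro r
      rw [hm, Submodule.mem_colon_singleton, Submodule.mem_bot, Algebra.smul_def,
        Ideal.Quotient.algebraMap_eq, ← map_mul, Ideal.Quotient.eq_zero_iff_mem]
    have hb : b ∉ 𝓘.ideal ⟨U, hU⟩ := by
      intro hb
      apply hprime.ne_top
      rw [Ideal.eq_top_iff_one, hmem, one_mul]
      exact hb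
    rw [mem_cycIdeal_iff S hfin n hn ⟨U, hU⟩] at hb
    push Not at hb
    obtain ⟨x, hxS, hxU, hxb⟩ := hb
    have hle : (hU.primeIdealOf ⟨𝓘.subschemeι z, hy⟩).asIdeal ≤
        (hU.primeIdealOf ⟨x, hxU⟩).asIdeal := by
      intro t ht
      rw [mem_primeIdealOf_iff hU x hxU]
      by_contra hnu
      have hu : IsUnit ((X.presheaf.germ U x hxU).hom t) := by
        by_contra h; exact hnu ((IsLocalRing.mem_maximalIdeal _).mpr h)
      have h2 := (mem_cycIdeal_iff S hfin n hn ⟨U, hU⟩ _).mp ((hmem t).mp ht) x hxS hxU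
      rw [map_mul] at h2
      exact hxb ((Ideal.unit_mul_mem_iff_mem _ hu).mp h2)
    have h3 : 𝓘.subschemeι z ⤳ x := specializes_of_primeIdealOf_le hU x _ hxU hy hle
    obtain ⟨x', hx'S, hx'⟩ := (hsupp _).mp ((hrange 𝓘 _).mpr ⟨z, rfl⟩)
    have h4 : x' = x := hE x hxS x' hx'S (hx'.trans h3)
    rw [h4] at hx'
    rw [(h3.antisymm hx').eq]
    exact hxS
  · -- C2
    intro z hmax
    have hzS : 𝓘.subschemeι z ∈ S := by
      obtain ⟨x, hxS, hx⟩ := (hsupp _).mp ((hrange 𝓘 _).mpr ⟨z, rfl⟩)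
      obtain ⟨z', hz'⟩ := (hrange 𝓘 x).mp ((hsupp x).mpr ⟨x, hxS, specializes_rfl⟩)
      have h1 : z' ⤳ z := (hspec 𝓘 z z').mp (hz' ▸ hx)
      rw [← hmax z' h1, hz']
      exact hxS
    obtain ⟨_, ⟨U, hU, rfl⟩, hy, -⟩ :=
      X.isBasis_affineOpens.exists_subset_of_mem_open (Set.mem_univ (𝓘.subschemeι z)) isOpen_univ
    have hU : IsAffineOpen U := hU
    obtain ⟨_, _⟩ := hreg _ hzS
    rw [hlen 𝓘 hU z hy, map_cycIdeal_eq S hfin n hn _ hzS (hE _ hzS) hU hy,
      IsDiscreteValuationRing.length_quotient_pow_maximalIdeal]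
  · -- C3
    intro x hx
    obtain ⟨z, hz⟩ := (hrange 𝓘 x).mp ((hsupp x).mpr ⟨x, hx, specializes_rfl⟩)
    exact ⟨z, hz, hM1 z (hz ▸ hx)⟩
  · -- uniqueness
    rintro 𝓙 ⟨h1, h2, h3⟩
    apply Scheme.IdealSheafData.ext
    funext ⟨U, hU⟩
    haveI : IsNoetherianRing Γ(X, U) := IsLocallyNoetherian.component_noetherian ⟨U, hU⟩
    have hV1 : ∀ x ∈ S, ∀ hx : x ∈ U, (𝓙.ideal ⟨U, hU⟩).map (X.presheaf.germ U x hx).hom =
        IsLocalRing.maximalIdeal (X.presheaf.stalk x) ^ n x := by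
      intro x hxS hx
      obtain ⟨z, rfl, hzmax⟩ := h3 x hxS
      obtain ⟨_, _⟩ := hreg _ hxS
      have h4 := h2 z hzmax
      rw [hlen 𝓙 hU z hx] at h4
      exact eq_pow_of_length_quotient _ _ h4
    apply le_antisymm
    · intro a ha
      rw [mem_cycIdeal_iff S hfin n hn ⟨U, hU⟩]
      intro x hxS hxU
      rw [← hV1 x hxS hxU]
      exact Ideal.mem_map_of_mem _ ha
    · intro a ha
      by_contra hna
      have hne : (Ideal.Quotient.mk (𝓙.ideal ⟨U, hU⟩) a) ≠ 0 := by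
        rwa [Ne, Ideal.Quotient.eq_zero_iff_mem]
      obtain ⟨P, hP, hle⟩ := exists_le_isAssociatedPrime_of_isNoetherianRing Γ(X, U) _ hne
      haveI := hP.isPrime
      have hJP : 𝓙.ideal ⟨U, hU⟩ ≤ P := le_of_mem_associatedPrimes_quotient _ P hP
      obtain ⟨z, hzU, hzP⟩ := exists_point_of_le 𝓙 hU P hJP
      have hass := isAssociatedPrime_stalk_subscheme 𝓙 hU z hzU (hzP ▸ hP)
      have hmax := h1 z hass
      have hl := h2 z hmax
      have hzS : 𝓙.subschemeι z ∈ S := by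
        have hpos' : 0 < Module.length (𝓙.subscheme.presheaf.stalk z)
          (𝓙.subscheme.presheaf.stalk z) := Module.length_pos
        rw [hl] at hpos'
        intro h0
        change W (𝓙.subschemeι z) = 0 at h0
        rw [h0] at hpos'
        simp at hpos'
      have h5 := hV1 _ hzS hzU
      have h6 := (mem_cycIdeal_iff S hfin n hn ⟨U, hU⟩ a).mp ha _ hzS hzU
      rw [← h5] at h6
      letI := X.presheaf.algebra_section_stalk ⟨𝓙.subschemeι z, hzU⟩
      haveI := hU.isLocalization_stalk ⟨𝓙.subschemeι z, hzU⟩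
      obtain ⟨s, hs, hsa⟩ := (IsLocalization.algebraMap_mem_map_algebraMap_iff
        (hU.primeIdealOf ⟨𝓙.subschemeι z, hzU⟩).asIdeal.primeCompl
        (X.presheaf.stalk (𝓙.subschemeι z)) (𝓙.ideal ⟨U, hU⟩) a).mp h6
      apply hs
      rw [hzP]
      apply hle
      rw [Submodule.mem_colon_singleton, Submodule.mem_bot, Algebra.smul_def,
        Ideal.Quotient.algebraMap_eq, ← map_mul, Ideal.Quotient.eq_zero_iff_mem]
      exact hsa

end Groth.Agent.Lib.Helper20.CycSub
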