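import Groth.Prelude.Def_CAlg
import Mathlib.RingTheory.Regular.RegularSequence

/-!
# Depth one criterion for Noetherian local rings (helper20), for `LocCoh.depth`
-/

set_option autoImplicit false
universe u
open nonZeroDivisors

namespace Groth.Agent.Lib.Helper20.DepthOne

theorem isSMulRegular_of_mem_nonZeroDivisors {A : Type*} [CommRing A] {b : A} (hb : b ∈ A⁰) :
    IsSMulRegular A b := by
  intro x y hxy
  exact (mul_cancel_left_mem_nonZeroDivisors hb).1 hxy

/-- no regular sequence of length two in the maximal ideal if `m c ⊆ (b)`, `c ∉ (b)`, `b` a nonzerodivisor. -/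
theorem not_isWeaklyRegular_cons_cons {A : Type u} [CommRing A] [IsLocalRing A] (b c : A) (hb : b ∈ A⁰)
    (hc : c ∉ Ideal.span {b})
    (hmc : ∀ r ∈ IsLocalRing.maximalIdeal A, r * c ∈ Ideal.span {b})
    (r1 r2 : A) (rs : List A) (h1 : r1 ∈ IsLocalRing.maximalIdeal A)
    (h2 : r2 ∈ IsLocalRing.maximalIdeal A)
    (hreg : RingTheory.Sequence.IsWeaklyRegular A (r1 :: r2 :: rs)) : False := by
  rw [RingTheory.Sequence.isWeaklyRegular_cons_iff] at hreg
  obtain ⟨hr1, hreg2⟩ := hreg
  rw [RingTheory.Sequence.isWeaklyRegular_cons_iff] at hreg2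
  obtain ⟨hr2, -⟩ := hreg2
  obtain ⟨c1, hc1⟩ := Ideal.mem_span_singleton'.1 (hmc r1 h1)
  obtain ⟨c2, hc2⟩ := Ideal.mem_span_singleton'.1 (hmc r2 h2)
  have h3 : r2 * c1 = r1 * c2 := by
    apply (mul_cancel_left_mem_nonZeroDivisors hb).1
    calc b * (r2 * c1) = r2 * (c1 * b) := by ring
      _ = r2 * (r1 * c) := by rw [hc1]
      _ = r1 * (r2 * c) := by ring
      _ = r1 * (c2 * b) := by rw [hc2]
      _ = b * (r1 * c2) := by ring
  have h4 : r2 • (Submodule.Quotient.mk c1 : QuotSMulTop r1 A) = r2 • (0 : QuotSMulTop r1 A) := by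
    rw [smul_zero, ← Submodule.Quotient.mk_smul, Submodule.Quotient.mk_eq_zero, smul_eq_mul, h3]
    exact Submodule.smul_mem_pointwise_smul _ _ _ Submodule.mem_top
  have h5 : (Submodule.Quotient.mk c1 : QuotSMulTop r1 A) = 0 := hr2 h4
  rw [Submodule.Quotient.mk_eq_zero] at h5
  obtain ⟨d, -, hd⟩ := (Submodule.mem_smul_pointwise_iff_exists _ _ _).1 h5
  have h6 : r1 • c = r1 • (b * d) := by
    rw [smul_eq_mul, smul_eq_mul, ← hc1, ← hd, smul_eq_mul]
    ring
  have h7 : c = b * d := hr1 h6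
  exact hc (Ideal.mem_span_singleton'.2 ⟨d, by rw [h7, mul_comm]⟩)

theorem depth_eq_one {A : Type u} [CommRing A] [IsLocalRing A] (b c : A) (hb : b ∈ A⁰)
    (hbm : b ∈ IsLocalRing.maximalIdeal A) (hc : c ∉ Ideal.span {b})
    (hmc : ∀ r ∈ IsLocalRing.maximalIdeal A, r * c ∈ Ideal.span {b}) :
    LocCoh.depth A A = 1 := by
  unfold LocCoh.depth LocCoh.idealDepth
  have hne : ¬ (IsLocalRing.maximalIdeal A • (⊤ : Submodule A A) = ⊤) := by
    rw [smul_eq_mul, Ideal.mul_top]
    exact (IsLocalRing.maximalIdeal.isMaximal A).ne_top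
  rw [if_neg hne]
  apply le_antisymm
  · refine iSup₂_le fun rs hrs => ?_
    match rs, hrs with
    | [], _ => simp
    | [_], _ => simp
    | r1 :: r2 :: rs, hrs =>
      exact (not_isWeaklyRegular_cons_cons b c hb hc hmc r1 r2 rs (hrs.2 r1 (by simp))
        (hrs.2 r2 (by simp)) hrs.1).elim
  · refine le_iSup₂_of_le [b] ⟨?_, ?_⟩ ?_
    · exact RingTheory.Sequence.IsWeaklyRegular.cons (isSMulRegular_of_mem_nonZeroDivisors hb)
        (RingTheory.Sequence.IsWeaklyRegular.nil _ _)
    · intro r hr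
      rw [List.mem_singleton] at hr
      exact hr ▸ hbm
    · simp

/-- depth one criterion: `a ∉ (b)` but a power of every element of the maximal ideal multiplies `a` into `(b)`. -/
theorem depth_eq_one_of_colon {A : Type u} [CommRing A] [IsLocalRing A] [IsNoetherianRing A] (a b : A)
    (hb : b ∈ A⁰) (hab : a ∉ Ideal.span {b})
    (hrad : ∀ x ∈ IsLocalRing.maximalIdeal A, ∃ k : ℕ, x ^ k * a ∈ Ideal.span {b}) :
    LocCoh.depth A A = 1 := by
  classical
  let I : Ideal A := Submodule.colon (Ideal.span {b} : Submodule A A) {a}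
  have hI : ∀ e : A, e ∈ I ↔ e * a ∈ Ideal.span {b} := fun e => by
    simp only [I, Submodule.mem_colon_singleton, smul_eq_mul]
  have hle : IsLocalRing.maximalIdeal A ≤ I.radical := by
    intro x hx
    obtain ⟨k, hk⟩ := hrad x hx
    exact ⟨k, (hI _).2 hk⟩
  have hfg : (IsLocalRing.maximalIdeal A).FG := IsNoetherian.noetherian _
  have hex : ∃ N : ℕ, IsLocalRing.maximalIdeal A ^ N ≤ I :=
    Ideal.exists_pow_le_of_le_radical_of_fg hle hfg
  have h1I : (1 : A) ∉ I := by
    rw [hI, one_mul]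
    exact hab
  have hN0 : Nat.find hex ≠ 0 := by
    intro h0
    have := Nat.find_spec hex
    rw [h0, pow_zero, Ideal.one_eq_top] at this
    exact h1I (this Submodule.mem_top)
  obtain ⟨n, hn⟩ := Nat.exists_eq_succ_of_ne_zero hN0
  have hnot : ¬ IsLocalRing.maximalIdeal A ^ n ≤ I :=
    Nat.find_min hex (by rw [hn]; exact Nat.lt_succ_self n)
  obtain ⟨e, hem, heI⟩ := SetLike.not_le_iff_exists.1 hnot
  have hspec : IsLocalRing.maximalIdeal A ^ (n + 1) ≤ I := by
    have := Nat.find_spec hex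
    rwa [hn] at this
  have hbm : b ∈ IsLocalRing.maximalIdeal A := by
    by_contra hbu
    have hu : IsUnit b := by
      by_contra h
      exact hbu ((IsLocalRing.mem_maximalIdeal b).2 h)
    apply hab
    rw [Ideal.span_singleton_eq_top.2 hu]
    exact Submodule.mem_top
  refine depth_eq_one b (e * a) hb hbm (fun h => heI ((hI e).2 h)) ?_
  intro r hr
  rw [← mul_assoc]
  apply (hI _).1
  apply hspec
  rw [pow_succ']
  exact Ideal.mul_mem_mul hr hem

end Groth.Agent.Lib.Helper20.DepthOne
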