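import Mathlib

/-!
# Sections of free sheaves of modules over a site with terminal object (helper20)

`secOf`, `exists_eq_linearCombination` (sections of a finite free module over the terminal object),
`exists_kernel_elem`, `exists_finite_relations` (Noetherian global sections: kernel of a finite free
cover is generated, over the terminal object, by finitely many sections).
-/

set_option autoImplicit false
universe u v' u'
open CategoryTheory Limits Opposite

namespace Groth.Agent.Lib.Helper20.FreeSec

variable {C : Type u'} [Category.{v'} C] {J : GrothendieckTopology C} {S : Sheaf J RingCat.{u}}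
  (X₀ : Cᵒᵖ) (hX : IsInitial X₀)

theorem map_congr' (M : PresheafOfModules.{u} S.obj) {Y Z : Cᵒᵖ} {g g' : Y ⟶ Z} (h : g = g')
    (x : M.obj Y) : M.map g x = M.map g' x := by
  subst h; rfl

/-- the section determined by an element over the initial object of `Cᵒᵖ`. -/
noncomputable def secOf (M : SheafOfModules.{u} S) (x : M.val.obj X₀) : M.sections :=
  PresheafOfModules.sectionsMk (fun Y => M.val.map (hX.to Y) x) (by
    intro Y Z f
    rw [← PresheafOfModules.map_comp_apply]
    exact map_congr' M.val (hX.hom_ext _ _) x)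

theorem secOf_val (M : SheafOfModules.{u} S) (x : M.val.obj X₀) (Y : Cᵒᵖ) :
    (secOf X₀ hX M x).val Y = M.val.map (hX.to Y) x := rfl

theorem secOf_val_self (M : SheafOfModules.{u} S) (x : M.val.obj X₀) :
    (secOf X₀ hX M x).val X₀ = x := by
  rw [secOf_val]
  have : hX.to X₀ = 𝟙 X₀ := hX.hom_ext _ _
  rw [this, PresheafOfModules.map_id]
  rfl

theorem eq_secOf (M : SheafOfModules.{u} S) (s : M.sections) :
    s = secOf X₀ hX M (s.val X₀) := by
  ext Y
  rw [secOf_val]
  exact (PresheafOfModules.sections_property s (hX.to Y)).symm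

theorem sectionsMap_secOf {M N : SheafOfModules.{u} S} (f : M ⟶ N) (x : M.val.obj X₀) :
    SheafOfModules.sectionsMap f (secOf X₀ hX M x) = secOf X₀ hX N (f.val.app X₀ x) := by
  rw [eq_secOf X₀ hX N (SheafOfModules.sectionsMap f (secOf X₀ hX M x))]
  congr 1
  change f.val.app X₀ ((secOf X₀ hX M x).val X₀) = _
  rw [secOf_val_self]

section free

variable [HasSheafify J AddCommGrpCat.{u}] [J.WEqualsLocallyBijective AddCommGrpCat.{u}]
  (I₀ : Type u)

open Classical in
/-- the projections of a free module. -/
noncomputable def proj (k : I₀) : SheafOfModules.free (R := S) I₀ ⟶ SheafOfModules.unit S :=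
  Sigma.desc (f := fun _ : I₀ => SheafOfModules.unit S) (fun j => if j = k then 𝟙 _ else 0)

open Classical in
theorem ιFree_proj (j k : I₀) :
    SheafOfModules.ιFree (R := S) j ≫ proj I₀ k = if j = k then 𝟙 _ else 0 :=
  Sigma.ι_desc (f := fun _ : I₀ => SheafOfModules.unit S) (fun j => if j = k then 𝟙 _ else 0) j

theorem free_hom_ext {M : SheafOfModules.{u} S} (f g : SheafOfModules.free (R := S) I₀ ⟶ M)
    (h : ∀ j, SheafOfModules.ιFree j ≫ f = SheafOfModules.ιFree j ≫ g) : f = g :=
  Sigma.hom_ext (f := fun _ : I₀ => SheafOfModules.unit S) f g h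

theorem sum_proj_ιFree [Fintype I₀] :
    ∑ k, proj (S := S) I₀ k ≫ SheafOfModules.ιFree k = 𝟙 (SheafOfModules.free (R := S) I₀) := by
  classical
  refine free_hom_ext I₀ _ _ (fun j => ?_)
  rw [Preadditive.comp_sum, Category.comp_id]
  simp only [← Category.assoc, ιFree_proj]
  rw [Finset.sum_eq_single j]
  · simp
  · intro b _ hb
    rw [if_neg (Ne.symm hb), zero_comp]
  · intro h; exact absurd (Finset.mem_univ j) h

/-- value of a section at `X₀`, as an element of the module. -/
abbrev ev {M : SheafOfModules.{u} S} (s : M.sections) : M.val.obj X₀ := s.val X₀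

theorem app_sum {M N : SheafOfModules.{u} S} {ι : Type*} (t : Finset ι) (f : ι → (M ⟶ N))
    (x : M.val.obj X₀) :
    (∑ k ∈ t, f k).val.app X₀ x = ∑ k ∈ t, (f k).val.app X₀ x := by
  classical
  induction t using Finset.induction_on with
  | empty => rfl
  | insert a t ha ih =>
    rw [Finset.sum_insert ha, Finset.sum_insert ha, ← ih]
    rfl

/-- elements of the unit module are elements of the ring. -/
def ofUnit (c : (SheafOfModules.unit S).val.obj X₀) : S.obj.obj X₀ := c

/-- elements of the ring are elements of the unit module. -/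
def toUnit (c : S.obj.obj X₀) : (SheafOfModules.unit S).val.obj X₀ := c

theorem ιFree_app_one (k : I₀) :
    (SheafOfModules.ιFree (R := S) k).val.app X₀ (toUnit X₀ (1 : S.obj.obj X₀)) =
      ev X₀ (SheafOfModules.freeSection (R := S) k) := by
  change _ = ((SheafOfModules.free (R := S) I₀).unitHomEquiv (SheafOfModules.ιFree k ≫ 𝟙 _)).val X₀
  rw [SheafOfModules.unitHomEquiv_apply_coe, Category.comp_id]
  rfl

theorem ιFree_app (k : I₀) (c : (SheafOfModules.unit S).val.obj X₀) :
    (SheafOfModules.ιFree (R := S) k).val.app X₀ c =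
      ofUnit X₀ c • ev X₀ (SheafOfModules.freeSection (R := S) k) := by
  rw [← ιFree_app_one]
  have h : c = ofUnit X₀ c • toUnit X₀ (1 : S.obj.obj X₀) := by
    change c = ofUnit X₀ c * (1 : S.obj.obj X₀)
    rw [mul_one]; rfl
  conv_lhs => rw [h]
  exact ((SheafOfModules.ιFree (R := S) k).val.app X₀).hom.map_smul (ofUnit X₀ c) _

theorem exists_eq_linearCombination [Finite I₀]
    (x : (SheafOfModules.free (R := S) I₀).val.obj X₀) :
    ∃ c : I₀ →₀ S.obj.obj X₀, x = Finsupp.linearCombination (S.obj.obj X₀)
      (fun k => ev X₀ (SheafOfModules.freeSection (R := S) k)) c := by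
  classical
  haveI := Fintype.ofFinite I₀
  refine ⟨Finsupp.equivFunOnFinite.symm
    (fun k => ofUnit X₀ ((proj (S := S) I₀ k).val.app X₀ x)), ?_⟩
  have h1 : x = (∑ k, proj (S := S) I₀ k ≫ SheafOfModules.ιFree k).val.app X₀ x := by
    rw [sum_proj_ιFree]; rfl
  rw [Finsupp.linearCombination_apply, Finsupp.sum_fintype]
  · conv_lhs => rw [h1, app_sum]
    refine Finset.sum_congr rfl (fun k _ => ?_)
    rw [Finsupp.coe_equivFunOnFinite_symm, ← ιFree_app]
    rfl
  · intro i; exact zero_smul _ _

variable {I₀}

theorem freeHomEquiv_symm_app_linearCombination {M : SheafOfModules.{u} S} (t : I₀ → M.sections)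
    (c : I₀ →₀ S.obj.obj X₀) :
    (M.freeHomEquiv.symm t).val.app X₀ (Finsupp.linearCombination (S.obj.obj X₀)
      (fun k => ev X₀ (SheafOfModules.freeSection (R := S) k)) c) =
    Finsupp.linearCombination (S.obj.obj X₀) (fun k => ev X₀ (t k)) c := by
  have h := LinearMap.map_finsupp_linearCombination ((M.freeHomEquiv.symm t).val.app X₀).hom
    (g := fun k => ev X₀ (SheafOfModules.freeSection (R := S) k)) c
  refine h.trans ?_
  congr 2
  funext k
  change ev X₀ (SheafOfModules.sectionsMap (M.freeHomEquiv.symm t)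
    (SheafOfModules.freeSection k)) = _
  rw [SheafOfModules.sectionsMap_freeHomEquiv_symm_freeSection]

theorem unitHomEquiv_symm_eq_zero {M : SheafOfModules.{u} S} (s : M.sections)
    (hs : ∀ Y, s.val Y = 0) : M.unitHomEquiv.symm s = 0 := by
  apply M.unitHomEquiv.injective
  rw [Equiv.apply_symm_apply]
  ext Y
  rw [hs Y, SheafOfModules.unitHomEquiv_apply_coe]
  rfl

include hX in
/-- elements of the kernel. -/
theorem exists_kernel_elem {M N : SheafOfModules.{u} S} (π : M ⟶ N) (x : M.val.obj X₀)
    (hx : π.val.app X₀ x = 0) :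
    ∃ r : (kernel π).sections, (kernel.ι π).val.app X₀ (ev X₀ r) = x := by
  let u : SheafOfModules.unit S ⟶ M := M.unitHomEquiv.symm (secOf X₀ hX M x)
  have hu : u ≫ π = 0 := by
    rw [SheafOfModules.unitHomEquiv_symm_comp, sectionsMap_secOf, hx]
    refine unitHomEquiv_symm_eq_zero _ (fun Y => ?_)
    rw [secOf_val, map_zero]
    rfl
  refine ⟨(kernel π).unitHomEquiv (kernel.lift π u hu), ?_⟩
  change ev X₀ (SheafOfModules.sectionsMap (kernel.ι π)
    ((kernel π).unitHomEquiv (kernel.lift π u hu))) = x
  rw [← SheafOfModules.unitHomEquiv_comp_apply, kernel.lift_ι, Equiv.apply_symm_apply]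
  exact secOf_val_self X₀ hX M x

theorem injective_app_of_mono {M N : SheafOfModules.{u} S} (f : M ⟶ N) [Mono f] :
    Function.Injective (f.val.app X₀) := by
  haveI : Mono ((SheafOfModules.evaluation S X₀).map f) := inferInstance
  exact (ModuleCat.mono_iff_injective _).1 this

include hX in
/-- over a Noetherian ring of global sections, the kernel of a finite free cover is generated by finitely
many sections, at the level of sections over the terminal object. -/
theorem exists_finite_relations [IsNoetherianRing (S.obj.obj X₀)] [Finite I₀]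
    {M : SheafOfModules.{u} S} (t : I₀ → M.sections) :
    ∃ (ι₂ : Type u) (_ : Finite ι₂) (r : ι₂ → (kernel (M.freeHomEquiv.symm t)).sections),
      Function.Surjective
        (((kernel (M.freeHomEquiv.symm t)).freeHomEquiv.symm r).val.app X₀) := by
  classical
  set π := M.freeHomEquiv.symm t with hπ
  let E := Finsupp.linearCombination (S.obj.obj X₀)
    (fun k : I₀ => ev X₀ (SheafOfModules.freeSection (R := S) k))
  let p := Finsupp.linearCombination (S.obj.obj X₀) (fun k => ev X₀ (t k))
  have hπE : ∀ c, π.val.app X₀ (E c) = p c := fun c =>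
    freeHomEquiv_symm_app_linearCombination X₀ t c
  haveI : IsNoetherian (S.obj.obj X₀) (I₀ →₀ S.obj.obj X₀) :=
    isNoetherian_of_linearEquiv (Finsupp.linearEquivFunOnFinite (S.obj.obj X₀) (S.obj.obj X₀) I₀).symm
  obtain ⟨G, hG⟩ := IsNoetherian.noetherian (LinearMap.ker p)
  have hmem : ∀ g : (↑G : Set (I₀ →₀ S.obj.obj X₀)), π.val.app X₀ (E g.1) = 0 := by
    intro g
    rw [hπE]
    have : g.1 ∈ LinearMap.ker p := by rw [← hG]; exact Submodule.subset_span g.2
    exact this
  choose r hr using fun g => exists_kernel_elem X₀ hX π (E g.1) (hmem g)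
  refine ⟨(↑G : Set (I₀ →₀ S.obj.obj X₀)), G.finite_toSet, r, fun y => ?_⟩
  set x := (kernel.ι π).val.app X₀ y with hxdef
  have hx : π.val.app X₀ x = 0 := by
    have h0 : (kernel.ι π ≫ π).val.app X₀ y = 0 := by
      rw [kernel.condition]; rfl
    exact h0
  obtain ⟨c, hc⟩ := exists_eq_linearCombination X₀ I₀ x
  have hcL : c ∈ LinearMap.ker p := by
    change p c = 0
    rw [← hπE]
    change π.val.app X₀ (Finsupp.linearCombination _ _ c) = 0
    rw [← hc]; exact hx
  rw [← hG, Finsupp.mem_span_iff_linearCombination] at hcL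
  obtain ⟨d, hd⟩ := hcL
  refine ⟨Finsupp.linearCombination (S.obj.obj X₀)
    (fun g => ev X₀ (SheafOfModules.freeSection (R := S) g)) d, ?_⟩
  rw [freeHomEquiv_symm_app_linearCombination]
  apply injective_app_of_mono X₀ (kernel.ι π)
  rw [← hxdef]
  have h1 := LinearMap.map_finsupp_linearCombination ((kernel.ι π).val.app X₀).hom
    (g := fun g => ev X₀ (r g)) d
  refine h1.trans ?_
  have h2 : (((kernel.ι π).val.app X₀).hom ∘ fun g => ev X₀ (r g)) = fun g => E g.1 := by
    funext g; exact hr g
  rw [h2]
  have h3 := LinearMap.map_finsupp_linearCombination E (g := Subtype.val) d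
  rw [hd] at h3
  exact h3.symm.trans hc.symm

end free

end Groth.Agent.Lib.Helper20.FreeSec
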