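import Mathlib
import Groth.Prelude.Def_RelSpec2
import Groth.Agent.Lib.Helper20QCohAlg
import Groth.Agent.Lib.Helper18DirImgSigma
import Groth.Agent.S8306
import Groth.Agent.Lib.Helper20FreeSec
import Groth.Agent.Lib.Helper20OmegaAff

set_option autoImplicit false
universe u
open CategoryTheory Limits AlgebraicGeometry TopologicalSpace Opposite

namespace Groth.Agent.Lib.Helper20.DirImgAdj

open Groth.Agent.Lib.Helper20.QCohAlg Groth.Agent.Lib.Helper20.RestrictScalars

section abstract

variable {𝒜 𝒞 : Type*} [Category 𝒜] [Category 𝒞] [Abelian 𝒜] [Abelian 𝒞]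

/-- a functor preserving the kernel of `q` and the two epimorphisms attached to the cokernel `q` of `a`
preserves that cokernel. -/
noncomputable def isColimitMapCokernelCofork (R : 𝒞 ⥤ 𝒜) [R.PreservesZeroMorphisms]
    {N₁ N₂ Q : 𝒞} (a : N₁ ⟶ N₂) (q : N₂ ⟶ Q) (w : a ≫ q = 0)
    [PreservesLimit (parallelPair q 0) R]
    (h1 : Epi (R.map q)) (h2 : Epi (R.map (kernel.lift q a w))) :
    IsColimit (CokernelCofork.ofπ (R.map q)
      (by rw [← R.map_comp, w, R.map_zero] : R.map a ≫ R.map q = 0)) := by
  have w' : R.map a ≫ R.map q = 0 := by rw [← R.map_comp, w, R.map_zero]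
  let RS : ShortComplex 𝒜 := ShortComplex.mk (R.map a) (R.map q) w'
  have hex : RS.Exact := by
    rw [ShortComplex.exact_iff_epi_kernel_lift]
    have e : kernel.lift (R.map q) (R.map a) w' =
        R.map (kernel.lift q a w) ≫ kernelComparison q R :=
      (map_lift_kernelComparison q R w).symm
    change Epi (kernel.lift (R.map q) (R.map a) w')
    rw [e]
    haveI := h2
    infer_instance
  haveI : Epi RS.g := h1
  exact hex.gIsCokernel

theorem epi_kernel_lift_of_isColimit {N₁ N₂ Q : 𝒞} (a : N₁ ⟶ N₂) (q : N₂ ⟶ Q) (w : a ≫ q = 0)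
    (hq : IsColimit (CokernelCofork.ofπ q w)) : Epi (kernel.lift q a w) := by
  let S : ShortComplex 𝒞 := ShortComplex.mk a q w
  have hex : S.Exact := ShortComplex.exact_of_g_is_cokernel S hq
  rw [ShortComplex.exact_iff_epi_kernel_lift] at hex
  exact hex

theorem isIso_of_cokernel_comparison {A B M A' B' M' : 𝒜}
    (r : A ⟶ B) (p : B ⟶ M) (w : r ≫ p = 0) (hp : IsColimit (CokernelCofork.ofπ p w))
    (r' : A' ⟶ B') (p' : B' ⟶ M') (w' : r' ≫ p' = 0) (hp' : IsColimit (CokernelCofork.ofπ p' w'))
    (α : A ⟶ A') (β : B ⟶ B') (γ : M ⟶ M') (hα : IsIso α) (hβ : IsIso β)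
    (h1 : r ≫ β = α ≫ r') (h2 : p ≫ γ = β ≫ p') : IsIso γ := by
  have hw : r' ≫ (inv β ≫ p) = 0 := by
    have : r' = inv α ≫ r ≫ β := by rw [h1, IsIso.inv_hom_id_assoc]
    rw [this]
    simp [w]
  let ψ : M' ⟶ M := hp'.desc (CokernelCofork.ofπ (inv β ≫ p) hw)
  have hψ : p' ≫ ψ = inv β ≫ p := hp'.fac (CokernelCofork.ofπ (inv β ≫ p) hw) WalkingParallelPair.one
  haveI : Epi p := epi_of_isColimit_cofork hp
  haveI : Epi p' := epi_of_isColimit_cofork hp'
  refine ⟨ψ, ?_, ?_⟩
  · rw [← cancel_epi p, ← Category.assoc, h2, Category.assoc, hψ]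
    simp
  · rw [← cancel_epi p', ← Category.assoc, hψ, Category.assoc, h2]
    simp

end abstract

section globalPres

open Groth.Agent.Lib.Helper23.QCohLocal

variable {X : Scheme.{u}} [IsAffine X] (B : Sheaf (Opens.grothendieckTopology X) CommRingCat.{u})
  (φ : X.sheaf ⟶ B)

/-- on an affine scheme, a `B`-module which is quasi-coherent over `O_X` has a global presentation. -/
theorem nonempty_presentation_of_isQuasicoherent_ρ (hB : (modOf B φ).IsQuasicoherent)
    (F : SheafOfModules.{u} (RB B)) (hF : ((ρ B φ).obj F).IsQuasicoherent) :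
    Nonempty F.Presentation := by
  haveI := hF
  haveI : PreservesColimitsOfSize.{u, u} (ρ B φ) :=
    ⟨fun {K} _ => restrictScalars_preservesColimitsOfShape.{u} (αB B φ) K⟩
  haveI : PreservesFiniteLimits (ρ B φ) := restrictScalars_preservesFiniteLimits.{u} (αB B φ)
  obtain ⟨P₀⟩ := nonempty_presentation_of_isAffine ((ρ B φ).obj F)
  let gens := generatingSectionsOfRestrictScalars (αB B φ) F P₀.generators
  have h2 : ((ρ B φ).obj (SheafOfModules.free gens.I)).IsQuasicoherent :=
    isQuasicoherent_map_free (ρ B φ) hB gens.I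
  haveI : (ρ B φ).PreservesZeroMorphisms := inferInstance
  have e : (ρ B φ).obj (kernel gens.π) ≅ kernel ((ρ B φ).map gens.π) :=
    PreservesKernel.iso (ρ B φ) gens.π
  have h3 : ((ρ B φ).obj (kernel gens.π)).IsQuasicoherent := by
    haveI := h2
    exact qc_of_iso e.symm (isQuasicoherent_kernel ((ρ B φ).map gens.π))
  haveI := h3
  obtain ⟨P₁⟩ := nonempty_presentation_of_isAffine ((ρ B φ).obj (kernel gens.π))
  exact ⟨{ generators := gens
           relations := generatingSectionsOfRestrictScalars (αB B φ) (kernel gens.π)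
              P₁.generators }⟩

end globalPres

section setup

variable {X S : Scheme.{u}} (f : X ⟶ S) [IsAffineHom f]

noncomputable abbrev Bq := RelSpec.QCAlg.directImage f
noncomputable abbrev B' : Sheaf (Opens.grothendieckTopology S) CommRingCat.{u} :=
  ⟨(Bq f).presheaf, (Bq f).isSheaf⟩
noncomputable abbrev φ' : S.sheaf ⟶ B' f := ⟨(Bq f).str⟩

/-- the identity, as a morphism of sheaves of rings `f_* O_X ⟶ f_* O_X`. -/
noncomputable def φR : RB (B' f) ⟶
    ((Opens.map f.base).sheafPushforwardContinuous RingCat.{u} _ _).obj X.ringCatSheaf :=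
  ⟨𝟙 _⟩

/-- the direct image as a pushforward of sheaves of modules (this is `AMod.dirImg f`). -/
noncomputable abbrev R : X.Modules ⥤ SheafOfModules.{u} (RB (B' f)) :=
  SheafOfModules.pushforward.{u} (φR f)

theorem R_eq : R f = AMod.dirImg f := rfl

/-- the left adjoint of the direct image. -/
noncomputable abbrev L : SheafOfModules.{u} (RB (B' f)) ⥤ X.Modules :=
  SheafOfModules.pullback.{u} (φR f)

noncomputable def adj : L f ⊣ R f := SheafOfModules.pullbackPushforwardAdjunction.{u} (φR f)

instance : PreservesColimitsOfSize.{u, u} (L f) := (adj f).leftAdjoint_preservesColimits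

instance : PreservesLimitsOfSize.{u, u} (R f) := (adj f).rightAdjoint_preservesLimits

theorem final_map : (Opens.map f.base).Final := final_of_representablyFlat (Opens.map f.base)

theorem isIso_pullbackObjUnitToUnit : IsIso (SheafOfModules.pullbackObjUnitToUnit.{u} (φR f)) :=
  haveI := final_map f
  SheafOfModules.instIsIsoPullbackObjUnitToUnitOfFinal (φR f)

/-- `L` of the unit is the unit. -/
noncomputable def unitIso : (L f).obj (SheafOfModules.unit _) ≅ SheafOfModules.unit _ :=
  @asIso _ _ _ _ (SheafOfModules.pullbackObjUnitToUnit.{u} (φR f)) (isIso_pullbackObjUnitToUnit f)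

/-- the canonical map `f_* O_X → R O_X` (the identity). -/
noncomputable abbrev uR : SheafOfModules.unit (RB (B' f)) ⟶ (R f).obj (SheafOfModules.unit X.ringCatSheaf) :=
  SheafOfModules.unitToPushforwardObjUnit.{u} (φR f)

theorem isIso_uR : IsIso (uR f) := by
  have : uR f = (Iso.refl (SheafOfModules.unit (RB (B' f)))).hom := by
    ext U
    rfl
  rw [this]
  infer_instance

/-- `L` of a free module is free. -/
noncomputable def freeIso (I : Type u) :
    (L f).obj (SheafOfModules.free I) ≅ SheafOfModules.free I :=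
  haveI := final_map f
  SheafOfModules.pullbackObjFreeIso.{u} (φR f) I

theorem map_ιFree_freeIso_hom {I : Type u} (i : I) :
    (L f).map (SheafOfModules.ιFree i) ≫ (freeIso f I).hom =
      SheafOfModules.pullbackObjUnitToUnit.{u} (φR f) ≫ SheafOfModules.ιFree i :=
  haveI := final_map f
  SheafOfModules.pullback_map_ιFree_comp_pullbackObjFreeIso_hom (φR f) i

theorem unit_comp_map_pullbackObjUnitToUnit :
    (adj f).unit.app (SheafOfModules.unit _) ≫
      (R f).map (SheafOfModules.pullbackObjUnitToUnit.{u} (φR f)) = uR f := by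
  have h := SheafOfModules.pullbackPushforwardAdjunction_homEquiv_pullbackObjUnitToUnit.{u} (φR f)
  rw [Adjunction.homEquiv_unit] at h
  exact h

theorem unit_free (I : Type u) :
    (adj f).unit.app (SheafOfModules.free I) ≫ (R f).map (freeIso f I).hom =
      SheafOfModules.mapFree (R f) I (uR f) := by
  refine Groth.Agent.Lib.Helper20.FreeSec.free_hom_ext I _ _ (fun j => ?_)
  rw [SheafOfModules.ιFree_mapFree]
  have hnat := (adj f).unit.naturality (SheafOfModules.ιFree (R := RB (B' f)) j)
  simp only [Functor.id_obj, Functor.id_map, Functor.comp_obj, Functor.comp_map] at hnat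
  have e0 : (R f).map ((L f).map (SheafOfModules.ιFree j)) ≫ (R f).map (freeIso f I).hom =
      (R f).map (SheafOfModules.pullbackObjUnitToUnit.{u} (φR f)) ≫
        (R f).map (SheafOfModules.ιFree j) :=
    ((R f).map_comp _ _).symm.trans
      ((congrArg (R f).map (map_ιFree_freeIso_hom f j)).trans ((R f).map_comp _ _))
  rw [← Category.assoc, hnat, Category.assoc, e0, ← Category.assoc,
    unit_comp_map_pullbackObjUnitToUnit]

theorem isIso_mapFree (I : Type u) : IsIso (SheafOfModules.mapFree (R f) I (uR f)) := by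
  haveI : IsIso (sigmaComparison (R f) (fun _ : I => SheafOfModules.unit X.ringCatSheaf)) :=
    Groth.Agent.Lib.Helper18.DirImgColim.isIso_sigmaComparison_dirImg f _
  have hpres : PreservesColimit (Discrete.functor fun _ : I => SheafOfModules.unit X.ringCatSheaf)
      (R f) := PreservesCoproduct.of_iso_comparison (R f) _
  haveI := isIso_uR f
  let e := (SheafOfModules.isColimitFreeCofan (R := RB (B' f)) I).coconePointsIsoOfNatIso
    (hpres.preserves (SheafOfModules.isColimitFreeCofan (R := X.ringCatSheaf) I)).some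
    (Discrete.natIso fun _ => asIso (uR f))
  have he : SheafOfModules.mapFree (R f) I (uR f) = e.hom := rfl
  rw [he]
  infer_instance

theorem isIso_unit_free (I : Type u) : IsIso ((adj f).unit.app (SheafOfModules.free I)) := by
  haveI := isIso_mapFree f I
  have h := unit_free f I
  haveI : IsIso ((adj f).unit.app (SheafOfModules.free I) ≫ (R f).map (freeIso f I).hom) := by
    rw [h]; infer_instance
  exact IsIso.of_isIso_comp_right _ ((R f).map (freeIso f I).hom)

theorem isQuasicoherent_free (I : Type u) :
    (SheafOfModules.free (R := X.ringCatSheaf) I).IsQuasicoherent :=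
  Groth.Agent.Lib.Helper23.QCohLocal.isQuasicoherent_colimit
    (Discrete.functor (fun _ : I => SheafOfModules.unit X.ringCatSheaf))
    (fun _ => Groth.Agent.Lib.Helper20.OmegaAff.isQuasicoherent_structureModule)

theorem isQuasicoherent_L_free (I : Type u) :
    ((L f).obj (SheafOfModules.free I)).IsQuasicoherent :=
  qc_of_iso (freeIso f I).symm (isQuasicoherent_free I)

theorem epi_R_map {F G : X.Modules} (hF : F.IsQuasicoherent) (hG : G.IsQuasicoherent) (v : F ⟶ G)
    [Epi v] : Epi ((R f).map v) :=
  Groth.Agent.S8306.result f F G hF hG v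

/-- the unit of the adjunction is an isomorphism on modules with a presentation. -/
theorem isIso_unit_of_presentation (M : SheafOfModules.{u} (RB (B' f))) (P : M.Presentation) :
    ((L f).obj M).IsQuasicoherent ∧ IsIso ((adj f).unit.app M) := by
  let r' : SheafOfModules.free P.relations.I ⟶ SheafOfModules.free P.generators.I :=
    (SheafOfModules.freeHomEquiv _).symm P.relations.s ≫ kernel.ι _
  let p : SheafOfModules.free P.generators.I ⟶ M := P.generators.π
  have w : r' ≫ p = 0 := by simp [r', p]
  have hP : IsColimit (CokernelCofork.ofπ p w) := P.isColimit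
  have wL : (L f).map r' ≫ (L f).map p = 0 := by rw [← (L f).map_comp, w, (L f).map_zero]
  have hL : IsColimit (CokernelCofork.ofπ ((L f).map p) wL) :=
    CokernelCofork.mapIsColimit _ hP (L f)
  haveI q1 := isQuasicoherent_L_free f P.relations.I
  haveI q2 := isQuasicoherent_L_free f P.generators.I
  have q3 : ((L f).obj M).IsQuasicoherent := by
    have e := hL.coconePointUniqueUpToIso (cokernelIsCokernel ((L f).map r'))
    exact qc_of_iso e.symm (Groth.Agent.Lib.Helper23.QCohLocal.isQuasicoherent_cokernel _)
  refine ⟨q3, ?_⟩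
  haveI := q3
  haveI : Epi ((L f).map p) := epi_of_isColimit_cofork hL
  haveI : Epi (kernel.lift ((L f).map p) ((L f).map r') wL) :=
    epi_kernel_lift_of_isColimit _ _ wL hL
  haveI : (kernel ((L f).map p)).IsQuasicoherent :=
    Groth.Agent.Lib.Helper23.QCohLocal.isQuasicoherent_kernel _
  have hRL := isColimitMapCokernelCofork (R f) ((L f).map r') ((L f).map p) wL
    (epi_R_map f q2 q3 _) (epi_R_map f q1 inferInstance _)
  exact isIso_of_cokernel_comparison r' p w hP _ _ _ hRL
    ((adj f).unit.app _) ((adj f).unit.app _) ((adj f).unit.app M)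
    (isIso_unit_free f P.relations.I) (isIso_unit_free f P.generators.I)
    ((adj f).unit.naturality r') ((adj f).unit.naturality p)

theorem isQuasicoherent_modOf : (modOf (B' f) (φ' f)).IsQuasicoherent :=
  haveI : (SheafOfModules.unit X.ringCatSheaf).IsQuasicoherent :=
    Groth.Agent.Lib.Helper20.OmegaAff.isQuasicoherent_structureModule
  Groth.Agent.Lib.Helper23.QCohLocal.isQuasicoherent_pushforward f
    (SheafOfModules.unit X.ringCatSheaf)

/-- **local theorem**: over an affine base, the left adjoint of the direct image sends modules which are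
quasi-coherent over `O_S` to quasi-coherent modules, and the unit is an isomorphism on them. -/
theorem local_main [IsAffine S] (M : SheafOfModules.{u} (RB (B' f)))
    (hM : ((ρ (B' f) (φ' f)).obj M).IsQuasicoherent) :
    ((L f).obj M).IsQuasicoherent ∧ IsIso ((adj f).unit.app M) := by
  obtain ⟨P⟩ := nonempty_presentation_of_isQuasicoherent_ρ (B' f) (φ' f)
    (isQuasicoherent_modOf f) M hM
  exact isIso_unit_of_presentation f M P

end setup

end Groth.Agent.Lib.Helper20.DirImgAdj
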