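import Mathlib
import Groth.Agent.Lib.Helper20DirImgAdj
import Groth.Agent.Lib.Helper20BaseChangeAbs
import Groth.Agent.Lib.Helper18DirImgColim

set_option autoImplicit false
universe u
open CategoryTheory Limits AlgebraicGeometry TopologicalSpace Opposite

namespace Groth.Agent.Lib.Helper20.DirImgBC

open Groth.Agent.Lib.Helper20.QCohAlg Groth.Agent.Lib.Helper20.RestrictScalars
  Groth.Agent.Lib.Helper20.DirImgAdj

variable {X S : Scheme.{u}} (f : X ⟶ S) [IsAffineHom f] (V : S.Opens)

instance : IsAffineHom (f ∣_ V) := IsZariskiLocalAtTarget.restrict (P := @IsAffineHom) ‹_› V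

/-- the ring map for the restriction functor on the base. -/
noncomputable def κNat : (B' (f ∣_ V)).obj ⟶ V.ι.opensFunctor.op ⋙ (B' f).obj where
  app W := X.presheaf.map (eqToHom (image_morphismRestrict_preimage f V W.unop).symm).op
  naturality W W' i := by
    change X.presheaf.map _ ≫ X.presheaf.map _ = X.presheaf.map _ ≫ X.presheaf.map _
    rw [← X.presheaf.map_comp, ← X.presheaf.map_comp]
    rfl

/-- the ring map for the restriction functor on the base, as a morphism of sheaves of rings. -/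
noncomputable def κ : RB (B' (f ∣_ V)) ⟶
    (V.ι.opensFunctor.sheafPushforwardContinuous RingCat.{u} _ _).obj (RB (B' f)) :=
  ⟨Functor.whiskerRight (κNat f V) (forget₂ CommRingCat RingCat)⟩

/-- restriction of `f_* O_X`-modules to `V`. -/
noncomputable def ρS : SheafOfModules.{u} (RB (B' f)) ⥤ SheafOfModules.{u} (RB (B' (f ∣_ V))) :=
  SheafOfModules.pushforward.{u} (F := V.ι.opensFunctor) (κ f V)

theorem le_aux (W : S.Opens) :
    (f ⁻¹ᵁ V).ι ''ᵁ ((f ∣_ V) ⁻¹ᵁ (V.ι ⁻¹ᵁ W)) ≤ f ⁻¹ᵁ W := by
  rw [image_morphismRestrict_preimage]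
  exact f.preimage_mono (V.ι.image_preimage_le W)

/-- the ring map for the extension functor on the base. -/
noncomputable def lNat : (B' f).obj ⟶ (Opens.map V.ι.base).op ⋙ (B' (f ∣_ V)).obj where
  app W := X.presheaf.map (homOfLE (le_aux f V W.unop)).op
  naturality W W' i := by
    change X.presheaf.map _ ≫ X.presheaf.map _ = X.presheaf.map _ ≫ X.presheaf.map _
    rw [← X.presheaf.map_comp, ← X.presheaf.map_comp]
    rfl

noncomputable def lam : RB (B' f) ⟶
    ((Opens.map V.ι.base).sheafPushforwardContinuous RingCat.{u} _ _).obj (RB (B' (f ∣_ V))) :=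
  ⟨Functor.whiskerRight (lNat f V) (forget₂ CommRingCat RingCat)⟩

/-- extension of `(f|_V)_* O`-modules from `V` to `S`. -/
noncomputable def jS : SheafOfModules.{u} (RB (B' (f ∣_ V))) ⥤ SheafOfModules.{u} (RB (B' f)) :=
  SheafOfModules.pushforward.{u} (F := Opens.map V.ι.base) (lam f V)

/-- the adjunction between the functors on opens. -/
noncomputable def adj₀ : V.ι.opensFunctor ⊣ Opens.map V.ι.base :=
  V.ι.isOpenEmbedding.isOpenMap.adjunction

/-- restriction is left adjoint to extension. -/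
noncomputable def aS : ρS f V ⊣ jS f V := by
  refine SheafOfModules.pushforwardPushforwardAdj (adj₀ V) (κ f V) (lam f V) ?_ ?_
  · ext W : 2
    change (forget₂ CommRingCat RingCat).map (X.presheaf.map _) =
      (forget₂ CommRingCat RingCat).map (X.presheaf.map _) ≫
        (forget₂ CommRingCat RingCat).map (X.presheaf.map _)
    rw [← Functor.map_comp, ← X.presheaf.map_comp]
    rfl
  · ext W : 2
    change (forget₂ CommRingCat RingCat).map (X.presheaf.map _) ≫
      (forget₂ CommRingCat RingCat).map (X.presheaf.map _) ≫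
        (forget₂ CommRingCat RingCat).map (X.presheaf.map _) = 𝟙 _
    rw [← Functor.map_comp, ← Functor.map_comp, ← X.presheaf.map_comp, ← X.presheaf.map_comp]
    refine Eq.trans (congrArg (forget₂ CommRingCat RingCat).map ?_)
      ((forget₂ CommRingCat RingCat).map_id _)
    exact Eq.trans (congrArg X.presheaf.map (Subsingleton.elim _ (𝟙 _))) (X.presheaf.map_id _)

theorem isBasis_range_id (T : Type*) [TopologicalSpace T] :
    Opens.IsBasis (Set.range (fun U : Opens T => U)) := by
  rw [Opens.isBasis_iff_nbhd]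
  intro U x hx
  exact ⟨U, ⟨U, rfl⟩, hx, le_rfl⟩

theorem isIso_unit₀ (U : (V : Scheme.{u}).Opens) : IsIso ((adj₀ V).unit.app U) :=
  ⟨homOfLE (le_of_eq (V.ι.preimage_image_eq U)), Subsingleton.elim _ _, Subsingleton.elim _ _⟩

instance isIso_aS_counit : IsIso (aS f V).counit := by
  refine @NatIso.isIso_of_isIso_app _ _ _ _ _ _ _ (fun N => ?_)
  refine Groth.Agent.Lib.Helper18.DirImgColim.isIso_of_bijective_on_basis _
    (fun U : (V : Scheme.{u}).Opens => U) (isBasis_range_id _) (fun U => ?_)
  haveI := isIso_unit₀ V U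
  have : IsIso (N.val.presheaf.map ((adj₀ V).unit.app U).op) := inferInstance
  exact ConcreteCategory.bijective_of_isIso (N.val.presheaf.map ((adj₀ V).unit.app U).op)

/-- the two ways of going from opens of `V` to opens of `X`. -/
noncomputable def natIso₁ : V.ι.opensFunctor ⋙ Opens.map f.base ≅
    Opens.map (f ∣_ V).base ⋙ (f ⁻¹ᵁ V).ι.opensFunctor :=
  NatIso.ofComponents (fun W => eqToIso (image_morphismRestrict_preimage f V W).symm)
    (by intros; apply Subsingleton.elim)

/-- restriction commutes with direct image. -/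
noncomputable def cIso : R f ⋙ ρS f V ≅
    Scheme.Modules.restrictFunctor (f ⁻¹ᵁ V).ι ⋙ R (f ∣_ V) := by
  haveI : (V.ι.opensFunctor ⋙ Opens.map f.base).IsContinuous
      (Opens.grothendieckTopology (V : Scheme.{u})) (Opens.grothendieckTopology X) :=
    Functor.isContinuous_comp _ _ _ (Opens.grothendieckTopology S) _
  haveI : (Opens.map (f ∣_ V).base ⋙ (f ⁻¹ᵁ V).ι.opensFunctor).IsContinuous
      (Opens.grothendieckTopology (V : Scheme.{u})) (Opens.grothendieckTopology X) :=
    Functor.isContinuous_comp _ _ _ (Opens.grothendieckTopology ((f ⁻¹ᵁ V : X.Opens) : Scheme.{u})) _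
  refine (SheafOfModules.pushforwardComp _ _) ≪≫ ?_ ≪≫ (SheafOfModules.pushforwardComp _ _).symm
  refine SheafOfModules.pushforwardCongr₂ _ (natIso₁ f V).symm ?_
  ext W : 3
  simp only [κ, κNat, φR, natIso₁, Scheme.Opens.ι_appIso]
  change (forget₂ CommRingCat RingCat).map (X.presheaf.map _) ≫ 𝟙 _ ≫
    (forget₂ CommRingCat RingCat).map (X.presheaf.map _) = 𝟙 _ ≫
      (forget₂ CommRingCat RingCat).map (𝟙 _)
  rw [Category.id_comp, Category.id_comp, (forget₂ CommRingCat RingCat).map_id,
    ← Functor.map_comp, ← X.presheaf.map_comp]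
  refine Eq.trans (congrArg (forget₂ CommRingCat RingCat).map ?_)
    ((forget₂ CommRingCat RingCat).map_id _)
  exact Eq.trans (congrArg X.presheaf.map (Subsingleton.elim _ (𝟙 _))) (X.presheaf.map_id _)

theorem preimage_eq (W : S.Opens) :
    (f ⁻¹ᵁ V).ι ⁻¹ᵁ (f ⁻¹ᵁ W) = (f ∣_ V) ⁻¹ᵁ (V.ι ⁻¹ᵁ W) := by
  rw [← Scheme.Hom.comp_preimage, ← Scheme.Hom.comp_preimage, morphismRestrict_ι]

/-- the two ways of going from opens of `S` to opens of `f⁻¹V`. -/
noncomputable def natIso₂ : Opens.map f.base ⋙ Opens.map (f ⁻¹ᵁ V).ι.base ≅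
    Opens.map V.ι.base ⋙ Opens.map (f ∣_ V).base :=
  NatIso.ofComponents (fun W => eqToIso (preimage_eq f V W))
    (by intros; apply Subsingleton.elim)

/-- extension commutes with direct image. -/
noncomputable def eIso : Scheme.Modules.pushforward (f ⁻¹ᵁ V).ι ⋙ R f ≅
    R (f ∣_ V) ⋙ jS f V := by
  haveI : (Opens.map f.base ⋙ Opens.map (f ⁻¹ᵁ V).ι.base).IsContinuous
      (Opens.grothendieckTopology S) (Opens.grothendieckTopology ((f ⁻¹ᵁ V : X.Opens) : Scheme.{u})) :=
    Functor.isContinuous_comp _ _ _ (Opens.grothendieckTopology X) _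
  haveI : (Opens.map V.ι.base ⋙ Opens.map (f ∣_ V).base).IsContinuous
      (Opens.grothendieckTopology S) (Opens.grothendieckTopology ((f ⁻¹ᵁ V : X.Opens) : Scheme.{u})) :=
    Functor.isContinuous_comp _ _ _ (Opens.grothendieckTopology (V : Scheme.{u})) _
  refine (SheafOfModules.pushforwardComp _ _) ≪≫ ?_ ≪≫ (SheafOfModules.pushforwardComp _ _).symm
  refine SheafOfModules.pushforwardCongr₂ _ (natIso₂ f V).symm ?_
  ext W : 3
  simp only [lam, lNat, φR, natIso₂]
  change 𝟙 _ ≫ (forget₂ CommRingCat RingCat).map ((f ⁻¹ᵁ V).ι.app _) ≫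
    (forget₂ CommRingCat RingCat).map (X.presheaf.map _) =
      (forget₂ CommRingCat RingCat).map (X.presheaf.map _) ≫ 𝟙 _
  rw [Scheme.Opens.ι_app, Category.id_comp, Category.comp_id, ← Functor.map_comp]
  refine congrArg (forget₂ CommRingCat RingCat).map ?_
  exact (X.presheaf.map_comp _ _).symm.trans (congrArg X.presheaf.map (Subsingleton.elim _ _))

/-- restriction on the base commutes with the forgetful functors to `O`-modules. -/
noncomputable def tIso : ρS f V ⋙ ρ (B' (f ∣_ V)) (φ' (f ∣_ V)) ≅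
    ρ (B' f) (φ' f) ⋙ Scheme.Modules.restrictFunctor V.ι := by
  haveI : (𝟭 (Opens (V : Scheme.{u})) ⋙ V.ι.opensFunctor).IsContinuous
      (Opens.grothendieckTopology (V : Scheme.{u})) (Opens.grothendieckTopology S) :=
    Functor.isContinuous_comp _ _ _ (Opens.grothendieckTopology (V : Scheme.{u})) _
  haveI : (V.ι.opensFunctor ⋙ 𝟭 (Opens S)).IsContinuous
      (Opens.grothendieckTopology (V : Scheme.{u})) (Opens.grothendieckTopology S) :=
    Functor.isContinuous_comp _ _ _ (Opens.grothendieckTopology S) _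
  refine (SheafOfModules.pushforwardComp (F := 𝟭 _) (G := V.ι.opensFunctor) _ _) ≪≫ ?_ ≪≫
    (SheafOfModules.pushforwardComp (F := V.ι.opensFunctor) (G := 𝟭 _) _ _).symm
  refine SheafOfModules.pushforwardCongr₂ _
    ((Functor.rightUnitor _) ≪≫ (Functor.leftUnitor _).symm) ?_
  ext W : 3
  change (forget₂ CommRingCat RingCat).map ((f ∣_ V).app _) ≫
    (forget₂ CommRingCat RingCat).map (X.presheaf.map _) ≫
      (forget₂ CommRingCat RingCat).map (X.presheaf.map _) =
    (forget₂ CommRingCat RingCat).map ((V.ι.appIso _).inv) ≫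
      (forget₂ CommRingCat RingCat).map (f.app _)
  rw [morphismRestrict_app, Scheme.Opens.ι_appIso, ← Functor.map_comp, ← Functor.map_comp,
    ← Functor.map_comp]
  refine congrArg (forget₂ CommRingCat RingCat).map ?_
  refine (Category.assoc _ _ _).trans ?_
  refine Eq.trans ?_ (Category.id_comp _).symm
  refine Eq.trans (congrArg (f.app _ ≫ ·) ?_) (Category.comp_id _)
  refine ((congrArg (X.presheaf.map _ ≫ ·) (X.presheaf.map_comp _ _).symm).trans
    (X.presheaf.map_comp _ _).symm).trans ?_
  exact Eq.trans (congrArg X.presheaf.map (Subsingleton.elim _ (𝟙 _))) (X.presheaf.map_id _)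

theorem bijective_app_of_isIso {T : Type u} [Category.{u} T] {J : GrothendieckTopology T}
    {R₀ : Sheaf J RingCat.{u}} {M N : SheafOfModules.{u} R₀} (φ : M ⟶ N) [IsIso φ] (U : Tᵒᵖ) :
    Function.Bijective (φ.val.app U).hom := by
  refine ⟨fun x y h => ?_, fun y => ⟨((inv φ).val.app U).hom y, ?_⟩⟩
  · have hx := congrArg (fun t : M ⟶ M => (t.val.app U).hom x) (IsIso.hom_inv_id φ)
    have hy := congrArg (fun t : M ⟶ M => (t.val.app U).hom y) (IsIso.hom_inv_id φ)
    change ((inv φ).val.app U).hom ((φ.val.app U).hom x) = x at hx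
    change ((inv φ).val.app U).hom ((φ.val.app U).hom y) = y at hy
    rw [← hx, ← hy, h]
  · exact congrArg (fun t : N ⟶ N => (t.val.app U).hom y) (IsIso.inv_hom_id φ)

/-- the restriction of `L M` to `f⁻¹V` and the local left adjoint. -/
noncomputable def θIso (M : SheafOfModules.{u} (RB (B' f))) :
    ((L f).obj M).restrict (f ⁻¹ᵁ V).ι ≅ (L (f ∣_ V)).obj ((ρS f V).obj M) :=
  (Groth.Agent.Lib.Helper20.BaseChangeAbs.θ (adj f) (adj (f ∣_ V)) (aS f V)
    (Scheme.Modules.restrictAdjunction (f ⁻¹ᵁ V).ι) (eIso f V)).app M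

/-- **main theorem**: for an affine morphism `f`, the left adjoint of the direct image sends modules which
are quasi-coherent over `O_S` to quasi-coherent modules, and the unit is an isomorphism on them. -/
theorem main (M : SheafOfModules.{u} (RB (B' f)))
    (hM : ((ρ (B' f) (φ' f)).obj M).IsQuasicoherent) :
    ((L f).obj M).IsQuasicoherent ∧ IsIso ((adj f).unit.app M) := by
  have key : ∀ V : S.affineOpens, ((L (f ∣_ V.1)).obj ((ρS f V.1).obj M)).IsQuasicoherent ∧
      IsIso ((adj (f ∣_ V.1)).unit.app ((ρS f V.1).obj M)) := by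
    intro V
    haveI : IsAffine ((V.1 : S.Opens) : Scheme.{u}) := V.2
    haveI := hM
    have hMV : ((ρ (B' (f ∣_ V.1)) (φ' (f ∣_ V.1))).obj ((ρS f V.1).obj M)).IsQuasicoherent :=
      qc_of_iso ((tIso f V.1).app M).symm
        (Scheme.Modules.isQuasicoherent_restrictFunctor V.1.ι _)
    exact local_main (f ∣_ V.1) _ hMV
  constructor
  · refine Groth.Agent.Lib.Helper23.FinType.isQuasicoherent_of_open_cover _
      (fun V : S.affineOpens => f ⁻¹ᵁ V.1) ?_ (fun V => ?_)
    · rw [IsOpenCover, eq_top_iff]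
      intro x _
      have hx : f.base x ∈ (⨆ V : S.affineOpens, (V : S.Opens)) := by
        rw [iSup_affineOpens_eq_top]; trivial
      obtain ⟨V, hV⟩ := Opens.mem_iSup.1 hx
      exact Opens.mem_iSup.2 ⟨V, hV⟩
    · exact qc_of_iso (θIso f V.1 M).symm (key V).1
  · refine Groth.Agent.Lib.Helper18.DirImgColim.isIso_of_bijective_on_basis _
      (fun V : S.affineOpens => V.1) ?_ (fun V => ?_)
    · rw [Subtype.range_coe]
      exact S.isBasis_affineOpens
    · haveI : IsIso ((ρS f V.1).map ((adj f).unit.app M)) :=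
        Groth.Agent.Lib.Helper20.BaseChangeAbs.isIso_map_unit (adj f) (adj (f ∣_ V.1)) (aS f V.1)
          (Scheme.Modules.restrictAdjunction (f ⁻¹ᵁ V.1).ι) (eIso f V.1) (cIso f V.1) M (key V).2
      have h := bijective_app_of_isIso ((ρS f V.1).map ((adj f).unit.app M)) (op ⊤)
      change Function.Bijective (((adj f).unit.app M).val.app (op (V.1.ι ''ᵁ ⊤))).hom at h
      rwa [Scheme.Opens.ι_image_top] at h

end Groth.Agent.Lib.Helper20.DirImgBC
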