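import Mathlib
import Groth.Prelude.Def_MeroDiv
import Groth.Agent.Lib.Helper20Kmod5
import Groth.Agent.Lib.Helper23SecTw6

set_option autoImplicit false
set_option linter.unusedSectionVars false
set_option linter.style.haveILetI false

universe u
open CategoryTheory CategoryTheory.Limits AlgebraicGeometry TopologicalSpace Opposite

namespace Groth.Agent.Lib.Helper20.DivFrame

open Mero Groth.Agent.Lib.Helper20.Kmod Groth.Agent.Lib.Helper20.Kmod5
open Groth.Agent.Lib.Helper23.SecTw Groth.Agent.Lib.Helper23.GenLocus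
  Groth.Agent.Lib.Helper23.Extend Groth.Agent.Lib.Helper6

variable {X : Scheme.{u}}

/-- restriction of units of `Γ(K_X, U)`. -/
noncomputable def resU {U V : X.Opens} (h : V ≤ U) (F : (Γ(kmod X, U))ˣ) : (Γ(kmod X, V))ˣ :=
  Units.map ((kring X).obj.map (homOfLE h).op).hom.toMonoidHom F

theorem resU_apply {U V : X.Opens} (h : V ≤ U) (F : (Γ(kmod X, U))ˣ) (y : V) :
    (resU h F : Γ(kmod X, V)).1 y = (F : Γ(kmod X, U)).1 ⟨y.1, h y.2⟩ := rfl

theorem resU_inv_apply {U V : X.Opens} (h : V ≤ U) (F : (Γ(kmod X, U))ˣ) (y : V) :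
    (↑(resU h F)⁻¹ : Γ(kmod X, V)).1 y = (↑F⁻¹ : Γ(kmod X, U)).1 ⟨y.1, h y.2⟩ := rfl

theorem germOf_resU {U V : X.Opens} (h : V ≤ U) (F : (Γ(kmod X, U))ˣ) (y : V) :
    germOf (resU h F) y = germOf F ⟨y.1, h y.2⟩ := by
  unfold germOf
  congr 1

theorem val_mul_inv_val {U : X.Opens} (F : (Γ(kmod X, U))ˣ) (y : U) :
    (F : Γ(kmod X, U)).1 y * (↑F⁻¹ : Γ(kmod X, U)).1 y = 1 := by
  rw [← kmod_mul_apply, Units.mul_inv, kmod_one_apply]

theorem inv_val_mul_val {U : X.Opens} (F : (Γ(kmod X, U))ˣ) (y : U) :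
    (↑F⁻¹ : Γ(kmod X, U)).1 y * (F : Γ(kmod X, U)).1 y = 1 := by
  rw [← kmod_mul_apply, Units.inv_mul, kmod_one_apply]

variable (D : Divisor X)

/-- the value of a local equation lies in the class of `D`: `DivCond` for the inverse. -/
theorem divCond_inv {U : X.Opens} (F : (Γ(kmod X, U))ˣ) (hF : ∀ y : U, D.1 y.1 = germOf F y)
    (y : U) : DivCond D y.1 ((↑F⁻¹ : Γ(kmod X, U)).1 y) := by
  intro g hg
  rw [hF y] at hg
  have h1 := QuotientGroup.eq.mp hg
  obtain ⟨w, hw⟩ := h1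
  have h2 := congrArg Units.val hw
  simp only [Units.val_mul, Units.coe_map] at h2
  refine ⟨w, ?_⟩
  refine Eq.trans h2 ?_
  congr 1


/-- the local generator `F⁻¹` of `O_X(D)` on an open where `D` is the class of `F`. -/
noncomputable def invSec {U : X.Opens} (F : (Γ(kmod X, U))ˣ)
    (hF : ∀ y : U, D.1 y.1 = germOf F y) : Γ(divMod D, U) :=
  (⟨(↑F⁻¹ : Γ(kmod X, U)).1, ⟨(↑F⁻¹ : Γ(kmod X, U)).2, fun y => divCond_inv D F hF y⟩⟩ :
    Γ(modOf (divLoc X D), U))

theorem invSec_apply {U : X.Opens} (F : (Γ(kmod X, U))ˣ)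
    (hF : ∀ y : U, D.1 y.1 = germOf F y) (y : U) :
    (invSec D F hF).1 y = (↑F⁻¹ : Γ(kmod X, U)).1 y := rfl

theorem divMod_ext {U : X.Opens} {t t' : Γ(divMod D, U)} (h : ∀ y : U, t.1 y = t'.1 y) : t = t' :=
  Subtype.ext (funext h)

theorem divMod_smul_apply {U : X.Opens} (r : Γ(X, U)) (t : Γ(divMod D, U)) (y : U) :
    (r • t).1 y = X.presheaf.germ U y.1 y.2 r • t.1 y := rfl

theorem divMod_res_apply {U V : X.Opens} (h : V ≤ U) (t : Γ(divMod D, U)) (y : V) :
    (res (divMod D) h t).1 y = t.1 ⟨y.1, h y.2⟩ := rfl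

theorem divModι_apply {U : X.Opens} (t : Γ(divMod D, U)) (y : U) :
    ((divModι D).app U t).1 y = t.1 y := rfl

theorem res_invSec {U V : X.Opens} (h : V ≤ U) (F : (Γ(kmod X, U))ˣ)
    (hF : ∀ y : U, D.1 y.1 = germOf F y) :
    res (divMod D) h (invSec D F hF) =
      invSec D (resU h F) (fun y => (hF ⟨y.1, h y.2⟩).trans (germOf_resU h F y).symm) :=
  divMod_ext D fun _ => rfl

theorem isGen_invSec {U : X.Opens} (F : (Γ(kmod X, U))ˣ)
    (hF : ∀ y : U, D.1 y.1 = germOf F y) : IsGen (divMod D) U (invSec D F hF) := by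
  intro W' hW'
  constructor
  · intro r r' hrr
    have hrr' : r • res (divMod D) hW' (invSec D F hF) = r' • res (divMod D) hW' (invSec D F hF) := hrr
    apply TopCat.Presheaf.section_ext X.sheaf W'
    intro y hy
    have h1 := congrArg (fun t : Γ(divMod D, W') => t.1 ⟨y, hy⟩) hrr'
    simp only [divMod_smul_apply, divMod_res_apply, invSec_apply] at h1
    have h2 := congrArg (fun q => q * (F : Γ(kmod X, U)).1 ⟨y, hW' hy⟩) h1
    simp only [Algebra.smul_def, mul_assoc] at h2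
    rw [inv_val_mul_val F ⟨y, hW' hy⟩, mul_one, mul_one] at h2
    exact algebraMap_KStalk_injective y h2
  · intro t
    let q : Γ(kmod X, W') := (divModι D).app W' t * (resU hW' F : Γ(kmod X, W'))
    have hq : ∀ y : W', q.1 y ∈ (algebraMap (X.presheaf.stalk y.1) (KStalk X y.1)).range := by
      intro y
      have h1 := t.2.2 y (Units.map (evalK X U ⟨y.1, hW' y.2⟩).toMonoidHom F) (hF ⟨y.1, hW' y.2⟩)
      exact h1
    obtain ⟨r, hr⟩ := exists_toK_eq q hq
    refine ⟨r, ?_⟩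
    apply divMod_ext
    intro y
    change (r • res (divMod D) hW' (invSec D F hF)).1 y = t.1 y
    rw [divMod_smul_apply, divMod_res_apply, invSec_apply, Algebra.smul_def,
      Groth.Agent.S10856.algebraMap_eq_mk, ← toK_apply, hr]
    change t.1 y * (F : Γ(kmod X, U)).1 ⟨y.1, hW' y.2⟩ * _ = _
    rw [mul_assoc, val_mul_inv_val, mul_one]


/-! ### divisors from Cartier data -/

/-- the unit of `Γ(K_X, W)` attached to a regular section. -/
noncomputable def regUnit {W : X.Opens} (c : Γ(X, W)) (hc : c ∈ regSub X W) : (Γ(kmod X, W))ˣ :=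
  (isUnit_toK_of_mem_regSub hc).unit

theorem regUnit_val {W : X.Opens} (c : Γ(X, W)) (hc : c ∈ regSub X W) :
    (regUnit c hc : Γ(kmod X, W)) = toK X W c := rfl

theorem germOf_regUnit {W : X.Opens} (c : Γ(X, W)) (hc : c ∈ regSub X W) (y : W) :
    germOf (regUnit c hc) y =
      QuotientGroup.mk (IsLocalization.map_units (KStalk X y.1) (regGerm y ⟨c, hc⟩)).unit := by
  unfold germOf
  congr 1
  apply Units.ext
  rfl

/-- the classes of two germs of regular sections differing by a unit agree. -/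
theorem mk_unit_eq_of_mul_unit {y : X} (a b : regStalk X y) (w : (X.presheaf.stalk y)ˣ)
    (h : (a : X.presheaf.stalk y) * w = b) :
    (QuotientGroup.mk (IsLocalization.map_units (KStalk X y) a).unit : Germ X y) =
      QuotientGroup.mk (IsLocalization.map_units (KStalk X y) b).unit := by
  rw [QuotientGroup.eq]
  refine ⟨w, ?_⟩
  apply Units.ext
  simp only [Units.coe_map, Units.val_mul]
  have hb : ((IsLocalization.map_units (KStalk X y) b).unit : KStalk X y) =
      algebraMap (X.presheaf.stalk y) (KStalk X y) a *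
        algebraMap (X.presheaf.stalk y) (KStalk X y) w := by
    rw [IsUnit.unit_spec, ← map_mul, h]
  have ha : (↑((IsLocalization.map_units (KStalk X y) a).unit)⁻¹ : KStalk X y) *
      algebraMap (X.presheaf.stalk y) (KStalk X y) a = 1 := by
    have := (IsLocalization.map_units (KStalk X y) a).unit.inv_mul
    rwa [IsUnit.unit_spec] at this
  rw [hb, ← mul_assoc, ha, one_mul]
  rfl

theorem exists_divisor_of_data {ι : Type*} (W : ι → X.Opens) (hcov : ∀ x : X, ∃ i, x ∈ W i)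
    (F : ∀ i, (Γ(kmod X, W i))ˣ)
    (hcompat : ∀ i j (y : X) (hi : y ∈ W i) (hj : y ∈ W j),
      germOf (F i) ⟨y, hi⟩ = germOf (F j) ⟨y, hj⟩) :
    ∃ D : Divisor X, ∀ i (y : W i), D.1 y.1 = germOf (F i) y := by
  choose i hi using hcov
  refine ⟨⟨fun x => germOf (F (i x)) ⟨x, hi x⟩, fun x =>
    ⟨W (i x), hi x, F (i x), fun y => hcompat (i y.1) (i x) y.1 (hi y.1) y.2⟩⟩, fun j y => ?_⟩
  exact hcompat (i y.1) j y.1 (hi y.1) y.2

end Groth.Agent.Lib.Helper20.DivFrame
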