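import Mathlib
import Groth.Prelude.Def_BlowUp2
import Groth.Agent.Lib.Helper20EffCartUFD2
import Groth.Agent.Lib.Helper20EffCartier

set_option linter.unusedSectionVars false
set_option linter.style.haveILetI false
set_option autoImplicit false
universe u
open CategoryTheory CategoryTheory.Limits AlgebraicGeometry TopologicalSpace Opposite

namespace Groth.Agent.Lib.Helper20.EffCartExt

open Groth.Agent.Lib.Helper20.CDivOrd2 Groth.Agent.Lib.Helper20.CDivOrd3
open Groth.Agent.Lib.Helper20.Div21Lib Groth.Agent.Lib.Helper20.EffCartUFD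
open Groth.Agent.Lib.Helper20.EffCartUFD2

variable {X : Scheme.{u}}

/-- the stalk of an ideal sheaf does not depend on the affine chart (nested case). -/
theorem map_germ_ideal_of_le (𝓘 : X.IdealSheafData) (y : X) {W V : X.Opens} (hW : IsAffineOpen W)
    (hV : IsAffineOpen V) (hVW : V ≤ W) (hyV : y ∈ V) :
    (𝓘.ideal ⟨W, hW⟩).map (X.presheaf.germ W y (hVW hyV)).hom =
      (𝓘.ideal ⟨V, hV⟩).map (X.presheaf.germ V y hyV).hom := by
  have h1 : (X.presheaf.germ W y (hVW hyV)).hom =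
      (X.presheaf.germ V y hyV).hom.comp (X.presheaf.map (homOfLE hVW).op).hom := by
    rw [← CommRingCat.hom_comp, X.presheaf.germ_res]
  have h2 := 𝓘.map_ideal (U := ⟨V, hV⟩) (V := ⟨W, hW⟩) hVW
  rw [h1, ← Ideal.map_map]
  exact congrArg (Ideal.map (X.presheaf.germ V y hyV).hom) h2

theorem map_germ_ideal_eq (𝓘 : X.IdealSheafData) (y : X) {W V : X.Opens} (hW : IsAffineOpen W)
    (hV : IsAffineOpen V) (hyW : y ∈ W) (hyV : y ∈ V) :
    (𝓘.ideal ⟨W, hW⟩).map (X.presheaf.germ W y hyW).hom =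
      (𝓘.ideal ⟨V, hV⟩).map (X.presheaf.germ V y hyV).hom := by
  obtain ⟨_, ⟨V', hV', rfl⟩, hyV', hsub⟩ :=
    X.isBasis_affineOpens.exists_subset_of_mem_open (show y ∈ (W ⊓ V : X.Opens) from ⟨hyW, hyV⟩)
      (W ⊓ V).isOpen
  have hV' : IsAffineOpen V' := hV'
  have h1 : V' ≤ W := fun a ha => (hsub ha).1
  have h2 : V' ≤ V := fun a ha => (hsub ha).2
  rw [map_germ_ideal_of_le 𝓘 y hW hV' h1 hyV', map_germ_ideal_of_le 𝓘 y hV hV' h2 hyV']

/-- scheme-theoretic closure followed by restriction is the identity. -/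
theorem comap_map_ι (U : X.Opens) [QuasiCompact U.ι] (D : (U : Scheme.{u}).IdealSheafData) :
    (D.map U.ι).comap U.ι = D := by
  apply le_antisymm (Scheme.IdealSheafData.comap_map_le _ _)
  intro V
  rw [Scheme.IdealSheafData.ideal_comap_of_isOpenImmersion]
  have H : IsAffineOpen (U.ι ⁻¹ᵁ (U.ι ''ᵁ V.1)) := by rw [U.ι.preimage_image_eq]; exact V.2
  rw [Scheme.IdealSheafData.ideal_map D U.ι ⟨U.ι ''ᵁ V.1, _⟩ H]
  intro a ha
  rw [Ideal.mem_comap, Ideal.mem_comap]
  have h1 : (U.ι.app (U.ι ''ᵁ V.1)).hom ((U.ι.appIso V.1).inv.hom a) =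
      ((U : Scheme.{u}).presheaf.map (eqToHom (U.ι.preimage_image_eq V.1)).op).hom a := by
    rw [← U.ι.appIso_inv_app V.1]
    rfl
  rw [h1]
  have h2 := D.map_ideal' (U := ⟨_, H⟩) (V := V) (eqToHom (U.ι.preimage_image_eq V.1)).op
  rw [← h2]
  exact Ideal.mem_map_of_mem _ ha


/-- an ideal sheaf whose restriction to an open `U` is effective Cartier is locally principal by a
nonzerodivisor at points of `U`. -/
theorem exists_affine_of_comap_ι (D' : X.IdealSheafData) (U : X.Opens)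
    (h : BlowUp.IsEffCartierIdeal (D'.comap U.ι)) (x : X) (hx : x ∈ U) :
    ∃ V : X.affineOpens, x ∈ V.1 ∧ V.1 ≤ U ∧ ∃ f : Γ(X, V.1), f ∈ nonZeroDivisors Γ(X, V.1) ∧
      D'.ideal V = Ideal.span {f} := by
  obtain ⟨V, hxV, f, hf, hV⟩ := h ⟨x, hx⟩
  refine ⟨⟨U.ι ''ᵁ V.1, V.2.image_of_isOpenImmersion U.ι⟩, ⟨⟨x, hx⟩, hxV, rfl⟩, ?_, ?_⟩
  · rintro _ ⟨a, -, rfl⟩
    exact a.2
  rw [Scheme.IdealSheafData.ideal_comap_of_isOpenImmersion] at hV
  set e := U.ι.appIso V.1 with he
  refine ⟨e.inv.hom f, ?_, ?_⟩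
  · rw [mem_nonZeroDivisors_iff_right]
    intro a ha
    have h1 : e.hom.hom a * f = 0 := by
      have h2 : e.hom.hom (a * e.inv.hom f) = 0 := by rw [ha, map_zero]
      rw [map_mul] at h2
      have h3 : e.hom.hom (e.inv.hom f) = f := by
        change (e.inv ≫ e.hom).hom f = f
        rw [e.inv_hom_id]; rfl
      rwa [h3] at h2
    have h4 := (mem_nonZeroDivisors_iff_right.mp hf) _ h1
    have h5 : e.inv.hom (e.hom.hom a) = a := by
      change (e.hom ≫ e.inv).hom a = a
      rw [e.hom_inv_id]; rfl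
    rw [← h5, h4, map_zero]
  · apply le_antisymm
    · intro a ha
      have h1 : e.hom.hom a ∈ Ideal.span {f} := by
        rw [← hV, Ideal.mem_comap]
        have h5 : e.inv.hom (e.hom.hom a) = a := by
          change (e.hom ≫ e.inv).hom a = a
          rw [e.hom_inv_id]; rfl
        rw [h5]; exact ha
      obtain ⟨c, hc⟩ := Ideal.mem_span_singleton'.mp h1
      rw [Ideal.mem_span_singleton']
      refine ⟨e.inv.hom c, ?_⟩
      rw [← map_mul, hc]
      change (e.hom ≫ e.inv).hom a = a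
      rw [e.hom_inv_id]; rfl
    · rw [Ideal.span_le, Set.singleton_subset_iff]
      have h1 : f ∈ Ideal.span {f} := Ideal.mem_span_singleton_self f
      rw [← hV, Ideal.mem_comap] at h1
      exact h1


theorem mem_associatedPrimes_map {B A : Type*} [CommRing B] [CommRing A]
    [Algebra B A] (S : Submonoid B) [IsLocalization S A] (I : Ideal B) (P : Ideal A)
    (hP : P.comap (algebraMap B A) ∈ associatedPrimes B (B ⧸ I)) :
    P ∈ associatedPrimes A (A ⧸ I.map (algebraMap B A)) := by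
  have key : ∀ J' : Ideal A, J' = Submodule.localized' A S (Algebra.linearMap B A) I →
      P ∈ associatedPrimes A (A ⧸ J') := by
    rintro _ rfl
    exact Module.associatedPrimes.mem_associatedPrimes_of_comap_mem_associatedPrimes_of_isLocalizedModule S
      (I.toLocalizedQuotient' A S (Algebra.linearMap B A)) P hP
  exact key _ (Ideal.localized'_eq_map A S I).symm

/-- in a Noetherian UFD, associated primes of a nonzero principal ideal have height one. -/
theorem height_eq_one_of_mem_associatedPrimes_span {A : Type*} [CommRing A] [IsDomain A]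
    [IsNoetherianRing A] [UniqueFactorizationMonoid A] (t : A) (ht : t ≠ 0) (P : Ideal A)
    (hP : P ∈ associatedPrimes A (A ⧸ Ideal.span {t})) : P.height = 1 := by
  obtain ⟨hprime, m, hm⟩ := (isAssociatedPrime_iff (M := A ⧸ Ideal.span {t})).mp hP
  obtain ⟨a, rfl⟩ := Ideal.Quotient.mk_surjective m
  have hmem : ∀ r, r ∈ P ↔ t ∣ r * a := by
    intro r
    rw [hm, Submodule.mem_colon_singleton, Submodule.mem_bot, Algebra.smul_def,
      Ideal.Quotient.algebraMap_eq, ← map_mul, Ideal.Quotient.eq_zero_iff_mem,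
      Ideal.mem_span_singleton]
  obtain ⟨t', a', c, hrel, hct, hca⟩ := UniqueFactorizationMonoid.exists_reduced_factors t ht a
  have hc0 : c ≠ 0 := by rintro rfl; exact ht (by rw [← hct, zero_mul])
  have hPeq : P = Ideal.span {t'} := by
    ext r
    rw [hmem, Ideal.mem_span_singleton, ← hct, ← hca]
    constructor
    · intro h
      have h1 : c * t' ∣ c * (r * a') := by rw [show c * (r * a') = r * (c * a') by ring]; exact h
      have h2 : t' ∣ r * a' := (mul_dvd_mul_iff_left hc0).mp h1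
      exact hrel.dvd_of_dvd_mul_right h2
    · rintro ⟨s, rfl⟩
      exact ⟨s * a', by ring⟩
  have ht'0 : t' ≠ 0 := by rintro rfl; exact ht (by rw [← hct, mul_zero])
  have hle : P.height ≤ 1 := by
    apply Ideal.height_le_one_of_isPrincipal_of_mem_minimalPrimes (Ideal.span {t'})
    rw [← hPeq]
    exact ⟨⟨hprime, le_refl _⟩, fun q hq hqP => hq.2⟩
  have hne : P.height ≠ 0 := by
    intro h0
    rw [Ideal.height_eq_zero_iff_eq_bot] at h0
    rw [h0] at hPeq
    exact ht'0 (Ideal.span_singleton_eq_bot.mp hPeq.symm)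
  exact le_antisymm hle (Order.one_le_iff_pos.mpr (pos_iff_ne_zero.mpr hne))

/-- the local ring at a generization of a point with UFD local ring is a UFD. -/
theorem ufd_of_specializes {x y : X} (h : y ⤳ x) [IsDomain (X.presheaf.stalk x)]
    [UniqueFactorizationMonoid (X.presheaf.stalk x)] :
    ∃ _ : IsDomain (X.presheaf.stalk y), UniqueFactorizationMonoid (X.presheaf.stalk y) := by
  obtain ⟨_, ⟨W, hW, rfl⟩, hxW, -⟩ :=
    X.isBasis_affineOpens.exists_subset_of_mem_open (Set.mem_univ x) isOpen_univ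
  have hW : IsAffineOpen W := hW
  have hyW : y ∈ W := h.mem_open W.isOpen hxW
  letI := X.presheaf.algebra_section_stalk ⟨x, hxW⟩
  haveI := hW.isLocalization_stalk ⟨x, hxW⟩
  letI := X.presheaf.algebra_section_stalk ⟨y, hyW⟩
  haveI := hW.isLocalization_stalk ⟨y, hyW⟩
  letI : Algebra (X.presheaf.stalk x) (X.presheaf.stalk y) :=
    (X.presheaf.stalkSpecializes h).hom.toAlgebra
  haveI : IsScalarTower Γ(X, W) (X.presheaf.stalk x) (X.presheaf.stalk y) := by
    apply IsScalarTower.of_algebraMap_eq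
    intro b
    change (X.presheaf.germ W y hyW).hom b =
      (X.presheaf.stalkSpecializes h).hom ((X.presheaf.germ W x hxW).hom b)
    rw [← X.presheaf.germ_stalkSpecializes hxW h]
    rfl
  set p : Ideal Γ(X, W) := (hW.primeIdealOf ⟨x, hxW⟩).asIdeal with hp
  set q : Ideal Γ(X, W) := (hW.primeIdealOf ⟨y, hyW⟩).asIdeal with hq
  have hqp : q ≤ p := primeIdealOf_le_of_specializes hW x y hxW hyW h
  have hle : p.primeCompl ≤ q.primeCompl := fun a ha haq => ha (hqp haq)
  haveI hloc : IsLocalization (q.primeCompl.map (algebraMap Γ(X, W) (X.presheaf.stalk x)))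
      (X.presheaf.stalk y) :=
    IsLocalization.isLocalization_of_submonoid_le (X.presheaf.stalk x) (X.presheaf.stalk y)
      p.primeCompl q.primeCompl hle
  have hM : q.primeCompl.map (algebraMap Γ(X, W) (X.presheaf.stalk x)) ≤
      nonZeroDivisors (X.presheaf.stalk x) := by
    rintro _ ⟨s, hs, rfl⟩
    apply mem_nonZeroDivisors_of_ne_zero
    intro h0
    have h1 : IsUnit (algebraMap Γ(X, W) (X.presheaf.stalk y) s) :=
      IsLocalization.map_units (X.presheaf.stalk y) (⟨s, hs⟩ : q.primeCompl)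
    rw [IsScalarTower.algebraMap_apply Γ(X, W) (X.presheaf.stalk x) (X.presheaf.stalk y), h0,
      map_zero] at h1
    exact not_isUnit_zero h1
  exact ⟨IsLocalization.isDomain_of_le_nonZeroDivisors (X.presheaf.stalk y) hM,
    UniqueFactorizationMonoid.of_isLocalization
      (q.primeCompl.map (algebraMap Γ(X, W) (X.presheaf.stalk x))) (X.presheaf.stalk y)⟩


variable [IsLocallyNoetherian X]

/-- associated primes of the scheme-theoretic closure of a closed subscheme of `U` lie over `U`. -/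
theorem fromSpec_mem_of_mem_associatedPrimes (U : X.Opens) (D : (U : Scheme.{u}).IdealSheafData)
    {W : X.Opens} (hW : IsAffineOpen W) (P₀ : Ideal Γ(X, W)) [hP₀prime : P₀.IsPrime]
    (hP₀ : P₀ ∈ associatedPrimes Γ(X, W) (Γ(X, W) ⧸ (D.map U.ι).ideal ⟨W, hW⟩)) :
    hW.fromSpec ⟨P₀, hP₀prime⟩ ∈ U := by
  haveI : IsNoetherianRing Γ(X, W) := IsLocallyNoetherian.component_noetherian ⟨W, hW⟩
  set ι' : D.subscheme ⟶ X := D.subschemeι ≫ U.ι with hι'
  have hker : (D.map U.ι).ideal ⟨W, hW⟩ = RingHom.ker (ι'.app W).hom :=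
    Scheme.Hom.ker_apply ι' ⟨W, hW⟩
  obtain ⟨hprime, m, hm⟩ :=
    (isAssociatedPrime_iff (M := Γ(X, W) ⧸ (D.map U.ι).ideal ⟨W, hW⟩)).mp hP₀
  obtain ⟨b, rfl⟩ := Ideal.Quotient.mk_surjective m
  have hmem : ∀ r, r ∈ P₀ ↔ r * b ∈ (D.map U.ι).ideal ⟨W, hW⟩ := by
    intro r
    rw [hm, Submodule.mem_colon_singleton, Submodule.mem_bot, Algebra.smul_def,
      Ideal.Quotient.algebraMap_eq, ← map_mul, Ideal.Quotient.eq_zero_iff_mem]
  have hb : b ∉ (D.map U.ι).ideal ⟨W, hW⟩ := by
    intro hb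
    apply hprime.ne_top
    rw [Ideal.eq_top_iff_one, hmem, one_mul]
    exact hb
  have hφb : (ι'.app W).hom b ≠ 0 := by
    intro h0
    apply hb
    rw [hker, RingHom.mem_ker]
    exact h0
  obtain ⟨z, hz, hne⟩ : ∃ (z : D.subscheme) (hz : z ∈ ι' ⁻¹ᵁ W),
      D.subscheme.presheaf.germ _ z hz ((ι'.app W).hom b) ≠ 0 := by
    by_contra hall
    push Not at hall
    apply hφb
    apply TopCat.Presheaf.section_ext D.subscheme.sheaf (ι' ⁻¹ᵁ W)
    intro z hz
    exact (hall z hz).trans (map_zero (D.subscheme.presheaf.germ (ι' ⁻¹ᵁ W) z hz).hom).symm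
  have hzW : ι' z ∈ W := hz
  have hle : P₀ ≤ (hW.primeIdealOf ⟨ι' z, hzW⟩).asIdeal := by
    intro r hr
    rw [mem_primeIdealOf_iff]
    by_contra hnot
    rw [IsLocalRing.mem_maximalIdeal, mem_nonunits_iff, not_not] at hnot
    have hu' : IsUnit (D.subscheme.presheaf.germ _ z hz ((ι'.app W).hom r)) := by
      rw [← Scheme.Hom.germ_stalkMap_apply ι' W z hzW r]
      exact hnot.map _
    have h0 : D.subscheme.presheaf.germ _ z hz ((ι'.app W).hom r) *
        D.subscheme.presheaf.germ _ z hz ((ι'.app W).hom b) = 0 := by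
      rw [← map_mul, ← map_mul]
      have h1 : (ι'.app W).hom (r * b) = 0 := by
        rw [← RingHom.mem_ker, ← hker]
        exact (hmem r).mp hr
      rw [h1, map_zero]
    exact hne ((hu'.mul_right_eq_zero).mp h0)
  have hsp := fromSpec_specializes hW (ι' z) hzW ⟨P₀, hP₀prime⟩ hle
  have hU : ι' z ∈ U := (D.subschemeι z).2
  exact hsp.mem_open U.isOpen hU

theorem height_eq_one_of_mem_associatedPrimes_closure (U : X.Opens)
    (D : (U : Scheme.{u}).IdealSheafData) (hD : BlowUp.IsEffCartierIdeal D)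
    {W : X.Opens} (hW : IsAffineOpen W) (x : X) (hxW : x ∈ W)
    [IsDomain (X.presheaf.stalk x)] [UniqueFactorizationMonoid (X.presheaf.stalk x)]
    (P₀ : Ideal Γ(X, W))
    (hP₀ : P₀ ∈ associatedPrimes Γ(X, W) (Γ(X, W) ⧸ (D.map U.ι).ideal ⟨W, hW⟩))
    (hle : P₀ ≤ (hW.primeIdealOf ⟨x, hxW⟩).asIdeal) : P₀.height = 1 := by
  haveI : IsNoetherianRing Γ(X, W) := IsLocallyNoetherian.component_noetherian ⟨W, hW⟩
  haveI hP₀prime : P₀.IsPrime := hP₀.isPrime
  set y := hW.fromSpec ⟨P₀, hP₀prime⟩ with hydef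
  have hyW : y ∈ W := fromSpec_mem hW _
  have hy : hW.primeIdealOf ⟨y, hyW⟩ = ⟨P₀, hP₀prime⟩ := primeIdealOf_fromSpec hW _
  have hyU : y ∈ U := fromSpec_mem_of_mem_associatedPrimes U D hW P₀ hP₀
  have hyx : y ⤳ x := fromSpec_specializes hW x hxW ⟨P₀, hP₀prime⟩ hle
  obtain ⟨hdom, hufd⟩ := ufd_of_specializes hyx
  have hcomap : (D.map U.ι).comap U.ι = D := comap_map_ι U D
  obtain ⟨V, hyV, hVU, f, hf, hV⟩ :=
    exists_affine_of_comap_ι (D.map U.ι) U (hcomap.symm ▸ hD) y hyU
  have h1 := map_germ_ideal_eq (D.map U.ι) y hW V.2 hyW hyV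
  have hV' : (D.map U.ι).ideal ⟨V.1, V.2⟩ = Ideal.span {f} := hV
  rw [hV', Ideal.map_span, Set.image_singleton] at h1
  have ht : (X.presheaf.germ V.1 y hyV).hom f ≠ 0 := by
    letI := X.presheaf.algebra_section_stalk ⟨y, hyV⟩
    haveI := V.2.isLocalization_stalk ⟨y, hyV⟩
    exact nonZeroDivisors.ne_zero (IsLocalization.map_nonZeroDivisors_le
      (V.2.primeIdealOf ⟨y, hyV⟩).asIdeal.primeCompl (X.presheaf.stalk y)
      (Submonoid.mem_map_of_mem _ hf))
  letI := X.presheaf.algebra_section_stalk ⟨y, hyW⟩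
  haveI := hW.isLocalization_stalk ⟨y, hyW⟩
  have hcomap_m : (IsLocalRing.maximalIdeal (X.presheaf.stalk y)).comap
      (algebraMap Γ(X, W) (X.presheaf.stalk y)) = P₀ := by
    ext c
    rw [Ideal.mem_comap]
    have h2 := mem_primeIdealOf_iff hW y hyW c
    rw [hy] at h2
    exact h2.symm
  have hass : IsLocalRing.maximalIdeal (X.presheaf.stalk y) ∈
      associatedPrimes (X.presheaf.stalk y) ((X.presheaf.stalk y) ⧸
        ((D.map U.ι).ideal ⟨W, hW⟩).map (algebraMap Γ(X, W) (X.presheaf.stalk y))) :=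
    mem_associatedPrimes_map (hW.primeIdealOf ⟨y, hyW⟩).asIdeal.primeCompl _ _ (hcomap_m ▸ hP₀)
  have h1' : ((D.map U.ι).ideal ⟨W, hW⟩).map (algebraMap Γ(X, W) (X.presheaf.stalk y)) =
      Ideal.span {(X.presheaf.germ V.1 y hyV).hom f} := h1
  rw [h1'] at hass
  have hht := height_eq_one_of_mem_associatedPrimes_span _ ht _ hass
  rw [← hcomap_m]
  have h3 := IsLocalization.height_under (hW.primeIdealOf ⟨y, hyW⟩).asIdeal.primeCompl
    (IsLocalRing.maximalIdeal (X.presheaf.stalk y))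
  rw [hht] at h3
  exact h3

/-- S1660. -/
theorem exists_extension (U : X.Opens) (D : (U : Scheme.{u}).IdealSheafData)
    (hD : BlowUp.IsEffCartierIdeal D)
    (hufd : ∀ x : X, x ∉ U →
      IsDomain (X.presheaf.stalk x) ∧ UniqueFactorizationMonoid (X.presheaf.stalk x)) :
    ∃ D' : X.IdealSheafData, BlowUp.IsEffCartierIdeal D' ∧ D'.comap U.ι = D := by
  refine ⟨D.map U.ι, ?_, comap_map_ι U D⟩
  intro x
  by_cases hxU : x ∈ U
  · obtain ⟨V, hxV, -, f, hf, hV⟩ :=
      exists_affine_of_comap_ι (D.map U.ι) U ((comap_map_ι U D).symm ▸ hD) x hxU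
    exact ⟨V, hxV, f, hf, hV⟩
  · obtain ⟨hdom, hU⟩ := hufd x hxU
    obtain ⟨_, ⟨W, hW, rfl⟩, hxW, -⟩ :=
      X.isBasis_affineOpens.exists_subset_of_mem_open (Set.mem_univ x) isOpen_univ
    have hW : IsAffineOpen W := hW
    haveI : IsNoetherianRing Γ(X, W) := IsLocallyNoetherian.component_noetherian ⟨W, hW⟩
    letI := X.presheaf.algebra_section_stalk ⟨x, hxW⟩
    haveI := hW.isLocalization_stalk ⟨x, hxW⟩
    set p : Ideal Γ(X, W) := (hW.primeIdealOf ⟨x, hxW⟩).asIdeal with hp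
    have hassJ : ∀ P ∈ associatedPrimes (X.presheaf.stalk x) ((X.presheaf.stalk x) ⧸
        ((D.map U.ι).ideal ⟨W, hW⟩).map (algebraMap Γ(X, W) (X.presheaf.stalk x))),
        P.height = 1 := by
      intro P hP
      haveI hPprime := hP.isPrime
      have h4 := comap_mem_associatedPrimes' p.primeCompl ((D.map U.ι).ideal ⟨W, hW⟩) P hP
      have hle : P.comap (algebraMap Γ(X, W) (X.presheaf.stalk x)) ≤ p := by
        intro r hr
        by_contra hrp
        have hu : IsUnit (algebraMap Γ(X, W) (X.presheaf.stalk x) r) :=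
          IsLocalization.map_units (X.presheaf.stalk x) (⟨r, hrp⟩ : p.primeCompl)
        exact hPprime.ne_top (Ideal.eq_top_of_isUnit_mem _ hr hu)
      have h5 := height_eq_one_of_mem_associatedPrimes_closure U D hD hW x hxW _ h4 hle
      rw [← IsLocalization.height_under p.primeCompl]
      exact h5
    obtain ⟨t, ht0, htJ⟩ := exists_principal_of_ass_height_one _ hassJ
    exact exists_affine_of_stalk_principal (D.map U.ι) x hW hxW t
      (mem_nonZeroDivisors_of_ne_zero ht0) htJ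

end Groth.Agent.Lib.Helper20.EffCartExt
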