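import Mathlib
import Groth.Prelude.Def_BlowUp2
import Groth.Agent.Lib.Helper20EffCartExt
import Groth.Agent.Lib.Helper20Hartogs
import Groth.Agent.Lib.Helper10RedInd

set_option linter.unusedSectionVars false
set_option linter.style.haveILetI false
set_option autoImplicit false
universe u
open CategoryTheory CategoryTheory.Limits AlgebraicGeometry TopologicalSpace Opposite

namespace Groth.Agent.Lib.Helper20.EffCartCompl

open Groth.Agent.Lib.Helper20.CDivOrd2 Groth.Agent.Lib.Helper20.CDivOrd3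
open Groth.Agent.Lib.Helper20.Div21Lib Groth.Agent.Lib.Helper20.EffCartUFD
open Groth.Agent.Lib.Helper20.EffCartUFD2 Groth.Agent.Lib.Helper20.EffCartExt
open Groth.Agent.Lib.Helper20.Hartogs

variable {X : Scheme.{u}} [IsLocallyNoetherian X]

theorem germ_eq_stalkSpecializes {W : X.Opens} {x y : X} (hxW : x ∈ W) (h : y ⤳ x) (b : Γ(X, W)) :
    X.presheaf.germ W y (h.mem_open W.isOpen hxW) b =
      (X.presheaf.stalkSpecializes h).hom (X.presheaf.germ W x hxW b) := by
  rw [← X.presheaf.germ_stalkSpecializes hxW h]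
  rfl

/-- Let `ξ ∉ U` be maximal under generization among points outside `U`, not a maximal point of `X`,
with `W ∩ U` affine for an affine open neighbourhood `W` of `ξ`, and with normal local ring.  Then
the local ring at `ξ` has dimension one. -/
theorem ringKrullDim_eq_one_of_affine_inter (U : X.Opens) (ξ : X) (hξ : ξ ∉ U)
    (hgen : ∀ y : X, y ∉ U → y ⤳ ξ → y = ξ)
    {W : X.Opens} (hW : IsAffineOpen W) (hξW : ξ ∈ W) (hV : IsAffineOpen (W ⊓ U))
    [IsDomain (X.presheaf.stalk ξ)] [IsIntegrallyClosed (X.presheaf.stalk ξ)]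
    (hnotmin : ∃ y : X, y ⤳ ξ ∧ y ≠ ξ) :
    ringKrullDim (X.presheaf.stalk ξ) = 1 := by
  by_contra hdim
  haveI : IsNoetherianRing Γ(X, W) := IsLocallyNoetherian.component_noetherian ⟨W, hW⟩
  letI := X.presheaf.algebra_section_stalk ⟨ξ, hξW⟩
  haveI := hW.isLocalization_stalk ⟨ξ, hξW⟩
  set p : Ideal Γ(X, W) := (hW.primeIdealOf ⟨ξ, hξW⟩).asIdeal with hp
  set q₀ : Ideal Γ(X, W) := RingHom.ker (algebraMap Γ(X, W) (X.presheaf.stalk ξ)) with hq₀def
  haveI hq₀ : q₀.IsPrime := RingHom.ker_isPrime _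
  have hq₀p : q₀ ≤ p := by
    intro b hb
    rw [hp, mem_primeIdealOf_iff]
    have hb' : X.presheaf.germ W ξ hξW b = 0 := hb
    rw [hb']
    exact zero_mem _
  set η := hW.fromSpec ⟨q₀, hq₀⟩ with hηdef
  have hηW : η ∈ W := fromSpec_mem hW _
  have hη : hW.primeIdealOf ⟨η, hηW⟩ = ⟨q₀, hq₀⟩ := primeIdealOf_fromSpec hW _
  have hηξ : η ⤳ ξ := fromSpec_specializes hW ξ hξW ⟨q₀, hq₀⟩ hq₀p
  have hηne : η ≠ ξ := by
    obtain ⟨y, hy, hyne⟩ := hnotmin
    intro heq
    have hyW : y ∈ W := hy.mem_open W.isOpen hξW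
    have hle : q₀ ≤ (hW.primeIdealOf ⟨y, hyW⟩).asIdeal := by
      intro b hb
      rw [mem_primeIdealOf_iff]
      have hb' : X.presheaf.germ W ξ hξW b = 0 := hb
      rw [germ_eq_stalkSpecializes hξW hy b, hb', map_zero]
      exact zero_mem _
    have hηy : η ⤳ y := fromSpec_specializes hW y hyW ⟨q₀, hq₀⟩ hle
    rw [heq] at hηy
    exact hyne (hy.antisymm hηy).eq
  have hηU : η ∈ U := by
    by_contra h
    exact hηne (hgen η h hηξ)
  have hηV : η ∈ W ⊓ U := ⟨hηW, hηU⟩
  -- the fraction field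
  letI algK : Algebra (X.presheaf.stalk ξ) (X.presheaf.stalk η) :=
    (X.presheaf.stalkSpecializes hηξ).hom.toAlgebra
  letI := X.presheaf.algebra_section_stalk ⟨η, hηW⟩
  haveI := hW.isLocalization_stalk ⟨η, hηW⟩
  haveI : IsScalarTower Γ(X, W) (X.presheaf.stalk ξ) (X.presheaf.stalk η) := by
    apply IsScalarTower.of_algebraMap_eq
    intro b
    exact germ_eq_stalkSpecializes hξW hηξ b
  set q₁ : Ideal Γ(X, W) := (hW.primeIdealOf ⟨η, hηW⟩).asIdeal with hq₁def
  have hq₁ : q₁ = q₀ := congrArg PrimeSpectrum.asIdeal hη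
  have hle₁ : p.primeCompl ≤ q₁.primeCompl := by
    intro a ha haq
    rw [hq₁] at haq
    exact ha (hq₀p haq)
  haveI hloc : IsLocalization (q₁.primeCompl.map (algebraMap Γ(X, W) (X.presheaf.stalk ξ)))
      (X.presheaf.stalk η) :=
    IsLocalization.isLocalization_of_submonoid_le (X.presheaf.stalk ξ) (X.presheaf.stalk η)
      p.primeCompl q₁.primeCompl hle₁
  haveI hfrac : IsFractionRing (X.presheaf.stalk ξ) (X.presheaf.stalk η) := by
    apply IsLocalization.of_le (M := q₁.primeCompl.map (algebraMap Γ(X, W) (X.presheaf.stalk ξ)))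
    · rintro _ ⟨s, hs, rfl⟩
      apply mem_nonZeroDivisors_of_ne_zero
      intro h0
      apply hs
      rw [SetLike.mem_coe, hq₁]
      exact h0
    · intro r hr
      have hr0 : r ≠ 0 := nonZeroDivisors.ne_zero hr
      obtain ⟨⟨b, ⟨s, hs⟩⟩, hbs⟩ := IsLocalization.surj p.primeCompl r
      simp only at hbs
      have hbq : b ∈ q₁.primeCompl := by
        intro hb
        rw [SetLike.mem_coe, hq₁] at hb
        have hb' : algebraMap Γ(X, W) (X.presheaf.stalk ξ) b = 0 := hb
        rw [hb'] at hbs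
        have hsu : IsUnit (algebraMap Γ(X, W) (X.presheaf.stalk ξ) s) :=
          IsLocalization.map_units _ (⟨s, hs⟩ : p.primeCompl)
        exact hr0 ((hsu.mul_left_eq_zero).mp hbs)
      have hbu : IsUnit (algebraMap Γ(X, W) (X.presheaf.stalk η) b) :=
        IsLocalization.map_units _ (⟨b, hbq⟩ : q₁.primeCompl)
      have h2 : algebraMap (X.presheaf.stalk ξ) (X.presheaf.stalk η) r *
          algebraMap (X.presheaf.stalk ξ) (X.presheaf.stalk η)
            (algebraMap Γ(X, W) (X.presheaf.stalk ξ) s) =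
          algebraMap Γ(X, W) (X.presheaf.stalk η) b := by
        rw [← map_mul, hbs, ← IsScalarTower.algebraMap_apply]
      rw [← h2] at hbu
      exact isUnit_of_mul_isUnit_left hbu
  -- abstract fraction field
  let K := FractionRing (X.presheaf.stalk ξ)
  let e : X.presheaf.stalk η ≃ₐ[X.presheaf.stalk ξ] K :=
    IsLocalization.algEquiv (nonZeroDivisors (X.presheaf.stalk ξ)) (X.presheaf.stalk η) K
  let φ : Γ(X, W ⊓ U) →+* K := (e : X.presheaf.stalk η →+* K).comp (X.presheaf.germ (W ⊓ U) η hηV).hom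
  have hφW : ∀ b : Γ(X, W), φ ((X.presheaf.map (homOfLE (inf_le_left : W ⊓ U ≤ W)).op).hom b) =
      algebraMap (X.presheaf.stalk ξ) K (algebraMap Γ(X, W) (X.presheaf.stalk ξ) b) := by
    intro b
    change e ((X.presheaf.germ (W ⊓ U) η hηV).hom
      ((X.presheaf.map (homOfLE (inf_le_left : W ⊓ U ≤ W)).op).hom b)) = _
    have h1 : (X.presheaf.germ (W ⊓ U) η hηV).hom
        ((X.presheaf.map (homOfLE (inf_le_left : W ⊓ U ≤ W)).op).hom b) =
        algebraMap Γ(X, W) (X.presheaf.stalk η) b := by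
      change _ = (X.presheaf.germ W η hηW).hom b
      rw [← X.presheaf.germ_res (homOfLE (inf_le_left : W ⊓ U ≤ W)) η hηV]
      rfl
    rw [h1, IsScalarTower.algebraMap_apply Γ(X, W) (X.presheaf.stalk ξ) (X.presheaf.stalk η),
      AlgEquiv.commutes]
  have hmaxht : ∀ q : Ideal (X.presheaf.stalk ξ), q.IsPrime → q.height = 1 →
      q ≠ IsLocalRing.maximalIdeal (X.presheaf.stalk ξ) := by
    rintro q hq hqht rfl
    apply hdim
    rw [← IsLocalRing.maximalIdeal_height_eq_ringKrullDim, hqht]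
    rfl
  have hnorm : ∀ q : Ideal (X.presheaf.stalk ξ), ∀ _ : q.IsPrime,
      q ≤ IsLocalRing.maximalIdeal (X.presheaf.stalk ξ) →
      IsIntegrallyClosed (Localization.AtPrime q) := by
    intro q hq _
    exact isIntegrallyClosed_of_isLocalization (Localization.AtPrime q) q.primeCompl
      (fun a ha => mem_nonZeroDivisors_of_ne_zero (fun h0 => ha (h0 ▸ q.zero_mem)))
  -- Hartogs
  have hR : ∀ c : Γ(X, W ⊓ U), ∃ α : X.presheaf.stalk ξ,
      algebraMap (X.presheaf.stalk ξ) K α = φ c := by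
    intro c
    have hH : ∀ q : Ideal (X.presheaf.stalk ξ), q.IsPrime →
        q ≤ IsLocalRing.maximalIdeal (X.presheaf.stalk ξ) → q.height = 1 →
        ∃ a b : X.presheaf.stalk ξ, b ∉ q ∧
          φ c * algebraMap (X.presheaf.stalk ξ) K b = algebraMap (X.presheaf.stalk ξ) K a := by
      intro q hq _ hqht
      have hqm := hmaxht q hq hqht
      set q' : Ideal Γ(X, W) := q.comap (algebraMap Γ(X, W) (X.presheaf.stalk ξ)) with hq'def
      haveI hq' : q'.IsPrime := Ideal.IsPrime.comap _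
      have hq'p : q' ≤ p := by
        intro r hr
        by_contra hrp
        have hu : IsUnit (algebraMap Γ(X, W) (X.presheaf.stalk ξ) r) :=
          IsLocalization.map_units (X.presheaf.stalk ξ) (⟨r, hrp⟩ : p.primeCompl)
        exact hq.ne_top (Ideal.eq_top_of_isUnit_mem _ hr hu)
      set y := hW.fromSpec ⟨q', hq'⟩ with hydef
      have hyW : y ∈ W := fromSpec_mem hW _
      have hy : hW.primeIdealOf ⟨y, hyW⟩ = ⟨q', hq'⟩ := primeIdealOf_fromSpec hW _
      have hyξ : y ⤳ ξ := fromSpec_specializes hW ξ hξW ⟨q', hq'⟩ hq'p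
      have hyne : y ≠ ξ := by
        intro heq
        apply hqm
        have h1 : q' = p := by
          have h2 : (hW.primeIdealOf ⟨y, hyW⟩).asIdeal = q' := congrArg PrimeSpectrum.asIdeal hy
          rw [← h2, hp]
          congr 2
          exact Subtype.ext heq
        rw [← IsLocalization.map_under p.primeCompl (X.presheaf.stalk ξ) q]
        change Ideal.map _ q' = _
        rw [h1]
        exact IsLocalization.AtPrime.map_eq_maximalIdeal p (X.presheaf.stalk ξ)
      have hyU : y ∈ U := by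
        by_contra h
        exact hyne (hgen y h hyξ)
      have hyV : y ∈ W ⊓ U := ⟨hyW, hyU⟩
      have hq₀q' : q₀ ≤ q' := by
        intro r hr
        have hr' : algebraMap Γ(X, W) (X.presheaf.stalk ξ) r = 0 := hr
        rw [hq'def, Ideal.mem_comap, hr']
        exact q.zero_mem
      have hηy : η ⤳ y := by
        apply fromSpec_specializes hW y hyW ⟨q₀, hq₀⟩
        rw [hy]
        exact hq₀q'
      letI := X.presheaf.algebra_section_stalk ⟨y, hyW⟩
      haveI := hW.isLocalization_stalk ⟨y, hyW⟩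
      obtain ⟨⟨b₁, ⟨s₁, hs₁⟩⟩, hbs⟩ := IsLocalization.surj
        (hW.primeIdealOf ⟨y, hyW⟩).asIdeal.primeCompl ((X.presheaf.germ (W ⊓ U) y hyV).hom c)
      simp only at hbs
      have hs₁q : s₁ ∉ q' := by
        intro h
        apply hs₁
        rw [hy]
        exact h
      refine ⟨algebraMap Γ(X, W) (X.presheaf.stalk ξ) b₁,
        algebraMap Γ(X, W) (X.presheaf.stalk ξ) s₁, hs₁q, ?_⟩
      rw [← hφW, ← hφW]
      -- apply the specialization map η ⤳ y to `hbs`
      have h3 := congrArg (X.presheaf.stalkSpecializes hηy).hom hbs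
      rw [map_mul] at h3
      have h4 : (X.presheaf.stalkSpecializes hηy).hom ((X.presheaf.germ (W ⊓ U) y hyV).hom c) =
          (X.presheaf.germ (W ⊓ U) η hηV).hom c :=
        (germ_eq_stalkSpecializes hyV hηy c).symm
      have h5 : ∀ r : Γ(X, W), (X.presheaf.stalkSpecializes hηy).hom
          (algebraMap Γ(X, W) (X.presheaf.stalk y) r) =
          (X.presheaf.germ (W ⊓ U) η hηV).hom
            ((X.presheaf.map (homOfLE (inf_le_left : W ⊓ U ≤ W)).op).hom r) := by
        intro r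
        change (X.presheaf.stalkSpecializes hηy).hom ((X.presheaf.germ W y hyW).hom r) = _
        rw [← germ_eq_stalkSpecializes hyW hηy r]
        change (X.presheaf.germ W η hηW).hom r = _
        rw [← X.presheaf.germ_res (homOfLE (inf_le_left : W ⊓ U ≤ W)) η hηV]
        rfl
      rw [h4, h5, h5] at h3
      have h6 := congrArg e h3
      rw [map_mul] at h6
      exact h6
    obtain ⟨a, b, hb, hab⟩ := exists_of_forall_heightOne (B := X.presheaf.stalk ξ) (K := K)
      (IsLocalRing.maximalIdeal (X.presheaf.stalk ξ)) hnorm (φ c) hH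
    have hbu : IsUnit b := by
      by_contra hnu
      exact hb ((IsLocalRing.mem_maximalIdeal _).mpr hnu)
    obtain ⟨b', rfl⟩ := hbu
    refine ⟨a * ↑b'⁻¹, ?_⟩
    rw [map_mul, ← hab, mul_assoc, ← map_mul, Units.mul_inv, map_one, mul_one]
  -- the ideal of sections vanishing at ξ
  let J : Ideal Γ(X, W ⊓ U) :=
    { carrier := {c | ∃ α ∈ IsLocalRing.maximalIdeal (X.presheaf.stalk ξ),
        algebraMap (X.presheaf.stalk ξ) K α = φ c}
      zero_mem' := ⟨0, zero_mem _, by rw [map_zero, map_zero]⟩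
      add_mem' := by
        rintro c c' ⟨α, hα, h⟩ ⟨α', hα', h'⟩
        exact ⟨α + α', add_mem hα hα', by rw [map_add, map_add, h, h']⟩
      smul_mem' := by
        rintro c' c ⟨α, hα, h⟩
        obtain ⟨α', h'⟩ := hR c'
        exact ⟨α' * α, Ideal.mul_mem_left _ _ hα, by rw [smul_eq_mul, map_mul, map_mul, h, h']⟩ }
  have hJ1 : (1 : Γ(X, W ⊓ U)) ∉ J := by
    rintro ⟨α, hα, h⟩
    rw [map_one] at h
    have h1 : α = 1 := IsFractionRing.injective (X.presheaf.stalk ξ) K (by rw [h, map_one])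
    rw [h1] at hα
    exact (Ideal.ne_top_iff_one _).mp (IsLocalRing.maximalIdeal.isMaximal _).ne_top hα
  set T : Set Γ(X, W ⊓ U) := {c | ∃ b : Γ(X, W), X.basicOpen b ≤ W ⊓ U ∧
    c = (X.presheaf.map (homOfLE (inf_le_left : W ⊓ U ≤ W)).op).hom b} with hT
  have hspan : Ideal.span T = ⊤ := by
    by_contra hne
    obtain ⟨𝔫, h𝔫max, h𝔫⟩ := Ideal.exists_le_maximal _ hne
    haveI := h𝔫max.isPrime
    set v := hV.fromSpec ⟨𝔫, h𝔫max.isPrime⟩ with hvdef
    have hvV : v ∈ W ⊓ U := fromSpec_mem hV _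
    have hv : hV.primeIdealOf ⟨v, hvV⟩ = ⟨𝔫, h𝔫max.isPrime⟩ := primeIdealOf_fromSpec hV _
    obtain ⟨b, hbV, hvb⟩ := hW.exists_basicOpen_le (V := W ⊓ U) ⟨v, hvV⟩ hvV.1
    have hmem : (X.presheaf.map (homOfLE (inf_le_left : W ⊓ U ≤ W)).op).hom b ∈ 𝔫 :=
      h𝔫 (Ideal.subset_span ⟨b, hbV, rfl⟩)
    have h2 := (mem_primeIdealOf_iff hV v hvV _).mp (by rw [hv]; exact hmem)
    have h3 : X.presheaf.germ (W ⊓ U) v hvV
        ((X.presheaf.map (homOfLE (inf_le_left : W ⊓ U ≤ W)).op).hom b) =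
        X.presheaf.germ W v hvV.1 b := by
      rw [← X.presheaf.germ_res (homOfLE (inf_le_left : W ⊓ U ≤ W)) v hvV]
      rfl
    rw [h3] at h2
    have h4 : IsUnit (X.presheaf.germ W v hvV.1 b) := (Scheme.mem_basicOpen _ _ _ hvV.1).mp hvb
    exact (IsLocalRing.mem_maximalIdeal _).mp h2 h4
  have hle : Ideal.span T ≤ J := by
    rw [Ideal.span_le]
    rintro _ ⟨b, hbV, rfl⟩
    refine ⟨algebraMap Γ(X, W) (X.presheaf.stalk ξ) b, ?_, (hφW b).symm⟩
    rw [IsLocalRing.mem_maximalIdeal]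
    intro hu
    have h5 : ξ ∈ X.basicOpen b := (Scheme.mem_basicOpen _ _ _ hξW).mpr hu
    exact hξ (hbV h5).2
  apply hJ1
  apply hle
  rw [hspan]
  exact Submodule.mem_top


/-- in a reduced local ring, if the maximal ideal is an associated prime then it is minimal. -/
theorem maximalIdeal_mem_minimalPrimes_of_isAssociatedPrime {R : Type*} [CommRing R] [IsLocalRing R]
    [IsReduced R] (h : IsAssociatedPrime (IsLocalRing.maximalIdeal R) R) :
    IsLocalRing.maximalIdeal R ∈ minimalPrimes R := by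
  obtain ⟨hprime, c, hc⟩ := h
  have hc0 : c ≠ 0 := by
    rintro rfl
    apply hprime.ne_top
    rw [hc, Ideal.radical_eq_top]
    rw [Ideal.eq_top_iff_one, Submodule.mem_colon_singleton, smul_zero]
    exact Submodule.zero_mem _
  have hcn : c ∉ sInf (minimalPrimes R) := by
    rw [minimalPrimes, Ideal.sInf_minimalPrimes]
    intro hmem
    have h0 : IsNilpotent c := hmem
    exact hc0 h0.eq_zero
  have : ∃ q ∈ minimalPrimes R, c ∉ q := by
    by_contra hall
    push Not at hall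
    exact hcn (Ideal.mem_sInf.mpr fun {q} hq => hall q hq)
  obtain ⟨q, hqmin, hcq⟩ := this
  haveI hqprime : q.IsPrime := hqmin.1.1
  have hle : IsLocalRing.maximalIdeal R ≤ q := by
    intro r hr
    rw [hc] at hr
    obtain ⟨n, hn⟩ := hr
    rw [Submodule.mem_colon_singleton, Submodule.mem_bot, smul_eq_mul] at hn
    have h1 : r ^ n * c ∈ q := hn ▸ q.zero_mem
    rcases hqprime.mem_or_mem h1 with h2 | h2
    · exact hqprime.mem_of_pow_mem n h2
    · exact absurd h2 hcq
  have heq : IsLocalRing.maximalIdeal R = q :=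
    le_antisymm hle (IsLocalRing.le_maximalIdeal hqprime.ne_top)
  rw [heq]
  exact hqmin

/-- a dense open of a locally Noetherian scheme contains a generization of every point. -/
theorem exists_specializes_mem_of_dense (U : X.Opens) (hdense : Dense (U : Set X)) (ξ : X) :
    ∃ y ∈ U, y ⤳ ξ := by
  classical
  obtain ⟨_, ⟨W, hW, rfl⟩, hξW, -⟩ :=
    X.isBasis_affineOpens.exists_subset_of_mem_open (Set.mem_univ ξ) isOpen_univ
  have hW : IsAffineOpen W := hW
  haveI : IsNoetherianRing Γ(X, W) := IsLocallyNoetherian.component_noetherian ⟨W, hW⟩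
  set p : Ideal Γ(X, W) := (hW.primeIdealOf ⟨ξ, hξW⟩).asIdeal with hp
  obtain ⟨q, hqmin, hqp⟩ := Ideal.exists_minimalPrimes_le (bot_le : (⊥ : Ideal Γ(X, W)) ≤ p)
  haveI hqprime : q.IsPrime := hqmin.1.1
  have hsp : hW.fromSpec ⟨q, hqprime⟩ ⤳ ξ := fromSpec_specializes hW ξ hξW ⟨q, hqprime⟩ hqp
  refine ⟨hW.fromSpec ⟨q, hqprime⟩, ?_, hsp⟩
  have hfin : ((minimalPrimes Γ(X, W)) \ {q}).Finite :=
    (minimalPrimes.finite_of_isNoetherianRing Γ(X, W)).subset Set.sdiff_subset
  have hclosed : IsClosed (⋃ q' ∈ (minimalPrimes Γ(X, W)) \ {q},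
      PrimeSpectrum.zeroLocus (q' : Set Γ(X, W))) :=
    hfin.isClosed_biUnion fun q' _ => PrimeSpectrum.isClosed_zeroLocus _
  set O : Set (PrimeSpectrum Γ(X, W)) := (⋃ q' ∈ (minimalPrimes Γ(X, W)) \ {q},
      PrimeSpectrum.zeroLocus (q' : Set Γ(X, W)))ᶜ with hO
  have hOopen : IsOpen O := hclosed.isOpen_compl
  have hqO : (⟨q, hqprime⟩ : PrimeSpectrum Γ(X, W)) ∈ O := by
    rw [hO, Set.mem_compl_iff, Set.mem_iUnion₂]
    rintro ⟨q', ⟨hq'min, hq'ne⟩, hmem⟩
    rw [PrimeSpectrum.mem_zeroLocus, SetLike.coe_subset_coe] at hmem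
    apply hq'ne
    rw [Set.mem_singleton_iff]
    exact le_antisymm hmem (hqmin.2 ⟨hq'min.1.1, bot_le⟩ hmem)
  have hO'open : IsOpen (hW.fromSpec '' O) := hW.fromSpec.isOpenEmbedding.isOpenMap _ hOopen
  obtain ⟨u, ⟨P, hPO, rfl⟩, huU⟩ := hdense.inter_open_nonempty _ hO'open ⟨_, ⟨_, hqO, rfl⟩⟩
  obtain ⟨q'', hq''min, hq''P⟩ :=
    Ideal.exists_minimalPrimes_le (bot_le : (⊥ : Ideal Γ(X, W)) ≤ P.asIdeal)
  have hq''eq : q'' = q := by
    by_contra hne
    apply hPO
    rw [Set.mem_iUnion₂]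
    exact ⟨q'', ⟨hq''min, hne⟩, by rw [PrimeSpectrum.mem_zeroLocus, SetLike.coe_subset_coe]; exact hq''P⟩
  rw [hq''eq] at hq''P
  have hsp2 : hW.fromSpec ⟨q, hqprime⟩ ⤳ hW.fromSpec P :=
    ((PrimeSpectrum.le_iff_specializes ⟨q, hqprime⟩ P).mp hq''P).map hW.fromSpec.continuous
  exact hsp2.mem_open U.isOpen huU


open Scheme.IdealSheafData in
/-- S1687 (and S1572). -/
theorem exists_effCartier_compl (X : Scheme.{u}) [IsNoetherian X]
    (hΔ : ∀ V W : X.Opens, IsAffineOpen V → IsAffineOpen W → IsAffineOpen (V ⊓ W)) (U : X.Opens)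
    (hU : IsAffineOpen U) (hdense : Dense (U : Set ↥X))
    (hufd : ∀ x : ↥X, x ∉ U →
      IsDomain (X.presheaf.stalk x) ∧ UniqueFactorizationMonoid (X.presheaf.stalk x)) :
    ∃ 𝓘 : X.IdealSheafData, BlowUp.IsEffCartierIdeal 𝓘 ∧
      (𝓘.support : Set ↥X) = (U : Set ↥X)ᶜ := by
  let T : Closeds X := ⟨(U : Set X)ᶜ, U.isOpen.isClosed_compl⟩
  have hsupp : ((vanishingIdeal T).support : Set X) = (U : Set X)ᶜ := coe_support_vanishingIdeal T
  refine ⟨vanishingIdeal T, ?_, hsupp⟩
  haveI : IsReduced (vanishingIdeal T).subscheme :=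
    Groth.Agent.Lib.Helper10.RedInd.isReduced_subscheme_vanishingIdeal T
  have hnotU : ∀ x : X, x ∈ (vanishingIdeal T).support → x ∉ U := by
    intro x hx hxU
    have : x ∈ ((vanishingIdeal T).support : Set X) := hx
    rw [hsupp] at this
    exact this hxU
  apply isEffCartier_of_noEmbedded_codim_one_ufd
  · intro z hass z' hz'
    have hmin := maximalIdeal_mem_minimalPrimes_of_isAssociatedPrime hass
    have hht : (IsLocalRing.maximalIdeal ((vanishingIdeal T).subscheme.presheaf.stalk z)).height = 0 :=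
      Ideal.height_eq_zero_iff.mpr hmin
    have hdim : ringKrullDim ((vanishingIdeal T).subscheme.presheaf.stalk z) = 0 := by
      rw [← IsLocalRing.maximalIdeal_height_eq_ringKrullDim, hht]
      rfl
    rw [ringKrullDim_stalk_eq_coheight] at hdim
    have hco : Order.coheight z = 0 := by exact_mod_cast hdim
    have hmax : IsMax z := Order.coheight_eq_zero.mp hco
    have h1 : z ≤ z' := hz'
    have h2 : z' ≤ z := hmax h1
    exact (hz'.antisymm h2).eq
  · intro z hzmax
    set ξ := (vanishingIdeal T).subschemeι z with hξdef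
    have hξsupp : ξ ∈ (vanishingIdeal T).support := by
      rw [← SetLike.mem_coe, ← (vanishingIdeal T).range_subschemeι]
      exact Set.mem_range_self z
    have hξU : ξ ∉ U := hnotU ξ hξsupp
    obtain ⟨hdom, hufdξ⟩ := hufd ξ hξU
    obtain ⟨_, ⟨W, hW, rfl⟩, hξW, -⟩ :=
      X.isBasis_affineOpens.exists_subset_of_mem_open (Set.mem_univ ξ) isOpen_univ
    have hW : IsAffineOpen W := hW
    have hgen : ∀ y : X, y ∉ U → y ⤳ ξ → y = ξ := by
      intro y hyU hyξ
      have hy : y ∈ Set.range (vanishingIdeal T).subschemeι := by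
        rw [(vanishingIdeal T).range_subschemeι]
        rw [hsupp]
        exact hyU
      obtain ⟨z', rfl⟩ := hy
      have hz'z : z' ⤳ z :=
        ((vanishingIdeal T).subschemeι.isEmbedding.isInducing.specializes_iff).mp hyξ
      rw [hzmax z' hz'z]
    obtain ⟨y, hyU, hyξ⟩ := exists_specializes_mem_of_dense U hdense ξ
    exact ringKrullDim_eq_one_of_affine_inter U ξ hξU hgen hW hξW (hΔ W U hW hU)
      ⟨y, hyξ, fun h => hξU (h ▸ hyU)⟩
  · intro x hx
    exact hufd x (hnotU x hx)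

end Groth.Agent.Lib.Helper20.EffCartCompl
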