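import Groth.Agent.Lib.Helper20EffCartExt

/-! Faithfully flat descent of effective Cartier ideal sheaves (helper20). -/

set_option autoImplicit false
set_option linter.style.haveILetI false
universe u
open CategoryTheory AlgebraicGeometry CategoryTheory.Limits

namespace Groth.Agent.Lib.Helper20.EffCartFF
open Groth.Agent.Lib.Helper20.EffCartier Groth.Agent.Lib.Helper20.EffCartUFD

/-- local descent of "principal generated by a nonzerodivisor" along a flat local homomorphism. -/
theorem exists_principal_of_map {O O' : Type*} [CommRing O] [CommRing O'] [IsLocalRing O]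
    [IsLocalRing O'] (φ : O →+* O') [IsLocalHom φ] (hφ : φ.Flat) (I : Ideal O) (t' : O')
    (ht' : t' ∈ nonZeroDivisors O') (hI : I.map φ = Ideal.span {t'}) :
    ∃ t : O, t ∈ nonZeroDivisors O ∧ I = Ideal.span {t} := by
  letI := φ.toAlgebra
  haveI : Module.Flat O O' := hφ
  haveI : IsLocalHom (algebraMap O O') := ‹IsLocalHom φ›
  haveI : Module.FaithfullyFlat O O' := Module.FaithfullyFlat.of_flat_of_isLocalHom
  have ht0 : t' ≠ 0 := nonZeroDivisors.ne_zero ht'
  -- find a generator
  have key : ∃ g ∈ I, ∃ b : O', IsUnit b ∧ φ g = b * t' := by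
    by_contra hcon
    push Not at hcon
    have hle : I.map φ ≤ IsLocalRing.maximalIdeal O' * Ideal.span {t'} := by
      rw [Ideal.map_le_iff_le_comap]
      intro g hg
      have h1 : φ g ∈ Ideal.span {t'} := hI ▸ Ideal.mem_map_of_mem φ hg
      obtain ⟨b, hb⟩ := Ideal.mem_span_singleton'.mp h1
      have hbu : ¬ IsUnit b := fun hu => hcon g hg b hu hb.symm
      rw [Ideal.mem_comap, ← hb]
      exact Ideal.mul_mem_mul ((IsLocalRing.mem_maximalIdeal _).mpr hbu)
        (Ideal.mem_span_singleton_self _)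
    have h2 : t' ∈ IsLocalRing.maximalIdeal O' * Ideal.span {t'} :=
      hle (hI ▸ Ideal.mem_span_singleton_self t')
    obtain ⟨c, hc, hct⟩ := Ideal.mem_mul_span_singleton.mp h2
    have h3 : (1 - c) * t' = 0 := by rw [sub_mul, one_mul, hct, sub_self]
    have h4 : IsUnit (1 - c) := by
      have := IsLocalRing.isUnit_one_sub_self_of_mem_nonunits c hc
      exact this
    exact ht0 (h4.mul_right_eq_zero.mp h3)
  obtain ⟨g, hgI, b, hb, hgb⟩ := key
  refine ⟨g, ?_, ?_⟩
  · rw [mem_nonZeroDivisors_iff_right]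
    intro a ha
    have h1 : φ a * (b * t') = 0 := by rw [← hgb, ← map_mul, ha, map_zero]
    have h2 : φ a * b = 0 := by
      have := (mem_nonZeroDivisors_iff_right.mp ht') (φ a * b) (by rw [mul_assoc]; exact h1)
      exact this
    have h3 : φ a = 0 := hb.mul_left_eq_zero.mp h2
    exact (FaithfulSMul.algebraMap_injective O O') (by rw [map_zero]; exact h3)
  · have h1 : (Ideal.span {g}).map φ = I.map φ := by
      rw [hI, Ideal.map_span, Set.image_singleton, hgb]
      exact Ideal.span_singleton_mul_left_unit hb t'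
    have h2 := Ideal.comap_map_eq_self_of_faithfullyFlat (B := O') I
    have h3 := Ideal.comap_map_eq_self_of_faithfullyFlat (B := O') (Ideal.span {g})
    rw [← h2, ← h3]
    exact congrArg (Ideal.comap (algebraMap O O')) h1.symm

/-- effective Cartier descends along flat surjective morphisms (locally Noetherian target). -/
theorem isEffCartier_of_comap_flat_surjective {X Y : Scheme.{u}} [IsLocallyNoetherian X]
    (g : Y ⟶ X) [Flat g] [Surjective g] (𝓘 : X.IdealSheafData)
    (h : BlowUp.IsEffCartierIdeal (𝓘.comap g)) : BlowUp.IsEffCartierIdeal 𝓘 := by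
  intro x
  obtain ⟨y, rfl⟩ := g.surjective x
  obtain ⟨_, ⟨W, hW, rfl⟩, hxW, -⟩ :=
    X.isBasis_affineOpens.exists_subset_of_mem_open (Set.mem_univ (g y)) isOpen_univ
  have hW : IsAffineOpen W := hW
  obtain ⟨V, hV, hyV, hVW, t', ht', hIt'⟩ :=
    exists_le_of_isEffCartierIdeal h y (g ⁻¹ᵁ W) hxW
  have h1 := ideal_comap_eq_map g 𝓘 hV hW hVW
  have hcomm : (g.stalkMap y).hom.comp (X.presheaf.germ W (g y) hxW).hom =
      (Y.presheaf.germ V y hyV).hom.comp (g.appLE W V hVW).hom := by
    rw [← CommRingCat.hom_comp, ← CommRingCat.hom_comp]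
    congr 1
    rw [Scheme.Hom.germ_stalkMap, Scheme.Hom.appLE, Category.assoc, Y.presheaf.germ_res]
  -- germ of t' is a nonzerodivisor
  have ht'' : (Y.presheaf.germ V y hyV).hom t' ∈ nonZeroDivisors (Y.presheaf.stalk y) := by
    letI := Y.presheaf.algebra_section_stalk ⟨y, hyV⟩
    haveI := hV.isLocalization_stalk ⟨y, hyV⟩
    exact IsLocalization.map_nonZeroDivisors_le (hV.primeIdealOf ⟨y, hyV⟩).asIdeal.primeCompl _
      (Submonoid.mem_map_of_mem _ ht')
  have h2 : ((𝓘.ideal ⟨W, hW⟩).map (X.presheaf.germ W (g y) hxW).hom).map (g.stalkMap y).hom =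
      Ideal.span {(Y.presheaf.germ V y hyV).hom t'} := by
    rw [Ideal.map_map, hcomm, ← Ideal.map_map, ← h1, hIt', Ideal.map_span, Set.image_singleton]
  obtain ⟨t, ht, hIt⟩ := exists_principal_of_map (g.stalkMap y).hom (Flat.stalkMap g y) _ _ ht'' h2
  exact exists_affine_of_stalk_principal 𝓘 (g y) hW hxW t ht hIt

/-- S13604. -/
theorem isEffCartier_of_baseChange_field {k : Type u} [Field k] {K : Type u} [Field K]
    [Algebra k K] {X : Scheme.{u}} (f : X ⟶ Spec (CommRingCat.of k)) (r : ℕ) [SmoothOfRelativeDimension r f]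
    (𝓘 : X.IdealSheafData)
    (hK : BlowUp.IsEffCartierIdeal
      (𝓘.comap (pullback.fst f (Spec.map (CommRingCat.ofHom (algebraMap k K)))))) :
    BlowUp.IsEffCartierIdeal 𝓘 := by
  haveI : Smooth f := SmoothOfRelativeDimension.smooth r f
  haveI : IsLocallyNoetherian X := LocallyOfFiniteType.isLocallyNoetherian f
  haveI : Flat (Spec.map (CommRingCat.ofHom (algebraMap k K))) := by
    rw [Flat.SpecMap_iff]
    show (algebraMap k K).Flat
    rw [RingHom.flat_algebraMap_iff]
    infer_instance
  haveI : Surjective (Spec.map (CommRingCat.ofHom (algebraMap k K))) := by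
    constructor
    intro x
    refine ⟨⟨⊥, Ideal.isPrime_bot⟩, ?_⟩
    exact Subsingleton.elim _ _
  exact isEffCartier_of_comap_flat_surjective _ 𝓘 hK

end Groth.Agent.Lib.Helper20.EffCartFF
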