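import Mathlib
import Groth.Prelude.Def_BlowUp2
import Groth.Agent.Lib.Helper20EffCartUFD2
import Groth.Agent.Lib.Helper20BlowUp

set_option linter.unusedSectionVars false
set_option linter.style.haveILetI false
set_option autoImplicit false
universe u
open CategoryTheory CategoryTheory.Limits AlgebraicGeometry TopologicalSpace Opposite

namespace Groth.Agent.Lib.Helper20.EffCartSum

open Groth.Agent.Lib.Helper20.CDivOrd2 Groth.Agent.Lib.Helper20.EffCartUFD
open Groth.Agent.Lib.Helper20.Div21Lib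

/-- uniform denominators over a finitely generated ideal (submonoid version). -/
theorem exists_uniform_of_fg' {B : Type*} [CommRing B] (M : Submonoid B) (J K : Ideal B)
    (hJ : J.FG) (h : ∀ x ∈ J, ∃ u ∈ M, u * x ∈ K) : ∃ s ∈ M, ∀ x ∈ J, s * x ∈ K := by
  classical
  obtain ⟨T, rfl⟩ := hJ
  have key : ∀ T' : Finset B, (∀ x ∈ T', ∃ u ∈ M, u * x ∈ K) →
      ∃ s ∈ M, ∀ x ∈ T', s * x ∈ K := by
    intro T'
    induction T' using Finset.induction_on with
    | empty => intro _; exact ⟨1, M.one_mem, by simp⟩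
    | insert a T' ha ih =>
      intro h
      obtain ⟨s, hs, hsT⟩ := ih (fun x hx => h x (Finset.mem_insert_of_mem hx))
      obtain ⟨u, hu, hua⟩ := h a (Finset.mem_insert_self a T')
      refine ⟨u * s, M.mul_mem hu hs, ?_⟩
      intro x hx
      rcases Finset.mem_insert.mp hx with rfl | hx
      · have : u * s * x = s * (u * x) := by ring
        rw [this]; exact K.mul_mem_left _ hua
      · have : u * s * x = u * (s * x) := by ring
        rw [this]; exact K.mul_mem_left _ (hsT x hx)
  obtain ⟨s, hs, hsT⟩ := key T (fun x hx => h x (Ideal.subset_span hx))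
  refine ⟨s, hs, fun x hx => ?_⟩
  induction hx using Submodule.span_induction with
  | mem x hx => exact hsT x hx
  | zero => simp
  | add x y _ _ hx hy => rw [mul_add]; exact K.add_mem hx hy
  | smul a x _ hx => rw [smul_eq_mul, mul_left_comm]; exact K.mul_mem_left _ hx

/-- colon ideals commute with localization away from an element, for finitely generated
denominators. -/
theorem map_colon_away {B Bs : Type*} [CommRing B] [CommRing Bs] [Algebra B Bs] (s : B)
    [IsLocalization.Away s Bs] (I K : Ideal B) (hK : K.FG) :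
    (Submodule.colon I (K : Set B)).map (algebraMap B Bs) =
      Submodule.colon (I.map (algebraMap B Bs)) ((K.map (algebraMap B Bs) : Ideal Bs) : Set Bs) := by
  apply le_antisymm
  · rw [Ideal.map_le_iff_le_comap]
    intro h hh
    rw [Ideal.mem_comap, Submodule.mem_colon]
    intro y hy
    have hy' : y ∈ Ideal.span ((algebraMap B Bs) '' (K : Set B)) := hy
    clear hy
    induction hy' using Submodule.span_induction with
    | mem y hy =>
      obtain ⟨k, hk, rfl⟩ := hy
      rw [smul_eq_mul, ← map_mul]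
      apply Ideal.mem_map_of_mem
      have := (Submodule.mem_colon.mp hh) k hk
      exact this
    | zero => rw [smul_zero]; exact Submodule.zero_mem _
    | add x y _ _ hx hy => rw [smul_add]; exact Submodule.add_mem _ hx hy
    | smul a x _ hx =>
      rw [smul_comm]
      exact Submodule.smul_mem _ a hx
  · intro z hz
    obtain ⟨⟨h, ⟨_, n, rfl⟩⟩, hzh⟩ := IsLocalization.surj (Submonoid.powers s) z
    simp only at hzh
    have hsu : IsUnit (algebraMap B Bs s) := IsLocalization.Away.algebraMap_isUnit s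
    have h1 : ∀ k ∈ K, ∃ u ∈ Submonoid.powers s,
        u * k ∈ (Submodule.comap (LinearMap.mulLeft B h) I : Ideal B) := by
      intro k hk
      have h2 : algebraMap B Bs (h * k) ∈ I.map (algebraMap B Bs) := by
        rw [map_mul, ← hzh, mul_assoc, mul_comm, mul_assoc]
        apply Ideal.mul_mem_left
        rw [mul_comm]
        have := (Submodule.mem_colon.mp hz) (algebraMap B Bs k) (Ideal.mem_map_of_mem _ hk)
        exact this
      obtain ⟨⟨⟨x, hx⟩, ⟨m, hm⟩⟩, hxm⟩ :=
        (IsLocalization.mem_map_algebraMap_iff (Submonoid.powers s) Bs).mp h2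
      simp only at hxm
      rw [← map_mul] at hxm
      obtain ⟨⟨c, hc⟩, hc2⟩ := (IsLocalization.eq_iff_exists (Submonoid.powers s) Bs).mp hxm
      simp only at hc2
      refine ⟨c * m, (Submonoid.powers s).mul_mem hc hm, ?_⟩
      change h * (c * m * k) ∈ I
      have : h * (c * m * k) = c * (h * k * m) := by ring
      rw [this, hc2]
      exact I.mul_mem_left _ hx
    obtain ⟨u, hu, hu2⟩ := exists_uniform_of_fg' (Submonoid.powers s) K _ hK h1
    have huh : u * h ∈ Submodule.colon I (K : Set B) := by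
      rw [Submodule.mem_colon]
      intro k hk
      have := hu2 k hk
      change h * (u * k) ∈ I at this
      rw [smul_eq_mul]
      have h3 : u * h * k = h * (u * k) := by ring
      rw [h3]; exact this
    have huu : IsUnit (algebraMap B Bs u) := by
      obtain ⟨m, rfl⟩ := hu
      rw [map_pow]; exact hsu.pow m
    have h4 : algebraMap B Bs (u * h) ∈ (Submodule.colon I (K : Set B)).map (algebraMap B Bs) :=
      Ideal.mem_map_of_mem _ huh
    rw [map_mul, ← hzh, map_pow] at h4
    have h5 := (Ideal.unit_mul_mem_iff_mem _ huu).mp h4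
    exact (Ideal.mul_unit_mem_iff_mem _ (hsu.pow n)).mp h5


variable {X : Scheme.{u}} [IsLocallyNoetherian X]

/-- the ideal quotient `(D : E)` of two quasi-coherent ideal sheaves on a locally Noetherian scheme. -/
noncomputable def quot (D E : X.IdealSheafData) : X.IdealSheafData where
  ideal U := Submodule.colon (D.ideal U) ((E.ideal U : Ideal Γ(X, U)) : Set Γ(X, U))
  map_ideal_basicOpen U f := by
    haveI : IsNoetherianRing Γ(X, U) := IsLocallyNoetherian.component_noetherian U
    haveI := U.2.isLocalization_basicOpen f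
    rw [← D.map_ideal_basicOpen U f, ← E.map_ideal_basicOpen U f]
    exact map_colon_away (Bs := Γ(X, X.basicOpen f)) f (D.ideal U) (E.ideal U)
      (IsNoetherian.noetherian _)

theorem quot_ideal (D E : X.IdealSheafData) (U : X.affineOpens) :
    (quot D E).ideal U = Submodule.colon (D.ideal U) ((E.ideal U : Ideal Γ(X, U)) : Set Γ(X, U)) :=
  rfl

theorem le_quot (D E : X.IdealSheafData) : D ≤ quot D E := by
  intro U z hz
  rw [quot_ideal, Submodule.mem_colon]
  intro e _
  rw [smul_eq_mul]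
  exact Ideal.mul_mem_right _ _ hz

theorem mul_quot_le (D E : X.IdealSheafData) : E * quot D E ≤ D := by
  intro U
  rw [Scheme.IdealSheafData.ideal_mul, Pi.mul_apply, Ideal.mul_le]
  intro e he z hz
  rw [quot_ideal, Submodule.mem_colon] at hz
  have := hz e he
  rw [smul_eq_mul, mul_comm] at this
  exact this

theorem quot_ideal_of_span (D E : X.IdealSheafData) (U : X.affineOpens) (g h : Γ(X, U))
    (hg : g ∈ nonZeroDivisors Γ(X, U)) (hE : E.ideal U = Ideal.span {g})
    (hD : D.ideal U = Ideal.span {g * h}) : (quot D E).ideal U = Ideal.span {h} := by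
  ext z
  rw [quot_ideal, Submodule.mem_colon, hE, hD, Ideal.mem_span_singleton']
  constructor
  · intro hz
    have h1 := hz g (Ideal.mem_span_singleton_self g)
    rw [smul_eq_mul, Ideal.mem_span_singleton'] at h1
    obtain ⟨c, hc⟩ := h1
    refine ⟨c, ?_⟩
    have h2 : (c * h - z) * g = 0 := by
      rw [sub_mul]
      have : c * h * g = c * (g * h) := by ring
      rw [this, hc, sub_self]
    have h3 := (mem_nonZeroDivisors_iff_right.mp hg) _ h2
    exact sub_eq_zero.mp h3
  · rintro ⟨c, rfl⟩ e he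
    obtain ⟨d, rfl⟩ := Ideal.mem_span_singleton'.mp he
    rw [smul_eq_mul, Ideal.mem_span_singleton']
    exact ⟨c * d, by ring⟩

/-- if `D ≤ E` are effective Cartier then `(D : E)` is effective Cartier and `D = E * (D : E)`. -/
theorem quot_spec {D E : X.IdealSheafData} (hD : BlowUp.IsEffCartierIdeal D)
    (hE : BlowUp.IsEffCartierIdeal E) (hle : D ≤ E) :
    BlowUp.IsEffCartierIdeal (quot D E) ∧ E * quot D E = D := by
  -- common local data
  have key : ∀ x : X, ∃ (U : X.affineOpens), x ∈ U.1 ∧ ∃ g h : Γ(X, U),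
      g ∈ nonZeroDivisors Γ(X, U) ∧ h ∈ nonZeroDivisors Γ(X, U) ∧ E.ideal U = Ideal.span {g} ∧
        D.ideal U = Ideal.span {g * h} := by
    intro x
    obtain ⟨U, hU, hxU, -, f, g, hf, hg, hDf, hEg⟩ :=
      Groth.Agent.Lib.Helper20.RelCartier.exists_common hD hE x ⊤ trivial
    have hfg : f ∈ Ideal.span {g} := by
      rw [← hEg]
      apply hle ⟨U, hU⟩
      rw [hDf]
      exact Ideal.mem_span_singleton_self f
    obtain ⟨h, hh⟩ := Ideal.mem_span_singleton'.mp hfg
    refine ⟨⟨U, hU⟩, hxU, g, h, hg, ?_, hEg, ?_⟩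
    · rw [mem_nonZeroDivisors_iff_right]
      intro z hz
      apply (mem_nonZeroDivisors_iff_right.mp hf) z
      rw [← hh, ← mul_assoc, hz, zero_mul]
    · rw [hDf, ← hh, mul_comm]
  constructor
  · intro x
    obtain ⟨U, hxU, g, h, hg, hh, hEg, hDgh⟩ := key x
    exact ⟨U, hxU, h, hh, quot_ideal_of_span D E U g h hg hEg hDgh⟩
  · apply le_antisymm (mul_quot_le D E)
    choose U hxU g h hg hh hEg hDgh using key
    apply Scheme.IdealSheafData.le_of_iSup_eq_top U
    · rw [eq_top_iff]
      intro x _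
      exact TopologicalSpace.Opens.mem_iSup.mpr ⟨x, hxU x⟩
    · intro x
      rw [Scheme.IdealSheafData.ideal_mul, Pi.mul_apply, hDgh x, hEg x,
        quot_ideal_of_span D E (U x) (g x) (h x) (hg x) (hEg x) (hDgh x),
        Ideal.span_singleton_mul_span_singleton]


open Groth.Agent.Lib.Helper20.EffCartUFD2

/-- on an affine open meeting an integral closed subscheme, the ideal is the prime of the generic
point. -/
theorem primeIdealOf_genericPoint (𝓘 : X.IdealSheafData) [IsIntegral 𝓘.subscheme]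
    {W : X.Opens} (hW : IsAffineOpen W) (x : X) (hxW : x ∈ W) (hx : x ∈ 𝓘.support) :
    ∃ hηW : 𝓘.subschemeι (genericPoint ↥𝓘.subscheme) ∈ W,
      (hW.primeIdealOf ⟨𝓘.subschemeι (genericPoint ↥𝓘.subscheme), hηW⟩).asIdeal =
        𝓘.ideal ⟨W, hW⟩ := by
  haveI hprime := isPrime_ideal_of_isIntegral 𝓘 hW x hxW hx
  have hx' : x ∈ Set.range 𝓘.subschemeι := by rw [𝓘.range_subschemeι]; exact hx
  obtain ⟨z, hz⟩ := hx'
  have hηW : 𝓘.subschemeι (genericPoint ↥𝓘.subscheme) ∈ W := by
    have h1 : genericPoint ↥𝓘.subscheme ∈ 𝓘.subschemeι ⁻¹ᵁ W := by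
      refine ((genericPoint_spec ↥𝓘.subscheme).mem_open_set_iff (𝓘.subschemeι ⁻¹ᵁ W).isOpen).mpr ?_
      exact ⟨z, Set.mem_univ _, by change 𝓘.subschemeι z ∈ W; rw [hz]; exact hxW⟩
    exact h1
  refine ⟨hηW, ?_⟩
  have hηsupp : 𝓘.subschemeι (genericPoint ↥𝓘.subscheme) ∈ 𝓘.support := by
    rw [← SetLike.mem_coe, ← 𝓘.range_subschemeι]; exact Set.mem_range_self _
  have h1 : 𝓘.ideal ⟨W, hW⟩ ≤
      (hW.primeIdealOf ⟨𝓘.subschemeι (genericPoint ↥𝓘.subscheme), hηW⟩).asIdeal :=
    (mem_support_iff_le 𝓘 hW _ hηW).mp hηsupp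
  let P : PrimeSpectrum Γ(X, W) := ⟨𝓘.ideal ⟨W, hW⟩, hprime⟩
  have hP : hW.primeIdealOf ⟨hW.fromSpec P, fromSpec_mem hW P⟩ = P := primeIdealOf_fromSpec hW P
  have hPsupp : hW.fromSpec P ∈ 𝓘.support := by
    rw [mem_support_iff_le 𝓘 hW _ (fromSpec_mem hW P), hP]
  have hP' : hW.fromSpec P ∈ Set.range 𝓘.subschemeι := by rw [𝓘.range_subschemeι]; exact hPsupp
  obtain ⟨z', hz'⟩ := hP'
  have hsp : 𝓘.subschemeι (genericPoint ↥𝓘.subscheme) ⤳ hW.fromSpec P := by
    rw [← hz']
    exact (genericPoint_specializes z').map 𝓘.subschemeι.continuous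
  have h2 := primeIdealOf_le_of_specializes hW _ _ (fromSpec_mem hW P) hηW hsp
  rw [hP] at h2
  exact le_antisymm h2 h1

/-- an ideal sheaf whose support contains the generic point of an integral closed subscheme is
contained in the ideal sheaf of that subscheme. -/
theorem le_of_genericPoint_mem (D E : X.IdealSheafData) [IsIntegral E.subscheme]
    (h : E.subschemeι (genericPoint ↥E.subscheme) ∈ D.support) : D ≤ E := by
  intro U
  by_cases hne : ∃ x ∈ U.1, x ∈ E.support
  · obtain ⟨x, hxU, hx⟩ := hne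
    obtain ⟨hηU, heq⟩ := primeIdealOf_genericPoint E U.2 x hxU hx
    have h1 := (mem_support_iff_le D U.2 _ hηU).mp h
    have h2 : E.ideal U = E.ideal ⟨U.1, U.2⟩ := rfl
    rw [h2, ← heq]
    exact h1
  · have htop : E.ideal U = ⊤ := by
      by_contra hne'
      obtain ⟨𝔪, hmax, hle⟩ := Ideal.exists_le_maximal _ hne'
      apply hne
      refine ⟨U.2.fromSpec ⟨𝔪, hmax.isPrime⟩, fromSpec_mem U.2 _, ?_⟩
      rw [mem_support_iff_le E U.2 _ (fromSpec_mem U.2 _), primeIdealOf_fromSpec]
      exact hle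
    rw [htop]
    exact le_top

/-- an effective Cartier divisor `D ≠ ∅` supported in a union of integral effective Cartier
divisors contains one of them. -/
theorem exists_le_of_support_subset {D : X.IdealSheafData} (hD : BlowUp.IsEffCartierIdeal D)
    (hne : D ≠ ⊤) {r : ℕ} (Ds : Fin r → X.IdealSheafData)
    (hDs : ∀ i, BlowUp.IsEffCartierIdeal (Ds i)) (hint : ∀ i, IsIntegral (Ds i).subscheme)
    (hsub : (D.support : Set X) ⊆ ⋃ i, ((Ds i).support : Set X)) : ∃ i, D ≤ Ds i := by
  have hsupp : D.support ≠ ⊥ := fun h => hne ((Scheme.IdealSheafData.support_eq_bot_iff D).mp h)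
  obtain ⟨x, hx⟩ : ∃ x : X, x ∈ D.support := by
    by_contra hall
    push Not at hall
    apply hsupp
    ext y
    simp only [TopologicalSpace.Closeds.coe_bot, Set.mem_empty_iff_false, iff_false]
    exact hall y
  obtain ⟨_, ⟨W, hW, rfl⟩, hxW, -⟩ :=
    X.isBasis_affineOpens.exists_subset_of_mem_open (Set.mem_univ x) isOpen_univ
  have hW : IsAffineOpen W := hW
  obtain ⟨p, hpmin, hpx⟩ := Ideal.exists_minimalPrimes_le ((mem_support_iff_le D hW x hxW).mp hx)
  haveI hpprime : p.IsPrime := hpmin.1.1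
  set ξ := hW.fromSpec ⟨p, hpprime⟩ with hξdef
  have hξW : ξ ∈ W := fromSpec_mem hW _
  have hξp : hW.primeIdealOf ⟨ξ, hξW⟩ = ⟨p, hpprime⟩ := primeIdealOf_fromSpec hW _
  have hξD : ξ ∈ D.support := by
    rw [mem_support_iff_le D hW ξ hξW, hξp]
    exact hpmin.1.2
  have hξmax : ∀ y : X, y ∈ D.support → y ⤳ ξ → y = ξ := by
    intro y hy hyξ
    have hyW : y ∈ W := hyξ.mem_open W.isOpen hξW
    have h1 := primeIdealOf_le_of_specializes hW ξ y hξW hyW hyξ
    rw [hξp] at h1
    have h2 := (mem_support_iff_le D hW y hyW).mp hy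
    have h3 : p ≤ (hW.primeIdealOf ⟨y, hyW⟩).asIdeal := hpmin.2 ⟨inferInstance, h2⟩ h1
    have h4 : hW.primeIdealOf ⟨y, hyW⟩ = ⟨p, hpprime⟩ := PrimeSpectrum.ext (le_antisymm h1 h3)
    have h5 := hW.fromSpec_primeIdealOf ⟨y, hyW⟩
    rw [h4] at h5
    exact h5.symm
  obtain ⟨i, hi⟩ := Set.mem_iUnion.mp (hsub hξD)
  refine ⟨i, ?_⟩
  haveI := hint i
  obtain ⟨U, hU, hξU, -, f, g, hf, hg, hDf, hEg⟩ :=
    Groth.Agent.Lib.Helper20.RelCartier.exists_common hD (hDs i) ξ ⊤ trivial
  haveI : IsNoetherianRing Γ(X, U) := IsLocallyNoetherian.component_noetherian ⟨U, hU⟩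
  set p' := (hU.primeIdealOf ⟨ξ, hξU⟩).asIdeal with hp'
  have hp'min : p' ∈ (Ideal.span {f}).minimalPrimes := by
    refine ⟨⟨inferInstance, ?_⟩, ?_⟩
    · rw [← hDf]; exact (mem_support_iff_le D hU ξ hξU).mp hξD
    · rintro q ⟨hqprime, hfq⟩ hqp'
      set y := hU.fromSpec ⟨q, hqprime⟩ with hydef
      have hyU : y ∈ U := fromSpec_mem hU _
      have hyq : hU.primeIdealOf ⟨y, hyU⟩ = ⟨q, hqprime⟩ := primeIdealOf_fromSpec hU _
      have hyD : y ∈ D.support := by
        rw [mem_support_iff_le D hU y hyU, hyq, hDf]; exact hfq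
      have hyξ : y ⤳ ξ := fromSpec_specializes hU ξ hξU ⟨q, hqprime⟩ hqp'
      have := hξmax y hyD hyξ
      have h6 : (hU.primeIdealOf ⟨y, hyU⟩).asIdeal = p' := by
        rw [hp']
        congr 2
        exact Subtype.ext this
      rw [hyq] at h6
      rw [← h6]
  have hp'ht : p'.height ≤ 1 :=
    Ideal.height_le_one_of_isPrincipal_of_mem_minimalPrimes (Ideal.span {f}) p' hp'min
  haveI hQprime : ((Ds i).ideal ⟨U, hU⟩).IsPrime := isPrime_ideal_of_isIntegral (Ds i) hU ξ hξU hi
  have hQle : (Ds i).ideal ⟨U, hU⟩ ≤ p' := (mem_support_iff_le (Ds i) hU ξ hξU).mp hi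
  have hQht : ((Ds i).ideal ⟨U, hU⟩).height ≠ 0 := by
    intro h0
    have hmin : (Ds i).ideal ⟨U, hU⟩ ∈ minimalPrimes Γ(X, U) := Ideal.height_eq_zero_iff.mp h0
    have hdisj := Ideal.disjoint_nonZeroDivisors_of_mem_minimalPrimes hmin
    have hgQ : g ∈ (Ds i).ideal ⟨U, hU⟩ := by rw [hEg]; exact Ideal.mem_span_singleton_self g
    exact Set.disjoint_left.mp hdisj hgQ hg
  have hQeq : (Ds i).ideal ⟨U, hU⟩ = p' := by
    by_contra hne'
    have hlt : (Ds i).ideal ⟨U, hU⟩ < p' := lt_of_le_of_ne hQle hne'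
    have := Ideal.height_strict_mono_of_isPrime_of_isPrime hlt
    have h7 : ((Ds i).ideal ⟨U, hU⟩).height < 1 := lt_of_lt_of_le this hp'ht
    exact hQht (Order.lt_one_iff.mp h7)
  obtain ⟨hηU, heq⟩ := primeIdealOf_genericPoint (Ds i) hU ξ hξU hi
  have hηξ : (Ds i).subschemeι (genericPoint ↥(Ds i).subscheme) = ξ := by
    have h8 : hU.primeIdealOf ⟨(Ds i).subschemeι (genericPoint ↥(Ds i).subscheme), hηU⟩ =
        hU.primeIdealOf ⟨ξ, hξU⟩ := PrimeSpectrum.ext (by rw [heq, hQeq])
    have h9 := hU.fromSpec_primeIdealOf ⟨(Ds i).subschemeι (genericPoint ↥(Ds i).subscheme), hηU⟩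
    rw [h8, hU.fromSpec_primeIdealOf ⟨ξ, hξU⟩] at h9
    exact h9.symm
  apply le_of_genericPoint_mem D (Ds i)
  rw [hηξ]
  exact hξD


omit [IsLocallyNoetherian X] in
/-- ideal sheaves on a Noetherian scheme satisfy the ascending chain condition. -/
theorem wellFounded_gt (X : Scheme.{u}) [IsNoetherian X] :
    WellFounded (fun D D' : X.IdealSheafData => D' < D) := by
  let 𝒰 : X.OpenCover := X.affineCover.finiteSubcover
  let U : 𝒰.I₀ → X.affineOpens :=
    fun i => ⟨(𝒰.f i).opensRange, isAffineOpen_opensRange (𝒰.f i)⟩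
  have hU : ⨆ i, (U i).1 = ⊤ := 𝒰.iSup_opensRange
  haveI : ∀ i, IsNoetherianRing Γ(X, (U i).1) :=
    fun i => IsLocallyNoetherian.component_noetherian (U i)
  let Φ : X.IdealSheafData → (∀ i, (Ideal Γ(X, (U i).1))ᵒᵈ) :=
    fun D i => OrderDual.toDual (D.ideal (U i))
  have hwf : WellFounded (fun a b : (∀ i, (Ideal Γ(X, (U i).1))ᵒᵈ) => a < b) :=
    (Pi.wellFoundedLT).wf
  refine Subrelation.wf ?_ (InvImage.wf Φ hwf)
  intro D D' hlt
  change Φ D < Φ D'
  rw [lt_iff_le_not_ge]
  constructor
  · intro i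
    exact hlt.le (U i)
  · intro hle
    apply not_le_of_gt hlt
    exact Scheme.IdealSheafData.le_of_iSup_eq_top U hU (fun i => hle i)

/-- S1659. -/
theorem effCartier_eq_prod (X : Scheme.{u}) [IsNoetherian X] {r : ℕ}
    (Ds : Fin r → X.IdealSheafData)
    (hDs : ∀ i, BlowUp.IsEffCartierIdeal (Ds i)) (hint : ∀ i, IsIntegral (Ds i).subscheme)
    (D : X.IdealSheafData) : BlowUp.IsEffCartierIdeal D →
    (D.support : Set X) ⊆ ⋃ i, ((Ds i).support : Set X) →
    ∃ a : Fin r → ℕ, D = ∏ i, Ds i ^ a i := by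
  induction D using (wellFounded_gt X).induction with
  | _ D ih =>
  intro hD hsub
  by_cases hne : D = ⊤
  · refine ⟨fun _ => 0, ?_⟩
    rw [hne]
    simp only [pow_zero, Finset.prod_const_one]
    rfl
  · obtain ⟨i, hle⟩ := exists_le_of_support_subset hD hne Ds hDs hint hsub
    obtain ⟨hD', hmul⟩ := quot_spec hD (hDs i) hle
    have hlt : D < quot D (Ds i) := by
      refine lt_of_le_of_ne (le_quot D (Ds i)) ?_
      intro heq
      -- then `D = Ds i * D`, forcing `Ds i = ⊤`
      haveI := hint i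
      have htop : Ds i = ⊤ := by
        rw [← top_le_iff]
        have key : ∀ x : X, ∃ (U : X.affineOpens), x ∈ U.1 ∧ (⊤ : X.IdealSheafData).ideal U ≤
            (Ds i).ideal U := by
          intro x
          obtain ⟨U, hU, hxU, -, f, g, hf, hg, hDf, hEg⟩ :=
            Groth.Agent.Lib.Helper20.RelCartier.exists_common hD (hDs i) x ⊤ trivial
          refine ⟨⟨U, hU⟩, hxU, ?_⟩
          have h1 : (Ds i * D).ideal ⟨U, hU⟩ = D.ideal ⟨U, hU⟩ := by
            rw [← heq] at hmul
            rw [hmul]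
          rw [Scheme.IdealSheafData.ideal_mul, Pi.mul_apply, hDf, hEg,
            Ideal.span_singleton_mul_span_singleton] at h1
          have h2 : f ∈ Ideal.span {g * f} := by rw [h1]; exact Ideal.mem_span_singleton_self f
          obtain ⟨c, hc⟩ := Ideal.mem_span_singleton'.mp h2
          have h3 : (c * g - 1) * f = 0 := by
            rw [sub_mul, one_mul]
            have : c * g * f = c * (g * f) := by ring
            rw [this, hc, sub_self]
          have h4 := (mem_nonZeroDivisors_iff_right.mp hf) _ h3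
          have h5 : c * g = 1 := sub_eq_zero.mp h4
          rw [hEg, Scheme.IdealSheafData.ideal_top, Pi.top_apply, top_le_iff, Ideal.eq_top_iff_one,
            Ideal.mem_span_singleton']
          exact ⟨c, h5⟩
        choose U hxU hU using key
        apply Scheme.IdealSheafData.le_of_iSup_eq_top U
        · rw [eq_top_iff]
          intro x _
          exact TopologicalSpace.Opens.mem_iSup.mpr ⟨x, hxU x⟩
        · exact hU
      have hempty : IsEmpty ↥(Ds i).subscheme := by
        rw [htop]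
        infer_instance
      exact hempty.false (genericPoint ↥(Ds i).subscheme)
    have hsub' : ((quot D (Ds i)).support : Set X) ⊆ ⋃ j, ((Ds j).support : Set X) :=
      fun y hy => hsub (Scheme.IdealSheafData.support_antitone (le_quot D (Ds i)) hy)
    obtain ⟨a', ha'⟩ := ih (quot D (Ds i)) hlt hD' hsub'
    refine ⟨fun j => a' j + if j = i then 1 else 0, ?_⟩
    rw [← hmul, ha']
    simp only [pow_add, Finset.prod_mul_distrib]
    rw [mul_comm]
    congr 1
    rw [Finset.prod_eq_single i]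
    · simp
    · intro j _ hj
      simp [hj]
    · intro h
      exact absurd (Finset.mem_univ i) h

end Groth.Agent.Lib.Helper20.EffCartSum
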