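import Groth.Agent.Lib.Helper20TowerMap2

/-!
# Elementary extensions are universal homeomorphisms (helper20)
-/

universe u

namespace Groth.Agent.Lib.Helper20.Tower

open Groth.Agent.Lib.Helper20.AWN Groth.Agent.Lib.Helper20.EtaPt Polynomial

section

variable {A B : Type u} [CommRing A] [CommRing B] [Algebra A B]

theorem exists_tower_of_adjoin_singleton_StP (t : B) (htop : Algebra.adjoin A {t} = ⊤)
    (hSt : StP (⊥ : Subalgebra A B) t) (b : B) :
    ∃ l : List B, IsTower (StP (A := A)) l ∧ b ∈ Algebra.adjoin A {x | x ∈ l} := by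
  have hbot : Algebra.adjoin A {x : B | x ∈ ([] : List B)} = ⊥ := by
    have : {x : B | x ∈ ([] : List B)} = ∅ := by ext; simp
    rw [this, Algebra.adjoin_empty]
  refine ⟨[] ++ [t], isTower_concat StP_mono (isTower_nil _) (by rw [hbot]; exact hSt), ?_⟩
  have : {x : B | x ∈ ([] ++ [t] : List B)} = {t} := by ext; simp
  rw [this, htop]
  exact Algebra.mem_top

theorem exists_tower_of_adjoin_singleton_St2 (t : B) (htop : Algebra.adjoin A {t} = ⊤)
    (hSt : St2 (⊥ : Subalgebra A B) t) (b : B) :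
    ∃ l : List B, IsTower (St2 (A := A)) l ∧ b ∈ Algebra.adjoin A {x | x ∈ l} := by
  have hbot : Algebra.adjoin A {x : B | x ∈ ([] : List B)} = ⊥ := by
    have : {x : B | x ∈ ([] : List B)} = ∅ := by ext; simp
    rw [this, Algebra.adjoin_empty]
  refine ⟨[] ++ [t], isTower_concat St2_mono (isTower_nil _) (by rw [hbot]; exact hSt), ?_⟩
  have : {x : B | x ∈ ([] ++ [t] : List B)} = {t} := by ext; simp
  rw [this, htop]
  exact Algebra.mem_top

theorem comap_surjective_of_points
    (h : ∀ P : PrimeSpectrum A, ∃ (K : Type u) (_ : Field K) (g : B →+* K),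
      RingHom.ker (g.comp (algebraMap A B)) = P.asIdeal) :
    Function.Surjective (PrimeSpectrum.comap (algebraMap A B)) := by
  intro P
  obtain ⟨K, _, g, hg⟩ := h P
  refine ⟨⟨RingHom.ker g, RingHom.ker_isPrime g⟩, PrimeSpectrum.ext ?_⟩
  rw [← hg]
  rfl

end

section Quot

variable {A : Type u} [CommRing A]

theorem adjoin_mk_X_eq_top (I : Ideal A[X]) :
    Algebra.adjoin A {(Ideal.Quotient.mk I X : A[X] ⧸ I)} = ⊤ := by
  rw [eq_top_iff]
  rintro b -
  obtain ⟨f, rfl⟩ := Ideal.Quotient.mk_surjective b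
  have : Ideal.Quotient.mk I f = Polynomial.aeval (Ideal.Quotient.mk I X : A[X] ⧸ I) f := by
    have h1 : (Polynomial.aeval (Ideal.Quotient.mk I X : A[X] ⧸ I)) =
        (Ideal.Quotient.mkₐ A I) := by
      apply Polynomial.algHom_ext
      simp
    rw [h1]
    rfl
  rw [this]
  exact Polynomial.aeval_mem_adjoin_singleton _ _

end Quot

end Groth.Agent.Lib.Helper20.Tower
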