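import Mathlib
import Groth.Agent.Lib.Helper20EtFinParts
import Groth.Agent.Lib.Helper20FinUnion

set_option autoImplicit false
universe u

open CategoryTheory CategoryTheory.Limits AlgebraicGeometry

namespace Groth.Agent.Lib.Helper20.EtSections

theorem quasiFiniteAt_of_finite_fibre {X Y : Scheme.{u}} (f : X ⟶ Y) [LocallyOfFiniteType f]
    (x : X) (h : (f ⁻¹' {f x}).Finite) : f.QuasiFiniteAt x := by
  rw [Scheme.Hom.quasiFiniteAt_iff_isOpen_singleton_asFiber]
  have h1 : Finite (f ⁻¹' {f x}) := h.to_subtype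
  have : Finite (f.fiber (f x)) := (f.fiberHomeo (f x)).toEquiv.finite_iff.mpr h1
  exact isOpen_discrete _

theorem exists_etale_isCompl_of_finite_fibre {X Y : Scheme.{u}} (f : X ⟶ Y)
    [LocallyOfFiniteType f] [IsSeparated f] (y : Y) (hfin : (f ⁻¹' {y}).Finite) :
    ∃ (Y' : Scheme.{u}) (g : Y' ⟶ Y) (y' : Y'), Etale g ∧ g y' = y ∧
      Function.Bijective (g.residueFieldMap y') ∧
      ∃ (V W : (pullback f g).Opens), IsCompl V W ∧
        IsFinite (V.ι ≫ pullback.snd f g) ∧
        ∀ x : ↥(pullback f g), pullback.snd f g x = y' → x ∈ V := by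
  obtain ⟨U, g, u, hg, hu, hbij, d⟩ := hasFinParts_of_finite (f := f) y (f ⁻¹' {y}) hfin (by
    intro t ht
    have ht' : f t = y := ht
    subst ht'
    exact ⟨rfl, quasiFiniteAt_of_finite_fibre f t hfin⟩)
  have hd : ∀ t : (f ⁻¹' {y}), ∃ V : (pullback f g).Opens, IsFinite (V.ι ≫ pullback.snd f g) ∧
      ∀ w : ↥(pullback f g), pullback.snd f g w = u → (w ∈ V ↔ pullback.fst f g w = t.1) :=
    fun t => d t.1 t.2
  choose V hVfin hV using hd
  have : Finite (f ⁻¹' {y}) := hfin.to_subtype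
  have hVc : ∀ t, IsClosed (V t : Set ↥(pullback f g)) := by
    intro t
    have := hVfin t
    exact Groth.Agent.Lib.Helper20.FinUnion.isClosed_of_isFinite (pullback.snd f g) (V t)
  obtain ⟨h1, h2⟩ := Groth.Agent.Lib.Helper20.FinUnion.isFinite_iSup_of_isClosed
    (pullback.snd f g) V hVc hVfin
  refine ⟨U, g, u, hg, hu, hbij, ⨆ t, V t, ⟨_, h2.isOpen_compl⟩, ?_, h1, ?_⟩
  · rw [isCompl_iff, disjoint_iff, codisjoint_iff]
    constructor
    · ext w
      simp only [TopologicalSpace.Opens.coe_inf, TopologicalSpace.Opens.coe_mk, Set.mem_inter_iff,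
        SetLike.mem_coe, Set.mem_compl_iff, TopologicalSpace.Opens.coe_bot,
        Set.mem_empty_iff_false, iff_false, not_and, not_not]
      exact fun h => h
    · ext w
      simp only [TopologicalSpace.Opens.coe_sup, TopologicalSpace.Opens.coe_mk, Set.mem_union,
        SetLike.mem_coe, Set.mem_compl_iff, TopologicalSpace.Opens.coe_top, Set.mem_univ, iff_true]
      exact em _
  · intro w hw
    have hwy : pullback.fst f g w ∈ f ⁻¹' {y} := by
      change f (pullback.fst f g w) = y
      rw [← Scheme.Hom.comp_apply, pullback.condition, Scheme.Hom.comp_apply, hw, hu]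
    rw [TopologicalSpace.Opens.mem_iSup]
    exact ⟨⟨_, hwy⟩, (hV ⟨_, hwy⟩ w hw).mpr rfl⟩

end Groth.Agent.Lib.Helper20.EtSections
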