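import Mathlib
import Groth.Agent.S9436

/-!
# Étale retractions pass to quotients (helper20)
-/

set_option autoImplicit false
universe u

open TensorProduct

namespace Groth.Agent.Lib.Helper20.EtRetract

section Fam

variable (A : Type u) [CommRing A] (B C : Type u) [CommRing B] [CommRing C]
  [Algebra A B] [Algebra A C]

/-- The two-element family `true ↦ B`, `false ↦ C`. -/
def fam : Bool → Type u := fun b => cond b B C

instance instCommRingFam (b : Bool) : CommRing (fam B C b) := by
  cases b
  · exact (inferInstance : CommRing C)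
  · exact (inferInstance : CommRing B)

instance instAlgebraFam (b : Bool) : Algebra A (fam B C b) := by
  cases b
  · exact (inferInstance : Algebra A C)
  · exact (inferInstance : Algebra A B)

instance instEtaleFam [Algebra.Etale A B] [Algebra.Etale A C] (b : Bool) :
    Algebra.Etale A (fam B C b) := by
  cases b
  · exact (inferInstance : Algebra.Etale A C)
  · exact (inferInstance : Algebra.Etale A B)

variable {B C}

/-- Pair constructor for the product. -/
def mkP (x : B) (y : C) : Π b, fam B C b := fun b =>
  match b with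
  | true => x
  | false => y

theorem mkP_mul (x x' : B) (y y' : C) :
    mkP (x * x') (y * y') = mkP x y * mkP x' y' := by
  funext b; cases b <;> rfl

theorem mkP_add (x x' : B) (y y' : C) :
    mkP (x + x') (y + y') = mkP x y + mkP x' y' := by
  funext b; cases b <;> rfl

theorem mkP_one : (mkP (1 : B) (1 : C)) = 1 := by
  funext b; cases b <;> rfl

theorem mkP_smul (a : A) (x : B) (y : C) :
    mkP (a • x) (a • y) = a • mkP x y := by
  funext b; cases b <;> rfl

theorem evalRingHom_comp_algebraMap_true :
    (Pi.evalRingHom (fam B C) true).comp (algebraMap A (Π b, fam B C b)) = algebraMap A B := rfl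

theorem evalRingHom_comp_algebraMap_false :
    (Pi.evalRingHom (fam B C) false).comp (algebraMap A (Π b, fam B C b)) = algebraMap A C := rfl

end Fam

/-- Existence of an `A`-algebra map `B → A ⧸ I` from a retraction of `B × A_i`. -/
theorem exists_algHom_quotient {A : Type u} [CommRing A]
    (h : ∀ (P : Type u) [CommRing P] [Algebra A P],
      Module.FaithfullyFlat A P → Algebra.Etale A P → Nonempty (P →ₐ[A] A))
    (I : Ideal A) (B : Type u) [CommRing B] [Algebra A B] [Algebra.Etale A B]
    (hVI : PrimeSpectrum.zeroLocus (I : Set A) ⊆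
      Set.range (PrimeSpectrum.comap (algebraMap A B))) :
    Nonempty (B →ₐ[A] A ⧸ I) := by
  classical
  have : Module.Flat A B := inferInstance
  have hopen : IsOpen (Set.range (PrimeSpectrum.comap (algebraMap A B))) :=
    (PrimeSpectrum.isOpenMap_comap_of_hasGoingDown_of_finitePresentation (R := A) (S := B)).isOpen_range
  -- find i
  obtain ⟨i, hiI, hi⟩ : ∃ i ∈ I, ∀ p : PrimeSpectrum A,
      p ∉ Set.range (PrimeSpectrum.comap (algebraMap A B)) → i ∉ p.asIdeal := by
    set Z : Set (PrimeSpectrum A) := (Set.range (PrimeSpectrum.comap (algebraMap A B)))ᶜ with hZ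
    have hZc : IsClosed Z := hopen.isClosed_compl
    set J : Ideal A := PrimeSpectrum.vanishingIdeal Z with hJ
    have hZJ : PrimeSpectrum.zeroLocus (J : Set A) = Z := by
      rw [hJ, PrimeSpectrum.zeroLocus_vanishingIdeal_eq_closure, hZc.closure_eq]
    have hIJ : I ⊔ J = ⊤ := by
      rw [← PrimeSpectrum.zeroLocus_empty_iff_eq_top, PrimeSpectrum.zeroLocus_sup, hZJ]
      rw [Set.eq_empty_iff_forall_notMem]
      rintro p ⟨hp1, hp2⟩
      exact hp2 (hVI hp1)
    have h1 : (1 : A) ∈ I ⊔ J := by rw [hIJ]; trivial
    obtain ⟨i, hiI, j, hjJ, hij⟩ := Submodule.mem_sup.mp h1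
    refine ⟨i, hiI, fun p hp hip => ?_⟩
    have hpZ : p ∈ PrimeSpectrum.zeroLocus (J : Set A) := by rw [hZJ]; exact hp
    have hjp : j ∈ p.asIdeal := hpZ hjJ
    have : (1 : A) ∈ p.asIdeal := by rw [← hij]; exact p.asIdeal.add_mem hip hjp
    exact p.isPrime.ne_top ((Ideal.eq_top_iff_one _).mpr this)
  -- the product
  let C := Localization.Away i
  let P := Π b : Bool, fam B C b
  have : Algebra.Etale A C := Algebra.Etale.of_isLocalizationAway i
  have : Algebra.Etale A P := inferInstance
  have : Module.Flat A P := inferInstance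
  have hsurj : Function.Surjective (PrimeSpectrum.comap (algebraMap A P)) := by
    intro p
    by_cases hp : p ∈ Set.range (PrimeSpectrum.comap (algebraMap A B))
    · obtain ⟨q, rfl⟩ := hp
      refine ⟨PrimeSpectrum.comap (Pi.evalRingHom (fam B C) true) q, ?_⟩
      rw [← PrimeSpectrum.comap_comp_apply, evalRingHom_comp_algebraMap_true]
      rfl
    · have hip := hi p hp
      have : p ∈ Set.range (PrimeSpectrum.comap (algebraMap A C)) := by
        rw [PrimeSpectrum.localization_away_comap_range C i]
        exact hip
      obtain ⟨q, rfl⟩ := this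
      refine ⟨PrimeSpectrum.comap (Pi.evalRingHom (fam B C) false) q, ?_⟩
      rw [← PrimeSpectrum.comap_comp_apply, evalRingHom_comp_algebraMap_false]
      rfl
  have hff : Module.FaithfullyFlat A P := Module.FaithfullyFlat.of_comap_surjective hsurj
  obtain ⟨ρ⟩ := h P hff inferInstance
  -- the map
  let ψ : B →ₗ[A] A ⧸ I :=
    { toFun := fun b => Ideal.Quotient.mk I (ρ (mkP b (0 : C)))
      map_add' := fun x y => by
        have : (mkP (x + y) (0 : C) : P) = mkP x 0 + mkP y 0 := by
          rw [← mkP_add, add_zero]
        rw [this, map_add, map_add]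
      map_smul' := fun a x => by
        have : (mkP (a • x) (0 : C) : P) = a • mkP x 0 := by
          rw [← mkP_smul, smul_zero]
        rw [this, map_smul, RingHom.id_apply, smul_eq_mul, map_mul]
        rfl }
  have hψ : ∀ b, ψ b = Ideal.Quotient.mk I (ρ (mkP b (0 : C))) := fun b => rfl
  have hfalse : ρ (mkP (0 : B) (1 : C)) ∈ I := by
    have h1 : (1 : C) = i • (IsLocalization.Away.invSelf (S := C) i) := by
      rw [Algebra.smul_def]
      exact (IsLocalization.Away.mul_invSelf i).symm
    have h2 : (mkP (0 : B) (1 : C) : P) =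
        i • (mkP (0 : B) (IsLocalization.Away.invSelf (S := C) i) : P) := by
      rw [← mkP_smul, smul_zero, ← h1]
    rw [h2, map_smul, smul_eq_mul]
    exact I.mul_mem_right _ hiI
  refine ⟨AlgHom.ofLinearMap ψ ?_ ?_⟩
  · rw [hψ]
    have h1 : (mkP (1 : B) (0 : C) : P) = 1 - mkP (0 : B) (1 : C) := by
      rw [eq_sub_iff_add_eq, ← mkP_add, add_zero, zero_add, mkP_one]
    rw [h1, map_sub, map_one, map_sub, map_one, Ideal.Quotient.eq_zero_iff_mem.mpr hfalse,
      sub_zero]
  · intro x y
    have : (mkP (x * y) (0 : C) : P) = mkP x 0 * mkP y 0 := by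
      rw [← mkP_mul, mul_zero]
    rw [hψ, hψ, hψ, this, map_mul, map_mul]

end Groth.Agent.Lib.Helper20.EtRetract
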