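import Mathlib
import Groth.Agent.Lib.Helper20EtSectionsCI

set_option autoImplicit false
universe u

open CategoryTheory CategoryTheory.Limits AlgebraicGeometry

namespace Groth.Agent.Lib.Helper20.EtSections

/-- An unramified morphism is, locally on the source, a closed immersion into an étale scheme. -/
theorem exists_closedImmersion_etale {X S : Scheme.{u}} (f : X ⟶ S) [LocallyOfFiniteType f]
    [FormallyUnramified f] (x : X) :
    ∃ (W' : Scheme.{u}) (ω : W' ⟶ X) (_ : IsOpenImmersion ω) (x' : W') (_ : ω x' = x)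
      (X' : Scheme.{u}) (i : W' ⟶ X') (f' : X' ⟶ S),
      IsClosedImmersion i ∧ Etale f' ∧ i ≫ f' = ω ≫ f := by
  obtain ⟨_, ⟨U, hU, rfl⟩, hxU, -⟩ := S.isBasis_affineOpens.exists_subset_of_mem_open
    (Set.mem_univ (f x)) isOpen_univ
  obtain ⟨_, ⟨V, hV, rfl⟩, hxV, hUV : V ≤ f ⁻¹ᵁ U⟩ :=
    X.isBasis_affineOpens.exists_subset_of_mem_open hxU (f ⁻¹ᵁ U).2
  have hft : (f.appLE U V hUV).hom.FiniteType := f.finiteType_appLE hU hV hUV
  have hfu : (f.appLE U V hUV).hom.FormallyUnramified := f.formallyUnramified_appLE hU hV hUV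
  algebraize [(f.appLE U V hUV).hom]
  let q := hV.primeIdealOf ⟨x, hxV⟩
  have hq : Algebra.IsUnramifiedAt Γ(S, U) q.asIdeal :=
    Algebra.formallyUnramified_iff_forall.mp inferInstance q
  obtain ⟨r, hrq, P, φ, hφ⟩ := Algebra.IsUnramifiedAt.exists_hasStandardEtaleSurjectionOn
    (R := Γ(S, U)) q.asIdeal
  let L := Localization.Away r
  let ω : Spec (CommRingCat.of L) ⟶ X :=
    Spec.map (CommRingCat.ofHom (algebraMap Γ(X, V) L)) ≫ hV.fromSpec
  have hω1 : IsOpenImmersion (Spec.map (CommRingCat.ofHom (algebraMap Γ(X, V) (Localization.Away r)))) :=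
    inferInstance
  have hω2 : IsOpenImmersion (IsAffineOpen.fromSpec hV) := IsAffineOpen.isOpenImmersion_fromSpec hV
  have hω : IsOpenImmersion ω := IsOpenImmersion.comp _ _
  -- the point
  have hqr : q ∈ Set.range (PrimeSpectrum.comap (algebraMap Γ(X, V) L)) := by
    rw [PrimeSpectrum.localization_away_comap_range L r]
    exact hrq
  obtain ⟨x', hx'⟩ := hqr
  have hωx : ω x' = x := by
    change hV.fromSpec (Spec.map (CommRingCat.ofHom (algebraMap Γ(X, V) L)) x') = x
    have : Spec.map (CommRingCat.ofHom (algebraMap Γ(X, V) L)) x' = q := hx'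
    rw [this]
    exact hV.fromSpec_primeIdealOf ⟨x, hxV⟩
  let i : Spec (CommRingCat.of L) ⟶ Spec (CommRingCat.of P.Ring) :=
    Spec.map (CommRingCat.ofHom φ.toRingHom)
  have hi : IsClosedImmersion i := IsClosedImmersion.spec_of_surjective _ hφ
  let f' : Spec (CommRingCat.of P.Ring) ⟶ S :=
    Spec.map (CommRingCat.ofHom (algebraMap Γ(S, U) P.Ring)) ≫ hU.fromSpec
  have hf' : Etale f' := by
    have : Etale (Spec.map (CommRingCat.ofHom (algebraMap Γ(S, U) P.Ring))) := by
      rw [HasRingHomProperty.Spec_iff (P := @Etale)]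
      exact RingHom.etale_algebraMap.mpr inferInstance
    have h2 : IsOpenImmersion (IsAffineOpen.fromSpec hU) := IsAffineOpen.isOpenImmersion_fromSpec hU
    have h3 : Etale (IsAffineOpen.fromSpec hU) := inferInstance
    exact AlgebraicGeometry.Etale.etale_comp _ _
  refine ⟨_, ω, hω, x', hωx, _, i, f', hi, hf', ?_⟩
  have h1 : φ.toRingHom.comp (algebraMap Γ(S, U) P.Ring) =
      (algebraMap Γ(X, V) L).comp (f.appLE U V hUV).hom := by
    ext a
    change φ (algebraMap Γ(S, U) P.Ring a) = _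
    rw [φ.commutes]
    rfl
  change Spec.map (CommRingCat.ofHom φ.toRingHom) ≫
    Spec.map (CommRingCat.ofHom (algebraMap Γ(S, U) P.Ring)) ≫ hU.fromSpec =
    (Spec.map (CommRingCat.ofHom (algebraMap Γ(X, V) L)) ≫ hV.fromSpec) ≫ f
  rw [← Category.assoc, ← Spec.map_comp, ← CommRingCat.ofHom_comp, h1, Category.assoc,
    ← IsAffineOpen.SpecMap_appLE_fromSpec f hU hV hUV, ← Category.assoc, ← Spec.map_comp]
  rfl

theorem hasSectionsCI_singleton_of_unramified {X S : Scheme.{u}} (f : X ⟶ S)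
    [LocallyOfFiniteType f] [FormallyUnramified f] (x : X) : HasSectionsCI f (f x) {x} := by
  obtain ⟨W', ω, hω, x', hx', X', i, f', hi, hf', hcomm⟩ := exists_closedImmersion_etale f x
  obtain ⟨U, g, u, hg, hu, d⟩ := hasSections_singleton_of_etale f' (i x')
  have d1 : SectionDataCI (ω ≫ f) g u (i ⁻¹' {i x'}) :=
    d.toCI i f' hcomm (by rintro _ rfl; exact ⟨x', rfl⟩)
  have hpre : i ⁻¹' {i x'} = {x'} := by
    ext t
    simp only [Set.mem_preimage, Set.mem_singleton_iff]
    exact ⟨fun h => i.isClosedEmbedding.injective h, fun h => by rw [h]⟩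
  rw [hpre] at d1
  have d2 := d1.ofOpenImmersion ω
  rw [Set.image_singleton, hx'] at d2
  refine ⟨U, g, u, hg, ?_, d2⟩
  rw [hu, ← Scheme.Hom.comp_apply, hcomm, Scheme.Hom.comp_apply, hx']

theorem hasSectionsCI_singleton {X S : Scheme.{u}} (f : X ⟶ S) (x : X) (W : X.Opens) (hxW : x ∈ W)
    [LocallyOfFiniteType (W.ι ≫ f)] [FormallyUnramified (W.ι ≫ f)] :
    HasSectionsCI f (f x) {x} := by
  have hxr : x ∈ Set.range W.ι := by rw [Scheme.Opens.range_ι]; exact hxW
  obtain ⟨x', rfl⟩ := hxr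
  have h1 := (hasSectionsCI_singleton_of_unramified (W.ι ≫ f) x').ofOpenImmersion W.ι
  rw [Set.image_singleton] at h1
  exact h1

theorem hasSectionsCI_of_finite {X S : Scheme.{u}} (f : X ⟶ S) (s : S) (T : Set X) (hT : T.Finite)
    (h : ∀ t ∈ T, f t = s ∧ ∃ W : X.Opens, t ∈ W ∧ LocallyOfFiniteType (W.ι ≫ f) ∧
      FormallyUnramified (W.ι ≫ f)) : HasSectionsCI f s T := by
  induction T, hT using Set.Finite.induction_on with
  | empty => exact hasSectionsCI_empty s
  | @insert a T' ha hT' ih =>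
    have ih' := ih (fun t ht => h t (Set.mem_insert_of_mem a ht))
    obtain ⟨hfa, W, haW, hW1, hW2⟩ := h a (Set.mem_insert a T')
    have h1 : HasSectionsCI f s {a} := by
      rw [← hfa]
      exact hasSectionsCI_singleton f a W haW
    have := h1.union ih' (Set.disjoint_singleton_left.mpr ha)
    rwa [Set.singleton_union] at this

end Groth.Agent.Lib.Helper20.EtSections
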