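import Mathlib
import Groth.Agent.Lib.Helper20UnramLocal

set_option autoImplicit false
universe u

open CategoryTheory CategoryTheory.Limits AlgebraicGeometry

namespace Groth.Agent.Lib.Helper20.EtSections

theorem HasSectionsCI.exists_decomposition {X S : Scheme.{u}} {f : X ⟶ S} [IsSeparated f] {s : S}
    {T : Set X} (h : HasSectionsCI f s T) :
    ∃ (U : Scheme.{u}) (g : U ⟶ S) (u : U), Etale g ∧ g u = s ∧
      ∃ (K : Type) (_ : Finite K) (W : (pullback f g).Opens) (V : K → (pullback f g).Opens),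
        W ⊔ (⨆ k, V k) = ⊤ ∧ (∀ k, Disjoint W (V k)) ∧ (∀ k k', k ≠ k' → Disjoint (V k) (V k')) ∧
        (∀ k, IsClosedImmersion ((V k).ι ≫ pullback.snd f g) ∧
          ∃ w : ↥(pullback f g), w ∈ V k ∧ pullback.snd f g w = u) ∧
        (∀ w : ↥(pullback f g), w ∈ W → pullback.snd f g w = u → pullback.fst f g w ∉ T) := by
  obtain ⟨U, g, u, hg, hu, K, hK, lab, V, a1, a2, a3, a4⟩ := h
  have hVci : ∀ k, IsClosedImmersion (V k).ι := by
    intro k
    have := (a1 k).1
    exact IsClosedImmersion.of_comp (V k).ι (pullback.snd f g)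
  have hVclosed : ∀ k, IsClosed (V k : Set ↥(pullback f g)) := by
    intro k
    have := hVci k
    have h1 := (V k).ι.isClosedEmbedding.isClosed_range
    rwa [Scheme.Opens.range_ι] at h1
  -- the bad closed subsets of `U`
  have hbad : ∀ k k', IsClosed (pullback.snd f g '' ((V k : Set ↥(pullback f g)) ∩ V k')) := by
    intro k k'
    have := (a1 k).1
    have h1 : pullback.snd f g '' ((V k : Set ↥(pullback f g)) ∩ V k') =
        ((V k).ι ≫ pullback.snd f g) '' ((V k).ι ⁻¹' (V k' : Set ↥(pullback f g))) := by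
      ext y
      constructor
      · rintro ⟨w, ⟨hw1, hw2⟩, rfl⟩
        have hwr : w ∈ Set.range (V k).ι := by rw [Scheme.Opens.range_ι]; exact hw1
        obtain ⟨w', rfl⟩ := hwr
        exact ⟨w', hw2, rfl⟩
      · rintro ⟨w', hw', rfl⟩
        refine ⟨(V k).ι w', ⟨?_, hw'⟩, rfl⟩
        have : (V k).ι w' ∈ Set.range (V k).ι := ⟨w', rfl⟩
        rwa [Scheme.Opens.range_ι] at this
    rw [h1]
    exact ((V k).ι ≫ pullback.snd f g).isClosedEmbedding.isClosedMap _
      ((hVclosed k').preimage (V k).ι.continuous)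
  have hopen : IsOpen (⋃ (p : {p : K × K // p.1 ≠ p.2}),
      pullback.snd f g '' ((V p.1.1 : Set ↥(pullback f g)) ∩ V p.1.2))ᶜ :=
    (isClosed_iUnion_of_finite (fun (p : {p : K × K // p.1 ≠ p.2}) => hbad p.1.1 p.1.2)).isOpen_compl
  let U' : U.Opens := ⟨_, hopen⟩
  have huU' : u ∈ U' := by
    change u ∉ _
    rw [Set.mem_iUnion]
    rintro ⟨⟨⟨k, k'⟩, hkk'⟩, w, ⟨hw1, hw2⟩, hwu⟩
    exact hkk' (a2 k k' w hw1 hw2 hwu)
  have hur : u ∈ Set.range U'.ι := by rw [Scheme.Opens.range_ι]; exact huU'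
  obtain ⟨u', hu'⟩ := hur
  let m := bcMap f g U'.ι
  let V' : K → (pullback f (U'.ι ≫ g)).Opens := fun k => m ⁻¹ᵁ V k
  have hV'closed : ∀ k, IsClosed (V' k : Set ↥(pullback f (U'.ι ≫ g))) := fun k =>
    (hVclosed k).preimage m.continuous
  have hdisj : ∀ k k', k ≠ k' → Disjoint (V' k) (V' k') := by
    intro k k' hkk'
    rw [disjoint_iff]
    ext w
    simp only [TopologicalSpace.Opens.coe_inf, Set.mem_inter_iff, SetLike.mem_coe,
      TopologicalSpace.Opens.coe_bot, Set.mem_empty_iff_false, iff_false, not_and]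
    intro hw hw'
    have hw1 : m w ∈ V k := hw
    have hw2 : m w ∈ V k' := hw'
    have hy : pullback.snd f g (m w) ∈ U' := by
      rw [bcMap_snd_apply]
      have : U'.ι (pullback.snd f (U'.ι ≫ g) w) ∈ Set.range U'.ι := ⟨_, rfl⟩
      rwa [Scheme.Opens.range_ι] at this
    apply hy
    rw [Set.mem_iUnion]
    exact ⟨⟨⟨k, k'⟩, hkk'⟩, m w, ⟨hw1, hw2⟩, rfl⟩
  have hWopen : IsOpen (⋃ k, (V' k : Set ↥(pullback f (U'.ι ≫ g))))ᶜ :=
    (isClosed_iUnion_of_finite hV'closed).isOpen_compl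
  refine ⟨U', U'.ι ≫ g, u', inferInstance, ?_, K, hK, ⟨_, hWopen⟩, V', ?_, ?_, hdisj, ?_, ?_⟩
  · rw [Scheme.Hom.comp_apply, hu', hu]
  · ext w
    simp only [TopologicalSpace.Opens.coe_sup, TopologicalSpace.Opens.coe_mk,
      TopologicalSpace.Opens.coe_iSup, TopologicalSpace.Opens.coe_top, Set.mem_univ, iff_true]
    by_cases hw : w ∈ ⋃ k, (V' k : Set ↥(pullback f (U'.ι ≫ g)))
    · exact Or.inr hw
    · exact Or.inl hw
  · intro k
    rw [disjoint_iff]
    ext w
    simp only [TopologicalSpace.Opens.coe_inf, TopologicalSpace.Opens.coe_mk, Set.mem_inter_iff,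
      Set.mem_compl_iff, Set.mem_iUnion, SetLike.mem_coe, not_exists,
      TopologicalSpace.Opens.coe_bot, Set.mem_empty_iff_false, iff_false, not_and]
    intro hw hwk
    exact hw k hwk
  · intro k
    obtain ⟨hci, w, hwV, hwu⟩ := a1 k
    refine ⟨isClosedImmersion_preimage_bcMap f g U'.ι (V k), ?_⟩
    obtain ⟨w', hw', hw'u⟩ := exists_bcMap_eq f g U'.ι w u' (by rw [hu', hwu])
    exact ⟨w', by change bcMap f g U'.ι w' ∈ V k; rw [hw']; exact hwV, hw'u⟩
  · intro w hwW hwu hwT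
    have hwW' : w ∉ ⋃ k, (V' k : Set ↥(pullback f (U'.ι ≫ g))) := hwW
    obtain ⟨k, -, hkV⟩ := a3 (m w) (by rw [bcMap_snd_apply, hwu, hu'])
      (by rw [bcMap_fst_apply]; exact hwT)
    exact hwW' (Set.mem_iUnion.mpr ⟨k, hkV⟩)

end Groth.Agent.Lib.Helper20.EtSections
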