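import Groth.Agent.Lib.Helper20EtSection

/-!
# Localizing away from an element that is a unit modulo an ideal (helper20)
-/

set_option autoImplicit false
universe u

open Polynomial

namespace Groth.Agent.Lib.Helper20.EtUnitLoc

/-- Localizing at an element that is a unit modulo `J` does not change the quotient by `J`. -/
theorem bijective_quotientMap_away {R : Type*} [CommRing R] (J : Ideal R) (t : R)
    (ht : IsUnit (Ideal.Quotient.mk J t)) :
    Function.Bijective (Ideal.quotientMap (J.map (algebraMap R (Localization.Away t)))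
      (algebraMap R (Localization.Away t)) Ideal.le_comap_map) := by
  set R' := Localization.Away t with hR'
  set J' := J.map (algebraMap R R') with hJ'
  constructor
  · -- injectivity via a retraction
    let ρ : R' →+* R ⧸ J := IsLocalization.Away.lift (S := R') t (g := Ideal.Quotient.mk J) ht
    have hρ : ∀ r : R, ρ (algebraMap R R' r) = Ideal.Quotient.mk J r := fun r =>
      IsLocalization.Away.lift_eq t ht r
    have hJ'ker : J' ≤ RingHom.ker ρ := by
      rw [hJ', Ideal.map_le_iff_le_comap]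
      intro a ha
      rw [Ideal.mem_comap, RingHom.mem_ker, hρ]
      exact Ideal.Quotient.eq_zero_iff_mem.mpr ha
    rw [injective_iff_map_eq_zero]
    intro z hz
    obtain ⟨a, rfl⟩ := Ideal.Quotient.mk_surjective z
    rw [Ideal.quotientMap_mk, Ideal.Quotient.eq_zero_iff_mem] at hz
    have := hJ'ker hz
    rwa [RingHom.mem_ker, hρ] at this
  · -- surjectivity
    intro z
    obtain ⟨z', rfl⟩ := Ideal.Quotient.mk_surjective z
    obtain ⟨n, x, hx⟩ := IsLocalization.Away.surj t z'
    obtain ⟨s, hs⟩ := Ideal.Quotient.mk_surjective (↑(ht.unit⁻¹) : R ⧸ J)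
    have hst : Ideal.Quotient.mk J (s * t) = 1 := by
      rw [map_mul, hs]
      exact ht.val_inv_mul
    have hst' : Ideal.Quotient.mk J' (algebraMap R R' s) * Ideal.Quotient.mk J' (algebraMap R R' t)
        = 1 := by
      rw [← map_mul, ← map_mul, ← map_one (Ideal.Quotient.mk J'), ← map_one (algebraMap R R'),
        Ideal.Quotient.mk_eq_mk_iff_sub_mem, ← map_sub]
      apply Ideal.mem_map_of_mem
      rwa [← Ideal.Quotient.mk_eq_mk_iff_sub_mem, map_one]
    refine ⟨Ideal.Quotient.mk J (x * s ^ n), ?_⟩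
    rw [Ideal.quotientMap_mk]
    have h6 : algebraMap R R' (x * s ^ n) =
        z' * (algebraMap R R' s * algebraMap R R' t) ^ n := by
      rw [map_mul, ← hx, map_pow, mul_pow]; ring
    rw [h6, map_mul, map_pow, map_mul, hst', one_pow, mul_one]

/-- Composition of quotient bijections along a tower. -/
theorem bijective_quotientMap_comp {A A₁ A' : Type*} [CommRing A] [CommRing A₁] [CommRing A']
    [Algebra A A₁] [Algebra A₁ A'] [Algebra A A'] [IsScalarTower A A₁ A'] (I : Ideal A)
    (h₁ : Function.Bijective (algebraMap (A ⧸ I) (A₁ ⧸ I.map (algebraMap A A₁))))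
    (h₂ : Function.Bijective (Ideal.quotientMap ((I.map (algebraMap A A₁)).map (algebraMap A₁ A'))
      (algebraMap A₁ A') Ideal.le_comap_map)) :
    Function.Bijective (Ideal.quotientMap (I.map (algebraMap A A')) (algebraMap A A')
      Ideal.le_comap_map) := by
  have hJ : I.map (algebraMap A A') = (I.map (algebraMap A A₁)).map (algebraMap A₁ A') := by
    rw [Ideal.map_map, ← IsScalarTower.algebraMap_eq]
  constructor
  · rw [injective_iff_map_eq_zero]
    intro z hz
    obtain ⟨a, rfl⟩ := Ideal.Quotient.mk_surjective z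
    rw [Ideal.quotientMap_mk, Ideal.Quotient.eq_zero_iff_mem, hJ,
      IsScalarTower.algebraMap_apply A A₁ A', ← Ideal.Quotient.eq_zero_iff_mem,
      ← Ideal.quotientMap_mk (f := algebraMap A₁ A') (H := Ideal.le_comap_map)] at hz
    have h3 := (injective_iff_map_eq_zero _).mp h₂.1 _ hz
    rw [← Ideal.Quotient.algebraMap_quotient_map_quotient] at h3
    exact (injective_iff_map_eq_zero _).mp h₁.1 _ h3
  · intro z
    obtain ⟨z', rfl⟩ := Ideal.Quotient.mk_surjective z
    obtain ⟨y, hy⟩ := h₂.2 (Ideal.Quotient.mk _ z')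
    obtain ⟨x, rfl⟩ := h₁.2 y
    obtain ⟨a, rfl⟩ := Ideal.Quotient.mk_surjective x
    refine ⟨Ideal.Quotient.mk I a, ?_⟩
    rw [Ideal.Quotient.algebraMap_quotient_map_quotient, Ideal.quotientMap_mk,
      Ideal.Quotient.mk_eq_mk_iff_sub_mem, ← IsScalarTower.algebraMap_apply, ← hJ] at hy
    rw [Ideal.quotientMap_mk, Ideal.Quotient.mk_eq_mk_iff_sub_mem]
    exact hy

section Filtered

open TensorProduct

variable (A : Type u) [CommRing A] (I : Ideal A)

/-- The section `A₁ → A ⧸ I` of an étale neighbourhood of `(A, I)`. -/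
noncomputable def secOf (A₁ : Type u) [CommRing A₁] [Algebra A A₁]
    (h₁ : Function.Bijective (Ideal.quotientMap (I.map (algebraMap A A₁)) (algebraMap A A₁)
      Ideal.le_comap_map)) : A₁ →ₐ[A] A ⧸ I :=
  { toRingHom := ((RingEquiv.ofBijective _ h₁).symm : _ →+* A ⧸ I).comp
      (Ideal.Quotient.mk (I.map (algebraMap A A₁)))
    commutes' := fun a => by
      simp only [RingHom.toMonoidHom_eq_coe, OneHom.toFun_eq_coe, MonoidHom.toOneHom_coe,
        MonoidHom.coe_coe, RingHom.coe_comp, RingHom.coe_coe, Function.comp_apply]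
      rw [RingEquiv.symm_apply_eq]
      simp }

theorem secOf_spec (A₁ : Type u) [CommRing A₁] [Algebra A A₁]
    (h₁ : Function.Bijective (Ideal.quotientMap (I.map (algebraMap A A₁)) (algebraMap A A₁)
      Ideal.le_comap_map)) (x : A₁) :
    Ideal.quotientMap (I.map (algebraMap A A₁)) (algebraMap A A₁) Ideal.le_comap_map
      (secOf A I A₁ h₁ x) = Ideal.Quotient.mk _ x :=
  (RingEquiv.ofBijective _ h₁).apply_symm_apply _

theorem exists_common (A₁ A₂ : Type u) [CommRing A₁] [Algebra A A₁] [Algebra.Etale A A₁]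
    [CommRing A₂] [Algebra A A₂] [Algebra.Etale A A₂]
    (h₁ : Function.Bijective (Ideal.quotientMap (I.map (algebraMap A A₁)) (algebraMap A A₁)
      Ideal.le_comap_map))
    (h₂ : Function.Bijective (Ideal.quotientMap (I.map (algebraMap A A₂)) (algebraMap A A₂)
      Ideal.le_comap_map)) :
    ∃ (A₃ : Type u) (_ : CommRing A₃) (_ : Algebra A A₃) (_ : Algebra.Etale A A₃),
      Function.Bijective (Ideal.quotientMap (I.map (algebraMap A A₃)) (algebraMap A A₃)
        Ideal.le_comap_map) ∧ Nonempty (A₁ →ₐ[A] A₃) ∧ Nonempty (A₂ →ₐ[A] A₃) := by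
  let σ : A₁ ⊗[A] A₂ →ₐ[A] A ⧸ I :=
    Algebra.TensorProduct.productMap (secOf A I A₁ h₁) (secOf A I A₂ h₂)
  have hét : Algebra.Etale A (A₁ ⊗[A] A₂) := Algebra.Etale.comp A A₁ _
  obtain ⟨b, -, hbij, -⟩ := EtSection.exists_localization I σ
  have hét' : Algebra.Etale A (Localization.Away b) := Algebra.Etale.comp A (A₁ ⊗[A] A₂) _
  refine ⟨Localization.Away b, inferInstance, inferInstance, hét', hbij, ⟨?_⟩, ⟨?_⟩⟩
  · exact (IsScalarTower.toAlgHom A (A₁ ⊗[A] A₂) (Localization.Away b)).comp
      Algebra.TensorProduct.includeLeft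
  · exact (IsScalarTower.toAlgHom A (A₁ ⊗[A] A₂) (Localization.Away b)).comp
      Algebra.TensorProduct.includeRight

theorem exists_coequalizing (A₁ A₂ : Type u) [CommRing A₁] [Algebra A A₁] [Algebra.Etale A A₁]
    [CommRing A₂] [Algebra A A₂] [Algebra.Etale A A₂]
    (h₁ : Function.Bijective (Ideal.quotientMap (I.map (algebraMap A A₁)) (algebraMap A A₁)
      Ideal.le_comap_map))
    (h₂ : Function.Bijective (Ideal.quotientMap (I.map (algebraMap A A₂)) (algebraMap A A₂)
      Ideal.le_comap_map)) (f g : A₁ →ₐ[A] A₂) :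
    ∃ (A₃ : Type u) (_ : CommRing A₃) (_ : Algebra A A₃) (_ : Algebra.Etale A A₃),
      Function.Bijective (Ideal.quotientMap (I.map (algebraMap A A₃)) (algebraMap A A₃)
        Ideal.le_comap_map) ∧ ∃ h : A₂ →ₐ[A] A₃, h.comp f = h.comp g := by
  -- the diagonal idempotent
  obtain ⟨e, he, hsp⟩ : ∃ e, IsIdempotentElem e ∧
      KaehlerDifferential.ideal A A₁ = A₁ ⊗[A] A₁ ∙ e :=
    (Ideal.isIdempotentElem_iff_of_fg _ (KaehlerDifferential.ideal_fg A A₁)).mp <|
      (Ideal.cotangent_subsingleton_iff _).mp <| inferInstanceAs <| Subsingleton Ω[A₁⁄A]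
  set J₂ : Ideal A₂ := I.map (algebraMap A A₂) with hJ₂
  let pm : A₁ ⊗[A] A₁ →ₐ[A] A₂ := Algebra.TensorProduct.productMap f g
  let pm' : A₁ ⊗[A] A₁ →ₐ[A] A₂ := f.comp (Algebra.TensorProduct.lmul' A)
  -- `f ≡ g` modulo `I`
  have hmap : ∀ (φ : A₁ →ₐ[A] A₂) (y : A₁), y ∈ I.map (algebraMap A A₁) → φ y ∈ J₂ := by
    intro φ y hy
    have : (I.map (algebraMap A A₁)).map φ.toRingHom = J₂ := by
      rw [Ideal.map_map, hJ₂]
      congr 1
      ext a
      simp
    rw [← this]
    exact Ideal.mem_map_of_mem _ hy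
  have hfg : ∀ y : A₁, f y - g y ∈ J₂ := by
    intro y
    obtain ⟨z, hz⟩ := h₁.2 (Ideal.Quotient.mk _ y)
    obtain ⟨a, rfl⟩ := Ideal.Quotient.mk_surjective z
    rw [Ideal.quotientMap_mk, Ideal.Quotient.mk_eq_mk_iff_sub_mem] at hz
    have h1 := hmap f _ hz
    have h2 := hmap g _ hz
    rw [map_sub, AlgHom.commutes] at h1 h2
    have : f y - g y = (algebraMap A A₂ a - g y) - (algebraMap A A₂ a - f y) := by ring
    rw [this]
    exact J₂.sub_mem h2 h1
  have hpm : ∀ z : A₁ ⊗[A] A₁, pm z - pm' z ∈ J₂ := by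
    intro z
    induction z using TensorProduct.induction_on with
    | zero => simp
    | tmul x y =>
      simp only [pm, pm', Algebra.TensorProduct.productMap_apply_tmul, AlgHom.comp_apply,
        Algebra.TensorProduct.lmul'_apply_tmul, map_mul]
      have : f x * g y - f x * f y = -(f x * (f y - g y)) := by ring
      rw [this]
      exact J₂.neg_mem (J₂.mul_mem_left _ (hfg y))
    | add x y hx hy =>
      have : pm (x + y) - pm' (x + y) = (pm x - pm' x) + (pm y - pm' y) := by
        rw [map_add, map_add]; ring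
      rw [this]
      exact J₂.add_mem hx hy
  set ε : A₂ := pm e with hε
  have hεJ : ε ∈ J₂ := by
    have h0 : pm' e = 0 := by
      have : e ∈ KaehlerDifferential.ideal A A₁ := by
        rw [hsp]; exact Ideal.mem_span_singleton_self e
      rw [RingHom.mem_ker] at this
      simp only [pm', AlgHom.comp_apply]
      erw [this]
      exact map_zero f
    have := hpm e
    rwa [h0, sub_zero] at this
  have hεidem : ε * ε = ε := by rw [hε, ← map_mul, he.eq]
  -- localize
  have hunit : IsUnit (Ideal.Quotient.mk J₂ (1 - ε)) := by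
    have : Ideal.Quotient.mk J₂ (1 - ε) = 1 := by
      rw [map_sub, map_one, Ideal.Quotient.eq_zero_iff_mem.mpr hεJ, sub_zero]
    rw [this]; exact isUnit_one
  have hbij₂ := bijective_quotientMap_away J₂ (1 - ε) hunit
  have hét : Algebra.Etale A (Localization.Away (1 - ε)) := Algebra.Etale.comp A A₂ _
  refine ⟨Localization.Away (1 - ε), inferInstance, inferInstance, hét,
    bijective_quotientMap_comp I h₂ hbij₂, IsScalarTower.toAlgHom A A₂ _, ?_⟩
  ext x
  simp only [AlgHom.comp_apply, IsScalarTower.coe_toAlgHom']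
  -- `f x - g x ∈ (ε)` and `ε = 0` in the localization
  have hmem : x ⊗ₜ[A] (1 : A₁) - (1 : A₁) ⊗ₜ[A] x ∈ KaehlerDifferential.ideal A A₁ := by
    rw [← neg_sub]
    exact (KaehlerDifferential.ideal A A₁).neg_mem
      (KaehlerDifferential.one_smul_sub_smul_one_mem_ideal A x)
  rw [hsp, Ideal.mem_span_singleton'] at hmem
  obtain ⟨z, hz⟩ := hmem
  have h3 : f x - g x = pm z * ε := by
    rw [hε, ← map_mul, hz, map_sub]
    simp [pm]
  have hε0 : algebraMap A₂ (Localization.Away (1 - ε)) ε = 0 := by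
    have hu : IsUnit (algebraMap A₂ (Localization.Away (1 - ε)) (1 - ε)) :=
      IsLocalization.Away.algebraMap_isUnit _
    have h4 : algebraMap A₂ (Localization.Away (1 - ε)) ε *
        algebraMap A₂ (Localization.Away (1 - ε)) (1 - ε) = 0 := by
      rw [← map_mul, mul_sub, mul_one, hεidem, sub_self, map_zero]
    exact (hu.mul_left_eq_zero).mp h4
  rw [← sub_eq_zero, ← map_sub, h3, map_mul, hε0, mul_zero]

end Filtered

end Groth.Agent.Lib.Helper20.EtUnitLoc
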