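import Mathlib
import Groth.Prelude.Def_W4c1chowmix47Eta

/-!
# Basic library for the pointwise construction `EtaPt` (helper20)
-/

universe u

namespace Groth.Agent.Lib.Helper20.EtaPt

open _root_.EtaPt

variable (η : FieldEndo.{u})

theorem map_bijective_of_bijective {K L : Type u} [Field K] [Field L] (f : K →+* L)
    (hf : Function.Bijective f) : Function.Bijective (η.map f) := by
  let e := RingEquiv.ofBijective f hf
  have h1 : (η.map (e.symm : L →+* K)).comp (η.map f) = RingHom.id _ := by
    rw [← η.map_comp, ← η.map_id]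
    congr 1
    ext x
    exact e.symm_apply_apply x
  have h2 : (η.map f).comp (η.map (e.symm : L →+* K)) = RingHom.id _ := by
    rw [← η.map_comp, ← η.map_id]
    congr 1
    ext x
    exact e.apply_symm_apply x
  refine ⟨(η.map f).injective, fun y => ⟨η.map (e.symm : L →+* K) y, ?_⟩⟩
  exact congrArg (fun h => h y) (congrArg DFunLike.coe h2)

theorem Nmap_apply {A B : Type u} [CommRing A] [CommRing B] (f : A →+* B) (x : η.N A)
    (q : PrimeSpectrum B) :
    η.Nmap f x q = η.map (Ideal.ResidueField.map (PrimeSpectrum.comap f q).asIdeal q.asIdeal f rfl)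
      (x (PrimeSpectrum.comap f q)) := rfl

theorem t_apply (A : Type u) [CommRing A] (a : A) (p : PrimeSpectrum A) :
    η.t A a p = η.eta p.asIdeal.ResidueField (algebraMap A p.asIdeal.ResidueField a) := rfl

theorem residueField_map_comp {A B C : Type*} [CommRing A] [CommRing B] [CommRing C]
    (I : Ideal A) [I.IsPrime] (J : Ideal B) [J.IsPrime] (K : Ideal C) [K.IsPrime]
    (f : A →+* B) (g : B →+* C) (hf : I = J.comap f) (hg : J = K.comap g)
    (hgf : I = K.comap (g.comp f)) :
    Ideal.ResidueField.map I K (g.comp f) hgf =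
      (Ideal.ResidueField.map J K g hg).comp (Ideal.ResidueField.map I J f hf) := by
  apply Ideal.ResidueField.ringHom_ext
  ext a
  simp

theorem residueField_map_id {A : Type*} [CommRing A] (I : Ideal A) [I.IsPrime]
    (h : I = I.comap (RingHom.id A)) :
    Ideal.ResidueField.map I I (RingHom.id A) h = RingHom.id _ := by
  apply Ideal.ResidueField.ringHom_ext
  ext a
  simp

theorem Nmap_comp {A B C : Type u} [CommRing A] [CommRing B] [CommRing C] (f : A →+* B)
    (g : B →+* C) : η.Nmap (g.comp f) = (η.Nmap g).comp (η.Nmap f) := by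
  ext x r
  have key := residueField_map_comp (PrimeSpectrum.comap f (PrimeSpectrum.comap g r)).asIdeal
    (PrimeSpectrum.comap g r).asIdeal r.asIdeal f g rfl rfl rfl
  change η.map (Ideal.ResidueField.map (PrimeSpectrum.comap f (PrimeSpectrum.comap g r)).asIdeal
    r.asIdeal (g.comp f) rfl) (x _) = η.map _ (η.map _ (x _))
  rw [key, η.map_comp]
  rfl

theorem Nmap_comp_apply {A B C : Type u} [CommRing A] [CommRing B] [CommRing C] (f : A →+* B)
    (g : B →+* C) (x : η.N A) : η.Nmap (g.comp f) x = η.Nmap g (η.Nmap f x) := by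
  rw [Nmap_comp]; rfl

theorem Nmap_id (A : Type u) [CommRing A] : η.Nmap (RingHom.id A) = RingHom.id _ := by
  ext x r
  change η.map (Ideal.ResidueField.map r.asIdeal r.asIdeal (RingHom.id A) rfl) (x r) = x r
  rw [residueField_map_id, η.map_id]
  rfl

/-- `x` vanishes at every prime in the image of `Spec φ` if `Nmap φ x = 0`. -/
theorem apply_comap_eq_zero_of_Nmap_eq_zero {A B : Type u} [CommRing A] [CommRing B] (φ : A →+* B)
    (x : η.N A) (h : η.Nmap φ x = 0) (q : PrimeSpectrum B) : x (PrimeSpectrum.comap φ q) = 0 := by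
  have := congrFun h q
  rw [Nmap_apply] at this
  exact (map_eq_zero_iff _ (RingHom.injective _)).mp this

theorem Nmap_injective_of_surjective {A B : Type u} [CommRing A] [CommRing B] (φ : A →+* B)
    (hs : Function.Surjective (PrimeSpectrum.comap φ)) : Function.Injective (η.Nmap φ) := by
  rw [injective_iff_map_eq_zero]
  intro x hx
  funext p
  obtain ⟨q, rfl⟩ := hs p
  exact apply_comap_eq_zero_of_Nmap_eq_zero η φ x hx q

theorem Nmap_surjective_of {A B : Type u} [CommRing A] [CommRing B] (φ : A →+* B)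
    (hinj : Function.Injective (PrimeSpectrum.comap φ))
    (hsurj : ∀ q : PrimeSpectrum B, Function.Surjective
      (η.map (Ideal.ResidueField.map (PrimeSpectrum.comap φ q).asIdeal q.asIdeal φ rfl))) :
    Function.Surjective (η.Nmap φ) := by
  classical
  intro y
  choose z hz using fun q => hsurj q (y q)
  refine ⟨fun p => if h : ∃ q, PrimeSpectrum.comap φ q = p then h.choose_spec ▸ z h.choose else 0, ?_⟩
  funext q
  rw [Nmap_apply]
  have h : ∃ q', PrimeSpectrum.comap φ q' = PrimeSpectrum.comap φ q := ⟨q, rfl⟩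
  rw [dif_pos h]
  have key : ∀ (q' : PrimeSpectrum B) (e : PrimeSpectrum.comap φ q' = PrimeSpectrum.comap φ q),
      η.map (Ideal.ResidueField.map (PrimeSpectrum.comap φ q).asIdeal q.asIdeal φ rfl)
        (e ▸ z q') = y q := by
    intro q' e
    obtain rfl := hinj e
    exact hz q'
  exact key _ h.choose_spec

/-! ### Characteristic and pure inseparability -/

theorem pow_expChar_pow_inj {L : Type*} [Field L] (e : ℕ) [ExpChar L e] (n : ℕ) {x y : L}
    (h : x ^ e ^ n = y ^ e ^ n) : x = y :=
  iterateFrobenius_inj L e n (by simpa [iterateFrobenius_def] using h)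

/-- `e ^ n`-th powers are injective in any field receiving a ring map from a ring of exponential
characteristic `e`. -/
theorem pow_inj_of_ringHom {R L : Type*} [CommRing R] [Field L] (f : R →+* L) (e : ℕ) [he : ExpChar R e]
    (n : ℕ) {x y : L} (h : x ^ e ^ n = y ^ e ^ n) : x = y := by
  cases he with
  | zero => simpa using h
  | prime hp =>
    have h0 : (e : L) = 0 := by rw [← map_natCast f, CharP.cast_eq_zero R e, map_zero]
    have : CharP L e := (CharP.charP_iff_prime_eq_zero hp).mpr h0
    have : ExpChar L e := ExpChar.prime hp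
    exact pow_expChar_pow_inj e n h

theorem expChar_obj (K : Type u) [Field K] : ExpChar (η.obj K) (ringExpChar K) :=
  expChar_of_injective_ringHom (η.eta K).injective _

/-- Two ring maps from `F K` to a field which agree on `η K` are equal. -/
theorem hom_ext_of_comp_eta {K : Type u} [Field K] {L : Type*} [Field L] (φ ψ : η.obj K →+* L)
    (h : φ.comp (η.eta K) = ψ.comp (η.eta K)) : φ = ψ := by
  ext x
  obtain ⟨n, a, ha⟩ := η.exists_pow_mem_range_eta K x
  have : ExpChar L (ringExpChar K) := expChar_of_injective_ringHom (φ.comp (η.eta K)).injective _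
  apply pow_expChar_pow_inj (ringExpChar K) n
  rw [← map_pow, ← map_pow, ← ha]
  exact RingHom.congr_fun h a

theorem eta_obj_eq (K : Type u) [Field K] : η.eta (η.obj K) = η.map (η.eta K) :=
  hom_ext_of_comp_eta η _ _ (η.eta_natural (η.eta K)).symm

theorem bijective_eta_obj (K : Type u) [Field K] : Function.Bijective (η.eta (η.obj K)) := by
  rw [eta_obj_eq]
  exact η.bijective_map_eta K

theorem bijective_eta_of_perfect (K : Type u) [Field K] [PerfectField K] :
    Function.Bijective (η.eta K) := by
  refine ⟨(η.eta K).injective, fun x => ?_⟩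
  obtain ⟨n, a, ha⟩ := η.exists_pow_mem_range_eta K x
  have : PerfectRing K (ringExpChar K) := PerfectField.toPerfectRing _
  obtain ⟨b, hb⟩ := (bijective_iterateFrobenius K (ringExpChar K) n).2 a
  rw [iterateFrobenius_def] at hb
  refine ⟨b, ?_⟩
  have := expChar_obj η K
  apply pow_expChar_pow_inj (ringExpChar K) n
  rw [← map_pow, hb, ha]

theorem bijective_eta_of_ringEquiv {K K' : Type u} [Field K] [Field K'] (e : K ≃+* K')
    (h : Function.Bijective (η.eta K)) : Function.Bijective (η.eta K') := by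
  have h1 := η.eta_natural (e : K →+* K')
  have h2 : η.eta K' = ((η.map (e : K →+* K')).comp (η.eta K)).comp (e.symm : K' →+* K) := by
    rw [h1]
    ext x
    simp
  rw [h2]
  exact ((map_bijective_of_bijective η _ e.bijective).comp h).comp e.symm.bijective

/-- If `F(f)` is surjective then `L / K` is purely inseparable. -/
theorem exists_pow_eq_of_map_surjective {K L : Type u} [Field K] [Field L] (f : K →+* L)
    (hf : Function.Surjective (η.map f)) (y : L) : ∃ (n : ℕ) (a : K), y ^ ringExpChar K ^ n = f a := by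
  obtain ⟨z, hz⟩ := hf (η.eta L y)
  obtain ⟨n, a, ha⟩ := η.exists_pow_mem_range_eta K z
  refine ⟨n, a, (η.eta L).injective ?_⟩
  rw [map_pow, ← hz, ← map_pow, ← ha]
  exact RingHom.congr_fun (η.eta_natural f) a

/-- Ring maps out of a purely inseparable extension are determined by their restriction. -/
theorem hom_ext_of_pow {K L E : Type*} [Field K] [Field L] [Field E] (f : K →+* L)
    (hpi : ∀ y : L, ∃ (n : ℕ) (a : K), y ^ ringExpChar K ^ n = f a) (φ ψ : L →+* E)
    (h : φ.comp f = ψ.comp f) : φ = ψ := by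
  ext y
  obtain ⟨n, a, ha⟩ := hpi y
  have : ExpChar E (ringExpChar K) := expChar_of_injective_ringHom (φ.comp f).injective _
  apply pow_expChar_pow_inj (ringExpChar K) n
  rw [← map_pow, ← map_pow, ha]
  exact RingHom.congr_fun h a

/-- `η` is bijective at the residue field of `(0)` of a domain `R` with `InV R`. -/
theorem bijective_eta_bot_of_InV (R : Type u) [CommRing R] [IsDomain R] (hR : η.InV R) :
    Function.Bijective (η.eta (⊥ : Ideal R).ResidueField) :=
  bijective_eta_of_ringEquiv η
    (FractionRing.algEquiv R (⊥ : Ideal R).ResidueField).toRingEquiv hR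

/-- Descent of `e ^ n`-th roots in an integrally closed domain with `InV`. -/
theorem mem_range_t_of_pow {R : Type u} [CommRing R] [IsDomain R] [IsIntegrallyClosed R]
    (hR : η.InV R) (e : ℕ) [ExpChar R e] (n : ℕ) (y : η.N R) (r : R)
    (h : y ^ e ^ n = η.t R r) : y ∈ (η.t R).range := by
  have hb := bijective_eta_bot_of_InV η R hR
  obtain ⟨b, hb'⟩ := hb.2 (y ⟨⊥, Ideal.isPrime_bot⟩)
  have h0 := congrFun h ⟨⊥, Ideal.isPrime_bot⟩
  rw [Pi.pow_apply, t_apply, ← hb', ← map_pow] at h0
  have h1 := hb.1 h0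
  have hint : IsIntegral R b := by
    refine ⟨Polynomial.X ^ e ^ n - Polynomial.C r, Polynomial.monic_X_pow_sub_C r ?_, ?_⟩
    · exact pow_ne_zero _ (expChar_pos R e).ne'
    · simp only [Polynomial.eval₂_sub, Polynomial.eval₂_pow, Polynomial.eval₂_X, Polynomial.eval₂_C]
      rw [h1, sub_self]
  obtain ⟨s, hs⟩ := IsIntegrallyClosed.algebraMap_eq_of_integral hint
  refine ⟨s, ?_⟩
  have hsr : s ^ e ^ n = r := by
    apply IsFractionRing.injective R (⊥ : Ideal R).ResidueField
    rw [map_pow, hs, h1]
  funext q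
  apply pow_inj_of_ringHom ((η.eta q.asIdeal.ResidueField).comp (algebraMap R q.asIdeal.ResidueField)) e n
  rw [t_apply, ← map_pow, ← map_pow, hsr]
  exact (congrFun h q).symm

/-! ### Consequences of bijectivity of `Nmap f` -/

theorem comap_injective_of_Nmap_surjective {A B : Type u} [CommRing A] [CommRing B] (f : A →+* B)
    (h : Function.Surjective (η.Nmap f)) : Function.Injective (PrimeSpectrum.comap f) := by
  classical
  intro q q' hqq'
  by_contra hne
  obtain ⟨x, hx⟩ := h (Pi.single q 1)
  have h1 := congrFun hx q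
  have h2 := congrFun hx q'
  rw [Nmap_apply, Pi.single_eq_same] at h1
  rw [Nmap_apply, Pi.single_eq_of_ne (Ne.symm hne)] at h2
  have h3 : x (PrimeSpectrum.comap f q') = 0 := (map_eq_zero_iff _ (RingHom.injective _)).mp h2
  have key : ∀ p p' : PrimeSpectrum A, p' = p → x p' = 0 → x p = 0 := by
    rintro p _ rfl hp; exact hp
  rw [key _ _ hqq'.symm h3, map_zero] at h1
  exact zero_ne_one h1

theorem comap_surjective_of_Nmap_injective {A B : Type u} [CommRing A] [CommRing B] (f : A →+* B)
    (h : Function.Injective (η.Nmap f)) : Function.Surjective (PrimeSpectrum.comap f) := by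
  classical
  intro p
  by_contra hne
  push Not at hne
  have h0 : η.Nmap f (Pi.single p 1) = 0 := by
    funext q
    rw [Nmap_apply, Pi.single_eq_of_ne (hne q), map_zero]
    rfl
  have h1 := h (h0.trans (map_zero _).symm)
  have h2 := congrFun h1 p
  rw [Pi.single_eq_same] at h2
  exact one_ne_zero h2

theorem map_surjective_of_Nmap_surjective {A B : Type u} [CommRing A] [CommRing B] (f : A →+* B)
    (h : Function.Surjective (η.Nmap f)) (q : PrimeSpectrum B) : Function.Surjective
      (η.map (Ideal.ResidueField.map (PrimeSpectrum.comap f q).asIdeal q.asIdeal f rfl)) := by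
  classical
  intro z
  obtain ⟨x, hx⟩ := h (Pi.single q z)
  refine ⟨x (PrimeSpectrum.comap f q), ?_⟩
  have h1 := congrFun hx q
  rwa [Nmap_apply, Pi.single_eq_same] at h1

theorem map_bijective_of_Nmap_surjective {A B : Type u} [CommRing A] [CommRing B] (f : A →+* B)
    (h : Function.Surjective (η.Nmap f)) (q : PrimeSpectrum B) : Function.Bijective
      (η.map (Ideal.ResidueField.map (PrimeSpectrum.comap f q).asIdeal q.asIdeal f rfl)) :=
  ⟨RingHom.injective _, map_surjective_of_Nmap_surjective η f h q⟩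

theorem Nmap_bijective_iff {A B : Type u} [CommRing A] [CommRing B] (f : A →+* B) :
    Function.Bijective (η.Nmap f) ↔ Function.Bijective (PrimeSpectrum.comap f) ∧
      ∀ q : PrimeSpectrum B, Function.Surjective
        (η.map (Ideal.ResidueField.map (PrimeSpectrum.comap f q).asIdeal q.asIdeal f rfl)) :=
  ⟨fun h => ⟨⟨comap_injective_of_Nmap_surjective η f h.2, comap_surjective_of_Nmap_injective η f h.1⟩,
    map_surjective_of_Nmap_surjective η f h.2⟩,
   fun h => ⟨Nmap_injective_of_surjective η f h.1.2, Nmap_surjective_of η f h.1.1 h.2⟩⟩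

/-- Extension of a map to a field at which `η` is bijective along a residue field extension
on which `F` is bijective. -/
theorem exists_extend_of_map_bijective {K K' L : Type u} [Field K] [Field K'] [Field L]
    (f : K →+* K') (hf : Function.Bijective (η.map f)) (hL : Function.Bijective (η.eta L))
    (g : K →+* L) : ∃ ψ : K' →+* L, ψ.comp f = g := by
  let e1 := RingEquiv.ofBijective (η.map f) hf
  let e2 := RingEquiv.ofBijective (η.eta L) hL
  refine ⟨(((e2.symm : η.obj L →+* L).comp (η.map g)).comp (e1.symm : η.obj K' →+* η.obj K)).comp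
    (η.eta K'), ?_⟩
  ext a
  simp only [RingHom.comp_apply, RingHom.coe_coe]
  apply hL.1
  have h1 : η.eta K' (f a) = e1 (η.eta K a) := (RingHom.congr_fun (η.eta_natural f) a).symm
  rw [h1, RingEquiv.symm_apply_apply]
  have h2 : e2 (e2.symm (η.map g (η.eta K a))) = η.map g (η.eta K a) := e2.apply_symm_apply _
  exact h2.trans (RingHom.congr_fun (η.eta_natural g) a)

/-- A ring map `h : B → L` into the fraction field of an integrally closed domain `R` whose values
are integral over `R` factors through `R`. -/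
theorem exists_factor_of_isIntegral {B R L : Type*} [CommRing B] [CommRing R] [IsDomain R]
    [IsIntegrallyClosed R] [Field L] [Algebra R L] [IsFractionRing R L] (h : B →+* L)
    (hint : ∀ b, IsIntegral R (h b)) : ∃ g' : B →+* R, (algebraMap R L).comp g' = h := by
  have hinj : Function.Injective (algebraMap R L) := IsFractionRing.injective R L
  have hmem : ∀ b, h b ∈ (algebraMap R L).range := fun b =>
    IsIntegrallyClosed.algebraMap_eq_of_integral (hint b)
  let e := RingEquiv.ofBijective (algebraMap R L).rangeRestrict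
    ⟨fun x y hxy => hinj (congrArg Subtype.val hxy), (algebraMap R L).rangeRestrict_surjective⟩
  refine ⟨(e.symm : (algebraMap R L).range →+* R).comp (h.codRestrict _ hmem), ?_⟩
  ext b
  simp only [RingHom.comp_apply, RingHom.coe_coe]
  have : e (e.symm (h.codRestrict _ hmem b)) = h.codRestrict _ hmem b := e.apply_symm_apply _
  exact congrArg Subtype.val this

/-- Lifting maps to valuation rings (in fact integrally closed domains) with `InV` along integral
maps with `Nmap` bijective. -/
theorem exists_lift_of_isIntegral_of_Nmap_bijective {A B : Type u} [CommRing A] [CommRing B]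
    (f : A →+* B) (hf : f.IsIntegral) (hN : Function.Bijective (η.Nmap f))
    (R : Type u) [CommRing R] [IsDomain R] [IsIntegrallyClosed R] (hR : η.InV R) (g : A →+* R) :
    ∃ g' : B →+* R, g'.comp f = g := by
  have hL := bijective_eta_bot_of_InV η R hR
  let r0 : PrimeSpectrum R := ⟨⊥, Ideal.isPrime_bot⟩
  obtain ⟨Q, hQ⟩ := comap_surjective_of_Nmap_injective η f hN.1 (PrimeSpectrum.comap g r0)
  have hQ' : (PrimeSpectrum.comap f Q).asIdeal = (⊥ : Ideal R).comap g := congrArg (·.asIdeal) hQ
  have hbij := map_bijective_of_Nmap_surjective η f hN.2 Q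
  let gP : (PrimeSpectrum.comap f Q).asIdeal.ResidueField →+* (⊥ : Ideal R).ResidueField :=
    Ideal.ResidueField.map _ _ g hQ'
  obtain ⟨ψ, hψ⟩ := exists_extend_of_map_bijective η _ hbij hL gP
  let h : B →+* (⊥ : Ideal R).ResidueField := ψ.comp (algebraMap B Q.asIdeal.ResidueField)
  have hhf : h.comp f = (algebraMap R (⊥ : Ideal R).ResidueField).comp g := by
    ext a
    simp only [RingHom.comp_apply, h]
    rw [← Ideal.ResidueField.map_algebraMap (PrimeSpectrum.comap f Q).asIdeal Q.asIdeal f rfl a]
    rw [← RingHom.comp_apply, hψ]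
    exact Ideal.ResidueField.map_algebraMap _ _ g hQ' a
  have hint : ∀ b, IsIntegral R (h b) := by
    intro b
    obtain ⟨p, hp, hpb⟩ := hf b
    refine ⟨p.map g, hp.map g, ?_⟩
    rw [Polynomial.eval₂_map, ← hhf, ← Polynomial.hom_eval₂, hpb, map_zero]
  obtain ⟨g', hg'⟩ := exists_factor_of_isIntegral h hint
  refine ⟨g', ?_⟩
  ext a
  apply IsFractionRing.injective R (⊥ : Ideal R).ResidueField
  have := RingHom.congr_fun hhf a
  rw [← hg'] at this
  exact this

/-! ### `M` and `Nmap` -/

theorem mem_M_iff {A : Type u} [CommRing A] (x : η.N A) : x ∈ η.M A ↔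
    ∀ (R : Type u) [CommRing R] [IsDomain R] [ValuationRing R], η.InV R →
      ∀ g : A →+* R, η.Nmap g x ∈ (η.t R).range := Iff.rfl

theorem Nmap_mem_M {A B : Type u} [CommRing A] [CommRing B] (f : A →+* B) {x : η.N A}
    (hx : x ∈ η.M A) : η.Nmap f x ∈ η.M B := by
  intro R _ _ _ hR g
  rw [← Nmap_comp_apply]
  exact hx R hR (g.comp f)

theorem bijOn_Nmap_M {A B : Type u} [CommRing A] [CommRing B] (f : A →+* B) (hf : f.IsIntegral)
    (hN : Function.Bijective (η.Nmap f)) :
    Set.BijOn (η.Nmap f) (η.M A) (η.M B) := by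
  refine ⟨fun x hx => Nmap_mem_M η f hx, hN.1.injOn, fun y hy => ?_⟩
  obtain ⟨x, rfl⟩ := hN.2 y
  refine ⟨x, ?_, rfl⟩
  intro R _ _ _ hR g
  obtain ⟨g', rfl⟩ := exists_lift_of_isIntegral_of_Nmap_bijective η f hf hN R hR g
  rw [Nmap_comp_apply]
  exact hy R hR g'

/-- The ring map `M A → M B` induced by `Nmap f`. -/
noncomputable def Mmap {A B : Type u} [CommRing A] [CommRing B] (f : A →+* B) : η.M A →+* η.M B :=
  (η.Nmap f).restrict (η.M A) (η.M B) (fun _ hx => Nmap_mem_M η f hx)

theorem Mmap_coe {A B : Type u} [CommRing A] [CommRing B] (f : A →+* B) (x : η.M A) :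
    ((Mmap η f x : η.M B) : η.N B) = η.Nmap f (x : η.N A) := rfl

theorem q_coe (A : Type u) [CommRing A] (a : A) : ((η.q A a : η.M A) : η.N A) = η.t A a := rfl

theorem Mmap_q {A B : Type u} [CommRing A] [CommRing B] (f : A →+* B) (a : A) :
    Mmap η f (η.q A a) = η.q B (f a) :=
  Subtype.ext (η.Nmap_t_apply f a)

theorem Mmap_bijective {A B : Type u} [CommRing A] [CommRing B] (f : A →+* B) (hf : f.IsIntegral)
    (hN : Function.Bijective (η.Nmap f)) : Function.Bijective (Mmap η f) := by
  have h := bijOn_Nmap_M η f hf hN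
  refine ⟨fun x y hxy => Subtype.ext (h.injOn x.2 y.2 (congrArg Subtype.val hxy)), fun y => ?_⟩
  obtain ⟨x, hx, hxy⟩ := h.surjOn y.2
  exact ⟨⟨x, hx⟩, Subtype.ext hxy⟩

/-- Ring maps from `B` to a field are determined by their restriction along `g : A → B` when
`Nmap g` is bijective. -/
theorem hom_ext_of_Nmap_bijective {A B : Type u} [CommRing A] [CommRing B] (g : A →+* B)
    (hN : Function.Bijective (η.Nmap g)) {E : Type*} [Field E] (φ₁ φ₂ : B →+* E)
    (h : φ₁.comp g = φ₂.comp g) : φ₁ = φ₂ := by
  have hp1 : (RingHom.ker φ₁).IsPrime := RingHom.ker_isPrime φ₁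
  have hp2 : (RingHom.ker φ₂).IsPrime := RingHom.ker_isPrime φ₂
  let Q₁ : PrimeSpectrum B := ⟨RingHom.ker φ₁, hp1⟩
  let Q₂ : PrimeSpectrum B := ⟨RingHom.ker φ₂, hp2⟩
  have hQ : Q₁ = Q₂ := by
    apply comap_injective_of_Nmap_surjective η g hN.2
    apply PrimeSpectrum.ext
    ext a
    change φ₁ (g a) = 0 ↔ φ₂ (g a) = 0
    rw [← RingHom.comp_apply, ← RingHom.comp_apply, h]
  have hker : RingHom.ker φ₂ = RingHom.ker φ₁ := (congrArg (·.asIdeal) hQ).symm
  have hu : ∀ φ : B →+* E, RingHom.ker φ = RingHom.ker φ₁ →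
      (RingHom.ker φ₁).primeCompl ≤ (IsUnit.submonoid E).comap φ := by
    intro φ hφ b hb
    change IsUnit (φ b)
    rw [isUnit_iff_ne_zero]
    intro hb0
    exact hb (hφ ▸ (RingHom.mem_ker.mpr hb0))
  let ψ₁ := Ideal.ResidueField.lift (RingHom.ker φ₁) φ₁ le_rfl (hu φ₁ rfl)
  let ψ₂ := Ideal.ResidueField.lift (RingHom.ker φ₁) φ₂ hker.ge (hu φ₂ hker)
  have hψ : ψ₁ = ψ₂ := by
    apply hom_ext_of_pow (Ideal.ResidueField.map (PrimeSpectrum.comap g Q₁).asIdeal Q₁.asIdeal g rfl)
      (exists_pow_eq_of_map_surjective η _ (map_surjective_of_Nmap_surjective η g hN.2 Q₁))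
    apply Ideal.ResidueField.ringHom_ext
    ext a
    simp only [RingHom.comp_apply]
    rw [Ideal.ResidueField.map_algebraMap]
    change ψ₁ (algebraMap B _ (g a)) = ψ₂ (algebraMap B _ (g a))
    rw [Ideal.ResidueField.lift_algebraMap, Ideal.ResidueField.lift_algebraMap]
    exact RingHom.congr_fun h a
  ext b
  have h1 : ψ₁ (algebraMap B _ b) = φ₁ b := Ideal.ResidueField.lift_algebraMap _ _ _ _ _
  have h2 : ψ₂ (algebraMap B _ b) = φ₂ b := Ideal.ResidueField.lift_algebraMap _ _ _ _ _
  rw [← h1, ← h2, hψ]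

/-- Universal property: uniqueness. -/
theorem hom_M_ext {A B : Type u} [CommRing A] [CommRing B] (g : A →+* B)
    (hN : Function.Bijective (η.Nmap g)) {C : Type u} [CommRing C] (h₁ h₂ : B →+* η.M C)
    (h : h₁.comp g = h₂.comp g) : h₁ = h₂ := by
  refine RingHom.ext fun b => ?_
  apply Subtype.ext
  funext P
  let ev : η.M C →+* η.obj P.asIdeal.ResidueField :=
    (Pi.evalRingHom (fun p : PrimeSpectrum C => η.obj p.asIdeal.ResidueField) P).comp (η.M C).subtype
  have := hom_ext_of_Nmap_bijective η g hN (ev.comp h₁) (ev.comp h₂) (by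
    refine RingHom.ext fun a => ?_
    have := RingHom.congr_fun h a
    simp only [RingHom.comp_apply] at this ⊢
    rw [this])
  exact RingHom.congr_fun this b

/-- Universal property: existence. -/
theorem exists_hom_M {A B : Type u} [CommRing A] [CommRing B] (g : A →+* B) (hg : g.IsIntegral)
    (hN : Function.Bijective (η.Nmap g)) : ∃ g' : B →+* η.M A, g'.comp g = η.q A := by
  let e := RingEquiv.ofBijective (Mmap η g) (Mmap_bijective η g hg hN)
  refine ⟨(e.symm : η.M B →+* η.M A).comp (η.q B), ?_⟩
  refine RingHom.ext fun a => ?_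
  simp only [RingHom.comp_apply, RingHom.coe_coe]
  rw [← Mmap_q]
  exact e.symm_apply_apply _

/-! ### Surjective ring maps and products -/

theorem Nmap_surjective_of_surjective {A B : Type u} [CommRing A] [CommRing B] (f : A →+* B)
    (hf : Function.Surjective f) : Function.Surjective (η.Nmap f) :=
  Nmap_surjective_of η f (PrimeSpectrum.comap_injective_of_surjective f hf) (fun q =>
    (map_bijective_of_bijective η _
      ((RingHom.surjectiveOnStalks_of_surjective hf).residueFieldMap_bijective _ _ rfl)).2)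

theorem exists_comap_fst_or_snd {A B : Type u} [CommRing A] [CommRing B] (r : PrimeSpectrum (A × B)) :
    (∃ P : PrimeSpectrum A, r = PrimeSpectrum.comap (RingHom.fst A B) P) ∨
      ∃ Q : PrimeSpectrum B, r = PrimeSpectrum.comap (RingHom.snd A B) Q := by
  rcases (Ideal.ideal_prod_prime r.asIdeal).mp r.isPrime with ⟨p, hp, h⟩ | ⟨p, hp, h⟩
  · left
    refine ⟨⟨p, hp⟩, PrimeSpectrum.ext ?_⟩
    rw [h]
    ext x
    simp [Ideal.mem_prod]
  · right
    refine ⟨⟨p, hp⟩, PrimeSpectrum.ext ?_⟩
    rw [h]
    ext x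
    simp [Ideal.mem_prod]

theorem N_prod_ext {A B : Type u} [CommRing A] [CommRing B] {x x' : η.N (A × B)}
    (h1 : η.Nmap (RingHom.fst A B) x = η.Nmap (RingHom.fst A B) x')
    (h2 : η.Nmap (RingHom.snd A B) x = η.Nmap (RingHom.snd A B) x') : x = x' := by
  rw [← sub_eq_zero] at h1 h2 ⊢
  rw [← map_sub] at h1 h2
  funext r
  rcases exists_comap_fst_or_snd r with ⟨P, rfl⟩ | ⟨Q, rfl⟩
  · exact apply_comap_eq_zero_of_Nmap_eq_zero η _ _ h1 P
  · exact apply_comap_eq_zero_of_Nmap_eq_zero η _ _ h2 Q

/-- A ring map from a product to a domain factors through one of the projections. -/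
theorem exists_factor_prod {A B R : Type*} [CommRing A] [CommRing B] [CommRing R] [IsDomain R]
    (g : A × B →+* R) : (∃ gA : A →+* R, g = gA.comp (RingHom.fst A B)) ∨
      ∃ gB : B →+* R, g = gB.comp (RingHom.snd A B) := by
  have h0 : g (1, 0) * g (0, 1) = 0 := by
    rw [← map_mul, Prod.mk_mul_mk, mul_zero, zero_mul, Prod.mk_zero_zero, map_zero]
  rcases mul_eq_zero.mp h0 with h | h
  · right
    have hker : RingHom.ker (RingHom.snd A B) ≤ RingHom.ker g := by
      rintro ⟨a, b⟩ hab
      have hb : b = 0 := hab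
      rw [RingHom.mem_ker]
      have : ((a, b) : A × B) = (a, 0) * (1, 0) := by simp [hb]
      rw [this, map_mul, h, mul_zero]
    exact ⟨(RingHom.snd A B).liftOfRightInverse (fun b => (0, b)) (fun b => rfl) ⟨g, hker⟩,
      ((RingHom.snd A B).liftOfRightInverse_comp _ _ ⟨g, hker⟩).symm⟩
  · left
    have hker : RingHom.ker (RingHom.fst A B) ≤ RingHom.ker g := by
      rintro ⟨a, b⟩ hab
      have ha : a = 0 := hab
      rw [RingHom.mem_ker]
      have : ((a, b) : A × B) = (0, b) * (0, 1) := by simp [ha]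
      rw [this, map_mul, h, mul_zero]
    exact ⟨(RingHom.fst A B).liftOfRightInverse (fun a => (a, 0)) (fun a => rfl) ⟨g, hker⟩,
      ((RingHom.fst A B).liftOfRightInverse_comp _ _ ⟨g, hker⟩).symm⟩

theorem bijOn_prod (A B : Type u) [CommRing A] [CommRing B] :
    Set.BijOn (fun x : η.N (A × B) => (η.Nmap (RingHom.fst A B) x, η.Nmap (RingHom.snd A B) x))
      (η.M (A × B)) ((η.M A : Set (η.N A)) ×ˢ (η.M B : Set (η.N B))) := by
  refine ⟨fun x hx => ⟨Nmap_mem_M η _ hx, Nmap_mem_M η _ hx⟩, fun x _ x' _ h => ?_, ?_⟩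
  · exact N_prod_ext η (congrArg Prod.fst h) (congrArg Prod.snd h)
  · rintro ⟨y, z⟩ ⟨hy, hz⟩
    obtain ⟨x₁, hx₁⟩ := Nmap_surjective_of_surjective η (RingHom.fst A B) Prod.fst_surjective y
    obtain ⟨x₂, hx₂⟩ := Nmap_surjective_of_surjective η (RingHom.snd A B) Prod.snd_surjective z
    let x : η.N (A × B) := x₁ * η.t (A × B) (1, 0) + x₂ * η.t (A × B) (0, 1)
    have hxy : η.Nmap (RingHom.fst A B) x = y := by
      simp only [x, map_add, map_mul, η.Nmap_t_apply, hx₁]
      simp
    have hxz : η.Nmap (RingHom.snd A B) x = z := by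
      simp only [x, map_add, map_mul, η.Nmap_t_apply, hx₂]
      simp
    refine ⟨x, ?_, Prod.ext hxy hxz⟩
    intro R _ _ _ hR g
    rcases exists_factor_prod g with ⟨gA, rfl⟩ | ⟨gB, rfl⟩
    · rw [Nmap_comp_apply, hxy]
      exact hy R hR gA
    · rw [Nmap_comp_apply, hxz]
      exact hz R hR gB

/-! ### Domains with `InV` -/

theorem apply_eq_zero_of_eq {A : Type u} [CommRing A] (x : η.N A) {p p' : PrimeSpectrum A}
    (h : p' = p) (hx : x p' = 0) : x p = 0 := by
  subst h; exact hx

/-- For a prime `P` of a domain `A` there is a valuation subring of the fraction field `k((0))`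
containing `A` and whose maximal ideal lies over `P`. -/
theorem exists_valuationSubring_dominating (A : Type u) [CommRing A] [IsDomain A]
    (P : PrimeSpectrum A) :
    ∃ (V : ValuationSubring (⊥ : Ideal A).ResidueField) (g : A →+* V),
      (∀ a, ((g a : V) : (⊥ : Ideal A).ResidueField) = algebraMap A _ a) ∧
      PrimeSpectrum.comap g (IsLocalRing.closedPoint V) = P := by
  have hu : ∀ y : P.asIdeal.primeCompl, IsUnit (algebraMap A (⊥ : Ideal A).ResidueField y) := by
    intro y
    rw [isUnit_iff_ne_zero, Ne,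
      map_eq_zero_iff _ (IsFractionRing.injective A (⊥ : Ideal A).ResidueField)]
    intro h
    exact y.2 (h ▸ P.asIdeal.zero_mem)
  let f : Localization.AtPrime P.asIdeal →+* (⊥ : Ideal A).ResidueField := IsLocalization.lift hu
  obtain ⟨V, h, hloc⟩ := IsLocalRing.exists_factor_valuationRing f
  have hloc' : IsLocalHom (f.codRestrict V h) := hloc
  refine ⟨V, (f.codRestrict V h).comp (algebraMap A _), fun a => ?_, ?_⟩
  · simp [f]
  · apply PrimeSpectrum.ext
    ext a
    change (f.codRestrict V h) (algebraMap A _ a) ∈ IsLocalRing.maximalIdeal V ↔ a ∈ P.asIdeal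
    rw [IsLocalRing.mem_maximalIdeal, mem_nonunits_iff, ← not_iff_not, not_not]
    constructor
    · intro hu'
      have := hloc'.map_nonunit _ hu'
      exact (IsLocalization.AtPrime.isUnit_to_map_iff _ P.asIdeal a).mp this
    · intro ha
      exact ((IsLocalization.AtPrime.isUnit_to_map_iff _ P.asIdeal a).mpr ha).map _

theorem InV_valuationSubring {K : Type u} [Field K] (hK : Function.Bijective (η.eta K))
    (V : ValuationSubring K) : η.InV V :=
  bijective_eta_of_ringEquiv η (FractionRing.algEquiv V K).symm.toRingEquiv hK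

/-- An element of `M A` (`A` a domain with `InV`) vanishing at the generic point is zero. -/
theorem eq_zero_of_generic_eq_zero {A : Type u} [CommRing A] [IsDomain A] (hA : η.InV A)
    {d : η.N A} (hd : d ∈ η.M A) (h0 : d ⟨⊥, Ideal.isPrime_bot⟩ = 0) : d = 0 := by
  funext P
  obtain ⟨V, g, hg, hP⟩ := exists_valuationSubring_dominating A P
  have hV : η.InV V := InV_valuationSubring η (bijective_eta_bot_of_InV η A hA) V
  obtain ⟨r, hr⟩ := hd V hV g
  have hginj : Function.Injective g := by
    intro a a' haa'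
    apply IsFractionRing.injective A (⊥ : Ideal A).ResidueField
    rw [← hg, ← hg, haa']
  have hbot : PrimeSpectrum.comap g ⟨⊥, Ideal.isPrime_bot⟩ = ⟨⊥, Ideal.isPrime_bot⟩ := by
    apply PrimeSpectrum.ext
    ext a
    change g a ∈ (⊥ : Ideal V) ↔ a ∈ (⊥ : Ideal A)
    rw [Ideal.mem_bot, Ideal.mem_bot, map_eq_zero_iff g hginj]
  have hr0 : r = 0 := by
    have h1 := congrFun hr ⟨⊥, Ideal.isPrime_bot⟩
    rw [Nmap_apply, apply_eq_zero_of_eq η d hbot.symm h0, map_zero, t_apply] at h1
    have h2 := (map_eq_zero_iff _ (RingHom.injective _)).mp h1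
    exact (map_eq_zero_iff _ (IsFractionRing.injective V (⊥ : Ideal V).ResidueField)).mp h2
  rw [hr0, map_zero] at hr
  exact apply_eq_zero_of_eq η d hP (apply_comap_eq_zero_of_Nmap_eq_zero η g d hr.symm _)

theorem injOn_generic {A : Type u} [CommRing A] [IsDomain A] (hA : η.InV A) :
    Set.InjOn (fun x : η.N A => x ⟨⊥, Ideal.isPrime_bot⟩) (η.M A) := by
  intro x hx x' hx' h
  rw [← sub_eq_zero]
  apply eq_zero_of_generic_eq_zero η hA ((η.M A).sub_mem hx hx')
  change x _ - x' _ = 0
  rw [sub_eq_zero]
  exact h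

theorem Nmap_apply_of_eq {A B : Type u} [CommRing A] [CommRing B] (f : A →+* B) (x : η.N A)
    (q : PrimeSpectrum B) (p : PrimeSpectrum A) (h : PrimeSpectrum.comap f q = p) :
    η.Nmap f x q = η.map (Ideal.ResidueField.map p.asIdeal q.asIdeal f (by rw [← h]; rfl)) (x p) := by
  subst h; rfl

theorem isIntegrallyClosedIn_range (A K : Type*) [CommRing A] [IsDomain A] [IsIntegrallyClosed A]
    [Field K] [Algebra A K] [IsFractionRing A K] :
    IsIntegrallyClosedIn (algebraMap A K).range K := by
  rw [Subring.isIntegrallyClosedIn_iff]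
  intro x hx
  letI : Algebra A (algebraMap A K).range := (algebraMap A K).rangeRestrict.toAlgebra
  haveI : IsScalarTower A (algebraMap A K).range K := .of_algebraMap_eq fun _ => rfl
  haveI : Algebra.IsIntegral A (algebraMap A K).range :=
    Algebra.isIntegral_of_surjective (algebraMap A K).rangeRestrict_surjective
  exact IsIntegrallyClosed.algebraMap_eq_of_integral (isIntegral_trans x hx)

/-- For a valuation subring `V` of the fraction field `k((0))` of `A` containing `A`, the residue
field map at the generic points is the canonical isomorphism. -/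
theorem residueField_map_bot_valuationSubring {A : Type u} [CommRing A] [IsDomain A]
    (V : ValuationSubring (⊥ : Ideal A).ResidueField) (g : A →+* V)
    (hg : ∀ a, ((g a : V) : (⊥ : Ideal A).ResidueField) = algebraMap A _ a)
    (h : (⊥ : Ideal A) = (⊥ : Ideal V).comap g) (r : V) :
    Ideal.ResidueField.map (⊥ : Ideal A) (⊥ : Ideal V) g h (r : (⊥ : Ideal A).ResidueField) =
      algebraMap V (⊥ : Ideal V).ResidueField r := by
  let c := IsLocalization.algEquiv (nonZeroDivisors V) (⊥ : Ideal A).ResidueField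
    (⊥ : Ideal V).ResidueField
  have hc : Ideal.ResidueField.map (⊥ : Ideal A) (⊥ : Ideal V) g h =
      (c : (⊥ : Ideal A).ResidueField →+* (⊥ : Ideal V).ResidueField) := by
    apply IsLocalization.ringHom_ext (nonZeroDivisors A)
    ext a
    simp only [RingHom.comp_apply, RingHom.coe_coe]
    rw [Ideal.ResidueField.map_algebraMap, ← hg a]
    exact (c.commutes (g a)).symm
  rw [hc]
  exact c.commutes r

theorem q_bijective_of_isIntegrallyClosed (A : Type u) [CommRing A] [IsDomain A]
    [IsIntegrallyClosed A] (hA : η.InV A) : Function.Bijective (η.q A) := by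
  have hK := bijective_eta_bot_of_InV η A hA
  constructor
  · intro a a' h
    have h1 := congrFun (congrArg Subtype.val h) ⟨⊥, Ideal.isPrime_bot⟩
    rw [q_coe, q_coe, t_apply, t_apply] at h1
    exact IsFractionRing.injective A (⊥ : Ideal A).ResidueField (hK.1 h1)
  · rintro ⟨x, hx⟩
    obtain ⟨b, hb⟩ := hK.2 (x ⟨⊥, Ideal.isPrime_bot⟩)
    have hmem : b ∈ (algebraMap A (⊥ : Ideal A).ResidueField).range := by
      by_contra hb'
      have := isIntegrallyClosedIn_range A (⊥ : Ideal A).ResidueField
      obtain ⟨V, hV, hbV⟩ := Subring.exists_le_valuationSubring_of_isIntegrallyClosedIn hb'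
      apply hbV
      let g : A →+* V := (algebraMap A (⊥ : Ideal A).ResidueField).codRestrict V
        (fun a => hV ⟨a, rfl⟩)
      have hg : ∀ a, ((g a : V) : (⊥ : Ideal A).ResidueField) = algebraMap A _ a := fun a => rfl
      have hVin : η.InV V := InV_valuationSubring η hK V
      obtain ⟨r, hr⟩ := hx V hVin g
      have hginj : Function.Injective g := by
        intro a a' haa'
        apply IsFractionRing.injective A (⊥ : Ideal A).ResidueField
        rw [← hg, ← hg, haa']
      have hbot : PrimeSpectrum.comap g ⟨⊥, Ideal.isPrime_bot⟩ = ⟨⊥, Ideal.isPrime_bot⟩ := by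
        apply PrimeSpectrum.ext
        ext a
        change g a ∈ (⊥ : Ideal V) ↔ a ∈ (⊥ : Ideal A)
        rw [Ideal.mem_bot, Ideal.mem_bot, map_eq_zero_iff g hginj]
      have h1 := congrFun hr ⟨⊥, Ideal.isPrime_bot⟩
      rw [Nmap_apply_of_eq η g x _ _ hbot, t_apply, ← hb] at h1
      have h2 := RingHom.congr_fun (η.eta_natural (Ideal.ResidueField.map (⊥ : Ideal A) (⊥ : Ideal V) g
        (congrArg (·.asIdeal) hbot).symm)) b
      simp only [RingHom.comp_apply] at h2
      rw [h2] at h1
      have h3 : algebraMap V (⊥ : Ideal V).ResidueField r =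
          Ideal.ResidueField.map (⊥ : Ideal A) (⊥ : Ideal V) g
            (congrArg (·.asIdeal) hbot).symm b := (η.eta (⊥ : Ideal V).ResidueField).injective h1
      rw [← residueField_map_bot_valuationSubring V g hg (congrArg (·.asIdeal) hbot).symm r] at h3
      have h4 := (RingHom.injective _) h3
      rw [← h4]
      exact r.2
    obtain ⟨a, rfl⟩ := hmem
    refine ⟨a, Subtype.ext ?_⟩
    apply injOn_generic η hA (η.t_mem_M A a) hx
    change η.t A a _ = x _
    rw [t_apply, hb]

/-! ### Descent along extensions of valuation rings -/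

theorem comap_surjective_of_valuationRing_of_isLocalHom {R S : Type*} [CommRing R] [IsDomain R]
    [ValuationRing R] [CommRing S] [IsDomain S] [IsLocalRing S] (ι : R →+* S)
    (hinj : Function.Injective ι) [IsLocalHom ι] : Function.Surjective (PrimeSpectrum.comap ι) := by
  algebraize [ι]
  have h1 : Module.IsTorsionFree R S := Module.isTorsionFree_iff_algebraMap_injective.mpr hinj
  have h2 : Module.Flat R S := Module.Flat.flat_iff_torsion_eq_bot_of_isBezout.mpr
    ((Submodule.isTorsionFree_iff_torsion_eq_bot).mp h1)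
  have h3 : IsLocalHom (algebraMap R S) := ‹IsLocalHom ι›
  have : Module.FaithfullyFlat R S := .of_flat_of_isLocalHom
  exact PrimeSpectrum.comap_surjective_of_faithfullyFlat

/-- Descent of the property of being diagonal along an injective local homomorphism from a
valuation ring with `InV` to a local domain. -/
theorem mem_range_t_of_Nmap_mem_range {R S : Type u} [CommRing R] [IsDomain R] [ValuationRing R]
    (hR : η.InV R) [CommRing S] [IsDomain S] [IsLocalRing S] (ι : R →+* S)
    (hinj : Function.Injective ι) [IsLocalHom ι] (y : η.N R)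
    (hy : η.Nmap ι y ∈ (η.t S).range) : y ∈ (η.t R).range := by
  obtain ⟨r', hr'⟩ := hy
  have hK := bijective_eta_bot_of_InV η R hR
  obtain ⟨b, hb⟩ := hK.2 (y ⟨⊥, Ideal.isPrime_bot⟩)
  have hbot : PrimeSpectrum.comap ι ⟨⊥, Ideal.isPrime_bot⟩ = ⟨⊥, Ideal.isPrime_bot⟩ := by
    apply PrimeSpectrum.ext
    ext a
    change ι a ∈ (⊥ : Ideal S) ↔ a ∈ (⊥ : Ideal R)
    rw [Ideal.mem_bot, Ideal.mem_bot, map_eq_zero_iff ι hinj]
  have hbot' : (⊥ : Ideal R) = (⊥ : Ideal S).comap ι := (congrArg (·.asIdeal) hbot).symm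
  have h1 := congrFun hr' ⟨⊥, Ideal.isPrime_bot⟩
  rw [Nmap_apply_of_eq η ι y _ _ hbot, t_apply, ← hb] at h1
  have h2 := RingHom.congr_fun (η.eta_natural (Ideal.ResidueField.map (⊥ : Ideal R) (⊥ : Ideal S) ι
    hbot')) b
  simp only [RingHom.comp_apply] at h2
  rw [h2] at h1
  have h3 : algebraMap S (⊥ : Ideal S).ResidueField r' =
      Ideal.ResidueField.map (⊥ : Ideal R) (⊥ : Ideal S) ι hbot' b :=
    (η.eta (⊥ : Ideal S).ResidueField).injective h1
  -- write `b` as a fraction
  obtain ⟨a, s, hs, hb'⟩ := IsFractionRing.div_surjective (A := R) b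
  have hs0 : algebraMap R (⊥ : Ideal R).ResidueField s ≠ 0 :=
    IsFractionRing.to_map_ne_zero_of_mem_nonZeroDivisors hs
  have hba : b * algebraMap R (⊥ : Ideal R).ResidueField s =
      algebraMap R (⊥ : Ideal R).ResidueField a := by
    rw [← hb', div_mul_cancel₀ _ hs0]
  have hSinj := IsFractionRing.injective S (⊥ : Ideal S).ResidueField
  have h4 : r' * ι s = ι a := by
    apply hSinj
    rw [map_mul, h3, ← Ideal.ResidueField.map_algebraMap (⊥ : Ideal R) (⊥ : Ideal S) ι hbot' s,
      ← Ideal.ResidueField.map_algebraMap (⊥ : Ideal R) (⊥ : Ideal S) ι hbot' a, ← map_mul, hba]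
  have hmem : ∃ s₀ : R, algebraMap R (⊥ : Ideal R).ResidueField s₀ = b := by
    obtain ⟨c, hc | hc⟩ := ValuationRing.cond a s
    · -- `a * c = s`
      have ha0 : ι a ≠ 0 := by
        intro h0
        have : a = 0 := (map_eq_zero_iff ι hinj).mp h0
        rw [this, zero_mul] at hc
        exact nonZeroDivisors.ne_zero hs hc.symm
      have h5 : r' * ι c = 1 := by
        apply mul_left_cancel₀ ha0
        have h6 : ι a * (r' * ι c) = r' * ι (a * c) := by rw [map_mul]; ring
        rw [h6, hc, h4, mul_one]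
      have hcu : IsUnit c := isUnit_of_map_unit ι c
        (IsUnit.of_mul_eq_one_right r' h5)
      obtain ⟨u, rfl⟩ := hcu
      refine ⟨(↑u⁻¹ : R), ?_⟩
      rw [← hb', ← hc, map_mul, eq_div_iff (by rw [← map_mul, hc]; exact hs0), ← map_mul, ← map_mul]
      congr 1
      rw [mul_comm a, ← mul_assoc, Units.inv_mul, one_mul]
    · -- `s * c = a`
      refine ⟨c, ?_⟩
      rw [← hb', ← hc, map_mul, mul_div_cancel_left₀ _ hs0]
  obtain ⟨s₀, rfl⟩ := hmem
  refine ⟨s₀, ?_⟩
  rw [Ideal.ResidueField.map_algebraMap] at h3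
  have h5 : r' = ι s₀ := hSinj h3
  have hsurj := comap_surjective_of_valuationRing_of_isLocalHom ι hinj
  apply Nmap_injective_of_surjective η ι hsurj
  rw [η.Nmap_t_apply, ← h5, hr']

/-- Given an integral map `f : A → B` with surjective `Spec`, every map from `A` to a valuation ring
extends, after enlarging the valuation ring to one with algebraically closed fraction field,
to `B`. -/
theorem exists_lift_algClosure {A B : Type u} [CommRing A] [CommRing B] (f : A →+* B)
    (hf : f.IsIntegral) (hs : Function.Surjective (PrimeSpectrum.comap f))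
    (R : Type u) [CommRing R] [IsDomain R] [ValuationRing R] (g : A →+* R) :
    ∃ (L' : Type u) (_ : Field L') (_ : IsAlgClosed L') (V' : ValuationSubring L') (ι : R →+* V')
      (g' : B →+* V'), Function.Injective ι ∧ IsLocalHom ι ∧ g'.comp f = ι.comp g := by
  let L := (⊥ : Ideal R).ResidueField
  let L' := AlgebraicClosure L
  let j : R →+* L' := (algebraMap L L').comp (algebraMap R L)
  have hj : Function.Injective j :=
    (algebraMap L L').injective.comp (IsFractionRing.injective R L)
  obtain ⟨V', hjV, hloc⟩ := IsLocalRing.exists_factor_valuationRing j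
  have hloc' : IsLocalHom (j.codRestrict V' hjV) := hloc
  obtain ⟨Q, hQ⟩ := hs (PrimeSpectrum.comap g ⟨⊥, Ideal.isPrime_bot⟩)
  have hQ' : Q.asIdeal.comap f = (⊥ : Ideal R).comap g := congrArg (·.asIdeal) hQ
  have hPprime : (Q.asIdeal.comap f).IsPrime := Ideal.comap_isPrime f Q.asIdeal
  let φ : A ⧸ Q.asIdeal.comap f →+* B ⧸ Q.asIdeal := Ideal.quotientMap Q.asIdeal f le_rfl
  have hφint : φ.IsIntegral := RingHom.IsIntegral.quotient f hf
  have hφinj : Function.Injective φ := Ideal.quotientMap_injective
  let ψ : A ⧸ Q.asIdeal.comap f →+* L' := Ideal.Quotient.lift _ (j.comp g) (by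
    intro a ha
    rw [hQ'] at ha
    have : g a = 0 := ha
    rw [RingHom.comp_apply, this, map_zero])
  have hψinj : Function.Injective ψ := by
    rw [injective_iff_map_eq_zero]
    intro a
    obtain ⟨a, rfl⟩ := Ideal.Quotient.mk_surjective a
    intro ha
    have h1 : j (g a) = 0 := ha
    have h2 : g a = 0 := (map_eq_zero_iff j hj).mp h1
    rw [Ideal.Quotient.eq_zero_iff_mem, hQ']
    exact h2
  let : Algebra (A ⧸ Q.asIdeal.comap f) (B ⧸ Q.asIdeal) := φ.toAlgebra
  let : Algebra (A ⧸ Q.asIdeal.comap f) L' := ψ.toAlgebra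
  have : Module.IsTorsionFree (A ⧸ Q.asIdeal.comap f) (B ⧸ Q.asIdeal) :=
    Module.isTorsionFree_iff_algebraMap_injective.mpr hφinj
  have : Module.IsTorsionFree (A ⧸ Q.asIdeal.comap f) L' :=
    Module.isTorsionFree_iff_algebraMap_injective.mpr hψinj
  have : Algebra.IsIntegral (A ⧸ Q.asIdeal.comap f) (B ⧸ Q.asIdeal) := ⟨hφint⟩
  have : Algebra.IsAlgebraic (A ⧸ Q.asIdeal.comap f) (B ⧸ Q.asIdeal) := Algebra.IsIntegral.isAlgebraic
  let lft : (B ⧸ Q.asIdeal) →ₐ[A ⧸ Q.asIdeal.comap f] L' := IsAlgClosed.lift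
  let h : B →+* L' := (lft : (B ⧸ Q.asIdeal) →+* L').comp (Ideal.Quotient.mk Q.asIdeal)
  have hhf : h.comp f = j.comp g := by
    ext a
    have h1 : lft (algebraMap (A ⧸ Q.asIdeal.comap f) (B ⧸ Q.asIdeal) (Ideal.Quotient.mk _ a)) =
      algebraMap (A ⧸ Q.asIdeal.comap f) L' (Ideal.Quotient.mk _ a) := lft.commutes _
    exact h1
  have hmem : ∀ b, h b ∈ V' := by
    intro b
    obtain ⟨p, hp, hpb⟩ := hf b
    have hint : IsIntegral V' (h b) := by
      refine ⟨(p.map g).map (j.codRestrict V' hjV), (hp.map g).map _, ?_⟩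
      rw [Polynomial.eval₂_map, Polynomial.eval₂_map]
      have : ((algebraMap V' L').comp (j.codRestrict V' hjV)).comp g = h.comp f := by
        rw [hhf]; rfl
      rw [this, ← Polynomial.hom_eval₂, hpb, map_zero]
    obtain ⟨y, hy⟩ := IsIntegrallyClosed.algebraMap_eq_of_integral hint
    rw [← hy]
    exact y.2
  refine ⟨L', inferInstance, inferInstance, V', j.codRestrict V' hjV, h.codRestrict V' hmem, ?_,
    hloc', ?_⟩
  · intro r r' hrr'
    exact hj (congrArg Subtype.val hrr')
  · refine RingHom.ext fun a => Subtype.ext ?_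
    exact RingHom.congr_fun hhf a

/-- `M` can be tested after an integral map with surjective `Spec`. -/
theorem mem_M_iff_of_isIntegral_of_surjective {A B : Type u} [CommRing A] [CommRing B] (f : A →+* B)
    (hf : f.IsIntegral) (hs : Function.Surjective (PrimeSpectrum.comap f)) (x : η.N A) :
    x ∈ η.M A ↔ η.Nmap f x ∈ η.M B := by
  refine ⟨fun hx => Nmap_mem_M η f hx, fun hx R _ _ _ hR g => ?_⟩
  obtain ⟨L', _, _, V', ι, g', hι, hloc, hcomm⟩ := exists_lift_algClosure f hf hs R g
  have hV' : η.InV V' := InV_valuationSubring η (bijective_eta_of_perfect η L') V'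
  have h1 := hx V' hV' g'
  rw [← Nmap_comp_apply, hcomm, Nmap_comp_apply] at h1
  exact mem_range_t_of_Nmap_mem_range η hR ι hι _ h1

end Groth.Agent.Lib.Helper20.EtaPt
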