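import Groth.Agent.Lib.Helper20EtaPtVal

universe u

namespace Groth.Agent.Lib.Helper20.EtaPt

open _root_.EtaPt

variable (η : FieldEndo.{u})

section NormalCover

variable (D : Type u) [CommRing D] [IsDomain D]

/-- The integral closure of a domain in an algebraic closure of its fraction field. -/
abbrev NC : Type u := integralClosure D (AlgebraicClosure (FractionRing D))

instance : Algebra.IsAlgebraic D (AlgebraicClosure (FractionRing D)) :=
  have : Algebra.IsAlgebraic D (FractionRing D) := IsLocalization.isAlgebraic _ (nonZeroDivisors D)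
  Algebra.IsAlgebraic.trans D (FractionRing D) (AlgebraicClosure (FractionRing D))

theorem NC.algebraMap_injective' :
    Function.Injective (algebraMap D (AlgebraicClosure (FractionRing D))) := by
  rw [IsScalarTower.algebraMap_eq D (FractionRing D) (AlgebraicClosure (FractionRing D))]
  exact (algebraMap (FractionRing D) (AlgebraicClosure (FractionRing D))).injective.comp
    (IsFractionRing.injective D (FractionRing D))

instance : IsFractionRing (NC D) (AlgebraicClosure (FractionRing D)) :=
  integralClosure.isFractionRing_of_algebraic (A := D)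
    (fun x hx => NC.algebraMap_injective' D (hx.trans (map_zero _).symm))

instance : IsIntegrallyClosed (NC D) :=
  (isIntegrallyClosed_iff_isIntegrallyClosedIn (AlgebraicClosure (FractionRing D))).mpr inferInstance

theorem NC.InV : η.InV (NC D) :=
  bijective_eta_of_ringEquiv η
    (FractionRing.algEquiv (NC D) (AlgebraicClosure (FractionRing D))).symm.toRingEquiv
    (bijective_eta_of_perfect η _)

theorem NC.isIntegral : (algebraMap D (NC D)).IsIntegral :=
  Algebra.IsIntegral.isIntegral (R := D) (A := NC D)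

theorem NC.injective : Function.Injective (algebraMap D (NC D)) := by
  intro a b h
  apply NC.algebraMap_injective' D
  exact congrArg Subtype.val h

theorem NC.q_bijective : Function.Bijective (η.q (NC D)) :=
  q_bijective_of_isIntegrallyClosed η (NC D) (NC.InV η D)

end NormalCover

section Pi

theorem pi_q_surjective {ι : Type u} [Finite ι] (S : ι → Type u) [∀ i, CommRing (S i)]
    (h : ∀ i, Function.Surjective (η.q (S i))) : Function.Surjective (η.q (∀ i, S i)) := by
  rintro ⟨x, hx⟩
  have h1 : ∀ i, ∃ b : S i, η.t (S i) b = η.Nmap (Pi.evalRingHom S i) x := by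
    intro i
    obtain ⟨b, hb⟩ := h i ⟨_, Nmap_mem_M η (Pi.evalRingHom S i) hx⟩
    exact ⟨b, congrArg Subtype.val hb⟩
  choose b hb using h1
  refine ⟨b, Subtype.ext ?_⟩
  change η.t _ b = x
  rw [← sub_eq_zero]
  funext Q
  obtain ⟨i, Qi, rfl⟩ := PrimeSpectrum.exists_comap_evalRingHom_eq Q
  apply apply_comap_eq_zero_of_Nmap_eq_zero η (Pi.evalRingHom S i)
  rw [map_sub, η.Nmap_t_apply, ← hb i]
  exact sub_self _

theorem pi_isIntegral {A : Type*} [CommRing A] {ι : Type*} [Finite ι] (S : ι → Type*)
    [∀ i, CommRing (S i)] (f : A →+* ∀ i, S i)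
    (h : ∀ i, ((Pi.evalRingHom S i).comp f).IsIntegral) : f.IsIntegral := by
  classical
  cases nonempty_fintype ι
  intro b
  choose p hp hpb using fun i => h i (b i)
  refine ⟨∏ i, p i, Polynomial.monic_prod_of_monic _ _ (fun i _ => hp i), ?_⟩
  funext i
  have h1 : (Polynomial.eval₂ f b (∏ i, p i)) i =
      Polynomial.eval₂ ((Pi.evalRingHom S i).comp f) (b i) (∏ i, p i) :=
    Polynomial.hom_eval₂ _ f (Pi.evalRingHom S i) b
  rw [h1, Polynomial.eval₂_finsetProd]
  exact Finset.prod_eq_zero (Finset.mem_univ i) (hpb i)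

end Pi

section Cover

variable (A : Type u) [CommRing A]

instance minimalPrimes_isPrime_inst (i : {p : Ideal A // p ∈ minimalPrimes A}) : i.1.IsPrime :=
  Ideal.minimalPrimes_isPrime i.2

/-- The normal cover of `A`: the product over the minimal primes `p` of the integral closures of
`A ⧸ p` in an algebraic closure of its fraction field. -/
abbrev NB : Type u := ∀ i : {p : Ideal A // p ∈ minimalPrimes A}, NC (A ⧸ i.1)

/-- The canonical map to the normal cover. -/
noncomputable def toNB : A →+* NB A :=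
  Pi.ringHom fun i => (algebraMap (A ⧸ i.1) (NC (A ⧸ i.1))).comp (Ideal.Quotient.mk i.1)

theorem toNB_isIntegral (hA : (minimalPrimes A).Finite) : (toNB A).IsIntegral := by
  have := hA.to_subtype
  apply pi_isIntegral
  intro i
  change ((algebraMap (A ⧸ i.1) (NC (A ⧸ i.1))).comp (Ideal.Quotient.mk i.1)).IsIntegral
  exact RingHom.IsIntegral.trans _ _ (RingHom.isIntegral_of_surjective _ Ideal.Quotient.mk_surjective)
    (NC.isIntegral (A ⧸ i.1))

theorem toNB_comap_surjective : Function.Surjective (PrimeSpectrum.comap (toNB A)) := by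
  intro P
  obtain ⟨p, hp, hle⟩ := Ideal.exists_minimalPrimes_le (I := ⊥) (J := P.asIdeal) bot_le
  obtain ⟨i, hle⟩ : ∃ i : {p : Ideal A // p ∈ minimalPrimes A}, i.1 ≤ P.asIdeal := ⟨⟨p, hp⟩, hle⟩
  have hker : RingHom.ker (Ideal.Quotient.mk i.1) ≤ P.asIdeal := by rw [Ideal.mk_ker]; exact hle
  let Pbar : PrimeSpectrum (A ⧸ i.1) :=
    ⟨P.asIdeal.map (Ideal.Quotient.mk i.1),
      Ideal.map_isPrime_of_surjective Ideal.Quotient.mk_surjective hker⟩
  have hPbar : PrimeSpectrum.comap (Ideal.Quotient.mk i.1) Pbar = P := by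
    apply PrimeSpectrum.ext
    change (P.asIdeal.map (Ideal.Quotient.mk i.1)).comap (Ideal.Quotient.mk i.1) = P.asIdeal
    rw [Ideal.comap_map_of_surjective _ Ideal.Quotient.mk_surjective, ← RingHom.ker_eq_comap_bot,
      sup_eq_left]
    exact hker
  obtain ⟨Qi, hQi⟩ := RingHom.IsIntegral.comap_surjective (NC.isIntegral (A ⧸ i.1))
    (NC.injective (A ⧸ i.1)) Pbar
  refine ⟨PrimeSpectrum.comap (Pi.evalRingHom _ i) Qi, ?_⟩
  rw [← hPbar, ← hQi]
  rfl

theorem NB_q_surjective (hA : (minimalPrimes A).Finite) : Function.Surjective (η.q (NB A)) := by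
  have := hA.to_subtype
  exact pi_q_surjective η _ (fun i => (NC.q_bijective η (A ⧸ i.1)).2)

/-- Abstract form of the normal cover. -/
theorem exists_cover (hA : (minimalPrimes A).Finite) :
    ∃ (B : Type u) (_ : CommRing B) (_ : IsReduced B) (f : A →+* B), f.IsIntegral ∧
      Function.Surjective (PrimeSpectrum.comap f) ∧ Function.Surjective (η.q B) :=
  ⟨NB A, inferInstance, inferInstance, toNB A, toNB_isIntegral A hA, toNB_comap_surjective A,
    NB_q_surjective η A hA⟩

end Cover

section Structure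

theorem t_injective_of_isReduced (B : Type u) [CommRing B] [IsReduced B] :
    Function.Injective (η.t B) := by
  rw [injective_iff_map_eq_zero]
  intro b hb
  have hmem : b ∈ nilradical B := by
    rw [nilradical_eq_sInf, Ideal.mem_sInf]
    intro P hP
    have hP' : P.IsPrime := hP
    have h1 := congrFun hb ⟨P, hP⟩
    rw [t_apply, Pi.zero_apply] at h1
    have h2 := (map_eq_zero _).mp h1
    exact Ideal.algebraMap_residueField_eq_zero.mp h2
  exact IsReduced.eq_zero _ (mem_nilradical.mp hmem)

theorem exists_factor_of_range_le {B N M : Type*} [CommRing B] [CommRing N] [CommRing M]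
    (j : B →+* N) (hj : Function.Injective j) (h : M →+* N) (hmem : ∀ m, h m ∈ j.range) :
    ∃ ι : M →+* B, j.comp ι = h := by
  let e := RingEquiv.ofBijective j.rangeRestrict
    ⟨fun x y hxy => hj (congrArg Subtype.val hxy), j.rangeRestrict_surjective⟩
  refine ⟨(e.symm : j.range →+* B).comp (h.codRestrict _ hmem), ?_⟩
  refine RingHom.ext fun b => ?_
  simp only [RingHom.comp_apply, RingHom.coe_coe]
  have : e (e.symm (h.codRestrict _ hmem b)) = h.codRestrict _ hmem b := e.apply_symm_apply _
  exact congrArg Subtype.val this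

variable {A : Type u} [CommRing A]

/-- The embedding of `M A` into the normal cover. -/
theorem exists_iota (hA : (minimalPrimes A).Finite) :
    ∃ (B : Type u) (_ : CommRing B) (f : A →+* B) (ι : η.M A →+* B), f.IsIntegral ∧
      Function.Surjective (PrimeSpectrum.comap f) ∧ ι.comp (η.q A) = f ∧ Function.Injective ι ∧
      ∀ x : η.M A, η.t B (ι x) = η.Nmap f (x : η.N A) := by
  obtain ⟨B, _, _, f, hf, hs, hq⟩ := exists_cover η A hA
  have htinj := t_injective_of_isReduced η B
  obtain ⟨ι, hι⟩ := exists_factor_of_range_le (η.t B) htinj ((η.Nmap f).comp (η.M A).subtype) (by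
    intro x
    obtain ⟨b, hb⟩ := hq ⟨_, Nmap_mem_M η f x.2⟩
    exact ⟨b, congrArg Subtype.val hb⟩)
  have hι' : ∀ x : η.M A, η.t B (ι x) = η.Nmap f (x : η.N A) := fun x => RingHom.congr_fun hι x
  refine ⟨B, inferInstance, f, ι, hf, hs, ?_, ?_, hι'⟩
  · refine RingHom.ext fun a => htinj ?_
    rw [RingHom.comp_apply, hι', q_coe, η.Nmap_t_apply]
  · rw [injective_iff_map_eq_zero]
    intro x hx
    have h1 := hι' x
    rw [hx, map_zero] at h1
    exact Subtype.ext (Nmap_injective_of_surjective η f hs (h1.symm.trans (map_zero _).symm))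

theorem q_isIntegral (hA : (minimalPrimes A).Finite) : (η.q A).IsIntegral := by
  obtain ⟨B, _, f, ι, hf, hs, hc, hinj, ht⟩ := exists_iota η hA
  exact RingHom.IsIntegral.tower_bot _ _ hinj (hc ▸ hf)

/-- Evaluation of `M A` at a prime of `A`. -/
noncomputable def ev (P : PrimeSpectrum A) : η.M A →+* η.obj P.asIdeal.ResidueField :=
  (Pi.evalRingHom (fun p : PrimeSpectrum A => η.obj p.asIdeal.ResidueField) P).comp (η.M A).subtype

theorem ev_apply (P : PrimeSpectrum A) (x : η.M A) : ev η P x = (x : η.N A) P := rfl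

theorem ev_q (P : PrimeSpectrum A) (a : A) :
    ev η P (η.q A a) = η.eta _ (algebraMap A P.asIdeal.ResidueField a) := rfl

instance (P : PrimeSpectrum A) : (RingHom.ker (ev η P)).IsPrime := RingHom.ker_isPrime _

/-- The prime of `M A` attached to a prime of `A`. -/
noncomputable def kerEv (P : PrimeSpectrum A) : PrimeSpectrum (η.M A) := ⟨RingHom.ker (ev η P), inferInstance⟩

theorem comap_kerEv (P : PrimeSpectrum A) : PrimeSpectrum.comap (η.q A) (kerEv η P) = P := by
  apply PrimeSpectrum.ext
  ext a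
  change ev η P (η.q A a) = 0 ↔ a ∈ P.asIdeal
  rw [ev_q, map_eq_zero, Ideal.algebraMap_residueField_eq_zero]

theorem eq_kerEv (hA : (minimalPrimes A).Finite) (Q : PrimeSpectrum (η.M A)) :
    Q = kerEv η (PrimeSpectrum.comap (η.q A) Q) := by
  obtain ⟨B, _, f, ι, hf, hs, hc, hinj, ht⟩ := exists_iota η hA
  have hιint : ι.IsIntegral := RingHom.IsIntegral.tower_top (η.q A) ι (hc ▸ hf)
  have hle : (kerEv η (PrimeSpectrum.comap (η.q A) Q)).asIdeal ≤ Q.asIdeal := by
    intro x hx
    have hx0 : (x : η.N A) (PrimeSpectrum.comap (η.q A) Q) = 0 := hx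
    obtain ⟨Q', hQ'⟩ := RingHom.IsIntegral.comap_surjective hιint hinj Q
    have hP : PrimeSpectrum.comap f Q' = PrimeSpectrum.comap (η.q A) Q := by
      rw [← hQ', ← hc]; rfl
    have h1 := congrFun (ht x) Q'
    rw [Nmap_apply_of_eq η f _ Q' _ hP, hx0, map_zero, t_apply] at h1
    have h2 := (map_eq_zero _).mp h1
    have h3 : ι x ∈ Q'.asIdeal := Ideal.algebraMap_residueField_eq_zero.mp h2
    rw [← hQ']
    exact h3
  by_contra hne
  have hlt : (kerEv η (PrimeSpectrum.comap (η.q A) Q)).asIdeal < Q.asIdeal :=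
    lt_of_le_of_ne hle (fun h => hne (PrimeSpectrum.ext h).symm)
  algebraize [η.q A]
  have : Algebra.IsIntegral A (η.M A) := ⟨q_isIntegral η hA⟩
  have h4 := Ideal.IsIntegral.comap_lt_comap (R := A) hlt
  have h5 : (kerEv η (PrimeSpectrum.comap (η.q A) Q)).asIdeal.comap (algebraMap A (η.M A)) =
      Q.asIdeal.comap (algebraMap A (η.M A)) :=
    congrArg (·.asIdeal) (comap_kerEv η (PrimeSpectrum.comap (η.q A) Q))
  exact (ne_of_lt h4) h5

theorem comap_q_bijective (hA : (minimalPrimes A).Finite) :
    Function.Bijective (PrimeSpectrum.comap (η.q A)) := by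
  refine ⟨fun Q Q' h => ?_, fun P => ⟨kerEv η P, comap_kerEv η P⟩⟩
  rw [eq_kerEv η hA Q, eq_kerEv η hA Q', h]

/-- The factorization of `η` at `k(P)` through the residue field of `M A`. -/
theorem exists_residue_factor (hA : (minimalPrimes A).Finite) (Q : PrimeSpectrum (η.M A)) :
    ∃ φ : Q.asIdeal.ResidueField →+* η.obj (PrimeSpectrum.comap (η.q A) Q).asIdeal.ResidueField,
      φ.comp (Ideal.ResidueField.map (PrimeSpectrum.comap (η.q A) Q).asIdeal Q.asIdeal (η.q A) rfl) =
        η.eta (PrimeSpectrum.comap (η.q A) Q).asIdeal.ResidueField ∧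
      ∀ x : η.M A, φ (algebraMap (η.M A) Q.asIdeal.ResidueField x) =
        (x : η.N A) (PrimeSpectrum.comap (η.q A) Q) := by
  have hQ : Q.asIdeal = RingHom.ker (ev η (PrimeSpectrum.comap (η.q A) Q)) :=
    congrArg (·.asIdeal) (eq_kerEv η hA Q)
  have hu : Q.asIdeal.primeCompl ≤ (IsUnit.submonoid _).comap (ev η (PrimeSpectrum.comap (η.q A) Q)) := by
    intro x hx
    change IsUnit (ev η _ x)
    rw [isUnit_iff_ne_zero]
    intro h0
    apply hx
    rw [hQ]
    exact h0
  refine ⟨Ideal.ResidueField.lift Q.asIdeal (ev η (PrimeSpectrum.comap (η.q A) Q)) hQ.le hu, ?_,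
    fun x => Ideal.ResidueField.lift_algebraMap _ _ _ _ _⟩
  apply Ideal.ResidueField.ringHom_ext
  refine RingHom.ext fun a => ?_
  simp only [RingHom.comp_apply]
  rw [Ideal.ResidueField.map_algebraMap, Ideal.ResidueField.lift_algebraMap]
  rfl

theorem Nmap_q_bijective (hA : (minimalPrimes A).Finite) : Function.Bijective (η.Nmap (η.q A)) := by
  rw [Nmap_bijective_iff]
  refine ⟨comap_q_bijective η hA, fun Q => ?_⟩
  obtain ⟨φ, hφ, -⟩ := exists_residue_factor η hA Q
  have h1 : (η.map φ).comp (η.map (Ideal.ResidueField.map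
      (PrimeSpectrum.comap (η.q A) Q).asIdeal Q.asIdeal (η.q A) rfl)) = η.map (η.eta _) := by
    rw [← η.map_comp, hφ]
  intro z
  obtain ⟨w, hw⟩ := (η.bijective_map_eta _).2 (η.map φ z)
  refine ⟨w, (η.map φ).injective ?_⟩
  rw [← hw, ← h1]
  rfl

theorem bijective_of_isIntegral_of_Nmap_bijective (hA : (minimalPrimes A).Finite) (B : Type u)
    [CommRing B] [IsReduced B] (f : η.M A →+* B) (hf : f.IsIntegral)
    (hN : Function.Bijective (η.Nmap f)) : Function.Bijective f := by
  have hq := q_isIntegral η hA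
  have hNq := Nmap_q_bijective η hA
  have hg : (f.comp (η.q A)).IsIntegral := RingHom.IsIntegral.trans _ _ hq hf
  have hNg : Function.Bijective (η.Nmap (f.comp (η.q A))) := by
    rw [Nmap_comp]; exact hN.comp hNq
  obtain ⟨g', hg'⟩ := exists_hom_M η (f.comp (η.q A)) hg hNg
  have h1 : g'.comp f = RingHom.id _ := hom_M_ext η (η.q A) hNq (g'.comp f) (RingHom.id _) (by
    rw [RingHom.comp_assoc, hg', RingHom.id_comp])
  refine ⟨fun x y hxy => ?_, fun b => ⟨g' b, ?_⟩⟩
  · have h2 := congrArg g' hxy
    rw [← RingHom.comp_apply, ← RingHom.comp_apply, h1] at h2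
    exact h2
  · apply t_injective_of_isReduced η B
    obtain ⟨x, hx⟩ := hN.2 (η.t B b)
    have h3 : η.Nmap (f.comp g') (η.Nmap f x) = η.Nmap f x := by
      rw [← Nmap_comp_apply, RingHom.comp_assoc, h1, RingHom.comp_id]
    rw [hx, η.Nmap_t_apply] at h3
    exact h3

theorem Nmap_q_eq_t (hA : (minimalPrimes A).Finite) (x : η.M A) :
    η.Nmap (η.q A) (x : η.N A) = η.t (η.M A) x := by
  have hNq := Nmap_q_bijective η hA
  funext Q
  obtain ⟨φ, hφ, hφx⟩ := exists_residue_factor η hA Q
  rw [Nmap_apply, t_apply, ← hφx x]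
  have hpi := exists_pow_eq_of_map_surjective η _ (map_surjective_of_Nmap_surjective η (η.q A) hNq.2 Q)
  have key : (η.map (Ideal.ResidueField.map (PrimeSpectrum.comap (η.q A) Q).asIdeal Q.asIdeal
      (η.q A) rfl)).comp φ = η.eta Q.asIdeal.ResidueField := by
    apply hom_ext_of_pow _ hpi
    rw [RingHom.comp_assoc, hφ]
    exact η.eta_natural _
  exact RingHom.congr_fun key _

theorem q_M_bijective (hA : (minimalPrimes A).Finite) : Function.Bijective (η.q (η.M A)) := by
  have h := Mmap_bijective η (η.q A) (q_isIntegral η hA) (Nmap_q_bijective η hA)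
  have : ⇑(η.q (η.M A)) = ⇑(Mmap η (η.q A)) :=
    funext fun x => Subtype.ext (Nmap_q_eq_t η hA x).symm
  rw [this]
  exact h

end Structure

end Groth.Agent.Lib.Helper20.EtaPt
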