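import Groth.Agent.Lib.Helper20EtaPtRel

/-!
# Localization of `M` (helper20)
-/

universe u

namespace Groth.Agent.Lib.Helper20.EtaPt

open _root_.EtaPt

variable (η : FieldEndo.{u})

section Away

variable {A : Type u} [CommRing A] (f : A)

theorem Nmap_away_surjective :
    Function.Surjective (η.Nmap (algebraMap A (Localization.Away f))) := by
  have hloc : (algebraMap A (Localization.Away f)).SurjectiveOnStalks :=
    RingHom.surjectiveOnStalks_of_isLocalization (Submonoid.powers f) _
  have hinj : Function.Injective (PrimeSpectrum.comap (algebraMap A (Localization.Away f))) :=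
    PrimeSpectrum.localization_comap_injective (Localization.Away f) (Submonoid.powers f)
  exact Nmap_surjective_of η (algebraMap A (Localization.Away f)) hinj (fun q =>
    (map_bijective_of_bijective η _ (hloc.residueFieldMap_bijective _ _ rfl)).2)

theorem apply_eq_zero_of_Nmap_away_eq_zero (x : η.N A)
    (hx : η.Nmap (algebraMap A (Localization.Away f)) x = 0) (p : PrimeSpectrum A)
    (hp : f ∉ p.asIdeal) : x p = 0 := by
  have hmem : p ∈ Set.range (PrimeSpectrum.comap (algebraMap A (Localization.Away f))) := by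
    rw [PrimeSpectrum.localization_away_comap_range (Localization.Away f) f]
    exact hp
  obtain ⟨q, rfl⟩ := hmem
  exact apply_comap_eq_zero_of_Nmap_eq_zero η _ x hx q

theorem t_apply_eq_zero_of_mem (a : A) (p : PrimeSpectrum A) (hp : a ∈ p.asIdeal) :
    η.t A a p = 0 := by
  rw [t_apply, Ideal.algebraMap_residueField_eq_zero.mpr hp, map_zero]

theorem Nmap_away_eq_zero (x : η.N A)
    (hx : η.Nmap (algebraMap A (Localization.Away f)) x = 0) : η.t A f * x = 0 := by
  funext p
  change η.t A f p * x p = 0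
  by_cases hp : f ∈ p.asIdeal
  · rw [t_apply_eq_zero_of_mem η f p hp, zero_mul]
  · rw [apply_eq_zero_of_Nmap_away_eq_zero η f x hx p hp, mul_zero]

theorem minimalPrimes_finite_away (hA : (minimalPrimes A).Finite) :
    (minimalPrimes (Localization.Away f)).Finite := by
  have h := IsLocalization.minimalPrimes_map (Submonoid.powers f) (Localization.Away f) (⊥ : Ideal A)
  rw [Ideal.map_bot] at h
  change (⊥ : Ideal (Localization.Away f)).minimalPrimes.Finite
  rw [h]
  apply Set.Finite.preimage _ hA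
  intro p _ p' _ hpp'
  have := congrArg (Ideal.map (algebraMap A (Localization.Away f))) hpp'
  rwa [IsLocalization.map_comap (Submonoid.powers f), IsLocalization.map_comap (Submonoid.powers f)]
    at this

/-- Lifting an integral element of `N (A_f)` to an integral element of `N A` vanishing on `V(f)`. -/
theorem exists_integral_lift (y : η.N (Localization.Away f))
    (hy : (η.t (Localization.Away f)).IsIntegralElem y) :
    ∃ (z : η.N A) (k : ℕ),
      η.Nmap (algebraMap A (Localization.Away f)) z =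
        y * η.t (Localization.Away f) (algebraMap A (Localization.Away f) f) ^ k ∧
      (∀ P : PrimeSpectrum A, f ∈ P.asIdeal → z P = 0) ∧ (η.t A).IsIntegralElem z := by
  let φ : A →+* η.N (Localization.Away f) :=
    (η.t (Localization.Away f)).comp (algebraMap A (Localization.Away f))
  have h1 : ∃ k₀ : ℕ, φ.IsIntegralElem
      (y * η.t (Localization.Away f) (algebraMap A (Localization.Away f) f) ^ k₀) := by
    letI : Algebra (Localization.Away f) (η.N (Localization.Away f)) :=
      (η.t (Localization.Away f)).toAlgebra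
    letI : Algebra A (η.N (Localization.Away f)) := φ.toAlgebra
    haveI : IsScalarTower A (Localization.Away f) (η.N (Localization.Away f)) :=
      IsScalarTower.of_algebraMap_eq fun _ => rfl
    obtain ⟨⟨m, k₀, rfl⟩, hm⟩ := IsIntegral.exists_multiple_integral_of_isLocalization
      (Submonoid.powers f) (Rₘ := Localization.Away f) y hy
    refine ⟨k₀, ?_⟩
    rw [Submonoid.smul_def, Algebra.smul_def] at hm
    have e : algebraMap A (η.N (Localization.Away f)) (f ^ k₀) =
        η.t (Localization.Away f) (algebraMap A (Localization.Away f) f) ^ k₀ := by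
      change φ (f ^ k₀) = _
      rw [map_pow]
      rfl
    rw [e, mul_comm] at hm
    exact hm
  obtain ⟨k₀, hk₀⟩ := h1
  have h2 : φ.IsIntegralElem
      (y * η.t (Localization.Away f) (algebraMap A (Localization.Away f) f) ^ (k₀ + 1)) := by
    rw [pow_succ, ← mul_assoc]
    exact RingHom.IsIntegralElem.mul φ hk₀ (φ.isIntegralElem_map (x := f))
  obtain ⟨x₀, hx₀⟩ := Nmap_away_surjective η f
    (y * η.t (Localization.Away f) (algebraMap A (Localization.Away f) f) ^ k₀)
  refine ⟨x₀ * η.t A f, k₀ + 1, ?_, ?_, ?_⟩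
  · rw [map_mul, hx₀, η.Nmap_t_apply, pow_succ, mul_assoc]
  · intro P hP
    change x₀ P * η.t A f P = 0
    rw [t_apply_eq_zero_of_mem η f P hP, mul_zero]
  · obtain ⟨P, hP, hPy⟩ := h2
    have hz : η.Nmap (algebraMap A (Localization.Away f)) (x₀ * η.t A f) =
        y * η.t (Localization.Away f) (algebraMap A (Localization.Away f) f) ^ (k₀ + 1) := by
      rw [map_mul, hx₀, η.Nmap_t_apply, pow_succ, mul_assoc]
    have h3 : η.Nmap (algebraMap A (Localization.Away f))
        (Polynomial.eval₂ (η.t A) (x₀ * η.t A f) P) = 0 := by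
      rw [Polynomial.hom_eval₂, hz]
      have : (η.Nmap (algebraMap A (Localization.Away f))).comp (η.t A) = φ :=
        RingHom.ext fun a => η.Nmap_t_apply _ a
      rw [this]
      exact hPy
    refine ⟨Polynomial.X * P, Polynomial.monic_X.mul hP, ?_⟩
    rw [Polynomial.eval₂_mul, Polynomial.eval₂_X]
    funext P₀
    change (x₀ P₀ * η.t A f P₀) * (Polynomial.eval₂ (η.t A) (x₀ * η.t A f) P) P₀ = 0
    by_cases hP₀ : f ∈ P₀.asIdeal
    · rw [t_apply_eq_zero_of_mem η f P₀ hP₀, mul_zero, zero_mul]
    · rw [apply_eq_zero_of_Nmap_away_eq_zero η f _ h3 P₀ hP₀, mul_zero]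

theorem mem_M_of_away {y : η.N (Localization.Away f)} (hy : y ∈ η.M (Localization.Away f))
    (z : η.N A) (k : ℕ)
    (hz : η.Nmap (algebraMap A (Localization.Away f)) z =
      y * η.t (Localization.Away f) (algebraMap A (Localization.Away f) f) ^ k)
    (hz0 : ∀ P : PrimeSpectrum A, f ∈ P.asIdeal → z P = 0)
    (hint : (η.t A).IsIntegralElem z) : z * η.t A f ∈ η.M A := by
  intro R _ _ _ hR g
  by_cases hgf : g f = 0
  · have h0 : η.Nmap g (z * η.t A f) = 0 := by
      rw [map_mul, η.Nmap_t_apply, hgf, map_zero, mul_zero]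
    rw [h0]
    exact Subring.zero_mem _
  have hK := bijective_eta_bot_of_InV η R hR
  obtain ⟨ρ, hρ⟩ := hK.2 (η.Nmap g z ⟨⊥, Ideal.isPrime_bot⟩)
  have hinjK := IsFractionRing.injective R (⊥ : Ideal R).ResidueField
  -- `ρ` is integral, hence in `R`
  obtain ⟨ρ₀, rfl⟩ : ∃ ρ₀ : R, algebraMap R (⊥ : Ideal R).ResidueField ρ₀ = ρ := by
    obtain ⟨P, hP, hPz⟩ := hint
    let Ψ : η.N A →+* η.obj (⊥ : Ideal R).ResidueField :=
      (Pi.evalRingHom (fun p : PrimeSpectrum R => η.obj p.asIdeal.ResidueField)
        ⟨⊥, Ideal.isPrime_bot⟩).comp (η.Nmap g)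
    have h1 := congrArg Ψ hPz
    rw [Polynomial.hom_eval₂, map_zero] at h1
    have h2 : Ψ.comp (η.t A) = (η.eta (⊥ : Ideal R).ResidueField).comp
        ((algebraMap R (⊥ : Ideal R).ResidueField).comp g) := by
      refine RingHom.ext fun a => ?_
      change η.Nmap g (η.t A a) ⟨⊥, Ideal.isPrime_bot⟩ = _
      rw [η.Nmap_t_apply]
      rfl
    have h3 : Ψ z = η.eta _ ρ := hρ.symm
    rw [h2, h3, ← Polynomial.hom_eval₂] at h1
    have h4 := (map_eq_zero _).mp h1
    have hint : IsIntegral R ρ := by
      refine ⟨P.map g, hP.map g, ?_⟩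
      rw [Polynomial.eval₂_map]
      exact h4
    exact IsIntegrallyClosed.algebraMap_eq_of_integral hint
  refine ⟨ρ₀ * g f, ?_⟩
  rw [map_mul, map_mul, η.Nmap_t_apply]
  funext q
  change η.t R ρ₀ q * η.t R (g f) q = η.Nmap g z q * η.t R (g f) q
  by_cases hq : g f ∈ q.asIdeal
  · rw [t_apply_eq_zero_of_mem η (g f) q hq, mul_zero, mul_zero]
  congr 1
  -- a valuation ring dominating `R_q`
  obtain ⟨V, ι, hι, hιq⟩ := exists_valuationSubring_dominating' R q (⊥ : Ideal R).ResidueField
    (algebraMap R _) hinjK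
  have hιinj : Function.Injective ι := by
    intro a a' haa'
    apply hinjK
    rw [← hι, ← hι, haa']
  have hu : IsUnit (ι (g f)) := by
    by_contra hnu
    have h1 : ι (g f) ∈ IsLocalRing.maximalIdeal V := hnu
    have h2 : g f ∈ (PrimeSpectrum.comap ι (IsLocalRing.closedPoint V)).asIdeal := h1
    rw [hιq] at h2
    exact hq h2
  let h : Localization.Away f →+* V := IsLocalization.Away.lift f (g := ι.comp g) hu
  have hh : h.comp (algebraMap A (Localization.Away f)) = ι.comp g :=
    IsLocalization.Away.lift_comp f hu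
  have hV : η.InV V := InV_valuationSubring η hK V
  obtain ⟨v, hv⟩ := hy V hV h
  have h5 : η.Nmap ι (η.Nmap g z) = η.t V (v * ι (g f) ^ k) := by
    rw [← Nmap_comp_apply, ← hh, Nmap_comp_apply, hz, map_mul, map_pow, ← hv, η.Nmap_t_apply,
      ← map_pow, ← map_mul]
    congr 3
    exact RingHom.congr_fun hh f
  -- compare at the generic point
  have hbot := comap_bot_eq_bot ι hιinj
  have hbot' : (⊥ : Ideal R) = (⊥ : Ideal V).comap ι := (congrArg (·.asIdeal) hbot).symm
  have h6 := congrFun h5 ⟨⊥, Ideal.isPrime_bot⟩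
  rw [Nmap_apply_of_eq η ι _ _ _ hbot, ← hρ, t_apply] at h6
  have h7 := RingHom.congr_fun (η.eta_natural (Ideal.ResidueField.map (⊥ : Ideal R) (⊥ : Ideal V) ι
    hbot')) (algebraMap R _ ρ₀)
  simp only [RingHom.comp_apply] at h7
  rw [h7, Ideal.ResidueField.map_algebraMap] at h6
  have h8 : algebraMap V (⊥ : Ideal V).ResidueField (ι ρ₀) =
      algebraMap V (⊥ : Ideal V).ResidueField (v * ι (g f) ^ k) :=
    (η.eta (⊥ : Ideal V).ResidueField).injective h6
  have h9 : ι ρ₀ = v * ι (g f) ^ k := IsFractionRing.injective V (⊥ : Ideal V).ResidueField h8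
  rw [← h9, ← η.Nmap_t_apply] at h5
  have h10 : η.Nmap ι (η.Nmap g z - η.t R ρ₀) = 0 := by rw [map_sub, h5, sub_self]
  have h11 := apply_eq_zero_of_eq η _ hιq (apply_comap_eq_zero_of_Nmap_eq_zero η ι _ h10 _)
  exact (sub_eq_zero.mp h11).symm

theorem away_M_surj (hA : (minimalPrimes A).Finite) (y : η.N (Localization.Away f))
    (hy : y ∈ η.M (Localization.Away f)) : ∃ x ∈ η.M A, ∃ n : ℕ,
      y * η.t (Localization.Away f) (algebraMap A (Localization.Away f) f) ^ n =
        η.Nmap (algebraMap A (Localization.Away f)) x := by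
  have hint : (η.t (Localization.Away f)).IsIntegralElem y := by
    obtain ⟨P, hP, hPy⟩ := q_isIntegral η (minimalPrimes_finite_away f hA) ⟨y, hy⟩
    refine ⟨P, hP, ?_⟩
    have h1 := congrArg (η.M (Localization.Away f)).subtype hPy
    rw [Polynomial.hom_eval₂, map_zero] at h1
    exact h1
  obtain ⟨z, k, hz, hz0, hzint⟩ := exists_integral_lift η f y hint
  refine ⟨z * η.t A f, mem_M_of_away η f hy z k hz hz0 hzint, k + 1, ?_⟩
  rw [map_mul, hz, η.Nmap_t_apply, pow_succ, mul_assoc]

end Away

section RelAway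

variable {A B : Type u} [CommRing A] [CommRing B] (φ : A →+* B) (f : A)

theorem awayMap_comp :
    (Localization.awayMap φ f).comp (algebraMap A (Localization.Away f)) =
      (algebraMap B (Localization.Away (φ f))).comp φ :=
  IsLocalization.map_comp _

theorem rel_map_away_le :
    (η.rel φ).map (algebraMap B (Localization.Away (φ f))) ≤ η.rel (Localization.awayMap φ f) := by
  rintro _ ⟨b, ⟨x, hx, hxb⟩, rfl⟩
  refine ⟨η.Nmap (algebraMap A (Localization.Away f)) x, Nmap_mem_M η _ hx, ?_⟩
  rw [← Nmap_comp_apply, awayMap_comp, Nmap_comp_apply, hxb, η.Nmap_t_apply]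

theorem rel_away_surj (hA : (minimalPrimes A).Finite) (y : Localization.Away (φ f))
    (hy : y ∈ η.rel (Localization.awayMap φ f)) :
    ∃ x ∈ η.rel φ, ∃ n : ℕ,
      y * algebraMap B (Localization.Away (φ f)) (φ f) ^ n =
        algebraMap B (Localization.Away (φ f)) x := by
  obtain ⟨w, hw, hwy⟩ := hy
  obtain ⟨x, hx, n, hxw⟩ := away_M_surj η f hA w hw
  obtain ⟨⟨b, ⟨_, m, rfl⟩⟩, hb⟩ := IsLocalization.surj (Submonoid.powers (φ f)) y
  simp only [map_pow] at hb
  have hf : Localization.awayMap φ f (algebraMap A (Localization.Away f) f) =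
      algebraMap B (Localization.Away (φ f)) (φ f) := RingHom.congr_fun (awayMap_comp φ f) f
  -- the key identity in `N (B_f)`
  have h1 : η.Nmap (algebraMap B (Localization.Away (φ f))) (η.t B (b * φ f ^ n)) =
      η.Nmap (algebraMap B (Localization.Away (φ f))) (η.Nmap φ (x * η.t A f ^ m)) := by
    have hL : η.Nmap (algebraMap B (Localization.Away (φ f))) (η.t B (b * φ f ^ n)) =
        η.t _ y * η.t _ (algebraMap B (Localization.Away (φ f)) (φ f)) ^ (m + n) := by
      rw [η.Nmap_t_apply]
      have e0 : algebraMap B (Localization.Away (φ f)) (b * φ f ^ n) =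
          y * algebraMap B (Localization.Away (φ f)) (φ f) ^ (m + n) := by
        rw [map_mul, map_pow, ← hb, pow_add]; ring
      rw [e0, map_mul, map_pow]
    have hR : η.Nmap (algebraMap B (Localization.Away (φ f))) (η.Nmap φ (x * η.t A f ^ m)) =
        η.t _ y * η.t _ (algebraMap B (Localization.Away (φ f)) (φ f)) ^ (m + n) := by
      rw [← Nmap_comp_apply, ← awayMap_comp, Nmap_comp_apply]
      have e1 : η.Nmap (algebraMap A (Localization.Away f)) (x * η.t A f ^ m) =
          w * η.t _ (algebraMap A (Localization.Away f) f) ^ (m + n) := by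
        rw [map_mul, map_pow, η.Nmap_t_apply, ← hxw, pow_add]; ring
      rw [e1, map_mul, map_pow, η.Nmap_t_apply, hf, hwy]
    rw [hL, hR]
  have h2 := Nmap_away_eq_zero η (φ f) (η.t B (b * φ f ^ n) - η.Nmap φ (x * η.t A f ^ m))
    (by rw [map_sub, h1, sub_self])
  rw [mul_sub, sub_eq_zero] at h2
  refine ⟨b * φ f ^ (n + 1), ⟨x * η.t A f ^ (m + 1), ?_, ?_⟩, m + n + 1, ?_⟩
  · exact (η.M A).mul_mem hx ((η.M A).pow_mem (η.t_mem_M A f) _)
  · have e1 : η.t B (b * φ f ^ (n + 1)) = η.t B (φ f) * η.t B (b * φ f ^ n) := by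
      rw [← map_mul]; congr 1; ring
    have e2 : η.Nmap φ (x * η.t A f ^ (m + 1)) = η.t B (φ f) * η.Nmap φ (x * η.t A f ^ m) := by
      rw [← η.Nmap_t_apply, ← map_mul]; congr 1; ring
    rw [e1, e2, h2]
  · rw [map_mul, map_pow, ← hb]
    ring

end RelAway

end Groth.Agent.Lib.Helper20.EtaPt
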