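import Groth.Agent.Lib.Helper20EtaPtFin

/-!
# The relative construction `rel f` (helper20)
-/

universe u

namespace Groth.Agent.Lib.Helper20.EtaPt

open _root_.EtaPt

variable (η : FieldEndo.{u})

theorem t_eq_zero_iff (B : Type u) [CommRing B] (b : B) : η.t B b = 0 ↔ IsNilpotent b := by
  rw [← mem_nilradical, nilradical_eq_sInf, Ideal.mem_sInf]
  constructor
  · intro hb P hP
    have hP' : P.IsPrime := hP
    have h1 := congrFun hb ⟨P, hP⟩
    rw [t_apply, Pi.zero_apply] at h1
    have h2 := (map_eq_zero _).mp h1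
    exact Ideal.algebraMap_residueField_eq_zero.mp h2
  · intro h
    funext P
    rw [t_apply, Pi.zero_apply, map_eq_zero, Ideal.algebraMap_residueField_eq_zero]
    exact h P.isPrime

theorem map_surjective_of_factor {K K' : Type u} [Field K] [Field K'] (res : K →+* K')
    (φ : K' →+* η.obj K) (h : φ.comp res = η.eta K) : Function.Surjective (η.map res) := by
  have h1 : (η.map φ).comp (η.map res) = η.map (η.eta K) := by rw [← η.map_comp, h]
  intro z
  obtain ⟨w, hw⟩ := (η.bijective_map_eta K).2 (η.map φ z)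
  refine ⟨w, (η.map φ).injective ?_⟩
  rw [← hw, ← h1]
  rfl

theorem comap_surjective_of_isIntegral_of_ker_le {C M : Type*} [CommRing C] [CommRing M]
    (σ : C →+* M) (hσ : σ.IsIntegral) (hker : RingHom.ker σ ≤ nilradical C) :
    Function.Surjective (PrimeSpectrum.comap σ) := by
  intro P
  algebraize [σ]
  have : Algebra.IsIntegral C M := ⟨hσ⟩
  obtain ⟨Q, -, hQ, hQP⟩ := Ideal.exists_ideal_over_prime_of_isIntegral P.asIdeal (⊥ : Ideal M) (by
    rw [← RingHom.ker_eq_comap_bot]
    exact hker.trans (nilradical_le_prime P.asIdeal))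
  exact ⟨⟨Q, hQ⟩, PrimeSpectrum.ext hQP⟩

section Rel

variable {A B : Type u} [CommRing A] [CommRing B] (f : A →+* B)

theorem mem_rel_iff (b : B) : b ∈ η.rel f ↔ ∃ x ∈ η.M A, η.Nmap f x = η.t B b := Iff.rfl

theorem qRel_coe (a : A) : ((η.qRel f a : η.rel f) : B) = f a := rfl

/-- The canonical map `rel f → M A` when `Spec f` is surjective. -/
theorem exists_sigma (hs : Function.Surjective (PrimeSpectrum.comap f)) :
    ∃ σ : η.rel f →+* η.M A, (∀ c : η.rel f, η.Nmap f (σ c : η.N A) = η.t B c) ∧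
      σ.comp (η.qRel f) = η.q A := by
  have hj : Function.Injective ((η.Nmap f).comp (η.M A).subtype) :=
    (Nmap_injective_of_surjective η f hs).comp Subtype.val_injective
  obtain ⟨σ, hσ⟩ := exists_factor_of_range_le ((η.Nmap f).comp (η.M A).subtype) hj
    ((η.t B).comp (η.rel f).subtype) (by
      rintro ⟨c, x, hx, hxc⟩
      exact ⟨⟨x, hx⟩, hxc⟩)
  have hσ' : ∀ c : η.rel f, η.Nmap f (σ c : η.N A) = η.t B c := fun c => RingHom.congr_fun hσ c
  refine ⟨σ, hσ', ?_⟩
  refine RingHom.ext fun a => hj ?_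
  change η.Nmap f (σ (η.qRel f a) : η.N A) = η.Nmap f (η.q A a : η.N A)
  rw [hσ', qRel_coe, q_coe, η.Nmap_t_apply]

theorem sigma_eq_zero_iff {σ : η.rel f →+* η.M A}
    (hσ : ∀ c : η.rel f, η.Nmap f (σ c : η.N A) = η.t B c)
    (hs : Function.Surjective (PrimeSpectrum.comap f)) (c : η.rel f) :
    σ c = 0 ↔ IsNilpotent c := by
  have h1 : IsNilpotent c ↔ IsNilpotent (c : B) := by
    constructor
    · rintro ⟨n, hn⟩
      refine ⟨n, ?_⟩
      have := congrArg (η.rel f).subtype hn
      rwa [map_pow, map_zero] at this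
    · rintro ⟨n, hn⟩
      refine ⟨n, (η.rel f).subtype_injective ?_⟩
      rw [map_pow, map_zero]
      exact hn
  rw [h1, ← t_eq_zero_iff η, ← hσ c]
  constructor
  · intro h
    rw [h]
    exact map_zero _
  · intro h
    exact Subtype.ext (Nmap_injective_of_surjective η f hs (h.trans (map_zero _).symm))

theorem qRel_isIntegral (hA : (minimalPrimes A).Finite)
    (hs : Function.Surjective (PrimeSpectrum.comap f)) : (η.qRel f).IsIntegral := by
  obtain ⟨σ, hσ, hσq⟩ := exists_sigma η f hs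
  intro c
  obtain ⟨P, hP, hPc⟩ := q_isIntegral η hA (σ c)
  have h1 : σ (Polynomial.eval₂ (η.qRel f) c P) = 0 := by
    rw [Polynomial.hom_eval₂, hσq]
    exact hPc
  obtain ⟨k, hk⟩ := (sigma_eq_zero_iff η f hσ hs _).mp h1
  refine ⟨P ^ k, hP.pow k, ?_⟩
  rw [Polynomial.eval₂_pow, hk]

theorem sigma_isIntegral (hA : (minimalPrimes A).Finite) {σ : η.rel f →+* η.M A}
    (hσq : σ.comp (η.qRel f) = η.q A) : σ.IsIntegral :=
  RingHom.IsIntegral.tower_top (η.qRel f) σ (hσq ▸ q_isIntegral η hA)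

theorem comap_sigma_surjective (hA : (minimalPrimes A).Finite)
    (hs : Function.Surjective (PrimeSpectrum.comap f)) {σ : η.rel f →+* η.M A}
    (hσ : ∀ c : η.rel f, η.Nmap f (σ c : η.N A) = η.t B c) (hσq : σ.comp (η.qRel f) = η.q A) :
    Function.Surjective (PrimeSpectrum.comap σ) := by
  apply comap_surjective_of_isIntegral_of_ker_le σ (sigma_isIntegral η f hA hσq)
  intro c hc
  rw [mem_nilradical]
  exact (sigma_eq_zero_iff η f hσ hs c).mp hc

theorem comap_qRel_bijective (hA : (minimalPrimes A).Finite)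
    (hs : Function.Surjective (PrimeSpectrum.comap f)) :
    Function.Bijective (PrimeSpectrum.comap (η.qRel f)) := by
  obtain ⟨σ, hσ, hσq⟩ := exists_sigma η f hs
  have hσs := comap_sigma_surjective η f hA hs hσ hσq
  have hcomp : ∀ Q' : PrimeSpectrum (η.M A),
      PrimeSpectrum.comap (η.qRel f) (PrimeSpectrum.comap σ Q') = PrimeSpectrum.comap (η.q A) Q' := by
    intro Q'
    rw [← hσq]
    rfl
  constructor
  · intro Q₁ Q₂ h
    obtain ⟨Q₁', rfl⟩ := hσs Q₁
    obtain ⟨Q₂', rfl⟩ := hσs Q₂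
    rw [hcomp, hcomp] at h
    rw [(comap_q_bijective η hA).1 h]
  · intro P
    obtain ⟨Q', hQ'⟩ := (comap_q_bijective η hA).2 P
    exact ⟨PrimeSpectrum.comap σ Q', (hcomp Q').trans hQ'⟩

theorem exists_residue_factor_rel (hA : (minimalPrimes A).Finite)
    (hs : Function.Surjective (PrimeSpectrum.comap f)) (Q : PrimeSpectrum (η.rel f)) :
    ∃ φ : Q.asIdeal.ResidueField →+* η.obj (PrimeSpectrum.comap (η.qRel f) Q).asIdeal.ResidueField,
      φ.comp (Ideal.ResidueField.map (PrimeSpectrum.comap (η.qRel f) Q).asIdeal Q.asIdeal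
        (η.qRel f) rfl) = η.eta (PrimeSpectrum.comap (η.qRel f) Q).asIdeal.ResidueField := by
  obtain ⟨σ, hσ, hσq⟩ := exists_sigma η f hs
  obtain ⟨Q', hQ'⟩ := comap_sigma_surjective η f hA hs hσ hσq Q
  have hP : PrimeSpectrum.comap (η.q A) Q' = PrimeSpectrum.comap (η.qRel f) Q := by
    rw [← hQ', ← hσq]
    rfl
  have hQ'' : Q' = kerEv η (PrimeSpectrum.comap (η.qRel f) Q) := by
    rw [← hP]
    exact eq_kerEv η hA Q'
  let evσ := (ev η (PrimeSpectrum.comap (η.qRel f) Q)).comp σ
  have hker : ∀ c : η.rel f, c ∈ Q.asIdeal ↔ evσ c = 0 := by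
    intro c
    have h1 : Q.asIdeal =
        (PrimeSpectrum.comap σ (kerEv η (PrimeSpectrum.comap (η.qRel f) Q))).asIdeal := by
      rw [← hQ'']
      exact (congrArg (·.asIdeal) hQ').symm
    rw [h1]
    rfl
  have hu : Q.asIdeal.primeCompl ≤ (IsUnit.submonoid _).comap evσ := by
    intro x hx
    change IsUnit (evσ x)
    rw [isUnit_iff_ne_zero]
    intro h0
    exact hx ((hker x).mpr h0)
  refine ⟨Ideal.ResidueField.lift Q.asIdeal evσ (fun c hc => (hker c).mp hc) hu, ?_⟩
  apply Ideal.ResidueField.ringHom_ext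
  refine RingHom.ext fun a => ?_
  simp only [RingHom.comp_apply]
  rw [Ideal.ResidueField.map_algebraMap, Ideal.ResidueField.lift_algebraMap]
  change ev η _ (σ (η.qRel f a)) = _
  have : σ (η.qRel f a) = η.q A a := RingHom.congr_fun hσq a
  rw [this]
  rfl

theorem Nmap_qRel_bijective (hA : (minimalPrimes A).Finite)
    (hs : Function.Surjective (PrimeSpectrum.comap f)) :
    Function.Bijective (η.Nmap (η.qRel f)) := by
  rw [Nmap_bijective_iff]
  refine ⟨comap_qRel_bijective η f hA hs, fun Q => ?_⟩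
  obtain ⟨φ, hφ⟩ := exists_residue_factor_rel η f hA hs Q
  exact map_surjective_of_factor η _ φ hφ

end Rel

section LemmaZ

/-- For a prime `P` of a domain `D` embedded in a field `L` there is a valuation subring of `L`
containing `D` and whose maximal ideal lies over `P`. -/
theorem exists_valuationSubring_dominating' (D : Type u) [CommRing D] [IsDomain D]
    (P : PrimeSpectrum D) (L : Type u) [Field L] (j : D →+* L) (hj : Function.Injective j) :
    ∃ (V : ValuationSubring L) (g : D →+* V),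
      (∀ a, ((g a : V) : L) = j a) ∧
      PrimeSpectrum.comap g (IsLocalRing.closedPoint V) = P := by
  have hu : ∀ y : P.asIdeal.primeCompl, IsUnit (j y) := by
    intro y
    rw [isUnit_iff_ne_zero, Ne, map_eq_zero_iff _ hj]
    intro h
    exact y.2 (h ▸ P.asIdeal.zero_mem)
  let f : Localization.AtPrime P.asIdeal →+* L := IsLocalization.lift hu
  obtain ⟨V, h, hloc⟩ := IsLocalRing.exists_factor_valuationRing f
  have hloc' : IsLocalHom (f.codRestrict V h) := hloc
  refine ⟨V, (f.codRestrict V h).comp (algebraMap D _), fun a => ?_, ?_⟩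
  · simp [f]
  · apply PrimeSpectrum.ext
    ext a
    change (f.codRestrict V h) (algebraMap D _ a) ∈ IsLocalRing.maximalIdeal V ↔ a ∈ P.asIdeal
    rw [IsLocalRing.mem_maximalIdeal, mem_nonunits_iff, ← not_iff_not, not_not]
    constructor
    · intro hu'
      have := hloc'.map_nonunit _ hu'
      exact (IsLocalization.AtPrime.isUnit_to_map_iff _ P.asIdeal a).mp this
    · intro ha
      exact ((IsLocalization.AtPrime.isUnit_to_map_iff _ P.asIdeal a).mpr ha).map _

/-- An element of `M C` vanishing at all minimal primes of `C` is zero. -/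
theorem eq_zero_of_forall_minimalPrimes {C : Type u} [CommRing C] {y : η.N C} (hy : y ∈ η.M C)
    (h0 : ∀ Q₀ : PrimeSpectrum C, Q₀.asIdeal ∈ minimalPrimes C → y Q₀ = 0) : y = 0 := by
  funext Q
  obtain ⟨p, hp, hle⟩ := Ideal.exists_minimalPrimes_le (I := ⊥) (J := Q.asIdeal) bot_le
  have hpp : p.IsPrime := Ideal.minimalPrimes_isPrime hp
  let Ω := AlgebraicClosure (FractionRing (C ⧸ p))
  have hker : RingHom.ker (Ideal.Quotient.mk p) ≤ Q.asIdeal := by rw [Ideal.mk_ker]; exact hle
  let Pbar : PrimeSpectrum (C ⧸ p) :=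
    ⟨Q.asIdeal.map (Ideal.Quotient.mk p),
      Ideal.map_isPrime_of_surjective Ideal.Quotient.mk_surjective hker⟩
  have hPbar : PrimeSpectrum.comap (Ideal.Quotient.mk p) Pbar = Q := by
    apply PrimeSpectrum.ext
    change (Q.asIdeal.map (Ideal.Quotient.mk p)).comap (Ideal.Quotient.mk p) = Q.asIdeal
    rw [Ideal.comap_map_of_surjective _ Ideal.Quotient.mk_surjective, ← RingHom.ker_eq_comap_bot,
      sup_eq_left]
    exact hker
  obtain ⟨V, g₀, hg₀, hg₀P⟩ := exists_valuationSubring_dominating' (C ⧸ p) Pbar Ω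
    (algebraMap (C ⧸ p) Ω) (NC.algebraMap_injective' (C ⧸ p))
  have hg₀inj : Function.Injective g₀ := by
    intro a a' haa'
    apply NC.algebraMap_injective' (C ⧸ p)
    rw [← hg₀, ← hg₀, haa']
  let g : C →+* V := g₀.comp (Ideal.Quotient.mk p)
  have hV : η.InV V := InV_valuationSubring η (bijective_eta_of_perfect η Ω) V
  obtain ⟨r, hr⟩ := hy V hV g
  have hbot : PrimeSpectrum.comap g ⟨⊥, Ideal.isPrime_bot⟩ = ⟨p, hpp⟩ := by
    apply PrimeSpectrum.ext
    ext a
    change g₀ (Ideal.Quotient.mk p a) ∈ (⊥ : Ideal V) ↔ a ∈ p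
    rw [Ideal.mem_bot, map_eq_zero_iff g₀ hg₀inj, Ideal.Quotient.eq_zero_iff_mem]
  have hr0 : r = 0 := by
    have h1 := congrFun hr ⟨⊥, Ideal.isPrime_bot⟩
    rw [Nmap_apply_of_eq η g y _ _ hbot, h0 ⟨p, hpp⟩ hp, map_zero, t_apply] at h1
    have h2 := (map_eq_zero _).mp h1
    exact (map_eq_zero_iff _ (IsFractionRing.injective V (⊥ : Ideal V).ResidueField)).mp h2
  rw [hr0, map_zero] at hr
  have hQ : PrimeSpectrum.comap g (IsLocalRing.closedPoint V) = Q := by
    rw [← hPbar, ← hg₀P]
    rfl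
  exact apply_eq_zero_of_eq η y hQ (apply_comap_eq_zero_of_Nmap_eq_zero η g y hr.symm _)

end LemmaZ

section IntegralClosure

theorem rel_integralClosure (A B : Type u) [CommRing A] [CommRing B] [Algebra A B]
    (hA : (minimalPrimes A).Finite)
    (hs : Function.Surjective (PrimeSpectrum.comap (algebraMap A B))) :
    (η.rel (algebraMap A (integralClosure A B))).map (integralClosure A B).val.toRingHom =
      η.rel (algebraMap A B) := by
  have hcomp : (integralClosure A B).val.toRingHom.comp (algebraMap A (integralClosure A B)) =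
      algebraMap A B := rfl
  apply le_antisymm
  · rintro _ ⟨c, ⟨x, hx, hxc⟩, rfl⟩
    refine ⟨x, hx, ?_⟩
    rw [← hcomp, Nmap_comp_apply, hxc, η.Nmap_t_apply]
  · rintro b ⟨x, hx, hxb⟩
    have hbrel : b ∈ η.rel (algebraMap A B) := ⟨x, hx, hxb⟩
    have hbint : IsIntegral A b := by
      obtain ⟨P, hP, hPb⟩ := qRel_isIntegral η (algebraMap A B) hA hs ⟨b, hbrel⟩
      refine ⟨P, hP, ?_⟩
      have h1 := congrArg (η.rel (algebraMap A B)).subtype hPb
      rw [Polynomial.hom_eval₂, map_zero] at h1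
      exact h1
    let c : integralClosure A B := ⟨b, hbint⟩
    refine ⟨c, ⟨x, hx, ?_⟩, rfl⟩
    rw [← sub_eq_zero]
    apply eq_zero_of_forall_minimalPrimes η
      ((η.M _).sub_mem (Nmap_mem_M η _ hx) (η.t_mem_M _ c))
    intro Q₀ hQ₀
    obtain ⟨Q', hQ', hQ'c⟩ := Ideal.exists_comap_eq_of_mem_minimalPrimes_of_injective
      (f := (integralClosure A B).val.toRingHom) Subtype.val_injective Q₀.asIdeal hQ₀
    have hQeq : PrimeSpectrum.comap (integralClosure A B).val.toRingHom ⟨Q', hQ'⟩ = Q₀ :=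
      PrimeSpectrum.ext hQ'c
    apply apply_eq_zero_of_eq η _ hQeq
    apply apply_comap_eq_zero_of_Nmap_eq_zero η (integralClosure A B).val.toRingHom
    rw [map_sub, ← Nmap_comp_apply, hcomp, hxb, η.Nmap_t_apply]
    exact sub_self _

end IntegralClosure

end Groth.Agent.Lib.Helper20.EtaPt
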