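import Groth.Agent.Lib.Helper20EtaPt

/-!
# `M η R` for a valuation ring `R` (helper20)
-/

universe u

namespace Groth.Agent.Lib.Helper20.EtaPt

open _root_.EtaPt

variable (η : FieldEndo.{u})

theorem exists_algClosed_extension (R : Type u) [CommRing R] [IsDomain R] [ValuationRing R] :
    ∃ (L' : Type u) (_ : Field L') (_ : IsAlgClosed L') (V' : ValuationSubring L') (ι : R →+* V'),
      Function.Injective ι ∧ IsLocalHom ι := by
  obtain ⟨L', i1, i2, V', ι, g', h1, h2, h3⟩ := exists_lift_algClosure (RingHom.id R)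
    (RingHom.isIntegral_of_surjective _ Function.surjective_id)
    (fun p => ⟨p, PrimeSpectrum.ext (Ideal.comap_id _)⟩) R (RingHom.id R)
  exact ⟨L', i1, i2, V', ι, h1, h2⟩

theorem comap_bot_eq_bot {R S : Type*} [CommRing R] [IsDomain R] [CommRing S] [IsDomain S]
    (ι : R →+* S) (hinj : Function.Injective ι) :
    PrimeSpectrum.comap ι ⟨⊥, Ideal.isPrime_bot⟩ = ⟨⊥, Ideal.isPrime_bot⟩ := by
  apply PrimeSpectrum.ext
  ext a
  change ι a ∈ (⊥ : Ideal S) ↔ a ∈ (⊥ : Ideal R)
  rw [Ideal.mem_bot, Ideal.mem_bot, map_eq_zero_iff ι hinj]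

theorem mem_range_algebraMap_of_map_eq {R S : Type*} [CommRing R] [IsDomain R] [ValuationRing R]
    [CommRing S] [IsDomain S] [IsLocalRing S] (ι : R →+* S) (hinj : Function.Injective ι)
    [IsLocalHom ι] (hbot' : (⊥ : Ideal R) = (⊥ : Ideal S).comap ι) (b : (⊥ : Ideal R).ResidueField)
    (r' : S)
    (h3 : algebraMap S (⊥ : Ideal S).ResidueField r' =
      Ideal.ResidueField.map (⊥ : Ideal R) (⊥ : Ideal S) ι hbot' b) :
    ∃ s₀ : R, algebraMap R (⊥ : Ideal R).ResidueField s₀ = b := by
  obtain ⟨a, s, hs, hb'⟩ := IsFractionRing.div_surjective (A := R) b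
  have hs0 : algebraMap R (⊥ : Ideal R).ResidueField s ≠ 0 :=
    IsFractionRing.to_map_ne_zero_of_mem_nonZeroDivisors hs
  have hba : b * algebraMap R (⊥ : Ideal R).ResidueField s =
      algebraMap R (⊥ : Ideal R).ResidueField a := by
    rw [← hb', div_mul_cancel₀ _ hs0]
  have hSinj := IsFractionRing.injective S (⊥ : Ideal S).ResidueField
  have h4 : r' * ι s = ι a := by
    apply hSinj
    rw [map_mul, h3, ← Ideal.ResidueField.map_algebraMap (⊥ : Ideal R) (⊥ : Ideal S) ι hbot' s,
      ← Ideal.ResidueField.map_algebraMap (⊥ : Ideal R) (⊥ : Ideal S) ι hbot' a, ← map_mul, hba]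
  obtain ⟨c, hc | hc⟩ := ValuationRing.cond a s
  · -- `a * c = s`
    have ha0 : ι a ≠ 0 := by
      intro h0
      have : a = 0 := (map_eq_zero_iff ι hinj).mp h0
      rw [this, zero_mul] at hc
      exact nonZeroDivisors.ne_zero hs hc.symm
    have h5 : r' * ι c = 1 := by
      apply mul_left_cancel₀ ha0
      have h6 : ι a * (r' * ι c) = r' * ι (a * c) := by rw [map_mul]; ring
      rw [h6, hc, h4, mul_one]
    have hcu : IsUnit c := isUnit_of_map_unit ι c (IsUnit.of_mul_eq_one_right r' h5)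
    obtain ⟨u, rfl⟩ := hcu
    refine ⟨(↑u⁻¹ : R), ?_⟩
    rw [← hb', ← hc, map_mul, eq_div_iff (by rw [← map_mul, hc]; exact hs0), ← map_mul, ← map_mul]
    congr 1
    rw [mul_comm a, ← mul_assoc, Units.inv_mul, one_mul]
  · -- `s * c = a`
    refine ⟨c, ?_⟩
    rw [← hb', ← hc, map_mul, mul_div_cancel_left₀ _ hs0]

/-- An element of `M R` (`R` a valuation ring) vanishing at the generic point is zero. -/
theorem eq_zero_of_generic_eq_zero_valuationRing {R : Type u} [CommRing R] [IsDomain R]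
    [ValuationRing R] {d : η.N R} (hd : d ∈ η.M R) (h0 : d ⟨⊥, Ideal.isPrime_bot⟩ = 0) : d = 0 := by
  obtain ⟨L', _, _, V', ι, hι, hloc⟩ := exists_algClosed_extension R
  have hV' : η.InV V' := InV_valuationSubring η (bijective_eta_of_perfect η L') V'
  obtain ⟨r', hr'⟩ := hd V' hV' ι
  have hbot := comap_bot_eq_bot ι hι
  have h1 := congrFun hr' ⟨⊥, Ideal.isPrime_bot⟩
  rw [Nmap_apply_of_eq η ι d _ _ hbot, h0, map_zero, t_apply] at h1
  have h2 : r' = 0 := by
    have h3 := (map_eq_zero_iff _ (RingHom.injective _)).mp h1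
    exact (map_eq_zero_iff _ (IsFractionRing.injective V' (⊥ : Ideal V').ResidueField)).mp h3
  rw [h2, map_zero] at hr'
  exact Nmap_injective_of_surjective η ι (comap_surjective_of_valuationRing_of_isLocalHom ι hι)
    (hr'.symm.trans (map_zero _).symm)

theorem injOn_generic_valuationRing (R : Type u) [CommRing R] [IsDomain R] [ValuationRing R] :
    Set.InjOn (fun x : η.N R => x ⟨⊥, Ideal.isPrime_bot⟩) (η.M R) := by
  intro x hx x' hx' h
  rw [← sub_eq_zero]
  apply eq_zero_of_generic_eq_zero_valuationRing η ((η.M R).sub_mem hx hx')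
  change x _ - x' _ = 0
  rw [sub_eq_zero]
  exact h

theorem ringExpChar_residueField_bot (R : Type u) [CommRing R] [IsDomain R] :
    ringExpChar (⊥ : Ideal R).ResidueField = ringExpChar R := by
  have : ExpChar (⊥ : Ideal R).ResidueField (ringExpChar R) :=
    expChar_of_injective_ringHom (IsFractionRing.injective R (⊥ : Ideal R).ResidueField) _
  exact ringExpChar.eq _ _

/-- Every element of `M R` has a `p`-power in the image of `R`. -/
theorem exists_pow_eq_t_of_mem_M {R : Type u} [CommRing R] [IsDomain R] [ValuationRing R]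
    {x : η.N R} (hx : x ∈ η.M R) : ∃ (n : ℕ) (a₀ : R), x ^ ringExpChar R ^ n = η.t R a₀ := by
  obtain ⟨n, a, ha⟩ := η.exists_pow_mem_range_eta (⊥ : Ideal R).ResidueField
    (x ⟨⊥, Ideal.isPrime_bot⟩)
  rw [ringExpChar_residueField_bot] at ha
  obtain ⟨L', _, _, V', ι, hι, hloc⟩ := exists_algClosed_extension R
  have hV' : η.InV V' := InV_valuationSubring η (bijective_eta_of_perfect η L') V'
  obtain ⟨r', hr'⟩ := hx V' hV' ι
  have hbot := comap_bot_eq_bot ι hι
  have hbot' : (⊥ : Ideal R) = (⊥ : Ideal V').comap ι := (congrArg (·.asIdeal) hbot).symm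
  have h1 := congrFun hr' ⟨⊥, Ideal.isPrime_bot⟩
  rw [Nmap_apply_of_eq η ι x _ _ hbot, t_apply] at h1
  have h2 : η.eta (⊥ : Ideal V').ResidueField
      (algebraMap V' (⊥ : Ideal V').ResidueField (r' ^ ringExpChar R ^ n)) =
      η.eta (⊥ : Ideal V').ResidueField
        (Ideal.ResidueField.map (⊥ : Ideal R) (⊥ : Ideal V') ι hbot' a) := by
    rw [map_pow, map_pow]
    refine (congrArg (· ^ ringExpChar R ^ n) h1).trans ?_
    rw [← map_pow, ← ha]
    exact RingHom.congr_fun (η.eta_natural _) a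
  have h3 := (η.eta (⊥ : Ideal V').ResidueField).injective h2
  obtain ⟨a₀, rfl⟩ := mem_range_algebraMap_of_map_eq ι hι hbot' a _ h3
  refine ⟨n, a₀, ?_⟩
  have hsub : x ^ ringExpChar R ^ n - η.t R a₀ ∈ η.M R :=
    (η.M R).sub_mem ((η.M R).pow_mem hx _) (η.t_mem_M R a₀)
  rw [← sub_eq_zero]
  apply eq_zero_of_generic_eq_zero_valuationRing η hsub
  change x _ ^ _ - η.t R a₀ _ = 0
  rw [t_apply, ha, sub_self]

theorem mem_M_of_pow_eq_t {R : Type u} [CommRing R] (e : ℕ) [he : ExpChar R e] {x : η.N R} (n : ℕ)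
    (a₀ : R) (h : x ^ e ^ n = η.t R a₀) : x ∈ η.M R := by
  cases he with
  | zero =>
    simp only [one_pow, pow_one] at h
    rw [h]
    exact η.t_mem_M R a₀
  | prime hp =>
    intro R₁ _ _ _ hR₁ g
    have : CharP R₁ e := (CharP.charP_iff_prime_eq_zero hp).mpr (by
      rw [← map_natCast g, CharP.cast_eq_zero R e, map_zero])
    have : ExpChar R₁ e := ExpChar.prime hp
    apply mem_range_t_of_pow η hR₁ e n _ (g a₀)
    rw [← map_pow, h, η.Nmap_t_apply]

theorem exists_root {R : Type u} [CommRing R] (e : ℕ) [he : ExpChar R e]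
    (hperf : ∀ (k : Type u) [Field k], ringChar k = ringChar R →
      Function.Bijective (η.eta k) → PerfectField k) (n : ℕ) (y : η.N R) :
    ∃ x : η.N R, x ^ e ^ n = y := by
  cases he with
  | zero => exact ⟨y, by simp⟩
  | prime hp =>
    have hroot : ∀ q : PrimeSpectrum R, ∃ z : η.obj q.asIdeal.ResidueField, z ^ e ^ n = y q := by
      intro q
      have : CharP (η.obj q.asIdeal.ResidueField) e := (CharP.charP_iff_prime_eq_zero hp).mpr (by
        rw [← map_natCast ((η.eta _).comp (algebraMap R q.asIdeal.ResidueField)),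
          CharP.cast_eq_zero R e, map_zero])
      have : ExpChar (η.obj q.asIdeal.ResidueField) e := ExpChar.prime hp
      have : PerfectField (η.obj q.asIdeal.ResidueField) :=
        hperf _ ((ringChar.eq _ e).trans (ringChar.eq R e).symm) (bijective_eta_obj η _)
      have : PerfectRing (η.obj q.asIdeal.ResidueField) e := PerfectField.toPerfectRing e
      obtain ⟨z, hz⟩ := (bijective_iterateFrobenius (η.obj q.asIdeal.ResidueField) e n).2 (y q)
      exact ⟨z, by rwa [iterateFrobenius_def] at hz⟩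
    choose z hz using hroot
    exact ⟨z, funext hz⟩

theorem pow_inj_N {R : Type u} [CommRing R] (e : ℕ) [ExpChar R e] (n : ℕ) {x y : η.N R}
    (h : x ^ e ^ n = y ^ e ^ n) : x = y := by
  funext q
  exact pow_inj_of_ringHom ((η.eta q.asIdeal.ResidueField).comp (algebraMap R q.asIdeal.ResidueField))
    e n (congrFun h q)

theorem isIntegralElem_generic_of_mem_M {R : Type u} [CommRing R] [IsDomain R] [ValuationRing R]
    {x : η.N R} (hx : x ∈ η.M R) :
    ((η.eta (⊥ : Ideal R).ResidueField).comp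
      (algebraMap R (⊥ : Ideal R).ResidueField)).IsIntegralElem (x ⟨⊥, Ideal.isPrime_bot⟩) := by
  obtain ⟨n, a₀, h⟩ := exists_pow_eq_t_of_mem_M η hx
  have h0 := congrFun h ⟨⊥, Ideal.isPrime_bot⟩
  rw [Pi.pow_apply, t_apply] at h0
  refine ⟨Polynomial.X ^ ringExpChar R ^ n - Polynomial.C a₀, Polynomial.monic_X_pow_sub_C a₀ ?_, ?_⟩
  · exact pow_ne_zero _ (expChar_pos R (ringExpChar R)).ne'
  · simp only [Polynomial.eval₂_sub, Polynomial.eval₂_pow, Polynomial.eval₂_X, Polynomial.eval₂_C]
    rw [h0, RingHom.comp_apply, sub_self]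

theorem mem_range_of_isIntegralElem_eta {R : Type u} [CommRing R] [IsDomain R] [IsIntegrallyClosed R]
    {β : (⊥ : Ideal R).ResidueField}
    (h : ((η.eta (⊥ : Ideal R).ResidueField).comp
      (algebraMap R (⊥ : Ideal R).ResidueField)).IsIntegralElem (η.eta _ β)) :
    ∃ b₀ : R, algebraMap R (⊥ : Ideal R).ResidueField b₀ = β := by
  obtain ⟨p, hp, hpβ⟩ := h
  have hint : IsIntegral R β := by
    refine ⟨p, hp, (η.eta (⊥ : Ideal R).ResidueField).injective ?_⟩
    rw [map_zero, Polynomial.hom_eval₂]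
    exact hpβ
  exact IsIntegrallyClosed.algebraMap_eq_of_integral hint

theorem isIntegralElem_pow {A B : Type*} [CommRing A] [CommRing B] (f : A →+* B) {x : B}
    (h : f.IsIntegralElem x) (n : ℕ) : f.IsIntegralElem (x ^ n) := by
  letI := f.toAlgebra
  exact IsIntegral.pow (R := A) h n

/-- The image of `M R` at the generic point: the integral elements. -/
theorem image_generic_valuationRing (R : Type u) [CommRing R] [IsDomain R] [ValuationRing R]
    (hη : η.InV R ∨ ∀ (k : Type u) [Field k], ringChar k = ringChar R →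
      Function.Bijective (η.eta k) → PerfectField k) :
    (fun x : η.N R => x ⟨⊥, Ideal.isPrime_bot⟩) '' (η.M R : Set (η.N R)) =
      {y | ((η.eta (⊥ : Ideal R).ResidueField).comp
        (algebraMap R (⊥ : Ideal R).ResidueField)).IsIntegralElem y} := by
  ext y
  constructor
  · rintro ⟨x, hx, rfl⟩
    exact isIntegralElem_generic_of_mem_M η hx
  · intro hy
    rcases hη with hR | hperf
    · obtain ⟨β, rfl⟩ := (bijective_eta_bot_of_InV η R hR).2 y
      obtain ⟨b₀, rfl⟩ := mem_range_of_isIntegralElem_eta η hy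
      exact ⟨η.t R b₀, η.t_mem_M R b₀, rfl⟩
    · obtain ⟨n, a, ha⟩ := η.exists_pow_mem_range_eta (⊥ : Ideal R).ResidueField y
      rw [ringExpChar_residueField_bot] at ha
      have hint := isIntegralElem_pow _ hy (ringExpChar R ^ n)
      rw [← ha] at hint
      obtain ⟨a₀, rfl⟩ := mem_range_of_isIntegralElem_eta η hint
      obtain ⟨x, hx⟩ := exists_root η (ringExpChar R) hperf n (η.t R a₀)
      refine ⟨x, mem_M_of_pow_eq_t η (ringExpChar R) n a₀ hx, ?_⟩
      have := expChar_obj η (⊥ : Ideal R).ResidueField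
      rw [ringExpChar_residueField_bot] at this
      apply pow_expChar_pow_inj (ringExpChar R) n
      have h0 := congrFun hx ⟨⊥, Ideal.isPrime_bot⟩
      rw [Pi.pow_apply, t_apply] at h0
      change x _ ^ _ = _
      rw [h0, ha]

end Groth.Agent.Lib.Helper20.EtaPt
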