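import Mathlib

/-!
# Some diagram lemmas in abelian categories (proved by refinements)
(helper21; for the ModSite finite type / finite presentation rows)
-/

set_option autoImplicit false
universe v u

open CategoryTheory CategoryTheory.Limits

namespace Groth.Agent.Lib.Helper21.AbLemmas

variable {A : Type u} [Category.{v} A] [Abelian A]

/-- Extension: if `X₁ ⟶ X₂ ⟶ X₃` is exact, `a : P ⟶ X₁` is epi and `b : Q ⟶ X₂` is such that
`b ≫ g` is epi, then `(a ≫ f, b) : P ⊞ Q ⟶ X₂` is epi. -/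
theorem epi_desc_of_exact {X₁ X₂ X₃ P Q : A} (f : X₁ ⟶ X₂) (g : X₂ ⟶ X₃) (w : f ≫ g = 0)
    (hS : (ShortComplex.mk f g w).Exact) (a : P ⟶ X₁) [Epi a] (b : Q ⟶ X₂) [Epi (b ≫ g)] :
    Epi (biprod.desc (a ≫ f) b) := by
  rw [epi_iff_surjective_up_to_refinements]
  intro T x₂
  obtain ⟨T₁, e₁, he₁, y, hy⟩ := surjective_up_to_refinements_of_epi (b ≫ g) (x₂ ≫ g)
  have h0 : (e₁ ≫ x₂ - y ≫ b) ≫ g = 0 := by
    rw [Preadditive.sub_comp, Category.assoc, Category.assoc, hy, sub_self]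
  obtain ⟨T₂, e₂, he₂, z, hz⟩ := hS.exact_up_to_refinements (e₁ ≫ x₂ - y ≫ b) h0
  obtain ⟨T₃, e₃, he₃, t, ht⟩ := surjective_up_to_refinements_of_epi a z
  refine ⟨T₃, e₃ ≫ e₂ ≫ e₁, inferInstance, biprod.lift t (e₃ ≫ e₂ ≫ y), ?_⟩
  dsimp at hz
  rw [biprod.lift_desc, ← Category.assoc t, ← ht, Category.assoc e₃ z, ← hz,
    Preadditive.comp_sub, Preadditive.comp_sub]
  simp only [Category.assoc]
  abel

/-- Cokernel of a map from a finitely generated object to a finitely presented one. -/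
theorem exact_desc_of_presentation {R Q K G F Cc : A} (ψ : R ⟶ Q) (π : Q ⟶ F) (w : ψ ≫ π = 0)
    (hS : (ShortComplex.mk ψ π w).Exact) (p : K ⟶ G) [Epi p] (φ : G ⟶ F) (c : F ⟶ Cc)
    (wc : φ ≫ c = 0) (hc : (ShortComplex.mk φ c wc).Exact) (lam : K ⟶ Q)
    (hlam : lam ≫ π = p ≫ φ) :
    ∃ w' : biprod.desc ψ lam ≫ (π ≫ c) = 0,
      (ShortComplex.mk (biprod.desc ψ lam) (π ≫ c) w').Exact := by
  have w' : biprod.desc ψ lam ≫ (π ≫ c) = 0 := by
    apply biprod.hom_ext'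
    · rw [biprod.inl_desc_assoc, reassoc_of% w, zero_comp, comp_zero]
    · rw [biprod.inr_desc_assoc, reassoc_of% hlam, wc, comp_zero, comp_zero]
  refine ⟨w', ?_⟩
  rw [ShortComplex.exact_iff_exact_up_to_refinements]
  intro T x hx
  dsimp at x hx ⊢
  have hx' : (x ≫ π) ≫ c = 0 := by rw [Category.assoc]; exact hx
  obtain ⟨T₁, e₁, he₁, y, hy⟩ := hc.exact_up_to_refinements (x ≫ π) hx'
  dsimp at y hy
  obtain ⟨T₂, e₂, he₂, z, hz⟩ := surjective_up_to_refinements_of_epi p y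
  have h0 : (e₂ ≫ e₁ ≫ x - z ≫ lam) ≫ π = 0 := by
    rw [Preadditive.sub_comp, Category.assoc, Category.assoc, Category.assoc, hlam,
      ← Category.assoc z, ← hz, Category.assoc, ← hy, sub_self]
  obtain ⟨T₃, e₃, he₃, t, ht⟩ := hS.exact_up_to_refinements _ h0
  dsimp at t ht
  refine ⟨T₃, e₃ ≫ e₂ ≫ e₁, inferInstance, biprod.lift t (e₃ ≫ z), ?_⟩
  rw [biprod.lift_desc, ← ht, Preadditive.comp_sub]
  simp only [Category.assoc]
  abel

/-- Kernel of an epi from a finitely generated object onto a finitely presented one: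
Schanuel-type generation of `ker q`. -/
theorem exact_desc_of_lifts {P R Q F : A} (q : P ⟶ F) (ψ : R ⟶ Q) (π : Q ⟶ F) (w : ψ ≫ π = 0)
    (hS : (ShortComplex.mk ψ π w).Exact) (α : Q ⟶ P) (hα : α ≫ q = π) (β : P ⟶ Q)
    (hβ : β ≫ π = q) :
    ∃ w' : biprod.desc (𝟙 P - β ≫ α) (ψ ≫ α) ≫ q = 0,
      (ShortComplex.mk (biprod.desc (𝟙 P - β ≫ α) (ψ ≫ α)) q w').Exact := by
  have w' : biprod.desc (𝟙 P - β ≫ α) (ψ ≫ α) ≫ q = 0 := by
    apply biprod.hom_ext'
    · rw [biprod.inl_desc_assoc, Preadditive.sub_comp, Category.id_comp, Category.assoc, hα, hβ,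
        sub_self, comp_zero]
    · rw [biprod.inr_desc_assoc, Category.assoc, hα, w, comp_zero]
  refine ⟨w', ?_⟩
  rw [ShortComplex.exact_iff_exact_up_to_refinements]
  intro T x hx
  dsimp at x hx ⊢
  have h0 : (x ≫ β) ≫ π = 0 := by rw [Category.assoc, hβ, hx]
  obtain ⟨T₁, e₁, he₁, z, hz⟩ := hS.exact_up_to_refinements _ h0
  dsimp at z hz
  refine ⟨T₁, e₁, he₁, biprod.lift (e₁ ≫ x) z, ?_⟩
  rw [biprod.lift_desc, Preadditive.comp_sub, Category.comp_id, ← Category.assoc z, ← hz]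
  simp only [Category.assoc]
  abel

/-- If `p : P ⟶ G` is epi then `ker (p ≫ θ) ⟶ ker θ` is epi. -/
theorem epi_kernel_map_of_epi {P G F : A} (p : P ⟶ G) [Epi p] (θ : G ⟶ F) :
    Epi (kernel.lift θ (kernel.ι (p ≫ θ) ≫ p)
      (by rw [Category.assoc]; exact kernel.condition (p ≫ θ))) := by
  rw [epi_iff_surjective_up_to_refinements]
  intro T y
  obtain ⟨T₁, e₁, he₁, z, hz⟩ := surjective_up_to_refinements_of_epi p (y ≫ kernel.ι θ)
  have h0 : z ≫ p ≫ θ = 0 := by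
    rw [← Category.assoc, ← hz, Category.assoc, Category.assoc, kernel.condition, comp_zero,
      comp_zero]
  refine ⟨T₁, e₁, he₁, kernel.lift (p ≫ θ) z h0, ?_⟩
  apply (cancel_mono (kernel.ι θ)).mp
  rw [Category.assoc, Category.assoc, kernel.lift_ι, kernel.lift_ι_assoc, hz]

end Groth.Agent.Lib.Helper21.AbLemmas
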