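import Mathlib
import Groth.Prelude.Def_ModSite
import Groth.Agent.Lib.Helper21LocFact1

/-!
# Helper21: local factorisation through a finite free module (slice computation)
-/

set_option autoImplicit false
universe u
open CategoryTheory CategoryTheory.Limits Opposite

namespace Groth.Agent.Lib.Helper21.LocFact

open Groth.Agent.Lib.Helper21.EqCrit

noncomputable section

section general

variable {C : Type u} [SmallCategory C] {J : GrothendieckTopology C} (O : Sheaf J CommRingCat.{u})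
  {T : C} (hT : IsTerminal T)

theorem unitEquiv_comp_smul (M : ModSite.Mod O) (χ : ModSite.unit O ⟶ ModSite.unit O)
    (h : ModSite.unit O ⟶ M) :
    RS.unitEquiv (ModSite.ringSh O) hT M (χ ≫ h) =
      RS.toR (ModSite.ringSh O) T (RS.unitEquiv (ModSite.ringSh O) hT (ModSite.unit O) χ) •
        RS.unitEquiv (ModSite.ringSh O) hT M h := by
  have h0 : RS.unitEquiv (ModSite.ringSh O) hT (ModSite.unit O) χ =
      RS.toR (ModSite.ringSh O) T (RS.unitEquiv (ModSite.ringSh O) hT (ModSite.unit O) χ) •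
        RS.ofR (ModSite.ringSh O) T 1 :=
    (mul_one (RS.toR (ModSite.ringSh O) T
      (RS.unitEquiv (ModSite.ringSh O) hT (ModSite.unit O) χ))).symm
  rw [RS.unitEquiv_comp]
  conv_lhs => rw [h0]
  rw [map_smul]
  rfl

theorem unitEquiv_mR (c : (ModSite.ringSh O).obj.obj (op T)) :
    RS.unitEquiv (ModSite.ringSh O) hT (ModSite.unit O) (mR O hT c) = RS.ofR (ModSite.ringSh O) T c :=
  mR_one O hT c

end general

section main

variable {C : Type u} [SmallCategory C] {J : GrothendieckTopology C} (O : Sheaf J CommRingCat.{u})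
  {X V : C} (g : V ⟶ X)

/-- the terminal object of `C/X`. -/
def hTX (X : C) : IsTerminal (Over.mk (𝟙 X)) := Over.mkIdTerminal

/-- `V` as an object over `X`, in the form produced by `Over.map g`. -/
abbrev Wg : Over X := (Over.map g).obj (Over.mk (𝟙 V))

/-- the structure map of `Wg g` to the terminal object. -/
def wg : Wg g ⟶ Over.mk (𝟙 X) := Over.homMk g (by simp)

/-- `G(O_X) ≅ O_V`. -/
abbrev eU : (Gg O g).obj (ModSite.unit (O.over X)) ≅ ModSite.unit (O.over V) :=
  SheafOfModules.overMapUnitIso (R := ModSite.ringSh O) g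

/-- image of a section `O_X ⟶ M` under `G`. -/
def Gu {M : ModSite.Mod (O.over X)} (ψ : ModSite.unit (O.over X) ⟶ M) :
    ModSite.unit (O.over V) ⟶ (Gg O g).obj M :=
  (eU O g).inv ≫ (Gg O g).map ψ

theorem unitEquiv_Gu {M : ModSite.Mod (O.over X)} (ψ : ModSite.unit (O.over X) ⟶ M) :
    (RS.unitEquiv (ModSite.ringSh (O.over V)) (hTX V) ((Gg O g).obj M) (Gu O g ψ) :
      M.val.obj (op (Wg g))) =
      M.val.map (wg g).op (RS.unitEquiv (ModSite.ringSh (O.over X)) (hTX X) M ψ) := by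
  have h2 : RS.ofR (ModSite.ringSh (O.over X)) (Wg g) 1 =
      (ModSite.unit (O.over X)).val.map (wg g).op (RS.ofR (ModSite.ringSh (O.over X)) _ 1) :=
    (PresheafOfModules.unit_map_one (R := (ModSite.ringSh (O.over X)).obj) (wg g).op).symm
  have h3 := PresheafOfModules.naturality_apply ψ.val (wg g).op
    (RS.ofR (ModSite.ringSh (O.over X)) _ 1)
  show ψ.val.app (op (Wg g)) (RS.ofR (ModSite.ringSh (O.over X)) (Wg g) 1) = _
  rw [h2]
  exact h3

theorem toR_unitEquiv_Gu (χ : ModSite.unit (O.over X) ⟶ ModSite.unit (O.over X)) :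
    RS.toR (ModSite.ringSh (O.over V)) (Over.mk (𝟙 V))
      (RS.unitEquiv (ModSite.ringSh (O.over V)) (hTX V) (ModSite.unit (O.over V))
        (Gu O g χ ≫ (eU O g).hom)) =
      ((ModSite.ringSh O).obj.map g.op).hom
        (RS.toR (ModSite.ringSh (O.over X)) (Over.mk (𝟙 X))
          (RS.unitEquiv (ModSite.ringSh (O.over X)) (hTX X) (ModSite.unit (O.over X)) χ)) := by
  have h := unitEquiv_Gu O g χ
  exact h

/-- a vanishing criterion for sums of `G(χ_j) ≫ (c_j ·)`. -/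
theorem sum_Gu_mR_eq_zero {I₀ : Type u} [Fintype I₀]
    (χ : I₀ → (ModSite.unit (O.over X) ⟶ ModSite.unit (O.over X)))
    (c y : I₀ → (ModSite.ringSh (O.over V)).obj.obj (op (Over.mk (𝟙 V))))
    (hy : ∀ j, y j = ((ModSite.ringSh O).obj.map g.op).hom
      (RS.toR (ModSite.ringSh (O.over X)) (Over.mk (𝟙 X))
        (RS.unitEquiv (ModSite.ringSh (O.over X)) (hTX X) (ModSite.unit (O.over X)) (χ j))))
    (hyp : ∑ j, c j * y j = 0) :
    ∑ j, (Gu O g (χ j) ≫ (eU O g).hom) ≫ mR (O.over V) (hTX V) (c j) = 0 := by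
  have key : ∀ j, RS.toR (ModSite.ringSh (O.over V)) (Over.mk (𝟙 V))
      (RS.unitEquiv (ModSite.ringSh (O.over V)) (hTX V) (ModSite.unit (O.over V))
        ((Gu O g (χ j) ≫ (eU O g).hom) ≫ mR (O.over V) (hTX V) (c j))) = c j * y j := by
    intro j
    have h1 := unitEquiv_comp_smul (O.over V) (hTX V) _ (Gu O g (χ j) ≫ (eU O g).hom)
      (mR (O.over V) (hTX V) (c j))
    have h2 := unitEquiv_mR (O.over V) (hTX V) (c j)
    have h3 := toR_unitEquiv_Gu O g (χ j)
    rw [h1, h2]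
    show RS.toR (ModSite.ringSh (O.over V)) (Over.mk (𝟙 V))
      (RS.unitEquiv (ModSite.ringSh (O.over V)) (hTX V) (ModSite.unit (O.over V))
        (Gu O g (χ j) ≫ (eU O g).hom)) * c j = c j * y j
    rw [h3, ← hy j]
    exact mul_comm (G := ↑(O.obj.obj (op V))) _ _
  have e1 : RS.unitEquiv (ModSite.ringSh (O.over V)) (hTX V) (ModSite.unit (O.over V))
      (∑ j, (Gu O g (χ j) ≫ (eU O g).hom) ≫ mR (O.over V) (hTX V) (c j)) =
      ∑ j, RS.unitEquiv (ModSite.ringSh (O.over V)) (hTX V) (ModSite.unit (O.over V))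
        ((Gu O g (χ j) ≫ (eU O g).hom) ≫ mR (O.over V) (hTX V) (c j)) := map_sum _ _ _
  have e2 : RS.toR (ModSite.ringSh (O.over V)) (Over.mk (𝟙 V))
      (∑ j, RS.unitEquiv (ModSite.ringSh (O.over V)) (hTX V) (ModSite.unit (O.over V))
        ((Gu O g (χ j) ≫ (eU O g).hom) ≫ mR (O.over V) (hTX V) (c j))) =
      ∑ j, RS.toR (ModSite.ringSh (O.over V)) (Over.mk (𝟙 V))
        (RS.unitEquiv (ModSite.ringSh (O.over V)) (hTX V) (ModSite.unit (O.over V))
        ((Gu O g (χ j) ≫ (eU O g).hom) ≫ mR (O.over V) (hTX V) (c j))) := by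
    show (RS.toRLin (ModSite.ringSh (O.over V)) (Over.mk (𝟙 V))) (∑ j, _) =
      ∑ j, (RS.toRLin (ModSite.ringSh (O.over V)) (Over.mk (𝟙 V))) _
    exact map_sum _ _ _
  have e3 := e2.trans ((Finset.sum_congr rfl (fun j _ => key j)).trans hyp)
  apply (RS.unitEquiv (ModSite.ringSh (O.over V)) (hTX V) (ModSite.unit (O.over V))).injective
  rw [e1, map_zero]
  exact e3

section FFl

variable {l : ℕ} (M : ModSite.Mod (O.over V))
  (c : Fin l → (ModSite.ringSh (O.over V)).obj.obj (op (Over.mk (𝟙 V))))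
  (t : Fin l → M.val.obj (op (Over.mk (𝟙 V))))

theorem unitEquiv_lift_desc :
    RS.unitEquiv (ModSite.ringSh (O.over V)) (hTX V) M
      ((ffFree (ModSite.ringSh (O.over V)) (ULift.{u} (Fin l))).lift
          (fun k => mR (O.over V) (hTX V) (c k.down)) ≫
        (ffFree (ModSite.ringSh (O.over V)) (ULift.{u} (Fin l))).desc
          (fun k => (RS.unitEquiv (ModSite.ringSh (O.over V)) (hTX V) M).symm (t k.down))) =
      ∑ k, c k • t k := by
  have e1 := (ffFree (ModSite.ringSh (O.over V)) (ULift.{u} (Fin l))).lift_desc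
    (fun k => mR (O.over V) (hTX V) (c k.down))
    (fun k => (RS.unitEquiv (ModSite.ringSh (O.over V)) (hTX V) M).symm (t k.down))
  have e2 : RS.unitEquiv (ModSite.ringSh (O.over V)) (hTX V) M
      (∑ k : ULift.{u} (Fin l), mR (O.over V) (hTX V) (c k.down) ≫
        (RS.unitEquiv (ModSite.ringSh (O.over V)) (hTX V) M).symm (t k.down)) =
      ∑ k : ULift.{u} (Fin l), RS.unitEquiv (ModSite.ringSh (O.over V)) (hTX V) M
        (mR (O.over V) (hTX V) (c k.down) ≫
        (RS.unitEquiv (ModSite.ringSh (O.over V)) (hTX V) M).symm (t k.down)) := map_sum _ _ _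
  have e3 : ∀ k : ULift.{u} (Fin l), RS.unitEquiv (ModSite.ringSh (O.over V)) (hTX V) M
        (mR (O.over V) (hTX V) (c k.down) ≫
        (RS.unitEquiv (ModSite.ringSh (O.over V)) (hTX V) M).symm (t k.down)) =
      c k.down • t k.down := by
    intro k
    rw [unitEquiv_comp_smul, unitEquiv_mR, AddEquiv.apply_symm_apply]
    rfl
  have e4 : ∑ k : ULift.{u} (Fin l), c k.down • t k.down = ∑ k : Fin l, c k • t k :=
    Equiv.ulift.{u}.sum_comp (fun k => c k • t k)
  rw [e1]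
  exact e2.trans ((Finset.sum_congr rfl (fun k _ => e3 k)).trans e4)

end FFl

theorem unitEquiv_Gu_eH {H : ModSite.Mod O}
    (h : ModSite.unit (O.over X) ⟶ (ModSite.restr O X).obj H) :
    (RS.unitEquiv (ModSite.ringSh (O.over V)) (hTX V) ((ModSite.restr O V).obj H)
      (Gu O g h ≫ ((SheafOfModules.overFunctorMap (ModSite.ringSh O) g).app H).hom) :
        H.val.obj (op V)) =
      H.val.map g.op
        (RS.unitEquiv (ModSite.ringSh (O.over X)) (hTX X) ((ModSite.restr O X).obj H) h) := by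
  have h1 := unitEquiv_Gu O g h
  exact h1

end main

section mainthm

variable {C : Type u} [SmallCategory C] {J : GrothendieckTopology C} (O : Sheaf J CommRingCat.{u})
  {X V : C} (g : V ⟶ X) {F H : ModSite.Mod O} (φ : F ⟶ H)
  {I₁ I₀ : Type u} [Fintype I₁] [Fintype I₀]
  {Q₁ Q₀ : ModSite.Mod (O.over X)}
  (ff₁ : FF (ModSite.unit (O.over X)) Q₁ I₁) (ff₀ : FF (ModSite.unit (O.over X)) Q₀ I₀)
  (rel : Q₁ ⟶ Q₀) (π : Q₀ ⟶ (ModSite.restr O X).obj F)

/-- the images in `H(X)` of the generators. -/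
def sH (j : I₀) : H.val.obj (op X) :=
  RS.unitEquiv (ModSite.ringSh (O.over X)) (hTX X) ((ModSite.restr O X).obj H)
    (ff₀.ι j ≫ π ≫ (ModSite.restr O X).map φ)

/-- the matrix of relations. -/
def Amat (r : I₁) (j : I₀) : (ModSite.ringSh O).obj.obj (op X) :=
  RS.toR (ModSite.ringSh (O.over X)) (Over.mk (𝟙 X))
    (RS.unitEquiv (ModSite.ringSh (O.over X)) (hTX X) (ModSite.unit (O.over X))
      (ff₁.ι r ≫ rel ≫ ff₀.π j))

theorem sum_Amat_sH (w : rel ≫ π = 0) (r : I₁) :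
    ∑ j, Amat O ff₁ ff₀ rel r j • sH O φ ff₀ π j = 0 := by
  have h : ∑ j, (ff₁.ι r ≫ rel ≫ ff₀.π j) ≫ (ff₀.ι j ≫ π ≫ (ModSite.restr O X).map φ) = 0 := by
    have h0 : ∀ j, (ff₁.ι r ≫ rel ≫ ff₀.π j) ≫ (ff₀.ι j ≫ π ≫ (ModSite.restr O X).map φ) =
        (ff₁.ι r ≫ rel) ≫ (ff₀.π j ≫ ff₀.ι j) ≫ (π ≫ (ModSite.restr O X).map φ) := by
      intro j
      simp only [Category.assoc]
    rw [Finset.sum_congr rfl (fun j _ => h0 j), ← Preadditive.comp_sum, ← Preadditive.sum_comp,
      ff₀.sum, Category.id_comp, Category.assoc, reassoc_of% w, zero_comp, comp_zero]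
  have h' := congrArg (RS.unitEquiv (ModSite.ringSh (O.over X)) (hTX X)
    ((ModSite.restr O X).obj H)) h
  rw [map_sum, map_zero] at h'
  refine Eq.trans (Finset.sum_congr rfl (fun j _ => ?_)) h'
  exact (unitEquiv_comp_smul (O.over X) (hTX X) _ (ff₁.ι r ≫ rel ≫ ff₀.π j)
    (ff₀.ι j ≫ π ≫ (ModSite.restr O X).map φ)).symm

theorem exists_fact (w : rel ≫ π = 0) (hc : IsColimit (CokernelCofork.ofπ π w))
    (l : ℕ) (t : Fin l → H.val.obj (op V)) (a : I₀ → Fin l → (ModSite.ringSh O).obj.obj (op V))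
    (h1 : ∀ j, H.val.map g.op (sH O φ ff₀ π j) = ∑ k, a j k • t k)
    (h2 : ∀ r k, ∑ j, a j k *
      ((ModSite.ringSh O).obj.map g.op).hom (Amat O ff₁ ff₀ rel r j) = 0) :
    ∃ (a' : (ModSite.restr O V).obj F ⟶ SheafOfModules.free (ULift.{u} (Fin l)))
      (b : SheafOfModules.free (ULift.{u} (Fin l)) ⟶ (ModSite.restr O V).obj H),
      a' ≫ b = (ModSite.restr O V).map φ := by
  let G := Gg O g
  let ffl := ffFree (ModSite.ringSh (O.over V)) (ULift.{u} (Fin l))
  let ff₀' := ff₀.map G (eU O g)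
  let ff₁' := ff₁.map G (eU O g)
  let eF : G.obj ((ModSite.restr O X).obj F) ≅ (ModSite.restr O V).obj F :=
    (SheafOfModules.overFunctorMap (ModSite.ringSh O) g).app F
  let eH : G.obj ((ModSite.restr O X).obj H) ≅ (ModSite.restr O V).obj H :=
    (SheafOfModules.overFunctorMap (ModSite.ringSh O) g).app H
  let b : SheafOfModules.free (ULift.{u} (Fin l)) ⟶ (ModSite.restr O V).obj H :=
    ffl.desc (fun k => (RS.unitEquiv (ModSite.ringSh (O.over V)) (hTX V)
      ((ModSite.restr O V).obj H)).symm (t k.down))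
  let row : I₀ → (ModSite.unit (O.over V) ⟶ SheafOfModules.free (ULift.{u} (Fin l))) :=
    fun j => ffl.lift (fun k => mR (O.over V) (hTX V) (a j k.down))
  let ã : G.obj Q₀ ⟶ SheafOfModules.free (ULift.{u} (Fin l)) := ff₀'.desc row
  have hrel : G.map rel ≫ ã = 0 := by
    apply ff₁'.hom_ext
    intro r
    rw [comp_zero]
    apply ffl.hom_ext'
    intro k
    rw [zero_comp]
    have e1 : ∀ j, row j ≫ ffl.π k = mR (O.over V) (hTX V) (a j k.down) :=
      fun j => ffl.lift_π _ k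
    have e2 : ∀ j, ff₁'.ι r ≫ G.map rel ≫ ff₀'.π j =
        Gu O g (ff₁.ι r ≫ rel ≫ ff₀.π j) ≫ (eU O g).hom := by
      intro j
      show ((eU O g).inv ≫ G.map (ff₁.ι r)) ≫ G.map rel ≫ (G.map (ff₀.π j) ≫ (eU O g).hom) =
        ((eU O g).inv ≫ G.map (ff₁.ι r ≫ rel ≫ ff₀.π j)) ≫ (eU O g).hom
      simp only [Functor.map_comp, Category.assoc]
    calc (ff₁'.ι r ≫ G.map rel ≫ ã) ≫ ffl.π k
        = ff₁'.ι r ≫ G.map rel ≫ (∑ j, ff₀'.π j ≫ row j) ≫ ffl.π k := by
          simp only [Category.assoc]; rfl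
      _ = ∑ j, (ff₁'.ι r ≫ G.map rel ≫ ff₀'.π j) ≫ (row j ≫ ffl.π k) := by
          simp only [Preadditive.sum_comp, Preadditive.comp_sum, Category.assoc]
      _ = ∑ j, (Gu O g (ff₁.ι r ≫ rel ≫ ff₀.π j) ≫ (eU O g).hom) ≫
            mR (O.over V) (hTX V) (a j k.down) :=
          Finset.sum_congr rfl (fun j _ => by rw [e1, e2])
      _ = 0 := sum_Gu_mR_eq_zero O g (fun j => ff₁.ι r ≫ rel ≫ ff₀.π j)
            (fun j => a j k.down)
            (fun j => ((ModSite.ringSh O).obj.map g.op).hom (Amat O ff₁ ff₀ rel r j))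
            (fun j => rfl) (h2 r k.down)
  have hcG : IsColimit (CokernelCofork.ofπ (G.map π)
      (show G.map rel ≫ G.map π = 0 by rw [← G.map_comp, w, G.map_zero])) :=
    CokernelCofork.mapIsColimit _ hc G
  let a'' : G.obj ((ModSite.restr O X).obj F) ⟶ SheafOfModules.free (ULift.{u} (Fin l)) :=
    hcG.desc (CokernelCofork.ofπ ã hrel)
  have ha'' : G.map π ≫ a'' = ã := hcG.fac (CokernelCofork.ofπ ã hrel) WalkingParallelPair.one
  refine ⟨eF.inv ≫ a'', b, ?_⟩
  rw [Category.assoc]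
  refine (Iso.inv_comp_eq eF).2 ?_
  have hnat : eF.hom ≫ (ModSite.restr O V).map φ = G.map ((ModSite.restr O X).map φ) ≫ eH.hom :=
    ((SheafOfModules.overFunctorMap (ModSite.ringSh O) g).hom.naturality φ).symm
  rw [hnat]
  haveI : Epi (G.map π) := epi_of_isColimit_cofork hcG
  rw [← cancel_epi (G.map π), ← Category.assoc, ha'', ← Category.assoc, ← G.map_comp]
  apply ff₀'.hom_ext
  intro j
  rw [← Category.assoc, ff₀'.ι_desc]
  apply (RS.unitEquiv (ModSite.ringSh (O.over V)) (hTX V) ((ModSite.restr O V).obj H)).injective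
  have s1 := unitEquiv_lift_desc O ((ModSite.restr O V).obj H) (fun k => a j k) t
  have s2 := unitEquiv_Gu_eH O g (ff₀.ι j ≫ π ≫ (ModSite.restr O X).map φ)
  have e3 : ff₀'.ι j ≫ G.map (π ≫ (ModSite.restr O X).map φ) ≫ eH.hom =
      Gu O g (ff₀.ι j ≫ π ≫ (ModSite.restr O X).map φ) ≫ eH.hom := by
    show ((eU O g).inv ≫ G.map (ff₀.ι j)) ≫ G.map (π ≫ (ModSite.restr O X).map φ) ≫ eH.hom =
      ((eU O g).inv ≫ G.map (ff₀.ι j ≫ π ≫ (ModSite.restr O X).map φ)) ≫ eH.hom
    simp only [Functor.map_comp, Category.assoc]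
  rw [e3]
  exact s1.trans ((h1 j).symm.trans s2.symm)

end mainthm

end

end Groth.Agent.Lib.Helper21.LocFact
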