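import Mathlib
import Groth.Prelude.Def_ModSite
import Groth.Prelude.Def_ModSite2
import Groth.Agent.Lib.Helper21LocFact2

/-!
# Finite type / finite presentation of modules on a ringed site: local descriptions
(helper21; for the ModSite rows S6831 ff.)
-/

set_option autoImplicit false
universe u
open CategoryTheory CategoryTheory.Limits Opposite

namespace Groth.Agent.Lib.Helper21.ModSp

open Groth.Agent.Lib.Helper21.LocFact

noncomputable section

variable {C : Type u} [SmallCategory C] [HasBinaryProducts C] [HasPullbacks C]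
  {J : GrothendieckTopology C} (O : Sheaf J CommRingCat.{u})

/-- the free module on `I`. -/
abbrev FrI (O' : Sheaf J CommRingCat.{u}) (I : Type u) : ModSite.Mod O' :=
  SheafOfModules.free (R := ModSite.ringSh O') I

/-- `F|_U` is generated by finitely many sections. -/
def GenOn (F : ModSite.Mod O) (U : C) : Prop :=
  ∃ (I : Type u) (_ : Finite I) (π : FrI (O.over U) I ⟶ (ModSite.restr O U).obj F), Epi π

/-- `F|_U` has a finite presentation. -/
def PresOn (F : ModSite.Mod O) (U : C) : Prop :=
  ∃ (I₁ I₀ : Type u) (_ : Finite I₁) (_ : Finite I₀) (ψ : FrI (O.over U) I₁ ⟶ FrI (O.over U) I₀)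
    (π : FrI (O.over U) I₀ ⟶ (ModSite.restr O U).obj F) (w : ψ ≫ π = 0),
    Epi π ∧ (ShortComplex.mk ψ π w).Exact

variable {O}

instance Gg_isLeftAdjoint {U V : C} (g : V ⟶ U) : (Gg O g).IsLeftAdjoint :=
  (SheafOfModules.overMapPushforwardAdj.{u} (ModSite.ringSh O) g).isLeftAdjoint

/-- restriction of free modules -/
def GgFrIso {U V : C} (g : V ⟶ U) (I : Type u) :
    FrI (O.over V) I ≅ (Gg O g).obj (FrI (O.over U) I) :=
  SheafOfModules.mapFreeIso (Gg O g) I (SheafOfModules.overMapUnitIso (R := ModSite.ringSh O) g).symm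

/-- restriction is transitive -/
def GgRestrIso {U V : C} (g : V ⟶ U) (F : ModSite.Mod O) :
    (Gg O g).obj ((ModSite.restr O U).obj F) ≅ (ModSite.restr O V).obj F :=
  (SheafOfModules.overFunctorMap (ModSite.ringSh O) g).app F

theorem GgRestrIso_nat {U V : C} (g : V ⟶ U) {F F' : ModSite.Mod O} (φ : F ⟶ F') :
    (Gg O g).map ((ModSite.restr O U).map φ) ≫ (GgRestrIso g F').hom =
      (GgRestrIso g F).hom ≫ (ModSite.restr O V).map φ :=
  (SheafOfModules.overFunctorMap (ModSite.ringSh O) g).hom.naturality φ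

/-- restriction of a map `free I ⟶ F|_U` to `V`. -/
def resFr {U V : C} (g : V ⟶ U) {I : Type u} {F : ModSite.Mod O}
    (f : FrI (O.over U) I ⟶ (ModSite.restr O U).obj F) :
    FrI (O.over V) I ⟶ (ModSite.restr O V).obj F :=
  (GgFrIso g I).hom ≫ (Gg O g).map f ≫ (GgRestrIso g F).hom

/-- restriction of a map `free I₁ ⟶ free I₀` to `V`. -/
def resFrFr {U V : C} (g : V ⟶ U) {I₁ I₀ : Type u}
    (ψ : FrI (O.over U) I₁ ⟶ FrI (O.over U) I₀) :
    FrI (O.over V) I₁ ⟶ FrI (O.over V) I₀ :=
  (GgFrIso g I₁).hom ≫ (Gg O g).map ψ ≫ (GgFrIso g I₀).inv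

theorem resFrFr_resFr {U V : C} (g : V ⟶ U) {I₁ I₀ : Type u} {F : ModSite.Mod O}
    (ψ : FrI (O.over U) I₁ ⟶ FrI (O.over U) I₀)
    (f : FrI (O.over U) I₀ ⟶ (ModSite.restr O U).obj F) :
    resFrFr g ψ ≫ resFr g f = resFr g (ψ ≫ f) := by
  unfold resFrFr resFr
  simp only [Category.assoc, Iso.inv_hom_id_assoc, Functor.map_comp]

theorem resFr_comp_map {U V : C} (g : V ⟶ U) {I : Type u} {F F' : ModSite.Mod O}
    (f : FrI (O.over U) I ⟶ (ModSite.restr O U).obj F) (φ : F ⟶ F') :
    resFr g (f ≫ (ModSite.restr O U).map φ) = resFr g f ≫ (ModSite.restr O V).map φ := by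
  unfold resFr
  simp only [Category.assoc, Functor.map_comp, GgRestrIso_nat]

instance epi_resFr {U V : C} (g : V ⟶ U) {I : Type u} {F : ModSite.Mod O}
    (f : FrI (O.over U) I ⟶ (ModSite.restr O U).obj F) [Epi f] : Epi (resFr g f) := by
  unfold resFr
  haveI : Epi ((Gg O g).map f) := inferInstance
  infer_instance

theorem GenOn.restrict {F : ModSite.Mod O} {U V : C} (g : V ⟶ U) (h : GenOn O F U) :
    GenOn O F V := by
  obtain ⟨I, hI, π, hπ⟩ := h
  exact ⟨I, hI, resFr g π, inferInstance⟩

theorem PresOn.restrict {F : ModSite.Mod O} {U V : C} (g : V ⟶ U) (h : PresOn O F U) :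
    PresOn O F V := by
  obtain ⟨I₁, I₀, hI₁, hI₀, ψ, π, w, hπ, hex⟩ := h
  have w' : resFrFr g ψ ≫ resFr g π = 0 := by
    rw [resFrFr_resFr, w]
    unfold resFr
    rw [Functor.map_zero, zero_comp, comp_zero]
  refine ⟨I₁, I₀, hI₁, hI₀, resFrFr g ψ, resFr g π, w', inferInstance, ?_⟩
  have h1 : ((ShortComplex.mk ψ π w).map (Gg O g)).Exact := hex.map (Gg O g)
  refine ShortComplex.exact_of_iso ?_ h1
  refine ShortComplex.isoMk (GgFrIso g I₁).symm (GgFrIso g I₀).symm (GgRestrIso g F) ?_ ?_
  · change (GgFrIso g I₁).inv ≫ resFrFr g ψ = (Gg O g).map ψ ≫ (GgFrIso g I₀).inv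
    unfold resFrFr
    rw [Iso.inv_hom_id_assoc]
  · change (GgFrIso g I₀).inv ≫ resFr g π = (Gg O g).map π ≫ (GgRestrIso g F).hom
    unfold resFr
    rw [Iso.inv_hom_id_assoc]

theorem PresOn.genOn {F : ModSite.Mod O} {U : C} (h : PresOn O F U) : GenOn O F U := by
  obtain ⟨I₁, I₀, hI₁, hI₀, ψ, π, w, hπ, hex⟩ := h
  exact ⟨I₀, hI₀, π, hπ⟩

/-- generating sections from an epi -/
def generatingSectionsOfEpi {F : ModSite.Mod O} {U : C} {I : Type u}
    (π : FrI (O.over U) I ⟶ (ModSite.restr O U).obj F) (_ : Epi π) :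
    ((ModSite.restr O U).obj F).GeneratingSections where
  I := I
  s := ((ModSite.restr O U).obj F).freeHomEquiv π
  epi := by
    rw [Equiv.symm_apply_apply]
    infer_instance

/-- local generators data from a family -/
def lgd (F : ModSite.Mod O) (I : Type u) (X : I → C) (hX : J.CoversTop X)
    (g : ∀ i, ((ModSite.restr O (X i)).obj F).GeneratingSections) :
    SheafOfModules.LocalGeneratorsData.{u} F where
  I := I
  X := X
  coversTop := hX
  generators := g

theorem isFiniteType_iff (F : ModSite.Mod O) :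
    SheafOfModules.IsFiniteType (R := ModSite.ringSh O) F ↔
      ∃ (I : Type u) (X : I → C), J.CoversTop X ∧ ∀ i, GenOn O F (X i) := by
  constructor
  · rintro ⟨σ, hσ⟩
    refine ⟨σ.I, σ.X, σ.coversTop, fun i => ?_⟩
    exact ⟨(σ.generators i).I, (hσ.isFiniteType i).finite, (σ.generators i).π,
      (σ.generators i).epi⟩
  · rintro ⟨I, X, hX, h⟩
    choose K hK π hπ using h
    let σ : SheafOfModules.LocalGeneratorsData.{u} F :=
      lgd F I X hX (fun i => generatingSectionsOfEpi (π i) (hπ i))
    have hσ : σ.IsFiniteType :=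
      { isFiniteType := fun i => { finite := hK i } }
    exact { exists_localGeneratorsData := ⟨σ, hσ⟩ }

/-- quasicoherent data from a family -/
def qcd (F : ModSite.Mod O) (I : Type u) (X : I → C) (hX : J.CoversTop X)
    (g : ∀ i, ((ModSite.restr O (X i)).obj F).Presentation) :
    SheafOfModules.QuasicoherentData.{u, u, u, u} F where
  I := I
  X := X
  coversTop := hX
  presentation := g

theorem presOn_of_presentation {F : ModSite.Mod O} {U : C}
    (P : ((ModSite.restr O U).obj F).Presentation) (hfin : P.IsFinite) : PresOn O F U := by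
  have hc := P.isColimit
  have w : ((SheafOfModules.freeHomEquiv _).symm P.relations.s ≫ kernel.ι P.generators.π) ≫
      P.generators.π = 0 :=
    CokernelCofork.condition (CokernelCofork.ofπ
      (f := (SheafOfModules.freeHomEquiv _).symm P.relations.s ≫ kernel.ι P.generators.π)
      P.generators.π (by simp))
  exact ⟨P.relations.I, P.generators.I, hfin.isFiniteType_relations.finite,
    hfin.isFiniteType_generators.finite, _, P.generators.π, w, P.generators.epi,
    ShortComplex.exact_of_g_is_cokernel (ShortComplex.mk _ _ w) hc⟩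

theorem isFinitePresentation_iff (F : ModSite.Mod O) :
    SheafOfModules.IsFinitePresentation (R := ModSite.ringSh O) F ↔
      ∃ (I : Type u) (X : I → C), J.CoversTop X ∧ ∀ i, PresOn O F (X i) := by
  constructor
  · rintro ⟨σ, hσ⟩
    exact ⟨σ.I, σ.X, σ.coversTop, fun i =>
      presOn_of_presentation (σ.presentation i) (hσ.isFinite_presentation i)⟩
  · rintro ⟨I, X, hX, h⟩
    choose I₁ I₀ hI₁ hI₀ ψ π w hπ hex using h
    let σ : SheafOfModules.QuasicoherentData.{u, u, u, u} F :=
      qcd F I X hX (fun i => SheafOfModules.presentationOfIsCokernelFree (ψ i) (π i) (w i)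
        (haveI := hπ i; (hex i).gIsCokernel))
    have hσ : σ.IsFinitePresentation :=
      { isFinite_presentation := fun i =>
          { isFiniteType_generators := { finite := hI₀ i }
            isFiniteType_relations := { finite := hI₁ i } } }
    exact { exists_quasicoherentData := ⟨σ, hσ⟩ }

end

end Groth.Agent.Lib.Helper21.ModSp
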