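import Mathlib
import Groth.Prelude.Def_ModSite
import Groth.Prelude.Def_ModSite2
import Groth.Agent.Lib.Helper21ModSp1
import Groth.Agent.Lib.Helper4ModEpi

/-!
# Maps out of finite free modules as tuples of sections; local lifting along epimorphisms
(helper21; for the ModSite rows S6831 ff.)
-/

set_option autoImplicit false
universe u
open CategoryTheory CategoryTheory.Limits Opposite

namespace Groth.Agent.Lib.Helper21.ModSp

open Groth.Agent.Lib.Helper21.LocFact Groth.Agent.Lib.Helper21.EqCrit

noncomputable section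

section terminal

variable {C : Type u} [SmallCategory C] {J : GrothendieckTopology C} (R : Sheaf J RingCat.{u})
  [HasSheafify J AddCommGrpCat.{u}] [J.WEqualsLocallyBijective AddCommGrpCat.{u}]
  {T : C} (hT : IsTerminal T)

/-- `Hom(free I, M) ≃ M(T)^I` for a terminal object `T`. -/
def secEquiv (I : Type u) (M : SheafOfModules.{u} R) :
    (SheafOfModules.free (R := R) I ⟶ M) ≃ (I → M.val.obj (op T)) where
  toFun g := fun i => RS.unitEquiv R hT M (SheafOfModules.ιFree i ≫ g)
  invFun s := Cofan.IsColimit.desc (SheafOfModules.isColimitFreeCofan I)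
    (fun i => (RS.unitEquiv R hT M).symm (s i))
  left_inv g := by
    apply Cofan.IsColimit.hom_ext (SheafOfModules.isColimitFreeCofan (R := R) I)
    intro i
    rw [Cofan.IsColimit.fac]
    exact (RS.unitEquiv R hT M).symm_apply_apply _
  right_inv s := by
    funext i
    dsimp only
    have h : SheafOfModules.ιFree i ≫ Cofan.IsColimit.desc (SheafOfModules.isColimitFreeCofan I)
        (fun i => (RS.unitEquiv R hT M).symm (s i)) = (RS.unitEquiv R hT M).symm (s i) :=
      Cofan.IsColimit.fac (SheafOfModules.isColimitFreeCofan (R := R) I) _ i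
    rw [h]
    exact (RS.unitEquiv R hT M).apply_symm_apply _

theorem secEquiv_apply (I : Type u) (M : SheafOfModules.{u} R)
    (g : SheafOfModules.free (R := R) I ⟶ M) (i : I) :
    secEquiv R hT I M g i = RS.unitEquiv R hT M (SheafOfModules.ιFree i ≫ g) := rfl

theorem secEquiv_comp (I : Type u) {M N : SheafOfModules.{u} R}
    (g : SheafOfModules.free (R := R) I ⟶ M) (φ : M ⟶ N) (i : I) :
    secEquiv R hT I N (g ≫ φ) i = φ.val.app (op T) (secEquiv R hT I M g i) := by
  rw [secEquiv_apply, secEquiv_apply, ← Category.assoc, RS.unitEquiv_comp]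

end terminal

section lift

variable {C : Type u} [SmallCategory C] [HasBinaryProducts C] [HasPullbacks C]
  {J : GrothendieckTopology C} {O : Sheaf J CommRingCat.{u}}

theorem ιFree_GgFrIso {U V : C} (g : V ⟶ U) (I : Type u) (i : I) :
    SheafOfModules.ιFree i ≫ (GgFrIso (O := O) g I).hom =
      (eU O g).inv ≫ (Gg O g).map (SheafOfModules.ιFree i) :=
  SheafOfModules.ιFree_mapFreeIso_hom (Gg O g) I
    (SheafOfModules.overMapUnitIso (R := ModSite.ringSh O) g).symm i

/-- the restriction of a tuple of sections. -/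
theorem secEquiv_Gg {U V : C} (g : V ⟶ U) {I : Type u} {M : ModSite.Mod (O.over U)}
    (f : FrI (O.over U) I ⟶ M) (i : I) :
    (secEquiv (ModSite.ringSh (O.over V)) (hTX V) I ((Gg O g).obj M)
      ((GgFrIso g I).hom ≫ (Gg O g).map f) i : M.val.obj (op (Wg g))) =
      M.val.map (wg g).op (secEquiv (ModSite.ringSh (O.over U)) (hTX U) I M f i) := by
  rw [secEquiv_apply, secEquiv_apply, ← Category.assoc, ιFree_GgFrIso, Category.assoc,
    ← Functor.map_comp]
  exact unitEquiv_Gu O g (SheafOfModules.ιFree i ≫ f)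

theorem iInf_mem_of_finite {D : Type*} [Category D] (K : GrothendieckTopology D) {X : D}
    {I : Type*} [Finite I] (S : I → Sieve X) (h : ∀ i, S i ∈ K X) : (⨅ i, S i) ∈ K X := by
  induction I using Finite.induction_empty_option with
  | of_equiv e ih =>
    rw [← e.iInf_comp]
    exact ih _ (fun i => h (e i))
  | h_empty =>
    rw [iInf_of_empty]
    exact K.top_mem X
  | h_option ih =>
    rw [iInf_option]
    exact K.intersection_covering (h none) (ih _ (fun a => h (some a)))

/-- Local lifting of maps out of finite free modules along an epimorphism. -/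
theorem exists_lift {U : C} {A B : ModSite.Mod (O.over U)} (p : A ⟶ B) [Epi p] {I : Type u}
    [Finite I] (f : FrI (O.over U) I ⟶ B) :
    ∃ S ∈ J U, ∀ ⦃V : C⦄ (g : V ⟶ U), S g →
      ∃ l : FrI (O.over V) I ⟶ (Gg O g).obj A,
        l ≫ (Gg O g).map p = (GgFrIso g I).hom ≫ (Gg O g).map f := by
  have hp := Groth.Agent.Lib.Helper4.ModEpi.isLocallySurjective_of_epi p
  let s : I → B.val.obj (op (Over.mk (𝟙 U))) :=
    secEquiv (ModSite.ringSh (O.over U)) (hTX U) I B f
  let S' : Sieve (Over.mk (𝟙 U)) := ⨅ i, Presheaf.imageSieve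
    ((PresheafOfModules.toPresheaf _).map p.val) (s i)
  have hS' : S' ∈ (J.over U) (Over.mk (𝟙 U)) :=
    iInf_mem_of_finite (J.over U) _ (fun i => hp.imageSieve_mem (s i))
  refine ⟨Sieve.overEquiv _ S', (GrothendieckTopology.mem_over_iff J S').mp hS', ?_⟩
  intro V g hg
  rw [Sieve.overEquiv_iff] at hg
  have hg' : S'.arrows (wg g) := by
    have e : wg g = (Over.isoMk (Iso.refl V) (by simp) :
        Wg g ≅ Over.mk (g ≫ (Over.mk (𝟙 U)).hom)).hom ≫
          (Over.homMk g : Over.mk (g ≫ (Over.mk (𝟙 U)).hom) ⟶ Over.mk (𝟙 U)) := by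
      ext
      simp [wg]
    rw [e]
    exact S'.downward_closed hg _
  have hi : ∀ i, ∃ t : A.val.obj (op (Wg g)),
      p.val.app (op (Wg g)) t = B.val.map (wg g).op (s i) := by
    intro i
    have h1 : (Presheaf.imageSieve ((PresheafOfModules.toPresheaf _).map p.val) (s i)).arrows
        (wg g) := by
      have h2 : S' ≤ Presheaf.imageSieve ((PresheafOfModules.toPresheaf _).map p.val) (s i) :=
        iInf_le _ i
      exact h2 _ hg'
    exact h1
  choose t ht using hi
  refine ⟨(secEquiv (ModSite.ringSh (O.over V)) (hTX V) I ((Gg O g).obj A)).symm t, ?_⟩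
  apply (secEquiv (ModSite.ringSh (O.over V)) (hTX V) I ((Gg O g).obj B)).injective
  funext i
  rw [secEquiv_comp, Equiv.apply_symm_apply]
  refine Eq.trans ?_ (secEquiv_Gg g f i).symm
  exact ht i

end lift

end

end Groth.Agent.Lib.Helper21.ModSp
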