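import Mathlib
import Groth.Prelude.Def_ModSite
import Groth.Prelude.Def_ModSite2
import Groth.Agent.Lib.Helper21ModSp2

/-!
# Finite type / finite presentation of modules on a ringed space: neighbourhood versions
(helper21; for the ModSite rows S6831 ff.)
-/

set_option autoImplicit false
universe u
open CategoryTheory CategoryTheory.Limits Opposite TopologicalSpace

namespace Groth.Agent.Lib.Helper21.ModSp

open Groth.Agent.Lib.Helper21.LocFact

noncomputable section

variable {X : TopCat.{u}}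

theorem coversTop_iff {I : Type*} (Y : I → Opens X) :
    (Opens.grothendieckTopology X).CoversTop Y ↔ ∀ x : X, ∃ i, x ∈ Y i := by
  constructor
  · intro h x
    obtain ⟨V, f, ⟨i, ⟨a⟩⟩, hxV⟩ := h ⊤ x trivial
    exact ⟨i, a.le hxV⟩
  · intro h W x hx
    obtain ⟨i, hi⟩ := h x
    exact ⟨W ⊓ Y i, homOfLE inf_le_left, ⟨i, ⟨homOfLE inf_le_right⟩⟩, ⟨hx, hi⟩⟩

variable (O : TopCat.Sheaf CommRingCat.{u} X)

theorem isFiniteType_iff_nhds (F : ModSite.Mod O) :
    SheafOfModules.IsFiniteType (R := ModSite.ringSh O) F ↔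
      ∀ x : X, ∃ U : Opens X, x ∈ U ∧ GenOn O F U := by
  rw [isFiniteType_iff]
  constructor
  · rintro ⟨I, Y, hY, h⟩ x
    obtain ⟨i, hi⟩ := (coversTop_iff Y).mp hY x
    exact ⟨Y i, hi, h i⟩
  · intro h
    choose U hU hG using h
    exact ⟨X, U, (coversTop_iff U).mpr (fun x => ⟨x, hU x⟩), hG⟩

theorem isFinitePresentation_iff_nhds (F : ModSite.Mod O) :
    SheafOfModules.IsFinitePresentation (R := ModSite.ringSh O) F ↔
      ∀ x : X, ∃ U : Opens X, x ∈ U ∧ PresOn O F U := by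
  rw [isFinitePresentation_iff]
  constructor
  · rintro ⟨I, Y, hY, h⟩ x
    obtain ⟨i, hi⟩ := (coversTop_iff Y).mp hY x
    exact ⟨Y i, hi, h i⟩
  · intro h
    choose U hU hG using h
    exact ⟨X, U, (coversTop_iff U).mpr (fun x => ⟨x, hU x⟩), hG⟩

variable {O}

/-- local lifting, neighbourhood version -/
theorem exists_lift_nhd {U : Opens X} {A B : ModSite.Mod (O.over U)} (p : A ⟶ B) [Epi p]
    {I : Type u} [Finite I] (f : FrI (O.over U) I ⟶ B) (x : X) (hx : x ∈ U) :
    ∃ (V : Opens X) (g : V ⟶ U), x ∈ V ∧ ∃ l : FrI (O.over V) I ⟶ (Gg O g).obj A,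
        l ≫ (Gg O g).map p = (GgFrIso g I).hom ≫ (Gg O g).map f := by
  obtain ⟨S, hS, H⟩ := exists_lift p f
  obtain ⟨V, g, hg, hxV⟩ := hS x hx
  exact ⟨V, g, hxV, H g hg⟩

end

end Groth.Agent.Lib.Helper21.ModSp
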