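import Mathlib
import Groth.Prelude.Def_ModSite
import Groth.Prelude.Def_ModSite2
import Groth.Agent.Lib.Helper21ModSp3
import Groth.Agent.Lib.Helper21AbLemmas
import Groth.Agent.Lib.Helper21RestrExact

/-!
# Finitely generated objects, restriction of lifts and of presentations
(helper21; for the ModSite rows S6831 ff.)
-/

set_option autoImplicit false
universe u
open CategoryTheory CategoryTheory.Limits Opposite TopologicalSpace

namespace Groth.Agent.Lib.Helper21.ModSp

open Groth.Agent.Lib.Helper21.LocFact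

noncomputable section

section site

variable {C : Type u} [SmallCategory C] [HasBinaryProducts C] [HasPullbacks C]
  {J : GrothendieckTopology C} {O : Sheaf J CommRingCat.{u}}

/-- finitely generated objects: quotients of a finite free module. -/
def FG (A : ModSite.Mod O) : Prop :=
  ∃ (I : Type u) (_ : Finite I) (π : FrI O I ⟶ A), Epi π

theorem FG.of_epi {A B : ModSite.Mod O} (p : A ⟶ B) [Epi p] (h : FG A) : FG B := by
  obtain ⟨I, hI, π, hπ⟩ := h
  exact ⟨I, hI, π ≫ p, epi_comp _ _⟩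

theorem FG.free (I : Type u) [Finite I] : FG (FrI O I) :=
  ⟨I, inferInstance, 𝟙 _, inferInstance⟩

/-- `free (I ⊕ K) ≅ free I ⊞ free K`. -/
def frSumIso (I K : Type u) : FrI O (I ⊕ K) ≅ FrI O I ⊞ FrI O K :=
  (SheafOfModules.freeSumIso (R := ModSite.ringSh O) I K).symm ≪≫ (biprod.isoCoprod _ _).symm

theorem FG.biprod {A B : ModSite.Mod O} (hA : FG A) (hB : FG B) : FG (A ⊞ B) := by
  obtain ⟨I, hI, π, hπ⟩ := hA
  obtain ⟨K, hK, ρ, hρ⟩ := hB
  exact ⟨I ⊕ K, inferInstance, (frSumIso I K).hom ≫ biprod.map π ρ, epi_comp _ _⟩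

theorem genOn_iff_FG (F : ModSite.Mod O) (U : C) :
    GenOn O F U ↔ FG ((ModSite.restr O U).obj F) := Iff.rfl

/-- restriction of an exact presentation is exact -/
theorem exact_res {U V : C} (g : V ⟶ U) {I₁ I₀ : Type u} {F : ModSite.Mod O}
    (ψ : FrI (O.over U) I₁ ⟶ FrI (O.over U) I₀)
    (π : FrI (O.over U) I₀ ⟶ (ModSite.restr O U).obj F) (w : ψ ≫ π = 0)
    (hex : (ShortComplex.mk ψ π w).Exact) :
    ∃ w' : resFrFr g ψ ≫ resFr g π = 0, (ShortComplex.mk (resFrFr g ψ) (resFr g π) w').Exact := by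
  have w' : resFrFr g ψ ≫ resFr g π = 0 := by
    rw [resFrFr_resFr, w]
    unfold resFr
    rw [Functor.map_zero, zero_comp, comp_zero]
  refine ⟨w', ?_⟩
  have h1 : ((ShortComplex.mk ψ π w).map (Gg O g)).Exact := hex.map (Gg O g)
  refine ShortComplex.exact_of_iso ?_ h1
  refine ShortComplex.isoMk (GgFrIso g I₁).symm (GgFrIso g I₀).symm (GgRestrIso g F) ?_ ?_
  · change (GgFrIso g I₁).inv ≫ resFrFr g ψ = (Gg O g).map ψ ≫ (GgFrIso g I₀).inv
    unfold resFrFr
    rw [Iso.inv_hom_id_assoc]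
  · change (GgFrIso g I₀).inv ≫ resFr g π = (Gg O g).map π ≫ (GgRestrIso g F).hom
    unfold resFr
    rw [Iso.inv_hom_id_assoc]

/-- local lifting in terms of `resFr`: sieve version -/
theorem exists_lift_resFr_sieve {U : C} {F : ModSite.Mod O} {I K : Type u} [Finite I]
    (q : FrI (O.over U) K ⟶ (ModSite.restr O U).obj F) [Epi q]
    (f : FrI (O.over U) I ⟶ (ModSite.restr O U).obj F) :
    ∃ S ∈ J U, ∀ ⦃V : C⦄ (g : V ⟶ U), S g →
      ∃ α : FrI (O.over V) I ⟶ FrI (O.over V) K, α ≫ resFr g q = resFr g f := by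
  obtain ⟨S, hS, H⟩ := exists_lift q f
  refine ⟨S, hS, fun V g hg => ?_⟩
  obtain ⟨l, hl⟩ := H g hg
  refine ⟨l ≫ (GgFrIso g K).inv, ?_⟩
  unfold resFr
  rw [Category.assoc, Iso.inv_hom_id_assoc, reassoc_of% hl]

end site

section space

variable {X : TopCat.{u}} {O : TopCat.Sheaf CommRingCat.{u} X}

/-- local lifting in terms of `resFr`: neighbourhood version -/
theorem exists_lift_resFr {U : Opens X} {F : ModSite.Mod O} {I K : Type u} [Finite I]
    (q : FrI (O.over U) K ⟶ (ModSite.restr O U).obj F) [Epi q]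
    (f : FrI (O.over U) I ⟶ (ModSite.restr O U).obj F) (x : X) (hx : x ∈ U) :
    ∃ (V : Opens X) (g : V ⟶ U), x ∈ V ∧
      ∃ α : FrI (O.over V) I ⟶ FrI (O.over V) K, α ≫ resFr g q = resFr g f := by
  obtain ⟨S, hS, H⟩ := exists_lift_resFr_sieve q f
  obtain ⟨V, g, hg, hxV⟩ := hS x hx
  exact ⟨V, g, hxV, H g hg⟩

end space

end

end Groth.Agent.Lib.Helper21.ModSp
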