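import Mathlib
import Groth.Prelude.Def_ModSite
import Groth.Agent.Lib.Helper21EqCrit3

/-!
# Helper21: the equational criterion of flatness on a ringed site, converse direction

`CritM O F m`: every system of `m` relations among sections of `F` is locally trivial.
* `critM_of_one` : the one-relation criterion implies the `m`-relation criterion;
* `isFlat_of_critM_one` : the one-relation criterion implies flatness of `F`.
-/

set_option autoImplicit false
universe u
open CategoryTheory CategoryTheory.Limits Opposite MonoidalCategory TensorProduct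

namespace Groth.Agent.Lib.Helper21.EqCrit

open Groth.Agent.Lib.Helper21.ModTensor Groth.Agent.Lib.Helper21.ModTensor2
  Groth.Agent.Lib.Helper21.ModTensor3 Groth.Agent.Lib.Helper21.ModTensor5
  Groth.Agent.Lib.Helper21.ModTensor6 Groth.Agent.Lib.Helper21.ModTensor7

/-- if `Σ x_k ⊗ t_k = 0` then, after adding finitely many `t'`, the relation is trivial. -/
theorem exists_trivial_of_sum_tmul_eq_zero {A : Type*} [CommRing A] {M N : Type*}
    [AddCommGroup M] [Module A M] [AddCommGroup N] [Module A N]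
    {l : ℕ} (x : Fin l → M) (t : Fin l → N) (h : ∑ k, x k ⊗ₜ[A] t k = 0) :
    ∃ (p q : ℕ) (t' : Fin p → N) (y : Fin q → M) (a : Fin (l + p) → Fin q → A),
      (∀ i, Fin.append x (fun _ : Fin p => (0 : M)) i = ∑ r, a i r • y r) ∧
      (∀ r, ∑ i, a i r • Fin.append t t' i = 0) := by
  classical
  set N₀ : Submodule A N := Submodule.span A (Set.range t) with hN₀
  have hN₀fg : N₀.FG := Submodule.fg_span (Set.finite_range t)
  have ht₀ : ∀ k, t k ∈ N₀ := fun k => Submodule.subset_span ⟨k, rfl⟩
  let x₀ : N₀ ⊗[A] M := ∑ k, (⟨t k, ht₀ k⟩ : N₀) ⊗ₜ[A] x k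
  have hx₀ : N₀.subtype.rTensor M x₀ = N₀.subtype.rTensor M 0 := by
    rw [map_zero, map_sum]
    have : ∑ k, t k ⊗ₜ[A] x k = (TensorProduct.comm A M N) (∑ k, x k ⊗ₜ[A] t k) := by
      rw [map_sum]; rfl
    simpa [h] using this
  obtain ⟨N', hN'fg, hle, heq⟩ := hN₀fg.exists_rTensor_fg_inclusion_eq hx₀
  obtain ⟨p, s, hs⟩ := Submodule.fg_iff_exists_fin_generating_family.1 hN'fg
  have hs' : ∀ k', s k' ∈ N' := fun k' => hs ▸ Submodule.subset_span ⟨k', rfl⟩
  let m : Fin (l + p) → N' :=
    Fin.append (fun k => (⟨t k, hle (ht₀ k)⟩ : N')) (fun k' => (⟨s k', hs' k'⟩ : N'))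
  let n : Fin (l + p) → M := Fin.append x (fun _ : Fin p => (0 : M))
  have hspan : Submodule.span A (Set.range m) = ⊤ := by
    rw [eq_top_iff]
    rintro ⟨z, hz⟩ -
    have hz' : z ∈ Submodule.span A (Set.range s) := hs ▸ hz
    induction hz' using Submodule.span_induction with
    | mem z hz2 =>
      obtain ⟨k', rfl⟩ := hz2
      apply Submodule.subset_span
      refine ⟨Fin.natAdd l k', ?_⟩
      simp [m]
    | zero => exact Submodule.zero_mem _
    | add a b ha hb iha ihb =>
      have : (⟨a + b, hz⟩ : N') = ⟨a, hs ▸ ha⟩ + ⟨b, hs ▸ hb⟩ := rfl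
      rw [this]
      exact Submodule.add_mem _ (iha _) (ihb _)
    | smul r a ha iha =>
      have : (⟨r • a, hz⟩ : N') = r • ⟨a, hs ▸ ha⟩ := rfl
      rw [this]
      exact Submodule.smul_mem _ _ (iha _)
  have hsum : ∑ i, m i ⊗ₜ[A] n i = (0 : N' ⊗[A] M) := by
    rw [Fin.sum_univ_add]
    simp only [m, n, Fin.append_left, Fin.append_right, tmul_zero, Finset.sum_const_zero, add_zero]
    have h2 := heq
    rw [map_zero, map_sum] at h2
    exact h2
  obtain ⟨q, a, y, h1, h2⟩ := TensorProduct.vanishesTrivially_of_sum_tmul_eq_zero A hspan hsum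
  refine ⟨p, q, s, y, a, h1, fun r => ?_⟩
  have h3 := congrArg N'.subtype (h2 r)
  rw [map_zero, map_sum] at h3
  rw [← h3]
  refine Finset.sum_congr rfl fun i _ => ?_
  rw [map_smul]
  congr 1
  refine Fin.addCases (fun k => ?_) (fun k' => ?_) i <;> simp [m]

variable {C : Type u} [SmallCategory C] {J : GrothendieckTopology C} (O : Sheaf J CommRingCat.{u})

/-- the matrix form of the equational criterion, `m` relations. -/
def CritM (F : ModSite.Mod O) (m : ℕ) : Prop :=
  ∀ (U : C) (n : ℕ) (f : Fin m → Fin n → O.obj.obj (op U)) (s : Fin n → F.val.obj (op U)),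
    (∀ i, ∑ j, f i j • s j = 0) →
    ∃ S ∈ J U, ∀ ⦃V : C⦄ (g : V ⟶ U), S g →
      ∃ (l : ℕ) (t : Fin l → F.val.obj (op V)) (a : Fin n → Fin l → O.obj.obj (op V)),
        (∀ j, (F.val.map g.op).hom (s j) = ∑ k, a j k • t k) ∧
        (∀ i k, ∑ j, a j k * (O.obj.map g.op).hom (f i j) = 0)

/-- restriction of sections, as a plain function -/
noncomputable def res (F : ModSite.Mod O) {U V : C} (g : V ⟶ U) (x : F.val.obj (op U)) :
    F.val.obj (op V) := (F.val.map g.op).hom x

/-- restriction of functions -/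
noncomputable def resO {U V : C} (g : V ⟶ U) (r : O.obj.obj (op U)) : O.obj.obj (op V) :=
  (O.obj.map g.op).hom r

theorem res_smul (F : ModSite.Mod O) {U V : C} (g : V ⟶ U) (r : O.obj.obj (op U))
    (x : F.val.obj (op U)) : res O F g (r • x) = resO O g r • res O F g x :=
  PresheafOfModules.map_smul F.val g.op r x

theorem res_sum (F : ModSite.Mod O) {U V : C} (g : V ⟶ U) {ι : Type*} (s : Finset ι)
    (x : ι → F.val.obj (op U)) : res O F g (∑ i ∈ s, x i) = ∑ i ∈ s, res O F g (x i) :=
  map_sum (F.val.map g.op).hom x s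

theorem res_zero (F : ModSite.Mod O) {U V : C} (g : V ⟶ U) : res O F g 0 = 0 :=
  map_zero (F.val.map g.op).hom

theorem res_comp (F : ModSite.Mod O) {U V W : C} (g : V ⟶ U) (h : W ⟶ V) (x : F.val.obj (op U)) :
    res O F (h ≫ g) x = res O F h (res O F g x) := by
  unfold res
  rw [op_comp]
  exact PresheafOfModules.map_comp_apply F.val g.op h.op x

theorem res_nat {X X' : ModSite.Mod O} (u : X ⟶ X') {U V : C} (g : V ⟶ U) (x : X.val.obj (op U)) :
    res O X' g ((u.val.app (op U)).hom x) = (u.val.app (op V)).hom (res O X g x) :=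
  (PresheafOfModules.naturality_apply u.val g.op x).symm

theorem resO_comp {U V W : C} (g : V ⟶ U) (h : W ⟶ V) (r : O.obj.obj (op U)) :
    resO O (h ≫ g) r = resO O h (resO O g r) := by
  unfold resO
  rw [op_comp, O.obj.map_comp]
  rfl

theorem resO_sum {U V : C} (g : V ⟶ U) {ι : Type*} (s : Finset ι)
    (x : ι → O.obj.obj (op U)) : resO O g (∑ i ∈ s, x i) = ∑ i ∈ s, resO O g (x i) :=
  map_sum (O.obj.map g.op).hom x s

theorem resO_mul {U V : C} (g : V ⟶ U) (r r' : O.obj.obj (op U)) :
    resO O g (r * r') = resO O g r * resO O g r' :=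
  map_mul (O.obj.map g.op).hom r r'

theorem resO_zero {U V : C} (g : V ⟶ U) : resO O g 0 = 0 :=
  map_zero (O.obj.map g.op).hom

/-- `CritM` in terms of `res`, `resO` -/
theorem critM_iff (F : ModSite.Mod O) (m : ℕ) : CritM O F m ↔
  ∀ (U : C) (n : ℕ) (f : Fin m → Fin n → O.obj.obj (op U)) (s : Fin n → F.val.obj (op U)),
    (∀ i, ∑ j, f i j • s j = 0) →
    ∃ S ∈ J U, ∀ ⦃V : C⦄ (g : V ⟶ U), S g →
      ∃ (l : ℕ) (t : Fin l → F.val.obj (op V)) (a : Fin n → Fin l → O.obj.obj (op V)),
        (∀ j, res O F g (s j) = ∑ k, a j k • t k) ∧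
        (∀ i k, ∑ j, a j k * resO O g (f i j) = 0) := Iff.rfl

theorem critM_zero (F : ModSite.Mod O) : CritM O F 0 := by
  classical
  rw [critM_iff]
  intro U n f s _
  refine ⟨⊤, J.top_mem U, fun V g _ => ?_⟩
  refine ⟨n, fun k => res O F g (s k), fun j k => if j = k then 1 else 0, ?_, ?_⟩
  · intro j
    simp
  · intro i
    exact Fin.elim0 i

theorem critM_succ (F : ModSite.Mod O) (H : CritM O F 1) (m : ℕ) (hm : CritM O F m) :
    CritM O F (m + 1) := by
  classical
  rw [critM_iff] at H hm ⊢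
  intro U n f s hrel
  obtain ⟨S₁, hS₁, h₁⟩ := hm U n (fun i => f i.castSucc) s (fun i => hrel i.castSucc)
  choose l t a ha1 ha2 using h₁
  -- the remaining relation over each `V`
  have hrel2 : ∀ ⦃V : C⦄ (g : V ⟶ U) (hg : S₁ g),
      ∑ k, (∑ j, a g hg j k * resO O g (f (Fin.last m) j)) • t g hg k = 0 := by
    intro V g hg
    have h0 : res O F g (∑ j, f (Fin.last m) j • s j) = 0 := by
      rw [hrel (Fin.last m)]; exact res_zero O F g
    rw [res_sum] at h0
    rw [← h0]
    simp_rw [res_smul, ha1 g hg, Finset.smul_sum, Finset.sum_smul]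
    rw [Finset.sum_comm]
    refine Finset.sum_congr rfl fun j _ => Finset.sum_congr rfl fun k _ => ?_
    rw [smul_smul, mul_comm]
  have h₂ : ∀ ⦃V : C⦄ (g : V ⟶ U) (hg : S₁ g), _ :=
    fun V g hg => H V (l g hg) (fun _ k => ∑ j, a g hg j k * resO O g (f (Fin.last m) j))
      (t g hg) (fun _ => hrel2 g hg)
  choose S₂ hS₂ h₃ using h₂
  refine ⟨Sieve.bind S₁ S₂, J.bind_covering hS₁ (fun V g hg => hS₂ g hg), ?_⟩
  rintro W h ⟨V, g', g, hg, hg', rfl⟩
  obtain ⟨l', t', a', hb1, hb2⟩ := h₃ g hg g' hg'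
  refine ⟨l', t', fun j e => ∑ k, resO O g' (a g hg j k) * a' k e, ?_, ?_⟩
  · intro j
    rw [res_comp, ha1 g hg, res_sum]
    simp_rw [res_smul, hb1, Finset.smul_sum, Finset.sum_smul, smul_smul]
    rw [Finset.sum_comm]
  · intro i e
    simp_rw [resO_comp, Finset.sum_mul]
    rw [Finset.sum_comm]
    refine Fin.lastCases ?_ (fun i' => ?_) i
    · have h5 := hb2 0 e
      rw [← h5]
      refine Finset.sum_congr rfl fun k _ => ?_
      rw [resO_sum, Finset.mul_sum]
      refine Finset.sum_congr rfl fun j _ => ?_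
      rw [resO_mul]
      ring
    · have h6 : ∀ k, ∑ j, a g hg j k * resO O g (f i'.castSucc j) = 0 :=
        fun k => ha2 g hg i' k
      calc ∑ k, ∑ j, resO O g' (a g hg j k) * a' k e *
              resO O g' (resO O g (f i'.castSucc j))
          = ∑ k, a' k e * resO O g'
              (∑ j, a g hg j k * resO O g (f i'.castSucc j)) := by
            refine Finset.sum_congr rfl fun k _ => ?_
            rw [resO_sum, Finset.mul_sum]
            refine Finset.sum_congr rfl fun j _ => ?_
            rw [resO_mul]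
            ring
        _ = 0 := by
            simp_rw [h6, resO_zero, mul_zero, Finset.sum_const_zero]

theorem critM_of_one (F : ModSite.Mod O) (H : CritM O F 1) : ∀ m, CritM O F m
  | 0 => critM_zero O F
  | m + 1 => critM_succ O F H m (critM_of_one F H m)

theorem injective_app_of_mono {X X' : ModSite.Mod O} (u : X ⟶ X') [Mono u] (V : Cᵒᵖ) :
    Function.Injective (u.val.app V).hom := by
  haveI : Mono ((SheafOfModules.forget (ModSite.ringSh O) ⋙
      PresheafOfModules.evaluation _ V).map u) := inferInstance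
  exact (ModuleCat.mono_iff_injective _).1 this

theorem mono_of_injective_app {X X' : ModSite.Mod O} (u : X ⟶ X')
    (h : ∀ V : Cᵒᵖ, Function.Injective (u.val.app V).hom) : Mono u := by
  haveI : Mono ((SheafOfModules.forget (ModSite.ringSh O)).map u) :=
    PresheafOfModules.mono_of_injective (f := u.val) (fun V => h V)
  exact (SheafOfModules.forget (ModSite.ringSh O)).mono_of_mono_map inferInstance

/-- sections of a sheaf of modules vanish if they vanish locally -/
theorem eq_zero_of_locally (T : ModSite.Mod O) {V : C} (z : T.val.obj (op V)) (S : Sieve V)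
    (hS : S ∈ J V) (h : ∀ ⦃W : C⦄ (g : W ⟶ V), S g → res O T g z = 0) : z = 0 := by
  have hsep : Presheaf.IsSeparated J T.val.presheaf := Presheaf.IsSheaf.isSeparated T.isSheaf
  apply hsep V S hS
  intro W g hg
  exact (h g hg).trans (res_zero O T g).symm

theorem PT_map_pt' (X F : ModSite.Mod O) {V V' : C} (g : V' ⟶ V)
    (x : X.val.obj (op V)) (t : F.val.obj (op V)) :
    (PT O X F).map g.op (pt O X F V x t) = pt O X F V' (res O X g x) (res O F g t) := rfl

theorem pt_zero_left (X F : ModSite.Mod O) (V : C) (t : F.val.obj (op V)) :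
    pt O X F V 0 t = 0 := TensorProduct.zero_tmul _ _

/-- local injectivity of `η` -/
theorem eta_locally_injective (X F : ModSite.Mod O) (V : C) (w : (PT O X F).obj (op V))
    (hw : etaV O X F V w = 0) :
    ∃ S ∈ J V, ∀ ⦃V' : C⦄ (g : V' ⟶ V), S g → (PT O X F).map g.op w = 0 := by
  haveI : Presheaf.IsLocallyInjective J
      ((PresheafOfModules.toPresheaf _).map (eta O (PT O X F))) :=
    ((J.W_iff_isLocallyBijective _).1 (W_eta (PT O X F))).1
  have h := Presheaf.equalizerSieve_mem J
    ((PresheafOfModules.toPresheaf _).map (eta O (PT O X F))) (X := op V) w 0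
    (hw.trans (map_zero (etaV O X F V)).symm)
  refine ⟨_, h, fun V' g hg => ?_⟩
  exact hg.trans (map_zero ((PT O X F).map g.op).hom)

end Groth.Agent.Lib.Helper21.EqCrit
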