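import Mathlib
import Groth.Prelude.Def_ModSite
import Groth.Agent.Lib.Helper21EqCrit4

/-!
# Helper21: the equational criterion of flatness on a ringed site implies flatness

* `locally_zero_of_crit`, `mono_tR_of_critM`, `isFlat_of_critM_one`.
-/

set_option autoImplicit false
universe u
open CategoryTheory CategoryTheory.Limits Opposite MonoidalCategory TensorProduct

namespace Groth.Agent.Lib.Helper21.EqCrit

open Groth.Agent.Lib.Helper21.ModTensor Groth.Agent.Lib.Helper21.ModTensor2
  Groth.Agent.Lib.Helper21.ModTensor3 Groth.Agent.Lib.Helper21.ModTensor5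
  Groth.Agent.Lib.Helper21.ModTensor6 Groth.Agent.Lib.Helper21.ModTensor7
  Groth.Agent.Lib.Helper21.FlatCalc

variable {C : Type u} [SmallCategory C] {J : GrothendieckTopology C} (O : Sheaf J CommRingCat.{u})

theorem etaV_restrict' (X F : ModSite.Mod O) {V V' : C} (g : V' ⟶ V)
    (z : (PT O X F).obj (op V)) :
    res O (ST O X F) g (etaV O X F V z) = etaV O X F V' ((PT O X F).map g.op z) :=
  etaV_restrict O X F g z

/-- the key local vanishing: a sum of pure tensors in `X ⊗ F` dying in `X' ⊗ F` is locally zero. -/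
theorem locally_zero_of_crit (F : ModSite.Mod O) (H : ∀ m, CritM O F m) {X X' : ModSite.Mod O}
    (u : X ⟶ X') [Mono u] (V : C) {l : ℕ} (x : Fin l → X.val.obj (op V))
    (t : Fin l → F.val.obj (op V))
    (h0 : ∑ k, pt O X' F V ((u.val.app (op V)).hom (x k)) (t k) = 0) :
    ∃ S ∈ J V, ∀ ⦃W : C⦄ (g : W ⟶ V), S g →
      (PT O X F).map g.op (∑ k, pt O X F V (x k) (t k)) = 0 := by
  classical
  obtain ⟨p, q, t', y, a, h1, h2⟩ := exists_trivial_of_sum_tmul_eq_zero
    (A := O.obj.obj (op V)) (fun k => (u.val.app (op V)).hom (x k)) t h0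
  obtain ⟨S, hS, hS2⟩ := (critM_iff O F q).1 (H q) V (l + p) (fun r i => a i r) (Fin.append t t') h2
  refine ⟨S, hS, fun W g hg => ?_⟩
  obtain ⟨l', t'', c, hc1, hc2⟩ := hS2 g hg
  -- the extended family of `x`, restricted
  let ξ : Fin (l + p) → X.val.obj (op W) :=
    Fin.append (fun k => res O X g (x k)) (fun _ => 0)
  have hξ : ∀ e, ∑ i, c i e • ξ i = 0 := by
    intro e
    apply injective_app_of_mono O u (op W)
    rw [map_zero, map_sum]
    have h3 : ∀ i, (u.val.app (op W)).hom (ξ i) = ∑ r, resO O g (a i r) • res O X' g (y r) := by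
      intro i
      have h4 : (u.val.app (op W)).hom (ξ i) =
          res O X' g (Fin.append (fun k => (u.val.app (op V)).hom (x k)) (fun _ : Fin p => 0) i) := by
        refine Fin.addCases (fun k => ?_) (fun k' => ?_) i
        · simp only [ξ, Fin.append_left]
          exact (res_nat O u g (x k)).symm
        · simp only [ξ, Fin.append_right]
          rw [map_zero, res_zero]
      rw [h4, h1 i, res_sum]
      refine Finset.sum_congr rfl fun r _ => ?_
      exact res_smul O X' g (a i r) (y r)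
    simp_rw [map_smul, h3, Finset.smul_sum, smul_smul]
    rw [Finset.sum_comm]
    have h5 : ∀ r, ∑ i, (c i e * resO O g (a i r)) • res O X' g (y r) = 0 := by
      intro r
      rw [← Finset.sum_smul, hc2 r e, zero_smul]
    simp_rw [h5, Finset.sum_const_zero]
  -- now compute
  rw [map_sum]
  have h6 : ∀ k, (PT O X F).map g.op (pt O X F V (x k) (t k)) =
      pt O X F W (res O X g (x k)) (res O F g (t k)) := fun k => PT_map_pt' O X F g _ _
  have h7 : ∑ k, pt O X F W (res O X g (x k)) (res O F g (t k)) =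
      ∑ i, pt O X F W (ξ i) (res O F g (Fin.append t t' i)) := by
    rw [Fin.sum_univ_add]
    simp only [ξ, Fin.append_left, Fin.append_right, pt_zero_left, Finset.sum_const_zero, add_zero]
  have h8 : ∀ i, pt O X F W (ξ i) (res O F g (Fin.append t t' i)) =
      ∑ e, pt O X F W (c i e • ξ i) (t'' e) := by
    intro i
    rw [hc1 i, pt_sum_right]
    refine Finset.sum_congr rfl fun e _ => ?_
    rw [pt_smul_left]
  calc ∑ k, ((PT O X F).map g.op).hom (pt O X F V (x k) (t k))
      = ∑ k, pt O X F W (res O X g (x k)) (res O F g (t k)) :=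
        Finset.sum_congr rfl fun k _ => h6 k
    _ = ∑ i, ∑ e, pt O X F W (c i e • ξ i) (t'' e) := by
        rw [h7]; exact Finset.sum_congr rfl fun i _ => h8 i
    _ = ∑ e, pt O X F W (∑ i, c i e • ξ i) (t'' e) := by
        rw [Finset.sum_comm]
        refine Finset.sum_congr rfl fun e _ => ?_
        rw [pt_sum_left]
    _ = 0 := by
        simp_rw [hξ, pt_zero_left, Finset.sum_const_zero]

end Groth.Agent.Lib.Helper21.EqCrit

namespace Groth.Agent.Lib.Helper21.EqCrit

open Groth.Agent.Lib.Helper21.ModTensor Groth.Agent.Lib.Helper21.ModTensor2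
  Groth.Agent.Lib.Helper21.ModTensor3 Groth.Agent.Lib.Helper21.ModTensor5
  Groth.Agent.Lib.Helper21.ModTensor6 Groth.Agent.Lib.Helper21.ModTensor7
  Groth.Agent.Lib.Helper21.FlatCalc

variable {C : Type u} [SmallCategory C] {J : GrothendieckTopology C} (O : Sheaf J CommRingCat.{u})

theorem tR_map_nat (F : ModSite.Mod O) {X X' : ModSite.Mod O} (u : X ⟶ X') {V W : C} (g : W ⟶ V)
    (z : (ST O X F).val.obj (op V)) :
    res O (ST O X' F) g ((((tR O F).map u).val.app (op V)).hom z) =
      (((tR O F).map u).val.app (op W)).hom (res O (ST O X F) g z) :=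
  res_nat O ((tR O F).map u) g z

theorem mono_tR_of_critM (F : ModSite.Mod O) (H : ∀ m, CritM O F m) {X X' : ModSite.Mod O}
    (u : X ⟶ X') [Mono u] : Mono ((tR O F).map u) := by
  apply mono_of_injective_app
  rintro ⟨V⟩
  rw [injective_iff_map_eq_zero]
  intro z hz
  change (ST O X F).val.obj (op V) at z
  -- first localisation: `z` is in the image of `η`
  refine eq_zero_of_locally O (ST O X F) z _ (imageSieve_eta_mem O X F V z) ?_
  intro V₁ g₁ hg₁
  obtain ⟨w, hw⟩ := exists_etaV_eq_of_imageSieve O X F g₁ z hg₁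
  change etaV O X F V₁ w = res O (ST O X F) g₁ z at hw
  rw [← hw]
  obtain ⟨l, x, t, rfl⟩ := exists_fin_sum_pt O X F V₁ w
  -- the image in `X' ⊗ F`
  have h3 : (((fgt O).map u ▷ (fgt O).obj F).app (op V₁)).hom (∑ k, pt O X F V₁ (x k) (t k)) =
      ∑ k, pt O X' F V₁ ((u.val.app (op V₁)).hom (x k)) (t k) := by
    rw [map_sum]
    exact Finset.sum_congr rfl fun k _ => whisker_pt O F u V₁ _ _
  have h1 : etaV O X' F V₁ (∑ k, pt O X' F V₁ ((u.val.app (op V₁)).hom (x k)) (t k)) = 0 :=
    calc etaV O X' F V₁ (∑ k, pt O X' F V₁ ((u.val.app (op V₁)).hom (x k)) (t k))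
        = etaV O X' F V₁ ((((fgt O).map u ▷ (fgt O).obj F).app (op V₁)).hom
            (∑ k, pt O X F V₁ (x k) (t k))) := congrArg _ h3.symm
      _ = (((tR O F).map u).val.app (op V₁)).hom (etaV O X F V₁ (∑ k, pt O X F V₁ (x k) (t k))) :=
          (etaV_nat_left O F u V₁ _).symm
      _ = (((tR O F).map u).val.app (op V₁)).hom (res O (ST O X F) g₁ z) := congrArg _ hw
      _ = res O (ST O X' F) g₁ ((((tR O F).map u).val.app (op V)).hom z) :=
          (tR_map_nat O F u g₁ z).symm
      _ = res O (ST O X' F) g₁ 0 := congrArg _ hz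
      _ = 0 := res_zero O (ST O X' F) g₁
  obtain ⟨S₁, hS₁, hS₁'⟩ := eta_locally_injective O X' F V₁ _ h1
  refine eq_zero_of_locally O (ST O X F) _ S₁ hS₁ ?_
  intro V₂ g₂ hg₂
  have h4 := hS₁' g₂ hg₂
  rw [map_sum] at h4
  have h5 : ∑ k, pt O X' F V₂ ((u.val.app (op V₂)).hom (res O X g₂ (x k))) (res O F g₂ (t k)) = 0 := by
    refine Eq.trans ?_ h4
    refine Finset.sum_congr rfl fun k _ => ?_
    rw [← res_nat O u g₂ (x k)]
    exact (PT_map_pt' O X' F g₂ _ _).symm
  obtain ⟨S₂, hS₂, hS₂'⟩ := locally_zero_of_crit O F H u V₂ _ _ h5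
  refine eq_zero_of_locally O (ST O X F) _ S₂ hS₂ ?_
  intro V₃ g₃ hg₃
  have h6 := hS₂' g₃ hg₃
  rw [etaV_restrict', etaV_restrict']
  have h7 : (PT O X F).map g₂.op (∑ k, pt O X F V₁ (x k) (t k)) =
      ∑ k, pt O X F V₂ (res O X g₂ (x k)) (res O F g₂ (t k)) := by
    rw [map_sum]
    exact Finset.sum_congr rfl fun k _ => PT_map_pt' O X F g₂ _ _
  rw [h7, h6]
  exact map_zero (etaV O X F V₃)

/-- the one-relation equational criterion implies flatness. -/
theorem isFlat_of_critM_one (F : ModSite.Mod O) (H : CritM O F 1) : ModSite.IsFlat F := by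
  rw [isFlat_iff]
  exact preservesFiniteLimits_of_mono (tR O F)
    (fun {X Y} f hf => @mono_tR_of_critM _ _ _ O F (critM_of_one O F H) X Y f hf)

end Groth.Agent.Lib.Helper21.EqCrit
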