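import Mathlib
import Groth.Prelude.Def_ModSite2
import Groth.Agent.Lib.Helper21EqCrit3

set_option autoImplicit false
universe u
open CategoryTheory CategoryTheory.Limits Opposite

namespace Groth.Agent.Lib.Helper21.StalkFlat

open Groth.Agent.Lib.Helper21.EqCrit

variable {C : Type u} [SmallCategory C] {J : GrothendieckTopology C} {O : Sheaf J CommRingCat.{u}}
  (p : GrothendieckTopology.Point.{u} J)

theorem germ_w (F : ModSite.Mod O) {X Y : C} (g : Y ⟶ X) (y : p.fiber.obj Y)
    (s : ModSite.sect F X) :
    ModSite.germ p F Y y (F.val.map g.op s) = ModSite.germ p F X (p.fiber.map g y) s :=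
  p.toPresheafFiber_w_apply g y (ModSite.toAb F).obj s

theorem germRing_w {X Y : C} (g : Y ⟶ X) (y : p.fiber.obj Y) (r : O.obj.obj (op X)) :
    ModSite.germRing p Y y ((O.obj.map g.op).hom r) = ModSite.germRing p X (p.fiber.map g y) r :=
  p.toPresheafFiber_w_apply g y O.obj r

theorem germ_sum (F : ModSite.Mod O) (X : C) (x : p.fiber.obj X) {ι : Type*} (S : Finset ι)
    (s : ι → ModSite.sect F X) :
    ModSite.germ p F X x (∑ i ∈ S, s i) = ∑ i ∈ S, ModSite.germ p F X x (s i) :=
  map_sum (p.toPresheafFiber X x (ModSite.toAb F).obj).hom s S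

theorem germRing_sum (X : C) (x : p.fiber.obj X) {ι : Type*} (S : Finset ι)
    (r : ι → O.obj.obj (op X)) :
    ModSite.germRing p X x (∑ i ∈ S, r i) = ∑ i ∈ S, ModSite.germRing p X x (r i) :=
  map_sum (p.toPresheafFiber X x O.obj).hom r S

theorem germRing_mul (X : C) (x : p.fiber.obj X) (r r' : O.obj.obj (op X)) :
    ModSite.germRing p X x (r * r') = ModSite.germRing p X x r * ModSite.germRing p X x r' :=
  map_mul (p.toPresheafFiber X x O.obj).hom r r'

theorem germRing_zero (X : C) (x : p.fiber.obj X) :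
    ModSite.germRing p X x (0 : O.obj.obj (op X)) = 0 :=
  map_zero (p.toPresheafFiber X x O.obj).hom

theorem germ_zero (F : ModSite.Mod O) (X : C) (x : p.fiber.obj X) :
    ModSite.germ p F X x (0 : ModSite.sect F X) = 0 :=
  map_zero (p.toPresheafFiber X x (ModSite.toAb F).obj).hom


/-- finitely many germs of functions and sections have representatives on a common neighbourhood. -/
theorem exists_common_nbhd {l : ℕ} (F : ModSite.Mod O) (f : Fin l → ModSite.stalkRing p O)
    (x : Fin l → ModSite.stalkAb p F) :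
    ∃ (W : C) (w : p.fiber.obj W) (f' : Fin l → O.obj.obj (op W)) (s : Fin l → ModSite.sect F W),
      (∀ i, ModSite.germRing p W w (f' i) = f i) ∧ (∀ i, ModSite.germ p F W w (s i) = x i) := by
  classical
  choose X₁ x₁ r₁ h₁ using fun i => p.toPresheafFiber_jointly_surjective (P := O.obj) (f i)
  choose X₂ x₂ s₂ h₂ using
    fun i => p.toPresheafFiber_jointly_surjective (P := (ModSite.toAb F).obj) (x i)
  let E : Fin l ⊕ Fin l → p.fiber.Elements :=
    Sum.elim (fun i => ⟨X₁ i, x₁ i⟩) (fun i => ⟨X₂ i, x₂ i⟩)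
  obtain ⟨W, hW⟩ := IsCofiltered.inf_objs_exists (Finset.univ.image E)
  have g : ∀ k, W ⟶ E k := fun k => (hW (Finset.mem_image_of_mem E (Finset.mem_univ k))).some
  refine ⟨W.1, W.2, fun i => (O.obj.map (g (Sum.inl i)).1.op).hom (r₁ i),
    fun i => F.val.map (g (Sum.inr i)).1.op (s₂ i), ?_, ?_⟩
  · intro i
    rw [germRing_w]
    have h := (g (Sum.inl i)).2
    have h' : p.fiber.map (g (Sum.inl i)).1 W.2 = x₁ i := h
    rw [h']
    exact h₁ i
  · intro i
    rw [germ_w]
    have h := (g (Sum.inr i)).2
    have h' : p.fiber.map (g (Sum.inr i)).1 W.2 = x₂ i := h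
    rw [h']
    exact h₂ i

theorem flat_stalk (F : ModSite.Mod O) (hF : ModSite.IsFlat F) :
    Module.Flat (ModSite.stalkRing p O) (ModSite.stalkMod p F) := by
  apply Module.Flat.of_forall_isTrivialRelation
  intro l f x hrel
  obtain ⟨W, w, f', s, hf, hs⟩ := exists_common_nbhd p F f x
  have h0 : ModSite.germ p F W w (∑ i, f' i • s i) = ModSite.germ p F W w 0 := by
    rw [germ_sum, germ_zero, ← hrel]
    refine Finset.sum_congr rfl (fun i _ => ?_)
    rw [ModSite.germ_smul, hf, hs]
  obtain ⟨Y, g, y, hy, hg⟩ := (p.toPresheafFiber_eq_iff' W w _ _).1 h0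
  have hg' : F.val.map g.op (∑ i, f' i • s i) = 0 := by
    have h1 : F.val.map g.op (∑ i, f' i • s i) = F.val.map g.op 0 := hg
    rw [h1, map_zero]
  have hrelY : ∑ i, ((ModSite.ringSh O).obj.map g.op).hom (f' i) • F.val.map g.op (s i) = 0 := by
    rw [← hg', map_sum]
    refine Finset.sum_congr rfl (fun i _ => ?_)
    exact (F.val.map_smul g.op (f' i) (s i)).symm
  obtain ⟨S, hS, H⟩ := eq_crit O F hF Y (m := 1)
    (fun _ i => ((ModSite.ringSh O).obj.map g.op).hom (f' i)) (fun i => F.val.map g.op (s i))
    (fun _ => hrelY)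
  obtain ⟨V, h, hSh, v, hv⟩ := p.jointly_surjective S hS y
  obtain ⟨k, t, a, h1, h2⟩ := H h hSh
  refine ⟨k, fun i j => ModSite.germRing p V v (a i j), fun j => ModSite.germ p F V v (t j), ?_, ?_⟩
  · intro i
    have e1 : x i = ModSite.germ p F V v (F.val.map h.op (F.val.map g.op (s i))) := by
      rw [germ_w, germ_w, hv, hy, hs]
    rw [e1, h1 i, germ_sum]
    refine Finset.sum_congr rfl (fun j _ => ?_)
    exact ModSite.germ_smul p F V v (a i j) (t j)
  · intro j
    have e2 : ∀ i, f i = ModSite.germRing p V v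
        (((ModSite.ringSh O).obj.map h.op).hom (((ModSite.ringSh O).obj.map g.op).hom (f' i))) := by
      intro i
      have := germRing_w p h v (((ModSite.ringSh O).obj.map g.op).hom (f' i))
      have h3 : ModSite.germRing p V v
          (((ModSite.ringSh O).obj.map h.op).hom (((ModSite.ringSh O).obj.map g.op).hom (f' i))) =
          ModSite.germRing p Y (p.fiber.map h v) (((ModSite.ringSh O).obj.map g.op).hom (f' i)) :=
        this
      rw [h3, hv]
      have h4 := germRing_w p g y (f' i)
      have h5 : ModSite.germRing p Y y (((ModSite.ringSh O).obj.map g.op).hom (f' i)) =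
          ModSite.germRing p W (p.fiber.map g y) (f' i) := h4
      rw [h5, hy, hf]
    have e3 := (congrArg (ModSite.germRing p V v) (h2 0 j)).trans (germRing_zero p V v)
    have e4 : ModSite.germRing p V v
        (∑ i, a i j * ((ModSite.ringSh O).obj.map h.op).hom
          (((ModSite.ringSh O).obj.map g.op).hom (f' i))) =
        ∑ i, ModSite.germRing p V v (a i j * ((ModSite.ringSh O).obj.map h.op).hom
          (((ModSite.ringSh O).obj.map g.op).hom (f' i))) := germRing_sum p V v _ _
    have e5 : ∑ i, f i * ModSite.germRing p V v (a i j) =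
        ∑ i, ModSite.germRing p V v (a i j * ((ModSite.ringSh O).obj.map h.op).hom
          (((ModSite.ringSh O).obj.map g.op).hom (f' i))) := by
      refine Finset.sum_congr rfl (fun i _ => ?_)
      rw [e2 i]
      exact ((germRing_mul p V v _ _).trans (mul_comm _ _)).symm
    exact (e5.trans e4.symm).trans e3

end Groth.Agent.Lib.Helper21.StalkFlat
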