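import Mathlib
import Groth.Prelude.Def_ModSite2
import Groth.Agent.Lib.Helper21StalkFlat
import Groth.Agent.Lib.Helper21EqCrit5

/-!
# Helper21: flat stalks at a conservative family of points imply flatness

* `exists_refine_eqs`, `exists_common_nbhd₂`, `exists_trivialisation`, `critM_one_of_flat_stalks`.
-/

set_option autoImplicit false
universe u
open CategoryTheory CategoryTheory.Limits Opposite

namespace Groth.Agent.Lib.Helper21.StalkFlat

open Groth.Agent.Lib.Helper21.EqCrit

variable {C : Type u} [SmallCategory C] {J : GrothendieckTopology C} {O : Sheaf J CommRingCat.{u}}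
  (p : GrothendieckTopology.Point.{u} J)

/-- finitely many equalities of germs hold on a common smaller neighbourhood. -/
theorem exists_refine_eqs {A : Type (u + 1)} [Category.{u} A] [HasColimitsOfSize.{u, u} A]
    {FC : A → A → Type*} {CC : A → Type u}
    [∀ (X Y : A), FunLike (FC X Y) (CC X) (CC Y)] [ConcreteCategory.{u} A FC]
    [PreservesFilteredColimitsOfSize.{u, u} (forget A)] (P : Cᵒᵖ ⥤ A) :
    ∀ (N : ℕ) (W : C) (w : p.fiber.obj W) (a b : Fin N → ToType (P.obj (op W)))
      (_ : ∀ e, p.toPresheafFiber W w P (a e) = p.toPresheafFiber W w P (b e)),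
      ∃ (Y : C) (g : Y ⟶ W) (y : p.fiber.obj Y), p.fiber.map g y = w ∧
        ∀ e, P.map g.op (a e) = P.map g.op (b e)
  | 0, W, w, a, b, _ => ⟨W, 𝟙 W, w, by simp, fun e => Fin.elim0 e⟩
  | N + 1, W, w, a, b, h => by
    obtain ⟨Y, g, y, hy, hg⟩ := exists_refine_eqs P N W w (fun e => a e.castSucc)
      (fun e => b e.castSucc) (fun e => h e.castSucc)
    have h1 : p.toPresheafFiber Y y P (P.map g.op (a (Fin.last N))) =
        p.toPresheafFiber Y y P (P.map g.op (b (Fin.last N))) := by
      rw [p.toPresheafFiber_w_apply, p.toPresheafFiber_w_apply, hy]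
      exact h (Fin.last N)
    obtain ⟨Y', g', y', hy', hg'⟩ := (p.toPresheafFiber_eq_iff' Y y _ _).1 h1
    refine ⟨Y', g' ≫ g, y', ?_, ?_⟩
    · rw [Functor.map_comp, ConcreteCategory.comp_apply, hy', hy]
    · intro e
      have hc : ∀ z : ToType (P.obj (op W)), P.map (g' ≫ g).op z = P.map g'.op (P.map g.op z) := by
        intro z
        rw [op_comp, P.map_comp, ConcreteCategory.comp_apply]
      rw [hc, hc]
      refine Fin.lastCases ?_ (fun e' => ?_) e
      · exact hg'
      · rw [hg e']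

/-- representatives on a common neighbourhood, over a given neighbourhood. -/
theorem exists_common_nbhd₂ (F : ModSite.Mod O) {ι₁ ι₂ : Type} [Fintype ι₁] [Fintype ι₂]
    (X₀ : C) (x₀ : p.fiber.obj X₀)
    (r : ι₁ → ModSite.stalkRing p O) (m : ι₂ → ModSite.stalkAb p F) :
    ∃ (W : C) (w : p.fiber.obj W) (g₀ : W ⟶ X₀), p.fiber.map g₀ w = x₀ ∧
      ∃ (r' : ι₁ → O.obj.obj (op W)) (m' : ι₂ → ModSite.sect F W),
      (∀ i, ModSite.germRing p W w (r' i) = r i) ∧ (∀ i, ModSite.germ p F W w (m' i) = m i) := by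
  classical
  choose X₁ x₁ r₁ h₁ using fun i => p.toPresheafFiber_jointly_surjective (P := O.obj) (r i)
  choose X₂ x₂ s₂ h₂ using
    fun i => p.toPresheafFiber_jointly_surjective (P := (ModSite.toAb F).obj) (m i)
  let E : Option (ι₁ ⊕ ι₂) → p.fiber.Elements := fun o =>
    o.elim ⟨X₀, x₀⟩ (Sum.elim (fun i => ⟨X₁ i, x₁ i⟩) (fun i => ⟨X₂ i, x₂ i⟩))
  obtain ⟨W, hW⟩ := IsCofiltered.inf_objs_exists (Finset.univ.image E)
  have g : ∀ k, W ⟶ E k := fun k => (hW (Finset.mem_image_of_mem E (Finset.mem_univ k))).some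
  refine ⟨W.1, W.2, (g none).1, (g none).2, fun i => (O.obj.map (g (some (Sum.inl i))).1.op).hom (r₁ i),
    fun i => F.val.map (g (some (Sum.inr i))).1.op (s₂ i), ?_, ?_⟩
  · intro i
    rw [germRing_w]
    have h' : p.fiber.map (g (some (Sum.inl i))).1 W.2 = x₁ i := (g (some (Sum.inl i))).2
    rw [h']
    exact h₁ i
  · intro i
    rw [germ_w]
    have h' : p.fiber.map (g (some (Sum.inr i))).1 W.2 = x₂ i := (g (some (Sum.inr i))).2
    rw [h']
    exact h₂ i

end Groth.Agent.Lib.Helper21.StalkFlat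

namespace Groth.Agent.Lib.Helper21.StalkFlat

open Groth.Agent.Lib.Helper21.EqCrit

variable {C : Type u} [SmallCategory C] {J : GrothendieckTopology C} {O : Sheaf J CommRingCat.{u}}
  (p : GrothendieckTopology.Point.{u} J)

theorem germ_res (F : ModSite.Mod O) {X Y : C} (g : Y ⟶ X) (y : p.fiber.obj Y)
    (s : F.val.obj (op X)) :
    ModSite.germ p F Y y (res O F g s) = ModSite.germ p F X (p.fiber.map g y) s :=
  germ_w p F g y s

theorem germRing_resO {X Y : C} (g : Y ⟶ X) (y : p.fiber.obj Y) (r : O.obj.obj (op X)) :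
    ModSite.germRing p Y y (resO O g r) = ModSite.germRing p X (p.fiber.map g y) r :=
  germRing_w p g y r

/-- flat stalk at `p`: a relation among sections trivialises on a neighbourhood of `p`. -/
theorem exists_trivialisation (F : ModSite.Mod O)
    (hflat : Module.Flat (ModSite.stalkRing p O) (ModSite.stalkMod p F))
    (U : C) (x : p.fiber.obj U) (n : ℕ) (f : Fin n → O.obj.obj (op U))
    (s : Fin n → F.val.obj (op U)) (hrel : ∑ j, f j • s j = 0) :
    ∃ (V : C) (g : V ⟶ U) (y : p.fiber.obj V), p.fiber.map g y = x ∧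
      ∃ (l : ℕ) (t : Fin l → F.val.obj (op V)) (a : Fin n → Fin l → O.obj.obj (op V)),
        (∀ j, res O F g (s j) = ∑ k, a j k • t k) ∧
        (∀ k, ∑ j, a j k * resO O g (f j) = 0) := by
  classical
  have hst : ∑ j, ModSite.germRing p U x (f j) • (ModSite.germ p F U x (s j) : ModSite.stalkMod p F) = 0 := by
    have h0 : ModSite.germ p F U x (∑ j, f j • s j) = 0 := by
      rw [hrel]; exact germ_zero p F U x
    rw [germ_sum] at h0
    rw [← h0]
    refine Finset.sum_congr rfl fun j _ => ?_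
    exact (ModSite.germ_smul p F U x (f j) (s j)).symm
  obtain ⟨k, a, y, ha1, ha2⟩ :=
    @Module.Flat.isTrivialRelation_of_sum_smul_eq_zero _ _ _ _ _ hflat _ _ _ _ hst
  obtain ⟨W, w, g₀, hw, a', y', ha', hy'⟩ := exists_common_nbhd₂ p F (ι₁ := Fin n × Fin k)
    (ι₂ := Fin k) U x (fun i => a i.1 i.2) y
  -- first family of equations
  have hE1 : ∀ j, ModSite.germ p F W w (res O F g₀ (s j)) =
      ModSite.germ p F W w (∑ e, a' (j, e) • y' e) := by
    intro j
    rw [germ_res, hw, germ_sum]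
    refine (ha1 j).trans (Finset.sum_congr rfl fun e _ => ?_)
    rw [ModSite.germ_smul, ha' (j, e), hy' e]
  obtain ⟨Y₁, g₁, y₁, hy₁, hg₁⟩ := exists_refine_eqs p (ModSite.toAb F).obj n W w
    (fun j => res O F g₀ (s j)) (fun j => ∑ e, a' (j, e) • y' e) hE1
  have hg₁' : ∀ j, res O F g₁ (res O F g₀ (s j)) = res O F g₁ (∑ e, a' (j, e) • y' e) := hg₁
  -- second family
  have hE2 : ∀ e, ModSite.germRing p Y₁ y₁ (∑ j, resO O g₁ (a' (j, e)) * resO O (g₁ ≫ g₀) (f j)) =
      ModSite.germRing p Y₁ y₁ 0 := by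
    intro e
    rw [germRing_zero, germRing_sum, ← ha2 e]
    refine Finset.sum_congr rfl fun j _ => ?_
    rw [germRing_mul, germRing_resO, germRing_resO, hy₁, ha' (j, e), Functor.map_comp,
      ConcreteCategory.comp_apply, hy₁, hw, mul_comm]
  obtain ⟨Y₂, g₂, y₂, hy₂, hg₂⟩ := exists_refine_eqs p O.obj k Y₁ y₁
    (fun e => ∑ j, resO O g₁ (a' (j, e)) * resO O (g₁ ≫ g₀) (f j)) (fun _ => 0) hE2
  have hg₂' : ∀ e, resO O g₂ (∑ j, resO O g₁ (a' (j, e)) * resO O (g₁ ≫ g₀) (f j)) =
      resO O g₂ 0 := hg₂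
  refine ⟨Y₂, g₂ ≫ g₁ ≫ g₀, y₂, ?_, k, fun e => res O F (g₂ ≫ g₁) (y' e),
    fun j e => resO O (g₂ ≫ g₁) (a' (j, e)), ?_, ?_⟩
  · rw [Functor.map_comp, Functor.map_comp, ConcreteCategory.comp_apply,
      ConcreteCategory.comp_apply, hy₂, hy₁, hw]
  · intro j
    rw [res_comp, res_comp, hg₁' j, res_sum, res_sum]
    refine Finset.sum_congr rfl fun e _ => ?_
    rw [res_smul, res_smul]
    show _ = resO O (g₂ ≫ g₁) (a' (j, e)) • res O F (g₂ ≫ g₁) (y' e)
    rw [resO_comp, res_comp]
  · intro e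
    have h1 := hg₂' e
    rw [resO_zero, resO_sum] at h1
    rw [← h1]
    refine Finset.sum_congr rfl fun j _ => ?_
    rw [resO_mul, ← resO_comp O (g₁ ≫ g₀) g₂]
    show resO O (g₂ ≫ g₁) (a' (j, e)) * _ = _
    rw [resO_comp]

end Groth.Agent.Lib.Helper21.StalkFlat

namespace Groth.Agent.Lib.Helper21.StalkFlat

open Groth.Agent.Lib.Helper21.EqCrit

variable {C : Type u} [SmallCategory C] {J : GrothendieckTopology C} {O : Sheaf J CommRingCat.{u}}

/-- flat stalks at a conservative family of points imply the equational criterion. -/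
theorem critM_one_of_flat_stalks (F : ModSite.Mod O)
    (P : ObjectProperty (GrothendieckTopology.Point.{u} J)) (hP : P.IsConservativeFamilyOfPoints)
    (h : ∀ p : GrothendieckTopology.Point.{u} J, P p →
      Module.Flat (ModSite.stalkRing p O) (ModSite.stalkMod p F)) : CritM O F 1 := by
  rw [critM_iff]
  intro U n f s hrel
  let S : Sieve U :=
    { arrows := fun V g => ∃ (l : ℕ) (t : Fin l → F.val.obj (op V))
        (a : Fin n → Fin l → O.obj.obj (op V)),
        (∀ j, res O F g (s j) = ∑ k, a j k • t k) ∧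
        (∀ i k, ∑ j, a j k * resO O g (f i j) = 0)
      downward_closed := by
        rintro V W g ⟨l, t, a, h1, h2⟩ h
        refine ⟨l, fun k => res O F h (t k), fun j k => resO O h (a j k), ?_, ?_⟩
        · intro j
          rw [res_comp, h1 j, res_sum]
          refine Finset.sum_congr rfl fun k _ => ?_
          rw [res_smul]
        · intro i k
          have h3 := congrArg (resO O h) (h2 i k)
          rw [resO_zero, resO_sum] at h3
          rw [← h3]
          refine Finset.sum_congr rfl fun j _ => ?_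
          rw [resO_mul, resO_comp] }
  refine ⟨S, ?_, fun V g hg => hg⟩
  let ι : Type u := Σ V : C, {g : V ⟶ U // S g}
  refine J.superset_covering (S := Sieve.ofArrows (fun i : ι => i.1) (fun i => i.2.1)) ?_ ?_
  · rw [Sieve.generate_le_iff, Presieve.ofArrows_le_iff]
    exact fun i => i.2.2
  · rw [hP.jointly_reflect_ofArrows_mem]
    intro Φ x
    obtain ⟨V, g, y, hy, l, t, a, h1, h2⟩ := exists_trivialisation Φ.obj F (h Φ.obj Φ.property)
      U x n (f 0) s (hrel 0)
    refine ⟨⟨V, g, l, t, a, h1, fun i k => ?_⟩, y, hy⟩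
    have hi : i = 0 := Subsingleton.elim _ _
    rw [hi]
    exact h2 k

end Groth.Agent.Lib.Helper21.StalkFlat
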