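import Mathlib
import Groth.Prelude.Def_ModSite
import Groth.Prelude.Def_ModSite2
import Groth.Agent.Lib.Helper21ModSp4
import Groth.Agent.Lib.Helper21StalkFlat2

/-!
# Tuples of sections vs maps out of free modules; stalkwise surjectivity
(helper21; for the ModSite rows S6831 ff.)
-/

set_option autoImplicit false
universe u
open CategoryTheory CategoryTheory.Limits Opposite TopologicalSpace

namespace Groth.Agent.Lib.Helper21.ModSp

open Groth.Agent.Lib.Helper21.LocFact Groth.Agent.Lib.Helper21.EqCrit
  Groth.Agent.Lib.Helper21.StalkFlat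

noncomputable section

section site

variable {C : Type u} [SmallCategory C] [HasBinaryProducts C] [HasPullbacks C]
  {J : GrothendieckTopology C} {O : Sheaf J CommRingCat.{u}}

/-- tuple of sections over `V` of a map `free I ⟶ G|_V`. -/
def secV {V : C} {I : Type u} {G : ModSite.Mod O}
    (f : FrI (O.over V) I ⟶ (ModSite.restr O V).obj G) (i : I) : G.val.obj (op V) :=
  secEquiv (ModSite.ringSh (O.over V)) (hTX V) I ((ModSite.restr O V).obj G) f i

/-- map `free I ⟶ G|_V` of a tuple of sections over `V`. -/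
def homV {V : C} {I : Type u} {G : ModSite.Mod O} (t : I → G.val.obj (op V)) :
    FrI (O.over V) I ⟶ (ModSite.restr O V).obj G :=
  (secEquiv (ModSite.ringSh (O.over V)) (hTX V) I ((ModSite.restr O V).obj G)).symm t

theorem secV_homV {V : C} {I : Type u} {G : ModSite.Mod O} (t : I → G.val.obj (op V)) (i : I) :
    secV (homV (O := O) t) i = t i :=
  congrFun ((secEquiv (ModSite.ringSh (O.over V)) (hTX V) I
    ((ModSite.restr O V).obj G)).apply_symm_apply t) i

theorem secV_ext {V : C} {I : Type u} {G : ModSite.Mod O}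
    {f f' : FrI (O.over V) I ⟶ (ModSite.restr O V).obj G} (h : ∀ i, secV f i = secV f' i) :
    f = f' :=
  (secEquiv (ModSite.ringSh (O.over V)) (hTX V) I ((ModSite.restr O V).obj G)).injective
    (funext h)

theorem secV_comp_map {V : C} {I : Type u} {G G' : ModSite.Mod O}
    (f : FrI (O.over V) I ⟶ (ModSite.restr O V).obj G) (φ : G ⟶ G') (i : I) :
    secV (f ≫ (ModSite.restr O V).map φ) i = φ.val.app (op V) (secV f i) :=
  secEquiv_comp (ModSite.ringSh (O.over V)) (hTX V) I f ((ModSite.restr O V).map φ) i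

theorem secV_resFr {U V : C} (g : V ⟶ U) {I : Type u} {G : ModSite.Mod O}
    (f : FrI (O.over U) I ⟶ (ModSite.restr O U).obj G) (i : I) :
    secV (resFr g f) i = G.val.map g.op (secV f i) := by
  unfold resFr secV
  rw [← Category.assoc, secEquiv_comp]
  exact secEquiv_Gg g f i


end site

section point

variable {C : Type u} [SmallCategory C] {J : GrothendieckTopology C} {O : Sheaf J CommRingCat.{u}}
  (p : GrothendieckTopology.Point.{u} J)

theorem stalkMap_germ {G F : ModSite.Mod O} (φ : G ⟶ F) (W : C) (w : p.fiber.obj W)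
    (t : G.val.obj (op W)) :
    (ModSite.stalkMap p φ).hom (ModSite.germ p G W w t) =
      ModSite.germ p F W w (φ.val.app (op W) t) :=
  p.toPresheafFiber_naturality_apply
    ((SheafOfModules.toSheaf (ModSite.ringSh O)).map φ).hom W w t

/-- finitely many germs have representatives on a common neighbourhood inside a given one -/
theorem exists_common_sections (G : ModSite.Mod O) {I : Type*} [Finite I] (U₀ : C)
    (x₀ : p.fiber.obj U₀) (τ : I → ModSite.stalkAb p G) :
    ∃ (W : C) (w : p.fiber.obj W) (g₀ : W ⟶ U₀), p.fiber.map g₀ w = x₀ ∧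
      ∃ t : I → G.val.obj (op W), ∀ i, ModSite.germ p G W w (t i) = τ i := by
  obtain ⟨n, ⟨e⟩⟩ := Finite.exists_equiv_fin I
  obtain ⟨W, w, g₀, hw, -, t, -, ht⟩ := exists_common_nbhd₂ p G (ι₁ := Fin 0) (ι₂ := Fin n) U₀ x₀
    (fun i => Fin.elim0 i) (fun j => τ (e.symm j))
  refine ⟨W, w, g₀, hw, fun i => t (e i), fun i => ?_⟩
  rw [ht, Equiv.symm_apply_apply]

/-- finitely many equalities of germs of sections hold on a common smaller neighbourhood -/
theorem exists_refine_sections (F : ModSite.Mod O) {I : Type*} [Finite I] (W : C)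
    (w : p.fiber.obj W) (a b : I → F.val.obj (op W))
    (h : ∀ i, ModSite.germ p F W w (a i) = ModSite.germ p F W w (b i)) :
    ∃ (Y : C) (g : Y ⟶ W) (y : p.fiber.obj Y), p.fiber.map g y = w ∧
      ∀ i, F.val.map g.op (a i) = F.val.map g.op (b i) := by
  obtain ⟨n, ⟨e⟩⟩ := Finite.exists_equiv_fin I
  obtain ⟨Y, g, y, hy, hg⟩ := exists_refine_eqs p (ModSite.toAb F).obj n W w
    (fun j => a (e.symm j)) (fun j => b (e.symm j)) (fun j => h (e.symm j))
  refine ⟨Y, g, y, hy, fun i => ?_⟩
  have := hg (e i)
  rw [Equiv.symm_apply_apply] at this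
  exact this

/-- if `φ` is surjective on stalks at `p`, finitely many sections of the target lift locally -/
theorem exists_local_lift_of_stalk_surjective {G F : ModSite.Mod O} (φ : G ⟶ F)
    (hsurj : Function.Surjective (ModSite.stalkMap p φ).hom) {U₀ : C} (x₀ : p.fiber.obj U₀)
    {I : Type*} [Finite I] (s : I → F.val.obj (op U₀)) :
    ∃ (Y : C) (g : Y ⟶ U₀) (y : p.fiber.obj Y), p.fiber.map g y = x₀ ∧
      ∃ t : I → G.val.obj (op Y), ∀ i, φ.val.app (op Y) (t i) = F.val.map g.op (s i) := by
  choose τ hτ using fun i => hsurj (ModSite.germ p F U₀ x₀ (s i))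
  obtain ⟨W, w, g₀, hw, t, ht⟩ := exists_common_sections p G U₀ x₀ τ
  have h1 : ∀ i, ModSite.germ p F W w (φ.val.app (op W) (t i)) =
      ModSite.germ p F W w (F.val.map g₀.op (s i)) := by
    intro i
    rw [← stalkMap_germ, ht, hτ, germ_w, hw]
  obtain ⟨Y, g, y, hy, hg⟩ := exists_refine_sections p F W w _ _ h1
  refine ⟨Y, g ≫ g₀, y, ?_, fun i => G.val.map g.op (t i), fun i => ?_⟩
  · rw [Functor.map_comp, ConcreteCategory.comp_apply, hy, hw]
  · have hnat : φ.val.app (op Y) (G.val.map g.op (t i)) =
        F.val.map g.op (φ.val.app (op W) (t i)) :=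
      PresheafOfModules.naturality_apply φ.val g.op (t i)
    rw [hnat, hg i, op_comp]
    exact (PresheafOfModules.map_comp_apply F.val g₀.op g.op (s i)).symm

end point

end

end Groth.Agent.Lib.Helper21.ModSp
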