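import Mathlib
import Groth.Prelude.Def_ModSite
import Groth.Prelude.Def_ModSite2
import Groth.Agent.Lib.Helper21ModSp5

/-!
# Sections of finite free modules on slices; modules whose stalk at a point is free
(helper21; for the ModSite rows S6848 ff.)

* `δ`, `homT`, `matHom`, `coord`, `eq_sum_coord`, `resFrFr_eq_zero`;
* `exists_coeffs`, `coeffs_vanish`: sections whose germs form a basis of the stalk.
-/

set_option autoImplicit false
universe u
open CategoryTheory CategoryTheory.Limits Opposite TopologicalSpace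

namespace Groth.Agent.Lib.Helper21.ModSp

open Groth.Agent.Lib.Helper21.LocFact Groth.Agent.Lib.Helper21.EqCrit
  Groth.Agent.Lib.Helper21.StalkFlat

noncomputable section

section site

variable {C : Type u} [SmallCategory C] [HasBinaryProducts C] [HasPullbacks C]
  {J : GrothendieckTopology C} {O : Sheaf J CommRingCat.{u}}

/-- the standard sections of a free module on `C/V`. -/
def δ (V : C) (I : Type u) (i : I) : (FrI (O.over V) I).val.obj (op (Over.mk (𝟙 V))) :=
  (SheafOfModules.ιFree (R := ModSite.ringSh (O.over V)) i).val.app (op (Over.mk (𝟙 V)))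
    (1 : (ModSite.ringSh (O.over V)).obj.obj (op (Over.mk (𝟙 V))))

theorem secEquiv_eq {V : C} {I : Type u} {M : ModSite.Mod (O.over V)}
    (f : FrI (O.over V) I ⟶ M) (i : I) :
    secEquiv (ModSite.ringSh (O.over V)) (hTX V) I M f i =
      f.val.app (op (Over.mk (𝟙 V))) (δ V I i) := rfl

theorem secV_eq {V : C} {I : Type u} {G : ModSite.Mod O}
    (f : FrI (O.over V) I ⟶ (ModSite.restr O V).obj G) (i : I) :
    secV f i = f.val.app (op (Over.mk (𝟙 V))) (δ V I i) := rfl

/-- the map out of a free module with prescribed values on the standard sections -/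
def homT {V : C} {K : Type u} {M : ModSite.Mod (O.over V)}
    (c : K → M.val.obj (op (Over.mk (𝟙 V)))) : FrI (O.over V) K ⟶ M :=
  (secEquiv (ModSite.ringSh (O.over V)) (hTX V) K M).symm c

theorem homT_app {V : C} {K : Type u} {M : ModSite.Mod (O.over V)}
    (c : K → M.val.obj (op (Over.mk (𝟙 V)))) (k : K) :
    (homT c).val.app (op (Over.mk (𝟙 V))) (δ V K k) = c k :=
  congrFun ((secEquiv (ModSite.ringSh (O.over V)) (hTX V) K M).apply_symm_apply c) k

theorem homT_ext {V : C} {K : Type u} {M : ModSite.Mod (O.over V)}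
    {f f' : FrI (O.over V) K ⟶ M}
    (h : ∀ k, f.val.app (op (Over.mk (𝟙 V))) (δ V K k) =
      f'.val.app (op (Over.mk (𝟙 V))) (δ V K k)) : f = f' :=
  (secEquiv (ModSite.ringSh (O.over V)) (hTX V) K M).injective (funext h)

/-- the map of free modules given by a matrix of functions on `V`. -/
def matHom {V : C} {K I : Type u} [Fintype I] (a : K → I → O.obj.obj (op V)) :
    FrI (O.over V) K ⟶ FrI (O.over V) I :=
  homT (fun k => ∑ i, (a k i : (ModSite.ringSh (O.over V)).obj.obj (op (Over.mk (𝟙 V)))) • δ V I i)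

theorem secV_matHom_comp {V : C} {K I : Type u} [Fintype I] {G : ModSite.Mod O}
    (a : K → I → O.obj.obj (op V))
    (f : FrI (O.over V) I ⟶ (ModSite.restr O V).obj G) (k : K) :
    secV (matHom a ≫ f) k = ∑ i, (a k i : (ModSite.ringSh O).obj.obj (op V)) • secV f i := by
  have h1 : secV (matHom a ≫ f) k = f.val.app (op (Over.mk (𝟙 V)))
      ((matHom a).val.app (op (Over.mk (𝟙 V))) (δ V K k)) := rfl
  rw [h1]
  unfold matHom
  rw [homT_app, map_sum]
  refine Finset.sum_congr rfl fun i _ => ?_
  rw [map_smul]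
  rfl

/-- coordinates of a section of `O^n`. -/
def coord {V : C} {n : ℕ} (j : ULift.{u} (Fin n))
    (t : (FrI (O.over V) (ULift.{u} (Fin n))).val.obj (op (Over.mk (𝟙 V)))) : O.obj.obj (op V) :=
  RS.pr (ModSite.ringSh (O.over V)) (hTX V) n j t

theorem eq_sum_coord {V : C} {n : ℕ}
    (t : (FrI (O.over V) (ULift.{u} (Fin n))).val.obj (op (Over.mk (𝟙 V)))) :
    t = ∑ j, (coord (O := O) (V := V) j t :
      (ModSite.ringSh (O.over V)).obj.obj (op (Over.mk (𝟙 V)))) • δ V (ULift.{u} (Fin n)) j :=
  RS.decomp (ModSite.ringSh (O.over V)) (hTX V) n t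

theorem coord_sum_smul {V : C} {n : ℕ} (a : ULift.{u} (Fin n) → O.obj.obj (op V))
    (j : ULift.{u} (Fin n)) :
    coord (O := O) (V := V) j
      (∑ i, (a i : (ModSite.ringSh (O.over V)).obj.obj (op (Over.mk (𝟙 V)))) •
        δ V (ULift.{u} (Fin n)) i) = a j :=
  congrFun ((RetractFreeSite.lam (ModSite.ringSh (O.over V)) (hTX V) n).apply_symm_apply a) j

theorem map_wg_eq_zero {U V : C} (g : V ⟶ U) {n : ℕ}
    (t : (FrI (O.over U) (ULift.{u} (Fin n))).val.obj (op (Over.mk (𝟙 U))))
    (ht : ∀ j, resO O g (coord (O := O) (V := U) j t) = 0) :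
    (FrI (O.over U) (ULift.{u} (Fin n))).val.map (wg g).op t = 0 := by
  have h1 := congrArg (fun z => (FrI (O.over U) (ULift.{u} (Fin n))).val.map (wg g).op z)
    (eq_sum_coord (O := O) t)
  refine h1.trans ?_
  refine (map_sum ((FrI (O.over U) (ULift.{u} (Fin n))).val.map (wg g).op).hom _ _).trans ?_
  refine Finset.sum_eq_zero fun j _ => ?_
  refine (PresheafOfModules.map_smul (FrI (O.over U) (ULift.{u} (Fin n))).val (wg g).op
    (coord (O := O) (V := U) j t : (ModSite.ringSh (O.over U)).obj.obj (op (Over.mk (𝟙 U))))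
    (δ U (ULift.{u} (Fin n)) j)).trans ?_
  have h3 : ((ModSite.ringSh (O.over U)).obj.map (wg g).op).hom
      (coord (O := O) (V := U) j t :
        (ModSite.ringSh (O.over U)).obj.obj (op (Over.mk (𝟙 U)))) = 0 := ht j
  rw [h3, zero_smul]

/-- a map into `O^n` restricts to zero if its coordinates do. -/
theorem resFrFr_eq_zero {U V : C} (g : V ⟶ U) {K : Type u} {n : ℕ}
    (Λ : FrI (O.over U) K ⟶ FrI (O.over U) (ULift.{u} (Fin n)))
    (h : ∀ k j, resO O g (coord (O := O) (V := U) j
      (Λ.val.app (op (Over.mk (𝟙 U))) (δ U K k))) = 0) :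
    resFrFr g Λ = 0 := by
  apply homT_ext
  intro k
  have h0 : (0 : FrI (O.over V) K ⟶ FrI (O.over V) (ULift.{u} (Fin n))).val.app
      (op (Over.mk (𝟙 V))) (δ V K k) = 0 := rfl
  rw [h0]
  have h1 : (resFrFr g Λ).val.app (op (Over.mk (𝟙 V))) (δ V K k) =
      (GgFrIso g (ULift.{u} (Fin n))).inv.val.app (op (Over.mk (𝟙 V)))
        (secEquiv (ModSite.ringSh (O.over V)) (hTX V) K _
          ((GgFrIso g K).hom ≫ (Gg O g).map Λ) k) := rfl
  have h2 : secEquiv (ModSite.ringSh (O.over V)) (hTX V) K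
      ((Gg O g).obj (FrI (O.over U) (ULift.{u} (Fin n))))
      ((GgFrIso g K).hom ≫ (Gg O g).map Λ) k = 0 :=
    (secEquiv_Gg g Λ k).trans (map_wg_eq_zero g _ (h k))
  rw [h1, h2, map_zero]

/-- linear combination with coefficients in `O(V)` of sections over `V`: computing
`secV (f' ≫ f)` when the sections of `f'` are linear combinations of the standard sections. -/
theorem secV_comp_of_eq_sum {V : C} {K I : Type u} [Fintype I] {G : ModSite.Mod O}
    (f' : FrI (O.over V) K ⟶ FrI (O.over V) I)
    (f : FrI (O.over V) I ⟶ (ModSite.restr O V).obj G) (k : K)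
    (a : I → O.obj.obj (op V))
    (h : f'.val.app (op (Over.mk (𝟙 V))) (δ V K k) =
      ∑ i, (a i : (ModSite.ringSh (O.over V)).obj.obj (op (Over.mk (𝟙 V)))) • δ V I i) :
    secV (f' ≫ f) k = ∑ i, (a i : (ModSite.ringSh O).obj.obj (op V)) • secV f i := by
  have h1 : secV (f' ≫ f) k = f.val.app (op (Over.mk (𝟙 V)))
      (f'.val.app (op (Over.mk (𝟙 V))) (δ V K k)) := rfl
  rw [h1, h, map_sum]
  refine Finset.sum_congr rfl fun i _ => ?_
  rw [map_smul]
  rfl

end site

section point


variable {C : Type u} [SmallCategory C] {J : GrothendieckTopology C} {O : Sheaf J CommRingCat.{u}}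
  (p : GrothendieckTopology.Point.{u} J)

/-- finitely many germs of functions have representatives on a common neighbourhood inside a
given one -/
theorem exists_common_ring_sections {I : Type*} [Finite I] (U₀ : C)
    (x₀ : p.fiber.obj U₀) (γ : I → ModSite.stalkRing p O) :
    ∃ (W : C) (w : p.fiber.obj W) (g₀ : W ⟶ U₀), p.fiber.map g₀ w = x₀ ∧
      ∃ a : I → O.obj.obj (op W), ∀ i, ModSite.germRing p W w (a i) = γ i := by
  obtain ⟨n, ⟨e⟩⟩ := Finite.exists_equiv_fin I
  obtain ⟨W, w, g₀, hw, a, -, ha, -⟩ := exists_common_nbhd₂ p (ModSite.unit O)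
    (ι₁ := Fin n) (ι₂ := Fin 0) U₀ x₀ (fun j => γ (e.symm j)) (fun i => Fin.elim0 i)
  refine ⟨W, w, g₀, hw, fun i => a (e i), fun i => ?_⟩
  rw [ha, Equiv.symm_apply_apply]

/-- finitely many equalities of germs of functions hold on a common smaller neighbourhood -/
theorem exists_refine_ring_sections {I : Type*} [Finite I] (W : C)
    (w : p.fiber.obj W) (a b : I → O.obj.obj (op W))
    (h : ∀ i, ModSite.germRing p W w (a i) = ModSite.germRing p W w (b i)) :
    ∃ (Y : C) (g : Y ⟶ W) (y : p.fiber.obj Y), p.fiber.map g y = w ∧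
      ∀ i, resO O g (a i) = resO O g (b i) := by
  obtain ⟨n, ⟨e⟩⟩ := Finite.exists_equiv_fin I
  obtain ⟨Y, g, y, hy, hg⟩ := exists_refine_eqs p O.obj n W w
    (fun j => a (e.symm j)) (fun j => b (e.symm j)) (fun j => h (e.symm j))
  refine ⟨Y, g, y, hy, fun i => ?_⟩
  have := hg (e i)
  rw [Equiv.symm_apply_apply] at this
  exact this

variable {F : ModSite.Mod O} {L : Type*} [Fintype L] [DecidableEq L]
  (hx : ModSite.stalkMod p F ≃ₗ[ModSite.stalkRing p O] (L → ModSite.stalkRing p O))

include hx in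
/-- sections whose germs form a basis of the stalk: local coefficients of finitely many sections -/
theorem exists_coeffs {W : C} (w : p.fiber.obj W) (s : L → F.val.obj (op W))
    (hs : ∀ j, ModSite.germ p F W w (s j) = hx.symm (Pi.single j 1))
    {I : Type*} [Finite I] (m : I → F.val.obj (op W)) :
    ∃ (Y : C) (g : Y ⟶ W) (y : p.fiber.obj Y), p.fiber.map g y = w ∧
      ∃ a : I → L → O.obj.obj (op Y), ∀ i, res O F g (m i) = ∑ j, a i j • res O F g (s j) := by
  have h0 : ∀ i, (ModSite.germ p F W w (m i) : ModSite.stalkMod p F) =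
      ∑ j, hx (ModSite.germ p F W w (m i)) j • (ModSite.germ p F W w (s j) :
        ModSite.stalkMod p F) := by
    intro i
    apply hx.injective
    rw [map_sum]
    simp only [map_smul, hs, LinearEquiv.apply_symm_apply]
    exact pi_eq_sum_univ' (hx (ModSite.germ p F W w (m i)))
  obtain ⟨W₁, w₁, g₁, hw₁, a₀, ha₀⟩ := exists_common_ring_sections p W w
    (fun q : I × L => hx (ModSite.germ p F W w (m q.1)) q.2)
  have h1 : ∀ i, ModSite.germ p F W₁ w₁ (res O F g₁ (m i)) =
      ModSite.germ p F W₁ w₁ (∑ j, a₀ (i, j) • res O F g₁ (s j)) := by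
    intro i
    rw [germ_res, hw₁, germ_sum]
    refine (h0 i).trans (Finset.sum_congr rfl fun j _ => ?_)
    rw [ModSite.germ_smul, ha₀ (i, j), germ_res, hw₁]
  obtain ⟨Y, g, y, hy, hg⟩ := exists_refine_sections p F W₁ w₁ _ _ h1
  refine ⟨Y, g ≫ g₁, y, ?_, fun i j => resO O g (a₀ (i, j)), fun i => ?_⟩
  · rw [Functor.map_comp, ConcreteCategory.comp_apply, hy, hw₁]
  · have h2 : res O F g (res O F g₁ (m i)) = res O F g (∑ j, a₀ (i, j) • res O F g₁ (s j)) :=
      hg i
    rw [res_comp, h2, res_sum]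
    refine Finset.sum_congr rfl fun j _ => ?_
    rw [res_smul, res_comp]

include hx in
/-- sections whose germs form a basis of the stalk: relations have locally vanishing
coefficients -/
theorem coeffs_vanish {W : C} (w : p.fiber.obj W) (s : L → F.val.obj (op W))
    (hs : ∀ j, ModSite.germ p F W w (s j) = hx.symm (Pi.single j 1))
    {K : Type*} [Finite K] (c : K → L → O.obj.obj (op W))
    (hc : ∀ k, ∑ j, c k j • s j = 0) :
    ∃ (Y : C) (g : Y ⟶ W) (y : p.fiber.obj Y), p.fiber.map g y = w ∧
      ∀ k j, resO O g (c k j) = 0 := by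
  have h0 : ∀ k j, ModSite.germRing p W w (c k j) = ModSite.germRing p W w 0 := by
    intro k j₀
    rw [germRing_zero]
    have h1 : ModSite.germ p F W w (∑ j, c k j • s j) = 0 := by
      rw [hc k]; exact germ_zero p F W w
    rw [germ_sum] at h1
    have h2 : (∑ j, ModSite.germRing p W w (c k j) • (hx.symm (Pi.single j 1) :
        ModSite.stalkMod p F)) = 0 := by
      rw [← h1]
      refine Finset.sum_congr rfl fun j _ => ?_
      rw [ModSite.germ_smul, hs]
    have h3 := congrArg (fun v => hx v j₀) h2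
    simp only [map_sum, map_smul, LinearEquiv.apply_symm_apply, map_zero, Pi.zero_apply,
      Finset.sum_apply, Pi.smul_apply, Pi.single_apply, smul_eq_mul, mul_ite, mul_one, mul_zero,
      Finset.sum_ite_eq, Finset.mem_univ, if_true] at h3
    exact h3
  obtain ⟨Y, g, y, hy, hg⟩ := exists_refine_ring_sections p W w
    (fun q : K × L => c q.1 q.2) (fun _ => 0) (fun q => h0 q.1 q.2)
  refine ⟨Y, g, y, hy, fun k j => ?_⟩
  have := hg (k, j)
  rw [resO_zero] at this
  exact this

end point

end

end Groth.Agent.Lib.Helper21.ModSp
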