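import Mathlib
import Groth.Prelude.Def_ModSite
import Groth.Prelude.Def_ModSite2
import Groth.Agent.Lib.Helper21ModSp6
import Groth.Agent.Lib.Helper21ModLocalIso

/-!
# Trivialisations and endomorphisms of finite free modules on slices
(helper21; for the ModSite rows S6836 ff.)

* `trivRes`, `trivRes_conj` : restriction of trivialisations `F|_U ≅ O_U^L` to smaller opens;
* `comp_eq_id_of_comp_eq_id` : one-sided inverses of endomorphisms of `O^n` are two-sided;
* `exists_isIso_resFrFr` : an epi endomorphism of `O_U^n` is an isomorphism near each point.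
-/

set_option autoImplicit false
universe u
open CategoryTheory CategoryTheory.Limits Opposite TopologicalSpace

namespace Groth.Agent.Lib.Helper21.ModSp

open Groth.Agent.Lib.Helper21.LocFact Groth.Agent.Lib.Helper21.EqCrit
  Groth.Agent.Lib.Helper21.StalkFlat

noncomputable section
section site
variable {C : Type u} [SmallCategory C] [HasBinaryProducts C] [HasPullbacks C]
  {J : GrothendieckTopology C} {O : Sheaf J CommRingCat.{u}}

/-- restriction of a trivialisation -/
def trivRes {U V : C} (g : V ⟶ U) {F : ModSite.Mod O} {L : Type u}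
    (e : (ModSite.restr O U).obj F ≅ FrI (O.over U) L) :
    (ModSite.restr O V).obj F ≅ FrI (O.over V) L :=
  (GgRestrIso g F).symm ≪≫ (Gg O g).mapIso e ≪≫ (GgFrIso g L).symm

theorem trivRes_conj {U V : C} (g : V ⟶ U) {F G : ModSite.Mod O} {L L' : Type u}
    (eF : (ModSite.restr O U).obj F ≅ FrI (O.over U) L)
    (eG : (ModSite.restr O U).obj G ≅ FrI (O.over U) L') (φ : F ⟶ G) :
    (trivRes g eF).inv ≫ (ModSite.restr O V).map φ ≫ (trivRes g eG).hom =
      resFrFr g (eF.inv ≫ (ModSite.restr O U).map φ ≫ eG.hom) := by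
  have hnat : (GgRestrIso g F).hom ≫ (ModSite.restr O V).map φ ≫ (GgRestrIso g G).inv =
      (Gg O g).map ((ModSite.restr O U).map φ) := by
    rw [← Category.assoc, ← GgRestrIso_nat, Category.assoc, Iso.hom_inv_id, Category.comp_id]
  unfold trivRes resFrFr
  simp only [Iso.trans_inv, Iso.trans_hom, Iso.symm_inv, Iso.symm_hom, Functor.mapIso_inv,
    Functor.mapIso_hom, Category.assoc, Functor.map_comp]
  rw [reassoc_of% hnat]

/-- sections at the terminal object of `C/V` of a finite free module form a finite module. -/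
theorem finite_sections (V : C) (n : ℕ) :
    Module.Finite ((ModSite.ringSh (O.over V)).obj.obj (op (Over.mk (𝟙 V))))
      ((RS.G (ModSite.ringSh (O.over V)) (Over.mk (𝟙 V))).obj
        (FrI (O.over V) (ULift.{u} (Fin n)))) :=
  Module.Finite.equiv (RetractFreeSite.lam (ModSite.ringSh (O.over V)) (hTX V) n).symm

/-- a split epi endomorphism of a finite free module is an isomorphism. -/
theorem comp_eq_id_of_comp_eq_id {V : C} {n : ℕ}
    (σ θ : FrI (O.over V) (ULift.{u} (Fin n)) ⟶ FrI (O.over V) (ULift.{u} (Fin n)))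
    (h : σ ≫ θ = 𝟙 _) : θ ≫ σ = 𝟙 _ := by
  letI : CommRing ((ModSite.ringSh (O.over V)).obj.obj (op (Over.mk (𝟙 V)))) :=
    { (inferInstance : Ring ((ModSite.ringSh (O.over V)).obj.obj (op (Over.mk (𝟙 V))))) with
      mul_comm := fun a b => mul_comm (G := O.obj.obj (op V)) a b }
  haveI := finite_sections (O := O) V n
  have hG : (RS.G (ModSite.ringSh (O.over V)) (Over.mk (𝟙 V))).map σ ≫
      (RS.G (ModSite.ringSh (O.over V)) (Over.mk (𝟙 V))).map θ = 𝟙 _ := by
    rw [← Functor.map_comp, h, CategoryTheory.Functor.map_id]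
  have hsurj : Function.Surjective
      ((RS.G (ModSite.ringSh (O.over V)) (Over.mk (𝟙 V))).map θ).hom := by
    intro z
    refine ⟨((RS.G (ModSite.ringSh (O.over V)) (Over.mk (𝟙 V))).map σ).hom z, ?_⟩
    have := congrArg (fun f => f.hom z) hG
    exact this
  have hinj := OrzechProperty.injective_of_surjective_endomorphism _ hsurj
  have key : (RS.G (ModSite.ringSh (O.over V)) (Over.mk (𝟙 V))).map (θ ≫ σ) =
      (RS.G (ModSite.ringSh (O.over V)) (Over.mk (𝟙 V))).map (𝟙 _) := by
    rw [Functor.map_comp, CategoryTheory.Functor.map_id]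
    ext z
    apply hinj
    have := congrArg (fun f => f.hom
      (((RS.G (ModSite.ringSh (O.over V)) (Over.mk (𝟙 V))).map θ).hom z)) hG
    exact this
  exact RetractFreeSite.map_injective_of_retract (ModSite.ringSh (O.over V)) (hTX V)
    (n := n) (𝟙 _) (𝟙 _) (Category.id_comp _) _ _ key

/-- an epi endomorphism of a finite free module is locally an isomorphism -/
theorem exists_isIso_resFrFr_sieve {U : C} {n : ℕ}
    (θ : FrI (O.over U) (ULift.{u} (Fin n)) ⟶ FrI (O.over U) (ULift.{u} (Fin n))) [Epi θ] :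
    ∃ S ∈ J U, ∀ ⦃V : C⦄ (g : V ⟶ U), S g → IsIso (resFrFr g θ) := by
  obtain ⟨S, hS, H⟩ := exists_lift θ (𝟙 (FrI (O.over U) (ULift.{u} (Fin n))))
  refine ⟨S, hS, fun V g hg => ?_⟩
  obtain ⟨l, hl⟩ := H g hg
  have h1 : (l ≫ (GgFrIso g (ULift.{u} (Fin n))).inv) ≫ resFrFr g θ = 𝟙 _ := by
    unfold resFrFr
    rw [Category.assoc, Iso.inv_hom_id_assoc, reassoc_of% hl, CategoryTheory.Functor.map_id,
      Category.id_comp, Iso.hom_inv_id]
  have h2 := comp_eq_id_of_comp_eq_id _ _ h1
  exact ⟨⟨_, h2, h1⟩⟩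

end site

section space

variable {X : TopCat.{u}} {O : TopCat.Sheaf CommRingCat.{u} X}

theorem exists_isIso_resFrFr {U : Opens X} {n : ℕ}
    (θ : FrI (O.over U) (ULift.{u} (Fin n)) ⟶ FrI (O.over U) (ULift.{u} (Fin n))) [Epi θ]
    (x : X) (hx : x ∈ U) :
    ∃ (V : Opens X) (g : V ⟶ U), x ∈ V ∧ IsIso (resFrFr g θ) := by
  obtain ⟨S, hS, H⟩ := exists_isIso_resFrFr_sieve θ
  obtain ⟨V, g, hg, hxV⟩ := hS x hx
  exact ⟨V, g, hxV, H g hg⟩

end space
end

end Groth.Agent.Lib.Helper21.ModSp
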