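import Mathlib
import Groth.Prelude.Def_ModSite
import Groth.Prelude.Def_ModSite2
import Groth.Agent.Lib.Helper21ModSp7

/-!
# Stalks of locally free modules; comparison of the two stalks of the structure sheaf
(helper21; for the ModSite rows S6849 ff.)

* `stalkRingEquiv` : Mathlib's `O.presheaf.stalk x ≃+* ModSite.stalkRing (pointGrothendieckTopology x) O`;
* `stalkMap_comp_apply`, `stalkMap_id_apply`;
* `stalk_free_of_triv` : if `H|_U ≅ O_U^n` then `H_p ≃ₗ O_p^n` for a point `p` with a neighbourhood `U`;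
* `cokernelOneSubIso`, `presOn_of_triv`, `isFinitePresentation_of_iso`, `isFiniteType_of_iso`.
-/

set_option autoImplicit false
universe u v
open CategoryTheory CategoryTheory.Limits Opposite TopologicalSpace

namespace Groth.Agent.Lib.Helper21.ModSp

open Groth.Agent.Lib.Helper21.LocFact Groth.Agent.Lib.Helper21.EqCrit
  Groth.Agent.Lib.Helper21.StalkFlat

noncomputable section
section stalkCompare
variable {X : TopCat.{u}} (O : TopCat.Sheaf CommRingCat.{u} X) (x : X)

/-- the cocone of germs at the site point `x` over the diagram of open neighbourhoods. -/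
def fiberCocone : Cocone ((OpenNhds.inclusion x).op ⋙ O.presheaf) where
  pt := ModSite.stalkRing (Opens.pointGrothendieckTopology x) O
  ι :=
    { app := fun U => (Opens.pointGrothendieckTopology x).toPresheafFiber U.unop.1
        ⟨⟨U.unop.2⟩⟩ O.obj
      naturality := by
        intro U V f
        dsimp
        rw [Category.comp_id]
        exact (Opens.pointGrothendieckTopology x).toPresheafFiber_w
          ((OpenNhds.inclusion x).map f.unop) ⟨⟨V.unop.2⟩⟩ O.obj }

/-- comparison from Mathlib's stalk to the stalk at the site point. -/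
def stalkToFiber : O.presheaf.stalk x ⟶ ModSite.stalkRing (Opens.pointGrothendieckTopology x) O :=
  colimit.desc ((OpenNhds.inclusion x).op ⋙ O.presheaf) (fiberCocone O x)

theorem stalkToFiber_germ (U : Opens X) (hx : x ∈ U) (s : O.presheaf.obj (op U)) :
    (stalkToFiber O x).hom (O.presheaf.germ U x hx s) =
      ModSite.germRing (Opens.pointGrothendieckTopology x) U ⟨⟨hx⟩⟩ s := by
  have h : O.presheaf.germ U x hx ≫ stalkToFiber O x =
      (Opens.pointGrothendieckTopology x).toPresheafFiber U ⟨⟨hx⟩⟩ O.obj :=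
    colimit.ι_desc (fiberCocone O x) (op ⟨U, hx⟩)
  exact ConcreteCategory.congr_hom h s

theorem stalkToFiber_bijective : Function.Bijective (stalkToFiber O x).hom := by
  constructor
  · intro a b hab
    obtain ⟨U, hxU, s, rfl⟩ := O.presheaf.exists_germ_eq a
    obtain ⟨V, hxV, t, rfl⟩ := O.presheaf.exists_germ_eq b
    rw [stalkToFiber_germ, stalkToFiber_germ] at hab
    have h1 : ModSite.germRing (Opens.pointGrothendieckTopology x) (U ⊓ V) ⟨⟨⟨hxU, hxV⟩⟩⟩
        (resO O (homOfLE inf_le_left : U ⊓ V ⟶ U) s) =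
        ModSite.germRing (Opens.pointGrothendieckTopology x) (U ⊓ V) ⟨⟨⟨hxU, hxV⟩⟩⟩
        (resO O (homOfLE inf_le_right : U ⊓ V ⟶ V) t) := by
      rw [germRing_resO, germRing_resO]
      exact hab
    obtain ⟨Y, g, y, -, hg⟩ := ((Opens.pointGrothendieckTopology x).toPresheafFiber_eq_iff'
      (P := O.obj) (U ⊓ V) ⟨⟨⟨hxU, hxV⟩⟩⟩ _ _).1 h1
    refine O.presheaf.germ_ext Y y.down.down (g ≫ homOfLE inf_le_left) (g ≫ homOfLE inf_le_right) ?_
    rw [op_comp, op_comp, O.presheaf.map_comp, O.presheaf.map_comp,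
      ConcreteCategory.comp_apply, ConcreteCategory.comp_apply]
    exact hg
  · intro t
    obtain ⟨U, x₀, r, rfl⟩ := (Opens.pointGrothendieckTopology x).toPresheafFiber_jointly_surjective
      (P := O.obj) t
    exact ⟨O.presheaf.germ U x x₀.down.down r, stalkToFiber_germ O x U x₀.down.down r⟩

/-- Mathlib's stalk is isomorphic to the stalk at the site point. -/
def stalkRingEquiv :
    O.presheaf.stalk x ≃+* ModSite.stalkRing (Opens.pointGrothendieckTopology x) O :=
  RingEquiv.ofBijective (stalkToFiber O x).hom (stalkToFiber_bijective O x)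

theorem isLocalRing_stalkRing (h : IsLocalRing (O.presheaf.stalk x)) :
    IsLocalRing (ModSite.stalkRing (Opens.pointGrothendieckTopology x) O) :=
  (stalkRingEquiv O x).isLocalRing

theorem nontrivial_stalkRing (h : Nontrivial (O.presheaf.stalk x)) :
    Nontrivial (ModSite.stalkRing (Opens.pointGrothendieckTopology x) O) :=
  (stalkRingEquiv O x).symm.toEquiv.nontrivial

end stalkCompare

section stalkMapFun

variable {C : Type u} [SmallCategory C] {J : GrothendieckTopology C} {O : Sheaf J CommRingCat.{u}}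
  (p : GrothendieckTopology.Point.{u} J)

theorem stalkMap_comp_apply {A B D : ModSite.Mod O} (f : A ⟶ B) (g : B ⟶ D)
    (z : ModSite.stalkMod p A) :
    (ModSite.stalkMap p (f ≫ g)).hom z = (ModSite.stalkMap p g).hom ((ModSite.stalkMap p f).hom z) := by
  obtain ⟨W, w, t, rfl⟩ := p.toPresheafFiber_jointly_surjective (P := (ModSite.toAb A).obj) z
  have h1 := stalkMap_germ p (f ≫ g) W w t
  have h2 := stalkMap_germ p f W w t
  have h3 := stalkMap_germ p g W w (f.val.app (op W) t)
  exact h1.trans (h3.symm.trans (congrArg _ h2.symm))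

theorem stalkMap_id_apply {A : ModSite.Mod O} (z : ModSite.stalkMod p A) :
    (ModSite.stalkMap p (𝟙 A)).hom z = z := by
  obtain ⟨W, w, t, rfl⟩ := p.toPresheafFiber_jointly_surjective (P := (ModSite.toAb A).obj) z
  exact stalkMap_germ p (𝟙 A) W w t

end stalkMapFun

section stalkFree

variable {C : Type u} [SmallCategory C] [HasBinaryProducts C] [HasPullbacks C]
  {J : GrothendieckTopology C} {O : Sheaf J CommRingCat.{u}}
  (p : GrothendieckTopology.Point.{u} J)

theorem trivRes_inv {U V : C} (g : V ⟶ U) {F : ModSite.Mod O} {L : Type u}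
    (e : (ModSite.restr O U).obj F ≅ FrI (O.over U) L) :
    (trivRes g e).inv = resFr g e.inv := by
  unfold trivRes resFr
  simp only [Iso.trans_inv, Iso.symm_inv, Functor.mapIso_inv, Category.assoc]

theorem coord_zero {V : C} {n : ℕ} (j : ULift.{u} (Fin n)) :
    coord (O := O) (V := V) j 0 = 0 := by
  unfold coord
  exact map_zero (RS.pr (ModSite.ringSh (O.over V)) (hTX V) n j)

theorem eq_zero_of_matHom_eq_zero {V : C} {K : Type u} {n : ℕ}
    (a : K → ULift.{u} (Fin n) → O.obj.obj (op V)) (h : matHom (O := O) a = 0) (k : K)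
    (j : ULift.{u} (Fin n)) : a k j = 0 := by
  have h6 := coord_sum_smul (O := O) (V := V) (a k) j
  have h7 := (homT_app (O := O) (V := V) (M := FrI (O.over V) (ULift.{u} (Fin n)))
    (fun k => ∑ i, (a k i : (ModSite.ringSh (O.over V)).obj.obj (op (Over.mk (𝟙 V)))) •
      δ (O := O) V (ULift.{u} (Fin n)) i) k).symm
  have h8 : homT (O := O) (V := V) (M := FrI (O.over V) (ULift.{u} (Fin n)))
    (fun k => ∑ i, (a k i : (ModSite.ringSh (O.over V)).obj.obj (op (Over.mk (𝟙 V)))) •
      δ (O := O) V (ULift.{u} (Fin n)) i) = 0 := h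
  rw [h8] at h7
  have h9 : (∑ i, (a k i : (ModSite.ringSh (O.over V)).obj.obj (op (Over.mk (𝟙 V)))) •
      δ (O := O) V (ULift.{u} (Fin n)) i) = 0 := h7.trans rfl
  rw [h9] at h6
  exact h6.symm.trans (coord_zero j)

theorem secV_zero {V : C} {I : Type u} {G : ModSite.Mod O} (i : I) :
    secV (0 : FrI (O.over V) I ⟶ (ModSite.restr O V).obj G) i = 0 := rfl

/-- the stalk of a module which is free of rank `n` near the point is free of rank `n`. -/
theorem stalk_free_of_triv {U : C} (x₀ : p.fiber.obj U) (H : ModSite.Mod O) {n : ℕ}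
    (e : (ModSite.restr O U).obj H ≅ FrI (O.over U) (ULift.{u} (Fin n))) :
    Nonempty (ModSite.stalkMod p H ≃ₗ[ModSite.stalkRing p O]
      (ULift.{u} (Fin n) → ModSite.stalkRing p O)) := by
  classical
  have hsurj : Function.Surjective (Fintype.linearCombination (ModSite.stalkRing p O)
      (fun j : ULift.{u} (Fin n) => (ModSite.germ p H U x₀ (secV e.inv j) :
        ModSite.stalkMod p H))) := by
    intro m
    obtain ⟨W, w, g₀, hw, t, ht⟩ := exists_common_sections p H U x₀ (fun _ : PUnit.{u+1} => m)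
    have h1 : homV t = (homV t ≫ (trivRes g₀ e).hom) ≫ (trivRes g₀ e).inv := by
      rw [Category.assoc, Iso.hom_inv_id, Category.comp_id]
    have h2 := secV_comp_of_eq_sum (homV t ≫ (trivRes g₀ e).hom) (trivRes g₀ e).inv PUnit.unit
      (fun j => coord (O := O) (V := W) j
        ((homV t ≫ (trivRes g₀ e).hom).val.app (op (Over.mk (𝟙 W))) (δ W _ PUnit.unit)))
      (eq_sum_coord _)
    rw [← h1, secV_homV] at h2
    simp only [trivRes_inv, secV_resFr] at h2
    refine ⟨fun j => ModSite.germRing p W w (coord (O := O) (V := W) j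
      ((homV t ≫ (trivRes g₀ e).hom).val.app (op (Over.mk (𝟙 W))) (δ W _ PUnit.unit))), ?_⟩
    rw [Fintype.linearCombination_apply, ← ht PUnit.unit, h2, germ_sum]
    refine Finset.sum_congr rfl fun j _ => ?_
    have h3 : ModSite.germ p H W w (H.val.map g₀.op (secV e.inv j)) =
        ModSite.germ p H U x₀ (secV e.inv j) := by
      rw [germ_w, hw]
    rw [ModSite.germ_smul, h3]
  have hinj : Function.Injective (Fintype.linearCombination (ModSite.stalkRing p O)
      (fun j : ULift.{u} (Fin n) => (ModSite.germ p H U x₀ (secV e.inv j) :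
        ModSite.stalkMod p H))) := by
    rw [injective_iff_map_eq_zero]
    intro γ hγ
    rw [Fintype.linearCombination_apply] at hγ
    obtain ⟨W, w, g₀, hw, c, hc⟩ := exists_common_ring_sections p U x₀ γ
    have h1 : ModSite.germ p H W w (∑ j, c j • res O H g₀ (secV e.inv j)) =
        ModSite.germ p H W w 0 := by
      rw [germ_sum, germ_zero, ← hγ]
      refine Finset.sum_congr rfl fun j _ => ?_
      rw [ModSite.germ_smul, hc, germ_res, hw]
    obtain ⟨Y, g, y, hy, hg⟩ := exists_refine_sections p H W w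
      (fun _ : PUnit.{1} => ∑ j, c j • res O H g₀ (secV e.inv j)) (fun _ => 0) (fun _ => h1)
    have h2 : ∑ j, resO O g (c j) • res O H (g ≫ g₀) (secV e.inv j) = 0 := by
      have h := hg PUnit.unit
      have h' : res O H g (∑ j, c j • res O H g₀ (secV e.inv j)) = res O H g 0 := h
      rw [res_sum, res_zero] at h'
      rw [← h']
      refine Finset.sum_congr rfl fun j _ => ?_
      rw [res_smul, res_comp]
    have h3 : matHom (fun (_ : PUnit.{u+1}) j => resO O g (c j)) ≫ (trivRes (g ≫ g₀) e).inv = 0 := by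
      apply secV_ext
      intro k
      rw [secV_matHom_comp, secV_zero]
      simp only [trivRes_inv, secV_resFr]
      exact h2
    have h4 : matHom (O := O) (V := Y) (fun (_ : PUnit.{u+1}) j => resO O g (c j)) = 0 := by
      rw [← cancel_mono (trivRes (g ≫ g₀) e).inv, h3, zero_comp]
    have h5 : ∀ j, resO O g (c j) = 0 := fun j =>
      eq_zero_of_matHom_eq_zero (fun (_ : PUnit.{u+1}) j => resO O g (c j)) h4 PUnit.unit j
    funext j
    have h8 : γ j = ModSite.germRing p Y y (resO O g (c j)) := by
      rw [germRing_resO, hy, hc]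
    rw [h8, h5 j]
    exact germRing_zero p Y y
  exact ⟨(LinearEquiv.ofBijective _ ⟨hinj, hsurj⟩).symm⟩

end stalkFree

section abel

variable {A : Type u} [Category.{v} A] [Abelian A]

/-- the image of a split idempotent as a cokernel. -/
def cokernelOneSubIso {F H : A} (i : F ⟶ H) (p : H ⟶ F) (h : i ≫ p = 𝟙 F) :
    cokernel (𝟙 H - p ≫ i) ≅ F where
  hom := cokernel.desc _ p (by
    rw [Preadditive.sub_comp, Category.id_comp, Category.assoc, h, Category.comp_id, sub_self])
  inv := i ≫ cokernel.π _
  hom_inv_id := by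
    rw [← cancel_epi (cokernel.π (𝟙 H - p ≫ i)), cokernel.π_desc_assoc, Category.comp_id]
    have h0 := cokernel.condition (𝟙 H - p ≫ i)
    rw [Preadditive.sub_comp, Category.id_comp, Category.assoc, sub_eq_zero] at h0
    exact h0.symm
  inv_hom_id := by
    rw [Category.assoc, cokernel.π_desc, h]

end abel

section fp

variable {C : Type u} [SmallCategory C] [HasBinaryProducts C] [HasPullbacks C]
  {J : GrothendieckTopology C} {O : Sheaf J CommRingCat.{u}}

theorem presOn_of_triv {U : C} {H : ModSite.Mod O} {L : Type u} [Finite L]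
    (e : (ModSite.restr O U).obj H ≅ FrI (O.over U) L) : PresOn O H U := by
  refine ⟨PEmpty.{u+1}, L, inferInstance, inferInstance, 0, e.inv, zero_comp, inferInstance, ?_⟩
  rw [ShortComplex.exact_iff_mono _ rfl]
  dsimp
  infer_instance

theorem PresOn.of_iso {F F' : ModSite.Mod O} (e : F ≅ F') {U : C} (h : PresOn O F U) :
    PresOn O F' U := by
  obtain ⟨I₁, I₀, hI₁, hI₀, ψ, π, w, hπ, hex⟩ := h
  refine ⟨I₁, I₀, hI₁, hI₀, ψ, π ≫ (ModSite.restr O U).map e.hom,
    by rw [reassoc_of% w, zero_comp], epi_comp _ _, ?_⟩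
  refine ShortComplex.exact_of_iso ?_ hex
  exact ShortComplex.isoMk (Iso.refl _) (Iso.refl _) ((ModSite.restr O U).mapIso e)
    (by simp) (by simp)

theorem GenOn.of_iso {F F' : ModSite.Mod O} (e : F ≅ F') {U : C} (h : GenOn O F U) :
    GenOn O F' U := by
  obtain ⟨I, hI, π, hπ⟩ := h
  exact ⟨I, hI, π ≫ (ModSite.restr O U).map e.hom, epi_comp _ _⟩

theorem isFinitePresentation_of_iso {F F' : ModSite.Mod O} (e : F ≅ F')
    [SheafOfModules.IsFinitePresentation (R := ModSite.ringSh O) F] :
    SheafOfModules.IsFinitePresentation (R := ModSite.ringSh O) F' := by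
  obtain ⟨I, Y, hY, h⟩ := (isFinitePresentation_iff F).mp inferInstance
  exact (isFinitePresentation_iff F').mpr ⟨I, Y, hY, fun i => (h i).of_iso e⟩

theorem isFiniteType_of_iso {F F' : ModSite.Mod O} (e : F ≅ F')
    [SheafOfModules.IsFiniteType (R := ModSite.ringSh O) F] :
    SheafOfModules.IsFiniteType (R := ModSite.ringSh O) F' := by
  obtain ⟨I, Y, hY, h⟩ := (isFiniteType_iff F).mp inferInstance
  exact (isFiniteType_iff F').mpr ⟨I, Y, hY, fun i => (h i).of_iso e⟩

end fp
end

end Groth.Agent.Lib.Helper21.ModSp
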