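import Mathlib

/-!
# Right exact bifunctors on abelian categories: tensor product of two presentations
(helper21; for the ModSite row S6850)
-/

set_option autoImplicit false
universe v u

open CategoryTheory CategoryTheory.Limits

namespace Groth.Agent.Lib.Helper21.TensorPres

variable {A : Type u} [Category.{v} A] [Abelian A] (T : A ⥤ A ⥤ A)
  [∀ X, (T.obj X).PreservesZeroMorphisms] [∀ X, PreservesFiniteColimits (T.obj X)]
  [∀ Y, (T.flip.obj Y).PreservesZeroMorphisms] [∀ Y, PreservesFiniteColimits (T.flip.obj Y)]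

/-- right exactness in the second variable -/
theorem exact_obj (X : A) {B₁ B₀ G : A} (b : B₁ ⟶ B₀) (q : B₀ ⟶ G) (wb : b ≫ q = 0)
    (hb : (ShortComplex.mk b q wb).Exact) [Epi q] :
    (ShortComplex.mk ((T.obj X).map b) ((T.obj X).map q)
      (by rw [← Functor.map_comp, wb, Functor.map_zero])).Exact :=
  hb.map_of_epi_of_preservesCokernel (T.obj X) (by dsimp; infer_instance) inferInstance

/-- right exactness in the first variable -/
theorem exact_flip (Y : A) {A₁ A₀ F : A} (a : A₁ ⟶ A₀) (p : A₀ ⟶ F) (wa : a ≫ p = 0)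
    (ha : (ShortComplex.mk a p wa).Exact) [Epi p] :
    (ShortComplex.mk ((T.map a).app Y) ((T.map p).app Y)
      (by
        show (T.flip.obj Y).map a ≫ (T.flip.obj Y).map p = 0
        rw [← Functor.map_comp, wa, Functor.map_zero])).Exact :=
  ha.map_of_epi_of_preservesCokernel (T.flip.obj Y) (by dsimp; infer_instance) inferInstance

instance epi_map_app {X X' : A} (p : X ⟶ X') [Epi p] (Y : A) : Epi ((T.map p).app Y) := by
  have : Epi ((T.flip.obj Y).map p) := inferInstance
  exact this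

/-- the tensor product of two presentations is a presentation. -/
theorem exact_tensor {A₁ A₀ F B₁ B₀ G : A} (a : A₁ ⟶ A₀) (p : A₀ ⟶ F) (wa : a ≫ p = 0)
    (ha : (ShortComplex.mk a p wa).Exact) [Epi p]
    (b : B₁ ⟶ B₀) (q : B₀ ⟶ G) (wb : b ≫ q = 0)
    (hb : (ShortComplex.mk b q wb).Exact) [Epi q] :
    ∃ w : biprod.desc ((T.map a).app B₀) ((T.obj A₀).map b) ≫
        ((T.map p).app B₀ ≫ (T.obj F).map q) = 0,
      (ShortComplex.mk (biprod.desc ((T.map a).app B₀) ((T.obj A₀).map b))
        ((T.map p).app B₀ ≫ (T.obj F).map q) w).Exact ∧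
      Epi ((T.map p).app B₀ ≫ (T.obj F).map q) := by
  have h1 := exact_flip T B₀ a p wa ha
  have h2 := exact_obj T F b q wb hb
  have w1 : (T.map a).app B₀ ≫ (T.map p).app B₀ = 0 := by
    show (T.flip.obj B₀).map a ≫ (T.flip.obj B₀).map p = 0
    rw [← Functor.map_comp, wa, Functor.map_zero]
  have w2 : (T.obj F).map b ≫ (T.obj F).map q = 0 := by
    rw [← Functor.map_comp, wb, Functor.map_zero]
  have hnat : (T.obj A₀).map b ≫ (T.map p).app B₀ = (T.map p).app B₁ ≫ (T.obj F).map b :=
    (T.map p).naturality b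
  have w : biprod.desc ((T.map a).app B₀) ((T.obj A₀).map b) ≫
      ((T.map p).app B₀ ≫ (T.obj F).map q) = 0 := by
    apply biprod.hom_ext'
    · rw [biprod.inl_desc_assoc, reassoc_of% w1, zero_comp, comp_zero]
    · rw [biprod.inr_desc_assoc, reassoc_of% hnat, w2, comp_zero, comp_zero]
  haveI : Epi ((T.obj F).map q) := inferInstance
  refine ⟨w, ?_, epi_comp _ _⟩
  rw [ShortComplex.exact_iff_exact_up_to_refinements]
  intro Z x hx
  dsimp at x hx ⊢
  have hx' : (x ≫ (T.map p).app B₀) ≫ (T.obj F).map q = 0 := by rw [Category.assoc]; exact hx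
  obtain ⟨Z₁, e₁, he₁, y, hy⟩ := h2.exact_up_to_refinements _ hx'
  dsimp at y hy
  obtain ⟨Z₂, e₂, he₂, z, hz⟩ := surjective_up_to_refinements_of_epi ((T.map p).app B₁) y
  have h0 : (e₂ ≫ e₁ ≫ x - z ≫ (T.obj A₀).map b) ≫ (T.map p).app B₀ = 0 := by
    rw [Preadditive.sub_comp, Category.assoc, Category.assoc, Category.assoc, hnat,
      ← Category.assoc z, ← hz, Category.assoc, ← hy, sub_self]
  obtain ⟨Z₃, e₃, he₃, t, ht⟩ := h1.exact_up_to_refinements _ h0
  dsimp at t ht
  refine ⟨Z₃, e₃ ≫ e₂ ≫ e₁, inferInstance, biprod.lift t (e₃ ≫ z), ?_⟩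
  rw [biprod.lift_desc, ← ht, Preadditive.comp_sub]
  simp only [Category.assoc]
  abel

end Groth.Agent.Lib.Helper21.TensorPres
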