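import Mathlib
import Groth.Prelude.Def_ModSite
import Groth.Prelude.Def_ModSite2
import Groth.Agent.Lib.Helper21ModSp8
import Groth.Agent.Lib.Helper21ModTensor7
import Groth.Agent.Lib.Helper21ModRestr
import Groth.Agent.Lib.Helper21TensorPres

/-!
# Local generation / presentation / freeness and tensor products
(helper21; for the ModSite row S6850)

* `GenP P`, `PresP P`, `FreeP P` (index types satisfying `P`), invariance under isos and `Gg`;
* `frTensorIso : O^(I) ⊗ O^(K) ≅ O^(I × K)`, `GenP.tensor`, `PresP.tensor`, `FreeP.tensor`;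
* characterisations of Mathlib's `LocalGeneratorsData`, `IsFiniteType`, `IsQuasicoherent`,
  `IsFinitePresentation`, `IsLocallyFree` by covering families;
* `tensor_local` (ringed spaces).
-/

set_option autoImplicit false
universe u v
open CategoryTheory CategoryTheory.Limits Opposite TopologicalSpace

namespace Groth.Agent.Lib.Helper21.ModSp

open Groth.Agent.Lib.Helper21.LocFact Groth.Agent.Lib.Helper21.EqCrit
  Groth.Agent.Lib.Helper21.ModTensor2 Groth.Agent.Lib.Helper21.ModTensor3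
  Groth.Agent.Lib.Helper21.ModTensor5 Groth.Agent.Lib.Helper21.ModTensor7

noncomputable section

section general

variable {C : Type u} [SmallCategory C] {J : GrothendieckTopology C} {O : Sheaf J CommRingCat.{u}}
  (P : Type u → Prop)

/-- free module (no assumption on the site) -/
abbrev Fr' (O : Sheaf J CommRingCat.{u}) (I : Type u) : ModSite.Mod O :=
  SheafOfModules.free (R := ModSite.ringSh O) I

/-- generated by a family of sections indexed by a type satisfying `P`. -/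
def GenP (A : ModSite.Mod O) : Prop :=
  ∃ (I : Type u) (_ : P I) (π : Fr' O I ⟶ A), Epi π

/-- presented by generators and relations indexed by types satisfying `P`. -/
def PresP (A : ModSite.Mod O) : Prop :=
  ∃ (I₁ I₀ : Type u) (_ : P I₁) (_ : P I₀) (ψ : Fr' O I₁ ⟶ Fr' O I₀) (π : Fr' O I₀ ⟶ A)
    (w : ψ ≫ π = 0), Epi π ∧ (ShortComplex.mk ψ π w).Exact

/-- free on a type satisfying `P`. -/
def FreeP (A : ModSite.Mod O) : Prop :=
  ∃ (I : Type u) (_ : P I), Nonempty (A ≅ Fr' O I)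

variable {P}

theorem GenP.of_iso {A B : ModSite.Mod O} (e : A ≅ B) (h : GenP P A) : GenP P B := by
  obtain ⟨I, hI, π, hπ⟩ := h
  exact ⟨I, hI, π ≫ e.hom, epi_comp _ _⟩

theorem PresP.of_iso {A B : ModSite.Mod O} (e : A ≅ B) (h : PresP P A) : PresP P B := by
  obtain ⟨I₁, I₀, hI₁, hI₀, ψ, π, w, hπ, hex⟩ := h
  refine ⟨I₁, I₀, hI₁, hI₀, ψ, π ≫ e.hom, by rw [reassoc_of% w, zero_comp], epi_comp _ _, ?_⟩
  refine ShortComplex.exact_of_iso ?_ hex
  exact ShortComplex.isoMk (Iso.refl _) (Iso.refl _) e (by simp) (by simp)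

theorem FreeP.of_iso {A B : ModSite.Mod O} (e : A ≅ B) (h : FreeP P A) : FreeP P B := by
  obtain ⟨I, hI, ⟨e'⟩⟩ := h
  exact ⟨I, hI, ⟨e.symm ≪≫ e'⟩⟩

/-! ### tensor products -/

/-- `O^(I) ⊗ O^(K) ≅ O^(I × K)`. -/
def frTensorIso (I K : Type u) :
    ((ModSite.tensorBi O).obj (Fr' O I)).obj (Fr' O K) ≅ Fr' O ((_ : I) × K) :=
  haveI : ∀ _ : I, HasCoproduct (fun _ : K => ModSite.unit O) := fun _ => inferInstance
  (PreservesCoproduct.iso (tR O (Fr' O K)) (fun _ : I => ModSite.unit O)) ≪≫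
    (Sigma.mapIso (fun _ : I => (tLUnitIso O).app (Fr' O K))) ≪≫
    (@sigmaSigmaIso _ _ I (fun _ => K) (fun _ _ => ModSite.unit O) (fun _ => inferInstance)
      inferInstance)

theorem GenP.tensor (hP : ∀ I K : Type u, P I → P K → P ((_ : I) × K)) {A B : ModSite.Mod O}
    (hA : GenP P A) (hB : GenP P B) : GenP P (((ModSite.tensorBi O).obj A).obj B) := by
  obtain ⟨I, hI, π, hπ⟩ := hA
  obtain ⟨K, hK, ρ, hρ⟩ := hB
  haveI : Epi (((ModSite.tensorBi O).map π).app (Fr' O K)) :=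
    TensorPres.epi_map_app (ModSite.tensorBi O) π (Fr' O K)
  haveI : Epi (((ModSite.tensorBi O).obj A).map ρ) := inferInstance
  exact ⟨(_ : I) × K, hP I K hI hK,
    (frTensorIso I K).inv ≫ ((ModSite.tensorBi O).map π).app (Fr' O K) ≫
      ((ModSite.tensorBi O).obj A).map ρ, inferInstance⟩

theorem FreeP.tensor (hP : ∀ I K : Type u, P I → P K → P ((_ : I) × K)) {A B : ModSite.Mod O}
    (hA : FreeP P A) (hB : FreeP P B) : FreeP P (((ModSite.tensorBi O).obj A).obj B) := by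
  obtain ⟨I, hI, ⟨e⟩⟩ := hA
  obtain ⟨K, hK, ⟨e'⟩⟩ := hB
  exact ⟨(_ : I) × K, hP I K hI hK,
    ⟨((ModSite.tensorBi O).mapIso e).app B ≪≫ ((ModSite.tensorBi O).obj (Fr' O I)).mapIso e' ≪≫
      frTensorIso I K⟩⟩

/-- `free (I ⊕ K) ≅ free I ⊞ free K`. -/
def frSumIso' (I K : Type u) : Fr' O (I ⊕ K) ≅ Fr' O I ⊞ Fr' O K :=
  (SheafOfModules.freeSumIso (R := ModSite.ringSh O) I K).symm ≪≫ (biprod.isoCoprod _ _).symm

theorem PresP.tensor (hP : ∀ I K : Type u, P I → P K → P ((_ : I) × K))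
    (hP' : ∀ I K : Type u, P I → P K → P (I ⊕ K)) {A B : ModSite.Mod O}
    (hA : PresP P A) (hB : PresP P B) : PresP P (((ModSite.tensorBi O).obj A).obj B) := by
  obtain ⟨I₁, I₀, hI₁, hI₀, ψ, π, w, hπ, hex⟩ := hA
  obtain ⟨K₁, K₀, hK₁, hK₀, ψ', π', w', hπ', hex'⟩ := hB
  obtain ⟨wT, hexT, hepiT⟩ := TensorPres.exact_tensor (ModSite.tensorBi O) ψ π w hex ψ' π' w' hex'
  let e₁ : Fr' O (((_ : I₁) × K₀) ⊕ ((_ : I₀) × K₁)) ≅
      ((ModSite.tensorBi O).obj (Fr' O I₁)).obj (Fr' O K₀) ⊞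
        ((ModSite.tensorBi O).obj (Fr' O I₀)).obj (Fr' O K₁) :=
    frSumIso' _ _ ≪≫ biprod.mapIso (frTensorIso I₁ K₀).symm (frTensorIso I₀ K₁).symm
  let e₀ : Fr' O ((_ : I₀) × K₀) ≅ ((ModSite.tensorBi O).obj (Fr' O I₀)).obj (Fr' O K₀) :=
    (frTensorIso I₀ K₀).symm
  refine ⟨((_ : I₁) × K₀) ⊕ ((_ : I₀) × K₁), (_ : I₀) × K₀,
    hP' _ _ (hP _ _ hI₁ hK₀) (hP _ _ hI₀ hK₁), hP _ _ hI₀ hK₀,
    e₁.hom ≫ biprod.desc (((ModSite.tensorBi O).map ψ).app (Fr' O K₀))
      (((ModSite.tensorBi O).obj (Fr' O I₀)).map ψ') ≫ e₀.inv,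
    e₀.hom ≫ (((ModSite.tensorBi O).map π).app (Fr' O K₀) ≫ ((ModSite.tensorBi O).obj A).map π'),
    ?_, ?_, ?_⟩
  · simp only [Category.assoc, Iso.inv_hom_id_assoc]
    rw [wT, comp_zero]
  · haveI := hepiT
    infer_instance
  · refine ShortComplex.exact_of_iso ?_ hexT
    exact ShortComplex.isoMk e₁.symm e₀.symm (Iso.refl _)
      (by dsimp; simp only [Category.assoc, Iso.inv_hom_id_assoc])
      (by dsimp; simp only [Category.comp_id, Iso.inv_hom_id_assoc])

end general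

section iffs

variable {C : Type u} [SmallCategory C] [HasBinaryProducts C] [HasPullbacks C]
  {J : GrothendieckTopology C} {O : Sheaf J CommRingCat.{u}}

theorem presP_of_presentation {A : ModSite.Mod O} (Pr : A.Presentation) :
    PresP (fun _ => True) A := by
  have hc := Pr.isColimit
  have w : ((SheafOfModules.freeHomEquiv _).symm Pr.relations.s ≫ kernel.ι Pr.generators.π) ≫
      Pr.generators.π = 0 :=
    CokernelCofork.condition (CokernelCofork.ofπ
      (f := (SheafOfModules.freeHomEquiv _).symm Pr.relations.s ≫ kernel.ι Pr.generators.π)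
      Pr.generators.π (by simp))
  exact ⟨Pr.relations.I, Pr.generators.I, trivial, trivial, _, Pr.generators.π, w,
    Pr.generators.epi, ShortComplex.exact_of_g_is_cokernel (ShortComplex.mk _ _ w) hc⟩

theorem nonempty_localGeneratorsData_iff (F : ModSite.Mod O) :
    Nonempty (SheafOfModules.LocalGeneratorsData.{u} (R := ModSite.ringSh O) F) ↔
      ∃ (I : Type u) (X : I → C), J.CoversTop X ∧
        ∀ i, GenP (fun _ => True) ((ModSite.restr O (X i)).obj F) := by
  constructor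
  · rintro ⟨σ⟩
    exact ⟨σ.I, σ.X, σ.coversTop, fun i =>
      ⟨(σ.generators i).I, trivial, (σ.generators i).π, (σ.generators i).epi⟩⟩
  · rintro ⟨I, X, hX, h⟩
    choose K hK π hπ using h
    exact ⟨lgd F I X hX (fun i => generatingSectionsOfEpi (π i) (hπ i))⟩

theorem isFiniteType_iff' (F : ModSite.Mod O) :
    SheafOfModules.IsFiniteType (R := ModSite.ringSh O) F ↔
      ∃ (I : Type u) (X : I → C), J.CoversTop X ∧
        ∀ i, GenP Finite ((ModSite.restr O (X i)).obj F) :=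
  isFiniteType_iff F

theorem isFinitePresentation_iff' (F : ModSite.Mod O) :
    SheafOfModules.IsFinitePresentation (R := ModSite.ringSh O) F ↔
      ∃ (I : Type u) (X : I → C), J.CoversTop X ∧
        ∀ i, PresP Finite ((ModSite.restr O (X i)).obj F) :=
  isFinitePresentation_iff F

theorem isQuasicoherent_iff (F : ModSite.Mod O) :
    SheafOfModules.IsQuasicoherent (R := ModSite.ringSh O) F ↔
      ∃ (I : Type u) (X : I → C), J.CoversTop X ∧
        ∀ i, PresP (fun _ => True) ((ModSite.restr O (X i)).obj F) := by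
  constructor
  · rintro ⟨⟨σ⟩⟩
    exact ⟨σ.I, σ.X, σ.coversTop, fun i => presP_of_presentation (σ.presentation i)⟩
  · rintro ⟨I, X, hX, h⟩
    choose I₁ I₀ hI₁ hI₀ ψ π w hπ hex using h
    exact { nonempty_quasicoherentData :=
      ⟨qcd F I X hX (fun i => SheafOfModules.presentationOfIsCokernelFree (ψ i) (π i) (w i)
        (haveI := hπ i; (hex i).gIsCokernel))⟩ }

theorem isLocallyFree_iff (F : ModSite.Mod O) :
    SheafOfModules.IsLocallyFree (R := ModSite.ringSh O) F ↔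
      ∃ (I : Type u) (X : I → C), J.CoversTop X ∧
        ∀ i, FreeP (fun _ => True) ((ModSite.restr O (X i)).obj F) := by
  constructor
  · rintro ⟨q, hq⟩
    refine ⟨q.I, q.X, q.coversTop, fun i => ?_⟩
    haveI := hq.isIso i
    exact ⟨(q.generators i).I, trivial, ⟨(asIso (q.generators i).π).symm⟩⟩
  · rintro ⟨I, X, hX, h⟩
    choose K hK e using h
    let q : SheafOfModules.LocalGeneratorsData.{u} F :=
      lgd F I X hX (fun i => generatingSectionsOfEpi (e i).some.inv inferInstance)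
    have hq : q.IsLocallyFreeData :=
      { isIso := fun i => by
          have h1 : (q.generators i).π = (e i).some.inv :=
            (SheafOfModules.freeHomEquiv _).symm_apply_apply _
          rw [h1]
          infer_instance }
    exact { exists_isLocallyFreeData := ⟨q, hq⟩ }

end iffs

section restrict

variable {C : Type u} [SmallCategory C] [HasBinaryProducts C] [HasPullbacks C]
  {J : GrothendieckTopology C} {O : Sheaf J CommRingCat.{u}} {P : Type u → Prop}

theorem GenP.map_Gg {U V : C} (g : V ⟶ U) {A : ModSite.Mod (O.over U)} (h : GenP P A) :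
    GenP P ((Gg O g).obj A) := by
  obtain ⟨I, hI, π, hπ⟩ := h
  haveI : Epi ((Gg O g).map π) := inferInstance
  exact ⟨I, hI, (GgFrIso g I).hom ≫ (Gg O g).map π, inferInstance⟩

theorem PresP.map_Gg {U V : C} (g : V ⟶ U) {A : ModSite.Mod (O.over U)} (h : PresP P A) :
    PresP P ((Gg O g).obj A) := by
  obtain ⟨I₁, I₀, hI₁, hI₀, ψ, π, w, hπ, hex⟩ := h
  haveI : Epi ((Gg O g).map π) := inferInstance
  have w' : resFrFr g ψ ≫ ((GgFrIso g I₀).hom ≫ (Gg O g).map π) = 0 := by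
    unfold resFrFr
    simp only [Category.assoc, Iso.inv_hom_id_assoc]
    rw [← Functor.map_comp, w, Functor.map_zero, comp_zero]
  refine ⟨I₁, I₀, hI₁, hI₀, resFrFr g ψ, (GgFrIso g I₀).hom ≫ (Gg O g).map π, w',
    inferInstance, ?_⟩
  have h1 : ((ShortComplex.mk ψ π w).map (Gg O g)).Exact := hex.map (Gg O g)
  refine ShortComplex.exact_of_iso ?_ h1
  refine ShortComplex.isoMk (GgFrIso g I₁).symm (GgFrIso g I₀).symm (Iso.refl _) ?_ ?_
  · change (GgFrIso g I₁).inv ≫ resFrFr g ψ = (Gg O g).map ψ ≫ (GgFrIso g I₀).inv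
    unfold resFrFr
    rw [Iso.inv_hom_id_assoc]
  · change (GgFrIso g I₀).inv ≫ (GgFrIso g I₀).hom ≫ (Gg O g).map π = (Gg O g).map π ≫ 𝟙 _
    rw [Iso.inv_hom_id_assoc, Category.comp_id]

theorem FreeP.map_Gg {U V : C} (g : V ⟶ U) {A : ModSite.Mod (O.over U)} (h : FreeP P A) :
    FreeP P ((Gg O g).obj A) := by
  obtain ⟨I, hI, ⟨e⟩⟩ := h
  exact ⟨I, hI, ⟨(Gg O g).mapIso e ≪≫ (GgFrIso g I).symm⟩⟩

end restrict

section space

variable {X : TopCat.{u}} {O : TopCat.Sheaf CommRingCat.{u} X}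

/-- combining local properties of `F` and `G` into one of `F ⊗ G`. -/
theorem tensor_local (Q : ∀ U : Opens X, ModSite.Mod (O.over U) → Prop)
    (hiso : ∀ (U : Opens X) (A B : ModSite.Mod (O.over U)), (A ≅ B) → Q U A → Q U B)
    (hGg : ∀ (U V : Opens X) (g : V ⟶ U) (A : ModSite.Mod (O.over U)), Q U A →
      Q V ((Gg O g).obj A))
    (htens : ∀ (U : Opens X) (A B : ModSite.Mod (O.over U)), Q U A → Q U B →
      Q U (((ModSite.tensorBi (O.over U)).obj A).obj B))
    (F G : ModSite.Mod O)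
    (hF : ∃ (I : Type u) (Y : I → Opens X), (Opens.grothendieckTopology X).CoversTop Y ∧
      ∀ i, Q (Y i) ((ModSite.restr O (Y i)).obj F))
    (hG : ∃ (I : Type u) (Y : I → Opens X), (Opens.grothendieckTopology X).CoversTop Y ∧
      ∀ i, Q (Y i) ((ModSite.restr O (Y i)).obj G)) :
    ∃ (I : Type u) (Y : I → Opens X), (Opens.grothendieckTopology X).CoversTop Y ∧
      ∀ i, Q (Y i) ((ModSite.restr O (Y i)).obj (((ModSite.tensorBi O).obj F).obj G)) := by
  obtain ⟨I, Y, hY, hF⟩ := hF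
  obtain ⟨I', Y', hY', hG⟩ := hG
  rw [coversTop_iff] at hY hY'
  refine ⟨I × I', fun p => Y p.1 ⊓ Y' p.2, ?_, ?_⟩
  · rw [coversTop_iff]
    intro x
    obtain ⟨i, hi⟩ := hY x
    obtain ⟨i', hi'⟩ := hY' x
    exact ⟨(i, i'), hi, hi'⟩
  · rintro ⟨i, i'⟩
    have h1 : Q (Y i ⊓ Y' i') ((ModSite.restr O (Y i ⊓ Y' i')).obj F) :=
      hiso _ _ _ (GgRestrIso (homOfLE inf_le_left : Y i ⊓ Y' i' ⟶ Y i) F) (hGg _ _ _ _ (hF i))
    have h2 : Q (Y i ⊓ Y' i') ((ModSite.restr O (Y i ⊓ Y' i')).obj G) :=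
      hiso _ _ _ (GgRestrIso (homOfLE inf_le_right : Y i ⊓ Y' i' ⟶ Y' i') G)
        (hGg _ _ _ _ (hG i'))
    exact hiso _ _ _ (Groth.Agent.Lib.Helper21.ModRestr.restrTensorIso O (Y i ⊓ Y' i') F G).symm
      (htens _ _ _ h1 h2)

end space
end

end Groth.Agent.Lib.Helper21.ModSp
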