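import Mathlib
import Groth.Prelude.Def_ModSite

/-!
# Helper21: `f^* O_D ≅ O_C` for a morphism of ringed sites whose sheaf pullback preserves the
terminal object (helper21; for ModSite rows S9045 ff.)
-/

set_option autoImplicit false
universe u
open CategoryTheory CategoryTheory.Limits Opposite

namespace Groth.Agent.Lib.Helper21.PullUnit

noncomputable section

variable {C D : Type u} [SmallCategory C] [SmallCategory D]
  {J : GrothendieckTopology C} {K : GrothendieckTopology D} {F : C ⥤ D}
  {S : Sheaf J RingCat.{u}} {R : Sheaf K RingCat.{u}} [F.IsContinuous J K]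
  (φ : S ⟶ (F.sheafPushforwardContinuous RingCat.{u} J K).obj R)

/-- terminal sheaf of types -/
abbrev Tm {E : Type u} [SmallCategory E] (L : GrothendieckTopology E) : Sheaf L (Type u) :=
  Sheaf.terminal L Types.isTerminalPUnit

/-- underlying sheaf of types of a sheaf of modules -/
def tSh {E : Type u} [SmallCategory E] {L : GrothendieckTopology E} {T : Sheaf L RingCat.{u}}
    (M : SheafOfModules.{u} T) : Sheaf L (Type u) :=
  (sheafCompose L (forget AddCommGrpCat.{u})).obj ((SheafOfModules.toSheaf T).obj M)

/-- sections as maps from the terminal sheaf. -/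
def secHom {E : Type u} [SmallCategory E] {L : GrothendieckTopology E} {T : Sheaf L RingCat.{u}}
    (M : SheafOfModules.{u} T) : M.sections ≃ (Tm L ⟶ tSh M) where
  toFun s := ⟨{ app := fun X => ↾(fun _ => s.val X)
                naturality := fun X Y f => by
                  ext x
                  exact (s.property f).symm }⟩
  invFun g := ⟨fun X => g.hom.app X PUnit.unit, fun {X Y} f => by
    exact (ConcreteCategory.congr_hom (g.hom.naturality f) PUnit.unit).symm⟩
  left_inv s := rfl
  right_inv g := by
    apply Sheaf.hom_ext
    ext X x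
    cases x
    rfl

theorem secHom_apply {E : Type u} [SmallCategory E] {L : GrothendieckTopology E}
    {T : Sheaf L RingCat.{u}} (M : SheafOfModules.{u} T) (s : M.sections) (X : Eᵒᵖ)
    (x : (Tm L).obj.obj X) :
    (secHom M s).hom.app X x = s.val X := rfl


variable [PreservesLimit (Functor.empty.{0} (Sheaf J (Type u))) (F.sheafPullback (Type u) J K)]

/-- the terminal sheaf on the target is the pullback of the terminal sheaf. -/
def tmIso : Tm K ≅ (F.sheafPullback (Type u) J K).obj (Tm J) :=
  (Sheaf.isTerminalTerminal K Types.isTerminalPUnit).uniqueUpToIso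
    (IsTerminal.isTerminalObj (F.sheafPullback (Type u) J K) _
      (Sheaf.isTerminalTerminal J Types.isTerminalPUnit))

/-- sections of the pushforward as maps from the terminal sheaf into the pushed forward sheaf of
types. -/
def secHomPush (M : SheafOfModules.{u} R) :
    ((SheafOfModules.pushforward.{u} φ).obj M).sections ≃
      (Tm J ⟶ (F.sheafPushforwardContinuous (Type u) J K).obj (tSh M)) where
  toFun s := ⟨{ app := fun X => ↾(fun _ => s.val X)
                naturality := fun X Y f => by
                  ext x
                  exact (s.property f).symm }⟩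
  invFun g := ⟨fun X => g.hom.app X PUnit.unit, fun {X Y} f => by
    exact (ConcreteCategory.congr_hom (g.hom.naturality f) PUnit.unit).symm⟩
  left_inv s := rfl
  right_inv g := by
    apply Sheaf.hom_ext
    ext X x
    cases x
    rfl

/-- the composite bijection `Γ(M) ≃ Γ(f_* M)`. -/
def pushSecEquiv (M : SheafOfModules.{u} R) :
    M.sections ≃ ((SheafOfModules.pushforward.{u} φ).obj M).sections :=
  (secHom M).trans <|
    (Iso.homFromEquiv (tmIso (F := F) (J := J) (K := K))).trans <|
      ((F.sheafAdjunctionContinuous (Type u) J K).homEquiv (Tm J) (tSh M)).trans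
        (secHomPush φ M).symm

theorem pushSecEquiv_eq (M : SheafOfModules.{u} R) (s : M.sections) :
    pushSecEquiv φ M s = SheafOfModules.pushforwardSections φ s := by
  apply Subtype.ext
  funext X
  change ((F.sheafAdjunctionContinuous (Type u) J K).homEquiv (Tm J) (tSh M)
    ((tmIso (F := F) (J := J) (K := K)).inv ≫ secHom M s)).hom.app X PUnit.unit = s.val _
  rw [Adjunction.homEquiv_unit]
  rfl

theorem bijective_pushforwardSections (M : SheafOfModules.{u} R) :
    Function.Bijective (SheafOfModules.pushforwardSections φ (M := M)) := by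
  have h : SheafOfModules.pushforwardSections φ (M := M) = pushSecEquiv φ M :=
    funext fun s => (pushSecEquiv_eq φ M s).symm
  rw [h]
  exact (pushSecEquiv φ M).bijective

variable [(SheafOfModules.pushforward.{u} φ).IsRightAdjoint]

/-- `f^* O_D ⟶ O_C` is an isomorphism when `f⁻¹` preserves the terminal sheaf. -/
theorem isIso_pullbackObjUnitToUnit : IsIso (SheafOfModules.pullbackObjUnitToUnit φ) := by
  rw [isIso_iff_coyoneda_map_bijective]
  intro M
  rw [← ((SheafOfModules.pullbackPushforwardAdjunction.{u} φ).homEquiv _ _).bijective.of_comp_iff',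
    ← (SheafOfModules.unitHomEquiv _).bijective.of_comp_iff']
  convert! (bijective_pushforwardSections φ M).comp (SheafOfModules.unitHomEquiv _).bijective
  ext f : 1
  dsimp
  rw [SheafOfModules.pushforwardSections_unitHomEquiv, EmbeddingLike.apply_eq_iff_eq,
    Adjunction.homEquiv_naturality_right,
    SheafOfModules.pullbackPushforwardAdjunction_homEquiv_pullbackObjUnitToUnit]

/-- `f^* O_D ≅ O_C`. -/
def pullUnitIso : (SheafOfModules.pullback.{u} φ).obj (SheafOfModules.unit S) ≅
    SheafOfModules.unit R :=
  haveI := isIso_pullbackObjUnitToUnit φ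
  asIso (SheafOfModules.pullbackObjUnitToUnit φ)

/-- `f^* O_D^(I) ≅ O_C^(I)`. -/
def pullFreeIso (I : Type u) :
    (SheafOfModules.pullback.{u} φ).obj (SheafOfModules.free I) ≅ SheafOfModules.free I :=
  (asIso (sigmaComparison _ _)).symm ≪≫ Sigma.mapIso (fun _ ↦ pullUnitIso φ)

set_option backward.isDefEq.respectTransparency false in
theorem pull_map_ιFree_comp_pullFreeIso_hom {I : Type u} (i : I) :
    (SheafOfModules.pullback.{u} φ).map (SheafOfModules.ιFree i) ≫ (pullFreeIso φ I).hom =
      SheafOfModules.pullbackObjUnitToUnit φ ≫ SheafOfModules.ιFree i := by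
  simp [pullFreeIso, pullUnitIso, SheafOfModules.ιFree]

end

end Groth.Agent.Lib.Helper21.PullUnit
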