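import Mathlib
import Groth.Prelude.Def_ModSite
import Groth.Agent.Lib.Helper21RestrExact
import Groth.Agent.Lib.Helper21ModRestr

set_option autoImplicit false
universe u
open CategoryTheory CategoryTheory.Limits Opposite

namespace Groth.Agent.Lib.Helper21.RestrColim

open Groth.Agent.Lib.Helper21.ModTensor2 Groth.Agent.Lib.Helper21.ModTensor3
  Groth.Agent.Lib.Helper21.ModRestr

variable {C : Type u} [SmallCategory C] {J : GrothendieckTopology C} (O : Sheaf J CommRingCat.{u})
  (U : C)

theorem shfResIso_hom (Q : PM O) :
    (shfResIso O U Q).hom = (shf (O.over U)).map ((resP O U).map (eta O Q)) ≫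
      (adj (O.over U)).counit.app ((ModSite.restr O U).obj ((shf O).obj Q)) := rfl

theorem shfRes_nat {Q Q' : PM O} (f : Q ⟶ Q') :
    (shf (O.over U)).map ((resP O U).map f) ≫ (shfResIso O U Q').hom =
      (shfResIso O U Q).hom ≫ (ModSite.restr O U).map ((shf O).map f) := by
  rw [shfResIso_hom, shfResIso_hom]
  have e0 : f ≫ eta O Q' = eta O Q ≫ (fgt O).map ((shf O).map f) := (adj O).unit.naturality f
  have e1 : (resP O U).map f ≫ (resP O U).map (eta O Q') =
      (resP O U).map (eta O Q) ≫ (fgt (O.over U)).map ((ModSite.restr O U).map ((shf O).map f)) :=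
    (((resP O U).map_comp f (eta O Q')).symm.trans (congrArg (resP O U).map e0)).trans
      ((resP O U).map_comp (eta O Q) _)
  have e2 : (shf (O.over U)).map ((fgt (O.over U)).map ((ModSite.restr O U).map ((shf O).map f))) ≫
      (adj (O.over U)).counit.app ((ModSite.restr O U).obj ((shf O).obj Q')) =
      (adj (O.over U)).counit.app ((ModSite.restr O U).obj ((shf O).obj Q)) ≫
        (ModSite.restr O U).map ((shf O).map f) :=
    (adj (O.over U)).counit.naturality ((ModSite.restr O U).map ((shf O).map f))
  have e3 : (shf (O.over U)).map ((resP O U).map f) ≫ (shf (O.over U)).map ((resP O U).map (eta O Q')) =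
      (shf (O.over U)).map ((resP O U).map (eta O Q)) ≫
        (shf (O.over U)).map ((fgt (O.over U)).map ((ModSite.restr O U).map ((shf O).map f))) :=
    (((shf (O.over U)).map_comp _ _).symm.trans (congrArg (shf (O.over U)).map e1)).trans
      ((shf (O.over U)).map_comp _ _)
  calc _ = ((shf (O.over U)).map ((resP O U).map f) ≫
          (shf (O.over U)).map ((resP O U).map (eta O Q'))) ≫
        (adj (O.over U)).counit.app ((ModSite.restr O U).obj ((shf O).obj Q')) :=
        (Category.assoc _ _ _).symm
    _ = ((shf (O.over U)).map ((resP O U).map (eta O Q)) ≫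
        (shf (O.over U)).map ((fgt (O.over U)).map ((ModSite.restr O U).map ((shf O).map f)))) ≫
        (adj (O.over U)).counit.app ((ModSite.restr O U).obj ((shf O).obj Q')) :=
        congrArg (· ≫ (adj (O.over U)).counit.app ((ModSite.restr O U).obj ((shf O).obj Q'))) e3
    _ = (shf (O.over U)).map ((resP O U).map (eta O Q)) ≫
        ((shf (O.over U)).map ((fgt (O.over U)).map ((ModSite.restr O U).map ((shf O).map f))) ≫
        (adj (O.over U)).counit.app ((ModSite.restr O U).obj ((shf O).obj Q'))) :=
        Category.assoc _ _ _
    _ = (shf (O.over U)).map ((resP O U).map (eta O Q)) ≫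
        ((adj (O.over U)).counit.app ((ModSite.restr O U).obj ((shf O).obj Q)) ≫
        (ModSite.restr O U).map ((shf O).map f)) :=
        congrArg ((shf (O.over U)).map ((resP O U).map (eta O Q)) ≫ ·) e2
    _ = _ := (Category.assoc _ _ _).symm

/-- `a_U ∘ (-)|_U ≅ (-)|_U ∘ a`, naturally. -/
noncomputable def shfResNatIso : resP O U ⋙ shf (O.over U) ≅ shf O ⋙ ModSite.restr O U :=
  NatIso.ofComponents (fun Q => shfResIso O U Q) (fun {Q Q'} f => shfRes_nat O U f)

instance resP_preservesColimitsOfShape (K : Type u) [SmallCategory K] :
    PreservesColimitsOfShape K (resP O U) where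
  preservesColimit {F} := by
    constructor
    intro c hc
    constructor
    refine PresheafOfModules.evaluationJointlyReflectsColimits _ _ (fun A => ?_)
    have h1 : IsColimit ((PresheafOfModules.evaluation _ (op A.unop.left)).mapCocone c) :=
      isColimitOfPreserves _ hc
    exact isColimitOfPreserves (ModuleCat.restrictScalars _) h1

instance restr_preservesColimitsOfShape (K : Type u) [SmallCategory K] :
    PreservesColimitsOfShape K (ModSite.restr O U) := by
  haveI : PreservesColimitsOfShape K (shf O ⋙ ModSite.restr O U) :=
    preservesColimitsOfShape_of_natIso (shfResNatIso O U)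
  exact preservesColimitsOfShape_of_shf_comp O K (ModSite.restr O U)

instance restr_preservesColimits : PreservesColimitsOfSize.{u, u} (ModSite.restr O U) :=
  ⟨inferInstance⟩

/-- `j^*` has a right adjoint `j_*`. -/
theorem restr_isLeftAdjoint : (ModSite.restr O U).IsLeftAdjoint :=
  isLeftAdjoint_of_preservesColimits O (ModSite.restr O U)

end Groth.Agent.Lib.Helper21.RestrColim
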