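import Groth.Agent.Lib.Helper9ExtZero

/-!
# Extension by zero for presheaves and sheaves of modules on a localized site (helper9)
-/

set_option autoImplicit false

universe w v₁ u₁ u'

open CategoryTheory Limits Opposite

namespace Groth.Agent.Lib.Helper9.ExtZero

open scoped DirectSum

section PresheafOfModules

attribute [local instance] Classical.propDecidable

variable {C : Type u₁} [Category.{v₁} C] {X : C} {R₀ : Cᵒᵖ ⥤ RingCat.{u'}}

/-- the restriction of the presheaf of rings to `Over X` -/
abbrev RX (X : C) (R₀ : Cᵒᵖ ⥤ RingCat.{u'}) : (Over X)ᵒᵖ ⥤ RingCat.{u'} :=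
  (Over.forget X).op ⋙ R₀

variable (M : PresheafOfModules.{max v₁ w} (RX X R₀))

noncomputable instance summandModule (U : C) (φ : U ⟶ X) :
    Module (R₀.obj (op U)) (summand X M.presheaf U φ) :=
  inferInstanceAs (Module ((RX X R₀).obj (op (Over.mk φ))) (M.presheaf.obj (op (Over.mk φ))))

noncomputable instance secModule (U : Cᵒᵖ) : Module (R₀.obj U) ((extZeroObj M.presheaf).obj U) :=
  inferInstanceAs (Module (R₀.obj (op U.unop)) (Sec X M.presheaf U.unop))

lemma smul_of (U : C) (r : R₀.obj (op U)) (φ : U ⟶ X) (x : summand X M.presheaf U φ) :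
    (r • (DirectSum.of (summand X M.presheaf U) φ x : Sec X M.presheaf U) : Sec X M.presheaf U) =
      DirectSum.of (summand X M.presheaf U) φ (r • x) :=
  (DirectSum.of_smul _ _ _ _).symm

lemma res_smul {U V : C} (g : V ⟶ U) (r : R₀.obj (op U)) (s : Sec X M.presheaf U) :
    res M.presheaf g (r • s) = (R₀.map g.op).hom r • res M.presheaf g s := by
  induction s using DirectSum.induction_on with
  | zero => simp
  | of φ x =>
    rw [smul_of, res_of M.presheaf g φ _ rfl, res_of M.presheaf g φ _ rfl, smul_of]
    congr 1
    exact M.map_smul (Over.homMk g rfl : Over.mk (g ≫ φ) ⟶ Over.mk φ).op r x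
  | add s t hs ht => simp only [smul_add, map_add, hs, ht]

/-- extension by zero of a presheaf of modules -/
noncomputable def extZeroModObj : PresheafOfModules.{max v₁ w} R₀ :=
  PresheafOfModules.ofPresheaf (extZeroObj M.presheaf)
    (fun U V f r m => res_smul M f.unop r m)

variable {M}

lemma secMap_smul {M' : PresheafOfModules.{max v₁ w} (RX X R₀)} (τ : M ⟶ M') (U : C)
    (r : R₀.obj (op U)) (s : Sec X M.presheaf U) :
    secMap (N := M.presheaf) (N' := M'.presheaf) ((PresheafOfModules.toPresheaf _).map τ) U
        (r • s) =
      r • secMap (N := M.presheaf) (N' := M'.presheaf) ((PresheafOfModules.toPresheaf _).map τ)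
        U s := by
  induction s using DirectSum.induction_on with
  | zero => simp
  | of φ x =>
    rw [smul_of, secMap_of, secMap_of, smul_of]
    congr 1
    exact (τ.app (op (Over.mk φ))).hom.map_smul r x
  | add s t hs ht => simp only [smul_add, map_add, hs, ht]

/-- extension by zero of presheaves of modules, on morphisms -/
noncomputable def extZeroModMap {M' : PresheafOfModules.{max v₁ w} (RX X R₀)} (τ : M ⟶ M') :
    extZeroModObj M ⟶ extZeroModObj M' :=
  PresheafOfModules.homMk (extZeroMap ((PresheafOfModules.toPresheaf _).map τ))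
    (fun U r m => secMap_smul τ U.unop r m)

lemma toPresheaf_map_extZeroModMap {M' : PresheafOfModules.{max v₁ w} (RX X R₀)} (τ : M ⟶ M') :
    (PresheafOfModules.toPresheaf _).map (extZeroModMap τ) =
      extZeroMap ((PresheafOfModules.toPresheaf _).map τ) := rfl

variable (X R₀) in
/-- extension by zero of presheaves of modules -/
noncomputable def extZeroMod :
    PresheafOfModules.{max v₁ w} (RX X R₀) ⥤ PresheafOfModules.{max v₁ w} R₀ where
  obj M := extZeroModObj M
  map τ := extZeroModMap τ
  map_id M := by
    apply (PresheafOfModules.toPresheaf _).map_injective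
    rw [toPresheaf_map_extZeroModMap, (PresheafOfModules.toPresheaf _).map_id,
      (PresheafOfModules.toPresheaf _).map_id]
    exact (extZero.{w} X).map_id M.presheaf
  map_comp τ σ := by
    apply (PresheafOfModules.toPresheaf _).map_injective
    rw [toPresheaf_map_extZeroModMap, (PresheafOfModules.toPresheaf _).map_comp,
      (PresheafOfModules.toPresheaf _).map_comp, toPresheaf_map_extZeroModMap,
      toPresheaf_map_extZeroModMap]
    exact (extZero.{w} X).map_comp _ _

/-- compatibility with the forgetful functors to abelian presheaves -/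
noncomputable def extZeroModCompToPresheaf :
    extZeroMod.{w} X R₀ ⋙ PresheafOfModules.toPresheaf R₀ ≅
      PresheafOfModules.toPresheaf (RX X R₀) ⋙ extZero.{w} X :=
  Iso.refl _

/-- restriction of presheaves of modules to `Over X` -/
noncomputable abbrev restrMod (X : C) (R₀ : Cᵒᵖ ⥤ RingCat.{u'}) :
    PresheafOfModules.{max v₁ w} R₀ ⥤ PresheafOfModules.{max v₁ w} (RX X R₀) :=
  PresheafOfModules.pushforward (F := Over.forget X) (𝟙 (RX X R₀))

/-- the underlying map of abelian presheaves of a map into a restricted presheaf of modules -/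
noncomputable def underR (P : PresheafOfModules.{max v₁ w} R₀)
    (β : M ⟶ (restrMod.{w} X R₀).obj P) : M.presheaf ⟶ (Over.forget X).op ⋙ P.presheaf :=
  (PresheafOfModules.toPresheaf _).map β

/-- the underlying map of abelian presheaves of a map out of an extension by zero -/
noncomputable def underL (P : PresheafOfModules.{max v₁ w} R₀)
    (α : (extZeroMod.{w} X R₀).obj M ⟶ P) : (extZero.{w} X).obj M.presheaf ⟶ P.presheaf :=
  (PresheafOfModules.toPresheaf _).map α

lemma underR_app_apply (P : PresheafOfModules.{max v₁ w} R₀)
    (β : M ⟶ (restrMod.{w} X R₀).obj P) (Y : (Over X)ᵒᵖ) (x : M.obj Y) :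
    ((underR P β).app Y).hom x = (β.app Y).hom x := rfl

lemma underL_app_apply (P : PresheafOfModules.{max v₁ w} R₀)
    (α : (extZeroMod.{w} X R₀).obj M ⟶ P) (U : Cᵒᵖ) (s : Sec X M.presheaf U.unop) :
    ((underL P α).app U).hom s = (α.app U).hom s := rfl

lemma map_smul_of_of {A : Type*} [AddCommGroup A] (U : C) [Module (R₀.obj (op U)) A]
    (d : Sec X M.presheaf U →+ A) (r : R₀.obj (op U))
    (h : ∀ (φ : U ⟶ X) (x : summand X M.presheaf U φ),
      d (DirectSum.of (summand X M.presheaf U) φ (r • x)) =
        r • d (DirectSum.of (summand X M.presheaf U) φ x))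
    (s : Sec X M.presheaf U) : d (r • s) = r • d s := by
  induction s using DirectSum.induction_on with
  | zero => rw [smul_zero, map_zero, smul_zero]
  | of φ x => rw [smul_of, h]
  | add s t hs ht => rw [smul_add, map_add, map_add, hs, ht, smul_add]

lemma descSec_smul (P : PresheafOfModules.{max v₁ w} R₀)
    (β : M ⟶ (restrMod.{w} X R₀).obj P) (U : C) (r : R₀.obj (op U))
    (s : Sec X M.presheaf U) :
    (descSec M.presheaf P.presheaf (underR P β) (op U)).hom ((r • s : Sec X M.presheaf U)) =
      (r • ((descSec M.presheaf P.presheaf (underR P β) (op U)).hom s : P.obj (op U)) :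
        P.obj (op U)) := by
  refine map_smul_of_of (M := M) (A := P.obj (op U)) U
    (descSec M.presheaf P.presheaf (underR P β) (op U)).hom r (fun φ x => ?_) s
  refine (descSec_of M.presheaf P.presheaf (underR P β) (op U) φ (r • x)).trans ?_
  refine ((β.app (op (Over.mk φ))).hom.map_smul r x).trans ?_
  exact congrArg (fun t : P.obj (op U) => r • t)
    (descSec_of M.presheaf P.presheaf (underR P β) (op U) φ x).symm

lemma ιSec_smul (P : PresheafOfModules.{max v₁ w} R₀)
    (α : (extZeroMod.{w} X R₀).obj M ⟶ P) (U : C) (φ : U ⟶ X) (r : R₀.obj (op U))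
    (m : summand X M.presheaf U φ) :
    (α.app (op U)).hom (DirectSum.of (summand X M.presheaf U) φ (r • m)) =
      (r • ((α.app (op U)).hom (DirectSum.of (summand X M.presheaf U) φ m) : P.obj (op U)) :
        P.obj (op U)) := by
  rw [← smul_of]
  exact (α.app (op U)).hom.map_smul r _

/-- transpose, from left to right -/
noncomputable def toR (P : PresheafOfModules.{max v₁ w} R₀)
    (α : (extZeroMod.{w} X R₀).obj M ⟶ P) : M ⟶ (restrMod.{w} X R₀).obj P :=
  PresheafOfModules.homMk (homEquiv M.presheaf P.presheaf (underL P α))
    (fun Y r m => ιSec_smul P α Y.unop.left Y.unop.hom r m)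

/-- transpose, from right to left -/
noncomputable def toL (P : PresheafOfModules.{max v₁ w} R₀)
    (β : M ⟶ (restrMod.{w} X R₀).obj P) : (extZeroMod.{w} X R₀).obj M ⟶ P :=
  PresheafOfModules.homMk ((homEquiv M.presheaf P.presheaf).symm (underR P β))
    (fun U r s => descSec_smul P β U.unop r s)

lemma underR_toR (P : PresheafOfModules.{max v₁ w} R₀)
    (α : (extZeroMod.{w} X R₀).obj M ⟶ P) :
    underR P (toR P α) = homEquiv M.presheaf P.presheaf (underL P α) := rfl

lemma underL_toL (P : PresheafOfModules.{max v₁ w} R₀)
    (β : M ⟶ (restrMod.{w} X R₀).obj P) :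
    underL P (toL P β) = (homEquiv M.presheaf P.presheaf).symm (underR P β) := rfl

lemma underR_injective (P : PresheafOfModules.{max v₁ w} R₀) :
    Function.Injective (underR (M := M) P) :=
  (PresheafOfModules.toPresheaf _).map_injective

lemma underL_injective (P : PresheafOfModules.{max v₁ w} R₀) :
    Function.Injective (underL (M := M) P) :=
  (PresheafOfModules.toPresheaf _).map_injective

variable (M) in
/-- the hom equivalence for presheaves of modules -/
noncomputable def homEquivMod (P : PresheafOfModules.{max v₁ w} R₀) :
    ((extZeroMod.{w} X R₀).obj M ⟶ P) ≃ (M ⟶ (restrMod.{w} X R₀).obj P) where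
  toFun α := toR P α
  invFun β := toL P β
  left_inv α := by
    apply underL_injective
    rw [underL_toL, underR_toR, Equiv.symm_apply_apply]
  right_inv β := by
    apply underR_injective
    rw [underR_toR, underL_toL, Equiv.apply_symm_apply]

lemma underR_comp {M' : PresheafOfModules.{max v₁ w} (RX X R₀)}
    (P : PresheafOfModules.{max v₁ w} R₀) (τ : M ⟶ M') (β : M' ⟶ (restrMod.{w} X R₀).obj P) :
    underR P (τ ≫ β) = (PresheafOfModules.toPresheaf _).map τ ≫ underR P β :=
  (PresheafOfModules.toPresheaf _).map_comp τ β

lemma underL_map_comp {M' : PresheafOfModules.{max v₁ w} (RX X R₀)}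
    (P : PresheafOfModules.{max v₁ w} R₀) (τ : M ⟶ M') (α : (extZeroMod.{w} X R₀).obj M' ⟶ P) :
    underL P ((extZeroMod.{w} X R₀).map τ ≫ α) =
      (extZero.{w} X).map ((PresheafOfModules.toPresheaf _).map τ) ≫ underL P α :=
  (PresheafOfModules.toPresheaf _).map_comp ((extZeroMod.{w} X R₀).map τ) α

lemma underL_comp {P P' : PresheafOfModules.{max v₁ w} R₀}
    (α : (extZeroMod.{w} X R₀).obj M ⟶ P) (g : P ⟶ P') :
    underL P' (α ≫ g) = underL P α ≫ (PresheafOfModules.toPresheaf _).map g :=
  (PresheafOfModules.toPresheaf _).map_comp α g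

lemma underR_comp_map {P P' : PresheafOfModules.{max v₁ w} R₀}
    (β : M ⟶ (restrMod.{w} X R₀).obj P) (g : P ⟶ P') :
    underR P' (β ≫ (restrMod.{w} X R₀).map g) =
      underR P β ≫ Functor.whiskerLeft (Over.forget X).op ((PresheafOfModules.toPresheaf _).map g) :=
  (PresheafOfModules.toPresheaf _).map_comp β ((restrMod.{w} X R₀).map g)

variable (X R₀) in
/-- extension by zero of presheaves of modules is left adjoint to restriction -/
noncomputable def adjMod : extZeroMod.{w} X R₀ ⊣ restrMod.{w} X R₀ :=
  Adjunction.mkOfHomEquiv
    { homEquiv := fun M P => homEquivMod M P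
      homEquiv_naturality_left_symm := fun {M M' P} τ β => by
        apply underL_injective
        change underL P (toL P (τ ≫ β)) = underL P ((extZeroMod.{w} X R₀).map τ ≫ toL P β)
        rw [underL_toL, underL_map_comp, underL_toL, underR_comp]
        have := (adj.{w} X).homEquiv_naturality_left_symm
          ((PresheafOfModules.toPresheaf _).map τ) (underR P β)
        rw [adj_homEquiv, adj_homEquiv] at this
        exact this
      homEquiv_naturality_right := fun {M P P'} α g => by
        apply underR_injective
        change underR P' (toR P' (α ≫ g)) = underR P' (toR P α ≫ (restrMod.{w} X R₀).map g)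
        rw [underR_toR, underR_comp_map, underR_toR, underL_comp]
        have := (adj.{w} X).homEquiv_naturality_right (underL P α)
          ((PresheafOfModules.toPresheaf _).map g)
        rw [adj_homEquiv, adj_homEquiv] at this
        exact this }

instance extZeroMod_preservesFiniteLimits : PreservesFiniteLimits (extZeroMod.{w} X R₀) := by
  haveI : PreservesFiniteLimits (extZeroMod.{w} X R₀ ⋙ PresheafOfModules.toPresheaf R₀) :=
    preservesFiniteLimits_of_natIso (extZeroModCompToPresheaf.{w} (X := X) (R₀ := R₀)).symm
  exact preservesFiniteLimits_of_reflects_of_preserves _ (PresheafOfModules.toPresheaf R₀)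

end PresheafOfModules

section SheafOfModules

universe u

variable {C : Type u} [SmallCategory C] (J : GrothendieckTopology C) (X : C)
  (A : Sheaf J RingCat.{u})

/-- the forgetful functor from sheaves of modules on `C/X`, with the target written with `RX` -/
noncomputable def forgetX : SheafOfModules.{u} (A.over X) ⥤ PresheafOfModules.{u} (RX X A.obj) :=
  SheafOfModules.forget (A.over X)

instance forgetX_preservesFiniteLimits : PreservesFiniteLimits (forgetX J X A) :=
  inferInstanceAs (PreservesFiniteLimits (SheafOfModules.forget (A.over X)))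

/-- sheafification of presheaves of modules over the underlying presheaf of rings -/
noncomputable def sheafifyMod : PresheafOfModules.{u} A.obj ⥤ SheafOfModules.{u} A :=
  PresheafOfModules.sheafification.{u} (R := A) (𝟙 A.obj)

instance sheafifyMod_preservesFiniteLimits : PreservesFiniteLimits (sheafifyMod J A) :=
  inferInstanceAs (PreservesFiniteLimits (PresheafOfModules.sheafification.{u} (R := A) (𝟙 A.obj)))

/-- extension by zero of sheaves of modules from the localized site -/
noncomputable def shExtZeroMod : SheafOfModules.{u} (A.over X) ⥤ SheafOfModules.{u} A :=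
  forgetX J X A ⋙ extZeroMod.{u} X A.obj ⋙ sheafifyMod J A

instance shExtZeroMod_preservesFiniteLimits : PreservesFiniteLimits (shExtZeroMod J X A) := by
  haveI h4 : PreservesFiniteLimits (extZeroMod.{u} X A.obj ⋙ sheafifyMod J A) :=
    comp_preservesFiniteLimits _ _
  exact comp_preservesFiniteLimits _ _

/-- compatibility of extension by zero with the forgetful functors to abelian sheaves -/
noncomputable def shExtZeroModCompToSheaf :
    shExtZeroMod J X A ⋙ SheafOfModules.toSheaf A ≅
      SheafOfModules.toSheaf (A.over X) ⋙ shExtZero.{u} J X :=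
  Iso.refl _

instance shExtZeroMod_faithful : (shExtZeroMod J X A).Faithful :=
  Functor.Faithful.of_comp_iso (shExtZeroModCompToSheaf J X A)

/-- the chosen left adjoint of restriction of presheaves of modules is extension by zero -/
noncomputable def presheafPullbackIso :
    PresheafOfModules.pullback.{u} (F := Over.forget X) (R := A.obj) (S := RX X A.obj)
      (𝟙 (RX X A.obj)) ≅ extZeroMod.{u} X A.obj :=
  (PresheafOfModules.pullbackPushforwardAdjunction.{u} (F := Over.forget X) (R := A.obj)
    (S := RX X A.obj) (𝟙 (RX X A.obj))).leftAdjointUniq (adjMod.{u} X A.obj)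

/-- the chosen left adjoint of restriction of modules is extension by zero -/
noncomputable def pullbackIsoShExtZeroMod :
    (SheafOfModules.pullback.{u} (F := Over.forget X) (R := A) (S := A.over X)
      (𝟙 (A.over X)) : SheafOfModules.{u} (A.over X) ⥤ SheafOfModules.{u} A) ≅
      shExtZeroMod J X A :=
  SheafOfModules.pullbackIso.{u} (F := Over.forget X) (R := A) (S := A.over X) (𝟙 (A.over X)) ≪≫
    Functor.isoWhiskerLeft (forgetX J X A)
      (Functor.isoWhiskerRight (presheafPullbackIso J X A) (sheafifyMod J A))

/-- any left adjoint of restriction of modules to `C/X` is exact and faithful -/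
theorem exact_faithful_of_adj {L : SheafOfModules.{u} (A.over X) ⥤ SheafOfModules.{u} A}
    (adjL : L ⊣ SheafOfModules.overFunctor.{u} A X) :
    PreservesFiniteLimits L ∧ L.Faithful := by
  have e : shExtZeroMod J X A ≅ L :=
    (pullbackIsoShExtZeroMod J X A).symm ≪≫
      (SheafOfModules.pullbackPushforwardAdjunction.{u} (F := Over.forget X) (R := A)
        (S := A.over X) (𝟙 (A.over X))).leftAdjointUniq adjL
  exact ⟨preservesFiniteLimits_of_natIso e, Functor.Faithful.of_iso e⟩

end SheafOfModules

end Groth.Agent.Lib.Helper9.ExtZero
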