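import Mathlib
import Groth.Prelude.Def_ModSite
import Groth.Agent.Lib.Helper21HomU5
import Groth.Agent.Lib.Helper21PullUnit
import Groth.Agent.Lib.Helper21RestrColim
import Groth.Agent.Lib.Helper21ModSp11
import Groth.Agent.Lib.Helper9ExtZeroMod

/-!
# Helper21: `f^*` preserves local generation / presentation / freeness
(for the ModSite pull rows S9098 ff.)
-/

set_option autoImplicit false
universe u
open CategoryTheory CategoryTheory.Limits Opposite

namespace Groth.Agent.Lib.Helper21.HomU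

noncomputable section

section test

variable {𝒜 : Type*} [Category 𝒜] [Abelian 𝒜] {ι : Type*} (Mi : ι → 𝒜)
  (hemb : ∀ M : 𝒜, ∃ (i : ι) (j : M ⟶ Mi i), Mono j)

include hemb in
theorem epi_of_test {P₀ Q : 𝒜} (b : P₀ ⟶ Q)
    (E1 : ∀ i (h h' : Q ⟶ Mi i), b ≫ h = b ≫ h' → h = h') : Epi b := by
  obtain ⟨i, j, hj⟩ := hemb (cokernel b)
  have h0 : cokernel.π b ≫ j = 0 :=
    E1 i _ _ (by rw [cokernel.condition_assoc, zero_comp, comp_zero])
  have h1 : cokernel.π b = 0 := by rw [← cancel_mono j, h0, zero_comp]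
  exact Abelian.epi_of_cokernel_π_eq_zero _ h1

include hemb in
theorem rightExact_of_test {P₁ P₀ Q : 𝒜} (a : P₁ ⟶ P₀) (b : P₀ ⟶ Q) (w : a ≫ b = 0)
    (E1 : ∀ i (h h' : Q ⟶ Mi i), b ≫ h = b ≫ h' → h = h')
    (E2 : ∀ i (k : P₀ ⟶ Mi i), a ≫ k = 0 → ∃ h : Q ⟶ Mi i, b ≫ h = k) :
    Epi b ∧ (ShortComplex.mk a b w).Exact := by
  refine ⟨epi_of_test Mi hemb b E1, ?_⟩
  rw [ShortComplex.exact_iff_mono_cokernel_desc]
  obtain ⟨i, j, hj⟩ := hemb (cokernel a)
  obtain ⟨h, hh⟩ := E2 i (cokernel.π a ≫ j) (by rw [cokernel.condition_assoc, zero_comp])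
  have e : cokernel.desc a b w ≫ h = j := by
    rw [← cancel_epi (cokernel.π a), cokernel.π_desc_assoc, hh]
  haveI : Mono (cokernel.desc a b w ≫ h) := by rw [e]; exact hj
  exact mono_of_mono _ h

end test

section emb

variable {C : Type u} [SmallCategory C] {J : GrothendieckTopology C} (O : Sheaf J CommRingCat.{u})
  (U : C)

theorem hemb_restr (M : ModSite.Mod (O.over U)) :
    ∃ (G : ModSite.Mod O) (j : M ⟶ (ModSite.restr O U).obj G), Mono j := by
  haveI : (ModSite.extZero O U).Faithful :=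
    (Groth.Agent.Lib.Helper9.ExtZero.exact_faithful_of_adj J U (ModSite.ringSh O)
      (ModSite.extZeroAdj O U)).2
  exact ⟨(ModSite.extZero O U).obj M, (ModSite.extZeroAdj O U).unit.app M, inferInstance⟩

end emb

section transfer

variable {C D : Type u} [SmallCategory C] [SmallCategory D] {J : GrothendieckTopology C}
  {K : GrothendieckTopology D} {O_C : Sheaf J CommRingCat.{u}} {O_D : Sheaf K CommRingCat.{u}}
  (f : ModSite.RMor O_C O_D)

/-- `f^♯` at the level of `ModSite`. -/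
def sharpM {X : D} {A B : ModSite.Mod O_D}
    (μ : (ModSite.restr O_D X).obj A ⟶ (ModSite.restr O_D X).obj B) :
    (ModSite.restr O_C (f.fn.obj X)).obj (f.pull.obj A) ⟶
      (ModSite.restr O_C (f.fn.obj X)).obj (f.pull.obj B) :=
  fSharp f.sharpR μ

/-- `Θ` at the level of `ModSite`. -/
def ThetaM (X : D) (F : ModSite.Mod O_D) (G : ModSite.Mod O_C) :
    ((ModSite.restr O_C (f.fn.obj X)).obj (f.pull.obj F) ⟶
      (ModSite.restr O_C (f.fn.obj X)).obj G) ≃
    ((ModSite.restr O_D X).obj F ⟶ (ModSite.restr O_D X).obj (f.push.obj G)) :=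
  Theta f.sharpR X F G

theorem ThetaM_sharpM_comp {X : D} {A B : ModSite.Mod O_D} {G : ModSite.Mod O_C}
    (μ : (ModSite.restr O_D X).obj A ⟶ (ModSite.restr O_D X).obj B)
    (h : (ModSite.restr O_C (f.fn.obj X)).obj (f.pull.obj B) ⟶
      (ModSite.restr O_C (f.fn.obj X)).obj G) :
    ThetaM f X A G (sharpM f μ ≫ h) = μ ≫ ThetaM f X B G h :=
  Theta_fSharp_comp f.sharpR μ h

theorem ThetaM_zero {X : D} {F : ModSite.Mod O_D} {G : ModSite.Mod O_C} :
    ThetaM f X F G 0 = 0 := Theta_zero f.sharpR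

theorem sharpM_comp {X : D} {A B B' : ModSite.Mod O_D}
    (μ : (ModSite.restr O_D X).obj A ⟶ (ModSite.restr O_D X).obj B)
    (ν : (ModSite.restr O_D X).obj B ⟶ (ModSite.restr O_D X).obj B') :
    sharpM f (μ ≫ ν) = sharpM f μ ≫ sharpM f ν := fSharp_comp f.sharpR μ ν

theorem sharpM_zero {X : D} {A B : ModSite.Mod O_D} :
    sharpM f (0 : (ModSite.restr O_D X).obj A ⟶ (ModSite.restr O_D X).obj B) = 0 :=
  fSharp_zero f.sharpR

theorem sharpM_id {X : D} {A : ModSite.Mod O_D} :
    sharpM f (𝟙 ((ModSite.restr O_D X).obj A)) = 𝟙 _ := fSharp_id f.sharpR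

/-- `f^♯` of an isomorphism. -/
def sharpMIso {X : D} {A B : ModSite.Mod O_D}
    (e : (ModSite.restr O_D X).obj A ≅ (ModSite.restr O_D X).obj B) :
    (ModSite.restr O_C (f.fn.obj X)).obj (f.pull.obj A) ≅
      (ModSite.restr O_C (f.fn.obj X)).obj (f.pull.obj B) where
  hom := sharpM f e.hom
  inv := sharpM f e.inv
  hom_inv_id := by rw [← sharpM_comp, e.hom_inv_id, sharpM_id]
  inv_hom_id := by rw [← sharpM_comp, e.inv_hom_id, sharpM_id]

theorem sharpM_E1 {X : D} {A F : ModSite.Mod O_D}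
    (ν : (ModSite.restr O_D X).obj A ⟶ (ModSite.restr O_D X).obj F) [Epi ν]
    (G : ModSite.Mod O_C)
    (h h' : (ModSite.restr O_C (f.fn.obj X)).obj (f.pull.obj F) ⟶
      (ModSite.restr O_C (f.fn.obj X)).obj G)
    (e : sharpM f ν ≫ h = sharpM f ν ≫ h') : h = h' := by
  apply (ThetaM f X F G).injective
  rw [← cancel_epi ν, ← ThetaM_sharpM_comp, ← ThetaM_sharpM_comp, e]

theorem epi_sharpM {X : D} {A F : ModSite.Mod O_D}
    (ν : (ModSite.restr O_D X).obj A ⟶ (ModSite.restr O_D X).obj F) [Epi ν] :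
    Epi (sharpM f ν) :=
  epi_of_test (fun G : ModSite.Mod O_C => (ModSite.restr O_C (f.fn.obj X)).obj G)
    (hemb_restr O_C (f.fn.obj X)) _ (fun G h h' e => sharpM_E1 f ν G h h' e)

theorem rightExact_sharpM {X : D} {A₁ A₀ F : ModSite.Mod O_D}
    (μ : (ModSite.restr O_D X).obj A₁ ⟶ (ModSite.restr O_D X).obj A₀)
    (ν : (ModSite.restr O_D X).obj A₀ ⟶ (ModSite.restr O_D X).obj F) (w : μ ≫ ν = 0)
    (hν : Epi ν) (hex : (ShortComplex.mk μ ν w).Exact) :
    ∃ w' : sharpM f μ ≫ sharpM f ν = 0,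
      Epi (sharpM f ν) ∧ (ShortComplex.mk (sharpM f μ) (sharpM f ν) w').Exact := by
  have w' : sharpM f μ ≫ sharpM f ν = 0 := by rw [← sharpM_comp, w, sharpM_zero]
  refine ⟨w', ?_⟩
  refine rightExact_of_test (fun G : ModSite.Mod O_C => (ModSite.restr O_C (f.fn.obj X)).obj G)
    (hemb_restr O_C (f.fn.obj X)) _ _ w' (fun G h h' e => sharpM_E1 f ν G h h' e) ?_
  intro G k hk
  have h1 : μ ≫ ThetaM f X A₀ G k = 0 := by
    rw [← ThetaM_sharpM_comp, hk, ThetaM_zero]
  have hc := hex.gIsCokernel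
  let l : (ModSite.restr O_D X).obj F ⟶ (ModSite.restr O_D X).obj (f.push.obj G) :=
    hc.desc (CokernelCofork.ofπ (ThetaM f X A₀ G k) h1)
  have hl : ν ≫ l = ThetaM f X A₀ G k := hc.fac (CokernelCofork.ofπ (ThetaM f X A₀ G k) h1) .one
  refine ⟨(ThetaM f X F G).symm l, ?_⟩
  apply (ThetaM f X A₀ G).injective
  rw [ThetaM_sharpM_comp, Equiv.apply_symm_apply, hl]

end transfer

section props

open Groth.Agent.Lib.Helper21.ModSp Groth.Agent.Lib.Helper21.RestrColim

/-- `O_U^(I) ≅ (O^(I))|_U`. -/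
def rfIso {C : Type u} [SmallCategory C] {J : GrothendieckTopology C}
    (O : Sheaf J CommRingCat.{u}) (U : C) (I : Type u) :
    Fr' (O.over U) I ≅ (ModSite.restr O U).obj (Fr' O I) :=
  SheafOfModules.mapFreeIso (ModSite.restr O U) I (Iso.refl _)

variable {C D : Type u} [SmallCategory C] [SmallCategory D] {J : GrothendieckTopology C}
  {K : GrothendieckTopology D} {O_C : Sheaf J CommRingCat.{u}} {O_D : Sheaf K CommRingCat.{u}}
  (f : ModSite.RMor O_C O_D)

/-- `O_{uX}^(I) ≅ (f^* O^(I))|_{uX}`. -/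
def rfPullIso (X : D) (I : Type u) :
    Fr' (O_C.over (f.fn.obj X)) I ≅
      (ModSite.restr O_C (f.fn.obj X)).obj (f.pull.obj (Fr' O_D I)) :=
  rfIso O_C (f.fn.obj X) I ≪≫ (ModSite.restr O_C (f.fn.obj X)).mapIso
    (Groth.Agent.Lib.Helper21.PullUnit.pullFreeIso f.sharpR I).symm

variable {P : Type u → Prop}

theorem GenP.rmorPull {F : ModSite.Mod O_D} {X : D}
    (h : GenP P ((ModSite.restr O_D X).obj F)) :
    GenP P ((ModSite.restr O_C (f.fn.obj X)).obj (f.pull.obj F)) := by
  obtain ⟨I, hI, π, hπ⟩ := h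
  haveI : Epi ((rfIso O_D X I).inv ≫ π) := epi_comp _ _
  haveI := epi_sharpM f ((rfIso O_D X I).inv ≫ π)
  exact ⟨I, hI, (rfPullIso f X I).hom ≫ sharpM f ((rfIso O_D X I).inv ≫ π), epi_comp _ _⟩

theorem FreeP.rmorPull {F : ModSite.Mod O_D} {X : D}
    (h : FreeP P ((ModSite.restr O_D X).obj F)) :
    FreeP P ((ModSite.restr O_C (f.fn.obj X)).obj (f.pull.obj F)) := by
  obtain ⟨I, hI, ⟨e⟩⟩ := h
  exact ⟨I, hI, ⟨sharpMIso f (e ≪≫ rfIso O_D X I) ≪≫ (rfPullIso f X I).symm⟩⟩

theorem PresP.rmorPull {F : ModSite.Mod O_D} {X : D}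
    (h : PresP P ((ModSite.restr O_D X).obj F)) :
    PresP P ((ModSite.restr O_C (f.fn.obj X)).obj (f.pull.obj F)) := by
  obtain ⟨I₁, I₀, hI₁, hI₀, ψ, π, w, hπ, hex⟩ := h
  let μ : (ModSite.restr O_D X).obj (Fr' O_D I₁) ⟶ (ModSite.restr O_D X).obj (Fr' O_D I₀) :=
    (rfIso O_D X I₁).inv ≫ ψ ≫ (rfIso O_D X I₀).hom
  let ν : (ModSite.restr O_D X).obj (Fr' O_D I₀) ⟶ (ModSite.restr O_D X).obj F :=
    (rfIso O_D X I₀).inv ≫ π
  have wμν : μ ≫ ν = 0 := by
    simp only [μ, ν, Category.assoc, Iso.hom_inv_id_assoc, w, comp_zero]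
  have hν : Epi ν := epi_comp _ _
  have hex' : (ShortComplex.mk μ ν wμν).Exact := by
    refine ShortComplex.exact_of_iso ?_ hex
    exact ShortComplex.isoMk (rfIso O_D X I₁) (rfIso O_D X I₀) (Iso.refl _)
      (by simp [μ]) (by simp [ν])
  obtain ⟨w', hepi, hex''⟩ := rightExact_sharpM f μ ν wμν hν hex'
  refine ⟨I₁, I₀, hI₁, hI₀, (rfPullIso f X I₁).hom ≫ sharpM f μ ≫ (rfPullIso f X I₀).inv,
    (rfPullIso f X I₀).hom ≫ sharpM f ν, ?_, epi_comp _ _, ?_⟩
  · simp only [Category.assoc, Iso.inv_hom_id_assoc, w', comp_zero]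
  · refine ShortComplex.exact_of_iso ?_ hex''
    exact ShortComplex.isoMk (rfPullIso f X I₁).symm (rfPullIso f X I₀).symm (Iso.refl _)
      (by simp) (by simp)

end props

section coversTop

variable {C D : Type u} [SmallCategory C] [SmallCategory D] {J : GrothendieckTopology C}
  {K : GrothendieckTopology D}

/-- the subterminal presheaf `W ↦ (ofObjects Y W ∈ J W)`. -/
def covP (J : GrothendieckTopology C) {I : Type u} (Y : I → C) : Cᵒᵖ ⥤ Type u where
  obj W := ULift.{u} (PLift (Sieve.ofObjects Y W.unop ∈ J W.unop))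
  map {W W'} g := ↾(fun h => ⟨⟨by
    have h1 := J.pullback_stable g.unop h.down.down
    rwa [Sieve.pullback_ofObjects] at h1⟩⟩)
  map_id W := by
    ext x
    exact Subsingleton.elim _ _
  map_comp g g' := by
    ext x
    exact Subsingleton.elim _ _

theorem covP_subsingleton (J : GrothendieckTopology C) {I : Type u} (Y : I → C) (W : Cᵒᵖ)
    (a b : (covP J Y).obj W) : a = b := by
  obtain ⟨⟨a⟩⟩ := a
  obtain ⟨⟨b⟩⟩ := b
  rfl

theorem covP_isSheaf (J : GrothendieckTopology C) {I : Type u} (Y : I → C) :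
    Presieve.IsSheaf J (covP J Y) := by
  intro W T hT x _
  refine ⟨⟨⟨J.transitive hT (Sieve.ofObjects Y W) (fun V g hg => ?_)⟩⟩, ?_, ?_⟩
  · rw [Sieve.pullback_ofObjects]
    exact (x g hg).down.down
  · intro V g hg
    exact covP_subsingleton J Y _ _ _
  · intro y _
    exact covP_subsingleton J Y _ _ _

/-- the subterminal sheaf. -/
def covSh (J : GrothendieckTopology C) {I : Type u} (Y : I → C) : Sheaf J (Type u) :=
  ⟨covP J Y, (isSheaf_iff_isSheaf_of_type _ _).2 (covP_isSheaf J Y)⟩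

theorem coversTop_map (u : D ⥤ C) [u.IsContinuous K J]
    [PreservesLimit (Functor.empty.{0} (Sheaf K (Type u))) (u.sheafPullback (Type u) K J)]
    {I : Type u} (X : I → D) (hX : K.CoversTop X) : J.CoversTop (fun i => u.obj (X i)) := by
  let Y : I → C := fun i => u.obj (X i)
  let Q := (u.sheafPushforwardContinuous (Type u) K J).obj (covSh J Y)
  let x : Presheaf.FamilyOfElementsOnObjects Q.obj X := fun i => ⟨⟨by
    have h1 : Sieve.ofObjects Y (u.obj (X i)) = ⊤ :=
      Sieve.pullback_ofObjects_eq_top Y (i := i) (𝟙 _)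
    change Sieve.ofObjects Y (u.obj (X i)) ∈ J (u.obj (X i))
    rw [h1]
    exact J.top_mem _⟩⟩
  have hx : x.IsCompatible := fun Z i j g g' => covP_subsingleton J Y _ _ _
  let s := hx.section_ hX Q.property
  let σ : Groth.Agent.Lib.Helper21.PullUnit.Tm K ⟶ Q :=
    ⟨{ app := fun Z => ↾(fun _ => s.val Z)
       naturality := fun Z Z' g => by
         ext t
         exact covP_subsingleton J Y _ _ _ }⟩
  let τ : Groth.Agent.Lib.Helper21.PullUnit.Tm J ⟶ covSh J Y :=
    (Groth.Agent.Lib.Helper21.PullUnit.tmIso (F := u) (J := K) (K := J)).hom ≫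
      ((u.sheafAdjunctionContinuous (Type u) K J).homEquiv _ _).symm σ
  intro W
  exact (τ.hom.app (op W) PUnit.unit).down.down

end coversTop

section final

open Groth.Agent.Lib.Helper21.ModSp

variable {C D : Type u} [SmallCategory C] [SmallCategory D] {J : GrothendieckTopology C}
  {K : GrothendieckTopology D} {O_C : Sheaf J CommRingCat.{u}} {O_D : Sheaf K CommRingCat.{u}}
  (f : ModSite.RMor O_C O_D) (F : ModSite.Mod O_D)

theorem coversTop_rmor {I : Type u} (X : I → D) (hX : K.CoversTop X) :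
    J.CoversTop (fun i => f.fn.obj (X i)) :=
  coversTop_map f.fn X hX

/-- a presentation gives `PresP` (no assumption on the site). -/
theorem presP_of_presentation' {E : Type u} [SmallCategory E] {L : GrothendieckTopology E}
    {O : Sheaf L CommRingCat.{u}} {A : ModSite.Mod O} (Pr : A.Presentation) (P : Type u → Prop)
    (h₁ : P Pr.relations.I) (h₀ : P Pr.generators.I) : PresP P A := by
  have hc := Pr.isColimit
  have w : ((SheafOfModules.freeHomEquiv _).symm Pr.relations.s ≫ kernel.ι Pr.generators.π) ≫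
      Pr.generators.π = 0 :=
    CokernelCofork.condition (CokernelCofork.ofπ
      (f := (SheafOfModules.freeHomEquiv _).symm Pr.relations.s ≫ kernel.ι Pr.generators.π)
      Pr.generators.π (by simp))
  exact ⟨Pr.relations.I, Pr.generators.I, h₁, h₀, _, Pr.generators.π, w,
    Pr.generators.epi, ShortComplex.exact_of_g_is_cokernel (ShortComplex.mk _ _ w) hc⟩

theorem nonempty_lgd_rmorPull
    (h : Nonempty (SheafOfModules.LocalGeneratorsData.{u} (R := ModSite.ringSh O_D) F)) :
    Nonempty (SheafOfModules.LocalGeneratorsData.{u} (R := ModSite.ringSh O_C)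
      (f.pull.obj F)) := by
  obtain ⟨σ⟩ := h
  have h1 : ∀ i, GenP (fun _ => True)
      ((ModSite.restr O_C (f.fn.obj (σ.X i))).obj (f.pull.obj F)) := fun i =>
    GenP.rmorPull f ⟨(σ.generators i).I, trivial, (σ.generators i).π, (σ.generators i).epi⟩
  choose I' hI' π hπ using h1
  exact ⟨lgd (f.pull.obj F) σ.I (fun i => f.fn.obj (σ.X i)) (coversTop_rmor f σ.X σ.coversTop)
    (fun i => generatingSectionsOfEpi (π i) (hπ i))⟩

theorem isFiniteType_rmorPull [SheafOfModules.IsFiniteType (R := ModSite.ringSh O_D) F] :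
    SheafOfModules.IsFiniteType (R := ModSite.ringSh O_C) (f.pull.obj F) := by
  obtain ⟨σ, hσ⟩ := SheafOfModules.IsFiniteType.exists_localGeneratorsData
    (R := ModSite.ringSh O_D) F
  have h1 : ∀ i, GenP Finite
      ((ModSite.restr O_C (f.fn.obj (σ.X i))).obj (f.pull.obj F)) := fun i =>
    GenP.rmorPull f ⟨(σ.generators i).I, (hσ.isFiniteType i).finite, (σ.generators i).π,
      (σ.generators i).epi⟩
  choose I' hI' π hπ using h1
  let τ : SheafOfModules.LocalGeneratorsData.{u} (R := ModSite.ringSh O_C) (f.pull.obj F) :=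
    lgd (f.pull.obj F) σ.I (fun i => f.fn.obj (σ.X i)) (coversTop_rmor f σ.X σ.coversTop)
      (fun i => generatingSectionsOfEpi (π i) (hπ i))
  have hτ : τ.IsFiniteType := { isFiniteType := fun i => { finite := hI' i } }
  exact { exists_localGeneratorsData := ⟨τ, hτ⟩ }

theorem isQuasicoherent_rmorPull [SheafOfModules.IsQuasicoherent (R := ModSite.ringSh O_D) F] :
    SheafOfModules.IsQuasicoherent (R := ModSite.ringSh O_C) (f.pull.obj F) := by
  obtain ⟨σ⟩ := SheafOfModules.IsQuasicoherent.nonempty_quasicoherentData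
    (R := ModSite.ringSh O_D) (M := F)
  have h1 : ∀ i, PresP (fun _ => True)
      ((ModSite.restr O_C (f.fn.obj (σ.X i))).obj (f.pull.obj F)) := fun i =>
    PresP.rmorPull f (presP_of_presentation' (σ.presentation i) _ trivial trivial)
  choose I₁ I₀ hI₁ hI₀ ψ π w hπ hex using h1
  exact { nonempty_quasicoherentData :=
    ⟨qcd (f.pull.obj F) σ.I (fun i => f.fn.obj (σ.X i)) (coversTop_rmor f σ.X σ.coversTop)
      (fun i => SheafOfModules.presentationOfIsCokernelFree (ψ i) (π i) (w i)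
        (haveI := hπ i; (hex i).gIsCokernel))⟩ }

theorem isFinitePresentation_rmorPull
    [SheafOfModules.IsFinitePresentation (R := ModSite.ringSh O_D) F] :
    SheafOfModules.IsFinitePresentation (R := ModSite.ringSh O_C) (f.pull.obj F) := by
  obtain ⟨σ, hσ⟩ := SheafOfModules.IsFinitePresentation.exists_quasicoherentData
    (R := ModSite.ringSh O_D) F
  have h1 : ∀ i, PresP Finite
      ((ModSite.restr O_C (f.fn.obj (σ.X i))).obj (f.pull.obj F)) := fun i =>
    PresP.rmorPull f (presP_of_presentation' (σ.presentation i) _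
      (hσ.isFinite_presentation i).isFiniteType_relations.finite
      (hσ.isFinite_presentation i).isFiniteType_generators.finite)
  choose I₁ I₀ hI₁ hI₀ ψ π w hπ hex using h1
  let τ : SheafOfModules.QuasicoherentData.{u, u, u, u} (R := ModSite.ringSh O_C) (f.pull.obj F) :=
    qcd (f.pull.obj F) σ.I (fun i => f.fn.obj (σ.X i)) (coversTop_rmor f σ.X σ.coversTop)
      (fun i => SheafOfModules.presentationOfIsCokernelFree (ψ i) (π i) (w i)
        (haveI := hπ i; (hex i).gIsCokernel))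
  have hτ : τ.IsFinitePresentation :=
    { isFinite_presentation := fun i =>
        { isFiniteType_generators := { finite := hI₀ i }
          isFiniteType_relations := { finite := hI₁ i } } }
  exact { exists_quasicoherentData := ⟨τ, hτ⟩ }

theorem isLocallyFree_rmorPull [SheafOfModules.IsLocallyFree (R := ModSite.ringSh O_D) F] :
    SheafOfModules.IsLocallyFree (R := ModSite.ringSh O_C) (f.pull.obj F) := by
  obtain ⟨q, hq⟩ := SheafOfModules.IsLocallyFree.exists_isLocallyFreeData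
    (R := ModSite.ringSh O_D) (M := F)
  have h1 : ∀ i, FreeP (fun _ => True)
      ((ModSite.restr O_C (f.fn.obj (q.X i))).obj (f.pull.obj F)) := fun i =>
    FreeP.rmorPull f (by
      haveI := hq.isIso i
      exact ⟨(q.generators i).I, trivial, ⟨(asIso (q.generators i).π).symm⟩⟩)
  choose I' hI' e using h1
  let τ : SheafOfModules.LocalGeneratorsData.{u} (R := ModSite.ringSh O_C) (f.pull.obj F) :=
    lgd (f.pull.obj F) q.I (fun i => f.fn.obj (q.X i)) (coversTop_rmor f q.X q.coversTop)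
      (fun i => generatingSectionsOfEpi (e i).some.inv inferInstance)
  have hτ : τ.IsLocallyFreeData :=
    { isIso := fun i => by
        have h1 : (τ.generators i).π = (e i).some.inv :=
          (SheafOfModules.freeHomEquiv _).symm_apply_apply _
        rw [h1]
        infer_instance }
  exact { exists_isLocallyFreeData := ⟨τ, hτ⟩ }

end final

end

end Groth.Agent.Lib.Helper21.HomU
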