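import Mathlib
import Groth.Prelude.Def_ModSite
import Groth.Agent.Lib.Helper21HomI2
import Groth.Agent.Lib.Helper21HomU6

/-!
# Helper21: `f_* ℋom(f^* N, G) ≅ ℋom(N, f_* G)` for a morphism of ringed sites
(for the ModSite rows S6157, S6158, S6853)
-/

set_option autoImplicit false
universe u
open CategoryTheory CategoryTheory.Limits Opposite

namespace Groth.Agent.Lib.Helper21.HomI

open Groth.Agent.Lib.Helper21.HomU

noncomputable section

variable {C D : Type u} [SmallCategory C] [SmallCategory D] {J : GrothendieckTopology C}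
  {K : GrothendieckTopology D} {O_C : Sheaf J CommRingCat.{u}} {O_D : Sheaf K CommRingCat.{u}}
  (f : ModSite.RMor O_C O_D)

section eta

variable (N : ModSite.Mod O_D)

/-- the unit `N ⟶ f_* f^* N` on sections. -/
def etaM (Z : D) (x : N.val.obj (op Z)) : (f.pull.obj N).val.obj (op (f.fn.obj Z)) :=
  etaApp f.sharpR N Z x

theorem etaM_add (Z : D) (x y : N.val.obj (op Z)) : etaM f N Z (x + y) = etaM f N Z x + etaM f N Z y :=
  map_add ((f.adj.unit.app N).val.app (op Z)).hom x y

theorem etaM_smul (Z : D) (s : (ModSite.ringSh O_D).obj.obj (op Z)) (x : N.val.obj (op Z)) :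
    etaM f N Z (s • x) = phiApp f.sharpR Z s • etaM f N Z x :=
  map_smul ((f.adj.unit.app N).val.app (op Z)).hom s x

theorem etaM_nat {Z Z' : D} (g : Z' ⟶ Z) (x : N.val.obj (op Z)) :
    rs (f.pull.obj N) (f.fn.map g) (etaM f N Z x) = etaM f N Z' (rs N g x) :=
  rs_nat g (f.adj.unit.app N) x

end eta

section theta

variable (N : ModSite.Mod O_D) (G : ModSite.Mod O_C)

/-- `Θ` on families. -/
def thetaFam (X : D) (h : HomFam (f.pull.obj N) G (f.fn.obj X)) : HomFam N (f.push.obj G) X where
  val Z q x := pIn f.sharpR G Z (h.val (f.fn.obj Z) (f.fn.map q) (etaM f N Z x))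
  add Z q x y := by rw [etaM_add, h.add, pIn_add]
  smul Z q s x := by rw [etaM_smul, h.smul, pIn_smul]
  compat {Z' Z} g q x := by
    rw [← pIn_rs, h.compat, etaM_nat, ← f.fn.map_comp]

theorem thetaFam_val (X : D) (h : HomFam (f.pull.obj N) G (f.fn.obj X)) (Z : D) (q : Z ⟶ X)
    (x : N.val.obj (op Z)) :
    (thetaFam f N G X h).val Z q x =
      pIn f.sharpR G Z (h.val (f.fn.obj Z) (f.fn.map q) (etaM f N Z x)) := rfl

theorem thetaFam_eq (X : D) (h : HomFam (f.pull.obj N) G (f.fn.obj X)) :
    thetaFam f N G X h = famOfMor (ThetaM f X N G (morOfFam h)) := by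
  apply HomFam.ext
  funext Z q x
  exact (Theta_apply f.sharpR X N G (morOfFam h) (Over.mk q) x).symm

theorem thetaFam_bijective (X : D) : Function.Bijective (thetaFam f N G X) := by
  have h : thetaFam f N G X = famEquivMor.symm ∘ (ThetaM f X N G) ∘ famEquivMor := by
    funext h
    exact thetaFam_eq f N G X h
  rw [h]
  exact famEquivMor.symm.bijective.comp ((ThetaM f X N G).bijective.comp famEquivMor.bijective)

/-- sections of `f_* ℋom(f^*N, G)` over `X` are families over `uX`. -/
def tOut (X : D) (m : (f.push.obj (iHom (f.pull.obj N) G)).val.obj (op X)) :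
    HomFam (f.pull.obj N) G (f.fn.obj X) := m

/-- `f_* ℋom(f^* N, G) ⟶ ℋom(N, f_* G)`. -/
def thetaHom : f.push.obj (iHom (f.pull.obj N) G) ⟶ iHom N (f.push.obj G) where
  val := PresheafOfModules.homMk (M₁ := (f.push.obj (iHom (f.pull.obj N) G)).val)
      (M₂ := homIPM N (f.push.obj G))
    { app := fun X => AddCommGrpCat.ofHom
        { toFun := fun m => thetaFam f N G X.unop (tOut f N G X.unop m)
          map_zero' := by
            apply HomFam.ext
            funext Z q x
            rfl
          map_add' := fun m m' => by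
            apply HomFam.ext
            funext Z q x
            rfl }
      naturality := fun X X' k => by
        ext m
        apply HomFam.ext
        funext Z q x
        change pIn f.sharpR G Z ((tOut f N G X.unop m).val (f.fn.obj Z)
            (f.fn.map q ≫ f.fn.map k.unop) (etaM f N Z x)) =
          pIn f.sharpR G Z ((tOut f N G X.unop m).val (f.fn.obj Z)
            (f.fn.map (q ≫ k.unop)) (etaM f N Z x))
        rw [f.fn.map_comp] }
    (fun X s m => by
      apply HomFam.ext
      funext Z q x
      change pIn f.sharpR G Z (rsO (ModSite.ringSh O_C) (f.fn.map q) (phiApp f.sharpR X.unop s) •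
          (tOut f N G X.unop m).val (f.fn.obj Z) (f.fn.map q) (etaM f N Z x)) =
        rsO (ModSite.ringSh O_D) q s • pIn f.sharpR G Z
          ((tOut f N G X.unop m).val (f.fn.obj Z) (f.fn.map q) (etaM f N Z x))
      rw [← phiApp_nat, pIn_smul])

instance isIso_thetaHom : IsIso (thetaHom f N G) :=
  isIso_of_bijective_app _ (fun X => thetaFam_bijective f N G X.unop)

/-- `f_* ℋom(f^* N, G) ≅ ℋom(N, f_* G)`. -/
def thetaIso : f.push.obj (iHom (f.pull.obj N) G) ≅ iHom N (f.push.obj G) :=
  asIso (thetaHom f N G)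

end theta

theorem thetaHom_nat (N : ModSite.Mod O_D) {G G' : ModSite.Mod O_C} (g : G ⟶ G') :
    f.push.map (iHomMap (f.pull.obj N) g) ≫ thetaHom f N G' =
      thetaHom f N G ≫ iHomMap N (f.push.map g) := by
  apply SheafOfModules.hom_ext
  apply PresheafOfModules.hom_ext
  intro X
  ext m
  apply HomFam.ext
  funext Z q x
  rfl

end

end Groth.Agent.Lib.Helper21.HomI
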