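import Mathlib
import Groth.Prelude.Def_ModSite
import Groth.Agent.Lib.Helper21HomI3
import Groth.Agent.Lib.Helper21HomI4

/-!
# Helper21: `ℋom(F, G)` is the explicit internal hom; `f^*` is monoidal; `f_* ℋom(f^*N, M) ≅ ℋom(N, f_*M)`
(for the ModSite rows S6157, S6158, S6853)
-/

set_option autoImplicit false
universe u
open CategoryTheory CategoryTheory.Limits Opposite

namespace Groth.Agent.Lib.Helper21.HomI

open Groth.Agent.Lib.Helper21.HomU Groth.Agent.Lib.Helper21.ModTensor2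
  Groth.Agent.Lib.Helper21.ModTensor3

noncomputable section

section yoneda

variable {𝒞 : Type*} [Category 𝒞]

/-- Yoneda: a natural bijection `Hom(X, -) ≃ Hom(Y, -)` gives an isomorphism. -/
def isoOfNatEquiv {X Y : 𝒞} (α : ∀ G, (X ⟶ G) ≃ (Y ⟶ G))
    (hα : ∀ {G G' : 𝒞} (h : X ⟶ G) (g : G ⟶ G'), α G' (h ≫ g) = α G h ≫ g) : X ≅ Y where
  hom := (α Y).symm (𝟙 Y)
  inv := α X (𝟙 X)
  hom_inv_id := by
    apply (α X).injective
    rw [hα, Equiv.apply_symm_apply, Category.id_comp]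
  inv_hom_id := by
    rw [← hα, Category.id_comp, Equiv.apply_symm_apply]

/-- Yoneda: a natural bijection `Hom(-, X) ≃ Hom(-, Y)` gives an isomorphism. -/
def isoOfNatEquiv' {X Y : 𝒞} (γ : ∀ A, (A ⟶ X) ≃ (A ⟶ Y))
    (hγ : ∀ {A A' : 𝒞} (u : A' ⟶ A) (h : A ⟶ X), γ A' (u ≫ h) = u ≫ γ A h) : X ≅ Y where
  hom := γ X (𝟙 X)
  inv := (γ Y).symm (𝟙 Y)
  hom_inv_id := by
    apply (γ X).injective
    rw [hγ, Equiv.apply_symm_apply, Category.comp_id]
  inv_hom_id := by
    rw [← hγ, Category.comp_id, Equiv.apply_symm_apply]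

end yoneda

section sheafHom

variable {C : Type u} [SmallCategory C] {J : GrothendieckTopology C} {O : Sheaf J CommRingCat.{u}}
  (F G : ModSite.Mod O) [ModSite.HasSheafHom F]

/-- `Hom(A, ℋom(F, G)) ≃ Hom(A, iHom F G)` for the abstract internal hom `ℋom`. -/
def sheafHomEquiv (A : ModSite.Mod O) :
    (A ⟶ (ModSite.sheafHom F).obj G) ≃ (A ⟶ iHom F G) :=
  ((ModSite.sheafHomAdj F).homEquiv A G).symm.trans
    ((tensorEquiv (A := A) (F := F) (G := G)).trans curryEquiv)

theorem sheafHomEquiv_nat {A A' : ModSite.Mod O} (u : A' ⟶ A)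
    (h : A ⟶ (ModSite.sheafHom F).obj G) :
    sheafHomEquiv F G A' (u ≫ h) = u ≫ sheafHomEquiv F G A h := by
  change curryEquiv (tensorEquiv (((ModSite.sheafHomAdj F).homEquiv A' G).symm (u ≫ h))) =
    u ≫ curryEquiv (tensorEquiv (((ModSite.sheafHomAdj F).homEquiv A G).symm h))
  rw [Adjunction.homEquiv_naturality_left_symm, tensorEquiv_precomp, curryEquiv_precomp]

/-- the abstract internal hom is the explicit one. -/
def sheafHomIso : (ModSite.sheafHom F).obj G ≅ iHom F G :=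
  isoOfNatEquiv' (sheafHomEquiv F G) (fun u h => sheafHomEquiv_nat F G u h)

end sheafHom

section pull

variable {C D : Type u} [SmallCategory C] [SmallCategory D] {J : GrothendieckTopology C}
  {K : GrothendieckTopology D} {O_C : Sheaf J CommRingCat.{u}} {O_D : Sheaf K CommRingCat.{u}}
  (f : ModSite.RMor O_C O_D) (M N : ModSite.Mod O_D)

/-- `Hom(f^*M ⊗ f^*N, G) ≃ Hom(f^*(M ⊗ N), G)`. -/
def pullTensorEquiv (G : ModSite.Mod O_C) :
    (((ModSite.tensorBi O_C).obj (f.pull.obj M)).obj (f.pull.obj N) ⟶ G) ≃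
      (f.pull.obj (((ModSite.tensorBi O_D).obj M).obj N) ⟶ G) :=
  (tensorEquiv (A := f.pull.obj M) (F := f.pull.obj N) (G := G)).trans <|
    curryEquiv.trans <|
      (f.adj.homEquiv M (iHom (f.pull.obj N) G)).trans <|
        (thetaIso f N G).homToEquiv.trans <|
          (curryEquiv (A := M) (F := N) (G := f.push.obj G)).symm.trans <|
            (tensorEquiv (A := M) (F := N) (G := f.push.obj G)).symm.trans
              (f.adj.homEquiv (((ModSite.tensorBi O_D).obj M).obj N) G).symm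

theorem curryEquiv_symm_comp {A F G G' : ModSite.Mod O_D} (κ : A ⟶ iHom F G) (g : G ⟶ G') :
    curryEquiv.symm (κ ≫ iHomMap F g) = (curryEquiv.symm κ).postcomp g := by
  apply curryEquiv.injective
  rw [Equiv.apply_symm_apply, curryEquiv_postcomp, Equiv.apply_symm_apply]

theorem tensorEquiv_symm_postcomp {A F G G' : ModSite.Mod O_D} (β : Bil A F G) (g : G ⟶ G') :
    tensorEquiv.symm (β.postcomp g) = tensorEquiv.symm β ≫ g := by
  apply tensorEquiv.injective
  rw [Equiv.apply_symm_apply, tensorEquiv_comp, Equiv.apply_symm_apply]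

theorem pullTensorEquiv_nat {G G' : ModSite.Mod O_C}
    (h : ((ModSite.tensorBi O_C).obj (f.pull.obj M)).obj (f.pull.obj N) ⟶ G) (g : G ⟶ G') :
    pullTensorEquiv f M N G' (h ≫ g) = pullTensorEquiv f M N G h ≫ g := by
  change (f.adj.homEquiv _ G').symm (tensorEquiv.symm (curryEquiv.symm
      (f.adj.homEquiv M _ (curryEquiv (tensorEquiv (h ≫ g))) ≫ thetaHom f N G'))) =
    (f.adj.homEquiv _ G).symm (tensorEquiv.symm (curryEquiv.symm
      (f.adj.homEquiv M _ (curryEquiv (tensorEquiv h)) ≫ thetaHom f N G))) ≫ g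
  rw [tensorEquiv_comp, curryEquiv_postcomp, Adjunction.homEquiv_naturality_right,
    Category.assoc, thetaHom_nat, ← Category.assoc, curryEquiv_symm_comp,
    tensorEquiv_symm_postcomp, Adjunction.homEquiv_naturality_right_symm]

/-- `f^*M ⊗ f^*N ≅ f^*(M ⊗ N)`. -/
def pullTensorIso :
    ((ModSite.tensorBi O_C).obj (f.pull.obj M)).obj (f.pull.obj N) ≅
      f.pull.obj (((ModSite.tensorBi O_D).obj M).obj N) :=
  isoOfNatEquiv (pullTensorEquiv f M N) (fun h g => pullTensorEquiv_nat f M N h g)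

/-- `f_* ℋom(f^*N, G) ≅ ℋom(N, f_*G)` for the abstract internal homs. -/
def pushSheafHomIso (G : ModSite.Mod O_C) [ModSite.HasSheafHom (f.pull.obj N)]
    [ModSite.HasSheafHom N] :
    f.push.obj ((ModSite.sheafHom (f.pull.obj N)).obj G) ≅
      (ModSite.sheafHom N).obj (f.push.obj G) :=
  f.push.mapIso (sheafHomIso (f.pull.obj N) G) ≪≫ thetaIso f N G ≪≫
    (sheafHomIso N (f.push.obj G)).symm

end pull

end

end Groth.Agent.Lib.Helper21.HomI
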