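import Mathlib
import Groth.Agent.Lib.Helper17FFaith5
import Groth.Agent.Lib.Helper21ExtShLocFree
import Groth.Agent.Lib.Helper21HomI5
import Groth.Agent.Lib.Helper18KI
import Groth.Agent.Lib.Helper4DevD
import Groth.Agent.Lib.Helper23ResProp
import Groth.Agent.Lib.Helper18KG
import Groth.Agent.Lib.Helper20LocFree

/-!
# Lead: the local Ext sheaves `ℰxt^i(F, G)` of a coherent module `F` on an affine Noetherian scheme,
by dimension shifting
-/

set_option autoImplicit false
universe u
open CategoryTheory CategoryTheory.Limits AlgebraicGeometry TopologicalSpace Opposite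

namespace Groth.Agent.LeadExtAff

open Groth.Agent.Lib.Helper21.HomI Groth.Agent.Lib.Helper21.HomU Groth.Agent.Lib.Helper17.FFaith
  Groth.Agent.Lib.Helper21.ExtShDelta Groth.Agent.Lib.Helper21.CoDeltaLib
  Groth.Agent.Lib.Helper4.Dev

attribute [local instance] hasSheafHom

noncomputable section

variable {X : Scheme.{u}}

/-- `ℰxt^0(F, G) ≅ ℋom(F, G)` (explicit internal Hom). -/
def extShZeroIso [HasInjectiveResolutions (ModSite.Mod X.sheaf)] (F G : ModSite.Mod X.sheaf) :
    (extShDelta G).E 0 F ≅ sHom F G :=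
  haveI := sheafHom_preservesFiniteLimits X.sheaf F
  (Functor.rightDerivedZeroIsoSelf (ModSite.sheafHom (O := X.sheaf) F)).app G ≪≫
    sheafHomIso (O := X.sheaf) F G

theorem isCoh_freeMod (n : ℕ) : Coh.IsCoh (FlatMod.freeMod X n) :=
  ⟨Groth.Agent.Lib.Helper20.LocFree.isQuasicoherent_freeMod X n,
    Groth.Agent.Helper18KG.isFT_freeMod X n⟩

theorem isZero_extSh_freeMod [HasInjectiveResolutions (ModSite.Mod X.sheaf)]
    (G : ModSite.Mod X.sheaf) (n q : ℕ) :
    IsZero ((extShDelta G).E (q + 1) (FlatMod.freeMod X n)) :=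
  Groth.Agent.Lib.Helper21.ExtShLocFree.isZero_extSh_of_isFinLocFree (FlatMod.freeMod X n) G
    (Groth.Agent.Lib.Helper23.ResProp.isFinLocFree_freeMod X n) q

variable [IsAffine X] [IsNoetherian X] [HasInjectiveResolutions (ModSite.Mod X.sheaf)]

/-- dimension shifting on an affine Noetherian scheme: a property of modules stable under
isomorphisms and cokernels which holds for `ℋom(F, G)`, `F` coherent, holds for all
`ℰxt^i(F, G)`, `F` coherent. -/
theorem ext_induction (G : X.Modules) (Q : X.Modules → Prop)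
    (hiso : ∀ {A B : X.Modules}, (A ≅ B) → Q A → Q B)
    (hcoker : ∀ {A B : X.Modules} (f : A ⟶ B), Q A → Q B → Q (cokernel f))
    (h0 : ∀ F : X.Modules, Coh.IsCoh F → Q (sHom F G)) :
    ∀ (i : ℕ) (F : X.Modules), Coh.IsCoh F → Q ((extShDelta (O := X.sheaf) G).E i F) := by
  have hzero : ∀ F : X.Modules, Coh.IsCoh F → Q ((extShDelta (O := X.sheaf) G).E 0 F) :=
    fun F hF => hiso (extShZeroIso F G).symm (h0 F hF)
  intro i
  induction i with
  | zero => exact hzero
  | succ i ih =>
    intro F hF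
    haveI : F.IsQuasicoherent := hF.1
    obtain ⟨n, π, hπ⟩ := Groth.Agent.Helper18KI.exists_epi_freeMod_of_isAffine F hF.2
    have hS := sesOfEpi_shortExact π
    have hK : Coh.IsCoh (kernel π) := isCoh_kernel π (isCoh_freeMod (n + 1)) hF
    rcases i with _ | j
    · -- `i = 1`: a cokernel
      obtain ⟨w, hex⟩ := (extShDelta (O := X.sheaf) G).exact₃ (sesOfEpi π) hS 0
      haveI : Epi ((extShDelta (O := X.sheaf) G).δ (sesOfEpi π) hS 0) :=
        (extShDelta (O := X.sheaf) G).epi_δ (sesOfEpi π) hS 0 (isZero_extSh_freeMod G (n + 1) 0)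
      let e := IsColimit.coconePointUniqueUpToIso
        (cokernelIsCokernel ((extShDelta (O := X.sheaf) G).map 0 (sesOfEpi π).f)) hex.gIsCokernel
      exact hiso e (hcoker _ (hzero _ (isCoh_freeMod (n + 1))) (hzero _ hK))
    · -- `i = j + 2`: dimension shifting
      have hδ := (extShDelta (O := X.sheaf) G).isIso_δ (sesOfEpi π) hS (j + 1)
        (isZero_extSh_freeMod G (n + 1) j) (isZero_extSh_freeMod G (n + 1) (j + 1))
      exact hiso (@asIso _ _ _ _ _ hδ) (ih _ hK)

/-- `ℋom(M, N)` is quasi-coherent for `M` coherent and `N` quasi-coherent (`X` locally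
Noetherian). -/
theorem isQuasicoherent_sHom {Y : Scheme.{u}} [IsLocallyNoetherian Y] (M N : Y.Modules)
    (hM : Coh.IsCoh M) [N.IsQuasicoherent] : (sHom M N).IsQuasicoherent := by
  haveI := hM.1
  haveI := hM.2
  apply Groth.Agent.Lib.Helper23.QCohLocal.isQuasicoherent_of_isLocOn
  intro W hW
  haveI : IsNoetherianRing Γ(Y, W) := IsLocallyNoetherian.component_noetherian ⟨W, hW⟩
  haveI : Module.Finite Γ(Y, W) Γ(M, W) :=
    Groth.Agent.Lib.Helper23.FinType.finite_of_isFiniteType M hW
  haveI : Module.FinitePresentation Γ(Y, W) Γ(M, W) := Module.finitePresentation_of_finite _ _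
  exact isLocOn_sHom M N hW

/-- `ℰxt^i(F, G)` is quasi-coherent for `F` coherent and `G` quasi-coherent, on an affine
Noetherian scheme. -/
theorem isQuasicoherent_extSh_affine (G : X.Modules) [G.IsQuasicoherent] (i : ℕ) (F : X.Modules)
    (hF : Coh.IsCoh F) : ((extShDelta (O := X.sheaf) G).E i F).IsQuasicoherent :=
  ext_induction G (fun A => A.IsQuasicoherent)
    (fun e hA => (SheafOfModules.isQuasicoherent X.ringCatSheaf).prop_of_iso e hA)
    (fun f hA hB => by
      haveI := hA
      haveI := hB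
      exact Groth.Agent.Lib.Helper23.QCohLocal.isQuasicoherent_cokernel f)
    (fun F hF => isQuasicoherent_sHom F G hF) i F hF

/-- `ℰxt^i(F, G)` is coherent for `F`, `G` coherent, on an affine Noetherian scheme. -/
theorem isCoh_extSh_affine (G : X.Modules) (hG : Coh.IsCoh G) (i : ℕ) (F : X.Modules)
    (hF : Coh.IsCoh F) : Coh.IsCoh ((extShDelta (O := X.sheaf) G).E i F) :=
  ext_induction G Coh.IsCoh (fun e hA => isCoh_of_iso e hA)
    (fun f hA hB => isCoh_cokernel f hA hB)
    (fun F hF => isCoh_sHom F G hF hG) i F hF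

end

end Groth.Agent.LeadExtAff
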