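import Mathlib
import Groth.Agent.Lib.Helper17FFaith4
import Groth.Agent.Lib.Helper17SpreadD

/-!
# Lead: the explicit internal Hom commutes with restriction to an open subscheme

For an open immersion `j : U ⟶ X` and `O_X`-modules `F`, `G` we construct
`(ℋom(F, G))|_U ≅ ℋom(F|_U, G|_U)`, naturally in `G`.
-/

set_option autoImplicit false
universe u
open CategoryTheory CategoryTheory.Limits AlgebraicGeometry TopologicalSpace Opposite

namespace Groth.Agent.LeadExtRes

open Groth.Agent.Lib.Helper21.HomI Groth.Agent.Lib.Helper21.HomU Groth.Agent.Lib.Helper17.FFaith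

noncomputable section

variable {X U : Scheme.{u}} (j : U ⟶ X) [IsOpenImmersion j] {F G : X.Modules}

/-- a family over `j '' W'` restricts to a family over `W'` between the restricted modules. -/
def famRestr {W' : U.Opens} (h : Fam F G (j ''ᵁ W')) : Fam (F.restrict j) (G.restrict j) W' where
  val V' b x := h.val (j ''ᵁ V') (j.opensFunctor.map b) x
  add V' b x y := h.add _ _ x y
  smul V' b r x := h.smul _ _ _ x
  compat {V'' V'} g b x := h.compat (j.opensFunctor.map g) (j.opensFunctor.map b) x

theorem famRestr_val {W' : U.Opens} (h : Fam F G (j ''ᵁ W')) (V' : U.Opens) (b : V' ⟶ W')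
    (x : F.val.obj (op (j ''ᵁ V'))) :
    (famRestr j h).val V' b x = h.val (j ''ᵁ V') (j.opensFunctor.map b) x := rfl

theorem image_le_range (W' : U.Opens) : j ''ᵁ W' ≤ j.opensRange :=
  Scheme.Hom.image_le_opensRange j W'

theorem image_preimage_eq {W : X.Opens} {W' : U.Opens} (hW : W ≤ j ''ᵁ W') :
    j ''ᵁ (j ⁻¹ᵁ W) = W :=
  image_preimage_of_le j rfl (hW.trans (image_le_range j W'))

theorem preimage_le {W : X.Opens} {W' : U.Opens} (hW : W ≤ j ''ᵁ W') : j ⁻¹ᵁ W ≤ W' := by
  intro x hx
  obtain ⟨y, hy, hxy⟩ := hW hx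
  have : y = x := j.isOpenEmbedding.injective hxy
  rw [← this]
  exact hy

/-- the components of a family between the restrictions, as maps between sections over `X`. -/
def valX {W' : U.Opens} (h' : Fam (F.restrict j) (G.restrict j) W') (V' : U.Opens)
    (b : V' ⟶ W') (y : F.val.obj (op (j ''ᵁ V'))) : G.val.obj (op (j ''ᵁ V')) := h'.val V' b y

theorem valX_smul_aux {W' : U.Opens} (h' : Fam (F.restrict j) (G.restrict j) W') (V' : U.Opens)
    (b : V' ⟶ W') (r' : U.ringCatSheaf.obj.obj (op V'))
    (s : X.ringCatSheaf.obj.obj (op (j ''ᵁ V'))) (hs : (j.appIso V').inv.hom r' = s)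
    (y : F.val.obj (op (j ''ᵁ V'))) :
    valX j h' V' b (s • y) = s • valX j h' V' b y := by
  subst hs
  exact h'.smul V' b r' y

theorem valX_smul {W' : U.Opens} (h' : Fam (F.restrict j) (G.restrict j) W') (V' : U.Opens)
    (b : V' ⟶ W') (s : X.ringCatSheaf.obj.obj (op (j ''ᵁ V'))) (y : F.val.obj (op (j ''ᵁ V'))) :
    valX j h' V' b (s • y) = s • valX j h' V' b y :=
  valX_smul_aux j h' V' b ((j.appIso V').hom.hom s) s (Iso.hom_inv_id_apply (j.appIso V') s) y

theorem valX_add {W' : U.Opens} (h' : Fam (F.restrict j) (G.restrict j) W') (V' : U.Opens)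
    (b : V' ⟶ W') (y y' : F.val.obj (op (j ''ᵁ V'))) :
    valX j h' V' b (y + y') = valX j h' V' b y + valX j h' V' b y' :=
  h'.add V' b y y'

theorem valX_nat {W' : U.Opens} (h' : Fam (F.restrict j) (G.restrict j) W') {V₁' V₂' : U.Opens}
    (i : V₂' ⟶ V₁') (b : V₁' ⟶ W') (b' : V₂' ⟶ W') (y : F.val.obj (op (j ''ᵁ V₁'))) :
    rsX G (j.opensFunctor.map i) (valX j h' V₁' b y) =
      valX j h' V₂' b' (rsX F (j.opensFunctor.map i) y) := by
  have : b' = i ≫ b := Subsingleton.elim _ _
  subst this
  exact h'.compat i b y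

/-- a family over `W'` between the restricted modules extends to a family over `j '' W'`. -/
def famExt {W' : U.Opens} (h' : Fam (F.restrict j) (G.restrict j) W') : Fam F G (j ''ᵁ W') where
  val W b x := rsX G (homOfLE (image_preimage_eq j (leOfHom b)).ge)
    (valX j h' (j ⁻¹ᵁ W) (homOfLE (preimage_le j (leOfHom b)))
      (rsX F (homOfLE (image_preimage_eq j (leOfHom b)).le) x))
  add W b x y := by
    have e1 : rsX F (homOfLE (image_preimage_eq j (leOfHom b)).le) (x + y) =
        rsX F (homOfLE (image_preimage_eq j (leOfHom b)).le) x +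
          rsX F (homOfLE (image_preimage_eq j (leOfHom b)).le) y :=
      rs_add (R := X.ringCatSheaf) F _ x y
    rw [e1, valX_add]
    exact rs_add (R := X.ringCatSheaf) G _ _ _
  smul W b r x := by
    have hW := leOfHom b
    have e1 : rsX F (homOfLE (image_preimage_eq j hW).le) (r • x) =
        rsO X.ringCatSheaf (homOfLE (image_preimage_eq j hW).le) r •
          rsX F (homOfLE (image_preimage_eq j hW).le) x :=
      rs_smul (R := X.ringCatSheaf) F _ r x
    have e3 := rs_smul (R := X.ringCatSheaf) G (homOfLE (image_preimage_eq j hW).ge)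
      (rsO X.ringCatSheaf (homOfLE (image_preimage_eq j hW).le) r)
      (valX j h' (j ⁻¹ᵁ W) (homOfLE (preimage_le j hW))
        (rsX F (homOfLE (image_preimage_eq j hW).le) x))
    have e4 : rsO X.ringCatSheaf (homOfLE (image_preimage_eq j hW).ge)
        (rsO X.ringCatSheaf (homOfLE (image_preimage_eq j hW).le) r) = r := by
      rw [← rsO_comp]
      have : (homOfLE (image_preimage_eq j hW).ge ≫
          homOfLE (image_preimage_eq j hW).le) = 𝟙 W := Subsingleton.elim _ _
      rw [this]
      exact rsO_id (R := X.ringCatSheaf) r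
    rw [e4] at e3
    rw [e1, valX_smul]
    exact e3
  compat {W₂ W₁} g b x := by
    have h1 := leOfHom b
    have h2 := leOfHom (g ≫ b)
    let i : j ⁻¹ᵁ W₂ ⟶ j ⁻¹ᵁ W₁ := homOfLE (fun _ hx => leOfHom g hx)
    let z := rsX F (homOfLE (image_preimage_eq j h1).le) x
    have hn := valX_nat j h' i (homOfLE (preimage_le j h1)) (homOfLE (preimage_le j h2)) z
    have e1 : rsX F (homOfLE (image_preimage_eq j h2).le) (rsX F g x) =
        rsX F (j.opensFunctor.map i) z :=
      (rsX_rsX F g _ (homOfLE ((image_preimage_eq j h2).le.trans (leOfHom g))) x).trans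
        (rsX_rsX F _ (j.opensFunctor.map i) _ x).symm
    calc rsX G g (rsX G (homOfLE (image_preimage_eq j h1).ge)
          (valX j h' (j ⁻¹ᵁ W₁) (homOfLE (preimage_le j h1)) z))
        = rsX G (homOfLE ((leOfHom g).trans (image_preimage_eq j h1).ge))
            (valX j h' (j ⁻¹ᵁ W₁) (homOfLE (preimage_le j h1)) z) := rsX_rsX G _ g _ _
      _ = rsX G (homOfLE (image_preimage_eq j h2).ge)
            (rsX G (j.opensFunctor.map i) (valX j h' (j ⁻¹ᵁ W₁) (homOfLE (preimage_le j h1)) z)) :=
          (rsX_rsX G (j.opensFunctor.map i) _ _ _).symm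
      _ = rsX G (homOfLE (image_preimage_eq j h2).ge)
            (valX j h' (j ⁻¹ᵁ W₂) (homOfLE (preimage_le j h2)) (rsX F (j.opensFunctor.map i) z)) :=
          congrArg (rsX G (homOfLE (image_preimage_eq j h2).ge)) hn
      _ = rsX G (homOfLE (image_preimage_eq j h2).ge)
            (valX j h' (j ⁻¹ᵁ W₂) (homOfLE (preimage_le j h2))
              (rsX F (homOfLE (image_preimage_eq j h2).le) (rsX F g x))) :=
          congrArg (fun t => rsX G (homOfLE (image_preimage_eq j h2).ge)
            (valX j h' (j ⁻¹ᵁ W₂) (homOfLE (preimage_le j h2)) t)) e1.symm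

theorem famExt_val {W' : U.Opens} (h' : Fam (F.restrict j) (G.restrict j) W') (W : X.Opens)
    (b : W ⟶ j ''ᵁ W') (x : F.val.obj (op W)) :
    (famExt j h').val W b x = rsX G (homOfLE (image_preimage_eq j (leOfHom b)).ge)
      (valX j h' (j ⁻¹ᵁ W) (homOfLE (preimage_le j (leOfHom b)))
        (rsX F (homOfLE (image_preimage_eq j (leOfHom b)).le) x)) := rfl

theorem famExt_famRestr {W' : U.Opens} (h : Fam F G (j ''ᵁ W')) : famExt j (famRestr j h) = h := by
  apply HomFam.ext
  funext W b x
  have hW := leOfHom b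
  have h1 := h.compat (homOfLE (image_preimage_eq j hW).ge)
    (j.opensFunctor.map (homOfLE (preimage_le j hW)))
    (rsX F (homOfLE (image_preimage_eq j hW).le) x)
  have h2 : rs (R := X.ringCatSheaf) F (homOfLE (image_preimage_eq j hW).ge)
      (rsX F (homOfLE (image_preimage_eq j hW).le) x) = x :=
    (rsX_rsX F _ _ (𝟙 W) x).trans (rsX_self F _ x)
  rw [h2] at h1
  have h3 : (homOfLE (image_preimage_eq j hW).ge ≫
      j.opensFunctor.map (homOfLE (preimage_le j hW))) = b := Subsingleton.elim _ _
  rw [h3] at h1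
  exact h1

theorem famRestr_famExt {W' : U.Opens} (h' : Fam (F.restrict j) (G.restrict j) W') :
    famRestr j (famExt j h') = h' := by
  apply HomFam.ext
  funext V' b x
  have hW : j ''ᵁ V' ≤ j ''ᵁ W' := leOfHom (j.opensFunctor.map b)
  let i : V' ⟶ j ⁻¹ᵁ (j ''ᵁ V') := homOfLE (j.preimage_image_eq V').ge
  have hn := valX_nat j h' i (homOfLE (preimage_le j hW)) b
    (rsX F (homOfLE (image_preimage_eq j hW).le) x)
  have h2 : rsX F (j.opensFunctor.map i) (rsX F (homOfLE (image_preimage_eq j hW).le) x) = x :=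
    (rsX_rsX F _ _ (𝟙 _) x).trans (rsX_self F _ x)
  rw [h2] at hn
  have h3 : (homOfLE (image_preimage_eq j hW).ge : j ''ᵁ V' ⟶ _) =
      j.opensFunctor.map i := Subsingleton.elim _ _
  change rsX G (homOfLE (image_preimage_eq j hW).ge) _ = h'.val V' b x
  rw [h3]
  exact hn

/-- families over `j '' W'` are families over `W'` between the restrictions. -/
def famRestrEquiv (W' : U.Opens) :
    Fam F G (j ''ᵁ W') ≃ Fam (F.restrict j) (G.restrict j) W' where
  toFun := famRestr j
  invFun := famExt j
  left_inv := famExt_famRestr j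
  right_inv := famRestr_famExt j

end

end Groth.Agent.LeadExtRes
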