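import Mathlib
import Groth.Agent.Lib.LeadExtRes1

/-!
# Lead: `(ℋom(F, G))|_U ≅ ℋom(F|_U, G|_U)` as `O_U`-modules, naturally in `G`
-/

set_option autoImplicit false
universe u
open CategoryTheory CategoryTheory.Limits AlgebraicGeometry TopologicalSpace Opposite

namespace Groth.Agent.LeadExtRes

open Groth.Agent.Lib.Helper21.HomI Groth.Agent.Lib.Helper21.HomU Groth.Agent.Lib.Helper17.FFaith

noncomputable section

variable {X U : Scheme.{u}} (j : U ⟶ X) [IsOpenImmersion j] (F G : X.Modules)

theorem appIso_inv_rsO {W' V' : U.Opens} (b : V' ⟶ W') (r : U.ringCatSheaf.obj.obj (op W')) :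
    rsO X.ringCatSheaf (j.opensFunctor.map b) ((j.appIso W').inv.hom r) =
      (j.appIso V').inv.hom (rsO U.ringCatSheaf b r) := by
  have h := j.appIso_inv_naturality b.op
  have h' := congrArg (fun φ => φ.hom r) h
  exact h'.symm

/-- the comparison `(ℋom(F, G))|_U ⟶ ℋom(F|_U, G|_U)`. -/
def restrIHom : (sHom F G).restrict j ⟶ sHom (F.restrict j) (G.restrict j) where
  val := PresheafOfModules.homMk (M₁ := ((sHom F G).restrict j).val)
      (M₂ := (sHom (F.restrict j) (G.restrict j)).val)
    { app := fun W' => AddCommGrpCat.ofHom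
        { toFun := fun h => famRestr j (W' := W'.unop) h
          map_zero' := by
            apply HomFam.ext
            funext V b x
            rfl
          map_add' := fun h k => by
            apply HomFam.ext
            funext V b x
            rfl }
      naturality := fun W' W'' k => by
        ext h
        rfl }
    (fun W' r h => by
      apply HomFam.ext
      funext V b x
      exact congrArg (fun t => t • (h.val (j ''ᵁ V) (j.opensFunctor.map b) x :
        G.val.obj (op (j ''ᵁ V)))) (appIso_inv_rsO j b r))

instance isIso_restrIHom : IsIso (restrIHom j F G) := by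
  apply Groth.Agent.Lib.Helper17.Spread.isIso_of_bijective_app
  intro T
  exact (famRestrEquiv j (F := F) (G := G) T).bijective

/-- `(ℋom(F, G))|_U ≅ ℋom(F|_U, G|_U)`. -/
def restrIHomIso : (sHom F G).restrict j ≅ sHom (F.restrict j) (G.restrict j) :=
  asIso (restrIHom j F G)

variable {G} in
theorem restrIHom_naturality {G' : X.Modules} (g : G ⟶ G') :
    (Scheme.Modules.restrictFunctor j).map (sHomMap F g) ≫ restrIHom j F G' =
      restrIHom j F G ≫ sHomMap (F.restrict j) ((Scheme.Modules.restrictFunctor j).map g) := by
  apply SheafOfModules.hom_ext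
  apply PresheafOfModules.hom_ext
  intro W'
  ext h
  rfl

/-- `ℋom(F, -)|_U ≅ ℋom(F|_U, (-)|_U)` as functors. -/
def restrSHomFIso : sHomF F ⋙ Scheme.Modules.restrictFunctor j ≅
    Scheme.Modules.restrictFunctor j ⋙ sHomF (F.restrict j) :=
  NatIso.ofComponents (fun G => restrIHomIso j F G) (fun g => restrIHom_naturality j F g)

end

end Groth.Agent.LeadExtRes
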