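import Mathlib
import Groth.Agent.Lib.LeadExtRes2
import Groth.Agent.Lib.Helper17FFaith3
import Groth.Agent.Lib.Helper17GammaZ3
import Groth.Agent.Lib.Helper21DerPost
import Groth.Agent.Lib.Helper23DerComp

/-!
# Lead: the local Ext sheaves commute with restriction to an open subscheme
-/

set_option autoImplicit false
universe u
open CategoryTheory CategoryTheory.Limits AlgebraicGeometry TopologicalSpace Opposite

namespace Groth.Agent.LeadExtRes

open Groth.Agent.Lib.Helper21.HomI Groth.Agent.Lib.Helper21.HomU Groth.Agent.Lib.Helper17.FFaith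
  Groth.Agent.Lib.Helper21.DerPost

noncomputable section

theorem preservesFiniteLimits_restrictFunctor {U X : Scheme.{u}} (j : U ⟶ X) [IsOpenImmersion j] :
    PreservesFiniteLimits (Scheme.Modules.restrictFunctor j) := by
  haveI : PreservesLimitsOfSize.{0, 0} (Scheme.Modules.restrictFunctor j) :=
    (CxOX.extZeroAdj j).rightAdjoint_preservesLimits
  exact PreservesLimitsOfSize.preservesFiniteLimits.{0, 0} _

theorem preservesFiniteColimits_restrictFunctor {U X : Scheme.{u}} (j : U ⟶ X)
    [IsOpenImmersion j] : PreservesFiniteColimits (Scheme.Modules.restrictFunctor j) := by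
  haveI : PreservesColimitsOfSize.{0, 0} (Scheme.Modules.restrictFunctor j) :=
    (Scheme.Modules.restrictAdjunction j).leftAdjoint_preservesColimits
  exact ⟨fun _ _ _ => inferInstance⟩

theorem restrictFunctor_additive {U Z : Scheme.{u}} (j : U ⟶ Z) [IsOpenImmersion j] :
    (Scheme.Modules.restrictFunctor j).Additive where
  map_add := by
    intros
    rfl

attribute [local instance] preservesFiniteLimits_restrictFunctor
  preservesFiniteColimits_restrictFunctor restrictFunctor_additive

/-- the prelude's internal Hom functor is the explicit one. -/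
def sheafHomFIso {X : Scheme.{u}} (F : X.Modules) [ModSite.HasSheafHom (O := X.sheaf) F] :
    ModSite.sheafHom (O := X.sheaf) F ≅ sHomF F :=
  (ModSite.sheafHomAdj (O := X.sheaf) F).rightAdjointUniq (tensorHomAdj F)

variable {X : Scheme.{u}} (U : X.Opens)

/-- restriction to the open subscheme `U`, as a functor between the prelude's module categories. -/
def rF : ModSite.Mod X.sheaf ⥤ ModSite.Mod (↑U : Scheme.{u}).sheaf :=
  Scheme.Modules.restrictFunctor U.ι

instance : (rF U).Additive := restrictFunctor_additive U.ι

instance : PreservesFiniteLimits (rF U) := preservesFiniteLimits_restrictFunctor U.ι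

instance : PreservesFiniteColimits (rF U) := preservesFiniteColimits_restrictFunctor U.ι

instance : (rF U).PreservesInjectiveObjects :=
  (inferInstance : (Scheme.Modules.restrictFunctor U.ι).PreservesInjectiveObjects)

variable (F : ModSite.Mod X.sheaf) [ModSite.HasSheafHom (O := X.sheaf) F]
  [ModSite.HasSheafHom (O := (↑U : Scheme.{u}).sheaf) ((rF U).obj F)]

/-- `ℋom(F, -)|_U ≅ ℋom(F|_U, (-)|_U)` for the prelude's internal Hom. -/
def restrSheafHomIso :
    ModSite.sheafHom (O := X.sheaf) F ⋙ rF U ≅
      rF U ⋙ ModSite.sheafHom (O := (↑U : Scheme.{u}).sheaf) ((rF U).obj F) :=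
  Functor.isoWhiskerRight (sheafHomFIso F) (Scheme.Modules.restrictFunctor U.ι) ≪≫
    restrSHomFIso U.ι F ≪≫
    Functor.isoWhiskerLeft (Scheme.Modules.restrictFunctor U.ι)
      (sheafHomFIso ((rF U).obj F)).symm

variable [HasInjectiveResolutions (ModSite.Mod X.sheaf)]
  [HasInjectiveResolutions (ModSite.Mod (↑U : Scheme.{u}).sheaf)]

/-- the local Ext sheaves commute with restriction to an open subscheme. -/
def extShRestrIso (i : ℕ) :
    ModSite.extSh (O := X.sheaf) F i ⋙ rF U ≅
      rF U ⋙ ModSite.extSh (O := (↑U : Scheme.{u}).sheaf) ((rF U).obj F) i :=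
  (postIso (ModSite.sheafHom (O := X.sheaf) F) (rF U) i).symm ≪≫
    natIsoRightDerived (restrSheafHomIso U F) i ≪≫
    Groth.Agent.Lib.Helper23DerComp.compIso (rF U)
      (ModSite.sheafHom (O := (↑U : Scheme.{u}).sheaf) ((rF U).obj F)) i

end

end Groth.Agent.LeadExtRes
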