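import Mathlib

/-!
# The canonical diagram of finitely presented algebras with a good property (helper20)
-/

universe u

namespace Groth.Agent.Lib.Helper20.FPD

open CategoryTheory MvPolynomial

section Data

variable (A B : Type u) [CommRing A] [CommRing B] [Algebra A B]

/-- Finite sets of variables and finite sets of relations. -/
abbrev D : Type u := Σ S : Finset B, Finset (MvPolynomial S A)

variable {A B}

/-- Evaluation. -/
noncomputable def piS (S : Finset B) : MvPolynomial S A →ₐ[A] B :=
  MvPolynomial.aeval (fun s : S => (s : B))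

@[simp] theorem piS_X (S : Finset B) (s : S) : piS (A := A) S (X s) = (s : B) := by
  simp [piS]

/-- Inclusions of variable sets. -/
def incl {S S' : Finset B} (h : S ⊆ S') : S → S' := fun s => ⟨s.1, h s.2⟩

theorem piS_rename {S S' : Finset B} (h : S ⊆ S') (p : MvPolynomial S A) :
    piS S' (rename (incl h) p) = piS S p := by
  unfold piS
  rw [aeval_rename]
  rfl

/-- The quotient algebra. -/
abbrev Q (d : D A B) : Type u := MvPolynomial d.1 A ⧸ Ideal.span (d.2 : Set (MvPolynomial d.1 A))

/-- The relations hold in `B`. -/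
def Rel (d : D A B) : Prop := ∀ t ∈ d.2, piS d.1 t = 0

/-- The preorder relation. -/
def le (d d' : D A B) : Prop :=
  d.1 ⊆ d'.1 ∧ ∀ h : d.1 ⊆ d'.1, ∀ t ∈ d.2,
    rename (incl h) t ∈ Ideal.span (d'.2 : Set (MvPolynomial d'.1 A))

theorem le_refl' (d : D A B) : le d d := by
  refine ⟨Finset.Subset.refl _, fun h t ht => ?_⟩
  have : incl h = id := by ext s; rfl
  rw [this, rename_id_apply]
  exact Ideal.subset_span ht

theorem span_le_comap {d d' : D A B} (h : le d d') :
    Ideal.span (d.2 : Set (MvPolynomial d.1 A)) ≤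
      (Ideal.span (d'.2 : Set (MvPolynomial d'.1 A))).comap (rename (R := A) (incl h.1)) := by
  rw [Ideal.span_le]
  intro t ht
  exact h.2 h.1 t ht

theorem le_trans' {d d' d'' : D A B} (h₁ : le d d') (h₂ : le d' d'') : le d d'' := by
  refine ⟨h₁.1.trans h₂.1, fun h t ht => ?_⟩
  have e : rename (incl h) t = rename (incl h₂.1) (rename (incl h₁.1) t) := by
    rw [rename_rename]
    rfl
  rw [e]
  exact span_le_comap h₂ (h₁.2 h₁.1 t ht)

/-- Transition maps. -/
noncomputable def tau {d d' : D A B} (h : le d d') : Q d →ₐ[A] Q d' :=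
  Ideal.quotientMapₐ (Ideal.span (d'.2 : Set (MvPolynomial d'.1 A))) (rename (R := A) (incl h.1))
    (span_le_comap h)

theorem tau_mk {d d' : D A B} (h : le d d') (p : MvPolynomial d.1 A) :
    tau h (Ideal.Quotient.mk _ p) = Ideal.Quotient.mk _ (rename (incl h.1) p) := rfl

theorem tau_refl (d : D A B) (h : le d d) (x : Q d) : tau h x = x := by
  obtain ⟨p, rfl⟩ := Ideal.Quotient.mk_surjective x
  rw [tau_mk]
  have : incl h.1 = id := by ext s; rfl
  rw [this, rename_id_apply]

theorem tau_trans {d d' d'' : D A B} (h₁ : le d d') (h₂ : le d' d'') (h₃ : le d d'') (x : Q d) :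
    tau h₂ (tau h₁ x) = tau h₃ x := by
  obtain ⟨p, rfl⟩ := Ideal.Quotient.mk_surjective x
  rw [tau_mk, tau_mk, tau_mk, rename_rename]
  rfl

theorem span_le_ker (d : D A B) (hd : Rel d) :
    Ideal.span (d.2 : Set (MvPolynomial d.1 A)) ≤ RingHom.ker (piS (A := A) d.1) := by
  rw [Ideal.span_le]
  intro t ht
  exact hd t ht

/-- The map to `B`. -/
noncomputable def iota (d : D A B) (hd : Rel d) : Q d →ₐ[A] B :=
  Ideal.Quotient.liftₐ (Ideal.span (d.2 : Set (MvPolynomial d.1 A))) (piS d.1)
    (fun a ha => span_le_ker d hd ha)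

theorem iota_mk (d : D A B) (hd : Rel d) (p : MvPolynomial d.1 A) :
    iota d hd (Ideal.Quotient.mk _ p) = piS d.1 p := rfl

theorem iota_tau {d d' : D A B} (h : le d d') (hd : Rel d) (hd' : Rel d') (x : Q d) :
    iota d' hd' (tau h x) = iota d hd x := by
  obtain ⟨p, rfl⟩ := Ideal.Quotient.mk_surjective x
  rw [tau_mk, iota_mk, iota_mk, piS_rename]

theorem finitePresentation_Q (d : D A B) : Algebra.FinitePresentation A (Q d) :=
  Algebra.FinitePresentation.quotient ⟨d.2, rfl⟩

end Data

section Diagram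

variable (A B : Type u) [CommRing A] [CommRing B] [Algebra A B]
variable (Good : ∀ (C : Type u) [CommRing C], (A →+* C) → Prop)

/-- The index preorder. -/
def J : Type u := {d : D A B // Rel d ∧ Good (Q d) (algebraMap A (Q d))}

instance : Preorder (J A B Good) where
  le j k := le j.1 k.1
  le_refl j := le_refl' j.1
  le_trans _ _ _ := le_trans'

variable {A B Good}

/-- The diagram. -/
noncomputable def F : J A B Good ⥤ Under (CommRingCat.of A) where
  obj j := Under.mk (CommRingCat.ofHom (algebraMap A (Q j.1)))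
  map {j k} f := Under.homMk (CommRingCat.ofHom (tau (leOfHom f)).toRingHom) (by
    ext a
    exact (tau (leOfHom f)).commutes a)
  map_id j := by
    apply Under.UnderMorphism.ext
    apply CommRingCat.hom_ext
    refine RingHom.ext fun x => ?_
    exact tau_refl j.1 (leOfHom (𝟙 j)) x
  map_comp {j k l} f g := by
    apply Under.UnderMorphism.ext
    apply CommRingCat.hom_ext
    refine RingHom.ext fun x => ?_
    exact (tau_trans (leOfHom f) (leOfHom g) (leOfHom (f ≫ g)) x).symm

/-- The cocone. -/
noncomputable def cocone : Limits.Cocone (F (A := A) (B := B) (Good := Good)) where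
  pt := Under.mk (CommRingCat.ofHom (algebraMap A B))
  ι :=
    { app := fun j => Under.homMk (CommRingCat.ofHom (iota j.1 j.2.1).toRingHom) (by
        ext a
        exact (iota j.1 j.2.1).commutes a)
      naturality := by
        intro j k f
        apply Under.UnderMorphism.ext
        apply CommRingCat.hom_ext
        refine RingHom.ext fun x => ?_
        exact iota_tau (leOfHom f) j.2.1 k.2.1 x }

end Diagram

section Colimit

variable {A B : Type u} [CommRing A] [CommRing B] [Algebra A B]
variable {Good : ∀ (C : Type u) [CommRing C], (A →+* C) → Prop}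

theorem nonempty_J (hkey : ∀ d : D A B, Rel d →
      ∃ d' : D A B, le d d' ∧ Rel d' ∧ Good (Q d') (algebraMap A (Q d'))) :
    Nonempty (J A B Good) := by
  obtain ⟨d', -, h1, h2⟩ := hkey ⟨∅, ∅⟩ (by intro t ht; simp at ht)
  exact ⟨⟨d', h1, h2⟩⟩

theorem isDirected_J (hkey : ∀ d : D A B, Rel d →
      ∃ d' : D A B, le d d' ∧ Rel d' ∧ Good (Q d') (algebraMap A (Q d'))) :
    IsDirected (J A B Good) (· ≤ ·) := by
  classical
  constructor
  intro j k
  let d₀ : D A B := ⟨j.1.1 ∪ k.1.1,
    j.1.2.image (rename (incl Finset.subset_union_left)) ∪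
      k.1.2.image (rename (incl Finset.subset_union_right))⟩
  have hd₀ : Rel d₀ := by
    intro t ht
    simp only [d₀, Finset.mem_union, Finset.mem_image] at ht
    rcases ht with ⟨t', ht', rfl⟩ | ⟨t', ht', rfl⟩
    · rw [piS_rename]; exact j.2.1 t' ht'
    · rw [piS_rename]; exact k.2.1 t' ht'
  have hj : le j.1 d₀ := ⟨Finset.subset_union_left, fun h t ht => Ideal.subset_span (by
    simp only [d₀, Finset.coe_union, Finset.coe_image, Set.mem_union, Set.mem_image,
      Finset.mem_coe]
    exact Or.inl ⟨t, ht, rfl⟩)⟩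
  have hk : le k.1 d₀ := ⟨Finset.subset_union_right, fun h t ht => Ideal.subset_span (by
    simp only [d₀, Finset.coe_union, Finset.coe_image, Set.mem_union, Set.mem_image,
      Finset.mem_coe]
    exact Or.inr ⟨t, ht, rfl⟩)⟩
  obtain ⟨d', hle, h1, h2⟩ := hkey d₀ hd₀
  exact ⟨⟨d', h1, h2⟩, le_trans' hj hle, le_trans' hk hle⟩

theorem isFiltered_J (hkey : ∀ d : D A B, Rel d →
      ∃ d' : D A B, le d d' ∧ Rel d' ∧ Good (Q d') (algebraMap A (Q d'))) :
    IsFiltered (J A B Good) := by
  haveI : Nonempty (J A B Good) := nonempty_J hkey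
  haveI : IsDirected (J A B Good) (· ≤ ·) := isDirected_J hkey
  infer_instance

/-- The cocone is a colimit. -/
noncomputable def isColimitCocone (hkey : ∀ d : D A B, Rel d →
      ∃ d' : D A B, le d d' ∧ Rel d' ∧ Good (Q d') (algebraMap A (Q d'))) :
    Limits.IsColimit (cocone (A := A) (B := B) (Good := Good)) := by
  classical
  haveI : IsFiltered (J A B Good) := isFiltered_J hkey
  haveI : IsConnected (J A B Good) := IsFiltered.isConnected _
  apply Limits.isColimitOfReflects (Under.forget (CommRingCat.of A))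
  haveI : Limits.ReflectsColimit (F (A := A) (B := B) (Good := Good) ⋙
      Under.forget (CommRingCat.of A)) (forget CommRingCat.{u}) :=
    Limits.reflectsColimit_of_reflectsIsomorphisms _ _
  apply Limits.isColimitOfReflects (forget CommRingCat.{u})
  apply Limits.Types.FilteredColimit.isColimitOf'
  · intro x
    have hx : ∃ b : B, b = x := ⟨x, rfl⟩
    obtain ⟨b, hb⟩ := hx
    obtain ⟨d', hle, h1, h2⟩ := hkey ⟨{b}, ∅⟩ (by intro t ht; simp at ht)
    refine ⟨⟨d', h1, h2⟩, Ideal.Quotient.mk _ (X ⟨b, hle.1 (Finset.mem_singleton_self b)⟩), ?_⟩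
    rw [← hb]
    show b = iota d' h1 (Ideal.Quotient.mk _ (X ⟨b, hle.1 (Finset.mem_singleton_self b)⟩))
    rw [iota_mk, piS_X]
  · intro j x y hxy
    have hx : ∃ x' : Q j.1, x' = x := ⟨x, rfl⟩
    obtain ⟨x', hx'⟩ := hx
    have hy : ∃ y' : Q j.1, y' = y := ⟨y, rfl⟩
    obtain ⟨y', hy'⟩ := hy
    have hxy' : iota j.1 j.2.1 x' = iota j.1 j.2.1 y' := by
      rw [hx', hy']
      exact hxy
    obtain ⟨p, hp⟩ := Ideal.Quotient.mk_surjective x'
    obtain ⟨q, hq⟩ := Ideal.Quotient.mk_surjective y'
    rw [← hp, ← hq, iota_mk, iota_mk] at hxy'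
    let d₀ : D A B := ⟨j.1.1, insert (p - q) j.1.2⟩
    have hd₀ : Rel d₀ := by
      intro t ht
      simp only [d₀, Finset.mem_insert] at ht
      rcases ht with rfl | ht
      · rw [map_sub, hxy', sub_self]
      · exact j.2.1 t ht
    have hj : le j.1 d₀ := by
      refine ⟨Finset.Subset.refl _, fun h t ht => ?_⟩
      have : incl h = id := by ext s; rfl
      rw [this, rename_id_apply]
      exact Ideal.subset_span (by simp [d₀, ht])
    obtain ⟨d', hle, h1, h2⟩ := hkey d₀ hd₀
    have hjk : le j.1 d' := le_trans' hj hle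
    refine ⟨⟨d', h1, h2⟩, homOfLE hjk, ?_⟩
    rw [← hx', ← hy', ← hp, ← hq]
    show tau hjk (Ideal.Quotient.mk _ p) = tau hjk (Ideal.Quotient.mk _ q)
    rw [tau_mk, tau_mk, Ideal.Quotient.eq, ← map_sub]
    exact hle.2 hle.1 (p - q) (by simp [d₀])

/-- The machine: a cofinal good subdiagram of the canonical diagram has colimit `B`. -/
theorem exists_filtered_colimit (hkey : ∀ d : D A B, Rel d →
      ∃ d' : D A B, le d d' ∧ Rel d' ∧ Good (Q d') (algebraMap A (Q d'))) :
    ∃ (J : Type u) (_ : SmallCategory J) (_ : IsFiltered J) (F : J ⥤ Under (CommRingCat.of A))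
      (c : Limits.Cocone F) (_ : Limits.IsColimit c),
      (∀ j, (F.obj j).hom.hom.FinitePresentation ∧ Good (F.obj j).right (F.obj j).hom.hom) ∧
      c.pt = Under.mk (CommRingCat.ofHom (algebraMap A B)) := by
  refine ⟨J A B Good, inferInstance, isFiltered_J hkey, F, cocone, isColimitCocone hkey, ?_, rfl⟩
  intro j
  refine ⟨?_, j.2.2⟩
  exact RingHom.finitePresentation_algebraMap.mpr (finitePresentation_Q j.1)

end Colimit

end Groth.Agent.Lib.Helper20.FPD
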