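import Groth.Agent.Lib.Helper20TowerMap2

/-!
# Lifting towers along surjections (helper20)
-/

universe u

namespace Groth.Agent.Lib.Helper20.Tower

open Groth.Agent.Lib.Helper20.AWN

section Basic

variable {A B : Type*} [CommRing A] [CommRing B] [Algebra A B]
variable {St : Subalgebra A B → B → Prop}

theorem isTower_concat_iff (hmono : ∀ (T T' : Subalgebra A B) (b : B), T ≤ T' → St T b → St T' b)
    (l : List B) (b : B) :
    IsTower St (l ++ [b]) ↔ IsTower St l ∧ St (Algebra.adjoin A {x | x ∈ l}) b := by
  constructor
  · intro h
    refine ⟨?_, ?_⟩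
    · intro i
      have hi : i.val < (l ++ [b]).length := by
        simp only [List.length_append, List.length_singleton]; omega
      have := h ⟨i, hi⟩
      have e1 : (l ++ [b]).get ⟨i, hi⟩ = l.get i := by
        simp [List.getElem_append_left i.2]
      have e2 : pre A (l ++ [b]) i = pre A l i := by
        unfold pre
        rw [List.take_append_of_le_length i.2.le]
      rw [e1] at this
      have this' : St (pre A (l ++ [b]) i) (l.get i) := this
      rw [e2] at this'
      exact this'
    · have hi : l.length < (l ++ [b]).length := by
        simp only [List.length_append, List.length_singleton]; omega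
      have := h ⟨l.length, hi⟩
      have e1 : (l ++ [b]).get ⟨l.length, hi⟩ = b := by
        simp
      have e2 : pre A (l ++ [b]) l.length = Algebra.adjoin A {x | x ∈ l} := by
        unfold pre
        rw [List.take_append_of_le_length le_rfl, List.take_length]
      rw [e1] at this
      have this' : St (pre A (l ++ [b]) l.length) b := this
      rw [e2] at this'
      exact this'
  · rintro ⟨h1, h2⟩
    exact isTower_concat hmono h1 h2

theorem isTower_append_right_of
    (hmono : ∀ (T T' : Subalgebra A B) (b : B), T ≤ T' → St T b → St T' b)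
    {l : List B} (hl : IsTower St l) (l₂ : List B)
    (h : ∀ b ∈ l₂, St (Algebra.adjoin A {x | x ∈ l}) b) : IsTower St (l ++ l₂) := by
  induction l₂ using List.reverseRecOn with
  | nil => simpa using hl
  | append_singleton l₂ b ih =>
    rw [← List.append_assoc]
    apply isTower_concat hmono
    · exact ih (fun x hx => h x (List.mem_append_left _ hx))
    · apply hmono _ _ _ (adjoin_le_append_left l l₂)
      exact h b (by simp)

end Basic

section Lift

variable {A B P : Type u} [CommRing A] [CommRing B] [CommRing P] [Algebra A B] [Algebra A P]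

/-- Lifting a prime-or-square-cube tower along an algebra map, at the cost of finitely many
relations. -/
theorem lift_StP (π : P →ₐ[A] B) (l : List P) (h : IsTower (StP (A := A)) (l.map π)) :
    ∃ E : Finset P, (∀ t ∈ E, π t = 0) ∧ ∀ I : Ideal P, (↑E : Set P) ⊆ I →
      IsTower (StP (A := A)) (l.map (Ideal.Quotient.mkₐ A I)) := by
  classical
  induction l using List.reverseRecOn with
  | nil => exact ⟨∅, by simp, fun I _ => isTower_nil _⟩
  | append_singleton l x ih =>
    rw [List.map_append, List.map_singleton, isTower_concat_iff StP_mono] at h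
    obtain ⟨h1, h2⟩ := h
    obtain ⟨E₀, hE₀, hE₀'⟩ := ih h1
    rw [adjoin_map_list] at h2
    rcases h2 with ⟨⟨u, hu, hu'⟩, ⟨v, hv, hv'⟩⟩ | ⟨p, hp, ⟨u, hu, hu'⟩, ⟨v, hv, hv'⟩⟩
    · refine ⟨E₀ ∪ {x ^ 2 - u, x ^ 3 - v}, ?_, ?_⟩
      · intro t ht
        rw [Finset.mem_union] at ht
        rcases ht with ht | ht
        · exact hE₀ t ht
        · simp only [Finset.mem_insert, Finset.mem_singleton] at ht
          rcases ht with rfl | rfl
          · rw [map_sub, map_pow]
            have : (π : P →+* B) u = π u := rfl
            rw [← this, hu', sub_self]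
          · rw [map_sub, map_pow]
            have : (π : P →+* B) v = π v := rfl
            rw [← this, hv', sub_self]
      · intro I hI
        rw [List.map_append, List.map_singleton, isTower_concat_iff StP_mono]
        refine ⟨hE₀' I (fun t ht => hI (by simp [ht])), Or.inl ⟨?_, ?_⟩⟩
        · rw [adjoin_map_list]
          refine ⟨u, hu, ?_⟩
          show Ideal.Quotient.mk I u = (Ideal.Quotient.mk I x) ^ 2
          rw [← map_pow, eq_comm, Ideal.Quotient.eq]
          exact hI (by simp)
        · rw [adjoin_map_list]
          refine ⟨v, hv, ?_⟩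
          show Ideal.Quotient.mk I v = (Ideal.Quotient.mk I x) ^ 3
          rw [← map_pow, eq_comm, Ideal.Quotient.eq]
          exact hI (by simp)
    · refine ⟨E₀ ∪ {(p : P) * x - u, x ^ p - v}, ?_, ?_⟩
      · intro t ht
        rw [Finset.mem_union] at ht
        rcases ht with ht | ht
        · exact hE₀ t ht
        · simp only [Finset.mem_insert, Finset.mem_singleton] at ht
          rcases ht with rfl | rfl
          · rw [map_sub, map_mul, map_natCast]
            have : (π : P →+* B) u = π u := rfl
            rw [← this, hu', sub_self]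
          · rw [map_sub, map_pow]
            have : (π : P →+* B) v = π v := rfl
            rw [← this, hv', sub_self]
      · intro I hI
        rw [List.map_append, List.map_singleton, isTower_concat_iff StP_mono]
        refine ⟨hE₀' I (fun t ht => hI (by simp [ht])), Or.inr ⟨p, hp, ?_, ?_⟩⟩
        · rw [adjoin_map_list]
          refine ⟨u, hu, ?_⟩
          show Ideal.Quotient.mk I u = (p : P ⧸ I) * (Ideal.Quotient.mk I x)
          have e : (p : P ⧸ I) = Ideal.Quotient.mk I (p : P) := by simp
          rw [e, ← map_mul, eq_comm, Ideal.Quotient.eq]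
          exact hI (by simp)
        · rw [adjoin_map_list]
          refine ⟨v, hv, ?_⟩
          show Ideal.Quotient.mk I v = (Ideal.Quotient.mk I x) ^ p
          rw [← map_pow, eq_comm, Ideal.Quotient.eq]
          exact hI (by simp)

/-- Lifting a square-cube tower along an algebra map, at the cost of finitely many relations. -/
theorem lift_St2 (π : P →ₐ[A] B) (l : List P) (h : IsTower (St2 (A := A)) (l.map π)) :
    ∃ E : Finset P, (∀ t ∈ E, π t = 0) ∧ ∀ I : Ideal P, (↑E : Set P) ⊆ I →
      IsTower (St2 (A := A)) (l.map (Ideal.Quotient.mkₐ A I)) := by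
  classical
  induction l using List.reverseRecOn with
  | nil => exact ⟨∅, by simp, fun I _ => isTower_nil _⟩
  | append_singleton l x ih =>
    rw [List.map_append, List.map_singleton, isTower_concat_iff St2_mono] at h
    obtain ⟨h1, h2⟩ := h
    obtain ⟨E₀, hE₀, hE₀'⟩ := ih h1
    rw [adjoin_map_list] at h2
    obtain ⟨⟨u, hu, hu'⟩, ⟨v, hv, hv'⟩⟩ := h2
    refine ⟨E₀ ∪ {x ^ 2 - u, x ^ 3 - v}, ?_, ?_⟩
    · intro t ht
      rw [Finset.mem_union] at ht
      rcases ht with ht | ht
      · exact hE₀ t ht
      · simp only [Finset.mem_insert, Finset.mem_singleton] at ht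
        rcases ht with rfl | rfl
        · rw [map_sub, map_pow]
          have : (π : P →+* B) u = π u := rfl
          rw [← this, hu', sub_self]
        · rw [map_sub, map_pow]
          have : (π : P →+* B) v = π v := rfl
          rw [← this, hv', sub_self]
    · intro I hI
      rw [List.map_append, List.map_singleton, isTower_concat_iff St2_mono]
      refine ⟨hE₀' I (fun t ht => hI (by simp [ht])), ⟨?_, ?_⟩⟩
      · rw [adjoin_map_list]
        refine ⟨u, hu, ?_⟩
        show Ideal.Quotient.mk I u = (Ideal.Quotient.mk I x) ^ 2
        rw [← map_pow, eq_comm, Ideal.Quotient.eq]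
        exact hI (by simp)
      · rw [adjoin_map_list]
        refine ⟨v, hv, ?_⟩
        show Ideal.Quotient.mk I v = (Ideal.Quotient.mk I x) ^ 3
        rw [← map_pow, eq_comm, Ideal.Quotient.eq]
        exact hI (by simp)

end Lift

end Groth.Agent.Lib.Helper20.Tower
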