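import Groth.Agent.Lib.Helper20FPD
import Groth.Agent.Lib.Helper20TowerLift

/-!
# The key lemma for approximating universal homeomorphisms (helper20)
-/

universe u

namespace Groth.Agent.Lib.Helper20.FPD

open CategoryTheory MvPolynomial
open Groth.Agent.Lib.Helper20.AWN Groth.Agent.Lib.Helper20.Tower

variable {A B : Type u} [CommRing A] [CommRing B] [Algebra A B]

/-- Surjectivity on spectra descends to an intermediate algebra. -/
theorem comap_surjective_of_algHom {C : Type u} [CommRing C] [Algebra A C] (g : C →ₐ[A] B)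
    (hs : Function.Surjective (PrimeSpectrum.comap (algebraMap A B))) :
    Function.Surjective (PrimeSpectrum.comap (algebraMap A C)) := by
  intro P
  obtain ⟨Q, hQ⟩ := hs P
  refine ⟨PrimeSpectrum.comap (g : C →+* B) Q, ?_⟩
  rw [← hQ]
  have : algebraMap A B = (g : C →+* B).comp (algebraMap A C) := by
    ext a
    exact (g.commutes a).symm
  rw [this]
  rfl

/-- The list of variables attached to a list of elements. -/
noncomputable def varList (l : List B) [DecidableEq B] : List (MvPolynomial l.toFinset A) :=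
  l.pmap (fun b hb => X ⟨b, hb⟩) (fun _ hb => List.mem_toFinset.mpr hb)

theorem varList_map [DecidableEq B] (l : List B) :
    (varList (A := A) l).map (piS l.toFinset) = l := by
  unfold varList
  rw [List.map_pmap]
  have : ∀ (b : B) (hb : b ∈ l.toFinset),
      piS (A := A) l.toFinset (X ⟨b, hb⟩) = b := fun b hb => piS_X _ _
  simp only [this]
  simp

theorem adjoin_varList [DecidableEq B] (l : List B) :
    Algebra.adjoin A {y | y ∈ varList (A := A) l} = ⊤ := by
  rw [eq_top_iff, ← MvPolynomial.adjoin_range_X]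
  apply Algebra.adjoin_mono
  rintro _ ⟨s, rfl⟩
  show X s ∈ varList (A := A) l
  unfold varList
  rw [List.mem_pmap]
  exact ⟨s.1, List.mem_toFinset.mp s.2, rfl⟩

theorem towers_Q (d' : D A B) (lt : List (MvPolynomial d'.1 A))
    (hlt : Algebra.adjoin A {y | y ∈ lt} = ⊤) (q : Q d') :
    q ∈ Algebra.adjoin A
      {x | x ∈ lt.map (Ideal.Quotient.mkₐ A (Ideal.span (d'.2 : Set (MvPolynomial d'.1 A))))} := by
  rw [adjoin_map_list, hlt]
  obtain ⟨p, rfl⟩ := Ideal.Quotient.mk_surjective q
  exact ⟨p, Algebra.mem_top, rfl⟩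

theorem UH_Q_of_tower (hs : Function.Surjective (PrimeSpectrum.comap (algebraMap A B)))
    (d' : D A B) (hd' : Rel d') (lt : List (MvPolynomial d'.1 A))
    (hlt : Algebra.adjoin A {y | y ∈ lt} = ⊤)
    (htower : IsTower (StP (A := A))
      (lt.map (Ideal.Quotient.mkₐ A (Ideal.span (d'.2 : Set (MvPolynomial d'.1 A)))))) :
    UH (algebraMap A (Q d')) := by
  apply UH_of_towers_of_surjective (comap_surjective_of_algHom (iota d' hd') hs)
  intro q
  exact ⟨_, htower, towers_Q d' lt hlt q⟩

theorem residue_Q_of_tower (d' : D A B) (lt : List (MvPolynomial d'.1 A))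
    (hlt : Algebra.adjoin A {y | y ∈ lt} = ⊤)
    (htower : IsTower (St2 (A := A))
      (lt.map (Ideal.Quotient.mkₐ A (Ideal.span (d'.2 : Set (MvPolynomial d'.1 A))))))
    (P : PrimeSpectrum (Q d')) : Function.Surjective (Ideal.ResidueField.map
        (PrimeSpectrum.comap (algebraMap A (Q d')) P).asIdeal P.asIdeal
          (algebraMap A (Q d')) rfl) :=
  residue_surjective_of_towers (fun q => ⟨_, htower, towers_Q d' lt hlt q⟩) P

/-- Common construction of the enlarged datum. -/
theorem exists_datum [DecidableEq B] (d : D A B) (hd : Rel d) (l' : List B) (hSS' : d.1 ⊆ l'.toFinset)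
    (E : Finset (MvPolynomial l'.toFinset A)) (hE : ∀ t ∈ E, piS l'.toFinset t = 0) :
    ∃ d' : D A B, ∃ e : d'.1 = l'.toFinset, le d d' ∧ Rel d' ∧
      ∀ t ∈ E, (e ▸ t : MvPolynomial d'.1 A) ∈ d'.2 := by
  classical
  refine ⟨⟨l'.toFinset, E ∪ d.2.image (rename (incl hSS'))⟩, rfl, ?_, ?_, ?_⟩
  · exact ⟨hSS', fun h t ht => Ideal.subset_span (by
      simp only [Finset.coe_union, Finset.coe_image, Set.mem_union, Set.mem_image,
        Finset.mem_coe]
      exact Or.inr ⟨t, ht, rfl⟩)⟩
  · intro t ht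
    simp only [Finset.mem_union, Finset.mem_image] at ht
    rcases ht with ht | ⟨t', ht', rfl⟩
    · exact hE t ht
    · rw [piS_rename]; exact hd t' ht'
  · intro t ht
    exact Finset.mem_union_left _ ht

/-- The key lemma, prime-or-square-cube version. -/
theorem key_StP (hs : Function.Surjective (PrimeSpectrum.comap (algebraMap A B)))
    (htow : ∀ b : B, ∃ l : List B, IsTower (StP (A := A)) l ∧ b ∈ Algebra.adjoin A {x | x ∈ l})
    (d : D A B) (hd : Rel d) :
    ∃ d' : D A B, le d d' ∧ Rel d' ∧ UH (algebraMap A (Q d')) := by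
  classical
  obtain ⟨l, hl, hS⟩ := exists_tower_finset (St := StP (A := A) (B := B)) StP_mono d.1
    (fun b _ => htow b)
  have hl' : IsTower (StP (A := A)) (l ++ d.1.toList) :=
    isTower_append_right_of StP_mono hl _ (fun b hb =>
      Or.inl ⟨pow_mem (hS (Finset.mem_coe.mpr (Finset.mem_toList.mp hb))) 2,
        pow_mem (hS (Finset.mem_coe.mpr (Finset.mem_toList.mp hb))) 3⟩)
  have hSS' : d.1 ⊆ (l ++ d.1.toList).toFinset := fun s hs =>
    List.mem_toFinset.mpr (List.mem_append_right _ (Finset.mem_toList.mpr hs))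
  obtain ⟨E, hE, hE'⟩ := lift_StP (piS (A := A) (l ++ d.1.toList).toFinset)
    (varList (l ++ d.1.toList)) (by rw [varList_map]; exact hl')
  obtain ⟨⟨S', T'⟩, e, hle, hd', hET⟩ := exists_datum d hd (l ++ d.1.toList) hSS' E hE
  dsimp only at e
  subst e
  refine ⟨⟨_, T'⟩, hle, hd', ?_⟩
  exact UH_Q_of_tower hs _ hd' (varList (l ++ d.1.toList)) (adjoin_varList _)
    (hE' _ (fun t ht => Ideal.subset_span (Finset.mem_coe.mpr (hET t (Finset.mem_coe.mp ht)))))

/-- The key lemma, square-cube version. -/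
theorem key_St2 (hs : Function.Surjective (PrimeSpectrum.comap (algebraMap A B)))
    (htow : ∀ b : B, ∃ l : List B, IsTower (St2 (A := A)) l ∧ b ∈ Algebra.adjoin A {x | x ∈ l})
    (d : D A B) (hd : Rel d) :
    ∃ d' : D A B, le d d' ∧ Rel d' ∧ (UH (algebraMap A (Q d')) ∧
      ∀ P : PrimeSpectrum (Q d'), Function.Surjective (Ideal.ResidueField.map
        (PrimeSpectrum.comap (algebraMap A (Q d')) P).asIdeal P.asIdeal
          (algebraMap A (Q d')) rfl)) := by
  classical
  obtain ⟨l, hl, hS⟩ := exists_tower_finset (St := St2 (A := A) (B := B)) St2_mono d.1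
    (fun b _ => htow b)
  have hl' : IsTower (St2 (A := A)) (l ++ d.1.toList) :=
    isTower_append_right_of St2_mono hl _ (fun b hb =>
      ⟨pow_mem (hS (Finset.mem_coe.mpr (Finset.mem_toList.mp hb))) 2,
        pow_mem (hS (Finset.mem_coe.mpr (Finset.mem_toList.mp hb))) 3⟩)
  have hSS' : d.1 ⊆ (l ++ d.1.toList).toFinset := fun s hs =>
    List.mem_toFinset.mpr (List.mem_append_right _ (Finset.mem_toList.mpr hs))
  obtain ⟨E, hE, hE'⟩ := lift_St2 (piS (A := A) (l ++ d.1.toList).toFinset)
    (varList (l ++ d.1.toList)) (by rw [varList_map]; exact hl')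
  obtain ⟨⟨S', T'⟩, e, hle, hd', hET⟩ := exists_datum d hd (l ++ d.1.toList) hSS' E hE
  dsimp only at e
  subst e
  have htower := hE' (Ideal.span (T' : Set _))
    (fun t ht => Ideal.subset_span (Finset.mem_coe.mpr (hET t (Finset.mem_coe.mp ht))))
  refine ⟨⟨_, T'⟩, hle, hd', ?_, ?_⟩
  · exact UH_Q_of_tower hs _ hd' (varList (l ++ d.1.toList)) (adjoin_varList _)
      (isTower_StP_of_St2 htower)
  · exact residue_Q_of_tower _ (varList (l ++ d.1.toList)) (adjoin_varList _) htower

end Groth.Agent.Lib.Helper20.FPD
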