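import Mathlib
import Groth.Prelude.Def_MoreMor

set_option autoImplicit false
set_option linter.style.haveILetI false
universe u
open CategoryTheory CategoryTheory.Limits AlgebraicGeometry TopologicalSpace Opposite

namespace Groth.Agent.Lib.Helper20.FSChart

/-- the scheme-level infinitesimal lifting property gives formally smooth ring maps on affine charts. -/
theorem formallySmooth_appLE {X Y : Scheme.{u}} (f : X ⟶ Y) (hf : MoreMor.IsFormallySmoothHom f)
    {U : X.Opens} (hU : IsAffineOpen U) {V : Y.Opens} (hV : IsAffineOpen V) (hUV : U ≤ f ⁻¹ᵁ V) :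
    (f.appLE V U hUV).hom.FormallySmooth := by
  letI := (f.appLE V U hUV).hom.toAlgebra
  change Algebra.FormallySmooth Γ(Y, V) Γ(X, U)
  refine Algebra.FormallySmooth.iff_comp_surjective.mpr fun C _ _ I hI g ↦ ?_
  have hg : f.appLE V U hUV ≫ CommRingCat.ofHom g.toRingHom =
      CommRingCat.ofHom (algebraMap Γ(Y, V) C) ≫ CommRingCat.ofHom (Ideal.Quotient.mk I) :=
    CommRingCat.hom_ext (by
      ext a
      exact g.commutes a)
  let a : Spec (CommRingCat.of (C ⧸ I)) ⟶ X := Spec.map (CommRingCat.ofHom g.toRingHom) ≫ hU.fromSpec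
  let b : Spec (CommRingCat.of C) ⟶ Y := Spec.map (CommRingCat.ofHom (algebraMap Γ(Y, V) C)) ≫ hV.fromSpec
  have hsq : Spec.map (CommRingCat.ofHom (Ideal.Quotient.mk I)) ≫ b = a ≫ f := by
    simp only [a, b, Category.assoc, ← hV.SpecMap_appLE_fromSpec f hU hUV, ← Spec.map_comp_assoc, hg]
  obtain ⟨l, hl1, hl2⟩ := hf C I hI a b hsq
  have hrange : Set.range l ⊆ Set.range hU.fromSpec := by
    rintro _ ⟨c, rfl⟩
    have hsurj : Function.Surjective (Spec.map (CommRingCat.ofHom (Ideal.Quotient.mk I))) := by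
      intro c
      have hIc : I ≤ c.asIdeal := by
        apply Ideal.IsPrime.le_of_pow_le (n := 2)
        rw [hI]; exact bot_le
      have : c ∈ Set.range (PrimeSpectrum.comap (Ideal.Quotient.mk I)) := by
        rw [range_comap_of_surjective _ _ Ideal.Quotient.mk_surjective, Ideal.mk_ker]
        exact hIc
      obtain ⟨c', hc'⟩ := this
      exact ⟨c', hc'⟩
    obtain ⟨c', rfl⟩ := hsurj c
    rw [← Scheme.Hom.comp_apply, hl1]
    exact ⟨_, rfl⟩
  let l' : Spec (CommRingCat.of C) ⟶ Spec Γ(X, U) := IsOpenImmersion.lift hU.fromSpec l hrange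
  have hl' : l' ≫ hU.fromSpec = l := IsOpenImmersion.lift_fac _ _ _
  let g' : Γ(X, U) ⟶ CommRingCat.of C := Spec.preimage l'
  have hg' : Spec.map g' = l' := Spec.map_preimage l'
  have h1 : g' ≫ CommRingCat.ofHom (Ideal.Quotient.mk I) = CommRingCat.ofHom g.toRingHom := by
    apply Spec.map_injective
    rw [← cancel_mono hU.fromSpec, Spec.map_comp, Category.assoc, hg', hl', hl1]
  have h2 : f.appLE V U hUV ≫ g' = CommRingCat.ofHom (algebraMap Γ(Y, V) C) := by
    apply Spec.map_injective
    rw [← cancel_mono hV.fromSpec, Spec.map_comp, Category.assoc, hV.SpecMap_appLE_fromSpec f hU hUV,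
      ← Category.assoc, hg', hl', hl2]
  refine ⟨⟨g'.hom, fun r => congr($h2 r)⟩, AlgHom.ext fun x => ?_⟩
  exact congr($h1 x)

end Groth.Agent.Lib.Helper20.FSChart
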