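import Groth.Prelude.Def_FSch5
import Groth.Agent.Lib.Helper22ThickAffine
import Groth.Agent.Lib.Helper22IdealComap

/-!
# Adic morphisms of formal systems (ns `Groth.Agent.Lib.Helper20.FSchAdic`)

* `isNoetherianRing_of_surjective_of_fg_ker`: `B → C` onto, `C` Noetherian, kernel f.g. and nil ⟹ `B` Noetherian.
* `ker_eq_comap_of_isPullback`, `comap_pow`, `iSup_affine_le_preimage` (copies of helper18's lemmas,
  to avoid the heavy imports).
* `isPullback_toX`: for an adic morphism the squares over `toX n` are cartesian.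
* `isFormal_of_isAdicHom`, `isAdic_of_isAdicHom`, `isLocallyNoetherian_of_isAdicHom`,
  `isLocNoethFormal_of_isAdicHom`.
* `isAdicHom_pullbackSnd`: base change of an adic morphism (levelwise fibre product) is adic.
-/

set_option autoImplicit false
open CategoryTheory CategoryTheory.Limits AlgebraicGeometry
universe u

namespace Groth.Agent.Lib.Helper20.FSchAdic

theorem isNoetherianRing_of_surjective_of_fg_ker {B C : Type*} [CommRing B] [CommRing C]
    (φ : B →+* C) (hφ : Function.Surjective φ) [IsNoetherianRing C] (hfg : (RingHom.ker φ).FG)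
    (hnil : RingHom.ker φ ≤ nilradical B) : IsNoetherianRing B := by
  apply IsNoetherianRing.of_prime
  intro P hP
  have hle : RingHom.ker φ ≤ P := hnil.trans (nilradical_le_prime P)
  refine Ideal.fg_of_fg_map_of_fg_inf_ker_of_surjective (f := φ) (IsNoetherian.noetherian _) ?_ hφ
  rwa [inf_eq_right.mpr hle]

section Ideal

variable {Y X Y' X' : Scheme.{u}}

theorem ker_eq_comap_of_isPullback (f : Y ⟶ X) [IsClosedImmersion f]
    (v : X' ⟶ X) (u : Y' ⟶ Y) (f' : Y' ⟶ X') (hsq : IsPullback u f' f v) :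
    f'.ker = f.ker.comap v := by
  rw [← Scheme.IdealSheafData.ker_fst_of_isClosedImmersion f v, ← hsq.flip.isoPullback_hom_fst,
    Scheme.Hom.ker_comp_of_isIso]

theorem iSup_affine_le_preimage (v : X' ⟶ X) :
    ⨆ U : {U : X'.affineOpens // ∃ V : X.affineOpens, U.1 ≤ v ⁻¹ᵁ V.1}, (U.1).1 = ⊤ := by
  rw [eq_top_iff]
  intro y _
  obtain ⟨_, ⟨V, hV, rfl⟩, hyV, -⟩ := X.isBasis_affineOpens.exists_subset_of_mem_open
    (Set.mem_univ (v y)) isOpen_univ
  obtain ⟨_, ⟨U, hU, rfl⟩, hyU, hUV⟩ := X'.isBasis_affineOpens.exists_subset_of_mem_open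
    (show y ∈ (v ⁻¹ᵁ V : Set X') from hyV) (v ⁻¹ᵁ V).isOpen
  exact TopologicalSpace.Opens.mem_iSup.2 ⟨⟨⟨U, hU⟩, ⟨V, hV⟩, hUV⟩, hyU⟩

theorem comap_pow (v : X' ⟶ X) (I : X.IdealSheafData) (k : ℕ) :
    (I ^ k).comap v = (I.comap v) ^ k := by
  refine Scheme.IdealSheafData.ext_of_iSup_eq_top
    (fun U : {U : X'.affineOpens // ∃ V : X.affineOpens, U.1 ≤ v ⁻¹ᵁ V.1} => U.1)
    (iSup_affine_le_preimage v) ?_
  rintro ⟨U, V, hUV⟩
  change ((I ^ k).comap v).ideal U = ((I.comap v) ^ k).ideal U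
  rw [Groth.Agent.Lib.Helper22.IdealComap.ideal_comap_eq_map v (I ^ k) U V hUV,
    Scheme.IdealSheafData.ideal_pow, Scheme.IdealSheafData.ideal_pow, Pi.pow_apply, Pi.pow_apply,
    Groth.Agent.Lib.Helper22.IdealComap.ideal_comap_eq_map v I U V hUV, Ideal.map_pow]

/-- A thickening `i : X₀ → X'` whose ideal is the inverse image of an ideal on a locally Noetherian
scheme `X`, with `X₀` locally Noetherian, has locally Noetherian target. -/
theorem isLocallyNoetherian_of_ker_eq_comap {X₀ : Scheme.{u}} (i : X₀ ⟶ X') [IsClosedImmersion i]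
    (hi : Function.Surjective i.base) [IsLocallyNoetherian X₀] [IsLocallyNoetherian X]
    (v : X' ⟶ X) (K : X.IdealSheafData) (hK : i.ker = K.comap v) : IsLocallyNoetherian X' := by
  have : Surjective i := ⟨hi⟩
  refine isLocallyNoetherian_of_affine_cover
    (S := fun U : {U : X'.affineOpens // ∃ V : X.affineOpens, U.1 ≤ v ⁻¹ᵁ V.1} => U.1)
    (iSup_affine_le_preimage v) ?_
  rintro ⟨U, V, hUV⟩
  have hW : IsAffineOpen (i ⁻¹ᵁ U.1) := U.2.preimage i
  have : IsNoetherianRing Γ(X₀, i ⁻¹ᵁ U.1) := IsLocallyNoetherian.component_noetherian ⟨_, hW⟩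
  have : IsNoetherianRing Γ(X, V.1) := IsLocallyNoetherian.component_noetherian V
  have hker : RingHom.ker (i.app U.1).hom = (K.ideal V).map (v.appLE V.1 U.1 hUV).hom := by
    rw [← Scheme.Hom.ker_apply, hK]
    exact Groth.Agent.Lib.Helper22.IdealComap.ideal_comap_eq_map v K U V hUV
  refine isNoetherianRing_of_surjective_of_fg_ker (i.app U.1).hom (i.app_surjective U.1 U.2) ?_
    (Groth.Agent.Lib.Helper22.Thick.ker_app_le_nilradical i U.2)
  rw [hker]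
  exact Ideal.FG.map (IsNoetherian.noetherian _) _

end Ideal

section Sys

variable {𝔛 𝔖 : FSch.Sys.{u}} (f : 𝔛 ⟶ 𝔖)

/-- for an adic morphism the squares over `toX n` are cartesian -/
theorem isPullback_toX (hf : FSch.IsAdicHom f) :
    ∀ n, IsPullback (𝔛.toX n) ((f : FSch.Hom 𝔛 𝔖).app 0) ((f : FSch.Hom 𝔛 𝔖).app n) (𝔖.toX n)
  | 0 => by
    dsimp only [FSch.Sys.toX]
    exact IsPullback.of_horiz_isIso ⟨by rw [Category.id_comp, Category.comp_id]⟩
  | n + 1 => by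
    dsimp only [FSch.Sys.toX]
    exact (isPullback_toX hf n).paste_horiz (hf n)

theorem isFormal_of_isAdicHom (h𝔖 : 𝔖.IsFormal) (hf : FSch.IsAdicHom f) : 𝔛.IsFormal := by
  intro n
  have h1 : IsClosedImmersion (𝔛.ι n) :=
    MorphismProperty.of_isPullback (P := @IsClosedImmersion) (hf n).flip (h𝔖 n).1
  have h2 : Surjective (𝔛.ι n) :=
    MorphismProperty.of_isPullback (P := @Surjective) (hf n).flip ⟨(h𝔖 n).2⟩
  exact ⟨h1, h2.surj⟩

theorem isAdic_of_isAdicHom (h𝔖 : 𝔖.IsFormal) (hA : 𝔖.IsAdic) (hf : FSch.IsAdicHom f) :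
    𝔛.IsAdic := by
  intro n
  have := (h𝔖 n).1
  have := FSch.Sys.toX_isClosedImmersion 𝔖 h𝔖 (n + 1)
  rw [ker_eq_comap_of_isPullback (𝔖.ι n) ((f : FSch.Hom 𝔛 𝔖).app (n + 1))
      ((f : FSch.Hom 𝔛 𝔖).app n) (𝔛.ι n) (hf n).flip, hA n, comap_pow,
    ← ker_eq_comap_of_isPullback (𝔖.toX (n + 1)) ((f : FSch.Hom 𝔛 𝔖).app (n + 1))
      ((f : FSch.Hom 𝔛 𝔖).app 0) (𝔛.toX (n + 1)) (isPullback_toX f hf (n + 1)).flip]

theorem isLocallyNoetherian_of_isAdicHom (h𝔖 : 𝔖.IsFormal)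
    (hN : ∀ n, IsLocallyNoetherian (𝔖.X n)) (hf : FSch.IsAdicHom f)
    [IsLocallyNoetherian (𝔛.X 0)] (n : ℕ) : IsLocallyNoetherian (𝔛.X n) := by
  have h𝔛 := isFormal_of_isAdicHom f h𝔖 hf
  have := FSch.Sys.toX_isClosedImmersion 𝔛 h𝔛 n
  have := FSch.Sys.toX_isClosedImmersion 𝔖 h𝔖 n
  have := hN n
  exact isLocallyNoetherian_of_ker_eq_comap (𝔛.toX n) (FSch.Sys.toX_surjective 𝔛 h𝔛 n)
    ((f : FSch.Hom 𝔛 𝔖).app n) (𝔖.toX n).ker
    (ker_eq_comap_of_isPullback (𝔖.toX n) ((f : FSch.Hom 𝔛 𝔖).app n)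
      ((f : FSch.Hom 𝔛 𝔖).app 0) (𝔛.toX n) (isPullback_toX f hf n).flip)

theorem isLocNoethFormal_of_isAdicHom (h𝔖 : 𝔖.IsLocNoethFormal) (hf : FSch.IsAdicHom f)
    [IsLocallyNoetherian (𝔛.X 0)] : 𝔛.IsLocNoethFormal :=
  ⟨isFormal_of_isAdicHom f h𝔖.1 hf, isAdic_of_isAdicHom f h𝔖.1 h𝔖.2.1 hf,
    isLocallyNoetherian_of_isAdicHom f h𝔖.1 h𝔖.2.2 hf⟩

end Sys

end Groth.Agent.Lib.Helper20.FSchAdic
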