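import Groth.Prelude.Def_FSch5
import Groth.Agent.Lib.Helper20FSchAdic
import Mathlib.AlgebraicGeometry.Morphisms.Finite

/-!
# Completions along ideal sheaves as formal systems (ns `Groth.Agent.Lib.Helper20.FSchCompl`)

* `isPullback_completionMap_level`, `isAdicHom_completionMap`: the completion of `X` along the inverse
  image ideal is levelwise `X ×_Y Ŷ_n`, and the completed morphism is adic.
* `isPullback_sys_of_levelwise`: a levelwise cartesian square of systems is cartesian in `FSch.Sys`.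
* `isPullback_of_fibre` (abstract) and `isPullback_completionMap_fibre`: completion of a fibre product.
* `ker_of_factor`, `ker_inclusion`, `isClosedImmersion_inclusion`, `inclusion_surjective`,
  `isFormal_completionAlong`, `toX_eq_inclusion`, `isAdic_completionAlong`,
  `isLocNoethFormal_completionAlong`.
-/

set_option autoImplicit false
open CategoryTheory CategoryTheory.Limits AlgebraicGeometry
universe u

namespace Groth.Agent.Lib.Helper20.FSchCompl

open Groth.Agent.Lib.Helper20.FSchAdic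



section CompletionMap

variable {X Y : Scheme.{u}} (f : X ⟶ Y) (𝓚 : Y.IdealSheafData)
  (h : FSch.PowCompat f (𝓚.comap f) 𝓚)

/-- At every level the completion of `X` along the inverse image ideal is `X ×_Y Ŷ_n`. -/
theorem isPullback_completionMap_level (n : ℕ) :
    IsPullback (FSch.completionToX X (𝓚.comap f) n)
      ((FSch.completionMap f (𝓚.comap f) 𝓚 h : FSch.Hom _ _).app n) f (FSch.completionToX Y 𝓚 n) := by
  refine isPullback_of_isClosedImmersion ((𝓚.comap f) ^ (n + 1)).subschemeι (𝓚 ^ (n + 1)).subschemeι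
    (Scheme.IdealSheafData.subschemeMap ((𝓚.comap f) ^ (n + 1)) (𝓚 ^ (n + 1)) f
      (Scheme.IdealSheafData.le_map_iff_comap_le.mpr (h n))) f
    (Scheme.IdealSheafData.subschemeMap_subschemeι _ _ _ _).symm ?_
  rw [Scheme.IdealSheafData.ker_subschemeι, Scheme.IdealSheafData.ker_subschemeι, comap_pow]

theorem isAdicHom_completionMap : FSch.IsAdicHom (FSch.completionMap f (𝓚.comap f) 𝓚 h) := by
  intro n
  have s := isPullback_completionMap_level f 𝓚 h n
  have t := isPullback_completionMap_level f 𝓚 h (n + 1)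
  have e1 : (FSch.completionAlong X (𝓚.comap f)).ι n ≫ FSch.completionToX X (𝓚.comap f) (n + 1) =
      FSch.completionToX X (𝓚.comap f) n := Scheme.IdealSheafData.inclusion_subschemeι _
  have e2 : (FSch.completionAlong Y 𝓚).ι n ≫ FSch.completionToX Y 𝓚 (n + 1) =
      FSch.completionToX Y 𝓚 n := Scheme.IdealSheafData.inclusion_subschemeι _
  rw [← e1, ← e2] at s
  exact IsPullback.of_right s ((FSch.completionMap f (𝓚.comap f) 𝓚 h : FSch.Hom _ _).comm n).symm t

end CompletionMap

section SysPullback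

theorem app_congr {𝔛 𝔜 : FSch.Sys.{u}} {a b : 𝔛 ⟶ 𝔜} (h : a = b) (n : ℕ) :
    (a : FSch.Hom 𝔛 𝔜).app n = (b : FSch.Hom 𝔛 𝔜).app n := by rw [h]

/-- A square of systems which is cartesian at every level is cartesian. -/
theorem isPullback_sys_of_levelwise {𝔓 𝔛 𝔜 𝔖 : FSch.Sys.{u}} (a : 𝔓 ⟶ 𝔛) (b : 𝔓 ⟶ 𝔜)
    (f : 𝔛 ⟶ 𝔖) (g : 𝔜 ⟶ 𝔖)
    (H : ∀ n, IsPullback ((a : FSch.Hom _ _).app n) ((b : FSch.Hom _ _).app n)
      ((f : FSch.Hom _ _).app n) ((g : FSch.Hom _ _).app n)) : IsPullback a b f g := by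
  refine ⟨⟨FSch.Hom.ext (funext fun n => (H n).w)⟩, ⟨PullbackCone.IsLimit.mk _
    (fun s => ⟨fun n => (H n).lift ((s.fst : FSch.Hom _ _).app n) ((s.snd : FSch.Hom _ _).app n)
      (app_congr s.condition n), fun n => ?_⟩) ?_ ?_ ?_⟩⟩
  · apply (H (n + 1)).hom_ext
    · rw [Category.assoc, ← (a : FSch.Hom _ _).comm n, ← Category.assoc, (H n).lift_fst,
        Category.assoc, (H (n + 1)).lift_fst, (s.fst : FSch.Hom _ _).comm n]
    · rw [Category.assoc, ← (b : FSch.Hom _ _).comm n, ← Category.assoc, (H n).lift_snd,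
        Category.assoc, (H (n + 1)).lift_snd, (s.snd : FSch.Hom _ _).comm n]
  · intro s
    exact FSch.Hom.ext (funext fun n => (H n).lift_fst _ _ _)
  · intro s
    exact FSch.Hom.ext (funext fun n => (H n).lift_snd _ _ _)
  · intro s m h1 h2
    refine FSch.Hom.ext (funext fun n => (H n).hom_ext ?_ ?_)
    · rw [(H n).lift_fst]; exact app_congr h1 n
    · rw [(H n).lift_snd]; exact app_congr h2 n

end SysPullback



/-- abstract form of "the completion of a fibre product is the fibre product of the completions". -/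
theorem isPullback_of_fibre {C : Type*} [Category C] {P X Y S A B Cc D : C}
    (fst : P ⟶ X) (snd : P ⟶ Y) (g : X ⟶ S) (h : Y ⟶ S) (hP : IsPullback fst snd g h)
    (ιA : A ⟶ P) (ιB : B ⟶ X) (ιC : Cc ⟶ Y) (ιD : D ⟶ S) [Mono ιC] [Mono ιD]
    (a : A ⟶ B) (c : A ⟶ Cc) (b : B ⟶ D) (d : Cc ⟶ D)
    (sq1 : IsPullback ιA a fst ιB) (hc : c ≫ ιC = ιA ≫ snd) (hb : b ≫ ιD = ιB ≫ g)
    (hd : d ≫ ιD = ιC ≫ h) : IsPullback a c b d := by
  have hw : a ≫ b = c ≫ d := by
    rw [← cancel_mono ιD, Category.assoc, hb, ← Category.assoc, ← sq1.w, Category.assoc, hP.w,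
      ← Category.assoc, ← hc, Category.assoc, Category.assoc, hd]
  refine ⟨⟨hw⟩, ⟨PullbackCone.IsLimit.mk _ (fun s => sq1.lift
    (hP.lift (s.fst ≫ ιB) (s.snd ≫ ιC) (by
      rw [Category.assoc, ← hb, ← Category.assoc, s.condition, Category.assoc, hd, Category.assoc]))
    s.fst (hP.lift_fst _ _ _)) ?_ ?_ ?_⟩⟩
  · intro s
    exact sq1.lift_snd _ _ _
  · intro s
    rw [← cancel_mono ιC, Category.assoc, hc, ← Category.assoc, sq1.lift_fst, hP.lift_snd]
  · intro s m h1 h2
    apply sq1.hom_ext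
    · rw [sq1.lift_fst]
      apply hP.hom_ext
      · rw [hP.lift_fst, Category.assoc, sq1.w, ← Category.assoc, h1]
      · rw [hP.lift_snd, Category.assoc, ← hc, ← Category.assoc, h2]
    · rw [sq1.lift_snd, h1]

theorem isPullback_completionMap_fibre {X Y S : Scheme.{u}} (g : X ⟶ S) (h : Y ⟶ S)
    (𝓡 : X.IdealSheafData) (𝓙 : S.IdealSheafData)
    (hg : FSch.PowCompat g 𝓡 𝓙) (hh : FSch.PowCompat h (𝓙.comap h) 𝓙)
    (hp : FSch.PowCompat (pullback.fst g h) (𝓡.comap (pullback.fst g h)) 𝓡)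
    (hq : FSch.PowCompat (pullback.snd g h) (𝓡.comap (pullback.fst g h)) (𝓙.comap h)) :
    IsPullback (FSch.completionMap (pullback.fst g h) (𝓡.comap (pullback.fst g h)) 𝓡 hp)
      (FSch.completionMap (pullback.snd g h) (𝓡.comap (pullback.fst g h)) (𝓙.comap h) hq)
      (FSch.completionMap g 𝓡 𝓙 hg) (FSch.completionMap h (𝓙.comap h) 𝓙 hh) := by
  apply isPullback_sys_of_levelwise
  intro n
  have : Mono (FSch.completionToX Y (𝓙.comap h) n) :=
    inferInstanceAs (Mono ((𝓙.comap h) ^ (n + 1)).subschemeι)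
  have : Mono (FSch.completionToX S 𝓙 n) := inferInstanceAs (Mono (𝓙 ^ (n + 1)).subschemeι)
  refine isPullback_of_fibre (pullback.fst g h) (pullback.snd g h) g h (IsPullback.of_hasPullback g h)
    (FSch.completionToX _ (𝓡.comap (pullback.fst g h)) n) (FSch.completionToX X 𝓡 n)
    (FSch.completionToX Y (𝓙.comap h) n) (FSch.completionToX S 𝓙 n) _ _ _ _
    (isPullback_completionMap_level (pullback.fst g h) 𝓡 hp n) ?_ ?_ ?_
  · exact Scheme.IdealSheafData.subschemeMap_subschemeι ((𝓡.comap (pullback.fst g h)) ^ (n + 1))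
      ((𝓙.comap h) ^ (n + 1)) (pullback.snd g h)
      (Scheme.IdealSheafData.le_map_iff_comap_le.mpr (hq n))
  · exact Scheme.IdealSheafData.subschemeMap_subschemeι (𝓡 ^ (n + 1)) (𝓙 ^ (n + 1)) g
      (Scheme.IdealSheafData.le_map_iff_comap_le.mpr (hg n))
  · exact Scheme.IdealSheafData.subschemeMap_subschemeι ((𝓙.comap h) ^ (n + 1)) (𝓙 ^ (n + 1)) h
      (Scheme.IdealSheafData.le_map_iff_comap_le.mpr (hh n))




/-- kernel of the first factor of a factorisation of a closed immersion through a closed immersion -/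
theorem ker_of_factor {Z Z' X : Scheme.{u}} (j : Z ⟶ Z') (i' : Z' ⟶ X) (i : Z ⟶ X)
    (hji : j ≫ i' = i) [IsClosedImmersion i] [IsClosedImmersion i'] : j.ker = i.ker.comap i' := by
  refine ker_eq_comap_of_isPullback i i' (𝟙 Z) j ?_
  refine ⟨⟨by rw [Category.id_comp, hji]⟩, ⟨PullbackCone.IsLimit.mk _ (fun s => s.fst) ?_ ?_ ?_⟩⟩
  · intro s; exact Category.comp_id _
  · intro s
    rw [← cancel_mono i', Category.assoc, hji]
    exact s.condition
  · intro s m h1 _
    rw [← h1, Category.comp_id]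

section Completion

variable (X : Scheme.{u}) (𝓘 : X.IdealSheafData)

theorem isClosedImmersion_inclusion {I J : X.IdealSheafData} (h : I ≤ J) :
    IsClosedImmersion (Scheme.IdealSheafData.inclusion h) := by
  have : IsClosedImmersion (Scheme.IdealSheafData.inclusion h ≫ I.subschemeι) := by
    rw [Scheme.IdealSheafData.inclusion_subschemeι]; infer_instance
  exact IsClosedImmersion.of_comp_isClosedImmersion (Scheme.IdealSheafData.inclusion h) I.subschemeι

theorem inclusion_surjective {I J : X.IdealSheafData} (h : I ≤ J) (hs : I.support = J.support) :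
    Function.Surjective (Scheme.IdealSheafData.inclusion h).base := by
  intro y
  have hy : I.subschemeι y ∈ (J.support : Set X) := by
    rw [← hs, ← Scheme.IdealSheafData.range_subschemeι]; exact ⟨y, rfl⟩
  rw [← Scheme.IdealSheafData.range_subschemeι] at hy
  obtain ⟨z, hz⟩ := hy
  refine ⟨z, I.subschemeι.isClosedEmbedding.injective ?_⟩
  rw [← hz, ← Scheme.Hom.comp_apply, Scheme.IdealSheafData.inclusion_subschemeι]

theorem isFormal_completionAlong : (FSch.completionAlong X 𝓘).IsFormal := by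
  intro n
  refine ⟨isClosedImmersion_inclusion X _, inclusion_surjective X _ ?_⟩
  rw [Scheme.IdealSheafData.support_pow_succ, Scheme.IdealSheafData.support_pow_succ]

theorem ker_inclusion {I J : X.IdealSheafData} (h : I ≤ J) :
    (Scheme.IdealSheafData.inclusion h).ker = J.comap I.subschemeι := by
  rw [ker_of_factor (Scheme.IdealSheafData.inclusion h) I.subschemeι J.subschemeι
    (Scheme.IdealSheafData.inclusion_subschemeι h), Scheme.IdealSheafData.ker_subschemeι]

theorem pow_succ_le_pow_one (n : ℕ) : 𝓘 ^ (n + 1) ≤ 𝓘 ^ (0 + 1) :=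
  pow_le_pow_of_le_one bot_le le_top (Nat.succ_le_succ (Nat.zero_le n))

theorem toX_eq_inclusion : ∀ n, (FSch.completionAlong X 𝓘).toX n =
    Scheme.IdealSheafData.inclusion (pow_succ_le_pow_one X 𝓘 n)
  | 0 => by
    dsimp only [FSch.Sys.toX]
    exact (Scheme.IdealSheafData.inclusion_id _).symm
  | n + 1 => by
    dsimp only [FSch.Sys.toX]
    rw [toX_eq_inclusion n]
    exact Scheme.IdealSheafData.inclusion_comp _ _

theorem isAdic_completionAlong : (FSch.completionAlong X 𝓘).IsAdic := by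
  intro n
  have h1 : ((FSch.completionAlong X 𝓘).ι n).ker =
      (𝓘 ^ (n + 1)).comap (𝓘 ^ (n + 1 + 1)).subschemeι :=
    ker_inclusion X (FSch.pow_succ_le X 𝓘 n)
  have h2 : ((FSch.completionAlong X 𝓘).toX (n + 1)).ker =
      𝓘.comap (𝓘 ^ (n + 1 + 1)).subschemeι := by
    refine (congrArg Scheme.Hom.ker (toX_eq_inclusion X 𝓘 (n + 1))).trans
      ((ker_inclusion X _).trans ?_)
    rw [zero_add, pow_one]
  exact h1.trans ((comap_pow _ _ _).trans (congrArg (· ^ (n + 1)) h2.symm))

theorem isLocNoethFormal_completionAlong [IsLocallyNoetherian X] :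
    (FSch.completionAlong X 𝓘).IsLocNoethFormal := by
  refine ⟨isFormal_completionAlong X 𝓘, isAdic_completionAlong X 𝓘, fun n => ?_⟩
  have h0 : IsLocallyNoetherian (𝓘 ^ (n + 1)).subscheme :=
    LocallyOfFiniteType.isLocallyNoetherian (𝓘 ^ (n + 1)).subschemeι
  exact h0

end Completion

end Groth.Agent.Lib.Helper20.FSchCompl
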