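import Groth.Prelude.Def_FibSite
import Mathlib.CategoryTheory.Sites.CoverPreserving

set_option autoImplicit false

universe v₃ u₃ v₂ u₂ v₁ u₁

open CategoryTheory Opposite Pseudofunctor Pseudofunctor.CoGrothendieck Bicategory

namespace Groth.Agent.Lib.Helper20

variable {𝒮 : Type u₁} [Category.{v₁} 𝒮]
variable (F : Pseudofunctor (LocallyDiscrete 𝒮ᵒᵖ) Cat.{v₂, u₂})

set_option backward.defeqAttrib.useBackward true in
set_option backward.isDefEq.respectTransparency false in
/-- precomposing a morphism of the total category with a vertical morphism -/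
lemma ι_map_comp {Y X : ∫ᶜ F} (f : Y ⟶ X) {V : F.obj ⟨op Y.base⟩} (h : V ⟶ Y.fiber) :
    (ι F Y.base).map h ≫ f = (⟨f.base, h ≫ f.fiber⟩ : (⟨Y.base, V⟩ : ∫ᶜ F) ⟶ X) := by
  refine Hom.ext _ _ (by simp) ?_
  simp [F.mapComp_id_right_inv_app, Strict.rightUnitor_eqToIso, ← NatTrans.naturality_assoc,
    ← Cat.Hom₂.comp_app, PrelaxFunctor.map₂_eqToHom]

set_option backward.defeqAttrib.useBackward true in
set_option backward.isDefEq.respectTransparency false in
/-- postcomposing a morphism of the total category with a vertical morphism -/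
lemma comp_ι_map {Z : ∫ᶜ F} {S : 𝒮} {W U : F.obj ⟨op S⟩} (v : Z ⟶ (ι F S).obj W) (b : W ⟶ U) :
    v ≫ (ι F S).map b =
      (⟨v.base, v.fiber ≫ (F.map v.base.op.toLoc).toFunctor.map b⟩ : Z ⟶ (ι F S).obj U) := by
  refine Hom.ext _ _ (by simp) ?_
  simp [F.mapComp_id_left_inv_app, Strict.leftUnitor_eqToIso, ← Functor.map_comp_assoc,
    ← Cat.Hom₂.comp_app, PrelaxFunctor.map₂_eqToHom]

lemma sieve_congr {C : Type*} [Category C] {X Y : C} (S : Sieve X) {f g : Y ⟶ X} (h : f = g)
    (hg : S g) : S f := h ▸ hg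

variable (J : FibSite.Topologies F)

/-- the explicit description of the covering sieves of the total topology -/
def coverSet (X : ∫ᶜ F) : Set (Sieve X) :=
  {S | ∃ R ∈ J X.base X.fiber, Sieve.functorPushforward (ι F X.base) R ≤ S}

variable {F J}

lemma coverSet_pullback (hF : FibSite.IsPreFibSite F J) {X Y : ∫ᶜ F} (S : Sieve X)
    (hS : S ∈ coverSet F J X) (f : Y ⟶ X) : S.pullback f ∈ coverSet F J Y := by
  obtain ⟨R, hR, hRS⟩ := hS
  haveI := hF f.base
  have hcp := CoverPreserving.of_isContinuous (FibSite.invImage F f.base) (J X.base) (J Y.base)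
  have h1 : R.functorPushforward (FibSite.invImage F f.base) ∈
      J Y.base ((FibSite.invImage F f.base).obj X.fiber) := hcp.cover_preserve hR
  refine ⟨(R.functorPushforward (FibSite.invImage F f.base)).pullback f.fiber,
    (J Y.base).pullback_stable f.fiber h1, ?_⟩
  rintro Z k ⟨V, h, k', hh, rfl⟩
  -- hh : h ≫ f.fiber factors through the image of R
  obtain ⟨W, b, a, hb, hfac⟩ := hh
  have e1 : (⟨f.base, h ≫ f.fiber⟩ : (⟨Y.base, V⟩ : ∫ᶜ F) ⟶ X) =
      (⟨f.base, a⟩ : (⟨Y.base, V⟩ : ∫ᶜ F) ⟶ (ι F X.base).obj W) ≫ (ι F X.base).map b := by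
    rw [comp_ι_map]
    exact congrArg _ hfac
  have e2 : (k' ≫ (ι F Y.base).map h) ≫ f =
      (k' ≫ (⟨f.base, a⟩ : (⟨Y.base, V⟩ : ∫ᶜ F) ⟶ (ι F X.base).obj W)) ≫ (ι F X.base).map b := by
    rw [Category.assoc, ι_map_comp, e1, Category.assoc]
    rfl
  have h3 : S ((k' ≫ (⟨f.base, a⟩ : (⟨Y.base, V⟩ : ∫ᶜ F) ⟶ (ι F X.base).obj W)) ≫
      (ι F X.base).map b) :=
    hRS _ ⟨W, b, _, hb, rfl⟩
  exact sieve_congr S e2 h3

/-- the explicit topology on the total category -/
def coverTopology (hF : FibSite.IsPreFibSite F J) : GrothendieckTopology (∫ᶜ F) where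
  sieves X := coverSet F J X
  top_mem' X := ⟨⊤, (J X.base).top_mem _, le_top⟩
  pullback_stable' X Y S f hS := coverSet_pullback hF S hS f
  transitive' X S hS S' hS' := by
    obtain ⟨R, hR, hRS⟩ := hS
    have key : ∀ ⦃W : F.obj ⟨op X.base⟩⦄ ⦃h : W ⟶ X.fiber⦄, R h →
        ∃ R' ∈ J X.base W, Sieve.functorPushforward (ι F X.base) R' ≤
          S'.pullback ((ι F X.base).map h) := by
      intro W h hh
      exact hS' (hRS _ ⟨W, h, 𝟙 _, hh, by simp⟩)
    choose R' hR' hR'S using key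
    refine ⟨Sieve.bind R (fun W h hh => R' hh), (J X.base).bind_covering hR (fun W h hh => hR' hh), ?_⟩
    rintro Z k ⟨V, g, k', ⟨W, c, h, hh, hc, rfl⟩, rfl⟩
    have h2 : S' ((k' ≫ (ι F X.base).map c) ≫ (ι F X.base).map h) :=
      hR'S hh _ ⟨V, c, k', hc, rfl⟩
    have e : k' ≫ (ι F X.base).map (c ≫ h) = (k' ≫ (ι F X.base).map c) ≫ (ι F X.base).map h := by
      rw [Functor.map_comp, Category.assoc]
    exact sieve_congr S' e h2

theorem totalTopology_eq_coverTopology (hF : FibSite.IsPreFibSite F J) :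
    FibSite.totalTopology F J = coverTopology hF := by
  apply le_antisymm
  · apply FibSite.totalTopology_le
    intro S U R hR
    exact ⟨R, hR, le_rfl⟩
  · intro X S ⟨R, hR, hRS⟩
    exact (FibSite.totalTopology F J).superset_covering hRS
      (FibSite.functorPushforward_mem_totalTopology hR)

theorem mem_totalTopology_iff (hF : FibSite.IsPreFibSite F J) (X : ∫ᶜ F) (S : Sieve X) :
    S ∈ FibSite.totalTopology F J X ↔
      ∃ R ∈ J X.base X.fiber, Sieve.functorPushforward (ι F X.base) R ≤ S := by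
  rw [totalTopology_eq_coverTopology hF]
  rfl

end Groth.Agent.Lib.Helper20
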