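import Mathlib
import Groth.Agent.S7890

/-!
# Helper20FibreDisc

Tools for showing that fibres are discrete, based on the Krull principal ideal theorem
(`Groth.Agent.S7890.eq_maximalIdeal_of_forall_mem`).
-/

set_option autoImplicit false
universe u
open AlgebraicGeometry CategoryTheory TopologicalSpace

namespace Groth.Agent.Lib.Helper20FibreDisc

/-- In a Noetherian local ring, if `π ∈ 𝔪`, `π ∉ P0`, and `π` lies in every prime strictly
containing the prime `P0`, then the primes containing `P0` are `P0` and `𝔪` only. -/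
theorem eq_or_eq_maximalIdeal_of_le {B : Type*} [CommRing B] [IsNoetherianRing B]
    [IsLocalRing B] (P0 : Ideal B) [hP0 : P0.IsPrime]
    (π : B) (hπ : π ∉ P0) (hπm : π ∈ IsLocalRing.maximalIdeal B)
    (h : ∀ P : Ideal B, P.IsPrime → P0 < P → π ∈ P) (P : Ideal B) [hPp : P.IsPrime]
    (hle : P0 ≤ P) :
    P = P0 ∨ P = IsLocalRing.maximalIdeal B := by
  by_cases hP : P = P0
  · exact Or.inl hP
  right
  have hsurj : Function.Surjective (Ideal.Quotient.mk P0) := Ideal.Quotient.mk_surjective
  have : IsLocalRing (B ⧸ P0) := IsLocalRing.of_surjective' _ hsurj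
  have hloc : IsLocalHom (Ideal.Quotient.mk P0) := IsLocalHom.of_surjective _ hsurj
  have key := Groth.Agent.S7890.eq_maximalIdeal_of_forall_mem (B := B ⧸ P0)
    (Ideal.Quotient.mk P0 π)
    (by rwa [Ne, Ideal.Quotient.eq_zero_iff_mem])
    (by
      rw [IsLocalRing.mem_maximalIdeal, mem_nonunits_iff] at hπm ⊢
      intro hu
      exact hπm (hloc.map_nonunit _ hu))
    (by
      intro Q hQ hQne
      have hQc : (Q.comap (Ideal.Quotient.mk P0)).IsPrime := Ideal.comap_isPrime _ _
      have hle' : P0 ≤ Q.comap (Ideal.Quotient.mk P0) := by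
        intro b hb
        rw [Ideal.mem_comap, Ideal.Quotient.eq_zero_iff_mem.mpr hb]
        exact zero_mem _
      have : Q.comap (Ideal.Quotient.mk P0) ≠ P0 := by
        intro heq
        apply hQne
        rw [eq_bot_iff]
        intro y hy
        obtain ⟨b, rfl⟩ := hsurj y
        have : b ∈ Q.comap (Ideal.Quotient.mk P0) := hy
        rw [heq] at this
        simpa [Ideal.Quotient.eq_zero_iff_mem] using this
      exact h _ hQc (lt_of_le_of_ne hle' (Ne.symm this)))
    (P.map (Ideal.Quotient.mk P0))
    (hPp := Ideal.map_isPrime_of_surjective hsurj (by simpa using hle))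
    (by
      intro hbot
      apply hP
      apply le_antisymm _ hle
      intro b hb
      have : Ideal.Quotient.mk P0 b ∈ P.map (Ideal.Quotient.mk P0) := Ideal.mem_map_of_mem _ hb
      rw [hbot] at this
      simpa [Ideal.Quotient.eq_zero_iff_mem] using this)
  apply le_antisymm (IsLocalRing.le_maximalIdeal hPp.ne_top)
  intro b hb
  have hb' : Ideal.Quotient.mk P0 b ∈ IsLocalRing.maximalIdeal (B ⧸ P0) := by
    rw [IsLocalRing.mem_maximalIdeal, mem_nonunits_iff] at hb ⊢
    intro hu
    exact hb (hloc.map_nonunit _ hu)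
  rw [← key] at hb'
  have := Ideal.mem_comap.mpr hb'
  rw [Ideal.comap_map_of_surjective _ hsurj] at this
  have hle2 : Ideal.comap (Ideal.Quotient.mk P0) ⊥ ≤ P := by
    rw [← RingHom.ker_eq_comap_bot, Ideal.mk_ker]
    exact hle
  exact (sup_le le_rfl hle2) this

/-- Key local statement. Let `g : Z ⟶ X` with `Z` locally Noetherian, `η ⤳ t` in `Z` with
`g η ≠ g t`, such that every point strictly between `η` and `t` (or equal to `t`) lies over `g t`.
Then there is no point strictly between `η` and `t`. -/
theorem generalization_eq_or_eq {Z X : Scheme.{u}} [IsLocallyNoetherian Z] (g : Z ⟶ X)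
    (t η : Z) (hηt : η ⤳ t) (hne : g.base η ≠ g.base t)
    (hother : ∀ z : Z, η ⤳ z → z ⤳ t → z ≠ η → g.base z = g.base t) :
    ∀ z : Z, η ⤳ z → z ⤳ t → z = η ∨ z = t := by
  set B := Z.presheaf.stalk t
  set A := X.presheaf.stalk (g.base t)
  let ψ : A ⟶ B := g.stalkMap t
  have hcomm : Spec.map ψ ≫ X.fromSpecStalk (g.base t) = Z.fromSpecStalk t ≫ g :=
    Scheme.SpecMap_stalkMap_fromSpecStalk g (x := t)
  have hg : ∀ q : Spec B, g.base (Z.fromSpecStalk t q) =
      X.fromSpecStalk (g.base t) ((Spec.map ψ) q) := by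
    intro q
    have := congrArg (fun h => h.base q) hcomm
    simpa using this.symm
  have hembX := (X.fromSpecStalk (g.base t)).isEmbedding
  have hemb := (Z.fromSpecStalk t).isEmbedding
  have key1 : ∀ q : Spec B, g.base (Z.fromSpecStalk t q) = g.base t ↔
      (Spec.map ψ) q = IsLocalRing.closedPoint A := by
    intro q
    rw [hg]
    constructor
    · intro h
      apply hembX.injective
      rw [h, Scheme.fromSpecStalk_closedPoint]
    · intro h
      rw [h, Scheme.fromSpecStalk_closedPoint]
  have hrange : ∀ z : Z, z ⤳ t → ∃ q : Spec B, Z.fromSpecStalk t q = z := by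
    intro z hz
    have : z ∈ Set.range (Z.fromSpecStalk t) := by
      rw [Scheme.range_fromSpecStalk]; exact hz
    exact this
  have hspec : ∀ q : Spec B, Z.fromSpecStalk t q ⤳ t := by
    intro q
    have : Z.fromSpecStalk t q ∈ Set.range (Z.fromSpecStalk t) := ⟨_, rfl⟩
    rw [Scheme.range_fromSpecStalk] at this
    exact this
  obtain ⟨q0, hq0⟩ := hrange η hηt
  -- the prime of `g η` in `A`
  have hp0 : (Spec.map ψ) q0 ≠ IsLocalRing.closedPoint A := by
    intro h
    apply hne
    rw [← hq0]
    exact (key1 q0).mpr h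
  have hlt : ((Spec.map ψ) q0).asIdeal < IsLocalRing.maximalIdeal A := by
    refine lt_of_le_of_ne (IsLocalRing.le_maximalIdeal (Ideal.IsPrime.ne_top inferInstance)) ?_
    intro h
    exact hp0 (PrimeSpectrum.ext h)
  obtain ⟨a, ham, hap⟩ := SetLike.exists_of_lt hlt
  have hcl : (Spec.map ψ) (IsLocalRing.closedPoint B) = IsLocalRing.closedPoint A := by
    rw [← key1, Scheme.fromSpecStalk_closedPoint]
  have hprimes : ∀ P : Ideal B, P.IsPrime → q0.asIdeal ≤ P →
      P = q0.asIdeal ∨ P = IsLocalRing.maximalIdeal B := by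
    intro P hP hle
    refine eq_or_eq_maximalIdeal_of_le q0.asIdeal (ψ.hom a) ?_ ?_ ?_ P hle
    · intro hmem
      exact hap hmem
    · have : a ∈ ((Spec.map ψ) (IsLocalRing.closedPoint B)).asIdeal := by
        rw [hcl]; exact ham
      exact this
    · intro P' hP' hlt'
      have h1 : η ⤳ Z.fromSpecStalk t ⟨P', hP'⟩ := by
        rw [← hq0]
        apply Specializes.map _ (Z.fromSpecStalk t).base.hom.continuous
        exact (PrimeSpectrum.le_iff_specializes q0 ⟨P', hP'⟩).mp hlt'.le
      have h2 : Z.fromSpecStalk t ⟨P', hP'⟩ ≠ η := by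
        intro h
        rw [← hq0] at h
        have := hemb.injective h
        rw [← this] at hlt'
        exact lt_irrefl _ hlt'
      have h3 := hother _ h1 (hspec _) h2
      rw [key1] at h3
      have : a ∈ ((Spec.map ψ) ⟨P', hP'⟩).asIdeal := by
        rw [h3]; exact ham
      exact this
  intro z hηz hzt
  obtain ⟨q, rfl⟩ := hrange z hzt
  have hle : q0.asIdeal ≤ q.asIdeal := by
    rw [← hq0, hemb.specializes_iff] at hηz
    exact (PrimeSpectrum.le_iff_specializes q0 q).mpr hηz
  rcases hprimes q.asIdeal q.isPrime hle with h | h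
  · left
    rw [← hq0]
    congr 1
    exact PrimeSpectrum.ext h
  · right
    have : q = IsLocalRing.closedPoint B := PrimeSpectrum.ext h
    rw [this, Scheme.fromSpecStalk_closedPoint]

/-- A locally Noetherian scheme without nontrivial specializations is discrete. -/
theorem discreteTopology_of_forall_specializes_eq (F : Scheme.{u}) [IsLocallyNoetherian F]
    (h : ∀ u w : F, u ⤳ w → u = w) : DiscreteTopology F := by
  rw [discreteTopology_iff_isOpen_singleton]
  intro u
  obtain ⟨_, ⟨V, hV, rfl⟩, huV, -⟩ := F.isBasis_affineOpens.exists_subset_of_mem_open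
    (Set.mem_univ u) isOpen_univ
  have : IsNoetherianRing Γ(F, V) := IsLocallyNoetherian.component_noetherian ⟨V, hV⟩
  have : NoetherianSpace (V : Scheme.{u}) := noetherianSpace_of_isAffineOpen V hV
  have hι : ∀ a b : (V : Scheme.{u}), a ⤳ b ↔ (Scheme.Opens.ι (X := F) V).base a ⤳ (Scheme.Opens.ι (X := F) V).base b := fun a b =>
    ((Scheme.Opens.ι (X := F) V).isEmbedding.toIsInducing.specializes_iff).symm
  let u' : (V : Scheme.{u}) := ⟨u, huV⟩
  have hopen : IsOpen ({u'} : Set (V : Scheme.{u})) := by
    apply Groth.Agent.S7890.isOpen_singleton_of_no_generalization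
    · rw [← closure_subset_iff_isClosed]
      intro w hw
      have hw' : u' ⤳ w := specializes_iff_mem_closure.mpr hw
      rw [hι] at hw'
      exact ((Scheme.Opens.ι (X := F) V).isEmbedding.injective (h _ _ hw')).symm
    · intro z hz
      rw [hι] at hz
      exact (Scheme.Opens.ι (X := F) V).isEmbedding.injective (h _ _ hz)
  have := (Scheme.Opens.ι (X := F) V).isOpenEmbedding.isOpenMap _ hopen
  rw [Set.image_singleton] at this
  exact this

/-- In a Noetherian quasi-sober space, every point is a specialization of a point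
of a given dense open subset. -/
theorem exists_mem_specializes_of_dense {α : Type*} [TopologicalSpace α] [NoetherianSpace α]
    [QuasiSober α] (O : Set α) (hO : IsOpen O) (hd : Dense O) (z : α) :
    ∃ η ∈ O, η ⤳ z := by
  obtain ⟨C, hC, hzC⟩ := exists_mem_irreducibleComponents_subset_of_isIrreducible {z}
    isIrreducible_singleton
  have hCcl : IsClosed C := isClosed_of_mem_irreducibleComponents C hC
  obtain ⟨η, hη⟩ := QuasiSober.sober hC.1 hCcl
  have hη' : closure {η} = C := hη
  refine ⟨η, ?_, ?_⟩
  · have hfin : (irreducibleComponents α \ {C}).Finite :=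
      NoetherianSpace.finite_irreducibleComponents.sdiff
    have hclosed : IsClosed (⋃₀ (irreducibleComponents α \ {C})) := by
      rw [Set.sUnion_eq_biUnion]
      exact hfin.isClosed_biUnion fun D hD => isClosed_of_mem_irreducibleComponents D hD.1
    have hηW : η ∈ (⋃₀ (irreducibleComponents α \ {C}))ᶜ := by
      rintro ⟨D, ⟨hD, hDC⟩, hηD⟩
      apply hDC
      have hDcl : IsClosed D := isClosed_of_mem_irreducibleComponents D hD
      have hCD : C ⊆ D := by
        rw [← hη']
        exact closure_minimal (Set.singleton_subset_iff.mpr hηD) hDcl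
      exact (hC.2 hD.1 hCD |> fun h => Set.Subset.antisymm h hCD)
    obtain ⟨w, hwW, hwO⟩ := hd.inter_open_nonempty _ hclosed.isOpen_compl ⟨η, hηW⟩
    -- `w ∈ C`
    have hwC : w ∈ C := by
      obtain ⟨D, hD, hwD⟩ := exists_mem_irreducibleComponents_subset_of_isIrreducible {w}
        isIrreducible_singleton
      by_cases hDC : D = C
      · exact hDC ▸ hwD rfl
      · exact absurd ⟨D, ⟨hD, hDC⟩, hwD rfl⟩ hwW
    have hηw : η ⤳ w := by
      rw [specializes_iff_mem_closure, hη']; exact hwC
    exact hηw.mem_open hO hwO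
  · rw [specializes_iff_mem_closure, hη']
    exact hzC rfl

/-- In a locally Noetherian scheme, every point is a specialization of a point
of a given dense open subset. -/
theorem exists_mem_specializes_of_dense_scheme (Y : Scheme.{u}) [IsLocallyNoetherian Y]
    (O : Y.Opens) (hd : Dense (O : Set Y)) (z : Y) : ∃ η ∈ O, η ⤳ z := by
  obtain ⟨_, ⟨V, hV, rfl⟩, hzV, -⟩ := Y.isBasis_affineOpens.exists_subset_of_mem_open
    (Set.mem_univ z) isOpen_univ
  have : IsNoetherianRing Γ(Y, V) := IsLocallyNoetherian.component_noetherian ⟨V, hV⟩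
  have : NoetherianSpace (V : Scheme.{u}) := noetherianSpace_of_isAffineOpen V hV
  obtain ⟨η, hηO, hηz⟩ := exists_mem_specializes_of_dense (α := (V : Scheme.{u}))
    ((Scheme.Opens.ι (X := Y) V).base ⁻¹' (O : Set Y))
    (O.2.preimage (Scheme.Opens.ι (X := Y) V).base.hom.continuous)
    (by
      rw [dense_iff_inter_open]
      intro W hW hWne
      obtain ⟨w, hw⟩ := hWne
      have hW' : IsOpen ((Scheme.Opens.ι (X := Y) V).base '' W : Set Y) := (Scheme.Opens.ι (X := Y) V).isOpenEmbedding.isOpenMap _ hW
      obtain ⟨y, ⟨y', hy'W, rfl⟩, hyO⟩ := hd.inter_open_nonempty _ hW' ⟨(Scheme.Opens.ι (X := Y) V).base w, w, hw, rfl⟩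
      exact ⟨y', hy'W, hyO⟩)
    ⟨z, hzV⟩
  exact ⟨(Scheme.Opens.ι (X := Y) V).base η, hηO, hηz.map (Scheme.Opens.ι (X := Y) V).base.hom.continuous⟩

end Groth.Agent.Lib.Helper20FibreDisc
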