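import Mathlib

set_option autoImplicit false
universe u
open CategoryTheory CategoryTheory.Limits AlgebraicGeometry

namespace Groth.Agent.Lib.Helper20.FieldLim

section ring

variable (k L : Type u) [Field k] [Field L] [Algebra k L]

/-- finite subextensions -/
abbrev FinSub : Type u := {E : IntermediateField k L // FiniteDimensional k E}

variable {k L}

theorem exists_ge (E E' : FinSub k L) : ∃ E'' : FinSub k L, E ≤ E'' ∧ E' ≤ E'' := by
  haveI := E.2
  haveI := E'.2
  exact ⟨⟨E.1 ⊔ E'.1, IntermediateField.finiteDimensional_sup E.1 E'.1⟩,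
    (le_sup_left : E.1 ≤ E.1 ⊔ E'.1), (le_sup_right : E'.1 ≤ E.1 ⊔ E'.1)⟩

instance instIsDirected : IsDirected (FinSub k L) (· ≤ ·) := ⟨exists_ge⟩

instance : Nonempty (FinSub k L) := ⟨⟨⊥, inferInstance⟩⟩

variable [Algebra.IsAlgebraic k L]

/-- the simple subextension generated by an element -/
noncomputable def gen (x : L) : FinSub k L :=
  ⟨IntermediateField.adjoin k {x},
    IntermediateField.adjoin.finiteDimensional (Algebra.IsIntegral.isIntegral x)⟩

theorem mem_gen (x : L) : x ∈ (gen (k := k) x).1 :=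
  IntermediateField.subset_adjoin k {x} rfl

theorem gen_le {x : L} {E : FinSub k L} (hx : x ∈ E.1) : gen x ≤ E := by
  change IntermediateField.adjoin k {x} ≤ E.1
  rw [IntermediateField.adjoin_le_iff]
  rintro _ rfl
  exact hx

variable {R : Type*} [Semiring R] (φ : ∀ E : FinSub k L, E.1 →+* R)
  (hφ : ∀ (E E' : FinSub k L) (h : E ≤ E') (x : E.1), φ E' (IntermediateField.inclusion h x) = φ E x)

/-- the glued map -/
noncomputable def glueFun (x : L) : R := φ (gen x) ⟨x, mem_gen x⟩

include hφ in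
theorem glueFun_eq (E : FinSub k L) (x : L) (hx : x ∈ E.1) : glueFun φ x = φ E ⟨x, hx⟩ := by
  rw [glueFun, ← hφ (gen x) E (gen_le hx)]
  rfl

/-- the glued ring hom -/
noncomputable def glue : L →+* R where
  toFun := glueFun φ
  map_one' := by
    rw [glueFun_eq φ hφ ⟨⊥, inferInstance⟩ 1 (one_mem _)]
    exact map_one _
  map_zero' := by
    rw [glueFun_eq φ hφ ⟨⊥, inferInstance⟩ 0 (zero_mem _)]
    exact map_zero _
  map_mul' x y := by
    obtain ⟨E, hxE, hyE⟩ := exists_ge (gen (k := k) x) (gen y)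
    have hx : x ∈ E.1 := hxE (mem_gen x)
    have hy : y ∈ E.1 := hyE (mem_gen y)
    rw [glueFun_eq φ hφ E x hx, glueFun_eq φ hφ E y hy, glueFun_eq φ hφ E (x * y) (mul_mem hx hy),
      ← map_mul]
    rfl
  map_add' x y := by
    obtain ⟨E, hxE, hyE⟩ := exists_ge (gen (k := k) x) (gen y)
    have hx : x ∈ E.1 := hxE (mem_gen x)
    have hy : y ∈ E.1 := hyE (mem_gen y)
    rw [glueFun_eq φ hφ E x hx, glueFun_eq φ hφ E y hy, glueFun_eq φ hφ E (x + y) (add_mem hx hy),
      ← map_add]
    rfl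

theorem glue_apply (E : FinSub k L) (x : E.1) : glue φ hφ (x : L) = φ E x :=
  glueFun_eq φ hφ E x x.2

omit [Algebra.IsAlgebraic k L] in
theorem ringHom_ext_finSub [Algebra.IsAlgebraic k L] (ψ ψ' : L →+* R)
    (h : ∀ (E : FinSub k L) (x : E.1), ψ x = ψ' x) : ψ = ψ' := by
  ext x
  exact h (gen x) ⟨x, mem_gen x⟩

end ring

end Groth.Agent.Lib.Helper20.FieldLim
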