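import Groth.Agent.Lib.Helper20FieldLim
import Mathlib

set_option autoImplicit false
universe u
open CategoryTheory CategoryTheory.Limits AlgebraicGeometry

namespace Groth.Agent.Lib.Helper20.FieldLim

section toRing

variable {T : Scheme.{u}} {R R' : Type u} [CommRing R] [CommRing R']

/-- the ring map attached to a morphism to an affine scheme -/
noncomputable def toRing (g : T ⟶ Spec (CommRingCat.of R)) : R →+* Γ(T, ⊤) :=
  ((Scheme.ΓSpecIso (CommRingCat.of R)).inv ≫ g.appTop).hom

theorem eq_toSpecΓ_comp (g : T ⟶ Spec (CommRingCat.of R)) :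
    g = T.toSpecΓ ≫ Spec.map (CommRingCat.ofHom (toRing g)) := by
  have h1 := Scheme.toSpecΓ_naturality g
  rw [← SpecMap_ΓSpecIso_hom] at h1
  have h2 : g = (g ≫ Spec.map (Scheme.ΓSpecIso (CommRingCat.of R)).hom) ≫
      Spec.map (Scheme.ΓSpecIso (CommRingCat.of R)).inv := by
    rw [Category.assoc, ← Spec.map_comp, Iso.inv_hom_id, Spec.map_id, Category.comp_id]
  have h3 : T.toSpecΓ ≫ Spec.map (CommRingCat.ofHom (toRing g)) =
      (T.toSpecΓ ≫ Spec.map g.appTop) ≫ Spec.map (Scheme.ΓSpecIso (CommRingCat.of R)).inv := by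
    rw [Category.assoc, ← Spec.map_comp]
    rfl
  rw [h3, ← h1, ← h2]

theorem toRing_injective {g g' : T ⟶ Spec (CommRingCat.of R)} (h : toRing g = toRing g') : g = g' := by
  rw [eq_toSpecΓ_comp g, eq_toSpecΓ_comp g', h]

theorem toRing_comp (g : T ⟶ Spec (CommRingCat.of R')) (ι : R →+* R') :
    toRing (g ≫ Spec.map (CommRingCat.ofHom ι)) = (toRing g).comp ι := by
  unfold toRing
  rw [Scheme.Hom.comp_appTop, ← Category.assoc]
  have := Scheme.ΓSpecIso_inv_naturality (CommRingCat.ofHom ι)
  rw [← this, Category.assoc]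
  rfl

theorem toRing_toSpecΓ_comp (ψ : R →+* Γ(T, ⊤)) :
    toRing (T.toSpecΓ ≫ Spec.map (CommRingCat.ofHom ψ)) = ψ := by
  unfold toRing
  rw [Scheme.Hom.comp_appTop, Scheme.toSpecΓ_appTop, ← Category.assoc]
  have := Scheme.ΓSpecIso_inv_naturality (CommRingCat.ofHom ψ)
  rw [← this, Category.assoc]
  change CommRingCat.Hom.hom (CommRingCat.ofHom ψ ≫ (Scheme.ΓSpecIso Γ(T, ⊤)).inv ≫
    (Scheme.ΓSpecIso Γ(T, ⊤)).hom) = ψ
  rw [Iso.inv_hom_id, Category.comp_id]
  rfl

end toRing

section diagram

variable {k : Type u} [Field k] (L : Type u) [Field L] [Algebra k L]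
  {X : Scheme.{u}} (f : X ⟶ Spec (CommRingCat.of k))

/-- structure map of a finite subextension -/
noncomputable abbrev sp (E : FinSub k L) : Spec (CommRingCat.of E.1) ⟶ Spec (CommRingCat.of k) :=
  Spec.map (CommRingCat.ofHom (algebraMap k E.1))

/-- structure map of the big field -/
noncomputable abbrev spL : Spec (CommRingCat.of L) ⟶ Spec (CommRingCat.of k) :=
  Spec.map (CommRingCat.ofHom (algebraMap k L))

/-- inclusion of subextensions on spectra -/
noncomputable abbrev spInc {E E' : FinSub k L} (h : E ≤ E') :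
    Spec (CommRingCat.of E'.1) ⟶ Spec (CommRingCat.of E.1) :=
  Spec.map (CommRingCat.ofHom (IntermediateField.inclusion h).toRingHom)

/-- inclusion into the big field on spectra -/
noncomputable abbrev spTop (E : FinSub k L) :
    Spec (CommRingCat.of L) ⟶ Spec (CommRingCat.of E.1) :=
  Spec.map (CommRingCat.ofHom (algebraMap E.1 L))

theorem spInc_sp {E E' : FinSub k L} (h : E ≤ E') : spInc L h ≫ sp L E = sp L E' := by
  rw [← Spec.map_comp]
  rfl

theorem spTop_sp (E : FinSub k L) : spTop L E ≫ sp L E = spL L := by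
  rw [← Spec.map_comp]
  rfl

theorem spTop_spInc {E E' : FinSub k L} (h : E ≤ E') : spTop L E' ≫ spInc L h = spTop L E := by
  rw [← Spec.map_comp]
  rfl

theorem spInc_comp {E E' E'' : FinSub k L} (h : E ≤ E') (h' : E' ≤ E'') :
    spInc L h' ≫ spInc L h = spInc L (h.trans h') := by
  rw [← Spec.map_comp]
  rfl

theorem spInc_refl (E : FinSub k L) : spInc L (le_refl E) = 𝟙 _ := by
  rw [← Spec.map_id]
  rfl

/-- the base change to a finite subextension -/
noncomputable abbrev XE (E : FinSub k L) : Scheme.{u} := pullback f (sp L E)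

/-- the base change to the big field -/
noncomputable abbrev XL : Scheme.{u} := pullback f (spL L)

/-- transition maps -/
noncomputable def tr {E E' : FinSub k L} (h : E ≤ E') : XE L f E' ⟶ XE L f E :=
  pullback.lift (pullback.fst f (sp L E')) (pullback.snd f (sp L E') ≫ spInc L h)
    (by rw [Category.assoc, spInc_sp, pullback.condition])

/-- projections from the top -/
noncomputable def pr (E : FinSub k L) : XL L f ⟶ XE L f E :=
  pullback.lift (pullback.fst f (spL L)) (pullback.snd f (spL L) ≫ spTop L E)
    (by rw [Category.assoc, spTop_sp, pullback.condition])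

@[reassoc (attr := simp)]
theorem tr_fst {E E' : FinSub k L} (h : E ≤ E') :
    tr L f h ≫ pullback.fst f (sp L E) = pullback.fst f (sp L E') := pullback.lift_fst _ _ _

@[reassoc (attr := simp)]
theorem tr_snd {E E' : FinSub k L} (h : E ≤ E') :
    tr L f h ≫ pullback.snd f (sp L E) = pullback.snd f (sp L E') ≫ spInc L h :=
  pullback.lift_snd _ _ _

@[reassoc (attr := simp)]
theorem pr_fst (E : FinSub k L) :
    pr L f E ≫ pullback.fst f (sp L E) = pullback.fst f (spL L) := pullback.lift_fst _ _ _

@[reassoc (attr := simp)]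
theorem pr_snd (E : FinSub k L) :
    pr L f E ≫ pullback.snd f (sp L E) = pullback.snd f (spL L) ≫ spTop L E :=
  pullback.lift_snd _ _ _

theorem pr_tr {E E' : FinSub k L} (h : E ≤ E') : pr L f E' ≫ tr L f h = pr L f E := by
  apply pullback.hom_ext
  · simp
  · simp [spTop_spInc]

theorem tr_tr {E E' E'' : FinSub k L} (h : E ≤ E') (h' : E' ≤ E'') :
    tr L f h' ≫ tr L f h = tr L f (h.trans h') := by
  apply pullback.hom_ext
  · simp
  · simp [spInc_comp]

theorem tr_refl (E : FinSub k L) : tr L f (le_refl E) = 𝟙 _ := by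
  apply pullback.hom_ext
  · simp
  · simp [spInc_refl]

theorem isPullback_tr {E E' : FinSub k L} (h : E ≤ E') :
    IsPullback (tr L f h) (pullback.snd f (sp L E')) (pullback.snd f (sp L E)) (spInc L h) := by
  refine IsPullback.of_right (h₁₂ := pullback.fst f (sp L E)) (h₂₂ := sp L E) (v₁₃ := f) ?_
    (tr_snd L f h) (IsPullback.of_hasPullback f (sp L E))
  rw [tr_fst, spInc_sp]
  exact IsPullback.of_hasPullback f (sp L E')

instance (E E' : FinSub k L) (h : E ≤ E') : IsAffineHom (tr L f h) :=
  MorphismProperty.of_isPullback (P := @IsAffineHom) (isPullback_tr L f h).flip inferInstance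

/-- the diagram -/
noncomputable def D : (FinSub k L)ᵒᵈ ⥤ Scheme.{u} where
  obj i := XE L f (OrderDual.ofDual i)
  map h := tr L f (leOfHom h)
  map_id _ := tr_refl L f _
  map_comp h h' := (tr_tr L f (leOfHom h') (leOfHom h)).symm

/-- the cone -/
noncomputable def cone : Cone (D L f) where
  pt := XL L f
  π :=
    { app := fun i => pr L f (OrderDual.ofDual i)
      naturality := fun _ _ h => by
        change 𝟙 _ ≫ pr L f _ = pr L f _ ≫ tr L f _
        rw [Category.id_comp, pr_tr] }

section limit

variable [Algebra.IsAlgebraic k L] (s : Cone (D L f))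

/-- the leg of a cone at a finite subextension -/
noncomputable abbrev leg (E : FinSub k L) : s.pt ⟶ XE L f E := s.π.app (OrderDual.toDual E)

omit [Algebra.IsAlgebraic k L] in
theorem leg_tr {E E' : FinSub k L} (h : E ≤ E') : leg L f s E' ≫ tr L f h = leg L f s E :=
  s.w (homOfLE (show OrderDual.toDual E' ≤ OrderDual.toDual E from h))

/-- the ring maps of a cone -/
noncomputable def φs (E : FinSub k L) : E.1 →+* Γ(s.pt, ⊤) :=
  toRing (leg L f s E ≫ pullback.snd f (sp L E))

omit [Algebra.IsAlgebraic k L] in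
theorem φs_compat (E E' : FinSub k L) (h : E ≤ E') (x : E.1) :
    φs L f s E' (IntermediateField.inclusion h x) = φs L f s E x := by
  have h1 : φs L f s E = (φs L f s E').comp (IntermediateField.inclusion h).toRingHom := by
    unfold φs
    rw [← toRing_comp, Category.assoc, ← tr_snd, ← Category.assoc, leg_tr]
  rw [h1]
  rfl

/-- the induced map to the spectrum of the big field -/
noncomputable def toL : s.pt ⟶ Spec (CommRingCat.of L) :=
  s.pt.toSpecΓ ≫ Spec.map (CommRingCat.ofHom (glue (φs L f s) (φs_compat L f s)))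

theorem toL_spTop (E : FinSub k L) :
    toL L f s ≫ spTop L E = leg L f s E ≫ pullback.snd f (sp L E) := by
  apply toRing_injective
  rw [toRing_comp, toL, toRing_toSpecΓ_comp]
  change _ = φs L f s E
  ext x
  exact glue_apply (φs L f s) (φs_compat L f s) E x

omit [Algebra.IsAlgebraic k L] in
theorem leg_fst (E E' : FinSub k L) :
    leg L f s E ≫ pullback.fst f (sp L E) = leg L f s E' ≫ pullback.fst f (sp L E') := by
  obtain ⟨E'', h, h'⟩ := exists_ge E E'
  rw [← leg_tr L f s h, ← leg_tr L f s h', Category.assoc, Category.assoc, tr_fst, tr_fst]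

/-- the base point of the index -/
noncomputable abbrev E₀ : FinSub k L := ⟨⊥, inferInstance⟩

/-- the lift -/
noncomputable def lift : s.pt ⟶ XL L f :=
  pullback.lift (leg L f s (E₀ L) ≫ pullback.fst f (sp L (E₀ L))) (toL L f s) (by
    rw [← spTop_sp L (E₀ L), ← Category.assoc, toL_spTop, Category.assoc, Category.assoc,
      pullback.condition])

theorem lift_pr (E : FinSub k L) : lift L f s ≫ pr L f E = leg L f s E := by
  apply pullback.hom_ext
  · rw [Category.assoc, pr_fst, lift, pullback.lift_fst]
    exact leg_fst L f s _ _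
  · rw [Category.assoc, pr_snd, lift, pullback.lift_snd_assoc, toL_spTop]

theorem lift_unique (m : s.pt ⟶ XL L f) (hm' : ∀ E : FinSub k L, m ≫ pr L f E = leg L f s E) :
    m = lift L f s := by
  apply pullback.hom_ext
  · rw [lift, pullback.lift_fst, ← hm' (E₀ L), Category.assoc, pr_fst]
  · rw [lift, pullback.lift_snd]
    apply toRing_injective
    apply ringHom_ext_finSub (k := k)
    intro E x
    have h1 : (m ≫ pullback.snd f (spL L)) ≫ spTop L E = toL L f s ≫ spTop L E := by
      rw [toL_spTop, ← hm' E, Category.assoc, Category.assoc, pr_snd]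
    have h2 := congrArg toRing h1
    rw [toRing_comp, toRing_comp] at h2
    exact RingHom.congr_fun h2 x

/-- the cone is a limit cone -/
noncomputable def isLimitCone : IsLimit (cone L f) where
  lift s := lift L f s
  fac s i := lift_pr L f s (OrderDual.ofDual i)
  uniq s m hm := lift_unique L f s m (fun E => hm (OrderDual.toDual E))

end limit

section factor

variable [Algebra.IsAlgebraic k L] [CompactSpace X] [QuasiSeparatedSpace X]

instance (E : FinSub k L) : CompactSpace (XE L f E) :=
  QuasiCompact.compactSpace_of_compactSpace (pullback.fst f (sp L E))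

instance (E : FinSub k L) : QuasiSeparatedSpace (XE L f E) :=
  quasiSeparatedSpace_of_quasiSeparated (pullback.fst f (sp L E))

/-- the structure transformation -/
noncomputable def tD : D L f ⟶ (Functor.const _).obj X where
  app i := pullback.fst f (sp L (OrderDual.ofDual i))
  naturality _ _ h := by
    change tr L f _ ≫ pullback.fst f _ = pullback.fst f _ ≫ 𝟙 _
    rw [tr_fst, Category.comp_id]

theorem exists_factor {X' : Scheme.{u}} (g : X' ⟶ X) [LocallyOfFinitePresentation g]
    (a : XL L f ⟶ X') (ha : a ≫ g = pullback.fst f (spL L)) :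
    ∃ (E : FinSub k L) (aE : XE L f E ⟶ X'), pr L f E ≫ aE = a ∧
      aE ≫ g = pullback.fst f (sp L E) := by
  haveI : ∀ {i j : (FinSub k L)ᵒᵈ} (h : i ⟶ j), IsAffineHom ((D L f).map h) := fun h => by
    change IsAffineHom (tr L f _)
    infer_instance
  haveI : ∀ i : (FinSub k L)ᵒᵈ, CompactSpace ((D L f).obj i) := fun i => by
    change CompactSpace (XE L f _)
    infer_instance
  haveI : ∀ i : (FinSub k L)ᵒᵈ, QuasiSeparatedSpace ((D L f).obj i) := fun i => by
    change QuasiSeparatedSpace (XE L f _)
    infer_instance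
  obtain ⟨i, aE, h1, h2⟩ := Scheme.exists_π_app_comp_eq_of_locallyOfFinitePresentation
    (D L f) (tD L f) g (cone L f) (isLimitCone L f) a (by
      ext i : 2
      change pr L f _ ≫ pullback.fst f _ = a ≫ g
      rw [pr_fst, ha])
  exact ⟨OrderDual.ofDual i, aE, h1, h2⟩

end factor

end diagram

end Groth.Agent.Lib.Helper20.FieldLim
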