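import Groth.Agent.Lib.Helper20Quot
import Groth.Agent.Lib.Helper20QuotTop
import Groth.Agent.Lib.Helper20CHR
import Groth.Agent.S13739
import Mathlib

/-!
# Helper20: quotients by free actions of finite groups (SGA1 V 2.6 (i) ⇒ (iii))
-/

set_option autoImplicit false
set_option linter.unusedSectionVars false
set_option linter.style.haveILetI false
universe u
open CategoryTheory CategoryTheory.Limits AlgebraicGeometry TopologicalSpace TensorProduct

namespace Groth.Agent.Lib.Helper20.FreeQuot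

open SGA1 Groth.Agent.Lib.Helper20

/-- Elements of a pushout `A ⊗_B A` are sums of products. -/
theorem gen_of_isPushout {B A R : CommRingCat.{u}} {f : B ⟶ A} {φ₁ φ₂ : A ⟶ R}
    (h : IsPushout f f φ₁ φ₂) (r : R) :
    r ∈ AddSubmonoid.closure (Set.range fun aa : A × A => φ₁.hom aa.1 * φ₂.hom aa.2) := by
  algebraize [f.hom]
  have hT := CommRingCat.isPushout_tensorProduct B A A
  let e : R ≅ CommRingCat.of (A ⊗[B] A) := h.isoIsPushout _ _ hT
  have hel : ∀ a : A, e.inv.hom (a ⊗ₜ[B] (1 : A)) = φ₁.hom a := by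
    intro a
    exact congrArg (fun f => f.hom a) (IsPushout.inl_isoIsPushout_inv _ _ h hT)
  have her : ∀ a : A, e.inv.hom ((1 : A) ⊗ₜ[B] a) = φ₂.hom a := by
    intro a
    exact congrArg (fun f => f.hom a) (IsPushout.inr_isoIsPushout_inv _ _ h hT)
  have key : ∀ t : A ⊗[B] A, e.inv.hom t ∈
      AddSubmonoid.closure (Set.range fun aa : A × A => φ₁.hom aa.1 * φ₂.hom aa.2) := by
    intro t
    induction t using TensorProduct.induction_on with
    | zero => rw [map_zero]; exact zero_mem _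
    | tmul a a' =>
      have : (a ⊗ₜ[B] a' : A ⊗[B] A) = (a ⊗ₜ[B] (1 : A)) * ((1 : A) ⊗ₜ[B] a') := by
        simp
      rw [this, map_mul, hel, her]
      exact AddSubmonoid.subset_closure ⟨(a, a'), rfl⟩
    | add y z hy hz => rw [map_add]; exact add_mem hy hz
  have : r = e.inv.hom (e.hom.hom r) := by
    change r = (e.hom ≫ e.inv).hom r
    rw [e.hom_inv_id]; rfl
  rw [this]
  exact key _

theorem flat_of_app_flat {X Y : Scheme.{u}} (p : X ⟶ Y) [IsAffineHom p]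
    (h : ∀ U : Y.Opens, IsAffineOpen U → (p.app U).hom.Flat) : Flat p := by
  rw [HasRingHomProperty.iff_appLE (P := @Flat)]
  intro U V e
  have h2 : (X.presheaf.map (homOfLE e).op).hom.Flat := by
    have h3 := (𝟙 X : X ⟶ X).flat_appLE (U.2.preimage p) V.2 (by simpa using e)
    have h4 : (𝟙 X : X ⟶ X).appLE (p ⁻¹ᵁ U.1) V.1 (by simpa using e) =
        X.presheaf.map (homOfLE e).op := by
      simp only [Scheme.Hom.appLE, Scheme.Hom.id_app]
      rfl
    rwa [h4] at h3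
  have h1 : p.appLE U.1 V.1 e = p.app U.1 ≫ X.presheaf.map (homOfLE e).op := rfl
  rw [h1, CommRingCat.hom_comp]
  exact RingHom.Flat.comp (h U.1 U.2) h2



/-- Geometric freeness gives ring-theoretic freeness on each `p⁻¹U` affine. -/
theorem isFreeAct_of_geomFree {X Y : Scheme.{u}} {G : Type u} [Group G] (ρ : G →* Aut X)
    (p : X ⟶ Y) (hinv : ∀ g : G, (ρ g).hom ≫ p = p)
    (hfree : ∀ (K : Type u) [Field K] [IsAlgClosed K] (ξ : Spec (CommRingCat.of K) ⟶ X) (g : G),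
      ξ ≫ (ρ g).hom = ξ → g = 1)
    (U : Y.Opens) (hU : IsAffineOpen (p ⁻¹ᵁ U)) :
    letI := sectionAction ρ p hinv U
    CHR.IsFreeAct G Γ(X, p ⁻¹ᵁ U) := by
  letI := sectionAction ρ p hinv U
  intro g hg
  by_contra hne
  obtain ⟨m, hm, hle⟩ := Ideal.exists_le_maximal _ hne
  letI : Field (Γ(X, p ⁻¹ᵁ U) ⧸ m) := Ideal.Quotient.field m
  let K := AlgebraicClosure (Γ(X, p ⁻¹ᵁ U) ⧸ m)
  let φ : Γ(X, p ⁻¹ᵁ U) →+* K :=
    (algebraMap (Γ(X, p ⁻¹ᵁ U) ⧸ m) K).comp (Ideal.Quotient.mk m)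
  let ξ : Spec (CommRingCat.of K) ⟶ X := Spec.map (CommRingCat.ofHom φ) ≫ hU.fromSpec
  have hφ : ∀ a : Γ(X, p ⁻¹ᵁ U), φ (actHom ρ p hinv g⁻¹ U a) = φ a := by
    intro a
    have h1 : g • a - a ∈ m := hle (Ideal.subset_span ⟨a, rfl⟩)
    have h2 : Ideal.Quotient.mk m (g • a) = Ideal.Quotient.mk m a := by
      rw [← sub_eq_zero, ← map_sub]
      exact Ideal.Quotient.eq_zero_iff_mem.mpr h1
    change (algebraMap _ K) (Ideal.Quotient.mk m (g • a)) = (algebraMap _ K) (Ideal.Quotient.mk m a)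
    rw [h2]
  have hξ : ξ ≫ (ρ g⁻¹).hom = ξ := by
    change (Spec.map (CommRingCat.ofHom φ) ≫ hU.fromSpec) ≫ (ρ g⁻¹).hom = _
    rw [Category.assoc, ← IsAffineOpen.SpecMap_appLE_fromSpec (ρ g⁻¹).hom hU hU
      (preimage_le_of_inv ρ p hinv g⁻¹ U), ← Category.assoc, ← Spec.map_comp]
    congr 2
    ext a
    exact hφ a
  have := hfree K ξ g⁻¹ hξ
  exact hg (inv_eq_one.mp this)

/-- Sections of a coproduct of schemes are determined by their pullbacks to the summands. -/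
theorem sigma_section_ext {ι : Type u} (F : ι → Scheme.{u}) (W : (∐ F).Opens)
    (w w' : Γ(∐ F, W)) (h : ∀ i, ((Sigma.ι F i).app W).hom w = ((Sigma.ι F i).app W).hom w') :
    w = w' := by
  refine TopCat.Presheaf.section_ext (∐ F).sheaf W w w' fun q hq => ?_
  obtain ⟨i, x, hx⟩ := (sigmaOpenCover F).exists_eq q
  have key : ∀ (i : ι) (x : F i) (hq : (Sigma.ι F i) x ∈ W),
      ((∐ F).presheaf.germ W ((Sigma.ι F i) x) hq).hom w =
        ((∐ F).presheaf.germ W ((Sigma.ι F i) x) hq).hom w' := by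
    intro i x hq
    have h1 := congrArg (fun φ => φ.hom w) (Scheme.Hom.germ_stalkMap (Sigma.ι F i) W x hq)
    have h2 := congrArg (fun φ => φ.hom w') (Scheme.Hom.germ_stalkMap (Sigma.ι F i) W x hq)
    simp only [CommRingCat.hom_comp, RingHom.comp_apply] at h1 h2
    have hinj : Function.Injective ((Sigma.ι F i).stalkMap x).hom :=
      (ConcreteCategory.bijective_of_isIso ((Sigma.ι F i).stalkMap x)).1
    apply hinj
    exact (h1.trans (congrArg _ (h i))).trans h2.symm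
  have hx' : (Sigma.ι F i) x = q := hx
  subst hx'
  exact key i x hq

/-- variant with `appLE` onto an open equal to the preimage. -/
theorem sigma_section_ext' {ι : Type u} (F : ι → Scheme.{u}) (W : (∐ F).Opens)
    (V : ∀ i, (F i).Opens) (hV : ∀ i, V i = Sigma.ι F i ⁻¹ᵁ W)
    (w w' : Γ(∐ F, W))
    (h : ∀ i, ((Sigma.ι F i).appLE W (V i) (hV i).le).hom w =
      ((Sigma.ι F i).appLE W (V i) (hV i).le).hom w') :
    w = w' := by
  refine sigma_section_ext F W w w' fun i => ?_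
  have h1 := h i
  have h2 : (Sigma.ι F i).appLE W (V i) (hV i).le =
      (Sigma.ι F i).app W ≫ (F i).presheaf.map (homOfLE (hV i).le).op := rfl
  rw [h2] at h1
  simp only [CommRingCat.hom_comp, RingHom.comp_apply] at h1
  have hinj : Function.Injective ((F i).presheaf.map (homOfLE (hV i).le).op).hom := by
    have : IsIso ((F i).presheaf.map (homOfLE (hV i).le).op) := by
      have : IsIso (homOfLE (hV i).le) := ⟨homOfLE (hV i).ge, rfl, rfl⟩
      infer_instance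
    exact (ConcreteCategory.bijective_of_isIso _).1
  exact hinj h1

section main

variable {X Y : Scheme.{u}} {G : Type u} [Group G] [Finite G] (ρ : G →* Aut X) (p : X ⟶ Y)

theorem isIso_sigmaDesc_lift (hp : IsQuot ρ p)
    (hfree : ∀ (K : Type u) [Field K] [IsAlgClosed K] (ξ : Spec (CommRingCat.of K) ⟶ X) (g : G),
      ξ ≫ (ρ g).hom = ξ → g = 1) :
    IsIso (Sigma.desc (fun g : G => pullback.lift (𝟙 X) (ρ g).hom
      ((Category.id_comp p).trans (hp.inv g).symm)) : (∐ fun _ : G => X) ⟶ pullback p p) := by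
  haveI := hp.affine
  set γ : G → (X ⟶ pullback p p) := fun g => pullback.lift (𝟙 X) (ρ g).hom
      ((Category.id_comp p).trans (hp.inv g).symm) with hγ
  set Φ : (∐ fun _ : G => X) ⟶ pullback p p := Sigma.desc γ with hΦ
  have hγ₁ : ∀ g, γ g ≫ pullback.fst p p = 𝟙 X := fun g => pullback.lift_fst _ _ _
  have hγ₂ : ∀ g, γ g ≫ pullback.snd p p = (ρ g).hom := fun g => pullback.lift_snd _ _ _
  have hιΦ : ∀ g, Sigma.ι (fun _ : G => X) g ≫ Φ = γ g := fun g => Sigma.ι_desc _ _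
  -- Φ is affine
  have hfold : Φ ≫ pullback.fst p p = Sigma.desc (fun _ : G => 𝟙 X) := by
    apply Sigma.hom_ext
    intro g
    rw [← Category.assoc, hιΦ, hγ₁, Sigma.ι_desc]
  haveI : IsFinite (Φ ≫ pullback.fst p p) := by
    rw [hfold]
    exact Groth.Agent.S13739.isFinite_fold' X G
  haveI : IsFinite Φ := IsFinite.of_comp Φ (pullback.fst p p)
  -- reduce to affine opens of Y
  have hcover : ⨆ U : Y.affineOpens, (pullback.fst p p ≫ p) ⁻¹ᵁ U.1 = ⊤ := by
    have := congrArg (fun W => (pullback.fst p p ≫ p) ⁻¹ᵁ W) (iSup_affineOpens_eq_top Y)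
    simpa [Scheme.Hom.preimage_iSup] using this
  change MorphismProperty.isomorphisms Scheme Φ
  rw [IsZariskiLocalAtTarget.iff_of_iSup_eq_top (P := MorphismProperty.isomorphisms Scheme)
    (fun U : Y.affineOpens => (pullback.fst p p ≫ p) ⁻¹ᵁ U.1) hcover]
  rintro ⟨U, hU⟩
  change IsIso (Φ ∣_ ((pullback.fst p p ≫ p) ⁻¹ᵁ U))
  set V : (pullback p p).Opens := (pullback.fst p p ≫ p) ⁻¹ᵁ U with hV
  haveI : IsAffineHom (pullback.fst p p) :=
    MorphismProperty.pullback_fst (P := @IsAffineHom) p p inferInstance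
  haveI : IsAffineHom (pullback.fst p p ≫ p) := inferInstance
  have hVaff : IsAffineOpen V := hU.preimage (pullback.fst p p ≫ p)
  rw [isIso_morphismRestrict_iff_isIso_app Φ hVaff, ConcreteCategory.isIso_iff_bijective]
  have hXU : IsAffineOpen (p ⁻¹ᵁ U) := hU.preimage p
  have hV₁ : V = pullback.fst p p ⁻¹ᵁ (p ⁻¹ᵁ U) := by
    rw [hV, Scheme.Hom.comp_preimage]
  have hV₂ : V = pullback.snd p p ⁻¹ᵁ (p ⁻¹ᵁ U) := by
    rw [hV, pullback.condition, Scheme.Hom.comp_preimage]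
  have hUY : V = pullback.fst p p ⁻¹ᵁ (p ⁻¹ᵁ U) ⊓ pullback.snd p p ⁻¹ᵁ (p ⁻¹ᵁ U) := by
    rw [← hV₁, ← hV₂, inf_idem]
  have hiso := isIso_pushoutSection_of_isAffineOpen (IsPullback.of_hasPullback p p)
    (le_refl (p ⁻¹ᵁ U)) (le_refl (p ⁻¹ᵁ U)) hUY hU hXU hXU
  have hpush := (isIso_pushoutSection_iff (IsPullback.of_hasPullback p p)
    (le_refl (p ⁻¹ᵁ U)) (le_refl (p ⁻¹ᵁ U)) hUY).mp hiso
  letI := sectionAction ρ p hp.inv U
  have hfreeU := isFreeAct_of_geomFree ρ p hp.inv hfree U hXU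
  -- the maps ψ
  have eγ : ∀ g : G, p ⁻¹ᵁ U ≤ γ g ⁻¹ᵁ V := by
    intro g
    rw [hV₁, ← Scheme.Hom.comp_preimage, hγ₁]
    exact le_rfl
  have key := CHR.bijective_of_gen (G := G) (p.appLE U (p ⁻¹ᵁ U) le_rfl).hom
    (fun a ha => by
      have : a ∈ Set.range (p.app U).hom := by
        rw [hp.range_iff]
        intro g
        have := ha g⁻¹
        rw [sectionAction_smul, inv_inv] at this
        exact this
      rwa [Scheme.Hom.app_eq_appLE] at this)
    hfreeU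
    ((pullback.fst p p).appLE (p ⁻¹ᵁ U) V (by rw [hUY]; exact inf_le_left)).hom
    ((pullback.snd p p).appLE (p ⁻¹ᵁ U) V (by rw [hUY]; exact inf_le_right)).hom
    (fun b => by
      have h1 : p.appLE U (p ⁻¹ᵁ U) le_rfl ≫
          (pullback.fst p p).appLE (p ⁻¹ᵁ U) V (by rw [hUY]; exact inf_le_left) =
          p.appLE U (p ⁻¹ᵁ U) le_rfl ≫
          (pullback.snd p p).appLE (p ⁻¹ᵁ U) V (by rw [hUY]; exact inf_le_right) := by
        rw [Scheme.Hom.appLE_comp_appLE, Scheme.Hom.appLE_comp_appLE]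
        exact appLE_congr_hom pullback.condition _ _ _
      exact congrArg (fun f => f.hom b) h1)
    (gen_of_isPushout hpush)
    (fun g => ((γ g⁻¹).appLE V (p ⁻¹ᵁ U) (eγ g⁻¹)).hom)
    (fun g a => by
      have h1 : (pullback.fst p p).appLE (p ⁻¹ᵁ U) V (by rw [hUY]; exact inf_le_left) ≫
          (γ g⁻¹).appLE V (p ⁻¹ᵁ U) (eγ g⁻¹) = 𝟙 _ := by
        rw [Scheme.Hom.appLE_comp_appLE, appLE_congr_hom (hγ₁ g⁻¹), id_appLE]
      exact congrArg (fun f => f.hom a) h1)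
    (fun g a => by
      have h1 : (pullback.snd p p).appLE (p ⁻¹ᵁ U) V (by rw [hUY]; exact inf_le_right) ≫
          (γ g⁻¹).appLE V (p ⁻¹ᵁ U) (eγ g⁻¹) =
          (ρ g⁻¹).hom.appLE (p ⁻¹ᵁ U) (p ⁻¹ᵁ U) (preimage_le_of_inv ρ p hp.inv g⁻¹ U) := by
        rw [Scheme.Hom.appLE_comp_appLE, appLE_congr_hom (hγ₂ g⁻¹)]
      exact congrArg (fun f => f.hom a) h1)
  -- sections of the coproduct
  have eι : ∀ g : G, p ⁻¹ᵁ U = Sigma.ι (fun _ : G => X) g ⁻¹ᵁ (Φ ⁻¹ᵁ V) := by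
    intro g
    rw [← Scheme.Hom.comp_preimage, hιΦ, hV₁, ← Scheme.Hom.comp_preimage, hγ₁]
    rfl
  let θ : Γ(∐ fun _ : G => X, Φ ⁻¹ᵁ V) → (G → Γ(X, p ⁻¹ᵁ U)) := fun w g =>
    ((Sigma.ι (fun _ : G => X) g⁻¹).appLE (Φ ⁻¹ᵁ V) (p ⁻¹ᵁ U) (eι g⁻¹).le).hom w
  have hθinj : Function.Injective θ := by
    intro w w' hww'
    refine sigma_section_ext' (fun _ : G => X) (Φ ⁻¹ᵁ V) (fun _ => p ⁻¹ᵁ U) eι w w' fun g => ?_
    have := congrFun hww' g⁻¹
    simp only [θ, inv_inv] at this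
    exact this
  have hθΦ : ∀ r, θ ((Φ.app V).hom r) = fun g => ((γ g⁻¹).appLE V (p ⁻¹ᵁ U) (eγ g⁻¹)).hom r := by
    intro r
    funext g
    have h1 : Φ.app V ≫ (Sigma.ι (fun _ : G => X) g⁻¹).appLE (Φ ⁻¹ᵁ V) (p ⁻¹ᵁ U) (eι g⁻¹).le =
        (γ g⁻¹).appLE V (p ⁻¹ᵁ U) (eγ g⁻¹) := by
      rw [Scheme.Hom.app_eq_appLE, Scheme.Hom.appLE_comp_appLE, appLE_congr_hom (hιΦ g⁻¹)]
    exact congrArg (fun f => f.hom r) h1
  constructor
  · intro r r' hrr'
    apply key.1
    have := congrArg θ hrr'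
    rw [hθΦ, hθΦ] at this
    exact this
  · intro w
    obtain ⟨r, hr⟩ := key.2 (θ w)
    refine ⟨r, hθinj ?_⟩
    rw [hθΦ]
    exact hr

theorem flat_of_isQuot_free (hp : IsQuot ρ p)
    (hfree : ∀ (K : Type u) [Field K] [IsAlgClosed K] (ξ : Spec (CommRingCat.of K) ⟶ X) (g : G),
      ξ ≫ (ρ g).hom = ξ → g = 1) : Flat p := by
  haveI := hp.affine
  refine flat_of_app_flat p fun U hU => ?_
  have hXU : IsAffineOpen (p ⁻¹ᵁ U) := hU.preimage p
  letI := sectionAction ρ p hp.inv U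
  have hfreeU := isFreeAct_of_geomFree ρ p hp.inv hfree U hXU
  refine (CHR.flat_of_free (G := G) (p.app U).hom (hp.injective U) (fun g b => ?_)
    (fun a ha => ?_) hfreeU).1
  · have h : (p.app U).hom b ∈ Set.range (p.app U).hom := ⟨b, rfl⟩
    rw [hp.range_iff] at h
    exact h g⁻¹
  · rw [hp.range_iff]
    intro g
    have := ha g⁻¹
    rw [sectionAction_smul, inv_inv] at this
    exact this

end main

end Groth.Agent.Lib.Helper20.FreeQuot
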