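import Groth.Agent.Lib.Helper20EtaPtSN
import Groth.Prelude.Def_Frob

/-!
# The absolute Frobenius of a scheme is a universal homeomorphism (helper20)
-/

universe u

namespace Groth.Agent.Lib.Helper20.Frob

open AlgebraicGeometry CategoryTheory Opposite
open Groth.Agent.Lib.Helper20.EtaPt

variable (X : Scheme.{u}) (p : ℕ) [Fact p.Prime] [FrobSch.IsCharP X p]

theorem residueFieldMap_frob_apply (x : X) (y : X.residueField x) :
    ((FrobSch.frob X p).residueFieldMap x).hom y = y ^ p := by
  obtain ⟨t, rfl⟩ := X.residue_surjective x y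
  obtain ⟨U, hxU, s, rfl⟩ := X.presheaf.exists_germ_eq (x := x) t
  have h := Scheme.evaluation_naturality_apply (FrobSch.frob X p) (V := U) x hxU s
  have e1 : X.residue x (X.presheaf.germ U x hxU s) = X.evaluation U x hxU s := rfl
  rw [e1]
  refine h.trans ?_
  exact map_pow (X.evaluation U x hxU).hom s p

omit [Fact p.Prime] in
theorem natCast_residueField_eq_zero (x : X) : (p : X.residueField x) = 0 := by
  have h := congrArg (X.Γevaluation x).hom (FrobSch.IsCharP.natCast_eq_zero (X := X) (p := p))
  simpa using h

theorem isPurelyInseparable_of_frob {K : Type u} [Field K] (p : ℕ) [Fact p.Prime] [CharP K p]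
    (g : K →+* K) (hg : ∀ y, g y = y ^ p) : g.IsPurelyInseparable := by
  have : ExpChar K p := ExpChar.prime Fact.out
  letI := g.toAlgebra
  show IsPurelyInseparable K K
  rw [isPurelyInseparable_iff_pow_mem K p]
  intro y
  exact ⟨1, y, by rw [pow_one]; exact hg y⟩

theorem isPurelyInseparable_residueFieldMap_frob (x : X) :
    ((FrobSch.frob X p).residueFieldMap x).hom.IsPurelyInseparable := by
  have hp : p.Prime := Fact.out
  haveI : CharP (X.residueField x) p :=
    (CharP.charP_iff_prime_eq_zero hp).mpr (natCast_residueField_eq_zero X p x)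
  exact isPurelyInseparable_of_frob (K := X.residueField x) p
    ((FrobSch.frob X p).residueFieldMap x).hom (residueFieldMap_frob_apply X p x)

instance isAffineHom_frob : IsAffineHom (FrobSch.frob X p) where
  isAffine_preimage U hU := hU

instance isIntegralHom_frob : IsIntegralHom (FrobSch.frob X p) where
  isIntegral_app U hU := by
    intro t
    have key : ∀ t' : Γ(X, U), ((FrobSch.frob X p).app U).hom.IsIntegralElem t' := by
      intro t'
      refine ⟨Polynomial.X ^ p - Polynomial.C t',
        Polynomial.monic_X_pow_sub_C t' (Fact.out : p.Prime).ne_zero, ?_⟩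
      have e : ((FrobSch.frob X p).app U).hom t' = t' ^ p := FrobSch.frob_app X p U t'
      rw [Polynomial.eval₂_sub, Polynomial.eval₂_pow, Polynomial.eval₂_X, Polynomial.eval₂_C]
      exact sub_eq_zero.mpr e.symm
    exact key t

instance surjective_frob : Surjective (FrobSch.frob X p) where
  surj := fun x => ⟨x, rfl⟩

instance universallyInjective_frob : UniversallyInjective (FrobSch.frob X p) := by
  have htfae := (tfae_universallyInjective (FrobSch.frob X p)).out 0 2
  rw [htfae]
  exact ⟨fun x y h => h, isPurelyInseparable_residueFieldMap_frob X p⟩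

theorem isUnivHomeo_frob : FlatMor.IsUnivHomeo (FrobSch.frob X p) := by
  haveI : UniversallyClosed (FrobSch.frob X p) :=
    (IsIntegralHom.iff_universallyClosed_and_isAffineHom.mp inferInstance).1
  exact isUnivHomeo_of _

section Relative

open Limits

variable {X} {S : Scheme.{u}} [FrobSch.IsCharP S p] (f : X ⟶ S)

theorem universallyInjective_of_comp {X Y Z : Scheme.{u}} (g : X ⟶ Y) (π : Y ⟶ Z)
    [UniversallyInjective (g ≫ π)] : UniversallyInjective g := by
  have htfae0 := (tfae_universallyInjective (g ≫ π)).out 0 1
  have h1 := htfae0.mp inferInstance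
  have htfae := (tfae_universallyInjective g).out 0 1
  rw [htfae]
  intro K _ h₁ h₂ h
  apply h1 K
  show h₁ ≫ g ≫ π = h₂ ≫ g ≫ π
  have h' : h₁ ≫ g = h₂ ≫ g := h
  rw [← Category.assoc, h', Category.assoc]

omit [FrobSch.IsCharP X p] in
theorem relFrob_props :
    FlatMor.IsUnivHomeo (FrobSch.relFrob f p) ∧ IsIntegralHom (FrobSch.relFrob f p) ∧
      ∀ x : X, ((FrobSch.relFrob f p).residueFieldMap x).hom.IsPurelyInseparable := by
  haveI : FrobSch.IsCharP X p := FrobSch.IsCharP.of_hom f p
  have hfst : FrobSch.relFrob f p ≫ pullback.fst f (FrobSch.frob S p) = FrobSch.frob X p :=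
    FrobSch.relFrob_fst f p
  haveI hπui : UniversallyInjective (pullback.fst f (FrobSch.frob S p)) :=
    MorphismProperty.pullback_fst (P := @UniversallyInjective) _ _ inferInstance
  haveI hπint : IsIntegralHom (pullback.fst f (FrobSch.frob S p)) :=
    MorphismProperty.pullback_fst (P := @IsIntegralHom) _ _ inferInstance
  haveI h1 : UniversallyInjective (FrobSch.relFrob f p ≫ pullback.fst f (FrobSch.frob S p)) := by
    rw [hfst]; infer_instance
  haveI h2 : IsIntegralHom (FrobSch.relFrob f p ≫ pullback.fst f (FrobSch.frob S p)) := by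
    rw [hfst]; infer_instance
  haveI hui : UniversallyInjective (FrobSch.relFrob f p) :=
    universallyInjective_of_comp _ (pullback.fst f (FrobSch.frob S p))
  haveI hint : IsIntegralHom (FrobSch.relFrob f p) :=
    IsIntegralHom.of_comp _ (pullback.fst f (FrobSch.frob S p))
  haveI hsurj : Surjective (FrobSch.relFrob f p) := by
    constructor
    intro z
    refine ⟨pullback.fst f (FrobSch.frob S p) z, ?_⟩
    apply (pullback.fst f (FrobSch.frob S p)).injective
    have := congrArg (fun g : X ⟶ X => g (pullback.fst f (FrobSch.frob S p) z)) hfst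
    exact this
  haveI : UniversallyClosed (FrobSch.relFrob f p) :=
    (IsIntegralHom.iff_universallyClosed_and_isAffineHom.mp hint).1
  refine ⟨isUnivHomeo_of _, hint, ?_⟩
  have htfae := (tfae_universallyInjective (FrobSch.relFrob f p)).out 0 2
  exact (htfae.mp hui).2

end Relative

end Groth.Agent.Lib.Helper20.Frob
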