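import Mathlib

/-!
# Characters of the additive group in characteristic `p`

Sequences `c : ℕ → A` with `c 0 = 1` and `C(i+j,i) c (i+j) = c i * c j` over a ring of
characteristic `p` are exactly the coefficient sequences of products of truncated exponentials.
-/

namespace Groth.Agent.Lib.Helper20.GaChar

open Polynomial Finset

section General

/-- block decomposition of a sum over `range (J * q)` -/
theorem sum_range_mul {M : Type*} [AddCommMonoid M] (g : ℕ → M) (q J : ℕ) :
    ∑ i ∈ range (J * q), g i = ∑ j ∈ range J, ∑ r ∈ range q, g (j * q + r) := by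
  induction J with
  | zero => simp
  | succ J ih =>
    rw [Nat.succ_mul, Finset.sum_range_add, ih, Finset.sum_range_succ]

/-- the truncated exponential identity -/
theorem texp_add {B : Type*} [CommRing B] (p : ℕ) (w : ℕ → B)
    (hw : ∀ j, j < p → (j.factorial : B) * w j = 1) (s t : B)
    (hst : ∀ j l, p ≤ j + l → s ^ j * t ^ l = 0) :
    ∑ m ∈ range p, w m * (s + t) ^ m =
      (∑ j ∈ range p, w j * s ^ j) * (∑ l ∈ range p, w l * t ^ l) := by
  rw [Finset.sum_mul_sum]
  have h1 : ∀ j ∈ range p, ∑ l ∈ range p, w j * s ^ j * (w l * t ^ l) =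
      ∑ l ∈ range (p - j), w j * s ^ j * (w l * t ^ l) := by
    intro j hj
    symm
    apply Finset.sum_subset
    · intro l hl
      simp only [mem_range] at hl ⊢
      omega
    · intro l hl hl'
      simp only [mem_range] at hl hl' hj
      have : s ^ j * t ^ l = 0 := hst j l (by omega)
      calc w j * s ^ j * (w l * t ^ l) = w j * w l * (s ^ j * t ^ l) := by ring
        _ = 0 := by rw [this, mul_zero]
  rw [Finset.sum_congr rfl h1]
  rw [← Finset.sum_range_diag_flip p (fun j l => w j * s ^ j * (w l * t ^ l))]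
  apply Finset.sum_congr rfl
  intro m hm
  simp only [mem_range] at hm
  rw [add_pow, Finset.mul_sum]
  apply Finset.sum_congr rfl
  intro k hk
  simp only [mem_range] at hk
  have hkm : k ≤ m := by omega
  have key : w k * w (m - k) = (m.choose k : B) * w m := by
    have e1 := hw k (by omega)
    have e2 := hw (m - k) (by omega)
    have e3 := hw m hm
    have e4 : ((m.choose k : ℕ) : B) * (k.factorial : B) * ((m - k).factorial : B) =
        (m.factorial : B) := by
      exact_mod_cast congrArg (Nat.cast (R := B)) (Nat.choose_mul_factorial_mul_factorial hkm)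
    calc w k * w (m - k) = w k * w (m - k) * ((m.factorial : B) * w m) := by rw [e3, mul_one]
      _ = ((k.factorial : B) * w k) * (((m - k).factorial : B) * w (m - k)) *
            ((m.choose k : B) * w m) := by rw [← e4]; ring
      _ = (m.choose k : B) * w m := by rw [e1, e2, one_mul, one_mul]
  symm
  calc w k * s ^ k * (w (m - k) * t ^ (m - k))
      = (w k * w (m - k)) * (s ^ k * t ^ (m - k)) := by ring
    _ = w m * (s ^ k * t ^ (m - k) * (m.choose k : B)) := by rw [key]; ring

end General

section CharP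

variable (p : ℕ) [hp : Fact p.Prime] {A : Type*} [CommRing A] [CharP A p]

theorem isUnit_factorial {j : ℕ} (hj : j < p) : IsUnit ((j.factorial : ℕ) : A) := by
  rw [CharP.isUnit_natCast_iff (p := p) hp.out]
  intro h
  exact absurd ((hp.out.dvd_factorial).mp h) (by omega)

theorem factorial_mul_inverse {j : ℕ} (hj : j < p) :
    ((j.factorial : ℕ) : A) * Ring.inverse ((j.factorial : ℕ) : A) = 1 :=
  Ring.mul_inverse_cancel _ (isUnit_factorial p hj)

theorem cast_eq_of_modEq {a b : ℕ} (h : a ≡ b [MOD p]) : (a : A) = (b : A) :=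
  (CharP.natCast_eq_natCast A p).mpr h

theorem choose_cast_one (N : ℕ) :
    ∀ (r m : ℕ), r < p ^ N → (((r + m * p ^ N).choose r : ℕ) : A) = 1 := by
  induction N with
  | zero => intro r m hr; simp at hr; subst hr; simp
  | succ N ih =>
    intro r m hr
    have hpos : 0 < p := hp.out.pos
    have h1 : (r + m * p ^ (N+1)) % p = r % p := by
      rw [pow_succ, ← mul_assoc, Nat.add_mul_mod_self_right]
    have h2 : (r + m * p ^ (N+1)) / p = r / p + m * p ^ N := by
      rw [pow_succ, ← mul_assoc, Nat.add_mul_div_right _ _ hpos]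
    have h3 : r / p < p ^ N := by
      apply Nat.div_lt_of_lt_mul; rw [← pow_succ']; exact hr
    have := Choose.choose_modEq_choose_mod_mul_choose_div_nat
      (n := r + m * p ^ (N+1)) (k := r) (p := p)
    rw [h1, h2] at this
    rw [cast_eq_of_modEq (A := A) p this, Nat.choose_self, one_mul, ih _ _ h3]

theorem choose_cast_mul_pow (N j : ℕ) : (((j * p ^ N).choose (p ^ N) : ℕ) : A) = j := by
  have := Choose.choose_pow_mul_pow_mul_modEq_choose_nat (p := p) (k := N) (a := j) (b := 1)
  rw [mul_one, Nat.choose_one_right, mul_comm] at this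
  exact cast_eq_of_modEq p this

/-- the character relation on coefficient sequences -/
def Rel (c : ℕ → A) : Prop :=
  c 0 = 1 ∧ ∀ i j, (((i + j).choose i : ℕ) : A) * c (i + j) = c i * c j

/-- truncated exponential `exp_p(a X^(p^n))` -/
noncomputable def E (a : A) (n : ℕ) : A[X] :=
  ∑ j ∈ Finset.range p, C (Ring.inverse ((j.factorial : ℕ) : A) * a ^ j) * X ^ (j * p ^ n)

/-- product of truncated exponentials -/
noncomputable def P (a : ℕ → A) (N : ℕ) : A[X] := ∏ n ∈ Finset.range N, E p (a n) n

variable {p}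

theorem Rel.factorial_mul {c : ℕ → A} (h : Rel c) (N j : ℕ) :
    ((j.factorial : ℕ) : A) * c (j * p ^ N) = c (p ^ N) ^ j := by
  induction j with
  | zero => simp [h.1]
  | succ j ih =>
    have h1 := h.2 (j * p ^ N) (p ^ N)
    have h2 : j * p ^ N + p ^ N = (j + 1) * p ^ N := by ring
    rw [Nat.choose_symm_add, h2, choose_cast_mul_pow (A := A) p N (j + 1)] at h1
    calc ((((j + 1).factorial : ℕ)) : A) * c ((j + 1) * p ^ N)
        = ((j.factorial : ℕ) : A) * (((j + 1 : ℕ) : A) * c ((j + 1) * p ^ N)) := by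
          rw [Nat.factorial_succ, Nat.cast_mul]; ring
      _ = (((j.factorial : ℕ) : A) * c (j * p ^ N)) * c (p ^ N) := by rw [h1]; ring
      _ = c (p ^ N) ^ (j + 1) := by rw [ih, pow_succ]

theorem Rel.pow_p_eq_zero {c : ℕ → A} (h : Rel c) (N : ℕ) : c (p ^ N) ^ p = 0 := by
  rw [← h.factorial_mul N p]
  have : ((p.factorial : ℕ) : A) = 0 := by
    rw [CharP.cast_eq_zero_iff A p]
    exact Nat.dvd_factorial hp.out.pos le_rfl
  rw [this, zero_mul]

theorem Rel.add_mul {c : ℕ → A} (h : Rel c) (N r j : ℕ) (hr : r < p ^ N) :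
    c (r + j * p ^ N) = c r * c (j * p ^ N) := by
  have := h.2 r (j * p ^ N)
  rwa [choose_cast_one (A := A) p N r j hr, one_mul] at this

theorem Rel.mul_pow {c : ℕ → A} (h : Rel c) (N j : ℕ) (hj : j < p) :
    c (j * p ^ N) = Ring.inverse ((j.factorial : ℕ) : A) * c (p ^ N) ^ j := by
  rw [← h.factorial_mul N j, ← mul_assoc, Ring.inverse_mul_cancel _ (isUnit_factorial p hj),
    one_mul]

theorem Rel.sum_eq_P {c : ℕ → A} (h : Rel c) (N : ℕ) :
    ∑ i ∈ range (p ^ N), C (c i) * X ^ i = P p (fun n => c (p ^ n)) N := by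
  induction N with
  | zero => simp [P, h.1]
  | succ N ih =>
    rw [P, Finset.prod_range_succ, ← P, ← ih, E, pow_succ', sum_range_mul, Finset.sum_mul_sum,
      Finset.sum_comm]
    apply Finset.sum_congr rfl
    intro r hr
    apply Finset.sum_congr rfl
    intro j hj
    simp only [mem_range] at hj hr
    rw [add_comm (j * p ^ N) r, h.add_mul N r j hr, h.mul_pow N j hj, C_mul, pow_add]
    ring

theorem aeval_E_add {B : Type*} [CommRing B] [Algebra A B] [CharP B p] (a : A) (ha : a ^ p = 0)
    (n : ℕ) (x y : B) :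
    aeval (x + y) (E p a n) = aeval x (E p a n) * aeval y (E p a n) := by
  have hE : ∀ z : B, aeval z (E p a n) = ∑ j ∈ range p,
      algebraMap A B (Ring.inverse ((j.factorial : ℕ) : A)) * (algebraMap A B a * z ^ (p ^ n)) ^ j := by
    intro z
    simp only [E, map_sum, map_mul, aeval_C, map_pow, aeval_X]
    apply Finset.sum_congr rfl
    intro j _
    rw [mul_pow, ← pow_mul, mul_comm (p ^ n) j]
    ring
  rw [hE, hE, hE, add_pow_char_pow, mul_add]
  apply texp_add p
  · intro j hj
    rw [← map_natCast (algebraMap A B), ← map_mul, factorial_mul_inverse p hj, map_one]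
  · intro j l hjl
    have h0 : a ^ (j + l) = 0 := pow_eq_zero_of_le hjl ha
    calc (algebraMap A B a * x ^ p ^ n) ^ j * (algebraMap A B a * y ^ p ^ n) ^ l
        = algebraMap A B (a ^ (j + l)) * ((x ^ p ^ n) ^ j * (y ^ p ^ n) ^ l) := by
          rw [map_pow, pow_add]; ring
      _ = 0 := by rw [h0, map_zero, zero_mul]

theorem aeval_P_add {B : Type*} [CommRing B] [Algebra A B] [CharP B p] (a : ℕ → A)
    (ha : ∀ n, a n ^ p = 0) (N : ℕ) (x y : B) :
    aeval (x + y) (P p a N) = aeval x (P p a N) * aeval y (P p a N) := by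
  simp only [P, map_prod]
  rw [← Finset.prod_mul_distrib]
  exact Finset.prod_congr rfl (fun n _ => aeval_E_add (a n) (ha n) n x y)

theorem eval_zero_E (a : A) (n : ℕ) : (E p a n).eval 0 = 1 := by
  have hp0 : p ≠ 0 := hp.out.ne_zero
  rw [E, eval_finset_sum, Finset.sum_eq_single 0]
  · simp
  · intro j _ hj
    have : j * p ^ n ≠ 0 := Nat.mul_ne_zero hj (pow_ne_zero _ hp0)
    simp [this]
  · intro h
    exact absurd (Finset.mem_range.mpr hp.out.pos) h

theorem eval_zero_P (a : ℕ → A) (N : ℕ) : (P p a N).eval 0 = 1 := by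
  rw [P, eval_prod]
  exact Finset.prod_eq_one (fun n _ => eval_zero_E (a n) n)

end CharP

section FunEq

variable {A : Type*} [CommRing A]

/-- a power series is a formal character iff its coefficients satisfy the relation -/
theorem ps_char_iff (χ : PowerSeries A) :
    (PowerSeries.constantCoeff χ = 1 ∧
      PowerSeries.subst (MvPowerSeries.X 0 + MvPowerSeries.X 1 : MvPowerSeries (Fin 2) A) χ =
        PowerSeries.subst (MvPowerSeries.X 0 : MvPowerSeries (Fin 2) A) χ *
          PowerSeries.subst (MvPowerSeries.X 1 : MvPowerSeries (Fin 2) A) χ) ↔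
      Rel (fun i => PowerSeries.coeff i χ) := by
  constructor
  · rintro ⟨h0, h⟩
    refine ⟨by simpa using h0, fun i j => ?_⟩
    have := congrArg (MvPowerSeries.coeff (Finsupp.single 0 i + Finsupp.single 1 j)) h
    rw [PowerSeries.coeff_subst_X_zero_add_X_one,
      PowerSeries.coeff_subst_X_zero_subst_mul_X_one] at this
    simpa using this
  · rintro ⟨h0, h⟩
    refine ⟨by simpa using h0, ?_⟩
    ext e
    rw [PowerSeries.coeff_subst_X_zero_add_X_one,
      PowerSeries.coeff_subst_X_zero_subst_mul_X_one]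
    exact h (e 0) (e 1)

theorem coe_aeval (z : MvPolynomial (Fin 2) A)
    (hz : PowerSeries.HasSubst (z : MvPowerSeries (Fin 2) A)) (f : A[X]) :
    ((aeval z f : MvPolynomial (Fin 2) A) : MvPowerSeries (Fin 2) A) =
      PowerSeries.subst (z : MvPowerSeries (Fin 2) A) (f : PowerSeries A) := by
  rw [PowerSeries.subst_coe hz]
  have := Polynomial.aeval_algHom_apply (MvPolynomial.coeToMvPowerSeries.algHom (R := A) (σ := Fin 2) A) z f
  simpa [MvPolynomial.coeToMvPowerSeries.algHom_apply] using this.symm

theorem coeff_aeval_add (f : A[X]) (e : Fin 2 →₀ ℕ) :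
    MvPolynomial.coeff e
      (aeval (MvPolynomial.X 0 + MvPolynomial.X 1 : MvPolynomial (Fin 2) A) f) =
      (((e 0 + e 1).choose (e 0) : ℕ) : A) * f.coeff (e 0 + e 1) := by
  rw [← MvPolynomial.coeff_coe, coe_aeval _ (by
      rw [MvPolynomial.coe_add, MvPolynomial.coe_X, MvPolynomial.coe_X]
      exact (PowerSeries.HasSubst.X 0).add (PowerSeries.HasSubst.X 1)),
    MvPolynomial.coe_add, MvPolynomial.coe_X, MvPolynomial.coe_X,
    PowerSeries.coeff_subst_X_zero_add_X_one, Polynomial.coeff_coe]

theorem coeff_aeval_mul (f : A[X]) (e : Fin 2 →₀ ℕ) :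
    MvPolynomial.coeff e
      (aeval (MvPolynomial.X 0 : MvPolynomial (Fin 2) A) f *
        aeval (MvPolynomial.X 1 : MvPolynomial (Fin 2) A) f) =
      f.coeff (e 0) * f.coeff (e 1) := by
  rw [← MvPolynomial.coeff_coe, MvPolynomial.coe_mul,
    coe_aeval _ (by rw [MvPolynomial.coe_X]; exact PowerSeries.HasSubst.X 0),
    coe_aeval _ (by rw [MvPolynomial.coe_X]; exact PowerSeries.HasSubst.X 1),
    MvPolynomial.coe_X, MvPolynomial.coe_X,
    PowerSeries.coeff_subst_X_zero_subst_mul_X_one, Polynomial.coeff_coe, Polynomial.coeff_coe]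

/-- a polynomial is a character iff its coefficients satisfy the relation -/
theorem poly_char_iff (f : A[X]) :
    (f.eval 0 = 1 ∧
      aeval (MvPolynomial.X 0 + MvPolynomial.X 1 : MvPolynomial (Fin 2) A) f =
        aeval (MvPolynomial.X 0 : MvPolynomial (Fin 2) A) f *
          aeval (MvPolynomial.X 1 : MvPolynomial (Fin 2) A) f) ↔
      Rel (fun i => f.coeff i) := by
  constructor
  · rintro ⟨h0, h⟩
    refine ⟨by show f.coeff 0 = 1; rwa [Polynomial.coeff_zero_eq_eval_zero], fun i j => ?_⟩
    have := congrArg (MvPolynomial.coeff (Finsupp.single 0 i + Finsupp.single 1 j)) h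
    rw [coeff_aeval_add, coeff_aeval_mul] at this
    simpa using this
  · rintro ⟨h0, h⟩
    refine ⟨by rw [← Polynomial.coeff_zero_eq_eval_zero]; exact h0, ?_⟩
    ext e
    rw [coeff_aeval_add, coeff_aeval_mul]
    exact h (e 0) (e 1)

/-- the truncated version: characters of `α_q` -/
theorem rel_of_quot (q : ℕ) (f : A[X]) (hdeg : f.natDegree < q) (h0 : f.eval 0 = 1)
    (hmul : Ideal.Quotient.mk
        (Ideal.span {(MvPolynomial.X 0 ^ q : MvPolynomial (Fin 2) A), MvPolynomial.X 1 ^ q})
        (aeval (MvPolynomial.X 0 + MvPolynomial.X 1 : MvPolynomial (Fin 2) A) f) =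
      Ideal.Quotient.mk
        (Ideal.span {(MvPolynomial.X 0 ^ q : MvPolynomial (Fin 2) A), MvPolynomial.X 1 ^ q})
        (aeval (MvPolynomial.X 0 : MvPolynomial (Fin 2) A) f *
          aeval (MvPolynomial.X 1 : MvPolynomial (Fin 2) A) f)) :
    Rel (fun i => f.coeff i) := by
  refine ⟨by show f.coeff 0 = 1; rwa [Polynomial.coeff_zero_eq_eval_zero], fun i j => ?_⟩
  by_cases hij : i < q ∧ j < q
  · rw [Ideal.Quotient.eq] at hmul
    have hset : ({(MvPolynomial.X 0 ^ q : MvPolynomial (Fin 2) A), MvPolynomial.X 1 ^ q} :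
        Set (MvPolynomial (Fin 2) A)) =
        (fun s => MvPolynomial.monomial s (1 : A)) ''
          {Finsupp.single 0 q, Finsupp.single 1 q} := by
      rw [Set.image_pair, MvPolynomial.X_pow_eq_monomial, MvPolynomial.X_pow_eq_monomial]
    rw [hset, MvPolynomial.mem_ideal_span_monomial_image] at hmul
    set e : Fin 2 →₀ ℕ := Finsupp.single 0 i + Finsupp.single 1 j with he
    have hc : MvPolynomial.coeff e
        (aeval (MvPolynomial.X 0 + MvPolynomial.X 1 : MvPolynomial (Fin 2) A) f -
        aeval (MvPolynomial.X 0 : MvPolynomial (Fin 2) A) f *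
          aeval (MvPolynomial.X 1 : MvPolynomial (Fin 2) A) f) = 0 := by
      by_contra hne
      obtain ⟨s, hs, hle⟩ := hmul e (MvPolynomial.mem_support_iff.mpr hne)
      rcases hs with rfl | rfl
      · have := hle 0
        simp [he] at this
        omega
      · have := hle 1
        simp [he] at this
        omega
    rw [MvPolynomial.coeff_sub, coeff_aeval_add, coeff_aeval_mul, sub_eq_zero] at hc
    simpa [he] using hc
  · have h1 : f.coeff (i + j) = 0 :=
      Polynomial.coeff_eq_zero_of_natDegree_lt (by omega)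
    have h2 : f.coeff i * f.coeff j = 0 := by
      rcases not_and_or.mp hij with h | h
      · rw [Polynomial.coeff_eq_zero_of_natDegree_lt (by omega), zero_mul]
      · rw [Polynomial.coeff_eq_zero_of_natDegree_lt (n := j) (by omega), mul_zero]
    simp only [h1, h2, mul_zero]

end FunEq

end Groth.Agent.Lib.Helper20.GaChar
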