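import Groth.Agent.Lib.Helper20GalQuot
import Groth.Agent.Lib.Helper20QuotExists
import Groth.Prelude.Def_FEt
import Mathlib

set_option autoImplicit false
universe u
open CategoryTheory CategoryTheory.Limits AlgebraicGeometry TopologicalSpace

namespace Groth.Agent.Lib.Helper20.GalCat

open SGA1 Groth.Agent.Lib.Helper20

instance : FEt.prop.{u}.HasOfPostcompProperty FEt.prop.{u} where
  of_postcomp f g hg hfg :=
    ⟨MorphismProperty.of_postcomp (W := @IsFinite) (W' := @IsSeparated) f g
      (by haveI := hg.1; infer_instance) hfg.1,
     MorphismProperty.of_postcomp (W := @Etale) (W' := @Etale) f g hg.2 hfg.2⟩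

section basic

variable {X : Scheme.{u}}

theorem prop_left {Y Z : FEt.Cat X} (φ : Y ⟶ Z) : FEt.prop φ.left :=
  MorphismProperty.of_postcomp (W := FEt.prop) (W' := FEt.prop) φ.left Z.hom Z.prop
    (by rw [MorphismProperty.Over.w φ]; exact Y.prop)

instance (Y : FEt.Cat X) : IsFinite Y.hom := Y.prop.1
instance (Y : FEt.Cat X) : Etale Y.hom := Y.prop.2
instance {Y Z : FEt.Cat X} (φ : Y ⟶ Z) : IsFinite φ.left := (prop_left φ).1
instance {Y Z : FEt.Cat X} (φ : Y ⟶ Z) : Etale φ.left := (prop_left φ).2

example : HasPullbacks (FEt.Cat X) := inferInstance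
example : HasTerminal (FEt.Cat X) := inferInstance

end basic

section quot

variable {X : Scheme.{u}} {G : Type u} [Group G] (K : SingleObj G ⥤ FEt.Cat X)

/-- the object acted on -/
abbrev base : FEt.Cat X := K.obj (SingleObj.star G)

/-- the action on the underlying scheme -/
noncomputable def act : G →* Aut (base K).left where
  toFun g :=
    { hom := (K.map (X := SingleObj.star G) (Y := SingleObj.star G) g).left
      inv := (K.map (X := SingleObj.star G) (Y := SingleObj.star G) (g⁻¹ : G)).left
      hom_inv_id := by
        have : K.map (X := SingleObj.star G) (Y := SingleObj.star G) g ≫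
            K.map (X := SingleObj.star G) (Y := SingleObj.star G) (g⁻¹ : G) = 𝟙 _ := by
          have h1 : K.map (X := SingleObj.star G) (Y := SingleObj.star G) g ≫
              K.map (X := SingleObj.star G) (Y := SingleObj.star G) (g⁻¹ : G) =
              K.map (X := SingleObj.star G) (Y := SingleObj.star G) (g⁻¹ * g : G) :=
            (K.map_comp (X := SingleObj.star G) (Y := SingleObj.star G) (Z := SingleObj.star G)
              g (g⁻¹ : G)).symm
          rw [h1, inv_mul_cancel]
          exact K.map_id _
        exact congrArg (fun φ => φ.left) this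
      inv_hom_id := by
        have : K.map (X := SingleObj.star G) (Y := SingleObj.star G) (g⁻¹ : G) ≫
            K.map (X := SingleObj.star G) (Y := SingleObj.star G) g = 𝟙 _ := by
          have h1 : K.map (X := SingleObj.star G) (Y := SingleObj.star G) (g⁻¹ : G) ≫
              K.map (X := SingleObj.star G) (Y := SingleObj.star G) g =
              K.map (X := SingleObj.star G) (Y := SingleObj.star G) (g * g⁻¹ : G) :=
            (K.map_comp (X := SingleObj.star G) (Y := SingleObj.star G) (Z := SingleObj.star G)
              (g⁻¹ : G) g).symm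
          rw [h1, mul_inv_cancel]
          exact K.map_id _
        exact congrArg (fun φ => φ.left) this }
  map_one' := by
    apply Aut.ext
    change (K.map (𝟙 (SingleObj.star G))).left = 𝟙 _
    rw [K.map_id]
    rfl
  map_mul' g h := by
    apply Aut.ext
    change (K.map (X := SingleObj.star G) (Y := SingleObj.star G) (g * h)).left =
      (K.map (X := SingleObj.star G) (Y := SingleObj.star G) h).left ≫
        (K.map (X := SingleObj.star G) (Y := SingleObj.star G) g).left
    have : K.map (X := SingleObj.star G) (Y := SingleObj.star G) (g * h) =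
        K.map (X := SingleObj.star G) (Y := SingleObj.star G) h ≫
          K.map (X := SingleObj.star G) (Y := SingleObj.star G) g := by
      rw [← K.map_comp]
      rfl
    rw [this]
    rfl

theorem act_hom (g : G) :
    (act K g).hom = (K.map (X := SingleObj.star G) (Y := SingleObj.star G) g).left := rfl

theorem act_over (g : G) : (act K g).hom ≫ (base K).hom = (base K).hom :=
  MorphismProperty.Over.w (K.map (X := SingleObj.star G) (Y := SingleObj.star G) g)

theorem orbit_affine (y : (base K).left) :
    ∃ U : (base K).left.Opens, IsAffineOpen U ∧ ∀ g : G, (act K g).hom y ∈ U := by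
  obtain ⟨V, hV, hyV⟩ := exists_affine_nhd X ((base K).hom y)
  refine ⟨(base K).hom ⁻¹ᵁ V, hV.preimage (base K).hom, fun g => ?_⟩
  change (base K).hom ((act K g).hom y) ∈ V
  rw [← Scheme.Hom.comp_apply, act_over]
  exact hyV

variable [Finite G]

theorem exists_cocone_isQuot : ∃ c : Cocone K, Nonempty (IsColimit c) ∧
    IsQuot (act K) (c.ι.app (SingleObj.star G)).left := by
  obtain ⟨Q, p, hp⟩ := QuotExists.exists_isQuot (act K) (orbit_affine K)
  haveI := epi_of_isQuot hp
  let q : Q ⟶ X := desc hp (base K).hom (act_over K)
  have hq : p ≫ q = (base K).hom := fac hp _ _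
  obtain ⟨hfin, het⟩ :=
    GalQuot.finite_etale_of_isQuot (act K) (base K).hom (act_over K) p hp q hq
  let Qo : FEt.Cat X := MorphismProperty.Over.mk ⊤ q ⟨hfin, het⟩
  let pC : base K ⟶ Qo := MorphismProperty.Over.homMk p hq trivial
  have hinv : ∀ (s : Cocone K) (g : G),
      (act K g).hom ≫ (s.ι.app (SingleObj.star G)).left = (s.ι.app (SingleObj.star G)).left := by
    intro s g
    have := s.w (j := SingleObj.star G) (j' := SingleObj.star G) g
    exact congrArg (fun φ => φ.left) this
  let c : Cocone K :=
    { pt := Qo
      ι :=
        { app := fun _ => pC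
          naturality := by
            intro _ _ g
            apply MorphismProperty.Over.Hom.ext
            change (act K g).hom ≫ p = p ≫ 𝟙 _
            rw [hp.inv g, Category.comp_id] } }
  have hw : ∀ s : Cocone K,
      desc hp (s.ι.app (SingleObj.star G)).left (hinv s) ≫ s.pt.hom = Qo.hom := by
    intro s
    rw [← cancel_epi p]
    change p ≫ desc hp (s.ι.app (SingleObj.star G)).left (hinv s) ≫ s.pt.hom = p ≫ q
    rw [← Category.assoc, fac hp, hq]
    exact MorphismProperty.Over.w (s.ι.app (SingleObj.star G))
  let hc : IsColimit c :=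
    { desc := fun s => MorphismProperty.Over.homMk
        (desc hp (s.ι.app (SingleObj.star G)).left (hinv s)) (hw s) trivial
      fac := by
        intro s _
        apply MorphismProperty.Over.Hom.ext
        exact fac hp _ _
      uniq := by
        intro s m hm
        apply MorphismProperty.Over.Hom.ext
        apply (cancel_epi p).mp
        change p ≫ m.left = p ≫ desc hp (s.ι.app (SingleObj.star G)).left (hinv s)
        rw [fac hp]
        exact congrArg (fun φ => φ.left) (hm (SingleObj.star G)) }
  exact ⟨c, ⟨hc⟩, hp⟩

theorem hasColimit_singleObj : HasColimit K := by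
  obtain ⟨c, ⟨hc⟩, -⟩ := exists_cocone_isQuot K
  exact ⟨⟨⟨c, hc⟩⟩⟩

instance hasColimitsOfShape_singleObj : HasColimitsOfShape (SingleObj G) (FEt.Cat X) :=
  ⟨fun K => hasColimit_singleObj K⟩

end quot

end Groth.Agent.Lib.Helper20.GalCat
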