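import Groth.Agent.Lib.Helper20GalCat
import Mathlib

set_option autoImplicit false
universe u
open CategoryTheory CategoryTheory.Limits AlgebraicGeometry TopologicalSpace

namespace Groth.Agent.Lib.Helper20.GalCat

open SGA1 Groth.Agent.Lib.Helper20

section coprod

variable {X : Scheme.{u}}

theorem etale_coprodDesc {A B : Scheme.{u}} (a : A ⟶ X) (b : B ⟶ X) [Etale a] [Etale b] :
    Etale (coprod.desc a b) := by
  rw [IsZariskiLocalAtSource.iff_of_openCover (P := @Etale) (coprodOpenCover.{u, 0} A B)]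
  rintro (i | i)
  · change Etale (coprod.inl ≫ coprod.desc a b)
    rw [coprod.inl_desc]; infer_instance
  · change Etale (coprod.inr ≫ coprod.desc a b)
    rw [coprod.inr_desc]; infer_instance

/-- criterion for a binary cofan in `FEt.Cat X` to be a colimit -/
theorem nonempty_isColimit_binaryCofan {Y₁ Y₂ Z : FEt.Cat X} (i₁ : Y₁ ⟶ Z) (i₂ : Y₂ ⟶ Z)
    [IsOpenImmersion i₁.left] [IsOpenImmersion i₂.left]
    (h : IsCompl i₁.left.opensRange i₂.left.opensRange) :
    Nonempty (IsColimit (BinaryCofan.mk i₁ i₂)) := by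
  obtain ⟨hc⟩ := nonempty_isColimit_binaryCofanMk_of_isCompl i₁.left i₂.left h
  have key : ∀ s : BinaryCofan Y₁ Y₂,
      (BinaryCofan.IsColimit.desc' hc s.inl.left s.inr.left).1 ≫ s.pt.hom = Z.hom := by
    intro s
    obtain ⟨h1, h2⟩ := (BinaryCofan.IsColimit.desc' hc s.inl.left s.inr.left).2
    apply BinaryCofan.IsColimit.hom_ext hc
    · change i₁.left ≫ _ ≫ _ = i₁.left ≫ _
      rw [← Category.assoc]
      erw [h1]
      rw [MorphismProperty.Over.w]
      exact MorphismProperty.Over.w s.inl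
    · change i₂.left ≫ _ ≫ _ = i₂.left ≫ _
      rw [← Category.assoc]
      erw [h2]
      rw [MorphismProperty.Over.w]
      exact MorphismProperty.Over.w s.inr
  refine ⟨BinaryCofan.isColimitMk
    (fun s => MorphismProperty.Over.homMk
      (BinaryCofan.IsColimit.desc' hc s.inl.left s.inr.left).1 (key s) trivial) ?_ ?_ ?_⟩
  · intro s
    apply MorphismProperty.Over.Hom.ext
    exact (BinaryCofan.IsColimit.desc' hc s.inl.left s.inr.left).2.1
  · intro s
    apply MorphismProperty.Over.Hom.ext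
    exact (BinaryCofan.IsColimit.desc' hc s.inl.left s.inr.left).2.2
  · intro s m h1 h2
    apply MorphismProperty.Over.Hom.ext
    apply BinaryCofan.IsColimit.hom_ext hc
    · refine Eq.trans ?_ (BinaryCofan.IsColimit.desc' hc s.inl.left s.inr.left).2.1.symm
      exact congrArg (fun φ => φ.left) h1
    · refine Eq.trans ?_ (BinaryCofan.IsColimit.desc' hc s.inl.left s.inr.left).2.2.symm
      exact congrArg (fun φ => φ.left) h2

/-- the coproduct object -/
noncomputable def coprodObj (Y₁ Y₂ : FEt.Cat X) : FEt.Cat X :=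
  MorphismProperty.Over.mk ⊤ (coprod.desc Y₁.hom Y₂.hom) ⟨inferInstance, etale_coprodDesc _ _⟩

noncomputable def coprodInl (Y₁ Y₂ : FEt.Cat X) : Y₁ ⟶ coprodObj Y₁ Y₂ :=
  MorphismProperty.Over.homMk coprod.inl (coprod.inl_desc _ _) trivial

noncomputable def coprodInr (Y₁ Y₂ : FEt.Cat X) : Y₂ ⟶ coprodObj Y₁ Y₂ :=
  MorphismProperty.Over.homMk coprod.inr (coprod.inr_desc _ _) trivial

theorem nonempty_isColimit_coprod (Y₁ Y₂ : FEt.Cat X) :
    Nonempty (IsColimit (BinaryCofan.mk (coprodInl Y₁ Y₂) (coprodInr Y₁ Y₂))) := by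
  haveI : IsOpenImmersion (coprodInl Y₁ Y₂).left :=
    inferInstanceAs (IsOpenImmersion (coprod.inl : Y₁.left ⟶ Y₁.left ⨿ Y₂.left))
  haveI : IsOpenImmersion (coprodInr Y₁ Y₂).left :=
    inferInstanceAs (IsOpenImmersion (coprod.inr : Y₂.left ⟶ Y₁.left ⨿ Y₂.left))
  exact nonempty_isColimit_binaryCofan _ _ (isCompl_opensRange_inl_inr Y₁.left Y₂.left)

instance : HasBinaryCoproducts (FEt.Cat X) := by
  haveI : ∀ {Y₁ Y₂ : FEt.Cat X}, HasColimit (pair Y₁ Y₂) := fun {Y₁ Y₂} =>
    ⟨⟨⟨_, (nonempty_isColimit_coprod Y₁ Y₂).some⟩⟩⟩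
  exact hasBinaryCoproducts_of_hasColimit_pair _

theorem isFinite_of_isEmpty {A : Scheme.{u}} (f : A ⟶ X) [IsEmpty A] : IsFinite f := by
  haveI : IsClosedImmersion f := IsClosedImmersion.of_isPreimmersion f (by
    have : Set.range f = ∅ := Set.range_eq_empty _
    rw [this]; exact isClosed_empty)
  infer_instance

/-- the empty cover -/
noncomputable def emptyObj (X : Scheme.{u}) : FEt.Cat X :=
  MorphismProperty.Over.mk ⊤ (initial.to X) ⟨isFinite_of_isEmpty _, inferInstance⟩

/-- an object with empty underlying scheme is initial -/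
noncomputable def isInitialOfIsEmpty (Y : FEt.Cat X) [IsEmpty Y.left] : IsInitial Y :=
  IsInitial.ofUniqueHom
    (fun Z => MorphismProperty.Over.homMk (AlgebraicGeometry.isInitialOfIsEmpty.to Z.left)
      (AlgebraicGeometry.isInitialOfIsEmpty.hom_ext _ _) trivial)
    (fun Z m => by
      apply MorphismProperty.Over.Hom.ext
      exact AlgebraicGeometry.isInitialOfIsEmpty.hom_ext _ _)

instance : IsEmpty (emptyObj X).left := inferInstanceAs (IsEmpty (⊥_ Scheme.{u}))

instance : HasInitial (FEt.Cat X) := (isInitialOfIsEmpty (emptyObj X)).hasInitial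

instance : HasFiniteCoproducts (FEt.Cat X) := hasFiniteCoproducts_of_has_binary_and_initial

theorem isEmpty_of_isInitial (Y : FEt.Cat X) (h : IsInitial Y) : IsEmpty Y.left := by
  let e : Y ≅ emptyObj X := h.uniqueUpToIso (isInitialOfIsEmpty (emptyObj X))
  exact Function.isEmpty e.hom.left

theorem mono_left {Y Z : FEt.Cat X} (i : Y ⟶ Z) [Mono i] : Mono i.left := by
  have h1 : Mono ((MorphismProperty.Over.forget FEt.prop ⊤ X ⋙ Over.forget X).map i) :=
    inferInstance
  exact h1

/-- (G3): a monomorphism is the inclusion of a direct summand -/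
theorem mono_directSummand {Y Z : FEt.Cat X} (i : Y ⟶ Z) [Mono i] :
    ∃ (Z' : FEt.Cat X) (u : Z' ⟶ Z), Nonempty (IsColimit (BinaryCofan.mk i u)) := by
  haveI := mono_left i
  haveI : IsOpenImmersion i.left := IsOpenImmersion.of_flat_of_mono i.left
  have hcl : IsClosed (Set.range i.left) := i.left.isClosedMap.isClosed_range
  let V' : Z.left.Opens := ⟨(Set.range i.left)ᶜ, hcl.isOpen_compl⟩
  haveI : IsClosedImmersion V'.ι := IsClosedImmersion.of_isPreimmersion V'.ι (by
    rw [Scheme.Opens.range_ι]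
    change IsClosed ((Set.range i.left)ᶜ)
    exact i.left.isOpenEmbedding.isOpen_range.isClosed_compl)
  let Z' : FEt.Cat X := MorphismProperty.Over.mk ⊤ (V'.ι ≫ Z.hom) ⟨inferInstance, inferInstance⟩
  let u : Z' ⟶ Z := MorphismProperty.Over.homMk V'.ι rfl trivial
  haveI : IsOpenImmersion u.left := inferInstanceAs (IsOpenImmersion V'.ι)
  refine ⟨Z', u, nonempty_isColimit_binaryCofan i u ?_⟩
  have hu : u.left.opensRange = V' := Scheme.Opens.opensRange_ι V'
  rw [hu]
  constructor
  · rw [disjoint_iff]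
    ext z
    simp only [Opens.coe_inf, Opens.coe_bot, Set.mem_inter_iff, Set.mem_empty_iff_false, iff_false]
    rintro ⟨h1, h2⟩
    exact h2 h1
  · rw [codisjoint_iff]
    ext z
    simp only [Opens.coe_sup, Opens.coe_top, Set.mem_union, Set.mem_univ, iff_true]
    by_cases hz : z ∈ Set.range i.left
    · exact Or.inl hz
    · exact Or.inr hz

end coprod

instance preGalois (X : Scheme.{u}) : PreGaloisCategory (FEt.Cat X) where
  hasQuotientsByFiniteGroups G _ _ := inferInstance
  monoInducesIsoOnDirectSummand i := mono_directSummand i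

end Groth.Agent.Lib.Helper20.GalCat
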