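import Mathlib

set_option autoImplicit false
universe u
open CategoryTheory

namespace Groth.Agent.Lib.Helper20.GalField

section compact

variable (K L : Type u) [Field K] [Field L] [Algebra K L] [Algebra.IsAlgebraic K L]

/-- an automorphism is determined on `E` by its values on the separable elements of `E` -/
theorem apply_eq_of_fix_separable (σ : L ≃ₐ[K] L) (E : IntermediateField K L)
    (h : ∀ s : separableClosure K L, (s : L) ∈ E → σ s = s) (x : L) (hx : x ∈ E) : σ x = x := by
  let q := ringExpChar (separableClosure K L)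
  haveI : ExpChar (separableClosure K L) q := ringExpChar.expChar _
  haveI : ExpChar L q := expChar_of_injective_algebraMap (algebraMap (separableClosure K L) L).injective q
  obtain ⟨n, s, hs⟩ := IsPurelyInseparable.pow_mem (separableClosure K L) q x
  have hsE : (s : L) ∈ E := by
    have : (s : L) = x ^ q ^ n := hs
    rw [this]
    exact pow_mem hx _
  have h1 : σ x ^ q ^ n = x ^ q ^ n := by
    rw [← map_pow, ← hs]
    exact h s hsE
  exact iterateFrobenius_inj L q n h1

variable [Normal K L]

/-- restriction to the separable closure -/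
noncomputable abbrev resSep : (L ≃ₐ[K] L) →* (separableClosure K L ≃ₐ[K] separableClosure K L) :=
  AlgEquiv.restrictNormalHom (separableClosure K L)

theorem resSep_injective : Function.Injective (resSep K L) := by
  rw [injective_iff_map_eq_one]
  intro σ hσ
  ext x
  refine apply_eq_of_fix_separable K L σ ⊤ (fun s _ => ?_) x trivial
  have h1 := AlgEquiv.restrictNormal_commutes σ (separableClosure K L) s
  have h2 : σ.restrictNormal (separableClosure K L) = 1 := hσ
  rw [h2] at h1
  exact h1.symm

theorem resSep_bijective : Function.Bijective (resSep K L) :=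
  ⟨resSep_injective K L, AlgEquiv.restrictNormalHom_surjective L⟩

noncomputable def resSepEquiv : (L ≃ₐ[K] L) ≃* (separableClosure K L ≃ₐ[K] separableClosure K L) :=
  MulEquiv.ofBijective (resSep K L) (resSep_bijective K L)

theorem resSepEquiv_symm_continuous : Continuous (resSepEquiv K L).symm := by
  apply continuous_of_continuousAt_one _ (continuousAt_def.mpr _)
  intro N hN
  rw [map_one, krullTopology_mem_nhds_one_iff] at hN
  obtain ⟨E, hE, hEN⟩ := hN
  rw [krullTopology_mem_nhds_one_iff]
  let E' : IntermediateField K (separableClosure K L) := E.comap (separableClosure K L).val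
  have hfin : FiniteDimensional K E' := by
    let f : E' →ₗ[K] E :=
      { toFun := fun s => ⟨(s.1 : L), s.2⟩
        map_add' := fun _ _ => rfl
        map_smul' := fun _ _ => rfl }
    have hf : Function.Injective f := by
      intro a b hab
      apply Subtype.ext
      apply Subtype.ext
      exact congrArg (fun t : E => (t : L)) hab
    exact FiniteDimensional.of_injective f hf
  refine ⟨E', hfin, ?_⟩
  intro τ hτ
  apply hEN
  rw [SetLike.mem_coe, IntermediateField.mem_fixingSubgroup_iff] at hτ ⊢
  intro x hx
  set σ := (resSepEquiv K L).symm τ with hσ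
  have hστ : resSep K L σ = τ := (resSepEquiv K L).apply_symm_apply τ
  refine apply_eq_of_fix_separable K L σ E (fun s hs => ?_) x hx
  have h1 := AlgEquiv.restrictNormal_commutes σ (separableClosure K L) s
  have h2 : σ.restrictNormal (separableClosure K L) = τ := hστ
  rw [h2, hτ s hs] at h1
  exact h1.symm

instance compactSpace_autAlgClosure : CompactSpace (L ≃ₐ[K] L) := by
  have h := isCompact_range (resSepEquiv_symm_continuous K L)
  rw [(resSepEquiv K L).symm.surjective.range_eq] at h
  exact ⟨h⟩

end compact


/-- two `K`-algebra maps from a finite `K`-algebra to the algebraic closure with the same kernel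
differ by an automorphism of the algebraic closure -/
theorem exists_algEquiv_comp_eq (K : Type u) [Field K] {B : Type u} [CommRing B] [Algebra K B]
    [Module.Finite K B] (φ φ' : B →ₐ[K] AlgebraicClosure K)
    (hker : RingHom.ker φ = RingHom.ker φ') :
    ∃ σ : AlgebraicClosure K ≃ₐ[K] AlgebraicClosure K, ∀ b, σ (φ b) = φ' b := by
  haveI : IsArtinianRing B := IsArtinianRing.of_finite K B
  let 𝔪 : Ideal B := RingHom.ker φ
  haveI : 𝔪.IsPrime := RingHom.ker_isPrime φ
  haveI : 𝔪.IsMaximal := inferInstance
  letI : Field (B ⧸ 𝔪) := Ideal.Quotient.field 𝔪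
  let a : (B ⧸ 𝔪) →ₐ[K] AlgebraicClosure K := Ideal.Quotient.liftₐ 𝔪 φ (fun b hb => hb)
  let a' : (B ⧸ 𝔪) →ₐ[K] AlgebraicClosure K :=
    Ideal.Quotient.liftₐ 𝔪 φ' (fun b hb => by
      have : b ∈ RingHom.ker φ' := hker ▸ hb
      exact this)
  letI : Algebra (B ⧸ 𝔪) (AlgebraicClosure K) := a.toRingHom.toAlgebra
  haveI : IsScalarTower K (B ⧸ 𝔪) (AlgebraicClosure K) :=
    IsScalarTower.of_algebraMap_eq (fun x => (a.commutes x).symm)
  haveI : Algebra.IsAlgebraic (B ⧸ 𝔪) (AlgebraicClosure K) :=
    Algebra.IsAlgebraic.tower_top (K := K) (B ⧸ 𝔪)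
  obtain ⟨σ₀, hσ₀⟩ := IsAlgClosed.surjective_domRestrict_of_isAlgebraic (K := K) (L := B ⧸ 𝔪)
    (M := AlgebraicClosure K) (E := AlgebraicClosure K) a'
  have hbij : Function.Bijective σ₀ := Algebra.IsAlgebraic.algHom_bijective σ₀
  refine ⟨AlgEquiv.ofBijective σ₀ hbij, fun b => ?_⟩
  have h1 := congrArg (fun f : (B ⧸ 𝔪) →ₐ[K] AlgebraicClosure K => f (Ideal.Quotient.mk 𝔪 b)) hσ₀
  exact h1



end Groth.Agent.Lib.Helper20.GalField
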