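import Mathlib

set_option autoImplicit false
universe u
namespace Groth.Agent.Lib.Helper20.GalIdem
open TensorProduct

variable {k : Type*} [Field k] {A : Type*} [CommRing A] [Algebra k A]
  {L : Type*} [Field L] [Algebra k L]

/-- the action of `Gal(L/k)` on `L ⊗_k A` -/
noncomputable def act (σ : L ≃ₐ[k] L) : L ⊗[k] A ≃ₐ[k] L ⊗[k] A :=
  Algebra.TensorProduct.congr σ (AlgEquiv.refl : A ≃ₐ[k] A)

@[simp] lemma act_tmul (σ : L ≃ₐ[k] L) (l : L) (a : A) : act σ (l ⊗ₜ[k] a) = σ l ⊗ₜ a := by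
  simp [act]

lemma act_mul (σ τ : L ≃ₐ[k] L) (x : L ⊗[k] A) : act (σ * τ) x = act σ (act τ x) := by
  induction x using TensorProduct.induction_on with
  | zero => simp
  | tmul l a => simp [AlgEquiv.mul_apply]
  | add x y hx hy => simp [hx, hy]

lemma act_one (x : L ⊗[k] A) : act (1 : L ≃ₐ[k] L) x = x := by
  induction x using TensorProduct.induction_on with
  | zero => simp
  | tmul l a => simp
  | add x y hx hy => simp [hx, hy]

lemma act_inv_act (σ : L ≃ₐ[k] L) (x : L ⊗[k] A) : act σ⁻¹ (act σ x) = x := by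
  rw [← act_mul, inv_mul_cancel, act_one]

lemma act_act_inv (σ : L ≃ₐ[k] L) (x : L ⊗[k] A) : act σ (act σ⁻¹ x) = x := by
  rw [← act_mul, mul_inv_cancel, act_one]

lemma act_one_tmul (σ : L ≃ₐ[k] L) (a : A) : act σ ((1 : L) ⊗ₜ[k] a) = 1 ⊗ₜ a := by
  simp

/-- Step A: invariants of `L ⊗_k A` are `A`. -/
lemma exists_eq_one_tmul_of_invariant [FiniteDimensional k L] [IsGalois k L] (x : L ⊗[k] A)
    (hx : ∀ σ : L ≃ₐ[k] L, act σ x = x) : ∃ a : A, x = (1 : L) ⊗ₜ[k] a := by
  classical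
  let b := Module.Free.chooseBasis k A
  let bs := Algebra.TensorProduct.basis L b
  have hrepr : ∀ (σ : L ≃ₐ[k] L) (y : L ⊗[k] A) i, bs.repr (act σ y) i = σ (bs.repr y i) := by
    intro σ y i
    induction y using TensorProduct.induction_on with
    | zero => simp
    | tmul l a => simp [bs, Algebra.TensorProduct.basis_repr_tmul]
    | add y z hy hz => simp [hy, hz]
  have hfix : ∀ i, bs.repr x i ∈ (⊥ : IntermediateField k L) := by
    intro i
    rw [IsGalois.mem_bot_iff_fixed]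
    intro σ
    rw [← hrepr, hx]
  choose c hc using fun i => IntermediateField.mem_bot.mp (hfix i)
  refine ⟨∑ i ∈ (bs.repr x).support, c i • b i, ?_⟩
  conv_lhs => rw [← bs.linearCombination_repr x, Finsupp.linearCombination_apply, Finsupp.sum]
  rw [tmul_sum]
  refine Finset.sum_congr rfl fun i _ => ?_
  rw [← hc i, Algebra.TensorProduct.basis_apply, tmul_smul, Algebra.algebraMap_eq_smul_one,
    smul_assoc, one_smul]


section StepB

lemma prod_idem {ι B : Type*} [CommRing B] [DecidableEq ι] (f : ι → B)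
    (hf : ∀ i, f i * f i = f i) (S : Finset ι) :
    (∏ i ∈ S, f i) * (∏ i ∈ S, f i) = ∏ i ∈ S, f i := by
  rw [← Finset.prod_mul_distrib]
  exact Finset.prod_congr rfl fun i _ => hf i

lemma prod_absorb {ι B : Type*} [CommRing B] [DecidableEq ι] (f : ι → B)
    (hf : ∀ i, f i * f i = f i) {S S' : Finset ι} (h : S' ⊆ S) :
    (∏ i ∈ S, f i) * (∏ i ∈ S', f i) = ∏ i ∈ S, f i := by
  rw [← Finset.prod_sdiff h, mul_assoc, prod_idem f hf]

lemma prod_union_idem {ι B : Type*} [CommRing B] [DecidableEq ι] (f : ι → B)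
    (hf : ∀ i, f i * f i = f i) (S S' : Finset ι) :
    (∏ i ∈ S, f i) * (∏ i ∈ S', f i) = ∏ i ∈ S ∪ S', f i := by
  rw [← Finset.prod_union_inter, prod_absorb f hf (Finset.inter_subset_union)]

/-- Step B: a nonzero idempotent below `e` whose conjugates are equal or orthogonal to it. -/
lemma exists_good_idem [Finite (L ≃ₐ[k] L)] (e : L ⊗[k] A) (he : e * e = e) (he0 : e ≠ 0) :
    ∃ e₀ : L ⊗[k] A, e₀ * e₀ = e₀ ∧ e₀ ≠ 0 ∧ e₀ * e = e₀ ∧
      ∀ σ : L ≃ₐ[k] L, act σ e₀ = e₀ ∨ e₀ * act σ e₀ = 0 := by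
  classical
  let f : (L ≃ₐ[k] L) → L ⊗[k] A := fun τ => act τ e
  have hf : ∀ τ, f τ * f τ = f τ := fun τ => by
    simp only [f]
    rw [← map_mul, he]
  let P : Finset (L ≃ₐ[k] L) → L ⊗[k] A := fun T => ∏ τ ∈ T, f τ
  have h1 : P {1} ≠ 0 := by
    simp only [P, Finset.prod_singleton, f, act_one]
    exact he0
  obtain ⟨T, h1T, hT⟩ := Finite.exists_le_maximal (p := fun T => P T ≠ 0) h1
  have h1T' : (1 : L ≃ₐ[k] L) ∈ T := h1T (Finset.mem_singleton_self _)
  refine ⟨P T, prod_idem f hf T, hT.prop, ?_, fun σ => ?_⟩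
  · have : P T = P T * P {1} := (prod_absorb f hf h1T).symm
    rw [this]
    simp only [P, Finset.prod_singleton, f, act_one]
    rw [mul_assoc, he]
  · have hact : act σ (P T) = P (T.image (σ * ·)) := by
      simp only [P]
      rw [map_prod, Finset.prod_image (fun a _ b _ h => mul_left_cancel h)]
      exact Finset.prod_congr rfl fun τ _ => (act_mul σ τ e).symm
    rw [hact]
    by_cases h0 : P (T ∪ T.image (σ * ·)) = 0
    · right
      rw [show P T * P (T.image (σ * ·)) = P (T ∪ T.image (σ * ·)) from prod_union_idem f hf _ _, h0]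
    · left
      have hle : T ∪ T.image (σ * ·) ≤ T := hT.le_of_ge h0 Finset.subset_union_left
      have hsub : T.image (σ * ·) ⊆ T := Finset.union_subset_iff.mp hle |>.2
      have hcard : (T.image (σ * ·)).card = T.card :=
        Finset.card_image_of_injective _ (fun a b h => mul_left_cancel h)
      rw [Finset.eq_of_subset_of_card_le hsub hcard.ge]

end StepB


section StepC

lemma one_tmul_injective : Function.Injective (fun a : A => (1 : L) ⊗ₜ[k] a) :=
  Algebra.TensorProduct.includeRight_injective (R := k) (A := L) (B := A)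
    (algebraMap k L).injective

variable (e₀ : L ⊗[k] A)
  (hdich : ∀ σ : L ≃ₐ[k] L, act σ e₀ = e₀ ∨ e₀ * act σ e₀ = 0)

/-- the stabilizer of `e₀` -/
def stab : Subgroup (L ≃ₐ[k] L) where
  carrier := {σ | act σ e₀ = e₀}
  mul_mem' := by
    intro σ τ hσ hτ
    simp only [Set.mem_ofPred_eq] at hσ hτ ⊢
    rw [act_mul, hτ, hσ]
  one_mem' := act_one e₀
  inv_mem' := by
    intro σ hσ
    simp only [Set.mem_ofPred_eq] at hσ ⊢
    conv_lhs => rw [← hσ]
    exact act_inv_act σ e₀

include hdich in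
lemma orth (τ ρ : L ≃ₐ[k] L) (h : act τ e₀ ≠ act ρ e₀) : act τ e₀ * act ρ e₀ = 0 := by
  have h1 : act τ e₀ * act ρ e₀ = act τ (e₀ * act (τ⁻¹ * ρ) e₀) := by
    rw [map_mul, act_mul, act_act_inv]
  rw [h1]
  rcases hdich (τ⁻¹ * ρ) with h2 | h2
  · exfalso
    apply h
    have := congrArg (act τ) h2
    rw [act_mul, act_act_inv] at this
    exact this.symm
  · rw [h2, map_zero]

end StepC


section StepD

variable [FiniteDimensional k L] [IsGalois k L]

/-- Step C+D: existence and uniqueness of `a` with `(1 ⊗ a) e₀ = (f ⊗ 1) e₀` for `f` fixed by the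
stabilizer of `e₀`. -/
theorem rel_exists_unique (e₀ : L ⊗[k] A) (hid : e₀ * e₀ = e₀) (hne : e₀ ≠ 0)
    (hdich : ∀ σ : L ≃ₐ[k] L, act σ e₀ = e₀ ∨ e₀ * act σ e₀ = 0) [IsDomain A] :
    (∀ a : A, ((1 : L) ⊗ₜ[k] a) * e₀ = 0 → a = 0) ∧
    ∀ f : L, (∀ σ ∈ stab (k := k) (A := A) e₀, σ f = f) →
      ∃ a : A, ((1 : L) ⊗ₜ[k] a) * e₀ = (f ⊗ₜ[k] (1 : A)) * e₀ := by
  classical
  haveI : Fintype (L ≃ₐ[k] L) := Fintype.ofFinite _
  let O₀ : Finset (L ⊗[k] A) := Finset.univ.image (fun σ : L ≃ₐ[k] L => act σ e₀)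
  have hmemO : ∀ x ∈ O₀, ∃ σ : L ≃ₐ[k] L, act σ e₀ = x := by
    intro x hx
    obtain ⟨σ, -, h⟩ := Finset.mem_image.mp hx
    exact ⟨σ, h⟩
  have hO_mem : ∀ σ : L ≃ₐ[k] L, act σ e₀ ∈ O₀ := fun σ =>
    Finset.mem_image.mpr ⟨σ, Finset.mem_univ _, rfl⟩
  have he₀O : e₀ ∈ O₀ := by simpa [act_one] using hO_mem 1
  have horth : ∀ x ∈ O₀, ∀ y ∈ O₀, x ≠ y → x * y = 0 := by
    intro x hx y hy hxy
    obtain ⟨τ, rfl⟩ := hmemO x hx
    obtain ⟨ρ, rfl⟩ := hmemO y hy
    exact orth e₀ hdich τ ρ hxy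
  have hidO : ∀ x ∈ O₀, x * x = x := by
    intro x hx
    obtain ⟨τ, rfl⟩ := hmemO x hx
    rw [← map_mul, hid]
  -- image of O₀ under act σ
  have himg : ∀ σ : L ≃ₐ[k] L, O₀.image (act σ) = O₀ := by
    intro σ
    ext y
    constructor
    · intro hy
      obtain ⟨x, hx, rfl⟩ := Finset.mem_image.mp hy
      obtain ⟨τ, rfl⟩ := hmemO x hx
      rw [← act_mul]
      exact hO_mem _
    · intro hy
      obtain ⟨τ, rfl⟩ := hmemO y hy
      refine Finset.mem_image.mpr ⟨act (σ⁻¹ * τ) e₀, hO_mem _, ?_⟩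
      rw [act_mul, act_act_inv]
  have hsum_act : ∀ (σ : L ≃ₐ[k] L) (F : L ⊗[k] A → L ⊗[k] A),
      ∑ x ∈ O₀, F (act σ x) = ∑ y ∈ O₀, F y := by
    intro σ F
    conv_rhs => rw [← himg σ]
    rw [Finset.sum_image (fun a _ b _ h => (act σ).injective h)]
  set s := ∑ x ∈ O₀, x with hs
  have hs_inv : ∀ σ : L ≃ₐ[k] L, act σ s = s := by
    intro σ
    rw [hs, map_sum]
    exact hsum_act σ id
  have hs_e : s * e₀ = e₀ := by
    rw [hs, Finset.sum_mul, Finset.sum_eq_single e₀]
    · exact hid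
    · intro x hx hxe
      exact horth x hx e₀ he₀O hxe
    · intro h
      exact absurd he₀O h
  have hs_id : s * s = s := by
    rw [hs, Finset.sum_mul]
    refine Finset.sum_congr rfl fun x hx => ?_
    rw [Finset.mul_sum, Finset.sum_eq_single x]
    · exact hidO x hx
    · intro y hy hyx
      exact horth x hx y hy (Ne.symm hyx)
    · intro h
      exact absurd hx h
  have hs1 : s = 1 := by
    obtain ⟨a, ha⟩ := exists_eq_one_tmul_of_invariant s hs_inv
    have haa : a * a = a := by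
      apply one_tmul_injective (k := k) (L := L)
      simp only
      rw [← ha, ← hs_id, ha, Algebra.TensorProduct.tmul_mul_tmul, mul_one]
    have ha0 : a ≠ 0 := by
      rintro rfl
      rw [tmul_zero] at ha
      rw [ha, zero_mul] at hs_e
      exact hne hs_e.symm
    have ha1 : a = 1 := by
      have : a * (a - 1) = 0 := by rw [mul_sub, haa, mul_one, sub_self]
      rcases mul_eq_zero.mp this with h | h
      · exact absurd h ha0
      · exact sub_eq_zero.mp h
    rw [ha, ha1, Algebra.TensorProduct.one_def]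
  refine ⟨?_, ?_⟩
  · -- uniqueness
    intro a ha
    have hall : ∀ x ∈ O₀, ((1 : L) ⊗ₜ[k] a) * x = 0 := by
      intro x hx
      obtain ⟨σ, rfl⟩ := hmemO x hx
      have := congrArg (act σ) ha
      rwa [map_mul, act_one_tmul, map_zero] at this
    have : ((1 : L) ⊗ₜ[k] a) * s = 0 := by
      rw [hs, Finset.mul_sum]
      exact Finset.sum_eq_zero hall
    rw [hs1, mul_one] at this
    have h0 : (fun a : A => (1 : L) ⊗ₜ[k] a) a = (fun a : A => (1 : L) ⊗ₜ[k] a) 0 := by
      simp only [this, tmul_zero]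
    exact one_tmul_injective (k := k) (L := L) h0
  · -- existence
    intro f hf
    -- choice of representatives
    let g : L ⊗[k] A → (L ≃ₐ[k] L) := fun x =>
      if h : ∃ σ : L ≃ₐ[k] L, act σ e₀ = x then h.choose else 1
    have hg : ∀ x ∈ O₀, act (g x) e₀ = x := by
      intro x hx
      have h := hmemO x hx
      simp only [g, dif_pos h]
      exact h.choose_spec
    let t : L ⊗[k] A := ∑ x ∈ O₀, ((g x f) ⊗ₜ[k] (1 : A)) * x
    have hcompat : ∀ (ρ : L ≃ₐ[k] L), ∀ x ∈ O₀, ρ (g x f) = g (act ρ x) f := by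
      intro ρ x hx
      have hy : act ρ x ∈ O₀ := by
        rw [← himg ρ]
        exact Finset.mem_image_of_mem _ hx
      obtain ⟨y, hy_def⟩ : ∃ y, y = act ρ x := ⟨_, rfl⟩
      rw [← hy_def] at hy ⊢
      have hmem : (g y)⁻¹ * (ρ * g x) ∈ stab (k := k) (A := A) e₀ := by
        show act _ e₀ = e₀
        rw [act_mul, act_mul, hg x hx, ← hy_def]
        have := act_inv_act (g y) e₀
        rwa [hg y hy] at this
      have := hf _ hmem
      rw [AlgEquiv.mul_apply, AlgEquiv.mul_apply] at this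
      have h2 := congrArg (g y) this
      rwa [← AlgEquiv.mul_apply, mul_inv_cancel, AlgEquiv.one_apply] at h2
    have ht_inv : ∀ ρ : L ≃ₐ[k] L, act ρ t = t := by
      intro ρ
      simp only [t]
      rw [map_sum]
      have : ∀ x ∈ O₀, act ρ (((g x f) ⊗ₜ[k] (1 : A)) * x) =
          ((g (act ρ x) f) ⊗ₜ[k] (1 : A)) * act ρ x := by
        intro x hx
        rw [map_mul, act_tmul, hcompat ρ x hx]
      rw [Finset.sum_congr rfl this]
      exact hsum_act ρ (fun y => ((g y f) ⊗ₜ[k] (1 : A)) * y)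
    obtain ⟨a, ha⟩ := exists_eq_one_tmul_of_invariant t ht_inv
    refine ⟨a, ?_⟩
    rw [← ha]
    simp only [t]
    rw [Finset.sum_mul, Finset.sum_eq_single e₀]
    · rw [mul_assoc, hid]
      have : g e₀ ∈ stab (k := k) (A := A) e₀ := hg e₀ he₀O
      rw [hf _ this]
    · intro x hx hxe
      rw [mul_assoc, horth x hx e₀ he₀O hxe, mul_zero]
    · intro h
      exact absurd he₀O h

end StepD


section Final

variable [FiniteDimensional k L] [IsGalois k L] [IsDomain A]

/-- Main algebraic statement: a nontrivial idempotent of `L ⊗_k A` (`A` a domain, `L/k` finite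
Galois) produces a nontrivial subextension `F` of `L/k` with a `k`-algebra map `F → A`. -/
theorem exists_intermediateField_algHom (e : L ⊗[k] A) (he : e * e = e) (he0 : e ≠ 0)
    (he1 : e ≠ 1) : ∃ F : IntermediateField k L, F ≠ ⊥ ∧ Nonempty (F →ₐ[k] A) := by
  classical
  obtain ⟨e₀, hid, hne, hle, hdich⟩ := exists_good_idem e he he0
  obtain ⟨huniq, hex⟩ := rel_exists_unique e₀ hid hne hdich
  set H := stab (k := k) (A := A) e₀ with hH
  have hHtop : H ≠ ⊤ := by
    intro htop
    have hinv : ∀ σ : L ≃ₐ[k] L, act σ e₀ = e₀ := fun σ => by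
      have : σ ∈ H := htop ▸ Subgroup.mem_top σ
      exact this
    obtain ⟨a, ha⟩ := exists_eq_one_tmul_of_invariant e₀ hinv
    have haa : a * a = a := by
      apply one_tmul_injective (k := k) (L := L)
      simp only
      rw [← ha, ← hid, ha, Algebra.TensorProduct.tmul_mul_tmul, mul_one]
    have ha0 : a ≠ 0 := by
      rintro rfl
      rw [tmul_zero] at ha
      exact hne ha
    have ha1 : a = 1 := by
      have : a * (a - 1) = 0 := by rw [mul_sub, haa, mul_one, sub_self]
      rcases mul_eq_zero.mp this with h | h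
      · exact absurd h ha0
      · exact sub_eq_zero.mp h
    apply he1
    rw [ha, ha1, ← Algebra.TensorProduct.one_def, one_mul] at hle
    exact hle
  let F : IntermediateField k L := IntermediateField.fixedField H
  have hF : F ≠ ⊥ := by
    intro hbot
    apply hHtop
    have := IntermediateField.fixingSubgroup_fixedField H
    rw [show IntermediateField.fixedField H = ⊥ from hbot, IntermediateField.fixingSubgroup_bot]
      at this
    exact this.symm
  have hfix : ∀ f : F, ∀ σ ∈ H, σ (f : L) = f := by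
    intro f σ hσ
    exact f.2 ⟨σ, hσ⟩
  choose φ hφ using fun f : F => hex (f : L) (hfix f)
  -- uniqueness principle
  have huniq' : ∀ (a b : A), ((1 : L) ⊗ₜ[k] a) * e₀ = ((1 : L) ⊗ₜ[k] b) * e₀ → a = b := by
    intro a b h
    have : ((1 : L) ⊗ₜ[k] (a - b)) * e₀ = 0 := by
      rw [tmul_sub, sub_mul, h, sub_self]
    exact sub_eq_zero.mp (huniq _ this)
  refine ⟨F, hF, ⟨{
    toFun := φ
    map_one' := ?_
    map_mul' := ?_
    map_zero' := ?_
    map_add' := ?_
    commutes' := ?_ }⟩⟩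
  · apply huniq'
    rw [hφ 1]
    rfl
  · intro f f'
    apply huniq'
    rw [hφ (f * f')]
    have : ((1 : L) ⊗ₜ[k] (φ f * φ f')) = ((1 : L) ⊗ₜ[k] φ f) * ((1 : L) ⊗ₜ[k] φ f') := by
      rw [Algebra.TensorProduct.tmul_mul_tmul, mul_one]
    rw [this, mul_assoc, hφ f', ← mul_assoc, mul_comm ((1 : L) ⊗ₜ[k] φ f), mul_assoc, hφ f,
      ← mul_assoc, Algebra.TensorProduct.tmul_mul_tmul, mul_one]
    congr 2
    exact mul_comm _ _
  · apply huniq'
    rw [hφ 0]
    simp
  · intro f f'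
    apply huniq'
    rw [hφ (f + f'), tmul_add, add_mul, hφ f, hφ f', ← add_mul, ← add_tmul]
    rfl
  · intro c
    apply huniq'
    rw [hφ (algebraMap k F c)]
    congr 1
    rw [Algebra.algebraMap_eq_smul_one, Algebra.algebraMap_eq_smul_one]
    simp only [IntermediateField.coe_smul, IntermediateField.coe_one]
    rw [smul_tmul]

end Final

end Groth.Agent.Lib.Helper20.GalIdem
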