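import Groth.Agent.Lib.Helper20QuotCat
import Mathlib.RingTheory.Localization.Away.Basic

/-!
# Helper20: quotients by finite groups over an affine base

* `away_quot`: invariants commute with localization at an invariant element (finite family of
  endomorphisms).
-/

set_option autoImplicit false
universe u
open CategoryTheory AlgebraicGeometry TopologicalSpace

namespace Groth.Agent.Lib.Helper20

open SGA1

theorem away_quot {A B Af Bf : Type*} [CommRing A] [CommRing B] [CommRing Af] [CommRing Bf]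
    [Algebra A Af] [Algebra B Bf] (f : A) (φ : A →+* B) [IsLocalization.Away f Af]
    [IsLocalization.Away (φ f) Bf]
    {ι : Type*} [Finite ι] (τ : ι → B →+* B) (hτ : ∀ i a, τ i (φ a) = φ a)
    (hinj : Function.Injective φ) (hrange : ∀ b, (∀ i, τ i b = b) → b ∈ Set.range φ)
    (φf : Af →+* Bf) (hφf : ∀ a, φf (algebraMap A Af a) = algebraMap B Bf (φ a))
    (σ : ι → Bf →+* Bf) (hσ : ∀ i b, σ i (algebraMap B Bf b) = algebraMap B Bf (τ i b)) :
    Function.Injective φf ∧ ∀ t, (∀ i, σ i t = t) → t ∈ Set.range φf := by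
  have huA : IsUnit (algebraMap A Af f) := IsLocalization.Away.algebraMap_isUnit f
  have huB : IsUnit (algebraMap B Bf (φ f)) := IsLocalization.Away.algebraMap_isUnit (φ f)
  constructor
  · rw [injective_iff_map_eq_zero]
    intro s hs
    obtain ⟨n, a, hsa⟩ := IsLocalization.Away.surj f s
    have h1 : algebraMap B Bf (φ a) = 0 := by
      rw [← hφf, ← hsa, map_mul, hs, zero_mul]
    obtain ⟨⟨_, k, rfl⟩, hk⟩ := (IsLocalization.map_eq_zero_iff (Submonoid.powers (φ f)) Bf _).mp h1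
    have h2 : f ^ k * a = 0 := by
      apply hinj
      rw [map_mul, map_pow, map_zero]
      exact hk
    have h3 : algebraMap A Af a = 0 :=
      (IsLocalization.map_eq_zero_iff (Submonoid.powers f) Af _).mpr ⟨⟨_, k, rfl⟩, h2⟩
    rw [h3] at hsa
    exact (huA.pow n).mul_left_eq_zero.mp hsa
  · intro t ht
    obtain ⟨n, b, htb⟩ := IsLocalization.Away.surj (φ f) t
    have h1 : ∀ i, algebraMap B Bf (τ i b - b) = 0 := by
      intro i
      rw [map_sub, ← hσ, ← htb, map_mul, map_pow, hσ, hτ, ht, sub_self]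
    have h2 : ∀ i, ∃ k : ℕ, φ f ^ k * (τ i b - b) = 0 := by
      intro i
      obtain ⟨⟨_, k, rfl⟩, hk⟩ :=
        (IsLocalization.map_eq_zero_iff (Submonoid.powers (φ f)) Bf _).mp (h1 i)
      exact ⟨k, hk⟩
    choose k hk using h2
    cases nonempty_fintype ι
    let K := ∑ i, k i
    have h3 : ∀ i, φ f ^ K * (τ i b - b) = 0 := by
      intro i
      have hle : k i ≤ K := Finset.single_le_sum (fun _ _ => Nat.zero_le _) (Finset.mem_univ i)
      obtain ⟨d, hd⟩ := Nat.exists_eq_add_of_le hle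
      rw [hd, pow_add, mul_comm (φ f ^ k i), mul_assoc, hk, mul_zero]
    have h4 : ∀ i, τ i (φ f ^ K * b) = φ f ^ K * b := by
      intro i
      have := h3 i
      rw [mul_sub, sub_eq_zero] at this
      rw [map_mul, map_pow, hτ, this]
    obtain ⟨a, ha⟩ := hrange _ h4
    obtain ⟨u, hu⟩ := huA
    refine ⟨algebraMap A Af a * ((u⁻¹ : Afˣ) : Af) ^ (n + K), ?_⟩
    have h5 : φf (algebraMap A Af a * ((u⁻¹ : Afˣ) : Af) ^ (n + K)) *
        algebraMap B Bf (φ f) ^ (n + K) = t * algebraMap B Bf (φ f) ^ (n + K) := by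
      have h6 : algebraMap B Bf (φ f) = φf (u : Af) := by rw [hu, hφf]
      have h7 : φf (algebraMap A Af a * ((u⁻¹ : Afˣ) : Af) ^ (n + K)) *
          algebraMap B Bf (φ f) ^ (n + K) = algebraMap B Bf (φ a) := by
        rw [h6, ← map_pow, ← map_mul, mul_assoc, ← mul_pow, Units.inv_mul, one_pow, mul_one, hφf]
      rw [h7, ha, map_mul, map_pow, pow_add, ← mul_assoc, htb, mul_comm]
    exact (huB.pow (n + K)).mul_left_injective h5

section fam

variable {X Y : Scheme.{u}} {ι : Type u} (σ : ι → (X ⟶ X)) (p : X ⟶ Y)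

/-- quotient conditions for `p.appLE U T` and a family of endomorphisms. -/
def QuotAt (U : Y.Opens) (T : X.Opens) : Prop :=
  ∃ (e : T ≤ p ⁻¹ᵁ U) (eσ : ∀ i, T ≤ σ i ⁻¹ᵁ T),
  Function.Injective (p.appLE U T e).hom ∧
    ∀ s : Γ(X, T), (∀ i, ((σ i).appLE T T (eσ i)).hom s = s) → s ∈ Set.range (p.appLE U T e).hom

variable {σ p}

theorem appLE_invariant (hσ : ∀ i, σ i ≫ p = p) (U : Y.Opens) (T : X.Opens) (e : T ≤ p ⁻¹ᵁ U)
    (i : ι) (ei : T ≤ σ i ⁻¹ᵁ T) (a : Γ(Y, U)) :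
    ((σ i).appLE T T ei).hom ((p.appLE U T e).hom a) = (p.appLE U T e).hom a := by
  have h1 : p.appLE U T e ≫ (σ i).appLE T T ei = p.appLE U T e := by
    rw [Scheme.Hom.appLE_comp_appLE]
    exact appLE_congr_hom (hσ i) _ _ _
  exact congrArg (fun f => f.hom a) h1

theorem quotAt_basicOpen [Finite ι] [IsAffine X] [IsAffine Y] (hσ : ∀ i, σ i ≫ p = p)
    (htop : QuotAt σ p ⊤ ⊤) (f : Γ(Y, ⊤)) :
    QuotAt σ p (Y.basicOpen f) (p ⁻¹ᵁ Y.basicOpen f) := by
  obtain ⟨e, eσ, hinj, hrange⟩ := htop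
  have hT : X.basicOpen ((p.appLE ⊤ ⊤ e).hom f) = p ⁻¹ᵁ Y.basicOpen f := by
    rw [Scheme.basicOpen_appLE, top_inf_eq]
  rw [← hT]
  have e' : X.basicOpen ((p.appLE ⊤ ⊤ e).hom f) ≤ p ⁻¹ᵁ Y.basicOpen f := hT.le
  have eσ' : ∀ i, X.basicOpen ((p.appLE ⊤ ⊤ e).hom f) ≤
      σ i ⁻¹ᵁ X.basicOpen ((p.appLE ⊤ ⊤ e).hom f) := by
    intro i
    rw [hT, ← Scheme.Hom.comp_preimage, hσ i]
  refine ⟨e', eσ', ?_⟩
  have key := away_quot (Af := Γ(Y, Y.basicOpen f))
    (Bf := Γ(X, X.basicOpen ((p.appLE ⊤ ⊤ e).hom f))) f (p.appLE ⊤ ⊤ e).hom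
    (fun i => ((σ i).appLE ⊤ ⊤ (eσ i)).hom)
    (fun i a => appLE_invariant hσ ⊤ ⊤ e i (eσ i) a) hinj (fun b hb => hrange b hb)
    (p.appLE (Y.basicOpen f) (X.basicOpen ((p.appLE ⊤ ⊤ e).hom f)) e').hom
    (fun a => by
      change (Y.presheaf.map _ ≫ p.appLE _ _ e').hom a = (p.appLE ⊤ ⊤ e ≫ X.presheaf.map _).hom a
      rw [Scheme.Hom.map_appLE, Scheme.Hom.appLE_map])
    (fun i => ((σ i).appLE _ _ (eσ' i)).hom)
    (fun i b => by
      change (X.presheaf.map _ ≫ (σ i).appLE _ _ (eσ' i)).hom b =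
        ((σ i).appLE ⊤ ⊤ (eσ i) ≫ X.presheaf.map _).hom b
      rw [Scheme.Hom.map_appLE, Scheme.Hom.appLE_map])
  exact key

theorem quotAt_of_basicOpen [IsAffine Y] (hσ : ∀ i, σ i ≫ p = p)
    (hbasic : ∀ f : Γ(Y, ⊤), QuotAt σ p (Y.basicOpen f) (p ⁻¹ᵁ Y.basicOpen f)) (U : Y.Opens) :
    QuotAt σ p U (p ⁻¹ᵁ U) := by
  have eσ : ∀ (W : Y.Opens) (i : ι), p ⁻¹ᵁ W ≤ σ i ⁻¹ᵁ (p ⁻¹ᵁ W) := by
    intro W i
    rw [← Scheme.Hom.comp_preimage, hσ i]
  -- the cover of `U` by basic opens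
  let J := {f : Γ(Y, ⊤) // Y.basicOpen f ≤ U}
  let V : J → Y.Opens := fun j => Y.basicOpen j.1
  have hcover : U ≤ iSup V := by
    intro y hy
    obtain ⟨_, ⟨f, rfl⟩, hyf, hfU⟩ := Opens.isBasis_iff_nbhd.mp (isBasis_basicOpen Y) hy
    exact Opens.mem_iSup.mpr ⟨⟨f, hfU⟩, hyf⟩
  have hcover' : p ⁻¹ᵁ U ≤ iSup (fun j : J => p ⁻¹ᵁ V j) := by
    intro x hx
    obtain ⟨j, hj⟩ := Opens.mem_iSup.mp (hcover (show p.base x ∈ U from hx))
    exact Opens.mem_iSup.mpr ⟨j, hj⟩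
  -- conditions on basic opens and their pairwise intersections
  have hb : ∀ j : J, QuotAt σ p (V j) (p ⁻¹ᵁ V j) := fun j => hbasic j.1
  have hbb : ∀ j k : J, QuotAt σ p (V j ⊓ V k) (p ⁻¹ᵁ (V j ⊓ V k)) := by
    intro j k
    have := hbasic (j.1 * k.1)
    rwa [Scheme.basicOpen_mul] at this
  -- restriction compatibilities
  have hres : ∀ (W W' : Y.Opens) (hWW' : W' ≤ W) (a : Γ(Y, W)),
      (p.app W').hom ((Y.presheaf.map (homOfLE hWW').op).hom a) =
        (X.presheaf.map (homOfLE (p.preimage_mono hWW')).op).hom ((p.app W).hom a) := by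
    intro W W' hWW' a
    exact congrArg (fun f => f.hom a) (p.naturality (homOfLE hWW').op)
  have hresσ : ∀ (W W' : Y.Opens) (hWW' : W' ≤ W) (i : ι) (t : Γ(X, p ⁻¹ᵁ W)),
      ((σ i).appLE _ _ (eσ W' i)).hom ((X.presheaf.map (homOfLE (p.preimage_mono hWW')).op).hom t) =
        (X.presheaf.map (homOfLE (p.preimage_mono hWW')).op).hom
          (((σ i).appLE _ _ (eσ W i)).hom t) := by
    intro W W' hWW' i t
    have h1 : X.presheaf.map (homOfLE (p.preimage_mono hWW')).op ≫ (σ i).appLE _ _ (eσ W' i) =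
        (σ i).appLE _ _ (eσ W i) ≫ X.presheaf.map (homOfLE (p.preimage_mono hWW')).op := by
      rw [Scheme.Hom.map_appLE, Scheme.Hom.appLE_map]
    exact congrArg (fun f => f.hom t) h1
  have happ : ∀ (W : Y.Opens) (hW : QuotAt σ p W (p ⁻¹ᵁ W)),
      Function.Injective (p.app W).hom ∧ ∀ s : Γ(X, p ⁻¹ᵁ W),
        (∀ i, ((σ i).appLE _ _ (eσ W i)).hom s = s) → s ∈ Set.range (p.app W).hom := by
    rintro W ⟨e, eσ', hinj, hrange⟩
    rw [Scheme.Hom.app_eq_appLE]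
    exact ⟨hinj, hrange⟩
  refine ⟨le_rfl, eσ U, ?_, ?_⟩
  · rw [Scheme.Hom.appLE_eq_app, injective_iff_map_eq_zero]
    intro s hs
    fapply Y.sheaf.eq_of_locally_eq' V U (fun j => homOfLE j.2) hcover
    intro j
    change (Y.presheaf.map (homOfLE j.2).op).hom s = (Y.presheaf.map (homOfLE j.2).op).hom 0
    rw [map_zero]
    apply (happ _ (hb j)).1
    rw [map_zero, hres U (V j) j.2 s, hs, map_zero]
  · intro t ht
    rw [Scheme.Hom.appLE_eq_app]
    have h1 : ∀ j : J, ∃ s : Γ(Y, V j), (p.app (V j)).hom s =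
        (X.presheaf.map (homOfLE (p.preimage_mono j.2)).op).hom t := by
      intro j
      apply (happ _ (hb j)).2
      intro i
      rw [hresσ U (V j) j.2 i t, ht i]
    choose sf hsf using h1
    have hcompat : TopCat.Presheaf.IsCompatible Y.presheaf V sf := by
      intro j k
      apply (happ _ (hbb j k)).1
      change (p.app (V j ⊓ V k)).hom ((Y.presheaf.map (homOfLE inf_le_left).op).hom (sf j)) =
        (p.app (V j ⊓ V k)).hom ((Y.presheaf.map (homOfLE inf_le_right).op).hom (sf k))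
      rw [hres (V j) (V j ⊓ V k) inf_le_left, hres (V k) (V j ⊓ V k) inf_le_right, hsf, hsf]
      change (X.presheaf.map _ ≫ X.presheaf.map _).hom t = (X.presheaf.map _ ≫ X.presheaf.map _).hom t
      rw [← X.presheaf.map_comp, ← X.presheaf.map_comp]
      rfl
    obtain ⟨s, hs, -⟩ := Y.sheaf.existsUnique_gluing' V U (fun j => homOfLE j.2) hcover sf hcompat
    refine ⟨s, ?_⟩
    fapply X.sheaf.eq_of_locally_eq' (fun j : J => p ⁻¹ᵁ V j) (p ⁻¹ᵁ U)
      (fun j => homOfLE (p.preimage_mono j.2)) hcover'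
    intro j
    change (X.presheaf.map (homOfLE (p.preimage_mono j.2)).op).hom ((p.app U).hom s) =
      (X.presheaf.map (homOfLE (p.preimage_mono j.2)).op).hom t
    rw [← hres U (V j) j.2 s, ← hsf j]
    congr 1
    exact hs j

/-- **Affine base**: the quotient conditions over the whole affine base imply `IsQuot`. -/
theorem isQuot_of_isAffine {G : Type u} [Group G] [Finite G] [IsAffine Y] (ρ : G →* Aut X)
    (haff : IsAffineHom p) (hinv : ∀ g : G, (ρ g).hom ≫ p = p)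
    (htop : QuotAt (fun g : G => (ρ g).hom) p ⊤ ⊤) : IsQuot ρ p := by
  have : IsAffine X := isAffine_of_isAffineHom p
  have hall := quotAt_of_basicOpen hinv (fun f => quotAt_basicOpen hinv htop f)
  refine ⟨haff, hinv, fun U => ?_, fun U s => ⟨?_, ?_⟩⟩
  · obtain ⟨e, eσ, hinj, -⟩ := hall U
    rw [Scheme.Hom.appLE_eq_app] at hinj
    exact hinj
  · rintro ⟨a, rfl⟩ g
    have := appLE_invariant (σ := fun g : G => (ρ g).hom) hinv U (p ⁻¹ᵁ U) le_rfl g
      (preimage_le_of_inv ρ p hinv g U) a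
    rw [Scheme.Hom.appLE_eq_app] at this
    exact this
  · intro hs
    obtain ⟨e, eσ, -, hrange⟩ := hall U
    have := hrange s hs
    rw [Scheme.Hom.appLE_eq_app] at this
    exact this

end fam

theorem appLE_top_top {X Y : Scheme.{u}} (f : X ⟶ Y) (e : (⊤ : X.Opens) ≤ f ⁻¹ᵁ ⊤) :
    f.appLE ⊤ ⊤ e = f.appTop := by
  rw [Scheme.Hom.appLE]
  exact (congrArg (fun m => f.app ⊤ ≫ m) (X.presheaf.map_id _)).trans (Category.comp_id _)

section affine

variable {X Y : Scheme.{u}} {G : Type u} [Group G] [Finite G] {ρ : G →* Aut X} {p : X ⟶ Y}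

/-- the quotient of an affine scheme by a finite group, composed to `Spec Γ(Y, ⊤)`, is again a
quotient -/
theorem isQuot_comp_toSpecΓ [IsAffine X] (hp : IsQuot ρ p) : IsQuot ρ (p ≫ Y.toSpecΓ) := by
  have hinv : ∀ g : G, (ρ g).hom ≫ p ≫ Y.toSpecΓ = p ≫ Y.toSpecΓ := fun g => by
    rw [← Category.assoc, hp.inv]
  refine isQuot_of_isAffine ρ inferInstance hinv ?_
  have e : (⊤ : X.Opens) ≤ (p ≫ Y.toSpecΓ) ⁻¹ᵁ ⊤ := fun _ _ => trivial
  have eσ : ∀ g : G, (⊤ : X.Opens) ≤ (ρ g).hom ⁻¹ᵁ ⊤ := fun _ _ _ => trivial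
  have hcomp : (p ≫ Y.toSpecΓ).appLE ⊤ ⊤ e = (Scheme.ΓSpecIso Γ(Y, ⊤)).hom ≫ p.appTop := by
    have h1 : (p ≫ Y.toSpecΓ).appLE ⊤ ⊤ e = (p ≫ Y.toSpecΓ).appTop := by
      rw [Scheme.Hom.appLE]
      exact (congrArg (fun m => (p ≫ Y.toSpecΓ).app ⊤ ≫ m) (X.presheaf.map_id _)).trans
        (Category.comp_id _)
    rw [h1, Scheme.Hom.comp_appTop, Scheme.toSpecΓ_appTop]
  refine ⟨e, eσ, ?_, ?_⟩
  · rw [hcomp, CommRingCat.hom_comp, RingHom.coe_comp]
    exact (hp.injective ⊤).comp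
      (ConcreteCategory.bijective_of_isIso (Scheme.ΓSpecIso Γ(Y, ⊤)).hom).injective
  · intro s hs
    have h1 : s ∈ Set.range (p.app ⊤).hom := (hp.range_iff ⊤ s).mpr hs
    obtain ⟨a, rfl⟩ := h1
    refine ⟨(Scheme.ΓSpecIso Γ(Y, ⊤)).inv.hom a, ?_⟩
    rw [hcomp]
    change (p.appTop).hom ((Scheme.ΓSpecIso Γ(Y, ⊤)).hom.hom ((Scheme.ΓSpecIso Γ(Y, ⊤)).inv.hom a)) = _
    have h2 : (Scheme.ΓSpecIso Γ(Y, ⊤)).hom.hom ((Scheme.ΓSpecIso Γ(Y, ⊤)).inv.hom a) = a :=
      congrArg (fun f => f.hom a) (Scheme.ΓSpecIso Γ(Y, ⊤)).inv_hom_id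
    rw [h2]
    rfl

/-- the quotient of an affine scheme by a finite group is affine -/
theorem isAffine_of_isQuot [IsAffine X] (hp : IsQuot ρ p) : IsAffine Y := by
  have hq := isQuot_comp_toSpecΓ hp
  have hepi_p := epi_of_isQuot hp
  have hepi_q := epi_of_isQuot hq
  let b := desc hq p hp.inv
  have hb : (p ≫ Y.toSpecΓ) ≫ b = p := fac hq p hp.inv
  have h1 : Y.toSpecΓ ≫ b = 𝟙 Y := by
    rw [← cancel_epi p, ← Category.assoc, hb, Category.comp_id]
  have h2 : b ≫ Y.toSpecΓ = 𝟙 _ := by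
    rw [← cancel_epi (p ≫ Y.toSpecΓ), ← Category.assoc, hb, Category.comp_id]
  exact ⟨⟨b, h1, h2⟩⟩

end affine

end Groth.Agent.Lib.Helper20
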