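import Groth.Agent.Lib.Helper20QuotCoset
import Groth.Agent.Lib.Helper20QuotCat
import Groth.Agent.Lib.Helper20QuotAff
import Mathlib

set_option autoImplicit false
universe u
open CategoryTheory CategoryTheory.Limits AlgebraicGeometry TopologicalSpace

namespace Groth.Agent.Lib.Helper20.QuotLocal

open SGA1 Groth.Agent.Lib.Helper20 Groth.Agent.Lib.Helper20.QuotCoset

/-- transport of the quotient conditions along a commutative square of ring maps with bijective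
horizontal maps -/
theorem quot_transport {A B A' B' : Type*} [CommRing A] [CommRing B] [CommRing A'] [CommRing B']
    (α : A →+* B) (α' : A' →+* B') (γ : A →+* A') (β : B →+* B')
    (hsq : ∀ a, β (α a) = α' (γ a)) (hβ : Function.Bijective β) (hγ : Function.Bijective γ)
    {ι : Type*} (τ : ι → B →+* B) (τ' : ι → B' →+* B') (hτ : ∀ i b, τ' i (β b) = β (τ i b)) :
    (Function.Injective α ∧ ∀ b, (∀ i, τ i b = b) → b ∈ Set.range α) ↔
      (Function.Injective α' ∧ ∀ b', (∀ i, τ' i b' = b') → b' ∈ Set.range α') := by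
  constructor
  · rintro ⟨h1, h2⟩
    refine ⟨fun a₁ a₂ h => ?_, fun b' hb' => ?_⟩
    · obtain ⟨a₁, rfl⟩ := hγ.2 a₁
      obtain ⟨a₂, rfl⟩ := hγ.2 a₂
      rw [← hsq, ← hsq] at h
      rw [h1 (hβ.1 h)]
    · obtain ⟨b, rfl⟩ := hβ.2 b'
      obtain ⟨a, rfl⟩ := h2 b (fun i => hβ.1 (by rw [← hτ, hb' i]))
      exact ⟨γ a, (hsq a).symm⟩
  · rintro ⟨h1, h2⟩
    refine ⟨fun a₁ a₂ h => ?_, fun b hb => ?_⟩
    · apply hγ.1
      apply h1
      rw [← hsq, ← hsq, h]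
    · obtain ⟨a', ha'⟩ := h2 (β b) (fun i => by rw [hτ, hb i])
      obtain ⟨a, rfl⟩ := hγ.2 a'
      exact ⟨a, hβ.1 (by rw [hsq, ha'])⟩

section sq

variable {X Y X' Y' : Scheme.{u}} {p : X ⟶ Y} {p' : X' ⟶ Y'} {j : X' ⟶ X} {k : Y' ⟶ Y}

theorem quotAt_iff_of_isPullback (H : IsPullback p' j k p) [IsOpenImmersion j] [IsOpenImmersion k]
    {ι : Type u} (σ : ι → (X ⟶ X)) (σ' : ι → (X' ⟶ X')) (hσ : ∀ i, σ' i ≫ j = j ≫ σ i)
    (hinv : ∀ i, σ i ≫ p = p) (hinv' : ∀ i, σ' i ≫ p' = p') (U' : Y'.Opens) :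
    QuotAt σ p (k ''ᵁ U') (p ⁻¹ᵁ (k ''ᵁ U')) ↔ QuotAt σ' p' U' (p' ⁻¹ᵁ U') := by
  set U : Y.Opens := k ''ᵁ U' with hU
  set T : X.Opens := p ⁻¹ᵁ U with hT
  set T' : X'.Opens := p' ⁻¹ᵁ U' with hT'
  have hjT : j ''ᵁ T' = T := IsOpenImmersion.image_preimage_eq_preimage_image_of_isPullback H U'
  have eU : U' ≤ k ⁻¹ᵁ U := fun y hy => ⟨y, hy, rfl⟩
  have eT : T' ≤ j ⁻¹ᵁ T := fun x hx => by
    change j x ∈ T
    rw [← hjT]
    exact ⟨x, hx, rfl⟩
  have hγ : Function.Bijective (k.appLE U U' eU).hom :=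
    bijective_appLE_of_isOpenImmersion k U U' rfl eU
  have hβ : Function.Bijective (j.appLE T T' eT).hom :=
    bijective_appLE_of_isOpenImmersion j T T' hjT eT
  have eσ : ∀ i, T ≤ σ i ⁻¹ᵁ T := fun i => by
    rw [hT, ← Scheme.Hom.comp_preimage, hinv i]
  have eσ' : ∀ i, T' ≤ σ' i ⁻¹ᵁ T' := fun i => by
    rw [hT', ← Scheme.Hom.comp_preimage, hinv' i]
  have hsq : p.appLE U T le_rfl ≫ j.appLE T T' eT = k.appLE U U' eU ≫ p'.appLE U' T' le_rfl := by
    rw [Scheme.Hom.appLE_comp_appLE, Scheme.Hom.appLE_comp_appLE]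
    exact appLE_congr_hom H.w.symm _ _ _
  have hτ : ∀ i, j.appLE T T' eT ≫ (σ' i).appLE T' T' (eσ' i) =
      (σ i).appLE T T (eσ i) ≫ j.appLE T T' eT := by
    intro i
    rw [Scheme.Hom.appLE_comp_appLE, Scheme.Hom.appLE_comp_appLE]
    exact appLE_congr_hom (hσ i) _ _ _
  have key := quot_transport (p.appLE U T le_rfl).hom (p'.appLE U' T' le_rfl).hom
    (k.appLE U U' eU).hom (j.appLE T T' eT).hom
    (fun a => by
      have := hom_apply_eq hsq a
      simpa only [CommRingCat.hom_comp, RingHom.comp_apply] using this)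
    hβ hγ (fun i => ((σ i).appLE T T (eσ i)).hom) (fun i => ((σ' i).appLE T' T' (eσ' i)).hom)
    (fun i b => by
      have := hom_apply_eq (hτ i) b
      simpa only [CommRingCat.hom_comp, RingHom.comp_apply] using this)
  constructor
  · rintro ⟨e, eσ₀, h1, h2⟩
    exact ⟨le_rfl, eσ', key.mp ⟨h1, h2⟩⟩
  · rintro ⟨e, eσ₀, h1, h2⟩
    exact ⟨le_rfl, eσ, key.mpr ⟨h1, h2⟩⟩

end sq

section D

variable {X Y X' Y' : Scheme.{u}} {G : Type u} [Group G] {ρ : G →* Aut X} {p : X ⟶ Y}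
  {p' : X' ⟶ Y'} {j : X' ⟶ X} {k : Y' ⟶ Y}

theorem quotAt_of_isQuot (hp : IsQuot ρ p) (U : Y.Opens) :
    QuotAt (fun g : G => (ρ g).hom) p U (p ⁻¹ᵁ U) := by
  refine ⟨le_rfl, fun g => preimage_le_of_inv ρ p hp.inv g U, ?_, fun s hs => ?_⟩
  · rw [Scheme.Hom.appLE_eq_app]
    exact hp.injective U
  · rw [Scheme.Hom.appLE_eq_app]
    exact (hp.range_iff U s).mpr hs

/-- base change of a quotient along an open immersion -/
theorem isQuot_of_isPullback (hp : IsQuot ρ p) (H : IsPullback p' j k p) [IsOpenImmersion k]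
    (ρ' : G →* Aut X') (hρ' : ∀ g, (ρ' g).hom ≫ j = j ≫ (ρ g).hom) : IsQuot ρ' p' := by
  haveI : IsOpenImmersion j := MorphismProperty.of_isPullback H inferInstance
  haveI := hp.affine
  have haff : IsAffineHom p' := MorphismProperty.of_isPullback H.flip inferInstance
  have hinv' : ∀ g, (ρ' g).hom ≫ p' = p' := by
    intro g
    rw [← cancel_mono k, Category.assoc, H.w, ← Category.assoc, hρ', Category.assoc, hp.inv]
  refine isQuot_of_quotAt ρ' haff hinv' (fun U' => ?_)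
  exact (quotAt_iff_of_isPullback H (fun g : G => (ρ g).hom) (fun g : G => (ρ' g).hom) hρ' hp.inv
    hinv' U').mp (quotAt_of_isQuot hp _)

/-- being a quotient is local on the target -/
theorem isQuot_of_cover (ρ : G →* Aut X) (p : X ⟶ Y) (hinv : ∀ g, (ρ g).hom ≫ p = p)
    {I : Type*} (Xi Yi : I → Scheme.{u}) (ki : ∀ i, Yi i ⟶ Y) [∀ i, IsOpenImmersion (ki i)]
    (ji : ∀ i, Xi i ⟶ X) (pi : ∀ i, Xi i ⟶ Yi i) (H : ∀ i, IsPullback (pi i) (ji i) (ki i) p)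
    (ρi : ∀ i, G →* Aut (Xi i)) (hρi : ∀ i g, (ρi i g).hom ≫ ji i = ji i ≫ (ρ g).hom)
    (hq : ∀ i, IsQuot (ρi i) (pi i)) (hcov : ∀ y : Y, ∃ i, y ∈ (ki i).opensRange) : IsQuot ρ p := by
  haveI : ∀ i, IsOpenImmersion (ji i) := fun i => MorphismProperty.of_isPullback (H i) inferInstance
  have haff : IsAffineHom p := by
    apply isAffineHom_of_forall_exists_isAffineOpen
    intro y
    obtain ⟨i, y', rfl⟩ := hcov y
    obtain ⟨W, hW, hyW⟩ := exists_affine_nhd (Yi i) y'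
    refine ⟨ki i ''ᵁ W, ⟨y', hyW, rfl⟩, hW.image_of_isOpenImmersion _, ?_⟩
    rw [← IsOpenImmersion.image_preimage_eq_preimage_image_of_isPullback (H i) W]
    haveI := (hq i).affine
    exact (hW.preimage (pi i)).image_of_isOpenImmersion _
  refine isQuot_of_quotAt ρ haff hinv (fun U => ?_)
  refine quotAt_of_isBasis hinv {W | ∃ i U', W = ki i ''ᵁ U'} ?_ ?_ U
  · rw [Opens.isBasis_iff_nbhd]
    intro W y hy
    obtain ⟨i, y', rfl⟩ := hcov y
    refine ⟨ki i ''ᵁ (ki i ⁻¹ᵁ W), ⟨i, _, rfl⟩, ⟨y', hy, rfl⟩, ?_⟩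
    rintro _ ⟨z, hz, rfl⟩
    exact hz
  · rintro _ ⟨i, U', rfl⟩
    have hinv' : ∀ g, (ρi i g).hom ≫ pi i = pi i := (hq i).inv
    exact (quotAt_iff_of_isPullback (H i) (fun g : G => (ρ g).hom) (fun g : G => (ρi i g).hom)
      (hρi i) hinv hinv' U').mpr (quotAt_of_isQuot (hq i) _)

end D

section A

variable {X Y Y' : Scheme.{u}} {G : Type u} [Group G] [Finite G] {ρ : G →* Aut X} {p : X ⟶ Y}
  {p' : X ⟶ Y'}

/-- two quotients are uniquely isomorphic -/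
theorem exists_iso_of_isQuot (hp : IsQuot ρ p) (hp' : IsQuot ρ p') :
    ∃ e : Y ≅ Y', p ≫ e.hom = p' := by
  haveI := epi_of_isQuot hp
  haveI := epi_of_isQuot hp'
  refine ⟨⟨desc hp p' hp'.inv, desc hp' p hp.inv, ?_, ?_⟩, fac hp p' hp'.inv⟩
  · rw [← cancel_epi p, ← Category.assoc, fac hp p' hp'.inv, fac hp' p hp.inv, Category.comp_id]
  · rw [← cancel_epi p', ← Category.assoc, fac hp' p hp.inv, fac hp p' hp'.inv, Category.comp_id]

end A

section C

variable {X Y X₁ Y₁ : Scheme.{u}} {G : Type u} [Group G] [Finite G] {ρ : G →* Aut X} {p : X ⟶ Y}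
  {ρ₁ : G →* Aut X₁} {p₁ : X₁ ⟶ Y₁}

/-- the map induced on quotients by an equivariant open immersion is an open immersion -/
theorem isOpenImmersion_of_isQuot (hp : IsQuot ρ p) (hp₁ : IsQuot ρ₁ p₁) (j : X₁ ⟶ X)
    [IsOpenImmersion j] (hj : ∀ g, (ρ₁ g).hom ≫ j = j ≫ (ρ g).hom) (φ : Y₁ ⟶ Y)
    (sq : p₁ ≫ φ = j ≫ p) : IsOpenImmersion φ := by
  have hsat : p.base ⁻¹' (p.base '' (Set.range j.base)) = Set.range j.base := by
    apply Set.Subset.antisymm
    · rintro x ⟨_, ⟨x₁, rfl⟩, hxx'⟩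
      obtain ⟨g, rfl⟩ := (fibre_iff_orbit hp _ x).mp hxx'
      refine ⟨(ρ₁ g).hom.base x₁, ?_⟩
      have := congrArg (fun f : X₁ ⟶ X => f.base x₁) (hj g)
      simpa using this
    · exact Set.subset_preimage_image _ _
  let N : Y.Opens := ⟨p.base '' (Set.range j.base), by
    rw [← (isQuotientMap_of_isQuot hp).isOpen_preimage, hsat]
    exact j.isOpenEmbedding.isOpen_range⟩
  have hN : p ⁻¹ᵁ N = j.opensRange := Opens.ext hsat
  let q : X₁ ⟶ N.toScheme := IsOpenImmersion.lift N.ι (j ≫ p) (by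
    rw [Scheme.Opens.range_ι]
    rintro _ ⟨x₁, rfl⟩
    exact ⟨j.base x₁, ⟨x₁, rfl⟩, rfl⟩)
  have hq : q ≫ N.ι = j ≫ p := IsOpenImmersion.lift_fac _ _ _
  have H : IsPullback q j N.ι p := IsOpenImmersion.isPullback q j N.ι p hq.symm (by
    rw [Scheme.Opens.opensRange_ι, hN])
  have hquot : IsQuot ρ₁ q := isQuot_of_isPullback hp H ρ₁ hj
  obtain ⟨e, he⟩ := exists_iso_of_isQuot hp₁ hquot
  haveI := epi_of_isQuot hp₁
  have hφ : φ = e.hom ≫ N.ι := by
    rw [← cancel_epi p₁, sq, ← Category.assoc, he, hq]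
  rw [hφ]
  infer_instance

end C

end Groth.Agent.Lib.Helper20.QuotLocal
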