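import Groth.Agent.Lib.Helper20QuotSheet
import Groth.Agent.Lib.Helper20QuotLocal
import Groth.Agent.Lib.Helper20EtSplitSch
import Groth.Agent.S2909
import Mathlib

set_option autoImplicit false
universe u
open CategoryTheory CategoryTheory.Limits AlgebraicGeometry TopologicalSpace

namespace Groth.Agent.Lib.Helper20.GalQuot

open SGA1 Groth.Agent.Lib.Helper20 Groth.Agent.Lib.Helper20.QuotSheet

section

variable {T Q U : Scheme.{u}} {G : Type u} [Group G] [Finite G]

/-- if every point of `T` lies on an open-immersion section of `T ⟶ U`, the quotient of `T` by a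
finite group acting over `U` is a local isomorphism over `U`, in particular étale. -/
theorem etale_of_sections (ρ : G →* Aut T) (p : T ⟶ Q) (hp : IsQuot ρ p) (q : Q ⟶ U)
    (hsec : ∀ t : T, ∃ σ : U ⟶ T, IsOpenImmersion σ ∧ σ ≫ p ≫ q = 𝟙 U ∧ t ∈ Set.range σ) :
    Etale q := by
  have hloc : ∀ z : Q, ∃ N : Q.Opens, z ∈ N ∧ Etale (N.ι ≫ q) := by
    intro z
    obtain ⟨t, rfl⟩ := surjective_of_isQuot hp z
    obtain ⟨σ, hσ1, hσ2, u, rfl⟩ := hsec t
    obtain ⟨N, hN1, hN2⟩ := exists_open_isIso_of_section ρ p hp q σ hσ2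
    exact ⟨N, hN1 u, inferInstance⟩
  choose O hO1 hO2 using hloc
  have hcov : ⨆ z : Q, O z = ⊤ := by
    rw [eq_top_iff]
    intro z _
    exact Opens.mem_iSup.mpr ⟨z, hO1 z⟩
  exact IsZariskiLocalAtSource.of_iSup_eq_top (P := @Etale) O hcov hO2

end

section

variable {Y X Q : Scheme.{u}} {G : Type u} [Group G] [Finite G]

/-- the structure map of a quotient of an integral morphism is integral -/
theorem isIntegralHom_of_isQuot (ρ : G →* Aut Y) (f : Y ⟶ X) [IsIntegralHom f]
    (hρ : ∀ a, (ρ a).hom ≫ f = f) (p : Y ⟶ Q) (hp : IsQuot ρ p) (q : Q ⟶ X) (hq : p ≫ q = f) :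
    IsIntegralHom q := by
  haveI : IsAffineHom q := (Groth.Agent.S2909.result ρ p hp f q hq hρ).1.mp inferInstance
  refine ⟨fun V hV => ?_⟩
  subst hq
  have h1 : (RingHom.comp (p.app (q ⁻¹ᵁ V)).hom (q.app V).hom).IsIntegral :=
    (p ≫ q).isIntegral_app V hV
  exact RingHom.IsIntegral.tower_bot _ _ (hp.injective _) h1

/-- the quotient of a finite étale cover by a finite group of automorphisms is étale -/
theorem etale_of_isQuot (ρ : G →* Aut Y) (f : Y ⟶ X) [IsFinite f] [Etale f]
    (hρ : ∀ a, (ρ a).hom ≫ f = f) (p : Y ⟶ Q) (hp : IsQuot ρ p) (q : Q ⟶ X) (hq : p ≫ q = f) :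
    Etale q := by
  have hloc : ∀ x : X, ∃ W : X.Opens, x ∈ W ∧ Etale (q ∣_ W) := by
    intro x
    obtain ⟨R', g, hg, u, hgu, n, top, hpb⟩ :=
      Groth.Agent.Lib.Helper20.EtSplit.exists_isPullback_sigma f x
    -- étaleness after base change
    have hbc : Etale (pullback.snd q g) := by
      haveI : Flat g := inferInstance
      have hpU := isQuot_bcQuot ρ f hρ p hp q hq g
      have h1 : bcQuot f p q hq g ≫ pullback.snd q g = pullback.snd f g := pullback.lift_snd _ _ _
      refine etale_of_sections _ _ hpU (pullback.snd q g) (fun t => ?_)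
      obtain ⟨t', rfl⟩ : ∃ t', hpb.isoPullback.hom t' = t :=
        ⟨hpb.isoPullback.inv t, by rw [← Scheme.Hom.comp_apply, Iso.inv_hom_id]; rfl⟩
      obtain ⟨i, y, rfl⟩ := (sigmaOpenCover fun _ : Fin n => Spec R').exists_eq t'
      refine ⟨Sigma.ι (fun _ : Fin n => Spec R') i ≫ hpb.isoPullback.hom, inferInstance, ?_,
        ⟨y, ?_⟩⟩
      · rw [h1, Category.assoc, hpb.isoPullback_hom_snd, Sigma.ι_desc]
      · rw [Scheme.Hom.comp_apply]
        rfl
    -- descent
    let W : X.Opens := ⟨Set.range g, g.isOpenMap.isOpen_range⟩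
    have hxW : x ∈ W := ⟨u, hgu⟩
    let gW : Spec R' ⟶ W.toScheme := IsOpenImmersion.lift W.ι g (by
      rw [Scheme.Opens.range_ι]; exact subset_rfl)
    have hgW : gW ≫ W.ι = g := IsOpenImmersion.lift_fac _ _ _
    let snd' : pullback q g ⟶ (q ⁻¹ᵁ W).toScheme :=
      IsOpenImmersion.lift (q ⁻¹ᵁ W).ι (pullback.fst q g) (by
        rw [Scheme.Opens.range_ι]
        rintro _ ⟨a, rfl⟩
        change q (pullback.fst q g a) ∈ W
        rw [← Scheme.Hom.comp_apply, pullback.condition, Scheme.Hom.comp_apply]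
        exact Set.mem_range_self _)
    have hsnd' : snd' ≫ (q ⁻¹ᵁ W).ι = pullback.fst q g := IsOpenImmersion.lift_fac _ _ _
    have hsq : IsPullback (pullback.snd q g) snd' gW (q ∣_ W) := by
      refine IsPullback.flip (IsPullback.of_right ?_ ?_ (isPullback_morphismRestrict q W).flip)
      · rw [hsnd', hgW]
        exact IsPullback.of_hasPullback q g
      · rw [← cancel_mono W.ι, Category.assoc, Category.assoc, hgW,
          morphismRestrict_ι, ← Category.assoc, hsnd', pullback.condition]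
    have hQ : (@Surjective ⊓ @Flat ⊓ @LocallyOfFinitePresentation : MorphismProperty Scheme.{u})
        gW := by
      refine ⟨⟨⟨fun w => ?_⟩, ?_⟩, ?_⟩
      · obtain ⟨v, hv⟩ : w.1 ∈ Set.range g := w.2
        refine ⟨v, ?_⟩
        apply W.ι.isOpenEmbedding.injective
        rw [← Scheme.Hom.comp_apply, hgW]
        exact hv
      · haveI : Flat (gW ≫ W.ι) := by rw [hgW]; infer_instance
        exact MorphismProperty.of_postcomp (W := @Flat) (W' := @IsOpenImmersion) gW W.ι
          inferInstance inferInstance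
      · haveI : LocallyOfFinitePresentation (gW ≫ W.ι) := by rw [hgW]; infer_instance
        exact MorphismProperty.of_postcomp (W := @LocallyOfFinitePresentation)
          (W' := @IsOpenImmersion) gW W.ι inferInstance inferInstance
    exact ⟨W, hxW, MorphismProperty.of_isPullback_of_descendsAlong (P := @Etale)
      (Q := @Surjective ⊓ @Flat ⊓ @LocallyOfFinitePresentation) hsq hQ hbc⟩
  choose W hW1 hW2 using hloc
  have hcov : ⨆ x : X, W x = ⊤ := by
    rw [eq_top_iff]
    intro x _
    exact Opens.mem_iSup.mpr ⟨x, hW1 x⟩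
  exact (IsZariskiLocalAtTarget.iff_of_iSup_eq_top (P := @Etale) W hcov).mpr hW2

/-- the quotient of a finite étale cover by a finite group of automorphisms is finite étale -/
theorem finite_etale_of_isQuot (ρ : G →* Aut Y) (f : Y ⟶ X) [IsFinite f] [Etale f]
    (hρ : ∀ a, (ρ a).hom ≫ f = f) (p : Y ⟶ Q) (hp : IsQuot ρ p) (q : Q ⟶ X) (hq : p ≫ q = f) :
    IsFinite q ∧ Etale q := by
  have het := etale_of_isQuot ρ f hρ p hp q hq
  have hint := isIntegralHom_of_isQuot ρ f hρ p hp q hq
  exact ⟨(IsFinite.iff_isIntegralHom_and_locallyOfFiniteType q).mpr ⟨hint, inferInstance⟩, het⟩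

end

end Groth.Agent.Lib.Helper20.GalQuot
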