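import Groth.Agent.Lib.Helper20GalFiber
import Groth.Agent.Lib.Helper20GalField
import Mathlib

set_option autoImplicit false
universe u
open CategoryTheory CategoryTheory.Limits AlgebraicGeometry TopologicalSpace Opposite

namespace Groth.Agent.Lib.Helper20.GalSpecField

open Groth.Agent.Lib.Helper20 Groth.Agent.Lib.Helper20.GalCat Groth.Agent.Lib.Helper20.GalPoint
  Groth.Agent.Lib.Helper20.GalFiber

variable (K : Type u) [Field K]

/-- the standard geometric point of `Spec K` -/
noncomputable abbrev xi : Spec (CommRingCat.of (AlgebraicClosure K)) ⟶ Spec (CommRingCat.of K) :=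
  Spec.map (CommRingCat.ofHom (algebraMap K (AlgebraicClosure K)))

instance : ConnectedSpace (Spec (CommRingCat.of K)) :=
  inferInstanceAs (ConnectedSpace (PrimeSpectrum K))

variable {K}

/-- an automorphism of the algebraic closure, on spectra -/
noncomputable def specAut (σ : AlgebraicClosure K ≃ₐ[K] AlgebraicClosure K) :
    Spec (CommRingCat.of (AlgebraicClosure K)) ⟶ Spec (CommRingCat.of (AlgebraicClosure K)) :=
  Spec.map (CommRingCat.ofHom (σ : AlgebraicClosure K →+* AlgebraicClosure K))

theorem specAut_comp_xi (σ : AlgebraicClosure K ≃ₐ[K] AlgebraicClosure K) :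
    specAut σ ≫ xi K = xi K := by
  rw [specAut, xi, ← Spec.map_comp]
  congr 1
  ext x
  exact σ.commutes x

theorem specAut_one : specAut (1 : AlgebraicClosure K ≃ₐ[K] AlgebraicClosure K) = 𝟙 _ := by
  rw [specAut, ← Spec.map_id]
  rfl

theorem specAut_mul (σ τ : AlgebraicClosure K ≃ₐ[K] AlgebraicClosure K) :
    specAut (σ * τ) = specAut σ ≫ specAut τ := by
  rw [specAut, specAut, specAut, ← Spec.map_comp]
  rfl

noncomputable instance mulActionFiberObj (Y : FEt.Cat (Spec (CommRingCat.of K))) :
    MulAction (AlgebraicClosure K ≃ₐ[K] AlgebraicClosure K) (FEt.fiberObj (xi K) Y) where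
  smul σ s := ⟨specAut σ ≫ s.1, by rw [Category.assoc, s.2, specAut_comp_xi]⟩
  one_smul s := Subtype.ext (by
    change specAut 1 ≫ s.1 = s.1
    rw [specAut_one, Category.id_comp])
  mul_smul σ τ s := Subtype.ext (by
    change specAut (σ * τ) ≫ s.1 = specAut σ ≫ specAut τ ≫ s.1
    rw [specAut_mul, Category.assoc])

theorem smul_val (Y : FEt.Cat (Spec (CommRingCat.of K)))
    (σ : AlgebraicClosure K ≃ₐ[K] AlgebraicClosure K) (s : FEt.fiberObj (xi K) Y) :
    (σ • s).1 = specAut σ ≫ s.1 := rfl

noncomputable instance mulActionFib (Y : FEt.Cat (Spec (CommRingCat.of K))) :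
    MulAction (AlgebraicClosure K ≃ₐ[K] AlgebraicClosure K) ((fib (xi K)).obj Y) :=
  mulActionFiberObj Y

instance : PreGaloisCategory.IsNaturalSMul (fib (xi K))
    (AlgebraicClosure K ≃ₐ[K] AlgebraicClosure K) where
  naturality σ Y Z f s := by
    apply Subtype.ext
    change (specAut σ ≫ s.1) ≫ f.left = specAut σ ≫ s.1 ≫ f.left
    rw [Category.assoc]

section alg

variable (Y : FEt.Cat (Spec (CommRingCat.of K)))

/-- the structure morphism, with its codomain in syntactic form -/
abbrev strHom : Y.left ⟶ Spec (CommRingCat.of K) := Y.hom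

noncomputable def iotaB : K →+* Γ(Y.left, ⊤) :=
  ((Scheme.ΓSpecIso (CommRingCat.of K)).inv ≫ (strHom Y).appTop).hom

/-- the `K`-algebra structure on global sections -/
@[reducible] noncomputable def algB : Algebra K Γ(Y.left, ⊤) := (iotaB Y).toAlgebra

theorem finiteB : letI := algB Y; Module.Finite K Γ(Y.left, ⊤) := by
  letI := algB Y
  have h1 : (strHom Y).appTop.hom.Finite := (strHom Y).finite_appTop
  have h2 : (iotaB Y).Finite := by
    have h3 : iotaB Y = (strHom Y).appTop.hom.comp
        (Scheme.ΓSpecIso (CommRingCat.of K)).inv.hom := rfl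
    rw [h3]
    refine RingHom.Finite.comp h1 (RingHom.Finite.of_surjective _ ?_)
    exact (ConcreteCategory.bijective_of_isIso (Scheme.ΓSpecIso (CommRingCat.of K)).inv).2
  exact RingHom.finite_algebraMap.mp h2

instance isAffine_left : IsAffine Y.left := isAffine_of_isAffineHom (strHom Y)

theorem comp_eq (s : FEt.fiberObj (xi K) Y) :
    (Scheme.ΓSpecIso (CommRingCat.of K)).inv ≫ (strHom Y).appTop ≫ s.1.appTop ≫
      (Scheme.ΓSpecIso (CommRingCat.of (AlgebraicClosure K))).hom =
      CommRingCat.ofHom (algebraMap K (AlgebraicClosure K)) := by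
  have h1 : (strHom Y).appTop ≫ s.1.appTop = (xi K).appTop := by
    rw [← Scheme.Hom.comp_appTop]
    exact congrArg (fun f => f.appTop) s.2
  rw [← Category.assoc (strHom Y).appTop, h1, xi, Scheme.ΓSpecIso_naturality,
    Iso.inv_hom_id_assoc]

/-- the `K`-algebra homomorphism attached to a geometric point -/
noncomputable def phi (s : FEt.fiberObj (xi K) Y) :
    letI := algB Y; Γ(Y.left, ⊤) →ₐ[K] AlgebraicClosure K :=
  letI := algB Y
  { toRingHom := (s.1.appTop ≫ (Scheme.ΓSpecIso (CommRingCat.of (AlgebraicClosure K))).hom).hom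
    commutes' := fun r => by
      have := congrArg (fun f => f.hom r) (comp_eq Y s)
      exact this }

theorem phi_apply (s : FEt.fiberObj (xi K) Y) (b : Γ(Y.left, ⊤)) :
    letI := algB Y
    phi Y s b = (Scheme.ΓSpecIso (CommRingCat.of (AlgebraicClosure K))).hom (s.1.appTop b) := rfl

theorem phi_injective (s s' : FEt.fiberObj (xi K) Y)
    (h : ∀ b, phi Y s b = phi Y s' b) : s = s' := by
  apply Subtype.ext
  apply ext_of_isAffine
  have h7 : s.1.appTop ≫ (Scheme.ΓSpecIso (CommRingCat.of (AlgebraicClosure K))).hom =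
      s'.1.appTop ≫ (Scheme.ΓSpecIso (CommRingCat.of (AlgebraicClosure K))).hom := by
    ext b
    exact h b
  exact (cancel_mono _).mp h7

theorem phi_smul (σ : AlgebraicClosure K ≃ₐ[K] AlgebraicClosure K) (s : FEt.fiberObj (xi K) Y)
    (b : Γ(Y.left, ⊤)) : phi Y (σ • s) b = σ (phi Y s b) := by
  rw [phi_apply, phi_apply, smul_val, Scheme.Hom.comp_appTop]
  have h1 := Scheme.ΓSpecIso_naturality
    (CommRingCat.ofHom (σ : AlgebraicClosure K →+* AlgebraicClosure K))
  have h2 := congrArg (fun f => f.hom (s.1.appTop b)) h1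
  exact h2

theorem stabilizer_isOpen (s : FEt.fiberObj (xi K) Y) :
    IsOpen (MulAction.stabilizer (AlgebraicClosure K ≃ₐ[K] AlgebraicClosure K) s :
      Set (AlgebraicClosure K ≃ₐ[K] AlgebraicClosure K)) := by
  letI := algB Y
  haveI := finiteB Y
  obtain ⟨t, ht⟩ := (Module.Finite.fg_top : (⊤ : Submodule K Γ(Y.left, ⊤)).FG)
  apply Subgroup.isOpen_of_mem_nhds (g := 1)
  have hopen : IsOpen (⋂ b ∈ t, (MulAction.stabilizer (AlgebraicClosure K ≃ₐ[K] AlgebraicClosure K)
      (phi Y s b) : Set (AlgebraicClosure K ≃ₐ[K] AlgebraicClosure K))) :=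
    isOpen_biInter_finset (fun b _ => stabilizer_isOpen_of_isIntegral _)
  refine Filter.mem_of_superset (hopen.mem_nhds ?_) ?_
  · simp only [Set.mem_iInter, SetLike.mem_coe]
    intro b _
    exact one_mem _
  · intro σ hσ
    simp only [Set.mem_iInter, SetLike.mem_coe, MulAction.mem_stabilizer_iff] at hσ
    rw [SetLike.mem_coe, MulAction.mem_stabilizer_iff]
    apply phi_injective
    intro b
    rw [phi_smul]
    have h1 : (σ.toAlgHom.comp (phi Y s)).toLinearMap = (phi Y s).toLinearMap :=
      LinearMap.ext_on ht (fun b hb => hσ b hb)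
    exact congrArg (fun f => f b) h1

theorem mono_of_mono_left {X : Scheme.{u}} {Y Z : FEt.Cat X} (i : Y ⟶ Z) [Mono i.left] : Mono i := by
  have h1 : Mono ((MorphismProperty.Over.forget FEt.prop ⊤ X ⋙ Over.forget X).map i) :=
    inferInstanceAs (Mono i.left)
  exact Functor.mono_of_mono_map (MorphismProperty.Over.forget FEt.prop ⊤ X ⋙ Over.forget X) h1

instance discreteTopology_left : DiscreteTopology Y.left := by
  letI := algB Y
  haveI := finiteB Y
  haveI : IsArtinianRing Γ(Y.left, ⊤) := IsArtinianRing.of_finite K Γ(Y.left, ⊤)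
  haveI : DiscreteTopology (Spec Γ(Y.left, ⊤)) :=
    inferInstanceAs (DiscreteTopology (PrimeSpectrum Γ(Y.left, ⊤)))
  exact (Y.left.isoSpec.hom.homeomorph).symm.discreteTopology

theorem subsingleton_of_isConnected [PreGaloisCategory.IsConnected Y] : Subsingleton Y.left := by
  refine ⟨fun y y' => ?_⟩
  let V : Y.left.Opens := ⟨{y}, isOpen_discrete _⟩
  have hV : IsClosed (V : Set Y.left) := isClosed_discrete _
  haveI : Mono (clopenι Y V hV) := mono_of_mono_left _
  have hni : IsInitial (clopenObj Y V hV) → False := by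
    intro hi
    have := isEmpty_of_isInitial _ hi
    exact this.false (⟨y, rfl⟩ : V)
  haveI : IsIso (clopenι Y V hV) :=
    PreGaloisCategory.IsConnected.noTrivialComponent _ (clopenι Y V hV) hni
  haveI : IsIso (clopenι Y V hV).left :=
    inferInstanceAs (IsIso ((MorphismProperty.Over.forget FEt.prop ⊤ _ ⋙ Over.forget _).map
      (clopenι Y V hV)))
  have hsurj : Function.Surjective (clopenι Y V hV).left :=
    (ConcreteCategory.bijective_of_isIso (clopenι Y V hV).left.base).2
  obtain ⟨⟨z, hz⟩, hz'⟩ := hsurj y'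
  have h1 : z = y' := hz'
  have h2 : z = y := hz
  rw [← h1, h2]

theorem ker_phi_eq [Subsingleton Y.left] (s s' : FEt.fiberObj (xi K) Y) :
    letI := algB Y
    RingHom.ker (phi Y s) = RingHom.ker (phi Y s') := by
  letI := algB Y
  let p₁ : Spec Γ(Y.left, ⊤) := ⟨RingHom.ker (phi Y s), RingHom.ker_isPrime _⟩
  let p₂ : Spec Γ(Y.left, ⊤) := ⟨RingHom.ker (phi Y s'), RingHom.ker_isPrime _⟩
  have h1 : Y.left.isoSpec.inv p₁ = Y.left.isoSpec.inv p₂ := Subsingleton.elim _ _
  have h2 : p₁ = p₂ := by
    have := congrArg (fun y => Y.left.isoSpec.hom y) h1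
    simpa [← Scheme.Hom.comp_apply] using this
  exact congrArg PrimeSpectrum.asIdeal h2

theorem isPretransitive_of_isConnected [PreGaloisCategory.IsConnected Y] :
    MulAction.IsPretransitive (AlgebraicClosure K ≃ₐ[K] AlgebraicClosure K)
      (FEt.fiberObj (xi K) Y) := by
  letI := algB Y
  haveI := finiteB Y
  haveI := subsingleton_of_isConnected Y
  refine ⟨fun s s' => ?_⟩
  obtain ⟨σ, hσ⟩ := GalField.exists_algEquiv_comp_eq K (phi Y s) (phi Y s') (ker_phi_eq Y s s')
  refine ⟨σ, ?_⟩
  apply phi_injective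
  intro b
  rw [phi_smul]
  exact hσ b

end alg

theorem eq_one_of_smul_eq (σ : AlgebraicClosure K ≃ₐ[K] AlgebraicClosure K)
    (h : ∀ (Y : FEt.Cat (Spec (CommRingCat.of K))) (s : FEt.fiberObj (xi K) Y), σ • s = s) :
    σ = 1 := by
  ext x
  refine GalField.apply_eq_of_fix_separable K (AlgebraicClosure K) σ ⊤ (fun s _ => ?_) x trivial
  have hx : IsSeparable K (s : AlgebraicClosure K) := mem_separableClosure_iff.mp s.2
  let E := IntermediateField.adjoin K {(s : AlgebraicClosure K)}
  haveI : FiniteDimensional K E := IntermediateField.adjoin.finiteDimensional hx.isIntegral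
  haveI : Algebra.IsSeparable K E :=
    (IntermediateField.isSeparable_adjoin_simple_iff_isSeparable K (AlgebraicClosure K)).mpr hx
  let f : CommRingCat.of K ⟶ CommRingCat.of E := CommRingCat.ofHom (algebraMap K E)
  have hfin : IsFinite (Spec.map f) :=
    (IsFinite.SpecMap_iff f).mpr (RingHom.finite_algebraMap.mpr inferInstance)
  haveI : Algebra.FormallyEtale K E := Algebra.FormallyEtale.of_isSeparable K E
  haveI : Algebra.FinitePresentation K E := Algebra.FinitePresentation.of_finiteType.mp inferInstance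
  have het : Etale (Spec.map f) :=
    (HasRingHomProperty.Spec_iff (P := @Etale)).mpr (RingHom.etale_algebraMap.mpr ⟨inferInstance, inferInstance⟩)
  let Y : FEt.Cat (Spec (CommRingCat.of K)) := MorphismProperty.Over.mk ⊤ (Spec.map f) ⟨hfin, het⟩
  let s₀ : FEt.fiberObj (xi K) Y :=
    ⟨Spec.map (CommRingCat.ofHom (algebraMap E (AlgebraicClosure K))), by
      change Spec.map _ ≫ Spec.map f = _
      rw [← Spec.map_comp]
      rfl⟩
  have h1 := congrArg Subtype.val (h Y s₀)
  rw [smul_val, specAut] at h1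
  change Spec.map _ ≫ Spec.map _ = Spec.map _ at h1
  rw [← Spec.map_comp] at h1
  have h2 := Spec.map_injective h1
  have h3 := congrArg (fun g => g.hom ⟨(s : AlgebraicClosure K),
    IntermediateField.mem_adjoin_simple_self K _⟩) h2
  exact h3

variable (K)

instance galoisCategory : GaloisCategory (FEt.Cat (Spec (CommRingCat.of K))) :=
  { toPreGaloisCategory := GalCat.preGalois _
    hasFiberFunctor := ⟨fib (xi K), ⟨fiberFunctor (xi K)⟩⟩ }

open scoped FintypeCatDiscrete in
instance isFundamentalGroup : PreGaloisCategory.IsFundamentalGroup (fib (xi K))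
    (AlgebraicClosure K ≃ₐ[K] AlgebraicClosure K) where
  transitive_of_isGalois Y _ := isPretransitive_of_isConnected Y
  continuous_smul Y := by
    rw [continuousSMul_iff_stabilizer_isOpen]
    intro s
    exact stabilizer_isOpen Y s
  non_trivial' σ h := eq_one_of_smul_eq σ h

end Groth.Agent.Lib.Helper20.GalSpecField
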