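import Mathlib
import Groth.Prelude.Def_MoreMor
import Groth.Agent.Lib.Helper6SepCl

/-!
# Geometric fibres and base change (helper2)

The geometric fibre of a base change is the base change of the geometric fibre along an extension of
separably closed fields; hence the numbers of irreducible / connected components agree.
-/

set_option autoImplicit false
universe u
open CategoryTheory Limits AlgebraicGeometry

namespace Groth.Agent.Lib.Helper2.GeomFibBC

section field
variable {G' G : Scheme.{u}} (k K : Type u) [Field k] [Field K] [Algebra k K] [IsSepClosed k]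
  (p : G' ⟶ G) (a : G' ⟶ Spec (.of K)) (b : G ⟶ Spec (.of k))
  (h : IsPullback p a b (Spec.map (CommRingCat.ofHom (algebraMap k K))))
include h

theorem geometricallyIrreducible_of_isPullback : GeometricallyIrreducible p := by
  haveI := Groth.Agent.Lib.Helper6.SepCl.geometricallyIrreducible_specMap_of_isSepClosed k K
  exact MorphismProperty.of_isPullback h.flip inferInstance

omit [IsSepClosed k] in
theorem universallyOpen_of_isPullback : UniversallyOpen p := by
  haveI : UniversallyOpen (Spec.map (CommRingCat.ofHom (algebraMap k K))) := inferInstance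
  exact MorphismProperty.of_isPullback h.flip inferInstance

theorem encard_irreducibleComponents_eq_of_isPullback :
    (irreducibleComponents G').encard = (irreducibleComponents G).encard := by
  haveI := geometricallyIrreducible_of_isPullback k K p a b h
  haveI := universallyOpen_of_isPullback k K p a b h
  exact Set.encard_congr (p.irreducibleComponentsEquiv p.isOpenMap)

theorem card_connectedComponents_eq_of_isPullback :
    ENat.card (_root_.ConnectedComponents G') = ENat.card (_root_.ConnectedComponents G) := by
  haveI := geometricallyIrreducible_of_isPullback k K p a b h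
  haveI := universallyOpen_of_isPullback k K p a b h
  haveI := Groth.Agent.Lib.Helper6.SepCl.geometricallyConnected_of_geometricallyIrreducible p
  exact ENat.card_congr (p.connectedComponentsHomeomorph p.isOpenMap).toEquiv

end field

section cat
variable {C : Type*} [Category C]

theorem exists_isPullback_of_paste {G' A' T' S' G A T S : C} {u' : G' ⟶ A'} {v' : G' ⟶ T'}
    {a' : A' ⟶ S'} {s' : T' ⟶ S'} {m : A' ⟶ A} {a : A ⟶ S} {φ : S' ⟶ S} {u : G ⟶ A} {v : G ⟶ T}
    {s : T ⟶ S} (h2 : IsPullback u' v' a' s') (h1 : IsPullback m a' a φ) (hG : IsPullback u v a s)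
    (σ : T' ⟶ T) (hσ : s' ≫ φ = σ ≫ s) : ∃ p : G' ⟶ G, IsPullback p v' v σ := by
  have h3 := h2.paste_horiz h1
  rw [hσ] at h3
  have hw : (u' ≫ m) ≫ a = (v' ≫ σ) ≫ s := h3.w.trans (Category.assoc _ _ _).symm
  refine ⟨hG.lift (u' ≫ m) (v' ≫ σ) hw, ?_⟩
  refine IsPullback.of_right ?_ (hG.lift_snd _ _ _) hG
  rw [hG.lift_fst]
  exact h3

end cat

section main
variable {X Y X' Y' : Scheme.{u}} (f : X ⟶ Y) (f' : X' ⟶ Y') (g' : X' ⟶ X) (g : Y' ⟶ Y)
  (hc : IsPullback g' f' f g) (y' : Y')
include hc

theorem exists_isPullback_geomFiber :
    ∃ (_ : Algebra (SeparableClosure (Y.residueField (g y')))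
        (SeparableClosure (Y'.residueField y')))
      (p : MoreMor.geomFiber f' y' ⟶ MoreMor.geomFiber f (g y'))
      (a : MoreMor.geomFiber f' y' ⟶ Spec (.of (SeparableClosure (Y'.residueField y'))))
      (b : MoreMor.geomFiber f (g y') ⟶ Spec (.of (SeparableClosure (Y.residueField (g y'))))),
      IsPullback p a b
        (Spec.map (CommRingCat.ofHom (algebraMap (SeparableClosure (Y.residueField (g y')))
          (SeparableClosure (Y'.residueField y'))))) := by
  let φ : Y.residueField (g y') →+* Y'.residueField y' := (g.residueFieldMap y').hom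
  letI : Algebra (Y.residueField (g y')) (Y'.residueField y') := φ.toAlgebra
  letI : Algebra (Y.residueField (g y')) (SeparableClosure (Y'.residueField y')) :=
    ((algebraMap (Y'.residueField y') (SeparableClosure (Y'.residueField y'))).comp φ).toAlgebra
  let σ : SeparableClosure (Y.residueField (g y')) →ₐ[Y.residueField (g y')]
      SeparableClosure (Y'.residueField y') := IsSepClosed.lift
  letI : Algebra (SeparableClosure (Y.residueField (g y')))
      (SeparableClosure (Y'.residueField y')) := σ.toRingHom.toAlgebra
  refine ⟨inferInstance, ?_⟩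
  have h1 := isPullback_fiberToSpecResidueField_of_isPullback hc y'
  have h2 := IsPullback.of_hasPullback (f'.fiberToSpecResidueField y')
    (Spec.map (CommRingCat.ofHom
      (algebraMap (Y'.residueField y') (SeparableClosure (Y'.residueField y')))))
  have hG := IsPullback.of_hasPullback (f.fiberToSpecResidueField (g y'))
    (Spec.map (CommRingCat.ofHom
      (algebraMap (Y.residueField (g y')) (SeparableClosure (Y.residueField (g y'))))))
  have hkey : Spec.map (CommRingCat.ofHom
      (algebraMap (Y'.residueField y') (SeparableClosure (Y'.residueField y')))) ≫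
        Spec.map (g.residueFieldMap y') =
      Spec.map (CommRingCat.ofHom (algebraMap (SeparableClosure (Y.residueField (g y')))
          (SeparableClosure (Y'.residueField y')))) ≫
      Spec.map (CommRingCat.ofHom
        (algebraMap (Y.residueField (g y')) (SeparableClosure (Y.residueField (g y'))))) := by
    rw [← Spec.map_comp, ← Spec.map_comp]
    congr 1
    apply CommRingCat.hom_ext
    apply RingHom.ext
    intro x
    simp only [CommRingCat.hom_comp, CommRingCat.hom_ofHom, RingHom.comp_apply]
    exact (σ.commutes x).symm
  obtain ⟨p, hp⟩ := exists_isPullback_of_paste h2 h1 hG _ hkey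
  exact ⟨p, _, _, hp⟩

theorem nGeomIrredComp_eq :
    MoreMor.nGeomIrredComp f' y' = MoreMor.nGeomIrredComp f (g y') := by
  obtain ⟨_, p, a, b, h⟩ := exists_isPullback_geomFiber f f' g' g hc y'
  exact encard_irreducibleComponents_eq_of_isPullback _ _ p a b h

theorem nGeomConnComp_eq :
    MoreMor.nGeomConnComp f' y' = MoreMor.nGeomConnComp f (g y') := by
  obtain ⟨_, p, a, b, h⟩ := exists_isPullback_geomFiber f f' g' g hc y'
  exact card_connectedComponents_eq_of_isPullback _ _ p a b h

end main

end Groth.Agent.Lib.Helper2.GeomFibBC
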