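import Mathlib
import Groth.Prelude.Def_MoreMor
import Groth.Agent.Lib.Helper2GeomPts
import Groth.Agent.Lib.Helper2GeomFibBC
import Groth.Agent.Lib.Helper20EtSplitSch

set_option autoImplicit false
set_option linter.style.haveILetI false
universe u
open CategoryTheory Limits AlgebraicGeometry

namespace Groth.Agent.Lib.Helper20.GeomCard

theorem lqf_of_etale {X S : Scheme.{u}} (f : X ⟶ S) [Etale f] : LocallyQuasiFinite f := by
  constructor
  intro U hU V hV e
  have h1 := f.etale_appLE hU hV e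
  algebraize [(f.appLE U V e).hom]
  have : Algebra.Etale Γ(S, U) Γ(X, V) := h1
  exact RingHom.quasiFinite_algebraMap.mpr inferInstance

/-- the geometric fibre of a locally quasi-finite morphism is discrete. -/
theorem discreteTopology_geomFiber {X Y : Scheme.{u}} (f : X ⟶ Y) [LocallyQuasiFinite f]
    (y : Y) : DiscreteTopology ↥(MoreMor.geomFiber f y) := by
  have hq1 : LocallyQuasiFinite (f.fiberToSpecResidueField y) := by
    unfold Scheme.Hom.fiberToSpecResidueField
    exact MorphismProperty.pullback_snd (P := @LocallyQuasiFinite) f _ inferInstance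
  let Ωs := SeparableClosure (Y.residueField y)
  let p : MoreMor.geomFiber f y ⟶ Spec (CommRingCat.of Ωs) := pullback.snd _ _
  have hq2 : LocallyQuasiFinite p :=
    MorphismProperty.pullback_snd (P := @LocallyQuasiFinite) _ _ hq1
  have hsub : Subsingleton ↥(Spec (CommRingCat.of Ωs)) :=
    inferInstanceAs (Subsingleton (PrimeSpectrum Ωs))
  have hne : Nonempty ↥(Spec (CommRingCat.of Ωs)) :=
    inferInstanceAs (Nonempty (PrimeSpectrum Ωs))
  obtain ⟨pt⟩ := hne
  have hdisc := p.isDiscrete_preimage_singleton pt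
  have hu : p ⁻¹' {pt} = Set.univ := by
    ext z
    simp only [Set.mem_preimage, Set.mem_singleton_iff, Set.mem_univ, iff_true]
    exact Subsingleton.elim _ _
  rw [hu, isDiscrete_univ_iff] at hdisc
  exact hdisc

theorem card_geomFiber_eq_nGeomConnComp {X Y : Scheme.{u}} (f : X ⟶ Y) [LocallyQuasiFinite f]
    (y : Y) : ENat.card ↥(MoreMor.geomFiber f y) = MoreMor.nGeomConnComp f y := by
  haveI := discreteTopology_geomFiber f y
  unfold MoreMor.nGeomConnComp
  exact (Groth.Agent.Lib.Helper2.Weight.card_cc_of_discrete' _).symm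

theorem card_geomFiber_baseChange {X Y X' Y' : Scheme.{u}} (f : X ⟶ Y) [LocallyQuasiFinite f]
    (f' : X' ⟶ Y') (g' : X' ⟶ X) (g : Y' ⟶ Y) (hc : IsPullback g' f' f g) (y' : Y') :
    ENat.card ↥(MoreMor.geomFiber f' y') = ENat.card ↥(MoreMor.geomFiber f (g y')) := by
  haveI : LocallyQuasiFinite f' :=
    MorphismProperty.of_isPullback (P := @LocallyQuasiFinite) hc inferInstance
  rw [card_geomFiber_eq_nGeomConnComp, card_geomFiber_eq_nGeomConnComp]
  exact Groth.Agent.Lib.Helper2.GeomFibBC.nGeomConnComp_eq f f' g' g hc y'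

open Groth.Agent.Lib.Helper2.Weight

theorem sd_id {V : Scheme.{u}} (v : V) : sd (𝟙 V) v = 1 := by
  apply sd_eq_one_of_pInsep
  intro y
  refine ⟨0, ?_⟩
  have hbij : Function.Bijective ((𝟙 V : V ⟶ V).residueFieldMap v) :=
    ConcreteCategory.bijective_of_isIso _
  obtain ⟨a, ha⟩ := hbij.2 y
  refine ⟨a, ?_⟩
  rw [pow_zero, pow_one]
  exact ha

theorem ng_sigma_desc (V : Scheme.{u}) (n : ℕ) (v : V) :
    ng (Sigma.desc (fun _ : Fin n => 𝟙 V)) v = n := by
  classical
  set p : (∐ fun _ : Fin n => V) ⟶ V := Sigma.desc (fun _ : Fin n => 𝟙 V) with hp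
  have hι : ∀ i : Fin n, Sigma.ι (fun _ : Fin n => V) i ≫ p = 𝟙 V := fun i => Sigma.ι_desc _ _
  let e : Fin n → {x : ↥(∐ fun _ : Fin n => V) // p x = v} := fun i =>
    ⟨Sigma.ι (fun _ : Fin n => V) i v, by
      rw [← Scheme.Hom.comp_apply, hι i]; rfl⟩
  have hinj : Function.Injective e := by
    intro i j hij
    have h := congrArg Subtype.val hij
    have h2 := (sigmaι_eq_iff (fun _ : Fin n => V) i j v v).mp h
    exact (Sigma.mk.inj_iff.mp h2).1
  have hsurj : Function.Surjective e := by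
    rintro ⟨x, hx⟩
    obtain ⟨i, y, rfl⟩ := (sigmaOpenCover (fun _ : Fin n => V)).exists_eq x
    refine ⟨i, Subtype.ext ?_⟩
    change Sigma.ι (fun _ : Fin n => V) i v = Sigma.ι (fun _ : Fin n => V) i y
    have hx' : (Sigma.ι (fun _ : Fin n => V) i ≫ p) y = v := hx
    rw [hι i] at hx'
    have : y = v := hx'
    rw [this]
  let E : Fin n ≃ {x : ↥(∐ fun _ : Fin n => V) // p x = v} := Equiv.ofBijective e ⟨hinj, hsurj⟩
  unfold ng
  rw [← finsum_comp_equiv E, finsum_eq_sum_of_fintype]
  have : ∀ i : Fin n, sd p (E i).1 = 1 := by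
    intro i
    change sd p (Sigma.ι (fun _ : Fin n => V) i v) = 1
    rw [← sd_comp_openImmersion, hι i, sd_id]
  simp [this]

theorem exists_nhd_card_eq {X Y : Scheme.{u}} (f : X ⟶ Y) [IsFinite f] [Etale f] (y : Y) :
    ∃ N : Y.Opens, y ∈ N ∧ ∀ y' ∈ N,
      ENat.card ↥(MoreMor.geomFiber f y') = ENat.card ↥(MoreMor.geomFiber f y) := by
  obtain ⟨R', g, hg, u, hgu, n, top, hpb⟩ :=
    Groth.Agent.Lib.Helper20.EtSplit.exists_isPullback_sigma f y
  set p : (∐ fun _ : Fin n => Spec R') ⟶ Spec R' := Sigma.desc (fun _ : Fin n => 𝟙 (Spec R'))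
    with hp
  haveI : LocallyQuasiFinite f := inferInstance
  haveI : LocallyQuasiFinite p :=
    MorphismProperty.of_isPullback (P := @LocallyQuasiFinite) hpb inferInstance
  haveI : LocallyOfFiniteType p :=
    MorphismProperty.of_isPullback (P := @LocallyOfFiniteType) hpb inferInstance
  haveI : IsFinite p := MorphismProperty.of_isPullback (P := @IsFinite) hpb inferInstance
  have key : ∀ v : Spec R', ENat.card ↥(MoreMor.geomFiber f (g v)) = n := by
    intro v
    rw [← card_geomFiber_baseChange f p top g hpb v, card_geomFiber_eq_nGeomConnComp,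
      nGeomConnComp_eq p v (p.finite_preimage_singleton v), hp, ng_sigma_desc]
  refine ⟨⟨Set.range g, g.isOpenMap.isOpen_range⟩, ⟨u, hgu⟩, ?_⟩
  rintro _ ⟨v, rfl⟩
  rw [key v, ← hgu, key u]

end Groth.Agent.Lib.Helper20.GeomCard
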