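import Mathlib.RingTheory.GradedAlgebra.Basic
import Mathlib.Algebra.Algebra.Operations
import Mathlib.RingTheory.Ideal.Span
import Mathlib.RingTheory.Ideal.Operations
import Mathlib.RingTheory.GradedAlgebra.Homogeneous.Ideal
import Mathlib.RingTheory.Adjoin.FG
import Mathlib.RingTheory.Finiteness.Defs
import Mathlib.RingTheory.Finiteness.Basic
import Mathlib.Order.Interval.Finset.Defs
import Mathlib.Data.Int.Interval

/-! Helper lemmas on ℤ-graded rings (helper20). -/

set_option autoImplicit false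
universe u

namespace Groth.Agent.Lib.Helper20

open DirectSum

section

variable {R A : Type u} [CommRing R] [CommRing A] [Algebra R A]
  (𝒜 : ℤ → Submodule R A) [GradedAlgebra 𝒜]

/-- A homogeneous element of the ideal generated by homogeneous `f i` is a combination with
homogeneous coefficients of the complementary degree. -/
theorem exists_homog_coeff {p : ℕ} (f : Fin p → A) (deg : Fin p → ℤ)
    (hf : ∀ i, f i ∈ 𝒜 (deg i)) {k : ℤ} {a : A} (hak : a ∈ 𝒜 k)
    (ha : a ∈ Ideal.span (Set.range f)) :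
    ∃ c : Fin p → A, (∀ i, c i ∈ 𝒜 (k - deg i)) ∧ a = ∑ i, c i * f i := by
  classical
  obtain ⟨c, hc⟩ := (Ideal.mem_span_range_iff_exists_fun).mp ha
  refine ⟨fun i => (decompose 𝒜 (c i) (k - deg i) : A), fun i => SetLike.coe_mem _, ?_⟩
  have h1 : (decompose 𝒜 a k : A) = a := decompose_of_mem_same 𝒜 hak
  rw [← h1, ← hc, decompose_sum, DFinsupp.finset_sum_apply, AddSubmonoidClass.coe_finset_sum]
  refine Finset.sum_congr rfl fun i _ => ?_
  have h2 : k = (k - deg i) + deg i := by ring
  conv_lhs => rw [h2]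
  exact coe_decompose_mul_add_of_right_mem 𝒜 (hf i)

/-- Version of `exists_homog_coeff` for an arbitrary finite index type. -/
theorem exists_homog_coeff' {ι : Type*} [Fintype ι] (f : ι → A) (deg : ι → ℤ)
    (hf : ∀ i, f i ∈ 𝒜 (deg i)) {k : ℤ} {a : A} (hak : a ∈ 𝒜 k)
    (ha : a ∈ Ideal.span (Set.range f)) :
    ∃ c : ι → A, (∀ i, c i ∈ 𝒜 (k - deg i)) ∧ a = ∑ i, c i * f i := by
  classical
  obtain ⟨c, hc⟩ := (Ideal.mem_span_range_iff_exists_fun).mp ha
  refine ⟨fun i => (decompose 𝒜 (c i) (k - deg i) : A), fun i => SetLike.coe_mem _, ?_⟩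
  have h1 : (decompose 𝒜 a k : A) = a := decompose_of_mem_same 𝒜 hak
  rw [← h1, ← hc, decompose_sum, DFinsupp.finset_sum_apply, AddSubmonoidClass.coe_finset_sum]
  refine Finset.sum_congr rfl fun i _ => ?_
  have h2 : k = (k - deg i) + deg i := by ring
  conv_lhs => rw [h2]
  exact coe_decompose_mul_add_of_right_mem 𝒜 (hf i)

/-- The graded piece `𝒜 i` as an `𝒜 0`-submodule of `A`. -/
def piece (i : ℤ) : Submodule (𝒜 0) A where
  carrier := 𝒜 i
  add_mem' := fun ha hb => add_mem ha hb
  zero_mem' := zero_mem _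
  smul_mem' := by
    intro c x hx
    have h : (c : A) * x ∈ 𝒜 (0 + i) := SetLike.mul_mem_graded c.2 hx
    rw [zero_add] at h
    exact h

theorem mem_piece {i : ℤ} {x : A} : x ∈ piece 𝒜 i ↔ x ∈ 𝒜 i := Iff.rfl

/-- If the ideal generated by an `𝒜 0`-submodule `N` of a graded piece is finitely generated,
then so is `N` (over `𝒜 0`). -/
theorem fg_of_span_fg {i : ℤ} (N : Submodule (𝒜 0) A) (hN : ∀ x ∈ N, x ∈ 𝒜 i)
    (hfg : (Ideal.span (N : Set A)).FG) : N.FG := by
  classical
  obtain ⟨t, htN, ht⟩ := (Submodule.fg_span_iff_fg_span_finset_subset (N : Set A)).mp hfg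
  refine ⟨t, le_antisymm (Submodule.span_le.mpr htN) ?_⟩
  intro n hn
  have hn' : n ∈ Ideal.span (Set.range (Subtype.val : {x // x ∈ t} → A)) := by
    rw [Subtype.range_coe]
    have : n ∈ Ideal.span (N : Set A) := Ideal.subset_span hn
    rw [Ideal.span, ht] at this
    exact this
  obtain ⟨c, hc, hnc⟩ := exists_homog_coeff' 𝒜 (Subtype.val : {x // x ∈ t} → A) (fun _ => i)
    (fun y => hN _ (htN y.2)) (hN n hn) hn'
  rw [hnc]
  refine Submodule.sum_mem _ fun y _ => ?_
  have hc0 : c y ∈ 𝒜 0 := by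
    have := hc y
    rwa [sub_self] at this
  have : c y * (y : A) = (⟨c y, hc0⟩ : 𝒜 0) • (y : A) := rfl
  rw [this]
  exact Submodule.smul_mem _ _ (Submodule.subset_span y.2)

section Homog

variable (H : ∀ I : Ideal A, I.IsHomogeneous 𝒜 → I.FG)
include H

/-- If all homogeneous ideals are finitely generated, every graded piece is a finite `𝒜 0`-module. -/
theorem piece_fg (i : ℤ) : (piece 𝒜 i).FG := by
  apply fg_of_span_fg 𝒜 (piece 𝒜 i) (fun x hx => hx)
  apply H
  apply Ideal.homogeneous_span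
  intro x hx
  exact ⟨i, hx⟩

/-- If all homogeneous ideals are finitely generated, the degree-zero subring is Noetherian. -/
theorem isNoetherianRing_zero : IsNoetherianRing (𝒜 0) := by
  rw [isNoetherianRing_iff_ideal_fg]
  intro J
  let N : Submodule (𝒜 0) A := Submodule.map (Algebra.linearMap (𝒜 0) A) J
  have hN : ∀ x ∈ N, x ∈ 𝒜 0 := by
    rintro _ ⟨j, _, rfl⟩
    exact j.2
  have hfg : N.FG :=
    fg_of_span_fg 𝒜 N hN (H _ (Ideal.homogeneous_span 𝒜 _ fun x hx => ⟨0, hN x hx⟩))
  exact Submodule.fg_of_fg_map_injective (Algebra.linearMap (𝒜 0) A)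
    (fun x y h => Subtype.ext h) hfg

/-- If all homogeneous ideals are finitely generated, then the subalgebra generated by the pieces
of degrees `n` with `0 ≤ ε n` (`ε = ±1`) is finitely generated over `𝒜 0`. -/
theorem adjoin_fg_of_sign (ε : ℤ) (hε : ε = 1 ∨ ε = -1) :
    (Algebra.adjoin (𝒜 0) {a : A | ∃ n : ℤ, 0 ≤ ε * n ∧ a ∈ 𝒜 n}).FG := by
  classical
  have hεε : ε * ε = 1 := by rcases hε with rfl | rfl <;> norm_num
  set P : Set A := {a : A | ∃ n : ℤ, 0 < ε * n ∧ a ∈ 𝒜 n} with hP
  have hPfg : (Ideal.span P).FG :=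
    H _ (Ideal.homogeneous_span 𝒜 P fun x ⟨n, _, hx⟩ => ⟨n, hx⟩)
  obtain ⟨t, htP, ht⟩ := (Submodule.fg_span_iff_fg_span_finset_subset P).mp hPfg
  have hdeg : ∀ y : {x // x ∈ t}, ∃ n : ℤ, 0 < ε * n ∧ (y : A) ∈ 𝒜 n := fun y => htP y.2
  choose e he0 he using hdeg
  set D : ℤ := ∑ l, ε * e l with hD
  have hDl : ∀ l, ε * e l ≤ D := fun l =>
    Finset.single_le_sum (f := fun l => ε * e l) (fun j _ => (he0 j).le) (Finset.mem_univ l)
  have hG : ∀ i : ℤ, ∃ G : Finset A, Submodule.span (𝒜 0) (G : Set A) = piece 𝒜 i :=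
    fun i => piece_fg 𝒜 H i
  choose G hG using hG
  let T : Finset A := t ∪ (Finset.Ioo 0 D).biUnion (fun k => G (ε * k))
  refine ⟨T, ?_⟩
  have hGsub : ∀ i, ∀ x ∈ G i, x ∈ 𝒜 i := by
    intro i x hx
    have : x ∈ piece 𝒜 i := by rw [← hG i]; exact Submodule.subset_span hx
    exact this
  apply le_antisymm
  · apply Algebra.adjoin_mono
    intro x hx
    rw [Finset.mem_coe, Finset.mem_union, Finset.mem_biUnion] at hx
    rcases hx with hx | ⟨k, hk, hx⟩
    · obtain ⟨n, hn, hxn⟩ := htP hx
      exact ⟨n, hn.le, hxn⟩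
    · rw [Finset.mem_Ioo] at hk
      refine ⟨ε * k, ?_, hGsub _ x hx⟩
      rw [← mul_assoc, hεε, one_mul]; exact hk.1.le
  · rw [Algebra.adjoin_le_iff]
    have claim : ∀ (m : ℕ) (n : ℤ), ε * n = m → ∀ a ∈ 𝒜 n,
        a ∈ Algebra.adjoin (𝒜 0) (T : Set A) := by
      intro m
      induction m using Nat.strong_induction_on with
      | _ m ih =>
        intro n hn a ha
        have hn' : n = ε * m := by rw [← hn, ← mul_assoc, hεε, one_mul]
        by_cases hm0 : m = 0
        · subst hm0
          have : n = 0 := by simpa using hn'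
          subst this
          exact Subalgebra.algebraMap_mem _ (⟨a, ha⟩ : 𝒜 0)
        by_cases hmD : (m : ℤ) < D
        · have hmem : a ∈ Submodule.span (𝒜 0) (G n : Set A) := by rw [hG n]; exact ha
          have hle : Submodule.span (𝒜 0) (G n : Set A) ≤
              Subalgebra.toSubmodule (Algebra.adjoin (𝒜 0) (T : Set A)) := by
            rw [Submodule.span_le]
            intro x hx
            apply Algebra.subset_adjoin
            rw [Finset.mem_coe, Finset.mem_union, Finset.mem_biUnion]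
            right
            refine ⟨m, Finset.mem_Ioo.mpr ⟨by omega, hmD⟩, ?_⟩
            rw [← hn']; exact hx
          exact hle hmem
        · push Not at hmD
          have hpos : 0 < ε * n := by rw [hn]; omega
          have haP : a ∈ Ideal.span (Set.range (Subtype.val : {x // x ∈ t} → A)) := by
            rw [Subtype.range_coe]
            have : a ∈ Ideal.span P := Ideal.subset_span ⟨n, hpos, ha⟩
            rw [Ideal.span, ht] at this
            exact this
          obtain ⟨c, hc, hac⟩ :=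
            exists_homog_coeff' 𝒜 (Subtype.val : {x // x ∈ t} → A) e he ha haP
          rw [hac]
          refine Subalgebra.sum_mem _ fun l _ => Subalgebra.mul_mem _ ?_ ?_
          · have h1 : ε * (n - e l) = ((m : ℤ) - ε * e l) := by rw [mul_sub, hn]
            have h2 := he0 l
            have h3 := hDl l
            refine ih (m - (ε * e l).toNat) (by omega) (n - e l) ?_ _ (hc l)
            rw [h1]; omega
          · apply Algebra.subset_adjoin
            rw [Finset.mem_coe, Finset.mem_union]; left; exact l.2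
    rintro a ⟨n, hn, ha⟩
    exact claim (ε * n).toNat n (by omega) a ha

end Homog

end

end Groth.Agent.Lib.Helper20
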