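import Mathlib
import Groth.Agent.Lib.Helper20GalSpecField
import Groth.Agent.Lib.Helper20GalPoint
import Groth.Agent.Lib.Helper20FEtFaith

set_option autoImplicit false
universe u
open CategoryTheory CategoryTheory.Limits AlgebraicGeometry

namespace Groth.Agent.Lib.Helper20.HES

open Groth.Agent.Lib.Helper20.GalSpecField Groth.Agent.Lib.Helper20.GalPoint

section agree

/-- The locus where two `S`-morphisms into a separated unramified `S`-scheme agree is clopen
(iff version). -/
theorem exists_isClopen_agree_iff {S A B : Scheme.{u}} (a : A ⟶ S) (b : B ⟶ S)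
    [FormallyUnramified b] [LocallyOfFiniteType b] [IsSeparated b]
    (φ ψ : A ⟶ B) (hφ : φ ≫ b = a) (hψ : ψ ≫ b = a) :
    ∃ C : Set A, IsClopen C ∧
      (∀ {T : Scheme.{u}} (t : T ⟶ A), t ≫ φ = t ≫ ψ ↔ Set.range t ⊆ C) := by
  let X' : Over S := Over.mk b
  let Y' : Over S := Over.mk a
  let φ' : Y' ⟶ X' := Over.homMk φ hφ
  let ψ' : Y' ⟶ X' := Over.homMk ψ hψ
  have hsep : IsSeparated X'.hom := ‹_›
  have hunr : FormallyUnramified X'.hom := ‹_›
  have hlft : LocallyOfFiniteType X'.hom := ‹_›
  have hclosed : IsClosedImmersion (equalizer.ι φ' ψ').left := inferInstance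
  have hopen : IsOpenImmersion (equalizer.ι φ' ψ').left :=
    Groth.Agent.Lib.Helper20.EtHom.isOpenImmersion_equalizer_ι_left φ' ψ'
  refine ⟨Set.range (equalizer.ι φ' ψ').left,
    ⟨(equalizer.ι φ' ψ').left.isClosedEmbedding.isClosed_range,
      (equalizer.ι φ' ψ').left.isOpenEmbedding.isOpen_range⟩, ?_⟩
  intro T t
  constructor
  · intro ht
    let T' : Over S := Over.mk (t ≫ a)
    let t' : T' ⟶ Y' := Over.homMk t rfl
    have hι : t' ≫ φ' = t' ≫ ψ' := by ext1; exact ht
    rintro _ ⟨x, rfl⟩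
    refine ⟨(equalizer.lift t' hι).left x, ?_⟩
    rw [← Scheme.Hom.comp_apply, ← Over.comp_left, equalizer.lift_ι]
    rfl
  · intro hr
    have h1 : IsOpenImmersion.lift (equalizer.ι φ' ψ').left t hr ≫ (equalizer.ι φ' ψ').left = t :=
      IsOpenImmersion.lift_fac _ _ _
    have h2 : (equalizer.ι φ' ψ').left ≫ φ = (equalizer.ι φ' ψ').left ≫ ψ :=
      congr($(equalizer.condition φ' ψ').left)
    rw [← h1, Category.assoc, Category.assoc, h2]

end agree

variable {k : Type u} [Field k] {X : Scheme.{u}} (f : X ⟶ Spec (CommRingCat.of k))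

theorem isPreconnected_fibre [ConnectedSpace ↥(pullback f (xi k))]
    (T : FEt.Cat (Spec (CommRingCat.of k))) (t : T.left) :
    _root_.IsPreconnected ((pullback.fst T.hom f) ⁻¹' {t}) := by
  have hT : IsFinite T.hom ∧ Etale T.hom := T.prop
  haveI := hT.1
  have hss : (strHom T) t = (xi k) default :=
    @Subsingleton.elim (Spec (CommRingCat.of k))
      (inferInstanceAs (Subsingleton (PrimeSpectrum k))) _ _
  obtain ⟨ζ, hζ, hζt⟩ := exists_lift_of_finite T.hom (xi k) t default hss
  have hζr : Set.range ζ = {t} := by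
    ext x
    simp only [Set.mem_range, Set.mem_singleton_iff]
    constructor
    · rintro ⟨w, rfl⟩
      exact hζt w
    · rintro rfl
      exact ⟨default, hζt _⟩
  let π := pullback.fst T.hom f
  have H : IsPullback π (pullback.snd T.hom f) T.hom f := IsPullback.of_hasPullback T.hom f
  have H1 : IsPullback (pullback.fst π ζ ≫ pullback.snd T.hom f) (pullback.snd π ζ) f
      (ζ ≫ T.hom) := (IsPullback.of_hasPullback π ζ).paste_horiz H.flip
  haveI : ConnectedSpace ↥(pullback f (ζ ≫ T.hom)) := by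
    rw [hζ]
    infer_instance
  have hr : π ⁻¹' {t} = Set.range (H1.isoPullback.inv ≫ pullback.fst π ζ) := by
    rw [← hζr, ← Scheme.Pullback.range_fst, Scheme.Hom.comp_base]
    simp [Set.range_comp]
  change _root_.IsPreconnected (π ⁻¹' {t})
  rw [hr]
  exact isPreconnected_range (H1.isoPullback.inv ≫ pullback.fst π ζ).continuous

theorem exists_opens_of_isClopen [ConnectedSpace ↥(pullback f (xi k))]
    (T : FEt.Cat (Spec (CommRingCat.of k))) (C : Set ↥(pullback T.hom f)) (hC : IsClopen C) :
    ∃ W : T.left.Opens, IsClosed (W : Set T.left) ∧ C = (pullback.fst T.hom f) ⁻¹' (W : Set T.left) := by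
  refine ⟨⟨{t | (pullback.fst T.hom f) ⁻¹' {t} ⊆ C}, isOpen_discrete _⟩, isClosed_discrete _, ?_⟩
  ext x
  simp only [TopologicalSpace.Opens.coe_mk, Set.mem_preimage]
  constructor
  · intro hx
    exact (isPreconnected_fibre f T _).subset_isClopen hC ⟨x, rfl, hx⟩
  · intro h
    exact h rfl

end Groth.Agent.Lib.Helper20.HES
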