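import Mathlib
import Groth.Agent.Lib.Helper20HESFibre
import Groth.Agent.Lib.Helper20CoeqRestrict

set_option autoImplicit false
universe u
open CategoryTheory CategoryTheory.Limits AlgebraicGeometry

namespace Groth.Agent.Lib.Helper20.HES

open Groth.Agent.Lib.Helper20.GalSpecField Groth.Agent.Lib.Helper20.GalPoint
  Groth.Agent.Lib.Helper20.GalFiber Groth.Agent.Lib.Helper20.CoeqCat
  Groth.Agent.Lib.Helper20.CoeqRestrict

variable {k : Type u} [Field k] {X : Scheme.{u}} (f : X ⟶ Spec (CommRingCat.of k))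

/-- a quotient of a cover coming from the base field comes from the base field -/
theorem exists_iso_restrict [ConnectedSpace ↥(pullback f (xi k))]
    (T : FEt.Cat (Spec (CommRingCat.of k))) (X' : FEt.Cat X) (a : (FEt.restrict f).obj T ⟶ X')
    (ha : Function.Surjective a.left) :
    ∃ S' : FEt.Cat (Spec (CommRingCat.of k)), Nonempty ((FEt.restrict f).obj S' ≅ X') := by
  have hT : IsFinite T.hom ∧ Etale T.hom := T.prop
  haveI := hT.1
  haveI := hT.2
  have hX' : IsFinite X'.hom ∧ Etale X'.hom := X'.prop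
  haveI := hX'.1
  haveI := hX'.2
  let T₂ : FEt.Cat (Spec (CommRingCat.of k)) :=
    MorphismProperty.Over.mk ⊤ (pullback.fst T.hom T.hom ≫ T.hom) ⟨inferInstance, inferInstance⟩
  let pr₁ : T₂ ⟶ T := MorphismProperty.Over.homMk (pullback.fst T.hom T.hom) rfl trivial
  let pr₂ : T₂ ⟶ T := MorphismProperty.Over.homMk (pullback.snd T.hom T.hom)
    pullback.condition.symm trivial
  let F := FEt.restrict f
  let a₀ : pullback T.hom f ⟶ X'.left := a.left
  let g' : X'.left ⟶ X := X'.hom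
  have ha₀ : a₀ ≫ g' = pullback.snd T.hom f := MorphismProperty.Over.w a
  let u : F.obj T₂ ⟶ X' := F.map pr₁ ≫ a
  let v : F.obj T₂ ⟶ X' := F.map pr₂ ≫ a
  obtain ⟨C, hC, hCiff⟩ := exists_isClopen_agree_iff (F.obj T₂).hom X'.hom u.left v.left
    (MorphismProperty.Over.w u) (MorphismProperty.Over.w v)
  obtain ⟨W, hWcl, hCW⟩ := exists_opens_of_isClopen f T₂ C hC
  let R₀ := clopenObj T₂ W hWcl
  let j : R₀ ⟶ T₂ := clopenι T₂ W hWcl
  let r₁ : R₀ ⟶ T := j ≫ pr₁
  let r₂ : R₀ ⟶ T := j ≫ pr₂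
  have hj : F.map j ≫ u = F.map j ≫ v := by
    apply MorphismProperty.Over.Hom.ext
    change (F.map j).left ≫ u.left = (F.map j).left ≫ v.left
    rw [hCiff, hCW]
    rintro _ ⟨z, rfl⟩
    have hz : (pullback.fst T₂.hom f) (bcMap f j z) = j.left (pullback.fst R₀.hom f z) := by
      rw [← Scheme.Hom.comp_apply, bcMap_fst, Scheme.Hom.comp_apply]
    change (pullback.fst T₂.hom f) (bcMap f j z) ∈ (W : Set T₂.left)
    rw [hz]
    exact (pullback.fst R₀.hom f z : W).2
  have w : F.map r₁ ≫ a = F.map r₂ ≫ a := by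
    change F.map (j ≫ pr₁) ≫ a = F.map (j ≫ pr₂) ≫ a
    rw [F.map_comp, F.map_comp, Category.assoc, Category.assoc]
    exact hj
  have F1 : ∀ (Ω : Type u) [Field Ω] [IsAlgClosed Ω] (ζ : Spec (CommRingCat.of Ω) ⟶ X'.left),
      ∃ s : Spec (CommRingCat.of Ω) ⟶ (F.obj T).left, s ≫ a.left = ζ := by
    intro Ω _ _ ζ
    obtain ⟨y, hy⟩ := ha (ζ default)
    obtain ⟨s, hs1, -⟩ := exists_lift_of_finite a.left ζ y default hy
    exact ⟨s, hs1⟩
  have F2 : ∀ (Ω : Type u) [Field Ω] [IsAlgClosed Ω]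
      (s s' : Spec (CommRingCat.of Ω) ⟶ (F.obj T).left), s ≫ a.left = s' ≫ a.left →
      Relation.EqvGen (fun s₁ s₂ : Spec (CommRingCat.of Ω) ⟶ (F.obj T).left =>
        ∃ t : Spec (CommRingCat.of Ω) ⟶ (F.obj R₀).left,
          s₁ = t ≫ (F.map r₁).left ∧ s₂ = t ≫ (F.map r₂).left) s s' := by
    intro Ω _ _ s s' hss'
    refine Relation.EqvGen.rel _ _ ?_
    obtain ⟨s₀, rfl⟩ : ∃ s₀ : Spec (CommRingCat.of Ω) ⟶ pullback T.hom f, s₀ = s := ⟨s, rfl⟩
    obtain ⟨s₀', rfl⟩ : ∃ s₀' : Spec (CommRingCat.of Ω) ⟶ pullback T.hom f, s₀' = s' := ⟨s', rfl⟩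
    have hss₀ : s₀ ≫ a₀ = s₀' ≫ a₀ := hss'
    have hsnd : s₀ ≫ pullback.snd T.hom f = s₀' ≫ pullback.snd T.hom f := by
      rw [← ha₀, reassoc_of% hss₀]
    let t₀ : Spec (CommRingCat.of Ω) ⟶ pullback T.hom T.hom :=
      pullback.lift (s₀ ≫ pullback.fst T.hom f) (s₀' ≫ pullback.fst T.hom f) (by
        rw [Category.assoc, Category.assoc, pullback.condition, reassoc_of% hsnd])
    let t₂ : Spec (CommRingCat.of Ω) ⟶ pullback T₂.hom f :=
      pullback.lift t₀ (s₀ ≫ pullback.snd T.hom f) (by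
        change t₀ ≫ pullback.fst T.hom T.hom ≫ T.hom = _
        rw [pullback.lift_fst_assoc, Category.assoc, Category.assoc, pullback.condition])
    have ht₂1 : t₂ ≫ bcMap f pr₁ = s₀ := by
      apply pullback.hom_ext
      · rw [Category.assoc, bcMap_fst, pullback.lift_fst_assoc]
        exact pullback.lift_fst _ _ _
      · rw [Category.assoc, bcMap_snd, pullback.lift_snd]
    have ht₂2 : t₂ ≫ bcMap f pr₂ = s₀' := by
      apply pullback.hom_ext
      · rw [Category.assoc, bcMap_fst, pullback.lift_fst_assoc]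
        exact pullback.lift_snd _ _ _
      · rw [Category.assoc, bcMap_snd, pullback.lift_snd, hsnd]
    have heq : t₂ ≫ u.left = t₂ ≫ v.left := by
      change t₂ ≫ bcMap f pr₁ ≫ a₀ = t₂ ≫ bcMap f pr₂ ≫ a₀
      rw [reassoc_of% ht₂1, reassoc_of% ht₂2, hss₀]
    have hr : Set.range t₂ ⊆ C := (hCiff t₂).mp heq
    have hr' : Set.range (t₂ ≫ pullback.fst T₂.hom f) ⊆ Set.range W.ι := by
      rintro _ ⟨x, rfl⟩
      rw [Scheme.Opens.range_ι]
      have := hr ⟨x, rfl⟩
      rw [hCW] at this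
      exact this
    let l : Spec (CommRingCat.of Ω) ⟶ (W : Scheme) :=
      IsOpenImmersion.lift W.ι (t₂ ≫ pullback.fst T₂.hom f) hr'
    have hl : l ≫ W.ι = t₂ ≫ pullback.fst T₂.hom f := IsOpenImmersion.lift_fac _ _ _
    let t : Spec (CommRingCat.of Ω) ⟶ pullback R₀.hom f :=
      pullback.lift l
        (t₂ ≫ pullback.snd T₂.hom f) (by
        change l ≫ W.ι ≫ T₂.hom = _
        rw [reassoc_of% hl, pullback.condition, Category.assoc])
    have ht : t ≫ bcMap f j = t₂ := by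
      apply pullback.hom_ext
      · rw [Category.assoc, bcMap_fst, pullback.lift_fst_assoc]
        exact hl
      · rw [Category.assoc, bcMap_snd, pullback.lift_snd]
    refine ⟨t, ?_, ?_⟩
    · change s₀ = t ≫ (F.map (j ≫ pr₁)).left
      rw [F.map_comp]
      change s₀ = t ≫ bcMap f j ≫ bcMap f pr₁
      rw [reassoc_of% ht, ht₂1]
    · change s₀' = t ≫ (F.map (j ≫ pr₂)).left
      rw [F.map_comp]
      change s₀' = t ≫ bcMap f j ≫ bcMap f pr₂
      rw [reassoc_of% ht, ht₂2]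
  obtain ⟨hcolim⟩ := nonempty_isColimit_cofork (F.map r₁) (F.map r₂) a w F1 F2
  refine ⟨coequalizer r₁ r₂, ⟨?_⟩⟩
  exact (PreservesCoequalizer.iso F r₁ r₂).symm ≪≫
    ((colimit.isColimit (parallelPair (F.map r₁) (F.map r₂))).coconePointUniqueUpToIso hcolim)

end Groth.Agent.Lib.Helper20.HES
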