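import Mathlib
import Groth.Agent.Lib.Helper20ZeroIdeal
import Groth.Agent.Lib.Helper23SecTw9
import Groth.Prelude.Def_MeroSh

set_option autoImplicit false
set_option linter.unusedSectionVars false
set_option linter.style.haveILetI false

universe u
open CategoryTheory CategoryTheory.Limits AlgebraicGeometry TopologicalSpace Opposite

namespace Groth.Agent.Lib.Helper20.IntFrame

open Groth.Agent.Lib.Helper23.SecTw Groth.Agent.Lib.Helper23.GenLocus
  Groth.Agent.Lib.Helper23.Extend Groth.Agent.Lib.Helper6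

variable {X : Scheme.{u}} [AlgebraicGeometry.IsIntegral X]

theorem inf_nonempty {W W' : X.Opens} (h : (W : Set X).Nonempty) (h' : (W' : Set X).Nonempty) :
    ((W ⊓ W' : X.Opens) : Set X).Nonempty :=
  nonempty_preirreducible_inter W.2 W'.2 h h'

theorem resf_injective {U V : X.Opens} (h : V ≤ U) (hV : (V : Set X).Nonempty) :
    Function.Injective (resf h : Γ(X, U) → Γ(X, V)) := by
  haveI : Nonempty V := hV.to_subtype
  exact map_injective_of_isIntegral X (homOfLE h)

/-- a nonzero function on a nonempty open of an integral scheme is a regular section. -/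
theorem mem_regSub_of_ne_zero {W : X.Opens} {c : Γ(X, W)} (hc : c ≠ 0) : c ∈ Mero.regSub X W := by
  intro y
  apply mem_nonZeroDivisors_of_ne_zero
  intro h0
  apply hc
  apply germ_injective_of_isIntegral X y.1 y.2
  rw [h0, map_zero]

variable (L : X.Modules) (hL : PicF.IsInvertible L) (s : Coh.structureModule X ⟶ L)

include hL in
/-- the local equation of a nonzero section on a frame is nonzero. -/
theorem coef_ne_zero (hs : s ≠ 0) {W : X.Opens} (hW : (W : Set X).Nonempty) {e : Γ(L, W)}
    {c : Γ(X, W)} (hc : sv s W = c • e) : c ≠ 0 := by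
  rintro rfl
  rw [zero_smul] at hc
  apply hs
  apply hom_ext_of_sv
  rw [sv_zero]
  choose W' hxW' hW'aff e' c' hc' hbas hg' using fun x => exists_frame L hL s x
  have hcov : (⊤ : X.Opens) ≤ ⨆ x : X, W' x := by
    intro x _
    exact Opens.mem_iSup.2 ⟨x, hxW' x⟩
  refine (modSheaf L).eq_of_locally_eq' W' ⊤ (fun x => homOfLE le_top) hcov _ _ (fun x => ?_)
  change res L le_top (sv s ⊤) = res L le_top 0
  rw [res_sv, res_zero]
  have hne : ((W ⊓ W' x : X.Opens) : Set X).Nonempty := inf_nonempty hW ⟨x, hxW' x⟩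
  have h1 : sv s (W ⊓ W' x) = 0 := by
    rw [← res_sv s (inf_le_left : W ⊓ W' x ≤ W), hc, res_zero]
  have h2 : sv s (W ⊓ W' x) = resf (inf_le_right : W ⊓ W' x ≤ W' x) (c' x) •
      res L (inf_le_right : W ⊓ W' x ≤ W' x) (e' x) := by
    rw [← res_sv s (inf_le_right : W ⊓ W' x ≤ W' x), hc' x, res_smul]
  have h3 : resf (inf_le_right : W ⊓ W' x ≤ W' x) (c' x) = 0 := by
    apply (hg' x (W ⊓ W' x) inf_le_right).1
    change resf (inf_le_right : W ⊓ W' x ≤ W' x) (c' x) • res L (inf_le_right : W ⊓ W' x ≤ W' x) (e' x) =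
      (0 : Γ(X, W ⊓ W' x)) • res L (inf_le_right : W ⊓ W' x ≤ W' x) (e' x)
    rw [← h2, h1, zero_smul]
  have h4 : c' x = 0 := by
    apply resf_injective (inf_le_right : W ⊓ W' x ≤ W' x) hne
    rw [h3]
    exact (map_zero _).symm
  rw [hc' x, h4, zero_smul]

end Groth.Agent.Lib.Helper20.IntFrame
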