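import Mathlib
import Groth.Prelude.Def_KZero
import Groth.Agent.Lib.Helper17K0Serre2

/-!
# `K₀` of an abelian full subcategory vs `K0sub` (helper20)

For an object property `P` of an abelian category `A` containing zero and closed under kernels, cokernels and finite
products, the full subcategory `P.FullSubcategory` is abelian (Mathlib) and its Grothendieck group `K0` is isomorphic to
`K0sub P` (generated by the objects satisfying `P`, with relations the short exact sequences of `A` with terms in `P`).
-/

set_option autoImplicit false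
universe v u
open CategoryTheory CategoryTheory.Limits

namespace Groth.Agent.Lib.Helper20.K0Full

open KZero Groth.Agent.Lib.Helper17.K0a Groth.Agent.Lib.Helper17.K0Serre

variable {A : Type u} [Category.{v} A] [Abelian A] (P : ObjectProperty A) [P.ContainsZero]
  [P.IsClosedUnderKernels] [P.IsClosedUnderCokernels] [P.IsClosedUnderFiniteProducts]

instance preservesFiniteLimits_ι : PreservesFiniteLimits P.ι := by
  haveI : ∀ {X Y : P.FullSubcategory} (f : X ⟶ Y), PreservesLimit (parallelPair f 0) P.ι :=
    fun f => P.preservesKernels_ι f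
  exact Functor.preservesFiniteLimits_of_preservesKernels _

instance preservesFiniteColimits_ι : PreservesFiniteColimits P.ι := by
  haveI : ∀ {X Y : P.FullSubcategory} (f : X ⟶ Y), PreservesColimit (parallelPair f 0) P.ι :=
    fun f => P.preservesCokernels_ι f
  exact Functor.preservesFiniteColimits_of_preservesCokernels _

theorem shortExact_iff (S : ShortComplex P.FullSubcategory) :
    (S.map P.ι).ShortExact ↔ S.ShortExact :=
  CategoryTheory.ShortExact.shortExact_map_iff P.ι

/-- lift a short complex of `A` with terms in `P` -/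
def liftSC (S : ShortComplex A) (h₁ : P S.X₁) (h₂ : P S.X₂) (h₃ : P S.X₃) :
    ShortComplex P.FullSubcategory :=
  ShortComplex.mk (X₁ := ⟨S.X₁, h₁⟩) (X₂ := ⟨S.X₂, h₂⟩) (X₃ := ⟨S.X₃, h₃⟩)
    (ObjectProperty.homMk S.f) (ObjectProperty.homMk S.g) (by
      apply P.ι.map_injective
      simp)

theorem liftSC_shortExact (S : ShortComplex A) (h₁ : P S.X₁) (h₂ : P S.X₂) (h₃ : P S.X₃)
    (hS : S.ShortExact) : (liftSC P S h₁ h₂ h₃).ShortExact := by
  rw [← shortExact_iff]
  exact hS

/-- `K₀(P.FullSubcategory) → K0sub P` -/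
noncomputable def toSub : K0 P.FullSubcategory →+ K0sub P :=
  QuotientAddGroup.lift (relAb P.FullSubcategory)
    (FreeAbelianGroup.lift (fun X : P.FullSubcategory => clSub P X.obj)) (by
    rw [relAb, AddSubgroup.closure_le]
    rintro x ⟨S, hS, rfl⟩
    rw [SetLike.mem_coe, AddMonoidHom.mem_ker, map_sub, map_sub, FreeAbelianGroup.lift_apply_of,
      FreeAbelianGroup.lift_apply_of, FreeAbelianGroup.lift_apply_of]
    have := clSub_shortExact P (S.map P.ι) ((shortExact_iff P S).2 hS) S.X₁.property S.X₂.property
      S.X₃.property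
    change clSub P S.X₂.obj = clSub P S.X₁.obj + clSub P S.X₃.obj at this
    rw [this]
    abel)

theorem toSub_cl (X : P.FullSubcategory) : toSub P (cl X) = clSub P X.obj := by
  unfold toSub cl
  rw [QuotientAddGroup.lift_mk, FreeAbelianGroup.lift_apply_of]

/-- `K0sub P → K₀(P.FullSubcategory)` -/
noncomputable def ofSub : K0sub P →+ K0 P.FullSubcategory :=
  QuotientAddGroup.lift (relSub P)
    (FreeAbelianGroup.lift (fun X : Subtype P => cl (⟨X.1, X.2⟩ : P.FullSubcategory))) (by
    rw [relSub, AddSubgroup.closure_le]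
    rintro x ⟨S, h₁, h₂, h₃, hS, rfl⟩
    rw [SetLike.mem_coe, AddMonoidHom.mem_ker, map_sub, map_sub, FreeAbelianGroup.lift_apply_of,
      FreeAbelianGroup.lift_apply_of, FreeAbelianGroup.lift_apply_of]
    have := cl_shortExact (liftSC P S h₁ h₂ h₃) (liftSC_shortExact P S h₁ h₂ h₃ hS)
    change cl (⟨S.X₂, h₂⟩ : P.FullSubcategory) = cl (⟨S.X₁, h₁⟩ : P.FullSubcategory) +
      cl (⟨S.X₃, h₃⟩ : P.FullSubcategory) at this
    rw [this]
    abel)

theorem ofSub_clSub {X : A} (hX : P X) : ofSub P (clSub P X) = cl (⟨X, hX⟩ : P.FullSubcategory) := by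
  rw [clSub_of_prop P hX]
  unfold ofSub
  rw [QuotientAddGroup.lift_mk, FreeAbelianGroup.lift_apply_of]

theorem toSub_ofSub (x : K0sub P) : toSub P (ofSub P x) = x := by
  have : (toSub P).comp (ofSub P) = AddMonoidHom.id _ := by
    apply K0sub_hom_ext
    intro X hX
    rw [AddMonoidHom.comp_apply, ofSub_clSub P hX, toSub_cl, AddMonoidHom.id_apply]
  exact DFunLike.congr_fun this x

theorem ofSub_toSub (x : K0 P.FullSubcategory) : ofSub P (toSub P x) = x := by
  have : (ofSub P).comp (toSub P) = AddMonoidHom.id _ := by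
    apply K0_hom_ext
    intro X
    rw [AddMonoidHom.comp_apply, toSub_cl, ofSub_clSub P X.property, AddMonoidHom.id_apply]
  exact DFunLike.congr_fun this x

/-- `K₀(P.FullSubcategory) ≃ K0sub P` -/
noncomputable def equivSub : K0 P.FullSubcategory ≃+ K0sub P :=
  { toSub P with
    invFun := ofSub P
    left_inv := ofSub_toSub P
    right_inv := toSub_ofSub P }

end Groth.Agent.Lib.Helper20.K0Full
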