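import Mathlib
import Groth.Agent.Lib.Helper1TQ6
import Groth.Agent.Lib.Helper4KGen
import Groth.Agent.Lib.Helper4KFilt
import Groth.Prelude.Def_SGA6
import Groth.Agent.Lib.Helper17Res5

set_option autoImplicit false
universe u
open CategoryTheory CategoryTheory.Limits AlgebraicGeometry

namespace Groth.Agent.Lib.Helper20.KPush

open Groth.Agent.Lib.Helper1.TQ Groth.Agent.Lib.Helper4.Dev Groth.Agent.Lib.Helper4.KFilt
  Groth.Agent.Lib.Helper4.KGen KZero Groth.Agent.Lib.Helper17.K0a

variable {X X' : Scheme.{u}} (i : X' ⟶ X)

/-- the length of the stalk of a direct image along a closed immersion -/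
theorem length_stalk_push [IsClosedImmersion i] (N : X'.Modules) (y' : X') :
    Module.length (X.presheaf.stalk (i y'))
      (((Scheme.Modules.pushforward i).obj N).presheaf.stalk (i y')) =
    Module.length (X'.presheaf.stalk y') (N.presheaf.stalk y') := by
  let φ : X.presheaf.stalk (i y') →+* X'.presheaf.stalk y' := (i.stalkMap y').hom
  have hφ : Function.Surjective φ := i.stalkMap_surjective y'
  letI : Algebra (X.presheaf.stalk (i y')) (X'.presheaf.stalk y') := φ.toAlgebra
  letI : Module (X.presheaf.stalk (i y')) (N.presheaf.stalk y') := Module.compHom _ φ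
  haveI : IsScalarTower (X.presheaf.stalk (i y')) (X'.presheaf.stalk y') (N.presheaf.stalk y') :=
    IsScalarTower.of_algebraMap_smul (fun _ _ => rfl)
  rw [← Module.length_eq_of_surjective (S := X.presheaf.stalk (i y')) (R := X'.presheaf.stalk y')
    (M := N.presheaf.stalk y') hφ]
  have hi : Topology.IsInducing i.base := i.isClosedEmbedding.isInducing
  let l : (((Scheme.Modules.pushforward i).obj N).presheaf.stalk (i y')) →ₗ[X.presheaf.stalk (i y')]
      (N.presheaf.stalk y') :=
    { toFun := fun a => pushStalkMap i y' N a
      map_add' := fun a b => map_add (pushStalkMap i y' N) a b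
      map_smul' := fun r a => by
        rw [RingHom.id_apply]
        exact pushStalkMap_smul i y' N r a }
  exact (LinearEquiv.ofBijective l (pushStalkMap_bijective i y' hi N)).length_eq

/-- the support of a direct image along a closed immersion -/
theorem support_push_subset_image [IsClosedImmersion i] (N : X'.Modules) :
    CohB1.support ((Scheme.Modules.pushforward i).obj N) ⊆ i '' CohB1.support N := by
  intro x hx
  obtain ⟨z, rfl⟩ := support_push_subset i N hx
  refine ⟨z, fun hz => hx ?_, rfl⟩
  have hi : Topology.IsInducing i.base := i.isClosedEmbedding.isInducing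
  haveI : Subsingleton (Groth.Agent.Lib.Helper1.StalkTensor.St
    (Groth.Agent.Lib.Helper1.StalkTensor.toPM N) z) := hz
  exact (pushStalkMap_bijective i z hi N).1.subsingleton

theorem mapSub_clSub' {A B : Type*} [Category A] [Category B] [Abelian A] [Abelian B] (F : A ⥤ B)
    [F.Additive] [PreservesFiniteLimits F] [PreservesFiniteColimits F]
    (P : ObjectProperty A) (Q : ObjectProperty B) (h : ∀ X, P X → Q (F.obj X)) {M : A} (hM : P M) :
    SGA6.mapSub F P Q h (clSub P M) = clSub Q (F.obj M) := by
  rw [clSub_of_prop P hM, clSub_of_prop Q (h M hM)]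
  unfold SGA6.mapSub
  rw [QuotientAddGroup.map_mk, FreeAbelianGroup.map_of_apply]
  rfl

/-- on a Noetherian scheme, the class of a coherent module supported in a closed subscheme comes from the subscheme -/
theorem clSub_mem_range_push [IsNoetherian X] [IsClosedImmersion i]
    [(Scheme.Modules.pushforward i).Additive] [PreservesFiniteLimits (Scheme.Modules.pushforward i)]
    [PreservesFiniteColimits (Scheme.Modules.pushforward i)]
    (hi : ∀ M : X'.Modules, Coh.IsCoh M → Coh.IsCoh ((Scheme.Modules.pushforward i).obj M))
    (M : X.Modules) (hM : Coh.IsCoh M) (hsupp : CohB1.support M ⊆ Set.range i) :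
    clSub (cohP X) M ∈ (SGA6.mapSub (Scheme.Modules.pushforward i) (cohP X') (cohP X) hi).range := by
  haveI : IsLocallyNoetherian X' := LocallyOfFiniteType.isLocallyNoetherian i
  set R := (SGA6.mapSub (Scheme.Modules.pushforward i) (cohP X') (cohP X) hi).range with hR
  let Y' : Set X := Set.range i
  let φ : K0sub (cohSuppP X Y') →+ K0sub (cohP X) :=
    SGA6.mapSub (𝟭 X.Modules) (cohSuppP X Y') (cohP X) (fun _ h => h.1)
  let F : X' → X.Modules := fun y' => (Scheme.Modules.pushforward i).obj (Cyc.closureStructureSheaf y')
  have hF : ∀ y', cohSuppP X Y' (F y') := fun y' =>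
    ⟨hi _ (isCoh_closureStructureSheaf y'), support_push_subset i _⟩
  have hgen : AddSubgroup.closure (Set.range fun a : X' => clSub (cohSuppP X Y') (F a)) = ⊤ := by
    apply closure_clSub_eq_top
    intro Z hZc hZi hZY y hy
    have hyZ : y ∈ Z := hy ▸ subset_closure (Set.mem_singleton y)
    obtain ⟨y', rfl⟩ := hZY hyZ
    refine ⟨y', (hF y').1, ?_, ?_⟩
    · refine (support_push_subset_image i _).trans ?_
      rw [← hy]
      refine (Set.image_mono (support_closureStructureSheaf y')).trans ?_
      refine (image_closure_subset_closure_image i.continuous).trans ?_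
      rw [Set.image_singleton]
    · rw [length_stalk_push]
      exact length_closureStructureSheaf y'
  have hall : ∀ z : K0sub (cohSuppP X Y'), φ z ∈ R := by
    intro z
    have hz : z ∈ AddSubgroup.closure (Set.range fun a : X' => clSub (cohSuppP X Y') (F a)) := by
      rw [hgen]; trivial
    have hle : AddSubgroup.closure (Set.range fun a : X' => clSub (cohSuppP X Y') (F a)) ≤ R.comap φ := by
      rw [AddSubgroup.closure_le]
      rintro _ ⟨y', rfl⟩
      change φ (clSub (cohSuppP X Y') (F y')) ∈ R
      rw [Groth.Agent.Lib.Helper17.Res.mapSub_clSub (fun _ h => h.1) (hF y')]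
      exact ⟨clSub (cohP X') (Cyc.closureStructureSheaf y'),
        mapSub_clSub' _ _ _ hi (isCoh_closureStructureSheaf y')⟩
    exact hle hz
  have h1 := hall (clSub (cohSuppP X Y') M)
  have h2 : cohSuppP X Y' M := ⟨hM, hsupp⟩
  have h3 : φ (clSub (cohSuppP X Y') M) = clSub (cohP X) M :=
    Groth.Agent.Lib.Helper17.Res.mapSub_clSub (P₀ := cohSuppP X Y') (P₁ := cohP X) (fun _ h => h.1) h2
  rwa [h3] at h1

end Groth.Agent.Lib.Helper20.KPush
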