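import Mathlib
import Groth.Agent.Lib.Helper20PullbackAff

/-!
# Local projectivity of quasi-coherent modules (helper20)

Namespace `Groth.Agent.Lib.Helper20.LocProj`.

* `projective_of_le hV hU h F` : `F` quasi-coherent, `U ≤ V` affine opens, `Γ(F,V)` projective over `Γ(X,V)` ⟹
  `Γ(F,U)` projective over `Γ(X,U)`.
* `projective_pullback f hV hU h F` : same for `f^*F` over affine `U ≤ f⁻¹V`.
-/

set_option autoImplicit false
set_option linter.style.haveILetI false
universe u
open CategoryTheory AlgebraicGeometry Limits TensorProduct Opposite TopologicalSpace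
open Groth.Agent.Lib.Helper20.Thickening Groth.Agent.Lib.Helper20.PullbackAff

namespace Groth.Agent.Lib.Helper20.LocProj

theorem projective_extendScalars {R S : Type u} [CommRing R] [CommRing S] (φ : R →+* S) (N : ModuleCat.{u} R)
    [Module.Projective R N] : Module.Projective S ((ModuleCat.extendScalars φ).obj N) := by
  have h1 : Projective (ModuleCat.of R N) := (IsProjective.iff_projective (R := R) N).1 inferInstance
  have h2 : Projective ((ModuleCat.extendScalars φ).obj (ModuleCat.of R N)) :=
    (ModuleCat.extendRestrictScalarsAdj φ).map_projective _ h1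
  exact (IsProjective.iff_projective (R := S) _).2 h2

variable {X Y : Scheme.{u}} (f : Y ⟶ X) {V : X.Opens} (hV : IsAffineOpen V) {U : Y.Opens}
  (hU : IsAffineOpen U) (h : U ≤ f ⁻¹ᵁ V) (F : X.Modules) [F.IsQuasicoherent]

include hV hU h in
theorem projective_pullback [Module.Projective Γ(X, V) Γ(F, V)] :
    Module.Projective Γ(Y, U) Γ((Scheme.Modules.pullback f).obj F, U) := by
  haveI : Module.Projective Γ(X, V) ((ΓUF hV).obj F) := Module.Projective.of_equiv' (ΓUEquiv hV F)
  haveI := projective_extendScalars (f.appLE V U h).hom ((ΓUF hV).obj F)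
  haveI : Module.Projective Γ(Y, U) ((ΓUF hU).obj ((Scheme.Modules.pullback f).obj F)) :=
    Module.Projective.of_equiv' (ΓUFPullbackIso f hV hU h F).toLinearEquiv.symm
  exact Module.Projective.of_equiv' (ΓUEquiv hU _).symm

omit f hU h in
include hV in
theorem projective_of_le {W : X.Opens} (hW : IsAffineOpen W) (hWV : W ≤ V) [Module.Projective Γ(X, V) Γ(F, V)] :
    Module.Projective Γ(X, W) Γ(F, W) := by
  haveI := projective_pullback (𝟙 X) hV hW (by simpa using hWV) F
  haveI : Module.Projective Γ(X, W) ((ΓUF hW).obj ((Scheme.Modules.pullback (𝟙 X)).obj F)) :=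
    Module.Projective.of_equiv' (ΓUEquiv hW _)
  haveI : Module.Projective Γ(X, W) ((ΓUF hW).obj F) :=
    Module.Projective.of_equiv' ((ΓUF hW).mapIso ((Scheme.Modules.pullbackId X).app F)).toLinearEquiv
  exact Module.Projective.of_equiv' (ΓUEquiv hW F).symm

end Groth.Agent.Lib.Helper20.LocProj
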