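import Mathlib

set_option autoImplicit false
universe u

open CategoryTheory CategoryTheory.Limits AlgebraicGeometry TensorProduct

namespace Groth.Agent.Lib.Helper20MagnetSTD

/-- Two pushouts of commutative rings along the same `γ : R ⟶ C`; if `ϑ : A₁ ⟶ A₂` has an
`R`-linear retraction, then the induced map of pushouts is injective. -/
theorem injective_of_isPushout {R A₁ A₂ C G₁ G₂ : CommRingCat.{u}} {α₁ : R ⟶ A₁} {α₂ : R ⟶ A₂}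
    {γ : R ⟶ C} {ι₁ : A₁ ⟶ G₁} {κ₁ : C ⟶ G₁} {ι₂ : A₂ ⟶ G₂} {κ₂ : C ⟶ G₂}
    (H₁ : IsPushout α₁ γ ι₁ κ₁) (H₂ : IsPushout α₂ γ ι₂ κ₂) (ϑ : A₁ ⟶ A₂) (hϑ : α₁ ≫ ϑ = α₂)
    (υ : G₁ ⟶ G₂) (h₁ : ι₁ ≫ υ = ϑ ≫ ι₂) (h₂ : κ₁ ≫ υ = κ₂)
    (ρ : A₂ →+ A₁) (hρlin : ∀ r x, ρ (α₂ r * x) = α₁ r * ρ x) (hρ : ∀ x, ρ (ϑ x) = x) :
    Function.Injective υ := by
  algebraize [α₁.hom, α₂.hom, γ.hom]
  -- the comparison isomorphisms
  have T₁ := CommRingCat.isPushout_tensorProduct R A₁ C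
  have T₂ := CommRingCat.isPushout_tensorProduct R A₂ C
  have eα₁ : CommRingCat.ofHom (algebraMap R A₁) = α₁ := rfl
  have eα₂ : CommRingCat.ofHom (algebraMap R A₂) = α₂ := rfl
  have eγ : CommRingCat.ofHom (algebraMap R C) = γ := rfl
  rw [eα₁, eγ] at T₁
  rw [eα₂, eγ] at T₂
  let e₁ := T₁.isoIsPushout _ _ H₁
  let e₂ := T₂.isoIsPushout _ _ H₂
  -- `ϑ` as an algebra hom
  have hcomm : ∀ r : R, ϑ.hom (algebraMap R A₁ r) = algebraMap R A₂ r := fun r =>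
    congrArg (fun f => f.hom r) hϑ
  let ϑa : A₁ →ₐ[R] A₂ := { ϑ.hom with commutes' := hcomm }
  let m : (A₁ ⊗[R] C) →ₐ[R] (A₂ ⊗[R] C) := Algebra.TensorProduct.map ϑa (AlgHom.id R C)
  -- the square `e₁ ≫ υ = m ≫ e₂`
  have hsq : e₁.hom ≫ υ = CommRingCat.ofHom m.toRingHom ≫ e₂.hom := by
    apply T₁.hom_ext
    · rw [IsPushout.inl_isoIsPushout_hom_assoc, h₁]
      have : CommRingCat.ofHom (Algebra.TensorProduct.includeLeftRingHom : A₁ →+* A₁ ⊗[R] C) ≫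
          CommRingCat.ofHom m.toRingHom = ϑ ≫
          CommRingCat.ofHom (Algebra.TensorProduct.includeLeftRingHom : A₂ →+* A₂ ⊗[R] C) := by
        ext x
        simp [m, ϑa]
      rw [reassoc_of% this]
      congr 1
      exact (T₂.inl_isoIsPushout_hom _ _ H₂).symm
    · rw [IsPushout.inr_isoIsPushout_hom_assoc, h₂]
      have : CommRingCat.ofHom (Algebra.TensorProduct.includeRight.toRingHom : C →+* A₁ ⊗[R] C) ≫
          CommRingCat.ofHom m.toRingHom =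
          CommRingCat.ofHom (Algebra.TensorProduct.includeRight.toRingHom : C →+* A₂ ⊗[R] C) := by
        ext x
        simp [m]
      rw [reassoc_of% this]
      exact (T₂.inr_isoIsPushout_hom _ _ H₂).symm
  -- `m` is injective
  have hsmul : ∀ (r : R) (x : A₂), ρ (r • x) = r • ρ x := fun r x => by
    rw [Algebra.smul_def, Algebra.smul_def]
    exact hρlin r x
  let ρl : A₂ →ₗ[R] A₁ := { ρ with map_smul' := hsmul }
  have hm : Function.Injective m := by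
    have hleft : Function.LeftInverse (ρl.rTensor C) (ϑa.toLinearMap.rTensor C) := by
      intro x
      rw [← LinearMap.comp_apply, ← LinearMap.rTensor_comp]
      have : ρl ∘ₗ ϑa.toLinearMap = LinearMap.id := by
        ext x; exact hρ x
      rw [this, LinearMap.rTensor_id, LinearMap.id_apply]
    have heq : ⇑m = ⇑(ϑa.toLinearMap.rTensor C) := by
      ext x
      induction x using TensorProduct.induction_on with
      | zero => simp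
      | tmul a c => simp [m]
      | add x y hx hy => simp only [map_add, hx, hy]
    rw [heq]
    exact hleft.injective
  -- conclude
  have he₁ : Function.Bijective e₁.hom := ConcreteCategory.bijective_of_isIso e₁.hom
  have he₂ : Function.Bijective e₂.hom := ConcreteCategory.bijective_of_isIso e₂.hom
  intro x y hxy
  obtain ⟨x', rfl⟩ := he₁.2 x
  obtain ⟨y', rfl⟩ := he₁.2 y
  have hx := congrArg (fun f => f.hom x') hsq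
  have hy := congrArg (fun f => f.hom y') hsq
  simp only [CommRingCat.hom_comp, RingHom.coe_comp, Function.comp_apply] at hx hy
  have : e₂.hom.hom (m x') = e₂.hom.hom (m y') := by
    have hx' : υ.hom (e₁.hom.hom x') = e₂.hom.hom (m x') := hx
    have hy' : υ.hom (e₁.hom.hom y') = e₂.hom.hom (m y') := hy
    rw [← hx', ← hy']
    exact hxy
  rw [hm (he₂.1 this)]


theorem appLE_top_top {X Y : Scheme.{u}} (f : X ⟶ Y) (h : (⊤ : X.Opens) ≤ f ⁻¹ᵁ ⊤) :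
    f.appLE ⊤ ⊤ h = f.appTop := f.appLE_eq_app

theorem isSchemeTheoreticallyDominant_of_retraction
    {Z₀ Q₁ Q₂ T X₁ X₂ : Scheme.{u}} [IsAffine Z₀] [IsAffine Q₁] [IsAffine Q₂]
    {a₁ : Q₁ ⟶ Z₀} {a₂ : Q₂ ⟶ Z₀} {t : T ⟶ Z₀}
    {p₁ : X₁ ⟶ Q₁} {q₁ : X₁ ⟶ T} {p₂ : X₂ ⟶ Q₂} {q₂ : X₂ ⟶ T}
    (H₁ : IsPullback p₁ q₁ a₁ t) (H₂ : IsPullback p₂ q₂ a₂ t)
    (ϑ : Q₂ ⟶ Q₁) (hϑ : ϑ ≫ a₁ = a₂) (u : X₂ ⟶ X₁) (hu₁ : u ≫ p₁ = p₂ ≫ ϑ)
    (hu₂ : u ≫ q₁ = q₂)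
    (ρ : Γ(Q₂, ⊤) →+ Γ(Q₁, ⊤))
    (hρlin : ∀ r x, ρ (a₂.appTop r * x) = a₁.appTop r * ρ x)
    (hρ : ∀ x, ρ (ϑ.appTop x) = x) : IsSchemeTheoreticallyDominant u := by
  rw [isSchemeTheoreticallyDominant_iff]
  have hq₁ : IsAffineHom q₁ := MorphismProperty.of_isPullback H₁ (inferInstance : IsAffineHom a₁)
  have h𝒰 : ⨆ T₀ : T.affineOpens, q₁ ⁻¹ᵁ T₀.1 = ⊤ := by
    have := T.isBasis_affineOpens.isOpenCover.comap q₁.base.hom
    exact this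
  refine Scheme.IdealSheafData.ext_of_iSup_eq_top
    (fun T₀ : T.affineOpens ↦ ⟨q₁ ⁻¹ᵁ T₀.1, T₀.2.preimage q₁⟩) h𝒰 ?_
  intro T₀
  simp only [Scheme.IdealSheafData.ideal_bot, Pi.bot_apply, ← le_bot_iff]
  intro x hx
  have hx' := u.ideal_ker_le _ hx
  rw [RingHom.mem_ker] at hx'
  -- the two pushouts
  have hUST : T₀.1 ≤ t ⁻¹ᵁ ⊤ := le_top
  have hUSX₁ : (⊤ : Q₁.Opens) ≤ a₁ ⁻¹ᵁ ⊤ := le_top
  have hUSX₂ : (⊤ : Q₂.Opens) ≤ a₂ ⁻¹ᵁ ⊤ := le_top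
  have hUY₁ : q₁ ⁻¹ᵁ T₀.1 = p₁ ⁻¹ᵁ ⊤ ⊓ q₁ ⁻¹ᵁ T₀.1 := by simp
  have hUY₂ : q₂ ⁻¹ᵁ T₀.1 = p₂ ⁻¹ᵁ ⊤ ⊓ q₂ ⁻¹ᵁ T₀.1 := by simp
  have P₁ := (isIso_pushoutSection_iff H₁ hUST hUSX₁ hUY₁).mp
    (isIso_pushoutSection_of_isAffineOpen H₁ hUST hUSX₁ hUY₁ (isAffineOpen_top Z₀) T₀.2
      (isAffineOpen_top Q₁))
  have P₂ := (isIso_pushoutSection_iff H₂ hUST hUSX₂ hUY₂).mp
    (isIso_pushoutSection_of_isAffineOpen H₂ hUST hUSX₂ hUY₂ (isAffineOpen_top Z₀) T₀.2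
      (isAffineOpen_top Q₂))
  have hle : q₂ ⁻¹ᵁ T₀.1 ≤ u ⁻¹ᵁ (q₁ ⁻¹ᵁ T₀.1) := by
    rw [← Scheme.Hom.comp_preimage, hu₂]
  have hinj := injective_of_isPushout P₁ P₂ (ϑ.appLE ⊤ ⊤ le_top) ?_
    (u.appLE (q₁ ⁻¹ᵁ T₀.1) (q₂ ⁻¹ᵁ T₀.1) hle) ?_ ?_ ρ ?_ ?_
  · rw [Submodule.mem_bot]
    apply hinj
    rw [map_zero]
    have : (u.appLE (q₁ ⁻¹ᵁ T₀.1) (q₂ ⁻¹ᵁ T₀.1) hle) x =
        (X₂.presheaf.map (homOfLE hle).op) ((u.app (q₁ ⁻¹ᵁ T₀.1)) x) := rfl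
    rw [this]
    erw [hx']
    rw [map_zero]
  · rw [Scheme.Hom.appLE_comp_appLE]
    simp only [hϑ]
  · rw [Scheme.Hom.appLE_comp_appLE, Scheme.Hom.appLE_comp_appLE]
    simp only [hu₁]
  · rw [Scheme.Hom.appLE_comp_appLE]
    simp only [hu₂]
  · intro r x
    rw [appLE_top_top, appLE_top_top]
    exact hρlin r x
  · intro x
    rw [appLE_top_top]
    exact hρ x

end Groth.Agent.Lib.Helper20MagnetSTD
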