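import Mathlib
import Groth.Prelude.Def_Magnet3
import Groth.Agent.Lib.Helper20MagnetSTD1

/-!
# Scheme-theoretic dominance of `A(M)_S ×_S T ⟶ A(N)_S ×_S T` for `N →+ M` injective (helper20)

* `isSchemeTheoreticallyDominant_AMonS_map_whiskerRight`
* `over_ext_of_isSchemeTheoreticallyDominant` : maps to a separated `S`-scheme agreeing after a
  scheme-theoretically dominant precomposition are equal.
* `map_subtype_whiskerRight_comp` : an equivariant family restricted to `A(M) ⊗ T` is an orbit map.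
-/

set_option autoImplicit false
universe u

open CategoryTheory CategoryTheory.Limits AlgebraicGeometry MonoidalCategory CartesianMonoidalCategory MonObj Opposite

namespace Groth.Agent.Lib.Helper20MagnetSTD

open Magnet

/-- Every global section of `Spec (ULift ℤ)` is an integer. -/
theorem exists_intCast_specULiftZ (r : Γ(Spec (CommRingCat.of (ULift.{u} ℤ)), ⊤)) :
    ∃ n : ℤ, r = (n : Γ(Spec (CommRingCat.of (ULift.{u} ℤ)), ⊤)) := by
  refine ⟨((Scheme.ΓSpecIso (CommRingCat.of (ULift.{u} ℤ))).hom r).down, ?_⟩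
  have h1 : r = (Scheme.ΓSpecIso (CommRingCat.of (ULift.{u} ℤ))).inv
      ((Scheme.ΓSpecIso (CommRingCat.of (ULift.{u} ℤ))).hom r) := by
    rw [← CommRingCat.comp_apply, Iso.hom_inv_id, CommRingCat.id_apply]
  conv_lhs => rw [h1]
  have h2 : ((Scheme.ΓSpecIso (CommRingCat.of (ULift.{u} ℤ))).hom r) =
      ((((Scheme.ΓSpecIso (CommRingCat.of (ULift.{u} ℤ))).hom r).down : ℤ) : ULift.{u} ℤ) := by
    apply ULift.ext
    simp
  conv_lhs => rw [h2]
  rw [map_intCast]

section

variable (S : Scheme.{u}) {M N : Type} [AddCommMonoid M] [AddCommMonoid N]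

theorem isSchemeTheoreticallyDominant_AMonS_map_whiskerRight (f : N →+ M)
    (hf : Function.Injective f) (T : Over S) :
    IsSchemeTheoreticallyDominant ((AMonS.map S f ▷ T).left) := by
  let tS := Limits.IsTerminal.from specULiftZIsTerminal S
  let AM0 := AMon (ULift.{u} ℤ) M
  let AN0 := AMon (ULift.{u} ℤ) N
  have HM : IsPullback (pullback.fst (AMonS S M).hom T.hom ≫ pullback.fst AM0.hom tS)
      (pullback.snd (AMonS S M).hom T.hom) AM0.hom (T.hom ≫ tS) :=
    (IsPullback.of_hasPullback (AMonS S M).hom T.hom).paste_horiz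
      (IsPullback.of_hasPullback AM0.hom tS)
  have HN : IsPullback (pullback.fst (AMonS S N).hom T.hom ≫ pullback.fst AN0.hom tS)
      (pullback.snd (AMonS S N).hom T.hom) AN0.hom (T.hom ≫ tS) :=
    (IsPullback.of_hasPullback (AMonS S N).hom T.hom).paste_horiz
      (IsPullback.of_hasPullback AN0.hom tS)
  let g : Multiplicative N →* Multiplicative M := AddMonoidHom.toMultiplicative f
  have hg : Function.Injective g := hf
  let φ : MonoidAlgebra (ULift.{u} ℤ) (Multiplicative N) →+*
      MonoidAlgebra (ULift.{u} ℤ) (Multiplicative M) :=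
    (MonoidAlgebra.mapDomainBialgHom (ULift.{u} ℤ) g).toAlgHom.toRingHom
  let ρ0 : MonoidAlgebra (ULift.{u} ℤ) (Multiplicative M) →+
      MonoidAlgebra (ULift.{u} ℤ) (Multiplicative N) :=
    MonoidAlgebra.comapDomainAddMonoidHom g hg
  have hρ0 : ∀ x, ρ0 (φ x) = x := by
    intro x
    show MonoidAlgebra.comapDomain g hg (MonoidAlgebra.mapDomain g x) = x
    ext m
    simp [MonoidAlgebra.comapDomain, MonoidAlgebra.mapDomain]
    exact Finsupp.mapDomain_apply hg _ _
  let eM := Scheme.ΓSpecIso (CommRingCat.of (MonoidAlgebra (ULift.{u} ℤ) (Multiplicative M)))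
  let eN := Scheme.ΓSpecIso (CommRingCat.of (MonoidAlgebra (ULift.{u} ℤ) (Multiplicative N)))
  let ρ : Γ(Spec (CommRingCat.of (MonoidAlgebra (ULift.{u} ℤ) (Multiplicative M))), ⊤) →+
      Γ(Spec (CommRingCat.of (MonoidAlgebra (ULift.{u} ℤ) (Multiplicative N))), ⊤) :=
    (eN.inv.hom : _ →+* _).toAddMonoidHom.comp (ρ0.comp (eM.hom.hom : _ →+* _).toAddMonoidHom)
  have hϑ : (AMon.map (ULift.{u} ℤ) f).left ≫ AN0.hom = AM0.hom := Over.w _
  have : IsAffine AM0.left :=
    (inferInstance : IsAffine (Spec (CommRingCat.of (MonoidAlgebra (ULift.{u} ℤ) (Multiplicative M)))))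
  have : IsAffine AN0.left :=
    (inferInstance : IsAffine (Spec (CommRingCat.of (MonoidAlgebra (ULift.{u} ℤ) (Multiplicative N)))))
  refine isSchemeTheoreticallyDominant_of_retraction HN HM (AMon.map (ULift.{u} ℤ) f).left hϑ _
    ?_ ?_ ρ ?_ ?_
  · rw [Over.whiskerRight_left_fst_assoc, Category.assoc]
    congr 1
    exact pullback.lift_fst _ _ _
  · exact Over.whiskerRight_left_snd _
  · intro r x
    obtain ⟨n, rfl⟩ := exists_intCast_specULiftZ r
    rw [map_intCast, map_intCast, ← zsmul_eq_mul, ← zsmul_eq_mul, map_zsmul]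
  · intro x
    have hnat := Scheme.ΓSpecIso_naturality (CommRingCat.ofHom φ)
    have h1 : eM.hom ((AMon.map (ULift.{u} ℤ) f).left.appTop x) = φ (eN.hom x) := by
      have := congrArg (fun k => k.hom x) hnat
      exact this
    show eN.inv (ρ0 (eM.hom ((AMon.map (ULift.{u} ℤ) f).left.appTop x))) = x
    rw [h1, hρ0]
    rw [← CommRingCat.comp_apply, Iso.hom_inv_id, CommRingCat.id_apply]

end


/-- Morphisms to a separated `S`-scheme that agree after precomposition with a
scheme-theoretically dominant morphism are equal. -/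
theorem over_ext_of_isSchemeTheoreticallyDominant {S : Scheme.{u}} {W V X : Over S}
    [IsSeparated X.hom] (u : W ⟶ V) [IsSchemeTheoreticallyDominant u.left] (g₁ g₂ : V ⟶ X)
    (h : u ≫ g₁ = u ≫ g₂) : g₁ = g₂ := by
  have hcl : IsClosedImmersion (equalizer.ι g₁ g₂).left := inferInstance
  have hfac : (equalizer.lift u h).left ≫ (equalizer.ι g₁ g₂).left = u.left := by
    rw [← Over.comp_left, equalizer.lift_ι]
  have hker : (equalizer.ι g₁ g₂).left.ker = ⊥ := by
    rw [← le_bot_iff]
    have := Scheme.Hom.le_ker_comp (equalizer.lift u h).left (equalizer.ι g₁ g₂).left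
    rw [hfac, Scheme.Hom.ker_eq_bot u.left] at this
    exact this
  have hiso : IsIso (equalizer.ι g₁ g₂).left := IsClosedImmersion.isIso_iff_ker_eq_bot.mpr hker
  ext1
  rw [← cancel_epi (equalizer.ι g₁ g₂).left]
  exact congr($(equalizer.condition g₁ g₂).left)



section

variable {S : Scheme.{u}} {M : Type} [AddCommMonoid M] {X : Over S}

/-- An equivariant family `φ : A(N) ⊗ T ⟶ X` restricted along `A(M) ⊗ T ⟶ A(N) ⊗ T` is the orbit
map of the point `φ(1, -)`. -/
theorem map_subtype_whiskerRight_comp (a : MonAct (AMonS S M) X) (N : AddSubmonoid M) (T : Over S)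
    (φ : (attr a N).obj (op T)) :
    (AMonS.map S N.subtype ▷ T) ≫ φ.1 =
      lift (fst _ _) (snd _ _ ≫ (attrToX a N).app (op T) φ) ≫ a.act := by
  apply hom_ext_lift₂
  intro T' g t
  have h := (MonAct.mem_eqvHom_iff φ.1).mp φ.2 T' g (toUnit T' ≫ η[AMonS S N]) t
  rw [lift_whiskerRight_assoc, comp_lift_assoc, lift_fst, lift_snd_assoc]
  have h1 : lift g (toUnit T' ≫ η[AMonS S N]) ≫ (subAct S M N).act = g ≫ AMonS.map S N.subtype := by
    rw [subAct, MonAct.lift_restrict_act, MonAct.lift_regular_act, ← Hom.one_def]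
    exact mul_one _
  rw [h1] at h
  rw [h]
  congr 2
  rw [MonAct.eqvHom.evalAt_app]
  show _ = t ≫ lift (toUnit T ≫ η[AMonS S N]) (𝟙 T) ≫ φ.1
  rw [comp_lift_assoc, Category.comp_id, ← Category.assoc t]
  congr 3
  exact toUnit_unique _ _

end

end Groth.Agent.Lib.Helper20MagnetSTD
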