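import Mathlib
import Groth.Prelude.Def_MeroSh
import Groth.Agent.S8898

/-!
# Regular sections (`Mero.regSub`) and pullbacks (helper20)

Namespace `Groth.Agent.Lib.Helper20.MeroPull`.
* `app_mem_regSub_of_forall_affine`: pullbacks of regular sections along `f` are regular as soon as `f` preserves
  nonzerodivisors on affine charts.
-/

set_option autoImplicit false
universe u
open CategoryTheory AlgebraicGeometry nonZeroDivisors TopologicalSpace

namespace Groth.Agent.Lib.Helper20.MeroPull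

theorem app_mem_regSub_of_forall_affine {X Y : Scheme.{u}} (f : X ⟶ Y)
    (H : ∀ (V : Y.Opens) (_ : IsAffineOpen V) (U' : X.Opens) (_ : IsAffineOpen U')
      (hU'V : U' ≤ f ⁻¹ᵁ V) (a : Γ(Y, V)), a ∈ Γ(Y, V)⁰ → (f.appLE V U' hU'V).hom a ∈ Γ(X, U')⁰)
    (U : Y.Opens) (s : Γ(Y, U)) (hs : s ∈ Mero.regSub Y U) :
    f.app U s ∈ Mero.regSub X (f ⁻¹ᵁ U) := by
  intro x'
  obtain ⟨V, hV, hxV, hVU0⟩ := exists_isAffineOpen_mem_and_subset (x := f x'.1) (U := U) x'.2
  have hVU : V ≤ U := hVU0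
  have hsV : (Y.presheaf.map (homOfLE hVU).op).hom s ∈ Γ(Y, V)⁰ :=
    Groth.Agent.S8898.mem_nonZeroDivisors_of_germ _ (Mero.regSub_res (homOfLE hVU) hs)
  obtain ⟨U', hU', hx'U', hU'V0⟩ := exists_isAffineOpen_mem_and_subset (x := x'.1) (U := f ⁻¹ᵁ V) hxV
  have hU'V : U' ≤ f ⁻¹ᵁ V := hU'V0
  have hβ := H V hV U' hU' hU'V _ hsV
  have hgerm := Groth.Agent.S8898.germ_mem_nonZeroDivisors hU' _ hβ ⟨x'.1, hx'U'⟩
  have hU'U : U' ≤ f ⁻¹ᵁ U := hU'V.trans (fun z hz => hVU hz)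
  have hcompat : (f.appLE V U' hU'V).hom ((Y.presheaf.map (homOfLE hVU).op).hom s) =
      (X.presheaf.map (homOfLE hU'U).op).hom ((f.app U).hom s) := by
    have h1 : Y.presheaf.map (homOfLE hVU).op ≫ f.appLE V U' hU'V = f.appLE U U' hU'U :=
      Scheme.Hom.map_appLE f hU'V (homOfLE hVU).op
    have h2 : f.appLE U U' hU'U = f.app U ≫ X.presheaf.map (homOfLE hU'U).op := rfl
    have := congrArg (fun q => q.hom s) (h1.trans h2)
    exact this
  rw [hcompat] at hgerm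
  change X.presheaf.germ (f ⁻¹ᵁ U) x'.1 x'.2 ((f.app U).hom s) ∈ _
  have h3 := TopCat.Presheaf.germ_res_apply X.presheaf (homOfLE hU'U) x'.1 hx'U' ((f.app U).hom s)
  rw [← h3]
  exact hgerm

end Groth.Agent.Lib.Helper20.MeroPull
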