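import Groth.Prelude.Def_MeroDiv
import Groth.Agent.Lib.Helper20Kmod3

/-!
# Morphisms and isomorphisms between `Mero.modOf` sheaves from pointwise linear maps (helper20)
-/

set_option autoImplicit false
universe u
open CategoryTheory CategoryTheory.Limits AlgebraicGeometry TopologicalSpace Opposite

namespace Groth.Agent.Lib.Helper20.ModOf

open Mero

variable {X : Scheme.{u}}
variable {T T' : X → Type u} [∀ x, AddCommGroup (T x)] [∀ x, Module (X.presheaf.stalk x) (T x)]
  [∀ x, AddCommGroup (T' x)] [∀ x, Module (X.presheaf.stalk x) (T' x)]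
variable (P : TopCat.LocalPredicate T) [IsModPred P] (P' : TopCat.LocalPredicate T') [IsModPred P']

/-- a morphism between `modOf` sheaves from a family of pointwise linear maps preserving the predicates. -/
noncomputable def modOfHom (φ : ∀ x : X, T x →ₗ[X.presheaf.stalk x] T' x)
    (hφ : ∀ (U : X.Opens) (f : ∀ x : U, T x.1), P.pred f → P'.pred fun x => φ x.1 (f x)) :
    modOf P ⟶ modOf P' :=
  ⟨PresheafOfModules.homMk (M₁ := (modOf P).val) (M₂ := (modOf P').val)
    { app := fun U => AddCommGrpCat.ofHom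
        { toFun := fun (f : Γ(modOf P, U.unop)) =>
            (⟨fun x => φ x.1 (f.1 x), hφ U.unop f.1 f.2⟩ : Γ(modOf P', U.unop))
          map_zero' := Subtype.ext (funext fun x => map_zero (φ x.1))
          map_add' := fun f g => Subtype.ext (funext fun x => map_add (φ x.1) (f.1 x) (g.1 x)) }
      naturality := by intros; rfl }
    (fun U r f => Subtype.ext (funext fun x => map_smul (φ x.1) _ (f.1 x)))⟩

theorem modOfHom_app_apply (φ : ∀ x : X, T x →ₗ[X.presheaf.stalk x] T' x)
    (hφ : ∀ (U : X.Opens) (f : ∀ x : U, T x.1), P.pred f → P'.pred fun x => φ x.1 (f x))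
    (U : X.Opens) (f : Γ(modOf P, U)) (x : U) :
    ((modOfHom P P' φ hφ).app U f).1 x = φ x.1 (f.1 x) := rfl

/-- an isomorphism between `modOf` sheaves from pointwise inverse linear maps. -/
noncomputable def modOfIso (φ : ∀ x : X, T x →ₗ[X.presheaf.stalk x] T' x)
    (ψ : ∀ x : X, T' x →ₗ[X.presheaf.stalk x] T x)
    (hφ : ∀ (U : X.Opens) (f : ∀ x : U, T x.1), P.pred f → P'.pred fun x => φ x.1 (f x))
    (hψ : ∀ (U : X.Opens) (f : ∀ x : U, T' x.1), P'.pred f → P.pred fun x => ψ x.1 (f x))
    (h1 : ∀ x t, ψ x (φ x t) = t) (h2 : ∀ x t, φ x (ψ x t) = t) :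
    modOf P ≅ modOf P' where
  hom := modOfHom P P' φ hφ
  inv := modOfHom P' P ψ hψ
  hom_inv_id := by
    ext U f
    exact Subtype.ext (funext fun x => h1 x.1 (f.1 x))
  inv_hom_id := by
    ext U f
    exact Subtype.ext (funext fun x => h2 x.1 (f.1 x))


end Groth.Agent.Lib.Helper20.ModOf
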