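import Groth.Agent.Lib.Helper20RegMero
import Groth.Agent.Lib.Helper20ModOf
import Groth.Agent.Lib.Helper20Kmod5
import Groth.Agent.Lib.Helper20AbsCurve

/-!
# Invertible modules with a regular meromorphic section are `O_X(D)` (helper20)
-/
set_option autoImplicit false
universe u
open CategoryTheory CategoryTheory.Limits AlgebraicGeometry TopologicalSpace Opposite

namespace Groth.Agent.Lib.Helper20.MeroDivIso

set_option linter.style.haveILetI false
open Mero Groth.Agent.Lib.Helper2.QCoh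

variable {X : Scheme.{u}}

section General

variable {T : X → Type u} [∀ x, AddCommGroup (T x)] [∀ x, Module (X.presheaf.stalk x) (T x)]
  (P : TopCat.LocalPredicate T) [IsModPred P] (L : X.Modules)
  (φ : ∀ x : X, L.presheaf.stalk x →ₗ[X.presheaf.stalk x] T x)
  (h1 : ∀ (U : X.Opens) (m : Γ(L, U)), P.pred (fun x : U => φ x.1 (L.presheaf.germ U x.1 x.2 m)))

/-- a morphism into a `modOf` sheaf from a family of linear maps on stalks. -/
noncomputable def toModOf : L ⟶ modOf P :=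
  ⟨PresheafOfModules.homMk (M₁ := L.val) (M₂ := (modOf P).val)
    { app := fun U => AddCommGrpCat.ofHom
        { toFun := fun (m : Γ(L, U.unop)) =>
            (⟨fun x => φ x.1 (L.presheaf.germ U.unop x.1 x.2 m), h1 U.unop m⟩ : Γ(modOf P, U.unop))
          map_zero' := Subtype.ext (funext fun x =>
            map_zero ((φ x.1).toAddMonoidHom.comp (L.presheaf.germ U.unop x.1 x.2).hom))
          map_add' := fun m m' => Subtype.ext (funext fun x =>
            map_add ((φ x.1).toAddMonoidHom.comp (L.presheaf.germ U.unop x.1 x.2).hom) m m') }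
      naturality := by
        intro U V i
        ext m
        refine Subtype.ext (funext fun x => ?_)
        change φ x.1 (L.presheaf.germ V.unop x.1 x.2 (L.presheaf.map i m)) =
          φ x.1 (L.presheaf.germ U.unop x.1 (i.unop.le x.2) m)
        rw [TopCat.Presheaf.germ_res_apply' L.presheaf i x.1 x.2 m] }
    (fun U r m => Subtype.ext (funext fun x => by
      change φ x.1 (L.presheaf.germ U.unop x.1 x.2 (r • m)) =
        X.presheaf.germ U.unop x.1 x.2 r • φ x.1 (L.presheaf.germ U.unop x.1 x.2 m)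
      rw [← map_smul]
      congr 1
      exact germ_smul L x.1 U.unop x.2 r m))⟩

theorem toModOf_app_apply (U : X.Opens) (m : Γ(L, U)) (x : U) :
    ((toModOf P L φ h1).app U m).1 x = φ x.1 (L.presheaf.germ U x.1 x.2 m) := rfl

include h1 in
/-- criterion for `toModOf` to be an isomorphism. -/
theorem isIso_toModOf (h2 : ∀ x, Function.Injective (φ x))
    (h3 : ∀ (U : X.Opens) (f : ∀ x : U, T x.1), P.pred f → ∀ x : U,
      ∃ (V : X.Opens) (_ : x.1 ∈ V) (hVU : V ≤ U) (m : Γ(L, V)),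
        ∀ y : V, φ y.1 (L.presheaf.germ V y.1 y.2 m) = f ⟨y.1, hVU y.2⟩) :
    IsIso (toModOf P L φ h1) := by
  let F : TopCat.Sheaf Ab X := ⟨L.presheaf, L.isSheaf⟩
  rw [Scheme.Modules.Hom.isIso_iff_isIso_app]
  intro U
  rw [ConcreteCategory.isIso_iff_bijective]
  constructor
  · intro m m' hmm'
    apply TopCat.Presheaf.section_ext F U
    intro x hx
    apply h2 x
    have := congrArg (fun g : Γ(modOf P, U) => g.1 ⟨x, hx⟩) hmm'
    exact this
  · intro f
    let f' : Γ(modOf P, U) := f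
    choose V hxV hVU m hm using h3 U f'.1 f'.2
    have hcov : U ≤ ⨆ x : U, V x := fun y hy => Opens.mem_iSup.2 ⟨⟨y, hy⟩, hxV ⟨y, hy⟩⟩
    have hcompat : TopCat.Presheaf.IsCompatible L.presheaf V m := by
      intro x x'
      apply TopCat.Presheaf.section_ext F
      intro z hz
      apply h2 z
      change φ z (L.presheaf.germ _ z hz (L.presheaf.map (homOfLE inf_le_left).op (m x))) =
        φ z (L.presheaf.germ _ z hz (L.presheaf.map (homOfLE inf_le_right).op (m x')))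
      rw [TopCat.Presheaf.germ_res_apply, TopCat.Presheaf.germ_res_apply]
      exact (hm x ⟨z, hz.1⟩).trans (hm x' ⟨z, hz.2⟩).symm
    obtain ⟨m0, hm0, -⟩ := F.existsUnique_gluing' V U (fun x => homOfLE (hVU x)) hcov m hcompat
    let m1 : Γ(L, U) := m0
    have hm1 : ∀ i : U, L.presheaf.map (homOfLE (hVU i)).op m1 = m i := hm0
    refine ⟨m1, ?_⟩
    refine Subtype.ext (funext fun y => ?_)
    change φ y.1 (L.presheaf.germ U y.1 y.2 m1) = f'.1 y
    rw [← TopCat.Presheaf.germ_res_apply L.presheaf (homOfLE (hVU y)) y.1 (hxV y) m1, hm1 y]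
    exact hm y ⟨y.1, hxV y⟩

end General

section Main

open Groth.Agent.Lib.Helper20.RegMero Groth.Agent.Lib.Helper20.InvGen

variable (L : X.Modules) (s : Γ(merMod L, ⊤))

/-- local structure of a (regular) meromorphic section: `s = (a / b) • t` with `t` a generator, `a`, `b` regular. -/
structure LS where
  /-- the open -/
  V : X.Opens
  /-- the generator -/
  t : Γ(L, V)
  ht : ∀ (y : X) (hy : y ∈ V), IsGen L y (L.presheaf.germ V y hy t)
  /-- numerator -/
  a : Γ(X, V)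
  /-- denominator -/
  b : Γ(X, V)
  ha : a ∈ regSub X V
  hb : b ∈ regSub X V
  hs : ∀ (y : X) (hy : y ∈ V), s.1 ⟨y, Opens.mem_top y⟩ =
    LocalizedModule.mk (L.presheaf.germ V y hy (a • t)) (regGerm (⟨y, hy⟩ : V) ⟨b, hb⟩)

variable {L s} in
theorem exists_LS (hR : ∀ x : X, regStalk X x = nonZeroDivisors (X.presheaf.stalk x))
    (hL : PicF.IsInvertible L) (hs : IsRegularMero L s) (x₀ : X) : ∃ D : LS L s, x₀ ∈ D.V := by
  obtain ⟨V₁, hx₁, i₁, m, b, hmb⟩ := s.2 ⟨x₀, Opens.mem_top x₀⟩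
  obtain ⟨W, t₀, hxW, ht₀⟩ := exists_local_generator L hL x₀
  obtain ⟨c, hc⟩ := (ht₀ x₀ hxW).2 (L.presheaf.germ V₁ x₀ hx₁ m)
  have hc' : c • L.presheaf.germ W x₀ hxW t₀ = L.presheaf.germ V₁ x₀ hx₁ m := hc
  -- `c` is a nonzerodivisor
  have hcnzd : c ∈ nonZeroDivisors (X.presheaf.stalk x₀) := by
    rw [mem_nonZeroDivisors_iff_right]
    intro p hp
    have h1 : (algebraMap (X.presheaf.stalk x₀) (KStalk X x₀) p) • s.1 ⟨x₀, Opens.mem_top x₀⟩ = 0 := by
      have h2 := hmb ⟨x₀, hx₁⟩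
      change s.1 ⟨x₀, _⟩ = _ at h2
      rw [h2, algebraMap_smul, LocalizedModule.smul'_mk]
      change LocalizedModule.mk (p • L.presheaf.germ V₁ x₀ hx₁ m) _ = 0
      rw [← hc', smul_smul, hp, zero_smul, LocalizedModule.zero_mk]
    have h3 := hs x₀ _ h1
    exact algebraMap_KStalk_injective x₀ (h3.trans (map_zero _).symm)
  rw [← hR x₀] at hcnzd
  obtain ⟨V₅, hx₅, a', ha', ha'c⟩ := hcnzd
  -- compare on a common open
  set V₇ : X.Opens := V₁ ⊓ W ⊓ V₅ with hV₇
  have hx₇ : x₀ ∈ V₇ := ⟨⟨hx₁, hxW⟩, hx₅⟩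
  have h7W : V₇ ≤ W := fun y hy => hy.1.2
  have h75 : V₇ ≤ V₅ := fun y hy => hy.2
  set t₇ := L.presheaf.map (homOfLE h7W).op t₀ with ht₇
  set a₇ := X.presheaf.map (homOfLE h75).op a' with ha₇
  have hgerm : L.presheaf.germ V₇ x₀ hx₇ (a₇ • t₇) = L.presheaf.germ V₁ x₀ hx₁ m := by
    rw [Mero.germ_smul, ha₇, ht₇, TopCat.Presheaf.germ_res_apply, TopCat.Presheaf.germ_res_apply,
      ha'c, hc']
  obtain ⟨V, hxV, iU, iV, hUV⟩ := TopCat.Presheaf.germ_eq L.presheaf x₀ hx₇ hx₁ _ _ hgerm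
  have hUV' : X.presheaf.map iU.op a₇ • L.presheaf.map iU.op t₇ = L.presheaf.map iV.op m := by
    rw [← Scheme.Modules.map_smul]; exact hUV
  have ha₇reg : a₇ ∈ regSub X V₇ := regSub_res _ ha'
  refine ⟨⟨V, L.presheaf.map iU.op t₇, ?_, X.presheaf.map iU.op a₇, X.presheaf.map iV.op b.1,
    regSub_res _ ha₇reg, regSub_res _ b.2, ?_⟩, hxV⟩
  · have h1 := generator_res L h7W t₀ ht₀
    have h2 := generator_res L (leOfHom iU) t₇ h1
    exact h2
  · intro y hy
    have h2 := hmb ⟨y, leOfHom iV hy⟩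
    change s.1 ⟨y, _⟩ = _ at h2
    rw [h2, hUV']
    exact mk_congr (TopCat.Presheaf.germ_res_apply L.presheaf iV y hy m).symm
      (TopCat.Presheaf.germ_res_apply X.presheaf iV y hy b.1).symm

variable {L s}

theorem smul_injective (hs : IsRegularMero L s) (x : X) (q q' : KStalk X x)
    (h : q • s.1 ⟨x, Opens.mem_top x⟩ = q' • s.1 ⟨x, Opens.mem_top x⟩) : q = q' := by
  have h0 : (q - q') • s.1 ⟨x, Opens.mem_top x⟩ = 0 := by rw [sub_smul, h, sub_self]
  exact sub_eq_zero.1 (hs x _ h0)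

/-- the quotient `(c • t) / s` is `c b / a`. -/
theorem LS.smul_eq (D : LS L s) (y : X) (hy : y ∈ D.V) (c : X.presheaf.stalk y) :
    (Localization.mk (c * X.presheaf.germ D.V y hy D.b)
      ⟨X.presheaf.germ D.V y hy D.a, germ_mem_regStalk (⟨y, hy⟩ : D.V) D.ha⟩ : KStalk X y) •
        s.1 ⟨y, Opens.mem_top y⟩ =
      LocalizedModule.mkLinearMap (regStalk X y) (L.presheaf.stalk y)
        (c • L.presheaf.germ D.V y hy D.t) := by
  rw [D.hs y hy, LocalizedModule.mk_smul_mk, LocalizedModule.mkLinearMap_apply, LocalizedModule.mk_eq]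
  refine ⟨1, ?_⟩
  rw [one_smul, one_smul, one_smul, Mero.germ_smul]
  change (c * X.presheaf.germ D.V y hy D.b) • X.presheaf.germ D.V y hy D.a •
      L.presheaf.germ D.V y hy D.t =
    (X.presheaf.germ D.V y hy D.a * X.presheaf.germ D.V y hy D.b) • c •
      L.presheaf.germ D.V y hy D.t
  rw [smul_smul, smul_smul]
  congr 1
  ring

theorem exists_quot (D : LS L s) (y : X) (hy : y ∈ D.V) (m : L.presheaf.stalk y) :
    ∃ q : KStalk X y, q • s.1 ⟨y, Opens.mem_top y⟩ =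
      LocalizedModule.mkLinearMap (regStalk X y) (L.presheaf.stalk y) m := by
  obtain ⟨c, hc⟩ := (D.ht y hy).2 m
  have hc' : c • L.presheaf.germ D.V y hy D.t = m := hc
  exact ⟨_, hc' ▸ D.smul_eq y hy c⟩

/-- the standing hypotheses. -/
structure Setup (L : X.Modules) (s : Γ(merMod L, ⊤)) : Prop where
  hR : ∀ x : X, regStalk X x = nonZeroDivisors (X.presheaf.stalk x)
  hL : PicF.IsInvertible L
  hs : IsRegularMero L s

variable (H : Setup L s)

/-- chosen local structure at a point. -/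
noncomputable def Dat (x : X) : LS L s := Classical.choose (exists_LS H.hR H.hL H.hs x)

theorem mem_Dat (x : X) : x ∈ (Dat H x).V := Classical.choose_spec (exists_LS H.hR H.hL H.hs x)

/-- division by `s` on the stalk at `x`. -/
noncomputable def quotFun (x : X) (m : L.presheaf.stalk x) : KStalk X x :=
  Classical.choose (exists_quot (Dat H x) x (mem_Dat H x) m)

theorem quotFun_spec (x : X) (m : L.presheaf.stalk x) :
    quotFun H x m • s.1 ⟨x, Opens.mem_top x⟩ =
      LocalizedModule.mkLinearMap (regStalk X x) (L.presheaf.stalk x) m :=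
  Classical.choose_spec (exists_quot (Dat H x) x (mem_Dat H x) m)

/-- division by `s`, as a linear map. -/
noncomputable def quot (x : X) : L.presheaf.stalk x →ₗ[X.presheaf.stalk x] KStalk X x where
  toFun := quotFun H x
  map_add' m m' := by
    apply smul_injective H.hs x
    rw [add_smul, quotFun_spec, quotFun_spec, quotFun_spec, map_add]
  map_smul' r m := by
    apply smul_injective H.hs x
    rw [RingHom.id_apply, smul_assoc, quotFun_spec, quotFun_spec, map_smul]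

theorem quot_spec (x : X) (m : L.presheaf.stalk x) :
    quot H x m • s.1 ⟨x, Opens.mem_top x⟩ =
      LocalizedModule.mkLinearMap (regStalk X x) (L.presheaf.stalk x) m := quotFun_spec H x m

theorem quot_eq (D : LS L s) (y : X) (hy : y ∈ D.V) (c : X.presheaf.stalk y) :
    quot H y (c • L.presheaf.germ D.V y hy D.t) =
      Localization.mk (c * X.presheaf.germ D.V y hy D.b)
        ⟨X.presheaf.germ D.V y hy D.a, germ_mem_regStalk (⟨y, hy⟩ : D.V) D.ha⟩ := by
  apply smul_injective H.hs y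
  rw [quot_spec, D.smul_eq y hy c]

theorem quot_injective (x : X) : Function.Injective (quot H x) := by
  rw [injective_iff_map_eq_zero]
  intro m hm
  obtain ⟨c, hc⟩ := ((Dat H x).ht x (mem_Dat H x)).2 m
  have hc' : c • L.presheaf.germ (Dat H x).V x (mem_Dat H x) (Dat H x).t = m := hc
  rw [← hc', quot_eq H (Dat H x) x (mem_Dat H x) c] at hm
  have h1 : c * X.presheaf.germ (Dat H x).V x (mem_Dat H x) (Dat H x).b = 0 :=
    (Groth.Agent.Lib.Helper20.Kmod.mk_eq_zero_iff _ _).1 hm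
  have h2 : c = 0 :=
    (mul_right_mem_nonZeroDivisors_eq_zero_iff ((Dat H x).hb ⟨x, mem_Dat H x⟩)).1 h1
  rw [← hc', h2, zero_smul]

open Groth.Agent.Lib.Helper20.Kmod in
/-- the unit `a / b` of `K_X(V)` of a local structure. -/
noncomputable def LS.unit (D : LS L s) : (Γ(kmod X, D.V))ˣ where
  val := toK X D.V D.a * invReg ⟨D.b, D.hb⟩
  inv := toK X D.V D.b * invReg ⟨D.a, D.ha⟩
  val_inv := by
    have ha : toK X D.V D.a * invReg ⟨D.a, D.ha⟩ = 1 := toK_mul_invReg (⟨D.a, D.ha⟩ : regSub X D.V)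
    have hb : toK X D.V D.b * invReg ⟨D.b, D.hb⟩ = 1 := toK_mul_invReg (⟨D.b, D.hb⟩ : regSub X D.V)
    calc toK X D.V D.a * invReg ⟨D.b, D.hb⟩ * (toK X D.V D.b * invReg ⟨D.a, D.ha⟩)
        = (toK X D.V D.a * invReg ⟨D.a, D.ha⟩) * (toK X D.V D.b * invReg ⟨D.b, D.hb⟩) := by ring
      _ = 1 := by rw [ha, hb, mul_one]
  inv_val := by
    have ha : toK X D.V D.a * invReg ⟨D.a, D.ha⟩ = 1 := toK_mul_invReg (⟨D.a, D.ha⟩ : regSub X D.V)
    have hb : toK X D.V D.b * invReg ⟨D.b, D.hb⟩ = 1 := toK_mul_invReg (⟨D.b, D.hb⟩ : regSub X D.V)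
    calc toK X D.V D.b * invReg ⟨D.a, D.ha⟩ * (toK X D.V D.a * invReg ⟨D.b, D.hb⟩)
        = (toK X D.V D.a * invReg ⟨D.a, D.ha⟩) * (toK X D.V D.b * invReg ⟨D.b, D.hb⟩) := by ring
      _ = 1 := by rw [ha, hb, mul_one]

open Groth.Agent.Lib.Helper20.Kmod in
/-- the value of the inverse unit is the quotient `t / s`. -/
theorem LS.inv_unit_apply (D : LS L s) (y : X) (hy : y ∈ D.V) :
    ((D.unit⁻¹ : (Γ(kmod X, D.V))ˣ) : Γ(kmod X, D.V)).1 ⟨y, hy⟩ =
      quot H y (L.presheaf.germ D.V y hy D.t) := by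
  have h1 := quot_eq H D y hy 1
  rw [one_smul] at h1
  rw [h1]
  change (toK X D.V D.b * invReg ⟨D.a, D.ha⟩).1 ⟨y, hy⟩ = _
  rw [Mero.kmod_mul_apply, Mero.toK_apply, invReg_apply]
  refine LocalizedModule.mk_mul_mk.trans ?_
  exact mk_congr (by rw [mul_one, one_mul]) (one_mul _)

include H in
/-- two local structures define the same germ of divisor. -/
theorem LS.germOf_unit_eq (D D' : LS L s) (y : X) (hy : y ∈ D.V) (hy' : y ∈ D'.V) :
    germOf D.unit ⟨y, hy⟩ = germOf D'.unit ⟨y, hy'⟩ := by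
  obtain ⟨u, hu⟩ := (D'.ht y hy').2 (L.presheaf.germ D.V y hy D.t)
  have hu' : u • L.presheaf.germ D'.V y hy' D'.t = L.presheaf.germ D.V y hy D.t := hu
  have huu : IsUnit u := isUnit_of_isGen (D.ht y hy) u hu'
  rw [germOf, germOf, QuotientGroup.eq]
  refine ⟨huu.unit, ?_⟩
  apply Units.ext
  rw [Units.val_mul]
  change algebraMap (X.presheaf.stalk y) (KStalk X y) u =
    ((D.unit⁻¹ : (Γ(kmod X, D.V))ˣ) : Γ(kmod X, D.V)).1 ⟨y, hy⟩ * (D'.unit : Γ(kmod X, D'.V)).1 ⟨y, hy'⟩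
  rw [D.inv_unit_apply H y hy, ← hu', map_smul, ← D'.inv_unit_apply H y hy', Algebra.smul_def, mul_assoc]
  have h1 : ((D'.unit⁻¹ : (Γ(kmod X, D'.V))ˣ) : Γ(kmod X, D'.V)).1 ⟨y, hy'⟩ *
      (D'.unit : Γ(kmod X, D'.V)).1 ⟨y, hy'⟩ = 1 := by
    rw [← Mero.kmod_mul_apply, Units.inv_mul, Mero.kmod_one_apply]
  rw [h1, mul_one]

/-- the divisor of `s`. -/
noncomputable def divisor : Divisor X :=
  ⟨fun x => germOf (Dat H x).unit ⟨x, mem_Dat H x⟩, fun x =>
    ⟨(Dat H x).V, mem_Dat H x, (Dat H x).unit, fun y =>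
      LS.germOf_unit_eq H (Dat H y.1) (Dat H x) y.1 (mem_Dat H y.1) y.2⟩⟩

theorem divisor_apply (D : LS L s) (y : X) (hy : y ∈ D.V) :
    (divisor H).1 y = germOf D.unit ⟨y, hy⟩ :=
  LS.germOf_unit_eq H (Dat H y) D y (mem_Dat H y) hy

/-- the quotient of a germ of a section is locally a fraction. -/
theorem kLoc_quot (U : X.Opens) (m : Γ(L, U)) :
    (kLoc X).pred (fun x : U => quot H x.1 (L.presheaf.germ U x.1 x.2 m)) := by
  intro x₀
  set D := Dat H x₀.1 with hD
  have hx₀D : x₀.1 ∈ D.V := mem_Dat H x₀.1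
  obtain ⟨c, hc⟩ := (D.ht x₀.1 hx₀D).2 (L.presheaf.germ U x₀.1 x₀.2 m)
  have hc' : c • L.presheaf.germ D.V x₀.1 hx₀D D.t = L.presheaf.germ U x₀.1 x₀.2 m := hc
  obtain ⟨V', hx', c', rfl⟩ := X.presheaf.exists_germ_eq c
  set W₀ : X.Opens := V' ⊓ D.V with hW₀
  have hxW₀ : x₀.1 ∈ W₀ := ⟨hx', hx₀D⟩
  set z : Γ(L, W₀) := X.presheaf.map (homOfLE (inf_le_left : W₀ ≤ V')).op c' •
    L.presheaf.map (homOfLE (inf_le_right : W₀ ≤ D.V)).op D.t with hz
  have hzgerm : ∀ (y : X) (hy : y ∈ W₀), L.presheaf.germ W₀ y hy z =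
      X.presheaf.germ V' y hy.1 c' • L.presheaf.germ D.V y hy.2 D.t := by
    intro y hy
    rw [hz, Mero.germ_smul, TopCat.Presheaf.germ_res_apply, TopCat.Presheaf.germ_res_apply]
  have hgerm : L.presheaf.germ W₀ x₀.1 hxW₀ z = L.presheaf.germ U x₀.1 x₀.2 m := by
    rw [hzgerm, hc']
  obtain ⟨V, hxV, iU, iV, hUV⟩ := TopCat.Presheaf.germ_eq L.presheaf x₀.1 hxW₀ x₀.2 _ _ hgerm
  have hVW₀ : V ≤ W₀ := leOfHom iU
  refine ⟨V, hxV, iV, X.presheaf.map (homOfLE (hVW₀.trans inf_le_left)).op c' *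
    X.presheaf.map (homOfLE (hVW₀.trans inf_le_right)).op D.b,
    ⟨X.presheaf.map (homOfLE (hVW₀.trans inf_le_right)).op D.a, regSub_res _ D.ha⟩, fun y => ?_⟩
  have hy₀ : y.1 ∈ W₀ := hVW₀ y.2
  have h1 : L.presheaf.germ U y.1 (leOfHom iV y.2) m =
      X.presheaf.germ V' y.1 hy₀.1 c' • L.presheaf.germ D.V y.1 hy₀.2 D.t := by
    rw [← TopCat.Presheaf.germ_res_apply L.presheaf iV y.1 y.2 m, ← hUV,
      TopCat.Presheaf.germ_res_apply L.presheaf iU y.1 y.2 z, hzgerm]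
  change quot H y.1 (L.presheaf.germ U y.1 (leOfHom iV y.2) m) = _
  rw [h1]
  refine (quot_eq H D y.1 hy₀.2 _).trans ?_
  refine mk_congr ?_ ?_
  · rw [map_mul, TopCat.Presheaf.germ_res_apply, TopCat.Presheaf.germ_res_apply]
  · exact (TopCat.Presheaf.germ_res_apply X.presheaf (homOfLE (hVW₀.trans inf_le_right)) y.1 y.2 D.a).symm

/-- the quotient of a germ satisfies the divisor condition. -/
theorem divCond_quot (x : X) (m : L.presheaf.stalk x) : DivCond (divisor H) x (quot H x m) := by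
  intro g hg
  set D := Dat H x with hD
  have hxD : x ∈ D.V := mem_Dat H x
  have hg' : germOf D.unit ⟨x, hxD⟩ = QuotientGroup.mk g := hg
  rw [germOf, QuotientGroup.eq] at hg'
  obtain ⟨u, hu⟩ := hg'
  have hu' : algebraMap (X.presheaf.stalk x) (KStalk X x) u =
      ((D.unit⁻¹ : (Γ(kmod X, D.V))ˣ) : Γ(kmod X, D.V)).1 ⟨x, hxD⟩ * (g : KStalk X x) := by
    have := congrArg Units.val hu
    rw [Units.val_mul] at this
    exact this
  obtain ⟨c, hc⟩ := (D.ht x hxD).2 m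
  have hc' : c • L.presheaf.germ D.V x hxD D.t = m := hc
  refine ⟨c * u, ?_⟩
  rw [← hc', map_smul, ← D.inv_unit_apply H x hxD, Algebra.smul_def, mul_assoc, ← hu', map_mul]

open Groth.Agent.Lib.Helper20.Kmod5 in
/-- sections of `O_X(D)` are locally quotients of sections of `L`. -/
theorem exists_local_preimage (U : X.Opens) (f : ∀ x : U, KStalk X x.1)
    (hf : (divLoc X (divisor H)).pred f) (x₀ : U) :
    ∃ (V : X.Opens) (_ : x₀.1 ∈ V) (hVU : V ≤ U) (m : Γ(L, V)),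
      ∀ y : V, quot H y.1 (L.presheaf.germ V y.1 y.2 m) = f ⟨y.1, hVU y.2⟩ := by
  set D := Dat H x₀.1 with hD
  have hx₀D : x₀.1 ∈ D.V := mem_Dat H x₀.1
  set V : X.Opens := D.V ⊓ U with hV
  let fV : Γ(kmod X, V) := ⟨fun y => f ⟨y.1, y.2.2⟩, (kLoc X).res (homOfLE inf_le_right) f hf.1⟩
  let uV : Γ(kmod X, V) := (kmod X).presheaf.map (homOfLE (inf_le_left : V ≤ D.V)).op
    (D.unit : Γ(kmod X, D.V))
  have huV : ∀ y : V, uV.1 y = (D.unit : Γ(kmod X, D.V)).1 ⟨y.1, y.2.1⟩ := fun y => rfl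
  have hrange : ∀ y : V, (fV * uV).1 y ∈
      (algebraMap (X.presheaf.stalk y.1) (KStalk X y.1)).range := by
    intro y
    rw [Mero.kmod_mul_apply, huV]
    exact hf.2 ⟨y.1, y.2.2⟩ (Units.map (evalK X D.V ⟨y.1, y.2.1⟩).toMonoidHom D.unit)
      (divisor_apply H D y.1 y.2.1)
  obtain ⟨r, hr⟩ := exists_toK_eq (fV * uV) hrange
  refine ⟨V, ⟨hx₀D, x₀.2⟩, inf_le_right,
    r • L.presheaf.map (homOfLE (inf_le_left : V ≤ D.V)).op D.t, fun y => ?_⟩
  rw [Mero.germ_smul, TopCat.Presheaf.germ_res_apply, map_smul, ← D.inv_unit_apply H y.1 y.2.1,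
    Algebra.smul_def, Groth.Agent.S10856.algebraMap_eq_mk, ← Mero.toK_apply, hr, Mero.kmod_mul_apply,
    huV, mul_assoc]
  have h1 : (D.unit : Γ(kmod X, D.V)).1 ⟨y.1, y.2.1⟩ *
      ((D.unit⁻¹ : (Γ(kmod X, D.V))ˣ) : Γ(kmod X, D.V)).1 ⟨y.1, y.2.1⟩ = 1 := by
    rw [← Mero.kmod_mul_apply, Units.mul_inv, Mero.kmod_one_apply]
  rw [h1, mul_one]

include H in
/-- an invertible module with a regular meromorphic section is `O_X(D)`. -/
theorem exists_iso_divMod : ∃ D : Divisor X, Nonempty (L ≅ divMod D) := by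
  refine ⟨divisor H, ?_⟩
  have h1 : ∀ (U : X.Opens) (m : Γ(L, U)), (divLoc X (divisor H)).pred
      (fun x : U => quot H x.1 (L.presheaf.germ U x.1 x.2 m)) :=
    fun U m => ⟨kLoc_quot H U m, fun x => divCond_quot H x.1 _⟩
  have hiso : IsIso (toModOf (divLoc X (divisor H)) L (quot H) h1) :=
    isIso_toModOf (divLoc X (divisor H)) L (quot H) h1 (quot_injective H)
      (fun U f hf x => exists_local_preimage H U f hf x)
  exact ⟨@asIso _ _ _ _ _ hiso⟩

end Main

end Groth.Agent.Lib.Helper20.MeroDivIso
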