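import Groth.Prelude.Def_W4c1hilbpnTgt
import Mathlib.RingTheory.Noetherian.Basic
import Mathlib.FieldTheory.Finiteness
import Mathlib.RingTheory.Finiteness.Defs

set_option autoImplicit false
universe u

namespace Groth.Agent.Lib.Helper20

open W4c1hilbpn MvPolynomial

/-- monomials outside a monomial ideal are linearly independent modulo the ideal -/
theorem linearIndependent_monomial_compl_exps {σ : Type*} {k : Type*} [Field k]
    (I : Ideal (MvPolynomial σ k)) (hI : IsMonomial I) :
    LinearIndependent k (fun β : {β : σ →₀ ℕ // β ∉ exps I} =>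
      Ideal.Quotient.mk I (monomial β.1 (1 : k))) := by
  classical
  rw [linearIndependent_iff']
  intro s g hsum β0 hβ0
  by_contra hne
  have h1 : (∑ β ∈ s, g β • Ideal.Quotient.mk I (monomial β.1 (1 : k))) =
      Ideal.Quotient.mk I (∑ β ∈ s, monomial β.1 (g β)) := by
    rw [map_sum]
    apply Finset.sum_congr rfl
    intro β _
    rw [← Ideal.Quotient.mkₐ_eq_mk k, ← map_smul, smul_monomial, smul_eq_mul, mul_one]
  rw [h1, Ideal.Quotient.eq_zero_iff_mem] at hsum
  have hcoeff : coeff β0.1 (∑ β ∈ s, monomial β.1 (g β)) = g β0 := by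
    rw [coeff_sum]
    rw [Finset.sum_eq_single β0]
    · simp
    · intro b _ hb
      rw [coeff_monomial, if_neg]
      intro hbb
      exact hb (Subtype.ext hbb)
    · intro h; exact absurd hβ0 h
  have hsupp : β0.1 ∈ (∑ β ∈ s, monomial β.1 (g β)).support := by
    rw [mem_support_iff, hcoeff]
    exact hne
  exact β0.2 (hI _ hsum _ hsupp)

theorem finite_compl_exps {σ : Type*} {k : Type*} [Field k]
    (I : Ideal (MvPolynomial σ k)) (hI : IsMonomial I) [Module.Finite k (MvPolynomial σ k ⧸ I)] :
    Finite {β : σ →₀ ℕ // β ∉ exps I} :=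
  (linearIndependent_monomial_compl_exps I hI).finite_of_isNoetherian

lemma e3_zero (a b c : ℕ) : e3 a b c 0 = a := by simp [e3]
lemma e3_one (a b c : ℕ) : e3 a b c 1 = b := by simp [e3]
lemma e3_two (a b c : ℕ) : e3 a b c 2 = c := by simp [e3]

lemma e3_ext {β γ : Fin 3 →₀ ℕ} (h0 : β 0 = γ 0) (h1 : β 1 = γ 1) (h2 : β 2 = γ 2) : β = γ := by
  ext i
  fin_cases i
  · exact h0
  · exact h1
  · exact h2

end Groth.Agent.Lib.Helper20
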