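import Mathlib

set_option autoImplicit false
universe v u

open CategoryTheory CategoryTheory.Limits

namespace Groth.Agent.Lib.Helper20.NeronCat

variable {C : Type u} [Category.{v} C] [HasPullbacks C] {X Y : C} (f : X ⟶ Y)

/-- Unique extension property: every `Y`-morphism `Z ×_Y X ⟶ N` extends uniquely to `Z ⟶ N`. -/
def Ext (Z N : Over Y) : Prop :=
  ∀ u : pullback Z.hom f ⟶ N.left, u ≫ N.hom = pullback.fst Z.hom f ≫ Z.hom →
    ∃! g : Z ⟶ N, pullback.fst Z.hom f ≫ g.left = u

theorem pullback_map_left_fst {Z N : Over Y} (g : Z ⟶ N) :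
    ((Over.pullback f).map g).left ≫ pullback.fst N.hom f = pullback.fst Z.hom f ≫ g.left := by
  dsimp [Over.pullback]
  exact pullback.lift_fst _ _ _

theorem pullback_obj_hom_ext {W : Over X} {N : Over Y} (a b : W ⟶ (Over.pullback f).obj N)
    (h : a.left ≫ pullback.fst N.hom f = b.left ≫ pullback.fst N.hom f) : a = b := by
  apply Over.OverMorphism.ext
  apply pullback.hom_ext h
  have ha := Over.w a
  have hb := Over.w b
  simp only [Over.pullback, Over.mk_hom] at ha hb
  rw [ha, hb]

theorem bijective_map_iff (Z N : Over Y) :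
    Function.Bijective (fun g : Z ⟶ N => (Over.pullback f).map g) ↔ Ext f Z N := by
  constructor
  · rintro ⟨hinj, hsurj⟩ u hu
    let a : (Over.pullback f).obj Z ⟶ (Over.pullback f).obj N :=
      Over.homMk (pullback.lift u (pullback.snd Z.hom f) (by rw [hu, pullback.condition]))
        (by dsimp [Over.pullback]; exact pullback.lift_snd _ _ _)
    have ha : a.left ≫ pullback.fst N.hom f = u := by
      dsimp [a]
      exact pullback.lift_fst _ _ _
    obtain ⟨g, hg⟩ := hsurj a
    refine ⟨g, ?_, ?_⟩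
    · change pullback.fst Z.hom f ≫ g.left = u
      rw [← pullback_map_left_fst, ← ha]
      exact congrArg (fun t => t.left ≫ pullback.fst N.hom f) hg
    · intro g' hg'
      apply hinj
      change (Over.pullback f).map g' = (Over.pullback f).map g
      have hg2 : (Over.pullback f).map g = a := hg
      rw [hg2]
      apply pullback_obj_hom_ext
      rw [pullback_map_left_fst, ha, hg']
  · intro h
    constructor
    · intro g₁ g₂ h12
      have h12' : (Over.pullback f).map g₁ = (Over.pullback f).map g₂ := h12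
      have hu : (pullback.fst Z.hom f ≫ g₁.left) ≫ N.hom = pullback.fst Z.hom f ≫ Z.hom := by
        rw [Category.assoc, Over.w]
      obtain ⟨g, -, hguniq⟩ := h _ hu
      have e2 : pullback.fst Z.hom f ≫ g₂.left = pullback.fst Z.hom f ≫ g₁.left := by
        rw [← pullback_map_left_fst, ← pullback_map_left_fst, h12']
      rw [hguniq g₁ rfl, hguniq g₂ e2]
    · intro a
      have hu : (a.left ≫ pullback.fst N.hom f) ≫ N.hom = pullback.fst Z.hom f ≫ Z.hom := by
        have ha := Over.w a
        simp only [Over.pullback, Over.mk_hom] at ha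
        rw [Category.assoc, pullback.condition, ← Category.assoc, ha, pullback.condition]
      obtain ⟨g, hg, -⟩ := h _ hu
      refine ⟨g, ?_⟩
      apply pullback_obj_hom_ext
      rw [pullback_map_left_fst, hg]

variable {f}

theorem Ext.unique {Z N : Over Y} (h : Ext f Z N) (g₁ g₂ : Z ⟶ N)
    (h12 : pullback.fst Z.hom f ≫ g₁.left = pullback.fst Z.hom f ≫ g₂.left) : g₁ = g₂ := by
  have hu : (pullback.fst Z.hom f ≫ g₁.left) ≫ N.hom = pullback.fst Z.hom f ≫ Z.hom := by
    rw [Category.assoc, Over.w]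
  obtain ⟨g, -, hguniq⟩ := h _ hu
  rw [hguniq g₁ rfl, hguniq g₂ h12.symm]

theorem Ext.unique_left {Z N : Over Y} (h : Ext f Z N) (v₁ v₂ : Z.left ⟶ N.left)
    (h₁ : v₁ ≫ N.hom = Z.hom) (h₂ : v₂ ≫ N.hom = Z.hom)
    (h12 : pullback.fst Z.hom f ≫ v₁ = pullback.fst Z.hom f ≫ v₂) : v₁ = v₂ :=
  congrArg (fun t => t.left) (h.unique (Over.homMk v₁ h₁) (Over.homMk v₂ h₂) h12)

theorem Ext.prod {Z N M : Over Y} (hN : Ext f Z N) (hM : Ext f Z M) :
    Ext f Z (Over.mk (pullback.fst N.hom M.hom ≫ N.hom)) := by
  intro u hu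
  have hu' : u ≫ pullback.fst N.hom M.hom ≫ N.hom = pullback.fst Z.hom f ≫ Z.hom := hu
  have huN : (u ≫ pullback.fst N.hom M.hom) ≫ N.hom = pullback.fst Z.hom f ≫ Z.hom := by
    rw [Category.assoc, hu']
  have huM : (u ≫ pullback.snd N.hom M.hom) ≫ M.hom = pullback.fst Z.hom f ≫ Z.hom := by
    rw [Category.assoc, ← pullback.condition, hu']
  obtain ⟨gN, hgN, -⟩ := hN _ huN
  obtain ⟨gM, hgM, -⟩ := hM _ huM
  have hwN : gN.left ≫ N.hom = Z.hom := Over.w gN
  have hwM : gM.left ≫ M.hom = Z.hom := Over.w gM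
  let g : Z ⟶ Over.mk (pullback.fst N.hom M.hom ≫ N.hom) :=
    Over.homMk (pullback.lift gN.left gM.left (by rw [hwN, hwM])) (by
      change pullback.lift _ _ _ ≫ pullback.fst N.hom M.hom ≫ N.hom = Z.hom
      rw [pullback.lift_fst_assoc, hwN])
  have hg1 : g.left ≫ pullback.fst N.hom M.hom = gN.left := pullback.lift_fst _ _ _
  have hg2 : g.left ≫ pullback.snd N.hom M.hom = gM.left := pullback.lift_snd _ _ _
  refine ⟨g, ?_, ?_⟩
  · change pullback.fst Z.hom f ≫ g.left = u
    apply pullback.hom_ext
    · rw [Category.assoc, hg1, hgN]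
    · rw [Category.assoc, hg2, hgM]
  · intro g' hg'
    have hg'' : pullback.fst Z.hom f ≫ g'.left = u := hg'
    have hw' : g'.left ≫ pullback.fst N.hom M.hom ≫ N.hom = Z.hom := Over.w g'
    have e1 : g'.left ≫ pullback.fst N.hom M.hom = gN.left := by
      apply hN.unique_left _ _ (by rw [Category.assoc, hw']) hwN
      rw [hgN, ← Category.assoc, hg'']
    have e2 : g'.left ≫ pullback.snd N.hom M.hom = gM.left := by
      apply hM.unique_left _ _ (by rw [Category.assoc, ← pullback.condition, hw']) hwM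
      rw [hgM, ← Category.assoc, hg'']
    apply Over.OverMorphism.ext
    apply pullback.hom_ext
    · rw [hg1, e1]
    · rw [hg2, e2]

theorem Ext.fibre {Z G H : Over Y} (hG : Ext f Z G) (hH : Ext f Z H) (φ : G ⟶ H)
    (e : Y ⟶ H.left) (he : e ≫ H.hom = 𝟙 Y) :
    Ext f Z (Over.mk (pullback.snd φ.left e)) := by
  intro u hu
  have hu' : u ≫ pullback.snd φ.left e = pullback.fst Z.hom f ≫ Z.hom := hu
  have hφ : φ.left ≫ H.hom = G.hom := Over.w φ
  have huG : (u ≫ pullback.fst φ.left e) ≫ G.hom = pullback.fst Z.hom f ≫ Z.hom := by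
    rw [Category.assoc, ← hφ, ← Category.assoc (pullback.fst φ.left e), pullback.condition,
      Category.assoc, he, Category.comp_id, hu']
  obtain ⟨gG, hgG, -⟩ := hG _ huG
  have hwG : gG.left ≫ G.hom = Z.hom := Over.w gG
  have hcomp : gG.left ≫ φ.left = Z.hom ≫ e := by
    apply hH.unique_left _ _ (by rw [Category.assoc, hφ, hwG])
      (by rw [Category.assoc, he, Category.comp_id])
    rw [← Category.assoc, hgG, Category.assoc, pullback.condition, ← Category.assoc, hu',
      Category.assoc]
  let g : Z ⟶ Over.mk (pullback.snd φ.left e) :=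
    Over.homMk (pullback.lift gG.left Z.hom hcomp) (by
      change pullback.lift _ _ _ ≫ pullback.snd φ.left e = Z.hom
      exact pullback.lift_snd _ _ _)
  have hg1 : g.left ≫ pullback.fst φ.left e = gG.left := pullback.lift_fst _ _ _
  have hg2 : g.left ≫ pullback.snd φ.left e = Z.hom := pullback.lift_snd _ _ _
  refine ⟨g, ?_, ?_⟩
  · change pullback.fst Z.hom f ≫ g.left = u
    apply pullback.hom_ext
    · rw [Category.assoc, hg1, hgG]
    · rw [Category.assoc, hg2, hu']
  · intro g' hg'
    have hg'' : pullback.fst Z.hom f ≫ g'.left = u := hg'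
    have hw : g'.left ≫ pullback.snd φ.left e = Z.hom := Over.w g'
    have e1 : g'.left ≫ pullback.fst φ.left e = gG.left := by
      apply hG.unique_left _ _ _ hwG
      · rw [hgG, ← Category.assoc, hg'']
      · rw [Category.assoc, ← hφ, ← Category.assoc (pullback.fst φ.left e), pullback.condition,
          Category.assoc, he, Category.comp_id, hw]
    apply Over.OverMorphism.ext
    apply pullback.hom_ext
    · rw [hg1, e1]
    · rw [hg2, hw]

end Groth.Agent.Lib.Helper20.NeronCat
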