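import Mathlib
import Groth.Agent.Lib.Helper20NeronCat

set_option autoImplicit false
universe v u

open CategoryTheory CategoryTheory.Limits

namespace Groth.Agent.Lib.Helper20.NeronCat

variable {C : Type u} [Category.{v} C] [HasPullbacks C]

section Trans

variable {Y X₁ X₀ X₁₀ : C} {i₁ : X₁ ⟶ Y} {i₀ : X₀ ⟶ Y} {j : X₁₀ ⟶ X₁} (m : X₁₀ ⟶ X₀) [IsIso m]
  (hm : m ≫ i₀ = j ≫ i₁)

/-- the comparison `(Z ×_Y X₁) ×_{X₁} X₁₀ ⟶ Z ×_Y X₀` -/
noncomputable def theta (Z : Over Y) :
    pullback (pullback.snd Z.hom i₁) j ⟶ pullback Z.hom i₀ :=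
  pullback.lift (pullback.fst _ _ ≫ pullback.fst _ _) (pullback.snd _ _ ≫ m) (by
    rw [Category.assoc, pullback.condition, ← Category.assoc, pullback.condition, Category.assoc,
      Category.assoc, hm])

/-- the comparison `Z ×_Y X₀ ⟶ Z ×_Y X₁` -/
noncomputable def kappa (Z : Over Y) : pullback Z.hom i₀ ⟶ pullback Z.hom i₁ :=
  pullback.lift (pullback.fst _ _) (pullback.snd _ _ ≫ inv m ≫ j) (by
    rw [pullback.condition, Category.assoc, Category.assoc, ← hm, IsIso.inv_hom_id_assoc])

omit [IsIso m] in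
include hm in
theorem theta_fst (Z : Over Y) :
    theta m hm Z ≫ pullback.fst Z.hom i₀ = pullback.fst _ _ ≫ pullback.fst _ _ :=
  pullback.lift_fst _ _ _

theorem kappa_fst (Z : Over Y) :
    kappa m hm Z ≫ pullback.fst Z.hom i₁ = pullback.fst Z.hom i₀ :=
  pullback.lift_fst _ _ _

theorem theta_kappa (Z : Over Y) :
    theta m hm Z ≫ kappa m hm Z = pullback.fst (pullback.snd Z.hom i₁) j := by
  apply pullback.hom_ext
  · rw [Category.assoc, kappa_fst, theta_fst]
  · rw [Category.assoc, kappa, pullback.lift_snd, theta, pullback.lift_snd_assoc, Category.assoc,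
      IsIso.hom_inv_id_assoc, pullback.condition]

/-- a section of `theta` -/
noncomputable def kappa' (Z : Over Y) :
    pullback Z.hom i₀ ⟶ pullback (pullback.snd Z.hom i₁) j :=
  pullback.lift (kappa m hm Z) (pullback.snd _ _ ≫ inv m) (by
    rw [kappa, pullback.lift_snd, Category.assoc])

theorem kappa'_theta (Z : Over Y) : kappa' m hm Z ≫ theta m hm Z = 𝟙 _ := by
  apply pullback.hom_ext
  · rw [Category.assoc, theta_fst, kappa', pullback.lift_fst_assoc, kappa_fst, Category.id_comp]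
  · rw [Category.assoc, theta, pullback.lift_snd, kappa', pullback.lift_snd_assoc, Category.assoc,
      IsIso.inv_hom_id, Category.comp_id, Category.id_comp]

theorem kappa'_fst (Z : Over Y) :
    kappa' m hm Z ≫ pullback.fst (pullback.snd Z.hom i₁) j = kappa m hm Z :=
  pullback.lift_fst _ _ _

include hm in
/-- transitivity of the unique extension property along `X₀ ≅ X₁₀ ⟶ X₁ ⟶ Y`. -/
theorem Ext.trans {Z N : Over Y} (h₁ : Ext i₁ Z N)
    (h₁₀ : Ext j ((Over.pullback i₁).obj Z) ((Over.pullback i₁).obj N)) : Ext i₀ Z N := by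
  intro u₀ hu₀
  -- the map on the double restriction
  have hc : (theta m hm Z ≫ u₀) ≫ N.hom =
      (pullback.fst (pullback.snd Z.hom i₁) j ≫ pullback.snd Z.hom i₁) ≫ i₁ := by
    rw [Category.assoc, hu₀, ← Category.assoc, theta_fst, Category.assoc, Category.assoc,
      pullback.condition]
  let u₁₀ : pullback (pullback.snd Z.hom i₁) j ⟶ pullback N.hom i₁ :=
    pullback.lift (theta m hm Z ≫ u₀) (pullback.fst _ _ ≫ pullback.snd Z.hom i₁) hc
  have hu₁₀f : u₁₀ ≫ pullback.fst N.hom i₁ = theta m hm Z ≫ u₀ := pullback.lift_fst _ _ _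
  have hu₁₀s : u₁₀ ≫ pullback.snd N.hom i₁ = pullback.fst _ _ ≫ pullback.snd Z.hom i₁ :=
    pullback.lift_snd _ _ _
  obtain ⟨g', hg', hg'uniq⟩ := h₁₀ u₁₀ hu₁₀s
  have hg'1 : pullback.fst (pullback.snd Z.hom i₁) j ≫ g'.left = u₁₀ := hg'
  have hg'w : g'.left ≫ pullback.snd N.hom i₁ = pullback.snd Z.hom i₁ := Over.w g'
  have hu₁ : (g'.left ≫ pullback.fst N.hom i₁) ≫ N.hom = pullback.fst Z.hom i₁ ≫ Z.hom := by
    rw [Category.assoc, pullback.condition, ← Category.assoc, hg'w, pullback.condition]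
  obtain ⟨g, hg, hguniq⟩ := h₁ _ hu₁
  have hg1 : pullback.fst Z.hom i₁ ≫ g.left = g'.left ≫ pullback.fst N.hom i₁ := hg
  refine ⟨g, ?_, ?_⟩
  · change pullback.fst Z.hom i₀ ≫ g.left = u₀
    rw [← kappa_fst m hm Z, Category.assoc, hg1, ← kappa'_fst m hm Z, Category.assoc,
      ← Category.assoc (pullback.fst (pullback.snd Z.hom i₁) j), hg'1, hu₁₀f, ← Category.assoc,
      kappa'_theta, Category.id_comp]
  · intro g₂ hg₂
    have hg₂1 : pullback.fst Z.hom i₀ ≫ g₂.left = u₀ := hg₂
    apply h₁.unique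
    rw [hg1]
    have key : (Over.pullback i₁).map g₂ = g' := by
      apply hg'uniq
      change pullback.fst (pullback.snd Z.hom i₁) j ≫ ((Over.pullback i₁).map g₂).left = u₁₀
      apply pullback.hom_ext
      · rw [Category.assoc, pullback_map_left_fst, ← Category.assoc, ← theta_fst m hm Z,
          Category.assoc, hg₂1, hu₁₀f]
      · have hw : ((Over.pullback i₁).map g₂).left ≫ pullback.snd N.hom i₁ =
            pullback.snd Z.hom i₁ := Over.w ((Over.pullback i₁).map g₂)
        rw [Category.assoc, hw, hu₁₀s]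
    rw [← key, pullback_map_left_fst]

include hm in
/-- descending the unique extension property to a larger subobject. -/
theorem Ext.of_restrict {Z N : Over Y} (h₀ : Ext i₀ Z N)
    (h₁₀ : ∀ a b : (Over.pullback i₁).obj Z ⟶ (Over.pullback i₁).obj N,
      pullback.fst (pullback.snd Z.hom i₁) j ≫ a.left =
        pullback.fst (pullback.snd Z.hom i₁) j ≫ b.left → a = b) : Ext i₁ Z N := by
  intro u₁ hu₁
  have hu₀ : (kappa m hm Z ≫ u₁) ≫ N.hom = pullback.fst Z.hom i₀ ≫ Z.hom := by
    rw [Category.assoc, hu₁, ← Category.assoc, kappa_fst]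
  obtain ⟨g, hg, hguniq⟩ := h₀ _ hu₀
  have hg1 : pullback.fst Z.hom i₀ ≫ g.left = kappa m hm Z ≫ u₁ := hg
  have hgw : g.left ≫ N.hom = Z.hom := Over.w g
  refine ⟨g, ?_, ?_⟩
  · change pullback.fst Z.hom i₁ ≫ g.left = u₁
    let a : (Over.pullback i₁).obj Z ⟶ (Over.pullback i₁).obj N :=
      Over.homMk (pullback.lift (pullback.fst Z.hom i₁ ≫ g.left) (pullback.snd Z.hom i₁)
        (by rw [Category.assoc, hgw, pullback.condition]))
        (by dsimp [Over.pullback]; exact pullback.lift_snd _ _ _)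
    let b : (Over.pullback i₁).obj Z ⟶ (Over.pullback i₁).obj N :=
      Over.homMk (pullback.lift u₁ (pullback.snd Z.hom i₁)
        (by rw [hu₁, pullback.condition]))
        (by dsimp [Over.pullback]; exact pullback.lift_snd _ _ _)
    have ha : a.left ≫ pullback.fst N.hom i₁ = pullback.fst Z.hom i₁ ≫ g.left :=
      pullback.lift_fst _ _ _
    have hb : b.left ≫ pullback.fst N.hom i₁ = u₁ := pullback.lift_fst _ _ _
    have has : a.left ≫ pullback.snd N.hom i₁ = pullback.snd Z.hom i₁ := pullback.lift_snd _ _ _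
    have hbs : b.left ≫ pullback.snd N.hom i₁ = pullback.snd Z.hom i₁ := pullback.lift_snd _ _ _
    have hab : a = b := by
      apply h₁₀
      apply pullback.hom_ext
      · rw [Category.assoc, Category.assoc, ha, hb, ← Category.assoc, ← theta_fst m hm Z,
          Category.assoc, hg1, ← Category.assoc, theta_kappa]
      · rw [Category.assoc, Category.assoc, has, hbs]
    rw [← ha, hab, hb]
  · intro g₂ hg₂
    have hg₂1 : pullback.fst Z.hom i₁ ≫ g₂.left = u₁ := hg₂
    apply hguniq
    change pullback.fst Z.hom i₀ ≫ g₂.left = kappa m hm Z ≫ u₁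
    rw [← hg₂1, ← Category.assoc, kappa_fst]

end Trans

end Groth.Agent.Lib.Helper20.NeronCat
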