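import Mathlib
import Groth.Agent.Lib.Helper20NeronCat

set_option autoImplicit false
universe v u

open CategoryTheory CategoryTheory.Limits

namespace Groth.Agent.Lib.Helper20.NeronCat

variable {C : Type u} [Category.{v} C] [HasPullbacks C]

section Comp

variable {Y S X X' : C} {i : X ⟶ Y} {f : S ⟶ Y} {i' : X' ⟶ S} {f' : X' ⟶ X}

/-- Composition: if `S/Y` has the extension property for `i` and `N/S` has it for the base change
`i'` of `i`, then `N/Y` has it for `i`. -/
theorem Ext.comp (hP : IsPullback f' i' i f) {N : C} (g : N ⟶ S) (Z : Over Y)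
    (hS : Ext i Z (Over.mk f))
    (hN : ∀ v : Z.left ⟶ S, v ≫ f = Z.hom → Ext i' (Over.mk v) (Over.mk g)) :
    Ext i Z (Over.mk (g ≫ f)) := by
  intro u hu
  have hu' : u ≫ g ≫ f = pullback.fst Z.hom i ≫ Z.hom := hu
  have huS : (u ≫ g) ≫ f = pullback.fst Z.hom i ≫ Z.hom := by rw [Category.assoc, hu']
  obtain ⟨v, hv, hvuniq⟩ := hS (u ≫ g) huS
  have hv1 : pullback.fst Z.hom i ≫ v.left = u ≫ g := hv
  have hvw : v.left ≫ f = Z.hom := Over.w v
  -- comparison maps
  have hc1 : pullback.fst v.left i' ≫ Z.hom = (pullback.snd v.left i' ≫ f') ≫ i := by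
    rw [← hvw, ← Category.assoc, pullback.condition, Category.assoc, Category.assoc, hP.w]
  let θ : pullback v.left i' ⟶ pullback Z.hom i :=
    pullback.lift (pullback.fst _ _) (pullback.snd _ _ ≫ f') hc1
  have hc2 : pullback.snd Z.hom i ≫ i = (pullback.fst Z.hom i ≫ v.left) ≫ f := by
    rw [Category.assoc, hvw, pullback.condition]
  let l : pullback Z.hom i ⟶ X' := hP.lift (pullback.snd Z.hom i) (pullback.fst Z.hom i ≫ v.left) hc2
  have hl1 : l ≫ f' = pullback.snd Z.hom i := hP.lift_fst _ _ _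
  have hl2 : l ≫ i' = pullback.fst Z.hom i ≫ v.left := hP.lift_snd _ _ _
  let θ' : pullback Z.hom i ⟶ pullback v.left i' :=
    pullback.lift (pullback.fst _ _) l hl2.symm
  have hθ1 : θ ≫ pullback.fst Z.hom i = pullback.fst v.left i' := pullback.lift_fst _ _ _
  have hθ'1 : θ' ≫ pullback.fst v.left i' = pullback.fst Z.hom i := pullback.lift_fst _ _ _
  have hθ'2 : θ' ≫ pullback.snd v.left i' = l := pullback.lift_snd _ _ _
  have hθ2 : θ ≫ pullback.snd Z.hom i = pullback.snd v.left i' ≫ f' := pullback.lift_snd _ _ _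
  have hθθ : θ' ≫ θ = 𝟙 _ := by
    apply pullback.hom_ext
    · rw [Category.assoc, hθ1, hθ'1, Category.id_comp]
    · rw [Category.assoc, hθ2, ← Category.assoc, hθ'2, hl1, Category.id_comp]
  have huN : (θ ≫ u) ≫ g = pullback.fst v.left i' ≫ v.left := by
    rw [Category.assoc, ← hv1, ← Category.assoc, hθ1]
  obtain ⟨w, hw, hwuniq⟩ := hN v.left hvw (θ ≫ u) huN
  have hw1 : pullback.fst v.left i' ≫ w.left = θ ≫ u := hw
  have hww : w.left ≫ g = v.left := Over.w w
  refine ⟨Over.homMk w.left (by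
    change w.left ≫ g ≫ f = Z.hom
    rw [← Category.assoc, hww, hvw]), ?_, ?_⟩
  · change pullback.fst Z.hom i ≫ w.left = u
    rw [← hθ'1, Category.assoc, hw1, ← Category.assoc, hθθ, Category.id_comp]
  · intro w₂ hw₂
    have hw₂1 : pullback.fst Z.hom i ≫ w₂.left = u := hw₂
    have hw₂w : w₂.left ≫ g ≫ f = Z.hom := Over.w w₂
    have hv₂ : (Over.homMk (w₂.left ≫ g) (by
        change (w₂.left ≫ g) ≫ f = Z.hom
        rw [Category.assoc, hw₂w]) : Z ⟶ Over.mk f) = v := by
      apply hvuniq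
      change pullback.fst Z.hom i ≫ w₂.left ≫ g = u ≫ g
      rw [← Category.assoc, hw₂1]
    have hv₂' : w₂.left ≫ g = v.left := congrArg (fun t => t.left) hv₂
    have hw₂' : (Over.homMk w₂.left hv₂' : Over.mk v.left ⟶ Over.mk g) = w := by
      apply hwuniq
      change pullback.fst v.left i' ≫ w₂.left = θ ≫ u
      rw [← hθ1, Category.assoc, hw₂1]
    apply Over.OverMorphism.ext
    change w₂.left = w.left
    exact congrArg (fun t => t.left) hw₂'

end Comp

end Groth.Agent.Lib.Helper20.NeronCat
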