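import Mathlib
import Groth.Agent.Lib.Helper20NeronCat

/-!
# Helper20NeronLft: tools for local-to-global Néron (lft) mapping properties
-/

set_option autoImplicit false
universe v u
open AlgebraicGeometry CategoryTheory CategoryTheory.Limits TopologicalSpace
open Groth.Agent.Lib.Helper20.NeronCat

namespace Groth.Agent.Lib.Helper20NeronLft


/-- The generic point of an integral quasi-separated scheme: quasi-compactness. -/
theorem quasiCompact_fromSpecStalk (S : Scheme.{u}) [S.IsSeparated] (s : S) :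
    QuasiCompact (S.fromSpecStalk s) := by
  have : IsAffineHom (S.fromSpecStalk s ≫ terminal.from S) := by
    rw [terminal.comp_from]
    infer_instance
  have : IsAffineHom (S.fromSpecStalk s) := IsAffineHom.of_comp _ (terminal.from S)
  infer_instance

theorem isDominant_fromSpecStalk_genericPoint (S : Scheme.{u}) [IsIntegral S] :
    IsDominant (S.fromSpecStalk (genericPoint S)) := by
  constructor
  rw [DenseRange, Scheme.range_fromSpecStalk]
  intro x
  have h1 : genericPoint S ∈ {y : S | y ⤳ genericPoint S} := specializes_rfl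
  have h2 : x ∈ closure ({genericPoint S} : Set S) := (genericPoint_specializes x).mem_closure
  exact closure_mono (Set.singleton_subset_iff.mpr h1) h2

theorem std_fromSpecStalk_genericPoint (S : Scheme.{u}) [IsIntegral S] [S.IsSeparated] :
    IsSchemeTheoreticallyDominant (S.fromSpecStalk (genericPoint S)) := by
  have := quasiCompact_fromSpecStalk S (genericPoint S)
  have := isDominant_fromSpecStalk_genericPoint S
  rw [isSchemeTheoreticallyDominant_iff_isDominant]
  infer_instance

/-- Uniqueness: two `S`-morphisms from a flat `S`-scheme to a separated `S`-scheme that agree on the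
base change along a scheme theoretically dominant quasi-compact `ι` are equal. -/
theorem eq_of_fst_comp_eq {S T V G : Scheme.{u}} (ι : T ⟶ S) [IsSchemeTheoreticallyDominant ι]
    [QuasiCompact ι] (p : V ⟶ S) [Flat p] (q : G ⟶ S) [IsSeparated q] (a b : V ⟶ G)
    (ha : a ≫ q = p) (hb : b ≫ q = p)
    (h : pullback.fst p ι ≫ a = pullback.fst p ι ≫ b) : a = b := by
  have hstd : IsSchemeTheoreticallyDominant (pullback.fst p ι) :=
    IsSchemeTheoreticallyDominant.of_isPullback (IsPullback.of_hasPullback p ι).flip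
  let W' : Over S := Over.mk (pullback.fst p ι ≫ p)
  let V' : Over S := Over.mk p
  let G' : Over S := Over.mk q
  let u : W' ⟶ V' := Over.homMk (pullback.fst p ι)
  let g₁ : V' ⟶ G' := Over.homMk a ha
  let g₂ : V' ⟶ G' := Over.homMk b hb
  have hu : u ≫ g₁ = u ≫ g₂ := by
    ext1
    exact h
  have hsep : IsSeparated G'.hom := ‹IsSeparated q›
  have hcl : IsClosedImmersion (equalizer.ι g₁ g₂).left := inferInstance
  have hfac : (equalizer.lift u hu).left ≫ (equalizer.ι g₁ g₂).left = u.left := by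
    rw [← Over.comp_left, equalizer.lift_ι]
  have hker : (equalizer.ι g₁ g₂).left.ker = ⊥ := by
    rw [← le_bot_iff]
    have := Scheme.Hom.le_ker_comp (equalizer.lift u hu).left (equalizer.ι g₁ g₂).left
    have hstd' : IsSchemeTheoreticallyDominant u.left := hstd
    rw [hfac, Scheme.Hom.ker_eq_bot u.left] at this
    exact this
  have hiso : IsIso (equalizer.ι g₁ g₂).left := IsClosedImmersion.isIso_iff_ker_eq_bot.mpr hker
  have : g₁ = g₂ := by
    ext1
    rw [← cancel_epi (equalizer.ι g₁ g₂).left]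
    exact congr($(equalizer.condition g₁ g₂).left)
  exact congrArg (fun t => t.left) this



/-- In a Noetherian quasi-sober space every point has an open neighbourhood all of whose
maximal points specialize to it. -/
theorem exists_open_forall_maximal_specializes {α : Type*} [TopologicalSpace α] [NoetherianSpace α]
    [QuasiSober α] (y : α) :
    ∃ V : Set α, IsOpen V ∧ y ∈ V ∧ ∀ ξ ∈ V, (∀ ξ' : α, ξ' ⤳ ξ → ξ' = ξ) → ξ ⤳ y := by
  have hfin : (irreducibleComponents α).Finite := NoetherianSpace.finite_irreducibleComponents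
  set 𝒞 := {C ∈ irreducibleComponents α | y ∉ C} with h𝒞
  have hfin' : 𝒞.Finite := hfin.subset (fun C hC => hC.1)
  have hclosed : IsClosed (⋃₀ 𝒞) := by
    rw [Set.sUnion_eq_biUnion]
    exact hfin'.isClosed_biUnion fun C hC => isClosed_of_mem_irreducibleComponents C hC.1
  refine ⟨(⋃₀ 𝒞)ᶜ, hclosed.isOpen_compl, ?_, ?_⟩
  · rintro ⟨C, hC, hyC⟩
    exact hC.2 hyC
  · intro ξ hξ hmax
    obtain ⟨D, hD, hξD⟩ := exists_mem_irreducibleComponents_subset_of_isIrreducible {ξ}
      isIrreducible_singleton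
    have hDcl : IsClosed D := isClosed_of_mem_irreducibleComponents D hD
    obtain ⟨d, hd⟩ := QuasiSober.sober hD.1 hDcl
    have hd' : closure {d} = D := hd
    have hdξ : d ⤳ ξ := by
      rw [specializes_iff_mem_closure, hd']; exact hξD rfl
    have := hmax d hdξ
    subst this
    have hyD : y ∈ D := by
      by_contra hyD
      exact hξ ⟨D, ⟨hD, hyD⟩, hξD rfl⟩
    rw [specializes_iff_mem_closure, hd']
    exact hyD

/-- Scheme version. -/
theorem exists_opens_forall_maximal_specializes (Y : Scheme.{u}) [IsLocallyNoetherian Y] (y : Y)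
    (U : Y.Opens) (hyU : y ∈ U) :
    ∃ V : Y.Opens, V ≤ U ∧ y ∈ V ∧ ∀ ξ ∈ V, (∀ ξ' : Y, ξ' ⤳ ξ → ξ' = ξ) → ξ ⤳ y := by
  obtain ⟨_, ⟨U', hU', rfl⟩, hyU', hU'U⟩ := Y.isBasis_affineOpens.exists_subset_of_mem_open
    hyU U.2
  have : IsNoetherianRing Γ(Y, U') := IsLocallyNoetherian.component_noetherian ⟨U', hU'⟩
  have : NoetherianSpace (U' : Scheme.{u}) := noetherianSpace_of_isAffineOpen U' hU'
  let ιU := Scheme.Opens.ι (X := Y) U'
  obtain ⟨V0, hV0, hyV0, hV0max⟩ :=
    exists_open_forall_maximal_specializes (α := (U' : Scheme.{u})) ⟨y, hyU'⟩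
  refine ⟨⟨ιU.base '' V0, ιU.isOpenEmbedding.isOpenMap _ hV0⟩, ?_, ⟨_, hyV0, rfl⟩, ?_⟩
  · rintro _ ⟨a, -, rfl⟩
    exact hU'U a.2
  · rintro _ ⟨a, haV0, rfl⟩ hmax
    have : a ⤳ (⟨y, hyU'⟩ : (U' : Scheme.{u})) := by
      apply hV0max a haV0
      intro a' ha'
      apply ιU.isEmbedding.injective
      exact hmax _ (ha'.map ιU.base.hom.continuous)
    exact this.map ιU.base.hom.continuous



/-- generic points of irreducible components have no proper generalizations -/
theorem eq_of_specializes_of_mem_genericPoints {α : Type*} [TopologicalSpace α] [T0Space α]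
    {ζ ζ' : α} (hζ : ζ ∈ genericPoints α) (h : ζ' ⤳ ζ) : ζ' = ζ := by
  have hirr : IsIrreducible (closure {ζ'}) := isIrreducible_singleton.closure
  have hsub : closure {ζ} ⊆ closure {ζ'} :=
    closure_minimal (Set.singleton_subset_iff.mpr h.mem_closure) isClosed_closure
  have hle : closure {ζ'} ⊆ closure {ζ} := hζ.2 hirr hsub
  have : ζ ⤳ ζ' := specializes_iff_mem_closure.mpr (hle (subset_closure rfl))
  exact (h.antisymm this).eq

/-- The dominance lemma. -/
theorem isDominant_lift {Y S T : Scheme.{u}} (p : Y ⟶ S) (ι : T ⟶ S) [IsPreimmersion ι]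
    (hgen : ∀ (s : S) (t : T), s ⤳ ι.base t → s ∈ Set.range ι.base)
    (y : Y) (V : Y.Opens)
    (hV : ∀ ξ ∈ V, (∀ ξ' : Y, ξ' ⤳ ξ → ξ' = ξ) → ξ ⤳ y)
    (w : pullback (Y.fromSpecStalk y) (pullback.fst p ι) ⟶ ↑((pullback.fst p ι) ⁻¹ᵁ V))
    (hw : w ≫ ((pullback.fst p ι) ⁻¹ᵁ V).ι = pullback.snd (Y.fromSpecStalk y) (pullback.fst p ι)) :
    IsDominant w := by
  constructor
  rw [DenseRange, dense_iff_inter_open]
  intro O hO hOne
  -- a generic point in `O`
  have hdense : Dense (genericPoints ↥((pullback.fst p ι) ⁻¹ᵁ V : Scheme.{u})) := by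
    rw [dense_iff_closure_eq]; exact genericPoints.closure
  obtain ⟨ζ', hζ'O, hζ'gen⟩ := hdense.inter_open_nonempty O hO hOne
  refine ⟨ζ', hζ'O, ?_⟩
  have hζ'V : (pullback.fst p ι).base (((pullback.fst p ι) ⁻¹ᵁ V).ι.base ζ') ∈ V := ζ'.2
  have hemb := (pullback.fst p ι).isEmbedding
  have hembV := ((pullback.fst p ι) ⁻¹ᵁ V).ι.isEmbedding
  have hrange : Set.range (pullback.fst p ι).base = p.base ⁻¹' Set.range ι.base :=
    Scheme.Pullback.range_fst p ι
  have hξmax : ∀ ξ' : Y, ξ' ⤳ (pullback.fst p ι).base (((pullback.fst p ι) ⁻¹ᵁ V).ι.base ζ') →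
      ξ' = (pullback.fst p ι).base (((pullback.fst p ι) ⁻¹ᵁ V).ι.base ζ') := by
    intro ξ' hξ'
    have h1 : ξ' ∈ Set.range (pullback.fst p ι).base := by
      rw [hrange]
      have hξr : (pullback.fst p ι).base (((pullback.fst p ι) ⁻¹ᵁ V).ι.base ζ') ∈
          Set.range (pullback.fst p ι).base := ⟨_, rfl⟩
      rw [hrange] at hξr
      obtain ⟨t, ht⟩ := hξr
      exact hgen _ t (ht ▸ hξ'.map p.base.hom.continuous)
    obtain ⟨ζ1, rfl⟩ := h1
    have h2 : ζ1 ⤳ ((pullback.fst p ι) ⁻¹ᵁ V).ι.base ζ' :=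
      hemb.toIsInducing.specializes_iff.mp hξ'
    have h3 : ζ1 ∈ (pullback.fst p ι) ⁻¹ᵁ V :=
      h2.mem_open ((pullback.fst p ι) ⁻¹ᵁ V).2 ζ'.2
    have h3' : ζ1 ∈ Set.range ((pullback.fst p ι) ⁻¹ᵁ V).ι.base := by
      rw [Scheme.Opens.range_ι]; exact h3
    obtain ⟨ζ1', rfl⟩ := h3'
    have h4 : ζ1' ⤳ ζ' := hembV.toIsInducing.specializes_iff.mp h2
    have h5 := eq_of_specializes_of_mem_genericPoints hζ'gen h4
    rw [h5]
  have hξy := hV _ hζ'V hξmax
  have hξr : (pullback.fst p ι).base (((pullback.fst p ι) ⁻¹ᵁ V).ι.base ζ') ∈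
      Set.range (Y.fromSpecStalk y).base := by
    rw [Scheme.range_fromSpecStalk]; exact hξy
  have hζr : ((pullback.fst p ι) ⁻¹ᵁ V).ι.base ζ' ∈
      Set.range (pullback.snd (Y.fromSpecStalk y) (pullback.fst p ι)).base := by
    rw [Scheme.Pullback.range_snd]
    exact hξr
  obtain ⟨x, hx⟩ := hζr
  refine ⟨x, ?_⟩
  apply hembV.injective
  rw [← hx, ← hw]
  rfl



section Cat

variable {C : Type u} [Category.{v} C] [HasPullbacks C]

/-- Categorical core of the local extension. -/
theorem exists_local_hom {S Y G Tη Ts L : C} (p : Y ⟶ S) (q : G ⟶ S) (ι : Tη ⟶ S) (j : Ts ⟶ S)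
    [Mono j] (k : Tη ⟶ Ts) (hkj : k ≫ j = ι)
    (u : pullback p ι ⟶ G) (hu : u ≫ q = pullback.fst p ι ≫ p)
    (l0 : L ⟶ Y) (m : L ⟶ Ts) (hl0 : l0 ≫ p = m ≫ j)
    (hExt : Ext k (Over.mk (pullback.snd p j)) (Over.mk (pullback.snd q j))) :
    ∃ φ : L ⟶ G, φ ≫ q = l0 ≫ p ∧
      pullback.snd l0 (pullback.fst p ι) ≫ u = pullback.fst l0 (pullback.fst p ι) ≫ φ := by
  -- θ : A ⟶ Y_η
  have hθc : (pullback.fst (pullback.snd p j) k ≫ pullback.fst p j) ≫ p =
      pullback.snd (pullback.snd p j) k ≫ ι := by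
    rw [Category.assoc, pullback.condition, ← Category.assoc, pullback.condition, Category.assoc,
      hkj]
  let θ : pullback (pullback.snd p j) k ⟶ pullback p ι :=
    pullback.lift (pullback.fst _ _ ≫ pullback.fst p j) (pullback.snd _ _) hθc
  have hθ1 : θ ≫ pullback.fst p ι = pullback.fst _ _ ≫ pullback.fst p j := pullback.lift_fst _ _ _
  have hθ2 : θ ≫ pullback.snd p ι = pullback.snd _ _ := pullback.lift_snd _ _ _
  have huTc : (θ ≫ u) ≫ q = (pullback.fst (pullback.snd p j) k ≫ pullback.snd p j) ≫ j := by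
    rw [Category.assoc, hu, ← Category.assoc, hθ1, Category.assoc, Category.assoc,
      pullback.condition]
  let uT : pullback (pullback.snd p j) k ⟶ pullback q j :=
    pullback.lift (θ ≫ u) (pullback.fst _ _ ≫ pullback.snd p j) huTc
  have huT1 : uT ≫ pullback.fst q j = θ ≫ u := pullback.lift_fst _ _ _
  have huT2 : uT ≫ pullback.snd q j = pullback.fst _ _ ≫ pullback.snd p j :=
    pullback.lift_snd _ _ _
  obtain ⟨g', hg', -⟩ := hExt uT huT2
  have hg'1 : pullback.fst (pullback.snd p j) k ≫ g'.left = uT := hg'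
  have hg'w : g'.left ≫ pullback.snd q j = pullback.snd p j := Over.w g'
  -- ℓ : L ⟶ Z
  let ℓ : L ⟶ pullback p j := pullback.lift l0 m hl0
  have hℓ1 : ℓ ≫ pullback.fst p j = l0 := pullback.lift_fst _ _ _
  have hℓ2 : ℓ ≫ pullback.snd p j = m := pullback.lift_snd _ _ _
  refine ⟨ℓ ≫ g'.left ≫ pullback.fst q j, ?_, ?_⟩
  · simp only [Category.assoc]
    rw [pullback.condition, ← Category.assoc g'.left, hg'w, ← Category.assoc, hℓ2, hl0]
  · -- lam : W ⟶ A
    have hw : pullback.fst l0 (pullback.fst p ι) ≫ l0 =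
        pullback.snd l0 (pullback.fst p ι) ≫ pullback.fst p ι := pullback.condition
    have hlamc : (pullback.fst l0 (pullback.fst p ι) ≫ ℓ) ≫ pullback.snd p j =
        (pullback.snd l0 (pullback.fst p ι) ≫ pullback.snd p ι) ≫ k := by
      rw [← cancel_mono j]
      simp only [Category.assoc]
      rw [hkj, ← pullback.condition, ← pullback.condition, ← Category.assoc ℓ, hℓ1,
        ← Category.assoc, hw, Category.assoc]
    let lam : pullback l0 (pullback.fst p ι) ⟶ pullback (pullback.snd p j) k :=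
      pullback.lift (pullback.fst _ _ ≫ ℓ) (pullback.snd _ _ ≫ pullback.snd p ι) hlamc
    have hlam1 : lam ≫ pullback.fst (pullback.snd p j) k = pullback.fst _ _ ≫ ℓ :=
      pullback.lift_fst _ _ _
    have hlam2 : lam ≫ pullback.snd (pullback.snd p j) k = pullback.snd _ _ ≫ pullback.snd p ι :=
      pullback.lift_snd _ _ _
    have hlamθ : lam ≫ θ = pullback.snd l0 (pullback.fst p ι) := by
      apply pullback.hom_ext
      · rw [Category.assoc, hθ1, ← Category.assoc, hlam1, Category.assoc, hℓ1, hw]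
      · rw [Category.assoc, hθ2, hlam2]
    rw [← hlamθ, Category.assoc, ← huT1, ← hg'1, ← Category.assoc, ← Category.assoc, hlam1]
    simp only [Category.assoc]

end Cat


end Groth.Agent.Lib.Helper20NeronLft
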