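import Mathlib
import Groth.Agent.Lib.Helper20NeronLft

set_option autoImplicit false
universe v u
open AlgebraicGeometry CategoryTheory CategoryTheory.Limits TopologicalSpace
open Groth.Agent.Lib.Helper20.NeronCat

namespace Groth.Agent.Lib.Helper20NeronLft

theorem exists_local_extension {S Y G : Scheme.{u}} (η : S) (p : Y ⟶ S) (q : G ⟶ S)
    [LocallyOfFiniteType q] [IsSeparated q] [IsLocallyNoetherian Y]
    (hgen : ∀ s : S, η ⤳ s)
    [IsReduced (pullback p (S.fromSpecStalk η))]
    (u : pullback p (S.fromSpecStalk η) ⟶ G)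
    (hu : u ≫ q = pullback.fst p (S.fromSpecStalk η) ≫ p)
    (y : Y)
    (hExt : Ext (Spec.map (S.presheaf.stalkSpecializes (hgen (p.base y))))
      (Over.mk (pullback.snd p (S.fromSpecStalk (p.base y))))
      (Over.mk (pullback.snd q (S.fromSpecStalk (p.base y))))) :
    ∃ (V : Y.Opens) (_ : y ∈ V) (g : (V : Scheme.{u}) ⟶ G), g ≫ q = V.ι ≫ p ∧
      ((pullback.fst p (S.fromSpecStalk η)) ⁻¹ᵁ V).ι ≫ u =
        (pullback.fst p (S.fromSpecStalk η) ∣_ V) ≫ g := by
  obtain ⟨φ, hφ, hφu⟩ := exists_local_hom p q (S.fromSpecStalk η) (S.fromSpecStalk (p.base y))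
    (Spec.map (S.presheaf.stalkSpecializes (hgen (p.base y))))
    (Scheme.SpecMap_stalkSpecializes_fromSpecStalk (hgen (p.base y))) u hu
    (Y.fromSpecStalk y) (Spec.map (p.stalkMap y))
    (Scheme.SpecMap_stalkMap_fromSpecStalk p (x := y)).symm hExt
  obtain ⟨U, hyU, gU, hφg, hgq⟩ := spread_out_of_isGermInjective' p q φ hφ
  obtain ⟨V, hVU, hyV, hVmax⟩ := exists_opens_forall_maximal_specializes Y y U hyU
  refine ⟨V, hyV, Y.homOfLE hVU ≫ gU, ?_, ?_⟩
  · rw [Category.assoc, hgq, ← Category.assoc, Scheme.homOfLE_ι]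
  -- the lift `w`
  have hsub : Set.range (pullback.snd (Y.fromSpecStalk y)
      (pullback.fst p (S.fromSpecStalk η))).base ⊆
      Set.range ((pullback.fst p (S.fromSpecStalk η)) ⁻¹ᵁ V).ι.base := by
    rintro _ ⟨x, rfl⟩
    rw [Scheme.Opens.range_ι]
    change (pullback.fst p (S.fromSpecStalk η)).base _ ∈ V
    have h1 : (pullback.fst p (S.fromSpecStalk η)).base
        ((pullback.snd (Y.fromSpecStalk y) (pullback.fst p (S.fromSpecStalk η))).base x) =
        (Y.fromSpecStalk y).base
          ((pullback.fst (Y.fromSpecStalk y) (pullback.fst p (S.fromSpecStalk η))).base x) := by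
      rw [← Scheme.Hom.comp_apply, ← Scheme.Hom.comp_apply, pullback.condition]
    rw [h1]
    have h2 : (Y.fromSpecStalk y).base
        ((pullback.fst (Y.fromSpecStalk y) (pullback.fst p (S.fromSpecStalk η))).base x) ⤳ y := by
      have : (Y.fromSpecStalk y).base
          ((pullback.fst (Y.fromSpecStalk y) (pullback.fst p (S.fromSpecStalk η))).base x) ∈
          Set.range (Y.fromSpecStalk y).base := ⟨_, rfl⟩
      rw [Scheme.range_fromSpecStalk] at this
      exact this
    exact h2.mem_open V.2 hyV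
  let w := IsOpenImmersion.lift ((pullback.fst p (S.fromSpecStalk η)) ⁻¹ᵁ V).ι
    (pullback.snd (Y.fromSpecStalk y) (pullback.fst p (S.fromSpecStalk η))) hsub
  have hw : w ≫ ((pullback.fst p (S.fromSpecStalk η)) ⁻¹ᵁ V).ι =
      pullback.snd (Y.fromSpecStalk y) (pullback.fst p (S.fromSpecStalk η)) :=
    IsOpenImmersion.lift_fac _ _ _
  have hdom : IsDominant w := by
    apply isDominant_lift p (S.fromSpecStalk η) _ y V hVmax w hw
    intro s t hst
    rw [Scheme.range_fromSpecStalk]
    have : (S.fromSpecStalk η).base t ∈ Set.range (S.fromSpecStalk η).base := ⟨t, rfl⟩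
    rw [Scheme.range_fromSpecStalk] at this
    exact hst.trans this
  apply ext_of_isDominant_of_isSeparated q _ w
  · -- agreement on `W`
    rw [← Category.assoc, hw, hφu, hφg]
    have h3 : w ≫ (pullback.fst p (S.fromSpecStalk η) ∣_ V) ≫ Y.homOfLE hVU =
        pullback.fst (Y.fromSpecStalk y) (pullback.fst p (S.fromSpecStalk η)) ≫
          U.fromSpecStalkOfMem y hyU := by
      rw [← cancel_mono U.ι]
      simp only [Category.assoc]
      rw [Scheme.homOfLE_ι, morphismRestrict_ι, ← Category.assoc, hw,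
        Scheme.Opens.fromSpecStalkOfMem_ι, pullback.condition]
    have h4 := congrArg (fun t => t ≫ gU) h3
    simp only [Category.assoc] at h4 ⊢
    exact h4.symm
  · -- both are over `S`
    rw [Category.assoc, hu, Category.assoc, Category.assoc, hgq, ← Category.assoc (Y.homOfLE hVU),
      Scheme.homOfLE_ι, ← Category.assoc, ← Category.assoc, morphismRestrict_ι]

/-- consequence of the compatibility: any map into `V` lying over a map into `Y_η` -/
theorem comp_eq_of_compat {S Y G T R : Scheme.{u}} (ι : T ⟶ S) (p : Y ⟶ S)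
    (u : pullback p ι ⟶ G) (V : Y.Opens) (g : (V : Scheme.{u}) ⟶ G)
    (hc : ((pullback.fst p ι) ⁻¹ᵁ V).ι ≫ u = (pullback.fst p ι ∣_ V) ≫ g)
    (r : R ⟶ pullback p ι) (a : R ⟶ V) (ha : a ≫ V.ι = r ≫ pullback.fst p ι) :
    a ≫ g = r ≫ u := by
  have hsub : Set.range r.base ⊆ Set.range ((pullback.fst p ι) ⁻¹ᵁ V).ι.base := by
    rintro _ ⟨x, rfl⟩
    rw [Scheme.Opens.range_ι]
    change (pullback.fst p ι).base (r.base x) ∈ V
    rw [← Scheme.Hom.comp_apply, ← ha]
    exact (a.base x).2
  let σ := IsOpenImmersion.lift ((pullback.fst p ι) ⁻¹ᵁ V).ι r hsub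
  have hσ : σ ≫ ((pullback.fst p ι) ⁻¹ᵁ V).ι = r := IsOpenImmersion.lift_fac _ _ _
  have hσa : σ ≫ (pullback.fst p ι ∣_ V) = a := by
    rw [← cancel_mono V.ι, Category.assoc, morphismRestrict_ι, ← Category.assoc, hσ, ha]
  rw [← hσa, Category.assoc, ← hc, ← Category.assoc, hσ]

theorem ext_of_local {S Y G : Scheme.{u}} (η : S) (hgen : ∀ s : S, η ⤳ s)
    [IsSchemeTheoreticallyDominant (S.fromSpecStalk η)] [QuasiCompact (S.fromSpecStalk η)]
    (p : Y ⟶ S) [Flat p] (q : G ⟶ S) [LocallyOfFiniteType q] [IsSeparated q]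
    [IsLocallyNoetherian Y] [IsReduced (pullback p (S.fromSpecStalk η))]
    (hExt : ∀ y : Y, Ext (Spec.map (S.presheaf.stalkSpecializes (hgen (p.base y))))
      (Over.mk (pullback.snd p (S.fromSpecStalk (p.base y))))
      (Over.mk (pullback.snd q (S.fromSpecStalk (p.base y))))) :
    Ext (S.fromSpecStalk η) (Over.mk p) (Over.mk q) := by
  intro u hu
  have hu' : u ≫ q = pullback.fst p (S.fromSpecStalk η) ≫ p := hu
  choose V hyV g hgq hcompat using
    fun y => exists_local_extension η p q hgen u hu' y (hExt y)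
  let 𝒰 : Y.OpenCover := Y.openCoverOfIsOpenCover V (by
    rw [IsOpenCover, eq_top_iff]
    intro y _
    exact TopologicalSpace.Opens.mem_iSup.mpr ⟨y, hyV y⟩)
  have hglue : ∀ x y : Y, pullback.fst (𝒰.f x) (𝒰.f y) ≫ g x = pullback.snd (𝒰.f x) (𝒰.f y) ≫ g y := by
    intro x y
    have hflat : Flat (pullback.fst (V x).ι (V y).ι ≫ (V x).ι ≫ p) := inferInstance
    apply eq_of_fst_comp_eq (S.fromSpecStalk η) (pullback.fst (V x).ι (V y).ι ≫ (V x).ι ≫ p) q
    · change (pullback.fst (V x).ι (V y).ι ≫ g x) ≫ q = pullback.fst (V x).ι (V y).ι ≫ (V x).ι ≫ p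
      rw [Category.assoc, hgq x]
    · change (pullback.snd (V x).ι (V y).ι ≫ g y) ≫ q = pullback.fst (V x).ι (V y).ι ≫ (V x).ι ≫ p
      rw [Category.assoc, hgq y, ← pullback.condition_assoc]
    · -- agreement over the generic fibre
      have hρc : (pullback.fst (pullback.fst (V x).ι (V y).ι ≫ (V x).ι ≫ p) (S.fromSpecStalk η) ≫
          pullback.fst (V x).ι (V y).ι ≫ (V x).ι) ≫ p =
          pullback.snd (pullback.fst (V x).ι (V y).ι ≫ (V x).ι ≫ p) (S.fromSpecStalk η) ≫
            S.fromSpecStalk η := by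
        rw [← pullback.condition]
        simp only [Category.assoc]
      let ρ := pullback.lift _ _ hρc
      have hρ1 : ρ ≫ pullback.fst p (S.fromSpecStalk η) =
          pullback.fst (pullback.fst (V x).ι (V y).ι ≫ (V x).ι ≫ p) (S.fromSpecStalk η) ≫
          pullback.fst (V x).ι (V y).ι ≫ (V x).ι := pullback.lift_fst _ _ _
      have h1 := comp_eq_of_compat (S.fromSpecStalk η) p u (V x) (g x) (hcompat x) ρ
        (pullback.fst (pullback.fst (V x).ι (V y).ι ≫ (V x).ι ≫ p) (S.fromSpecStalk η) ≫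
          pullback.fst (V x).ι (V y).ι) (by rw [hρ1]; simp only [Category.assoc])
      have h2 := comp_eq_of_compat (S.fromSpecStalk η) p u (V y) (g y) (hcompat y) ρ
        (pullback.fst (pullback.fst (V x).ι (V y).ι ≫ (V x).ι ≫ p) (S.fromSpecStalk η) ≫
          pullback.snd (V x).ι (V y).ι) (by
            rw [hρ1]; simp only [Category.assoc]; rw [pullback.condition])
      simp only [Category.assoc] at h1 h2
      change pullback.fst _ _ ≫ pullback.fst (V x).ι (V y).ι ≫ g x =
        pullback.fst _ _ ≫ pullback.snd (V x).ι (V y).ι ≫ g y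
      rw [h1, h2]
  let gg : Y ⟶ G := 𝒰.glueMorphisms g hglue
  have hgg : ∀ y : Y, (V y).ι ≫ gg = g y := fun y => 𝒰.ι_glueMorphisms g hglue y
  have hggq : gg ≫ q = p := by
    apply 𝒰.hom_ext
    intro y
    change (V y).ι ≫ gg ≫ q = (V y).ι ≫ p
    rw [← Category.assoc, hgg, hgq]
  refine ⟨Over.homMk gg hggq, ?_, ?_⟩
  · change pullback.fst p (S.fromSpecStalk η) ≫ gg = u
    apply Scheme.hom_ext_of_forall
    intro z
    refine ⟨(pullback.fst p (S.fromSpecStalk η)) ⁻¹ᵁ V ((pullback.fst p (S.fromSpecStalk η)).base z),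
      hyV _, ?_⟩
    rw [hcompat, ← Category.assoc, ← morphismRestrict_ι, Category.assoc, hgg]
  · intro g₂ hg₂
    have hg₂' : pullback.fst p (S.fromSpecStalk η) ≫ g₂.left = u := hg₂
    apply Over.OverMorphism.ext
    change g₂.left = gg
    apply eq_of_fst_comp_eq (S.fromSpecStalk η) p q
    · exact Over.w g₂
    · exact hggq
    · rw [hg₂']
      apply Scheme.hom_ext_of_forall
      intro z
      refine ⟨(pullback.fst p (S.fromSpecStalk η)) ⁻¹ᵁ
        V ((pullback.fst p (S.fromSpecStalk η)).base z), hyV _, ?_⟩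
      rw [hcompat, ← Category.assoc, ← morphismRestrict_ι, Category.assoc, hgg]

end Groth.Agent.Lib.Helper20NeronLft
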