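import Mathlib
import Groth.Agent.Lib.Helper20NeronLft2

set_option autoImplicit false
universe v u
open AlgebraicGeometry CategoryTheory CategoryTheory.Limits TopologicalSpace
open Groth.Agent.Lib.Helper20.NeronCat Groth.Agent.Lib.Helper20NeronLft

namespace Groth.Agent.Lib.Helper20NeronDesc


/-- Morphisms to a scheme separated over `S` that agree after precomposition with a
scheme-theoretically dominant morphism (and have the same composite to `S`) are equal. -/
theorem eq_of_std_comp_eq {W V G S : Scheme.{u}} (w : W ⟶ V) [IsSchemeTheoreticallyDominant w]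
    (q : G ⟶ S) [IsSeparated q] (a b : V ⟶ G) (hab : a ≫ q = b ≫ q) (h : w ≫ a = w ≫ b) :
    a = b := by
  let W' : Over S := Over.mk (w ≫ a ≫ q)
  let V' : Over S := Over.mk (a ≫ q)
  let G' : Over S := Over.mk q
  let u : W' ⟶ V' := Over.homMk w
  let g₁ : V' ⟶ G' := Over.homMk a rfl
  let g₂ : V' ⟶ G' := Over.homMk b hab.symm
  have hu : u ≫ g₁ = u ≫ g₂ := by
    ext1
    exact h
  have hsep : IsSeparated G'.hom := ‹IsSeparated q›
  have hcl : IsClosedImmersion (equalizer.ι g₁ g₂).left := inferInstance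
  have hfac : (equalizer.lift u hu).left ≫ (equalizer.ι g₁ g₂).left = u.left := by
    rw [← Over.comp_left, equalizer.lift_ι]
  have hker : (equalizer.ι g₁ g₂).left.ker = ⊥ := by
    rw [← le_bot_iff]
    have := Scheme.Hom.le_ker_comp (equalizer.lift u hu).left (equalizer.ι g₁ g₂).left
    have hstd' : IsSchemeTheoreticallyDominant u.left := ‹IsSchemeTheoreticallyDominant w›
    rw [hfac, Scheme.Hom.ker_eq_bot u.left] at this
    exact this
  have hiso : IsIso (equalizer.ι g₁ g₂).left := IsClosedImmersion.isIso_iff_ker_eq_bot.mpr hker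
  have : g₁ = g₂ := by
    ext1
    rw [← cancel_epi (equalizer.ι g₁ g₂).left]
    exact congr($(equalizer.condition g₁ g₂).left)
  exact congrArg (fun t => t.left) this

/-- `Spec` of an injective ring map is scheme-theoretically dominant. -/
theorem std_specMap_of_injective {A B : CommRingCat.{u}} (φ : A ⟶ B)
    (h : Function.Injective φ.hom) : IsSchemeTheoreticallyDominant (Spec.map φ) := by
  rw [isSchemeTheoreticallyDominant_iff, Scheme.ker_of_isAffine]
  have hk : RingHom.ker (Spec.map φ).appTop.hom = ⊥ := by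
    rw [← RingHom.injective_iff_ker_eq_bot]
    have hnat := Scheme.ΓSpecIso_naturality φ
    have h1 : Function.Injective ((Spec.map φ).appTop ≫ (Scheme.ΓSpecIso B).hom).hom := by
      rw [hnat]
      exact h.comp (ConcreteCategory.bijective_of_isIso (Scheme.ΓSpecIso A).hom).1
    exact Function.Injective.of_comp h1
  rw [hk]
  apply Scheme.IdealSheafData.ext_of_isAffine
  simp

theorem std_fromSpecStalkOfMem {Y : Scheme.{u}} (V : Y.Opens) (hV : IsAffineOpen V) (y : Y)
    (hy : y ∈ V) (hinj : Function.Injective (Y.presheaf.germ V y hy)) :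
    IsSchemeTheoreticallyDominant (V.fromSpecStalkOfMem y hy) := by
  have h1 : V.fromSpecStalkOfMem y hy = Spec.map (Y.presheaf.germ V y hy) ≫ hV.isoSpec.inv := by
    rw [← cancel_mono V.ι, Scheme.Opens.fromSpecStalkOfMem_ι, Category.assoc,
      IsAffineOpen.isoSpec_inv_ι, ← hV.fromSpecStalk_eq_fromSpecStalk hy]
    rfl
  rw [h1]
  have := std_specMap_of_injective (Y.presheaf.germ V y hy) hinj
  infer_instance




/-- Gluing: the unique extension property along a scheme-theoretically dominant quasi-compact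
`ι : T ⟶ S` for a flat `S`-scheme `Y` and a separated `S`-scheme `G` can be checked locally on `Y`.
-/
theorem ext_of_forall_exists_local {S T Y G : Scheme.{u}} (ι : T ⟶ S)
    [IsSchemeTheoreticallyDominant ι] [QuasiCompact ι]
    (p : Y ⟶ S) [Flat p] (q : G ⟶ S) [IsSeparated q]
    (hloc : ∀ u : pullback p ι ⟶ G, u ≫ q = pullback.fst p ι ≫ p → ∀ y : Y,
      ∃ (V : Y.Opens) (_ : y ∈ V) (g : (V : Scheme.{u}) ⟶ G), g ≫ q = V.ι ≫ p ∧
        ((pullback.fst p ι) ⁻¹ᵁ V).ι ≫ u = (pullback.fst p ι ∣_ V) ≫ g) :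
    Ext ι (Over.mk p) (Over.mk q) := by
  intro u hu
  have hu' : u ≫ q = pullback.fst p ι ≫ p := hu
  choose V hyV g hgq hcompat using hloc u hu'
  let 𝒰 : Y.OpenCover := Y.openCoverOfIsOpenCover V (by
    rw [IsOpenCover, eq_top_iff]
    intro y _
    exact TopologicalSpace.Opens.mem_iSup.mpr ⟨y, hyV y⟩)
  have hglue : ∀ x y : Y, pullback.fst (𝒰.f x) (𝒰.f y) ≫ g x = pullback.snd (𝒰.f x) (𝒰.f y) ≫ g y := by
    intro x y
    have hflat : Flat (pullback.fst (V x).ι (V y).ι ≫ (V x).ι ≫ p) := inferInstance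
    apply eq_of_fst_comp_eq ι (pullback.fst (V x).ι (V y).ι ≫ (V x).ι ≫ p) q
    · change (pullback.fst (V x).ι (V y).ι ≫ g x) ≫ q = pullback.fst (V x).ι (V y).ι ≫ (V x).ι ≫ p
      rw [Category.assoc, hgq x]
    · change (pullback.snd (V x).ι (V y).ι ≫ g y) ≫ q = pullback.fst (V x).ι (V y).ι ≫ (V x).ι ≫ p
      rw [Category.assoc, hgq y, ← pullback.condition_assoc]
    · -- agreement over the generic fibre
      have hρc : (pullback.fst (pullback.fst (V x).ι (V y).ι ≫ (V x).ι ≫ p) ι ≫
          pullback.fst (V x).ι (V y).ι ≫ (V x).ι) ≫ p =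
          pullback.snd (pullback.fst (V x).ι (V y).ι ≫ (V x).ι ≫ p) ι ≫ ι := by
        rw [← pullback.condition]
        simp only [Category.assoc]
      let ρ := pullback.lift _ _ hρc
      have hρ1 : ρ ≫ pullback.fst p ι =
          pullback.fst (pullback.fst (V x).ι (V y).ι ≫ (V x).ι ≫ p) ι ≫
          pullback.fst (V x).ι (V y).ι ≫ (V x).ι := pullback.lift_fst _ _ _
      have h1 := comp_eq_of_compat ι p u (V x) (g x) (hcompat x) ρ
        (pullback.fst (pullback.fst (V x).ι (V y).ι ≫ (V x).ι ≫ p) ι ≫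
          pullback.fst (V x).ι (V y).ι) (by rw [hρ1]; simp only [Category.assoc])
      have h2 := comp_eq_of_compat ι p u (V y) (g y) (hcompat y) ρ
        (pullback.fst (pullback.fst (V x).ι (V y).ι ≫ (V x).ι ≫ p) ι ≫
          pullback.snd (V x).ι (V y).ι) (by
            rw [hρ1]; simp only [Category.assoc]; rw [pullback.condition])
      simp only [Category.assoc] at h1 h2
      change pullback.fst _ _ ≫ pullback.fst (V x).ι (V y).ι ≫ g x =
        pullback.fst _ _ ≫ pullback.snd (V x).ι (V y).ι ≫ g y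
      rw [h1, h2]
  let gg : Y ⟶ G := 𝒰.glueMorphisms g hglue
  have hgg : ∀ y : Y, (V y).ι ≫ gg = g y := fun y => 𝒰.ι_glueMorphisms g hglue y
  have hggq : gg ≫ q = p := by
    apply 𝒰.hom_ext
    intro y
    change (V y).ι ≫ gg ≫ q = (V y).ι ≫ p
    rw [← Category.assoc, hgg, hgq]
  refine ⟨Over.homMk gg hggq, ?_, ?_⟩
  · change pullback.fst p ι ≫ gg = u
    apply Scheme.hom_ext_of_forall
    intro z
    refine ⟨(pullback.fst p ι) ⁻¹ᵁ V ((pullback.fst p ι).base z),
      hyV _, ?_⟩
    rw [hcompat, ← Category.assoc, ← morphismRestrict_ι, Category.assoc, hgg]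
  · intro g₂ hg₂
    have hg₂' : pullback.fst p ι ≫ g₂.left = u := hg₂
    apply Over.OverMorphism.ext
    change g₂.left = gg
    apply eq_of_fst_comp_eq ι p q
    · exact Over.w g₂
    · exact hggq
    · rw [hg₂']
      apply Scheme.hom_ext_of_forall
      intro z
      refine ⟨(pullback.fst p ι) ⁻¹ᵁ
        V ((pullback.fst p ι).base z), hyV _, ?_⟩
      rw [hcompat, ← Category.assoc, ← morphismRestrict_ι, Category.assoc, hgg]


theorem flat_fromSpecStalk (Y : Scheme.{u}) (y : Y) : Flat (Y.fromSpecStalk y) := by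
  obtain ⟨_, ⟨U, hU, rfl⟩, hyU, -⟩ := Y.isBasis_affineOpens.exists_subset_of_mem_open
    (Set.mem_univ y) isOpen_univ
  rw [← hU.fromSpecStalk_eq_fromSpecStalk hyU]
  delta IsAffineOpen.fromSpecStalk
  have : IsOpenImmersion hU.fromSpec := hU.isOpenImmersion_fromSpec
  have : Flat (Spec.map (Y.presheaf.germ U y hyU)) := by
    rw [HasRingHomProperty.Spec_iff (P := @Flat)]
    let _ := Y.presheaf.algebra_section_stalk ⟨y, hyU⟩
    have := hU.isLocalization_stalk ⟨y, hyU⟩
    have : Module.Flat Γ(Y, U) (Y.presheaf.stalk y) :=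
      IsLocalization.flat _ (hU.primeIdealOf ⟨y, hyU⟩).asIdeal.primeCompl
    exact (RingHom.flat_algebraMap_iff).mpr this
  infer_instance

/-- `Spec` of the stalk map of a flat morphism is flat, surjective and quasi-compact. -/
theorem specMap_stalkMap_props {X Y : Scheme.{u}} (f : X ⟶ Y) [Flat f] (x : X) :
    Flat (Spec.map (f.stalkMap x)) ∧ Surjective (Spec.map (f.stalkMap x)) := by
  have hfl : (f.stalkMap x).hom.Flat := Flat.stalkMap f x
  refine ⟨?_, ?_⟩
  · rw [HasRingHomProperty.Spec_iff (P := @Flat)]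
    exact hfl
  · have hloc : IsLocalHom (f.stalkMap x).hom := inferInstance
    algebraize [(f.stalkMap x).hom]
    have : Module.FaithfullyFlat (Y.presheaf.stalk (f x)) (X.presheaf.stalk x) :=
      Module.FaithfullyFlat.of_flat_of_isLocalHom
    constructor
    exact PrimeSpectrum.comap_surjective_of_faithfullyFlat
      (A := Y.presheaf.stalk (f x)) (B := X.presheaf.stalk x)


/-- Local existence of an extension by fpqc descent along the local rings of a flat cover. -/
theorem exists_local_of_descent {S S' T Y G : Scheme.{u}} (ι : T ⟶ S)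
    [IsSchemeTheoreticallyDominant ι] [QuasiCompact ι] [Flat ι]
    (g : S' ⟶ S) [Flat g]
    (p : Y ⟶ S) [Flat p] [IsLocallyNoetherian Y] (q : G ⟶ S) [LocallyOfFiniteType q]
    [IsSeparated q]
    (u : pullback p ι ⟶ G) (hu : u ≫ q = pullback.fst p ι ≫ p)
    (φ : pullback p g ⟶ G) (hφq : φ ≫ q = pullback.fst p g ≫ p)
    (hφ : ∀ (R : Scheme.{u}) (r : R ⟶ pullback p ι) (a : R ⟶ pullback p g),
      a ≫ pullback.fst p g = r ≫ pullback.fst p ι → a ≫ φ = r ≫ u)
    (y' : ↑(pullback p g)) :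
    ∃ (V : Y.Opens) (_ : (pullback.fst p g).base y' ∈ V) (gV : (V : Scheme.{u}) ⟶ G),
      gV ≫ q = V.ι ≫ p ∧
        ((pullback.fst p ι) ⁻¹ᵁ V).ι ≫ u = (pullback.fst p ι ∣_ V) ≫ gV := by
  set pr := pullback.fst p g with hpr
  set y := pr.base y' with hy
  set c := Spec.map (pr.stalkMap y') with hc_def
  set j := Y.fromSpecStalk y with hj
  set j' := (pullback p g).fromSpecStalk y' with hj'
  have hc : c ≫ j = j' ≫ pr := Scheme.SpecMap_stalkMap_fromSpecStalk pr (x := y')
  obtain ⟨hcflat, hcsurj⟩ := specMap_stalkMap_props pr y'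
  have hjflat : Flat j := flat_fromSpecStalk Y y
  have hcqc : QuasiCompact c := inferInstance
  have hceff : EffectiveEpi c := inferInstance
  set ψ' := j' ≫ φ with hψ'
  have hψ'q : ψ' ≫ q = c ≫ j ≫ p := by
    rw [hψ', Category.assoc, hφq, ← Category.assoc, ← hc, Category.assoc]
  -- descent condition
  have hfst : pullback.fst c c ≫ j' ≫ pr = pullback.fst c c ≫ c ≫ j := by rw [hc]
  have hsnd : pullback.snd c c ≫ j' ≫ pr = pullback.fst c c ≫ c ≫ j := by
    rw [← hc, pullback.condition_assoc]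
  have hkey : pullback.fst c c ≫ ψ' = pullback.snd c c ≫ ψ' := by
    have hflat : Flat (pullback.fst c c ≫ c ≫ j ≫ p) := inferInstance
    apply eq_of_fst_comp_eq ι (pullback.fst c c ≫ c ≫ j ≫ p) q
    · rw [Category.assoc, hψ'q]
    · rw [Category.assoc, hψ'q, pullback.condition_assoc]
    · have hrc : (pullback.fst (pullback.fst c c ≫ c ≫ j ≫ p) ι ≫ pullback.fst c c ≫ c ≫ j) ≫ p =
          pullback.snd (pullback.fst c c ≫ c ≫ j ≫ p) ι ≫ ι := by
        rw [← pullback.condition]
        simp only [Category.assoc]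
      let r := pullback.lift _ _ hrc
      have hr1 : r ≫ pullback.fst p ι =
          pullback.fst (pullback.fst c c ≫ c ≫ j ≫ p) ι ≫ pullback.fst c c ≫ c ≫ j :=
        pullback.lift_fst _ _ _
      have h1 := hφ _ r (pullback.fst (pullback.fst c c ≫ c ≫ j ≫ p) ι ≫ pullback.fst c c ≫ j')
        (by rw [hr1, Category.assoc, Category.assoc, hfst])
      have h2 := hφ _ r (pullback.fst (pullback.fst c c ≫ c ≫ j ≫ p) ι ≫ pullback.snd c c ≫ j')
        (by rw [hr1, Category.assoc, Category.assoc, hsnd])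
      simp only [Category.assoc] at h1 h2
      rw [hψ', h1, h2]
  have hdesc : ∀ {Z : Scheme.{u}} (g₁ g₂ : Z ⟶ Spec ((pullback p g).presheaf.stalk y')),
      g₁ ≫ c = g₂ ≫ c → g₁ ≫ ψ' = g₂ ≫ ψ' := by
    intro Z g₁ g₂ h12
    have e1 : g₁ = pullback.lift g₁ g₂ h12 ≫ pullback.fst c c := (pullback.lift_fst _ _ _).symm
    have e2 : g₂ = pullback.lift g₁ g₂ h12 ≫ pullback.snd c c := (pullback.lift_snd _ _ _).symm
    rw [e1, Category.assoc, hkey, ← Category.assoc, ← e2]
  let ψ := EffectiveEpi.desc c ψ' hdesc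
  have hcψ : c ≫ ψ = ψ' := EffectiveEpi.fac c ψ' hdesc
  have hψq : ψ ≫ q = j ≫ p := by
    rw [← cancel_epi c, ← Category.assoc, hcψ, hψ'q]
  obtain ⟨U₀, hyU₀, gU, hψg, hgq⟩ := spread_out_of_isGermInjective' p q ψ hψq
  obtain ⟨V, hyV, hVaff, hVU₀, hinj⟩ := Y.exists_le_and_germ_injective y U₀ hyU₀
  refine ⟨V, hyV, Y.homOfLE hVU₀ ≫ gU, ?_, ?_⟩
  · rw [Category.assoc, hgq, ← Category.assoc, Scheme.homOfLE_ι]
  set F := pullback.fst p ι with hF
  set jV := V.fromSpecStalkOfMem y hyV with hjV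
  have hjVstd : IsSchemeTheoreticallyDominant jV := std_fromSpecStalkOfMem V hVaff y hyV hinj
  have hVa : IsAffine (V : Scheme.{u}) := hVaff
  have hjVqc : QuasiCompact jV := inferInstance
  have hFflat : Flat (F ∣_ V) := inferInstance
  have hwstd : IsSchemeTheoreticallyDominant (pullback.fst (F ∣_ V) jV) := inferInstance
  have hjVψ : jV ≫ Y.homOfLE hVU₀ ≫ gU = ψ := by
    rw [hψg, ← Category.assoc]
    congr 1
    rw [← cancel_mono U₀.ι, Category.assoc, Scheme.homOfLE_ι, Scheme.Opens.fromSpecStalkOfMem_ι,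
      Scheme.Opens.fromSpecStalkOfMem_ι]
  apply eq_of_std_comp_eq (pullback.fst (F ∣_ V) jV) q
  · rw [Category.assoc, hu, Category.assoc, Category.assoc, hgq, ← Category.assoc (Y.homOfLE hVU₀),
      Scheme.homOfLE_ι, ← Category.assoc, ← Category.assoc, morphismRestrict_ι]
  · -- agreement on `W`
    have hR : pullback.fst (F ∣_ V) jV ≫ (F ∣_ V) ≫ Y.homOfLE hVU₀ ≫ gU =
        pullback.snd (F ∣_ V) jV ≫ ψ := by
      rw [pullback.condition_assoc, hjVψ]
    rw [hR]
    -- check after the epi `W' ⟶ W`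
    have hepi : Epi (pullback.fst (pullback.snd (F ∣_ V) jV) c) := by
      have : EffectiveEpi (pullback.fst (pullback.snd (F ∣_ V) jV) c) := inferInstance
      infer_instance
    rw [← cancel_epi (pullback.fst (pullback.snd (F ∣_ V) jV) c)]
    have hjVι : jV ≫ V.ι = j := Scheme.Opens.fromSpecStalkOfMem_ι V y hyV
    have e1 : pullback.fst (pullback.snd (F ∣_ V) jV) c ≫ pullback.snd (F ∣_ V) jV =
        pullback.snd (pullback.snd (F ∣_ V) jV) c ≫ c := pullback.condition
    have e2 : pullback.fst (F ∣_ V) jV ≫ (F ∣_ V) = pullback.snd (F ∣_ V) jV ≫ jV :=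
      pullback.condition
    have h3 := hφ _ (pullback.fst (pullback.snd (F ∣_ V) jV) c ≫ pullback.fst (F ∣_ V) jV ≫
      (F ⁻¹ᵁ V).ι) (pullback.snd (pullback.snd (F ∣_ V) jV) c ≫ j') (by
        simp only [Category.assoc]
        rw [← hc, ← hjVι, ← morphismRestrict_ι, reassoc_of% e2, ← reassoc_of% e1])
    simp only [Category.assoc] at h3 ⊢
    rw [← h3, pullback.condition_assoc, hcψ]


end Groth.Agent.Lib.Helper20NeronDesc
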