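import Mathlib

set_option autoImplicit false

namespace Groth.Agent.Lib.Helper20.OnePt

universe u v

section Ring

variable {A : Type u} {B : Type v} [CommRing A] [CommRing B] [Algebra A B]

/-- Ring-level core: a finite unramified algebra with a single prime `q` over `p` and trivial
residue field extension is, after inverting some `r ∉ p`, a quotient of `A`. -/
theorem exists_mul_mem_range [Module.Finite A B] [Algebra.FormallyUnramified A B]
    (p : Ideal A) [p.IsPrime] (q : Ideal B) [q.IsPrime] [q.LiesOver p]
    (hq : p.primesOver B = {q})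
    (H' : ∀ b : B, ∃ a : A, ∃ g : A, g ∉ p ∧ algebraMap A B g * b - algebraMap A B a ∈ q) :
    ∃ r : A, r ∉ p ∧ ∀ b : B, ∃ a : A, algebraMap A B r * b = algebraMap A B a := by
  let _ := Localization.AtPrime.algebraOfLiesOver p q
  have H : Function.Surjective (algebraMap p.ResidueField q.ResidueField) := by
    let F := (algebraMap p.ResidueField q.ResidueField).fieldRange
    have hB : ∀ b : B, algebraMap B q.ResidueField b ∈ F := by
      intro b
      obtain ⟨a, g, hg, hmem⟩ := H' b
      have h0 : algebraMap B q.ResidueField (algebraMap A B g * b - algebraMap A B a) = 0 :=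
        (Ideal.algebraMap_residueField_eq_zero).mpr hmem
      rw [map_sub, map_mul, sub_eq_zero, ← IsScalarTower.algebraMap_apply,
        ← IsScalarTower.algebraMap_apply,
        IsScalarTower.algebraMap_apply A p.ResidueField q.ResidueField,
        IsScalarTower.algebraMap_apply A p.ResidueField q.ResidueField] at h0
      have hg0 : algebraMap A p.ResidueField g ≠ 0 := by
        rw [Ne, Ideal.algebraMap_residueField_eq_zero]
        exact hg
      have hg1 : algebraMap p.ResidueField q.ResidueField (algebraMap A p.ResidueField g) ≠ 0 := by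
        rwa [Ne, map_eq_zero]
      refine ⟨algebraMap A p.ResidueField a / algebraMap A p.ResidueField g, ?_⟩
      rw [map_div₀, div_eq_iff hg1, ← h0, mul_comm]
    intro x
    obtain ⟨y, rfl⟩ := IsLocalRing.residue_surjective x
    obtain ⟨⟨b, c⟩, h⟩ := IsLocalization.surj q.primeCompl y
    have h1 := congrArg (IsLocalRing.residue (Localization.AtPrime q)) h
    rw [map_mul] at h1
    have hc0 : algebraMap B q.ResidueField c.1 ≠ 0 := by
      rw [Ne, Ideal.algebraMap_residueField_eq_zero]
      exact c.2
    have h2 : IsLocalRing.residue (Localization.AtPrime q) y =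
        algebraMap B q.ResidueField b / algebraMap B q.ResidueField c.1 := by
      rw [eq_div_iff hc0]
      exact h1
    have : IsLocalRing.residue (Localization.AtPrime q) y ∈ F := by
      rw [h2]
      exact F.div_mem (hB b) (hB c.1)
    exact this
  have hsurj := Localization.localRingHom_surjective_of_primesOver_eq_singleton hq H
  -- every element of `B` is a fraction
  have hfrac : ∀ x : B, ∃ a : A, ∃ b : A, b ∉ p ∧ algebraMap A B a = x * algebraMap A B b := by
    intro x
    have := (IsLocalization.mk'_surjective p.primeCompl).exists.mp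
      (hsurj (algebraMap _ _ x))
    simp only [Localization.localRingHom_mk', Prod.exists, Subtype.exists,
      Ideal.mem_primeCompl_iff, IsLocalization.mk'_eq_iff_eq_mul, exists_prop, ← map_mul,
      IsLocalization.eq_iff_exists q.primeCompl] at this
    obtain ⟨a, b, hbp, c, hcq, hc⟩ := this
    obtain ⟨d, hd, e, he⟩ := Ideal.exists_notMem_dvd_algebraMap_of_primesOver_eq_singleton hq _ hcq
    exact ⟨d * a, d * b, ‹p.IsPrime›.mul_notMem hd hbp, by grind⟩
  choose a b hbp e using hfrac
  classical
  obtain ⟨s, hs⟩ := Module.Finite.fg_top (R := A) (M := B)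
  refine ⟨∏ i ∈ s, b i, ?_, ?_⟩
  · exact prod_mem (S := p.primeCompl) fun _ _ ↦ hbp _
  · intro x
    have hx : x ∈ Submodule.span A (s : Set B) := by rw [hs]; trivial
    induction hx using Submodule.span_induction with
    | mem y hy =>
      refine ⟨(∏ i ∈ s.erase y, b i) * a y, ?_⟩
      rw [← Finset.prod_erase_mul s b hy, map_mul, map_mul, e y]
      ring
    | zero => exact ⟨0, by simp⟩
    | add y z _ _ hy hz =>
      obtain ⟨ay, hay⟩ := hy
      obtain ⟨az, haz⟩ := hz
      exact ⟨ay + az, by rw [mul_add, hay, haz, map_add]⟩
    | smul c y _ hy =>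
      obtain ⟨ay, hay⟩ := hy
      exact ⟨c * ay, by rw [Algebra.smul_def, mul_left_comm, hay, map_mul]⟩

end Ring

end Groth.Agent.Lib.Helper20.OnePt
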