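import Mathlib
import Groth.Agent.Lib.Helper20OnePtRing

set_option autoImplicit false
universe u

open CategoryTheory CategoryTheory.Limits AlgebraicGeometry

namespace Groth.Agent.Lib.Helper20.OnePt

theorem mem_primeIdealOf_iff {X : Scheme.{u}} {U : X.Opens} (hU : IsAffineOpen U) (x : U)
    (a : Γ(X, U)) : a ∈ (hU.primeIdealOf x).asIdeal ↔ (x : X) ∉ X.basicOpen a := by
  have h1 := hU.fromSpec_preimage_basicOpen a
  have h2 : (x : X) ∈ X.basicOpen a ↔ hU.primeIdealOf x ∈ PrimeSpectrum.basicOpen a := by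
    rw [← h1]
    change _ ↔ hU.fromSpec (hU.primeIdealOf x) ∈ X.basicOpen a
    rw [hU.fromSpec_primeIdealOf]
  rw [h2, PrimeSpectrum.mem_basicOpen, not_not]

theorem exists_basicOpen_app_surjective {X S : Scheme.{u}} (f : X ⟶ S) [IsFinite f]
    [FormallyUnramified f] (x : X) (hx : f ⁻¹' {f x} = {x})
    (hκ : Function.Surjective (f.residueFieldMap x))
    (U₀ : S.Opens) (hU₀ : IsAffineOpen U₀) (hs : f x ∈ U₀) :
    ∃ r : Γ(S, U₀), f x ∈ S.basicOpen r ∧ ∀ b : Γ(X, f ⁻¹ᵁ U₀), ∃ a : Γ(S, U₀),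
      (f.app U₀).hom r * b = (f.app U₀).hom a := by
  have hV₀ : IsAffineOpen (f ⁻¹ᵁ U₀) := hU₀.preimage f
  have hxV₀ : x ∈ f ⁻¹ᵁ U₀ := hs
  let _ : Algebra Γ(S, U₀) Γ(X, f ⁻¹ᵁ U₀) := (f.app U₀).hom.toAlgebra
  have hfin : Module.Finite Γ(S, U₀) Γ(X, f ⁻¹ᵁ U₀) := f.finite_app U₀ hU₀
  have hunr : Algebra.FormallyUnramified Γ(S, U₀) Γ(X, f ⁻¹ᵁ U₀) := by
    have := HasRingHomProperty.appLE @FormallyUnramified f inferInstance ⟨U₀, hU₀⟩
      ⟨f ⁻¹ᵁ U₀, hV₀⟩ le_rfl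
    rw [← Scheme.Hom.app_eq_appLE] at this
    exact this
  let p := hU₀.primeIdealOf ⟨f x, hs⟩
  let q := hV₀.primeIdealOf ⟨x, hxV₀⟩
  have halg : algebraMap Γ(S, U₀) Γ(X, f ⁻¹ᵁ U₀) = (f.app U₀).hom := rfl
  have hcomap : q.comap (f.app U₀).hom = p := by
    have := IsAffineOpen.comap_primeIdealOf_appLE (f := f) (x := x) U₀ hU₀ (f ⁻¹ᵁ U₀) hV₀ le_rfl hxV₀
    rw [← Scheme.Hom.app_eq_appLE] at this
    exact this
  have hlies : q.asIdeal.LiesOver p.asIdeal := by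
    constructor
    rw [← hcomap]
    rfl
  have hq : p.asIdeal.primesOver Γ(X, f ⁻¹ᵁ U₀) = {q.asIdeal} := by
    ext q'
    simp only [Set.mem_singleton_iff]
    constructor
    · rintro ⟨hq'prime, hq'over⟩
      let q'' : ↥(Spec Γ(X, f ⁻¹ᵁ U₀)) := (⟨q', hq'prime⟩ : PrimeSpectrum Γ(X, f ⁻¹ᵁ U₀))
      have h1 : f (hV₀.fromSpec q'') = f x := by
        have h2 := IsAffineOpen.SpecMap_appLE_fromSpec f hU₀ hV₀ le_rfl
        have h3 : hU₀.fromSpec (Spec.map (f.appLE U₀ (f ⁻¹ᵁ U₀) le_rfl) q'') =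
            f (hV₀.fromSpec q'') := by
          rw [← Scheme.Hom.comp_apply, ← Scheme.Hom.comp_apply, h2]
        rw [← h3]
        refine Eq.trans ?_ (hU₀.fromSpec_primeIdealOf ⟨f x, hs⟩)
        congr 1
        apply PrimeSpectrum.ext
        have e : f.appLE U₀ (f ⁻¹ᵁ U₀) le_rfl = f.app U₀ := (Scheme.Hom.app_eq_appLE ..).symm
        rw [e]
        exact hq'over.over.symm
      have h4 : hV₀.fromSpec q'' = x := by
        have : hV₀.fromSpec q'' ∈ f ⁻¹' {f x} := h1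
        rw [hx] at this
        exact this
      have h5 : hV₀.fromSpec q'' = hV₀.fromSpec q := by
        rw [h4, hV₀.fromSpec_primeIdealOf ⟨x, hxV₀⟩]
      have h6 := hV₀.fromSpec.isOpenEmbedding.injective h5
      exact congrArg PrimeSpectrum.asIdeal h6
    · rintro rfl
      exact ⟨q.isPrime, hlies⟩
  have H' : ∀ b : Γ(X, f ⁻¹ᵁ U₀), ∃ a : Γ(S, U₀), ∃ g : Γ(S, U₀), g ∉ p.asIdeal ∧
      algebraMap Γ(S, U₀) Γ(X, f ⁻¹ᵁ U₀) g * b - algebraMap Γ(S, U₀) Γ(X, f ⁻¹ᵁ U₀) a ∈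
        q.asIdeal := by
    intro b
    obtain ⟨z, hz⟩ := hκ (X.evaluation (f ⁻¹ᵁ U₀) x hxV₀ b)
    obtain ⟨t, rfl⟩ := S.residue_surjective (f x) z
    let _ := S.presheaf.algebra_section_stalk ⟨f x, hs⟩
    have hloc := hU₀.isLocalization_stalk ⟨f x, hs⟩
    obtain ⟨⟨a, g⟩, hag⟩ := IsLocalization.surj p.asIdeal.primeCompl t
    refine ⟨a, g.1, g.2, ?_⟩
    have h1 : S.residue (f x) t * S.evaluation U₀ (f x) hs g.1 = S.evaluation U₀ (f x) hs a := by
      have := congrArg (S.residue (f x)) hag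
      rw [map_mul] at this
      exact this
    have h2 := congrArg (f.residueFieldMap x) h1
    rw [map_mul, hz, Scheme.evaluation_naturality_apply,
      Scheme.evaluation_naturality_apply] at h2
    rw [mem_primeIdealOf_iff, ← Scheme.evaluation_eq_zero_iff_notMem_basicOpen (hx := hxV₀),
      map_sub, map_mul, sub_eq_zero, halg, mul_comm]
    exact h2
  obtain ⟨r, hr, hrb⟩ := exists_mul_mem_range p.asIdeal q.asIdeal hq H'
  refine ⟨r, ?_, hrb⟩
  by_contra hcon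
  exact hr ((mem_primeIdealOf_iff hU₀ ⟨f x, hs⟩ r).mpr hcon)

end Groth.Agent.Lib.Helper20.OnePt

namespace Groth.Agent.Lib.Helper20.OnePt

theorem app_basicOpen_surjective {X S : Scheme.{u}} (f : X ⟶ S) [IsAffineHom f]
    (U₀ : S.Opens) (hU₀ : IsAffineOpen U₀) (r : Γ(S, U₀))
    (hrb : ∀ b : Γ(X, f ⁻¹ᵁ U₀), ∃ a : Γ(S, U₀), (f.app U₀).hom r * b = (f.app U₀).hom a) :
    Function.Surjective (f.app (S.basicOpen r)).hom := by
  have hV₀ : IsAffineOpen (f ⁻¹ᵁ U₀) := hU₀.preimage f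
  have hle : S.basicOpen r ≤ U₀ := S.basicOpen_le r
  have hle' : f ⁻¹ᵁ S.basicOpen r ≤ f ⁻¹ᵁ U₀ := fun _ h => hle h
  have e : f ⁻¹ᵁ S.basicOpen r = X.basicOpen ((f.app U₀).hom r) := Scheme.preimage_basicOpen f r
  let _ : Algebra Γ(X, f ⁻¹ᵁ U₀) Γ(X, f ⁻¹ᵁ S.basicOpen r) :=
    (X.presheaf.map (homOfLE hle').op).hom.toAlgebra
  have hloc : IsLocalization.Away ((f.app U₀).hom r) Γ(X, f ⁻¹ᵁ S.basicOpen r) :=
    hV₀.isLocalization_of_eq_basicOpen ((f.app U₀).hom r) (homOfLE hle') e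
  have hnat : ∀ a : Γ(S, U₀), (f.app (S.basicOpen r)).hom ((S.presheaf.map (homOfLE hle).op).hom a) =
      (X.presheaf.map (homOfLE hle').op).hom ((f.app U₀).hom a) := by
    intro a
    have := f.naturality (homOfLE hle).op
    exact congr($this a)
  have hunit : IsUnit ((S.presheaf.map (homOfLE hle).op).hom r) :=
    S.toRingedSpace.isUnit_res_basicOpen r
  obtain ⟨u, hu⟩ := hunit
  intro y
  obtain ⟨⟨b, ⟨_, n, rfl⟩⟩, hy⟩ := IsLocalization.surj (Submonoid.powers ((f.app U₀).hom r)) y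
  obtain ⟨a, ha⟩ := hrb b
  refine ⟨(S.presheaf.map (homOfLE hle).op).hom a * ((u⁻¹ : _ˣ) : Γ(S, S.basicOpen r)) ^ (n + 1), ?_⟩
  have halg : ∀ z, algebraMap Γ(X, f ⁻¹ᵁ U₀) Γ(X, f ⁻¹ᵁ S.basicOpen r) z =
      (X.presheaf.map (homOfLE hle').op).hom z := fun _ => rfl
  simp only [halg, map_pow] at hy
  have h1 : y * ((f.app (S.basicOpen r)).hom (u : Γ(S, S.basicOpen r))) ^ (n + 1) =
      (f.app (S.basicOpen r)).hom ((S.presheaf.map (homOfLE hle).op).hom a) := by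
    rw [hu, hnat, hnat, pow_succ, ← mul_assoc, hy, ← map_mul, mul_comm, ha]
  rw [map_mul, map_pow, ← h1, mul_assoc, ← mul_pow, ← map_mul, Units.mul_inv, map_one, one_pow,
    mul_one]

end Groth.Agent.Lib.Helper20.OnePt

namespace Groth.Agent.Lib.Helper20.OnePt

theorem isClosedImmersion_morphismRestrict_of_app_surjective {X S : Scheme.{u}} (f : X ⟶ S)
    [IsAffineHom f] (U : S.Opens) (hU : IsAffineOpen U)
    (h : Function.Surjective (f.app U).hom) : IsClosedImmersion (f ∣_ U) := by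
  have : IsAffine (U : Scheme.{u}) := hU
  have : IsAffine ((f ⁻¹ᵁ U : X.Opens) : Scheme.{u}) := hU.preimage f
  apply IsClosedImmersion.of_surjective_of_isAffine
  rw [morphismRestrict_appTop]
  have key : ∀ W : S.Opens, W = U → Function.Surjective (f.app W).hom := by
    rintro W rfl
    exact h
  have h1 := key (U.ι ''ᵁ ⊤) U.ι_image_top
  have h2 : Function.Bijective
      (X.presheaf.map (eqToHom (image_morphismRestrict_preimage f U ⊤)).op).hom :=
    ConcreteCategory.bijective_of_isIso _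
  exact h2.surjective.comp h1

/-- A finite unramified morphism with a one-point fibre and trivial residue field extension is a
closed immersion near the image point. -/
theorem exists_isClosedImmersion_morphismRestrict {X S : Scheme.{u}} (f : X ⟶ S) [IsFinite f]
    [FormallyUnramified f] (x : X) (hx : f ⁻¹' {f x} = {x})
    (hκ : Function.Surjective (f.residueFieldMap x)) :
    ∃ U : S.Opens, f x ∈ U ∧ IsAffineOpen U ∧ IsClosedImmersion (f ∣_ U) := by
  obtain ⟨_, ⟨U₀, hU₀, rfl⟩, hs, -⟩ :=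
    S.isBasis_affineOpens.exists_subset_of_mem_open (Set.mem_univ (f x)) isOpen_univ
  obtain ⟨r, hr, hrb⟩ := exists_basicOpen_app_surjective f x hx hκ U₀ hU₀ hs
  refine ⟨S.basicOpen r, hr, hU₀.basicOpen r, ?_⟩
  exact isClosedImmersion_morphismRestrict_of_app_surjective f _ (hU₀.basicOpen r)
    (app_basicOpen_surjective f U₀ hU₀ r hrb)

end Groth.Agent.Lib.Helper20.OnePt
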