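import Mathlib
import Groth.Agent.Lib.Helper20OnePt
import Groth.Agent.Lib.Helper20FlatCI

set_option autoImplicit false
universe u

open CategoryTheory CategoryTheory.Limits AlgebraicGeometry

namespace Groth.Agent.Lib.Helper20.OnePt

lemma morphismRestrict_apply_ι {X Y : Scheme.{u}} (g : X ⟶ Y) (W : Y.Opens)
    (y : ↥((g ⁻¹ᵁ W : X.Opens) : Scheme.{u})) :
    W.ι ((g ∣_ W) y) = g ((g ⁻¹ᵁ W).ι y) := by
  rw [← Scheme.Hom.comp_apply, ← Scheme.Hom.comp_apply, morphismRestrict_ι]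

lemma surjective_morphismRestrict_of_subset_range {X Y : Scheme.{u}} (g : X ⟶ Y) (W : Y.Opens)
    (h : (W : Set Y) ⊆ Set.range g) : Surjective (g ∣_ W) := by
  constructor
  intro w
  have hw : W.ι w ∈ (W : Set Y) := by
    have : W.ι w ∈ Set.range W.ι := ⟨w, rfl⟩
    rwa [W.range_ι] at this
  obtain ⟨y, hy⟩ := h hw
  have hyW : y ∈ (g ⁻¹ᵁ W : X.Opens) := by
    change g y ∈ W
    rw [hy]
    exact hw
  have hyr : y ∈ Set.range (g ⁻¹ᵁ W).ι := by
    rw [Scheme.Opens.range_ι]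
    exact hyW
  obtain ⟨y', rfl⟩ := hyr
  refine ⟨y', W.ι.injective ?_⟩
  rw [morphismRestrict_apply_ι, hy]

theorem exists_isIso_morphismRestrict {X S : Scheme.{u}} (f : X ⟶ S) [IsFinite f] [Etale f]
    (x : X) (hx : f ⁻¹' {f x} = {x}) (hκ : Function.Surjective (f.residueFieldMap x)) :
    ∃ U : S.Opens, f x ∈ U ∧ IsIso (f ∣_ U) := by
  obtain ⟨U, hU, -, hci⟩ := exists_isClosedImmersion_morphismRestrict f x hx hκ
  have hg : Etale (f ∣_ U) := inferInstance
  have hopen : IsOpen (Set.range (f ∣_ U)) := (f ∣_ U).isOpenMap.isOpen_range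
  let W : U.toScheme.Opens := ⟨Set.range (f ∣_ U), hopen⟩
  have hxr : x ∈ Set.range (f ⁻¹ᵁ U).ι := by
    rw [Scheme.Opens.range_ι]
    exact hU
  obtain ⟨x', hx'⟩ := hxr
  have hsr : f x ∈ Set.range U.ι := by
    rw [Scheme.Opens.range_ι]
    exact hU
  obtain ⟨s', hs'⟩ := hsr
  have hsW : s' ∈ W := by
    refine ⟨x', U.ι.injective ?_⟩
    rw [morphismRestrict_apply_ι, hx', hs']
  have h1 : IsClosedImmersion ((f ∣_ U) ∣_ W) := inferInstance
  have h2 : Flat ((f ∣_ U) ∣_ W) := inferInstance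
  have h3 : Surjective ((f ∣_ U) ∣_ W) :=
    surjective_morphismRestrict_of_subset_range _ W (fun _ h => h)
  have hiso : IsIso ((f ∣_ U) ∣_ W) :=
    Groth.Agent.Lib.Helper20.FlatCI.isIso_of_isClosedImmersion_of_flat_of_surjective _
  refine ⟨U.ι ''ᵁ W, ⟨s', hsW, hs'⟩, ?_⟩
  exact ((MorphismProperty.isomorphisms Scheme.{u}).arrow_mk_iso_iff
    (morphismRestrictRestrict f U W)).mp hiso

end Groth.Agent.Lib.Helper20.OnePt
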