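import Mathlib
import Groth.Agent.Lib.Helper20NeronCat2
import Groth.Agent.Lib.Helper20OnePtIso

set_option autoImplicit false
universe u
open CategoryTheory AlgebraicGeometry

namespace Groth.Agent.Lib.Helper20.NeronCat

theorem isIso_morphismRestrict_ι {S : Scheme.{u}} (S₀ S₁ : S.Opens) (h01 : S₀ ≤ S₁) :
    IsIso (S₁.ι ∣_ S₀) := by
  have h1 : IsOpenImmersion (S₁.ι ∣_ S₀) := inferInstance
  have h2 : Surjective (S₁.ι ∣_ S₀) := by
    apply Groth.Agent.Lib.Helper20.OnePt.surjective_morphismRestrict_of_subset_range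
    rw [Scheme.Opens.range_ι]
    exact h01
  exact (isIso_iff_isOpenImmersion_and_surjective _).mpr ⟨h1, h2⟩

end Groth.Agent.Lib.Helper20.NeronCat
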