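import Mathlib
import Groth.Agent.Lib.Helper20NeronCat3

set_option autoImplicit false
universe u
open CategoryTheory AlgebraicGeometry

namespace Groth.Agent.Lib.Helper20.NeronCat

theorem smooth_isMultiplicative : MorphismProperty.IsMultiplicative @Smooth where
  id_mem X := inferInstanceAs (Smooth (𝟙 X))

set_option backward.isDefEq.respectTransparency.types false in
theorem smooth_hasOfPostcompProperty_etale :
    MorphismProperty.HasOfPostcompProperty @Smooth @Etale := by
  have := smooth_isMultiplicative
  rw [MorphismProperty.hasOfPostcompProperty_iff_le_diagonal]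
  intro X Y f hf
  have : Etale f := hf
  have : Etale (Limits.pullback.diagonal f) := inferInstance
  exact inferInstanceAs <| Smooth (Limits.pullback.diagonal f)

theorem smooth_of_comp_etale {X Y Z : Scheme.{u}} (v : X ⟶ Y) (f : Y ⟶ Z) [Etale f]
    (h : Smooth (v ≫ f)) : Smooth v := by
  have := smooth_hasOfPostcompProperty_etale
  exact MorphismProperty.of_postcomp (W := @Smooth) (W' := @Etale) v f ‹_› h

end Groth.Agent.Lib.Helper20.NeronCat
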