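import Mathlib
import Groth.Prelude
import Groth.Agent.Lib.Helper23SubSh4
set_option backward.isDefEq.respectTransparency.types false

/-!
# Extension of locally finitely generated subsheaves: general initial datum (helper23)

Namespace `Groth.Agent.Lib.Helper23.SubSh`.

* `Sat.mono`, `sat_genSub`, `genOn_genSub`
* `Stage'`, `exists_locGen_top'` (Zorn): a subsheaf `S₀ ⊆ H` saturated w.r.t. `U` and locally finitely generated on `U`
  contains a subsheaf `S` which agrees with `S₀` on `U` and is locally finitely generated on `X`.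
* `exists_sub_of_locGen`: the resulting quasi-coherent module of finite type.
-/

set_option autoImplicit false
universe u v
open CategoryTheory Limits AlgebraicGeometry TopologicalSpace Opposite

namespace Groth.Agent.Lib.Helper23.SubSh
open Groth.Agent.Lib.Helper6 Groth.Agent.Lib.Helper2.Push Groth.Agent.Lib.Helper23.Extend
  Groth.Agent.Lib.Helper23.QCohLocal Groth.Agent.Lib.Helper23.FinType

variable {X : Scheme.{u}} {H : X.Modules}

theorem Sat.mono {S : SubSh H} {W W' : X.Opens} (h : Sat S W) (hle : W ≤ W') : Sat S W' := by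
  intro A s hs
  apply h A s
  have h1 := S.res' (inf_le_inf_left A hle) _ hs
  rw [res_res] at h1
  exact h1

theorem sat_genSub (hH : ∀ A : X.Opens, IsAffineOpen A → IsLocOn H A) (V : X.Opens) (T : Set Γ(H, V)) :
    Sat (genSub hH V T) V := by
  intro A s hs A' h h' haff
  have h1 := hs A' (le_inf h h') h' haff
  rw [res_res] at h1
  exact h1

theorem genOn_genSub (hH : ∀ A : X.Opens, IsAffineOpen A → IsLocOn H A) (V : X.Opens) (T : Set Γ(H, V)) :
    GenOn (genSub hH V T) V T := by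
  intro A' hA' haff
  apply le_antisymm
  · intro s hs
    have h1 := hs A' le_rfl hA' haff
    rw [res_id] at h1
    exact h1
  · refine Submodule.span_le.2 ?_
    rintro _ ⟨τ, hτ, rfl⟩
    intro A'' h h' haff'
    rw [res_res]
    exact Submodule.subset_span ⟨τ, hτ, rfl⟩

section zorn

variable {L : Type v} [LinearOrder L] (V : L → X.Opens) (U : X.Opens) (S₀ : SubSh H)

/-- a partial solution of the extension problem, inside `S₀` -/
structure Stage' where
  I : Set L
  lower : IsLowerSet I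
  S : SubSh H
  le₀ : ∀ A, S.carrier A ≤ S₀.carrier A
  eq₀ : ∀ A ≤ U, S.carrier A = S₀.carrier A
  sat : Sat S (Wof V U I)
  gen : LocGen S (Wof V U I)

/-- the order on partial solutions -/
def Stage'.r (a b : Stage' V U S₀) : Prop :=
  a.I ⊆ b.I ∧ (∀ A, b.S.carrier A ≤ a.S.carrier A) ∧ ∀ A ≤ Wof V U a.I, b.S.carrier A = a.S.carrier A

theorem Stage'.r_trans {a b c : Stage' V U S₀} (hab : Stage'.r V U S₀ a b) (hbc : Stage'.r V U S₀ b c) :
    Stage'.r V U S₀ a c := by
  refine ⟨hab.1.trans hbc.1, fun A => (hbc.2.1 A).trans (hab.2.1 A), fun A hA => ?_⟩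
  rw [hbc.2.2 A (hA.trans (Wof_mono V U hab.1)), hab.2.2 A hA]

theorem Stage'.exists_ub (hsat₀ : Sat S₀ U) (hgen₀ : LocGen S₀ U)
    (c : Set (Stage' V U S₀)) (hc : IsChain (Stage'.r V U S₀) c) :
    ∃ ub : Stage' V U S₀, ∀ a ∈ c, Stage'.r V U S₀ a ub := by
  let I' : Set L := ⋃ a : c, a.1.I
  let S' : SubSh H := S₀.inf (SubSh.iInf (fun a : c => a.1.S))
  have hle : ∀ a : c, ∀ A, S'.carrier A ≤ a.1.S.carrier A := fun a A => inf_le_right.trans (iInf_le _ a)
  have hstar : ∀ a : c, ∀ A ≤ Wof V U a.1.I, S'.carrier A = a.1.S.carrier A := by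
    intro a A hA
    apply le_antisymm (hle a A)
    refine le_inf (a.1.le₀ A) (le_iInf fun b => ?_)
    by_cases hab : a.1 = b.1
    · rw [hab]
    · rcases hc a.2 b.2 hab with h | h
      · rw [h.2.2 A hA]
      · exact h.2.1 A
  have heq₀ : ∀ A ≤ U, S'.carrier A = S₀.carrier A := by
    intro A hA
    apply le_antisymm inf_le_left
    refine le_inf le_rfl (le_iInf fun b => ?_)
    rw [b.1.eq₀ A hA]
  refine ⟨⟨I', isLowerSet_iUnion fun a => a.1.lower, S', fun A => inf_le_left, heq₀, ?_, ?_⟩, ?_⟩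
  · intro A s hs
    refine ⟨(hsat₀.mono (le_Wof V U I')) A s hs.1, ?_⟩
    change s ∈ ⨅ a : c, a.1.S.carrier A
    rw [Submodule.mem_iInf]
    intro a
    apply a.1.sat A s
    have hIa : a.1.I ⊆ I' := Set.subset_iUnion (fun a : c => a.1.I) a
    have h1 := a.1.S.res' (inf_le_inf_left A (Wof_mono V U hIa)) _ (hle a _ hs)
    rw [res_res] at h1
    exact h1
  · intro x hx
    rw [mem_Wof] at hx
    rcases hx with hxU | ⟨m, hm, hxm⟩
    · obtain ⟨A, hA, hxA, hAU, T, hTfin, hT⟩ := hgen₀ x hxU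
      exact ⟨A, hA, hxA, hAU.trans (le_Wof V U _), T, hTfin,
        hT.congr fun A' hA' => heq₀ A' (hA'.trans hAU)⟩
    · obtain ⟨a, hma⟩ := Set.mem_iUnion.1 hm
      have hxa : x ∈ Wof V U a.1.I := (mem_Wof V U).2 (Or.inr ⟨m, hma, hxm⟩)
      obtain ⟨A, hA, hxA, hAW, T, hTfin, hT⟩ := a.1.gen x hxa
      have hIa : a.1.I ⊆ I' := Set.subset_iUnion (fun a : c => a.1.I) a
      exact ⟨A, hA, hxA, hAW.trans (Wof_mono V U hIa), T, hTfin,
        hT.congr fun A' hA' => hstar a A' (hA'.trans hAW)⟩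
  · intro a ha
    exact ⟨Set.subset_iUnion (fun a : c => a.1.I) ⟨a, ha⟩, hle ⟨a, ha⟩, hstar ⟨a, ha⟩⟩

variable [WellFoundedLT L]

/-- **Zorn**: a locally finitely generated subsheaf of `S₀` on all of `X`, equal to `S₀` on `U`. -/
theorem exists_locGen_top' (hH : ∀ A : X.Opens, IsAffineOpen A → IsLocOn H A)
    (hsat₀ : Sat S₀ U) (hgen₀ : LocGen S₀ U)
    (hV : ∀ l, IsAffineOpen (V l)) (hcov : ⨆ l, V l = ⊤)
    (hW : ∀ l, IsCompact ((V l : Set X) ∩ ⋃ m ∈ Set.Iio l, (V m : Set X)))
    (hU : ∀ l, IsCompact ((V l : Set X) ∩ (U : Set X))) :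
    ∃ S : SubSh H, (∀ A, S.carrier A ≤ S₀.carrier A) ∧ (∀ A ≤ U, S.carrier A = S₀.carrier A) ∧ LocGen S ⊤ := by
  obtain ⟨m, hm⟩ := exists_maximal_of_chains_bounded (Stage'.exists_ub V U S₀ hsat₀ hgen₀)
    (fun hab hbc => Stage'.r_trans V U S₀ hab hbc)
  have hI : m.I = Set.univ := by
    by_contra hne
    have hne' : (m.Iᶜ).Nonempty := by
      rw [Set.nonempty_compl]; exact hne
    have wf : WellFounded ((· < ·) : L → L → Prop) := wellFounded_lt
    let l : L := wf.min (m.Iᶜ) hne'
    have hl : l ∉ m.I := wf.min_mem (m.Iᶜ) hne'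
    have hlt : ∀ k, k < l → k ∈ m.I := by
      intro k hk
      by_contra hk'
      exact wf.not_lt_min (m.Iᶜ) hk' hk
    have hIio : m.I = Set.Iio l := by
      ext k
      constructor
      · intro hk
        by_contra hkl
        exact hl (m.lower (not_lt.1 hkl) hk)
      · exact hlt k
    have hΩ : IsCompact ((V l ⊓ Wof V U m.I : X.Opens) : Set X) := by
      have : ((V l ⊓ Wof V U m.I : X.Opens) : Set X) =
          ((V l : Set X) ∩ (U : Set X)) ∪ ((V l : Set X) ∩ ⋃ k ∈ Set.Iio l, (V k : Set X)) := by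
        ext x
        simp only [Opens.coe_inf, Set.mem_inter_iff, SetLike.mem_coe, mem_Wof, Set.mem_union,
          Set.mem_iUnion, exists_prop, hIio]
        tauto
      rw [this]
      exact (hU l).union (hW l)
    obtain ⟨S', hS'le, hS'eq, hS'sat, hS'gen⟩ := exists_succ hH m.S _ (V l) (hV l) hΩ m.sat m.gen
    have hWeq : Wof V U m.I ⊔ V l = Wof V U (Set.Iic l) := by
      ext x
      simp only [Opens.coe_sup, Set.mem_union, SetLike.mem_coe, mem_Wof, hIio, Set.mem_Iio, Set.mem_Iic]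
      constructor
      · rintro ((h | ⟨k, hk, hx⟩) | h)
        · exact Or.inl h
        · exact Or.inr ⟨k, hk.le, hx⟩
        · exact Or.inr ⟨l, le_rfl, h⟩
      · rintro (h | ⟨k, hk, hx⟩)
        · exact Or.inl (Or.inl h)
        · rcases hk.lt_or_eq with hk | rfl
          · exact Or.inl (Or.inr ⟨k, hk, hx⟩)
          · exact Or.inr hx
    rw [hWeq] at hS'sat hS'gen
    let a : Stage' V U S₀ := ⟨Set.Iic l, isLowerSet_Iic l, S', fun A => (hS'le A).trans (m.le₀ A),
      fun A hA => by rw [hS'eq A (hA.trans (le_Wof V U _)), m.eq₀ A hA], hS'sat, hS'gen⟩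
    have hma : Stage'.r V U S₀ m a := by
      refine ⟨?_, hS'le, hS'eq⟩
      rw [hIio]
      exact fun k hk => le_of_lt hk
    have ham := hm a hma
    exact hl (ham.1 (Set.mem_Iic.2 le_rfl))
  refine ⟨m.S, m.le₀, m.eq₀, ?_⟩
  have hWtop : Wof V U m.I = ⊤ := by
    rw [eq_top_iff]
    intro x _
    have hx : x ∈ ⨆ l, V l := by rw [hcov]; trivial
    obtain ⟨l, hl⟩ := Opens.mem_iSup.1 hx
    exact (mem_Wof V U).2 (Or.inr ⟨l, by rw [hI]; trivial, hl⟩)
  have := m.gen
  rw [hWtop] at this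
  exact this

end zorn

section final

/-- a subsheaf of a quasi-coherent module which is locally finitely generated is quasi-coherent of finite type -/
theorem exists_sub_of_locGen (H : X.Modules) [H.IsQuasicoherent] (S : SubSh H) (hSgen : LocGen S ⊤) :
    S.toModules.IsQuasicoherent ∧ SheafOfModules.IsFiniteType (R := X.ringCatSheaf) S.toModules := by
  have hH : ∀ A : X.Opens, IsAffineOpen A → IsLocOn H A := fun A hA => IsLocOn.of_isQuasicoherent hA H
  have h1 : ∀ x : X, ∃ (A : X.Opens), IsAffineOpen A ∧ x ∈ A ∧ ∃ T : Set Γ(H, A), T.Finite ∧ GenOn S A T := by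
    intro x
    obtain ⟨A, hA, hxA, -, T, hTfin, hT⟩ := hSgen x trivial
    exact ⟨A, hA, hxA, T, hTfin, hT⟩
  choose A hA hxA T hTfin hT using h1
  have hcovA : IsOpenCover A := by
    change iSup A = ⊤
    rw [eq_top_iff]
    intro x _
    exact Opens.mem_iSup.2 ⟨x, hxA x⟩
  have hq : S.toModules.IsQuasicoherent :=
    isQuasicoherent_of_affine_cover S.toModules A hcovA hA fun x =>
      isQuasicoherent_restrict_fromSpec_of_isLocOn (hA x) S.toModules
        (isLocOn_toModules_of_genOn S (hA x) (hH _ (hA x)) (hT x))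
  refine ⟨hq, ?_⟩
  exact isFiniteType_of_finite S.toModules A hcovA hA fun x =>
      finite_toModules_of_genOn S (hA x) (hTfin x) (hT x)

end final

end Groth.Agent.Lib.Helper23.SubSh
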