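import Mathlib
import Groth.Prelude
import Groth.Agent.Lib.Helper18QCAlg1
import Groth.Agent.Lib.Helper23SubSh5
import Groth.Agent.Lib.Helper23FTsub
set_option backward.isDefEq.respectTransparency.types false

/-!
# Finite type submodules generating a quasi-coherent algebra of finite type (helper23)

Namespace `Groth.Agent.Lib.Helper23.AlgGen`.

* `clo B E j U`: the subring of `B(U)` generated by the functions and the image of `E(U)`.
* `clo_eq_top_of_locally`, `clo_eq_top_of_le`, `exists_generating_sub` (EGA I 9.6.5 on qcqs schemes).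
-/

set_option autoImplicit false
universe u
open CategoryTheory Limits AlgebraicGeometry TopologicalSpace Opposite

namespace Groth.Agent.Lib.Helper23.AlgGen
open Groth.Agent.Lib.Helper6 Groth.Agent.Lib.Helper2.Push Groth.Agent.Lib.Helper23.SubSh
  Groth.Agent.Lib.Helper23.Extend Groth.Agent.Helper18QCAlg

variable {X : Scheme.{u}} (B : RelSpec.QCAlg X) (E : X.Modules) (j : E ⟶ B.toModule)

/-- restriction of sections of `B` as a ring homomorphism -/
noncomputable abbrev rB {U V : X.Opens} (h : V ≤ U) : B.presheaf.obj (op U) →+* B.presheaf.obj (op V) :=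
  (B.presheaf.map (homOfLE h).op).hom

/-- the structure map on sections -/
noncomputable abbrev strB (U : X.Opens) : Γ(X, U) →+* B.presheaf.obj (op U) := (B.str.app (op U)).hom

/-- `j` on sections, with values in the ring `B(U)` -/
noncomputable abbrev jB (U : X.Opens) (e : E.val.obj (op U)) : B.presheaf.obj (op U) :=
  (j.val.app (op U)).hom e

/-- the subring of `B(U)` generated by the functions and the sections of `E` -/
noncomputable def clo (U : X.Opens) : Subring (B.presheaf.obj (op U)) :=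
  Subring.closure (Set.range (strB B U) ∪ Set.range (jB B E j U))

theorem rB_strB {U V : X.Opens} (h : V ≤ U) (r : Γ(X, U)) :
    rB B h (strB B U r) = strB B V (resf h r) := str_res_apply' B h r

theorem rB_jB {U V : X.Opens} (h : V ≤ U) (e : Γ(E, U)) :
    rB B h (jB B E j U e) = jB B E j V (res E h e) := (app_map j (homOfLE h) e).symm

theorem strB_mem_clo (U : X.Opens) (r : Γ(X, U)) : strB B U r ∈ clo B E j U :=
  Subring.subset_closure (Or.inl ⟨r, rfl⟩)

theorem jB_mem_clo (U : X.Opens) (e : Γ(E, U)) : jB B E j U e ∈ clo B E j U :=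
  Subring.subset_closure (Or.inr ⟨e, rfl⟩)

theorem rB_mem_clo {U V : X.Opens} (h : V ≤ U) {z : B.presheaf.obj (op U)} (hz : z ∈ clo B E j U) :
    rB B h z ∈ clo B E j V := by
  have : clo B E j U ≤ (clo B E j V).comap (rB B h) := by
    refine Subring.closure_le.2 ?_
    rintro _ (⟨r, rfl⟩ | ⟨e, rfl⟩)
    · rw [SetLike.mem_coe, Subring.mem_comap, rB_strB]
      exact strB_mem_clo B E j V _
    · rw [SetLike.mem_coe, Subring.mem_comap, rB_jB]
      exact jB_mem_clo B E j V _
  exact this hz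

/-- elements of `clo` over `D(f)` descend to `U` after multiplication by a power of `f`. -/
theorem exists_descend {U : X.Opens} (hU : IsAffineOpen U) (hE : IsLocOn E U) (f : Γ(X, U))
    {z : B.presheaf.obj (op (X.basicOpen f))} (hz : z ∈ clo B E j (X.basicOpen f)) :
    ∃ (N : ℕ) (a : B.presheaf.obj (op U)), a ∈ clo B E j U ∧
      rB B (X.basicOpen_le f) a = strB B _ (resf (X.basicOpen_le f) f) ^ N * z := by
  have hloc := hU.isLocalization_basicOpen f
  induction hz using Subring.closure_induction with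
  | mem x hx =>
    rcases hx with ⟨c, rfl⟩ | ⟨e, rfl⟩
    · obtain ⟨k, r, hr⟩ := IsLocalization.Away.surj (x := f) c
      have hr' : c * (resf (X.basicOpen_le f) f) ^ k = resf (X.basicOpen_le f) r := hr
      refine ⟨k, strB B U r, strB_mem_clo B E j U r, ?_⟩
      rw [rB_strB, ← hr', map_mul, map_pow, mul_comm]
    · obtain ⟨n, t, ht⟩ := hE.exists_extension f e
      have ht' : res E (X.basicOpen_le f) t = (resf (X.basicOpen_le f) f) ^ n • e := ht
      refine ⟨n, jB B E j U t, jB_mem_clo B E j U t, ?_⟩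
      rw [rB_jB, ht']
      have h1 := Scheme.Modules.Hom.app_smul j ((resf (X.basicOpen_le f) f) ^ n) e
      refine h1.trans ?_
      change strB B _ ((resf (X.basicOpen_le f) f) ^ n) * _ = _
      rw [map_pow]
      rfl
  | zero => exact ⟨0, 0, Subring.zero_mem _, by simp⟩
  | one => exact ⟨0, 1, Subring.one_mem _, by simp⟩
  | add x y _ _ hx hy =>
    obtain ⟨N₁, a₁, ha₁, e₁⟩ := hx
    obtain ⟨N₂, a₂, ha₂, e₂⟩ := hy
    refine ⟨N₁ + N₂, strB B U (f ^ N₂) * a₁ + strB B U (f ^ N₁) * a₂,
      Subring.add_mem _ (Subring.mul_mem _ (strB_mem_clo B E j U _) ha₁)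
        (Subring.mul_mem _ (strB_mem_clo B E j U _) ha₂), ?_⟩
    rw [map_add, map_mul, map_mul, e₁, e₂, rB_strB, rB_strB, resf_pow, resf_pow, map_pow, map_pow]
    ring
  | neg x _ hx =>
    obtain ⟨N, a, ha, e⟩ := hx
    refine ⟨N, -a, Subring.neg_mem _ ha, ?_⟩
    rw [map_neg, e, mul_neg]
  | mul x y _ _ hx hy =>
    obtain ⟨N₁, a₁, ha₁, e₁⟩ := hx
    obtain ⟨N₂, a₂, ha₂, e₂⟩ := hy
    refine ⟨N₁ + N₂, a₁ * a₂, Subring.mul_mem _ ha₁ ha₂, ?_⟩
    rw [map_mul, e₁, e₂]
    ring

/-- if the restriction of `b` to `D(f)` lies in `clo`, then `f ^ N • b` lies in `clo`. -/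
theorem exists_pow_mul_mem_clo {U : X.Opens} (hU : IsAffineOpen U) (hE : IsLocOn E U) (f : Γ(X, U))
    (b : B.presheaf.obj (op U)) (hb : rB B (X.basicOpen_le f) b ∈ clo B E j (X.basicOpen f)) :
    ∃ N : ℕ, strB B U (f ^ N) * b ∈ clo B E j U := by
  obtain ⟨N, a, ha, e⟩ := exists_descend B E j hU hE f hb
  have h0 : rB B (X.basicOpen_le f) (strB B U (f ^ N) * b - a) = 0 := by
    rw [map_sub, map_mul, rB_strB, resf_pow, map_pow, e, sub_self]
  obtain ⟨M, hM⟩ := exists_pow_aux B hU f _ h0
  refine ⟨M + N, ?_⟩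
  rw [mul_sub, sub_eq_zero] at hM
  have : strB B U (f ^ (M + N)) * b = strB B U (f ^ M) * a := by
    rw [pow_add, map_mul, mul_assoc]
    exact hM
  rw [this]
  exact Subring.mul_mem _ (strB_mem_clo B E j U _) ha

/-- `clo = ⊤` can be checked locally on basic opens -/
theorem clo_eq_top_of_locally {U : X.Opens} (hU : IsAffineOpen U) (hE : IsLocOn E U)
    (h : ∀ x ∈ U, ∃ f : Γ(X, U), x ∈ X.basicOpen f ∧ clo B E j (X.basicOpen f) = ⊤) :
    clo B E j U = ⊤ := by
  rw [eq_top_iff]
  rintro b -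
  let M' : Submodule Γ(X, U) Γ(B.toModule, U) :=
    { carrier := {m : Γ(B.toModule, U) | (m : B.presheaf.obj (op U)) ∈ clo B E j U}
      add_mem' := fun ha hb => Subring.add_mem (clo B E j U) ha hb
      zero_mem' := Subring.zero_mem (clo B E j U)
      smul_mem' := fun r m hm => Subring.mul_mem (clo B E j U) (strB_mem_clo B E j U r) hm }
  let I : Set Γ(X, U) := {f | ∃ N : ℕ, strB B U (f ^ N) * b ∈ clo B E j U}
  have hI : Ideal.span I = ⊤ := by
    rw [← hU.self_le_iSup_basicOpen_iff]
    intro x hx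
    obtain ⟨f, hxf, hf⟩ := h x hx
    refine Opens.mem_iSup.2 ⟨⟨f, ?_⟩, hxf⟩
    exact exists_pow_mul_mem_clo B E j hU hE f b (by rw [hf]; trivial)
  have := Submodule.mem_of_span_eq_top_of_smul_pow_mem M' I hI (show Γ(B.toModule, U) from b)
    (fun r => r.2)
  exact this

/-- if `B(U')` is generated by functions and sections coming from `E`, the same holds on smaller affine opens -/
theorem clo_eq_top_of_le {U' D : X.Opens} (hU' : IsAffineOpen U') (hD : IsAffineOpen D) (hle : D ≤ U')
    (h : clo B E j U' = ⊤) : clo B E j D = ⊤ := by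
  rw [eq_top_iff]
  rintro z -
  have h1 := span_res_eq_top (H := B.toModule) hU' hD hle (isLocOn_toModule B hU') (isLocOn_toModule B hD)
    Set.univ (by rw [Submodule.span_univ])
  have hz : (show Γ(B.toModule, D) from z) ∈
      Submodule.span Γ(X, D) (res B.toModule hle '' Set.univ) := by rw [h1]; trivial
  have key : ∀ m ∈ Submodule.span Γ(X, D) (res B.toModule hle '' Set.univ),
      (show B.presheaf.obj (op D) from m) ∈ clo B E j D := by
    intro m hm
    induction hm using Submodule.span_induction with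
    | mem y hy =>
      obtain ⟨β, -, rfl⟩ := hy
      exact rB_mem_clo B E j hle (show (show B.presheaf.obj (op U') from β) ∈ clo B E j U' by rw [h]; trivial)
    | zero => exact Subring.zero_mem _
    | add a b _ _ ha hb => exact Subring.add_mem _ ha hb
    | smul r a _ ha => exact Subring.mul_mem _ (strB_mem_clo B E j D r) ha
  exact key _ hz

open Groth.Agent.Lib.Helper23.FTsub in
/-- **EGA I 9.6.5** on a qcqs scheme: a quasi-coherent algebra of finite type is generated by a quasi-coherent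
submodule of finite type. -/
theorem exists_generating_sub [CompactSpace X] [QuasiSeparatedSpace X] (B : RelSpec.QCAlg X)
    (hB : ∀ U : X.affineOpens, (B.str.app (op (U : X.Opens))).hom.FiniteType) :
    ∃ (E : X.Modules) (j : E ⟶ B.toModule), Mono j ∧ E.IsQuasicoherent ∧
      SheafOfModules.IsFiniteType (R := X.ringCatSheaf) E ∧ ∀ U : X.affineOpens, clo B E j U = ⊤ := by
  classical
  have hgen : ∀ V : X.affineOpens, ∃ T : Finset (B.presheaf.obj (op (V : X.Opens))),
      Subring.closure (Set.range (strB B V) ∪ (T : Set (B.presheaf.obj (op (V : X.Opens))))) = ⊤ := by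
    intro V
    letI := (strB B V.1).toAlgebra
    have h1 : Algebra.FiniteType Γ(X, V.1) (B.presheaf.obj (op (V : X.Opens))) := hB V
    obtain ⟨T, hT⟩ := h1.out
    refine ⟨T, ?_⟩
    have h2 := Algebra.adjoin_eq_ring_closure (R := Γ(X, V.1)) (T : Set (B.presheaf.obj (op (V : X.Opens))))
    rw [hT] at h2
    exact h2.symm
  choose Tg hTg using hgen
  obtain ⟨t, ht⟩ := isCompact_univ.elim_finite_subcover
    (fun V : X.affineOpens => ((V : X.Opens) : Set X)) (fun V => V.1.isOpen) (by
      intro x _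
      obtain ⟨A, hA, hxA, -⟩ := Opens.isBasis_iff_nbhd.1 X.isBasis_affineOpens
        (show x ∈ (⊤ : X.Opens) from trivial)
      exact Set.mem_iUnion.2 ⟨⟨A, hA⟩, hxA⟩)
  let l : List (Σ U : X.affineOpens, Γ(B.toModule, U.1)) :=
    t.toList.flatMap (fun V => (Tg V).toList.map (fun τ => ⟨V, τ⟩))
  let a₀ : Σ U : X.affineOpens, Γ(B.toModule, U.1) := ⟨⟨⊥, isAffineOpen_bot X⟩, 0⟩
  obtain ⟨E, j, hj, hq, hf, hmem⟩ := exists_ft_sub_list B.toModule a₀ l
  refine ⟨E, j, hj, hq, hf, fun U => ?_⟩
  have := hq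
  have hcloV : ∀ V ∈ t, clo B E j V = ⊤ := by
    intro V hV
    rw [eq_top_iff, ← hTg V]
    refine Subring.closure_le.2 ?_
    rintro z (⟨r, rfl⟩ | hz)
    · exact strB_mem_clo B E j V r
    · obtain ⟨g, hg⟩ := hmem ⟨V, z⟩ (List.mem_cons_of_mem _ (List.mem_flatMap.2
        ⟨V, Finset.mem_toList.2 hV, List.mem_map.2 ⟨z, Finset.mem_toList.2 hz, rfl⟩⟩))
      have h3 : z = jB B E j V g := hg.symm
      rw [h3]
      exact jB_mem_clo B E j V g
  apply clo_eq_top_of_locally B E j U.2 (IsLocOn.of_isQuasicoherent U.2 E)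
  intro x hx
  obtain ⟨V, hV⟩ := Set.mem_iUnion.1 (ht (Set.mem_univ x))
  obtain ⟨hVt, hxV⟩ := Set.mem_iUnion.1 hV
  obtain ⟨f, hf, hxf⟩ := U.2.exists_basicOpen_le (V := V.1) ⟨x, hxV⟩ hx
  exact ⟨f, hxf, clo_eq_top_of_le B E j V.2 (U.2.basicOpen f) hf (hcloV V hVt)⟩

end Groth.Agent.Lib.Helper23.AlgGen
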