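import Mathlib
import Groth.Prelude
import Groth.Agent.Lib.Helper23AlgGen
import Groth.Agent.Lib.Helper10QCAlgOfSheaf
set_option backward.isDefEq.respectTransparency.types false

/-!
# The quasi-coherent subalgebra generated by a quasi-coherent submodule (helper23)

Namespace `Groth.Agent.Lib.Helper23.AlgGen`.

* `mem_clo_of_locally`, `locClo`, `subAlg B E j : RelSpec.QCAlg X`, `subAlgι`, finiteness.
-/

set_option autoImplicit false
universe u
open CategoryTheory Limits AlgebraicGeometry TopologicalSpace Opposite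

namespace Groth.Agent.Lib.Helper23.AlgGen
open Groth.Agent.Lib.Helper6 Groth.Agent.Lib.Helper2.Push Groth.Agent.Lib.Helper23.SubSh
  Groth.Agent.Lib.Helper23.Extend Groth.Agent.Helper18QCAlg

variable {X : Scheme.{u}} (B : RelSpec.QCAlg X) (E : X.Modules) (j : E ⟶ B.toModule)

theorem rB_rB {U V W : X.Opens} (h₁ : V ≤ U) (h₂ : W ≤ V) (s : B.presheaf.obj (op U)) :
    rB B h₂ (rB B h₁ s) = rB B (h₂.trans h₁) s := res_res B.toModule h₁ h₂ s

theorem rB_id {U : X.Opens} (s : B.presheaf.obj (op U)) : rB B (le_refl U) s = s :=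
  res_id B.toModule s

/-- membership in `clo` over an affine open is local -/
theorem mem_clo_of_locally {U : X.Opens} (hU : IsAffineOpen U) (hE : IsLocOn E U) (b : B.presheaf.obj (op U))
    (h : ∀ x ∈ U, ∃ (A' : X.Opens) (h : A' ≤ U), x ∈ A' ∧ rB B h b ∈ clo B E j A') :
    b ∈ clo B E j U := by
  let M' : Submodule Γ(X, U) Γ(B.toModule, U) :=
    { carrier := {m : Γ(B.toModule, U) | (m : B.presheaf.obj (op U)) ∈ clo B E j U}
      add_mem' := fun ha hb => Subring.add_mem (clo B E j U) ha hb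
      zero_mem' := Subring.zero_mem (clo B E j U)
      smul_mem' := fun r m hm => Subring.mul_mem (clo B E j U) (strB_mem_clo B E j U r) hm }
  let I : Set Γ(X, U) := {f | ∃ N : ℕ, strB B U (f ^ N) * b ∈ clo B E j U}
  have hI : Ideal.span I = ⊤ := by
    rw [← hU.self_le_iSup_basicOpen_iff]
    intro x hx
    obtain ⟨A', hA', hxA', hmem⟩ := h x hx
    obtain ⟨f, hf, hxf⟩ := hU.exists_basicOpen_le (V := A') ⟨x, hxA'⟩ hx
    refine Opens.mem_iSup.2 ⟨⟨f, ?_⟩, hxf⟩
    refine exists_pow_mul_mem_clo B E j hU hE f b ?_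
    have h1 := rB_mem_clo B E j hf hmem
    rw [rB_rB] at h1
    exact h1
  exact Submodule.mem_of_span_eq_top_of_smul_pow_mem M' I hI (show Γ(B.toModule, U) from b) (fun r => r.2)

/-- the subring of sections of `B` which are locally in the subring generated by the functions and `E` -/
noncomputable def locClo (A : X.Opens) : Subring (B.presheaf.obj (op A)) where
  carrier := {s | ∀ x ∈ A, ∃ (A' : X.Opens) (h : A' ≤ A), x ∈ A' ∧ rB B h s ∈ clo B E j A'}
  mul_mem' := by
    intro a b ha hb x hx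
    obtain ⟨A₁, h₁, hx₁, hm₁⟩ := ha x hx
    obtain ⟨A₂, h₂, hx₂, hm₂⟩ := hb x hx
    refine ⟨A₁ ⊓ A₂, inf_le_left.trans h₁, ⟨hx₁, hx₂⟩, ?_⟩
    rw [map_mul]
    refine Subring.mul_mem _ ?_ ?_
    · have := rB_mem_clo B E j (inf_le_left : A₁ ⊓ A₂ ≤ A₁) hm₁
      rw [rB_rB] at this
      exact this
    · have := rB_mem_clo B E j (inf_le_right : A₁ ⊓ A₂ ≤ A₂) hm₂
      rw [rB_rB] at this
      exact this
  one_mem' := by
    intro x hx
    refine ⟨A, le_rfl, hx, ?_⟩
    rw [map_one]
    exact Subring.one_mem _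
  add_mem' := by
    intro a b ha hb x hx
    obtain ⟨A₁, h₁, hx₁, hm₁⟩ := ha x hx
    obtain ⟨A₂, h₂, hx₂, hm₂⟩ := hb x hx
    refine ⟨A₁ ⊓ A₂, inf_le_left.trans h₁, ⟨hx₁, hx₂⟩, ?_⟩
    rw [map_add]
    refine Subring.add_mem _ ?_ ?_
    · have := rB_mem_clo B E j (inf_le_left : A₁ ⊓ A₂ ≤ A₁) hm₁
      rw [rB_rB] at this
      exact this
    · have := rB_mem_clo B E j (inf_le_right : A₁ ⊓ A₂ ≤ A₂) hm₂
      rw [rB_rB] at this
      exact this
  zero_mem' := by
    intro x hx
    refine ⟨A, le_rfl, hx, ?_⟩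
    rw [map_zero]
    exact Subring.zero_mem _
  neg_mem' := by
    intro a ha x hx
    obtain ⟨A₁, h₁, hx₁, hm₁⟩ := ha x hx
    refine ⟨A₁, h₁, hx₁, ?_⟩
    rw [map_neg]
    exact Subring.neg_mem _ hm₁

theorem mem_locClo_iff {A : X.Opens} (s : B.presheaf.obj (op A)) :
    s ∈ locClo B E j A ↔ ∀ x ∈ A, ∃ (A' : X.Opens) (h : A' ≤ A), x ∈ A' ∧ rB B h s ∈ clo B E j A' := Iff.rfl

theorem clo_le_locClo (A : X.Opens) : clo B E j A ≤ locClo B E j A := by
  intro s hs x hx
  refine ⟨A, le_rfl, hx, ?_⟩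
  rw [rB_id]
  exact hs

theorem locClo_eq_clo {U : X.Opens} (hU : IsAffineOpen U) (hE : IsLocOn E U) :
    locClo B E j U = clo B E j U :=
  le_antisymm (fun s hs => mem_clo_of_locally B E j hU hE s hs) (clo_le_locClo B E j U)

theorem rB_mem_locClo {A A₁ : X.Opens} (h : A₁ ≤ A) {s : B.presheaf.obj (op A)} (hs : s ∈ locClo B E j A) :
    rB B h s ∈ locClo B E j A₁ := by
  intro x hx
  obtain ⟨A', hA', hxA', hm⟩ := hs x (h hx)
  refine ⟨A' ⊓ A₁, inf_le_right, ⟨hxA', hx⟩, ?_⟩
  rw [rB_rB]
  have := rB_mem_clo B E j (inf_le_left : A' ⊓ A₁ ≤ A') hm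
  rw [rB_rB] at this
  exact this

theorem mem_locClo_of_locally {A : X.Opens} (s : B.presheaf.obj (op A))
    (h : ∀ x ∈ A, ∃ (A' : X.Opens) (h : A' ≤ A), x ∈ A' ∧ rB B h s ∈ locClo B E j A') :
    s ∈ locClo B E j A := by
  intro x hx
  obtain ⟨A', hA', hxA', hm⟩ := h x hx
  obtain ⟨A'', hA'', hxA'', hm'⟩ := hm x hxA'
  refine ⟨A'', hA''.trans hA', hxA'', ?_⟩
  rw [rB_rB] at hm'
  exact hm'

/-- the presheaf of rings `A ↦ locClo A` -/
noncomputable def subPresheaf : TopCat.Presheaf CommRingCat.{u} X.carrier where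
  obj A := CommRingCat.of (locClo B E j A.unop)
  map {A A₁} f := CommRingCat.ofHom
    ((rB B f.unop.le).restrict (locClo B E j A.unop) (locClo B E j A₁.unop)
      (fun _ hs => rB_mem_locClo B E j f.unop.le hs))
  map_id A := by
    ext s
    exact rB_id B s.1
  map_comp f g := by
    ext s
    exact (rB_rB B f.unop.le g.unop.le s.1).symm

theorem subPresheaf_isSheaf : (subPresheaf B E j).IsSheaf := by
  rw [TopCat.Presheaf.isSheaf_iff_isSheafUniqueGluing]
  intro ι U sf hsf
  have hH := (TopCat.Presheaf.isSheaf_iff_isSheafUniqueGluing B.presheaf).1 B.isSheaf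
  let sf' : ∀ i, locClo B E j (U i) := fun i => sf i
  have hcompat : TopCat.Presheaf.IsCompatible B.presheaf U
      (fun i => ((sf' i : locClo B E j (U i)) : B.presheaf.obj (op (U i)))) := by
    intro i k
    exact congrArg Subtype.val (hsf i k)
  obtain ⟨s, hs, hsu⟩ := hH U _ hcompat
  have hsS : s ∈ locClo B E j (iSup U) := by
    apply mem_locClo_of_locally
    intro x hx
    obtain ⟨i, hi⟩ := Opens.mem_iSup.1 hx
    refine ⟨U i, le_iSup U i, hi, ?_⟩
    have h1 : rB B (le_iSup U i) s = ((sf' i : locClo B E j (U i)) : B.presheaf.obj (op (U i))) := hs i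
    rw [h1]
    exact (sf' i).2
  refine ⟨(⟨s, hsS⟩ : locClo B E j (iSup U)), ?_, ?_⟩
  · intro i
    apply Subtype.ext
    exact hs i
  · intro t ht
    apply Subtype.ext
    apply hsu
    intro i
    exact congrArg Subtype.val (ht i)

/-- the structure map of the subalgebra -/
noncomputable def subStr : X.presheaf ⟶ subPresheaf B E j where
  app A := CommRingCat.ofHom ((strB B A.unop).codRestrict (locClo B E j A.unop)
    (fun r => clo_le_locClo B E j _ (strB_mem_clo B E j _ r)))
  naturality A A₁ f := by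
    ext r
    apply Subtype.ext
    exact (rB_strB B f.unop.le r).symm

theorem subStr_isQC (hE : ∀ U : X.Opens, IsAffineOpen U → IsLocOn E U) :
    RelSpec.IsQC (subPresheaf B E j) (subStr B E j) := by
  intro U hU r
  refine Groth.Agent.Lib.Helper10.QCAlgOfSheaf.away_of_elementwise (R := Γ(X, U)) (A := locClo B E j U)
    (A' := locClo B E j (X.basicOpen r)) (R' := Γ(X, X.basicOpen r))
    ((subStr B E j).app (op U)).hom ((subStr B E j).app (op (X.basicOpen r))).hom
    ((subPresheaf B E j).map (homOfLE (X.basicOpen_le r)).op).hom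
    (X.presheaf.map (homOfLE (X.basicOpen_le r)).op).hom ?_ r ?_ ?_ ?_
  · intro a
    apply Subtype.ext
    exact rB_strB B (X.basicOpen_le r) a
  · exact X.toRingedSpace.isUnit_res_basicOpen r
  · intro z
    have hz : z.1 ∈ clo B E j (X.basicOpen r) := by
      rw [← locClo_eq_clo B E j (hU.basicOpen r) (hE _ (hU.basicOpen r))]
      exact z.2
    obtain ⟨N, a, ha, e⟩ := exists_descend B E j hU (hE U hU) r hz
    exact ⟨N, ⟨a, clo_le_locClo B E j U ha⟩, Subtype.ext e⟩
  · intro t ht
    have h0 : rB B (X.basicOpen_le r) t.1 = 0 := congrArg Subtype.val ht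
    obtain ⟨n, hn⟩ := exists_pow_aux B hU r t.1 h0
    exact ⟨n, Subtype.ext hn⟩

/-- the quasi-coherent subalgebra of `B` generated by `E` -/
noncomputable def subAlg (hE : ∀ U : X.Opens, IsAffineOpen U → IsLocOn E U) : RelSpec.QCAlg X where
  presheaf := subPresheaf B E j
  isSheaf := subPresheaf_isSheaf B E j
  str := subStr B E j
  isQC := subStr_isQC B E j hE

/-- the inclusion of the subalgebra -/
noncomputable def subAlgι (hE : ∀ U : X.Opens, IsAffineOpen U → IsLocOn E U) : subAlg B E j hE ⟶ B where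
  hom :=
    { app := fun A => CommRingCat.ofHom (locClo B E j A.unop).subtype
      naturality := by
        intro A A₁ f
        ext s
        rfl }
  comm := by
    ext A r
    rfl

theorem subAlgι_injective (hE : ∀ U : X.Opens, IsAffineOpen U → IsLocOn E U) (V : X.Opens) :
    Function.Injective ((subAlgι B E j hE).hom.app (op V)).hom :=
  Subtype.val_injective

theorem mem_range_subAlgι (hE : ∀ U : X.Opens, IsAffineOpen U → IsLocOn E U) (V : X.Opens) (e : Γ(E, V)) :
    jB B E j V e ∈ Set.range ((subAlgι B E j hE).hom.app (op V)).hom :=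
  ⟨⟨jB B E j V e, clo_le_locClo B E j V (jB_mem_clo B E j V e)⟩, rfl⟩

theorem jB_add (V : X.Opens) (a b : Γ(E, V)) : jB B E j V (a + b) = jB B E j V a + jB B E j V b :=
  map_add (j.app V).hom a b

theorem jB_zero (V : X.Opens) : jB B E j V 0 = 0 := map_zero (j.app V).hom

theorem jB_smul (V : X.Opens) (r : Γ(X, V)) (a : Γ(E, V)) : jB B E j V (r • a) = strB B V r * jB B E j V a :=
  Scheme.Modules.Hom.app_smul j r a

theorem subAlg_finiteType (hE : ∀ U : X.Opens, IsAffineOpen U → IsLocOn E U) {V : X.Opens} (hV : IsAffineOpen V)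
    (hfin : Module.Finite Γ(X, V) Γ(E, V)) :
    ((subAlg B E j hE).str.app (op V)).hom.FiniteType := by
  letI alg : Algebra Γ(X, V) (locClo B E j V) := ((subAlg B E j hE).str.app (op V)).hom.toAlgebra
  change Algebra.FiniteType Γ(X, V) (locClo B E j V)
  obtain ⟨T, hT⟩ := hfin.fg_top
  let gen : Γ(E, V) → locClo B E j V := fun e => ⟨jB B E j V e, clo_le_locClo B E j V (jB_mem_clo B E j V e)⟩
  let G : Set (locClo B E j V) := gen '' (T : Set Γ(E, V))
  refine ⟨Subalgebra.fg_def.2 ⟨G, T.finite_toSet.image _, ?_⟩⟩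
  rw [eq_top_iff]
  rintro ⟨y, hy⟩ -
  have hy' : y ∈ clo B E j V := by
    rw [← locClo_eq_clo B E j hV (hE V hV)]; exact hy
  have halg : ∀ r : Γ(X, V), algebraMap Γ(X, V) (locClo B E j V) r =
      ⟨strB B V r, clo_le_locClo B E j V (strB_mem_clo B E j V r)⟩ := fun r => rfl
  have hgen : ∀ e : Γ(E, V), gen e ∈ Algebra.adjoin Γ(X, V) G := by
    intro e
    have he : e ∈ Submodule.span Γ(X, V) (T : Set Γ(E, V)) := by rw [hT]; trivial
    induction he using Submodule.span_induction with
    | mem a ha => exact Algebra.subset_adjoin ⟨a, ha, rfl⟩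
    | zero =>
      have : gen 0 = 0 := Subtype.ext (jB_zero B E j V)
      rw [this]; exact Subalgebra.zero_mem _
    | add a b _ _ ha hb =>
      have : gen (a + b) = gen a + gen b := Subtype.ext (jB_add B E j V a b)
      rw [this]; exact Subalgebra.add_mem _ ha hb
    | smul r a _ ha =>
      have : gen (r • a) = algebraMap Γ(X, V) (locClo B E j V) r * gen a := by
        rw [halg]
        exact Subtype.ext (jB_smul B E j V r a)
      rw [this]; exact Subalgebra.mul_mem _ (Subalgebra.algebraMap_mem _ r) ha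
  have key : ∀ (x : B.presheaf.obj (op V)) (hx : x ∈ clo B E j V),
      (⟨x, clo_le_locClo B E j V hx⟩ : locClo B E j V) ∈ Algebra.adjoin Γ(X, V) G := by
    intro x hx
    induction hx using Subring.closure_induction with
    | mem x hx =>
      rcases hx with ⟨r, rfl⟩ | ⟨e, rfl⟩
      · exact Subalgebra.algebraMap_mem _ r
      · exact hgen e
    | zero => exact Subalgebra.zero_mem _
    | one => exact Subalgebra.one_mem _
    | add x y hx hy hx' hy' => exact Subalgebra.add_mem _ hx' hy'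
    | neg x hx hx' => exact Subalgebra.neg_mem _ hx'
    | mul x y hx hy hx' hy' => exact Subalgebra.mul_mem _ hx' hy'
  exact key y hy'

end Groth.Agent.Lib.Helper23.AlgGen
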