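import Mathlib
import Groth.Agent.Lib.Helper23SubSh5
import Groth.Agent.Lib.Helper23LocNoethSp
import Groth.Agent.Lib.Helper23AlgGen2
import Groth.Agent.S4351
set_option autoImplicit false
set_option linter.style.haveILetI false
universe u

namespace Groth.Agent.Lib.Helper3.GUCover

open CategoryTheory Limits AlgebraicGeometry TopologicalSpace Opposite
open Groth.Agent.Lib.Helper23.LocNoethSp Groth.Agent.Lib.Helper23.SubSh Groth.Agent.Lib.Helper2.Push
open Groth.Agent.Lib.Helper23.AlgGen Groth.Agent.Lib.Helper23.FinType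

/-- finite-set version of S4342 -/
theorem exists_finiteType_subsheaf_through_sections
    {X : Scheme.{u}}
    (hX : ∀ x : X, ∃ U : X.Opens, x ∈ U ∧ TopologicalSpace.NoetherianSpace (U : Set X))
    (F : X.Modules) [Coh.IsQCoh F]
    (U : X.affineOpens) (T : Set (F.val.obj (op (U : X.Opens)))) (hT : T.Finite) :
    ∃ (G' : X.Modules) (i' : G' ⟶ F), Mono i' ∧ G'.IsQuasicoherent ∧
      SheafOfModules.IsFiniteType (R := X.ringCatSheaf) G' ∧
      ∀ s ∈ T, ∃ g : G'.val.obj (op (U : X.Opens)), (i'.val.app (op (U : X.Opens))).hom g = s := by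
  have hFq : F.IsQuasicoherent := ‹Coh.IsQCoh F›
  have hH : ∀ A : X.Opens, IsAffineOpen A → IsLocOn F A := fun A hA => IsLocOn.of_isQuasicoherent hA F
  obtain ⟨L, hlin, hwf, V, hV, hcov, hcpt⟩ := exists_wellOrdered_affine_cover hX
  let S₀ : SubSh F := genSub hH U.1 T
  have hgen₀ : LocGen S₀ U.1 := fun x hx =>
    ⟨U.1, U.2, hx, le_rfl, T, hT, genOn_genSub hH U.1 T⟩
  obtain ⟨S, hle, heq, hgen⟩ := exists_locGen_top' V U.1 S₀ hH (sat_genSub hH U.1 T) hgen₀ hV hcov
    (fun l => hcpt l _ Set.inter_subset_left) (fun l => hcpt l _ Set.inter_subset_left)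
  obtain ⟨hq, hft⟩ := exists_sub_of_locGen F S hgen
  refine ⟨S.toModules, S.ι, inferInstance, hq, hft, ?_⟩
  intro s hsT
  have hs : s ∈ S.carrier U.1 := by
    rw [heq U.1 le_rfl, (genOn_genSub hH U.1 T).self_eq U.2]
    exact Submodule.subset_span hsT
  obtain ⟨t, ht⟩ := S.exists_of_mem hs
  exact ⟨t, ht⟩

/-- finite-set version of S4351 -/
theorem exists_finiteType_subalgebra_through_sections
    {X : Scheme.{u}}
    (hX : ∀ x : X, ∃ U : X.Opens, x ∈ U ∧ TopologicalSpace.NoetherianSpace (U : Set X))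
    (B : RelSpec.QCAlg X)
    (U : X.affineOpens) (T : Set (B.presheaf.obj (op (U : X.Opens)))) (hT : T.Finite) :
    ∃ (B' : RelSpec.QCAlg X) (φ : B' ⟶ B),
      (∀ V : X.Opens, Function.Injective (φ.hom.app (op V)).hom) ∧
      (∀ V : X.affineOpens, (B'.str.app (op (V : X.Opens))).hom.FiniteType) ∧
      ∀ b ∈ T, b ∈ Set.range (φ.hom.app (op (U : X.Opens))).hom := by
  haveI : B.toModule.IsQuasicoherent := Groth.Agent.Helper18QCAlg.isQuasicoherent_toModule B
  haveI : Coh.IsQCoh B.toModule := Groth.Agent.Helper18QCAlg.isQuasicoherent_toModule B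
  obtain ⟨E, j, hj, hq, hf, hg⟩ :=
    exists_finiteType_subsheaf_through_sections hX B.toModule U T hT
  have hq' : E.IsQuasicoherent := hq
  have hf' : SheafOfModules.IsFiniteType (R := X.ringCatSheaf) E := hf
  have hE : ∀ V : X.Opens, IsAffineOpen V → IsLocOn E V := fun V hV => IsLocOn.of_isQuasicoherent hV E
  refine ⟨subAlg B E j hE, subAlgι B E j hE, subAlgι_injective B E j hE, fun V => ?_, ?_⟩
  · exact subAlg_finiteType B E j hE V.2 (finite_of_isFiniteType E V.2)
  · intro b hb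
    obtain ⟨g, hg'⟩ := hg b hb
    have h1 := mem_range_subAlgι B E j hE U.1 g
    have h2 : jB B E j U.1 g = b := hg'
    rw [h2] at h1
    exact h1

end Groth.Agent.Lib.Helper3.GUCover
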