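import Mathlib
import Groth.Agent.S2520
import Groth.Agent.Lib.Helper23SubSh5
import Groth.Agent.Lib.Helper17SpreadD
import Groth.Agent.Lib.Helper4DevJ
import Groth.Agent.Lib.Helper23ModLocal
import Groth.Agent.Lib.Helper23AssStalk

/-!
# Coherent submodules without sections supported in a closed subset (helper20)

Let `X` be locally Noetherian, `H` a coherent `O_X`-module and `U ⊆ X` open, `Z = X ∖ U`.
`exists_sub_noZ`: there is a coherent submodule `H₁ ⊆ H` which agrees with `H` over `U` and such that no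
nonzero quasi-coherent submodule of `H₁` is supported in `Z`.  (`H₁` is the intersection, a locally finite
one, of the kernels of helper7's coprimary quotients `S2520.exists_quotient` at the associated points of `H`
in `Z`; the intersection is formed with helper23's `SubSh`.)
-/

set_option autoImplicit false
universe u
open CategoryTheory Limits AlgebraicGeometry TopologicalSpace Opposite

namespace Groth.Agent.Lib.Helper20.NoZTors

open Groth.Agent.Lib.Helper23.SubSh Groth.Agent.Lib.Helper6 Groth.Agent.Lib.Helper2.QCoh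
  Groth.Agent.Lib.Helper2.Ass Groth.Agent.Lib.Helper2.Push Groth.Agent.Lib.Helper23.FinType
  Groth.Agent.Lib.Helper4.Dev

variable {X : Scheme.{u}}

/-- the kernel of a morphism of modules, as a subsheaf -/
noncomputable def kerSub {H G : X.Modules} (q : H ⟶ G) : SubSh H where
  carrier A :=
    { carrier := {s | q.app A s = 0}
      add_mem' := by
        intro a b ha hb
        have ha' : q.app A a = 0 := ha
        have hb' : q.app A b = 0 := hb
        change q.app A (a + b) = 0
        rw [map_add, ha', hb', add_zero]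
      zero_mem' := map_zero _
      smul_mem' := by
        intro r a ha
        have ha' : q.app A a = 0 := ha
        change q.app A (r • a) = 0
        rw [Scheme.Modules.Hom.app_smul, ha', smul_zero] }
  res' := by
    intro A A' h s hs
    change q.app A' (res H h s) = 0
    have hs' : q.app A s = 0 := hs
    rw [Groth.Agent.S4683.app_res q h s, hs', map_zero]
  loc' := by
    intro A s hs
    change q.app A s = 0
    apply TopCat.Presheaf.section_ext (⟨G.presheaf, G.isSheaf⟩ : TopCat.Sheaf _ _) A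
    intro x hx
    obtain ⟨A', h, hx', hm⟩ := hs x hx
    have hm' : q.app A' (res H h s) = 0 := hm
    rw [Groth.Agent.S4683.app_res q h s] at hm'
    rw [map_zero, ← TopCat.Presheaf.germ_res_apply G.presheaf (homOfLE h) x hx' (q.app A s), hm',
      map_zero]

theorem mem_kerSub {H G : X.Modules} (q : H ⟶ G) (A : X.Opens) (s : Γ(H, A)) :
    s ∈ (kerSub q).carrier A ↔ q.app A s = 0 := Iff.rfl

/-- a quasi-coherent module whose only possible associated point is `x` has no sections over opens
not containing `x` -/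
theorem eq_zero_of_ass_subset (G : X.Modules) [G.IsQuasicoherent] (x : X)
    (hG : AssSch.Ass G ⊆ {x}) (V : X.Opens) (hxV : x ∉ V) (m : Γ(G, V)) : m = 0 := by
  by_contra hm
  obtain ⟨y, hyV, hy, -⟩ := exists_isWeakAssPoint_of_ne_zero_open G V m hm
  have hyA : y ∈ AssSch.Ass G := (isAssPoint_iff_isWeakAssPoint G y).2 hy
  have hyx : y = x := hG hyA
  exact hxV (hyx ▸ hyV)


/-- finite intersections of kernels of morphisms to coherent modules are coherent submodules -/
theorem exists_inter_kernels [IsLocallyNoetherian X] (H : X.Modules) (hH : Coh.IsCoh H) {ι : Type*}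
    (G : ι → X.Modules) (q : ∀ i, H ⟶ G i) (hG : ∀ i, Coh.IsCoh (G i)) (B : Finset ι) :
    ∃ (K : X.Modules) (κ : K ⟶ H), Mono κ ∧ Coh.IsCoh K ∧
      ∀ (V : X.Opens) (s : Γ(H, V)), s ∈ Set.range (κ.app V) ↔ ∀ i ∈ B, (q i).app V s = 0 := by
  classical
  induction B using Finset.induction_on with
  | empty =>
    refine ⟨H, 𝟙 H, inferInstance, hH, fun V s => ⟨fun _ i hi => absurd hi (Finset.notMem_empty i),
      fun _ => ⟨s, rfl⟩⟩⟩
  | insert i B hi ih =>
    obtain ⟨K, κ, hmono, hK, hrange⟩ := ih
    refine ⟨kernel (κ ≫ q i), kernel.ι (κ ≫ q i) ≫ κ, inferInstance,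
      isCoh_kernel (κ ≫ q i) hK (hG i), fun V s => ⟨?_, ?_⟩⟩
    · rintro ⟨k', rfl⟩ j hj
      rcases Finset.mem_insert.1 hj with rfl | hjB
      · have h0 : (kernel.ι (κ ≫ q j) ≫ κ ≫ q j).app V k' = 0 := by
          rw [kernel.condition]; rfl
        exact h0
      · exact (hrange V _).1 ⟨(kernel.ι (κ ≫ q i)).app V k', rfl⟩ j hjB
    · intro h
      obtain ⟨k, rfl⟩ := (hrange V s).2 (fun j hj => h j (Finset.mem_insert_of_mem hj))
      have h0 : (κ ≫ q i).app V k = 0 := h i (Finset.mem_insert_self i B)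
      obtain ⟨k', hk'⟩ := Groth.Agent.Lib.Helper17.GrSysCoh.exists_app_kernel_ι (κ ≫ q i) V k h0
      exact ⟨k', by rw [← hk']; rfl⟩

/-- a subsheaf which on the opens inside an affine open `V` is the image of a coherent module is
generated by finitely many sections on `V` -/
theorem exists_genOn_of_range [IsLocallyNoetherian X] (H : X.Modules) (S : SubSh H) {V : X.Opens}
    (hV : IsAffineOpen V) (K : X.Modules) (κ : K ⟶ H) (hK : Coh.IsCoh K)
    (hrange : ∀ V' : X.Opens, V' ≤ V → ∀ s : Γ(H, V'), s ∈ S.carrier V' ↔ s ∈ Set.range (κ.app V')) :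
    ∃ T : Set Γ(H, V), T.Finite ∧ GenOn S V T := by
  haveI : K.IsQuasicoherent := hK.1
  haveI : SheafOfModules.IsFiniteType (R := X.ringCatSheaf) K := hK.2
  haveI : Module.Finite Γ(X, V) Γ(K, V) := finite_of_isFiniteType K hV
  obtain ⟨TK, hTK⟩ := (Module.Finite.fg_top : (⊤ : Submodule Γ(X, V) Γ(K, V)).FG)
  refine ⟨κ.app V '' (TK : Set Γ(K, V)), TK.finite_toSet.image _, ?_⟩
  intro V' hle haff
  have hspan : Submodule.span Γ(X, V') (res K hle '' (TK : Set Γ(K, V))) = ⊤ :=
    span_res_eq_top hV haff hle (IsLocOn.of_isQuasicoherent hV K) (IsLocOn.of_isQuasicoherent haff K)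
      _ hTK
  have hnat : ∀ t : Γ(K, V), κ.app V' (res K hle t) = res H hle (κ.app V t) :=
    fun t => Groth.Agent.S4683.app_res κ hle t
  apply le_antisymm
  · intro s hs
    obtain ⟨k, rfl⟩ := (hrange V' hle s).1 hs
    have hk : k ∈ Submodule.span Γ(X, V') (res K hle '' (TK : Set Γ(K, V))) := by
      rw [hspan]; trivial
    refine Submodule.span_induction
      (p := fun k _ => κ.app V' k ∈ Submodule.span Γ(X, V') (res H hle '' (κ.app V '' (TK : Set Γ(K, V)))))
      ?_ ?_ ?_ ?_ hk
    · rintro _ ⟨t, ht, rfl⟩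
      rw [hnat]
      exact Submodule.subset_span ⟨_, ⟨t, ht, rfl⟩, rfl⟩
    · rw [map_zero]; exact Submodule.zero_mem _
    · intro a b _ _ ha hb
      rw [map_add]; exact Submodule.add_mem _ ha hb
    · intro r a _ ha
      rw [Scheme.Modules.Hom.app_smul]; exact Submodule.smul_mem _ _ ha
  · refine Submodule.span_le.2 ?_
    rintro _ ⟨_, ⟨t, ht, rfl⟩, rfl⟩
    rw [SetLike.mem_coe, hrange V' hle, ← hnat]
    exact ⟨_, rfl⟩


/-- **Coherent submodules without sections supported in the complement of an open.**  On a locally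
Noetherian scheme, a coherent module `H` has a coherent submodule `H₁` which agrees with `H` over the open
`U` and has no nonzero quasi-coherent submodule restricting to zero on `U`. -/
theorem exists_sub_noZ [IsLocallyNoetherian X] (H : X.Modules) (hH : Coh.IsCoh H) (U : X.Opens) :
    ∃ (H₁ : X.Modules) (ι : H₁ ⟶ H), Mono ι ∧ Coh.IsCoh H₁ ∧
      IsIso ((Scheme.Modules.restrictFunctor U.ι).map ι) ∧
      ∀ (K : X.Modules) (k : K ⟶ H₁), K.IsQuasicoherent → Mono k →
        IsZero ((Scheme.Modules.restrictFunctor U.ι).obj K) → IsZero K := by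
  classical
  haveI : H.IsQuasicoherent := hH.1
  choose G q hepi hcoh hass hker using fun x : X => Groth.Agent.S2520.exists_quotient H hH x
  let A : Set X := {x | x ∈ AssSch.Ass H ∧ x ∉ U}
  let S : SubSh H := SubSh.iInf (fun x : A => kerSub (q x.1))
  have hmemS : ∀ (V : X.Opens) (s : Γ(H, V)), s ∈ S.carrier V ↔ ∀ x : A, (q x.1).app V s = 0 := by
    intro V s
    change s ∈ (⨅ x : A, (kerSub (q x.1)).carrier V) ↔ _
    rw [Submodule.mem_iInf]
    rfl
  have hvan : ∀ (x : X) (V : X.Opens), x ∉ V → ∀ m : Γ(G x, V), m = 0 := fun x V hxV m => by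
    haveI : (G x).IsQuasicoherent := (hcoh x).1
    exact eq_zero_of_ass_subset (G x) x (hass x) V hxV m
  have htop : ∀ V' : X.Opens, V' ≤ U → ∀ s : Γ(H, V'), s ∈ S.carrier V' := by
    intro V' hV' s
    rw [hmemS]
    intro x
    exact hvan x.1 V' (fun hx => x.2.2 (hV' hx)) _
  have hgen : LocGen S ⊤ := by
    intro y _
    obtain ⟨V, hV, hyV, -⟩ := exists_isAffineOpen_mem_and_subset (x := y) (U := ⊤) trivial
    have hfin : {x : X | x ∈ A ∧ x ∈ V}.Finite :=
      (Groth.Agent.S4683.finite_ass_inter H hH hV).subset (fun x hx => ⟨hx.1.1, hx.2⟩)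
    obtain ⟨K, κ, hmono, hK, hrange⟩ := exists_inter_kernels H hH G q hcoh hfin.toFinset
    obtain ⟨T, hTfin, hT⟩ := exists_genOn_of_range H S hV K κ hK (fun V' hle s => by
      rw [hmemS, hrange]
      constructor
      · intro h x hx
        rw [Set.Finite.mem_toFinset] at hx
        exact h ⟨x, hx.1⟩
      · intro h x
        by_cases hxV : x.1 ∈ V
        · exact h x.1 (hfin.mem_toFinset.2 ⟨x.2, hxV⟩)
        · exact hvan x.1 V' (fun hx => hxV (hle hx)) _)
    exact ⟨V, hV, hyV, le_top, T, hTfin, hT⟩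
  obtain ⟨hq, hft⟩ := exists_sub_of_locGen H S hgen
  refine ⟨S.toModules, S.ι, inferInstance, ⟨hq, hft⟩, ?_, ?_⟩
  · have hle : ∀ T : (↑U : Scheme.{u}).Opens, U.ι ''ᵁ T ≤ U := fun T => by
      have := Scheme.Hom.image_le_opensRange U.ι T
      rwa [Scheme.Opens.opensRange_ι] at this
    exact Groth.Agent.Lib.Helper17.Spread.isIso_of_bijective_app _ (fun T =>
      ⟨S.ι_app_injective _, fun s => S.exists_of_mem (htop _ (hle T) s)⟩)
  · intro K k hKq hkmono hKU
    haveI := hKq
    haveI := hkmono
    apply Groth.Agent.Lib.Helper23.ModLocal.isZero_of_forall_eq_zero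
    intro W m
    by_contra hm
    obtain ⟨y, hyW, hy, -⟩ := exists_isWeakAssPoint_of_ne_zero_open K W m hm
    have hyK : Curv2.IsAssPoint K y := (isAssPoint_iff_isWeakAssPoint K y).2 hy
    have hyU : y ∉ U := by
      intro hyU
      haveI := Groth.Agent.Lib.Helper23.AssStalk.nontrivial_stalk_of_isAssPoint K y hyK
      have h1 := subsingleton_stalk_of_isZero hKU (⟨y, hyU⟩ : U)
      let e' : ((Scheme.Modules.restrictFunctor U.ι).obj K).presheaf.stalk (⟨y, hyU⟩ : U) ≅
        K.presheaf.stalk (U.ι (⟨y, hyU⟩ : U)) := (Scheme.Modules.restrictStalkNatIso U.ι _).app K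
      have h2 : Subsingleton (K.presheaf.stalk (U.ι (⟨y, hyU⟩ : U))) :=
        e'.addCommGroupIsoToAddEquiv.symm.toEquiv.subsingleton
      have h3 : Subsingleton (K.presheaf.stalk y) := h2
      exact not_subsingleton _ h3
    have hyH : y ∈ AssSch.Ass H :=
      IsAssociatedPrime.map_of_injective (stalkL (k ≫ S.ι) y) hyK (stalkL_injective_of_mono (k ≫ S.ι) y)
    let x : A := ⟨y, hyH, hyU⟩
    have h0 : (k ≫ S.ι) ≫ q y = 0 := by
      apply Scheme.Modules.hom_ext
      intro V
      ext s
      have h1 : S.ι.app V (k.app V s) ∈ S.carrier V := S.ι_app_mem V _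
      exact (hmemS V _).1 h1 x
    let k' : K ⟶ kernel (q y) := kernel.lift (q y) (k ≫ S.ι) h0
    haveI : Mono k' := mono_of_mono_fac (kernel.lift_ι (q y) (k ≫ S.ι) h0)
    exact hker y
      (IsAssociatedPrime.map_of_injective (stalkL k' y) hyK (stalkL_injective_of_mono k' y))

end Groth.Agent.Lib.Helper20.NoZTors
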