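import Mathlib
import Groth.Prelude.Def_Pi1
import Groth.Prelude.Def_EGA4b
import Groth.Agent.Lib.Helper6SmNorm
import Groth.Agent.Lib.Helper20NeronDesc
import Groth.Agent.Lib.Helper20CDivEq
import Groth.Agent.Lib.Helper20SmoothDescSch

/-!
# helper20: finite normal covers — sections, smooth locus (support for S13432)
-/

set_option autoImplicit false
set_option linter.style.haveILetI false
universe u
open AlgebraicGeometry CategoryTheory CategoryTheory.Limits

namespace Groth.Agent.Lib.Helper20NormFin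


/-- If a section `s` of an integral algebra `A → B` over a domain `A` is given and the local ring of
`B` at `s⁻¹𝔭` is a domain, then this local ring is the localization of `A` at `𝔭`. -/
theorem isLocalization_of_section {A B : Type u} [CommRing A] [IsDomain A] [CommRing B]
    [Algebra A B] [Algebra.IsIntegral A B] (s : B →ₐ[A] A) (𝔭 : Ideal A) [𝔭.IsPrime]
    (𝔪 : Ideal B) [𝔪.IsPrime] (h𝔪 : 𝔪 = 𝔭.comap s.toRingHom)
    [hdom : IsDomain (Localization.AtPrime 𝔪)] :
    IsLocalization 𝔭.primeCompl (Localization.AtPrime 𝔪) := by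
  set L := Localization.AtPrime 𝔪 with hL
  have hmem : ∀ g : B, g ∈ 𝔪 ↔ s g ∈ 𝔭 := by
    intro g; rw [h𝔪]; rfl
  have hsφ : ∀ a : A, s (algebraMap A B a) = a := fun a => by
    rw [AlgHom.commutes]; rfl
  -- key: `ker s` dies in `L`
  have hkey : ∀ b : B, s b = 0 → algebraMap B L b = 0 := by
    let 𝔮 : Ideal B := RingHom.ker (algebraMap B L)
    let 𝔓 : Ideal B := RingHom.ker s.toRingHom
    haveI h𝔮 : 𝔮.IsPrime := RingHom.ker_isPrime _
    have hle : 𝔮 ≤ 𝔓 := by
      intro b hb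
      have hb' : algebraMap B L b = 0 := hb
      rw [IsLocalization.map_eq_zero_iff 𝔪.primeCompl] at hb'
      obtain ⟨g, hg⟩ := hb'
      have h1 : s g.1 * s b = 0 := by rw [← map_mul, hg, map_zero]
      have h2 : s g.1 ≠ 0 := by
        intro h0
        apply g.2
        rw [SetLike.mem_coe, hmem, h0]
        exact Ideal.zero_mem _
      exact (mul_eq_zero.mp h1).resolve_left h2
    have heq : 𝔮 = 𝔓 := by
      by_contra hne
      have hlt : 𝔮 < 𝔓 := lt_of_le_of_ne hle hne
      have h3 := Ideal.IsIntegral.comap_lt_comap (R := A) hlt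
      have h4 : 𝔓.comap (algebraMap A B) = ⊥ := by
        rw [eq_bot_iff]
        intro a ha
        have : s (algebraMap A B a) = 0 := ha
        rw [hsφ] at this
        rw [this]; exact Ideal.zero_mem _
      rw [h4] at h3
      exact not_lt_bot h3
    intro b hb
    have : b ∈ 𝔓 := hb
    rw [← heq] at this
    exact this
  have hred : ∀ b : B, algebraMap B L (algebraMap A B (s b)) = algebraMap B L b := by
    intro b
    have := hkey (b - algebraMap A B (s b)) (by rw [map_sub, hsφ, sub_self])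
    rw [map_sub, sub_eq_zero] at this
    exact this.symm
  have halg : ∀ a : A, algebraMap A L a = algebraMap B L (algebraMap A B a) := fun a =>
    IsScalarTower.algebraMap_apply A B L a
  refine ⟨?_, ?_, ?_⟩
  · rintro ⟨a, ha⟩
    rw [halg]
    apply IsLocalization.map_units L (⟨algebraMap A B a, ?_⟩ : 𝔪.primeCompl)
    change algebraMap A B a ∉ 𝔪
    rw [hmem, hsφ]
    exact ha
  · intro z
    obtain ⟨b, g, rfl⟩ := IsLocalization.exists_mk'_eq 𝔪.primeCompl z
    have hg : s g.1 ∈ 𝔭.primeCompl := by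
      change s g.1 ∉ 𝔭
      rw [← hmem]; exact g.2
    refine ⟨⟨s b, ⟨s g.1, hg⟩⟩, ?_⟩
    change IsLocalization.mk' L b g * algebraMap A L (s g.1) = algebraMap A L (s b)
    rw [halg, halg, hred, hred, IsLocalization.mk'_spec]
  · intro a a' haa'
    rw [halg, halg, ← sub_eq_zero, ← map_sub, ← map_sub,
      IsLocalization.map_eq_zero_iff 𝔪.primeCompl] at haa'
    obtain ⟨g, hg⟩ := haa'
    have hg' : s g.1 ∈ 𝔭.primeCompl := by
      change s g.1 ∉ 𝔭
      rw [← hmem]; exact g.2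
    refine ⟨⟨s g.1, hg'⟩, ?_⟩
    have := congrArg s hg
    rw [map_mul, hsφ, map_zero, mul_sub, sub_eq_zero] at this
    exact this


/-- A finite morphism to an integral affine scheme is formally smooth (on stalks) at the points of a
section, provided the local rings of the source at these points are domains. -/
theorem formallySmooth_stalkMap_of_section {X P : Scheme.{u}} [IsAffine X] [IsDomain Γ(X, ⊤)]
    (p : P ⟶ X) [IsFinite p] (σ : X ⟶ P) (hσ : σ ≫ p = 𝟙 X)
    (hP : ∀ w : P, IsDomain (P.presheaf.stalk w)) (x : X) :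
    (p.stalkMap (σ.base x)).hom.FormallySmooth := by
  haveI : IsAffine P := isAffine_of_isAffineHom p
  have hVU : (⊤ : P.Opens) ≤ p ⁻¹ᵁ (⊤ : X.Opens) := le_top
  have hVU' : (⊤ : X.Opens) ≤ σ ⁻¹ᵁ (⊤ : P.Opens) := le_top
  rw [formallySmooth_stalkMap_iff ⊤ (isAffineOpen_top X) ⊤ (isAffineOpen_top P) hVU
    (trivial)]
  letI : Algebra Γ(X, ⊤) Γ(P, ⊤) := (p.appLE ⊤ ⊤ hVU).hom.toAlgebra
  change Algebra.FormallySmooth Γ(X, ⊤) (Localization.AtPrime
    ((isAffineOpen_top P).primeIdealOf ⟨σ.base x, trivial⟩).asIdeal)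
  -- integrality
  haveI : Algebra.IsIntegral Γ(X, ⊤) Γ(P, ⊤) := by
    have h1 : IsIntegralHom p := inferInstance
    rw [HasAffineProperty.iff_of_isAffine (P := @IsIntegralHom)] at h1
    have happ : p.appLE ⊤ ⊤ hVU = p.app ⊤ := by
      rw [Scheme.Hom.app_eq_appLE]; rfl
    have h2 : RingHom.IsIntegral (p.appLE ⊤ ⊤ hVU).hom := by
      rw [happ]; exact h1.2
    exact ⟨h2⟩
  -- the section on rings
  have hcomp : (p.appLE ⊤ ⊤ hVU) ≫ (σ.appLE ⊤ ⊤ hVU') = 𝟙 _ := by
    rw [Scheme.Hom.appLE_comp_appLE]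
    have : ∀ (q : X ⟶ X) (hq : q = 𝟙 X) (e : (⊤ : X.Opens) ≤ q ⁻¹ᵁ ⊤), q.appLE ⊤ ⊤ e = 𝟙 _ := by
      intro q hq e
      subst hq
      simp [Scheme.Hom.appLE]
    exact this _ hσ _
  let s : Γ(P, ⊤) →ₐ[Γ(X, ⊤)] Γ(X, ⊤) :=
    { (σ.appLE ⊤ ⊤ hVU').hom with
      commutes' := fun a => by
        have := congrArg (fun t => t.hom a) hcomp
        exact this }
  have h𝔪 := IsAffineOpen.comap_primeIdealOf_appLE (f := σ) (x := x) ⊤ (isAffineOpen_top P) ⊤
    (isAffineOpen_top X) hVU' (trivial)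
  have h𝔪' : ((isAffineOpen_top P).primeIdealOf ⟨σ.base x, trivial⟩).asIdeal =
      ((isAffineOpen_top X).primeIdealOf ⟨x, trivial⟩).asIdeal.comap s.toRingHom := by
    rw [← h𝔪]
    rfl
  haveI : IsDomain (Localization.AtPrime
      ((isAffineOpen_top P).primeIdealOf ⟨σ.base x, trivial⟩).asIdeal) := by
    letI := P.presheaf.algebra_section_stalk (⟨σ.base x, trivial⟩ : (⊤ : P.Opens))
    haveI := (isAffineOpen_top P).isLocalization_stalk (⟨σ.base x, trivial⟩ : (⊤ : P.Opens))
    haveI := hP (σ.base x)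
    let e := IsLocalization.algEquiv
      ((isAffineOpen_top P).primeIdealOf ⟨σ.base x, trivial⟩).asIdeal.primeCompl
      (P.presheaf.stalk (σ.base x))
      (Localization.AtPrime ((isAffineOpen_top P).primeIdealOf ⟨σ.base x, trivial⟩).asIdeal)
    exact e.symm.toMulEquiv.isDomain _
  haveI := isLocalization_of_section s
    ((isAffineOpen_top X).primeIdealOf ⟨x, trivial⟩).asIdeal
    ((isAffineOpen_top P).primeIdealOf ⟨σ.base x, trivial⟩).asIdeal h𝔪'
  exact Algebra.FormallySmooth.of_isLocalization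
    ((isAffineOpen_top X).primeIdealOf ⟨x, trivial⟩).asIdeal.primeCompl




/-- A generic point of a finite scheme over a normal integral affine scheme extends to a section. -/
theorem exists_section_of_generic_point {A : CommRingCat.{u}} [IsDomain A] [IsIntegrallyClosed A]
    (K : Type u) [Field K] [Algebra A K] [IsFractionRing A K]
    {P : Scheme.{u}} (p : P ⟶ Spec A) [IsFinite p]
    (κ : Spec (CommRingCat.of K) ⟶ P)
    (hκ : κ ≫ p = Spec.map (CommRingCat.ofHom (algebraMap A K))) :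
    ∃ σ : Spec A ⟶ P, σ ≫ p = 𝟙 _ ∧
      Spec.map (CommRingCat.ofHom (algebraMap A K)) ≫ σ = κ := by
  haveI : IsAffine P := isAffine_of_isAffineHom p
  let φ : A ⟶ Γ(P, ⊤) := (Scheme.ΓSpecIso A).inv ≫ p.appTop
  let ψ : Γ(P, ⊤) ⟶ CommRingCat.of K := κ.appTop ≫ (Scheme.ΓSpecIso (CommRingCat.of K)).hom
  have hφψ : φ ≫ ψ = CommRingCat.ofHom (algebraMap A K) := by
    simp only [φ, ψ, Category.assoc]
    rw [← Scheme.Hom.comp_appTop_assoc, hκ, Scheme.ΓSpecIso_naturality]
    exact Iso.inv_hom_id_assoc (Scheme.ΓSpecIso A) _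
  letI : Algebra A Γ(P, ⊤) := φ.hom.toAlgebra
  letI : Algebra Γ(P, ⊤) K := ψ.hom.toAlgebra
  haveI : IsScalarTower A Γ(P, ⊤) K := IsScalarTower.of_algebraMap_eq (fun a => by
    have := congrArg (fun t => t.hom a) hφψ
    exact this.symm)
  haveI : Algebra.IsIntegral A Γ(P, ⊤) := by
    have h1 : IsIntegralHom p := inferInstance
    rw [HasAffineProperty.iff_of_isAffine (P := @IsIntegralHom)] at h1
    have h2 : RingHom.IsIntegral φ.hom := by
      simp only [φ, CommRingCat.hom_comp]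
      exact RingHom.IsIntegral.trans _ _
        (RingHom.isIntegral_of_surjective _
          (Scheme.ΓSpecIso A).symm.commRingCatIsoToRingEquiv.surjective) h1.2
    exact ⟨h2⟩
  let s : Γ(P, ⊤) →ₐ[A] A := IsIntegralClosure.lift A A K
  have hs : ∀ b, algebraMap A K (s b) = ψ.hom b := fun b =>
    IsIntegralClosure.algebraMap_lift A A K b
  refine ⟨Spec.map (CommRingCat.ofHom s.toRingHom) ≫ P.isoSpec.inv, ?_, ?_⟩
  · rw [Category.assoc, ← Scheme.isoSpec_inv_naturality, Scheme.isoSpec_Spec_inv,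
      ← Spec.map_comp, ← Spec.map_comp]
    have : ((Scheme.ΓSpecIso A).inv ≫ p.appTop) ≫ CommRingCat.ofHom s.toRingHom = 𝟙 A := by
      ext a
      exact s.commutes a
    rw [this, Spec.map_id]
  · have h1 : κ = Spec.map ψ ≫ P.isoSpec.inv := by
      rw [Iso.eq_comp_inv]
      have := Scheme.isoSpec_hom_naturality κ
      rw [Scheme.isoSpec_Spec_hom] at this
      rw [← this, ← Spec.map_comp]
    rw [h1, ← Category.assoc, ← Spec.map_comp]
    congr 2
    ext b
    exact hs b




theorem fromSpec_mem' {X : Scheme.{u}} {W : X.Opens} (hW : IsAffineOpen W)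
    (z : PrimeSpectrum Γ(X, W)) : hW.fromSpec z ∈ W := by
  have : hW.fromSpec z ∈ Set.range hW.fromSpec := Set.mem_range_self z
  rw [hW.range_fromSpec] at this
  exact this

/-- sections of a normal scheme over an affine open form a normal ring. -/
theorem isNormalRing_sections {X : Scheme.{u}} (hX : Pi1.IsNormalScheme X) {U : X.Opens}
    (hU : IsAffineOpen U) : EGA4.IsNormalRing Γ(X, U) := by
  intro p hp
  have hyU : hU.fromSpec ⟨p, hp⟩ ∈ U := fromSpec_mem' hU _
  letI := X.presheaf.algebra_section_stalk ⟨hU.fromSpec ⟨p, hp⟩, hyU⟩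
  haveI : IsLocalization.AtPrime (X.presheaf.stalk (hU.fromSpec ⟨p, hp⟩)) p :=
    hU.isLocalization_stalk' ⟨p, hp⟩ hyU
  obtain ⟨hd, hic⟩ := hX (hU.fromSpec ⟨p, hp⟩)
  let e := IsLocalization.algEquiv p.primeCompl (X.presheaf.stalk (hU.fromSpec ⟨p, hp⟩))
    (Localization.AtPrime p)
  exact ⟨e.symm.toMulEquiv.isDomain _, IsIntegrallyClosed.of_equiv e.toRingEquiv⟩

/-- A scheme smooth over a normal scheme is normal. -/
theorem isNormalScheme_of_smooth {T X : Scheme.{u}} (hX : Pi1.IsNormalScheme X)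
    (f : T ⟶ X) [Smooth f] : Pi1.IsNormalScheme T := by
  intro t
  obtain ⟨_, ⟨V, hV, rfl⟩, htV, -⟩ := X.isBasis_affineOpens.exists_subset_of_mem_open
    (Set.mem_univ (f t)) isOpen_univ
  obtain ⟨_, ⟨U, hU, rfl⟩, htU, hUV⟩ := T.isBasis_affineOpens.exists_subset_of_mem_open
    (show t ∈ (f ⁻¹ᵁ V : Set T) from htV) (f ⁻¹ᵁ V).isOpen
  have het : (f.appLE V U hUV).hom.Smooth := Smooth.smooth_appLE f hV hU hUV
  letI := (f.appLE V U hUV).hom.toAlgebra
  haveI : Algebra.Smooth Γ(X, V) Γ(T, U) := het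
  have hN := Groth.Agent.Lib.Helper6.SmNorm.isNormalRing_of_smooth Γ(X, V) Γ(T, U)
    (isNormalRing_sections hX hV)
  letI := TopCat.Presheaf.algebra_section_stalk T.presheaf ⟨t, htU⟩
  haveI hloc := hU.isLocalization_stalk ⟨t, htU⟩
  obtain ⟨hd, hic⟩ := hN (hU.primeIdealOf ⟨t, htU⟩).asIdeal
  let e : Localization.AtPrime (hU.primeIdealOf ⟨t, htU⟩).asIdeal ≃ₐ[Γ(T, U)] T.presheaf.stalk t :=
    IsLocalization.algEquiv (hU.primeIdealOf ⟨t, htU⟩).asIdeal.primeCompl _ _
  exact ⟨e.symm.toMulEquiv.isDomain _, IsIntegrallyClosed.of_equiv e.toRingEquiv⟩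

/-- a domain which is a normal ring is integrally closed. -/
theorem isIntegrallyClosed_of_isNormalRing (A : Type u) [CommRing A] [IsDomain A]
    (hA : EGA4.IsNormalRing A) : IsIntegrallyClosed A := by
  apply IsIntegrallyClosed.of_localization_maximal
  intro p _ hp
  haveI := hp.isPrime
  exact (hA p).2



open Groth.Agent.Lib.Helper20NeronDesc Groth.Agent.Lib.Helper20CDivEq

/-- The generic point of an integral affine open of a scheme flat over `S` lies over any
scheme-theoretically dense (quasi-compact) open of `S`. -/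
theorem generic_mem_preimage {S Z : Scheme.{u}} (S₀ : S.Opens)
    [IsSchemeTheoreticallyDominant S₀.ι] [QuasiCompact S₀.ι]
    (q : Z ⟶ S) [Flat q] {V : Z.Opens} (hV : IsAffineOpen V) [IsDomain Γ(Z, V)] :
    q (hV.fromSpec ⟨⊥, Ideal.isPrime_bot⟩) ∈ S₀ := by
  set ξ : Z := hV.fromSpec ⟨⊥, Ideal.isPrime_bot⟩ with hξdef
  have hξV : ξ ∈ V := fromSpec_mem' hV _
  have hξ : ∀ y ∈ V, ξ ⤳ y := by
    intro y hy
    have h1 : (⟨⊥, Ideal.isPrime_bot⟩ : PrimeSpectrum Γ(Z, V)) ⤳ hV.primeIdealOf ⟨y, hy⟩ :=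
      (PrimeSpectrum.le_iff_specializes _ _).mp bot_le
    have h2 := h1.map hV.fromSpec.continuous
    rwa [hV.fromSpec_primeIdealOf ⟨y, hy⟩] at h2
  have hdom : IsDominant (pullback.fst q S₀.ι) := inferInstance
  have hdense := hdom.denseRange
  obtain ⟨w, hyV⟩ := hdense.exists_mem_open V.2 ⟨ξ, hξV⟩
  have hy0 : q (pullback.fst q S₀.ι w) ∈ S₀ := by
    rw [← Scheme.Hom.comp_apply, pullback.condition, Scheme.Hom.comp_apply]
    exact (pullback.snd q S₀.ι w).2
  have hopen : IsOpen ((q ⁻¹ᵁ S₀ : Z.Opens) : Set Z) := (q ⁻¹ᵁ S₀).2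
  exact (hξ _ hyV).mem_open hopen hy0

open Groth.Agent.Lib.Helper20.FlatDesc in
set_option maxHeartbeats 1600000 in
/-- Local extension across the boundary for the smooth locus of a finite normal cover. -/
theorem exists_local_extension_finite {S : Scheme.{u}} [IsLocallyNoetherian S]
    (hS : Pi1.IsNormalScheme S) (S₀ : S.Opens)
    [IsSchemeTheoreticallyDominant S₀.ι] [QuasiCompact S₀.ι]
    {T : Scheme.{u}} (π : T ⟶ S) [IsFinite π] [LocallyOfFinitePresentation π]
    (hT : Pi1.IsNormalScheme T)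
    {Z : Scheme.{u}} (q : Z ⟶ S) [Smooth q]
    (u : pullback q S₀.ι ⟶ (π.smoothLocus : Scheme.{u}))
    (hu : u ≫ (π.smoothLocus.ι ≫ π) = pullback.fst q S₀.ι ≫ q) (z : Z) :
    ∃ (V : Z.Opens) (_ : z ∈ V) (g : (V : Scheme.{u}) ⟶ (π.smoothLocus : Scheme.{u})),
      g ≫ (π.smoothLocus.ι ≫ π) = V.ι ≫ q ∧
      ((pullback.fst q S₀.ι) ⁻¹ᵁ V).ι ≫ u = (pullback.fst q S₀.ι ∣_ V) ≫ g := by
  have hZ : Pi1.IsNormalScheme Z := isNormalScheme_of_smooth hS q
  haveI : IsLocallyNoetherian Z := LocallyOfFiniteType.isLocallyNoetherian q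
  haveI : IsDomain (Z.presheaf.stalk z) := (hZ z).1
  obtain ⟨V, hV, hzV, -, hdomV⟩ := exists_affineOpen_isDomain z ⊤ trivial
  haveI := hdomV
  haveI hic : IsIntegrallyClosed Γ(Z, V) :=
    isIntegrallyClosed_of_isNormalRing _ (isNormalRing_sections hZ hV)
  refine ⟨V, hzV, ?_⟩
  let A : CommRingCat.{u} := Γ(Z, V)
  let K := FractionRing A
  let ξK : Spec (CommRingCat.of K) ⟶ Spec A := Spec.map (CommRingCat.ofHom (algebraMap A K))
  let j : Spec A ⟶ Z := hV.fromSpec
  let h : Spec A ⟶ S := j ≫ q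
  haveI : Smooth h := inferInstance
  haveI : Flat h := inferInstance
  set F := pullback.fst q S₀.ι with hF
  -- generic point
  have hgen : Set.range (ξK ≫ j ≫ q).base ⊆ Set.range S₀.ι.base := by
    rintro _ ⟨x, rfl⟩
    rw [Scheme.Opens.range_ι]
    have hx : ξK x = ⟨⊥, Ideal.isPrime_bot⟩ := by
      apply PrimeSpectrum.ext
      change x.asIdeal.comap (algebraMap A K) = ⊥
      have : x.asIdeal = ⊥ := Ideal.eq_bot_of_prime _
      rw [this, ← RingHom.ker_eq_comap_bot, ← RingHom.injective_iff_ker_eq_bot]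
      exact IsFractionRing.injective A K
    have := generic_mem_preimage S₀ q hV
    rw [← hx] at this
    exact this
  let a₂ : Spec (CommRingCat.of K) ⟶ S₀ := IsOpenImmersion.lift S₀.ι (ξK ≫ j ≫ q) hgen
  have ha₂ : a₂ ≫ S₀.ι = ξK ≫ j ≫ q := IsOpenImmersion.lift_fac _ _ _
  let a : Spec (CommRingCat.of K) ⟶ pullback q S₀.ι :=
    pullback.lift (ξK ≫ j) a₂ (by rw [Category.assoc, ha₂])
  have ha1 : a ≫ F = ξK ≫ j := pullback.lift_fst _ _ _
  have hκc : (a ≫ u ≫ π.smoothLocus.ι) ≫ π = ξK ≫ h := by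
    rw [Category.assoc, Category.assoc, hu, ← Category.assoc, ha1, Category.assoc]
  let κ : Spec (CommRingCat.of K) ⟶ pullback π h := pullback.lift (a ≫ u ≫ π.smoothLocus.ι) ξK hκc
  have hκ1 : κ ≫ pullback.fst π h = a ≫ u ≫ π.smoothLocus.ι := pullback.lift_fst _ _ _
  have hκ2 : κ ≫ pullback.snd π h = ξK := pullback.lift_snd _ _ _
  obtain ⟨σ, hσp, hσκ⟩ := exists_section_of_generic_point K (pullback.snd π h) κ hκ2
  let g₀ : Spec A ⟶ T := σ ≫ pullback.fst π h
  have hg₀π : g₀ ≫ π = h := by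
    rw [Category.assoc, pullback.condition, ← Category.assoc, hσp, Category.id_comp]
  have hPn : Pi1.IsNormalScheme (pullback π h) := isNormalScheme_of_smooth hT (pullback.fst π h)
  haveI : IsDomain Γ(Spec A, ⊤) :=
    (Scheme.ΓSpecIso A).commRingCatIsoToRingEquiv.toMulEquiv.isDomain _
  have hg₀N : Set.range g₀.base ⊆ Set.range π.smoothLocus.ι.base := by
    rintro _ ⟨x, rfl⟩
    rw [Scheme.Opens.range_ι]
    change g₀ x ∈ π.smoothLocus
    rw [Scheme.Hom.mem_smoothLocus]
    have H := formallySmooth_stalkMap_of_section (pullback.snd π h) σ hσp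
      (fun w => (hPn w).1) x
    exact formallySmooth_stalkMap_of_flat_baseChange π h (σ x) H
  let g₁ : Spec A ⟶ (π.smoothLocus : Scheme.{u}) := IsOpenImmersion.lift π.smoothLocus.ι g₀ hg₀N
  have hg₁ : g₁ ≫ π.smoothLocus.ι = g₀ := IsOpenImmersion.lift_fac _ _ _
  let gV : (V : Scheme.{u}) ⟶ (π.smoothLocus : Scheme.{u}) := hV.isoSpec.hom ≫ g₁
  have hgVπ : gV ≫ (π.smoothLocus.ι ≫ π) = V.ι ≫ q := by
    simp only [gV, Category.assoc]
    rw [reassoc_of% hg₁, hg₀π]
    simp only [h, j]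
    rw [← Category.assoc, IsAffineOpen.isoSpec_hom_fromSpec]
  refine ⟨gV, hgVπ, ?_⟩
  -- compatibility
  let jK : Spec (CommRingCat.of K) ⟶ (V : Scheme.{u}) := ξK ≫ hV.isoSpec.inv
  haveI : IsSchemeTheoreticallyDominant ξK :=
    std_specMap_of_injective _ (IsFractionRing.injective A K)
  haveI : IsSchemeTheoreticallyDominant jK := inferInstance
  haveI : QuasiCompact jK := inferInstance
  haveI : Flat (F ∣_ V) := inferInstance
  let w := pullback.fst (F ∣_ V) jK
  haveI : IsSchemeTheoreticallyDominant w := inferInstance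
  haveI : IsSeparated (π.smoothLocus.ι ≫ π) := inferInstance
  apply eq_of_std_comp_eq w (π.smoothLocus.ι ≫ π)
  · rw [Category.assoc, hu, Category.assoc, hgVπ, morphismRestrict_ι_assoc]
  · rw [← cancel_mono π.smoothLocus.ι]
    simp only [Category.assoc]
    have h1 : w ≫ (F ∣_ V) = pullback.snd (F ∣_ V) jK ≫ jK := pullback.condition
    have h2 : w ≫ (F ⁻¹ᵁ V).ι = pullback.snd (F ∣_ V) jK ≫ a := by
      rw [← cancel_mono F, Category.assoc, Category.assoc, ha1, ← morphismRestrict_ι,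
        reassoc_of% h1]
      simp only [jK, Category.assoc]
      rfl
    rw [reassoc_of% h2, reassoc_of% h1]
    simp only [jK, gV, Category.assoc, Iso.inv_hom_id_assoc]
    rw [hg₁]
    simp only [g₀]
    rw [reassoc_of% hσκ, hκ1]


end Groth.Agent.Lib.Helper20NormFin
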