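import Mathlib
import Groth.Prelude.Def_Omega4
import Groth.Prelude.Def_MoreMor
import Groth.Agent.Lib.Helper18OmLS15
import Groth.Agent.Lib.Helper20FSChart

set_option autoImplicit false
set_option linter.style.haveILetI false
set_option linter.unusedSectionVars false
set_option linter.unusedVariables false
universe u
open CategoryTheory CategoryTheory.Limits AlgebraicGeometry TopologicalSpace Opposite
open KaehlerDifferential TensorProduct
open Groth.Agent.Helper13PullbackUnit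
open Groth.Agent.Lib.Helper23.ModLocal Groth.Agent.Lib.Helper23.QCohLocal Groth.Agent.Lib.Helper23.FinType
  Groth.Agent.Lib.Helper20.PullbackAff
open Groth.Agent.Helper18OmLS

namespace Groth.Agent.Lib.Helper20.OmCon

theorem kerCotangentToTensor_injective_of_formallySmooth {R P S : Type u} [CommRing R] [CommRing P]
    [CommRing S] [Algebra R P] [Algebra R S] [Algebra P S] [IsScalarTower R P S]
    [Algebra.FormallySmooth R S] (hf : Function.Surjective (algebraMap P S)) :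
    Function.Injective (kerCotangentToTensor R P S) := by
  have hsurj : Function.Surjective (IsScalarTower.toAlgHom R P S).kerSquareLift := by
    intro s
    obtain ⟨p, rfl⟩ := hf s
    exact ⟨Ideal.Quotient.mk _ p, rfl⟩
  have hnil : IsNilpotent (RingHom.ker ((IsScalarTower.toAlgHom R P S).kerSquareLift :
      (P ⧸ RingHom.ker (IsScalarTower.toAlgHom R P S).toRingHom ^ 2) →+* S)) := by
    refine ⟨2, ?_⟩
    have := AlgHom.ker_kerSquareLift (IsScalarTower.toAlgHom R P S)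
    change RingHom.ker (IsScalarTower.toAlgHom R P S).kerSquareLift.toRingHom ^ 2 = 0
    rw [this, Ideal.cotangentIdeal_square, Ideal.zero_eq_bot]
  let g := Algebra.FormallySmooth.liftOfSurjective (AlgHom.id R S)
    (IsScalarTower.toAlgHom R P S).kerSquareLift hsurj hnil
  have hg : (IsScalarTower.toAlgHom R P S).kerSquareLift.comp g = AlgHom.id R S :=
    Algebra.FormallySmooth.comp_liftOfSurjective _ _ hsurj hnil
  obtain ⟨l, hl⟩ := (retractionKerCotangentToTensorEquivSection (R := R) hf).symm ⟨g, hg⟩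
  exact Function.LeftInverse.injective (g := l) (fun x => LinearMap.congr_fun hl x)

section S5020
variable {X' X Y : Scheme.{u}} (j : X' ⟶ X) [IsImmersion j] [QuasiCompact j] (f : X ⟶ Y)
  (hf : MoreMor.IsFormallySmoothHom (j ≫ f))
  (Ω' : X.Modules) (d : OmegaSh.Der f Ω') (hd : OmegaSh.IsUniversal d)
  (φ : Omega.conormal j ⟶ (Scheme.Modules.pullback j).obj Ω') (hφ : OmegaSh.IsConormalDiff j d φ)

include hf hd hφ in
theorem chart_S5020 {W : Y.Opens} (hW : IsAffineOpen W) {V : X.Opens} (hV : IsAffineOpen V)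
    (hVW : V ≤ f ⁻¹ᵁ W) (hVj : V ≤ j.coborderRange) :
    ∀ t : Γ(Omega.conormal j, j ⁻¹ᵁ V), φ.app (j ⁻¹ᵁ V) t = 0 → t = 0 := by
  have hU : IsAffineOpen (j ⁻¹ᵁ V) :=
    Groth.Agent.Lib.Helper20.ConormalStalk.isAffineOpen_preimage j hV hVj
  have hsurj : Function.Surjective (j.app V) :=
    Groth.Agent.Lib.Helper20.ConormalStalk.app_surjective j hV hVj
  have hUV : j ⁻¹ᵁ V ≤ j ⁻¹ᵁ V := le_refl _
  have hUW : j ⁻¹ᵁ V ≤ (j ≫ f) ⁻¹ᵁ W := fun y hy => hVW hy
  letI algCA : Algebra Γ(Y, W) Γ(X, V) := (f.appLE W V hVW).hom.toAlgebra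
  letI algCB : Algebra Γ(Y, W) Γ(X', j ⁻¹ᵁ V) := ((j ≫ f).appLE W (j ⁻¹ᵁ V) hUW).hom.toAlgebra
  letI algAB : Algebra Γ(X, V) Γ(X', j ⁻¹ᵁ V) := (j.appLE V (j ⁻¹ᵁ V) hUV).hom.toAlgebra
  haveI : IsScalarTower Γ(Y, W) Γ(X, V) Γ(X', j ⁻¹ᵁ V) := by
    refine IsScalarTower.of_algebraMap_eq fun r => ?_
    have h1 : f.appLE W V hVW ≫ j.appLE V (j ⁻¹ᵁ V) hUV = (j ≫ f).appLE W (j ⁻¹ᵁ V) hUW :=
      Scheme.Hom.appLE_comp_appLE _ _ _ _ _ _ _
    exact congr($h1.symm r)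
  have happ : ∀ a : Γ(X, V), algebraMap Γ(X, V) Γ(X', j ⁻¹ᵁ V) a = j.app V a := by
    intro a
    change (j.appLE V (j ⁻¹ᵁ V) hUV) a = _
    rw [← Scheme.Hom.app_eq_appLE]
  have hsurjAB : Function.Surjective (algebraMap Γ(X, V) Γ(X', j ⁻¹ᵁ V)) := by
    intro b
    obtain ⟨a, ha⟩ := hsurj b
    exact ⟨a, (happ a).trans ha⟩
  haveI : Algebra.FormallySmooth Γ(Y, W) Γ(X', j ⁻¹ᵁ V) :=
    Groth.Agent.Lib.Helper20.FSChart.formallySmooth_appLE (j ≫ f) hf hU hW hUW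
  haveI := isQuasicoherent_of_isUniversal f d hd
  intro t ht
  obtain ⟨s, rfl⟩ := exists_unitSec_eq j (ClSub.idealMod j.ker) hUV hV hU rfl hsurjAB t
  rw [phi_unitSec j d φ hφ hUV s] at ht
  obtain ⟨e, he⟩ := exists_pullback_equiv j Ω' hUV hV hU rfl
  have h1 : (1 : Γ(X', j ⁻¹ᵁ V)) ⊗ₜ[Γ(X, V)] (d.app V (OmegaSh.idealSect j.ker V s)) = 0 := by
    apply e.injective
    rw [he, one_smul, ht, map_zero]
  let sY := sectionsEquiv f d hd hV hW hVW rfl
  have h2 : (1 : Γ(X', j ⁻¹ᵁ V)) ⊗ₜ[Γ(X, V)] D Γ(Y, W) Γ(X, V) (OmegaSh.idealSect j.ker V s) = 0 := by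
    have := congrArg (LinearMap.lTensor Γ(X', j ⁻¹ᵁ V) sY.toLinearMap) h1
    rwa [LinearMap.lTensor_tmul, map_zero, LinearEquiv.coe_coe, sectionsEquiv_d] at this
  have hmem : OmegaSh.idealSect j.ker V s ∈ RingHom.ker (algebraMap Γ(X, V) Γ(X', j ⁻¹ᵁ V)) := by
    rw [RingHom.mem_ker, happ]
    exact app_idealSect_eq_zero j V s
  have h3 : kerCotangentToTensor Γ(Y, W) Γ(X, V) Γ(X', j ⁻¹ᵁ V)
      (Ideal.toCotangent _ ⟨_, hmem⟩) = 0 := by
    rw [kerCotangentToTensor_toCotangent]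
    exact h2
  have h4 := kerCotangentToTensor_injective_of_formallySmooth hsurjAB (h3.trans (map_zero _).symm)
  rw [Ideal.toCotangent_eq_zero] at h4
  have hker : RingHom.ker (algebraMap Γ(X, V) Γ(X', j ⁻¹ᵁ V)) = RingHom.ker (j.app V).hom := by
    ext a
    rw [RingHom.mem_ker, RingHom.mem_ker, happ]
  have h5 := mem_smul_top_of_idealSect_mem_sq j V s (hker ▸ h4)
  exact unitSec_eq_zero_of_mem_smul_top j _ hUV rfl (hker ▸ h5)

include hf hd hφ in
theorem main_S5020 : Mono φ := by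
  refine mono_of_injective_app_basis φ {U : X'.Opens | ∃ (W : Y.Opens) (V : X.Opens), IsAffineOpen W ∧
    IsAffineOpen V ∧ V ≤ f ⁻¹ᵁ W ∧ V ≤ j.coborderRange ∧ U = j ⁻¹ᵁ V} ?_ ?_
  · rw [TopologicalSpace.Opens.isBasis_iff_nbhd]
    intro O x hxO
    obtain ⟨t, ht, htO⟩ := j.isEmbedding.isOpen_iff.mp O.isOpen
    obtain ⟨W, hW, hxW, -⟩ := exists_isAffineOpen_mem_and_subset (x := f (j x)) (U := ⊤) trivial
    have hx2 : j x ∈ (f ⁻¹ᵁ W ⊓ j.coborderRange) ⊓ (⟨t, ht⟩ : X.Opens) := by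
      refine ⟨⟨hxW, subset_coborder ⟨x, rfl⟩⟩, ?_⟩
      change j x ∈ t
      have : x ∈ j ⁻¹' t := by rw [htO]; exact hxO
      exact this
    obtain ⟨V, hV, hxV, hVsub⟩ := exists_isAffineOpen_mem_and_subset (x := j x) hx2
    refine ⟨j ⁻¹ᵁ V, ⟨W, V, hW, hV, fun y hy => (hVsub hy).1.1, fun y hy => (hVsub hy).1.2, rfl⟩,
      hxV, ?_⟩
    intro y hy
    have h1 : j y ∈ t := (hVsub hy).2
    have h2 : y ∈ j ⁻¹' t := h1
    rw [htO] at h2
    exact h2
  · rintro U ⟨W, V, hW, hV, hVW, hVj, rfl⟩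
    rw [injective_iff_map_eq_zero]
    exact chart_S5020 j f hf Ω' d hd φ hφ hW hV hVW hVj

end S5020

end Groth.Agent.Lib.Helper20.OmCon
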