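import Mathlib
import Groth.Prelude.Def_Omega4
import Groth.Prelude.Def_MoreMor
import Groth.Agent.Lib.Helper18OmLS15
import Groth.Agent.Lib.Helper18OmLS10
import Groth.Agent.Lib.Helper20FSChart

set_option autoImplicit false
set_option linter.style.haveILetI false
set_option linter.unusedVariables false
universe u
open CategoryTheory CategoryTheory.Limits AlgebraicGeometry TopologicalSpace Opposite
open KaehlerDifferential TensorProduct
open Groth.Agent.Helper18OmLS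

namespace Groth.Agent.Lib.Helper20.OmMono

theorem injective_of_formallySmooth {C A B : Type u} [CommRing C] [CommRing A] [CommRing B]
    [Algebra C A] [Algebra A B] [Algebra C B] [IsScalarTower C A B] [Algebra.FormallySmooth A B]
    (κ : B ⊗[A] Ω[A⁄C] →ₗ[B] Ω[B⁄C])
    (hκ : ∀ (b : B) (a : A), κ (b ⊗ₜ D C A a) = b • D C B (algebraMap A B a)) :
    Function.Injective κ := by
  have h1 : κ = KaehlerDifferential.mapBaseChange C A B := by
    apply tensor_kaehler_ext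
    intro a
    rw [hκ, KaehlerDifferential.mapBaseChange_tmul, KaehlerDifferential.map_D]
  rw [h1, injective_iff_map_eq_zero]
  intro y hy
  obtain ⟨z, rfl⟩ := (Algebra.H1Cotangent.exact_δ_mapBaseChange C A B y).mp hy
  rw [Subsingleton.elim z 0, map_zero]

theorem injective_iff_of_model {B M N M' N' : Type u} [CommRing B] [AddCommGroup M] [AddCommGroup N]
    [AddCommGroup M'] [AddCommGroup N'] [Module B M] [Module B N] [Module B M'] [Module B N']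
    (e₁ : M' ≃ₗ[B] M) (e₂ : N ≃ₗ[B] N') (κ : M' →ₗ[B] N') (φ : M → N)
    (h : ∀ t, κ t = e₂ (φ (e₁ t))) : Function.Injective φ ↔ Function.Injective κ := by
  have h1 : φ = e₂.symm ∘ κ ∘ e₁.symm := by
    funext t
    simp [h]
  have h2 : ⇑κ = e₂ ∘ φ ∘ e₁ := by
    funext t
    simp [h]
  constructor
  · intro hs
    rw [h2]
    exact e₂.injective.comp (hs.comp e₁.injective)
  · intro hs
    rw [h1]
    exact e₂.symm.injective.comp (hs.comp e₁.symm.injective)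

/-- chart criterion: `c.app U` is injective iff the model `B ⊗ Ω[A/C] → Ω[B/C]` is. -/
theorem chart_injective_iff {X Y S : Scheme.{u}} (g : Y ⟶ S) (h : X ⟶ S)
    (f : X ⟶ Y) (w : f ≫ g = h)
    (ΩY : Y.Modules) (dY : OmegaSh.Der g ΩY) (hY : OmegaSh.IsUniversal dY)
    (ΩX : X.Modules) (dX : OmegaSh.Der h ΩX) (hX : OmegaSh.IsUniversal dX)
    (c : (Scheme.Modules.pullback f).obj ΩY ⟶ ΩX) (hc : OmegaSh.IsDiffCompat f dY dX c)
    {W : S.Opens} (hW : IsAffineOpen W) {V : Y.Opens} (hV : IsAffineOpen V) {U : X.Opens}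
    (hU : IsAffineOpen U) (hVW : V ≤ g ⁻¹ᵁ W) (hUV : U ≤ f ⁻¹ᵁ V) (hUW : U ≤ h ⁻¹ᵁ W)
    [Algebra Γ(S, W) Γ(Y, V)] (halgA : algebraMap Γ(S, W) Γ(Y, V) = (g.appLE W V hVW).hom)
    [Algebra Γ(S, W) Γ(X, U)] (halgB : algebraMap Γ(S, W) Γ(X, U) = (h.appLE W U hUW).hom)
    [Algebra Γ(Y, V) Γ(X, U)] (halgAB : algebraMap Γ(Y, V) Γ(X, U) = (f.appLE V U hUV).hom) :
    ∃ κ : Γ(X, U) ⊗[Γ(Y, V)] Ω[Γ(Y, V)⁄Γ(S, W)] →ₗ[Γ(X, U)] Ω[Γ(X, U)⁄Γ(S, W)],
      (Function.Injective (c.app U) ↔ Function.Injective κ) ∧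
      ∀ (b : Γ(X, U)) (a : Γ(Y, V)),
        κ (b ⊗ₜ D Γ(S, W) Γ(Y, V) a) = b • D Γ(S, W) Γ(X, U) (algebraMap Γ(Y, V) Γ(X, U) a) := by
  obtain ⟨e₁, e₂, κ, hκ1, hκ2⟩ := exists_chart_model f g h dY dX c hc hUV hY hX hU hV hW hVW
    hW hUW halgA halgB halgAB
  exact ⟨κ, injective_iff_of_model e₁ e₂ κ _ hκ1, hκ2⟩

/-- the affine opens of `X` adapted to `X → Y → S` form a basis. -/
theorem isBasis_adapted {X Y S : Scheme.{u}} (g : Y ⟶ S) (f : X ⟶ Y) :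
    TopologicalSpace.Opens.IsBasis {U : X.Opens | IsAffineOpen U ∧ ∃ (V : Y.Opens) (W : S.Opens),
      IsAffineOpen V ∧ IsAffineOpen W ∧ V ≤ g ⁻¹ᵁ W ∧ U ≤ f ⁻¹ᵁ V} := by
  rw [TopologicalSpace.Opens.isBasis_iff_nbhd]
  intro O x hxO
  obtain ⟨W, hW, hxW, -⟩ := exists_isAffineOpen_mem_and_subset (x := g (f x)) (U := ⊤) trivial
  obtain ⟨V, hV, hxV, hVW⟩ := exists_isAffineOpen_mem_and_subset (x := f x) (U := g ⁻¹ᵁ W) hxW
  obtain ⟨U, hU, hxU, hUV⟩ := exists_isAffineOpen_mem_and_subset (x := x) (U := f ⁻¹ᵁ V ⊓ O)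
    ⟨hxV, hxO⟩
  exact ⟨U, ⟨hU, V, W, hV, hW, hVW, fun y hy => (hUV hy).1⟩, hxU, fun y hy => (hUV hy).2⟩

theorem main_S5016 {X Y S : Scheme.{u}} (g : Y ⟶ S) (h : X ⟶ S)
    (f : X ⟶ Y) (w : f ≫ g = h) (hf : MoreMor.IsFormallySmoothHom f)
    (ΩY : Y.Modules) (dY : OmegaSh.Der g ΩY) (hY : OmegaSh.IsUniversal dY)
    (ΩX : X.Modules) (dX : OmegaSh.Der h ΩX) (hX : OmegaSh.IsUniversal dX)
    (c : (Scheme.Modules.pullback f).obj ΩY ⟶ ΩX) (hc : OmegaSh.IsDiffCompat f dY dX c) :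
    Mono c := by
  refine mono_of_injective_app_basis c _ (isBasis_adapted g f) ?_
  rintro U ⟨hU, V, W, hV, hW, hVW, hUV⟩
  have hUW : U ≤ h ⁻¹ᵁ W := by
    intro y hy
    have h1 : g (f y) ∈ W := hVW (hUV hy)
    have h2 : h y = g (f y) := by rw [← w]; rfl
    change h y ∈ W
    rw [h2]; exact h1
  letI algCA : Algebra Γ(S, W) Γ(Y, V) := (g.appLE W V hVW).hom.toAlgebra
  letI algCB : Algebra Γ(S, W) Γ(X, U) := (h.appLE W U hUW).hom.toAlgebra
  letI algAB : Algebra Γ(Y, V) Γ(X, U) := (f.appLE V U hUV).hom.toAlgebra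
  haveI : IsScalarTower Γ(S, W) Γ(Y, V) Γ(X, U) := by
    refine IsScalarTower.of_algebraMap_eq fun r => ?_
    have h1 : g.appLE W V hVW ≫ f.appLE V U hUV = (f ≫ g).appLE W U
        (fun y hy => hVW (hUV hy)) := Scheme.Hom.appLE_comp_appLE _ _ _ _ _ _ _
    have h3 := OmegaSh.appLE_congr_hom w (U := W) (V := U) (fun y hy => hVW (hUV hy)) hUW
    have h4 : h.appLE W U hUW = g.appLE W V hVW ≫ f.appLE V U hUV := by rw [h1, h3]
    exact congr($h4 r)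
  obtain ⟨κ, hκ1, hκ2⟩ := chart_injective_iff g h f w ΩY dY hY ΩX dX hX c hc hW hV hU hVW hUV hUW
    rfl rfl rfl
  rw [hκ1]
  haveI : Algebra.FormallySmooth Γ(Y, V) Γ(X, U) :=
    Groth.Agent.Lib.Helper20.FSChart.formallySmooth_appLE f hf hU hV hUV
  exact injective_of_formallySmooth κ hκ2

end Groth.Agent.Lib.Helper20.OmMono
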