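import Mathlib
import Groth.Agent.Lib.Helper18OmLS8

set_option autoImplicit false
set_option linter.style.haveILetI false
universe u
open CategoryTheory CategoryTheory.Limits AlgebraicGeometry TopologicalSpace Opposite
open KaehlerDifferential TensorProduct
open Groth.Agent.Helper18OmLS

namespace Groth.Agent.Lib.Helper20.OmSep

/-- `C → A → B → L` with `Ω[A/C]` flat over `A`, `B → L` injective and `L` formally étale over `A`:
then `B ⊗_A Ω[A/C] → Ω[B/C]` is injective. -/
theorem mapBaseChange_injective_of_formallyEtale {C A B L : Type u} [CommRing C] [CommRing A]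
    [CommRing B] [CommRing L] [Algebra C A] [Algebra C B] [Algebra A B] [IsScalarTower C A B]
    [Algebra C L] [Algebra A L] [Algebra B L] [IsScalarTower C A L] [IsScalarTower C B L]
    [IsScalarTower A B L] [Module.Flat A Ω[A⁄C]] (hBL : Function.Injective (algebraMap B L))
    [Algebra.FormallyEtale A L] :
    Function.Injective (KaehlerDifferential.mapBaseChange C A B) := by
  let θ : B ⊗[A] Ω[A⁄C] →ₗ[A] L ⊗[A] Ω[A⁄C] :=
    LinearMap.rTensor Ω[A⁄C] (IsScalarTower.toAlgHom A B L).toLinearMap
  have hθ : Function.Injective θ :=
    Module.Flat.rTensor_preserves_injective_linearMap _ hBL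
  have hμ : Function.Injective (KaehlerDifferential.mapBaseChange C A L) :=
    (KaehlerDifferential.tensorKaehlerEquivOfFormallyEtale C A L).injective
  have hcomm : ∀ t, KaehlerDifferential.mapBaseChange C A L (θ t) =
      KaehlerDifferential.map C C B L (KaehlerDifferential.mapBaseChange C A B t) := by
    intro t
    induction t using TensorProduct.induction_on with
    | zero => simp
    | add x y hx hy => rw [map_add, map_add, hx, hy, map_add, map_add]
    | tmul b ω =>
      change KaehlerDifferential.mapBaseChange C A L (algebraMap B L b ⊗ₜ ω) = _
      rw [KaehlerDifferential.mapBaseChange_tmul, KaehlerDifferential.mapBaseChange_tmul]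
      have h1 : KaehlerDifferential.map C C B L (b • KaehlerDifferential.map C C A B ω) =
          algebraMap B L b • KaehlerDifferential.map C C B L (KaehlerDifferential.map C C A B ω) := by
        rw [LinearMap.map_smul_of_tower, algebraMap_smul]
      rw [h1]
      congr 1
      refine Submodule.span_induction (p := fun ω _ => KaehlerDifferential.map C C A L ω =
        KaehlerDifferential.map C C B L (KaehlerDifferential.map C C A B ω)) ?_ ?_ ?_ ?_
        (KaehlerDifferential.span_range_derivation C A ▸ Submodule.mem_top : ω ∈ Submodule.span A (Set.range (D C A)))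
      · rintro _ ⟨a, rfl⟩
        rw [KaehlerDifferential.map_D, KaehlerDifferential.map_D, KaehlerDifferential.map_D,
          ← IsScalarTower.algebraMap_apply]
      · simp
      · intro x y _ _ hx hy
        rw [map_add, map_add, map_add, hx, hy]
      · intro a x _ hx
        rw [map_smul, map_smul, hx, LinearMap.map_smul_of_tower]
  rw [injective_iff_map_eq_zero]
  intro t ht
  apply hθ
  apply hμ
  rw [hcomm, ht, map_zero, map_zero, map_zero]

end Groth.Agent.Lib.Helper20.OmSep
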