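import Mathlib
import Groth.Prelude.Def_Omega4
import Groth.Agent.Lib.Helper20OmMono
import Groth.Agent.Lib.Helper20OmSep

set_option autoImplicit false
set_option linter.style.haveILetI false
set_option linter.unusedVariables false
universe u
open CategoryTheory CategoryTheory.Limits AlgebraicGeometry TopologicalSpace Opposite
open KaehlerDifferential TensorProduct
open Groth.Agent.Helper18OmLS Groth.Agent.Lib.Helper20.OmMono Groth.Agent.Lib.Helper20.OmSep

namespace Groth.Agent.Lib.Helper20.OmSep2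

theorem germ_appLE_apply {X Y : Scheme.{u}} (f : X ⟶ Y) {U : X.Opens} {V : Y.Opens}
    (hUV : U ≤ f ⁻¹ᵁ V) (x : X) (hx : x ∈ U) (a : Γ(Y, V)) :
    X.presheaf.germ U x hx (f.appLE V U hUV a) =
      f.stalkMap x (Y.presheaf.germ V (f x) (hUV hx) a) := by
  rw [Scheme.Hom.germ_stalkMap_apply, Scheme.Hom.appLE, CommRingCat.comp_apply,
    TopCat.Presheaf.germ_res_apply]

/-- nonempty adapted affine opens form a basis. -/
theorem isBasis_adapted_nonempty {X Y S : Scheme.{u}} (g : Y ⟶ S) (f : X ⟶ Y) :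
    TopologicalSpace.Opens.IsBasis {U : X.Opens | (IsAffineOpen U ∧ ∃ (V : Y.Opens) (W : S.Opens),
      IsAffineOpen V ∧ IsAffineOpen W ∧ V ≤ g ⁻¹ᵁ W ∧ U ≤ f ⁻¹ᵁ V) ∧ Nonempty U} := by
  rw [TopologicalSpace.Opens.isBasis_iff_nbhd]
  intro O x hxO
  obtain ⟨U, hU, hxU, hUO⟩ := TopologicalSpace.Opens.isBasis_iff_nbhd.mp (isBasis_adapted g f) hxO
  exact ⟨U, ⟨hU, ⟨⟨x, hxU⟩⟩⟩, hxU, hUO⟩

theorem formallyEtale_of_bijective {R S : Type u} [CommRing R] [CommRing S] (f : R →+* S)
    (hf : Function.Bijective f) : f.FormallyEtale := by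
  algebraize [f]
  exact Algebra.FormallyEtale.of_equiv (AlgEquiv.ofBijective (Algebra.ofId R S) hf)

theorem main_S13458 {S X Y : Scheme.{u}}
    (pX : X ⟶ S) (pY : Y ⟶ S) (φ : X ⟶ Y) (w : φ ≫ pY = pX)
    [IsIntegral X] [IsIntegral Y] [Smooth pY] (hdom : DenseRange φ.base)
    (hsep : letI := (φ.residueFieldMap (genericPoint X)).hom.toAlgebra
      Algebra.IsSeparable (Y.residueField (φ.base (genericPoint X))) (X.residueField (genericPoint X)))
    (ΩY : Y.Modules) (dY : OmegaSh.Der pY ΩY) (hY : OmegaSh.IsUniversal dY)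
    (ΩX : X.Modules) (dX : OmegaSh.Der pX ΩX) (hX : OmegaSh.IsUniversal dX)
    (c : (Scheme.Modules.pullback φ).obj ΩY ⟶ ΩX) (hc : OmegaSh.IsDiffCompat φ dY dX c) :
    Mono c := by
  refine mono_of_injective_app_basis c _ (isBasis_adapted_nonempty pY φ) ?_
  rintro U ⟨⟨hU, V, W, hV, hW, hVW, hUV⟩, hne⟩
  have hUW : U ≤ pX ⁻¹ᵁ W := by
    intro y hy
    have h1 : pY (φ y) ∈ W := hVW (hUV hy)
    have h2 : pX y = pY (φ y) := by rw [← w]; rfl
    change pX y ∈ W
    rw [h2]; exact h1
  set η := genericPoint X with hη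
  have hηU : η ∈ U := ((genericPoint_spec X).mem_open_set_iff U.isOpen).mpr (by simpa using hne)
  have hyV : φ η ∈ V := hUV hηU
  letI algCA : Algebra Γ(S, W) Γ(Y, V) := (pY.appLE W V hVW).hom.toAlgebra
  letI algCB : Algebra Γ(S, W) Γ(X, U) := (pX.appLE W U hUW).hom.toAlgebra
  letI algAB : Algebra Γ(Y, V) Γ(X, U) := (φ.appLE V U hUV).hom.toAlgebra
  haveI : IsScalarTower Γ(S, W) Γ(Y, V) Γ(X, U) := by
    refine IsScalarTower.of_algebraMap_eq fun r => ?_
    have h1 : pY.appLE W V hVW ≫ φ.appLE V U hUV = (φ ≫ pY).appLE W U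
        (fun y hy => hVW (hUV hy)) := Scheme.Hom.appLE_comp_appLE _ _ _ _ _ _ _
    have h3 := OmegaSh.appLE_congr_hom w (U := W) (V := U) (fun y hy => hVW (hUV hy)) hUW
    have h4 : pX.appLE W U hUW = pY.appLE W V hVW ≫ φ.appLE V U hUV := by rw [h1, h3]
    exact congr($h4 r)
  letI algBL : Algebra Γ(X, U) (X.residueField η) :=
    (X.presheaf.germ U η hηU ≫ X.residue η).hom.toAlgebra
  letI algAL : Algebra Γ(Y, V) (X.residueField η) :=
    ((algebraMap Γ(X, U) (X.residueField η)).comp (algebraMap Γ(Y, V) Γ(X, U))).toAlgebra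
  letI algCL : Algebra Γ(S, W) (X.residueField η) :=
    ((algebraMap Γ(X, U) (X.residueField η)).comp (algebraMap Γ(S, W) Γ(X, U))).toAlgebra
  haveI : IsScalarTower Γ(Y, V) Γ(X, U) (X.residueField η) :=
    IsScalarTower.of_algebraMap_eq fun _ => rfl
  haveI : IsScalarTower Γ(S, W) Γ(X, U) (X.residueField η) :=
    IsScalarTower.of_algebraMap_eq fun _ => rfl
  haveI : IsScalarTower Γ(S, W) Γ(Y, V) (X.residueField η) := by
    refine IsScalarTower.of_algebraMap_eq fun r => ?_
    change algebraMap Γ(X, U) (X.residueField η) (algebraMap Γ(S, W) Γ(X, U) r) =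
      algebraMap Γ(X, U) (X.residueField η) (algebraMap Γ(Y, V) Γ(X, U) (algebraMap Γ(S, W) Γ(Y, V) r))
    rw [← IsScalarTower.algebraMap_apply Γ(S, W) Γ(Y, V) Γ(X, U)]
  -- flatness of Ω[A/C]
  haveI : Algebra.Smooth Γ(S, W) Γ(Y, V) :=
    HasRingHomProperty.appLE (P := @Smooth) pY inferInstance ⟨W, hW⟩ ⟨V, hV⟩ hVW
  -- injectivity of B → L
  have hBL : Function.Injective (algebraMap Γ(X, U) (X.residueField η)) := by
    change Function.Injective (X.presheaf.germ U η hηU ≫ X.residue η).hom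
    rw [CommRingCat.hom_comp]
    exact (RingHom.injective (X.residue η).hom).comp (germ_injective_of_isIntegral X η hηU)
  -- formal étaleness of A → L
  have hfield : IsField (Y.presheaf.stalk (φ η)) := by
    apply isField_stalk_of_closure_mem_irreducibleComponents
    rw [irreducibleComponents_eq_singleton, Set.mem_singleton_iff]
    apply Set.eq_univ_of_univ_subset
    have h1 : closure (Set.range φ.base) = Set.univ := hdom.closure_eq
    rw [← h1]
    have h2 : Set.range φ.base = φ.base '' closure {η} := by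
      rw [(genericPoint_spec X).def, Set.image_univ]
    rw [h2]
    refine closure_minimal ?_ isClosed_closure
    refine (image_closure_subset_closure_image φ.continuous).trans ?_
    rw [Set.image_singleton]
  have hf1 : (Y.presheaf.germ V (φ η) hyV).hom.FormallyEtale := by
    letI := Y.presheaf.algebra_section_stalk ⟨φ η, hyV⟩
    haveI := hV.isLocalization_stalk ⟨φ η, hyV⟩
    have : Algebra.FormallyEtale Γ(Y, V) (Y.presheaf.stalk (φ η)) :=
      Algebra.FormallyEtale.of_isLocalization (hV.primeIdealOf ⟨φ η, hyV⟩).asIdeal.primeCompl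
    exact RingHom.formallyEtale_algebraMap.mpr this
  have hf2 : (Y.residue (φ η)).hom.FormallyEtale := by
    apply formallyEtale_of_bijective
    letI := hfield.toField
    exact ⟨RingHom.injective _, Y.residue_surjective (φ η)⟩
  have hf3 : (φ.residueFieldMap η).hom.FormallyEtale := by
    letI := (φ.residueFieldMap η).hom.toAlgebra
    have : Algebra.FormallyEtale (Y.residueField (φ η)) (X.residueField η) :=
      Algebra.FormallyEtale.of_isSeparable _ _
    exact this
  haveI : Algebra.FormallyEtale Γ(Y, V) (X.residueField η) := by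
    have h1 := (hf1.comp hf2).comp hf3
    have h2 : ((φ.residueFieldMap η).hom.comp ((Y.residue (φ η)).hom.comp
        (Y.presheaf.germ V (φ η) hyV).hom)) = algebraMap Γ(Y, V) (X.residueField η) := by
      ext a
      change (φ.residueFieldMap η).hom ((Y.residue (φ η)).hom (Y.presheaf.germ V (φ η) hyV a)) =
        (X.residue η).hom (X.presheaf.germ U η hηU (φ.appLE V U hUV a))
      rw [germ_appLE_apply φ hUV η hηU a]
      exact congr($(Scheme.residue_residueFieldMap φ η) (Y.presheaf.germ V (φ η) hyV a))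
    rw [h2] at h1
    exact RingHom.formallyEtale_algebraMap.mp h1
  obtain ⟨κ, hκ1, hκ2⟩ := chart_injective_iff pY pX φ w ΩY dY hY ΩX dX hX c hc hW hV hU hVW hUV hUW
    rfl rfl rfl
  rw [hκ1]
  have h1 : κ = KaehlerDifferential.mapBaseChange Γ(S, W) Γ(Y, V) Γ(X, U) := by
    apply tensor_kaehler_ext
    intro a
    rw [hκ2, KaehlerDifferential.mapBaseChange_tmul, KaehlerDifferential.map_D]
  rw [h1]
  exact mapBaseChange_injective_of_formallyEtale (L := X.residueField η) hBL

end Groth.Agent.Lib.Helper20.OmSep2
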