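import Mathlib
import Groth.Agent.Lib.Helper20OnePt

set_option autoImplicit false
universe u

open CategoryTheory CategoryTheory.Limits AlgebraicGeometry

namespace Groth.Agent.Lib.Helper20.OnePt

theorem liesOver_primeIdealOf {X S : Scheme.{u}} (f : X ⟶ S) [IsAffineHom f]
    (x : X) (U₀ : S.Opens) (hU₀ : IsAffineOpen U₀) (hs : f x ∈ U₀) :
    letI : Algebra Γ(S, U₀) Γ(X, f ⁻¹ᵁ U₀) := (f.app U₀).hom.toAlgebra
    ((hU₀.preimage f).primeIdealOf ⟨x, hs⟩).asIdeal.LiesOver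
      (hU₀.primeIdealOf ⟨f x, hs⟩).asIdeal := by
  have hV₀ : IsAffineOpen (f ⁻¹ᵁ U₀) := hU₀.preimage f
  have hxV₀ : x ∈ f ⁻¹ᵁ U₀ := hs
  let _ : Algebra Γ(S, U₀) Γ(X, f ⁻¹ᵁ U₀) := (f.app U₀).hom.toAlgebra
  have hcomap : (hV₀.primeIdealOf ⟨x, hxV₀⟩).comap (f.app U₀).hom =
      hU₀.primeIdealOf ⟨f x, hs⟩ := by
    have := IsAffineOpen.comap_primeIdealOf_appLE (f := f) (x := x) U₀ hU₀ (f ⁻¹ᵁ U₀) hV₀ le_rfl
      hxV₀
    rw [← Scheme.Hom.app_eq_appLE] at this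
    exact this
  constructor
  rw [← hcomap]
  rfl

theorem primesOver_primeIdealOf_eq_singleton {X S : Scheme.{u}} (f : X ⟶ S) [IsAffineHom f]
    (x : X) (hx : f ⁻¹' {f x} = {x}) (U₀ : S.Opens) (hU₀ : IsAffineOpen U₀) (hs : f x ∈ U₀) :
    letI : Algebra Γ(S, U₀) Γ(X, f ⁻¹ᵁ U₀) := (f.app U₀).hom.toAlgebra
    (hU₀.primeIdealOf ⟨f x, hs⟩).asIdeal.primesOver Γ(X, f ⁻¹ᵁ U₀) =
      {((hU₀.preimage f).primeIdealOf ⟨x, hs⟩).asIdeal} := by
  have hV₀ : IsAffineOpen (f ⁻¹ᵁ U₀) := hU₀.preimage f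
  have hxV₀ : x ∈ f ⁻¹ᵁ U₀ := hs
  let _ : Algebra Γ(S, U₀) Γ(X, f ⁻¹ᵁ U₀) := (f.app U₀).hom.toAlgebra
  let p := hU₀.primeIdealOf ⟨f x, hs⟩
  let q := hV₀.primeIdealOf ⟨x, hxV₀⟩
  have hlies : q.asIdeal.LiesOver p.asIdeal := liesOver_primeIdealOf f x U₀ hU₀ hs
  ext q'
  simp only [Set.mem_singleton_iff]
  constructor
  · rintro ⟨hq'prime, hq'over⟩
    let q'' : ↥(Spec Γ(X, f ⁻¹ᵁ U₀)) := (⟨q', hq'prime⟩ : PrimeSpectrum Γ(X, f ⁻¹ᵁ U₀))
    have h1 : f (hV₀.fromSpec q'') = f x := by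
      have h2 := IsAffineOpen.SpecMap_appLE_fromSpec f hU₀ hV₀ le_rfl
      have h3 : hU₀.fromSpec (Spec.map (f.appLE U₀ (f ⁻¹ᵁ U₀) le_rfl) q'') =
          f (hV₀.fromSpec q'') := by
        rw [← Scheme.Hom.comp_apply, ← Scheme.Hom.comp_apply, h2]
      rw [← h3]
      refine Eq.trans ?_ (hU₀.fromSpec_primeIdealOf ⟨f x, hs⟩)
      congr 1
      apply PrimeSpectrum.ext
      have e : f.appLE U₀ (f ⁻¹ᵁ U₀) le_rfl = f.app U₀ := (Scheme.Hom.app_eq_appLE ..).symm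
      rw [e]
      exact hq'over.over.symm
    have h4 : hV₀.fromSpec q'' = x := by
      have : hV₀.fromSpec q'' ∈ f ⁻¹' {f x} := h1
      rw [hx] at this
      exact this
    have h5 : hV₀.fromSpec q'' = hV₀.fromSpec q := by
      rw [h4, hV₀.fromSpec_primeIdealOf ⟨x, hxV₀⟩]
    have h6 := hV₀.fromSpec.isOpenEmbedding.injective h5
    exact congrArg PrimeSpectrum.asIdeal h6
  · rintro rfl
    exact ⟨q.isPrime, hlies⟩

end Groth.Agent.Lib.Helper20.OnePt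

namespace Groth.Agent.Lib.Helper20.OnePt

theorem stalkMap_finite_of_singleton_fibre {X S : Scheme.{u}} (f : X ⟶ S) [IsFinite f] (x : X)
    (hx : f ⁻¹' {f x} = {x}) : (f.stalkMap x).hom.Finite := by
  obtain ⟨_, ⟨U₀, hU₀, rfl⟩, hs, -⟩ :=
    S.isBasis_affineOpens.exists_subset_of_mem_open (Set.mem_univ (f x)) isOpen_univ
  have hV₀ : IsAffineOpen (f ⁻¹ᵁ U₀) := hU₀.preimage f
  have hxV₀ : x ∈ f ⁻¹ᵁ U₀ := hs
  let _ : Algebra Γ(S, U₀) Γ(X, f ⁻¹ᵁ U₀) := (f.app U₀).hom.toAlgebra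
  have hfin : Module.Finite Γ(S, U₀) Γ(X, f ⁻¹ᵁ U₀) := f.finite_app U₀ hU₀
  let p := (hU₀.primeIdealOf ⟨f x, hs⟩).asIdeal
  let q := (hV₀.primeIdealOf ⟨x, hxV₀⟩).asIdeal
  have hlies : q.LiesOver p := liesOver_primeIdealOf f x U₀ hU₀ hs
  have hq : p.primesOver Γ(X, f ⁻¹ᵁ U₀) = {q} :=
    primesOver_primeIdealOf_eq_singleton f x hx U₀ hU₀ hs
  let _ := Localization.AtPrime.algebraOfLiesOver p q
  have hfinloc : Module.Finite (Localization.AtPrime p) (Localization.AtPrime q) :=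
    Localization.finite_of_primesOver_eq_singleton hq
  let _ := S.presheaf.algebra_section_stalk ⟨f x, hs⟩
  let _ := X.presheaf.algebra_section_stalk ⟨x, hxV₀⟩
  have hlocS : IsLocalization.AtPrime (S.presheaf.stalk (f x)) p :=
    hU₀.isLocalization_stalk ⟨f x, hs⟩
  have hlocX : IsLocalization.AtPrime (X.presheaf.stalk x) q :=
    hV₀.isLocalization_stalk ⟨x, hxV₀⟩
  let eS : Localization.AtPrime p ≃ₐ[Γ(S, U₀)] S.presheaf.stalk (f x) :=
    IsLocalization.algEquiv p.primeCompl _ _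
  let eX : Localization.AtPrime q ≃ₐ[Γ(X, f ⁻¹ᵁ U₀)] X.presheaf.stalk x :=
    IsLocalization.algEquiv q.primeCompl _ _
  have hcomm : (f.stalkMap x).hom.comp (eS : Localization.AtPrime p →+* S.presheaf.stalk (f x)) =
      (eX : Localization.AtPrime q →+* X.presheaf.stalk x).comp
        (algebraMap (Localization.AtPrime p) (Localization.AtPrime q)) := by
    apply IsLocalization.ringHom_ext p.primeCompl
    ext a
    have h1 : eS (algebraMap Γ(S, U₀) (Localization.AtPrime p) a) =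
        algebraMap Γ(S, U₀) (S.presheaf.stalk (f x)) a := eS.commutes a
    have h2 : algebraMap (Localization.AtPrime p) (Localization.AtPrime q)
        (algebraMap Γ(S, U₀) (Localization.AtPrime p) a) =
        algebraMap Γ(X, f ⁻¹ᵁ U₀) (Localization.AtPrime q) ((f.app U₀).hom a) :=
      Localization.localRingHom_to_map _ _ _ _ a
    have h3 : eX (algebraMap Γ(X, f ⁻¹ᵁ U₀) (Localization.AtPrime q) ((f.app U₀).hom a)) =
        algebraMap Γ(X, f ⁻¹ᵁ U₀) (X.presheaf.stalk x) ((f.app U₀).hom a) := eX.commutes _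
    simp only [RingHom.coe_comp, Function.comp_apply, RingHom.coe_coe]
    rw [h1, h2, h3]
    exact Scheme.Hom.germ_stalkMap_apply f U₀ x hs a
  have hfac : (f.stalkMap x).hom = ((eX : Localization.AtPrime q →+* X.presheaf.stalk x).comp
        (algebraMap (Localization.AtPrime p) (Localization.AtPrime q))).comp
      (eS.symm : S.presheaf.stalk (f x) →+* Localization.AtPrime p) := by
    rw [← hcomm]
    ext y
    simp
  rw [hfac]
  refine RingHom.Finite.comp (RingHom.Finite.comp ?_ ?_) ?_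
  · exact RingHom.Finite.of_surjective _ eX.surjective
  · exact RingHom.finite_algebraMap.mpr hfinloc
  · exact RingHom.Finite.of_surjective _ eS.symm.surjective

end Groth.Agent.Lib.Helper20.OnePt
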