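import Groth.Prelude.Def_FSch5
import Groth.Agent.Lib.Helper22ThickAffine

/-!
# `O_𝔛 → O_{X_i}` is surjective on sections over affine opens (ns `Groth.Agent.Lib.Helper20.OshSurj`)

* `surjective_π_app_of_surjective_map`: for `F : ℕᵒᵖ ⥤ Type u` with surjective successive maps, every
  projection of a limit cone is surjective (Mathlib has level `0` only).
* `appLE_surjective`: `appLE` of a closed immersion onto the full preimage of an affine open is onto.
* `toX_preimage_lvU`, `isAffineOpen_lvU`: the opens `lvU h n U` over an affine open `U` are affine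
  (helper22's `isAffine_of_thickening`).
* `secFun`, `isLimit_sec`: sections over `U` of `Osh` are the limit of the sections of the levels.
* `OshProj_app_surjective`.
-/

set_option autoImplicit false
open CategoryTheory CategoryTheory.Limits
universe u
open Opposite

namespace Groth.Agent.Lib.Helper20.OshSurj

section Types

variable {F : ℕᵒᵖ ⥤ Type u}
  (hF : ∀ n, Function.Surjective (F.map (homOfLE (Nat.le_succ n)).op))

/-- successive preimages starting at level `i`. -/
private noncomputable def pre (i : ℕ) (a : F.obj ⟨i⟩) : (n : ℕ) → F.obj ⟨i + n⟩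
  | 0 => a
  | n + 1 => (hF (i + n) (pre i a n)).choose

include hF in
private lemma pre_map (i : ℕ) (a : F.obj ⟨i⟩) (m n : ℕ) (hmn : m ≤ n) :
    F.map (homOfLE (Nat.add_le_add_left hmn i)).op (pre hF i a n) = pre hF i a m := by
  induction n, hmn using Nat.le_induction with
  | base =>
    have : (homOfLE (Nat.add_le_add_left (le_refl m) i)).op = 𝟙 (op (i + m)) := Subsingleton.elim _ _
    rw [this, F.map_id]; rfl
  | succ n hmn ih =>
    have e : (homOfLE (Nat.add_le_add_left (Nat.le_succ_of_le hmn) i)).op =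
        (homOfLE (Nat.le_succ (i + n))).op ≫ (homOfLE (Nat.add_le_add_left hmn i)).op :=
      Subsingleton.elim _ _
    rw [e, F.map_comp, types_comp_apply]
    have : F.map (homOfLE (Nat.le_succ (i + n))).op (pre hF i a (n + 1)) = pre hF i a n :=
      (hF (i + n) (pre hF i a n)).choose_spec
    rw [this, ih]

include hF in
lemma surjective_limitCone_π (i : ℕ) : Function.Surjective ((Types.limitCone F).π.app ⟨i⟩) := by
  intro a
  refine ⟨⟨fun n ↦ F.map (homOfLE (Nat.le_add_left n.unop i)).op (pre hF i a n.unop), ?_⟩, ?_⟩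
  · intro n m g
    obtain ⟨n⟩ := n
    obtain ⟨m⟩ := m
    have hmn : m ≤ n := leOfHom g.unop
    change F.map g (F.map (homOfLE (Nat.le_add_left n i)).op (pre hF i a n)) =
      F.map (homOfLE (Nat.le_add_left m i)).op (pre hF i a m)
    rw [← pre_map hF i a m n hmn, ← types_comp_apply (F.map _) (F.map _), ← F.map_comp,
      ← types_comp_apply (F.map _) (F.map _), ← F.map_comp]
    congr 1
  · change F.map (homOfLE (Nat.le_add_left i i)).op (pre hF i a i) = a
    exact pre_map hF i a 0 i (Nat.zero_le i)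

include hF in
/-- Given surjections `⋯ ⟶ Xₙ₊₁ ⟶ Xₙ ⟶ ⋯ ⟶ X₀`, every projection `lim Xₙ ⟶ Xᵢ` is surjective. -/
lemma surjective_π_app_of_surjective_map {c : Cone F} (hc : IsLimit c) (i : ℕ) :
    Function.Surjective (c.π.app ⟨i⟩) := by
  let e := hc.conePointUniqueUpToIso (Types.limitConeIsLimit F)
  have : c.π.app ⟨i⟩ = e.hom ≫ (Types.limitCone F).π.app ⟨i⟩ :=
    (IsLimit.conePointUniqueUpToIso_hom_comp hc (Types.limitConeIsLimit F) ⟨i⟩).symm
  rw [this, types_comp]
  apply Function.Surjective.comp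
  · exact surjective_limitCone_π hF i
  · rw [← epi_iff_surjective]
    infer_instance

end Types

open AlgebraicGeometry

/-- the section functor at `U` on sheaves of rings. -/
noncomputable abbrev secFun (X : Scheme.{u}) (U : X.Opens) :
    Sheaf (Opens.grothendieckTopology X) CommRingCat.{u} ⥤ Type u :=
  sheafToPresheaf _ _ ⋙ (evaluation _ _).obj (op U) ⋙ forget CommRingCat

lemma appLE_surjective {X Y : Scheme.{u}} (f : X ⟶ Y) [IsClosedImmersion f] (V' : Y.Opens)
    (hV' : IsAffineOpen V') (V : X.Opens) (e : V = f ⁻¹ᵁ V') :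
    Function.Surjective (f.appLE V' V e.le) := by
  subst e
  rw [← Scheme.Hom.app_eq_appLE]
  exact f.app_surjective V' hV'

lemma toX_preimage_lvU (𝔛 : FSch.Sys.{u}) (h : 𝔛.IsFormal) (n : ℕ) (U : (𝔛.X 0).Opens) :
    (𝔛.toX n) ⁻¹ᵁ (𝔛.lvU h n U) = U := by
  change (TopologicalSpace.Opens.map ((𝔛.toX n).base ≫ 𝔛.gInv h n)).obj U = U
  rw [FSch.Sys.toX_base_gInv]
  rfl

/-- Over an affine open `U` of the common space, every level open `lvU h n U` is affine. -/
lemma isAffineOpen_lvU (𝔛 : FSch.Sys.{u}) (h : 𝔛.IsFormal) (n : ℕ) (U : (𝔛.X 0).Opens)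
    (hU : IsAffineOpen U) : IsAffineOpen (𝔛.lvU h n U) := by
  have hci : IsClosedImmersion (𝔛.toX n) := FSch.Sys.toX_isClosedImmersion 𝔛 h n
  have hs : Function.Surjective (𝔛.toX n).base := FSch.Sys.toX_surjective 𝔛 h n
  have hpre := toX_preimage_lvU 𝔛 h n U
  have haff : IsAffineOpen ((𝔛.toX n) ⁻¹ᵁ (𝔛.lvU h n U)) := by rw [hpre]; exact hU
  have : IsAffine ((𝔛.toX n) ⁻¹ᵁ (𝔛.lvU h n U)).toScheme := haff
  have hci' : IsClosedImmersion ((𝔛.toX n) ∣_ (𝔛.lvU h n U)) := inferInstance
  have hs' : Function.Surjective ((𝔛.toX n) ∣_ (𝔛.lvU h n U)).base := by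
    have : Surjective (𝔛.toX n) := ⟨hs⟩
    have : Surjective ((𝔛.toX n) ∣_ (𝔛.lvU h n U)) :=
      IsZariskiLocalAtTarget.restrict (P := @Surjective) this _
    exact this.surj
  exact Groth.Agent.Lib.Helper22.ThickAffine.isAffine_of_thickening ((𝔛.toX n) ∣_ (𝔛.lvU h n U)) hs'

/-- Sections of `O_𝔛` over `U` are the limit of the sections of the levels. -/
noncomputable def isLimit_sec (𝔛 : FSch.Sys.{u}) (h : 𝔛.IsFormal) (U : (𝔛.X 0).Opens) :
    IsLimit ((secFun (𝔛.X 0) U).mapCone (limit.cone (𝔛.levelRing h))) :=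
  isLimitOfPreserves _ (limit.isLimit _)

lemma levelRing_sec_surjective (𝔛 : FSch.Sys.{u}) (h : 𝔛.IsFormal) (U : (𝔛.X 0).Opens)
    (hU : IsAffineOpen U) (n : ℕ) : Function.Surjective
      ((𝔛.levelRing h ⋙ secFun (𝔛.X 0) U).map (homOfLE (Nat.le_succ n)).op) := by
  have e := 𝔛.levelRing_map_succ h n
  change Function.Surjective ((forget CommRingCat).map
    (((𝔛.levelRing h).map (homOfLE (Nat.le_add_right n 1)).op).hom.app (op U)))
  rw [e]
  have := (h n).1
  exact appLE_surjective (𝔛.ι n) _ (isAffineOpen_lvU 𝔛 h (n + 1) U hU) _ (𝔛.lvU_succ h n U).symm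

/-- `O_𝔛 ⟶ O_{X i}` is surjective on sections over affine opens of the common space. -/
theorem OshProj_app_surjective (𝔛 : FSch.Sys.{u}) (h : 𝔛.IsFormal)
    (i : ℕ) (U : (𝔛.X 0).Opens) (hU : IsAffineOpen U) :
    Function.Surjective ((𝔛.OshProj h i).hom.app (op U)) :=
  surjective_π_app_of_surjective_map (levelRing_sec_surjective 𝔛 h U hU) (isLimit_sec 𝔛 h U) i

end Groth.Agent.Lib.Helper20.OshSurj
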