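import Groth.Agent.Lib.Helper20Perfection
import Groth.Agent.Lib.Helper20AWNSchA

/-!
# Chevalley for perfections: a scheme with affine perfection is affine (helper20)
-/

set_option autoImplicit false
set_option linter.style.haveILetI false

universe u

namespace Groth.Agent.Lib.Helper20.PerfAff

open AlgebraicGeometry CategoryTheory Limits TopologicalSpace Opposite FrobSch
open Groth.Agent.Lib.Helper20.AWN Groth.Agent.Lib.Helper20.AWNSch
open Groth.Agent.Lib.Helper20.Perfection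

theorem exists_glue₂ (X : Scheme.{u}) (U V : X.Opens) (a : Γ(X, U)) (b : Γ(X, V))
    (h : X.presheaf.map (homOfLE (inf_le_left : U ⊓ V ≤ U)).op a =
      X.presheaf.map (homOfLE (inf_le_right : U ⊓ V ≤ V)).op b) :
    ∃ c : Γ(X, U ⊔ V), X.presheaf.map (homOfLE (le_sup_left : U ≤ U ⊔ V)).op c = a ∧
      X.presheaf.map (homOfLE (le_sup_right : V ≤ U ⊔ V)).op c = b := by
  let x : RingHom.eqLocus
      (RingHom.comp (X.sheaf.obj.map (homOfLE inf_le_left : U ⊓ V ⟶ U).op).hom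
        (RingHom.fst (X.sheaf.obj.obj <| op U) (X.sheaf.obj.obj <| op V)))
      (RingHom.comp (X.sheaf.obj.map (homOfLE inf_le_right : U ⊓ V ⟶ V).op).hom
        (RingHom.snd (X.sheaf.obj.obj <| op U) (X.sheaf.obj.obj <| op V))) :=
    ⟨(a, b), h⟩
  refine ⟨(X.sheaf.objSupIsoProdEqLocus U V).inv x, ?_, ?_⟩
  · exact TopCat.Sheaf.objSupIsoProdEqLocus_inv_fst X.sheaf U V x
  · exact TopCat.Sheaf.objSupIsoProdEqLocus_inv_snd X.sheaf U V x

theorem preimage_mono {XP X : Scheme.{u}} (π : XP ⟶ X) {V W : X.Opens} (h : V ≤ W) :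
    π ⁻¹ᵁ V ≤ π ⁻¹ᵁ W := fun _ hx => h hx

theorem app_res {XP X : Scheme.{u}} (π : XP ⟶ X) {V W : X.Opens} (h : V ≤ W) (c : Γ(X, W)) :
    π.app V (X.presheaf.map (homOfLE h).op c) =
      XP.presheaf.map (homOfLE (preimage_mono π h)).op (π.app W c) := by
  have := π.naturality (homOfLE h).op
  exact ConcreteCategory.congr_hom this c

theorem isNilpotent_of_app_eq_zero {XP X : Scheme.{u}} (π : XP ⟶ X) [Surjective π]
    (S : X.Opens) (hS : IsCompact (S : Set X)) (a : Γ(X, S)) (ha : π.app S a = 0) :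
    IsNilpotent a := by
  rw [Scheme.isNilpotent_iff_basicOpen_eq_bot_of_isCompact hS]
  have h1 : π ⁻¹ᵁ (X.basicOpen a) = ⊥ := by
    rw [Scheme.preimage_basicOpen, ha, Scheme.basicOpen_zero]
  rw [eq_bot_iff]
  intro x hx
  obtain ⟨y, rfl⟩ := π.surjective x
  have : y ∈ π ⁻¹ᵁ (X.basicOpen a) := hx
  rw [h1] at this
  exact this

theorem sub_pow_prime_pow {R : Type*} [CommRing R] (p : ℕ) (hp : p.Prime) (h0 : (p : R) = 0)
    (x y : R) (n : ℕ) : (x - y) ^ p ^ n = x ^ p ^ n - y ^ p ^ n := by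
  obtain ⟨r, hr⟩ := exists_add_pow_prime_pow_eq hp (x - y) y n
  rw [sub_add_cancel, h0] at hr
  rw [hr]
  ring

variable (p : ℕ) [Fact p.Prime]

theorem exists_pow_eq_app {XP X : Scheme.{u}} (π : XP ⟶ X) [IsCharP XP p] [IsCharP X p]
    (hπ : IsPerfection π p) [QuasiSeparatedSpace X] (S : X.Opens) (hS : IsCompact (S : Set X)) :
    ∀ t : Γ(XP, π ⁻¹ᵁ S), ∃ (n : ℕ) (a : Γ(X, S)), π.app S a = t ^ p ^ n := by
  have hp : p.Prime := Fact.out
  obtain ⟨-, -, hsurj⟩ := props_of_isPerfection p π hπ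
  refine compact_open_induction_on (P := fun S => ∀ t : Γ(XP, π ⁻¹ᵁ S),
    ∃ (n : ℕ) (a : Γ(X, S)), π.app S a = t ^ p ^ n) S hS ?_ ?_
  · intro t
    haveI : Subsingleton Γ(XP, π ⁻¹ᵁ (⊥ : X.Opens)) := by
      have : π ⁻¹ᵁ (⊥ : X.Opens) = ⊥ := rfl
      rw [this]
      infer_instance
    exact ⟨0, 0, Subsingleton.elim _ _⟩
  · intro S hS U IH t
    -- restrictions of t
    set t₁ : Γ(XP, π ⁻¹ᵁ S) :=
      XP.presheaf.map (homOfLE (preimage_mono π (le_sup_left : S ≤ S ⊔ U.1))).op t with ht₁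
    set t₂ : Γ(XP, π ⁻¹ᵁ U.1) :=
      XP.presheaf.map (homOfLE (preimage_mono π (le_sup_right : U.1 ≤ S ⊔ U.1))).op t with ht₂
    obtain ⟨n₁, a₁, h₁⟩ := IH t₁
    obtain ⟨n₂, a₂, h₂⟩ := exists_pow_eq_app_of_isPerfection p π hπ U.1 U.2 t₂
    -- equalize exponents
    have e₁ : π.app S (a₁ ^ p ^ n₂) = t₁ ^ p ^ (n₁ + n₂) := by
      rw [map_pow, h₁, ← pow_mul, ← pow_add]
    have e₂ : π.app U.1 (a₂ ^ p ^ n₁) = t₂ ^ p ^ (n₁ + n₂) := by
      rw [map_pow, h₂, ← pow_mul, ← pow_add, add_comm]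
    generalize a₁ ^ p ^ n₂ = b₁ at e₁
    generalize a₂ ^ p ^ n₁ = b₂ at e₂
    generalize n₁ + n₂ = N at e₁ e₂
    -- difference on the intersection
    set d : Γ(X, S ⊓ U.1) := X.presheaf.map (homOfLE (inf_le_left : S ⊓ U.1 ≤ S)).op b₁ -
      X.presheaf.map (homOfLE (inf_le_right : S ⊓ U.1 ≤ U.1)).op b₂ with hd
    have hd0 : π.app (S ⊓ U.1) d = 0 := by
      rw [hd, map_sub, app_res, app_res, e₁, e₂, map_pow, map_pow, ht₁, ht₂, sub_eq_zero]
      congr 1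
      rw [← ConcreteCategory.comp_apply, ← ConcreteCategory.comp_apply, ← Functor.map_comp,
        ← Functor.map_comp]
      rfl
    have hcpt : IsCompact ((S ⊓ U.1 : X.Opens) : Set X) :=
      QuasiSeparatedSpace.inter_isCompact S.1 U.1.1 S.2 hS U.1.2 U.2.isCompact
    obtain ⟨k, hk⟩ := isNilpotent_of_app_eq_zero π (S ⊓ U.1) hcpt d hd0
    obtain ⟨m, hm⟩ : ∃ m, k ≤ p ^ m := ⟨k, (Nat.lt_pow_self hp.one_lt).le⟩
    have hdm : d ^ p ^ m = 0 := pow_eq_zero_of_le hm hk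
    have hglue : X.presheaf.map (homOfLE (inf_le_left : S ⊓ U.1 ≤ S)).op (b₁ ^ p ^ m) =
        X.presheaf.map (homOfLE (inf_le_right : S ⊓ U.1 ≤ U.1)).op (b₂ ^ p ^ m) := by
      rw [map_pow, map_pow, ← sub_eq_zero,
        ← sub_pow_prime_pow p hp (natCast_eq_zero_app X p _)]
      exact hdm
    obtain ⟨c, hc₁, hc₂⟩ := exists_glue₂ X S U.1 _ _ hglue
    refine ⟨N + m, c, ?_⟩
    apply TopCat.Sheaf.eq_of_locally_eq₂ XP.sheaf
      (homOfLE (preimage_mono π (le_sup_left : S ≤ S ⊔ U.1)))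
      (homOfLE (preimage_mono π (le_sup_right : U.1 ≤ S ⊔ U.1))) (le_of_eq rfl)
    · show XP.presheaf.map _ _ = XP.presheaf.map _ _
      rw [← app_res π le_sup_left, hc₁, map_pow, map_pow, e₁, ← ht₁, ← pow_mul, ← pow_add]
    · show XP.presheaf.map _ _ = XP.presheaf.map _ _
      rw [← app_res π le_sup_right, hc₂, map_pow, map_pow, e₂, ← ht₂, ← pow_mul, ← pow_add]

/-- **Chevalley for perfections**: a scheme whose perfection is affine is affine. -/
theorem isAffine_of_isPerfection {XP X : Scheme.{u}} (π : XP ⟶ X) [IsCharP XP p] [IsCharP X p]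
    (hπ : IsPerfection π p) [IsAffine XP] : IsAffine X := by
  have hp : p.Prime := Fact.out
  obtain ⟨hint, hinj, hsurj⟩ := props_of_isPerfection p π hπ
  have hUHπ := isUnivHomeo_of_isPerfection p π hπ
  have hhomeo := isHomeomorph_of_isPerfection p π hπ
  haveI : CompactSpace X := by
    constructor
    rw [← hhomeo.surjective.range_eq, ← Set.image_univ]
    exact isCompact_univ.image hhomeo.continuous
  haveI : QuasiSeparatedSpace X :=
    (hhomeo.homeomorph).symm.isOpenEmbedding.quasiSeparatedSpace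
  by_cases hne : Nonempty X; swap
  · haveI : IsEmpty X := not_nonempty_iff.mp hne
    exact isAffine_of_isEmpty
  haveI : Nonempty (⊤ : X.Opens) := ⟨⟨hne.some, trivial⟩⟩
  haveI : Nontrivial Γ(X, ⊤) := inferInstance
  haveI : CharP Γ(X, ⊤) p :=
    (CharP.charP_iff_prime_eq_zero hp).mpr (natCast_eq_zero_app X p ⊤)
  haveI : IsPRadical (π.appTop).hom p :=
    { pow_mem' := fun t => by
        obtain ⟨n, a, h⟩ := exists_pow_eq_app p π hπ ⊤ isCompact_univ t
        exact ⟨n, a, h⟩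
      ker_le' := by
        intro a ha
        rw [pNilradical_prime hp, mem_nilradical]
        exact isNilpotent_of_app_eq_zero π ⊤ isCompact_univ a ha }
  have hUH : UH (π.appTop).hom := UH_of_isPRadical p _
  have h1 : FlatMor.IsUnivHomeo (Spec.map π.appTop) := (isUnivHomeo_iff_UH _).mpr hUH
  have hnat : XP.toSpecΓ ≫ Spec.map π.appTop = π ≫ X.toSpecΓ := (Scheme.toSpecΓ_naturality π).symm
  have h2 : FlatMor.IsUnivHomeo (π ≫ X.toSpecΓ) := by
    rw [← hnat]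
    exact isUnivHomeo_comp _ _ (isUnivHomeo_of_isIso _) h1
  obtain ⟨c1, c2, c3⟩ := (isUnivHomeo_iff _).mp h2
  have h3 : FlatMor.IsUnivHomeo X.toSpecΓ :=
    (isUnivHomeo_iff _).mpr ⟨UniversallyClosed.of_comp_surjective π _,
      universallyInjective_of_comp_surjective π _, Surjective.of_comp π _⟩
  haveI := isAffineHom_of_isUnivHomeo _ h3
  exact isAffine_of_isAffineHom X.toSpecΓ

/-- a morphism is affine iff its perfection is affine -/
theorem main_S14915 {X Y XP YP : Scheme.{u}}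
    [IsCharP X p] [IsCharP Y p] [IsCharP XP p] [IsCharP YP p]
    (πX : XP ⟶ X) (πY : YP ⟶ Y) (hX : IsPerfection πX p) (hY : IsPerfection πY p)
    (f : X ⟶ Y) (fP : XP ⟶ YP) (w : fP ≫ πY = πX ≫ f) :
    IsAffineHom f ↔ IsAffineHom fP := by
  obtain ⟨hX1, hX2, hX3⟩ := props_of_isPerfection p πX hX
  obtain ⟨hY1, hY2, hY3⟩ := props_of_isPerfection p πY hY
  constructor
  · intro hf
    haveI : IsAffineHom (fP ≫ πY) := by rw [w]; infer_instance
    exact IsAffineHom.of_comp fP πY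
  · intro hfP
    constructor
    intro U hU
    have h1 : IsAffineOpen (πX ⁻¹ᵁ (f ⁻¹ᵁ U)) := by
      have : πX ⁻¹ᵁ (f ⁻¹ᵁ U) = fP ⁻¹ᵁ (πY ⁻¹ᵁ U) := by
        rw [← Scheme.Hom.comp_preimage, ← Scheme.Hom.comp_preimage, w]
      rw [this]
      exact (hU.preimage πY).preimage fP
    haveI : IsCharP (πX ⁻¹ᵁ (f ⁻¹ᵁ U)).toScheme p := IsCharP.of_hom ((πX ⁻¹ᵁ (f ⁻¹ᵁ U)).ι) p
    haveI : IsCharP (f ⁻¹ᵁ U).toScheme p := IsCharP.of_hom ((f ⁻¹ᵁ U).ι) p
    have h2 := isPerfection_restrict p πX hX (f ⁻¹ᵁ U)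
    haveI : IsAffine (πX ⁻¹ᵁ (f ⁻¹ᵁ U)).toScheme := h1
    exact isAffine_of_isPerfection p (πX ∣_ (f ⁻¹ᵁ U)) h2

end Groth.Agent.Lib.Helper20.PerfAff
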