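import Groth.Agent.Lib.Helper20PRadical
import Groth.Agent.S0415

/-!
# Perfect schemes and universal homeomorphisms (helper20)
-/

universe u

namespace Groth.Agent.Lib.Helper20.PerfSch

open AlgebraicGeometry CategoryTheory
open Groth.Agent.Lib.Helper20.AWN

/-- Iterated `p`-th power maps are bijective when the `p`-th power map is. -/
theorem pow_pow_bijective {A : Type*} [Monoid A] (p : ℕ)
    (h : Function.Bijective fun s : A => s ^ p) (n : ℕ) :
    Function.Bijective fun s : A => s ^ p ^ n := by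
  have := h.iterate n
  rwa [pow_iterate] at this

/-- A `p`-radical ring map between perfect rings is bijective. -/
theorem bijective_of_isPRadical {A B : Type*} [CommRing A] [CommRing B] (p : ℕ) (φ : A →+* B)
    [IsPRadical φ p] (hA : Function.Bijective fun s : A => s ^ p)
    (hB : Function.Bijective fun s : B => s ^ p) : Function.Bijective φ := by
  constructor
  · rw [injective_iff_map_eq_zero]
    intro a ha
    have h1 : a ∈ pNilradical A p := IsPRadical.ker_le φ p (RingHom.mem_ker.mpr ha)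
    rw [mem_pNilradical] at h1
    obtain ⟨n, hn⟩ := h1
    by_cases hp : p = 0
    · subst hp
      exact hA.1 (show (fun s : A => s ^ 0) a = (fun s : A => s ^ 0) 0 by simp)
    · apply (pow_pow_bijective p hA n).1
      show a ^ p ^ n = 0 ^ p ^ n
      rw [hn, zero_pow (pow_ne_zero _ hp)]
  · intro b
    obtain ⟨n, a, ha⟩ := IsPRadical.pow_mem φ p b
    obtain ⟨a', ha'⟩ := (pow_pow_bijective p hA n).2 a
    refine ⟨a', (pow_pow_bijective p hB n).1 ?_⟩
    show φ a' ^ p ^ n = b ^ p ^ n
    rw [← map_pow, ← ha]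
    exact congrArg φ ha'

/-- Universal homeomorphisms restrict to affine opens: the ring map on sections is `UH`. -/
theorem isUnivHomeo_SpecMap_app {X Y : Scheme.{u}} (f : X ⟶ Y) [IsAffineHom f]
    (hf : FlatMor.IsUnivHomeo f) (U : Y.Opens) (hU : IsAffineOpen U) :
    FlatMor.IsUnivHomeo (Spec.map (f.app U)) := by
  have hV : IsAffineOpen (f ⁻¹ᵁ U) := hU.preimage f
  have h1 : FlatMor.IsUnivHomeo (f ∣_ U) := by
    unfold FlatMor.IsUnivHomeo at hf ⊢
    exact MorphismProperty.of_isPullback (isPullback_morphismRestrict f U).flip hf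
  have e : Arrow.mk (f ∣_ U) ≅ Arrow.mk (Spec.map (f.app U)) :=
    Arrow.isoMk hV.isoSpec hU.isoSpec (by
      simp only [Arrow.mk_left, Arrow.mk_right, Arrow.mk_hom, IsAffineOpen.isoSpec_hom]
      exact Scheme.Opens.toSpecΓ_naturality f U)
  unfold FlatMor.IsUnivHomeo at h1 ⊢
  exact (MorphismProperty.arrow_mk_iso_iff _ e).mp h1

/-- A universal homeomorphism between perfect schemes is an isomorphism. -/
theorem isIso_of_isUnivHomeo_of_isPerfect (p : ℕ) [Fact p.Prime] {X Y : Scheme.{u}} (f : X ⟶ Y)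
    (hX : ∀ U : X.Opens, (p : Γ(X, U)) = 0 ∧ Function.Bijective fun s : Γ(X, U) => s ^ p)
    (hY : ∀ U : Y.Opens, (p : Γ(Y, U)) = 0 ∧ Function.Bijective fun s : Γ(Y, U) => s ^ p)
    (hf : FlatMor.IsUnivHomeo f) : IsIso f := by
  obtain ⟨hint, hinj, hsurj⟩ := (Groth.Agent.S0415.result f).mp hf
  haveI : IsAffineHom f := inferInstance
  rw [← MorphismProperty.isomorphisms.iff]
  apply IsZariskiLocalAtTarget.of_forall_exists_morphismRestrict
  intro y
  obtain ⟨_, ⟨U, hU, rfl⟩, hyU, -⟩ :=
    Y.isBasis_affineOpens.exists_subset_of_mem_open (Set.mem_univ y) isOpen_univ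
  refine ⟨U, hyU, ?_⟩
  rw [MorphismProperty.isomorphisms.iff, isIso_morphismRestrict_iff_isIso_app f hU]
  have hUH : UH (f.app U).hom := by
    have := isUnivHomeo_SpecMap_app f hf U hU
    rwa [← isUnivHomeo_iff_UH]
  -- the ring of sections over a nonempty affine open is nontrivial
  haveI : Nontrivial Γ(Y, U) :=
    PrimeSpectrum.nonempty_iff_nontrivial.mp ⟨hU.primeIdealOf ⟨y, hyU⟩⟩
  haveI : CharP Γ(Y, U) p := (CharP.charP_iff_prime_eq_zero Fact.out).mpr (hY U).1
  haveI := isPRadical_of_UH p (f.app U).hom hUH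
  have hb := bijective_of_isPRadical p (f.app U).hom (hY U).2 (hX (f ⁻¹ᵁ U)).2
  exact (ConcreteCategory.isIso_iff_bijective (f.app U)).mpr hb

end Groth.Agent.Lib.Helper20.PerfSch
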