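import Groth.Agent.Lib.Helper20PerfSch
import Groth.Prelude.Def_Frob
import Groth.Agent.Lib.Helper20Frob

/-!
# Perfections of schemes are universal homeomorphisms (helper20)
-/

universe u

namespace Groth.Agent.Lib.Helper20.Perfection

open AlgebraicGeometry CategoryTheory FrobSch Opposite
open Groth.Agent.Lib.Helper20.AWN

section ToSpec

variable {Y : Scheme.{u}} {R R' : CommRingCat.{u}}

/-- the morphism to `Spec R` attached to a ring map `R ⟶ Γ(Y, ⊤)` -/
noncomputable def toSpec (φ : R ⟶ Γ(Y, ⊤)) : Y ⟶ Spec R := Y.toSpecΓ ≫ Spec.map φ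

theorem toSpec_appTop (φ : R ⟶ Γ(Y, ⊤)) :
    (toSpec φ).appTop = (Scheme.ΓSpecIso R).hom ≫ φ := by
  rw [toSpec, Scheme.Hom.comp_appTop, Scheme.toSpecΓ_appTop, Scheme.ΓSpecIso_naturality]

theorem eq_toSpec (g : Y ⟶ Spec R) : g = toSpec ((Scheme.ΓSpecIso R).inv ≫ g.appTop) := by
  apply ext_of_isAffine
  rw [toSpec_appTop, Iso.hom_inv_id_assoc]

theorem toSpec_comp (φ : R ⟶ Γ(Y, ⊤)) (ψ : R' ⟶ R) :
    toSpec φ ≫ Spec.map ψ = toSpec (ψ ≫ φ) := by
  rw [toSpec, toSpec, Category.assoc, ← Spec.map_comp]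

theorem toSpec_injective {φ φ' : R ⟶ Γ(Y, ⊤)} (h : toSpec φ = toSpec φ') : φ = φ' := by
  have := congrArg Scheme.Hom.appTop h
  rw [toSpec_appTop, toSpec_appTop] at this
  exact (cancel_epi _).mp this

end ToSpec

section Perfect

variable (p : ℕ) [Fact p.Prime]

/-- On the global sections of a perfect scheme the `p`-th power map is bijective. -/
theorem bijective_pow_of_isPerfect (Y : Scheme.{u}) [IsCharP Y p] (h : IsPerfect Y p) :
    Function.Bijective (fun s : Γ(Y, ⊤) => s ^ p) := by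
  haveI : IsIso (frob Y p) := h
  have h2 : IsIso ((frob Y p).app ⊤) := inferInstance
  exact ConcreteCategory.bijective_of_isIso ((frob Y p).app ⊤)

theorem frob_Spec (R : CommRingCat.{u}) (h : (p : R) = 0) [IsCharP (Spec R) p] :
    frob (Spec R) p = Spec.map (CommRingCat.ofHom (powHom p R h)) := by
  apply ext_of_isAffine
  rw [← cancel_mono (Scheme.ΓSpecIso R).hom, Scheme.ΓSpecIso_naturality]
  ext s
  simp only [CommRingCat.hom_comp, RingHom.comp_apply, CommRingCat.hom_ofHom, powHom_apply]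
  rw [← map_pow]
  rfl

theorem isPerfect_Spec (R : CommRingCat.{u}) (h : (p : R) = 0) [IsCharP (Spec R) p]
    (hb : Function.Bijective (fun s : R => s ^ p)) : IsPerfect (Spec R) p := by
  show IsIso (frob (Spec R) p)
  rw [frob_Spec p R h]
  have : IsIso (CommRingCat.ofHom (powHom p R h)) :=
    (ConcreteCategory.isIso_iff_bijective _).mpr hb
  infer_instance

/-- all maps from a scheme with trivial global sections to an affine scheme are equal -/
theorem hom_Spec_eq_of_subsingleton {Y : Scheme.{u}} [Subsingleton Γ(Y, ⊤)] {R : CommRingCat.{u}}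
    (g g' : Y ⟶ Spec R) : g = g' := by
  rw [eq_toSpec g, eq_toSpec g']
  congr 1
  ext x
  exact Subsingleton.elim _ _

/-- `Spec` of the perfect closure is a perfection of `Spec A`. -/
theorem isPerfection_Spec_perfectClosure (A : Type u) [CommRing A] [CharP A p] :
    IsPerfection (Spec.map (CommRingCat.ofHom (PerfectClosure.of A p))) p := by
  refine ⟨isPerfect_Spec p (CommRingCat.of (PerfectClosure A p))
    (CharP.cast_eq_zero (PerfectClosure A p) p) (bijective_frobenius (PerfectClosure A p) p), ?_⟩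
  intro Y _ hY
  rcases subsingleton_or_nontrivial Γ(Y, ⊤) with hG | hG
  · refine ⟨fun g g' _ => hom_Spec_eq_of_subsingleton g g', fun g => ?_⟩
    let z : PerfectClosure A p →+* Γ(Y, ⊤) :=
      ⟨⟨⟨fun _ => 0, Subsingleton.elim _ _⟩, fun _ _ => Subsingleton.elim _ _⟩,
        Subsingleton.elim _ _, fun _ _ => Subsingleton.elim _ _⟩
    exact ⟨toSpec (CommRingCat.ofHom z), hom_Spec_eq_of_subsingleton _ _⟩
  · haveI : CharP Γ(Y, ⊤) p :=
      (CharP.charP_iff_prime_eq_zero Fact.out).mpr (IsCharP.natCast_eq_zero (X := Y) (p := p))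
    haveI : PerfectRing Γ(Y, ⊤) p := ⟨bijective_pow_of_isPerfect p Y hY⟩
    let e := PerfectClosure.lift A p Γ(Y, ⊤)
    constructor
    · intro g₁ g₂ h12
      simp only at h12
      rw [eq_toSpec g₁, eq_toSpec g₂] at h12 ⊢
      rw [toSpec_comp, toSpec_comp] at h12
      have h3 := toSpec_injective h12
      congr 1
      have h4 : e.symm ((Scheme.ΓSpecIso _).inv ≫ g₁.appTop).hom =
          e.symm ((Scheme.ΓSpecIso _).inv ≫ g₂.appTop).hom :=
        congrArg (fun f => f.hom) h3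
      exact CommRingCat.hom_ext (e.symm.injective h4)
    · intro g
      refine ⟨toSpec (CommRingCat.ofHom (e ((Scheme.ΓSpecIso _).inv ≫ g.appTop).hom)), ?_⟩
      simp only
      rw [toSpec_comp]
      conv_rhs => rw [eq_toSpec g]
      congr 1

end Perfect

section Restrict

variable (p : ℕ) [Fact p.Prime]

/-- open subschemes of perfect schemes are perfect -/
theorem isPerfect_opens (X : Scheme.{u}) [IsCharP X p] (h : IsPerfect X p) (U : X.Opens)
    [IsCharP U.toScheme p] : IsPerfect U.toScheme p := by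
  haveI : IsIso (frob X p) := h
  have hr : Set.range (U.ι ≫ frob X p) = Set.range U.ι := by
    ext x
    constructor
    · rintro ⟨y, rfl⟩
      exact ⟨y, rfl⟩
    · rintro ⟨y, rfl⟩
      exact ⟨y, rfl⟩
  have e : frob U.toScheme p = (IsOpenImmersion.isoOfRangeEq (U.ι ≫ frob X p) U.ι hr).hom := by
    rw [← cancel_mono U.ι, IsOpenImmersion.isoOfRangeEq_hom_fac]
    exact frob_comp p U.ι
  show IsIso (frob U.toScheme p)
  rw [e]
  infer_instance

theorem isPerfection_restrict {XP X : Scheme.{u}} (π : XP ⟶ X) [IsCharP XP p]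
    (hπ : IsPerfection π p) (U : X.Opens) [IsCharP (π ⁻¹ᵁ U).toScheme p] :
    IsPerfection (π ∣_ U) p := by
  refine ⟨isPerfect_opens p XP hπ.1 (π ⁻¹ᵁ U), fun Y _ hY => ⟨fun g₁ g₂ h12 => ?_, fun g => ?_⟩⟩
  · simp only at h12
    rw [← cancel_mono (π ⁻¹ᵁ U).ι]
    apply (hπ.2 Y hY).1
    simp only
    rw [Category.assoc, Category.assoc, ← morphismRestrict_ι, ← Category.assoc, ← Category.assoc,
      h12]
  · obtain ⟨h, hh⟩ := (hπ.2 Y hY).2 (g ≫ U.ι)
    simp only at hh
    have hr : Set.range h ⊆ Set.range (π ⁻¹ᵁ U).ι := by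
      rintro _ ⟨y, rfl⟩
      rw [Scheme.Opens.range_ι]
      show π (h y) ∈ U
      have : π (h y) = (g ≫ U.ι) y := by rw [← hh]; rfl
      rw [this]
      exact (g y).2
    refine ⟨IsOpenImmersion.lift (π ⁻¹ᵁ U).ι h hr, ?_⟩
    simp only
    rw [← cancel_mono U.ι, Category.assoc, morphismRestrict_ι, ← Category.assoc,
      IsOpenImmersion.lift_fac, hh]

theorem isPerfection_comp_iso {XP X X' : Scheme.{u}} (π : XP ⟶ X) [IsCharP XP p]
    (hπ : IsPerfection π p) (e : X ≅ X') : IsPerfection (π ≫ e.hom) p := by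
  refine ⟨hπ.1, fun Y _ hY => ⟨fun g₁ g₂ h12 => ?_, fun g => ?_⟩⟩
  · simp only at h12
    apply (hπ.2 Y hY).1
    simp only
    rw [← cancel_mono e.hom, Category.assoc, Category.assoc, h12]
  · obtain ⟨h, hh⟩ := (hπ.2 Y hY).2 (g ≫ e.inv)
    simp only at hh
    exact ⟨h, by simp only; rw [← Category.assoc, hh, Category.assoc, Iso.inv_hom_id, Category.comp_id]⟩

theorem isPerfection_unique {P₁ P₂ X : Scheme.{u}} (π₁ : P₁ ⟶ X) (π₂ : P₂ ⟶ X) [IsCharP P₁ p]
    [IsCharP P₂ p] (h₁ : IsPerfection π₁ p) (h₂ : IsPerfection π₂ p) :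
    ∃ e : P₁ ≅ P₂, e.hom ≫ π₂ = π₁ := by
  obtain ⟨a, ha⟩ := (h₂.2 P₁ h₁.1).2 π₁
  obtain ⟨b, hb⟩ := (h₁.2 P₂ h₂.1).2 π₂
  simp only at ha hb
  refine ⟨⟨a, b, ?_, ?_⟩, ha⟩
  · apply (h₁.2 P₁ h₁.1).1
    simp only
    rw [Category.assoc, hb, ha, Category.id_comp]
  · apply (h₂.2 P₂ h₂.1).1
    simp only
    rw [Category.assoc, ha, hb, Category.id_comp]

end Restrict

section Key

variable (p : ℕ) [Fact p.Prime]

/-- universal homeomorphisms are local on the target -/
theorem isUnivHomeo_of_forall_exists_restrict {X Y : Scheme.{u}} (f : X ⟶ Y)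
    (H : ∀ y : Y, ∃ U : Y.Opens, y ∈ U ∧ FlatMor.IsUnivHomeo (f ∣_ U)) :
    FlatMor.IsUnivHomeo f := by
  rw [Groth.Agent.S0415.result]
  refine ⟨?_, ?_, ?_⟩
  · apply IsZariskiLocalAtTarget.of_forall_exists_morphismRestrict (P := @IsIntegralHom)
    intro y
    obtain ⟨U, hy, hU⟩ := H y
    exact ⟨U, hy, ((Groth.Agent.S0415.result _).mp hU).1⟩
  · apply IsZariskiLocalAtTarget.of_forall_exists_morphismRestrict (P := @UniversallyInjective)
    intro y
    obtain ⟨U, hy, hU⟩ := H y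
    exact ⟨U, hy, ((Groth.Agent.S0415.result _).mp hU).2.1⟩
  · apply IsZariskiLocalAtTarget.of_forall_exists_morphismRestrict (P := @Surjective)
    intro y
    obtain ⟨U, hy, hU⟩ := H y
    exact ⟨U, hy, ((Groth.Agent.S0415.result _).mp hU).2.2⟩

/-- **Key**: a perfection is a universal homeomorphism. -/
theorem isUnivHomeo_of_isPerfection {XP X : Scheme.{u}} (π : XP ⟶ X) [IsCharP XP p] [IsCharP X p]
    (hπ : IsPerfection π p) : FlatMor.IsUnivHomeo π := by
  apply isUnivHomeo_of_forall_exists_restrict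
  intro x
  obtain ⟨_, ⟨U, hU, rfl⟩, hxU, -⟩ :=
    X.isBasis_affineOpens.exists_subset_of_mem_open (Set.mem_univ x) isOpen_univ
  refine ⟨U, hxU, ?_⟩
  haveI : IsCharP (π ⁻¹ᵁ U).toScheme p := IsCharP.of_hom ((π ⁻¹ᵁ U).ι) p
  have h1 := isPerfection_restrict p π hπ U
  have h2 := isPerfection_comp_iso p (π ∣_ U) h1 hU.isoSpec
  haveI : Nontrivial Γ(X, U) :=
    PrimeSpectrum.nonempty_iff_nontrivial.mp ⟨hU.primeIdealOf ⟨x, hxU⟩⟩
  haveI : CharP Γ(X, U) p :=
    (CharP.charP_iff_prime_eq_zero Fact.out).mpr (natCast_eq_zero_app X p U)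
  have h3 := isPerfection_Spec_perfectClosure p Γ(X, U)
  obtain ⟨e, he⟩ := isPerfection_unique p _ _ h2 h3
  have h4 : FlatMor.IsUnivHomeo (Spec.map (CommRingCat.ofHom (PerfectClosure.of Γ(X, U) p))) :=
    (isUnivHomeo_iff_UH _).mpr (UH_of_isPRadical p _)
  unfold FlatMor.IsUnivHomeo at h4 ⊢
  have h5 := (MorphismProperty.cancel_left_of_respectsIso
    (MorphismProperty.universally (topologically (fun f => IsHomeomorph f))) e.hom _).mpr h4
  rw [he] at h5
  exact (MorphismProperty.cancel_right_of_respectsIso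
    (MorphismProperty.universally (topologically (fun f => IsHomeomorph f))) (π ∣_ U)
      hU.isoSpec.hom).mp h5

theorem props_of_isPerfection {XP X : Scheme.{u}} (π : XP ⟶ X) [IsCharP XP p] [IsCharP X p]
    (hπ : IsPerfection π p) : IsIntegralHom π ∧ UniversallyInjective π ∧ Surjective π :=
  (Groth.Agent.S0415.result π).mp (isUnivHomeo_of_isPerfection p π hπ)

theorem isHomeomorph_of_isPerfection {XP X : Scheme.{u}} (π : XP ⟶ X) [IsCharP XP p] [IsCharP X p]
    (hπ : IsPerfection π p) : IsHomeomorph π :=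
  (isUnivHomeo_of_isPerfection p π hπ) (𝟙 XP) (𝟙 X) π (IsPullback.id_vert π)

end Key

section General

theorem universallyInjective_of_comp_surjective {X Y Z : Scheme.{u}} (f : X ⟶ Y) (g : Y ⟶ Z)
    [UniversallyInjective (f ≫ g)] [Surjective f] : UniversallyInjective g := by
  constructor
  intro X' Y' i₁ i₂ f' H
  have := UniversallyInjective.universally_injective _ _ _
    ((IsPullback.of_hasPullback i₁ f).paste_horiz H)
  have hs : Function.Surjective (Limits.pullback.fst i₁ f) :=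
    (MorphismProperty.pullback_fst (P := @Surjective) _ _ ‹_›).1
  exact Function.Injective.of_comp_right this hs

theorem quasiCompact_of_comp_surjective {X Y Z : Scheme.{u}} (f : X ⟶ Y) (g : Y ⟶ Z)
    [QuasiCompact (f ≫ g)] [Surjective f] : QuasiCompact g := by
  constructor
  intro U hU hU'
  have h1 : IsCompact ((f ≫ g) ⁻¹' U) := QuasiCompact.isCompact_preimage U hU hU'
  have h2 : g ⁻¹' U = f '' ((f ≫ g) ⁻¹' U) := by
    ext y
    constructor
    · intro hy
      obtain ⟨x, rfl⟩ := f.surjective y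
      exact ⟨x, hy, rfl⟩
    · rintro ⟨x, hx, rfl⟩
      exact hx
  rw [h2]
  exact h1.image f.continuous

theorem quasiSeparated_of_comp_homeo {X' X Y : Scheme.{u}} (h : X' ⟶ X) (f : X ⟶ Y)
    (hh : IsHomeomorph h) [QuasiSeparated (h ≫ f)] : QuasiSeparated f := by
  have e := HasAffineProperty.eq_targetAffineLocally (P := @QuasiSeparated)
  have h1 : targetAffineLocally (fun X _ _ _ => QuasiSeparatedSpace X) (h ≫ f) :=
    e ▸ ‹QuasiSeparated (h ≫ f)›
  rw [e]
  intro U
  have h2 : QuasiSeparatedSpace ↑((h ≫ f) ⁻¹ᵁ U.1) := h1 U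
  have h3 : IsQuasiSeparated (((h ≫ f) ⁻¹ᵁ U.1 : X'.Opens) : Set X') :=
    (isQuasiSeparated_iff_quasiSeparatedSpace _ ((h ≫ f) ⁻¹ᵁ U.1).2).mpr h2
  have h4 := h3.image_of_isEmbedding hh.isEmbedding
  have h5 : h '' (((h ≫ f) ⁻¹ᵁ U.1 : X'.Opens) : Set X') = ((f ⁻¹ᵁ U.1 : X.Opens) : Set X) := by
    ext y
    constructor
    · rintro ⟨x, hx, rfl⟩
      exact hx
    · intro hy
      obtain ⟨x, rfl⟩ := hh.surjective y
      exact ⟨x, hy, rfl⟩
  rw [h5] at h4
  exact (isQuasiSeparated_iff_quasiSeparatedSpace _ (f ⁻¹ᵁ U.1).2).mp h4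

open Limits in
theorem isSeparated_of_comp_surjective {X' X Y : Scheme.{u}} (h : X' ⟶ X) (f : X ⟶ Y)
    [Surjective h] [UniversallyClosed h] [IsSeparated (h ≫ f)] : IsSeparated f := by
  have hm : UniversallyClosed (pullback.map (h ≫ f) (h ≫ f) f f h h (𝟙 _)
      ((Category.comp_id _).trans rfl) ((Category.comp_id _).trans rfl)) :=
    MorphismProperty.pullbackMap (P := @UniversallyClosed) ‹_› ‹_› rfl rfl
  set m := pullback.map (h ≫ f) (h ≫ f) f f h h (𝟙 _)
      ((Category.comp_id _).trans rfl) ((Category.comp_id _).trans rfl) with hmdef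
  have hcomm : pullback.diagonal (h ≫ f) ≫ m = h ≫ pullback.diagonal f := by
    apply pullback.hom_ext
    · simp only [m, Category.assoc, pullback.lift_fst, pullback.diagonal_fst, pullback.map]
      rw [← Category.assoc, pullback.diagonal_fst, Category.id_comp, Category.comp_id]
    · simp only [m, Category.assoc, pullback.lift_snd, pullback.diagonal_snd, pullback.map]
      rw [← Category.assoc, pullback.diagonal_snd, Category.id_comp, Category.comp_id]
  have hr : Set.range (pullback.diagonal f) = m '' Set.range (pullback.diagonal (h ≫ f)) := by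
    ext y
    constructor
    · rintro ⟨x, rfl⟩
      obtain ⟨x', rfl⟩ := h.surjective x
      refine ⟨pullback.diagonal (h ≫ f) x', ⟨x', rfl⟩, ?_⟩
      rw [← Scheme.Hom.comp_apply, hcomm, Scheme.Hom.comp_apply]
    · rintro ⟨_, ⟨x', rfl⟩, rfl⟩
      refine ⟨h x', ?_⟩
      rw [← Scheme.Hom.comp_apply, ← hcomm, Scheme.Hom.comp_apply]
  constructor
  apply IsClosedImmersion.of_isPreimmersion
  rw [hr]
  exact m.isClosedMap _ (pullback.diagonal (h ≫ f)).isClosedEmbedding.isClosed_range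

end General

section Local

variable (p : ℕ) [Fact p.Prime]

theorem bijective_pow_app_of_isPerfect (Y : Scheme.{u}) [IsCharP Y p] (h : IsPerfect Y p)
    (U : Y.Opens) : Function.Bijective (fun s : Γ(Y, U) => s ^ p) := by
  haveI : IsIso (frob Y p) := h
  have h2 : IsIso ((frob Y p).app U) := inferInstance
  exact ConcreteCategory.bijective_of_isIso ((frob Y p).app U)

theorem exists_pow_eq_of_UH {A B : Type u} [CommRing A] [CommRing B] (φ : A →+* B) (h : UH φ)
    (hp0 : (p : B) = 0) (b : B) : ∃ (n : ℕ) (a : A), φ a = b ^ p ^ n := by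
  letI := φ.toAlgebra
  obtain ⟨N, a, c, e⟩ := UH.exists_pow_eq_add p Fact.out (show UH (algebraMap A B) from h) b
  refine ⟨N, a, ?_⟩
  rw [e, hp0, zero_mul, add_zero]
  rfl

/-- sections of a perfection over (the preimage of) an affine open are `p`-radical over the
sections of the base. -/
theorem exists_pow_eq_app_of_isPerfection {XP X : Scheme.{u}} (π : XP ⟶ X) [IsCharP XP p]
    [IsCharP X p] (hπ : IsPerfection π p) (U : X.Opens) (hU : IsAffineOpen U)
    (t : Γ(XP, π ⁻¹ᵁ U)) : ∃ (n : ℕ) (a : Γ(X, U)), π.app U a = t ^ p ^ n := by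
  obtain ⟨h1, h2, h3⟩ := props_of_isPerfection p π hπ
  haveI : IsAffineHom π := inferInstance
  have hUH : UH (π.app U).hom := by
    have := Groth.Agent.Lib.Helper20.PerfSch.isUnivHomeo_SpecMap_app π
      (isUnivHomeo_of_isPerfection p π hπ) U hU
    rwa [← isUnivHomeo_iff_UH]
  exact exists_pow_eq_of_UH p (π.app U).hom hUH (natCast_eq_zero_app XP p _) t

/-- affine morphisms which are surjective on sections over an affine cover are closed
immersions -/
theorem isClosedImmersion_of_forall_exists {X Y : Scheme.{u}} (f : X ⟶ Y) [IsAffineHom f]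
    (H : ∀ y : Y, ∃ U : Y.Opens, y ∈ U ∧ IsAffineOpen U ∧ Function.Surjective (f.app U)) :
    IsClosedImmersion f := by
  apply IsZariskiLocalAtTarget.of_forall_exists_morphismRestrict (P := @IsClosedImmersion)
  intro y
  obtain ⟨U, hy, hU, hs⟩ := H y
  refine ⟨U, hy, ?_⟩
  have hV : IsAffineOpen (f ⁻¹ᵁ U) := hU.preimage f
  have e : Arrow.mk (f ∣_ U) ≅ Arrow.mk (Spec.map (f.app U)) :=
    Arrow.isoMk hV.isoSpec hU.isoSpec (by
      simp only [Arrow.mk_left, Arrow.mk_right, Arrow.mk_hom, IsAffineOpen.isoSpec_hom]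
      exact Scheme.Opens.toSpecΓ_naturality f U)
  exact (MorphismProperty.arrow_mk_iso_iff @IsClosedImmersion e).mpr
    (IsClosedImmersion.spec_of_surjective _ hs)

theorem exists_pow_eq_app_comp {X Y XP : Scheme.{u}} [IsCharP X p] [IsCharP XP p]
    (πX : XP ⟶ X) (hX : IsPerfection πX p) (f : X ⟶ Y) [IsClosedImmersion f]
    (g : XP ⟶ Y) (hg : g = πX ≫ f) (V : Y.Opens) (hV : IsAffineOpen V)
    (t : Γ(XP, g ⁻¹ᵁ V)) : ∃ (n : ℕ) (a : Γ(Y, V)), g.app V a = t ^ p ^ n := by
  subst hg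
  obtain ⟨n, a', ha'⟩ :=
    exists_pow_eq_app_of_isPerfection p πX hX (f ⁻¹ᵁ V) (hV.preimage f) t
  obtain ⟨a, rfl⟩ := f.app_surjective V hV a'
  exact ⟨n, a, ha'⟩

/-- the perfection of a closed immersion is a closed immersion -/
theorem isClosedImmersion_perfection {X Y XP YP : Scheme.{u}}
    [IsCharP X p] [IsCharP Y p] [IsCharP XP p] [IsCharP YP p]
    (πX : XP ⟶ X) (πY : YP ⟶ Y) (hX : IsPerfection πX p) (hY : IsPerfection πY p)
    (f : X ⟶ Y) (fP : XP ⟶ YP) (w : fP ≫ πY = πX ≫ f) [IsClosedImmersion f] :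
    IsClosedImmersion fP := by
  obtain ⟨hX1, hX2, hX3⟩ := props_of_isPerfection p πX hX
  obtain ⟨hY1, hY2, hY3⟩ := props_of_isPerfection p πY hY
  haveI : IsAffineHom (fP ≫ πY) := by rw [w]; infer_instance
  haveI : IsAffineHom fP := IsAffineHom.of_comp fP πY
  apply isClosedImmersion_of_forall_exists
  intro y'
  obtain ⟨_, ⟨V, hV, rfl⟩, hyV, -⟩ :=
    Y.isBasis_affineOpens.exists_subset_of_mem_open (Set.mem_univ (πY y')) isOpen_univ
  refine ⟨πY ⁻¹ᵁ V, hyV, hV.preimage πY, ?_⟩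
  intro t
  obtain ⟨n, a, ha⟩ := exists_pow_eq_app_comp p πX hX f (fP ≫ πY) w V hV t
  obtain ⟨c, hc⟩ : ∃ c, c ^ p ^ n = πY.app V a :=
    (Groth.Agent.Lib.Helper20.PerfSch.pow_pow_bijective p
      (bijective_pow_app_of_isPerfect p YP hY.1 _) n).2 _
  refine ⟨c, ?_⟩
  apply (Groth.Agent.Lib.Helper20.PerfSch.pow_pow_bijective p
      (bijective_pow_app_of_isPerfect p XP hX.1 (fP ⁻¹ᵁ (πY ⁻¹ᵁ V))) n).1
  show (fP.app (πY ⁻¹ᵁ V) c) ^ p ^ n = t ^ p ^ n
  rw [← map_pow, hc]
  exact ha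

end Local

end Groth.Agent.Lib.Helper20.Perfection
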