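import Mathlib.RingTheory.Localization.AtPrime.Basic
import Mathlib.RingTheory.IntegralClosure.IntegrallyClosed
import Mathlib.RingTheory.Polynomial.ScaleRoots
import Mathlib.RingTheory.Localization.Integral

set_option autoImplicit false
universe u

namespace Groth.Agent.Lib.Helper20

open Classical in
/-- indicator idempotent of a subset of the index set in a product ring -/
noncomputable def ind {ι : Type u} (R : ι → Type u) [∀ i, CommRing (R i)] (S : Set ι) : ∀ i, R i :=
  fun i => if i ∈ S then 1 else 0

section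
variable {ι : Type u} (R : ι → Type u) [∀ i, CommRing (R i)]

lemma ind_apply_mem {S : Set ι} {i : ι} (h : i ∈ S) : ind R S i = 1 := by
  simp [ind, h]

lemma ind_apply_not_mem {S : Set ι} {i : ι} (h : i ∉ S) : ind R S i = 0 := by
  simp [ind, h]

lemma ind_add_ind_compl (S : Set ι) : ind R S + ind R Sᶜ = 1 := by
  funext i
  by_cases h : i ∈ S
  · simp [ind, h]
  · simp [ind, h]

lemma ind_or_compl_not_mem (P : Ideal (∀ i, R i)) [P.IsPrime] (S : Set ι) :
    ind R S ∉ P ∨ ind R Sᶜ ∉ P := by
  by_contra hcon
  push Not at hcon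
  have h1 : (1 : ∀ i, R i) ∈ P := by
    rw [← ind_add_ind_compl R S]
    exact P.add_mem hcon.1 hcon.2
  exact (Ideal.IsPrime.ne_top inferInstance) ((Ideal.eq_top_iff_one P).mpr h1)

lemma ind_mem_primeCompl_or (P : Ideal (∀ i, R i)) [P.IsPrime] (S : Set ι) :
    ind R S ∈ P.primeCompl ∨ ind R Sᶜ ∈ P.primeCompl :=
  ind_or_compl_not_mem R P S

theorem isDomain_localization_pi [∀ i, IsDomain (R i)]
    (P : Ideal (∀ i, R i)) [P.IsPrime] : IsDomain (Localization.AtPrime P) := by
  have : NoZeroDivisors (Localization.AtPrime P) := by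
    refine ⟨?_⟩
    intro a b hab
    obtain ⟨a', s, rfl⟩ := IsLocalization.exists_mk'_eq P.primeCompl a
    obtain ⟨b', t, rfl⟩ := IsLocalization.exists_mk'_eq P.primeCompl b
    rw [← IsLocalization.mk'_mul, IsLocalization.mk'_eq_zero_iff] at hab
    obtain ⟨u, hu⟩ := hab
    let S : Set ι := {i | a' i = 0}
    rcases ind_mem_primeCompl_or R P S with h | h
    · left
      rw [IsLocalization.mk'_eq_zero_iff]
      refine ⟨⟨ind R S, h⟩, ?_⟩
      funext i
      by_cases hi : i ∈ S
      · have : a' i = 0 := hi
        simp [this]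
      · simp [ind_apply_not_mem R hi]
    · right
      rw [IsLocalization.mk'_eq_zero_iff]
      refine ⟨⟨ind R Sᶜ, h⟩ * u, ?_⟩
      funext i
      by_cases hi : i ∈ S
      · have : i ∉ Sᶜ := fun hc => hc hi
        simp [ind_apply_not_mem R this]
      · have hai : a' i ≠ 0 := hi
        have hui : (u : ∀ i, R i) i * (a' i * b' i) = 0 := congrFun hu i
        have : (u : ∀ i, R i) i * b' i = 0 := by
          have h2 : a' i * ((u : ∀ i, R i) i * b' i) = 0 := by
            rw [← hui]; ring
          exact (mul_eq_zero.mp h2).resolve_left hai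
        simp [mul_assoc, this]
  exact NoZeroDivisors.to_isDomain _

end

section
variable {ι : Type u} (R : ι → Type u) [∀ i, CommRing (R i)]

/-- the support indicator of an element with nonzero image in the localization is invertible there -/
lemma ind_support_mem_primeCompl (P : Ideal (∀ i, R i)) [P.IsPrime] (v : ∀ i, R i)
    (hv : algebraMap (∀ i, R i) (Localization.AtPrime P) v ≠ 0) :
    ind R {i | v i ≠ 0} ∈ P.primeCompl := by
  rcases ind_mem_primeCompl_or R P {i | v i ≠ 0} with h | h
  · exact h
  · exfalso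
    apply hv
    rw [← IsLocalization.mk'_one (M := P.primeCompl), IsLocalization.mk'_eq_zero_iff]
    refine ⟨⟨_, h⟩, ?_⟩
    funext i
    by_cases hi : v i = 0
    · simp [hi]
    · have : i ∉ ({i | v i ≠ 0} : Set ι)ᶜ := fun hc => hc hi
      simp [ind_apply_not_mem R this]

lemma ind_inter (S T : Set ι) : ind R (S ∩ T) = ind R S * ind R T := by
  funext i
  by_cases hS : i ∈ S <;> by_cases hT : i ∈ T <;> simp [ind, hS, hT]

end

open Polynomial in
lemma dvd_of_scaleRoots_eval_eq_zero {D : Type u} [CommRing D] [IsDomain D] [IsIntegrallyClosed D]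
    (a b : D) (hb : b ≠ 0) (q : D[X]) (h : eval a (scaleRoots q b) = 0) :
    b ∣ q.leadingCoeff * a := by
  let K := FractionRing D
  let f := algebraMap D K
  have hfb : f b ≠ 0 := by
    intro h0
    exact hb ((IsFractionRing.injective D K) (by rw [h0, map_zero]))
  have h1 : eval₂ f (f b * (f a / f b)) (scaleRoots q b) = f b ^ q.natDegree * eval₂ f (f a / f b) q :=
    scaleRoots_eval₂_mul f (f a / f b) b
  have h2 : f b * (f a / f b) = f a := by
    rw [mul_div_assoc']
    exact mul_div_cancel_left₀ _ hfb
  rw [h2, eval₂_at_apply, h, map_zero] at h1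
  have h3 : eval₂ f (f a / f b) q = 0 := by
    rcases mul_eq_zero.mp h1.symm with h4 | h4
    · exact absurd h4 (pow_ne_zero _ hfb)
    · exact h4
  have hint : IsIntegral D (q.leadingCoeff • (f a / f b)) :=
    isIntegral_leadingCoeff_smul q (f a / f b) (by rw [aeval_def]; exact h3)
  obtain ⟨r, hr⟩ := IsIntegrallyClosed.algebraMap_eq_of_integral hint
  refine ⟨r, ?_⟩
  apply IsFractionRing.injective D K
  rw [map_mul, map_mul, hr, Algebra.smul_def]
  show f q.leadingCoeff * f a = f b * (f q.leadingCoeff * (f a / f b))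
  rw [mul_left_comm, h2]

end Groth.Agent.Lib.Helper20
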