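import Mathlib

/-!
# Flatness over an Artinian local base via a jointly injective family (helper26)
-/

set_option autoImplicit false
set_option linter.style.haveILetI false
set_option linter.unusedSectionVars false
universe u

noncomputable section

namespace Groth.Agent.Lib.Helper26.ArtFlat

open Submodule TensorProduct

section semiLoc

variable {A' B₀ C : Type*} [CommRing A'] [CommRing B₀] [CommRing C] [Algebra A' C] [Algebra B₀ C]
  (p : Ideal B₀) (m' : Ideal A')

/-- the ideal of `C` generated by the images of `p` and `m'`. -/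
def J0 : Ideal C := Ideal.map (algebraMap B₀ C) p ⊔ Ideal.map (algebraMap A' C) m'

theorem map_p_le_J0 : Ideal.map (algebraMap B₀ C) p ≤ J0 (C := C) p m' := le_sup_left
theorem map_m_le_J0 : Ideal.map (algebraMap A' C) m' ≤ J0 (C := C) p m' := le_sup_right

/-- the multiplicative set `{b + j : b ∉ p, j ∈ J0}`. -/
def semiLoc [p.IsPrime] : Submonoid C where
  carrier := {c | ∃ b : B₀, b ∉ p ∧ c - algebraMap B₀ C b ∈ J0 (C := C) p m'}
  one_mem' := ⟨1, (Ideal.ne_top_iff_one p).1 (Ideal.IsPrime.ne_top ‹_›), by
    rw [map_one, sub_self]; exact Ideal.zero_mem _⟩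
  mul_mem' := by
    rintro c c' ⟨b, hb, hc⟩ ⟨b', hb', hc'⟩
    refine ⟨b * b', fun h => ((Ideal.IsPrime.mem_or_mem ‹_› h).elim hb hb'), ?_⟩
    have : c * c' - algebraMap B₀ C (b * b') =
        (c - algebraMap B₀ C b) * c' + algebraMap B₀ C b * (c' - algebraMap B₀ C b') := by
      rw [map_mul]; ring
    rw [this]
    exact Ideal.add_mem _ (Ideal.mul_mem_right _ _ hc) (Ideal.mul_mem_left _ _ hc')

variable [p.IsPrime]

theorem algebraMap_mem_semiLoc {b : B₀} (hb : b ∉ p) : algebraMap B₀ C b ∈ semiLoc (C := C) p m' :=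
  ⟨b, hb, by rw [sub_self]; exact Ideal.zero_mem _⟩

theorem disjoint_sup_J0 (q : Ideal C) (hq : Disjoint (q : Set C) (semiLoc (C := C) p m')) :
    Disjoint ((q ⊔ J0 (C := C) p m' : Ideal C) : Set C) (semiLoc (C := C) p m') := by
  rw [Set.disjoint_left]
  intro x hx hxT
  obtain ⟨y, hy, j, hj, rfl⟩ := Submodule.mem_sup.1 hx
  obtain ⟨b, hb, hc⟩ := hxT
  have : y ∈ semiLoc (C := C) p m' := by
    refine ⟨b, hb, ?_⟩
    have : y - algebraMap B₀ C b = (y + j - algebraMap B₀ C b) - j := by ring
    rw [this]
    exact Ideal.sub_mem _ hc hj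
  exact Set.disjoint_left.1 hq hy this


theorem comap_of_isMaximal [m'.IsMaximal] (P : Ideal (Localization (semiLoc (C := C) p m')))
    [P.IsMaximal] :
    (P.under C).IsPrime ∧ (P.under C).comap (algebraMap B₀ C) = p ∧
      (P.under C).comap (algebraMap A' C) = m' ∧
      semiLoc (C := C) p m' ≤ (P.under C).primeCompl := by
  set q := P.under C with hq
  have hPprime : P.IsPrime := Ideal.IsMaximal.isPrime ‹_›
  have hqP := (IsLocalization.isPrime_iff_isPrime_disjoint (semiLoc (C := C) p m') (Localization (semiLoc (C := C) p m')) P).1 hPprime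
  have hqprime : q.IsPrime := hqP.1
  have hdisq : Disjoint (q : Set C) (semiLoc (C := C) p m') := hqP.2.symm
  have hJ : J0 (C := C) p m' ≤ q := by
    have hdis := disjoint_sup_J0 p m' q hdisq
    obtain ⟨q', hq'prime, hle, hq'dis⟩ := Ideal.exists_le_prime_disjoint (q ⊔ J0 (C := C) p m') (semiLoc (C := C) p m') hdis
    have hP'prime := IsLocalization.isPrime_of_isPrime_disjoint (semiLoc (C := C) p m') (Localization (semiLoc (C := C) p m')) q' hq'prime
      hq'dis.symm
    have hPP' : P ≤ Ideal.map (algebraMap C (Localization (semiLoc (C := C) p m'))) q' := by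
      rw [← IsLocalization.map_under (semiLoc (C := C) p m') (Localization (semiLoc (C := C) p m')) P]
      exact Ideal.map_mono (le_sup_left.trans hle)
    have hPeq : P = Ideal.map (algebraMap C (Localization (semiLoc (C := C) p m'))) q' :=
      Ideal.IsMaximal.eq_of_le ‹P.IsMaximal› hP'prime.ne_top hPP'
    have hqq' : q = q' := by
      rw [hq, hPeq]
      exact IsLocalization.under_map_of_isPrime_disjoint (semiLoc (C := C) p m') (Localization (semiLoc (C := C) p m')) hq'prime hq'dis.symm
    rw [hqq']
    exact le_sup_right.trans hle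
  refine ⟨hqprime, ?_, ?_, ?_⟩
  · apply le_antisymm
    · intro b hb
      by_contra hbp
      exact Set.disjoint_left.1 hdisq (Ideal.mem_comap.1 hb) (algebraMap_mem_semiLoc p m' hbp)
    · intro b hb
      exact Ideal.mem_comap.2 (hJ (map_p_le_J0 p m' (Ideal.mem_map_of_mem _ hb)))
  · symm
    apply Ideal.IsMaximal.eq_of_le ‹m'.IsMaximal›
    · exact (Ideal.comap_isPrime (algebraMap A' C) q).ne_top
    · intro a ha
      exact Ideal.mem_comap.2 (hJ (map_m_le_J0 p m' (Ideal.mem_map_of_mem _ ha)))
  · intro t ht htq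
    exact Set.disjoint_left.1 hdisq htq ht

end semiLoc


section trans

variable {C : Type*} [CommRing C] (T : Submonoid C) (N : Type*) [AddCommGroup N] [Module C N]

/-- localization of a localization at a prime is the localization at the contracted prime. -/
theorem nonempty_linearEquiv_localizedModule_atPrime (P : Ideal (Localization T)) [P.IsPrime] :
    haveI : (P.under C).IsPrime := Ideal.comap_isPrime _ P
    Nonempty (LocalizedModule (P.under C).primeCompl N ≃ₗ[C]
      LocalizedModule P.primeCompl (LocalizedModule T N)) := by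
  haveI : (P.under C).IsPrime := Ideal.comap_isPrime _ P
  haveI h1 : IsLocalization.AtPrime (Localization.AtPrime P) (P.under C) :=
    IsLocalization.isLocalization_isLocalization_atPrime_isLocalization T (Localization.AtPrime P) P
  let f₁ : N →ₗ[C] LocalizedModule T N := LocalizedModule.mkLinearMap T N
  let f₂ : LocalizedModule T N →ₗ[Localization T]
      LocalizedModule P.primeCompl (LocalizedModule T N) :=
    LocalizedModule.mkLinearMap P.primeCompl _
  have hb1 : IsBaseChange (Localization T) f₁ :=
    (isLocalizedModule_iff_isBaseChange T (Localization T) f₁).1 inferInstance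
  have hb2 : IsBaseChange (Localization.AtPrime P) f₂ :=
    (isLocalizedModule_iff_isBaseChange P.primeCompl (Localization.AtPrime P) f₂).1 inferInstance
  have hb := hb1.comp hb2
  have hloc : IsLocalizedModule (P.under C).primeCompl (f₂.restrictScalars C ∘ₗ f₁) :=
    (isLocalizedModule_iff_isBaseChange (P.under C).primeCompl (Localization.AtPrime P) _).2 hb
  exact ⟨IsLocalizedModule.iso (P.under C).primeCompl (f₂.restrictScalars C ∘ₗ f₁)⟩

end trans


section flatSemi

variable {A' B₀ C : Type*} [CommRing A'] [CommRing B₀] [CommRing C] [Algebra A' C] [Algebra B₀ C]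
  (p : Ideal B₀) (m' : Ideal A') [p.IsPrime] [m'.IsMaximal]

/-- the semi-localisation of `N` at the primes over `(p, m')` is flat over `A'` if `N` is flat over `A'`
at all these primes. -/
theorem flat_localizedModule_semiLoc (N : Type*) [AddCommGroup N] [Module C N] [Module A' N]
    [IsScalarTower A' C N]
    (H : ∀ (q : Ideal C) [q.IsPrime], q.comap (algebraMap B₀ C) = p →
      q.comap (algebraMap A' C) = m' → Module.Flat A' (LocalizedModule q.primeCompl N)) :
    Module.Flat A' (LocalizedModule (semiLoc (C := C) p m') N) := by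
  refine Module.flat_of_isLocalized_maximal (Localization (semiLoc (C := C) p m'))
    (LocalizedModule (semiLoc (C := C) p m') N)
    (fun P _ => LocalizedModule P.primeCompl (LocalizedModule (semiLoc (C := C) p m') N))
    (fun P _ => LocalizedModule.mkLinearMap P.primeCompl _) ?_
  intro P hP
  obtain ⟨hqprime, h1, h2, -⟩ := comap_of_isMaximal p m' P
  haveI := hqprime
  obtain ⟨e⟩ := nonempty_linearEquiv_localizedModule_atPrime (semiLoc (C := C) p m') N P
  haveI hflat := H (P.under C) h1 h2
  exact Module.Flat.of_linearEquiv (e.symm.restrictScalars A')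

end flatSemi


section TP

open IsLocalRing

variable {A A' : Type u} [CommRing A] [CommRing A'] [IsLocalRing A] [IsLocalRing A'] [Algebra A A']
  [IsLocalHom (algebraMap A A')]
  {R : Type u} [CommRing R] [IsLocalRing R] [IsNoetherianRing R] [Algebra A R]
  (M : Type u) [AddCommGroup M] [Module A M] [Module R M] [IsScalarTower A R M] [Module.Finite R M]

/-- Krull: an element of `M` lying in `𝔫^r M + 𝔪_A M` for all `r` lies in `𝔪_A M`. -/
theorem mem_smul_top_of_forall_mem_pow (y : M)
    (h : ∀ r : ℕ, ∃ y' ∈ (maximalIdeal R ^ r • ⊤ : Submodule R M),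
      y - y' ∈ (maximalIdeal A • ⊤ : Submodule A M)) :
    y ∈ (maximalIdeal A • ⊤ : Submodule A M) := by
  let W : Submodule R M :=
    { carrier := (maximalIdeal A • ⊤ : Submodule A M)
      add_mem' := fun ha hb => Submodule.add_mem _ ha hb
      zero_mem' := Submodule.zero_mem _
      smul_mem' := by
        intro c x hx
        change c • x ∈ (maximalIdeal A • ⊤ : Submodule A M)
        have hx' : x ∈ (maximalIdeal A • ⊤ : Submodule A M) := hx
        refine Submodule.smul_induction_on hx' ?_ ?_
        · intro a ha z _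
          rw [smul_comm]
          exact Submodule.smul_mem_smul ha trivial
        · intro z z' hz hz'
          rw [smul_add]; exact Submodule.add_mem _ hz hz' }
  have hK := Ideal.iInf_pow_smul_eq_bot_of_isLocalRing (M := M ⧸ W) (maximalIdeal R)
    (Ideal.IsPrime.ne_top inferInstance)
  have hy : W.mkQ y ∈ ⨅ i, maximalIdeal R ^ i • (⊤ : Submodule R (M ⧸ W)) := by
    rw [Submodule.mem_iInf]
    intro r
    obtain ⟨y', hy', hyy'⟩ := h r
    have h1 : W.mkQ y = W.mkQ y' := by
      rw [← sub_eq_zero, ← map_sub, Submodule.mkQ_apply, Submodule.Quotient.mk_eq_zero]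
      exact hyy'
    rw [h1]
    have h2 := Submodule.mem_map_of_mem (f := W.mkQ) hy'
    rw [Submodule.map_smul'', Submodule.map_top, Submodule.range_mkQ] at h2
    exact h2
  rw [hK, Submodule.mem_bot, Submodule.mkQ_apply, Submodule.Quotient.mk_eq_zero] at hy
  exact hy


local notation "kA" => ResidueField A
local notation "kA'" => ResidueField A'

variable (A A') in
/-- the `k'`-vector space `k' ⊗_k (k ⊗_A M)`. -/
abbrev PP : Type u := kA' ⊗[kA] (kA ⊗[A] M)

variable (A A') in
/-- the class of `y` in `k' ⊗_k (k ⊗_A M)`. -/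
def ee (y : M) : PP A A' M := (1 : kA') ⊗ₜ[kA] ((1 : kA) ⊗ₜ[A] y)

variable (A A') in
theorem ee_add (y y' : M) : ee A A' M (y + y') = ee A A' M y + ee A A' M y' := by
  unfold ee; rw [TensorProduct.tmul_add, TensorProduct.tmul_add]

variable (A A') in
theorem ee_smul (a : A) (y : M) : ee A A' M (a • y) = a • ee A A' M y := by
  unfold ee
  rw [TensorProduct.tmul_smul, TensorProduct.tmul_smul]

variable (A A') in
/-- the `A`-linear map `y ↦ [y]`. -/
def eeₗ : M →ₗ[A] PP A A' M where
  toFun := ee A A' M
  map_add' := ee_add A A' M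
  map_smul' := ee_smul A A' M

variable (A A' R) in
/-- the filtration of `k' ⊗_k (k ⊗_A M)` induced by the `𝔫`-adic filtration of `M`. -/
def Fil (r : ℕ) : Submodule kA' (PP A A' M) :=
  span kA' (ee A A' M '' ((maximalIdeal R ^ r • ⊤ : Submodule R M) : Set M))

variable (A A') in
/-- the endomorphism of `k' ⊗_k (k ⊗_A M)` induced by an `A`-linear endomorphism of `M`. -/
def Th (θ : M →ₗ[A] M) : PP A A' M →ₗ[kA'] PP A A' M :=
  LinearMap.baseChange kA' (LinearMap.baseChange kA θ)

variable (A A') in
theorem Th_ee (θ : M →ₗ[A] M) (y : M) : Th A A' M θ (ee A A' M y) = ee A A' M (θ y) := by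
  unfold Th ee
  rw [LinearMap.baseChange_tmul, LinearMap.baseChange_tmul]

variable (A A') in
theorem Th_comp (θ θ' : M →ₗ[A] M) (z : PP A A' M) :
    Th A A' M (θ ∘ₗ θ') z = Th A A' M θ (Th A A' M θ' z) := by
  unfold Th
  rw [LinearMap.baseChange_comp, LinearMap.baseChange_comp]
  rfl

variable (A A') in
theorem Th_id (z : PP A A' M) : Th A A' M LinearMap.id z = z := by
  unfold Th
  rw [LinearMap.baseChange_id, LinearMap.baseChange_id]
  rfl

variable (A A' R) in
theorem Th_mem_Fil (θ : M →ₗ[A] M) (r s : ℕ)
    (hθ : ∀ y ∈ (maximalIdeal R ^ r • ⊤ : Submodule R M),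
      θ y ∈ (maximalIdeal R ^ s • ⊤ : Submodule R M))
    (z : PP A A' M) (hz : z ∈ Fil A A' R M r) : Th A A' M θ z ∈ Fil A A' R M s := by
  unfold Fil at hz
  induction hz using Submodule.span_induction with
  | mem z hz =>
    obtain ⟨y, hy, rfl⟩ := hz
    rw [Th_ee]
    exact Submodule.subset_span ⟨_, hθ y hy, rfl⟩
  | zero => rw [map_zero]; exact Submodule.zero_mem _
  | add z z' _ _ h h' => rw [map_add]; exact Submodule.add_mem _ h h'
  | smul c z _ h => rw [map_smul]; exact Submodule.smul_mem _ _ h

variable (A A' R) in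
theorem Fil_zero : Fil A A' R M 0 = ⊤ := by
  rw [eq_top_iff]
  rintro z -
  induction z using TensorProduct.induction_on with
  | zero => exact Submodule.zero_mem _
  | add z z' h h' => exact Submodule.add_mem _ h h'
  | tmul c w =>
    induction w using TensorProduct.induction_on with
    | zero => rw [TensorProduct.tmul_zero]; exact Submodule.zero_mem _
    | add w w' h h' => rw [TensorProduct.tmul_add]; exact Submodule.add_mem _ h h'
    | tmul d y =>
      have h1 : c ⊗ₜ[kA] (d ⊗ₜ[A] y) = (c * algebraMap kA kA' d) • ee A A' M y := by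
        unfold ee
        rw [TensorProduct.smul_tmul', smul_eq_mul, mul_one]
        have : d ⊗ₜ[A] y = d • ((1 : kA) ⊗ₜ[A] y) := by
          rw [TensorProduct.smul_tmul', smul_eq_mul, mul_one]
        rw [this, TensorProduct.tmul_smul, TensorProduct.smul_tmul', Algebra.smul_def,
          mul_comm]
      rw [h1]
      refine Submodule.smul_mem _ _ (Submodule.subset_span ⟨y, ?_, rfl⟩)
      rw [pow_zero, Ideal.one_eq_top, Submodule.top_smul]
      trivial


variable (A A' R) in
theorem exists_coord_of_mem_Fil [DecidableEq (Module.Free.ChooseBasisIndex kA kA')] (r : ℕ)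
    (z : PP A A' M) (hz : z ∈ Fil A A' R M r)
    (j : Module.Free.ChooseBasisIndex kA kA') :
    ∃ y ∈ (maximalIdeal R ^ r • ⊤ : Submodule R M),
      TensorProduct.equivFinsuppOfBasisLeft (N := kA ⊗[A] M) (Module.Free.chooseBasis kA kA') z j =
        (1 : kA) ⊗ₜ[A] y := by
  set Ψ := TensorProduct.equivFinsuppOfBasisLeft (N := kA ⊗[A] M) (Module.Free.chooseBasis kA kA')
    with hΨ
  have key : ∀ z ∈ Fil A A' R M r, ∀ c' : kA', ∀ j, ∃ y ∈ (maximalIdeal R ^ r • ⊤ : Submodule R M),
      Ψ (c' • z) j = (1 : kA) ⊗ₜ[A] y := by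
    intro z hz
    unfold Fil at hz
    induction hz using Submodule.span_induction with
    | mem z hz =>
      obtain ⟨y, hy, rfl⟩ := hz
      intro c' j
      obtain ⟨a, ha⟩ := IsLocalRing.residue_surjective
        ((Module.Free.chooseBasis kA kA').repr c' j)
      refine ⟨a • y, ?_, ?_⟩
      · rw [← algebraMap_smul R a y]
        exact Submodule.smul_mem _ _ hy
      · have h1 : c' • ee A A' M y = c' ⊗ₜ[kA] ((1 : kA) ⊗ₜ[A] y) := by
          unfold ee
          rw [TensorProduct.smul_tmul', smul_eq_mul, mul_one]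
        rw [h1, hΨ, TensorProduct.equivFinsuppOfBasisLeft_apply_tmul_apply, ← ha,
          TensorProduct.smul_tmul', TensorProduct.tmul_smul]
        congr 1
    | zero =>
      intro c' j
      exact ⟨0, Submodule.zero_mem _, by rw [smul_zero, map_zero, TensorProduct.tmul_zero]; rfl⟩
    | add z z' _ _ h h' =>
      intro c' j
      obtain ⟨y, hy, e1⟩ := h c' j
      obtain ⟨y', hy', e2⟩ := h' c' j
      refine ⟨y + y', Submodule.add_mem _ hy hy', ?_⟩
      rw [smul_add, map_add, Finsupp.add_apply, e1, e2, TensorProduct.tmul_add]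
    | smul d z _ h =>
      intro c' j
      rw [smul_smul]
      exact h (c' * d) j
  have := key z hz 1 j
  rwa [one_smul] at this

variable (A A' R) in
/-- the filtration is separated. -/
theorem eq_zero_of_forall_mem_Fil (z : PP A A' M) (h : ∀ r, z ∈ Fil A A' R M r) : z = 0 := by
  classical
  set Ψ := TensorProduct.equivFinsuppOfBasisLeft (N := kA ⊗[A] M) (Module.Free.chooseBasis kA kA')
    with hΨ
  have hker : LinearMap.ker (TensorProduct.mk A kA M 1) = maximalIdeal A • ⊤ :=
    LinearMap.ker_tensorProductMk M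
  have hz : Ψ z = 0 := by
    ext j
    obtain ⟨y, -, hy⟩ := exists_coord_of_mem_Fil A A' R M 0 z (h 0) j
    rw [Finsupp.zero_apply]
    change Ψ z j = 0
    rw [hy]
    have hy2 : y ∈ (maximalIdeal A • ⊤ : Submodule A M) := by
      apply mem_smul_top_of_forall_mem_pow (R := R)
      intro r
      obtain ⟨y', hy', hy''⟩ := exists_coord_of_mem_Fil A A' R M r z (h r) j
      refine ⟨y', hy', ?_⟩
      rw [← hker, LinearMap.mem_ker, map_sub, sub_eq_zero]
      change (1 : kA) ⊗ₜ[A] y = (1 : kA) ⊗ₜ[A] y'
      rw [← hy, ← hy'']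
    rw [← hker, LinearMap.mem_ker] at hy2
    exact hy2
  exact Ψ.injective (by rw [hz, map_zero])

variable (A A') in
/-- linear independence over `k` of the classes in `k ⊗_A M` gives linear independence over `k'`. -/
theorem linearIndependent_ee {ι : Type*} (v : ι → M)
    (hv : LinearIndependent kA (fun i => (1 : kA) ⊗ₜ[A] v i)) :
    LinearIndependent kA' (fun i => ee A A' M (v i)) :=
  Module.Flat.linearIndependent_one_tmul (S := kA') hv

end TP



section Denom

variable {A' C : Type*} [CommRing A'] [CommRing C] [Algebra A' C] (T : Submonoid C)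
  {N : Type*} [AddCommGroup N] [Module A' N] [Module C N] [IsScalarTower A' C N] (I : Ideal A')

theorem smul_mem_ideal_smul_top (c : C) (n : N) (hn : n ∈ (I • ⊤ : Submodule A' N)) :
    c • n ∈ (I • ⊤ : Submodule A' N) := by
  refine Submodule.smul_induction_on hn ?_ ?_
  · intro a ha z _
    rw [smul_comm]
    exact Submodule.smul_mem_smul ha trivial
  · intro z z' hz hz'
    rw [smul_add]; exact Submodule.add_mem _ hz hz'

theorem exists_mk_of_mem_ideal_smul_top (w : LocalizedModule T N)
    (hw : w ∈ (I • ⊤ : Submodule A' (LocalizedModule T N))) :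
    ∃ n₁ ∈ (I • ⊤ : Submodule A' N), ∃ t : T, w = LocalizedModule.mk n₁ t := by
  refine Submodule.smul_induction_on hw ?_ ?_
  · intro a ha z _
    induction z using LocalizedModule.induction_on with
    | h n' t =>
      exact ⟨a • n', Submodule.smul_mem_smul ha trivial, t, LocalizedModule.smul'_mk a n' t⟩
  · rintro z z' ⟨n₁, hn₁, t₁, rfl⟩ ⟨n₂, hn₂, t₂, rfl⟩
    refine ⟨t₂ • n₁ + t₁ • n₂, Submodule.add_mem _ ?_ ?_, t₁ * t₂, LocalizedModule.mk_add_mk⟩
    · exact smul_mem_ideal_smul_top I (t₂ : C) n₁ hn₁
    · exact smul_mem_ideal_smul_top I (t₁ : C) n₂ hn₂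

theorem exists_smul_mem_of_mk_mem (n : N)
    (h : (LocalizedModule.mk n 1 : LocalizedModule T N) ∈
      (I • ⊤ : Submodule A' (LocalizedModule T N))) :
    ∃ s ∈ T, s • n ∈ (I • ⊤ : Submodule A' N) := by
  obtain ⟨n₁, hn₁, t, ht⟩ := exists_mk_of_mem_ideal_smul_top T I _ h
  obtain ⟨u, hu⟩ := LocalizedModule.mk_eq.1 ht
  refine ⟨(u * t : T), (u * t).2, ?_⟩
  have : ((u * t : T) : C) • n = (u : C) • n₁ := by
    rw [Submonoid.coe_mul, mul_smul]
    have h1 : u • t • n = u • (1 : T) • n₁ := hu
    rw [one_smul] at h1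
    exact h1
  rw [this]
  exact smul_mem_ideal_smul_top I (u : C) n₁ hn₁

end Denom

section Sem

open IsLocalRing

variable {A A' B₀ C : Type u} [CommRing A] [CommRing A'] [CommRing B₀] [CommRing C]
  [IsLocalRing A] [IsLocalRing A'] [Algebra A A'] [IsLocalHom (algebraMap A A')]
  [Algebra A B₀] [Algebra A C] [Algebra A' C] [Algebra B₀ C] [IsScalarTower A A' C]
  [IsScalarTower A B₀ C] [Algebra.IsPushout A A' B₀ C]
  [IsNoetherianRing B₀] (p : Ideal B₀) [p.IsPrime]
  {M₀ : Type u} [AddCommGroup M₀] [Module A M₀] [Module B₀ M₀] [IsScalarTower A B₀ M₀]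
  [Module.Finite B₀ M₀]
  {N : Type u} [AddCommGroup N] [Module A N] [Module A' N] [Module B₀ N] [Module C N]
  [IsScalarTower A A' N] [IsScalarTower A B₀ N] [IsScalarTower A' C N] [IsScalarTower B₀ C N]
  (g : M₀ →ₗ[B₀] N) (hg : IsBaseChange C g)

local notation "kA" => ResidueField A
local notation "kA'" => ResidueField A'
local notation "Mp" => LocalizedModule p.primeCompl M₀
local notation "Rp" => Localization.AtPrime p

include hg in
/-- `N` is also the base change of `M₀` along `A → A'`. -/
theorem isBaseChange_restrictScalars : IsBaseChange A' (g.restrictScalars A) := by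
  refine IsBaseChange.of_equiv
    ((Algebra.IsPushout.cancelBaseChange A A' B₀ C M₀).symm ≪≫ₗ (hg.equiv.restrictScalars A')) ?_
  intro x
  rw [LinearEquiv.trans_apply, Algebra.IsPushout.cancelBaseChange_symm_tmul, map_one]
  change hg.equiv ((1 : C) ⊗ₜ[B₀] x) = g x
  rw [IsBaseChange.equiv_tmul, one_smul]

variable (A') in
/-- the map `M₀ → k' ⊗_k (k ⊗_A (M₀)_p)`. -/
def om0 : M₀ →ₗ[A] PP A A' Mp :=
  (eeₗ A A' Mp) ∘ₗ ((LocalizedModule.mkLinearMap p.primeCompl M₀).restrictScalars A)

/-- the `A'`-linear map `N → k' ⊗_k (k ⊗_A (M₀)_p)`. -/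
def om : N →ₗ[A'] PP A A' Mp :=
  (isBaseChange_restrictScalars g hg).lift (om0 A' p)

theorem om_g (x : M₀) : om p g hg (g x) = ee A A' Mp (LocalizedModule.mk x 1) := by
  unfold om
  have := (isBaseChange_restrictScalars (A := A) (A' := A') g hg).lift_eq (om0 A' p) x
  exact this


variable (A A') in
/-- the action of `b ∈ B₀` on `k' ⊗_k (k ⊗_A (M₀)_p)`. -/
def bet (b : B₀) : PP A A' Mp →ₗ[kA'] PP A A' Mp :=
  Th A A' Mp (DistribSMul.toLinearMap A Mp b)

include C in
theorem smul_comm_aux (b : B₀) (a' : A') (n : N) : b • a' • n = a' • b • n := by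
  rw [← algebraMap_smul C b, ← algebraMap_smul C a', ← algebraMap_smul C a' (b • n),
    ← algebraMap_smul C b n, smul_smul, smul_smul, mul_comm]

theorem Th_smul_algebraMap (θ : Mp →ₗ[A] Mp) (a' : A') (z : PP A A' Mp) :
    Th A A' Mp θ (a' • z) = a' • Th A A' Mp θ z := by
  rw [← algebraMap_smul kA' a' z, map_smul, algebraMap_smul]

theorem om_smul (b : B₀) (n : N) : om p g hg (b • n) = bet A A' p b (om p g hg n) := by
  refine (isBaseChange_restrictScalars (A := A) (A' := A') g hg).inductionOn n _ ?_ ?_ ?_ ?_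
  · rw [smul_zero, map_zero, map_zero]
  · intro x
    change om p g hg (b • g x) = bet A A' p b (om p g hg (g x))
    rw [← g.map_smul b x, om_g, om_g]
    unfold bet
    rw [Th_ee]
    congr 1
    change (LocalizedModule.mk (b • x) 1 : Mp) = b • (LocalizedModule.mk x 1 : Mp)
    rw [LocalizedModule.smul'_mk]
  · intro a' n ih
    rw [smul_comm_aux (C := C), map_smul, ih, map_smul]
    unfold bet
    rw [Th_smul_algebraMap]
  · intro n n' ih ih'
    rw [smul_add, map_add, ih, ih', map_add, map_add]


theorem smul_mem_pow_smul_top (b : B₀) (r : ℕ) (y : Mp)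
    (hy : y ∈ (maximalIdeal Rp ^ r • ⊤ : Submodule Rp Mp)) :
    b • y ∈ (maximalIdeal Rp ^ r • ⊤ : Submodule Rp Mp) := by
  rw [← algebraMap_smul Rp b y]
  exact Submodule.smul_mem _ _ hy

theorem smul_mem_pow_succ_smul_top (b : B₀) (hb : b ∈ p) (r : ℕ) (y : Mp)
    (hy : y ∈ (maximalIdeal Rp ^ r • ⊤ : Submodule Rp Mp)) :
    b • y ∈ (maximalIdeal Rp ^ (r + 1) • ⊤ : Submodule Rp Mp) := by
  rw [← algebraMap_smul Rp b y, pow_succ', Submodule.mul_smul]
  refine Submodule.smul_mem_smul ?_ hy
  exact (IsLocalization.AtPrime.to_map_mem_maximal_iff Rp p b).2 hb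

theorem om_smul_mem_Fil (c : C) (r : ℕ) :
    ∀ n : N, om p g hg n ∈ Fil A A' Rp Mp r → om p g hg (c • n) ∈ Fil A A' Rp Mp r := by
  refine (Algebra.IsPushout.out (R := A) (S := A') (R' := B₀) (S' := C)).inductionOn c _ ?_ ?_ ?_ ?_
  · intro n _
    rw [zero_smul, map_zero]; exact Submodule.zero_mem _
  · intro b n hn
    change om p g hg (algebraMap B₀ C b • n) ∈ _
    rw [algebraMap_smul, om_smul]
    exact Th_mem_Fil A A' Rp Mp _ r r (fun y hy => smul_mem_pow_smul_top p b r y hy) _ hn
  · intro a' c ih n hn
    rw [smul_assoc, map_smul, ← algebraMap_smul kA' a']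
    exact Submodule.smul_mem _ _ (ih n hn)
  · intro c c' ih ih' n hn
    rw [add_smul, map_add]
    exact Submodule.add_mem _ (ih n hn) (ih' n hn)

theorem om_J0_smul_mem_Fil (j : C) (hj : j ∈ J0 (C := C) p (maximalIdeal A')) (r : ℕ) (n : N)
    (hn : om p g hg n ∈ Fil A A' Rp Mp r) : om p g hg (j • n) ∈ Fil A A' Rp Mp (r + 1) := by
  obtain ⟨j₁, hj₁, j₂, hj₂, rfl⟩ := Submodule.mem_sup.1 hj
  rw [add_smul, map_add]
  refine Submodule.add_mem _ ?_ ?_
  · have key : ∀ j ∈ Ideal.map (algebraMap B₀ C) p, ∀ n : N, om p g hg n ∈ Fil A A' Rp Mp r →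
        om p g hg (j • n) ∈ Fil A A' Rp Mp (r + 1) := by
      intro j hj
      unfold Ideal.map at hj
      induction hj using Submodule.span_induction with
      | mem j hj =>
        obtain ⟨b, hb, rfl⟩ := hj
        intro n hn
        rw [algebraMap_smul, om_smul]
        exact Th_mem_Fil A A' Rp Mp _ r (r + 1)
          (fun y hy => smul_mem_pow_succ_smul_top p b hb r y hy) _ hn
      | zero => intro n _; rw [zero_smul, map_zero]; exact Submodule.zero_mem _
      | add j j' _ _ h h' =>
        intro n hn
        rw [add_smul, map_add]; exact Submodule.add_mem _ (h n hn) (h' n hn)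
      | smul c j _ h =>
        intro n hn
        rw [smul_eq_mul, mul_comm, mul_smul]
        exact h _ (om_smul_mem_Fil p g hg c r n hn)
    exact key j₁ hj₁ n hn
  · have key : ∀ j ∈ Ideal.map (algebraMap A' C) (maximalIdeal A'), ∀ n : N,
        (om p g hg (j • n) : PP A A' Mp) = 0 := by
      intro j hj
      unfold Ideal.map at hj
      induction hj using Submodule.span_induction with
      | mem j hj =>
        obtain ⟨a', ha', rfl⟩ := hj
        intro n
        rw [algebraMap_smul, map_smul, ← algebraMap_smul kA' a']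
        have : algebraMap A' kA' a' = 0 := by
          change IsLocalRing.residue A' a' = 0
          rwa [IsLocalRing.residue_eq_zero_iff]
        rw [this, zero_smul]
      | zero => intro n; rw [zero_smul, map_zero]
      | add j j' _ _ h h' => intro n; rw [add_smul, map_add, h, h', add_zero]
      | smul c j _ h => intro n; rw [smul_eq_mul, mul_comm, mul_smul]; exact h _
    rw [key j₂ hj₂ n]
    exact Submodule.zero_mem _


/-- elements of the semi-localising set act injectively on the image of `om` (Krull). -/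
theorem om_eq_zero_of_semiLoc_smul (s : C) (hs : s ∈ semiLoc (C := C) p (maximalIdeal A')) (n : N)
    (h : (om p g hg (s • n) : PP A A' Mp) = 0) : (om p g hg n : PP A A' Mp) = 0 := by
  obtain ⟨b, hb, hj⟩ := hs
  apply eq_zero_of_forall_mem_Fil A A' Rp Mp
  intro r
  induction r with
  | zero => rw [Fil_zero]; trivial
  | succ r ih =>
    have h1 : s • n = b • n + (s - algebraMap B₀ C b) • n := by
      rw [sub_smul, algebraMap_smul]; abel
    have h2 : bet A A' p b (om p g hg n) = - om p g hg ((s - algebraMap B₀ C b) • n) := by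
      rw [← om_smul, eq_neg_iff_add_eq_zero, ← map_add, ← h1, h]
    have h3 : bet A A' p b (om p g hg n) ∈ Fil A A' Rp Mp (r + 1) := by
      rw [h2]; exact Submodule.neg_mem _ (om_J0_smul_mem_Fil p g hg _ hj r n ih)
    obtain ⟨u, hu⟩ := IsLocalization.map_units Rp (⟨b, hb⟩ : p.primeCompl)
    let γ : Mp →ₗ[A] Mp := DistribSMul.toLinearMap A Mp ((u⁻¹ : Rpˣ) : Rp)
    have h4 : ∀ z, Th A A' Mp γ (bet A A' p b z) = z := by
      intro z
      unfold bet
      rw [← Th_comp]
      have : γ ∘ₗ DistribSMul.toLinearMap A Mp b = LinearMap.id := by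
        ext y
        change ((u⁻¹ : Rpˣ) : Rp) • (b • y) = y
        rw [← algebraMap_smul Rp b y, smul_smul, ← hu, Units.inv_mul, one_smul]
      rw [this, Th_id]
    rw [← h4 (om p g hg n)]
    exact Th_mem_Fil A A' Rp Mp γ (r + 1) (r + 1) (fun y hy => Submodule.smul_mem _ _ hy) _ h3


local notation "Tsl" => semiLoc (C := C) p (maximalIdeal A')

theorem om_eq_zero_of_mem_smul_top (n : N) (hn : n ∈ (maximalIdeal A' • ⊤ : Submodule A' N)) :
    (om p g hg n : PP A A' Mp) = 0 := by
  refine Submodule.smul_induction_on hn ?_ ?_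
  · intro a' ha' z _
    rw [map_smul, ← algebraMap_smul kA' a']
    have : algebraMap A' kA' a' = 0 := by
      change IsLocalRing.residue A' a' = 0
      rwa [IsLocalRing.residue_eq_zero_iff]
    rw [this, zero_smul]
  · intro z z' hz hz'
    rw [map_add, hz, hz', add_zero]

include hg in
/-- **Key independence statement**: if the classes of `x i` are independent in `k ⊗ (M₀)_p`, then a
combination `∑ c i • g (x i)` lying in `𝔪' N''` (`N''` the semi-localisation) has all `c i ∈ 𝔪'`. -/
theorem mem_maximalIdeal_of_sum_mem {ι : Type*} (x : ι → M₀)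
    (hx : LinearIndependent kA (fun i => (1 : kA) ⊗ₜ[A] (LocalizedModule.mk (x i) 1 : Mp)))
    (c : ι →₀ A')
    (h : (LocalizedModule.mk (c.sum fun i a' => a' • g (x i)) 1 : LocalizedModule Tsl N) ∈
      (maximalIdeal A' • ⊤ : Submodule A' (LocalizedModule Tsl N))) :
    ∀ i, c i ∈ maximalIdeal A' := by
  obtain ⟨s, hs, hsn⟩ := exists_smul_mem_of_mk_mem Tsl (maximalIdeal A') _ h
  have h1 := om_eq_zero_of_mem_smul_top (A := A) p g hg _ hsn
  have h2 := om_eq_zero_of_semiLoc_smul p g hg s hs _ h1
  have hli := linearIndependent_ee A A' Mp (fun i => (LocalizedModule.mk (x i) 1 : Mp)) hx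
  rw [linearIndependent_iff] at hli
  have h3 : Finsupp.linearCombination kA' (fun i => ee A A' Mp (LocalizedModule.mk (x i) 1 : Mp))
      (c.mapRange (IsLocalRing.residue A') (map_zero _)) = 0 := by
    rw [Finsupp.linearCombination_apply, Finsupp.sum_mapRange_index
      (h := fun i (a : kA') => a • ee A A' Mp (LocalizedModule.mk (x i) 1 : Mp))
      (fun i => zero_smul _ _)]
    rw [← h2, Finsupp.sum, Finsupp.sum, map_sum]
    refine Finset.sum_congr rfl fun i _ => ?_
    rw [map_smul, om_g, ← algebraMap_smul kA' (c i)]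
    rfl
  have h4 := hli _ h3
  intro i
  have h5 := DFunLike.congr_fun h4 i
  rw [Finsupp.mapRange_apply, Finsupp.zero_apply, IsLocalRing.residue_eq_zero_iff] at h5
  exact h5


include hg in
/-- **Core statement for one member of the family**: a relation among elements of `(M₀)_p` whose classes
mod `𝔪_A` are independent has coefficients killed by `A → A'`, as soon as `N` is flat over `A'` at all
primes of `C` over `(p, 𝔪')`. -/
theorem algebraMap_eq_zero_of_relation
    (H : ∀ (q : Ideal C) [q.IsPrime], q.comap (algebraMap B₀ C) = p →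
      q.comap (algebraMap A' C) = maximalIdeal A' →
      Module.Flat A' (LocalizedModule q.primeCompl N))
    {ι : Type u} (x : ι → M₀)
    (hx : LinearIndependent kA (fun i => (1 : kA) ⊗ₜ[A] (LocalizedModule.mk (x i) 1 : Mp)))
    (a : ι →₀ A) (ha : (LocalizedModule.mk (a.sum fun i r => r • x i) 1 : Mp) = 0) :
    ∀ i, algebraMap A A' (a i) = 0 := by
  haveI : Module.Flat A' (LocalizedModule Tsl N) :=
    flat_localizedModule_semiLoc p (maximalIdeal A') N H
  let μ : N →ₗ[A'] LocalizedModule Tsl N := (LocalizedModule.mkLinearMap Tsl N).restrictScalars A'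
  have hμ : ∀ n, μ n = LocalizedModule.mk n 1 := fun n => rfl
  let w : ι → LocalizedModule Tsl N := fun i => μ (g (x i))
  have hsum : ∀ c : ι →₀ A', (c.sum fun i a' => a' • w i) = μ (c.sum fun i a' => a' • g (x i)) := by
    intro c
    rw [Finsupp.sum, Finsupp.sum, map_sum]
    exact Finset.sum_congr rfl fun i _ => (map_smul μ _ _).symm
  have hw : LinearIndependent A' w := by
    apply Module.IsLocalRing.linearIndependent_of_flat
    rw [linearIndependent_iff]
    intro l hl
    obtain ⟨c, rfl⟩ : ∃ c : ι →₀ A', c.mapRange (IsLocalRing.residue A') (map_zero _) = l :=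
      Finsupp.mapRange_surjective _ (map_zero _) IsLocalRing.residue_surjective l
    have h1 : (TensorProduct.mk A' kA' (LocalizedModule Tsl N) 1) (c.sum fun i a' => a' • w i) = 0 := by
      rw [← hl, Finsupp.linearCombination_apply, Finsupp.sum_mapRange_index
        (h := fun i (b : kA') => b • (TensorProduct.mk A' kA' (LocalizedModule Tsl N) 1 ∘ w) i)
        (fun i => zero_smul _ _), Finsupp.sum, Finsupp.sum, map_sum]
      refine Finset.sum_congr rfl fun i _ => ?_
      rw [map_smul, Function.comp_apply, ← algebraMap_smul kA' (c i)]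
      rfl
    have h2 : (c.sum fun i a' => a' • w i) ∈
        (maximalIdeal A' • ⊤ : Submodule A' (LocalizedModule Tsl N)) := by
      rw [← LinearMap.ker_tensorProductMk]; exact h1
    rw [hsum, hμ] at h2
    have h4 := mem_maximalIdeal_of_sum_mem p g hg x hx c h2
    ext i
    rw [Finsupp.mapRange_apply, Finsupp.zero_apply, IsLocalRing.residue_eq_zero_iff]
    exact h4 i
  have hga : ∀ (r : A) (y : M₀), g (r • y) = r • g y := by
    intro r y
    rw [← algebraMap_smul B₀ r y, map_smul, algebraMap_smul]
  have hrel : ((a.mapRange (algebraMap A A') (map_zero _)).sum fun i a' => a' • w i) = 0 := by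
    rw [hsum, Finsupp.sum_mapRange_index (h := fun i (a' : A') => a' • g (x i))
      (fun i => zero_smul _ _)]
    have h1 : (a.sum fun i r => algebraMap A A' r • g (x i)) = g (a.sum fun i r => r • x i) := by
      rw [Finsupp.sum, Finsupp.sum, map_sum]
      refine Finset.sum_congr rfl fun i _ => ?_
      rw [algebraMap_smul, hga]
    rw [h1, hμ]
    obtain ⟨t, ht⟩ := LocalizedModule.mk_eq.1
      (ha.trans (LocalizedModule.zero_mk (1 : p.primeCompl)).symm)
    rw [one_smul, one_smul, smul_zero] at ht
    have ht' : (t : B₀) • (a.sum fun i r => r • x i) = 0 := ht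
    rw [← LocalizedModule.zero_mk (1 : Tsl), LocalizedModule.mk_eq]
    refine ⟨⟨algebraMap B₀ C t, algebraMap_mem_semiLoc p _ t.2⟩, ?_⟩
    rw [one_smul, one_smul, smul_zero]
    change algebraMap B₀ C (t : B₀) • g _ = 0
    rw [algebraMap_smul, ← map_smul, ht', map_zero]
  rw [linearIndependent_iff] at hw
  have h5 := hw (a.mapRange (algebraMap A A') (map_zero _))
    (by rw [Finsupp.linearCombination_apply]; exact hrel)
  intro i
  have h6 := DFunLike.congr_fun h5 i
  rwa [Finsupp.mapRange_apply, Finsupp.zero_apply] at h6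

end Sem


section Assembly

open IsLocalRing

/-- Nakayama for a nilpotent ideal: `N ≤ I • N` forces `N = ⊥`. -/
theorem eq_bot_of_le_smul_of_isNilpotent {A D : Type*} [CommRing A] [AddCommGroup D] [Module A D]
    (I : Ideal A) (hI : IsNilpotent I) (N : Submodule A D) (h : N ≤ I • N) : N = ⊥ := by
  obtain ⟨n, hn⟩ := hI
  have key : ∀ j : ℕ, N ≤ I ^ j • N := by
    intro j
    induction j with
    | zero => rw [pow_zero, Ideal.one_eq_top, Submodule.top_smul]
    | succ j ih =>
      calc N ≤ I ^ j • N := ih
        _ ≤ I ^ j • (I • N) := Submodule.smul_mono le_rfl h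
        _ = I ^ (j + 1) • N := by rw [← Submodule.mul_smul, pow_succ]
  have := key n
  rw [hn, Submodule.zero_eq_bot, Submodule.bot_smul] at this
  exact le_bot_iff.1 this

variable {A B₀ : Type u} [CommRing A] [IsLocalRing A] [CommRing B₀] [Algebra A B₀]
  (p : Ideal B₀) [p.IsPrime]
  (M₀ : Type u) [AddCommGroup M₀] [Module A M₀] [Module B₀ M₀] [IsScalarTower A B₀ M₀]

local notation "kA" => ResidueField A
local notation "Mp" => LocalizedModule p.primeCompl M₀

/-- If every relation between elements of `(M₀)_p` whose classes mod `𝔪_A` are independent is trivial,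
and `𝔪_A` is nilpotent, then `(M₀)_p` is free, hence flat, over `A`. -/
theorem flat_localizedModule_of_relations (hnil : IsNilpotent (maximalIdeal A))
    (REL : ∀ {ι : Type u} (x : ι → M₀),
      LinearIndependent kA (fun i => (1 : kA) ⊗ₜ[A] (LocalizedModule.mk (x i) 1 : Mp)) →
      ∀ a : ι →₀ A, (LocalizedModule.mk (a.sum fun i r => r • x i) 1 : Mp) = 0 → a = 0) :
    Module.Flat A Mp := by
  classical
  let bV := Module.Free.chooseBasis kA (kA ⊗[A] Mp)
  have hsurj : Function.Surjective (TensorProduct.mk A kA Mp 1) :=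
    TensorProduct.mk_surjective A Mp _ IsLocalRing.residue_surjective
  choose v hv using fun j => hsurj (bV j)
  have hker : LinearMap.ker (TensorProduct.mk A kA Mp 1) = maximalIdeal A • ⊤ :=
    LinearMap.ker_tensorProductMk Mp
  let μ : M₀ →ₗ[A] Mp := (LocalizedModule.mkLinearMap p.primeCompl M₀).restrictScalars A
  have hμ : ∀ y, μ y = LocalizedModule.mk y 1 := fun y => rfl
  -- linear independence
  have hli : LinearIndependent A v := by
    rw [linearIndependent_iff]
    intro l hl
    obtain ⟨b₀, hb₀⟩ := IsLocalizedModule.exist_integer_multiples p.primeCompl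
      (LocalizedModule.mkLinearMap p.primeCompl M₀) l.support v
    choose! X hX using hb₀
    let x : ↥l.support → M₀ := fun j => X j.1
    have hxj : ∀ j : ↥l.support, (LocalizedModule.mk (x j) 1 : Mp) = (b₀ : B₀) • v j.1 :=
      fun j => hX j.1 j.2
    -- the action of `b₀` on `k ⊗ M_p` is injective
    obtain ⟨u, hu⟩ := IsLocalization.map_units (Localization.AtPrime p) b₀
    let θ : Mp →ₗ[A] Mp := DistribSMul.toLinearMap A Mp (b₀ : B₀)
    let γ : Mp →ₗ[A] Mp := DistribSMul.toLinearMap A Mp
      ((u⁻¹ : (Localization.AtPrime p)ˣ) : Localization.AtPrime p)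
    have hγθ : γ ∘ₗ θ = LinearMap.id := by
      ext y
      change ((u⁻¹ : (Localization.AtPrime p)ˣ) : Localization.AtPrime p) • ((b₀ : B₀) • y) = y
      rw [← algebraMap_smul (Localization.AtPrime p) (b₀ : B₀) y, smul_smul, ← hu, Units.inv_mul,
        one_smul]
    have hinj : LinearMap.ker (LinearMap.baseChange kA θ) = ⊥ := by
      rw [LinearMap.ker_eq_bot]
      apply Function.LeftInverse.injective (g := LinearMap.baseChange kA γ)
      intro z
      rw [← LinearMap.comp_apply, ← LinearMap.baseChange_comp, hγθ, LinearMap.baseChange_id]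
      rfl
    have hx : LinearIndependent kA
        (fun j : ↥l.support => (1 : kA) ⊗ₜ[A] (LocalizedModule.mk (x j) 1 : Mp)) := by
      have h1 : LinearIndependent kA (fun j : ↥l.support => bV j.1) :=
        bV.linearIndependent.comp _ Subtype.val_injective
      have h2 := h1.map' (LinearMap.baseChange kA θ) hinj
      have hfun : (fun j : ↥l.support => (1 : kA) ⊗ₜ[A] (LocalizedModule.mk (x j) 1 : Mp)) =
          (LinearMap.baseChange kA θ) ∘ (fun j : ↥l.support => bV j.1) := by
        funext j
        rw [Function.comp_apply, ← hv j.1, hxj j]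
        change _ = LinearMap.baseChange kA θ ((1 : kA) ⊗ₜ[A] v j.1)
        rw [LinearMap.baseChange_tmul]
        rfl
      rw [hfun]
      exact h2
    let a : ↥l.support →₀ A := l.subtypeDomain (· ∈ l.support)
    have ha : (LocalizedModule.mk (a.sum fun j r => r • x j) 1 : Mp) = 0 := by
      rw [← hμ, Finsupp.sum, map_sum]
      have h1 : ∀ j ∈ a.support, μ (a j • x j) = (b₀ : B₀) • (a j • v j.1) := by
        intro j _
        rw [map_smul, hμ, hxj j, smul_comm]
      rw [Finset.sum_congr rfl h1, ← Finset.smul_sum]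
      have h2 : ∑ j ∈ a.support, a j • v j.1 = Finsupp.linearCombination A v l := by
        rw [Finsupp.linearCombination_apply]
        exact Finsupp.sum_subtypeDomain_index (h := fun j r => r • v j) (fun _ h => h)
      rw [h2, hl, smul_zero]
    have ha0 := REL x hx a ha
    ext j
    by_cases hj : j ∈ l.support
    · have := DFunLike.congr_fun ha0 ⟨j, hj⟩
      rwa [Finsupp.subtypeDomain_apply, Finsupp.zero_apply] at this
    · rw [Finsupp.notMem_support_iff.1 hj, Finsupp.zero_apply]
  -- spanning
  have hspan : ⊤ ≤ span A (Set.range v) := by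
    set W := span A (Set.range v) with hW
    have h1 : (⊤ : Submodule A (Mp ⧸ W)) ≤ maximalIdeal A • (⊤ : Submodule A (Mp ⧸ W)) := by
      rintro q -
      obtain ⟨y, rfl⟩ := W.mkQ_surjective q
      obtain ⟨c, hc⟩ : ∃ c : _ →₀ A, c.mapRange (IsLocalRing.residue A) (map_zero _) =
          bV.repr ((1 : kA) ⊗ₜ[A] y) :=
        Finsupp.mapRange_surjective _ (map_zero _) IsLocalRing.residue_surjective _
      have h2 : (TensorProduct.mk A kA Mp 1) (Finsupp.linearCombination A v c) =
          (1 : kA) ⊗ₜ[A] y := by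
        rw [← bV.linearCombination_repr ((1 : kA) ⊗ₜ[A] y), ← hc, Finsupp.linearCombination_apply,
          Finsupp.linearCombination_apply, Finsupp.sum_mapRange_index
          (h := fun j (d : kA) => d • bV j) (fun i => zero_smul _ _), Finsupp.sum, Finsupp.sum,
          map_sum]
        refine Finset.sum_congr rfl fun j _ => ?_
        rw [map_smul, hv j, ← algebraMap_smul kA (c j)]
        rfl
      have h3 : y - Finsupp.linearCombination A v c ∈ (maximalIdeal A • ⊤ : Submodule A Mp) := by
        rw [← hker, LinearMap.mem_ker, map_sub, h2]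
        exact sub_self _
      have h4 : W.mkQ y = W.mkQ (y - Finsupp.linearCombination A v c) := by
        rw [map_sub]
        have : W.mkQ (Finsupp.linearCombination A v c) = 0 := by
          rw [Submodule.mkQ_apply, Submodule.Quotient.mk_eq_zero, hW,
            ← Finsupp.range_linearCombination]
          exact ⟨c, rfl⟩
        rw [this, sub_zero]
      rw [h4]
      have h5 := Submodule.mem_map_of_mem (f := W.mkQ) h3
      rw [Submodule.map_smul'', Submodule.map_top, Submodule.range_mkQ] at h5
      exact h5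
    have h6 := eq_bot_of_le_smul_of_isNilpotent _ hnil _ h1
    have : Subsingleton (Mp ⧸ W) := by
      rw [← Submodule.subsingleton_iff A]
      exact subsingleton_of_bot_eq_top h6.symm
    exact (Submodule.Quotient.subsingleton_iff.1 this).ge
  haveI : Module.Free A Mp := Module.Free.of_basis (Module.Basis.mk hli hspan)
  infer_instance

end Assembly

end Groth.Agent.Lib.Helper26.ArtFlat
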