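import Mathlib
import Groth.Agent.Lib.Helper14GeomIrrB
import Groth.Agent.Lib.Helper26ArtFlat

/-!
# Primary residue extensions and non-zero-divisors (helper20)

* `tensor_mul_eq_zero_of_not_isNilpotent` (Lemma Z): if `k` is separably closed in `K`, then every
  non-nilpotent element of `k' ⊗_k K` is a non-zero-divisor.
* `lTensor_injective_of_residue` (Lemma NZD): dévissage from the closed fibre.
* `mem_maximalIdeal_of_smul_sum_mem`: the key independence statement at a single prime `q` over
  `(p, 𝔪')` when `κ(p)` is a primary extension of the residue field of the base.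
-/

set_option autoImplicit false
set_option linter.style.haveILetI false
set_option linter.unusedSectionVars false
universe u
open TensorProduct Polynomial

namespace Groth.Agent.Lib.Helper20.PrimNZD

/-- abstract core: a ring with prime nilradical that is algebraic and torsion-free over a domain:
non-nilpotent elements are non-zero-divisors. -/
theorem mul_eq_zero_of_not_isNilpotent {D R' : Type*} [CommRing D] [IsDomain D] [CommRing R']
    [Algebra D R'] [Algebra.IsAlgebraic D R'] [Module.IsTorsionFree D R']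
    (hnil : (nilradical R').IsPrime) (s : R') (hs : ¬ IsNilpotent s) (z : R') (hz : s * z = 0) :
    z = 0 := by
  obtain ⟨p, hp0, hp⟩ := Algebra.IsAlgebraic.isAlgebraic (R := D) s
  obtain ⟨q, hpq, hq⟩ := Polynomial.exists_eq_pow_rootMultiplicity_mul_and_not_dvd p hp0 0
  rw [C_0, sub_zero] at hpq hq
  have hd : q.coeff 0 ≠ 0 := fun h => hq (Polynomial.X_dvd_iff.mpr h)
  -- aeval s q is nilpotent
  have hqnil : IsNilpotent (aeval s q) := by
    have h1 : s ^ (rootMultiplicity 0 p) * aeval s q = 0 := by
      have h := congrArg (aeval s) hpq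
      rw [map_mul, map_pow, aeval_X, hp] at h
      exact h.symm
    have h2 : s ^ (rootMultiplicity 0 p) * aeval s q ∈ nilradical R' := by
      rw [h1]; exact Ideal.zero_mem _
    rcases hnil.mem_or_mem h2 with h3 | h3
    · exact absurd (mem_nilradical.mp (hnil.mem_of_pow_mem _ h3)) hs
    · exact mem_nilradical.mp h3
  obtain ⟨N, hN⟩ := hqnil
  -- aeval s q = s * g + d₀
  have hdecomp : aeval s q = s * aeval s (divX q) + algebraMap D R' (q.coeff 0) := by
    conv_lhs => rw [← Polynomial.X_mul_divX_add q]
    rw [map_add, map_mul, aeval_X, aeval_C]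
  have hstep : ∀ w : R', s * w = 0 → aeval s q * w = (q.coeff 0) • w := by
    intro w hw
    rw [hdecomp, add_mul, mul_assoc, mul_comm (aeval s (divX q)) w, ← mul_assoc, hw, zero_mul,
      zero_add, Algebra.smul_def]
  have hpow : ∀ n : ℕ, (aeval s q) ^ n * z = (q.coeff 0) ^ n • z := by
    intro n
    induction n with
    | zero => simp
    | succ n ih =>
      rw [pow_succ, mul_assoc, hstep z hz, mul_smul_comm, ih, smul_smul, ← pow_succ']
  have h0 : (q.coeff 0) ^ N • z = 0 := by rw [← hpow, hN, zero_mul]
  have hdN : (q.coeff 0) ^ N ≠ 0 := pow_ne_zero _ hd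
  exact (smul_eq_zero.mp h0).resolve_left hdN

end Groth.Agent.Lib.Helper20.PrimNZD

namespace Groth.Agent.Lib.Helper20.PrimNZD

section domain

variable {k : Type u} [Field k] (K : Type u) [Field K] [Algebra k K] (ι : Type u)

/-- `Frac(k[ι]) ⊗_k K` is a domain. -/
theorem isDomain_fractionRing_mvPolynomial_tensor :
    IsDomain (FractionRing (MvPolynomial ι k) ⊗[k] K) := by
  -- S = k[ι] ⊗ K is a domain
  let S := MvPolynomial ι k ⊗[k] K
  haveI hS : IsDomain S :=
    (((Algebra.TensorProduct.comm k (MvPolynomial ι k) K).trans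
      ((MvPolynomial.algebraTensorAlgEquiv k K).restrictScalars k)).toRingEquiv.toMulEquiv).isDomain
      (MvPolynomial ι K)
  -- localization
  haveI hloc : IsLocalization (Algebra.algebraMapSubmonoid S (nonZeroDivisors (MvPolynomial ι k)))
      (S ⊗[MvPolynomial ι k] FractionRing (MvPolynomial ι k)) :=
    IsLocalization.tensor (FractionRing (MvPolynomial ι k)) (nonZeroDivisors (MvPolynomial ι k))
  have hle : Algebra.algebraMapSubmonoid S (nonZeroDivisors (MvPolynomial ι k)) ≤ nonZeroDivisors S := by
    rintro _ ⟨d, hd, rfl⟩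
    have hinj : Function.Injective (algebraMap (MvPolynomial ι k) S) :=
      Algebra.TensorProduct.includeLeft_injective (R := k) (S := MvPolynomial ι k)
        (A := MvPolynomial ι k) (B := K) (algebraMap k K).injective
    refine mem_nonZeroDivisors_of_ne_zero ?_
    rw [Ne, map_eq_zero_iff _ hinj]
    exact nonZeroDivisors.ne_zero hd
  haveI h1 : IsDomain (S ⊗[MvPolynomial ι k] FractionRing (MvPolynomial ι k)) :=
    IsLocalization.isDomain_of_le_nonZeroDivisors
      (S ⊗[MvPolynomial ι k] FractionRing (MvPolynomial ι k)) hle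
  exact (((Algebra.TensorProduct.cancelBaseChange k (MvPolynomial ι k)
    (FractionRing (MvPolynomial ι k)) (FractionRing (MvPolynomial ι k)) K).symm.toRingEquiv.trans
    (Algebra.TensorProduct.comm (MvPolynomial ι k) (FractionRing (MvPolynomial ι k)) S).toRingEquiv).toMulEquiv).isDomain _

end domain

end Groth.Agent.Lib.Helper20.PrimNZD

namespace Groth.Agent.Lib.Helper20.PrimNZD

open Groth.Agent.Lib.Helper14.GeomIrr

theorem aux_of_intermediateField {k K k' : Type u} [Field k] [Field K] [Field k']
    [Algebra k K] [Algebra k k'] (L : Type u) [Field L] [Algebra k L] [Algebra L k']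
    [IsScalarTower k L k'] [Algebra.IsAlgebraic L k']
    [IsDomain (L ⊗[k] K)]
    (h : ∀ α : K, IsSeparable k α → α ∈ Set.range (algebraMap k K))
    (s z : k' ⊗[k] K) (hs : ¬ IsNilpotent s) (hz : s * z = 0) : z = 0 := by
  -- R' = D ⊗_L k' ≃ k' ⊗_k K
  let e : (L ⊗[k] K) ⊗[L] k' ≃+* k' ⊗[k] K :=
    (Algebra.TensorProduct.comm L (L ⊗[k] K) k').toRingEquiv.trans
      (Algebra.TensorProduct.cancelBaseChange k L k' k' K).toRingEquiv
  have hnil : (nilradical ((L ⊗[k] K) ⊗[L] k')).IsPrime :=
    isPrime_nilradical_of_ringEquiv e (geomIrr_of_forall_isSeparable_mem h k')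
  have hs' : ¬ IsNilpotent (e.symm s) := fun hn => hs (by
    have := hn.map e
    rwa [e.apply_symm_apply] at this)
  have hz' : e.symm s * e.symm z = 0 := by rw [← map_mul, hz, map_zero]
  have := mul_eq_zero_of_not_isNilpotent (D := L ⊗[k] K) hnil (e.symm s) hs' (e.symm z) hz'
  exact e.symm.injective (this.trans (map_zero _).symm)

/-- **Lemma Z**: if `k` is separably closed in `K` (i.e. `K/k` is a primary extension), then for every
field extension `k'/k` the non-nilpotent elements of `k' ⊗_k K` are non-zero-divisors. -/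
theorem tensor_mul_eq_zero_of_not_isNilpotent {k K k' : Type u} [Field k] [Field K] [Field k']
    [Algebra k K] [Algebra k k']
    (h : ∀ α : K, IsSeparable k α → α ∈ Set.range (algebraMap k K))
    (s z : k' ⊗[k] K) (hs : ¬ IsNilpotent s) (hz : s * z = 0) : z = 0 := by
  obtain ⟨ι, x, hx⟩ := exists_isTranscendenceBasis' k k'
  haveI : Algebra.IsAlgebraic (IntermediateField.adjoin k (Set.range x)) k' := hx.isAlgebraic_field
  haveI hD : IsDomain ((IntermediateField.adjoin k (Set.range x)) ⊗[k] K) := by
    haveI := isDomain_fractionRing_mvPolynomial_tensor (k := k) K ι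
    exact ((Algebra.TensorProduct.congr hx.1.aevalEquivField.symm
      (AlgEquiv.refl : K ≃ₐ[k] K)).toRingEquiv.toMulEquiv).isDomain _
  exact aux_of_intermediateField (IntermediateField.adjoin k (Set.range x)) h s z hs hz

end Groth.Agent.Lib.Helper20.PrimNZD


namespace Groth.Agent.Lib.Helper20.PrimNZD

section devissage

variable {B : Type*} [CommRing B]

/-- (S1) for a module killed by a maximal ideal -/
theorem lTensor_injective_of_isTorsionBySet (I : Ideal B) [hI : I.IsMaximal]
    {E : Type*} [AddCommGroup E] [Module B E] (φ : E →ₗ[B] E)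
    (hφ : Function.Injective (LinearMap.lTensor (B ⧸ I) φ))
    (W : Type*) [AddCommGroup W] [Module B W] (hW : Module.IsTorsionBySet B W I) :
    Function.Injective (LinearMap.lTensor W φ) := by
  letI : Field (B ⧸ I) := Ideal.Quotient.field I
  letI : Module (B ⧸ I) W := hW.module
  haveI : IsScalarTower B (B ⧸ I) W := hW.isScalarTower
  let c := TensorProduct.AlgebraTensorModule.cancelBaseChange B (B ⧸ I) (B ⧸ I) W E
  let ψ : (B ⧸ I) ⊗[B] E →ₗ[B ⧸ I] (B ⧸ I) ⊗[B] E :=
    TensorProduct.AlgebraTensorModule.lTensor (B ⧸ I) (B ⧸ I) φ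
  have hψ : Function.Injective ψ := hφ
  have h1 : Function.Injective (LinearMap.lTensor W ψ) :=
    Module.Flat.lTensor_preserves_injective_linearMap (M := W) ψ hψ
  have hcomm : ∀ t, LinearMap.lTensor W φ (c t) = c (LinearMap.lTensor W ψ t) := by
    intro t
    have := TensorProduct.AlgebraTensorModule.lTensor_comp_cancelBaseChange
      (R := B) (A := B ⧸ I) (B := B ⧸ I) (M := W) (N := E) (Q := E) φ
    exact congrArg (fun f => f t) this
  intro y y' hyy'
  obtain ⟨t, rfl⟩ := c.surjective y
  obtain ⟨t', rfl⟩ := c.surjective y'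
  rw [hcomm, hcomm] at hyy'
  rw [h1 (c.injective hyy')]

/-- (D) dévissage along a surjection -/
theorem lTensor_injective_of_exact {E : Type*} [AddCommGroup E] [Module B E] [Module.Flat B E]
    (φ : E →ₗ[B] E) {W W'' : Type*} [AddCommGroup W] [Module B W] [AddCommGroup W''] [Module B W'']
    (π : W →ₗ[B] W'') (hπ : Function.Surjective π)
    (h1 : Function.Injective (LinearMap.lTensor (LinearMap.ker π) φ))
    (h2 : Function.Injective (LinearMap.lTensor W'' φ)) :
    Function.Injective (LinearMap.lTensor W φ) := by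
  rw [injective_iff_map_eq_zero]
  intro y hy
  have hex : Function.Exact (LinearMap.ker π).subtype π := LinearMap.exact_subtype_ker_map π
  have hex' := rTensor_exact E hex hπ
  -- image in W'' ⊗ E vanishes
  have h3 : LinearMap.rTensor E π y = 0 := by
    apply h2
    rw [map_zero, ← LinearMap.comp_apply, LinearMap.lTensor_comp_rTensor,
      ← LinearMap.rTensor_comp_lTensor, LinearMap.comp_apply, hy, map_zero]
  obtain ⟨y', rfl⟩ := (hex' y).mp h3
  have hinj : Function.Injective (LinearMap.rTensor E (LinearMap.ker π).subtype) :=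
    Module.Flat.rTensor_preserves_injective_linearMap _ (Submodule.injective_subtype _)
  have h4 : LinearMap.lTensor (LinearMap.ker π) φ y' = 0 := by
    apply hinj
    rw [map_zero, ← LinearMap.comp_apply, LinearMap.rTensor_comp_lTensor,
      ← LinearMap.lTensor_comp_rTensor, LinearMap.comp_apply, hy]
  rw [h1 (h4.trans (map_zero _).symm), map_zero]

/-- (S2) injectivity on all truncations `V / I^r V`. -/
theorem lTensor_injective_truncation (I : Ideal B) [hI : I.IsMaximal]
    {E : Type*} [AddCommGroup E] [Module B E] [Module.Flat B E] (φ : E →ₗ[B] E)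
    (hφ : Function.Injective (LinearMap.lTensor (B ⧸ I) φ))
    (V : Type*) [AddCommGroup V] [Module B V] (r : ℕ) :
    Function.Injective (LinearMap.lTensor (V ⧸ (I ^ r • ⊤ : Submodule B V)) φ) := by
  induction r with
  | zero =>
    haveI : Subsingleton (V ⧸ (I ^ 0 • ⊤ : Submodule B V)) := by
      rw [pow_zero, Ideal.one_eq_top, Submodule.top_smul]
      exact Submodule.Quotient.subsingleton_iff.mpr rfl
    haveI : Subsingleton ((V ⧸ (I ^ 0 • ⊤ : Submodule B V)) ⊗[B] E) := inferInstance
    exact Function.injective_of_subsingleton _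
  | succ r ih =>
    have hle : (I ^ (r + 1) • ⊤ : Submodule B V) ≤ I ^ r • ⊤ :=
      Submodule.smul_mono_left (Ideal.pow_le_pow_right (Nat.le_succ r))
    refine lTensor_injective_of_exact φ (Submodule.factor hle) (Submodule.factor_surjective hle)
      ?_ ih
    refine lTensor_injective_of_isTorsionBySet I φ hφ _ ?_
    rintro ⟨q, hq⟩ ⟨a, ha⟩
    apply Subtype.ext
    change a • q = 0
    obtain ⟨v, rfl⟩ := Submodule.mkQ_surjective _ q
    rw [LinearMap.mem_ker, Submodule.factor_mk, Submodule.mkQ_apply,
      Submodule.Quotient.mk_eq_zero] at hq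
    rw [← map_smul, Submodule.mkQ_apply, Submodule.Quotient.mk_eq_zero, pow_succ', Submodule.mul_smul]
    exact Submodule.smul_mem_smul ha hq

/-- (S3) separatedness of `V ⊗ E` for `E` free, `V` finite over a Noetherian local ring. -/
theorem eq_zero_of_forall_rTensor_mkQ_eq_zero [IsLocalRing B] [IsNoetherianRing B]
    {E : Type*} [AddCommGroup E] [Module B E] [Module.Free B E]
    (V : Type*) [AddCommGroup V] [Module B V] [Module.Finite B V] (y : V ⊗[B] E)
    (hy : ∀ r : ℕ, LinearMap.rTensor E
      (Submodule.mkQ (IsLocalRing.maximalIdeal B ^ r • ⊤ : Submodule B V)) y = 0) : y = 0 := by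
  let 𝒞 := Module.Free.chooseBasis B E
  have hnat : ∀ {V' : Type _} [AddCommGroup V'] [Module B V'] (f : V →ₗ[B] V') (t : V ⊗[B] E) (j),
      TensorProduct.equivFinsuppOfBasisRight 𝒞 (LinearMap.rTensor E f t) j =
        f (TensorProduct.equivFinsuppOfBasisRight 𝒞 t j) := by
    intro V' _ _ f t j
    induction t using TensorProduct.induction_on with
    | zero => simp
    | tmul v e =>
      rw [LinearMap.rTensor_tmul, TensorProduct.equivFinsuppOfBasisRight_apply_tmul_apply,
        TensorProduct.equivFinsuppOfBasisRight_apply_tmul_apply, map_smul]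
    | add t t' h h' => rw [map_add, map_add, Finsupp.add_apply, h, h', map_add, Finsupp.add_apply, map_add]
  apply (TensorProduct.equivFinsuppOfBasisRight 𝒞).injective
  rw [map_zero]
  ext j
  rw [Finsupp.zero_apply]
  have hmem : TensorProduct.equivFinsuppOfBasisRight 𝒞 y j ∈
      (⨅ i : ℕ, IsLocalRing.maximalIdeal B ^ i • ⊤ : Submodule B V) := by
    rw [Submodule.mem_iInf]
    intro r
    have := hnat (Submodule.mkQ (IsLocalRing.maximalIdeal B ^ r • ⊤ : Submodule B V)) y j
    rw [hy r, map_zero, Finsupp.zero_apply] at this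
    rw [← Submodule.Quotient.mk_eq_zero, ← Submodule.mkQ_apply]
    exact this.symm
  rw [Ideal.iInf_pow_smul_eq_bot_of_isLocalRing _ (Ideal.IsPrime.ne_top inferInstance)] at hmem
  exact hmem

/-- **Lemma NZD**: over a Noetherian local ring `B`, for a free module `E` with an endomorphism `φ`
which is injective modulo the maximal ideal, `V ⊗ φ` is injective for every finite `V`. -/
theorem lTensor_injective_of_residue [IsLocalRing B] [IsNoetherianRing B]
    {E : Type*} [AddCommGroup E] [Module B E] [Module.Free B E] (φ : E →ₗ[B] E)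
    (hφ : Function.Injective (LinearMap.lTensor (B ⧸ IsLocalRing.maximalIdeal B) φ))
    (V : Type*) [AddCommGroup V] [Module B V] [Module.Finite B V] :
    Function.Injective (LinearMap.lTensor V φ) := by
  rw [injective_iff_map_eq_zero]
  intro y hy
  apply eq_zero_of_forall_rTensor_mkQ_eq_zero V y
  intro r
  apply lTensor_injective_truncation (IsLocalRing.maximalIdeal B) φ hφ V r
  rw [map_zero, ← LinearMap.comp_apply, LinearMap.lTensor_comp_rTensor,
    ← LinearMap.rTensor_comp_lTensor, LinearMap.comp_apply, hy, map_zero]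

end devissage

end Groth.Agent.Lib.Helper20.PrimNZD


namespace Groth.Agent.Lib.Helper20.PrimNZD

section keyabs

open IsLocalRing

variable {k k' : Type u} [Field k] [Field k'] [Algebra k k']
  {Bq : Type u} [CommRing Bq] [IsLocalRing Bq] [IsNoetherianRing Bq] [Algebra k Bq]

/-- the residue map `Bq ⊗ k' → (Bq/n) ⊗ k'` -/
noncomputable def resMapE : Bq ⊗[k] k' →ₐ[k] (Bq ⧸ maximalIdeal Bq) ⊗[k] k' :=
  Algebra.TensorProduct.map (Ideal.Quotient.mkₐ k (maximalIdeal Bq)) (AlgHom.id k k')

theorem smul_eq_zero_of_not_isNilpotent_resMapE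
    (hprim : ∀ α : Bq ⧸ maximalIdeal Bq, IsSeparable k α →
      α ∈ Set.range (algebraMap k (Bq ⧸ maximalIdeal Bq)))
    (e : Bq ⊗[k] k') (he : ¬ IsNilpotent (resMapE (k := k) (k' := k') (Bq := Bq) e))
    (V : Type u) [AddCommGroup V] [Module Bq V] [Module.Finite Bq V]
    (y : (Bq ⊗[k] k') ⊗[Bq] V) (hy : e • y = 0) : y = 0 := by
  letI : Field (Bq ⧸ maximalIdeal Bq) := Ideal.Quotient.field _
  -- multiplication by e
  let φ : Bq ⊗[k] k' →ₗ[Bq] Bq ⊗[k] k' := LinearMap.mulLeft Bq e
  have hφ : Function.Injective (LinearMap.lTensor (Bq ⧸ maximalIdeal Bq) φ) := by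
    let c := Algebra.TensorProduct.cancelBaseChange k Bq (Bq ⧸ maximalIdeal Bq)
      (Bq ⧸ maximalIdeal Bq) k'
    have h1 : ∀ t : (Bq ⧸ maximalIdeal Bq) ⊗[Bq] (Bq ⊗[k] k'),
        LinearMap.lTensor (Bq ⧸ maximalIdeal Bq) φ t = (1 ⊗ₜ e) * t := by
      intro t
      induction t using TensorProduct.induction_on with
      | zero => simp
      | add t t' h h' => rw [map_add, h, h', mul_add]
      | tmul a x =>
        rw [LinearMap.lTensor_tmul, Algebra.TensorProduct.tmul_mul_tmul, one_mul]
        rfl
    have h2 : ∀ e' : Bq ⊗[k] k', c (1 ⊗ₜ e') = resMapE (k := k) (k' := k') (Bq := Bq) e' := by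
      intro e'
      induction e' using TensorProduct.induction_on with
      | zero => simp
      | add x x' h h' => rw [TensorProduct.tmul_add, map_add, h, h', map_add]
      | tmul b c' =>
        rw [Algebra.TensorProduct.cancelBaseChange_tmul]
        simp only [resMapE, Algebra.TensorProduct.map_tmul, AlgHom.coe_id, id_eq,
          Ideal.Quotient.mkₐ_eq_mk]
        rw [Algebra.smul_def, mul_one]
        rfl
    rw [injective_iff_map_eq_zero]
    intro t ht
    have h3 : resMapE (k := k) (k' := k') (Bq := Bq) e * c t = 0 := by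
      rw [← h2, ← map_mul, ← h1, ht, map_zero]
    let σ := Algebra.TensorProduct.comm k (Bq ⧸ maximalIdeal Bq) k'
    have h4 : σ (c t) = 0 := by
      refine tensor_mul_eq_zero_of_not_isNilpotent hprim
        (σ (resMapE (k := k) (k' := k') (Bq := Bq) e)) (σ (c t)) ?_ ?_
      · intro hn
        apply he
        have := hn.map σ.symm
        rwa [σ.symm_apply_apply] at this
      · rw [← map_mul, h3, map_zero]
    have h5 : c t = 0 := σ.injective (h4.trans (map_zero σ).symm)
    exact c.injective (h5.trans (map_zero c).symm)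
  -- apply Lemma NZD and flip
  have hinj := lTensor_injective_of_residue φ hφ V
  have hflip : ∀ y : (Bq ⊗[k] k') ⊗[Bq] V,
      TensorProduct.comm Bq (Bq ⊗[k] k') V (e • y) =
        LinearMap.lTensor V φ (TensorProduct.comm Bq (Bq ⊗[k] k') V y) := by
    intro y
    induction y using TensorProduct.induction_on with
    | zero => simp
    | add y y' h h' => rw [smul_add, map_add, h, h', map_add, map_add]
    | tmul x v =>
      rw [TensorProduct.smul_tmul', TensorProduct.comm_tmul, TensorProduct.comm_tmul,
        LinearMap.lTensor_tmul]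
      rfl
  have h6 := hflip y
  rw [hy, map_zero] at h6
  have h7 := hinj (h6.symm.trans (map_zero _).symm)
  exact (TensorProduct.comm Bq (Bq ⊗[k] k') V).injective (h7.trans (map_zero _).symm)

omit [IsLocalRing Bq] [IsNoetherianRing Bq] in
theorem eq_zero_of_sum_tmul_eq_zero {ι : Type*} (V : Type u) [AddCommGroup V] [Module Bq V]
    [Module k V] [IsScalarTower k Bq V]
    (v : ι → V) (hv : LinearIndependent k v) (c : ι →₀ k')
    (h : (c.sum fun i a => (((1 : Bq) ⊗ₜ[k] a) ⊗ₜ[Bq] v i : (Bq ⊗[k] k') ⊗[Bq] V)) = 0) :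
    c = 0 := by
  let Ψ : (Bq ⊗[k] k') ⊗[Bq] V →+ k' ⊗[k] V :=
    ((TensorProduct.comm k V k').toLinearMap.toAddMonoidHom.comp
      (TensorProduct.AlgebraTensorModule.cancelBaseChange k Bq Bq V k').toLinearMap.toAddMonoidHom).comp
      (TensorProduct.comm Bq (Bq ⊗[k] k') V).toLinearMap.toAddMonoidHom
  have hΨ : ∀ (a : k') (w : V), Ψ (((1 : Bq) ⊗ₜ[k] a) ⊗ₜ[Bq] w) = a ⊗ₜ[k] w := by
    intro a w
    change TensorProduct.comm k V k' (TensorProduct.AlgebraTensorModule.cancelBaseChange k Bq Bq V k'
      (TensorProduct.comm Bq (Bq ⊗[k] k') V (((1 : Bq) ⊗ₜ[k] a) ⊗ₜ[Bq] w))) = _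
    rw [TensorProduct.comm_tmul, TensorProduct.AlgebraTensorModule.cancelBaseChange_tmul, one_smul,
      TensorProduct.comm_tmul]
  have hli : LinearIndependent k' (fun i => (1 : k') ⊗ₜ[k] v i) :=
    Module.Flat.linearIndependent_one_tmul (S := k') hv
  rw [linearIndependent_iff] at hli
  apply hli
  rw [Finsupp.linearCombination_apply]
  have h2 := congrArg Ψ h
  rw [map_zero, Finsupp.sum, map_sum] at h2
  rw [Finsupp.sum, ← h2]
  refine Finset.sum_congr rfl fun i _ => ?_
  rw [hΨ, TensorProduct.smul_tmul', smul_eq_mul, mul_one]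

end keyabs

end Groth.Agent.Lib.Helper20.PrimNZD


namespace Groth.Agent.Lib.Helper20.PrimNZD
open IsLocalRing

/-- a ring homomorphism to a field is *primary* if every element of the field which is a root of a
polynomial with separable image lies in the image. For a field extension this says that the
extension is primary (the base is separably closed in the extension). -/
def IsPrimaryHom {A F : Type*} [CommRing A] [Field F] (ψ : A →+* F) : Prop :=
  ∀ α : F, (∃ P : Polynomial A, (P.map ψ).Separable ∧ Polynomial.eval₂ ψ α P = 0) → α ∈ ψ.range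

section resfield

variable {A B₀ : Type u} [CommRing A] [CommRing B₀] [IsLocalRing A] [Algebra A B₀]
  (p : Ideal B₀) [p.IsPrime]

/-- the fibre ring `(B₀)_p / 𝔪_A (B₀)_p` -/
abbrev FibLoc : Type u :=
  Localization.AtPrime p ⧸ (maximalIdeal A).map (algebraMap A (Localization.AtPrime p))

example : CommRing (FibLoc (A := A) p) := inferInstance
example [IsNoetherianRing B₀] : IsNoetherianRing (FibLoc (A := A) p) := inferInstance
noncomputable instance fibLocAlgebra : Algebra (ResidueField A) (FibLoc (A := A) p) :=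
  (inferInstance : Algebra (A ⧸ maximalIdeal A)
    (Localization.AtPrime p ⧸ (maximalIdeal A).map (algebraMap A (Localization.AtPrime p))))
example : Algebra A (FibLoc (A := A) p) := inferInstance
instance : IsScalarTower A (ResidueField A) (FibLoc (A := A) p) :=
  (inferInstance : IsScalarTower A (A ⧸ maximalIdeal A)
    (Localization.AtPrime p ⧸ (maximalIdeal A).map (algebraMap A (Localization.AtPrime p))))
variable [IsScalarTower A B₀ (Localization.AtPrime p)]

theorem map_maximalIdeal_le (hpm : p.comap (algebraMap A B₀) = maximalIdeal A) :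
    (maximalIdeal A).map (algebraMap A (Localization.AtPrime p)) ≤
      maximalIdeal (Localization.AtPrime p) := by
  rw [Ideal.map_le_iff_le_comap, ← hpm]
  intro a ha
  rw [Ideal.mem_comap] at ha ⊢
  rw [IsScalarTower.algebraMap_apply A B₀ (Localization.AtPrime p)]
  exact (IsLocalization.AtPrime.to_map_mem_maximal_iff (Localization.AtPrime p) p _).mpr ha

theorem isLocalRing_fibLoc (hpm : p.comap (algebraMap A B₀) = maximalIdeal A) :
    IsLocalRing (FibLoc (A := A) p) := by
  haveI : Nontrivial (FibLoc (A := A) p) := by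
    apply Ideal.Quotient.nontrivial_iff.mpr
    intro h
    have := map_maximalIdeal_le p hpm
    rw [h] at this
    exact (Ideal.IsPrime.ne_top (inferInstance : (maximalIdeal (Localization.AtPrime p)).IsPrime))
      (top_le_iff.mp this)
  exact IsLocalRing.of_surjective' (Ideal.Quotient.mk _) Ideal.Quotient.mk_surjective

section lift

variable {F : Type u} [Field F] (χ : B₀ →+* F) (hχ : RingHom.ker χ = p)

include hχ in
theorem isUnit_of_notMem (y : p.primeCompl) : IsUnit (χ y) := by
  rw [isUnit_iff_ne_zero, Ne, ← RingHom.mem_ker, hχ]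
  exact y.2

/-- step 1: the lift to the localization -/
noncomputable def liftLoc : Localization.AtPrime p →+* F :=
  IsLocalization.lift (M := p.primeCompl) (g := χ) (isUnit_of_notMem p χ hχ)

theorem liftLoc_algebraMap (b : B₀) : liftLoc p χ hχ (algebraMap B₀ _ b) = χ b :=
  IsLocalization.lift_eq _ b

theorem liftLoc_eq_zero_of_mem (y : Localization.AtPrime p)
    (hy : y ∈ maximalIdeal (Localization.AtPrime p)) : liftLoc p χ hχ y = 0 := by
  obtain ⟨b, t, rfl⟩ := IsLocalization.exists_mk'_eq p.primeCompl y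
  have h1 : b ∈ p := (IsLocalization.AtPrime.mk'_mem_maximal_iff (Localization.AtPrime p) p b t).mp hy
  have h2 : liftLoc p χ hχ (IsLocalization.mk' _ b t) * χ t = χ b := by
    rw [← liftLoc_algebraMap p χ hχ (t : B₀), ← map_mul, IsLocalization.mk'_spec,
      liftLoc_algebraMap]
  have h3 : χ b = 0 := by rw [← RingHom.mem_ker, hχ]; exact h1
  rw [h3] at h2
  exact (mul_eq_zero.mp h2).resolve_right (isUnit_of_notMem p χ hχ t).ne_zero

/-- step 2: the lift to the fibre ring -/
noncomputable def liftFib (hpm : p.comap (algebraMap A B₀) = maximalIdeal A) :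
    FibLoc (A := A) p →+* F :=
  Ideal.Quotient.lift _ (liftLoc p χ hχ) (fun a ha =>
    liftLoc_eq_zero_of_mem p χ hχ a (map_maximalIdeal_le p hpm ha))

theorem liftFib_mk (hpm : p.comap (algebraMap A B₀) = maximalIdeal A) (y : Localization.AtPrime p) :
    liftFib p χ hχ hpm (Ideal.Quotient.mk _ y) = liftLoc p χ hχ y :=
  Ideal.Quotient.lift_mk _ _ _

/-- step 3: the lift to the residue field of the fibre ring -/
noncomputable def liftRes (hpm : p.comap (algebraMap A B₀) = maximalIdeal A)
    [IsLocalRing (FibLoc (A := A) p)] :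
    FibLoc (A := A) p ⧸ maximalIdeal (FibLoc (A := A) p) →+* F :=
  Ideal.Quotient.lift _ (liftFib p χ hχ hpm) (fun z hz => by
    obtain ⟨y, rfl⟩ := Ideal.Quotient.mk_surjective z
    rw [liftFib_mk]
    apply liftLoc_eq_zero_of_mem
    rw [mem_maximalIdeal, mem_nonunits_iff]
    intro hy
    exact hz (hy.map (Ideal.Quotient.mk _)))

theorem liftRes_mk (hpm : p.comap (algebraMap A B₀) = maximalIdeal A)
    [IsLocalRing (FibLoc (A := A) p)] (b : B₀) :
    liftRes p χ hχ hpm (Ideal.Quotient.mk _ (Ideal.Quotient.mk _ (algebraMap B₀ _ b))) = χ b := by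
  unfold liftRes
  rw [Ideal.Quotient.lift_mk, liftFib_mk, liftLoc_algebraMap]

include hχ in
theorem primary_fibRes (hpm : p.comap (algebraMap A B₀) = maximalIdeal A)
    [IsLocalRing (FibLoc (A := A) p)]
    (hprim : IsPrimaryHom (χ.comp (algebraMap A B₀)))
    (α : FibLoc (A := A) p ⧸ maximalIdeal (FibLoc (A := A) p))
    (hα : IsSeparable (ResidueField A) α) :
    α ∈ Set.range (algebraMap (ResidueField A)
      (FibLoc (A := A) p ⧸ maximalIdeal (FibLoc (A := A) p))) := by
  letI : Field (FibLoc (A := A) p ⧸ maximalIdeal (FibLoc (A := A) p)) := Ideal.Quotient.field _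
  let ρ := liftRes p χ hχ hpm
  let j : ResidueField A →+* (FibLoc (A := A) p ⧸ maximalIdeal (FibLoc (A := A) p)) :=
    algebraMap _ _
  have hcomp : ∀ a : A, ρ (j (residue A a)) = χ (algebraMap A B₀ a) := by
    intro a
    have h1 : j (residue A a) = Ideal.Quotient.mk _ (Ideal.Quotient.mk _
        (algebraMap B₀ (Localization.AtPrime p) (algebraMap A B₀ a))) := by
      rw [← IsScalarTower.algebraMap_apply A B₀ (Localization.AtPrime p)]
      rfl
    rw [h1]
    exact liftRes_mk p χ hχ hpm _
  have hcomp' : (ρ.comp j).comp (residue A) = χ.comp (algebraMap A B₀) := RingHom.ext hcomp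
  obtain ⟨P, hP⟩ := Polynomial.map_surjective (residue A) residue_surjective
    (minpoly (ResidueField A) α)
  have hsep : (P.map (χ.comp (algebraMap A B₀))).Separable := by
    rw [← hcomp', ← Polynomial.map_map, hP, ← Polynomial.map_map]
    exact (Polynomial.Separable.map hα).map
  have heval : Polynomial.eval₂ (χ.comp (algebraMap A B₀)) (ρ α) P = 0 := by
    rw [← hcomp', ← Polynomial.eval_map, ← Polynomial.map_map, hP, ← Polynomial.map_map,
      Polynomial.eval_map, Polynomial.eval₂_hom (p := (minpoly (ResidueField A) α).map j),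
      Polynomial.eval_map]
    have : Polynomial.eval₂ j α (minpoly (ResidueField A) α) = 0 := minpoly.aeval _ α
    rw [this, map_zero]
  obtain ⟨a, ha⟩ := hprim (ρ α) ⟨P, hsep, heval⟩
  refine ⟨residue A a, ?_⟩
  apply ρ.injective
  rw [← ha]
  exact hcomp a

end lift

end resfield


section key

open Groth.Agent.Lib.Helper26.ArtFlat

variable {A A' B₀ C : Type u} [CommRing A] [CommRing A'] [CommRing B₀] [CommRing C]
  [IsLocalRing A] [IsLocalRing A'] [Algebra A A'] [IsLocalHom (algebraMap A A')]
  [Algebra A B₀] [Algebra A C] [Algebra A' C] [Algebra B₀ C] [IsScalarTower A A' C]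
  [IsScalarTower A B₀ C] [Algebra.IsPushout A A' B₀ C]
  (p : Ideal B₀) [p.IsPrime]

local notation "kA" => ResidueField A
local notation "kA'" => ResidueField A'
local notation "Bb" => FibLoc (A := A) p
local notation "EE" => FibLoc (A := A) p ⊗[ResidueField A] ResidueField A'

/-- the map `A' → E` -/
noncomputable def thetaLeft : A' →ₐ[A] EE :=
  ((Algebra.TensorProduct.includeRight : kA' →ₐ[kA] EE).restrictScalars A).comp
    (IsScalarTower.toAlgHom A A' kA')

/-- the map `B₀ → E` -/
noncomputable def thetaRight : B₀ →ₐ[A] EE :=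
  (IsScalarTower.toAlgHom A Bb EE).comp (IsScalarTower.toAlgHom A B₀ Bb)

variable (C) in
/-- the map `C → E = (B₀)_p/𝔪 ⊗ k'` -/
noncomputable def theta : C →ₐ[A] EE :=
  Algebra.pushoutDesc C (thetaLeft (A' := A') p) (thetaRight (A' := A') p)
    (fun x y => by
      letI : CommRing EE := inferInstance
      exact mul_comm (thetaLeft (A' := A') p x) (thetaRight (A' := A') p y))

theorem theta_algebraMap_left (a' : A') :
    theta (A := A) (A' := A') C p (algebraMap A' C a') = (1 : Bb) ⊗ₜ[kA] (residue A' a') := by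
  unfold theta
  rw [Algebra.pushoutDesc_left]
  rfl

theorem theta_algebraMap_right (b : B₀) :
    theta (A := A) (A' := A') C p (algebraMap B₀ C b) =
      (Ideal.Quotient.mk _ (algebraMap B₀ (Localization.AtPrime p) b) : Bb) ⊗ₜ[kA] (1 : kA') := by
  unfold theta
  rw [Algebra.pushoutDesc_right]
  rfl

section main

variable [IsNoetherianRing B₀]
  {M₀ : Type u} [AddCommGroup M₀] [Module A M₀] [Module B₀ M₀] [IsScalarTower A B₀ M₀]
  [Module.Finite B₀ M₀]

local notation "Mp" => LocalizedModule p.primeCompl M₀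
local notation "Rp" => Localization.AtPrime p
local notation "II" => Ideal.map (algebraMap A (Localization.AtPrime p)) (maximalIdeal A)
local notation "Vb" => LocalizedModule p.primeCompl M₀ ⧸
    (Ideal.map (algebraMap A (Localization.AtPrime p)) (maximalIdeal A) • ⊤ :
      Submodule (Localization.AtPrime p) (LocalizedModule p.primeCompl M₀))

omit [IsLocalRing A'] [Algebra A A'] [IsNoetherianRing B₀] [Module.Finite B₀ M₀] in
theorem smul_mem_of_mem_map (r : Rp) (hr : r ∈ II) (y : Mp) :
    r • y ∈ (maximalIdeal A • ⊤ : Submodule A Mp) := by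
  induction hr using Submodule.span_induction generalizing y with
  | mem r hr =>
    obtain ⟨a, ha, rfl⟩ := hr
    rw [algebraMap_smul]
    exact Submodule.smul_mem_smul ha trivial
  | zero => rw [zero_smul]; exact Submodule.zero_mem _
  | add r r' _ _ h h' => rw [add_smul]; exact Submodule.add_mem _ (h y) (h' y)
  | smul ρ r _ h =>
    rw [smul_eq_mul, mul_comm, mul_smul]
    exact h (ρ • y)

omit [IsLocalRing A'] [Algebra A A'] [IsNoetherianRing B₀] [Module.Finite B₀ M₀] in
theorem mem_smul_top_of_mem (y : Mp)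
    (hy : y ∈ (II • ⊤ : Submodule Rp Mp)) : y ∈ (maximalIdeal A • ⊤ : Submodule A Mp) := by
  refine Submodule.smul_induction_on hy ?_ ?_
  · intro r hr z _
    exact smul_mem_of_mem_map p r hr z
  · intro z z' hz hz'
    exact Submodule.add_mem _ hz hz'

omit [IsLocalRing A'] [Algebra A A'] [IsNoetherianRing B₀] [Module.Finite B₀ M₀] in
theorem linearIndependent_vbar {ι : Type*} (x : ι → M₀)
    (hx : LinearIndependent kA (fun i => (1 : kA) ⊗ₜ[A] (LocalizedModule.mk (x i) 1 : Mp))) :
    letI : Module kA Vb := Module.compHom Vb (algebraMap kA Bb)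
    LinearIndependent kA (fun i => (Submodule.Quotient.mk (LocalizedModule.mk (x i) 1 : Mp) : Vb)) := by
  letI : Module kA Vb := Module.compHom Vb (algebraMap kA Bb)
  have hsm : ∀ (a : A) (y : Mp), (residue A a) • (Submodule.Quotient.mk y : Vb) =
      Submodule.Quotient.mk (a • y) := by
    intro a y
    change (algebraMap kA Bb (residue A a)) • (Submodule.Quotient.mk y : Vb) = _
    have h1 : algebraMap kA Bb (residue A a) = Ideal.Quotient.mk _ (algebraMap A Rp a) := rfl
    rw [h1, ← algebraMap_smul Rp a y]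
    rfl
  rw [linearIndependent_iff]
  intro l hl
  obtain ⟨a, rfl⟩ : ∃ a : ι →₀ A, a.mapRange (residue A) (map_zero _) = l :=
    Finsupp.mapRange_surjective _ (map_zero _) residue_surjective l
  rw [Finsupp.linearCombination_apply, Finsupp.sum_mapRange_index
    (h := fun i (r : kA) => r • (Submodule.Quotient.mk (LocalizedModule.mk (x i) 1 : Mp) : Vb))
    (fun i => zero_smul _ _)] at hl
  have h2 : (Submodule.Quotient.mk (a.sum fun i r => r • (LocalizedModule.mk (x i) 1 : Mp)) : Vb) = 0 := by
    rw [← hl, Finsupp.sum, Finsupp.sum]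
    rw [← Submodule.mkQ_apply, map_sum]
    refine Finset.sum_congr rfl fun i _ => ?_
    rw [Submodule.mkQ_apply, hsm]
  rw [Submodule.Quotient.mk_eq_zero] at h2
  have h3 := mem_smul_top_of_mem p _ h2
  have hker : LinearMap.ker (TensorProduct.mk A kA Mp 1) = maximalIdeal A • ⊤ :=
    LinearMap.ker_tensorProductMk Mp
  rw [← hker, LinearMap.mem_ker] at h3
  rw [linearIndependent_iff] at hx
  apply hx
  rw [Finsupp.linearCombination_apply, Finsupp.sum_mapRange_index
    (h := fun i (r : kA) => r • ((1 : kA) ⊗ₜ[A] (LocalizedModule.mk (x i) 1 : Mp)))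
    (fun i => zero_smul _ _)]
  refine Eq.trans ?_ h3
  rw [Finsupp.sum, Finsupp.sum, map_sum]
  refine Finset.sum_congr rfl fun i _ => ?_
  rw [map_smul]
  change residue A (a i) • ((1 : kA) ⊗ₜ[A] (LocalizedModule.mk (x i) 1 : Mp)) =
    a i • ((1 : kA) ⊗ₜ[A] (LocalizedModule.mk (x i) 1 : Mp))
  rw [TensorProduct.smul_tmul', TensorProduct.smul_tmul', smul_eq_mul, mul_one, Algebra.smul_def,
    mul_one]
  rfl

section nilp

variable (q : Ideal C) [q.IsPrime]

include q in
theorem comap_eq_maximalIdeal (hq1 : q.comap (algebraMap B₀ C) = p)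
    (hq2 : q.comap (algebraMap A' C) = maximalIdeal A') :
    p.comap (algebraMap A B₀) = maximalIdeal A := by
  rw [← hq1, Ideal.comap_comap, ← IsScalarTower.algebraMap_eq, IsScalarTower.algebraMap_eq A A' C,
    ← Ideal.comap_comap, hq2]
  exact ((IsLocalRing.local_hom_TFAE (algebraMap A A')).out 0 4).mp
    (inferInstance : IsLocalHom (algebraMap A A'))

theorem not_isNilpotent_resMapE_theta (hq1 : q.comap (algebraMap B₀ C) = p)
    (hq2 : q.comap (algebraMap A' C) = maximalIdeal A') [IsLocalRing Bb] (s : C) (hs : s ∉ q) :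
    ¬ IsNilpotent (resMapE (k := kA) (k' := kA') (Bq := Bb) (theta (A := A) (A' := A') C p s)) := by
  have hpm : p.comap (algebraMap A B₀) = maximalIdeal A := comap_eq_maximalIdeal p q hq1 hq2
  let F' := FractionRing (C ⧸ q)
  let π : C →+* F' := (algebraMap (C ⧸ q) F').comp (Ideal.Quotient.mk q)
  have hπ : ∀ c : C, π c = 0 ↔ c ∈ q := by
    intro c
    change algebraMap (C ⧸ q) F' (Ideal.Quotient.mk q c) = 0 ↔ _
    rw [map_eq_zero_iff _ (IsFractionRing.injective (C ⧸ q) F'), Ideal.Quotient.eq_zero_iff_mem]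
  let χ' : B₀ →+* F' := π.comp (algebraMap B₀ C)
  have hχ' : RingHom.ker χ' = p := by
    ext b
    rw [RingHom.mem_ker, ← hq1, Ideal.mem_comap]
    exact hπ _
  let ρ' := liftRes p χ' hχ' hpm
  let κ' : kA' →+* F' := Ideal.Quotient.lift (maximalIdeal A') (π.comp (algebraMap A' C)) (by
    intro a' ha'
    rw [← hq2, Ideal.mem_comap] at ha'
    exact (hπ _).mpr ha')
  letI : Field (Bb ⧸ maximalIdeal Bb) := Ideal.Quotient.field _
  letI algF : Algebra kA F' := (ρ'.comp (algebraMap kA (Bb ⧸ maximalIdeal Bb))).toAlgebra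
  let ρa : (Bb ⧸ maximalIdeal Bb) →ₐ[kA] F' := { ρ' with commutes' := fun r => rfl }
  have hκcomm : ∀ r : kA, κ' (algebraMap kA kA' r) = algebraMap kA F' r := by
    intro r
    obtain ⟨a, rfl⟩ := residue_surjective r
    have h1 : algebraMap kA kA' (residue A a) = residue A' (algebraMap A A' a) := rfl
    have h2 : algebraMap kA F' (residue A a) = χ' (algebraMap A B₀ a) := by
      change ρ' (algebraMap kA (Bb ⧸ maximalIdeal Bb) (residue A a)) = _
      have h3 : algebraMap kA (Bb ⧸ maximalIdeal Bb) (residue A a) =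
          Ideal.Quotient.mk _ (Ideal.Quotient.mk _
            (algebraMap B₀ (Localization.AtPrime p) (algebraMap A B₀ a))) := by
        rw [← IsScalarTower.algebraMap_apply A B₀ (Localization.AtPrime p)]
        rfl
      rw [h3]
      exact liftRes_mk p χ' hχ' hpm _
    rw [h1, h2]
    change π (algebraMap A' C (algebraMap A A' a)) = π (algebraMap B₀ C (algebraMap A B₀ a))
    rw [← IsScalarTower.algebraMap_apply, ← IsScalarTower.algebraMap_apply]
  let κa : kA' →ₐ[kA] F' := { κ' with commutes' := hκcomm }
  let χt : (Bb ⧸ maximalIdeal Bb) ⊗[kA] kA' →ₐ[kA] F' :=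
    Algebra.TensorProduct.lift ρa κa (fun _ _ => Commute.all _ _)
  -- the composite `C → F'` is `π`
  have hcomp : ∀ c : C, χt (resMapE (k := kA) (k' := kA') (Bq := Bb) (theta (A := A) (A' := A') C p c)) = π c := by
    intro c
    refine (Algebra.IsPushout.out (R := A) (S := A') (R' := B₀) (S' := C)).inductionOn c _ ?_ ?_ ?_ ?_
    · rw [map_zero, map_zero, map_zero, map_zero]
    · intro b
      change χt (resMapE (theta (A := A) (A' := A') C p (algebraMap B₀ C b))) = π (algebraMap B₀ C b)
      rw [theta_algebraMap_right]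
      change χt ((Ideal.Quotient.mk _ (Ideal.Quotient.mk _ (algebraMap B₀ (Localization.AtPrime p) b)))
        ⊗ₜ[kA] (1 : kA')) = _
      rw [Algebra.TensorProduct.lift_tmul, map_one, mul_one]
      exact liftRes_mk p χ' hχ' hpm b
    · intro a' c ih
      rw [Algebra.smul_def, map_mul, map_mul, map_mul, map_mul, ih]
      congr 1
      rw [theta_algebraMap_left]
      change χt ((1 : Bb ⧸ maximalIdeal Bb) ⊗ₜ[kA] (residue A' a')) = _
      rw [Algebra.TensorProduct.lift_tmul, map_one, one_mul]
      rfl
    · intro c c' ih ih'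
      rw [map_add, map_add, map_add, map_add, ih, ih']
  intro hn
  have h1 := hn.map χt
  rw [hcomp] at h1
  exact hs ((hπ s).mp h1.eq_zero)

end nilp

end main

end key

end Groth.Agent.Lib.Helper20.PrimNZD
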