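import Mathlib
import Groth.Agent.Lib.Helper20PrimNZD

set_option autoImplicit false
set_option linter.style.haveILetI false
set_option linter.unusedSectionVars false
universe u
open TensorProduct Polynomial IsLocalRing

namespace Groth.Agent.Lib.Helper20.PrimNZD


theorem exists_semilinear_lift {B₀ C M₀ N E W : Type*} [CommRing B₀] [CommRing C] [Algebra B₀ C]
    [AddCommGroup M₀] [Module B₀ M₀] [AddCommGroup N] [Module B₀ N] [Module C N]
    [IsScalarTower B₀ C N]
    (g : M₀ →ₗ[B₀] N) (hg : IsBaseChange C g)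
    [CommRing E] (θ : C →+* E) [AddCommGroup W] [Module E W]
    (γ : M₀ →+ W) (hγ : ∀ b m, γ (b • m) = θ (algebraMap B₀ C b) • γ m) :
    ∃ Ω : N →+ W, (∀ c n, Ω (c • n) = θ c • Ω n) ∧ ∀ m, Ω (g m) = γ m := by
  letI mC : Module C W := Module.compHom W θ
  letI mB : Module B₀ W := Module.compHom W (θ.comp (algebraMap B₀ C))
  haveI : IsScalarTower B₀ C W := by
    refine ⟨fun b c' y => ?_⟩
    change θ (b • c') • y = (θ (algebraMap B₀ C b)) • (θ c' • y)
    rw [Algebra.smul_def, map_mul, mul_smul]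
  let γ' : M₀ →ₗ[B₀] W :=
    { toFun := γ
      map_add' := map_add γ
      map_smul' := fun b m => hγ b m }
  refine ⟨(hg.lift γ').toAddMonoidHom, fun c n => ?_, fun m => ?_⟩
  · exact (hg.lift γ').map_smul c n
  · exact hg.lift_eq γ' m


section keyabs2

variable {k k' : Type u} [Field k] [Field k'] [Algebra k k']
  {Bq : Type u} [CommRing Bq] [IsLocalRing Bq] [IsNoetherianRing Bq] [Algebra k Bq]

/-- **Key independence statement**, fully abstract form. -/
theorem mem_maximalIdeal_of_smul_sum_mem_abs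
    {A' B₀ C : Type u} [CommRing A'] [IsLocalRing A'] [CommRing B₀] [CommRing C]
    [Algebra A' C] [Algebra B₀ C]
    {M₀ N : Type u} [AddCommGroup M₀] [Module B₀ M₀] [AddCommGroup N] [Module A' N] [Module B₀ N]
    [Module C N] [IsScalarTower A' C N] [IsScalarTower B₀ C N]
    (g : M₀ →ₗ[B₀] N) (hg : IsBaseChange C g)
    (θ : C →+* Bq ⊗[k] k') (ρ : A' →+* k') (hρ : ∀ a', ρ a' = 0 ↔ a' ∈ maximalIdeal A')
    (β : B₀ →+* Bq)
    (hθl : ∀ a', θ (algebraMap A' C a') = (1 : Bq) ⊗ₜ[k] ρ a')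
    (hθr : ∀ b, θ (algebraMap B₀ C b) = β b ⊗ₜ[k] (1 : k'))
    (hprim : ∀ α : Bq ⧸ maximalIdeal Bq, IsSeparable k α →
      α ∈ Set.range (algebraMap k (Bq ⧸ maximalIdeal Bq)))
    (V : Type u) [AddCommGroup V] [Module Bq V] [Module.Finite Bq V] [Module k V]
    [IsScalarTower k Bq V]
    (ν : M₀ →+ V) (hν : ∀ b m, ν (b • m) = β b • ν m)
    {ι : Type*} (x : ι → M₀)
    (hx : LinearIndependent k (fun i => ν (x i)))
    (c : ι →₀ A') (s : C)
    (hs : ¬ IsNilpotent (resMapE (k := k) (k' := k') (Bq := Bq) (θ s)))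
    (h : s • (c.sum fun i a' => a' • g (x i)) ∈ (maximalIdeal A' • ⊤ : Submodule A' N)) :
    ∀ i, c i ∈ maximalIdeal A' := by
  let γ : M₀ →+ (Bq ⊗[k] k') ⊗[Bq] V :=
    ((TensorProduct.mk Bq (Bq ⊗[k] k') V 1).toAddMonoidHom).comp ν
  have hγ : ∀ b m, γ (b • m) = θ (algebraMap B₀ C b) • γ m := by
    intro b m
    change (1 : Bq ⊗[k] k') ⊗ₜ[Bq] ν (b • m) =
      (θ (algebraMap B₀ C b)) • ((1 : Bq ⊗[k] k') ⊗ₜ[Bq] ν m)
    rw [hν, hθr, TensorProduct.smul_tmul', TensorProduct.tmul_smul, smul_eq_mul,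
      mul_one, TensorProduct.smul_tmul', Algebra.TensorProduct.one_def, TensorProduct.smul_tmul',
      smul_eq_mul, mul_one]
  obtain ⟨Ω, hΩ1, hΩ2⟩ := exists_semilinear_lift g hg θ γ hγ
  have hΩa : ∀ (a' : A') n, Ω (a' • n) = ((1 : Bq) ⊗ₜ[k] ρ a' : Bq ⊗[k] k') • Ω n := by
    intro a' n
    rw [← algebraMap_smul C a' n, hΩ1, hθl]
  have hΩk : ∀ n ∈ (maximalIdeal A' • ⊤ : Submodule A' N), Ω n = 0 := by
    intro n hn
    refine Submodule.smul_induction_on hn ?_ ?_
    · intro a' ha' n _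
      rw [hΩa, (hρ a').mpr ha', TensorProduct.tmul_zero, zero_smul]
    · intro n n' h h'
      rw [map_add, h, h', add_zero]
  have h1 : θ s • Ω (c.sum fun i a' => a' • g (x i)) = 0 := by
    rw [← hΩ1]
    exact hΩk _ h
  have h2 := smul_eq_zero_of_not_isNilpotent_resMapE hprim (θ s) hs V _ h1
  have h3 : Ω (c.sum fun i a' => a' • g (x i)) =
      ((c.mapRange ρ (map_zero _)).sum fun i a =>
        (((1 : Bq) ⊗ₜ[k] a) ⊗ₜ[Bq] ν (x i) : (Bq ⊗[k] k') ⊗[Bq] V)) := by
    rw [Finsupp.sum_mapRange_index (fun i => by rw [TensorProduct.tmul_zero, TensorProduct.zero_tmul]),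
      Finsupp.sum, Finsupp.sum, map_sum]
    refine Finset.sum_congr rfl fun i _ => ?_
    rw [hΩa, hΩ2]
    change _ • ((1 : Bq ⊗[k] k') ⊗ₜ[Bq] ν (x i)) = _
    rw [TensorProduct.smul_tmul', smul_eq_mul, mul_one]
  have h4 := eq_zero_of_sum_tmul_eq_zero V (fun i => ν (x i)) hx _ (h3.symm.trans h2)
  intro i
  have h5 := DFunLike.congr_fun h4 i
  rw [Finsupp.mapRange_apply] at h5
  exact (hρ _).mp h5

end keyabs2

section key

open Groth.Agent.Lib.Helper26.ArtFlat

variable {A A' B₀ C : Type u} [CommRing A] [CommRing A'] [CommRing B₀] [CommRing C]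
  [IsLocalRing A] [IsLocalRing A'] [Algebra A A'] [IsLocalHom (algebraMap A A')]
  [Algebra A B₀] [Algebra A C] [Algebra A' C] [Algebra B₀ C] [IsScalarTower A A' C]
  [IsScalarTower A B₀ C] [Algebra.IsPushout A A' B₀ C]
  (p : Ideal B₀) [p.IsPrime]

local notation "kA" => ResidueField A
local notation "kA'" => ResidueField A'
local notation "Bb" => FibLoc (A := A) p
local notation "EE" => FibLoc (A := A) p ⊗[ResidueField A] ResidueField A'
local notation "Rp" => Localization.AtPrime p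

section keythm

variable [IsNoetherianRing B₀]
  {M₀ : Type u} [AddCommGroup M₀] [Module A M₀] [Module B₀ M₀] [IsScalarTower A B₀ M₀]
  [Module.Finite B₀ M₀]
  {N : Type u} [AddCommGroup N] [Module A N] [Module A' N] [Module B₀ N] [Module C N]
  [IsScalarTower A A' N] [IsScalarTower A B₀ N] [IsScalarTower A' C N] [IsScalarTower B₀ C N]
  (g : M₀ →ₗ[B₀] N) (hg : IsBaseChange C g)
  (q : Ideal C) [q.IsPrime]

local notation "Mp" => LocalizedModule p.primeCompl M₀
local notation "II" => Ideal.map (algebraMap A (Localization.AtPrime p)) (maximalIdeal A)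
local notation "Vb" => LocalizedModule p.primeCompl M₀ ⧸
    (Ideal.map (algebraMap A (Localization.AtPrime p)) (maximalIdeal A) • ⊤ :
      Submodule (Localization.AtPrime p) (LocalizedModule p.primeCompl M₀))

include hg in
/-- **Key independence statement at one prime**. -/
theorem mem_maximalIdeal_of_smul_sum_mem (hq1 : q.comap (algebraMap B₀ C) = p)
    (hq2 : q.comap (algebraMap A' C) = maximalIdeal A')
    {F : Type u} [Field F] (χ : B₀ →+* F) (hχ : RingHom.ker χ = p)
    (hprim : IsPrimaryHom (χ.comp (algebraMap A B₀)))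
    {ι : Type*} (x : ι → M₀)
    (hx : LinearIndependent kA (fun i => (1 : kA) ⊗ₜ[A] (LocalizedModule.mk (x i) 1 : Mp)))
    (c : ι →₀ A') (s : C) (hs : s ∉ q)
    (h : s • (c.sum fun i a' => a' • g (x i)) ∈ (maximalIdeal A' • ⊤ : Submodule A' N)) :
    ∀ i, c i ∈ maximalIdeal A' := by
  have hpm : p.comap (algebraMap A B₀) = maximalIdeal A := comap_eq_maximalIdeal p q hq1 hq2
  haveI : IsLocalRing Bb := isLocalRing_fibLoc p hpm
  letI mkV : Module kA Vb := Module.compHom Vb (algebraMap kA Bb)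
  haveI : IsScalarTower kA Bb Vb := IsScalarTower.of_algebraMap_smul (fun _ _ => rfl)
  haveI : Module.Finite Bb Vb := by
    haveI : Module.Finite Rp Vb := inferInstance
    exact Module.Finite.of_restrictScalars_finite Rp Bb Vb
  let ν : M₀ →+ Vb := ((Submodule.mkQ (II • ⊤ : Submodule Rp Mp)).toAddMonoidHom).comp
    (LocalizedModule.mkLinearMap p.primeCompl M₀).toAddMonoidHom
  refine mem_maximalIdeal_of_smul_sum_mem_abs (k := kA) (k' := kA') (Bq := Bb) g hg
    (theta (A := A) (A' := A') C p).toRingHom (residue A') (fun a' => residue_eq_zero_iff a')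
    ((Ideal.Quotient.mk II).comp (algebraMap B₀ Rp))
    (fun a' => theta_algebraMap_left p a') (fun b => theta_algebraMap_right p b)
    (primary_fibRes p χ hχ hpm hprim) Vb ν ?_ x (linearIndependent_vbar p x hx) c s
    (not_isNilpotent_resMapE_theta p q hq1 hq2 s hs) h
  intro b m
  change (Submodule.Quotient.mk (LocalizedModule.mkLinearMap p.primeCompl M₀ (b • m)) : Vb) =
    (Ideal.Quotient.mk II (algebraMap B₀ Rp b)) •
      (Submodule.Quotient.mk (LocalizedModule.mkLinearMap p.primeCompl M₀ m) : Vb)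
  rw [map_smul, ← algebraMap_smul Rp b]
  rfl

end keythm

end key

end Groth.Agent.Lib.Helper20.PrimNZD
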