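import Mathlib
import Groth.Agent.Lib.Helper26ArtFlat
import Groth.Agent.Lib.Helper5LocalFlat3

/-!
# Flatness via a family of local homomorphisms: the adic case (helper26)

Generalisations of `Helper26ArtFlat` modulo ideals (EGA IV 11.5.2).
-/

set_option autoImplicit false
set_option linter.style.haveILetI false
set_option linter.unusedSectionVars false
universe u

noncomputable section

namespace Groth.Agent.Lib.Helper26.ArtFlat

open Submodule TensorProduct IsLocalRing

section L1

variable {A' : Type u} [CommRing A'] [IsLocalRing A'] {W : Type u} [AddCommGroup W] [Module A' W]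

/-- elements of `𝔪` kill `k ⊗ W`. -/
theorem smul_residue_tmul_eq_zero (r : A') (hr : r ∈ maximalIdeal A')
    (z : (A' ⧸ maximalIdeal A') ⊗[A'] W) : r • z = 0 := by
  induction z using TensorProduct.induction_on with
  | zero => rw [smul_zero]
  | add z z' h h' => rw [smul_add, h, h', add_zero]
  | tmul κ w =>
    obtain ⟨a, rfl⟩ := Ideal.Quotient.mk_surjective κ
    rw [TensorProduct.smul_tmul']
    have : r • (Ideal.Quotient.mk (maximalIdeal A') a) = 0 := by
      have h0 : r • (Ideal.Quotient.mk (maximalIdeal A') a) =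
          Ideal.Quotient.mk (maximalIdeal A') (r * a) := by
        rw [Algebra.smul_def, Ideal.Quotient.algebraMap_eq, ← map_mul]
      rw [h0, Ideal.Quotient.eq_zero_iff_mem]
      exact Ideal.mul_mem_right _ _ hr
    rw [this, TensorProduct.zero_tmul]

/-- In a flat module over a local ring, a family which is independent modulo `𝔪` is independent
modulo every ideal `I` (in the membership form). -/
theorem mem_ideal_of_sum_mem_smul_top [Module.Flat A' W] {ι : Type u} (w : ι → W)
    (hw : ∀ c : ι →₀ A', (c.sum fun i a => a • w i) ∈ (maximalIdeal A' • ⊤ : Submodule A' W) →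
      ∀ i, c i ∈ maximalIdeal A')
    (I : Ideal A') (c : ι →₀ A')
    (hc : (c.sum fun i a => a • w i) ∈ (I • ⊤ : Submodule A' W)) : ∀ i, c i ∈ I := by
  by_cases hI : I = ⊤
  · intro i; rw [hI]; trivial
  have hIm : I ≤ maximalIdeal A' := IsLocalRing.le_maximalIdeal hI
  haveI : Nontrivial (A' ⧸ I) := Ideal.Quotient.nontrivial_iff.2 hI
  haveI : IsLocalRing (A' ⧸ I) :=
    IsLocalRing.of_surjective' (Ideal.Quotient.mk I) Ideal.Quotient.mk_surjective
  haveI : IsLocalHom (Ideal.Quotient.mk I) := IsLocalHom.of_surjective _ Ideal.Quotient.mk_surjective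
  let mkI : W →ₗ[A'] (A' ⧸ I) ⊗[A'] W := TensorProduct.mk A' (A' ⧸ I) W 1
  let wb : ι → (A' ⧸ I) ⊗[A'] W := fun i => mkI (w i)
  have hsum : ∀ c' : ι →₀ A',
      ((c'.mapRange (Ideal.Quotient.mk I) (map_zero _)).sum fun i (a : A' ⧸ I) => a • wb i) =
        mkI (c'.sum fun i a => a • w i) := by
    intro c'
    rw [Finsupp.sum_mapRange_index (h := fun i (a : A' ⧸ I) => a • wb i) (fun i => zero_smul _ _),
      Finsupp.sum, Finsupp.sum, map_sum]
    refine Finset.sum_congr rfl fun i _ => ?_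
    rw [map_smul]
    exact algebraMap_smul (A' ⧸ I) (c' i) (wb i)
  let ρ : (A' ⧸ I) ⊗[A'] W →ₗ[A'] (A' ⧸ maximalIdeal A') ⊗[A'] W :=
    LinearMap.rTensor W (Ideal.Quotient.factorₐ A' hIm).toLinearMap
  have hρ : ∀ y : W, ρ (mkI y) = TensorProduct.mk A' (A' ⧸ maximalIdeal A') W 1 y := by
    intro y
    change ρ ((1 : A' ⧸ I) ⊗ₜ[A'] y) = _
    rw [LinearMap.rTensor_tmul]
    change (Ideal.Quotient.factorₐ A' hIm) 1 ⊗ₜ[A'] y = _
    rw [map_one]
    rfl
  have hρ0 : ∀ t ∈ (maximalIdeal (A' ⧸ I) • ⊤ : Submodule (A' ⧸ I) ((A' ⧸ I) ⊗[A'] W)),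
      ρ t = 0 := by
    intro t ht
    refine Submodule.smul_induction_on ht ?_ ?_
    · intro rb hrb t' _
      obtain ⟨r, rfl⟩ := Ideal.Quotient.mk_surjective rb
      have hr : r ∈ maximalIdeal A' := by
        rw [mem_maximalIdeal, mem_nonunits_iff] at hrb ⊢
        exact fun hu => hrb (hu.map _)
      have : (Ideal.Quotient.mk I r) • t' = r • t' := algebraMap_smul (A' ⧸ I) r t'
      rw [this, map_smul]
      exact smul_residue_tmul_eq_zero r hr _
    · intro t t' h h'
      rw [map_add, h, h', add_zero]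
  have key : LinearIndependent (A' ⧸ I) wb := by
    apply Module.IsLocalRing.linearIndependent_of_flat
    rw [linearIndependent_iff]
    intro l hl
    obtain ⟨cb, rfl⟩ : ∃ cb : ι →₀ (A' ⧸ I),
        cb.mapRange (residue (A' ⧸ I)) (map_zero _) = l :=
      Finsupp.mapRange_surjective _ (map_zero _) residue_surjective l
    obtain ⟨c', rfl⟩ : ∃ c' : ι →₀ A', c'.mapRange (Ideal.Quotient.mk I) (map_zero _) = cb :=
      Finsupp.mapRange_surjective _ (map_zero _) Ideal.Quotient.mk_surjective cb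
    have h1 : (TensorProduct.mk (A' ⧸ I) (ResidueField (A' ⧸ I)) ((A' ⧸ I) ⊗[A'] W) 1)
        ((c'.mapRange (Ideal.Quotient.mk I) (map_zero _)).sum fun i (a : A' ⧸ I) => a • wb i) = 0 := by
      rw [← hl, Finsupp.linearCombination_apply, Finsupp.sum_mapRange_index
        (h := fun i (b : ResidueField (A' ⧸ I)) =>
          b • (TensorProduct.mk (A' ⧸ I) (ResidueField (A' ⧸ I)) ((A' ⧸ I) ⊗[A'] W) 1 ∘ wb) i)
        (fun i => zero_smul _ _), Finsupp.sum, Finsupp.sum, map_sum]
      refine Finset.sum_congr rfl fun i _ => ?_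
      rw [map_smul, Function.comp_apply,
        ← algebraMap_smul (ResidueField (A' ⧸ I)) ((c'.mapRange (Ideal.Quotient.mk I) (map_zero _)) i)]
      rfl
    have h2 : ((c'.mapRange (Ideal.Quotient.mk I) (map_zero _)).sum
        fun i (a : A' ⧸ I) => a • wb i) ∈
        (maximalIdeal (A' ⧸ I) • ⊤ : Submodule (A' ⧸ I) ((A' ⧸ I) ⊗[A'] W)) := by
      rw [← LinearMap.ker_tensorProductMk]; exact h1
    have h3 := hρ0 _ h2
    rw [hsum, hρ] at h3
    have h4 : (c'.sum fun i a => a • w i) ∈ (maximalIdeal A' • ⊤ : Submodule A' W) := by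
      rw [← LinearMap.ker_tensorProductMk]; exact h3
    have h5 := hw c' h4
    ext i
    rw [Finsupp.mapRange_apply, Finsupp.mapRange_apply, Finsupp.zero_apply,
      IsLocalRing.residue_eq_zero_iff]
    have := h5 i
    rw [mem_maximalIdeal, mem_nonunits_iff] at this ⊢
    exact fun hu => this (isUnit_of_map_unit (Ideal.Quotient.mk I) _ hu)
  have h6 : mkI (c.sum fun i a => a • w i) = 0 := by
    change (c.sum fun i a => a • w i) ∈ LinearMap.ker (TensorProduct.mk A' (A' ⧸ I) W 1)
    rw [LinearMap.ker_tensorProductMk]; exact hc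
  rw [← hsum] at h6
  rw [linearIndependent_iff] at key
  have h7 := key _ (by rw [Finsupp.linearCombination_apply]; exact h6)
  intro i
  have h8 := DFunLike.congr_fun h7 i
  rw [Finsupp.mapRange_apply, Finsupp.zero_apply, Ideal.Quotient.eq_zero_iff_mem] at h8
  exact h8

end L1

section Sem2

variable {A A' B₀ C : Type u} [CommRing A] [CommRing A'] [CommRing B₀] [CommRing C]
  [IsLocalRing A] [IsLocalRing A'] [Algebra A A'] [IsLocalHom (algebraMap A A')]
  [Algebra A B₀] [Algebra A C] [Algebra A' C] [Algebra B₀ C] [IsScalarTower A A' C]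
  [IsScalarTower A B₀ C] [Algebra.IsPushout A A' B₀ C]
  [IsNoetherianRing B₀] (p : Ideal B₀) [p.IsPrime]
  {M₀ : Type u} [AddCommGroup M₀] [Module A M₀] [Module B₀ M₀] [IsScalarTower A B₀ M₀]
  [Module.Finite B₀ M₀]
  {N : Type u} [AddCommGroup N] [Module A N] [Module A' N] [Module B₀ N] [Module C N]
  [IsScalarTower A A' N] [IsScalarTower A B₀ N] [IsScalarTower A' C N] [IsScalarTower B₀ C N]
  (g : M₀ →ₗ[B₀] N) (hg : IsBaseChange C g)

local notation "kA" => ResidueField A
local notation "Mp" => LocalizedModule p.primeCompl M₀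
local notation "Tsl" => semiLoc (C := C) p (maximalIdeal A')

include hg in
/-- **Core statement for one member of the family, modulo ideals**: a relation modulo `𝔞 (M₀)_p`
among elements of `(M₀)_p` whose classes mod `𝔪_A` are independent has coefficients mapping into
`𝔞'`, whenever `𝔞 A' ⊆ 𝔞'` and `N` is flat over `A'` at all primes of `C` over `(p, 𝔪')`. -/
theorem algebraMap_mem_of_relation_mem
    (H : ∀ (q : Ideal C) [q.IsPrime], q.comap (algebraMap B₀ C) = p →
      q.comap (algebraMap A' C) = maximalIdeal A' →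
      Module.Flat A' (LocalizedModule q.primeCompl N))
    (𝔞 : Ideal A) (𝔞' : Ideal A') (h𝔞 : ∀ r ∈ 𝔞, algebraMap A A' r ∈ 𝔞')
    {ι : Type u} (x : ι → M₀)
    (hx : LinearIndependent kA (fun i => (1 : kA) ⊗ₜ[A] (LocalizedModule.mk (x i) 1 : Mp)))
    (a : ι →₀ A)
    (ha : (LocalizedModule.mk (a.sum fun i r => r • x i) 1 : Mp) ∈ (𝔞 • ⊤ : Submodule A Mp)) :
    ∀ i, algebraMap A A' (a i) ∈ 𝔞' := by
  haveI : Module.Flat A' (LocalizedModule Tsl N) :=
    flat_localizedModule_semiLoc p (maximalIdeal A') N H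
  let μ : N →ₗ[A'] LocalizedModule Tsl N := (LocalizedModule.mkLinearMap Tsl N).restrictScalars A'
  have hμ : ∀ n, μ n = LocalizedModule.mk n 1 := fun n => rfl
  let w : ι → LocalizedModule Tsl N := fun i => μ (g (x i))
  have hsum : ∀ c : ι →₀ A', (c.sum fun i a' => a' • w i) = μ (c.sum fun i a' => a' • g (x i)) := by
    intro c
    rw [Finsupp.sum, Finsupp.sum, map_sum]
    exact Finset.sum_congr rfl fun i _ => (map_smul μ _ _).symm
  have hw : ∀ c : ι →₀ A', (c.sum fun i a' => a' • w i) ∈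
      (maximalIdeal A' • ⊤ : Submodule A' (LocalizedModule Tsl N)) → ∀ i, c i ∈ maximalIdeal A' := by
    intro c h2
    rw [hsum, hμ] at h2
    exact mem_maximalIdeal_of_sum_mem p g hg x hx c h2
  have hga : ∀ (r : A) (y : M₀), g (r • y) = r • g y := by
    intro r y
    rw [← algebraMap_smul B₀ r y, map_smul, algebraMap_smul]
  -- `g` maps `𝔞 M₀` into `𝔞' N`
  have hg𝔞 : ∀ y ∈ (𝔞 • ⊤ : Submodule A M₀), g y ∈ (𝔞' • ⊤ : Submodule A' N) := by
    intro y hy
    refine Submodule.smul_induction_on hy ?_ ?_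
    · intro r hr z _
      rw [hga, ← algebraMap_smul A' r (g z)]
      exact Submodule.smul_mem_smul (h𝔞 r hr) trivial
    · intro z z' hz hz'
      rw [map_add]; exact Submodule.add_mem _ hz hz'
  have hrel : ((a.mapRange (algebraMap A A') (map_zero _)).sum fun i a' => a' • w i) ∈
      (𝔞' • ⊤ : Submodule A' (LocalizedModule Tsl N)) := by
    rw [hsum, Finsupp.sum_mapRange_index (h := fun i (a' : A') => a' • g (x i))
      (fun i => zero_smul _ _)]
    have h1 : (a.sum fun i r => algebraMap A A' r • g (x i)) = g (a.sum fun i r => r • x i) := by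
      rw [Finsupp.sum, Finsupp.sum, map_sum]
      refine Finset.sum_congr rfl fun i _ => ?_
      rw [algebraMap_smul, hga]
    rw [h1, hμ]
    obtain ⟨t, ht, htm⟩ := exists_smul_mem_of_mk_mem p.primeCompl 𝔞 _ ha
    have h2 := hg𝔞 _ htm
    rw [map_smul] at h2
    let D : LocalizedModule Tsl N →ₗ[A'] LocalizedModule Tsl N :=
      (LocalizedModule.divBy
        (⟨algebraMap B₀ C t, algebraMap_mem_semiLoc p _ ht⟩ : Tsl)).restrictScalars A'
    have h4 : D (μ (t • g (a.sum fun i r => r • x i))) ∈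
        (𝔞' • ⊤ : Submodule A' (LocalizedModule Tsl N)) := by
      have := Submodule.mem_map_of_mem (f := D ∘ₗ μ) h2
      rw [Submodule.map_smul''] at this
      exact Submodule.smul_mono le_rfl le_top this
    have h5 : D (μ (t • g (a.sum fun i r => r • x i))) =
        LocalizedModule.mk (g (a.sum fun i r => r • x i)) 1 := by
      change LocalizedModule.divBy (⟨algebraMap B₀ C t, algebraMap_mem_semiLoc p _ ht⟩ : Tsl)
        (LocalizedModule.mk (t • g (a.sum fun i r => r • x i)) 1) = _
      rw [LocalizedModule.divBy_apply, LocalizedModule.liftOn_mk, one_mul]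
      have h6 : t • g (a.sum fun i r => r • x i) =
          (⟨algebraMap B₀ C t, algebraMap_mem_semiLoc p _ ht⟩ : Tsl) •
            g (a.sum fun i r => r • x i) := (algebraMap_smul C t _).symm
      rw [h6]
      exact LocalizedModule.mk_cancel _ _
    rw [← h5]
    exact h4
  exact mem_ideal_of_sum_mem_smul_top w hw 𝔞' _ hrel |> fun h i => by
    have := h i
    rwa [Finsupp.mapRange_apply] at this

end Sem2

section Assembly2

variable {A B₀ : Type u} [CommRing A] [IsLocalRing A] [CommRing B₀] [Algebra A B₀]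
  (p : Ideal B₀) [p.IsPrime]
  (M₀ : Type u) [AddCommGroup M₀] [Module A M₀] [Module B₀ M₀] [IsScalarTower A B₀ M₀]

local notation "kA" => ResidueField A
local notation "Mp" => LocalizedModule p.primeCompl M₀

/-- If every relation modulo `𝔞 (M₀)_p` between elements of `(M₀)_p` whose classes mod `𝔪_A` are
independent has coefficients in `𝔞`, and `𝔪_A^K ⊆ 𝔞`, then `(A/𝔞) ⊗ (M₀)_p` is free, hence flat,
over `A/𝔞`. -/
theorem flat_quotient_tensor_of_relations (𝔞 : Ideal A) (K : ℕ) (hK : maximalIdeal A ^ K ≤ 𝔞)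
    (REL : ∀ {ι : Type u} (x : ι → M₀),
      LinearIndependent kA (fun i => (1 : kA) ⊗ₜ[A] (LocalizedModule.mk (x i) 1 : Mp)) →
      ∀ a : ι →₀ A, (LocalizedModule.mk (a.sum fun i r => r • x i) 1 : Mp) ∈
        (𝔞 • ⊤ : Submodule A Mp) → ∀ i, a i ∈ 𝔞) :
    Module.Flat (A ⧸ 𝔞) ((A ⧸ 𝔞) ⊗[A] Mp) := by
  classical
  let bV := Module.Free.chooseBasis kA (kA ⊗[A] Mp)
  have hsurj : Function.Surjective (TensorProduct.mk A kA Mp 1) :=
    TensorProduct.mk_surjective A Mp _ IsLocalRing.residue_surjective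
  choose v hv using fun j => hsurj (bV j)
  have hker : LinearMap.ker (TensorProduct.mk A kA Mp 1) = maximalIdeal A • ⊤ :=
    LinearMap.ker_tensorProductMk Mp
  let mk𝔞 : Mp →ₗ[A] (A ⧸ 𝔞) ⊗[A] Mp := TensorProduct.mk A (A ⧸ 𝔞) Mp 1
  have hker𝔞 : LinearMap.ker mk𝔞 = 𝔞 • ⊤ := LinearMap.ker_tensorProductMk Mp
  let vb : Module.Free.ChooseBasisIndex kA (kA ⊗[A] Mp) → (A ⧸ 𝔞) ⊗[A] Mp := fun j => mk𝔞 (v j)
  have hsumb : ∀ c' : Module.Free.ChooseBasisIndex kA (kA ⊗[A] Mp) →₀ A,
      ((c'.mapRange (Ideal.Quotient.mk 𝔞) (map_zero _)).sum fun j (a : A ⧸ 𝔞) => a • vb j) =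
        mk𝔞 (c'.sum fun j a => a • v j) := by
    intro c'
    rw [Finsupp.sum_mapRange_index (h := fun j (a : A ⧸ 𝔞) => a • vb j) (fun i => zero_smul _ _),
      Finsupp.sum, Finsupp.sum, map_sum]
    refine Finset.sum_congr rfl fun i _ => ?_
    rw [map_smul]
    exact algebraMap_smul (A ⧸ 𝔞) (c' i) (vb i)
  let μ : M₀ →ₗ[A] Mp := (LocalizedModule.mkLinearMap p.primeCompl M₀).restrictScalars A
  have hμ : ∀ y, μ y = LocalizedModule.mk y 1 := fun y => rfl
  -- linear independence
  have hli : LinearIndependent (A ⧸ 𝔞) vb := by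
    rw [linearIndependent_iff]
    intro lb hlb
    obtain ⟨l, rfl⟩ : ∃ l : Module.Free.ChooseBasisIndex kA (kA ⊗[A] Mp) →₀ A,
        l.mapRange (Ideal.Quotient.mk 𝔞) (map_zero _) = lb :=
      Finsupp.mapRange_surjective _ (map_zero _) Ideal.Quotient.mk_surjective lb
    rw [Finsupp.linearCombination_apply, hsumb] at hlb
    have hl : (l.sum fun j a => a • v j) ∈ (𝔞 • ⊤ : Submodule A Mp) := by
      rw [← hker𝔞]; exact hlb
    obtain ⟨b₀, hb₀⟩ := IsLocalizedModule.exist_integer_multiples p.primeCompl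
      (LocalizedModule.mkLinearMap p.primeCompl M₀) l.support v
    choose! X hX using hb₀
    let x : ↥l.support → M₀ := fun j => X j.1
    have hxj : ∀ j : ↥l.support, (LocalizedModule.mk (x j) 1 : Mp) = (b₀ : B₀) • v j.1 :=
      fun j => hX j.1 j.2
    obtain ⟨u, hu⟩ := IsLocalization.map_units (Localization.AtPrime p) b₀
    let θ : Mp →ₗ[A] Mp := DistribSMul.toLinearMap A Mp (b₀ : B₀)
    let γ : Mp →ₗ[A] Mp := DistribSMul.toLinearMap A Mp
      ((u⁻¹ : (Localization.AtPrime p)ˣ) : Localization.AtPrime p)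
    have hγθ : γ ∘ₗ θ = LinearMap.id := by
      ext y
      change ((u⁻¹ : (Localization.AtPrime p)ˣ) : Localization.AtPrime p) • ((b₀ : B₀) • y) = y
      rw [← algebraMap_smul (Localization.AtPrime p) (b₀ : B₀) y, smul_smul, ← hu, Units.inv_mul,
        one_smul]
    have hinj : LinearMap.ker (LinearMap.baseChange kA θ) = ⊥ := by
      rw [LinearMap.ker_eq_bot]
      apply Function.LeftInverse.injective (g := LinearMap.baseChange kA γ)
      intro z
      rw [← LinearMap.comp_apply, ← LinearMap.baseChange_comp, hγθ, LinearMap.baseChange_id]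
      rfl
    have hx : LinearIndependent kA
        (fun j : ↥l.support => (1 : kA) ⊗ₜ[A] (LocalizedModule.mk (x j) 1 : Mp)) := by
      have h1 : LinearIndependent kA (fun j : ↥l.support => bV j.1) :=
        bV.linearIndependent.comp _ Subtype.val_injective
      have h2 := h1.map' (LinearMap.baseChange kA θ) hinj
      have hfun : (fun j : ↥l.support => (1 : kA) ⊗ₜ[A] (LocalizedModule.mk (x j) 1 : Mp)) =
          (LinearMap.baseChange kA θ) ∘ (fun j : ↥l.support => bV j.1) := by
        funext j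
        rw [Function.comp_apply, ← hv j.1, hxj j]
        change _ = LinearMap.baseChange kA θ ((1 : kA) ⊗ₜ[A] v j.1)
        rw [LinearMap.baseChange_tmul]
        rfl
      rw [hfun]
      exact h2
    let a : ↥l.support →₀ A := l.subtypeDomain (· ∈ l.support)
    have ha : (LocalizedModule.mk (a.sum fun j r => r • x j) 1 : Mp) ∈
        (𝔞 • ⊤ : Submodule A Mp) := by
      rw [← hμ, Finsupp.sum, map_sum]
      have h1 : ∀ j ∈ a.support, μ (a j • x j) = (b₀ : B₀) • (a j • v j.1) := by
        intro j _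
        rw [map_smul, hμ, hxj j, smul_comm]
      rw [Finset.sum_congr rfl h1, ← Finset.smul_sum]
      have h2 : ∑ j ∈ a.support, a j • v j.1 = l.sum fun j a => a • v j :=
        Finsupp.sum_subtypeDomain_index (h := fun j r => r • v j) (fun _ h => h)
      rw [h2]
      exact smul_mem_ideal_smul_top 𝔞 (b₀ : B₀) _ hl
    have ha0 := REL x hx a ha
    ext j
    rw [Finsupp.mapRange_apply, Finsupp.zero_apply, Ideal.Quotient.eq_zero_iff_mem]
    by_cases hj : j ∈ l.support
    · have := ha0 ⟨j, hj⟩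
      rwa [Finsupp.subtypeDomain_apply] at this
    · rw [Finsupp.notMem_support_iff.1 hj]; exact Submodule.zero_mem _
  -- spanning
  have hspan : ⊤ ≤ span (A ⧸ 𝔞) (Set.range vb) := by
    set Wb := span (A ⧸ 𝔞) (Set.range vb) with hW
    have hnil : IsNilpotent ((maximalIdeal A).map (Ideal.Quotient.mk 𝔞)) := by
      refine ⟨K, ?_⟩
      rw [← Ideal.map_pow, Ideal.zero_eq_bot]
      exact Ideal.map_mk_eq_bot_of_le hK
    have h5 : ∀ z ∈ (maximalIdeal A • ⊤ : Submodule A Mp), mk𝔞 z ∈
        (((maximalIdeal A).map (Ideal.Quotient.mk 𝔞)) • ⊤ :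
          Submodule (A ⧸ 𝔞) ((A ⧸ 𝔞) ⊗[A] Mp)) := by
      intro z hz
      refine Submodule.smul_induction_on hz ?_ ?_
      · intro r hr z' _
        rw [map_smul, ← algebraMap_smul (A ⧸ 𝔞) r (mk𝔞 z')]
        exact Submodule.smul_mem_smul (Ideal.mem_map_of_mem _ hr) trivial
      · intro z z' h h'
        rw [map_add]; exact Submodule.add_mem _ h h'
    have h1 : (⊤ : Submodule (A ⧸ 𝔞) (((A ⧸ 𝔞) ⊗[A] Mp) ⧸ Wb)) ≤
        ((maximalIdeal A).map (Ideal.Quotient.mk 𝔞)) •
          (⊤ : Submodule (A ⧸ 𝔞) (((A ⧸ 𝔞) ⊗[A] Mp) ⧸ Wb)) := by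
      rintro q -
      obtain ⟨t, rfl⟩ := Wb.mkQ_surjective q
      obtain ⟨y, rfl⟩ : ∃ y : Mp, mk𝔞 y = t :=
        TensorProduct.mk_surjective A Mp _ Ideal.Quotient.mk_surjective t
      obtain ⟨c, hc⟩ : ∃ c : _ →₀ A, c.mapRange (IsLocalRing.residue A) (map_zero _) =
          bV.repr ((1 : kA) ⊗ₜ[A] y) :=
        Finsupp.mapRange_surjective _ (map_zero _) IsLocalRing.residue_surjective _
      have h2 : (TensorProduct.mk A kA Mp 1) (Finsupp.linearCombination A v c) =
          (1 : kA) ⊗ₜ[A] y := by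
        rw [← bV.linearCombination_repr ((1 : kA) ⊗ₜ[A] y), ← hc, Finsupp.linearCombination_apply,
          Finsupp.linearCombination_apply, Finsupp.sum_mapRange_index
          (h := fun j (d : kA) => d • bV j) (fun i => zero_smul _ _), Finsupp.sum, Finsupp.sum,
          map_sum]
        refine Finset.sum_congr rfl fun j _ => ?_
        rw [map_smul, hv j, ← algebraMap_smul kA (c j)]
        rfl
      have h3 : y - Finsupp.linearCombination A v c ∈ (maximalIdeal A • ⊤ : Submodule A Mp) := by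
        rw [← hker, LinearMap.mem_ker, map_sub, h2]
        exact sub_self _
      have h4 : Wb.mkQ (mk𝔞 y) = Wb.mkQ (mk𝔞 (y - Finsupp.linearCombination A v c)) := by
        rw [map_sub, map_sub]
        have : Wb.mkQ (mk𝔞 (Finsupp.linearCombination A v c)) = 0 := by
          rw [Submodule.mkQ_apply, Submodule.Quotient.mk_eq_zero, hW,
            Finsupp.linearCombination_apply, ← hsumb]
          refine Submodule.sum_mem _ fun j _ => ?_
          exact Submodule.smul_mem _ _ (Submodule.subset_span ⟨j, rfl⟩)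
        rw [this, sub_zero]
      rw [h4]
      have h6 := Submodule.mem_map_of_mem (f := Wb.mkQ) (h5 _ h3)
      rw [Submodule.map_smul'', Submodule.map_top, Submodule.range_mkQ] at h6
      exact h6
    have h7 := eq_bot_of_le_smul_of_isNilpotent _ hnil _ h1
    have : Subsingleton (((A ⧸ 𝔞) ⊗[A] Mp) ⧸ Wb) := by
      rw [← Submodule.subsingleton_iff (A ⧸ 𝔞)]
      exact subsingleton_of_bot_eq_top h7.symm
    exact (Submodule.Quotient.subsingleton_iff.1 this).ge
  haveI : Module.Free (A ⧸ 𝔞) ((A ⧸ 𝔞) ⊗[A] Mp) :=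
    Module.Free.of_basis (Module.Basis.mk hli hspan)
  infer_instance

/-- **Adic assembly** (algebraic core of EGA IV 11.5.2): if for every `n > 0` there is an ideal
`𝔞 ⊆ 𝔪ⁿ` containing a power of `𝔪` modulo which all relations are trivial, then `(M₀)_p` is flat over
the Noetherian local ring `A`. -/
theorem flat_localizedModule_of_adic_relations [IsNoetherianRing A] [IsNoetherianRing B₀]
    [Module.Finite B₀ M₀] (hp : (maximalIdeal A).map (algebraMap A B₀) ≤ p)
    (hfam : ∀ n : ℕ, 0 < n → ∃ (𝔞 : Ideal A) (K : ℕ), 𝔞 ≤ maximalIdeal A ^ n ∧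
      maximalIdeal A ^ K ≤ 𝔞 ∧
      ∀ {ι : Type u} (x : ι → M₀),
        LinearIndependent kA (fun i => (1 : kA) ⊗ₜ[A] (LocalizedModule.mk (x i) 1 : Mp)) →
        ∀ a : ι →₀ A, (LocalizedModule.mk (a.sum fun i r => r • x i) 1 : Mp) ∈
          (𝔞 • ⊤ : Submodule A Mp) → ∀ i, a i ∈ 𝔞) :
    Module.Flat A Mp := by
  haveI : Module.Finite (Localization.AtPrime p) Mp :=
    Module.Finite.of_isLocalizedModule p.primeCompl (LocalizedModule.mkLinearMap p.primeCompl M₀)
  have hq : (maximalIdeal A).map (algebraMap A (Localization.AtPrime p)) ≤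
      maximalIdeal (Localization.AtPrime p) := by
    rw [Ideal.map_le_iff_le_comap]
    intro a ha
    rw [Ideal.mem_comap, IsScalarTower.algebraMap_apply A B₀ (Localization.AtPrime p)]
    exact (IsLocalization.AtPrime.to_map_mem_maximal_iff (Localization.AtPrime p) p _).2
      (hp (Ideal.mem_map_of_mem _ ha))
  have hfl : ∀ n : ℕ, 0 < n →
      Module.Flat (A ⧸ maximalIdeal A ^ n) ((A ⧸ maximalIdeal A ^ n) ⊗[A] Mp) := by
    intro n hn
    obtain ⟨𝔞, K, h1, h2, REL⟩ := hfam n hn
    haveI := flat_quotient_tensor_of_relations p M₀ 𝔞 K h2 REL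
    letI : Algebra (A ⧸ 𝔞) (A ⧸ maximalIdeal A ^ n) := (Ideal.Quotient.factor h1).toAlgebra
    haveI : IsScalarTower A (A ⧸ 𝔞) (A ⧸ maximalIdeal A ^ n) :=
      IsScalarTower.of_algebraMap_eq (fun a => rfl)
    exact Module.Flat.of_linearEquiv
      (TensorProduct.AlgebraTensorModule.cancelBaseChange A (A ⧸ 𝔞) (A ⧸ maximalIdeal A ^ n)
        (A ⧸ maximalIdeal A ^ n) Mp).symm
  have h3 := Groth.Agent.Lib.Helper5.flat_localizedModule_of_flat_baseChange_pow
    (A := A) (B := Localization.AtPrime p) Mp (maximalIdeal A) hfl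
    (maximalIdeal (Localization.AtPrime p)) hq
  haveI : IsLocalization (maximalIdeal (Localization.AtPrime p)).primeCompl
      (Localization.AtPrime p) := by
    apply IsLocalization.self
    intro s hs
    exact (IsLocalRing.notMem_maximalIdeal).1 hs
  haveI := isLocalizedModule_id (maximalIdeal (Localization.AtPrime p)).primeCompl Mp
    (Localization.AtPrime p)
  let e : LocalizedModule (maximalIdeal (Localization.AtPrime p)).primeCompl Mp
      ≃ₗ[Localization.AtPrime p] Mp :=
    IsLocalizedModule.iso (maximalIdeal (Localization.AtPrime p)).primeCompl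
      (LinearMap.id : Mp →ₗ[Localization.AtPrime p] Mp)
  exact Module.Flat.of_linearEquiv (e.symm.restrictScalars A)

end Assembly2

end Groth.Agent.Lib.Helper26.ArtFlat
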