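import Mathlib
import Groth.Agent.Lib.Helper20PrimKey
import Groth.Agent.Lib.Helper26ArtFlat2

/-!
# Flatness via a family, primary residue extension: algebraic core at one prime (helper20)

Variants of helper26's `algebraMap_mem_of_relation_mem` where flatness is only known at ONE prime `q`
of `C = B₀ ⊗_A A'` over `(p, 𝔪')`, but `κ(p)` is a primary extension of the residue field of `A`
(EGA IV 11.5.1 (ii)/(iii), 11.5.3).
-/

set_option autoImplicit false
set_option linter.style.haveILetI false
set_option linter.unusedSectionVars false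
universe u

noncomputable section

namespace Groth.Agent.Lib.Helper20.PrimFlat

open Submodule TensorProduct IsLocalRing
open Groth.Agent.Lib.Helper26.ArtFlat Groth.Agent.Lib.Helper20.PrimNZD

section Sem

variable {A A' B₀ C : Type u} [CommRing A] [CommRing A'] [CommRing B₀] [CommRing C]
  [IsLocalRing A] [IsLocalRing A'] [Algebra A A'] [IsLocalHom (algebraMap A A')]
  [Algebra A B₀] [Algebra A C] [Algebra A' C] [Algebra B₀ C] [IsScalarTower A A' C]
  [IsScalarTower A B₀ C] [Algebra.IsPushout A A' B₀ C]
  [IsNoetherianRing B₀] (p : Ideal B₀) [p.IsPrime]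
  {M₀ : Type u} [AddCommGroup M₀] [Module A M₀] [Module B₀ M₀] [IsScalarTower A B₀ M₀]
  [Module.Finite B₀ M₀]
  {N : Type u} [AddCommGroup N] [Module A N] [Module A' N] [Module B₀ N] [Module C N]
  [IsScalarTower A A' N] [IsScalarTower A B₀ N] [IsScalarTower A' C N] [IsScalarTower B₀ C N]
  (g : M₀ →ₗ[B₀] N) (hg : IsBaseChange C g)
  (q : Ideal C) [q.IsPrime]

local notation "kA" => ResidueField A
local notation "Mp" => LocalizedModule p.primeCompl M₀

include hg in
/-- the independence statement in the localisation at `q`. -/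
theorem mem_maximalIdeal_of_sum_mem_prim (hq1 : q.comap (algebraMap B₀ C) = p)
    (hq2 : q.comap (algebraMap A' C) = maximalIdeal A')
    {F : Type u} [Field F] (χ : B₀ →+* F) (hχ : RingHom.ker χ = p)
    (hprim : IsPrimaryHom (χ.comp (algebraMap A B₀)))
    {ι : Type*} (x : ι → M₀)
    (hx : LinearIndependent kA (fun i => (1 : kA) ⊗ₜ[A] (LocalizedModule.mk (x i) 1 : Mp)))
    (c : ι →₀ A')
    (h : (LocalizedModule.mk (c.sum fun i a' => a' • g (x i)) 1 :
        LocalizedModule q.primeCompl N) ∈
      (maximalIdeal A' • ⊤ : Submodule A' (LocalizedModule q.primeCompl N))) :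
    ∀ i, c i ∈ maximalIdeal A' := by
  obtain ⟨s, hs, hsn⟩ := exists_smul_mem_of_mk_mem q.primeCompl (maximalIdeal A') _ h
  exact mem_maximalIdeal_of_smul_sum_mem p g hg q hq1 hq2 χ hχ hprim x hx c s hs hsn

include hg in
/-- **Core statement for one member of the family, modulo ideals, at one prime**: a relation modulo
`𝔞 (M₀)_p` among elements of `(M₀)_p` whose classes mod `𝔪_A` are independent has coefficients mapping
into `𝔞'`, whenever `𝔞 A' ⊆ 𝔞'`, `N` is flat over `A'` at ONE prime `q` of `C` over `(p, 𝔪')`, and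
`κ(p)` is a primary extension of the residue field of `A`. -/
theorem algebraMap_mem_of_relation_mem_prim (hq1 : q.comap (algebraMap B₀ C) = p)
    (hq2 : q.comap (algebraMap A' C) = maximalIdeal A')
    (hflat : Module.Flat A' (LocalizedModule q.primeCompl N))
    {F : Type u} [Field F] (χ : B₀ →+* F) (hχ : RingHom.ker χ = p)
    (hprim : IsPrimaryHom (χ.comp (algebraMap A B₀)))
    (𝔞 : Ideal A) (𝔞' : Ideal A') (h𝔞 : ∀ r ∈ 𝔞, algebraMap A A' r ∈ 𝔞')
    {ι : Type u} (x : ι → M₀)
    (hx : LinearIndependent kA (fun i => (1 : kA) ⊗ₜ[A] (LocalizedModule.mk (x i) 1 : Mp)))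
    (a : ι →₀ A)
    (ha : (LocalizedModule.mk (a.sum fun i r => r • x i) 1 : Mp) ∈ (𝔞 • ⊤ : Submodule A Mp)) :
    ∀ i, algebraMap A A' (a i) ∈ 𝔞' := by
  have hmem : ∀ t : B₀, t ∈ p.primeCompl → algebraMap B₀ C t ∈ q.primeCompl := by
    intro t ht htq
    apply ht
    rw [← hq1]
    exact htq
  let μ : N →ₗ[A'] LocalizedModule q.primeCompl N :=
    (LocalizedModule.mkLinearMap q.primeCompl N).restrictScalars A'
  have hμ : ∀ n, μ n = LocalizedModule.mk n 1 := fun n => rfl
  let w : ι → LocalizedModule q.primeCompl N := fun i => μ (g (x i))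
  have hsum : ∀ c : ι →₀ A', (c.sum fun i a' => a' • w i) = μ (c.sum fun i a' => a' • g (x i)) := by
    intro c
    rw [Finsupp.sum, Finsupp.sum, map_sum]
    exact Finset.sum_congr rfl fun i _ => (map_smul μ _ _).symm
  have hw : ∀ c : ι →₀ A', (c.sum fun i a' => a' • w i) ∈
      (maximalIdeal A' • ⊤ : Submodule A' (LocalizedModule q.primeCompl N)) →
      ∀ i, c i ∈ maximalIdeal A' := by
    intro c h2
    rw [hsum, hμ] at h2
    exact mem_maximalIdeal_of_sum_mem_prim p g hg q hq1 hq2 χ hχ hprim x hx c h2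
  have hga : ∀ (r : A) (y : M₀), g (r • y) = r • g y := by
    intro r y
    rw [← algebraMap_smul B₀ r y, map_smul, algebraMap_smul]
  -- `g` maps `𝔞 M₀` into `𝔞' N`
  have hg𝔞 : ∀ y ∈ (𝔞 • ⊤ : Submodule A M₀), g y ∈ (𝔞' • ⊤ : Submodule A' N) := by
    intro y hy
    refine Submodule.smul_induction_on hy ?_ ?_
    · intro r hr z _
      rw [hga, ← algebraMap_smul A' r (g z)]
      exact Submodule.smul_mem_smul (h𝔞 r hr) trivial
    · intro z z' hz hz'
      rw [map_add]; exact Submodule.add_mem _ hz hz'
  have hrel : ((a.mapRange (algebraMap A A') (map_zero _)).sum fun i a' => a' • w i) ∈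
      (𝔞' • ⊤ : Submodule A' (LocalizedModule q.primeCompl N)) := by
    rw [hsum, Finsupp.sum_mapRange_index (h := fun i (a' : A') => a' • g (x i))
      (fun i => zero_smul _ _)]
    have h1 : (a.sum fun i r => algebraMap A A' r • g (x i)) = g (a.sum fun i r => r • x i) := by
      rw [Finsupp.sum, Finsupp.sum, map_sum]
      refine Finset.sum_congr rfl fun i _ => ?_
      rw [algebraMap_smul, hga]
    rw [h1, hμ]
    obtain ⟨t, ht, htm⟩ := exists_smul_mem_of_mk_mem p.primeCompl 𝔞 _ ha
    have h2 := hg𝔞 _ htm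
    rw [map_smul] at h2
    let D : LocalizedModule q.primeCompl N →ₗ[A'] LocalizedModule q.primeCompl N :=
      (LocalizedModule.divBy
        (⟨algebraMap B₀ C t, hmem t ht⟩ : q.primeCompl)).restrictScalars A'
    have h4 : D (μ (t • g (a.sum fun i r => r • x i))) ∈
        (𝔞' • ⊤ : Submodule A' (LocalizedModule q.primeCompl N)) := by
      have := Submodule.mem_map_of_mem (f := D ∘ₗ μ) h2
      rw [Submodule.map_smul''] at this
      exact Submodule.smul_mono le_rfl le_top this
    have h5 : D (μ (t • g (a.sum fun i r => r • x i))) =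
        LocalizedModule.mk (g (a.sum fun i r => r • x i)) 1 := by
      change LocalizedModule.divBy (⟨algebraMap B₀ C t, hmem t ht⟩ : q.primeCompl)
        (LocalizedModule.mk (t • g (a.sum fun i r => r • x i)) 1) = _
      rw [LocalizedModule.divBy_apply, LocalizedModule.liftOn_mk, one_mul]
      have h6 : t • g (a.sum fun i r => r • x i) =
          (⟨algebraMap B₀ C t, hmem t ht⟩ : q.primeCompl) •
            g (a.sum fun i r => r • x i) := (algebraMap_smul C t _).symm
      rw [h6]
      exact LocalizedModule.mk_cancel _ _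
    rw [← h5]
    exact h4
  exact mem_ideal_of_sum_mem_smul_top w hw 𝔞' _ hrel |> fun h i => by
    have := h i
    rwa [Finsupp.mapRange_apply] at this

end Sem

end Groth.Agent.Lib.Helper20.PrimFlat
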