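import Mathlib
import Groth.Agent.Lib.Helper26ArtFlat
import Groth.Agent.Lib.Helper2PullbackSec3
import Groth.Agent.Lib.Helper23FinType2

set_option autoImplicit false
universe u
open CategoryTheory AlgebraicGeometry CategoryTheory.Limits TensorProduct

namespace Groth.Agent.Lib.Helper26.ArtFlatGeom
set_option linter.style.haveILetI false

open Groth.Agent.Lib.Helper2.FlatOver Groth.Agent.Lib.Helper2.PullbackSec
  Groth.Agent.Lib.Helper2.QCoh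
  Groth.Agent.Lib.Helper26.ArtFlat Groth.Agent.Lib.Helper23.FinType

/-!
# Flatness over an Artinian local base via a family: geometric layer (helper26)
-/

/-- A ring homomorphism from a local ring with nilpotent maximal ideal to a nontrivial ring is
local. -/
theorem isLocalHom_of_isNilpotent {A A' : Type*} [CommRing A] [IsLocalRing A] [CommRing A']
    [Nontrivial A'] (hnil : IsNilpotent (IsLocalRing.maximalIdeal A)) (φ : A →+* A') :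
    IsLocalHom φ := by
  refine ⟨fun a ha => ?_⟩
  by_contra hna
  have hm : a ∈ IsLocalRing.maximalIdeal A := (IsLocalRing.mem_maximalIdeal a).2 hna
  obtain ⟨n, hn⟩ := hnil
  have h1 : a ^ n ∈ IsLocalRing.maximalIdeal A ^ n := Ideal.pow_mem_pow hm n
  rw [hn] at h1
  have h2 : a ^ n = 0 := h1
  have h3 : φ a ^ n = 0 := by rw [← map_pow, h2, map_zero]
  have h4 : IsUnit (φ a ^ n) := ha.pow n
  rw [h3] at h4
  exact not_isUnit_zero h4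

theorem isNilpotent_maximalIdeal {A : Type*} [CommRing A] [IsArtinianRing A] [IsLocalRing A] :
    IsNilpotent (IsLocalRing.maximalIdeal A) := by
  have := IsArtinianRing.isNilpotent_jacobson_bot (R := A)
  rwa [IsLocalRing.jacobson_eq_maximalIdeal ⊥ bot_ne_top] at this

variable {X S X' S' : Scheme.{u}} {f : X ⟶ S} {f' : X' ⟶ S'} {g' : X' ⟶ X} {g : S' ⟶ S}

/-- **One member of the family** (geometric form): in a cartesian square over affine local bases,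
with `𝔪_S` nilpotent, if `g'^*F` is `f'`-flat at the points over `x` and the closed point of `S'`,
then a relation in `F_x` between elements independent modulo `𝔪_S` has coefficients killed by
`Γ(S) → Γ(S')`. -/
theorem relation_killed (hc : IsPullback g' f' f g)
    (hS : IsAffineOpen (⊤ : S.Opens)) (hS' : IsAffineOpen (⊤ : S'.Opens))
    [IsLocalRing Γ(S, ⊤)] [IsLocalRing Γ(S', ⊤)]
    (hnil : IsNilpotent (IsLocalRing.maximalIdeal Γ(S, ⊤))) [IsLocallyNoetherian X]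
    (F : X.Modules) [F.IsQuasicoherent] [SheafOfModules.IsFiniteType (R := X.ringCatSheaf) F]
    {U : X.Opens} (hU : IsAffineOpen U) (x : X) (hxU : x ∈ U)
    (hflat : ∀ x' : X', g'.base x' = x →
      hS'.primeIdealOf ⟨f'.base x', trivial⟩ = IsLocalRing.closedPoint Γ(S', ⊤) →
      FlatMod.IsFlatOverAt f' ((Scheme.Modules.pullback g').obj F) x') :
    letI aAB : Algebra Γ(S, ⊤) Γ(X, U) := (f.appLE ⊤ U le_top).hom.toAlgebra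
    letI mAM : Module Γ(S, ⊤) Γ(F, U) := Module.compHom Γ(F, U) (f.appLE ⊤ U le_top).hom
    haveI tABM : IsScalarTower Γ(S, ⊤) Γ(X, U) Γ(F, U) :=
      IsScalarTower.of_algebraMap_smul (fun _ _ => rfl)
    haveI := (hU.primeIdealOf ⟨x, hxU⟩).isPrime
    ∀ {ι' : Type u} (m : ι' → Γ(F, U)),
      LinearIndependent (IsLocalRing.ResidueField Γ(S, ⊤))
        (fun i => (1 : IsLocalRing.ResidueField Γ(S, ⊤)) ⊗ₜ[Γ(S, ⊤)]
          (LocalizedModule.mk (m i) 1 :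
            LocalizedModule (hU.primeIdealOf ⟨x, hxU⟩).asIdeal.primeCompl Γ(F, U))) →
      ∀ a : ι' →₀ Γ(S, ⊤),
        (LocalizedModule.mk (a.sum fun i r => r • m i) 1 :
          LocalizedModule (hU.primeIdealOf ⟨x, hxU⟩).asIdeal.primeCompl Γ(F, U)) = 0 →
        ∀ j, (g.appLE ⊤ ⊤ le_top).hom (a j) = 0 := by
  letI _aAB : Algebra Γ(S, ⊤) Γ(X, U) := (f.appLE ⊤ U le_top).hom.toAlgebra
  letI _mAM : Module Γ(S, ⊤) Γ(F, U) := Module.compHom Γ(F, U) (f.appLE ⊤ U le_top).hom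
  haveI _tABM : IsScalarTower Γ(S, ⊤) Γ(X, U) Γ(F, U) :=
    IsScalarTower.of_algebraMap_smul (fun _ _ => rfl)
  haveI hpp := (hU.primeIdealOf ⟨x, hxU⟩).isPrime
  intro ι' m hm a ha j
  haveI : IsNoetherianRing Γ(X, U) := IsLocallyNoetherian.component_noetherian ⟨U, hU⟩
  haveI : Module.Finite Γ(X, U) Γ(F, U) := finite_of_isFiniteType F hU
  have eU : U ≤ f ⁻¹ᵁ ⊤ := le_top
  have eV' : (⊤ : S'.Opens) ≤ g ⁻¹ᵁ ⊤ := le_top
  have hU' : IsAffineOpen (g' ⁻¹ᵁ U ⊓ f' ⁻¹ᵁ ⊤) := isAffineOpen_inf_preimage hc eV' eU hS hS' hU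
  have e1 : g' ⁻¹ᵁ U ⊓ f' ⁻¹ᵁ ⊤ ≤ g' ⁻¹ᵁ U := inf_le_left
  have e2 : g' ⁻¹ᵁ U ⊓ f' ⁻¹ᵁ ⊤ ≤ f' ⁻¹ᵁ ⊤ := inf_le_right
  letI aAA' : Algebra Γ(S, ⊤) Γ(S', ⊤) := (g.appLE ⊤ ⊤ eV').hom.toAlgebra
  letI aBB' : Algebra Γ(X, U) Γ(X', g' ⁻¹ᵁ U ⊓ f' ⁻¹ᵁ ⊤) := (g'.appLE U _ e1).hom.toAlgebra
  letI aA'B' : Algebra Γ(S', ⊤) Γ(X', g' ⁻¹ᵁ U ⊓ f' ⁻¹ᵁ ⊤) := (f'.appLE ⊤ _ e2).hom.toAlgebra
  letI aAB' : Algebra Γ(S, ⊤) Γ(X', g' ⁻¹ᵁ U ⊓ f' ⁻¹ᵁ ⊤) :=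
    ((g'.appLE U _ e1).hom.comp (f.appLE ⊤ U eU).hom).toAlgebra
  haveI tABB' : IsScalarTower Γ(S, ⊤) Γ(X, U) Γ(X', g' ⁻¹ᵁ U ⊓ f' ⁻¹ᵁ ⊤) :=
    IsScalarTower.of_algebraMap_eq (fun a => rfl)
  have hsq : ∀ a : Γ(S, ⊤), (g'.appLE U _ e1).hom ((f.appLE ⊤ U eU).hom a) =
      (f'.appLE ⊤ _ e2).hom ((g.appLE ⊤ ⊤ eV').hom a) := by
    intro a
    have h1 := Scheme.Hom.appLE_comp_appLE g' f ⊤ U _ eU e1
    have h2 := Scheme.Hom.appLE_comp_appLE f' g ⊤ ⊤ _ eV' e2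
    have h3 : (f.appLE ⊤ U eU ≫ g'.appLE U _ e1) = (g.appLE ⊤ ⊤ eV' ≫ f'.appLE ⊤ _ e2) := by
      rw [h1, h2]
      congr 1
      exact hc.w
    exact congrArg (fun φ => φ.hom a) h3
  haveI tAA'B' : IsScalarTower Γ(S, ⊤) Γ(S', ⊤) Γ(X', g' ⁻¹ᵁ U ⊓ f' ⁻¹ᵁ ⊤) :=
    IsScalarTower.of_algebraMap_eq hsq
  haveI hPO : Algebra.IsPushout Γ(S, ⊤) Γ(S', ⊤) Γ(X, U) Γ(X', g' ⁻¹ᵁ U ⊓ f' ⁻¹ᵁ ⊤) :=
    algebra_isPushout hc eV' eU hS hS' hU e1 e2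
  haveI hloc : IsLocalHom (algebraMap Γ(S, ⊤) Γ(S', ⊤)) := isLocalHom_of_isNilpotent hnil _
  -- the pulled back module and its sections
  haveI hHq : ((Scheme.Modules.pullback g').obj F).IsQuasicoherent := isQuasicoherent_pullback g' F
  letI mBN : Module Γ(X, U) Γ((Scheme.Modules.pullback g').obj F, g' ⁻¹ᵁ U ⊓ f' ⁻¹ᵁ ⊤) :=
    Module.compHom _ (g'.appLE U _ e1).hom
  letI mA'N : Module Γ(S', ⊤) Γ((Scheme.Modules.pullback g').obj F, g' ⁻¹ᵁ U ⊓ f' ⁻¹ᵁ ⊤) :=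
    Module.compHom _ (f'.appLE ⊤ _ e2).hom
  letI mAN : Module Γ(S, ⊤) Γ((Scheme.Modules.pullback g').obj F, g' ⁻¹ᵁ U ⊓ f' ⁻¹ᵁ ⊤) :=
    Module.compHom _ ((g'.appLE U _ e1).hom.comp (f.appLE ⊤ U eU).hom)
  haveI tBCN : IsScalarTower Γ(X, U) Γ(X', g' ⁻¹ᵁ U ⊓ f' ⁻¹ᵁ ⊤)
      Γ((Scheme.Modules.pullback g').obj F, g' ⁻¹ᵁ U ⊓ f' ⁻¹ᵁ ⊤) :=
    IsScalarTower.of_algebraMap_smul (fun _ _ => rfl)
  haveI tA'CN : IsScalarTower Γ(S', ⊤) Γ(X', g' ⁻¹ᵁ U ⊓ f' ⁻¹ᵁ ⊤)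
      Γ((Scheme.Modules.pullback g').obj F, g' ⁻¹ᵁ U ⊓ f' ⁻¹ᵁ ⊤) :=
    IsScalarTower.of_algebraMap_smul (fun _ _ => rfl)
  haveI tABN : IsScalarTower Γ(S, ⊤) Γ(X, U)
      Γ((Scheme.Modules.pullback g').obj F, g' ⁻¹ᵁ U ⊓ f' ⁻¹ᵁ ⊤) :=
    IsScalarTower.of_algebraMap_smul (fun _ _ => rfl)
  haveI tAA'N : IsScalarTower Γ(S, ⊤) Γ(S', ⊤)
      Γ((Scheme.Modules.pullback g').obj F, g' ⁻¹ᵁ U ⊓ f' ⁻¹ᵁ ⊤) := by
    refine IsScalarTower.of_algebraMap_smul (fun a n => ?_)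
    change (f'.appLE ⊤ _ e2).hom ((g.appLE ⊤ ⊤ eV').hom a) • n =
      (g'.appLE U _ e1).hom ((f.appLE ⊤ U eU).hom a) • n
    rw [hsq]
  obtain ⟨T⟩ := nonempty_sections_linearEquiv g' F hU' hU e1
  let ν : Γ(F, U) →ₗ[Γ(X, U)] Γ((Scheme.Modules.pullback g').obj F, g' ⁻¹ᵁ U ⊓ f' ⁻¹ᵁ ⊤) :=
    (T.toLinearMap.restrictScalars Γ(X, U)).comp
      (TensorProduct.mk Γ(X, U) Γ(X', g' ⁻¹ᵁ U ⊓ f' ⁻¹ᵁ ⊤) Γ(F, U) 1)
  have hν : IsBaseChange Γ(X', g' ⁻¹ᵁ U ⊓ f' ⁻¹ᵁ ⊤) ν := IsBaseChange.of_equiv T (fun v => rfl)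
  refine algebraMap_eq_zero_of_relation (A := Γ(S, ⊤)) (A' := Γ(S', ⊤))
    (hU.primeIdealOf ⟨x, hxU⟩).asIdeal ν hν ?_ m hm a ha j
  intro q hq hq1 hq2
  -- the point of `U'` attached to `q`
  let y : PrimeSpectrum Γ(X', g' ⁻¹ᵁ U ⊓ f' ⁻¹ᵁ ⊤) := ⟨q, hq⟩
  have hx' : hU'.fromSpec y ∈ g' ⁻¹ᵁ U ⊓ f' ⁻¹ᵁ ⊤ := by
    have h1 : hU'.fromSpec y ∈ Set.range hU'.fromSpec := Set.mem_range_self y
    rw [hU'.range_fromSpec] at h1
    exact h1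
  have hy : hU'.primeIdealOf ⟨hU'.fromSpec y, hx'⟩ = y :=
    hU'.fromSpec.isOpenEmbedding.injective (hU'.fromSpec_primeIdealOf ⟨hU'.fromSpec y, hx'⟩)
  have hfst : g'.base (hU'.fromSpec y) = x := by
    have h1 := IsAffineOpen.comap_primeIdealOf_appLE U hU _ hU' e1 hx'
    rw [hy] at h1
    have h2 : hU.primeIdealOf ⟨g' (hU'.fromSpec y), e1 hx'⟩ = hU.primeIdealOf ⟨x, hxU⟩ := by
      rw [← h1]
      exact PrimeSpectrum.ext hq1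
    have h3 := congrArg hU.fromSpec h2
    rw [hU.fromSpec_primeIdealOf, hU.fromSpec_primeIdealOf] at h3
    exact h3
  have hsnd : hS'.primeIdealOf ⟨f'.base (hU'.fromSpec y), trivial⟩ =
      IsLocalRing.closedPoint Γ(S', ⊤) := by
    have h1 := IsAffineOpen.comap_primeIdealOf_appLE ⊤ hS' _ hU' e2 hx'
    rw [hy] at h1
    rw [← h1]
    exact PrimeSpectrum.ext hq2
  have hfl := hflat _ hfst hsnd
  rw [isFlatOverAt_iff_flat_base f' _ hS' _ (e2 hx')] at hfl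
  letI mCst := moduleStalkSections ((Scheme.Modules.pullback g').obj F) _ (hU'.fromSpec y) hx'
  letI mA'st := moduleStalkBase f' ((Scheme.Modules.pullback g').obj F) ⊤ (hU'.fromSpec y) (e2 hx')
  haveI tst : IsScalarTower Γ(S', ⊤) Γ(X', g' ⁻¹ᵁ U ⊓ f' ⁻¹ᵁ ⊤)
      (((Scheme.Modules.pullback g').obj F).presheaf.stalk (hU'.fromSpec y)) := by
    refine ⟨fun a b z => ?_⟩
    change X'.presheaf.germ _ (hU'.fromSpec y) hx' ((f'.appLE ⊤ _ e2).hom a * b) • z =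
      (f'.stalkMap (hU'.fromSpec y)).hom
        (S'.presheaf.germ ⊤ (f'.base (hU'.fromSpec y)) (e2 hx') a) •
        (X'.presheaf.germ _ (hU'.fromSpec y) hx' b • z)
    rw [map_mul, mul_smul, stalkMap_germ_eq f' e2 (hU'.fromSpec y) hx' a]
  have loc := isLocalizedModule_germ hU' ((Scheme.Modules.pullback g').obj F) (hU'.fromSpec y) hx'
  rw [hy] at loc
  haveI := loc
  let e : LocalizedModule q.primeCompl
      Γ((Scheme.Modules.pullback g').obj F, g' ⁻¹ᵁ U ⊓ f' ⁻¹ᵁ ⊤) ≃ₗ[Γ(X', g' ⁻¹ᵁ U ⊓ f' ⁻¹ᵁ ⊤)]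
      ((Scheme.Modules.pullback g').obj F).presheaf.stalk (hU'.fromSpec y) :=
    IsLocalizedModule.iso q.primeCompl
      (germₗ ((Scheme.Modules.pullback g').obj F) _ (hU'.fromSpec y) hx')
  haveI : Module.Flat Γ(S', ⊤)
      (((Scheme.Modules.pullback g').obj F).presheaf.stalk (hU'.fromSpec y)) := hfl
  exact Module.Flat.of_linearEquiv (e.restrictScalars Γ(S', ⊤))

end Groth.Agent.Lib.Helper26.ArtFlatGeom
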