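import Mathlib
import Groth.Agent.Lib.Helper26ArtFlat2
import Groth.Agent.Lib.Helper26ArtFlatGeom

/-!
# Flatness via a family of local homomorphisms, adic case: geometric layer (helper26)
-/

set_option autoImplicit false
universe u
open CategoryTheory AlgebraicGeometry CategoryTheory.Limits TensorProduct

namespace Groth.Agent.Lib.Helper26.ArtFlatGeom
set_option linter.style.haveILetI false

open Groth.Agent.Lib.Helper2.FlatOver Groth.Agent.Lib.Helper2.PullbackSec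
  Groth.Agent.Lib.Helper2.QCoh
  Groth.Agent.Lib.Helper26.ArtFlat Groth.Agent.Lib.Helper23.FinType

variable {X S X' S' : Scheme.{u}} {f : X ⟶ S} {f' : X' ⟶ S'} {g' : X' ⟶ X} {g : S' ⟶ S}

/-- **One member of the family, modulo ideals** (geometric form): in a cartesian square over affine
local bases with `Γ(S) → Γ(S')` local, if `g'^*F` is `f'`-flat at the points over `x` and the closed
point of `S'`, then a relation modulo `𝔞 F_x` between elements independent modulo `𝔪_S` has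
coefficients mapping into `𝔞'`, provided `𝔞 Γ(S') ⊆ 𝔞'`. -/
theorem relation_mem (hc : IsPullback g' f' f g)
    (hS : IsAffineOpen (⊤ : S.Opens)) (hS' : IsAffineOpen (⊤ : S'.Opens))
    [IsLocalRing Γ(S, ⊤)] [IsLocalRing Γ(S', ⊤)]
    [IsLocalHom (g.appLE ⊤ ⊤ le_top).hom] [IsLocallyNoetherian X]
    (F : X.Modules) [F.IsQuasicoherent] [SheafOfModules.IsFiniteType (R := X.ringCatSheaf) F]
    {U : X.Opens} (hU : IsAffineOpen U) (x : X) (hxU : x ∈ U)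
    (hflat : ∀ x' : X', g'.base x' = x →
      hS'.primeIdealOf ⟨f'.base x', trivial⟩ = IsLocalRing.closedPoint Γ(S', ⊤) →
      FlatMod.IsFlatOverAt f' ((Scheme.Modules.pullback g').obj F) x')
    (𝔞 : Ideal Γ(S, ⊤)) (𝔞' : Ideal Γ(S', ⊤))
    (h𝔞 : ∀ r ∈ 𝔞, (g.appLE ⊤ ⊤ le_top).hom r ∈ 𝔞') :
    letI aAB : Algebra Γ(S, ⊤) Γ(X, U) := (f.appLE ⊤ U le_top).hom.toAlgebra
    letI mAM : Module Γ(S, ⊤) Γ(F, U) := Module.compHom Γ(F, U) (f.appLE ⊤ U le_top).hom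
    haveI tABM : IsScalarTower Γ(S, ⊤) Γ(X, U) Γ(F, U) :=
      IsScalarTower.of_algebraMap_smul (fun _ _ => rfl)
    haveI := (hU.primeIdealOf ⟨x, hxU⟩).isPrime
    ∀ {ι' : Type u} (m : ι' → Γ(F, U)),
      LinearIndependent (IsLocalRing.ResidueField Γ(S, ⊤))
        (fun i => (1 : IsLocalRing.ResidueField Γ(S, ⊤)) ⊗ₜ[Γ(S, ⊤)]
          (LocalizedModule.mk (m i) 1 :
            LocalizedModule (hU.primeIdealOf ⟨x, hxU⟩).asIdeal.primeCompl Γ(F, U))) →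
      ∀ a : ι' →₀ Γ(S, ⊤),
        (LocalizedModule.mk (a.sum fun i r => r • m i) 1 :
          LocalizedModule (hU.primeIdealOf ⟨x, hxU⟩).asIdeal.primeCompl Γ(F, U)) ∈
          (𝔞 • ⊤ : Submodule Γ(S, ⊤)
            (LocalizedModule (hU.primeIdealOf ⟨x, hxU⟩).asIdeal.primeCompl Γ(F, U))) →
        ∀ j, (g.appLE ⊤ ⊤ le_top).hom (a j) ∈ 𝔞' := by
  letI _aAB : Algebra Γ(S, ⊤) Γ(X, U) := (f.appLE ⊤ U le_top).hom.toAlgebra
  letI _mAM : Module Γ(S, ⊤) Γ(F, U) := Module.compHom Γ(F, U) (f.appLE ⊤ U le_top).hom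
  haveI _tABM : IsScalarTower Γ(S, ⊤) Γ(X, U) Γ(F, U) :=
    IsScalarTower.of_algebraMap_smul (fun _ _ => rfl)
  haveI hpp := (hU.primeIdealOf ⟨x, hxU⟩).isPrime
  intro ι' m hm a ha j
  haveI : IsNoetherianRing Γ(X, U) := IsLocallyNoetherian.component_noetherian ⟨U, hU⟩
  haveI : Module.Finite Γ(X, U) Γ(F, U) := finite_of_isFiniteType F hU
  have eU : U ≤ f ⁻¹ᵁ ⊤ := le_top
  have eV' : (⊤ : S'.Opens) ≤ g ⁻¹ᵁ ⊤ := le_top
  have hU' : IsAffineOpen (g' ⁻¹ᵁ U ⊓ f' ⁻¹ᵁ ⊤) := isAffineOpen_inf_preimage hc eV' eU hS hS' hU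
  have e1 : g' ⁻¹ᵁ U ⊓ f' ⁻¹ᵁ ⊤ ≤ g' ⁻¹ᵁ U := inf_le_left
  have e2 : g' ⁻¹ᵁ U ⊓ f' ⁻¹ᵁ ⊤ ≤ f' ⁻¹ᵁ ⊤ := inf_le_right
  letI aAA' : Algebra Γ(S, ⊤) Γ(S', ⊤) := (g.appLE ⊤ ⊤ eV').hom.toAlgebra
  letI aBB' : Algebra Γ(X, U) Γ(X', g' ⁻¹ᵁ U ⊓ f' ⁻¹ᵁ ⊤) := (g'.appLE U _ e1).hom.toAlgebra
  letI aA'B' : Algebra Γ(S', ⊤) Γ(X', g' ⁻¹ᵁ U ⊓ f' ⁻¹ᵁ ⊤) := (f'.appLE ⊤ _ e2).hom.toAlgebra
  letI aAB' : Algebra Γ(S, ⊤) Γ(X', g' ⁻¹ᵁ U ⊓ f' ⁻¹ᵁ ⊤) :=
    ((g'.appLE U _ e1).hom.comp (f.appLE ⊤ U eU).hom).toAlgebra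
  haveI tABB' : IsScalarTower Γ(S, ⊤) Γ(X, U) Γ(X', g' ⁻¹ᵁ U ⊓ f' ⁻¹ᵁ ⊤) :=
    IsScalarTower.of_algebraMap_eq (fun a => rfl)
  have hsq : ∀ a : Γ(S, ⊤), (g'.appLE U _ e1).hom ((f.appLE ⊤ U eU).hom a) =
      (f'.appLE ⊤ _ e2).hom ((g.appLE ⊤ ⊤ eV').hom a) := by
    intro a
    have h1 := Scheme.Hom.appLE_comp_appLE g' f ⊤ U _ eU e1
    have h2 := Scheme.Hom.appLE_comp_appLE f' g ⊤ ⊤ _ eV' e2
    have h3 : (f.appLE ⊤ U eU ≫ g'.appLE U _ e1) = (g.appLE ⊤ ⊤ eV' ≫ f'.appLE ⊤ _ e2) := by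
      rw [h1, h2]
      congr 1
      exact hc.w
    exact congrArg (fun φ => φ.hom a) h3
  haveI tAA'B' : IsScalarTower Γ(S, ⊤) Γ(S', ⊤) Γ(X', g' ⁻¹ᵁ U ⊓ f' ⁻¹ᵁ ⊤) :=
    IsScalarTower.of_algebraMap_eq hsq
  haveI hPO : Algebra.IsPushout Γ(S, ⊤) Γ(S', ⊤) Γ(X, U) Γ(X', g' ⁻¹ᵁ U ⊓ f' ⁻¹ᵁ ⊤) :=
    algebra_isPushout hc eV' eU hS hS' hU e1 e2
  haveI hloc : IsLocalHom (algebraMap Γ(S, ⊤) Γ(S', ⊤)) :=
    (inferInstance : IsLocalHom (g.appLE ⊤ ⊤ le_top).hom)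
  -- the pulled back module and its sections
  haveI hHq : ((Scheme.Modules.pullback g').obj F).IsQuasicoherent := isQuasicoherent_pullback g' F
  letI mBN : Module Γ(X, U) Γ((Scheme.Modules.pullback g').obj F, g' ⁻¹ᵁ U ⊓ f' ⁻¹ᵁ ⊤) :=
    Module.compHom _ (g'.appLE U _ e1).hom
  letI mA'N : Module Γ(S', ⊤) Γ((Scheme.Modules.pullback g').obj F, g' ⁻¹ᵁ U ⊓ f' ⁻¹ᵁ ⊤) :=
    Module.compHom _ (f'.appLE ⊤ _ e2).hom
  letI mAN : Module Γ(S, ⊤) Γ((Scheme.Modules.pullback g').obj F, g' ⁻¹ᵁ U ⊓ f' ⁻¹ᵁ ⊤) :=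
    Module.compHom _ ((g'.appLE U _ e1).hom.comp (f.appLE ⊤ U eU).hom)
  haveI tBCN : IsScalarTower Γ(X, U) Γ(X', g' ⁻¹ᵁ U ⊓ f' ⁻¹ᵁ ⊤)
      Γ((Scheme.Modules.pullback g').obj F, g' ⁻¹ᵁ U ⊓ f' ⁻¹ᵁ ⊤) :=
    IsScalarTower.of_algebraMap_smul (fun _ _ => rfl)
  haveI tA'CN : IsScalarTower Γ(S', ⊤) Γ(X', g' ⁻¹ᵁ U ⊓ f' ⁻¹ᵁ ⊤)
      Γ((Scheme.Modules.pullback g').obj F, g' ⁻¹ᵁ U ⊓ f' ⁻¹ᵁ ⊤) :=
    IsScalarTower.of_algebraMap_smul (fun _ _ => rfl)
  haveI tABN : IsScalarTower Γ(S, ⊤) Γ(X, U)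
      Γ((Scheme.Modules.pullback g').obj F, g' ⁻¹ᵁ U ⊓ f' ⁻¹ᵁ ⊤) :=
    IsScalarTower.of_algebraMap_smul (fun _ _ => rfl)
  haveI tAA'N : IsScalarTower Γ(S, ⊤) Γ(S', ⊤)
      Γ((Scheme.Modules.pullback g').obj F, g' ⁻¹ᵁ U ⊓ f' ⁻¹ᵁ ⊤) := by
    refine IsScalarTower.of_algebraMap_smul (fun a n => ?_)
    change (f'.appLE ⊤ _ e2).hom ((g.appLE ⊤ ⊤ eV').hom a) • n =
      (g'.appLE U _ e1).hom ((f.appLE ⊤ U eU).hom a) • n
    rw [hsq]
  obtain ⟨T⟩ := nonempty_sections_linearEquiv g' F hU' hU e1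
  let ν : Γ(F, U) →ₗ[Γ(X, U)] Γ((Scheme.Modules.pullback g').obj F, g' ⁻¹ᵁ U ⊓ f' ⁻¹ᵁ ⊤) :=
    (T.toLinearMap.restrictScalars Γ(X, U)).comp
      (TensorProduct.mk Γ(X, U) Γ(X', g' ⁻¹ᵁ U ⊓ f' ⁻¹ᵁ ⊤) Γ(F, U) 1)
  have hν : IsBaseChange Γ(X', g' ⁻¹ᵁ U ⊓ f' ⁻¹ᵁ ⊤) ν := IsBaseChange.of_equiv T (fun v => rfl)
  refine algebraMap_mem_of_relation_mem (A := Γ(S, ⊤)) (A' := Γ(S', ⊤))
    (hU.primeIdealOf ⟨x, hxU⟩).asIdeal ν hν ?_ 𝔞 𝔞' h𝔞 m hm a ha j
  intro q hq hq1 hq2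
  -- the point of `U'` attached to `q`
  let y : PrimeSpectrum Γ(X', g' ⁻¹ᵁ U ⊓ f' ⁻¹ᵁ ⊤) := ⟨q, hq⟩
  have hx' : hU'.fromSpec y ∈ g' ⁻¹ᵁ U ⊓ f' ⁻¹ᵁ ⊤ := by
    have h1 : hU'.fromSpec y ∈ Set.range hU'.fromSpec := Set.mem_range_self y
    rw [hU'.range_fromSpec] at h1
    exact h1
  have hy : hU'.primeIdealOf ⟨hU'.fromSpec y, hx'⟩ = y :=
    hU'.fromSpec.isOpenEmbedding.injective (hU'.fromSpec_primeIdealOf ⟨hU'.fromSpec y, hx'⟩)
  have hfst : g'.base (hU'.fromSpec y) = x := by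
    have h1 := IsAffineOpen.comap_primeIdealOf_appLE U hU _ hU' e1 hx'
    rw [hy] at h1
    have h2 : hU.primeIdealOf ⟨g' (hU'.fromSpec y), e1 hx'⟩ = hU.primeIdealOf ⟨x, hxU⟩ := by
      rw [← h1]
      exact PrimeSpectrum.ext hq1
    have h3 := congrArg hU.fromSpec h2
    rw [hU.fromSpec_primeIdealOf, hU.fromSpec_primeIdealOf] at h3
    exact h3
  have hsnd : hS'.primeIdealOf ⟨f'.base (hU'.fromSpec y), trivial⟩ =
      IsLocalRing.closedPoint Γ(S', ⊤) := by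
    have h1 := IsAffineOpen.comap_primeIdealOf_appLE ⊤ hS' _ hU' e2 hx'
    rw [hy] at h1
    rw [← h1]
    exact PrimeSpectrum.ext hq2
  have hfl := hflat _ hfst hsnd
  rw [isFlatOverAt_iff_flat_base f' _ hS' _ (e2 hx')] at hfl
  letI mCst := moduleStalkSections ((Scheme.Modules.pullback g').obj F) _ (hU'.fromSpec y) hx'
  letI mA'st := moduleStalkBase f' ((Scheme.Modules.pullback g').obj F) ⊤ (hU'.fromSpec y) (e2 hx')
  haveI tst : IsScalarTower Γ(S', ⊤) Γ(X', g' ⁻¹ᵁ U ⊓ f' ⁻¹ᵁ ⊤)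
      (((Scheme.Modules.pullback g').obj F).presheaf.stalk (hU'.fromSpec y)) := by
    refine ⟨fun a b z => ?_⟩
    change X'.presheaf.germ _ (hU'.fromSpec y) hx' ((f'.appLE ⊤ _ e2).hom a * b) • z =
      (f'.stalkMap (hU'.fromSpec y)).hom
        (S'.presheaf.germ ⊤ (f'.base (hU'.fromSpec y)) (e2 hx') a) •
        (X'.presheaf.germ _ (hU'.fromSpec y) hx' b • z)
    rw [map_mul, mul_smul, stalkMap_germ_eq f' e2 (hU'.fromSpec y) hx' a]
  have loc := isLocalizedModule_germ hU' ((Scheme.Modules.pullback g').obj F) (hU'.fromSpec y) hx'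
  rw [hy] at loc
  haveI := loc
  let e : LocalizedModule q.primeCompl
      Γ((Scheme.Modules.pullback g').obj F, g' ⁻¹ᵁ U ⊓ f' ⁻¹ᵁ ⊤) ≃ₗ[Γ(X', g' ⁻¹ᵁ U ⊓ f' ⁻¹ᵁ ⊤)]
      ((Scheme.Modules.pullback g').obj F).presheaf.stalk (hU'.fromSpec y) :=
    IsLocalizedModule.iso q.primeCompl
      (germₗ ((Scheme.Modules.pullback g').obj F) _ (hU'.fromSpec y) hx')
  haveI : Module.Flat Γ(S', ⊤)
      (((Scheme.Modules.pullback g').obj F).presheaf.stalk (hU'.fromSpec y)) := hfl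
  exact Module.Flat.of_linearEquiv (e.restrictScalars Γ(S', ⊤))


theorem comap_maximalIdeal_pow_of_ringEquiv {R S : Type*} [CommRing R] [CommRing S] [IsLocalRing R]
    [IsLocalRing S] (e : R ≃+* S) (n : ℕ) :
    (IsLocalRing.maximalIdeal S ^ n).comap e = IsLocalRing.maximalIdeal R ^ n := by
  rw [← Ideal.map_symm, Ideal.map_pow]
  congr 1
  exact IsLocalRing.map_maximalIdeal_of_surjective (e.symm : S →+* R) e.symm.surjective

/-- **EGA IV 11.5.2 over a local base**: `O` Noetherian local, `f : X ⟶ Spec O` locally of finite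
type, `F` coherent, `x` over the closed point; a family of local homomorphisms `φ i : O → A i` defining
the `𝔪`-adic topology; if the pullbacks of `F` are flat at the points over `x` and the closed points,
then `F` is flat at `x`. -/
theorem isFlatOverAt_of_adic_family_local {O : Type u} [CommRing O] [IsLocalRing O]
    [IsNoetherianRing O] {X : Scheme.{u}} (f : X ⟶ Spec (CommRingCat.of O))
    [LocallyOfFiniteType f] (F : X.Modules) [F.IsQuasicoherent]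
    [SheafOfModules.IsFiniteType (R := X.ringCatSheaf) F] (x : X)
    (hx : f.base x = IsLocalRing.closedPoint O)
    {ι : Type u} (A : ι → Type u) [∀ i, CommRing (A i)] [∀ i, IsLocalRing (A i)]
    (φ : ∀ i, O →+* A i) [∀ i, IsLocalHom (φ i)]
    (htop : ∀ N : ℕ, ∃ s : Finset (ι × ℕ),
      ⨅ p ∈ s, Ideal.comap (φ p.1) (IsLocalRing.maximalIdeal (A p.1) ^ p.2) ≤
        IsLocalRing.maximalIdeal O ^ N)
    (hflat : ∀ (i : ι) (x' : ↥(pullback f (Spec.map (CommRingCat.ofHom (φ i))))),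
      (pullback.fst f (Spec.map (CommRingCat.ofHom (φ i)))).base x' = x →
      (pullback.snd f (Spec.map (CommRingCat.ofHom (φ i)))).base x' =
        IsLocalRing.closedPoint (A i) →
      FlatMod.IsFlatOverAt (pullback.snd f (Spec.map (CommRingCat.ofHom (φ i))))
        ((Scheme.Modules.pullback (pullback.fst f (Spec.map (CommRingCat.ofHom (φ i))))).obj F) x') :
    FlatMod.IsFlatOverAt f F x := by
  classical
  have hS : IsAffineOpen (⊤ : (Spec (CommRingCat.of O)).Opens) := isAffineOpen_top _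
  let eA : Γ(Spec (CommRingCat.of O), ⊤) ≃+* O :=
    (Scheme.ΓSpecIso (CommRingCat.of O)).commRingCatIsoToRingEquiv
  haveI : IsLocalRing Γ(Spec (CommRingCat.of O), ⊤) := eA.symm.isLocalRing
  haveI : IsNoetherianRing Γ(Spec (CommRingCat.of O), ⊤) := isNoetherianRing_of_ringEquiv O eA.symm
  haveI : IsLocallyNoetherian X := LocallyOfFiniteType.isLocallyNoetherian f
  obtain ⟨U, hU, hxU⟩ : ∃ U : X.Opens, IsAffineOpen U ∧ x ∈ U := by
    obtain ⟨W, hW⟩ := (X.isBasis_affineOpens).exists_subset_of_mem_open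
      (Set.mem_univ x) isOpen_univ
    obtain ⟨⟨U, hU, rfl⟩, hxU, -⟩ := hW
    exact ⟨U, hU, hxU⟩
  have eU : U ≤ f ⁻¹ᵁ ⊤ := le_top
  rw [isFlatOverAt_iff_flat_base f F hS x (eU hxU)]
  letI aAB : Algebra Γ(Spec (CommRingCat.of O), ⊤) Γ(X, U) := (f.appLE ⊤ U eU).hom.toAlgebra
  letI mAM : Module Γ(Spec (CommRingCat.of O), ⊤) Γ(F, U) :=
    Module.compHom Γ(F, U) (f.appLE ⊤ U eU).hom
  haveI tABM : IsScalarTower Γ(Spec (CommRingCat.of O), ⊤) Γ(X, U) Γ(F, U) :=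
    IsScalarTower.of_algebraMap_smul (fun _ _ => rfl)
  haveI : IsNoetherianRing Γ(X, U) := IsLocallyNoetherian.component_noetherian ⟨U, hU⟩
  haveI : Module.Finite Γ(X, U) Γ(F, U) := finite_of_isFiniteType F hU
  haveI hpp : (hU.primeIdealOf ⟨x, hxU⟩).asIdeal.IsPrime := (hU.primeIdealOf ⟨x, hxU⟩).isPrime
  letI mBst := moduleStalkSections F U x hxU
  letI mAst := moduleStalkBase f F ⊤ x (eU hxU)
  haveI tst : IsScalarTower Γ(Spec (CommRingCat.of O), ⊤) Γ(X, U) (F.presheaf.stalk x) := by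
    refine ⟨fun a b y => ?_⟩
    change X.presheaf.germ U x hxU ((f.appLE ⊤ U eU).hom a * b) • y =
      (f.stalkMap x).hom ((Spec (CommRingCat.of O)).presheaf.germ ⊤ (f.base x) (eU hxU) a) •
        (X.presheaf.germ U x hxU b • y)
    rw [map_mul, mul_smul, stalkMap_germ_eq f eU x hxU a]
  haveI loc := isLocalizedModule_germ hU F x hxU
  let e : LocalizedModule (hU.primeIdealOf ⟨x, hxU⟩).asIdeal.primeCompl Γ(F, U) ≃ₗ[Γ(X, U)]
      F.presheaf.stalk x :=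
    IsLocalizedModule.iso (hU.primeIdealOf ⟨x, hxU⟩).asIdeal.primeCompl (germₗ F U x hxU)
  suffices hfl : Module.Flat Γ(Spec (CommRingCat.of O), ⊤)
      (LocalizedModule (hU.primeIdealOf ⟨x, hxU⟩).asIdeal.primeCompl Γ(F, U)) from
    Module.Flat.of_linearEquiv (e.symm.restrictScalars Γ(Spec (CommRingCat.of O), ⊤))
  -- the closed point of `Spec O` and of `Spec Γ`
  have hcl : ∀ (R : Type u) [CommRing R] [IsLocalRing R] [IsLocalRing Γ(Spec (CommRingCat.of R), ⊤)],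
      (isAffineOpen_top (Spec (CommRingCat.of R))).fromSpec
        (IsLocalRing.closedPoint Γ(Spec (CommRingCat.of R), ⊤)) = IsLocalRing.closedPoint R := by
    intro R _ _ _
    rw [IsAffineOpen.fromSpec_top, Scheme.isoSpec_Spec_inv]
    haveI : IsLocalHom (Scheme.ΓSpecIso (CommRingCat.of R)).inv.hom := isLocalHom_of_isIso _
    exact IsLocalRing.comap_closedPoint (Scheme.ΓSpecIso (CommRingCat.of R)).inv.hom
  have hp : (IsLocalRing.maximalIdeal Γ(Spec (CommRingCat.of O), ⊤)).map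
      (algebraMap Γ(Spec (CommRingCat.of O), ⊤) Γ(X, U)) ≤ (hU.primeIdealOf ⟨x, hxU⟩).asIdeal := by
    have h1 := IsAffineOpen.comap_primeIdealOf_appLE ⊤ hS U hU eU hxU
    have h2 : hS.primeIdealOf ⟨f x, eU hxU⟩ =
        IsLocalRing.closedPoint Γ(Spec (CommRingCat.of O), ⊤) := by
      apply hS.fromSpec.isOpenEmbedding.injective
      rw [hS.fromSpec_primeIdealOf, hcl O]
      exact hx
    rw [h2] at h1
    rw [Ideal.map_le_iff_le_comap]
    intro a ha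
    have h3 : a ∈ (PrimeSpectrum.comap (f.appLE ⊤ U eU).hom (hU.primeIdealOf ⟨x, hxU⟩)).asIdeal := by
      rw [h1]; exact ha
    exact h3
  have hpow : ∀ n : ℕ, (IsLocalRing.maximalIdeal O ^ n).comap eA =
      IsLocalRing.maximalIdeal Γ(Spec (CommRingCat.of O), ⊤) ^ n := by
    intro n
    exact comap_maximalIdeal_pow_of_ringEquiv eA n
  refine flat_localizedModule_of_adic_relations (hU.primeIdealOf ⟨x, hxU⟩).asIdeal Γ(F, U) hp ?_
  intro n hn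
  obtain ⟨s, hs⟩ := htop n
  refine ⟨(⨅ p ∈ s, Ideal.comap (φ p.1) (IsLocalRing.maximalIdeal (A p.1) ^ p.2)).comap
    eA, s.sup (fun p => p.2), ?_, ?_, ?_⟩
  · rw [← hpow]
    exact Ideal.comap_mono hs
  · rw [← hpow]
    refine Ideal.comap_mono ?_
    refine le_iInf₂ fun p hp => ?_
    have h1 : IsLocalRing.maximalIdeal O ≤
        Ideal.comap (φ p.1) (IsLocalRing.maximalIdeal (A p.1)) := by
      intro r hr
      rw [Ideal.mem_comap, IsLocalRing.mem_maximalIdeal, mem_nonunits_iff] at *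
      exact fun hu => hr (isUnit_of_map_unit (φ p.1) r hu)
    calc IsLocalRing.maximalIdeal O ^ s.sup (fun p => p.2)
        ≤ IsLocalRing.maximalIdeal O ^ p.2 :=
          Ideal.pow_le_pow_right (Finset.le_sup (f := fun p : ι × ℕ => p.2) hp)
      _ ≤ (Ideal.comap (φ p.1) (IsLocalRing.maximalIdeal (A p.1))) ^ p.2 := Ideal.pow_right_mono h1 _
      _ ≤ Ideal.comap (φ p.1) (IsLocalRing.maximalIdeal (A p.1) ^ p.2) := Ideal.le_comap_pow _ _
  · intro ι' m hm a ha j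
    rw [Ideal.mem_comap, Ideal.mem_iInf]
    intro pk
    rw [Ideal.mem_iInf]
    intro hpk
    rw [Ideal.mem_comap]
    -- the member `pk = (i, k)` of the family
    have hS' : IsAffineOpen (⊤ : (Spec (CommRingCat.of (A pk.1))).Opens) := isAffineOpen_top _
    let eA' : Γ(Spec (CommRingCat.of (A pk.1)), ⊤) ≃+* A pk.1 :=
      (Scheme.ΓSpecIso (CommRingCat.of (A pk.1))).commRingCatIsoToRingEquiv
    haveI : IsLocalRing Γ(Spec (CommRingCat.of (A pk.1)), ⊤) := eA'.symm.isLocalRing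
    have hnat : ∀ r : Γ(Spec (CommRingCat.of O), ⊤),
        eA' (((Spec.map (CommRingCat.ofHom (φ pk.1))).appLE ⊤ ⊤ le_top).hom r) =
          φ pk.1 (eA r) := by
      intro r
      have h3 := Scheme.ΓSpecIso_naturality (CommRingCat.ofHom (φ pk.1))
      have h4 := congrArg (fun ψ => ψ.hom r) h3
      simp only [CommRingCat.hom_comp, RingHom.coe_comp, Function.comp_apply,
        CommRingCat.hom_ofHom] at h4
      have h5 : ((Spec.map (CommRingCat.ofHom (φ pk.1))).appTop).hom r =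
          ((Spec.map (CommRingCat.ofHom (φ pk.1))).appLE ⊤ ⊤ le_top).hom r := by
        rw [Scheme.Hom.appTop, Scheme.Hom.app_eq_appLE]
        rfl
      rw [h5] at h4
      exact h4
    haveI : IsLocalHom ((Spec.map (CommRingCat.ofHom (φ pk.1))).appLE ⊤ ⊤ le_top).hom := by
      refine ⟨fun r hr => ?_⟩
      have h1 : IsUnit (φ pk.1 (eA r)) := by
        rw [← hnat]; exact hr.map eA'
      have h2 : IsUnit (eA r) := isUnit_of_map_unit (φ pk.1) _ h1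
      have h3 := h2.map eA.symm
      rwa [RingEquiv.symm_apply_apply] at h3
    have key := relation_mem (IsPullback.of_hasPullback f (Spec.map (CommRingCat.ofHom (φ pk.1))))
      hS hS' F hU x hxU ?_
      ((⨅ p ∈ s, Ideal.comap (φ p.1) (IsLocalRing.maximalIdeal (A p.1) ^ p.2)).comap eA)
      ((IsLocalRing.maximalIdeal (A pk.1) ^ pk.2).comap eA') ?_ m hm a ha j
    · rw [Ideal.mem_comap] at key
      have := hnat (a j)
      rw [← this]
      exact key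
    · intro x' h1 h2
      refine hflat pk.1 x' h1 ?_
      have h3 := hS'.fromSpec_primeIdealOf
        ⟨(pullback.snd f (Spec.map (CommRingCat.ofHom (φ pk.1)))).base x', trivial⟩
      rw [h2, hcl (A pk.1)] at h3
      exact h3.symm
    · intro r hr
      rw [Ideal.mem_comap] at hr ⊢
      have := hnat r
      change eA' _ ∈ _
      rw [this]
      have h1 := (iInf₂_le pk hpk : (⨅ p ∈ s, Ideal.comap (φ p.1)
        (IsLocalRing.maximalIdeal (A p.1) ^ p.2)) ≤ _) hr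
      exact h1

end Groth.Agent.Lib.Helper26.ArtFlatGeom
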