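import Mathlib
import Groth.Agent.Lib.Helper26ArtFlatGeom2
import Groth.Agent.Lib.Helper20PrimFlat

/-!
# Flatness via a family, primary residue field extension: geometric layer (helper20)

Variants of helper26's `relation_mem` / `isFlatOverAt_of_adic_family_local` where flatness is only
assumed at ONE point above `x` and the closed point, but `κ(x)` is a primary extension of the residue
field of the base (EGA IV 11.5.1 (ii)+(iii), 11.5.3).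
-/

set_option autoImplicit false
universe u
open CategoryTheory AlgebraicGeometry CategoryTheory.Limits TensorProduct

namespace Groth.Agent.Lib.Helper20.PrimFlatGeom
set_option linter.style.haveILetI false

open Groth.Agent.Lib.Helper2.FlatOver Groth.Agent.Lib.Helper2.PullbackSec
  Groth.Agent.Lib.Helper2.QCoh
  Groth.Agent.Lib.Helper26.ArtFlat Groth.Agent.Lib.Helper23.FinType
  Groth.Agent.Lib.Helper26.ArtFlatGeom
  Groth.Agent.Lib.Helper20.PrimNZD Groth.Agent.Lib.Helper20.PrimFlat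

/-- field-level primary hypothesis (as in the statements) gives `IsPrimaryHom`. -/
theorem isPrimaryHom_of_field {K₀ K : Type*} [Field K₀] [Field K] (a : K₀ →+* K)
    (h : letI := a.toAlgebra; ∀ α : K, IsSeparable K₀ α → α ∈ a.range) : IsPrimaryHom a := by
  letI := a.toAlgebra
  rintro α ⟨P, hP, hα⟩
  apply h
  have hP' : P.Separable := (Polynomial.separable_map a).mp hP
  have h0 : Polynomial.aeval α P = 0 := by rw [Polynomial.aeval_def]; exact hα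
  exact hP'.of_dvd (minpoly.dvd K₀ α h0)

/-- precomposing with a surjection. -/
theorem IsPrimaryHom.comp_surjective {A K₀ K : Type*} [CommRing A] [Field K₀] [Field K]
    (a : K₀ →+* K) (h : IsPrimaryHom a) (ev : A →+* K₀) (hev : Function.Surjective ev) :
    IsPrimaryHom (a.comp ev) := by
  rintro α ⟨P, hP, hα⟩
  have h1 := h α ⟨P.map ev, by rw [Polynomial.map_map]; exact hP, by
    rw [Polynomial.eval₂_map]; exact hα⟩
  obtain ⟨β, rfl⟩ := h1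
  obtain ⟨r, rfl⟩ := hev β
  exact ⟨r, rfl⟩

/-- transfer of primarity along a commutative square of fields with `b` and `c` surjective. -/
theorem IsPrimaryHom.transfer {K₀ K L K₁ : Type*} [Field K₀] [Field K] [Field L] [Field K₁]
    (a : K₀ →+* K) (b : K →+* K₁) (c : K₀ →+* L) (d : L →+* K₁)
    (hsq : b.comp a = d.comp c) (hb : Function.Surjective b) (hc : Function.Surjective c)
    (h : IsPrimaryHom a) : IsPrimaryHom d := by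
  rintro α ⟨P, hP, hα⟩
  obtain ⟨β, rfl⟩ := hb α
  obtain ⟨P₀, rfl⟩ : ∃ P₀ : Polynomial K₀, P₀.map c = P :=
    Polynomial.map_surjective c hc P
  have hP₀ : P₀.Separable := by
    rw [Polynomial.map_map] at hP
    exact (Polynomial.separable_map _).mp hP
  have h1 : Polynomial.eval₂ a β P₀ = 0 := by
    apply b.injective
    rw [Polynomial.hom_eval₂, map_zero, hsq, ← Polynomial.eval₂_map]
    exact hα
  obtain ⟨γ, rfl⟩ := h β ⟨P₀, (Polynomial.separable_map a).mpr hP₀, h1⟩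
  refine ⟨c γ, ?_⟩
  exact (RingHom.congr_fun hsq γ).symm


theorem ker_evaluation {X : Scheme.{u}} {U : X.Opens} (hU : IsAffineOpen U) (x : X) (hxU : x ∈ U) :
    RingHom.ker (X.evaluation U x hxU).hom = (hU.primeIdealOf ⟨x, hxU⟩).asIdeal := by
  ext s
  rw [RingHom.mem_ker, hU.primeIdealOf_eq_map_closedPoint]
  change IsLocalRing.residue _ ((X.presheaf.germ U x hxU).hom s) = 0 ↔
    (X.presheaf.germ U x hxU).hom s ∈ IsLocalRing.maximalIdeal _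
  exact IsLocalRing.residue_eq_zero_iff _

theorem evaluation_surjective_of_closedPoint {S : Scheme.{u}} (hS : IsAffineOpen (⊤ : S.Opens))
    [IsLocalRing Γ(S, ⊤)] (y : S)
    (hy : hS.primeIdealOf ⟨y, trivial⟩ = IsLocalRing.closedPoint Γ(S, ⊤)) :
    Function.Surjective (S.evaluation ⊤ y trivial).hom := by
  have h1 : Function.Surjective (S.presheaf.germ ⊤ y trivial).hom := by
    letI := S.presheaf.algebra_section_stalk (U := ⊤) ⟨y, trivial⟩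
    haveI := hS.isLocalization_stalk ⟨y, trivial⟩
    have hunits : ∀ s ∈ (hS.primeIdealOf ⟨y, trivial⟩).asIdeal.primeCompl, IsUnit s := by
      intro s hs
      rw [hy] at hs
      exact (IsLocalRing.notMem_maximalIdeal).mp hs
    let e := IsLocalization.atUnits Γ(S, ⊤) (hS.primeIdealOf ⟨y, trivial⟩).asIdeal.primeCompl
      (S := S.presheaf.stalk y) hunits
    intro z
    obtain ⟨r, hr⟩ := e.surjective z
    refine ⟨r, ?_⟩
    rw [← hr]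
    exact (e.commutes r).symm.trans (by rfl)
  exact (S.residue_surjective y).comp h1

theorem evaluation_comp_appLE {X S : Scheme.{u}} (f : X ⟶ S) (x : X) {U : X.Opens} (hxU : x ∈ U) :
    (X.evaluation U x hxU).hom.comp (f.appLE ⊤ U le_top).hom =
      (f.residueFieldMap x).hom.comp (S.evaluation ⊤ (f x) trivial).hom := by
  ext r
  have e : U ≤ f ⁻¹ᵁ ⊤ := le_top
  have h1 := stalkMap_germ_eq f e x hxU r
  have h2 := congrArg (fun φ => φ.hom (S.presheaf.germ ⊤ (f x) trivial r))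
    (Scheme.residue_residueFieldMap f x)
  simp only [CommRingCat.hom_comp, RingHom.coe_comp, Function.comp_apply] at h2
  change (X.residue x).hom ((X.presheaf.germ U x hxU).hom ((f.appLE ⊤ U le_top).hom r)) =
    (f.residueFieldMap x).hom ((S.residue (f x)).hom ((S.presheaf.germ ⊤ (f x) trivial).hom r))
  rw [h2]
  exact congrArg (X.residue x).hom h1.symm

theorem isPrimaryHom_evaluation_comp_appLE {X S : Scheme.{u}} (f : X ⟶ S)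
    (hS : IsAffineOpen (⊤ : S.Opens)) [IsLocalRing Γ(S, ⊤)]
    (x : X) {U : X.Opens} (hxU : x ∈ U)
    (hy : hS.primeIdealOf ⟨f x, trivial⟩ = IsLocalRing.closedPoint Γ(S, ⊤))
    (hprim : IsPrimaryHom (f.residueFieldMap x).hom) :
    IsPrimaryHom ((X.evaluation U x hxU).hom.comp (f.appLE ⊤ U le_top).hom) := by
  rw [evaluation_comp_appLE]
  exact IsPrimaryHom.comp_surjective _ hprim _ (evaluation_surjective_of_closedPoint hS (f x) hy)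



variable {X S X' S' : Scheme.{u}} {f : X ⟶ S} {f' : X' ⟶ S'} {g' : X' ⟶ X} {g : S' ⟶ S}

/-- **One member of the family, modulo ideals, one point** (geometric form). -/
theorem relation_mem_prim (hc : IsPullback g' f' f g)
    (hS : IsAffineOpen (⊤ : S.Opens)) (hS' : IsAffineOpen (⊤ : S'.Opens))
    [IsLocalRing Γ(S, ⊤)] [IsLocalRing Γ(S', ⊤)]
    [IsLocalHom (g.appLE ⊤ ⊤ le_top).hom] [IsLocallyNoetherian X]
    (F : X.Modules) [F.IsQuasicoherent] [SheafOfModules.IsFiniteType (R := X.ringCatSheaf) F]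
    {U : X.Opens} (hU : IsAffineOpen U) (x : X) (hxU : x ∈ U)
    {F₀ : Type u} [Field F₀] (χ : Γ(X, U) →+* F₀)
    (hχ : RingHom.ker χ = (hU.primeIdealOf ⟨x, hxU⟩).asIdeal)
    (hprim : IsPrimaryHom (χ.comp (f.appLE ⊤ U le_top).hom))
    (hflat : ∃ x' : X', g'.base x' = x ∧
      hS'.primeIdealOf ⟨f'.base x', trivial⟩ = IsLocalRing.closedPoint Γ(S', ⊤) ∧
      FlatMod.IsFlatOverAt f' ((Scheme.Modules.pullback g').obj F) x')
    (𝔞 : Ideal Γ(S, ⊤)) (𝔞' : Ideal Γ(S', ⊤))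
    (h𝔞 : ∀ r ∈ 𝔞, (g.appLE ⊤ ⊤ le_top).hom r ∈ 𝔞') :
    letI aAB : Algebra Γ(S, ⊤) Γ(X, U) := (f.appLE ⊤ U le_top).hom.toAlgebra
    letI mAM : Module Γ(S, ⊤) Γ(F, U) := Module.compHom Γ(F, U) (f.appLE ⊤ U le_top).hom
    haveI tABM : IsScalarTower Γ(S, ⊤) Γ(X, U) Γ(F, U) :=
      IsScalarTower.of_algebraMap_smul (fun _ _ => rfl)
    haveI := (hU.primeIdealOf ⟨x, hxU⟩).isPrime
    ∀ {ι' : Type u} (m : ι' → Γ(F, U)),
      LinearIndependent (IsLocalRing.ResidueField Γ(S, ⊤))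
        (fun i => (1 : IsLocalRing.ResidueField Γ(S, ⊤)) ⊗ₜ[Γ(S, ⊤)]
          (LocalizedModule.mk (m i) 1 :
            LocalizedModule (hU.primeIdealOf ⟨x, hxU⟩).asIdeal.primeCompl Γ(F, U))) →
      ∀ a : ι' →₀ Γ(S, ⊤),
        (LocalizedModule.mk (a.sum fun i r => r • m i) 1 :
          LocalizedModule (hU.primeIdealOf ⟨x, hxU⟩).asIdeal.primeCompl Γ(F, U)) ∈
          (𝔞 • ⊤ : Submodule Γ(S, ⊤)
            (LocalizedModule (hU.primeIdealOf ⟨x, hxU⟩).asIdeal.primeCompl Γ(F, U))) →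
        ∀ j, (g.appLE ⊤ ⊤ le_top).hom (a j) ∈ 𝔞' := by
  letI _aAB : Algebra Γ(S, ⊤) Γ(X, U) := (f.appLE ⊤ U le_top).hom.toAlgebra
  letI _mAM : Module Γ(S, ⊤) Γ(F, U) := Module.compHom Γ(F, U) (f.appLE ⊤ U le_top).hom
  haveI _tABM : IsScalarTower Γ(S, ⊤) Γ(X, U) Γ(F, U) :=
    IsScalarTower.of_algebraMap_smul (fun _ _ => rfl)
  haveI hpp := (hU.primeIdealOf ⟨x, hxU⟩).isPrime
  intro ι' m hm a ha j
  haveI : IsNoetherianRing Γ(X, U) := IsLocallyNoetherian.component_noetherian ⟨U, hU⟩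
  haveI : Module.Finite Γ(X, U) Γ(F, U) := finite_of_isFiniteType F hU
  have eU : U ≤ f ⁻¹ᵁ ⊤ := le_top
  have eV' : (⊤ : S'.Opens) ≤ g ⁻¹ᵁ ⊤ := le_top
  have hU' : IsAffineOpen (g' ⁻¹ᵁ U ⊓ f' ⁻¹ᵁ ⊤) := isAffineOpen_inf_preimage hc eV' eU hS hS' hU
  have e1 : g' ⁻¹ᵁ U ⊓ f' ⁻¹ᵁ ⊤ ≤ g' ⁻¹ᵁ U := inf_le_left
  have e2 : g' ⁻¹ᵁ U ⊓ f' ⁻¹ᵁ ⊤ ≤ f' ⁻¹ᵁ ⊤ := inf_le_right
  letI aAA' : Algebra Γ(S, ⊤) Γ(S', ⊤) := (g.appLE ⊤ ⊤ eV').hom.toAlgebra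
  letI aBB' : Algebra Γ(X, U) Γ(X', g' ⁻¹ᵁ U ⊓ f' ⁻¹ᵁ ⊤) := (g'.appLE U _ e1).hom.toAlgebra
  letI aA'B' : Algebra Γ(S', ⊤) Γ(X', g' ⁻¹ᵁ U ⊓ f' ⁻¹ᵁ ⊤) := (f'.appLE ⊤ _ e2).hom.toAlgebra
  letI aAB' : Algebra Γ(S, ⊤) Γ(X', g' ⁻¹ᵁ U ⊓ f' ⁻¹ᵁ ⊤) :=
    ((g'.appLE U _ e1).hom.comp (f.appLE ⊤ U eU).hom).toAlgebra
  haveI tABB' : IsScalarTower Γ(S, ⊤) Γ(X, U) Γ(X', g' ⁻¹ᵁ U ⊓ f' ⁻¹ᵁ ⊤) :=
    IsScalarTower.of_algebraMap_eq (fun a => rfl)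
  have hsq : ∀ a : Γ(S, ⊤), (g'.appLE U _ e1).hom ((f.appLE ⊤ U eU).hom a) =
      (f'.appLE ⊤ _ e2).hom ((g.appLE ⊤ ⊤ eV').hom a) := by
    intro a
    have h1 := Scheme.Hom.appLE_comp_appLE g' f ⊤ U _ eU e1
    have h2 := Scheme.Hom.appLE_comp_appLE f' g ⊤ ⊤ _ eV' e2
    have h3 : (f.appLE ⊤ U eU ≫ g'.appLE U _ e1) = (g.appLE ⊤ ⊤ eV' ≫ f'.appLE ⊤ _ e2) := by
      rw [h1, h2]
      congr 1
      exact hc.w
    exact congrArg (fun φ => φ.hom a) h3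
  haveI tAA'B' : IsScalarTower Γ(S, ⊤) Γ(S', ⊤) Γ(X', g' ⁻¹ᵁ U ⊓ f' ⁻¹ᵁ ⊤) :=
    IsScalarTower.of_algebraMap_eq hsq
  haveI hPO : Algebra.IsPushout Γ(S, ⊤) Γ(S', ⊤) Γ(X, U) Γ(X', g' ⁻¹ᵁ U ⊓ f' ⁻¹ᵁ ⊤) :=
    algebra_isPushout hc eV' eU hS hS' hU e1 e2
  haveI hloc : IsLocalHom (algebraMap Γ(S, ⊤) Γ(S', ⊤)) :=
    (inferInstance : IsLocalHom (g.appLE ⊤ ⊤ le_top).hom)
  -- the pulled back module and its sections
  haveI hHq : ((Scheme.Modules.pullback g').obj F).IsQuasicoherent := isQuasicoherent_pullback g' F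
  letI mBN : Module Γ(X, U) Γ((Scheme.Modules.pullback g').obj F, g' ⁻¹ᵁ U ⊓ f' ⁻¹ᵁ ⊤) :=
    Module.compHom _ (g'.appLE U _ e1).hom
  letI mA'N : Module Γ(S', ⊤) Γ((Scheme.Modules.pullback g').obj F, g' ⁻¹ᵁ U ⊓ f' ⁻¹ᵁ ⊤) :=
    Module.compHom _ (f'.appLE ⊤ _ e2).hom
  letI mAN : Module Γ(S, ⊤) Γ((Scheme.Modules.pullback g').obj F, g' ⁻¹ᵁ U ⊓ f' ⁻¹ᵁ ⊤) :=
    Module.compHom _ ((g'.appLE U _ e1).hom.comp (f.appLE ⊤ U eU).hom)
  haveI tBCN : IsScalarTower Γ(X, U) Γ(X', g' ⁻¹ᵁ U ⊓ f' ⁻¹ᵁ ⊤)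
      Γ((Scheme.Modules.pullback g').obj F, g' ⁻¹ᵁ U ⊓ f' ⁻¹ᵁ ⊤) :=
    IsScalarTower.of_algebraMap_smul (fun _ _ => rfl)
  haveI tA'CN : IsScalarTower Γ(S', ⊤) Γ(X', g' ⁻¹ᵁ U ⊓ f' ⁻¹ᵁ ⊤)
      Γ((Scheme.Modules.pullback g').obj F, g' ⁻¹ᵁ U ⊓ f' ⁻¹ᵁ ⊤) :=
    IsScalarTower.of_algebraMap_smul (fun _ _ => rfl)
  haveI tABN : IsScalarTower Γ(S, ⊤) Γ(X, U)
      Γ((Scheme.Modules.pullback g').obj F, g' ⁻¹ᵁ U ⊓ f' ⁻¹ᵁ ⊤) :=
    IsScalarTower.of_algebraMap_smul (fun _ _ => rfl)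
  haveI tAA'N : IsScalarTower Γ(S, ⊤) Γ(S', ⊤)
      Γ((Scheme.Modules.pullback g').obj F, g' ⁻¹ᵁ U ⊓ f' ⁻¹ᵁ ⊤) := by
    refine IsScalarTower.of_algebraMap_smul (fun a n => ?_)
    change (f'.appLE ⊤ _ e2).hom ((g.appLE ⊤ ⊤ eV').hom a) • n =
      (g'.appLE U _ e1).hom ((f.appLE ⊤ U eU).hom a) • n
    rw [hsq]
  obtain ⟨T⟩ := nonempty_sections_linearEquiv g' F hU' hU e1
  let ν : Γ(F, U) →ₗ[Γ(X, U)] Γ((Scheme.Modules.pullback g').obj F, g' ⁻¹ᵁ U ⊓ f' ⁻¹ᵁ ⊤) :=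
    (T.toLinearMap.restrictScalars Γ(X, U)).comp
      (TensorProduct.mk Γ(X, U) Γ(X', g' ⁻¹ᵁ U ⊓ f' ⁻¹ᵁ ⊤) Γ(F, U) 1)
  have hν : IsBaseChange Γ(X', g' ⁻¹ᵁ U ⊓ f' ⁻¹ᵁ ⊤) ν := IsBaseChange.of_equiv T (fun v => rfl)
  obtain ⟨x', hfst, hsnd, hfl⟩ := hflat
  subst hfst
  have hx' : x' ∈ g' ⁻¹ᵁ U ⊓ f' ⁻¹ᵁ ⊤ := ⟨hxU, trivial⟩
  haveI hqp : (hU'.primeIdealOf ⟨x', hx'⟩).asIdeal.IsPrime := (hU'.primeIdealOf ⟨x', hx'⟩).isPrime
  have hq1 : (hU'.primeIdealOf ⟨x', hx'⟩).asIdeal.comap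
      (algebraMap Γ(X, U) Γ(X', g' ⁻¹ᵁ U ⊓ f' ⁻¹ᵁ ⊤)) =
      (hU.primeIdealOf ⟨g'.base x', hxU⟩).asIdeal := by
    have h1 := IsAffineOpen.comap_primeIdealOf_appLE U hU _ hU' e1 hx'
    exact congrArg PrimeSpectrum.asIdeal h1
  have hq2 : (hU'.primeIdealOf ⟨x', hx'⟩).asIdeal.comap
      (algebraMap Γ(S', ⊤) Γ(X', g' ⁻¹ᵁ U ⊓ f' ⁻¹ᵁ ⊤)) =
      IsLocalRing.maximalIdeal Γ(S', ⊤) := by
    have h1 := IsAffineOpen.comap_primeIdealOf_appLE ⊤ hS' _ hU' e2 hx'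
    rw [hsnd] at h1
    exact congrArg PrimeSpectrum.asIdeal h1
  refine algebraMap_mem_of_relation_mem_prim (A := Γ(S, ⊤)) (A' := Γ(S', ⊤))
    (hU.primeIdealOf ⟨g'.base x', hxU⟩).asIdeal ν hν (hU'.primeIdealOf ⟨x', hx'⟩).asIdeal hq1 hq2 ?_
    χ hχ hprim 𝔞 𝔞' h𝔞 m hm a ha j
  rw [isFlatOverAt_iff_flat_base f' _ hS' _ (e2 hx')] at hfl
  letI mCst := moduleStalkSections ((Scheme.Modules.pullback g').obj F) _ x' hx'
  letI mA'st := moduleStalkBase f' ((Scheme.Modules.pullback g').obj F) ⊤ x' (e2 hx')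
  haveI tst : IsScalarTower Γ(S', ⊤) Γ(X', g' ⁻¹ᵁ U ⊓ f' ⁻¹ᵁ ⊤)
      (((Scheme.Modules.pullback g').obj F).presheaf.stalk x') := by
    refine ⟨fun a b z => ?_⟩
    change X'.presheaf.germ _ x' hx' ((f'.appLE ⊤ _ e2).hom a * b) • z =
      (f'.stalkMap x').hom
        (S'.presheaf.germ ⊤ (f'.base x') (e2 hx') a) •
        (X'.presheaf.germ _ x' hx' b • z)
    rw [map_mul, mul_smul, stalkMap_germ_eq f' e2 x' hx' a]
  haveI loc := isLocalizedModule_germ hU' ((Scheme.Modules.pullback g').obj F) x' hx'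
  let e : LocalizedModule (hU'.primeIdealOf ⟨x', hx'⟩).asIdeal.primeCompl
      Γ((Scheme.Modules.pullback g').obj F, g' ⁻¹ᵁ U ⊓ f' ⁻¹ᵁ ⊤) ≃ₗ[Γ(X', g' ⁻¹ᵁ U ⊓ f' ⁻¹ᵁ ⊤)]
      ((Scheme.Modules.pullback g').obj F).presheaf.stalk x' :=
    IsLocalizedModule.iso (hU'.primeIdealOf ⟨x', hx'⟩).asIdeal.primeCompl
      (germₗ ((Scheme.Modules.pullback g').obj F) _ x' hx')
  haveI : Module.Flat Γ(S', ⊤)
      (((Scheme.Modules.pullback g').obj F).presheaf.stalk x') := hfl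
  exact Module.Flat.of_linearEquiv (e.restrictScalars Γ(S', ⊤))

end Groth.Agent.Lib.Helper20.PrimFlatGeom
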