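import Mathlib
import Groth.Agent.Lib.Helper20PrimFlatGeom

/-!
# EGA IV 11.5.3 over a local base: primary residue extension, one flat point (helper20)
-/

set_option autoImplicit false
universe u
open CategoryTheory AlgebraicGeometry CategoryTheory.Limits TensorProduct

namespace Groth.Agent.Lib.Helper20.PrimFlatGeom
set_option linter.style.haveILetI false

open Groth.Agent.Lib.Helper2.FlatOver Groth.Agent.Lib.Helper2.PullbackSec
  Groth.Agent.Lib.Helper2.QCoh
  Groth.Agent.Lib.Helper26.ArtFlat Groth.Agent.Lib.Helper23.FinType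
  Groth.Agent.Lib.Helper26.ArtFlatGeom
  Groth.Agent.Lib.Helper20.PrimNZD Groth.Agent.Lib.Helper20.PrimFlat

/-- **EGA IV 11.5.2 over a local base**: `O` Noetherian local, `f : X ⟶ Spec O` locally of finite
type, `F` coherent, `x` over the closed point; a family of local homomorphisms `φ i : O → A i` defining
the `𝔪`-adic topology; if the pullbacks of `F` are flat at the points over `x` and the closed points,
then `F` is flat at `x`. -/
theorem isFlatOverAt_of_adic_family_local_prim {O : Type u} [CommRing O] [IsLocalRing O]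
    [IsNoetherianRing O] {X : Scheme.{u}} (f : X ⟶ Spec (CommRingCat.of O))
    [LocallyOfFiniteType f] (F : X.Modules) [F.IsQuasicoherent]
    [SheafOfModules.IsFiniteType (R := X.ringCatSheaf) F] (x : X)
    (hx : f.base x = IsLocalRing.closedPoint O)
    {ι : Type u} (A : ι → Type u) [∀ i, CommRing (A i)] [∀ i, IsLocalRing (A i)]
    (φ : ∀ i, O →+* A i) [∀ i, IsLocalHom (φ i)]
    (htop : ∀ N : ℕ, ∃ s : Finset (ι × ℕ),
      ⨅ p ∈ s, Ideal.comap (φ p.1) (IsLocalRing.maximalIdeal (A p.1) ^ p.2) ≤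
        IsLocalRing.maximalIdeal O ^ N)
    (hprim : IsPrimaryHom (f.residueFieldMap x).hom)
    (hflat : ∀ (i : ι), ∃ (x' : ↥(pullback f (Spec.map (CommRingCat.ofHom (φ i))))),
      (pullback.fst f (Spec.map (CommRingCat.ofHom (φ i)))).base x' = x ∧
      (pullback.snd f (Spec.map (CommRingCat.ofHom (φ i)))).base x' =
        IsLocalRing.closedPoint (A i) ∧
      FlatMod.IsFlatOverAt (pullback.snd f (Spec.map (CommRingCat.ofHom (φ i))))
        ((Scheme.Modules.pullback (pullback.fst f (Spec.map (CommRingCat.ofHom (φ i))))).obj F) x') :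
    FlatMod.IsFlatOverAt f F x := by
  classical
  have hS : IsAffineOpen (⊤ : (Spec (CommRingCat.of O)).Opens) := isAffineOpen_top _
  let eA : Γ(Spec (CommRingCat.of O), ⊤) ≃+* O :=
    (Scheme.ΓSpecIso (CommRingCat.of O)).commRingCatIsoToRingEquiv
  haveI : IsLocalRing Γ(Spec (CommRingCat.of O), ⊤) := eA.symm.isLocalRing
  haveI : IsNoetherianRing Γ(Spec (CommRingCat.of O), ⊤) := isNoetherianRing_of_ringEquiv O eA.symm
  haveI : IsLocallyNoetherian X := LocallyOfFiniteType.isLocallyNoetherian f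
  obtain ⟨U, hU, hxU⟩ : ∃ U : X.Opens, IsAffineOpen U ∧ x ∈ U := by
    obtain ⟨W, hW⟩ := (X.isBasis_affineOpens).exists_subset_of_mem_open
      (Set.mem_univ x) isOpen_univ
    obtain ⟨⟨U, hU, rfl⟩, hxU, -⟩ := hW
    exact ⟨U, hU, hxU⟩
  have eU : U ≤ f ⁻¹ᵁ ⊤ := le_top
  rw [isFlatOverAt_iff_flat_base f F hS x (eU hxU)]
  letI aAB : Algebra Γ(Spec (CommRingCat.of O), ⊤) Γ(X, U) := (f.appLE ⊤ U eU).hom.toAlgebra
  letI mAM : Module Γ(Spec (CommRingCat.of O), ⊤) Γ(F, U) :=
    Module.compHom Γ(F, U) (f.appLE ⊤ U eU).hom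
  haveI tABM : IsScalarTower Γ(Spec (CommRingCat.of O), ⊤) Γ(X, U) Γ(F, U) :=
    IsScalarTower.of_algebraMap_smul (fun _ _ => rfl)
  haveI : IsNoetherianRing Γ(X, U) := IsLocallyNoetherian.component_noetherian ⟨U, hU⟩
  haveI : Module.Finite Γ(X, U) Γ(F, U) := finite_of_isFiniteType F hU
  haveI hpp : (hU.primeIdealOf ⟨x, hxU⟩).asIdeal.IsPrime := (hU.primeIdealOf ⟨x, hxU⟩).isPrime
  letI mBst := moduleStalkSections F U x hxU
  letI mAst := moduleStalkBase f F ⊤ x (eU hxU)
  haveI tst : IsScalarTower Γ(Spec (CommRingCat.of O), ⊤) Γ(X, U) (F.presheaf.stalk x) := by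
    refine ⟨fun a b y => ?_⟩
    change X.presheaf.germ U x hxU ((f.appLE ⊤ U eU).hom a * b) • y =
      (f.stalkMap x).hom ((Spec (CommRingCat.of O)).presheaf.germ ⊤ (f.base x) (eU hxU) a) •
        (X.presheaf.germ U x hxU b • y)
    rw [map_mul, mul_smul, stalkMap_germ_eq f eU x hxU a]
  haveI loc := isLocalizedModule_germ hU F x hxU
  let e : LocalizedModule (hU.primeIdealOf ⟨x, hxU⟩).asIdeal.primeCompl Γ(F, U) ≃ₗ[Γ(X, U)]
      F.presheaf.stalk x :=
    IsLocalizedModule.iso (hU.primeIdealOf ⟨x, hxU⟩).asIdeal.primeCompl (germₗ F U x hxU)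
  suffices hfl : Module.Flat Γ(Spec (CommRingCat.of O), ⊤)
      (LocalizedModule (hU.primeIdealOf ⟨x, hxU⟩).asIdeal.primeCompl Γ(F, U)) from
    Module.Flat.of_linearEquiv (e.symm.restrictScalars Γ(Spec (CommRingCat.of O), ⊤))
  -- the closed point of `Spec O` and of `Spec Γ`
  have hcl : ∀ (R : Type u) [CommRing R] [IsLocalRing R] [IsLocalRing Γ(Spec (CommRingCat.of R), ⊤)],
      (isAffineOpen_top (Spec (CommRingCat.of R))).fromSpec
        (IsLocalRing.closedPoint Γ(Spec (CommRingCat.of R), ⊤)) = IsLocalRing.closedPoint R := by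
    intro R _ _ _
    rw [IsAffineOpen.fromSpec_top, Scheme.isoSpec_Spec_inv]
    haveI : IsLocalHom (Scheme.ΓSpecIso (CommRingCat.of R)).inv.hom := isLocalHom_of_isIso _
    exact IsLocalRing.comap_closedPoint (Scheme.ΓSpecIso (CommRingCat.of R)).inv.hom
  have hp : (IsLocalRing.maximalIdeal Γ(Spec (CommRingCat.of O), ⊤)).map
      (algebraMap Γ(Spec (CommRingCat.of O), ⊤) Γ(X, U)) ≤ (hU.primeIdealOf ⟨x, hxU⟩).asIdeal := by
    have h1 := IsAffineOpen.comap_primeIdealOf_appLE ⊤ hS U hU eU hxU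
    have h2 : hS.primeIdealOf ⟨f x, eU hxU⟩ =
        IsLocalRing.closedPoint Γ(Spec (CommRingCat.of O), ⊤) := by
      apply hS.fromSpec.isOpenEmbedding.injective
      rw [hS.fromSpec_primeIdealOf, hcl O]
      exact hx
    rw [h2] at h1
    rw [Ideal.map_le_iff_le_comap]
    intro a ha
    have h3 : a ∈ (PrimeSpectrum.comap (f.appLE ⊤ U eU).hom (hU.primeIdealOf ⟨x, hxU⟩)).asIdeal := by
      rw [h1]; exact ha
    exact h3
  have hy : hS.primeIdealOf ⟨f x, trivial⟩ =
      IsLocalRing.closedPoint Γ(Spec (CommRingCat.of O), ⊤) := by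
    apply hS.fromSpec.isOpenEmbedding.injective
    rw [hS.fromSpec_primeIdealOf, hcl O]
    exact hx
  have hχ := ker_evaluation hU x hxU
  have hprimU := isPrimaryHom_evaluation_comp_appLE f hS x hxU hy hprim
  have hpow : ∀ n : ℕ, (IsLocalRing.maximalIdeal O ^ n).comap eA =
      IsLocalRing.maximalIdeal Γ(Spec (CommRingCat.of O), ⊤) ^ n := by
    intro n
    exact comap_maximalIdeal_pow_of_ringEquiv eA n
  refine flat_localizedModule_of_adic_relations (hU.primeIdealOf ⟨x, hxU⟩).asIdeal Γ(F, U) hp ?_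
  intro n hn
  obtain ⟨s, hs⟩ := htop n
  refine ⟨(⨅ p ∈ s, Ideal.comap (φ p.1) (IsLocalRing.maximalIdeal (A p.1) ^ p.2)).comap
    eA, s.sup (fun p => p.2), ?_, ?_, ?_⟩
  · rw [← hpow]
    exact Ideal.comap_mono hs
  · rw [← hpow]
    refine Ideal.comap_mono ?_
    refine le_iInf₂ fun p hp => ?_
    have h1 : IsLocalRing.maximalIdeal O ≤
        Ideal.comap (φ p.1) (IsLocalRing.maximalIdeal (A p.1)) := by
      intro r hr
      rw [Ideal.mem_comap, IsLocalRing.mem_maximalIdeal, mem_nonunits_iff] at *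
      exact fun hu => hr (isUnit_of_map_unit (φ p.1) r hu)
    calc IsLocalRing.maximalIdeal O ^ s.sup (fun p => p.2)
        ≤ IsLocalRing.maximalIdeal O ^ p.2 :=
          Ideal.pow_le_pow_right (Finset.le_sup (f := fun p : ι × ℕ => p.2) hp)
      _ ≤ (Ideal.comap (φ p.1) (IsLocalRing.maximalIdeal (A p.1))) ^ p.2 := Ideal.pow_right_mono h1 _
      _ ≤ Ideal.comap (φ p.1) (IsLocalRing.maximalIdeal (A p.1) ^ p.2) := Ideal.le_comap_pow _ _
  · intro ι' m hm a ha j
    rw [Ideal.mem_comap, Ideal.mem_iInf]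
    intro pk
    rw [Ideal.mem_iInf]
    intro hpk
    rw [Ideal.mem_comap]
    -- the member `pk = (i, k)` of the family
    have hS' : IsAffineOpen (⊤ : (Spec (CommRingCat.of (A pk.1))).Opens) := isAffineOpen_top _
    let eA' : Γ(Spec (CommRingCat.of (A pk.1)), ⊤) ≃+* A pk.1 :=
      (Scheme.ΓSpecIso (CommRingCat.of (A pk.1))).commRingCatIsoToRingEquiv
    haveI : IsLocalRing Γ(Spec (CommRingCat.of (A pk.1)), ⊤) := eA'.symm.isLocalRing
    have hnat : ∀ r : Γ(Spec (CommRingCat.of O), ⊤),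
        eA' (((Spec.map (CommRingCat.ofHom (φ pk.1))).appLE ⊤ ⊤ le_top).hom r) =
          φ pk.1 (eA r) := by
      intro r
      have h3 := Scheme.ΓSpecIso_naturality (CommRingCat.ofHom (φ pk.1))
      have h4 := congrArg (fun ψ => ψ.hom r) h3
      simp only [CommRingCat.hom_comp, RingHom.coe_comp, Function.comp_apply,
        CommRingCat.hom_ofHom] at h4
      have h5 : ((Spec.map (CommRingCat.ofHom (φ pk.1))).appTop).hom r =
          ((Spec.map (CommRingCat.ofHom (φ pk.1))).appLE ⊤ ⊤ le_top).hom r := by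
        rw [Scheme.Hom.appTop, Scheme.Hom.app_eq_appLE]
        rfl
      rw [h5] at h4
      exact h4
    haveI : IsLocalHom ((Spec.map (CommRingCat.ofHom (φ pk.1))).appLE ⊤ ⊤ le_top).hom := by
      refine ⟨fun r hr => ?_⟩
      have h1 : IsUnit (φ pk.1 (eA r)) := by
        rw [← hnat]; exact hr.map eA'
      have h2 : IsUnit (eA r) := isUnit_of_map_unit (φ pk.1) _ h1
      have h3 := h2.map eA.symm
      rwa [RingEquiv.symm_apply_apply] at h3
    have key := relation_mem_prim
      (IsPullback.of_hasPullback f (Spec.map (CommRingCat.ofHom (φ pk.1))))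
      hS hS' F hU x hxU _ hχ hprimU ?_
      ((⨅ p ∈ s, Ideal.comap (φ p.1) (IsLocalRing.maximalIdeal (A p.1) ^ p.2)).comap eA)
      ((IsLocalRing.maximalIdeal (A pk.1) ^ pk.2).comap eA') ?_ m hm a ha j
    · rw [Ideal.mem_comap] at key
      have := hnat (a j)
      rw [← this]
      exact key
    · obtain ⟨x', h1, h2, h3⟩ := hflat pk.1
      refine ⟨x', h1, ?_, h3⟩
      apply hS'.fromSpec.isOpenEmbedding.injective
      rw [hS'.fromSpec_primeIdealOf, hcl (A pk.1)]
      exact h2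
    · intro r hr
      rw [Ideal.mem_comap] at hr ⊢
      have := hnat r
      change eA' _ ∈ _
      rw [this]
      have h1 := (iInf₂_le pk hpk : (⨅ p ∈ s, Ideal.comap (φ p.1)
        (IsLocalRing.maximalIdeal (A p.1) ^ p.2)) ≤ _) hr
      exact h1


end Groth.Agent.Lib.Helper20.PrimFlatGeom
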