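import Groth.Agent.Lib.Helper20GalCat
import Groth.Agent.Lib.Helper20GalPoint
import Groth.Agent.S14460
import Groth.Prelude.Def_SGA1t
import Mathlib

set_option autoImplicit false
universe u v
open CategoryTheory CategoryTheory.Limits AlgebraicGeometry TopologicalSpace

namespace Groth.Agent.Lib.Helper20.PrincCover

open SGA1 SGA1t Groth.Agent.Lib.Helper20

section transport

variable {X Y Z : Scheme.{u}} {G : Type u} [Group G] {ρ : G →* Aut X} {p : X ⟶ Y}

theorem isQuot_comp_iso (hp : IsQuot ρ p) (q : Y ⟶ Z) [IsIso q] : IsQuot ρ (p ≫ q) := by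
  haveI := hp.affine
  refine ⟨inferInstance, fun g => by rw [← Category.assoc, hp.inv], fun U => ?_, fun U s => ?_⟩
  · rw [Scheme.Hom.comp_app]
    intro a b hab
    have h1 := hp.injective (q ⁻¹ᵁ U) hab
    exact (ConcreteCategory.bijective_of_isIso (q.app U)).1 h1
  · refine Iff.trans ?_ (hp.range_iff (q ⁻¹ᵁ U) s)
    constructor
    · rintro ⟨a, rfl⟩
      exact ⟨(q.app U).hom a, by rw [Scheme.Hom.comp_app]; rfl⟩
    · rintro ⟨a, rfl⟩
      obtain ⟨a', rfl⟩ := (ConcreteCategory.bijective_of_isIso (q.app U)).2 a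
      exact ⟨a', by rw [Scheme.Hom.comp_app]; rfl⟩

end transport

section lift

variable {Y : Scheme.{u}} {G : Type v} [Group G] {P : FEt.Cat Y} {ρ : G →* Aut P}

/-- transfer a principal cover structure along a group isomorphism -/
theorem isPrincipal_comp_mulEquiv {H : Type*} [Group H] (e : H ≃* G) (hP : IsPrincipal G P ρ) :
    IsPrincipal H P (ρ.comp e.toMonoidHom) := by
  refine ⟨hP.1, fun Ω _ _ ξ s t => ?_⟩
  obtain ⟨g, hg, hg'⟩ := hP.2 Ω ξ s t
  refine ⟨e.symm g, ?_, ?_⟩
  · change (FEt.fiber ξ).map (ρ (e (e.symm g))).hom s = t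
    rw [e.apply_symm_apply]; exact hg
  · intro h hh
    rw [← hg' (e h) hh, e.symm_apply_apply]

end lift

section scheme

variable {Y : Scheme.{u}} {G : Type u} [Group G] (P : FEt.Cat Y) (ρ : G →* Aut P)

/-- the action on the underlying scheme -/
noncomputable def act : G →* Aut P.left where
  toFun g :=
    { hom := (ρ g).hom.left
      inv := (ρ g).inv.left
      hom_inv_id := by
        have := congrArg (fun φ : P ⟶ P => φ.left) (ρ g).hom_inv_id
        exact this
      inv_hom_id := by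
        have := congrArg (fun φ : P ⟶ P => φ.left) (ρ g).inv_hom_id
        exact this }
  map_one' := by
    apply Iso.ext
    change (ρ 1).hom.left = 𝟙 _
    rw [map_one]
    rfl
  map_mul' g h := by
    apply Iso.ext
    change (ρ (g * h)).hom.left = (ρ h).hom.left ≫ (ρ g).hom.left
    rw [map_mul]
    rfl

theorem act_hom (g : G) : (act P ρ g).hom = (ρ g).hom.left := rfl

theorem act_over (g : G) : (act P ρ g).hom ≫ P.hom = P.hom :=
  MorphismProperty.Over.w (ρ g).hom

theorem act_mul (g h : G) : (act P ρ (g * h)).hom = (act P ρ h).hom ≫ (act P ρ g).hom := by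
  rw [map_mul]; rfl

theorem act_one : (act P ρ 1).hom = 𝟙 _ := by
  rw [map_one]; rfl

variable {P ρ}

theorem existsUnique_act (hP : IsPrincipal G P ρ) {Ω : Type u} [Field Ω] [IsAlgClosed Ω]
    (s t : Spec (CommRingCat.of Ω) ⟶ P.left) (h : s ≫ P.hom = t ≫ P.hom) :
    ∃! g : G, s ≫ (act P ρ g).hom = t := by
  obtain ⟨g, hg, hg'⟩ := hP.2 Ω (s ≫ P.hom) ⟨s, rfl⟩ ⟨t, h.symm⟩
  refine ⟨g, congrArg Subtype.val hg, fun g' hg'' => hg' g' (Subtype.ext hg'')⟩

theorem exists_lift_point (hP : IsPrincipal G P ρ) {Ω : Type u} [Field Ω] [IsAlgClosed Ω]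
    (ξ : Spec (CommRingCat.of Ω) ⟶ Y) : ∃ s : Spec (CommRingCat.of Ω) ⟶ P.left, s ≫ P.hom = ξ := by
  obtain ⟨y, hy⟩ := hP.1 (ξ default)
  obtain ⟨s, hs, -⟩ := GalPoint.exists_lift_of_finite P.hom ξ y default hy
  exact ⟨s, hs⟩

theorem orbit_affine (x : P.left) :
    ∃ U : P.left.Opens, IsAffineOpen U ∧ ∀ g : G, (act P ρ g).hom.base x ∈ U := by
  obtain ⟨V, hV, hyV⟩ := exists_affine_nhd Y (P.hom x)
  refine ⟨P.hom ⁻¹ᵁ V, hV.preimage P.hom, fun g => ?_⟩
  change P.hom ((act P ρ g).hom x) ∈ V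
  rw [← Scheme.Hom.comp_apply, act_over]
  exact hyV

theorem isQuot_of_isPrincipal [Finite G] (hP : IsPrincipal G P ρ) : IsQuot (act P ρ) P.hom := by
  obtain ⟨Q, p, hp⟩ := QuotExists.exists_isQuot (act P ρ) orbit_affine
  haveI := epi_of_isQuot hp
  let q : Q ⟶ Y := desc hp P.hom (act_over P ρ)
  have hq : p ≫ q = P.hom := fac hp _ _
  obtain ⟨hfin, het⟩ := GalQuot.finite_etale_of_isQuot (act P ρ) P.hom (act_over P ρ) p hp q hq
  haveI : IsFinite p := by
    have : IsFinite (p ≫ q) := by rw [hq]; infer_instance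
    exact IsFinite.of_comp p q
  haveI : IsIso q := by
    apply Groth.Agent.S14460.isIso_of_bijective_geomPoints
    intro Ω _ _ t
    obtain ⟨s, hs⟩ := exists_lift_point hP t
    refine ⟨s ≫ p, by change (s ≫ p) ≫ q = t; rw [Category.assoc, hq, hs], ?_⟩
    intro t' ht'
    obtain ⟨y, hy⟩ := surjective_of_isQuot hp (t' default)
    obtain ⟨s', hs', -⟩ := GalPoint.exists_lift_of_finite p t' y default hy
    have h1 : s ≫ P.hom = s' ≫ P.hom := by
      rw [hs, ← hq, ← Category.assoc, hs', ht']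
    obtain ⟨g, hg, -⟩ := existsUnique_act hP s s' h1
    rw [← hs', ← hg, Category.assoc]
    congr 1
    exact hp.inv g
  rw [← hq]
  exact isQuot_comp_iso hp q

end scheme

end Groth.Agent.Lib.Helper20.PrincCover
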