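import Groth.Agent.Lib.Helper20PrincCover
import Mathlib

set_option autoImplicit false
universe u v
open CategoryTheory CategoryTheory.Limits AlgebraicGeometry TopologicalSpace

namespace Groth.Agent.Lib.Helper20.PrincCover

open SGA1 SGA1t Groth.Agent.Lib.Helper20

/-- algebraic form of a principal cover of an affine scheme -/
structure IsAlgTorsor {A B : Type u} [CommRing A] [CommRing B] (φ : A →+* B) {G : Type v} [Group G]
    (σ : G → B →+* B) : Prop where
  map_mul : ∀ g h, σ (g * h) = (σ h).comp (σ g)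
  map_one : σ 1 = RingHom.id B
  comp_base : ∀ g, (σ g).comp φ = φ
  inv : ∀ b : B, (∀ g, σ g b = b) → ∃ a : A, φ a = b
  lift : ∀ (Ω : Type u) [Field Ω] [IsAlgClosed Ω] (ξ : A →+* Ω), ∃ s : B →+* Ω, s.comp φ = ξ
  torsor : ∀ (Ω : Type u) [Field Ω] [IsAlgClosed Ω] (s s' : B →+* Ω), s.comp φ = s'.comp φ →
    ∃! g : G, s.comp (σ g) = s'

theorem IsAlgTorsor.comp_mulEquiv {A B : Type u} [CommRing A] [CommRing B] {φ : A →+* B}
    {G : Type v} [Group G] {σ : G → B →+* B} (h : IsAlgTorsor φ σ) {H : Type*} [Group H]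
    (e : H ≃* G) : IsAlgTorsor φ (fun x => σ (e x)) where
  map_mul g g' := by
    rw [_root_.map_mul]; exact h.map_mul _ _
  map_one := by
    rw [_root_.map_one]; exact h.map_one
  comp_base g := h.comp_base _
  inv b hb := h.inv b (fun g => by have := hb (e.symm g); rwa [e.apply_symm_apply] at this)
  lift := h.lift
  torsor Ω _ _ s s' hss' := by
    obtain ⟨g, hg, hg'⟩ := h.torsor Ω s s' hss'
    refine ⟨e.symm g, by simpa using hg, fun x hx => ?_⟩
    rw [← hg' (e x) hx, e.symm_apply_apply]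

section translate

variable {A : Type u} [CommRing A] {G : Type u} [Group G]
  (P : FEt.Cat (Spec (CommRingCat.of A))) (ρ : G →* Aut P)

instance : IsAffine P.left :=
  isAffine_of_isAffineHom (X := P.left) (Y := Spec (CommRingCat.of A)) P.hom

/-- the structure map on global sections -/
noncomputable def baseHom : A →+* Γ(P.left, ⊤) :=
  ((Scheme.ΓSpecIso (CommRingCat.of A)).inv ≫ P.hom.appTop).hom

/-- the action on global sections -/
noncomputable def sig (g : G) : Γ(P.left, ⊤) →+* Γ(P.left, ⊤) := ((act P ρ g).hom.appTop).hom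

theorem hom_eq : P.hom = P.left.isoSpec.hom ≫ Spec.map (CommRingCat.ofHom (baseHom P)) := by
  have h1 := Scheme.isoSpec_hom_naturality (X := P.left) (Y := Spec (CommRingCat.of A)) P.hom
  rw [Scheme.isoSpec_Spec_hom] at h1
  have h2 : P.hom = (P.left.isoSpec.hom ≫ Spec.map P.hom.appTop) ≫
      Spec.map (Scheme.ΓSpecIso (CommRingCat.of A)).inv := by
    rw [h1, Category.assoc, ← Spec.map_comp, Iso.inv_hom_id, Spec.map_id, Category.comp_id]
  rw [h2, Category.assoc, ← Spec.map_comp]
  rfl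

theorem act_isoSpec (g : G) :
    (act P ρ g).hom ≫ P.left.isoSpec.hom =
      P.left.isoSpec.hom ≫ Spec.map (CommRingCat.ofHom (sig P ρ g)) :=
  (Scheme.isoSpec_hom_naturality (X := P.left) (Y := P.left) (act P ρ g).hom).symm

/-- the point of `P` attached to a ring hom -/
noncomputable def pt {Ω : Type u} [Field Ω] (s : Γ(P.left, ⊤) →+* Ω) :
    Spec (CommRingCat.of Ω) ⟶ P.left :=
  Spec.map (CommRingCat.ofHom s) ≫ P.left.isoSpec.inv

theorem pt_hom {Ω : Type u} [Field Ω] (s : Γ(P.left, ⊤) →+* Ω) :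
    pt P s ≫ P.hom = Spec.map (CommRingCat.ofHom (s.comp (baseHom P))) := by
  rw [pt, hom_eq P, Category.assoc, Iso.inv_hom_id_assoc, ← Spec.map_comp]
  rfl

theorem pt_act {Ω : Type u} [Field Ω] (s : Γ(P.left, ⊤) →+* Ω) (g : G) :
    pt P s ≫ (act P ρ g).hom = pt P (s.comp (sig P ρ g)) := by
  rw [pt, pt, Category.assoc, ← cancel_mono P.left.isoSpec.hom, Category.assoc, Category.assoc,
    act_isoSpec, Iso.inv_hom_id_assoc, Category.assoc, Iso.inv_hom_id, Category.comp_id,
    ← Spec.map_comp]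
  rfl

theorem pt_injective {Ω : Type u} [Field Ω] : Function.Injective (pt P (Ω := Ω)) := by
  intro s s' h
  have h1 : Spec.map (CommRingCat.ofHom s) = Spec.map (CommRingCat.ofHom s') := by
    rw [← cancel_mono P.left.isoSpec.inv]; exact h
  have h2 := Spec.map_injective h1
  exact congrArg CommRingCat.Hom.hom h2

theorem pt_surjective {Ω : Type u} [Field Ω] : Function.Surjective (pt P (Ω := Ω)) := by
  intro t
  refine ⟨(Spec.preimage (t ≫ P.left.isoSpec.hom)).hom, ?_⟩
  rw [pt]
  change Spec.map (Spec.preimage (t ≫ P.left.isoSpec.hom)) ≫ _ = _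
  rw [Spec.map_preimage, Category.assoc, Iso.hom_inv_id, Category.comp_id]

variable {P ρ}

theorem isAlgTorsor_of_isPrincipal [Finite G] (hP : IsPrincipal G P ρ) :
    IsAlgTorsor (baseHom P) (sig P ρ) where
  map_mul g h := by
    unfold sig
    rw [act_mul, Scheme.Hom.comp_appTop]
    rfl
  map_one := by
    unfold sig
    rw [act_one]
    rfl
  comp_base g := by
    have h1 := act_over P ρ g
    have h2 : P.hom.appTop ≫ (act P ρ g).hom.appTop = P.hom.appTop := by
      rw [← Scheme.Hom.comp_appTop, h1]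
    unfold sig baseHom
    rw [← CommRingCat.hom_comp, Category.assoc, h2]
  inv b hb := by
    have hq := isQuot_of_isPrincipal hP
    obtain ⟨-, hr⟩ := isQuot_appLE' hq ⊤ ⊤ rfl le_rfl (fun g => le_top)
    have hE : ∀ (f : P.left ⟶ P.left) (e : (⊤ : P.left.Opens) ≤ f ⁻¹ᵁ ⊤),
        f.appLE ⊤ ⊤ e = f.appTop := by
      intro f e
      simp [Scheme.Hom.appLE, Scheme.Hom.appTop]
    have hE' : ∀ (e : (⊤ : P.left.Opens) ≤ P.hom ⁻¹ᵁ ⊤),
        P.hom.appLE ⊤ ⊤ e = P.hom.appTop := by
      intro e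
      simp [Scheme.Hom.appLE, Scheme.Hom.appTop]
    have h1 := (hr b).mpr (fun g => by
      rw [hE]
      exact hb g)
    obtain ⟨a', ha'⟩ := h1
    rw [hE'] at ha'
    refine ⟨(Scheme.ΓSpecIso (CommRingCat.of A)).hom.hom a', ?_⟩
    unfold baseHom
    rw [CommRingCat.hom_comp, RingHom.comp_apply]
    have : (Scheme.ΓSpecIso (CommRingCat.of A)).inv.hom
        ((Scheme.ΓSpecIso (CommRingCat.of A)).hom.hom a') = a' := by
      rw [← RingHom.comp_apply, ← CommRingCat.hom_comp, Iso.hom_inv_id]; rfl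
    rw [this]
    exact ha'
  lift Ω _ _ ξ := by
    obtain ⟨t, ht⟩ := exists_lift_point hP (Spec.map (CommRingCat.ofHom ξ))
    obtain ⟨s, rfl⟩ := pt_surjective P t
    rw [pt_hom] at ht
    exact ⟨s, congrArg CommRingCat.Hom.hom (Spec.map_injective ht)⟩
  torsor Ω _ _ s s' hss' := by
    have h1 : pt P s ≫ P.hom = pt P s' ≫ P.hom := by rw [pt_hom, pt_hom, hss']
    obtain ⟨g, hg, hg'⟩ := existsUnique_act hP _ _ h1
    rw [pt_act] at hg
    refine ⟨g, pt_injective P hg, fun g' hg'' => hg' g' ?_⟩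
    have hg3 : s.comp (sig P ρ g') = s' := hg''
    change pt P s ≫ (act P ρ g').hom = pt P s'
    rw [pt_act, hg3]

end translate

end Groth.Agent.Lib.Helper20.PrincCover
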