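import Groth.Agent.Lib.Helper20PrincCoverTrace
import Groth.Agent.S0294
import Mathlib

set_option autoImplicit false
universe u v
open CategoryTheory CategoryTheory.Limits AlgebraicGeometry TopologicalSpace

namespace Groth.Agent.Lib.Helper20.PrincCover

open SGA1 SGA1t Groth.Agent.Lib.Helper20

section fin

variable {Y : Scheme.{u}} {G : Type u} [Group G] {P : FEt.Cat Y} {ρ : G →* Aut P}

theorem finite_of_isPrincipal [Nonempty Y] (hP : IsPrincipal G P ρ) : Finite G := by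
  obtain ⟨y⟩ := ‹Nonempty Y›
  obtain ⟨Ω, _, _, ξ, -⟩ := Groth.Agent.Lib.Helper22.FEtGraph.exists_geometric_point y
  obtain ⟨s, hs⟩ := exists_lift_point hP ξ
  haveI : Finite (FEt.fiberObj ξ P) := Groth.Agent.S0294.result ξ P
  let orb : G → FEt.fiberObj ξ P := fun g => ⟨s ≫ (act P ρ g).hom, by
    rw [Category.assoc, act_over, hs]⟩
  apply Finite.of_injective orb
  intro g g' hgg'
  have h1 : s ≫ (act P ρ g).hom = s ≫ (act P ρ g').hom := congrArg Subtype.val hgg'
  obtain ⟨g₀, -, hu⟩ := existsUnique_act hP s (s ≫ (act P ρ g).hom) (by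
    rw [Category.assoc, act_over])
  rw [hu g rfl, hu g' h1.symm]

end fin

section h90

variable {A B : Type u} [CommRing A] [CommRing B] {φ : A →+* B}
    {G : Type v} [Group G] [Fintype G] {σ : G → B →+* B}

theorem IsAlgTorsor.prod_invariant (h : IsAlgTorsor φ σ) (b : B) (g : G) :
    σ g (∏ x, σ x b) = ∏ x, σ x b := by
  rw [map_prod]
  have : ∀ x, σ g (σ x b) = σ (x * g) b := fun x => by rw [h.map_mul]; rfl
  simp_rw [this]
  exact Fintype.prod_equiv (Equiv.mulRight g) _ _ (fun x => rfl)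

/-- unit criterion via the norm -/
theorem IsAlgTorsor.isUnit_of_forall_ne_zero (h : IsAlgTorsor φ σ) {Ω : Type*} [Field Ω]
    (ξ : A →+* Ω) (hξ : ∀ a, ξ a ≠ 0 → IsUnit a) (s₀ : B →+* Ω) (hs₀ : s₀.comp φ = ξ) (b : B)
    (hb : ∀ g, s₀ (σ g b) ≠ 0) : IsUnit b := by
  classical
  obtain ⟨a, ha⟩ := h.inv (∏ x, σ x b) (fun g => h.prod_invariant b g)
  have h1 : ξ a ≠ 0 := by
    rw [← hs₀, RingHom.comp_apply, ha, map_prod]
    exact Finset.prod_ne_zero_iff.mpr (fun g _ => hb g)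
  have h2 : IsUnit (∏ x, σ x b) := by rw [← ha]; exact (hξ a h1).map φ
  have h3 : b ∣ ∏ x, σ x b := by
    have := Finset.dvd_prod_of_mem (fun x => σ x b) (Finset.mem_univ (1 : G))
    rwa [h.map_one] at this
  exact isUnit_of_dvd_unit h3 h2

/-- Hilbert 90 for torsors over a local ring: every character has a unit eigenvector -/
theorem IsAlgTorsor.exists_eigen_unit (h : IsAlgTorsor φ σ) [IsLocalRing A] (χ : G →* Aˣ) :
    ∃ θ : Bˣ, ∀ g, σ g θ = φ (χ g) * θ := by
  classical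
  let k := IsLocalRing.ResidueField A
  let Ω := AlgebraicClosure k
  let ξ : A →+* Ω := (algebraMap k Ω).comp (IsLocalRing.residue A)
  have hξ : ∀ a, ξ a ≠ 0 → IsUnit a := by
    intro a ha
    by_contra hna
    apply ha
    have : IsLocalRing.residue A a = 0 := (IsLocalRing.residue_eq_zero_iff a).mpr
      ((IsLocalRing.mem_maximalIdeal a).mpr hna)
    change algebraMap k Ω (IsLocalRing.residue A a) = 0
    rw [this, map_zero]
  obtain ⟨s₀, hs₀⟩ := h.lift Ω ξ
  -- the resolvent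
  let res : B → B := fun c => ∑ g, φ ((χ g)⁻¹ : Aˣ) * σ g c
  have hres : ∀ c g, σ g (res c) = φ (χ g) * res c := by
    intro c g
    change σ g (∑ x, φ ((χ x)⁻¹ : Aˣ) * σ x c) = φ (χ g) * ∑ x, φ ((χ x)⁻¹ : Aˣ) * σ x c
    rw [map_sum, Finset.mul_sum]
    have h1 : ∀ x, σ g (φ ((χ x)⁻¹ : Aˣ) * σ x c) =
        φ (χ g) * (φ ((χ (x * g))⁻¹ : Aˣ) * σ (x * g) c) := by
      intro x
      have e1 : σ g (φ ((χ x)⁻¹ : Aˣ)) = φ ((χ x)⁻¹ : Aˣ) := RingHom.congr_fun (h.comp_base g) _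
      have e2 : σ g (σ x c) = σ (x * g) c := by rw [h.map_mul]; rfl
      have e3 : (((χ x)⁻¹ : Aˣ) : A) = (χ g : A) * (((χ (x * g))⁻¹ : Aˣ) : A) := by
        rw [← Units.val_mul, _root_.map_mul χ, mul_inv_rev, ← mul_assoc, mul_inv_cancel, one_mul]
      rw [_root_.map_mul (σ g), e1, e2, e3, _root_.map_mul φ, mul_assoc]
    simp_rw [h1]
    exact Fintype.sum_equiv (Equiv.mulRight g) _ _ (fun x => rfl)
  -- Dedekind
  have hinj : Function.Injective (fun g : G => ((s₀.comp (σ g) : B →+* Ω) : B →* Ω)) := by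
    intro g g' hgg'
    have h1 : s₀.comp (σ g) = s₀.comp (σ g') := by
      ext b
      exact DFunLike.congr_fun hgg' b
    obtain ⟨g₀, -, hu⟩ := h.torsor Ω s₀ (s₀.comp (σ g)) (by
      rw [RingHom.comp_assoc, h.comp_base])
    rw [hu g rfl, hu g' h1.symm]
  have hli := (linearIndependent_monoidHom B Ω).comp _ hinj
  rw [Fintype.linearIndependent_iff] at hli
  obtain ⟨c, hc⟩ : ∃ c, s₀ (res c) ≠ 0 := by
    by_contra hcon
    push Not at hcon
    have := hli (fun g => ξ ((χ g)⁻¹ : Aˣ)) (by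
      ext b
      simp only [Function.comp_apply, Finset.sum_apply, Pi.zero_apply, Pi.smul_apply, smul_eq_mul]
      have := hcon b
      change s₀ (∑ g, φ ((χ g)⁻¹ : Aˣ) * σ g b) = 0 at this
      rw [map_sum] at this
      rw [← this]
      refine Finset.sum_congr rfl fun g _ => ?_
      rw [_root_.map_mul, ← hs₀]
      rfl) 1
    have h2 : IsUnit (ξ ((χ 1)⁻¹ : Aˣ)) := (Units.isUnit _).map ξ
    exact h2.ne_zero this
  have hunit : IsUnit (res c) := by
    apply h.isUnit_of_forall_ne_zero ξ hξ s₀ hs₀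
    intro g
    rw [hres, _root_.map_mul]
    apply mul_ne_zero _ hc
    have h2 : IsUnit (s₀ (φ (χ g))) := ((Units.isUnit (χ g)).map φ).map s₀
    exact h2.ne_zero
  exact ⟨hunit.unit, fun g => hres c g⟩

end h90

end Groth.Agent.Lib.Helper20.PrincCover
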