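import Groth.Agent.Lib.Helper20PrincCoverAlg
import Mathlib

set_option autoImplicit false
universe u v
open CategoryTheory CategoryTheory.Limits AlgebraicGeometry TopologicalSpace

namespace Groth.Agent.Lib.Helper20.PrincCover

open SGA1 SGA1t Groth.Agent.Lib.Helper20

section trace

variable {A B : Type u} [CommRing A] [CommRing B] {φ : A →+* B}
    {G : Type v} [Group G] [Fintype G] {σ : G → B →+* B}

theorem IsAlgTorsor.sum_invariant (h : IsAlgTorsor φ σ) (b : B) (g : G) :
    σ g (∑ x, σ x b) = ∑ x, σ x b := by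
  rw [map_sum]
  have : ∀ x, σ g (σ x b) = σ (x * g) b := fun x => by rw [h.map_mul]; rfl
  simp_rw [this]
  exact Fintype.sum_equiv (Equiv.mulRight g) _ _ (fun x => rfl)

omit [Fintype G] in
theorem IsAlgTorsor.nontrivial_of_nontrivial (h : IsAlgTorsor φ σ) [Nontrivial A] : Nontrivial B := by
  obtain ⟨m, hm⟩ := Ideal.exists_maximal A
  letI : Field (A ⧸ m) := Ideal.Quotient.field m
  obtain ⟨s, -⟩ := h.lift (AlgebraicClosure (A ⧸ m))
    ((algebraMap (A ⧸ m) (AlgebraicClosure (A ⧸ m))).comp (Ideal.Quotient.mk m))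
  exact s.domain_nontrivial

theorem IsAlgTorsor.exists_sum_eq_one (h : IsAlgTorsor φ σ) : ∃ c : B, ∑ g, σ g c = 1 := by
  classical
  let I : Ideal A :=
    { carrier := {a | ∃ b, φ a = ∑ g, σ g b}
      add_mem' := by
        rintro a a' ⟨b, hb⟩ ⟨b', hb'⟩
        refine ⟨b + b', ?_⟩
        rw [map_add, hb, hb', ← Finset.sum_add_distrib]
        simp
      zero_mem' := ⟨0, by simp⟩
      smul_mem' := by
        rintro c a ⟨b, hb⟩
        refine ⟨φ c * b, ?_⟩
        rw [smul_eq_mul, _root_.map_mul, hb, Finset.mul_sum]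
        refine Finset.sum_congr rfl fun g _ => ?_
        rw [_root_.map_mul]
        congr 1
        exact (RingHom.congr_fun (h.comp_base g) c).symm }
  by_cases hI : I = ⊤
  · have h1 : (1 : A) ∈ I := by rw [hI]; trivial
    obtain ⟨b, hb⟩ := h1
    exact ⟨b, by rw [← hb, _root_.map_one]⟩
  · exfalso
    obtain ⟨m, hm, hIm⟩ := Ideal.exists_le_maximal I hI
    letI : Field (A ⧸ m) := Ideal.Quotient.field m
    let Ω := AlgebraicClosure (A ⧸ m)
    let ξ : A →+* Ω := (algebraMap (A ⧸ m) Ω).comp (Ideal.Quotient.mk m)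
    obtain ⟨s₀, hs₀⟩ := h.lift Ω ξ
    have hzero : ∀ b : B, ∑ g, s₀ (σ g b) = 0 := by
      intro b
      obtain ⟨a, ha⟩ := h.inv (∑ g, σ g b) (fun g => h.sum_invariant b g)
      have haI : a ∈ I := ⟨b, ha⟩
      have ham : a ∈ m := hIm haI
      rw [← map_sum, ← ha, ← RingHom.comp_apply, hs₀]
      change algebraMap (A ⧸ m) Ω (Ideal.Quotient.mk m a) = 0
      rw [Ideal.Quotient.eq_zero_iff_mem.mpr ham, map_zero]
    have hinj : Function.Injective (fun g : G => ((s₀.comp (σ g) : B →+* Ω) : B →* Ω)) := by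
      intro g g' hgg'
      have h1 : s₀.comp (σ g) = s₀.comp (σ g') := by
        ext b
        exact DFunLike.congr_fun hgg' b
      obtain ⟨g₀, -, hu⟩ := h.torsor Ω s₀ (s₀.comp (σ g)) (by
        rw [RingHom.comp_assoc, h.comp_base])
      rw [hu g rfl, hu g' h1.symm]
    have hli := (linearIndependent_monoidHom B Ω).comp _ hinj
    rw [Fintype.linearIndependent_iff] at hli
    have := hli (fun _ => 1) (by
      ext b
      simp only [Function.comp_apply, one_smul, Finset.sum_apply, Pi.zero_apply]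
      exact hzero b) 1
    exact one_ne_zero this

end trace

section bij

theorem bijective_of_geomPoints {A B C : Type u} [CommRing A] [CommRing B] [CommRing C]
    (φ : A →+* B) (χ : A →+* C) (ψ : C →+* B) (hψ : ψ.comp χ = φ) (hφ : φ.Etale) (hχ : χ.Etale)
    (h : ∀ (Ω : Type u) [Field Ω] [IsAlgClosed Ω] (t : C →+* Ω), ∃! s : B →+* Ω, s.comp ψ = t) :
    Function.Bijective ψ := by
  haveI : Etale (Spec.map (CommRingCat.ofHom χ)) :=
    (HasRingHomProperty.Spec_iff (P := @Etale)).mpr hχ
  haveI : Etale (Spec.map (CommRingCat.ofHom ψ) ≫ Spec.map (CommRingCat.ofHom χ)) := by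
    rw [← Spec.map_comp, ← CommRingCat.ofHom_comp, hψ]
    exact (HasRingHomProperty.Spec_iff (P := @Etale)).mpr hφ
  haveI : Etale (Spec.map (CommRingCat.ofHom ψ)) :=
    MorphismProperty.of_postcomp (W := @Etale) (W' := @Etale) _
      (Spec.map (CommRingCat.ofHom χ)) inferInstance inferInstance
  haveI : IsIso (Spec.map (CommRingCat.ofHom ψ)) := by
    apply Groth.Agent.S14460.isIso_of_bijective_geomPoints
    intro Ω _ _ t
    obtain ⟨s, hs, hs'⟩ := h Ω (Spec.preimage t).hom
    refine ⟨Spec.map (CommRingCat.ofHom s), ?_, ?_⟩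
    · change Spec.map (CommRingCat.ofHom s) ≫ Spec.map (CommRingCat.ofHom ψ) = t
      rw [← Spec.map_comp, ← CommRingCat.ofHom_comp, hs]
      exact Spec.map_preimage t
    · intro t' ht'
      have ht'' : t' ≫ Spec.map (CommRingCat.ofHom ψ) = t := ht'
      have h1 : (Spec.preimage t').hom = s := by
        apply hs'
        have h2 : Spec.map (CommRingCat.ofHom ψ ≫ Spec.preimage t') = t := by
          rw [Spec.map_comp, Spec.map_preimage, ht'']
        have h3 := congrArg Spec.preimage h2
        rw [Spec.preimage_map] at h3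
        rw [← h3]
        rfl
      rw [← Spec.map_preimage t']
      congr 1
      exact CommRingCat.hom_ext h1
  haveI : IsIso (CommRingCat.ofHom ψ) := by
    have : IsIso (Scheme.Spec.map (CommRingCat.ofHom ψ).op) := ‹IsIso (Spec.map _)›
    have h1 := isIso_of_reflects_iso (CommRingCat.ofHom ψ).op Scheme.Spec
    exact isIso_of_op _
  exact ConcreteCategory.bijective_of_isIso (CommRingCat.ofHom ψ)

end bij

section etale

open Polynomial

/-- a monic polynomial with derivative a unit modulo itself gives an etale algebra -/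
theorem etale_adjoinRoot {A : Type u} [CommRing A] (f : A[X]) (hf : f.Monic) (p₁ p₂ : A[X])
    (h : derivative f * p₁ + f * p₂ = 1) : Algebra.Etale A (AdjoinRoot f) := by
  let P : StandardEtalePair A := ⟨f, hf, 1, ⟨p₁, p₂, 0, by rw [h, pow_zero]⟩⟩
  have hmap : P.HasMap (AdjoinRoot.root f) := by
    refine ⟨?_, ?_⟩
    · change aeval (AdjoinRoot.root f) f = 0
      rw [AdjoinRoot.aeval_eq, AdjoinRoot.mk_self]
    · change IsUnit (aeval (AdjoinRoot.root f) (1 : A[X]))
      rw [map_one]; exact isUnit_one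
  let e : P.Ring ≃ₐ[A] AdjoinRoot f :=
    AlgEquiv.ofAlgHom (P.lift (AdjoinRoot.root f) hmap)
      (AdjoinRoot.liftAlgHom f (Algebra.ofId A P.Ring) P.X P.hasMap_X.1)
      (by ext; simp) (by ext; simp)
  exact Algebra.Etale.of_equiv e

theorem baseHom_etale {A : Type u} [CommRing A] (P : FEt.Cat (Spec (CommRingCat.of A))) :
    (baseHom P).Etale := by
  have h1 : Etale (P.left.isoSpec.hom ≫ Spec.map (CommRingCat.ofHom (baseHom P))) := by
    rw [← hom_eq]; infer_instance
  have h2 : Etale (Spec.map (CommRingCat.ofHom (baseHom P))) := by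
    have : Spec.map (CommRingCat.ofHom (baseHom P)) =
        P.left.isoSpec.inv ≫ P.left.isoSpec.hom ≫ Spec.map (CommRingCat.ofHom (baseHom P)) := by
      rw [Iso.inv_hom_id_assoc]
    rw [this]
    infer_instance
  exact (HasRingHomProperty.Spec_iff (P := @Etale)).mp h2

theorem baseHom_finite {A : Type u} [CommRing A] (P : FEt.Cat (Spec (CommRingCat.of A))) :
    (baseHom P).Finite := by
  have h1 : IsFinite (P.left.isoSpec.hom ≫ Spec.map (CommRingCat.ofHom (baseHom P))) := by
    rw [← hom_eq]; infer_instance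
  have h2 : IsFinite (Spec.map (CommRingCat.ofHom (baseHom P))) := by
    have : Spec.map (CommRingCat.ofHom (baseHom P)) =
        P.left.isoSpec.inv ≫ P.left.isoSpec.hom ≫ Spec.map (CommRingCat.ofHom (baseHom P)) := by
      rw [Iso.inv_hom_id_assoc]
    rw [this]
    infer_instance
  exact (HasAffineProperty.SpecMap_iff_of_affineAnd (P := @IsFinite) (Q := RingHom.Finite)
    inferInstance RingHom.finite_respectsIso _).mp h2

end etale

end Groth.Agent.Lib.Helper20.PrincCover
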