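import Groth.Agent.Lib.Helper20EffCartExt
import Groth.Agent.Lib.Helper20CDivOrd2

set_option autoImplicit false
set_option linter.style.haveILetI false
universe u
open CategoryTheory AlgebraicGeometry CategoryTheory.Limits TopologicalSpace

namespace Groth.Agent.Lib.Helper20.PropInt
open Groth.Agent.Lib.Helper20.EffCartier Groth.Agent.Lib.Helper20.EffCartUFD
open Groth.Agent.Lib.Helper20.CDivOrd2

theorem withBot_enat_lt_one {x : WithBot ℕ∞} (h : x < 1) : x ≤ 0 := by
  induction x using WithBot.recBotCoe with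
  | bot => exact bot_le
  | coe n =>
    have h1 : n < 1 := by exact_mod_cast h
    have h2 : n = 0 := Order.lt_one_iff.mp h1
    rw [h2]; rfl

theorem not_one_add_le {d : WithBot ℕ∞} (hnn : 0 ≤ d) (hlt : d < ⊤) : ¬ (1 + d ≤ d) := by
  intro h5
  induction d using WithBot.recBotCoe with
  | bot => exact absurd hnn (by simp)
  | coe n =>
    have hn : n ≠ ⊤ := by
      rintro rfl
      exact lt_irrefl _ hlt
    have h6 : (1 : ℕ∞) + n ≤ n := by exact_mod_cast h5
    lift n to ℕ using hn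
    have h7 : 1 + n ≤ n := by exact_mod_cast h6
    omega

/-- a local ring with a nonzerodivisor in its maximal ideal has dimension at least one. -/
theorem one_le_ringKrullDim_of_nzd {R : Type*} [CommRing R] [IsLocalRing R] (t : R)
    (ht : t ∈ nonZeroDivisors R) (htm : t ∈ IsLocalRing.maximalIdeal R) : 1 ≤ ringKrullDim R := by
  by_contra hcon
  have h1 : ringKrullDim R ≤ 0 := withBot_enat_lt_one (not_le.mp hcon)
  haveI : Ring.KrullDimLE 0 R := Ring.krullDimLE_iff.mpr h1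
  have h2 := Ideal.mem_minimalPrimes_of_krullDimLE_zero (IsLocalRing.maximalIdeal R)
  exact Set.disjoint_left.mp (Ideal.disjoint_nonZeroDivisors_of_mem_minimalPrimes h2) htm ht

/-- the local ring at a point of an effective Cartier divisor has dimension at least one. -/
theorem one_le_dim_of_mem_support {X : Scheme.{u}} (𝓘 : X.IdealSheafData)
    (hY : BlowUp.IsEffCartierIdeal 𝓘) (y : X) (hy : y ∈ 𝓘.support) :
    1 ≤ ringKrullDim (X.presheaf.stalk y) := by
  obtain ⟨U, hyU, t, ht, hIt⟩ := hY y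
  have h1 : 𝓘.ideal U ≤ (U.2.primeIdealOf ⟨y, hyU⟩).asIdeal :=
    (mem_support_iff_le 𝓘 U.2 y hyU).mp hy
  have h2 : t ∈ (U.2.primeIdealOf ⟨y, hyU⟩).asIdeal :=
    h1 (hIt ▸ Ideal.mem_span_singleton_self t)
  have h3 : X.presheaf.germ U.1 y hyU t ∈ IsLocalRing.maximalIdeal (X.presheaf.stalk y) :=
    (mem_primeIdealOf_iff U.2 y hyU t).mp h2
  have h4 : X.presheaf.germ U.1 y hyU t ∈ nonZeroDivisors (X.presheaf.stalk y) := by
    letI := X.presheaf.algebra_section_stalk ⟨y, hyU⟩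
    haveI := U.2.isLocalization_stalk ⟨y, hyU⟩
    exact IsLocalization.map_nonZeroDivisors_le (U.2.primeIdealOf ⟨y, hyU⟩).asIdeal.primeCompl _
      (Submonoid.mem_map_of_mem _ ht)
  exact one_le_ringKrullDim_of_nzd _ h4 h3

theorem not_range_subset_support {X Z : Scheme.{u}}
    [IsLocallyNoetherian X] (𝓘 : X.IdealSheafData) (hY : BlowUp.IsEffCartierIdeal 𝓘)
    (i : Z ⟶ X) [IsClosedImmersion i] [IsIntegral Z]
    (hprop : ∀ ζ : ↥X, ζ ∈ (𝓘.support : Set ↥X) ∩ Set.range i.base →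
        (∀ ζ' : ↥X, ζ' ∈ (𝓘.support : Set ↥X) ∩ Set.range i.base → ζ' ⤳ ζ → ζ' = ζ) →
        ringKrullDim ↑(X.presheaf.stalk ζ) =
          (⨅ y : (𝓘.support : Set ↥X), ringKrullDim ↑(X.presheaf.stalk y.1)) +
            ringKrullDim ↑(X.presheaf.stalk (i (genericPoint ↥Z)))) :
    ¬ Set.range i.base ⊆ (𝓘.support : Set ↥X) := by
  intro hsub
  set ξ := genericPoint ↥Z with hξ
  have hmem : i ξ ∈ (𝓘.support : Set ↥X) ∩ Set.range i.base := ⟨hsub ⟨ξ, rfl⟩, ⟨ξ, rfl⟩⟩
  have hmax : ∀ ζ' : ↥X, ζ' ∈ (𝓘.support : Set ↥X) ∩ Set.range i.base → ζ' ⤳ i ξ → ζ' = i ξ := by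
    rintro _ ⟨-, z', rfl⟩ hsp
    have h1 : z' ⤳ ξ := i.isEmbedding.toIsInducing.specializes_iff.mp hsp
    have h2 : ξ ⤳ z' := genericPoint_specializes z'
    rw [(h1.antisymm h2).eq]
  have key := hprop (i ξ) hmem hmax
  haveI : IsNoetherianRing (X.presheaf.stalk (i ξ)) := inferInstance
  have hlt : ringKrullDim (X.presheaf.stalk (i ξ)) < ⊤ := ringKrullDim_lt_top
  have hnn : 0 ≤ ringKrullDim (X.presheaf.stalk (i ξ)) := ringKrullDim_nonneg_of_nontrivial
  have hc : (1 : WithBot ℕ∞) ≤ ⨅ y : (𝓘.support : Set ↥X), ringKrullDim ↑(X.presheaf.stalk y.1) :=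
    le_iInf fun y => one_le_dim_of_mem_support 𝓘 hY y.1 y.2
  set d := ringKrullDim (X.presheaf.stalk (i ξ)) with hd
  have h5 : 1 + d ≤ d := by
    conv_rhs => rw [key]
    exact add_le_add hc le_rfl
  exact not_one_add_le hnn hlt h5

end Groth.Agent.Lib.Helper20.PropInt
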