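import Mathlib
import Groth.Agent.S14460
import Groth.Agent.Lib.Helper20FieldLimCone

/-!
# Sections of étale maps descend along purely inseparable base field extensions (helper20)

`exists_section_of_univHomeo`: sections descend along universally injective, universally closed,
surjective maps which are surjective on geometric points.
`exists_descend_sep`: a section over `X_k̄` of an étale `X' ⟶ X` descends to `X_{k^s}`.
-/

set_option autoImplicit false
universe u
open CategoryTheory CategoryTheory.Limits AlgebraicGeometry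

namespace Groth.Agent.Lib.Helper20.PurInsep

open Groth.Agent.Lib.Helper20.FieldLim

/-- sections of étale maps descend along universal homeomorphisms which are surjective on
geometric points -/
theorem exists_section_of_univHomeo {A B Y : Scheme.{u}} (π : A ⟶ B) [UniversallyInjective π]
    [UniversallyClosed π] [Surjective π]
    (hπ : ∀ (Ω : Type u) [Field Ω] [IsAlgClosed Ω] (t : Spec (CommRingCat.of Ω) ⟶ B),
      ∃ t' : Spec (CommRingCat.of Ω) ⟶ A, t' ≫ π = t)
    (q : Y ⟶ B) [Etale q] (b : A ⟶ Y) (hb : b ≫ q = π) :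
    ∃ s : B ⟶ Y, s ≫ q = 𝟙 B ∧ π ≫ s = b := by
  let pr₁ : pullback q π ⟶ Y := pullback.fst q π
  let pr₂ : pullback q π ⟶ A := pullback.snd q π
  let sA : A ⟶ pullback q π := pullback.lift b (𝟙 A) (by rw [hb, Category.id_comp])
  have hsA1 : sA ≫ pr₁ = b := pullback.lift_fst _ _ _
  have hsA2 : sA ≫ pr₂ = 𝟙 A := pullback.lift_snd _ _ _
  haveI : UniversallyInjective pr₁ := MorphismProperty.pullback_fst (P := @UniversallyInjective) q π inferInstance
  haveI : UniversallyClosed pr₁ := MorphismProperty.pullback_fst (P := @UniversallyClosed) q π inferInstance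
  haveI : Surjective pr₁ := MorphismProperty.pullback_fst (P := @Surjective) q π inferInstance
  haveI : Etale pr₂ := MorphismProperty.pullback_snd (P := @Etale) q π inferInstance
  haveI : Etale (sA ≫ pr₂) := by rw [hsA2]; infer_instance
  haveI : Etale sA := Etale.of_comp sA pr₂
  haveI : Mono sA := mono_of_mono_fac hsA2
  haveI : IsOpenImmersion sA := IsOpenImmersion.of_flat_of_mono sA
  have hhomeo : IsHomeomorph pr₁ := by
    rw [isHomeomorph_iff_isEmbedding_surjective]
    exact ⟨(Topology.IsClosedEmbedding.of_continuous_injective_isClosedMap pr₁.continuous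
      pr₁.injective pr₁.isClosedMap).isEmbedding, pr₁.surjective⟩
  have hopen : IsOpen (Set.range b) := by
    have : Set.range b = pr₁ '' Set.range sA := by
      rw [← Set.range_comp, ← hsA1]
      rfl
    rw [this]
    exact hhomeo.isOpenMap _ sA.isOpenEmbedding.isOpen_range
  let Z₀ : Y.Opens := ⟨Set.range b, hopen⟩
  let φ : (Z₀ : Scheme) ⟶ B := Z₀.ι ≫ q
  let b' : A ⟶ Z₀ := IsOpenImmersion.lift Z₀.ι b (by simp [Z₀])
  have hb' : b' ≫ Z₀.ι = b := IsOpenImmersion.lift_fac _ _ _
  haveI : IsIso φ := by
    refine Groth.Agent.S14460.isIso_of_bijective_geomPoints φ fun Ω _ _ t => ?_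
    obtain ⟨tA, htA⟩ := hπ Ω t
    refine ⟨tA ≫ b', ?_, ?_⟩
    · change (tA ≫ b') ≫ Z₀.ι ≫ q = t
      rw [Category.assoc, reassoc_of% hb', hb, htA]
    · intro t'' ht''
      let w : Spec (CommRingCat.of Ω) ⟶ pullback q π := pullback.lift (t'' ≫ Z₀.ι) tA (by
        rw [Category.assoc, htA]; exact ht'')
      have hw1 : w ≫ pr₁ = t'' ≫ Z₀.ι := pullback.lift_fst _ _ _
      have hw2 : w ≫ pr₂ = tA := pullback.lift_snd _ _ _
      have hr : Set.range w ⊆ Set.range sA := by
        rintro _ ⟨x, rfl⟩
        have h1 : pr₁ (w x) ∈ Set.range b := by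
          rw [← Scheme.Hom.comp_apply, hw1, Scheme.Hom.comp_apply]
          exact (t'' x).2
        obtain ⟨a, ha⟩ := h1
        refine ⟨a, pr₁.injective ?_⟩
        rw [← Scheme.Hom.comp_apply, hsA1, ha]
      let u : Spec (CommRingCat.of Ω) ⟶ A := IsOpenImmersion.lift sA w hr
      have hu : u ≫ sA = w := IsOpenImmersion.lift_fac _ _ _
      have hu' : u = tA := by
        rw [← hw2, ← hu, Category.assoc, hsA2, Category.comp_id]
      rw [← cancel_mono Z₀.ι, ← hw1, ← hu, hu', Category.assoc, Category.assoc, hsA1, hb']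
  refine ⟨inv φ ≫ Z₀.ι, ?_, ?_⟩
  · rw [Category.assoc]
    exact IsIso.inv_hom_id φ
  · have : b' ≫ φ = π := by
      change b' ≫ Z₀.ι ≫ q = π
      rw [reassoc_of% hb', hb]
    rw [← this, Category.assoc, IsIso.hom_inv_id_assoc, hb']


section field

variable (F K : Type u) [Field F] [Field K] [Algebra F K]

/-- the structure map -/
noncomputable abbrev ι : Spec (CommRingCat.of K) ⟶ Spec (CommRingCat.of F) :=
  Spec.map (CommRingCat.ofHom (algebraMap F K))

instance [Algebra.IsAlgebraic F K] : IsIntegralHom (ι F K) := by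
  refine IsIntegralHom.SpecMap_iff.mpr ?_
  exact algebraMap_isIntegral_iff.mpr inferInstance

instance : Surjective (ι F K) := by
  refine ⟨fun x => ⟨default, Subsingleton.elim _ _⟩⟩

instance [IsPurelyInseparable F K] : UniversallyInjective (ι F K) := by
  have H := (tfae_universallyInjective (ι F K)).out 0 1
  refine H.mpr ?_
  intro Ω _ g₁ g₂ h
  obtain ⟨φ₁, rfl⟩ := Spec.map_surjective g₁
  obtain ⟨φ₂, rfl⟩ := Spec.map_surjective g₂
  dsimp only at h
  rw [← Spec.map_comp, ← Spec.map_comp] at h
  have h' := Spec.map_injective h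
  have h'' : φ₁.hom.comp (algebraMap F K) = φ₂.hom.comp (algebraMap F K) := by
    have := congrArg CommRingCat.Hom.hom h'
    exact this
  have := IsPurelyInseparable.injective_comp_algebraMap F K Ω h''
  congr 1
  exact CommRingCat.hom_ext this

theorem exists_lift_point [Algebra.IsAlgebraic F K] {B : Scheme.{u}}
    (g : B ⟶ Spec (CommRingCat.of F)) (Ω : Type u) [Field Ω] [IsAlgClosed Ω]
    (t : Spec (CommRingCat.of Ω) ⟶ B) :
    ∃ t' : Spec (CommRingCat.of Ω) ⟶ pullback g (ι F K), t' ≫ pullback.fst g (ι F K) = t := by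
  obtain ⟨φ, hφ⟩ := Spec.map_surjective (t ≫ g)
  letI : Algebra F Ω := φ.hom.toAlgebra
  let ψ : K →ₐ[F] Ω := IsAlgClosed.lift
  refine ⟨pullback.lift t (Spec.map (CommRingCat.ofHom ψ.toRingHom)) ?_, pullback.lift_fst _ _ _⟩
  rw [← hφ, ← Spec.map_comp]
  congr 1
  ext x
  exact (ψ.commutes x).symm

end field


/-- sections descend along purely inseparable base field extensions -/
theorem exists_section (F K : Type u) [Field F] [Field K] [Algebra F K] [IsPurelyInseparable F K]
    {B Y : Scheme.{u}} (g : B ⟶ Spec (CommRingCat.of F)) (q : Y ⟶ B) [Etale q]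
    (b : pullback g (ι F K) ⟶ Y) (hb : b ≫ q = pullback.fst g (ι F K)) :
    ∃ s : B ⟶ Y, s ≫ q = 𝟙 B ∧ pullback.fst g (ι F K) ≫ s = b := by
  haveI : UniversallyInjective (pullback.fst g (ι F K)) :=
    MorphismProperty.pullback_fst (P := @UniversallyInjective) g (ι F K) inferInstance
  haveI : UniversallyClosed (pullback.fst g (ι F K)) :=
    MorphismProperty.pullback_fst (P := @UniversallyClosed) g (ι F K) inferInstance
  haveI : Surjective (pullback.fst g (ι F K)) :=
    MorphismProperty.pullback_fst (P := @Surjective) g (ι F K) inferInstance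
  exact exists_section_of_univHomeo (pullback.fst g (ι F K))
    (fun Ω _ _ t => exists_lift_point F K g Ω t) q b hb

section sep

variable (k : Type u) [Field k] {X : Scheme.{u}} (f : X ⟶ Spec (CommRingCat.of k))

/-- the separable closure of `k` in its algebraic closure, as a type -/
abbrev ksep : Type u := ↥(separableClosure k (AlgebraicClosure k))

/-- the comparison map `X_k̄ ⟶ X_{k^s}` -/
noncomputable def toSep :
    pullback f (Spec.map (CommRingCat.ofHom (algebraMap k (AlgebraicClosure k)))) ⟶
      XL (ksep k) f :=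
  pullback.lift (pullback.fst _ _) (pullback.snd _ _ ≫ ι (ksep k) (AlgebraicClosure k)) (by
    rw [pullback.condition, Category.assoc, ← Spec.map_comp]
    rfl)

theorem toSep_fst : toSep k f ≫ pullback.fst f (spL (ksep k)) = pullback.fst _ _ :=
  pullback.lift_fst _ _ _

theorem exists_descend_sep {X' : Scheme.{u}} (g : X' ⟶ X) [Etale g]
    (σ : pullback f (Spec.map (CommRingCat.ofHom (algebraMap k (AlgebraicClosure k)))) ⟶ X')
    (hσ : σ ≫ g = pullback.fst _ _) :
    ∃ a : XL (ksep k) f ⟶ X', a ≫ g = pullback.fst f (spL (ksep k)) ∧ toSep k f ≫ a = σ := by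
  let kb := AlgebraicClosure k
  let L := ksep k
  let ξ : Spec (CommRingCat.of kb) ⟶ Spec (CommRingCat.of k) :=
    Spec.map (CommRingCat.ofHom (algebraMap k kb))
  have hξ : ι L kb ≫ spL L = ξ := by
    rw [← Spec.map_comp]
    rfl
  let gB : XL L f ⟶ Spec (CommRingCat.of L) := pullback.snd f (spL L)
  let π : pullback gB (ι L kb) ⟶ XL L f := pullback.fst gB (ι L kb)
  let c : pullback gB (ι L kb) ⟶ pullback f ξ :=
    pullback.lift (π ≫ pullback.fst f (spL L)) (pullback.snd gB (ι L kb)) (by
      rw [Category.assoc, pullback.condition, ← hξ]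
      rw [← Category.assoc, ← Category.assoc]
      congr 1
      exact pullback.condition)
  have hc1 : c ≫ pullback.fst f ξ = π ≫ pullback.fst f (spL L) := pullback.lift_fst _ _ _
  have hc2 : c ≫ pullback.snd f ξ = pullback.snd gB (ι L kb) := pullback.lift_snd _ _ _
  let e : pullback f ξ ⟶ pullback gB (ι L kb) :=
    pullback.lift (toSep k f) (pullback.snd f ξ) (by
      change toSep k f ≫ pullback.snd f (spL L) = _
      exact pullback.lift_snd _ _ _)
  have he1 : e ≫ π = toSep k f := pullback.lift_fst _ _ _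
  have he2 : e ≫ pullback.snd gB (ι L kb) = pullback.snd f ξ := pullback.lift_snd _ _ _
  have hec : e ≫ c = 𝟙 _ := by
    apply pullback.hom_ext
    · rw [Category.assoc, hc1, reassoc_of% he1, toSep_fst, Category.id_comp]
    · rw [Category.assoc, hc2, he2, Category.id_comp]
  let q : pullback g (pullback.fst f (spL L)) ⟶ XL L f := pullback.snd _ _
  let b : pullback gB (ι L kb) ⟶ pullback g (pullback.fst f (spL L)) :=
    pullback.lift (c ≫ σ) π (by
      rw [Category.assoc, hσ]
      exact hc1)
  have hb1 : b ≫ pullback.fst g (pullback.fst f (spL L)) = c ≫ σ := pullback.lift_fst _ _ _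
  have hb2 : b ≫ q = π := pullback.lift_snd _ _ _
  haveI : IsPurelyInseparable L kb := separableClosure.isPurelyInseparable k kb
  obtain ⟨s, hs1, hs2⟩ := exists_section L kb gB q b hb2
  refine ⟨s ≫ pullback.fst g (pullback.fst f (spL L)), ?_, ?_⟩
  · rw [Category.assoc, pullback.condition, reassoc_of% hs1]
  · rw [← he1, Category.assoc]
    change e ≫ (pullback.fst gB (ι L kb) ≫ s) ≫ _ = σ
    rw [hs2, hb1, reassoc_of% hec]

end sep

end Groth.Agent.Lib.Helper20.PurInsep
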