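import Mathlib

/-!
# Universally injective (pure) ring maps via character modules (helper20)

For a universally injective ring map `R → S` the dual `C(S) → C(R)` of character modules has an
`R`-linear section `σ`. From it we build natural sections `C(X) → C(S ⊗ X)` and deduce exactness
of the Amitsur complex `X → S ⊗ X ⇉ S ⊗ S ⊗ X`.
-/

set_option autoImplicit false
universe u

open TensorProduct

namespace Groth.Agent.Lib.Helper20.Pure

variable {R S : Type u} [CommRing R] [CommRing S] [Algebra R S]

/-- Universally injective ring map (same as `Pi1.UnivInjective`). -/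
def IsPure (R S : Type u) [CommRing R] [CommRing S] [Algebra R S] : Prop :=
  ∀ (P : Type u) [AddCommGroup P] [Module R P],
    Function.Injective (LinearMap.lTensor P (Algebra.linearMap R S))

section Basic

variable {A B : Type*} [AddCommGroup A] [Module R A] [AddCommGroup B] [Module R B]

theorem dual_app (f : A →ₗ[R] B) (c : CharacterModule B) (x : A) :
    CharacterModule.dual f c x = c (f x) := rfl

theorem curry_app (c : CharacterModule (A ⊗[R] B)) (a : A) (b : B) :
    CharacterModule.curry c a b = c (a ⊗ₜ b) := rfl

theorem uncurry_tmul (g : A →ₗ[R] CharacterModule B) (a : A) (b : B) :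
    CharacterModule.uncurry g (a ⊗ₜ b) = g a b := by
  rw [CharacterModule.uncurry_apply]
  exact TensorProduct.liftAddHom_tmul _ _ _ _

end Basic

/-- The dual of `R → S` on character modules has a section. -/
theorem exists_section (h : IsPure R S) :
    ∃ σ : CharacterModule R →ₗ[R] CharacterModule S,
      ∀ χ, CharacterModule.dual (Algebra.linearMap R S) (σ χ) = χ := by
  have hinj := h (CharacterModule R)
  have hsurj := CharacterModule.dual_surjective_of_injective _ hinj
  obtain ⟨c₁, hc₁⟩ := hsurj (CharacterModule.uncurry (LinearMap.id : CharacterModule R →ₗ[R] _))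
  refine ⟨CharacterModule.curry c₁, fun χ => ?_⟩
  ext a
  have := congrArg (fun c => c (χ ⊗ₜ[R] a)) hc₁
  simp only [dual_app, LinearMap.lTensor_tmul, uncurry_tmul, LinearMap.id_coe, id_eq] at this
  rw [dual_app, curry_app]
  exact this

/-- Purity: `X → S ⊗ X` is injective. -/
theorem mk_one_injective (h : IsPure R S) (X : Type u) [AddCommGroup X] [Module R X] :
    Function.Injective (TensorProduct.mk R S X 1) := by
  have hinj := h X
  have e : (TensorProduct.mk R S X 1 : X →ₗ[R] S ⊗[R] X) =
      (TensorProduct.comm R X S).toLinearMap ∘ₗ LinearMap.lTensor X (Algebra.linearMap R S) ∘ₗ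
        (TensorProduct.rid R X).symm.toLinearMap := by
    ext x
    simp
  rw [e]
  exact (TensorProduct.comm R X S).injective.comp (hinj.comp (TensorProduct.rid R X).symm.injective)

section Sig

variable (σ : CharacterModule R →ₗ[R] CharacterModule S)

/-- `χ ↦ (x ↦ (a ↦ χ (a • x)))`. -/
noncomputable def ev (X : Type u) [AddCommGroup X] [Module R X] :
    CharacterModule X →ₗ[R] (X →ₗ[R] CharacterModule R) :=
  CharacterModule.curry ∘ₗ CharacterModule.dual (TensorProduct.rid R X).toLinearMap

@[simp] theorem ev_apply (X : Type u) [AddCommGroup X] [Module R X] (χ : CharacterModule X)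
    (x : X) (a : R) : ev X χ x a = χ (a • x) := by
  simp only [ev, LinearMap.coe_comp, Function.comp_apply, curry_app, dual_app,
    LinearEquiv.coe_coe, TensorProduct.rid_tmul]

/-- The natural map `C(X) → C(S ⊗ X)` induced by `σ`. -/
noncomputable def sig (X : Type u) [AddCommGroup X] [Module R X] :
    CharacterModule X →ₗ[R] CharacterModule (S ⊗[R] X) :=
  CharacterModule.dual (TensorProduct.comm R S X).toLinearMap ∘ₗ CharacterModule.uncurry ∘ₗ
    LinearMap.compRight R σ ∘ₗ ev X

@[simp] theorem sig_tmul (X : Type u) [AddCommGroup X] [Module R X] (χ : CharacterModule X)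
    (s : S) (x : X) : sig σ X χ (s ⊗ₜ x) = σ (ev X χ x) s := by
  simp only [sig, LinearMap.coe_comp, Function.comp_apply, dual_app, LinearEquiv.coe_coe,
    TensorProduct.comm_tmul, uncurry_tmul, LinearMap.compRight_apply]

theorem sig_one_tmul (hσ : ∀ χ, CharacterModule.dual (Algebra.linearMap R S) (σ χ) = χ)
    (X : Type u) [AddCommGroup X] [Module R X] (χ : CharacterModule X) (x : X) :
    sig σ X χ ((1 : S) ⊗ₜ x) = χ x := by
  rw [sig_tmul]
  have := congrArg (fun c => c (1 : R)) (hσ (ev X χ x))
  simp only [dual_app, Algebra.linearMap_apply, map_one, ev_apply, one_smul] at this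
  exact this

theorem sig_dual {X Y : Type u} [AddCommGroup X] [Module R X] [AddCommGroup Y] [Module R Y]
    (f : X →ₗ[R] Y) (χ : CharacterModule Y) :
    sig σ X (CharacterModule.dual f χ) = CharacterModule.dual (LinearMap.lTensor S f) (sig σ Y χ) := by
  refine DFunLike.ext _ _ (fun z => ?_)
  induction z using TensorProduct.induction_on with
  | zero => simp
  | tmul s x =>
    rw [sig_tmul, dual_app, LinearMap.lTensor_tmul, sig_tmul]
    congr 2
    refine DFunLike.ext _ _ (fun a => ?_)
    rw [ev_apply, ev_apply, dual_app, map_smul]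
  | add a b ha hb => rw [map_add, map_add, ha, hb]

end Sig

/-- Exactness of the Amitsur complex `N → S ⊗ N ⇉ S ⊗ S ⊗ N` for a universally injective map. -/
theorem amitsur_exact (h : IsPure R S) (N : Type u) [AddCommGroup N] [Module R N]
    (x : S ⊗[R] N)
    (hx : TensorProduct.mk R S (S ⊗[R] N) 1 x = LinearMap.lTensor S (TensorProduct.mk R S N 1) x) :
    ∃ n : N, (1 : S) ⊗ₜ[R] n = x := by
  obtain ⟨σ, hσ⟩ := exists_section h
  set j : N →ₗ[R] S ⊗[R] N := TensorProduct.mk R S N 1 with hj
  suffices hq : (LinearMap.range j).mkQ x = 0 by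
    rw [Submodule.mkQ_apply, Submodule.Quotient.mk_eq_zero] at hq
    obtain ⟨n, hn⟩ := hq
    exact ⟨n, hn⟩
  apply CharacterModule.eq_zero_of_character_apply
  intro c
  set χ : CharacterModule (S ⊗[R] N) := CharacterModule.dual (LinearMap.range j).mkQ c with hχ
  have hχj : CharacterModule.dual j χ = 0 := by
    rw [hχ, ← LinearMap.comp_apply, ← CharacterModule.dual_comp, LinearMap.range_mkQ_comp,
      CharacterModule.dual_zero, LinearMap.zero_apply]
  have h1 : sig σ (S ⊗[R] N) χ (TensorProduct.mk R S (S ⊗[R] N) 1 x) = χ x := by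
    simpa using sig_one_tmul σ hσ (S ⊗[R] N) χ x
  have h2 : sig σ (S ⊗[R] N) χ (LinearMap.lTensor S j x) = 0 := by
    have := congrArg (fun c => c x) (sig_dual σ j χ)
    simp only [dual_app] at this
    rw [← this, hχj, map_zero]
    rfl
  rw [hx, h2] at h1
  exact h1.symm

end Groth.Agent.Lib.Helper20.Pure
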