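import Mathlib
import Groth.Agent.Lib.Helper20Pure

/-!
# Formal étaleness descends along universally injective ring maps (helper20)
-/

set_option autoImplicit false
universe u

open TensorProduct

namespace Groth.Agent.Lib.Helper20.Pure

variable {R S : Type u} [CommRing R] [CommRing S] [Algebra R S]

section Unramified

variable (A : Type u) [CommRing A] [Algebra R A]

attribute [local instance] Algebra.TensorProduct.rightAlgebra in
theorem formallyUnramified_of_baseChange (h : IsPure R S)
    [Algebra.FormallyUnramified S (S ⊗[R] A)] : Algebra.FormallyUnramified R A := by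
  constructor
  have e := KaehlerDifferential.tensorKaehlerEquivBase R S A (S ⊗[R] A)
  have hinj : Function.Injective
      (fun x : Ω[A⁄R] => e (TensorProduct.mk R S Ω[A⁄R] 1 x)) :=
    e.injective.comp (mk_one_injective h Ω[A⁄R])
  exact hinj.subsingleton

end Unramified

section Lift

variable {A : Type u} [CommRing A] [Algebra R A]

theorem ext_of_baseChange_unramified [Algebra.FormallyUnramified S (S ⊗[R] A)]
    {B' : Type*} [CommRing B'] [Algebra R B'] [Algebra S B'] [IsScalarTower R S B']
    {C : Type*} [Ring C] (f : B' →+* C) (hf : IsNilpotent (RingHom.ker f))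
    (g₁ g₂ : A →ₐ[R] B') (hg : ∀ a, f (g₁ a) = f (g₂ a)) : g₁ = g₂ := by
  let G₁ : S ⊗[R] A →ₐ[S] B' :=
    Algebra.TensorProduct.lift (Algebra.ofId S B') g₁ (fun _ _ => Commute.all _ _)
  let G₂ : S ⊗[R] A →ₐ[S] B' :=
    Algebra.TensorProduct.lift (Algebra.ofId S B') g₂ (fun _ _ => Commute.all _ _)
  have hG : G₁ = G₂ := by
    refine Algebra.FormallyUnramified.ext' f hf G₁ G₂ (fun x => ?_)
    induction x using TensorProduct.induction_on with
    | zero => simp
    | tmul s a =>
      simp only [G₁, G₂, Algebra.TensorProduct.lift_tmul, map_mul, hg]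
    | add x y hx hy => rw [map_add, map_add, map_add, map_add, hx, hy]
  ext a
  have := congrArg (fun G : S ⊗[R] A →ₐ[S] B' => G (1 ⊗ₜ a)) hG
  simpa [G₁, G₂, Algebra.TensorProduct.lift_tmul] using this

theorem exists_lift_of_baseChange_smooth [Algebra.FormallySmooth S (S ⊗[R] A)]
    {B' C' : Type*} [CommRing B'] [Algebra R B'] [Algebra S B'] [IsScalarTower R S B']
    [CommRing C'] [Algebra R C'] [Algebra S C'] [IsScalarTower R S C']
    (π : B' →ₐ[S] C') (hπ : Function.Surjective π)
    (hker : IsNilpotent (RingHom.ker (π : B' →+* C')))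
    (f : A →ₐ[R] C') : ∃ g : A →ₐ[R] B', ∀ a, π (g a) = f a := by
  let F : S ⊗[R] A →ₐ[S] C' :=
    Algebra.TensorProduct.lift (Algebra.ofId S C') f (fun _ _ => Commute.all _ _)
  let G : S ⊗[R] A →ₐ[S] B' := Algebra.FormallySmooth.liftOfSurjective F π hπ hker
  refine ⟨(G.restrictScalars R).comp Algebra.TensorProduct.includeRight, fun a => ?_⟩
  have := Algebra.FormallySmooth.liftOfSurjective_apply F π hπ hker (1 ⊗ₜ a)
  simpa [F, G, Algebra.TensorProduct.lift_tmul] using this

end Lift

section BaseChangeKer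

variable {B C : Type u} [CommRing B] [Algebra R B] [CommRing C] [Algebra R C]

theorem map_id_eq_lTensor (φ : B →ₐ[R] C) (w : S ⊗[R] B) :
    Algebra.TensorProduct.map (AlgHom.id S S) φ w = φ.toLinearMap.lTensor S w := by
  induction w using TensorProduct.induction_on with
  | zero => simp
  | tmul a b => rfl
  | add a b ha hb => rw [map_add, map_add, ha, hb]

theorem map_id_surjective (φ : B →ₐ[R] C) (hφ : Function.Surjective φ) :
    Function.Surjective (Algebra.TensorProduct.map (AlgHom.id S S) φ) := by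
  intro x
  obtain ⟨w, hw⟩ := LinearMap.lTensor_surjective S (g := φ.toLinearMap) hφ x
  exact ⟨w, by rw [map_id_eq_lTensor, hw]⟩

theorem lTensor_subtype_mul_eq_zero (K : Submodule R B) (hmul : ∀ k k' : K, (k : B) * (k' : B) = 0)
    (x' y' : S ⊗[R] K) : K.subtype.lTensor S x' * K.subtype.lTensor S y' = 0 := by
  induction x' using TensorProduct.induction_on with
  | zero => simp
  | tmul s k =>
    induction y' using TensorProduct.induction_on with
    | zero => simp
    | tmul t k' =>
      simp only [LinearMap.lTensor_tmul, Submodule.subtype_apply,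
        Algebra.TensorProduct.tmul_mul_tmul, hmul, tmul_zero]
    | add a b ha hb => rw [map_add, mul_add, ha, hb, add_zero]
  | add a b ha hb => rw [map_add, add_mul, ha, hb, add_zero]

theorem map_id_ker_mul (φ : B →ₐ[R] C) (hφ : Function.Surjective φ)
    (hker : ∀ x y : B, φ x = 0 → φ y = 0 → x * y = 0) (x y : S ⊗[R] B)
    (hx : Algebra.TensorProduct.map (AlgHom.id S S) φ x = 0)
    (hy : Algebra.TensorProduct.map (AlgHom.id S S) φ y = 0) : x * y = 0 := by
  set K : Submodule R B := LinearMap.ker φ.toLinearMap with hK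
  have hex : Function.Exact (K.subtype.lTensor S) (φ.toLinearMap.lTensor S) :=
    lTensor_exact S (LinearMap.exact_subtype_ker_map φ.toLinearMap) hφ
  have hmul : ∀ k k' : K, (k : B) * (k' : B) = 0 := fun k k' => hker _ _ k.2 k'.2
  rw [map_id_eq_lTensor] at hx hy
  obtain ⟨x', rfl⟩ := (hex x).mp hx
  obtain ⟨y', rfl⟩ := (hex y).mp hy
  exact lTensor_subtype_mul_eq_zero K hmul x' y'

theorem isNilpotent_ker_of_mul {B' C' : Type*} [CommRing B'] [Semiring C'] (f : B' →+* C')
    (hker : ∀ x y : B', f x = 0 → f y = 0 → x * y = 0) : IsNilpotent (RingHom.ker f) := by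
  refine ⟨2, ?_⟩
  rw [Ideal.zero_eq_bot, eq_bot_iff, pow_two, Ideal.mul_le]
  intro x hx y hy
  exact hker x y hx hy

end BaseChangeKer

section Lift2

variable {A : Type u} [CommRing A] [Algebra R A]
variable {B C : Type u} [CommRing B] [Algebra R B] [CommRing C] [Algebra R C]

theorem exists_lift_tensor [Algebra.FormallySmooth S (S ⊗[R] A)] (φ : B →ₐ[R] C)
    (hφ : Function.Surjective φ) (hker : ∀ x y : B, φ x = 0 → φ y = 0 → x * y = 0)
    (f : A →ₐ[R] S ⊗[R] C) :
    ∃ g : A →ₐ[R] S ⊗[R] B, ∀ a, Algebra.TensorProduct.map (AlgHom.id S S) φ (g a) = f a :=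
  exists_lift_of_baseChange_smooth (S := S) (Algebra.TensorProduct.map (AlgHom.id S S) φ)
    (map_id_surjective φ hφ)
    (isNilpotent_ker_of_mul _ (fun x y hx hy => map_id_ker_mul φ hφ hker x y hx hy)) f

theorem ext_lift_tensor [Algebra.FormallyUnramified S (S ⊗[R] A)] (φ : B →ₐ[R] C)
    (hφ : Function.Surjective φ) (hker : ∀ x y : B, φ x = 0 → φ y = 0 → x * y = 0)
    (g₁ g₂ : A →ₐ[R] S ⊗[R] B)
    (hg : ∀ a, Algebra.TensorProduct.map (AlgHom.id S S) φ (g₁ a) =
      Algebra.TensorProduct.map (AlgHom.id S S) φ (g₂ a)) : g₁ = g₂ :=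
  ext_of_baseChange_unramified (S := S)
    ((Algebra.TensorProduct.map (AlgHom.id S S) φ : S ⊗[R] B →ₐ[S] S ⊗[R] C) :
      S ⊗[R] B →+* S ⊗[R] C)
    (isNilpotent_ker_of_mul _ (fun x y hx hy => map_id_ker_mul φ hφ hker x y hx hy)) g₁ g₂ hg

end Lift2

section Smooth

variable (A : Type u) [CommRing A] [Algebra R A]

theorem lTensor_mk_eq_map (B : Type u) [CommRing B] [Algebra R B] (y : S ⊗[R] B) :
    LinearMap.lTensor S (TensorProduct.mk R S B 1) y =
      Algebra.TensorProduct.map (AlgHom.id R S)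
        (Algebra.TensorProduct.includeRight : B →ₐ[R] S ⊗[R] B) y := by
  induction y using TensorProduct.induction_on with
  | zero => simp
  | tmul s b => simp
  | add x y hx hy => rw [map_add, map_add, hx, hy]

set_option maxHeartbeats 1000000 in
theorem formallySmooth_of_baseChange (h : IsPure R S)
    [Algebra.FormallyEtale S (S ⊗[R] A)] : Algebra.FormallySmooth R A := by
  apply Algebra.FormallySmooth.of_comp_surjective
  intro B _ _ I hI f
  -- notation
  let π : B →ₐ[R] B ⧸ I := Ideal.Quotient.mkₐ R I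
  have hπ : Function.Surjective π := Ideal.Quotient.mkₐ_surjective R I
  have hπker : ∀ x y : B, π x = 0 → π y = 0 → x * y = 0 := by
    intro x y hx hy
    have hx' : x ∈ I := Ideal.Quotient.eq_zero_iff_mem.mp hx
    have hy' : y ∈ I := Ideal.Quotient.eq_zero_iff_mem.mp hy
    have : x * y ∈ I ^ 2 := by rw [pow_two]; exact Ideal.mul_mem_mul hx' hy'
    rw [hI] at this
    exact this
  let π₁ : S ⊗[R] B →ₐ[S] S ⊗[R] (B ⧸ I) := Algebra.TensorProduct.map (AlgHom.id S S) π
  have hπ₁ : Function.Surjective (π₁.restrictScalars R) := map_id_surjective π hπ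
  have hπ₁ker : ∀ x y : S ⊗[R] B, (π₁.restrictScalars R) x = 0 → (π₁.restrictScalars R) y = 0 →
      x * y = 0 := fun x y hx hy => map_id_ker_mul π hπ hπker x y hx hy
  let jB : B →ₐ[R] S ⊗[R] B := Algebra.TensorProduct.includeRight
  let jC : B ⧸ I →ₐ[R] S ⊗[R] (B ⧸ I) := Algebra.TensorProduct.includeRight
  have hjB : Function.Injective jB := mk_one_injective h B
  have hjC : Function.Injective jC := mk_one_injective h (B ⧸ I)
  let d0 : S ⊗[R] B →ₐ[R] S ⊗[R] (S ⊗[R] B) := Algebra.TensorProduct.includeRight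
  let d1 : S ⊗[R] B →ₐ[R] S ⊗[R] (S ⊗[R] B) := Algebra.TensorProduct.map (AlgHom.id R S) jB
  -- lift over S
  obtain ⟨g₁, hg₁⟩ := exists_lift_tensor π hπ hπker (jC.comp f)
  -- the two pullbacks agree
  have hd : d0.comp g₁ = d1.comp g₁ := by
    refine ext_lift_tensor (π₁.restrictScalars R) hπ₁ hπ₁ker _ _ (fun a => ?_)
    have h0 : ∀ y : S ⊗[R] B, Algebra.TensorProduct.map (AlgHom.id S S) (π₁.restrictScalars R)
        (d0 y) = (1 : S) ⊗ₜ[R] π₁ y := fun y => by
      simp [d0]
    have h1 : ∀ y : S ⊗[R] B, Algebra.TensorProduct.map (AlgHom.id S S) (π₁.restrictScalars R)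
        (d1 y) = Algebra.TensorProduct.map (AlgHom.id R S) jC (π₁ y) := by
      intro y
      induction y using TensorProduct.induction_on with
      | zero => simp
      | tmul s b => simp [d1, π₁, jB, jC, π]
      | add x y hx hy => rw [map_add, map_add, map_add, map_add, hx, hy]
    show Algebra.TensorProduct.map (AlgHom.id S S) (π₁.restrictScalars R) (d0 (g₁ a)) =
      Algebra.TensorProduct.map (AlgHom.id S S) (π₁.restrictScalars R) (d1 (g₁ a))
    rw [h0, h1]
    have := hg₁ a
    simp only [π₁] at this ⊢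
    rw [this]
    simp [jC]
  -- descend
  have hmem : ∀ a, g₁ a ∈ jB.range := by
    intro a
    have hda := AlgHom.congr_fun hd a
    obtain ⟨b, hb⟩ := amitsur_exact h B (g₁ a) (by
      have e1 : TensorProduct.mk R S (S ⊗[R] B) 1 (g₁ a) = d0 (g₁ a) := rfl
      rw [e1, lTensor_mk_eq_map]
      exact hda)
    exact ⟨b, hb⟩
  let e : B ≃ₐ[R] jB.range := AlgEquiv.ofInjective jB hjB
  let g : A →ₐ[R] B := e.symm.toAlgHom.comp (g₁.codRestrict jB.range hmem)
  have hg : ∀ a, jB (g a) = g₁ a := by
    intro a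
    have : (e (g a) : S ⊗[R] B) = g₁ a := by
      simp [g]
    exact this
  refine ⟨g, ?_⟩
  ext a
  apply hjC
  have h2 : π₁ (jB (g a)) = jC (π (g a)) := by simp [π₁, jB, jC]
  show jC (π (g a)) = jC (f a)
  rw [← h2, hg]
  exact hg₁ a

theorem formallyEtale_of_baseChange (h : IsPure R S)
    [Algebra.FormallyEtale S (S ⊗[R] A)] : Algebra.FormallyEtale R A := by
  have := formallyUnramified_of_baseChange A h
  have := formallySmooth_of_baseChange A h
  exact .of_formallyUnramified_and_formallySmooth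

end Smooth

end Groth.Agent.Lib.Helper20.Pure
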