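import Mathlib
import Groth.Agent.Lib.Helper20Pure

/-!
# Flatness descends along universally injective ring maps (helper20)
-/

set_option autoImplicit false
universe u

open TensorProduct

namespace Groth.Agent.Lib.Helper20.Pure

variable {R S : Type u} [CommRing R] [CommRing S] [Algebra R S]

section Transport

variable (M : Type u) [AddCommGroup M] [Module R M]
variable {X Y : Type u} [AddCommGroup X] [Module R X] [Module S X] [IsScalarTower R S X]
  [AddCommGroup Y] [Module R Y] [Module S Y] [IsScalarTower R S Y]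

theorem cancelBaseChange_rTensor (φ : X →ₗ[S] Y) (z : X ⊗[S] (S ⊗[R] M)) :
    AlgebraTensorModule.cancelBaseChange R S S Y M (φ.rTensor (S ⊗[R] M) z) =
      (φ.restrictScalars R).rTensor M (AlgebraTensorModule.cancelBaseChange R S S X M z) := by
  induction z using TensorProduct.induction_on with
  | zero => simp
  | tmul x w =>
    induction w using TensorProduct.induction_on with
    | zero => simp
    | tmul s m => simp
    | add a b ha hb => rw [tmul_add, map_add, map_add, ha, hb, map_add, map_add]
  | add a b ha hb => rw [map_add, map_add, ha, hb, map_add, map_add]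

/-- Exactness of `- ⊗[R] M` on `S`-linear maps when `S ⊗[R] M` is `S`-flat. -/
theorem exists_of_rTensor_eq_zero [Module.Flat S (S ⊗[R] M)] (ψ : X →ₗ[S] Y)
    (u : X ⊗[R] M) (hu : (ψ.restrictScalars R).rTensor M u = 0) :
    ∃ v : (LinearMap.ker ψ) ⊗[R] M,
      ((LinearMap.ker ψ).subtype.restrictScalars R).rTensor M v = u := by
  have hex := Module.Flat.rTensor_exact (S ⊗[R] M) (LinearMap.exact_subtype_ker_map ψ)
  have h1 : ψ.rTensor (S ⊗[R] M) ((AlgebraTensorModule.cancelBaseChange R S S X M).symm u) = 0 := by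
    apply (AlgebraTensorModule.cancelBaseChange R S S Y M).injective
    rw [cancelBaseChange_rTensor, LinearEquiv.apply_symm_apply, hu, map_zero]
  obtain ⟨v', hv'⟩ := (hex _).mp h1
  refine ⟨AlgebraTensorModule.cancelBaseChange R S S (LinearMap.ker ψ) M v', ?_⟩
  rw [← cancelBaseChange_rTensor, hv', LinearEquiv.apply_symm_apply]

end Transport

theorem rTensor_mk_one_injective (h : IsPure R S) (X M : Type u) [AddCommGroup X] [Module R X]
    [AddCommGroup M] [Module R M] :
    Function.Injective ((TensorProduct.mk R S X 1).rTensor M) := by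
  have e : (TensorProduct.mk R S X 1).rTensor M =
      (TensorProduct.assoc R S X M).symm.toLinearMap ∘ₗ TensorProduct.mk R S (X ⊗[R] M) 1 := by
    ext x m
    simp
  rw [e]
  exact (TensorProduct.assoc R S X M).symm.injective.comp (mk_one_injective h _)

theorem sig_lTensor_mk_eq_zero (σ : CharacterModule R →ₗ[R] CharacterModule S) (I : Ideal R)
    (χ : CharacterModule (S ⊗[R] I)) (k : S ⊗[R] I)
    (hk : (Submodule.subtype I).lTensor S k = 0) :
    sig σ (S ⊗[R] I) χ ((TensorProduct.mk R S I 1).lTensor S k) = 0 := by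
  have h1 := congrArg (fun c => c k) (sig_dual σ (TensorProduct.mk R S I 1) χ)
  obtain ⟨ψ, hψ⟩ := CharacterModule.dual_surjective_of_injective (Submodule.subtype I)
    Subtype.val_injective (CharacterModule.dual (TensorProduct.mk R S I 1) χ)
  have h2 := congrArg (fun c => c k) (sig_dual σ (Submodule.subtype I) ψ)
  simp only [dual_app] at h1 h2
  rw [← h1, ← hψ, h2, hk, map_zero]

/-- Flatness descends along universally injective ring maps. -/
theorem flat_of_baseChange (h : IsPure R S) (M : Type u) [AddCommGroup M] [Module R M]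
    [Module.Flat S (S ⊗[R] M)] : Module.Flat R M := by
  obtain ⟨σ, hσ⟩ := exists_section h
  rw [Module.Flat.iff_rTensor_injective']
  intro I
  rw [injective_iff_map_eq_zero]
  intro u hu
  let ι : I →ₗ[R] R := Submodule.subtype I
  let jI : I →ₗ[R] S ⊗[R] I := TensorProduct.mk R S I 1
  let jR : R →ₗ[R] S ⊗[R] R := TensorProduct.mk R S R 1
  let α : S ⊗[R] I →ₗ[S] S ⊗[R] R := AlgebraTensorModule.lTensor S S ι
  let d0 : S ⊗[R] I →ₗ[R] S ⊗[R] (S ⊗[R] I) := TensorProduct.mk R S (S ⊗[R] I) 1
  let d1 : S ⊗[R] I →ₗ[R] S ⊗[R] (S ⊗[R] I) := jI.lTensor S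
  apply rTensor_mk_one_injective h I M
  rw [map_zero]
  -- (a)
  have ha : (α.restrictScalars R).rTensor M (jI.rTensor M u) = 0 := by
    have hc : (α.restrictScalars R) ∘ₗ jI = jR ∘ₗ ι := by
      ext i
      simp [α, jI, jR, ι]
    rw [← LinearMap.comp_apply, ← LinearMap.rTensor_comp, hc, LinearMap.rTensor_comp,
      LinearMap.comp_apply, hu, map_zero]
  -- (b)
  have hb : (d0 - d1).rTensor M (jI.rTensor M u) = 0 := by
    have hc : (d0 - d1) ∘ₗ jI = 0 := by
      ext i
      simp [d0, d1, jI]
    rw [← LinearMap.comp_apply, ← LinearMap.rTensor_comp, hc, LinearMap.rTensor_zero,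
      LinearMap.zero_apply]
  -- (c)
  obtain ⟨v, hv⟩ := exists_of_rTensor_eq_zero M α (jI.rTensor M u) ha
  -- (d)
  refine CharacterModule.eq_zero_of_character_apply (a := jI.rTensor M u) (fun c => ?_)
  let g : M →ₗ[R] CharacterModule (S ⊗[R] I) :=
    CharacterModule.curry (CharacterModule.dual (TensorProduct.comm R M (S ⊗[R] I)).toLinearMap c)
  have hg : ∀ m x, g m x = c (x ⊗ₜ m) := fun m x => rfl
  let c₂ : CharacterModule ((S ⊗[R] (S ⊗[R] I)) ⊗[R] M) :=
    CharacterModule.dual (TensorProduct.comm R (S ⊗[R] (S ⊗[R] I)) M).toLinearMap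
      (CharacterModule.uncurry (sig σ (S ⊗[R] I) ∘ₗ g))
  have hc₂ : ∀ x m, c₂ (x ⊗ₜ m) = sig σ (S ⊗[R] I) (g m) x := by
    intro x m
    simp only [c₂, dual_app, LinearEquiv.coe_coe, TensorProduct.comm_tmul, uncurry_tmul,
      LinearMap.coe_comp, Function.comp_apply]
  have key : ∀ w : (LinearMap.ker α) ⊗[R] M,
      c₂ ((d0 - d1).rTensor M (((LinearMap.ker α).subtype.restrictScalars R).rTensor M w)) =
        c (((LinearMap.ker α).subtype.restrictScalars R).rTensor M w) := by
    intro w
    induction w using TensorProduct.induction_on with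
    | zero => simp
    | tmul k m =>
      have hk : ι.lTensor S (k : S ⊗[R] I) = 0 := k.2
      simp only [LinearMap.rTensor_tmul, LinearMap.coe_restrictScalars, Submodule.subtype_apply,
        LinearMap.sub_apply, hc₂, map_sub]
      rw [sig_lTensor_mk_eq_zero σ I (g m) k hk, sub_zero]
      show sig σ (S ⊗[R] I) (g m) ((1 : S) ⊗ₜ (k : S ⊗[R] I)) = _
      rw [sig_one_tmul σ hσ, hg]
    | add a b ha' hb' => simp only [map_add, ha', hb']
  rw [← hv, ← key, hv, hb, map_zero]

end Groth.Agent.Lib.Helper20.Pure
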