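import Mathlib
import Groth.Agent.Lib.Helper20QCohAlgFP
import Groth.Agent.Lib.Helper23FinType2

set_option autoImplicit false
universe u
open CategoryTheory Limits AlgebraicGeometry TopologicalSpace Opposite

namespace Groth.Agent.Lib.Helper20.QCohAlgFT

open Groth.Agent.Lib.Helper20.RestrictScalars Groth.Agent.Lib.Helper20.QCohAlg
  Groth.Agent.Lib.Helper20.FreeSec Groth.Agent.Lib.Helper20.QCohAlgFP

variable {X : Scheme.{u}} (B : Sheaf (Opens.grothendieckTopology X) CommRingCat.{u})
  (φ : X.sheaf ⟶ B) (V : X.Opens)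

theorem isQuasicoherent_ΦU_over (F : SheafOfModules.{u} (RB B)) (hF : ((ρ B φ).obj F).IsQuasicoherent) :
    ((ΦU B φ V).obj (F.over V)).IsQuasicoherent := by
  haveI := hF
  exact qc_of_iso (ΦIso B φ V F).symm (Scheme.Modules.isQuasicoherent_restrictFunctor V.ι _)

/-- finitely generated sections over an affine open give finitely many generating sections. -/
theorem exists_finite_gens_over (hB : (modOf B φ).IsQuasicoherent)
    (F : SheafOfModules.{u} (RB B)) (hF : ((ρ B φ).obj F).IsQuasicoherent)
    (hV : IsAffineOpen V)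
    (hfin : Module.Finite (((RB B).over V).obj.obj (op (T' V))) ((F.over V).val.obj (op (T' V)))) :
    ∃ g : (F.over V).GeneratingSections, g.IsFiniteType := by
  obtain ⟨n, m, hm⟩ := Module.Finite.exists_fin (R := ((RB B).over V).obj.obj (op (T' V)))
    (M := (F.over V).val.obj (op (T' V)))
  let X₀ : (Over V)ᵒᵖ := op (T' V)
  have hX : IsInitial X₀ := initialOpOfTerminal (isTerminalT' V)
  let t : ULift.{u} (Fin n) → (F.over V).sections := fun k => secOf X₀ hX (F.over V) (m k.down)
  have hepi : Epi ((F.over V).freeHomEquiv.symm t) := by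
    apply (ΦU B φ V).epi_of_epi_map
    haveI := isQuasicoherent_ΦU_over B φ V F hF
    haveI : ((ΦU B φ V).obj (SheafOfModules.free (ULift.{u} (Fin n)))).IsQuasicoherent :=
      isQuasicoherent_map_free (ΦU B φ V) (isQuasicoherent_ΦU_unit B φ V hB) _
    haveI : IsAffine (V : Scheme.{u}) := hV
    refine Groth.Agent.Helper18OmLS.epi_of_surjective_app_cover
      ((ΦU B φ V).map ((F.over V).freeHomEquiv.symm t))
      (fun _ : Unit => (⊤ : (V : Scheme.{u}).Opens)) ?_ (fun _ => isAffineOpen_top _) (fun _ => ?_)
    · rw [IsOpenCover, eq_top_iff]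
      intro x _
      exact Opens.mem_iSup.2 ⟨(), trivial⟩
    · intro y
      change (F.over V).val.obj X₀ at y
      have hy : y ∈ Submodule.span (((RB B).over V).obj.obj X₀) (Set.range m) := by
        rw [hm]; trivial
      obtain ⟨c, hc⟩ := (Finsupp.mem_span_range_iff_exists_finsupp).1 hy
      let c' : ULift.{u} (Fin n) →₀ ((RB B).over V).obj.obj X₀ :=
        Finsupp.equivMapDomain Equiv.ulift.symm c
      refine ⟨Finsupp.linearCombination (((RB B).over V).obj.obj X₀)
        (fun k => ev X₀ (SheafOfModules.freeSection (R := (RB B).over V) k)) c', ?_⟩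
      refine (freeHomEquiv_symm_app_linearCombination X₀ t c').trans ?_
      rw [← hc]
      rw [Finsupp.linearCombination_apply, Finsupp.sum_fintype _ _ (by simp),
        Finsupp.sum_fintype _ _ (by simp)]
      rw [← Equiv.sum_comp Equiv.ulift.symm]
      refine Finset.sum_congr rfl (fun k _ => ?_)
      simp only [c', t, ev, secOf_val_self]
      rfl
  exact ⟨{ I := ULift.{u} (Fin n), s := t, epi := hepi }, ⟨inferInstance⟩⟩

/-- finitely many generating sections over an affine open give finitely generated sections. -/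
theorem finite_of_gens_over (hB : (modOf B φ).IsQuasicoherent)
    (F : SheafOfModules.{u} (RB B)) (hF : ((ρ B φ).obj F).IsQuasicoherent)
    (hV : IsAffineOpen V) (g : (F.over V).GeneratingSections) [g.IsFiniteType] :
    Module.Finite (((RB B).over V).obj.obj (op (T' V))) ((F.over V).val.obj (op (T' V))) := by
  let X₀ : (Over V)ᵒᵖ := op (T' V)
  have hX : IsInitial X₀ := initialOpOfTerminal (isTerminalT' V)
  haveI := isQuasicoherent_ΦU_over B φ V F hF
  haveI : ((ΦU B φ V).obj (SheafOfModules.free g.I)).IsQuasicoherent :=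
    isQuasicoherent_map_free (ΦU B φ V) (isQuasicoherent_ΦU_unit B φ V hB) _
  haveI : IsAffine (V : Scheme.{u}) := hV
  haveI : Epi g.π := g.epi
  haveI : Epi ((ΦU B φ V).map g.π) := inferInstance
  have hsurj := Groth.Agent.Lib.Helper23.FinType.surjective_app_of_epi ((ΦU B φ V).map g.π)
    (isAffineOpen_top (V : Scheme.{u}))
  refine Module.Finite.of_surjective (Finsupp.linearCombination (((RB B).over V).obj.obj X₀)
    (fun k => ev X₀ (g.s k))) ?_
  intro y
  obtain ⟨x, hx⟩ := hsurj y
  change (SheafOfModules.free (R := (RB B).over V) g.I).val.obj X₀ at x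
  obtain ⟨c, rfl⟩ := exists_eq_linearCombination X₀ g.I x
  refine ⟨c, ?_⟩
  rw [← hx]
  exact (freeHomEquiv_symm_app_linearCombination X₀ g.s c).symm

end Groth.Agent.Lib.Helper20.QCohAlgFT
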