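import Mathlib
import Groth.Prelude.Def_QFDual
import Groth.Agent.Lib.Helper20TraceEt

set_option autoImplicit false
set_option linter.style.haveILetI false
universe u
open Polynomial

namespace Groth.Agent.Lib.Helper20.QFDualLib

variable (A K B L : Type u) [CommRing A] [CommRing K] [CommRing B] [CommRing L] [Algebra A K]
  [Algebra A B] [Algebra B L] [Algebra K L] [Algebra A L] [IsScalarTower A K L]
  [IsScalarTower A B L]

variable {A K B L}

omit [Algebra A L] [IsScalarTower A K L] [IsScalarTower A B L] in
/-- the trace form of `L / K` is bijective. -/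
theorem traceForm_bijective (h : QFDual.IsDedekindDefined A K B L) :
    Function.Bijective (Algebra.traceForm K L) := by
  classical
  haveI := h.free
  haveI := h.finiteKL
  haveI := h.etale
  let b := Module.Free.chooseBasis K L
  rw [Groth.Agent.Lib.Helper20.TraceEt.traceForm_bijective_iff_isUnit_discr b,
    ← Groth.Agent.Lib.Helper20.TraceEt.etale_iff_isUnit_discr b]
  exact h.etale

/-- every element of `L` is a fraction `b / s`. -/
theorem exists_smul_eq (h : QFDual.IsDedekindDefined A K B L) (l : L) :
    ∃ (s : nonZeroDivisors A) (b : B), algebraMap A K s • l = algebraMap B L b := by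
  haveI := h.isLocalization
  obtain ⟨⟨b, m⟩, hbm⟩ := IsLocalization.surj (Algebra.algebraMapSubmonoid B (nonZeroDivisors A)) l
  obtain ⟨s, hs, hsm⟩ := m.2
  refine ⟨⟨s, hs⟩, b, ?_⟩
  rw [← hbm, Algebra.smul_def, mul_comm]
  congr 1
  show algebraMap K L (algebraMap A K s) = algebraMap B L m
  rw [← hsm, ← IsScalarTower.algebraMap_apply, ← IsScalarTower.algebraMap_apply]

/-- a `K`-linear form on `L` vanishing on `B` vanishes. -/
theorem trace_mul_eq_zero_of_forall (h : QFDual.IsDedekindDefined A K B L) (x : L)
    (hx : ∀ b : B, Algebra.trace K L (x * algebraMap B L b) = 0) (l : L) :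
    Algebra.trace K L (x * l) = 0 := by
  haveI := h.isFractionRing
  obtain ⟨s, b, hsb⟩ := exists_smul_eq h l
  have hu : IsUnit (algebraMap A K s) := IsLocalization.map_units K s
  apply hu.mul_left_cancel
  rw [mul_zero, ← smul_eq_mul, ← map_smul, ← mul_smul_comm, hsb]
  exact hx b

/-- extension of an `A`-linear form on `B` to a `K`-linear form on `L`. -/
theorem exists_extension (h : QFDual.IsDedekindDefined A K B L) (φ : B →ₗ[A] A) :
    ∃ Φ : L →ₗ[K] K, ∀ b : B, Φ (algebraMap B L b) = algebraMap A K (φ b) := by
  haveI := h.isFractionRing
  haveI := h.isLocalization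
  haveI : IsLocalizedModule (nonZeroDivisors A) (IsScalarTower.toAlgHom A B L).toLinearMap :=
    (isLocalizedModule_iff_isLocalization).2 h.isLocalization
  let g : B →ₗ[A] K := (Algebra.linearMap A K) ∘ₗ φ
  have hg : ∀ s : nonZeroDivisors A, IsUnit (algebraMap A (Module.End A K) s) := by
    intro s
    have hu : IsUnit (algebraMap A K s) := IsLocalization.map_units K s
    rw [Module.End.isUnit_iff]
    constructor
    · intro x y hxy
      simp only [Module.algebraMap_end_apply] at hxy
      rw [Algebra.smul_def, Algebra.smul_def] at hxy
      exact hu.mul_left_cancel hxy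
    · intro y
      obtain ⟨v, hv⟩ := hu
      refine ⟨(v⁻¹ : Kˣ) * y, ?_⟩
      simp only [Module.algebraMap_end_apply]
      rw [Algebra.smul_def, ← hv, ← mul_assoc, Units.mul_inv, one_mul]
  let Φ₀ : L →ₗ[A] K :=
    IsLocalizedModule.lift (nonZeroDivisors A) (IsScalarTower.toAlgHom A B L).toLinearMap g hg
  refine ⟨LinearMap.extendScalarsOfIsLocalization (nonZeroDivisors A) K Φ₀, fun b => ?_⟩
  have := IsLocalizedModule.lift_apply (nonZeroDivisors A)
    (IsScalarTower.toAlgHom A B L).toLinearMap g hg b
  exact this

/-- S8962. -/
theorem exists_complementary_linearEquiv_omega (h : QFDual.IsDedekindDefined A K B L) :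
    ∃ e : QFDual.complementary A K B L ≃ₗ[B] Disc.Omega A B,
      ∀ (x : QFDual.complementary A K B L) (b : B),
        algebraMap A K ((e x).toLinearMap b) = Algebra.trace K L ((x : L) * algebraMap B L b) := by
  haveI := h.isFractionRing
  have hinj : Function.Injective (algebraMap A K) := IsFractionRing.injective A K
  -- the underlying function
  have hx : ∀ (x : QFDual.complementary A K B L) (b : B),
      ∃ a : A, algebraMap A K a = Algebra.trace K L ((x : L) * algebraMap B L b) :=
    fun x b => x.2 b
  choose t ht using hx
  let f₀ : QFDual.complementary A K B L → Disc.Omega A B := fun x =>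
    ⟨{ toFun := t x
       map_add' := by
         intro b b'
         apply hinj
         rw [map_add, ht, ht, ht, map_add, mul_add, map_add]
       map_smul' := by
         intro a b
         apply hinj
         have key : algebraMap B L (a • b) = algebraMap A K a • algebraMap B L b := by
           rw [Algebra.smul_def a b, map_mul (algebraMap B L),
             ← IsScalarTower.algebraMap_apply A B L, IsScalarTower.algebraMap_apply A K L,
             ← Algebra.smul_def]
         rw [RingHom.id_apply, smul_eq_mul, map_mul (algebraMap A K), ht, ht, key,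
           mul_smul_comm, map_smul, smul_eq_mul] }⟩
  have hf₀ : ∀ x b, algebraMap A K ((f₀ x).toLinearMap b) =
      Algebra.trace K L ((x : L) * algebraMap B L b) := fun x b => ht x b
  let f : QFDual.complementary A K B L →ₗ[B] Disc.Omega A B :=
    { toFun := f₀
      map_add' := by
        intro x y
        apply Disc.Omega.ext
        apply LinearMap.ext
        intro b
        apply hinj
        rw [Disc.Omega.add_toLinearMap, LinearMap.add_apply, map_add, hf₀, hf₀, hf₀]
        rw [Submodule.coe_add, add_mul, map_add]
      map_smul' := by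
        intro c x
        apply Disc.Omega.ext
        apply LinearMap.ext
        intro b
        apply hinj
        rw [RingHom.id_apply, Disc.Omega.smul_toLinearMap_apply, hf₀, hf₀]
        rw [Submodule.coe_smul, Algebra.smul_def, map_mul (algebraMap B L)]
        congr 1
        ring }
  have hf : ∀ x b, algebraMap A K ((f x).toLinearMap b) =
      Algebra.trace K L ((x : L) * algebraMap B L b) := fun x b => ht x b
  have hbij := traceForm_bijective h
  have finj : Function.Injective f := by
    rw [← LinearMap.ker_eq_bot, LinearMap.ker_eq_bot']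
    intro x hx0
    have h0 : ∀ b : B, Algebra.trace K L ((x : L) * algebraMap B L b) = 0 := by
      intro b
      rw [← hf, hx0]
      simp
    have h1 := trace_mul_eq_zero_of_forall h (x : L) h0
    have h2 : Algebra.traceForm K L (x : L) = 0 := by
      apply LinearMap.ext
      intro l
      rw [Algebra.traceForm_apply]
      exact h1 l
    have h3 : (x : L) = 0 := hbij.1 (h2.trans (map_zero _).symm)
    exact Subtype.ext h3
  have fsurj : Function.Surjective f := by
    intro φ
    obtain ⟨Φ, hΦ⟩ := exists_extension h φ.toLinearMap
    obtain ⟨x, hx⟩ := hbij.2 Φ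
    have hxl : ∀ l : L, Algebra.trace K L (x * l) = Φ l := by
      intro l
      rw [← hx, Algebra.traceForm_apply]
    have hxc : x ∈ QFDual.complementary A K B L := by
      intro b
      rw [hxl, hΦ]
      exact ⟨_, rfl⟩
    refine ⟨⟨x, hxc⟩, ?_⟩
    apply Disc.Omega.ext
    apply LinearMap.ext
    intro b
    apply hinj
    rw [hf, hxl, hΦ]
  exact ⟨LinearEquiv.ofBijective f ⟨finj, fsurj⟩, fun x b => hf x b⟩

end Groth.Agent.Lib.Helper20.QFDualLib
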