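import Mathlib
import Groth.Prelude.Def_QFDual
import Groth.Agent.Lib.Helper20QFDual1

set_option autoImplicit false
set_option linter.style.haveILetI false
universe u
open Polynomial

namespace Groth.Agent.Lib.Helper20.QFDualLib

variable {A K B L : Type u} [CommRing A] [CommRing K] [CommRing B] [CommRing L] [Algebra A K]
  [Algebra A B] [Algebra B L] [Algebra K L] [Algebra A L] [IsScalarTower A K L]
  [IsScalarTower A B L]

/-- trace compatibility `Tr_{L/K}(b) = Tr_{B/A}(b)` in the free case. -/
theorem trace_algebraMap (h : QFDual.IsDedekindDefined A K B L) [Module.Finite A B]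
    [Module.Free A B] (b : B) :
    Algebra.trace K L (algebraMap B L b) = algebraMap A K (Algebra.trace A B b) := by
  haveI := h.isFractionRing
  haveI := h.isLocalization
  exact Algebra.trace_localization A (nonZeroDivisors A) b

/-- an element of `L` is determined by its traces against `B`. -/
theorem eq_of_forall_trace_mul_eq (h : QFDual.IsDedekindDefined A K B L) (x y : L)
    (hxy : ∀ b : B, Algebra.trace K L (x * algebraMap B L b) =
      Algebra.trace K L (y * algebraMap B L b)) : x = y := by
  have h0 : ∀ b : B, Algebra.trace K L ((x - y) * algebraMap B L b) = 0 := by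
    intro b
    rw [sub_mul, map_sub, hxy b, sub_self]
  have h1 := trace_mul_eq_zero_of_forall h (x - y) h0
  have h2 : Algebra.traceForm K L (x - y) = 0 := by
    apply LinearMap.ext
    intro l
    rw [Algebra.traceForm_apply]
    exact h1 l
  have h3 : x - y = 0 := (traceForm_bijective h).1 (h2.trans (map_zero _).symm)
  exact sub_eq_zero.1 h3

/-- S8965. -/
theorem dedekindDifferent_eq_map_different (h : QFDual.IsDedekindDefined A K B L)
    [Module.Finite A B] [Module.Free A B] :
    QFDual.dedekindDifferent A K B L =
      Submodule.map (Algebra.linearMap B L) (QFDual.different B (Disc.Omega.trace A B)) := by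
  haveI := h.isFractionRing
  have hinj : Function.Injective (algebraMap A K) := IsFractionRing.injective A K
  obtain ⟨e, he⟩ := exists_complementary_linearEquiv_omega h
  ext x
  constructor
  · intro hx
    have h1 : (1 : L) ∈ QFDual.complementary A K B L := by
      intro b
      rw [one_mul, trace_algebraMap h]
      exact ⟨_, rfl⟩
    obtain ⟨r, hr⟩ := hx 1 h1
    rw [mul_one] at hr
    refine ⟨r, ?_, hr⟩
    show r ∈ QFDual.different B (Disc.Omega.trace A B)
    rw [QFDual.mem_different_iff]
    intro m
    obtain ⟨y, rfl⟩ := e.surjective m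
    obtain ⟨c, hc⟩ := hx (y : L) y.2
    refine ⟨c, ?_⟩
    apply Disc.Omega.ext
    apply LinearMap.ext
    intro b
    apply hinj
    rw [Disc.Omega.smul_toLinearMap_apply, Disc.Omega.smul_toLinearMap_apply, he]
    show algebraMap A K (Algebra.trace A B (c * b)) = _
    rw [← trace_algebraMap h, map_mul (algebraMap B L), hc, ← hr, map_mul (algebraMap B L)]
    congr 1
    ring
  · rintro ⟨r, hr, rfl⟩
    have hr' : r ∈ QFDual.different B (Disc.Omega.trace A B) := hr
    rw [QFDual.mem_different_iff] at hr'
    intro y hy
    obtain ⟨c, hc⟩ := hr' (e ⟨y, hy⟩)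
    refine ⟨c, ?_⟩
    apply eq_of_forall_trace_mul_eq h
    intro b
    have h2 := congrArg (fun φ : Disc.Omega A B => algebraMap A K (φ.toLinearMap b)) hc
    simp only [Disc.Omega.smul_toLinearMap_apply] at h2
    rw [he] at h2
    have h3 : algebraMap A K ((Disc.Omega.trace A B).toLinearMap (c * b)) =
        Algebra.trace K L (algebraMap B L (c * b)) := (trace_algebraMap h (c * b)).symm
    rw [h3] at h2
    rw [← map_mul (algebraMap B L), h2, map_mul (algebraMap B L)]
    show _ = Algebra.trace K L (Algebra.linearMap B L r * y * algebraMap B L b)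
    rw [Algebra.linearMap_apply]
    congr 1
    ring

end Groth.Agent.Lib.Helper20.QFDualLib
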