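import Mathlib
import Groth.Prelude.Def_QFDual
import Groth.Agent.Lib.Helper20QFDualBC

set_option autoImplicit false
set_option linter.style.haveILetI false
universe u
open TensorProduct

namespace Groth.Agent.Lib.Helper20.QFDualBC

/-- in a rank one free module, `f u • v = f v • u`. -/
theorem dual_apply_smul_comm_of_equiv {R M : Type*} [CommRing R] [AddCommGroup M] [Module R M]
    (e : M ≃ₗ[R] R) (f : M →ₗ[R] R) (u v : M) : f u • v = f v • u := by
  apply e.injective
  have hu : ∀ w, f w = e w * f (e.symm 1) := fun w => by
    conv_lhs => rw [← e.symm_apply_apply w, ← mul_one (e w), ← smul_eq_mul, map_smul e.symm,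
      map_smul f, smul_eq_mul]
  rw [map_smul, map_smul, hu u, hu v, smul_eq_mul, smul_eq_mul]
  ring

/-- rank one identity for invertible modules: `f x • y = f y • x`. -/
theorem dual_apply_smul_comm {R : Type u} {M : Type u} [CommRing R] [AddCommGroup M] [Module R M]
    [Module.Invertible R M] (f : Module.Dual R M) (x y : M) : f x • y = f y • x := by
  rw [← sub_eq_zero]
  refine Module.eq_zero_of_localization_maximal
    (fun (P : Ideal R) [P.IsMaximal] => LocalizedModule P.primeCompl M)
    (fun (P : Ideal R) [P.IsMaximal] => LocalizedModule.mkLinearMap P.primeCompl M) _ ?_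
  intro P hP
  let S := P.primeCompl
  let RP := Localization.AtPrime P
  let MP := LocalizedModule S M
  haveI : Module.Invertible RP MP := inferInstance
  haveI : Module.Free RP MP := inferInstance
  obtain ⟨e⟩ := Module.Invertible.free_iff_linearEquiv.1 (inferInstance : Module.Free RP MP)
  let fP : MP →ₗ[RP] RP := LinearMap.extendScalarsOfIsLocalization S RP
    (IsLocalizedModule.map S (LocalizedModule.mkLinearMap S M) (Algebra.linearMap R RP) f)
  have hfP : ∀ z : M, fP (LocalizedModule.mkLinearMap S M z) = algebraMap R RP (f z) := by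
    intro z
    exact IsLocalizedModule.map_apply S (LocalizedModule.mkLinearMap S M)
      (Algebra.linearMap R RP) f z
  have key := dual_apply_smul_comm_of_equiv e fP (LocalizedModule.mkLinearMap S M x)
    (LocalizedModule.mkLinearMap S M y)
  rw [hfP, hfP, algebraMap_smul, algebraMap_smul, ← map_smul, ← map_smul] at key
  rw [map_sub, key, sub_self]

variable {A B A' B' : Type u} [CommRing A] [CommRing B] [CommRing A'] [CommRing B']
  [Algebra A B] [Algebra A A'] [Algebra B B'] [Algebra A' B'] [Algebra A B']
  [IsScalarTower A A' B'] [IsScalarTower A B B']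

/-- for invertible `ω`, the values `f(τ)` lie in the different. -/
theorem dual_apply_trace_mem_different [Module.Finite A B] [Module.Free A B]
    [Module.Invertible B (Disc.Omega A B)] (f : Module.Dual B (Disc.Omega A B)) :
    f (Disc.Omega.trace A B) ∈ QFDual.different B (Disc.Omega.trace A B) := by
  rw [QFDual.mem_different_iff]
  intro m
  exact ⟨f m, dual_apply_smul_comm f m (Disc.Omega.trace A B)⟩

/-- S8968. -/
theorem map_different_eq_of_invertible [Module.Finite A B] [Module.Free A B]
    [Module.Finite A' B'] [Module.Free A' B'] (hB : Algebra.IsPushout A A' B B')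
    [Module.Invertible B (Disc.Omega A B)] :
    Ideal.map (algebraMap B B') (QFDual.different B (Disc.Omega.trace A B)) =
      QFDual.different B' (Disc.Omega.trace A' B') := by
  classical
  refine le_antisymm (map_different_le hB) ?_
  intro r' hr'
  rw [QFDual.mem_different_iff] at hr'
  -- partition of unity
  obtain ⟨S, hS⟩ := ((Module.Invertible.linearEquiv B (Disc.Omega A B)).symm 1).exists_finset
  replace hS : (1 : B) = ∑ i ∈ S, i.1 i.2 := by
    simpa [LinearEquiv.symm_apply_eq, Module.Invertible.linearEquiv] using hS
  -- base-changed functionals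
  have hF : ∀ f : Module.Dual B (Disc.Omega A B), ∃ f' : Disc.Omega A' B' →ₗ[B'] B',
      ∀ m, f' (QFDual.bcFin hB m) = algebraMap B B' (f m) := by
    intro f
    let g : Disc.Omega A B →+ B' := (algebraMap B B' : B →+ B').comp f.toAddMonoidHom
    have hg : ∀ (b : B) (m : Disc.Omega A B), g (b • m) = algebraMap B B' b • g m := by
      intro b m
      show algebraMap B B' (f (b • m)) = algebraMap B B' b • algebraMap B B' (f m)
      rw [map_smul, smul_eq_mul, map_mul, smul_eq_mul]
    exact exists_lift hB g hg
  choose F hF' using hF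
  have hc : ∀ m : Disc.Omega A B, ∃ c' : B',
      c' • Disc.Omega.trace A' B' = r' • QFDual.bcFin hB m := fun m => hr' _
  choose c hc' using hc
  have hr : r' = ∑ i ∈ S, c i.2 * algebraMap B B' (i.1 (Disc.Omega.trace A B)) := by
    calc r' = r' * algebraMap B B' 1 := by rw [map_one, mul_one]
      _ = ∑ i ∈ S, r' * algebraMap B B' (i.1 i.2) := by rw [hS, map_sum, Finset.mul_sum]
      _ = ∑ i ∈ S, c i.2 * algebraMap B B' (i.1 (Disc.Omega.trace A B)) := by
        refine Finset.sum_congr rfl fun i _ => ?_
        rw [← hF' i.1 i.2, ← smul_eq_mul, ← map_smul, ← hc' i.2, map_smul, smul_eq_mul,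
          ← bcFin_trace hB, hF']
  rw [hr]
  refine Ideal.sum_mem _ fun i _ => Ideal.mul_mem_left _ _ (Ideal.mem_map_of_mem _ ?_)
  exact dual_apply_trace_mem_different i.1

end Groth.Agent.Lib.Helper20.QFDualBC
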