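import Mathlib
import Groth.Prelude.Def_QFDual
import Groth.Agent.Lib.Helper20QFDualBC

set_option autoImplicit false
set_option linter.style.haveILetI false
universe u
open TensorProduct

namespace Groth.Agent.Lib.Helper20.QFDualBC

/-- annihilators of finite modules commute with flat base change (the nontrivial inclusion). -/
theorem annihilator_baseChange_le_of_flat {R S : Type u} [CommRing R] [CommRing S] [Algebra R S]
    [Module.Flat R S] {M : Type u} [AddCommGroup M] [Module R M] [Module.Finite R M] :
    Module.annihilator S (S ⊗[R] M) ≤ Ideal.map (algebraMap R S) (Module.annihilator R M) := by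
  classical
  obtain ⟨n, x, hx⟩ := Module.Finite.exists_fin (R := R) (M := M)
  let θ : R →ₗ[R] (Fin n → M) := LinearMap.pi (fun i => LinearMap.toSpanSingleton R M (x i))
  have hker : ∀ r : R, r ∈ LinearMap.ker θ → r ∈ Module.annihilator R M := by
    intro r hr
    rw [LinearMap.mem_ker] at hr
    have h1 : ∀ i, r • x i = 0 := fun i => by
      have := congrFun hr i
      simpa [θ] using this
    rw [← Submodule.annihilator_top, ← hx, Submodule.mem_annihilator_span]
    rintro ⟨_, i, rfl⟩
    exact h1 i
  have hex : Function.Exact (LinearMap.ker θ).subtype θ := LinearMap.exact_subtype_ker_map θ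
  have hex' := Module.Flat.lTensor_exact S hex
  intro s hs
  rw [Module.mem_annihilator] at hs
  have h0 : (θ.lTensor S) (s ⊗ₜ[R] (1 : R)) = 0 := by
    rw [LinearMap.lTensor_tmul]
    have hθ1 : θ 1 = x := by
      funext i
      simp [θ]
    rw [hθ1, ← TensorProduct.piRight_symm_apply R S S (fun _ : Fin n => M) s x]
    have : (fun i => s ⊗ₜ[R] x i) = (0 : Fin n → S ⊗[R] M) := by
      funext i
      have := hs ((1 : S) ⊗ₜ[R] x i)
      rwa [TensorProduct.smul_tmul', smul_eq_mul, mul_one] at this
    rw [this, map_zero]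
  obtain ⟨z, hz⟩ := (hex' (s ⊗ₜ[R] (1 : R))).1 h0
  have hμ : ∀ z : S ⊗[R] (LinearMap.ker θ),
      (TensorProduct.rid R S) (((LinearMap.ker θ).subtype.lTensor S) z) ∈
        Ideal.map (algebraMap R S) (Module.annihilator R M) := by
    intro z
    induction z using TensorProduct.induction_on with
    | zero => simp
    | tmul s₀ a =>
      rw [LinearMap.lTensor_tmul, TensorProduct.rid_tmul, Submodule.subtype_apply,
        Algebra.smul_def]
      exact Ideal.mul_mem_right _ _ (Ideal.mem_map_of_mem _ (hker a.1 a.2))
    | add z w hz hw =>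
      rw [map_add, map_add]
      exact Ideal.add_mem _ hz hw
  have := hμ z
  rw [hz, TensorProduct.rid_tmul, one_smul] at this
  exact this

variable {A B A' B' : Type u} [CommRing A] [CommRing B] [CommRing A'] [CommRing B']
  [Algebra A B] [Algebra A A'] [Algebra B B'] [Algebra A' B'] [Algebra A B']
  [IsScalarTower A A' B'] [IsScalarTower A B B']

/-- the different of `B'/A'` kills `B' ⊗_B (ω / Bτ)`. -/
theorem different_le_annihilator_baseChange [Module.Finite A B] [Module.Free A B]
    [Module.Finite A' B'] [Module.Free A' B'] (hB : Algebra.IsPushout A A' B B') :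
    QFDual.different B' (Disc.Omega.trace A' B') ≤
      Module.annihilator B' (B' ⊗[B] (Disc.Omega A B ⧸
        Submodule.span B {Disc.Omega.trace A B})) := by
  let τ := Disc.Omega.trace A B
  let N : Submodule B (Disc.Omega A B) := Submodule.span B {τ}
  let M := Disc.Omega A B ⧸ N
  intro r' hr'
  rw [QFDual.mem_different_iff] at hr'
  let g : Disc.Omega A B →+ B' ⊗[B] M :=
    { toFun := fun m => (1 : B') ⊗ₜ[B] (N.mkQ m)
      map_zero' := by rw [map_zero, TensorProduct.tmul_zero]
      map_add' := fun m n => by rw [map_add, TensorProduct.tmul_add] }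
  have hg : ∀ (b : B) (m : Disc.Omega A B), g (b • m) = algebraMap B B' b • g m := by
    intro b m
    show (1 : B') ⊗ₜ[B] (N.mkQ (b • m)) = algebraMap B B' b • ((1 : B') ⊗ₜ[B] (N.mkQ m))
    rw [map_smul, ← TensorProduct.smul_tmul, TensorProduct.smul_tmul', smul_eq_mul,
      Algebra.smul_def, mul_one]
  obtain ⟨g', hg'⟩ := exists_lift hB g hg
  have hτ : g' (Disc.Omega.trace A' B') = 0 := by
    rw [← bcFin_trace hB, hg']
    show (1 : B') ⊗ₜ[B] (N.mkQ τ) = 0
    have : N.mkQ τ = 0 := (Submodule.Quotient.mk_eq_zero N).2 (Submodule.mem_span_singleton_self τ)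
    rw [this, TensorProduct.tmul_zero]
  have hkill : ∀ m' : Disc.Omega A' B', r' • g' m' = 0 := by
    intro m'
    obtain ⟨c', hc'⟩ := hr' m'
    rw [← map_smul, ← hc', map_smul, hτ, smul_zero]
  rw [Module.mem_annihilator]
  intro z
  induction z using TensorProduct.induction_on with
  | zero => rw [smul_zero]
  | tmul b'₀ m₀ =>
    obtain ⟨m, rfl⟩ := N.mkQ_surjective m₀
    have h1 : b'₀ ⊗ₜ[B] (N.mkQ m) = b'₀ • g' (QFDual.bcFin hB m) := by
      rw [hg']
      show _ = b'₀ • ((1 : B') ⊗ₜ[B] (N.mkQ m))
      rw [TensorProduct.smul_tmul', smul_eq_mul, mul_one]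
    rw [h1, smul_comm, hkill, smul_zero]
  | add x y hx hy => rw [smul_add, hx, hy, add_zero]

/-- S8967. -/
theorem map_different_eq_of_flat [Module.Finite A B] [Module.Free A B]
    [Module.Finite A' B'] [Module.Free A' B'] (hB : Algebra.IsPushout A A' B B')
    [Module.Flat A A'] :
    Ideal.map (algebraMap B B') (QFDual.different B (Disc.Omega.trace A B)) =
      QFDual.different B' (Disc.Omega.trace A' B') := by
  refine le_antisymm (map_different_le hB) ?_
  haveI := finite_omega (A := A) (B := B)
  haveI : Module.Flat B B' := Module.Flat.isBaseChange A B A' B' hB.symm.out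
  refine (different_le_annihilator_baseChange hB).trans ?_
  refine annihilator_baseChange_le_of_flat.trans ?_
  rw [Submodule.annihilator_quotient]
  exact le_of_eq rfl

end Groth.Agent.Lib.Helper20.QFDualBC
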