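import Mathlib
import Groth.Prelude.Def_QFDual

set_option autoImplicit false
set_option linter.style.haveILetI false
set_option linter.unusedSectionVars false
universe u
open TensorProduct

namespace Groth.Agent.Lib.Helper20.QFDualProd

variable {A B' B C' C : Type u} [CommRing A] [CommRing B'] [CommRing B] [CommRing C'] [CommRing C]
  [Algebra A B'] [Algebra B' B] [Algebra A B] [IsScalarTower A B' B] [Algebra A C'] [Algebra C' C]
  [Algebra A C] [IsScalarTower A C' C] [Algebra (B' × C') (B × C)]
  [IsScalarTower A (B' × C') (B × C)]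

/-- restriction of a form on `B' × C'` to the first factor. -/
def resL (φ : Disc.Omega A (B' × C')) : Disc.Omega A B' :=
  Disc.Omega.mk (φ.toLinearMap ∘ₗ LinearMap.inl A B' C')

/-- restriction of a form on `B' × C'` to the second factor. -/
def resR (φ : Disc.Omega A (B' × C')) : Disc.Omega A C' :=
  Disc.Omega.mk (φ.toLinearMap ∘ₗ LinearMap.inr A B' C')

/-- extension by zero from the first factor. -/
def extL (ψ : Disc.Omega A B') : Disc.Omega A (B' × C') :=
  Disc.Omega.mk (ψ.toLinearMap ∘ₗ LinearMap.fst A B' C')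

/-- extension by zero from the second factor. -/
def extR (χ : Disc.Omega A C') : Disc.Omega A (B' × C') :=
  Disc.Omega.mk (χ.toLinearMap ∘ₗ LinearMap.snd A B' C')

omit [Algebra B' B] [Algebra A B] [IsScalarTower A B' B] [Algebra C' C] [Algebra A C]
  [IsScalarTower A C' C] [Algebra (B' × C') (B × C)] [IsScalarTower A (B' × C') (B × C)] in
theorem resL_smul (x : B' × C') (φ : Disc.Omega A (B' × C')) :
    resL (x • φ) = x.1 • resL φ := by
  apply Disc.Omega.ext
  apply LinearMap.ext
  intro y
  have : x * (y, 0) = (x.1 * y, 0) := by ext <;> simp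
  simp [resL, this]

omit [Algebra B' B] [Algebra A B] [IsScalarTower A B' B] [Algebra C' C] [Algebra A C]
  [IsScalarTower A C' C] [Algebra (B' × C') (B × C)] [IsScalarTower A (B' × C') (B × C)] in
theorem resR_smul (x : B' × C') (φ : Disc.Omega A (B' × C')) :
    resR (x • φ) = x.2 • resR φ := by
  apply Disc.Omega.ext
  apply LinearMap.ext
  intro y
  have : x * (0, y) = (0, x.2 * y) := by ext <;> simp
  simp [resR, this]

omit [Algebra B' B] [Algebra A B] [IsScalarTower A B' B] [Algebra C' C] [Algebra A C]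
  [IsScalarTower A C' C] [Algebra (B' × C') (B × C)] [IsScalarTower A (B' × C') (B × C)] in
theorem smul_extL (x : B' × C') (ψ : Disc.Omega A B') :
    x • (extL ψ : Disc.Omega A (B' × C')) = extL (x.1 • ψ) := by
  apply Disc.Omega.ext
  apply LinearMap.ext
  intro y
  simp [extL]

omit [Algebra B' B] [Algebra A B] [IsScalarTower A B' B] [Algebra C' C] [Algebra A C]
  [IsScalarTower A C' C] [Algebra (B' × C') (B × C)] [IsScalarTower A (B' × C') (B × C)] in
theorem smul_extR (x : B' × C') (χ : Disc.Omega A C') :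
    x • (extR χ : Disc.Omega A (B' × C')) = extR (x.2 • χ) := by
  apply Disc.Omega.ext
  apply LinearMap.ext
  intro y
  simp [extR]

omit [Algebra B' B] [Algebra A B] [IsScalarTower A B' B] [Algebra C' C] [Algebra A C]
  [IsScalarTower A C' C] [Algebra (B' × C') (B × C)] [IsScalarTower A (B' × C') (B × C)] in
theorem decomp (φ : Disc.Omega A (B' × C')) :
    ((1, 0) : B' × C') • extL (resL φ) + ((0, 1) : B' × C') • extR (resR φ) = φ := by
  apply Disc.Omega.ext
  apply LinearMap.ext
  rintro ⟨x, y⟩
  simp only [Disc.Omega.add_toLinearMap, LinearMap.add_apply, Disc.Omega.smul_toLinearMap_apply,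
    extL, extR, resL, resR, LinearMap.comp_apply, Prod.mk_mul_mk, one_mul, zero_mul,
    LinearMap.fst_apply, LinearMap.snd_apply, LinearMap.inl_apply, LinearMap.inr_apply]
  rw [← map_add]
  simp

section main

variable (halg : algebraMap (B' × C') (B × C) = (algebraMap B' B).prodMap (algebraMap C' C))
include halg

omit [Algebra A B'] [Algebra A B] [IsScalarTower A B' B] [Algebra A C'] [Algebra A C]
  [IsScalarTower A C' C] [IsScalarTower A (B' × C') (B × C)] in
theorem smul_mk (x : B' × C') (b : B) (c : C) : x • ((b, c) : B × C) = (x.1 • b, x.2 • c) := by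
  rw [Algebra.smul_def, halg]
  ext
  · simp [Algebra.smul_def]
  · simp [Algebra.smul_def]

/-- the forward map. -/
noncomputable def fwd :
    QFDual.omega A (B' × C') (B × C) →+ QFDual.omega A B' B × QFDual.omega A C' C :=
  TensorProduct.liftAddHom
    { toFun := fun bc =>
        { toFun := fun φ => (bc.1 ⊗ₜ[B'] resL φ, bc.2 ⊗ₜ[C'] resR φ)
          map_zero' := by
            have h1 : resL (0 : Disc.Omega A (B' × C')) = 0 := rfl
            have h2 : resR (0 : Disc.Omega A (B' × C')) = 0 := rfl
            rw [h1, h2, tmul_zero, tmul_zero]; rfl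
          map_add' := fun φ ψ => by
            have h1 : resL (φ + ψ) = resL φ + resL ψ := rfl
            have h2 : resR (φ + ψ) = resR φ + resR ψ := rfl
            rw [h1, h2, tmul_add, tmul_add]; rfl }
      map_zero' := by
        ext φ
        · show (0 : B) ⊗ₜ[B'] resL φ = 0
          rw [zero_tmul]
        · show (0 : C) ⊗ₜ[C'] resR φ = 0
          rw [zero_tmul]
      map_add' := fun x y => by
        ext φ
        · show (x.1 + y.1) ⊗ₜ[B'] resL φ = x.1 ⊗ₜ[B'] resL φ + y.1 ⊗ₜ[B'] resL φ
          rw [add_tmul]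
        · show (x.2 + y.2) ⊗ₜ[C'] resR φ = x.2 ⊗ₜ[C'] resR φ + y.2 ⊗ₜ[C'] resR φ
          rw [add_tmul] }
    (by
      rintro x ⟨b, c⟩ φ
      show ((x • ((b, c) : B × C)).1 ⊗ₜ[B'] resL φ, (x • ((b, c) : B × C)).2 ⊗ₜ[C'] resR φ) =
        (b ⊗ₜ[B'] resL (x • φ), c ⊗ₜ[C'] resR (x • φ))
      rw [smul_mk halg, resL_smul, resR_smul, tmul_smul, tmul_smul, smul_tmul', smul_tmul'])

theorem fwd_tmul (b : B) (c : C) (φ : Disc.Omega A (B' × C')) :
    fwd halg ((b, c) ⊗ₜ[B' × C'] φ) = (b ⊗ₜ[B'] resL φ, c ⊗ₜ[C'] resR φ) := rfl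

/-- the first component of the inverse. -/
noncomputable def bwdL : QFDual.omega A B' B →+ QFDual.omega A (B' × C') (B × C) :=
  TensorProduct.liftAddHom
    { toFun := fun b =>
        { toFun := fun ψ => ((b, 0) : B × C) ⊗ₜ[B' × C'] extL ψ
          map_zero' := by
            have h1 : extL (0 : Disc.Omega A B') = (0 : Disc.Omega A (B' × C')) := rfl
            rw [h1, tmul_zero]
          map_add' := fun φ ψ => by
            have h1 : (extL (φ + ψ) : Disc.Omega A (B' × C')) = extL φ + extL ψ := rfl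
            rw [h1, tmul_add] }
      map_zero' := by
        ext ψ
        show ((0, 0) : B × C) ⊗ₜ[B' × C'] extL ψ = 0
        rw [← Prod.zero_eq_mk, zero_tmul]
      map_add' := fun x y => by
        ext ψ
        show ((x + y, 0) : B × C) ⊗ₜ[B' × C'] extL ψ =
          ((x, 0) : B × C) ⊗ₜ[B' × C'] extL ψ + ((y, 0) : B × C) ⊗ₜ[B' × C'] extL ψ
        rw [← add_tmul]
        congr 1
        ext <;> simp }
    (by
      intro b' b ψ
      show ((b' • b, 0) : B × C) ⊗ₜ[B' × C'] extL ψ = ((b, 0) : B × C) ⊗ₜ[B' × C'] extL (b' • ψ)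
      have h1 : ((b' • b, 0) : B × C) = ((b', 0) : B' × C') • ((b, 0) : B × C) := by
        rw [smul_mk halg]
        ext <;> simp
      have h2 : (extL (b' • ψ) : Disc.Omega A (B' × C')) = ((b', 0) : B' × C') • extL ψ :=
        (smul_extL ((b', 0) : B' × C') ψ).symm
      rw [h1, h2, tmul_smul, smul_tmul'])

/-- the second component of the inverse. -/
noncomputable def bwdR : QFDual.omega A C' C →+ QFDual.omega A (B' × C') (B × C) :=
  TensorProduct.liftAddHom
    { toFun := fun c =>
        { toFun := fun χ => ((0, c) : B × C) ⊗ₜ[B' × C'] extR χ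
          map_zero' := by
            have h1 : extR (0 : Disc.Omega A C') = (0 : Disc.Omega A (B' × C')) := rfl
            rw [h1, tmul_zero]
          map_add' := fun φ ψ => by
            have h1 : (extR (φ + ψ) : Disc.Omega A (B' × C')) = extR φ + extR ψ := rfl
            rw [h1, tmul_add] }
      map_zero' := by
        ext χ
        show ((0, 0) : B × C) ⊗ₜ[B' × C'] extR χ = 0
        rw [← Prod.zero_eq_mk, zero_tmul]
      map_add' := fun x y => by
        ext χ
        show ((0, x + y) : B × C) ⊗ₜ[B' × C'] extR χ =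
          ((0, x) : B × C) ⊗ₜ[B' × C'] extR χ + ((0, y) : B × C) ⊗ₜ[B' × C'] extR χ
        rw [← add_tmul]
        congr 1
        ext <;> simp }
    (by
      intro c' c χ
      show ((0, c' • c) : B × C) ⊗ₜ[B' × C'] extR χ = ((0, c) : B × C) ⊗ₜ[B' × C'] extR (c' • χ)
      have h1 : ((0, c' • c) : B × C) = ((0, c') : B' × C') • ((0, c) : B × C) := by
        rw [smul_mk halg]
        ext <;> simp
      have h2 : (extR (c' • χ) : Disc.Omega A (B' × C')) = ((0, c') : B' × C') • extR χ :=
        (smul_extR ((0, c') : B' × C') χ).symm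
      rw [h1, h2, tmul_smul, smul_tmul'])

theorem bwdL_tmul (b : B) (ψ : Disc.Omega A B') :
    bwdL (C' := C') (C := C) halg (b ⊗ₜ[B'] ψ) = ((b, 0) : B × C) ⊗ₜ[B' × C'] extL ψ := rfl

theorem bwdR_tmul (c : C) (χ : Disc.Omega A C') :
    bwdR (B' := B') (B := B) halg (c ⊗ₜ[C'] χ) = ((0, c) : B × C) ⊗ₜ[B' × C'] extR χ := rfl

theorem fwd_bwdL (x : QFDual.omega A B' B) :
    fwd halg (bwdL (C' := C') (C := C) halg x) = (x, 0) := by
  induction x using TensorProduct.induction_on with
  | zero => rw [map_zero, map_zero]; rfl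
  | tmul b ψ =>
    rw [bwdL_tmul, fwd_tmul]
    have h1 : resL (extL (C' := C') ψ) = ψ := by
      apply Disc.Omega.ext; apply LinearMap.ext; intro y; simp [resL, extL]
    rw [h1, zero_tmul]
  | add x y hx hy =>
    rw [map_add, map_add, hx, hy]
    ext <;> simp

theorem fwd_bwdR (y : QFDual.omega A C' C) :
    fwd halg (bwdR (B' := B') (B := B) halg y) = (0, y) := by
  induction y using TensorProduct.induction_on with
  | zero => rw [map_zero, map_zero]; rfl
  | tmul c χ =>
    rw [bwdR_tmul, fwd_tmul]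
    have h1 : resR (extR (B' := B') χ) = χ := by
      apply Disc.Omega.ext; apply LinearMap.ext; intro y; simp [resR, extR]
    rw [h1, zero_tmul]
  | add x y hx hy =>
    rw [map_add, map_add, hx, hy]
    ext <;> simp

theorem bwd_fwd (z : QFDual.omega A (B' × C') (B × C)) :
    bwdL halg (fwd halg z).1 + bwdR halg (fwd halg z).2 = z := by
  induction z using TensorProduct.induction_on with
  | zero => simp
  | tmul bc φ =>
    obtain ⟨b, c⟩ := bc
    rw [fwd_tmul, bwdL_tmul, bwdR_tmul]
    have h1 : ((b, 0) : B × C) = ((1, 0) : B' × C') • ((b, c) : B × C) := by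
      rw [smul_mk halg]; ext <;> simp
    have h2 : ((0, c) : B × C) = ((0, 1) : B' × C') • ((b, c) : B × C) := by
      rw [smul_mk halg]; ext <;> simp
    rw [h1, h2, ← smul_tmul', ← smul_tmul', ← tmul_smul, ← tmul_smul, ← tmul_add, decomp]
  | add x y hx hy =>
    rw [map_add, Prod.fst_add, Prod.snd_add, map_add, map_add]
    rw [add_add_add_comm, hx, hy]

/-- S8975. -/
theorem exists_omega_prod_linearEquiv :
    ∃ e : QFDual.omega A (B' × C') (B × C) ≃ₗ[A] QFDual.omega A B' B × QFDual.omega A C' C,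
      ∀ (b : B) (c : C) (φ : Disc.Omega A (B' × C')),
        e ((b, c) ⊗ₜ[B' × C'] φ) =
          (b ⊗ₜ[B'] Disc.Omega.mk (φ.toLinearMap ∘ₗ LinearMap.inl A B' C'),
            c ⊗ₜ[C'] Disc.Omega.mk (φ.toLinearMap ∘ₗ LinearMap.inr A B' C')) := by
  let e₀ : QFDual.omega A (B' × C') (B × C) ≃+ QFDual.omega A B' B × QFDual.omega A C' C :=
    { toFun := fwd halg
      invFun := fun xy => bwdL halg xy.1 + bwdR halg xy.2
      left_inv := bwd_fwd halg
      right_inv := by
        rintro ⟨x, y⟩
        show fwd halg (bwdL halg x + bwdR halg y) = (x, y)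
        rw [map_add, fwd_bwdL, fwd_bwdR]
        ext <;> simp
      map_add' := map_add (fwd halg) }
  refine ⟨e₀.toLinearEquiv ?_, fun b c φ => rfl⟩
  intro a z
  show fwd halg (a • z) = a • fwd halg z
  induction z using TensorProduct.induction_on with
  | zero => rw [smul_zero, map_zero, smul_zero]
  | tmul bc φ =>
    obtain ⟨b, c⟩ := bc
    rw [smul_tmul', fwd_tmul]
    show ((a • ((b, c) : B × C)).1 ⊗ₜ[B'] resL φ, (a • ((b, c) : B × C)).2 ⊗ₜ[C'] resR φ) =
      a • (b ⊗ₜ[B'] resL φ, c ⊗ₜ[C'] resR φ)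
    rw [Prod.smul_mk, Prod.smul_mk, smul_tmul', smul_tmul']
  | add x y hx hy => rw [smul_add, map_add, hx, hy, map_add, smul_add]

end main

end Groth.Agent.Lib.Helper20.QFDualProd
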