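import Groth.Agent.Lib.Helper20QuotAff
import Mathlib

/-!
# Helper20: quotients by finite groups commute with flat base change
-/

set_option autoImplicit false
set_option linter.unusedSectionVars false
universe u
open CategoryTheory AlgebraicGeometry TopologicalSpace TensorProduct

namespace Groth.Agent.Lib.Helper20

open SGA1

section ringBC

variable {R A S : Type*} [CommRing R] [CommRing A] [CommRing S] [Algebra R A] [Algebra R S]
  [Module.Flat R S] {ι : Type*} [Finite ι] (σ : ι → (A →ₐ[R] A))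

/-- Invariants commute with flat base change (module form). -/
theorem invariants_baseChange_flat
    (hinj : Function.Injective (algebraMap R A))
    (hinv : ∀ a : A, (∀ i, σ i a = a) → a ∈ Set.range (algebraMap R A)) :
    Function.Injective (fun s : S => (s ⊗ₜ[R] (1 : A) : S ⊗[R] A)) ∧
      ∀ x : S ⊗[R] A, (∀ i, (σ i).toLinearMap.lTensor S x = x) →
        x ∈ Set.range (fun s : S => (s ⊗ₜ[R] (1 : A) : S ⊗[R] A)) := by
  classical
  cases nonempty_fintype ι
  let f : R →ₗ[R] A := Algebra.linearMap R A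
  let g : A →ₗ[R] (ι → A) := LinearMap.pi (fun i => (σ i).toLinearMap - LinearMap.id)
  have hex : Function.Exact f g := by
    intro a
    constructor
    · intro ha
      have h1 : ∀ i, σ i a = a := by
        intro i
        have := congrFun ha i
        simp only [g, LinearMap.pi_apply, LinearMap.sub_apply, AlgHom.toLinearMap_apply,
          LinearMap.id_coe, id_eq, Pi.zero_apply, sub_eq_zero] at this
        exact this
      obtain ⟨r, hr⟩ := hinv a h1
      exact ⟨r, hr⟩
    · rintro ⟨r, rfl⟩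
      funext i
      simp [g, f]
  have hex' := Module.Flat.lTensor_exact S hex
  have hinj' : Function.Injective (f.lTensor S) :=
    Module.Flat.lTensor_preserves_injective_linearMap f hinj
  have hf : ∀ s : S, (s ⊗ₜ[R] (1 : A) : S ⊗[R] A) = f.lTensor S (s ⊗ₜ[R] (1 : R)) := by
    intro s
    simp [f]
  refine ⟨?_, ?_⟩
  · intro s s' h
    simp only [hf] at h
    have h2 := hinj' h
    have h3 := congrArg (TensorProduct.rid R S) h2
    simpa using h3
  · intro x hx
    have hgx : g.lTensor S x = 0 := by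
      apply (TensorProduct.piRight R R S (fun _ : ι => A)).injective
      rw [map_zero]
      funext i
      have key : ∀ y : S ⊗[R] A, (TensorProduct.piRight R R S (fun _ : ι => A)) (g.lTensor S y) i =
          (σ i).toLinearMap.lTensor S y - y := by
        intro y
        induction y using TensorProduct.induction_on with
        | zero => simp
        | tmul s a =>
          simp [g, TensorProduct.tmul_sub]
        | add y z hy hz =>
          simp only [map_add, Pi.add_apply, hy, hz]
          abel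
      rw [key, hx i, sub_self]
      rfl
    obtain ⟨y, hy⟩ := (hex' x).mp hgx
    refine ⟨TensorProduct.rid R S y, ?_⟩
    change (TensorProduct.rid R S y ⊗ₜ[R] (1 : A) : S ⊗[R] A) = x
    rw [hf, ← hy]
    congr 1
    exact ((TensorProduct.rid R S).symm_apply_apply y)

end ringBC

/-- Invariants commute with flat base change, pushout form in `CommRingCat`. -/
theorem quot_of_isPushout {B₀ A₀ B' A' : CommRingCat.{u}} {φ : B₀ ⟶ A₀} {ψ : B₀ ⟶ B'}
    {inl : A₀ ⟶ A'} {inr : B' ⟶ A'} (h : IsPushout φ ψ inl inr) (hψ : ψ.hom.Flat)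
    {ι : Type*} [Finite ι] (σ : ι → (A₀ →+* A₀)) (σ' : ι → (A' →+* A'))
    (hσφ : ∀ i b, σ i (φ.hom b) = φ.hom b)
    (hσl : ∀ i a, σ' i (inl.hom a) = inl.hom (σ i a))
    (hσr : ∀ i b, σ' i (inr.hom b) = inr.hom b)
    (hinj : Function.Injective φ.hom)
    (hinv : ∀ a : A₀, (∀ i, σ i a = a) → a ∈ Set.range φ.hom) :
    Function.Injective inr.hom ∧
      ∀ x : A', (∀ i, σ' i x = x) → x ∈ Set.range inr.hom := by
  algebraize [φ.hom, ψ.hom]
  let σA : ι → (A₀ →ₐ[B₀] A₀) := fun i => { σ i with commutes' := fun b => hσφ i b }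
  have hT := (CommRingCat.isPushout_tensorProduct B₀ B' A₀).flip
  let e : A' ≅ CommRingCat.of (B' ⊗[B₀] A₀) := h.isoIsPushout _ _ hT
  have hel : ∀ a : A₀, e.hom.hom (inl.hom a) = (1 : B') ⊗ₜ[B₀] a := by
    intro a
    exact congrArg (fun f => f.hom a) (IsPushout.inl_isoIsPushout_hom _ _ h hT)
  have her : ∀ b : B', e.hom.hom (inr.hom b) = b ⊗ₜ[B₀] (1 : A₀) := by
    intro b
    exact congrArg (fun f => f.hom b) (IsPushout.inr_isoIsPushout_hom _ _ h hT)
  have hebij : Function.Bijective e.hom.hom := ConcreteCategory.bijective_of_isIso e.hom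
  -- compatibility of the endomorphisms
  have hcompat : ∀ i (x : A'), e.hom.hom (σ' i x) = (σA i).toLinearMap.lTensor B' (e.hom.hom x) := by
    intro i
    let m : (B' ⊗[B₀] A₀) →+* (B' ⊗[B₀] A₀) :=
      (Algebra.TensorProduct.map (AlgHom.id B₀ B') (σA i)).toRingHom
    have hm : ∀ y, m y = (σA i).toLinearMap.lTensor B' y := by
      intro y
      induction y using TensorProduct.induction_on with
      | zero => simp
      | tmul s a => simp [m]
      | add y z hy hz => simp only [map_add, hy, hz]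
    have heq : CommRingCat.ofHom (σ' i) ≫ e.hom = e.hom ≫ CommRingCat.ofHom m := by
      apply h.hom_ext
      · ext a
        simp only [CommRingCat.hom_comp, CommRingCat.hom_ofHom, RingHom.comp_apply]
        rw [hσl, hel, hel]
        simp [m, σA]
      · ext b
        simp only [CommRingCat.hom_comp, CommRingCat.hom_ofHom, RingHom.comp_apply]
        rw [hσr, her]
        simp [m]
    intro x
    have := congrArg (fun f => f.hom x) heq
    simp only [CommRingCat.hom_comp, CommRingCat.hom_ofHom, RingHom.comp_apply] at this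
    rw [this, hm]
  have hmain := invariants_baseChange_flat (S := B') σA hinj
    (fun a ha => hinv a (fun i => ha i))
  refine ⟨?_, ?_⟩
  · intro b b' hb
    apply hmain.1
    change b ⊗ₜ[B₀] (1 : A₀) = b' ⊗ₜ[B₀] (1 : A₀)
    rw [← her, ← her, hb]
  · intro x hx
    obtain ⟨b, hb⟩ := hmain.2 (e.hom.hom x) (fun i => by rw [← hcompat, hx i])
    refine ⟨b, ?_⟩
    apply hebij.1
    rw [her]
    exact hb


section fam2

variable {X Y : Scheme.{u}} {ι : Type u} {σ : ι → (X ⟶ X)} {p : X ⟶ Y}

/-- The quotient conditions on a basis of opens of the base imply them on all opens. -/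
theorem quotAt_of_isBasis (hσ : ∀ i, σ i ≫ p = p) (B : Set Y.Opens) (hB : Opens.IsBasis B)
    (hbasic : ∀ W ∈ B, QuotAt σ p W (p ⁻¹ᵁ W)) (U : Y.Opens) :
    QuotAt σ p U (p ⁻¹ᵁ U) := by
  have eσ : ∀ (W : Y.Opens) (i : ι), p ⁻¹ᵁ W ≤ σ i ⁻¹ᵁ (p ⁻¹ᵁ W) := by
    intro W i
    rw [← Scheme.Hom.comp_preimage, hσ i]
  -- restriction compatibilities
  have hres : ∀ (W W' : Y.Opens) (hWW' : W' ≤ W) (a : Γ(Y, W)),
      (p.app W').hom ((Y.presheaf.map (homOfLE hWW').op).hom a) =
        (X.presheaf.map (homOfLE (p.preimage_mono hWW')).op).hom ((p.app W).hom a) := by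
    intro W W' hWW' a
    exact congrArg (fun f => f.hom a) (p.naturality (homOfLE hWW').op)
  have hresσ : ∀ (W W' : Y.Opens) (hWW' : W' ≤ W) (i : ι) (t : Γ(X, p ⁻¹ᵁ W)),
      ((σ i).appLE _ _ (eσ W' i)).hom ((X.presheaf.map (homOfLE (p.preimage_mono hWW')).op).hom t) =
        (X.presheaf.map (homOfLE (p.preimage_mono hWW')).op).hom
          (((σ i).appLE _ _ (eσ W i)).hom t) := by
    intro W W' hWW' i t
    have h1 : X.presheaf.map (homOfLE (p.preimage_mono hWW')).op ≫ (σ i).appLE _ _ (eσ W' i) =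
        (σ i).appLE _ _ (eσ W i) ≫ X.presheaf.map (homOfLE (p.preimage_mono hWW')).op := by
      rw [Scheme.Hom.map_appLE, Scheme.Hom.appLE_map]
    exact congrArg (fun f => f.hom t) h1
  have happ : ∀ (W : Y.Opens) (hW : QuotAt σ p W (p ⁻¹ᵁ W)),
      Function.Injective (p.app W).hom ∧ ∀ s : Γ(X, p ⁻¹ᵁ W),
        (∀ i, ((σ i).appLE _ _ (eσ W i)).hom s = s) → s ∈ Set.range (p.app W).hom := by
    rintro W ⟨e, eσ', hinj, hrange⟩
    rw [Scheme.Hom.app_eq_appLE]
    exact ⟨hinj, hrange⟩
  -- the cover of an open by members of the basis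
  have hcoverB : ∀ U : Y.Opens, U ≤ iSup (fun j : {W : Y.Opens // W ∈ B ∧ W ≤ U} => j.1) := by
    intro U y hy
    obtain ⟨W, hWB, hyW, hWU⟩ := Opens.isBasis_iff_nbhd.mp hB hy
    exact Opens.mem_iSup.mpr ⟨⟨W, hWB, hWU⟩, hyW⟩
  -- injectivity on all opens
  have hinjAll : ∀ U : Y.Opens, Function.Injective (p.app U).hom := by
    intro U
    rw [injective_iff_map_eq_zero]
    intro s hs
    fapply Y.sheaf.eq_of_locally_eq' (fun j : {W : Y.Opens // W ∈ B ∧ W ≤ U} => j.1) U
      (fun j => homOfLE j.2.2) (hcoverB U)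
    intro j
    change (Y.presheaf.map (homOfLE j.2.2).op).hom s = (Y.presheaf.map (homOfLE j.2.2).op).hom 0
    rw [map_zero]
    apply (happ _ (hbasic j.1 j.2.1)).1
    rw [map_zero, hres U j.1 j.2.2 s, hs, map_zero]
  let J := {W : Y.Opens // W ∈ B ∧ W ≤ U}
  let V : J → Y.Opens := fun j => j.1
  have hcover : U ≤ iSup V := hcoverB U
  have hcover' : p ⁻¹ᵁ U ≤ iSup (fun j : J => p ⁻¹ᵁ V j) := by
    intro x hx
    obtain ⟨j, hj⟩ := Opens.mem_iSup.mp (hcover (show p.base x ∈ U from hx))
    exact Opens.mem_iSup.mpr ⟨j, hj⟩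
  refine ⟨le_rfl, eσ U, ?_, ?_⟩
  · rw [Scheme.Hom.appLE_eq_app]
    exact hinjAll U
  · intro t ht
    rw [Scheme.Hom.appLE_eq_app]
    have h1 : ∀ j : J, ∃ s : Γ(Y, V j), (p.app (V j)).hom s =
        (X.presheaf.map (homOfLE (p.preimage_mono j.2.2)).op).hom t := by
      intro j
      apply (happ _ (hbasic j.1 j.2.1)).2
      intro i
      rw [hresσ U (V j) j.2.2 i t, ht i]
    choose sf hsf using h1
    have hcompat : TopCat.Presheaf.IsCompatible Y.presheaf V sf := by
      intro j k
      apply hinjAll (V j ⊓ V k)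
      change (p.app (V j ⊓ V k)).hom ((Y.presheaf.map (homOfLE inf_le_left).op).hom (sf j)) =
        (p.app (V j ⊓ V k)).hom ((Y.presheaf.map (homOfLE inf_le_right).op).hom (sf k))
      rw [hres (V j) (V j ⊓ V k) inf_le_left, hres (V k) (V j ⊓ V k) inf_le_right, hsf, hsf]
      change (X.presheaf.map _ ≫ X.presheaf.map _).hom t = (X.presheaf.map _ ≫ X.presheaf.map _).hom t
      rw [← X.presheaf.map_comp, ← X.presheaf.map_comp]
      rfl
    obtain ⟨s, hs, -⟩ := Y.sheaf.existsUnique_gluing' V U (fun j => homOfLE j.2.2) hcover sf hcompat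
    refine ⟨s, ?_⟩
    fapply X.sheaf.eq_of_locally_eq' (fun j : J => p ⁻¹ᵁ V j) (p ⁻¹ᵁ U)
      (fun j => homOfLE (p.preimage_mono j.2.2)) hcover'
    intro j
    change (X.presheaf.map (homOfLE (p.preimage_mono j.2.2)).op).hom ((p.app U).hom s) =
      (X.presheaf.map (homOfLE (p.preimage_mono j.2.2)).op).hom t
    rw [← hres U (V j) j.2.2 s, ← hsf j]
    congr 1
    exact hs j

/-- The quotient conditions on all opens give `IsQuot`. -/
theorem isQuot_of_quotAt {G : Type u} [Group G] (ρ : G →* Aut X)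
    (haff : IsAffineHom p) (hinv : ∀ g : G, (ρ g).hom ≫ p = p)
    (hall : ∀ U : Y.Opens, QuotAt (fun g : G => (ρ g).hom) p U (p ⁻¹ᵁ U)) : IsQuot ρ p := by
  refine ⟨haff, hinv, fun U => ?_, fun U s => ⟨?_, ?_⟩⟩
  · obtain ⟨e, eσ, hinj, -⟩ := hall U
    rw [Scheme.Hom.appLE_eq_app] at hinj
    exact hinj
  · rintro ⟨a, rfl⟩ g
    have := appLE_invariant (σ := fun g : G => (ρ g).hom) hinv U (p ⁻¹ᵁ U) le_rfl g
      (preimage_le_of_inv ρ p hinv g U) a
    rw [Scheme.Hom.appLE_eq_app] at this
    exact this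
  · intro hs
    obtain ⟨e, eσ, -, hrange⟩ := hall U
    have := hrange s hs
    rw [Scheme.Hom.appLE_eq_app] at this
    exact this

end fam2

end Groth.Agent.Lib.Helper20
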