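import Groth.Agent.Lib.Helper20QuotRestrict
import Groth.Agent.Lib.Helper20QuotAff
import Mathlib

set_option autoImplicit false
universe u
open CategoryTheory CategoryTheory.Limits AlgebraicGeometry TopologicalSpace

namespace Groth.Agent.Lib.Helper20.QuotExists

open SGA1 Groth.Agent.Lib.Helper20

/-- Prime avoidance: a finite set of points of an open `U'` inside an affine open `U` lies in a
basic open of `U` contained in `U'`. -/
theorem exists_basicOpen_finite {X : Scheme.{u}} {U : X.Opens} (hU : IsAffineOpen U) (U' : X.Opens)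
    (S : Finset X) (hS : ∀ s ∈ S, s ∈ U') (hSU : ∀ s ∈ S, s ∈ U) (x₀ : X) :
    ∃ f : Γ(X, U), (∀ s ∈ S, s ∈ X.basicOpen f) ∧ X.basicOpen f ≤ U' := by
  classical
  let I : Ideal Γ(X, U) :=
    { carrier := {f | X.basicOpen f ≤ U'}
      add_mem' := fun {f g} hf hg => (X.basicOpen_add_le f g).trans (sup_le hf hg)
      zero_mem' := by
        change X.basicOpen (0 : Γ(X, U)) ≤ U'
        rw [Scheme.basicOpen_zero]; exact bot_le
      smul_mem' := fun c f hf => by
        change X.basicOpen (c • f) ≤ U'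
        rw [smul_eq_mul, Scheme.basicOpen_mul]
        exact inf_le_right.trans hf }
  let P : X → Ideal Γ(X, U) := fun s =>
    if hs : s ∈ U then Ideal.comap (X.presheaf.germ U s hs).hom (IsLocalRing.maximalIdeal _) else ⊤
  have hP : ∀ s (hs : s ∈ U) (f : Γ(X, U)), f ∉ P s ↔ s ∈ X.basicOpen f := by
    intro s hs f
    simp only [P, dif_pos hs, Ideal.mem_comap, IsLocalRing.mem_maximalIdeal, mem_nonunits_iff,
      not_not]
    exact (X.mem_basicOpen f s hs).symm
  have hPprime : ∀ s ∈ S, s ≠ x₀ → s ≠ x₀ → (P s).IsPrime := by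
    intro s hs _ _
    simp only [P, dif_pos (hSU s hs)]
    infer_instance
  by_contra hcon
  push Not at hcon
  have hsub : (I : Set Γ(X, U)) ⊆ ⋃ s ∈ (↑S : Set X), (P s : Set Γ(X, U)) := by
    intro f hf
    by_contra hf'
    simp only [Set.mem_iUnion, not_exists] at hf'
    refine hcon f ?_ hf
    intro s hs
    rw [← hP s (hSU s hs)]
    exact fun h => hf' s (Finset.mem_coe.mpr hs) h
  rw [Ideal.subset_union_prime x₀ x₀ hPprime] at hsub
  obtain ⟨s, hs, hIs⟩ := hsub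
  obtain ⟨f, hf1, hf2⟩ := hU.exists_basicOpen_le (V := U') ⟨s, hS s hs⟩ (hSU s hs)
  have : f ∈ P s := hIs (show f ∈ I from hf1)
  exact (hP s (hSU s hs) f).mpr hf2 this

section stable

variable {X : Scheme.{u}} {G : Type u} [Group G] (ρ : G →* Aut X)

theorem rho_apply_mul (g a : G) (y : X) : (ρ g).hom ((ρ a).hom y) = (ρ (g * a)).hom y := by
  rw [rho_mul_hom, Scheme.Hom.comp_apply]

theorem rho_apply_one (y : X) : (ρ 1).hom y = y := by
  rw [rho_one_hom]; rfl

/-- Inside a `G`-stable open `W`, a point whose orbit lies in an affine open has a `G`-stable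
affine open neighbourhood contained in `W`. -/
theorem exists_stable_affine_nhd [Finite G] (W : X.Opens) (hW : ∀ g, W ≤ (ρ g).hom ⁻¹ᵁ W) (x : X)
    (hxW : x ∈ W) (U : X.Opens) (hU : IsAffineOpen U) (hxU : ∀ g, (ρ g).hom x ∈ U) :
    ∃ V : X.Opens, IsAffineOpen V ∧ (∀ g, V ≤ (ρ g).hom ⁻¹ᵁ V) ∧ x ∈ V ∧ V ≤ W := by
  classical
  cases nonempty_fintype G
  let U' : X.Opens := ⟨{y | (∀ g, (ρ g).hom y ∈ U) ∧ y ∈ W}, by
    have h1 : {y : X | (∀ g, (ρ g).hom y ∈ U) ∧ y ∈ W} =
        (⋂ g : G, (((ρ g).hom ⁻¹ᵁ U : X.Opens) : Set X)) ∩ (W : Set X) := by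
      ext y
      simp only [Set.mem_inter_iff, Set.mem_iInter]
      rfl
    rw [h1]
    exact (isOpen_iInter_of_finite fun g => ((ρ g).hom ⁻¹ᵁ U).isOpen).inter W.isOpen⟩
  have hmemU' : ∀ y : X, y ∈ U' ↔ (∀ g, (ρ g).hom y ∈ U) ∧ y ∈ W := fun y => Iff.rfl
  have hU'U : U' ≤ U := by
    intro y hy
    have := ((hmemU' y).mp hy).1 1
    rwa [rho_apply_one] at this
  have hU'g : ∀ g, U' ≤ (ρ g).hom ⁻¹ᵁ U := fun g y hy => ((hmemU' y).mp hy).1 g
  have horb : ∀ a, (ρ a).hom x ∈ U' := by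
    intro a
    rw [hmemU']
    refine ⟨fun g => ?_, hW a hxW⟩
    rw [rho_apply_mul]
    exact hxU _
  obtain ⟨f, hf1, hf2⟩ := exists_basicOpen_finite hU U'
    (Finset.univ.image fun g : G => (ρ g).hom x)
    (fun s hs => by
      obtain ⟨g, -, rfl⟩ := Finset.mem_image.mp hs
      exact horb g)
    (fun s hs => by
      obtain ⟨g, -, rfl⟩ := Finset.mem_image.mp hs
      exact hxU g) x
  set D : X.Opens := X.basicOpen f with hD
  have hDaff : IsAffineOpen D := hU.basicOpen f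
  have hxD : ∀ g, (ρ g).hom x ∈ D := fun g =>
    hf1 _ (Finset.mem_image.mpr ⟨g, Finset.mem_univ g, rfl⟩)
  have eg : ∀ g : G, D ≤ (ρ g).hom ⁻¹ᵁ U := fun g => hf2.trans (hU'g g)
  let fg : G → Γ(X, D) := fun g => ((ρ g).hom.appLE U D (eg g)).hom f
  have hfg : ∀ g, X.basicOpen (fg g) = D ⊓ (ρ g).hom ⁻¹ᵁ D := fun g =>
    Scheme.basicOpen_appLE (ρ g).hom D U (eg g) f
  have hprod : ∀ (s : Finset G) (y : X),
      y ∈ X.basicOpen (∏ g ∈ s, fg g) ↔ y ∈ D ∧ ∀ g ∈ s, (ρ g).hom y ∈ D := by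
    intro s y
    induction s using Finset.induction_on with
    | empty => simp
    | insert a s ha ih =>
      rw [Finset.prod_insert ha, Scheme.basicOpen_mul, Opens.mem_inf, ih, hfg, Opens.mem_inf]
      constructor
      · rintro ⟨⟨h1, h2⟩, h3, h4⟩
        refine ⟨h1, fun g hg => ?_⟩
        rcases Finset.mem_insert.mp hg with rfl | hg
        · exact h2
        · exact h4 g hg
      · rintro ⟨h1, h2⟩
        exact ⟨⟨h1, h2 a (Finset.mem_insert_self a s)⟩, h1,
          fun g hg => h2 g (Finset.mem_insert_of_mem hg)⟩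
  let N : Γ(X, D) := ∏ g : G, fg g
  have hV : ∀ y : X, y ∈ X.basicOpen N ↔ ∀ g, (ρ g).hom y ∈ D := by
    intro y
    rw [hprod]
    constructor
    · rintro ⟨-, h⟩ g
      exact h g (Finset.mem_univ g)
    · intro h
      refine ⟨?_, fun g _ => h g⟩
      have := h 1
      rwa [rho_apply_one] at this
  refine ⟨X.basicOpen N, hDaff.basicOpen N, fun a y hy => ?_, ?_, ?_⟩
  · change (ρ a).hom y ∈ X.basicOpen N
    rw [hV] at hy ⊢
    intro g
    rw [rho_apply_mul]
    exact hy _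
  · rw [hV]
    exact hxD
  · intro y hy
    exact ((hmemU' y).mp (hf2 (X.basicOpen_le N hy))).2

end stable

section chart

variable {X : Scheme.{u}} {G : Type u} [Group G] (ρ : G →* Aut X)

/-- the ring of invariant sections over a `G`-stable open -/
def invRing (V : X.Opens) (hVs : ∀ g, V ≤ (ρ g).hom ⁻¹ᵁ V) : Subring Γ(X, V) where
  carrier := {a | ∀ g, ((ρ g).hom.appLE V V (hVs g)).hom a = a}
  mul_mem' := fun {a b} ha hb g => by rw [map_mul, ha g, hb g]
  one_mem' := fun g => map_one _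
  add_mem' := fun {a b} ha hb g => by rw [map_add, ha g, hb g]
  zero_mem' := fun g => map_zero _
  neg_mem' := fun {a} ha g => by rw [map_neg, ha g]

theorem mem_invRing (V : X.Opens) (hVs : ∀ g, V ≤ (ρ g).hom ⁻¹ᵁ V) (a : Γ(X, V)) :
    a ∈ invRing ρ V hVs ↔ ∀ g, ((ρ g).hom.appLE V V (hVs g)).hom a = a := Iff.rfl

/-- the chart `Spec` of the invariants -/
noncomputable abbrev chart (V : X.Opens) (hVs : ∀ g, V ≤ (ρ g).hom ⁻¹ᵁ V) : Scheme.{u} :=
  Spec (CommRingCat.of (invRing ρ V hVs))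

/-- the inclusion of the invariants -/
noncomputable def invIncl (V : X.Opens) (hVs : ∀ g, V ≤ (ρ g).hom ⁻¹ᵁ V) :
    CommRingCat.of (invRing ρ V hVs) ⟶ Γ(X, V) :=
  CommRingCat.ofHom (invRing ρ V hVs).subtype

/-- the chart quotient map -/
noncomputable def chartMap (V : X.Opens) (hVs : ∀ g, V ≤ (ρ g).hom ⁻¹ᵁ V) :
    V.toScheme ⟶ chart ρ V hVs :=
  V.toSpecΓ ≫ Spec.map (invIncl ρ V hVs)

theorem invIncl_act (V : X.Opens) (hVs : ∀ g, V ≤ (ρ g).hom ⁻¹ᵁ V) (g : G) :
    invIncl ρ V hVs ≫ (ρ g).hom.appLE V V (hVs g) = invIncl ρ V hVs := by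
  ext a
  exact a.2 g

theorem chartMap_inv (V : X.Opens) (hVs : ∀ g, V ≤ (ρ g).hom ⁻¹ᵁ V) (g : G) :
    (restrictAction ρ V hVs g).hom ≫ chartMap ρ V hVs = chartMap ρ V hVs := by
  change (ρ g).hom.resLE V V (hVs g) ≫ V.toSpecΓ ≫ Spec.map (invIncl ρ V hVs) = _
  rw [← Category.assoc, ← Scheme.Opens.toSpecΓ_SpecMap_appLE, Category.assoc, ← Spec.map_comp,
    invIncl_act]
  rfl

theorem chartMap_appTop (V : X.Opens) (hVs : ∀ g, V ≤ (ρ g).hom ⁻¹ᵁ V) :
    (chartMap ρ V hVs).appTop =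
      (Scheme.ΓSpecIso _).hom ≫ invIncl ρ V hVs ≫ V.topIso.inv := by
  unfold chartMap
  rw [Scheme.Hom.comp_appTop, Scheme.Opens.toSpecΓ_appTop, ← Category.assoc,
    Scheme.ΓSpecIso_naturality, Category.assoc]

theorem isQuot_chartMap [Finite G] (V : X.Opens) (hV : IsAffineOpen V)
    (hVs : ∀ g, V ≤ (ρ g).hom ⁻¹ᵁ V) :
    IsQuot (restrictAction ρ V hVs) (chartMap ρ V hVs) := by
  haveI : IsAffine V.toScheme := hV
  refine isQuot_of_isAffine _ inferInstance (chartMap_inv ρ V hVs) ?_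
  have e : (⊤ : V.toScheme.Opens) ≤ chartMap ρ V hVs ⁻¹ᵁ ⊤ := fun _ _ => trivial
  have eσ : ∀ g : G, (⊤ : V.toScheme.Opens) ≤ (restrictAction ρ V hVs g).hom ⁻¹ᵁ ⊤ :=
    fun _ _ _ => trivial
  refine ⟨e, eσ, ?_, ?_⟩
  · rw [appLE_top_top, chartMap_appTop]
    intro x y hxy
    simp only [CommRingCat.hom_comp, RingHom.comp_apply] at hxy
    have h1 := (ConcreteCategory.bijective_of_isIso V.topIso.inv).1 hxy
    have h2 : (Scheme.ΓSpecIso _).hom.hom x = (Scheme.ΓSpecIso _).hom.hom y := Subtype.ext h1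
    exact (ConcreteCategory.bijective_of_isIso (Scheme.ΓSpecIso _).hom).1 h2
  · intro s hs
    -- the action on global sections of `V`
    have hact : ∀ g : G, V.topIso.inv ≫ (restrictAction ρ V hVs g).hom.appTop =
        (ρ g).hom.appLE V V (hVs g) ≫ V.topIso.inv := by
      intro g
      have h1 : V.toSpecΓ.appTop ≫ (restrictAction ρ V hVs g).hom.appTop =
          (Spec.map ((ρ g).hom.appLE V V (hVs g))).appTop ≫ V.toSpecΓ.appTop := by
        rw [← Scheme.Hom.comp_appTop, ← Scheme.Hom.comp_appTop]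
        congr 1
        exact (Scheme.Opens.toSpecΓ_SpecMap_appLE (ρ g).hom V V (hVs g)).symm
      rw [Scheme.Opens.toSpecΓ_appTop] at h1
      rw [← cancel_epi (Scheme.ΓSpecIso Γ(X, V)).hom]
      simp only [Category.assoc] at h1 ⊢
      rw [h1, Scheme.ΓSpecIso_naturality_assoc]
    set a : Γ(X, V) := V.topIso.hom.hom s with ha
    have hsa : V.topIso.inv.hom a = s := by
      rw [ha]
      change (V.topIso.hom ≫ V.topIso.inv).hom s = s
      rw [Iso.hom_inv_id]; rfl
    have hainv : a ∈ invRing ρ V hVs := by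
      intro g
      apply (ConcreteCategory.bijective_of_isIso V.topIso.inv).1
      have h2 := congrArg (fun φ => φ.hom a) (hact g)
      simp only [CommRingCat.hom_comp, RingHom.comp_apply] at h2
      rw [← h2, hsa]
      have h3 := hs g
      rw [appLE_top_top] at h3
      exact h3
    refine ⟨(Scheme.ΓSpecIso _).inv.hom ⟨a, hainv⟩, ?_⟩
    rw [appLE_top_top, chartMap_appTop]
    simp only [CommRingCat.hom_comp, RingHom.comp_apply]
    have h4 : (Scheme.ΓSpecIso (CommRingCat.of (invRing ρ V hVs))).hom.hom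
        ((Scheme.ΓSpecIso (CommRingCat.of (invRing ρ V hVs))).inv.hom ⟨a, hainv⟩) = ⟨a, hainv⟩ := by
      change ((Scheme.ΓSpecIso _).inv ≫ (Scheme.ΓSpecIso _).hom).hom _ = _
      rw [Iso.inv_hom_id]; rfl
    rw [h4]
    exact hsa

end chart

end Groth.Agent.Lib.Helper20.QuotExists
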