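import Groth.Agent.Lib.Helper20QuotBC
import Mathlib

set_option autoImplicit false
universe u
open CategoryTheory CategoryTheory.Limits AlgebraicGeometry TopologicalSpace

namespace Groth.Agent.Lib.Helper20.QuotComp

open SGA1 Groth.Agent.Lib.Helper20

variable {W W₁ W₂ : Scheme.{u}} {G H : Type u} [Group G] [Group H]

/-- Two-step quotients: if `p₁` is a quotient by `G` (acting through `θ (g, 1)`), `p₂` a quotient
by `H` and `p₁` is `H`-equivariant, then `p₁ ≫ p₂` is a quotient by `G × H`. -/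
theorem isQuot_comp (θ : G × H →* Aut W) (ρ₁ : G →* Aut W)
    (hρ₁ : ∀ g, (ρ₁ g).hom = (θ (g, 1)).hom)
    (p₁ : W ⟶ W₁) (h₁ : IsQuot ρ₁ p₁) (ρ₂ : H →* Aut W₁) (p₂ : W₁ ⟶ W₂) (h₂ : IsQuot ρ₂ p₂)
    (hcompat : ∀ h, (θ (1, h)).hom ≫ p₁ = p₁ ≫ (ρ₂ h).hom) : IsQuot θ (p₁ ≫ p₂) := by
  haveI := h₁.affine
  haveI := h₂.affine
  have hθ : ∀ gh : G × H, (θ gh).hom = (θ (1, gh.2)).hom ≫ (θ (gh.1, 1)).hom := by
    rintro ⟨g, h⟩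
    have : ((g, h) : G × H) = (g, 1) * (1, h) := by simp
    conv_lhs => rw [this, map_mul]
    rfl
  have hinv : ∀ gh : G × H, (θ gh).hom ≫ p₁ ≫ p₂ = p₁ ≫ p₂ := by
    intro gh
    rw [hθ gh, Category.assoc, ← Category.assoc (θ (gh.1, 1)).hom, ← hρ₁, h₁.inv,
      ← Category.assoc, hcompat, Category.assoc, h₂.inv]
  refine ⟨inferInstance, hinv, fun U => ?_, fun U s => ⟨?_, ?_⟩⟩
  · -- injectivity
    have h3 : ((p₁ ≫ p₂).app U).hom = (p₁.app (p₂ ⁻¹ᵁ U)).hom.comp (p₂.app U).hom := rfl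
    rw [h3]
    exact (h₁.injective _).comp (h₂.injective U)
  · rintro ⟨a, rfl⟩ gh
    have := appLE_invariant (σ := fun gh : G × H => (θ gh).hom) hinv U ((p₁ ≫ p₂) ⁻¹ᵁ U) le_rfl gh
      (preimage_le_of_inv θ (p₁ ≫ p₂) hinv gh U) a
    rw [Scheme.Hom.appLE_eq_app] at this
    exact this
  · intro hs
    -- step a: invariance under `G`
    have ha : ∀ g : G, ((ρ₁ g).hom.appLE (p₁ ⁻¹ᵁ (p₂ ⁻¹ᵁ U)) (p₁ ⁻¹ᵁ (p₂ ⁻¹ᵁ U))
        (preimage_le_of_inv ρ₁ p₁ h₁.inv g (p₂ ⁻¹ᵁ U))).hom s = s := by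
      intro g
      have := hs (g, 1)
      rw [appLE_congr_hom (hρ₁ g)]
      exact this
    obtain ⟨t, ht⟩ := (h₁.range_iff (p₂ ⁻¹ᵁ U) s).mpr ha
    -- step b: invariance of `t` under `H`
    have hb : ∀ h : H, ((ρ₂ h).hom.appLE (p₂ ⁻¹ᵁ U) (p₂ ⁻¹ᵁ U)
        (preimage_le_of_inv ρ₂ p₂ h₂.inv h U)).hom t = t := by
      intro h
      apply h₁.injective (p₂ ⁻¹ᵁ U)
      rw [ht]
      have e1 : (ρ₂ h).hom.appLE (p₂ ⁻¹ᵁ U) (p₂ ⁻¹ᵁ U) (preimage_le_of_inv ρ₂ p₂ h₂.inv h U) ≫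
          p₁.app (p₂ ⁻¹ᵁ U) =
          p₁.app (p₂ ⁻¹ᵁ U) ≫ (θ (1, h)).hom.appLE (p₁ ⁻¹ᵁ (p₂ ⁻¹ᵁ U)) (p₁ ⁻¹ᵁ (p₂ ⁻¹ᵁ U))
            (preimage_le_of_inv θ (p₁ ≫ p₂) hinv (1, h) U) := by
        rw [Scheme.Hom.app_eq_appLE, Scheme.Hom.appLE_comp_appLE, Scheme.Hom.appLE_comp_appLE]
        exact (appLE_congr_hom (hcompat h) _ _ _).symm
      have e2 := congrArg (fun f => f.hom t) e1
      simp only [CommRingCat.hom_comp, RingHom.comp_apply] at e2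
      rw [e2, ht]
      exact hs (1, h)
    obtain ⟨u, hu⟩ := (h₂.range_iff U t).mpr hb
    refine ⟨u, ?_⟩
    change (p₁.app (p₂ ⁻¹ᵁ U)).hom ((p₂.app U).hom u) = s
    rw [hu, ht]

end Groth.Agent.Lib.Helper20.QuotComp
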