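import Groth.Agent.Lib.Helper20QuotFunctor
import Mathlib

set_option autoImplicit false
universe u
open CategoryTheory CategoryTheory.Limits AlgebraicGeometry TopologicalSpace

namespace Groth.Agent.Lib.Helper20.QuotExists

open SGA1 Groth.Agent.Lib.Helper20 Groth.Agent.Lib.Helper20.QuotCoset
  Groth.Agent.Lib.Helper20.QuotLocal

section points

variable {X : Scheme.{u}} {G : Type u} [Group G] (ρ : G →* Aut X)

theorem restrictAction_apply (V : X.Opens) (hVs : ∀ g, V ≤ (ρ g).hom ⁻¹ᵁ V) (g : G)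
    (y : V.toScheme) : ((restrictAction ρ V hVs g).hom y).1 = (ρ g).hom y.1 := by
  have := congrArg (fun f : V.toScheme ⟶ X => f y) (restrictAction_ι ρ V hVs g)
  simpa only [Scheme.Hom.comp_apply, Scheme.Opens.ι_apply] using this

theorem chartFunctor_map_chartMap {V V' : StableAffine ρ} (f : V ⟶ V') (y : V.1.toScheme) :
    (chartFunctor ρ).map f (chartMap ρ V.1 V.2.2 y) =
      chartMap ρ V'.1 V'.2.2 (X.homOfLE (leOfHom f) y) := by
  have := congrArg (fun φ : V.1.toScheme ⟶ chart ρ V'.1 V'.2.2 => φ y)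
    (chartMap_naturality ρ (leOfHom f) V.2.2 V'.2.2)
  simp only [Scheme.Hom.comp_apply] at this
  exact this.symm

variable [Finite G]

theorem chartMap_surjective (V : StableAffine ρ) :
    Function.Surjective (chartMap ρ V.1 V.2.2).base :=
  surjective_of_isQuot (isQuot_chartMap ρ V.1 V.2.1 V.2.2)

theorem chartMap_eq_iff (V : StableAffine ρ) (y y' : V.1.toScheme) :
    chartMap ρ V.1 V.2.2 y = chartMap ρ V.1 V.2.2 y' ↔ ∃ g : G, (ρ g).hom y.1 = y'.1 := by
  rw [show (chartMap ρ V.1 V.2.2 y = chartMap ρ V.1 V.2.2 y') ↔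
    ((chartMap ρ V.1 V.2.2).base y = (chartMap ρ V.1 V.2.2).base y') from Iff.rfl,
    fibre_iff_orbit (isQuot_chartMap ρ V.1 V.2.1 V.2.2)]
  constructor
  · rintro ⟨g, hg⟩
    refine ⟨g, ?_⟩
    rw [← restrictAction_apply ρ V.1 V.2.2 g y]
    exact congrArg Subtype.val hg
  · rintro ⟨g, hg⟩
    refine ⟨g, Subtype.ext ?_⟩
    rw [← hg]
    exact restrictAction_apply ρ V.1 V.2.2 g y

theorem exists_stableAffine_le (hX : ∀ x : X, ∃ U : X.Opens, IsAffineOpen U ∧ ∀ g, (ρ g).hom x ∈ U)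
    (W : X.Opens) (hW : ∀ g, W ≤ (ρ g).hom ⁻¹ᵁ W) (x : X) (hx : x ∈ W) :
    ∃ V : StableAffine ρ, x ∈ V.1 ∧ V.1 ≤ W := by
  obtain ⟨U, hU, hxU⟩ := hX x
  obtain ⟨V, hV, hVs, hxV, hVW⟩ := exists_stable_affine_nhd ρ W hW x hx U hU hxU
  exact ⟨⟨V, hV, hVs⟩, hxV, hVW⟩

instance chartFunctor_isLocallyDirected
    [Fact (∀ x : X, ∃ U : X.Opens, IsAffineOpen U ∧ ∀ g, (ρ g).hom x ∈ U)] :
    (chartFunctor ρ ⋙ Scheme.forget).IsLocallyDirected where
  cond {i j k} fi fj xi xj heq := by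
    have hX : ∀ x : X, ∃ U : X.Opens, IsAffineOpen U ∧ ∀ g, (ρ g).hom x ∈ U := Fact.out
    simp only [Functor.comp_obj, Scheme.forget_obj, Functor.comp_map, Scheme.forget_map,
      ConcreteCategory.hom_ofHom, TypeCat.Fun.coe_mk] at heq
    obtain ⟨ai, rfl⟩ := chartMap_surjective ρ i xi
    obtain ⟨aj, rfl⟩ := chartMap_surjective ρ j xj
    have h1 : chartMap ρ k.1 k.2.2 (X.homOfLE (leOfHom fi) ai) =
        chartMap ρ k.1 k.2.2 (X.homOfLE (leOfHom fj) aj) := by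
      rw [← chartFunctor_map_chartMap, ← chartFunctor_map_chartMap]
      exact heq
    obtain ⟨g, hg⟩ := (chartMap_eq_iff ρ k _ _).mp h1
    rw [Scheme.homOfLE_apply, Scheme.homOfLE_apply] at hg
    -- the point `a = aj` lies in `V_i ⊓ V_j`
    have hai : aj.1 ∈ i.1 := by
      rw [← hg]
      exact i.2.2 g ai.2
    have hW : ∀ g, i.1 ⊓ j.1 ≤ (ρ g).hom ⁻¹ᵁ (i.1 ⊓ j.1) := fun g x hx =>
      ⟨i.2.2 g hx.1, j.2.2 g hx.2⟩
    obtain ⟨l, hal, hlW⟩ := exists_stableAffine_le ρ hX (i.1 ⊓ j.1) hW aj.1 ⟨hai, aj.2⟩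
    have hli : l ≤ i := fun x hx => (hlW hx).1
    have hlj : l ≤ j := fun x hx => (hlW hx).2
    refine ⟨l, homOfLE hli, homOfLE hlj, chartMap ρ l.1 l.2.2 ⟨aj.1, hal⟩, ?_, ?_⟩
    · simp only [Functor.comp_obj, Scheme.forget_obj, Functor.comp_map, Scheme.forget_map,
        ConcreteCategory.hom_ofHom, TypeCat.Fun.coe_mk]
      rw [chartFunctor_map_chartMap]
      refine ((chartMap_eq_iff ρ i _ _).mpr ⟨g, ?_⟩).symm
      rw [hg, Scheme.homOfLE_apply]
    · simp only [Functor.comp_obj, Scheme.forget_obj, Functor.comp_map, Scheme.forget_map,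
        ConcreteCategory.hom_ofHom, TypeCat.Fun.coe_mk]
      rw [chartFunctor_map_chartMap]
      congr 1
      exact Subtype.ext (Scheme.homOfLE_apply _ _)

end points

end Groth.Agent.Lib.Helper20.QuotExists
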