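import Groth.Agent.Lib.Helper20QuotChart
import Groth.Agent.Lib.Helper20QuotLocal
import Mathlib

set_option autoImplicit false
universe u
open CategoryTheory CategoryTheory.Limits AlgebraicGeometry TopologicalSpace

namespace Groth.Agent.Lib.Helper20.QuotExists

open SGA1 Groth.Agent.Lib.Helper20 Groth.Agent.Lib.Helper20.QuotCoset
  Groth.Agent.Lib.Helper20.QuotLocal

section functor

variable {X : Scheme.{u}} {G : Type u} [Group G] (ρ : G →* Aut X)

/-- the index type: `G`-stable affine opens -/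
abbrev StableAffine : Type u := {V : X.Opens // IsAffineOpen V ∧ ∀ g, V ≤ (ρ g).hom ⁻¹ᵁ V}

theorem res_mem_invRing {V V' : X.Opens} (h : V ≤ V') (hVs : ∀ g, V ≤ (ρ g).hom ⁻¹ᵁ V)
    (hVs' : ∀ g, V' ≤ (ρ g).hom ⁻¹ᵁ V') (a : Γ(X, V')) (ha : a ∈ invRing ρ V' hVs') :
    (X.presheaf.map (homOfLE h).op).hom a ∈ invRing ρ V hVs := by
  intro g
  have h1 : X.presheaf.map (homOfLE h).op ≫ (ρ g).hom.appLE V V (hVs g) =
      (ρ g).hom.appLE V' V' (hVs' g) ≫ X.presheaf.map (homOfLE h).op := by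
    rw [Scheme.Hom.map_appLE, Scheme.Hom.appLE_map]
  have := hom_apply_eq h1 a
  simp only [CommRingCat.hom_comp, RingHom.comp_apply] at this
  rw [this, ha g]

/-- restriction of invariants -/
noncomputable def resInv {V V' : X.Opens} (h : V ≤ V') (hVs : ∀ g, V ≤ (ρ g).hom ⁻¹ᵁ V)
    (hVs' : ∀ g, V' ≤ (ρ g).hom ⁻¹ᵁ V') : invRing ρ V' hVs' →+* invRing ρ V hVs :=
  ((X.presheaf.map (homOfLE h).op).hom.comp (invRing ρ V' hVs').subtype).codRestrict
    (invRing ρ V hVs) (fun a => res_mem_invRing ρ h hVs hVs' a.1 a.2)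

theorem resInv_coe {V V' : X.Opens} (h : V ≤ V') (hVs : ∀ g, V ≤ (ρ g).hom ⁻¹ᵁ V)
    (hVs' : ∀ g, V' ≤ (ρ g).hom ⁻¹ᵁ V') (a : invRing ρ V' hVs') :
    ((resInv ρ h hVs hVs' a : invRing ρ V hVs) : Γ(X, V)) =
      (X.presheaf.map (homOfLE h).op).hom a.1 := rfl

/-- the diagram of charts -/
noncomputable def chartFunctor : StableAffine ρ ⥤ Scheme.{u} where
  obj V := chart ρ V.1 V.2.2
  map {V V'} f := Spec.map (CommRingCat.ofHom (resInv ρ (leOfHom f) V.2.2 V'.2.2))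
  map_id V := by
    rw [← Spec.map_id]
    congr 1
    ext a
    change (X.presheaf.map (homOfLE _).op).hom a.1 = a.1
    have : X.presheaf.map (homOfLE (le_refl V.1)).op = 𝟙 _ := X.presheaf.map_id _
    exact hom_apply_eq this a.1
  map_comp {V₁ V₂ V₃} f g := by
    rw [← Spec.map_comp]
    congr 1
    ext a
    change (X.presheaf.map (homOfLE _).op).hom a.1 =
      (X.presheaf.map (homOfLE _).op).hom ((X.presheaf.map (homOfLE _).op).hom a.1)
    have : X.presheaf.map (homOfLE (show V₁.1 ≤ V₃.1 from leOfHom (f ≫ g))).op =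
        X.presheaf.map (homOfLE (show V₂.1 ≤ V₃.1 from leOfHom g)).op ≫
          X.presheaf.map (homOfLE (show V₁.1 ≤ V₂.1 from leOfHom f)).op := by
      rw [← Functor.map_comp]
      rfl
    exact hom_apply_eq this a.1

theorem chartMap_naturality {V V' : X.Opens} (h : V ≤ V') (hVs : ∀ g, V ≤ (ρ g).hom ⁻¹ᵁ V)
    (hVs' : ∀ g, V' ≤ (ρ g).hom ⁻¹ᵁ V') :
    X.homOfLE h ≫ chartMap ρ V' hVs' =
      chartMap ρ V hVs ≫ Spec.map (CommRingCat.ofHom (resInv ρ h hVs hVs')) := by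
  unfold chartMap
  rw [← Category.assoc, ← Scheme.Opens.toSpecΓ_SpecMap_presheaf_map, Category.assoc, Category.assoc,
    ← Spec.map_comp, ← Spec.map_comp]
  rfl

theorem homOfLE_equivariant {V V' : X.Opens} (h : V ≤ V') (hVs : ∀ g, V ≤ (ρ g).hom ⁻¹ᵁ V)
    (hVs' : ∀ g, V' ≤ (ρ g).hom ⁻¹ᵁ V') (g : G) :
    (restrictAction ρ V hVs g).hom ≫ X.homOfLE h = X.homOfLE h ≫ (restrictAction ρ V' hVs' g).hom := by
  rw [← cancel_mono V'.ι, Category.assoc, Category.assoc, X.homOfLE_ι, restrictAction_ι,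
    restrictAction_ι, ← Category.assoc, X.homOfLE_ι]

instance chartFunctor_isOpenImmersion [Finite G] {V V' : StableAffine ρ} (f : V ⟶ V') :
    IsOpenImmersion ((chartFunctor ρ).map f) :=
  isOpenImmersion_of_isQuot (isQuot_chartMap ρ V'.1 V'.2.1 V'.2.2) (isQuot_chartMap ρ V.1 V.2.1 V.2.2)
    (X.homOfLE (leOfHom f)) (homOfLE_equivariant ρ (leOfHom f) V.2.2 V'.2.2) _
    (chartMap_naturality ρ (leOfHom f) V.2.2 V'.2.2).symm

end functor

end Groth.Agent.Lib.Helper20.QuotExists
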