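import Groth.Agent.Lib.Helper20QuotRestrict
import Groth.Agent.Lib.Helper20QuotCat
import Groth.Agent.Lib.Helper20QuotTop
import Groth.Agent.S5137
import Mathlib

/-!
# Helper20: base change of a group action / quotient, and the sheet lemma

* `baseChangeAction`, `bcQuot`, `isQuot_bcQuot`: base change of a finite group quotient along a flat map.
* `exists_open_isIso_of_section`: if `p : P ⟶ P'` is a quotient by `G`, `q : P' ⟶ U` and `σ : U ⟶ P`
  is an open immersion section of `p ≫ q`, then `q` is an isomorphism near the image of `σ ≫ p`.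
-/

set_option autoImplicit false
universe u
open CategoryTheory CategoryTheory.Limits AlgebraicGeometry TopologicalSpace

namespace Groth.Agent.Lib.Helper20.QuotSheet

open SGA1 Groth.Agent.Lib.Helper20

section sheet

variable {P P' U : Scheme.{u}} {G : Type u} [Group G] [Finite G]

/-- If `p : P ⟶ P'` is a quotient by `G`, `q : P' ⟶ U` and `σ : U ⟶ P` is an open immersion which
is a section of `p ≫ q`, then `q` restricts to an isomorphism from an open neighbourhood of
the image of `σ ≫ p` onto `U`. -/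
theorem exists_open_isIso_of_section (ρ : G →* Aut P) (p : P ⟶ P') (hp : IsQuot ρ p) (q : P' ⟶ U)
    (σ : U ⟶ P) [IsOpenImmersion σ] (hσ : σ ≫ p ≫ q = 𝟙 U) :
    ∃ N : P'.Opens, (∀ u : U, (σ ≫ p) u ∈ N) ∧ IsIso (N.ι ≫ q) := by
  -- the saturated open `M`
  let W : P.Opens := σ.opensRange
  have hqm := isQuotientMap_of_isQuot hp
  let Ms : Set P := p.base ⁻¹' (p.base '' (W : Set P))
  have hMs : Ms = ⋃ g : G, (ρ g).hom.base ⁻¹' (W : Set P) := by
    ext x
    simp only [Ms, Set.mem_preimage, Set.mem_image, Set.mem_iUnion]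
    constructor
    · rintro ⟨x', hx', hxx'⟩
      obtain ⟨g, hg⟩ := (fibre_iff_orbit hp x x').mp hxx'.symm
      exact ⟨g, by rw [hg]; exact hx'⟩
    · rintro ⟨g, hg⟩
      refine ⟨(ρ g).hom.base x, hg, ?_⟩
      exact ((fibre_iff_orbit hp x _).mpr ⟨g, rfl⟩).symm
  have hMsopen : IsOpen Ms := by
    rw [hMs]
    exact isOpen_iUnion fun g => ((ρ g).hom ⁻¹ᵁ W).isOpen
  let N : P'.Opens := ⟨p.base '' (W : Set P), by
    rw [← hqm.isOpen_preimage]
    exact hMsopen⟩
  have hNmem : ∀ u : U, (σ ≫ p) u ∈ N := by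
    intro u
    exact ⟨σ u, ⟨u, rfl⟩, rfl⟩
  refine ⟨N, hNmem, ?_⟩
  -- j : U ⟶ N
  have hrange : Set.range (σ ≫ p) ⊆ Set.range N.ι := by
    rintro _ ⟨u, rfl⟩
    rw [Scheme.Opens.range_ι]
    exact hNmem u
  let j : U ⟶ N.toScheme := IsOpenImmersion.lift N.ι (σ ≫ p) hrange
  have hj : j ≫ N.ι = σ ≫ p := IsOpenImmersion.lift_fac _ _ _
  have hjr : j ≫ (N.ι ≫ q) = 𝟙 U := by
    rw [← Category.assoc, hj, Category.assoc, hσ]
  -- the restricted quotient is an epimorphism
  have hepi : Epi (p ∣_ N) := epi_of_isQuot (isQuot_restrict hp N)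
  -- the key equality on `p⁻¹N`
  have hkey : (p ⁻¹ᵁ N).ι ≫ p ≫ q ≫ σ ≫ p = (p ⁻¹ᵁ N).ι ≫ p := by
    refine Scheme.hom_ext_of_forall _ _ fun x => ?_
    have hx : x.1 ∈ Ms := x.2
    rw [hMs] at hx
    obtain ⟨g, hg⟩ := Set.mem_iUnion.mp hx
    let O : (p ⁻¹ᵁ N).toScheme.Opens := (p ⁻¹ᵁ N).ι ⁻¹ᵁ ((ρ g).hom ⁻¹ᵁ W)
    refine ⟨O, hg, ?_⟩
    have hOr : Set.range (O.ι ≫ (p ⁻¹ᵁ N).ι ≫ (ρ g).hom) ⊆ Set.range σ := by
      rintro _ ⟨z, rfl⟩
      exact z.2
    let t : O.toScheme ⟶ U := IsOpenImmersion.lift σ (O.ι ≫ (p ⁻¹ᵁ N).ι ≫ (ρ g).hom) hOr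
    have ht : t ≫ σ = O.ι ≫ (p ⁻¹ᵁ N).ι ≫ (ρ g).hom := IsOpenImmersion.lift_fac _ _ _
    have h1 : O.ι ≫ (p ⁻¹ᵁ N).ι ≫ p = t ≫ σ ≫ p := by
      rw [← Category.assoc t, ht]
      simp only [Category.assoc]
      rw [hp.inv g]
    calc O.ι ≫ (p ⁻¹ᵁ N).ι ≫ p ≫ q ≫ σ ≫ p
        = (O.ι ≫ (p ⁻¹ᵁ N).ι ≫ p) ≫ q ≫ σ ≫ p := by simp only [Category.assoc]
      _ = t ≫ (σ ≫ p ≫ q) ≫ σ ≫ p := by rw [h1]; simp only [Category.assoc]
      _ = t ≫ σ ≫ p := by rw [hσ, Category.id_comp]
      _ = O.ι ≫ (p ⁻¹ᵁ N).ι ≫ p := h1.symm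
  have hrj : (N.ι ≫ q) ≫ j = 𝟙 N.toScheme := by
    rw [← cancel_mono N.ι, ← cancel_epi (p ∣_ N)]
    simp only [Category.assoc, Category.id_comp]
    rw [hj, morphismRestrict_ι_assoc, morphismRestrict_ι]
    exact hkey
  exact ⟨j, hrj, hjr⟩


end sheet

section bc

variable {X Y U : Scheme.{u}} {G : Type u} [Group G]

/-- The base change of an action over `Y` along `g : U ⟶ Y`. -/
noncomputable def baseChangeAction (ρ : G →* Aut X) (f : X ⟶ Y)
    (hρ : ∀ a, (ρ a).hom ≫ f = f) (g : U ⟶ Y) : G →* Aut (pullback f g) where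
  toFun a :=
    { hom := pullback.lift (pullback.fst f g ≫ (ρ a).hom) (pullback.snd f g)
        (by rw [Category.assoc, hρ, pullback.condition])
      inv := pullback.lift (pullback.fst f g ≫ (ρ a⁻¹).hom) (pullback.snd f g)
        (by rw [Category.assoc, hρ, pullback.condition])
      hom_inv_id := by
        apply pullback.hom_ext
        · simp only [Category.assoc, pullback.lift_fst, pullback.lift_fst_assoc, Category.id_comp]
          rw [← rho_mul_hom, inv_mul_cancel, rho_one_hom, Category.comp_id]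
        · simp only [Category.assoc, pullback.lift_snd, Category.id_comp]
      inv_hom_id := by
        apply pullback.hom_ext
        · simp only [Category.assoc, pullback.lift_fst, pullback.lift_fst_assoc, Category.id_comp]
          rw [← rho_mul_hom, mul_inv_cancel, rho_one_hom, Category.comp_id]
        · simp only [Category.assoc, pullback.lift_snd, Category.id_comp] }
  map_one' := by
    apply Iso.ext
    change pullback.lift (pullback.fst f g ≫ (ρ 1).hom) (pullback.snd f g) _ = 𝟙 _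
    apply pullback.hom_ext
    · rw [pullback.lift_fst, rho_one_hom, Category.comp_id, Category.id_comp]
    · rw [pullback.lift_snd, Category.id_comp]
  map_mul' a b := by
    apply Iso.ext
    change pullback.lift (pullback.fst f g ≫ (ρ (a * b)).hom) (pullback.snd f g) _ =
      pullback.lift (pullback.fst f g ≫ (ρ b).hom) (pullback.snd f g) _ ≫
        pullback.lift (pullback.fst f g ≫ (ρ a).hom) (pullback.snd f g) _
    apply pullback.hom_ext
    · simp only [Category.assoc, pullback.lift_fst, pullback.lift_fst_assoc]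
      rw [rho_mul_hom]
    · simp only [Category.assoc, pullback.lift_snd]

theorem baseChangeAction_fst (ρ : G →* Aut X) (f : X ⟶ Y)
    (hρ : ∀ a, (ρ a).hom ≫ f = f) (g : U ⟶ Y) (a : G) :
    (baseChangeAction ρ f hρ g a).hom ≫ pullback.fst f g = pullback.fst f g ≫ (ρ a).hom :=
  pullback.lift_fst _ _ _

theorem baseChangeAction_snd (ρ : G →* Aut X) (f : X ⟶ Y)
    (hρ : ∀ a, (ρ a).hom ≫ f = f) (g : U ⟶ Y) (a : G) :
    (baseChangeAction ρ f hρ g a).hom ≫ pullback.snd f g = pullback.snd f g :=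
  pullback.lift_snd _ _ _

/-- the base change of the quotient map -/
noncomputable def bcQuot {X' : Scheme.{u}} (f : X ⟶ Y) (p : X ⟶ X') (q : X' ⟶ Y) (hq : p ≫ q = f)
    (g : U ⟶ Y) : pullback f g ⟶ pullback q g :=
  pullback.lift (pullback.fst f g ≫ p) (pullback.snd f g)
    (by rw [Category.assoc, hq, pullback.condition])

theorem isQuot_bcQuot [Finite G] {X' : Scheme.{u}} (ρ : G →* Aut X) (f : X ⟶ Y)
    (hρ : ∀ a, (ρ a).hom ≫ f = f) (p : X ⟶ X') (hp : IsQuot ρ p) (q : X' ⟶ Y) (hq : p ≫ q = f)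
    (g : U ⟶ Y) [Flat g] :
    IsQuot (baseChangeAction ρ f hρ g) (bcQuot f p q hq g) := by
  have hbig : IsPullback (pullback.fst f g) (bcQuot f p q hq g ≫ pullback.snd q g) (p ≫ q) g := by
    have h1 : bcQuot f p q hq g ≫ pullback.snd q g = pullback.snd f g := pullback.lift_snd _ _ _
    rw [h1, hq]
    exact IsPullback.of_hasPullback f g
  have hX : IsPullback (pullback.fst f g) (bcQuot f p q hq g) p (pullback.fst q g) :=
    IsPullback.of_bot hbig (pullback.lift_fst _ _ _).symm (IsPullback.of_hasPullback q g)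
  refine Groth.Agent.S5137.result ρ p hp q g (pullback.fst q g) (pullback.snd q g)
    (IsPullback.of_hasPullback q g) (pullback.fst f g) (bcQuot f p q hq g) hX
    (baseChangeAction ρ f hρ g) (baseChangeAction_fst ρ f hρ g) (fun a => ?_)
  apply pullback.hom_ext
  · simp only [Category.assoc, bcQuot, pullback.lift_fst]
    rw [← Category.assoc, baseChangeAction_fst, Category.assoc, hp.inv]
  · simp only [Category.assoc, bcQuot, pullback.lift_snd]
    exact baseChangeAction_snd ρ f hρ g a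


end bc

end Groth.Agent.Lib.Helper20.QuotSheet
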