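import Groth.Agent.Lib.Helper20RegMero

/-!
# Existence of regular meromorphic sections from local data at a set of test points (helper20)

Generalization of `Helper20RegMero`: `P` is a set of test points such that an element of a local ring
`O_{X,y}` vanishing at all generizations of `y` in `P` is zero (`Sep P`).  Local data (`Datum P L g`) with
prescribed values `g η` at the points of `P` glue to a regular meromorphic section of `L`.
-/
set_option autoImplicit false
universe u
open CategoryTheory CategoryTheory.Limits AlgebraicGeometry TopologicalSpace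

namespace Groth.Agent.Lib.Helper20.RegMeroP

set_option linter.style.haveILetI false
open Groth.Agent.Lib.Helper20.Kmod Groth.Agent.Lib.Helper2.QCoh Groth.Agent.Lib.Helper20.InvGen
open Groth.Agent.Lib.Helper20.RegMero

variable {X : Scheme.{u}}

/-- the test points `P` separate the elements of the local rings. -/
def Sep (P : X → Prop) : Prop :=
  ∀ (y : X) (c : X.presheaf.stalk y),
    (∀ (η : X) (h : η ⤳ y), P η → X.presheaf.stalkSpecializes h c = 0) → c = 0

variable (P : X → Prop) (L : X.Modules)

/-- local data for a meromorphic section with prescribed values `g η` at the points of `P`. -/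
structure Datum (g : ∀ x : X, L.presheaf.stalk x) where
  /-- the open -/
  U : X.Opens
  /-- the generator -/
  t : Γ(L, U)
  ht : ∀ (y : X) (hy : y ∈ U), IsGen L y (L.presheaf.germ U y hy t)
  /-- numerator -/
  a : Γ(X, U)
  /-- denominator -/
  b : Γ(X, U)
  ha : a ∈ Mero.regSub X U
  hb : b ∈ Mero.regSub X U
  hab : ∀ (η : X) (hη : η ∈ U), P η →
    X.presheaf.germ U η hη a • L.presheaf.germ U η hη t = X.presheaf.germ U η hη b • g η

variable {P L}

/-- the value at `y` of the meromorphic section defined by a datum. -/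
noncomputable def Datum.val {g : ∀ x : X, L.presheaf.stalk x} (D : Datum P L g) (y : X)
    (hy : y ∈ D.U) : Mero.MStalk L y :=
  LocalizedModule.mk (L.presheaf.germ D.U y hy (D.a • D.t))
    (Mero.regGerm (⟨y, hy⟩ : D.U) ⟨D.b, D.hb⟩)

/-- the values of two data agree. -/
theorem Datum.val_eq (hsep : Sep P) {g : ∀ x : X, L.presheaf.stalk x}
    (D D' : Datum P L g) (y : X) (hy : y ∈ D.U) (hy' : y ∈ D'.U) :
    D.val y hy = D'.val y hy' := by
  unfold Datum.val
  rw [LocalizedModule.mk_eq]
  refine ⟨1, ?_⟩
  rw [one_smul, one_smul]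
  change X.presheaf.germ D'.U y hy' D'.b • L.presheaf.germ D.U y hy (D.a • D.t) =
    X.presheaf.germ D.U y hy D.b • L.presheaf.germ D'.U y hy' (D'.a • D'.t)
  rw [germ_smul, germ_smul]
  obtain ⟨u, hu⟩ := (D.ht y hy).2 (L.presheaf.germ D'.U y hy' D'.t)
  have hu' : u • L.presheaf.germ D.U y hy D.t = L.presheaf.germ D'.U y hy' D'.t := hu
  rw [← hu', smul_smul, smul_smul, smul_smul]
  congr 1
  rw [← sub_eq_zero]
  apply hsep y
  intro η h hmax
  have hη : η ∈ D.U := h.mem_open D.U.isOpen hy
  have hη' : η ∈ D'.U := h.mem_open D'.U.isOpen hy'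
  have e2 : ∀ z : Γ(X, D.U), (X.presheaf.stalkSpecializes h) (X.presheaf.germ _ y hy z) =
      X.presheaf.germ _ η hη z := fun z =>
    ConcreteCategory.congr_hom (TopCat.Presheaf.germ_stalkSpecializes X.presheaf hy h) z
  have e2' : ∀ z : Γ(X, D'.U), (X.presheaf.stalkSpecializes h) (X.presheaf.germ _ y hy' z) =
      X.presheaf.germ _ η hη' z := fun z =>
    ConcreteCategory.congr_hom (TopCat.Presheaf.germ_stalkSpecializes X.presheaf hy' h) z
  have e1 : (L.presheaf.stalkSpecializes h) (L.presheaf.germ _ y hy D.t) =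
      L.presheaf.germ _ η hη D.t :=
    ConcreteCategory.congr_hom (TopCat.Presheaf.germ_stalkSpecializes L.presheaf hy h) D.t
  have e1' : (L.presheaf.stalkSpecializes h) (L.presheaf.germ _ y hy' D'.t) =
      L.presheaf.germ _ η hη' D'.t :=
    ConcreteCategory.congr_hom (TopCat.Presheaf.germ_stalkSpecializes L.presheaf hy' h) D'.t
  have hT' : X.presheaf.stalkSpecializes h u • L.presheaf.germ _ η hη D.t =
      L.presheaf.germ _ η hη' D'.t := by
    rw [← e1, ← stalkSpecializes_smul, hu', e1']
  rw [map_sub, map_mul, map_mul, map_mul, e2, e2, e2', e2', sub_eq_zero]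
  apply (D.ht η hη).1
  change (X.presheaf.germ D'.U η hη' D'.b * X.presheaf.germ D.U η hη D.a) •
      L.presheaf.germ D.U η hη D.t =
    (X.presheaf.germ D.U η hη D.b * X.presheaf.germ D'.U η hη' D'.a *
      X.presheaf.stalkSpecializes h u) • L.presheaf.germ D.U η hη D.t
  rw [mul_smul, D.hab η hη hmax, mul_smul, mul_smul, hT', D'.hab η hη' hmax, smul_comm]

/-- data around every point glue to a regular meromorphic section. -/
theorem hasRegularMero_of_datum (hsep : Sep P) (g : ∀ x : X, L.presheaf.stalk x)
    (hD : ∀ z : X, ∃ D : Datum P L g, z ∈ D.U) : Mero.HasRegularMero L := by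
  classical
  choose D hD using hD
  let σ : ∀ x : (⊤ : X.Opens), Mero.MStalk L x.1 := fun x => (D x.1).val x.1 (hD x.1)
  have hσ : (Mero.mLoc L).pred σ := by
    intro x
    refine ⟨(D x.1).U, hD x.1, homOfLE le_top, (D x.1).a • (D x.1).t,
      ⟨(D x.1).b, (D x.1).hb⟩, fun y => ?_⟩
    exact Datum.val_eq hsep (D y.1) (D x.1) y.1 (hD y.1) y.2
  refine ⟨⟨σ, hσ⟩, ?_⟩
  intro x q hq
  change q • (D x).val x (hD x) = 0 at hq
  induction q using Localization.induction_on with
  | H cd =>
    obtain ⟨c, d⟩ := cd
    unfold Datum.val at hq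
    rw [LocalizedModule.mk_smul_mk, ← LocalizedModule.zero_mk (1 : Mero.regStalk X x),
      LocalizedModule.mk_eq] at hq
    obtain ⟨e, he⟩ := hq
    rw [smul_zero, smul_zero, one_smul, germ_smul] at he
    have he' : (e.1 * (c * X.presheaf.germ (D x).U x (hD x) (D x).a)) •
        L.presheaf.germ (D x).U x (hD x) (D x).t =
        (0 : X.presheaf.stalk x) • L.presheaf.germ (D x).U x (hD x) (D x).t := by
      rw [zero_smul, mul_smul, mul_smul]
      exact he
    have h0 := ((D x).ht x (hD x)).1 he'
    have hc : c = 0 := by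
      have h1 : c * X.presheaf.germ (D x).U x (hD x) (D x).a = 0 :=
        (mul_left_mem_nonZeroDivisors_eq_zero_iff (Mero.regStalk_le_nonZeroDivisors x e.2)).1 h0
      exact (mul_right_mem_nonZeroDivisors_eq_zero_iff ((D x).ha ⟨x, hD x⟩)).1 h1
    rw [hc, Localization.mk_zero]

end Groth.Agent.Lib.Helper20.RegMeroP
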