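import Groth.Agent.Lib.Helper20EffCartFF
import Groth.Agent.Lib.Helper20FlatAtDesc
import Groth.Agent.Lib.Helper20RelCartier
import Groth.Agent.Lib.Helper20CDivOrd2

/-! Containment of relative effective Cartier divisors from fibrewise containment over a reduced
locally Noetherian base (helper20). -/

set_option autoImplicit false
set_option linter.style.haveILetI false
universe u
open CategoryTheory AlgebraicGeometry CategoryTheory.Limits

namespace Groth.Agent.Lib.Helper20.RelCartLE
open Groth.Agent.Lib.Helper20.EffCartier Groth.Agent.Lib.Helper20.EffCartUFD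
open Groth.Agent.Lib.Helper20.FlatDesc Groth.Agent.Lib.Helper20.RelCartier
open Groth.Agent.Lib.Helper20.CDivOrd2

open Submodule in
theorem mem_span_of_flat_quotient {A B : Type*} [CommRing A] [IsReduced A] [IsNoetherianRing A]
    [CommRing B] [IsNoetherianRing B] [Algebra A B] (a b : B)
    [hflat : Module.Flat A (B ⧸ Ideal.span {b})]
    (h : ∀ q : Ideal B, q.IsPrime → q.comap (algebraMap A B) ∈ minimalPrimes A →
      ∃ s, s ∉ q ∧ s * a ∈ Ideal.span {b}) :
    a ∈ Ideal.span {b} := by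
  by_contra ha
  have ha0 : (Ideal.Quotient.mk (Ideal.span {b}) a) ≠ 0 := by
    rwa [Ne, Ideal.Quotient.eq_zero_iff_mem]
  obtain ⟨P, hP, hle⟩ := exists_le_isAssociatedPrime_of_isNoetherianRing B _ ha0
  rw [isAssociatedPrime_iff] at hP
  obtain ⟨hPp, y, hPy⟩ := hP
  have hy0 : y ≠ 0 := by
    rintro rfl
    apply hPp.ne_top
    rw [hPy]
    simp
  -- every element of the contraction is a zero divisor
  have hzd : ∀ t ∈ P.comap (algebraMap A B), t ∉ nonZeroDivisors A := by
    intro t ht hnzd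
    have h1 : (algebraMap A B t) • y = 0 := by
      have : algebraMap A B t ∈ colon (⊥ : Submodule B (B ⧸ Ideal.span {b})) {y} := hPy ▸ ht
      rwa [mem_colon_singleton, mem_bot] at this
    have h2 : t • y = 0 := by rwa [algebraMap_smul] at h1
    have h3 := Module.Flat.isSMulRegular_of_nonZeroDivisors (M := B ⧸ Ideal.span {b}) hnzd
    exact hy0 (h3 (by show t • y = t • 0; rw [h2, smul_zero]))
  have hsub : ((P.comap (algebraMap A B) : Ideal A) : Set A) ⊆
      ⋃ p ∈ ((minimalPrimes.finite_of_isNoetherianRing A).toFinset : Set (Ideal A)), (p : Set A) := by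
    intro t ht
    have h1 := hzd t ht
    rw [mem_nonZeroDivisors_iff_right] at h1
    push Not at h1
    obtain ⟨c, hc, hc0⟩ := h1
    have h2 : c ∉ nilradical A := by
      rw [nilradical_eq_zero]
      exact hc0
    rw [nilradical, ← Ideal.sInf_minimalPrimes, Ideal.mem_sInf] at h2
    push Not at h2
    obtain ⟨p, hp, hcp⟩ := h2
    have hpp : p.IsPrime := hp.1.1
    have h3 : c * t ∈ p := by rw [hc]; exact p.zero_mem
    have h4 : t ∈ p := (hpp.mem_or_mem h3).resolve_left hcp
    simp only [Set.Finite.coe_toFinset, Set.mem_iUnion, SetLike.mem_coe, exists_prop]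
    exact ⟨p, hp, h4⟩
  rw [Ideal.subset_union_prime ⊥ ⊥] at hsub
  · obtain ⟨p, hp, hle'⟩ := hsub
    rw [Set.Finite.mem_toFinset] at hp
    have hcp : (P.comap (algebraMap A B)).IsPrime := inferInstance
    have heq : P.comap (algebraMap A B) = p := by
      refine le_antisymm hle' ?_
      exact hp.2 ⟨hcp, bot_le⟩ hle'
    obtain ⟨s, hs, hsa⟩ := h P hPp (heq ▸ hp)
    apply hs
    apply hle
    rw [mem_colon_singleton, mem_bot, Algebra.smul_def, Ideal.Quotient.algebraMap_eq, ← map_mul,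
      Ideal.Quotient.eq_zero_iff_mem]
    exact hsa
  · intro p hp _ _
    rw [Set.Finite.mem_toFinset] at hp
    exact hp.1.1

/-- containment of pulled-back ideal sheaves along a flat morphism descends to stalks. -/
theorem stalk_le_of_comap_le {Y C : Scheme.{u}} (g : Y ⟶ C) [Flat g] (D D' : C.IdealSheafData)
    (h : D.comap g ≤ D'.comap g) (y : Y) (x : C) (hx : g y = x) {W : C.Opens}
    (hW : IsAffineOpen W) (hxW : x ∈ W) :
    (D.ideal ⟨W, hW⟩).map (C.presheaf.germ W x hxW).hom ≤
      (D'.ideal ⟨W, hW⟩).map (C.presheaf.germ W x hxW).hom := by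
  subst hx
  obtain ⟨_, ⟨V, hV, rfl⟩, hyV, hVW⟩ :=
    Y.isBasis_affineOpens.exists_subset_of_mem_open (show y ∈ g ⁻¹ᵁ W from hxW) (g ⁻¹ᵁ W).isOpen
  have hV : IsAffineOpen V := hV
  have hVW : V ≤ g ⁻¹ᵁ W := hVW
  have h1 := ideal_comap_eq_map g D hV hW hVW
  have h1' := ideal_comap_eq_map g D' hV hW hVW
  have hcomm : (g.stalkMap y).hom.comp (C.presheaf.germ W (g y) hxW).hom =
      (Y.presheaf.germ V y hyV).hom.comp (g.appLE W V hVW).hom := by
    rw [← CommRingCat.hom_comp, ← CommRingCat.hom_comp]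
    congr 1
    rw [Scheme.Hom.germ_stalkMap, Scheme.Hom.appLE, Category.assoc, Y.presheaf.germ_res]
  letI := (g.stalkMap y).hom.toAlgebra
  haveI : Module.Flat (C.presheaf.stalk (g y)) (Y.presheaf.stalk y) := Flat.stalkMap g y
  haveI : IsLocalHom (algebraMap (C.presheaf.stalk (g y)) (Y.presheaf.stalk y)) :=
    inferInstanceAs (IsLocalHom (g.stalkMap y).hom)
  haveI : Module.FaithfullyFlat (C.presheaf.stalk (g y)) (Y.presheaf.stalk y) :=
    Module.FaithfullyFlat.of_flat_of_isLocalHom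
  have key : ∀ E : C.IdealSheafData, ((E.ideal ⟨W, hW⟩).map (C.presheaf.germ W (g y) hxW).hom).map
      (g.stalkMap y).hom = ((E.comap g).ideal ⟨V, hV⟩).map (Y.presheaf.germ V y hyV).hom := by
    intro E
    rw [Ideal.map_map, hcomm, ← Ideal.map_map, ← ideal_comap_eq_map g E hV hW hVW]
  have h2 := Ideal.comap_map_eq_self_of_faithfullyFlat (B := Y.presheaf.stalk y)
    ((D.ideal ⟨W, hW⟩).map (C.presheaf.germ W (g y) hxW).hom)
  have h3 := Ideal.comap_map_eq_self_of_faithfullyFlat (B := Y.presheaf.stalk y)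
    ((D'.ideal ⟨W, hW⟩).map (C.presheaf.germ W (g y) hxW).hom)
  rw [← h2, ← h3]
  apply Ideal.comap_mono
  show Ideal.map (g.stalkMap y).hom _ ≤ Ideal.map (g.stalkMap y).hom _
  rw [key D, key D']
  exact Ideal.map_mono (h ⟨V, hV⟩)

/-- the inclusion of the fibre over a point with field stalk is flat. -/
theorem flat_fromSpecResidueField {T : Scheme.{u}} (t : T) (ht : IsField (T.presheaf.stalk t)) :
    Flat (T.fromSpecResidueField t) := by
  have h1 : Flat (Spec.map (T.residue t)) := by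
    rw [Flat.SpecMap_iff]
    apply RingHom.Flat.of_bijective
    refine ⟨?_, IsLocalRing.residue_surjective⟩
    rw [injective_iff_map_eq_zero]
    intro a ha
    have h2 : a ∈ IsLocalRing.maximalIdeal (T.presheaf.stalk t) :=
      (IsLocalRing.residue_eq_zero_iff a).mp ha
    rw [IsLocalRing.isField_iff_maximalIdeal_eq.mp ht] at h2
    exact h2
  delta Scheme.fromSpecResidueField
  infer_instance

/-- fibrewise containment over a point with field stalk gives containment of the stalk ideals. -/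
theorem stalk_le_of_fibre_le {C T : Scheme.{u}} (π : C ⟶ T) (D D' : C.IdealSheafData) (x : C)
    (ht : IsField (T.presheaf.stalk (π x)))
    (hfib : D.comap (pullback.fst π (T.fromSpecResidueField (π x))) ≤
      D'.comap (pullback.fst π (T.fromSpecResidueField (π x))))
    {W : C.Opens} (hW : IsAffineOpen W) (hxW : x ∈ W) :
    (D.ideal ⟨W, hW⟩).map (C.presheaf.germ W x hxW).hom ≤
      (D'.ideal ⟨W, hW⟩).map (C.presheaf.germ W x hxW).hom := by
  haveI := flat_fromSpecResidueField (π x) ht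
  obtain ⟨s⟩ : Nonempty (Spec (T.residueField (π x))) := inferInstance
  have hs : π x = (T.fromSpecResidueField (π x)) s := by
    rw [Scheme.fromSpecResidueField_apply]
  obtain ⟨y, hy, -⟩ := Scheme.Pullback.exists_preimage_pullback x s hs
  exact stalk_le_of_comap_le _ D D' hfib y x hy hW hxW

theorem flat_quotient_of_surjective {A B R' : Type*} [CommRing A] [CommRing B] [CommRing R']
    [Algebra A B] (ψ : B →+* R') (hψ : Function.Surjective ψ) (I : Ideal B)
    (hI : RingHom.ker ψ = I) (hflat : (ψ.comp (algebraMap A B)).Flat) : Module.Flat A (B ⧸ I) := by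
  subst hI
  letI := (ψ.comp (algebraMap A B)).toAlgebra
  haveI : Module.Flat A R' := hflat
  let e0 := RingHom.quotientKerEquivOfSurjective hψ
  let e : (B ⧸ RingHom.ker ψ) ≃ₗ[A] R' :=
    { e0 with
      map_smul' := by
        intro t x
        obtain ⟨x, rfl⟩ := Ideal.Quotient.mk_surjective x
        show e0 (t • Ideal.Quotient.mk _ x) = (ψ.comp (algebraMap A B)) t * e0 (Ideal.Quotient.mk _ x)
        rw [Algebra.smul_def, map_mul]
        rfl }
  exact Module.Flat.of_linearEquiv e

/-- the stalk of a reduced scheme at a point whose prime is minimal in a chart is a field. -/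
theorem isField_stalk_of_minimal {T : Scheme.{u}} [IsReduced T] {V : T.Opens} (hV : IsAffineOpen V)
    (t : T) (htV : t ∈ V) (hmin : (hV.primeIdealOf ⟨t, htV⟩).asIdeal ∈ minimalPrimes Γ(T, V)) :
    IsField (T.presheaf.stalk t) := by
  letI := T.presheaf.algebra_section_stalk ⟨t, htV⟩
  haveI := hV.isLocalization_stalk ⟨t, htV⟩
  rw [IsLocalRing.isField_iff_maximalIdeal_eq]
  have h1 := IsLocalization.AtPrime.radical_map_of_mem_minimalPrimes (T.presheaf.stalk t)
    (hV.primeIdealOf ⟨t, htV⟩).asIdeal ⊥ hmin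
  rw [Ideal.map_bot, IsLocalization.AtPrime.map_eq_maximalIdeal] at h1
  rw [← h1]
  exact nilradical_eq_zero _

theorem le_of_fibres {𝒞 T : Scheme.{u}} [IsLocallyNoetherian T] [IsReduced T] (π : 𝒞 ⟶ T)
    [LocallyOfFiniteType π] (D D' : 𝒞.IdealSheafData) (hD : BlowUp.IsEffCartierIdeal D)
    (hD' : BlowUp.IsEffCartierIdeal D') (hflat : Flat (D'.subschemeι ≫ π))
    (hfib : ∀ t : T, D.comap (pullback.fst π (T.fromSpecResidueField t)) ≤
      D'.comap (pullback.fst π (T.fromSpecResidueField t))) : D ≤ D' := by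
  haveI : IsLocallyNoetherian 𝒞 := LocallyOfFiniteType.isLocallyNoetherian π
  have key : ∀ x : 𝒞, ∃ U : 𝒞.affineOpens, x ∈ U.1 ∧ D.ideal U ≤ D'.ideal U := by
    intro x
    obtain ⟨_, ⟨V, hV, rfl⟩, hxV, -⟩ :=
      T.isBasis_affineOpens.exists_subset_of_mem_open (Set.mem_univ (π x)) isOpen_univ
    have hV : IsAffineOpen V := hV
    obtain ⟨W, hW, hxW, hWV, a, b, ha, hb, hDa, hDb⟩ := exists_common hD hD' x (π ⁻¹ᵁ V) hxV
    refine ⟨⟨W, hW⟩, hxW, ?_⟩
    rw [hDa, hDb, Ideal.span_singleton_le_iff_mem]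
    letI := (π.appLE V W hWV).hom.toAlgebra
    haveI : IsNoetherianRing Γ(T, V) := IsLocallyNoetherian.component_noetherian ⟨V, hV⟩
    haveI : IsNoetherianRing Γ(𝒞, W) := IsLocallyNoetherian.component_noetherian ⟨W, hW⟩
    haveI : Module.Flat Γ(T, V) (Γ(𝒞, W) ⧸ Ideal.span {b}) := by
      have hW' : IsAffineOpen (D'.subschemeι ⁻¹ᵁ W) := hW.preimage D'.subschemeι
      have e' : D'.subschemeι ⁻¹ᵁ W ≤ (D'.subschemeι ≫ π) ⁻¹ᵁ V := by
        intro z hz
        exact hWV hz
      have h1 := HasRingHomProperty.appLE (P := @Flat) (D'.subschemeι ≫ π) hflat ⟨V, hV⟩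
        ⟨_, hW'⟩ e'
      have h2 : (D'.subschemeι ≫ π).appLE V (D'.subschemeι ⁻¹ᵁ W) e' =
          π.appLE V W hWV ≫ D'.subschemeι.app W := by
        rw [Scheme.Hom.app_eq_appLE, Scheme.Hom.appLE_comp_appLE]
      rw [h2] at h1
      refine flat_quotient_of_surjective (A := Γ(T, V)) (D'.subschemeι.app W).hom
        (D'.subschemeι_app_surjective ⟨W, hW⟩) _ ?_ h1
      rw [D'.ker_subschemeι_app ⟨W, hW⟩, hDb]
    apply mem_span_of_flat_quotient (A := Γ(T, V)) a b
    intro q hq hqmin
    set x' : 𝒞 := hW.fromSpec ⟨q, hq⟩ with hx'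
    have hx'W : x' ∈ W := fromSpec_mem hW ⟨q, hq⟩
    have hq' : hW.primeIdealOf ⟨x', hx'W⟩ = ⟨q, hq⟩ := primeIdealOf_fromSpec hW ⟨q, hq⟩
    have hcomap := IsAffineOpen.comap_primeIdealOf_appLE V hV W hW hWV hx'W
    have hfield : IsField (T.presheaf.stalk (π x')) := by
      apply isField_stalk_of_minimal hV (π x') (hWV hx'W)
      rw [← hcomap, hq']
      exact hqmin
    have h3 := stalk_le_of_fibre_le π D D' x' hfield (hfib (π x')) hW hx'W
    rw [hDa, hDb, Ideal.map_span, Set.image_singleton] at h3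
    letI := 𝒞.presheaf.algebra_section_stalk ⟨x', hx'W⟩
    haveI := hW.isLocalization_stalk ⟨x', hx'W⟩
    have h4 : algebraMap Γ(𝒞, W) (𝒞.presheaf.stalk x') a ∈
        (Ideal.span {b}).map (algebraMap Γ(𝒞, W) (𝒞.presheaf.stalk x')) :=
      h3 (Ideal.mem_span_singleton_self _)
    rw [IsLocalization.algebraMap_mem_map_algebraMap_iff
      (hW.primeIdealOf ⟨x', hx'W⟩).asIdeal.primeCompl] at h4
    obtain ⟨s, hs, hsa⟩ := h4
    rw [hq'] at hs
    exact ⟨s, hs, hsa⟩
  choose U hxU hle using key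
  refine Scheme.IdealSheafData.le_of_iSup_eq_top U ?_ hle
  rw [eq_top_iff]
  intro x _
  exact TopologicalSpace.Opens.mem_iSup.mpr ⟨x, hxU x⟩

end Groth.Agent.Lib.Helper20.RelCartLE
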