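import Groth.Prelude.Def_Frob
import Mathlib

/-!
# Relative Frobenius: composition and base change of relatively perfect morphisms (helper20)
-/

set_option autoImplicit false

universe u

namespace Groth.Agent.Lib.Helper20.RelFrobBC

open AlgebraicGeometry CategoryTheory Limits FrobSch

variable (p : ℕ) [Fact p.Prime]

/-- the comparison map `X^(p/T) ⟶ X^(p/S)` for `X ⟶ T ⟶ S`. -/
noncomputable def twistComp {X T S : Scheme.{u}} [IsCharP S p] [IsCharP T p] (a : X ⟶ T)
    (f : T ⟶ S) : frobTwist a p ⟶ frobTwist (a ≫ f) p :=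
  pullback.map a (frob T p) (a ≫ f) (frob S p) (𝟙 X) f f (by simp) (frob_comp p f)

theorem relFrob_twistComp {X T S : Scheme.{u}} [IsCharP S p] [IsCharP T p] (a : X ⟶ T)
    (f : T ⟶ S) : relFrob a p ≫ twistComp p a f = relFrob (a ≫ f) p := by
  have : IsCharP X p := IsCharP.of_hom a p
  apply pullback.hom_ext
  · rw [Category.assoc, twistComp, pullback.lift_fst, ← Category.assoc, relFrob_fst, relFrob_fst,
      Category.comp_id]
  · rw [Category.assoc, twistComp, pullback.lift_snd, ← Category.assoc, relFrob_snd, relFrob_snd]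

/-- the map `X^(p/S) ⟶ T^(p/S)` -/
noncomputable def twistMap {X T S : Scheme.{u}} [IsCharP S p] (a : X ⟶ T)
    (f : T ⟶ S) : frobTwist (a ≫ f) p ⟶ frobTwist f p :=
  pullback.map (a ≫ f) (frob S p) f (frob S p) a (𝟙 S) (𝟙 S) (by simp) (by simp)

theorem isPullback_twistMap {X T S : Scheme.{u}} [IsCharP S p] (a : X ⟶ T) (f : T ⟶ S) :
    IsPullback (pullback.fst (a ≫ f) (frob S p)) (twistMap p a f) a
      (pullback.fst f (frob S p)) := by
  have h1 : IsPullback (pullback.fst f (frob S p)) (pullback.snd f (frob S p)) f (frob S p) :=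
    IsPullback.of_hasPullback _ _
  have h2 : IsPullback (pullback.fst (a ≫ f) (frob S p)) (pullback.snd (a ≫ f) (frob S p))
      (a ≫ f) (frob S p) := IsPullback.of_hasPullback _ _
  refine IsPullback.of_bot ?_ ?_ h1
  · have e : twistMap p a f ≫ pullback.snd f (frob S p) = pullback.snd (a ≫ f) (frob S p) := by
      rw [twistMap, pullback.lift_snd, Category.comp_id]
    rw [e]
    exact h2
  · rw [twistMap, pullback.lift_fst]

theorem isPullback_twistComp {X T S : Scheme.{u}} [IsCharP S p] [IsCharP T p] (a : X ⟶ T)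
    (f : T ⟶ S) :
    IsPullback (twistComp p a f) (pullback.snd a (frob T p)) (twistMap p a f) (relFrob f p) := by
  have h1 := isPullback_twistMap p a f
  have h2 : IsPullback (pullback.fst a (frob T p)) (pullback.snd a (frob T p)) a (frob T p) :=
    IsPullback.of_hasPullback a (frob T p)
  refine IsPullback.of_right ?_ ?_ h1
  · have e1 : twistComp p a f ≫ pullback.fst (a ≫ f) (frob S p) = pullback.fst a (frob T p) := by
      rw [twistComp, pullback.lift_fst, Category.comp_id]
    have e2 : relFrob f p ≫ pullback.fst f (frob S p) = frob T p := relFrob_fst f p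
    rw [e1, e2]
    exact h2
  · apply pullback.hom_ext
    · rw [Category.assoc, Category.assoc, twistMap, pullback.lift_fst, relFrob_fst, twistComp,
        ← Category.assoc, pullback.lift_fst, Category.comp_id, pullback.condition]
    · rw [Category.assoc, Category.assoc, twistMap, pullback.lift_snd, relFrob_snd, twistComp,
        ← Category.assoc, pullback.lift_snd, Category.comp_id]

/-- relatively perfect morphisms compose -/
theorem isIso_relFrob_comp {X T S : Scheme.{u}} [IsCharP S p] [IsCharP T p] (a : X ⟶ T)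
    (f : T ⟶ S) (ha : IsIso (relFrob a p)) (hf : IsIso (relFrob f p)) :
    IsIso (relFrob (a ≫ f) p) := by
  have h1 : IsIso (twistComp p a f) :=
    MorphismProperty.of_isPullback (P := MorphismProperty.isomorphisms Scheme.{u})
      (isPullback_twistComp p a f).flip hf
  rw [← relFrob_twistComp p a f]
  infer_instance

/-- the comparison map `(Y_T)^(p/T) ⟶ Y^(p/S)` for the base change `Y_T = Y ×_S T`. -/
noncomputable def twistBC {Y T S : Scheme.{u}} [IsCharP S p] [IsCharP T p] (r : Y ⟶ S)
    (f : T ⟶ S) : frobTwist (pullback.snd r f) p ⟶ frobTwist r p :=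
  pullback.map (pullback.snd r f) (frob T p) r (frob S p) (pullback.fst r f) f f
    pullback.condition.symm (frob_comp p f)

theorem isPullback_twistBC_snd {Y T S : Scheme.{u}} [IsCharP S p] [IsCharP T p] (r : Y ⟶ S)
    (f : T ⟶ S) :
    IsPullback (twistBC p r f) (pullback.snd (pullback.snd r f) (frob T p))
      (pullback.snd r (frob S p)) f := by
  -- outer rectangle
  have h1 : IsPullback (pullback.fst (pullback.snd r f) (frob T p))
      (pullback.snd (pullback.snd r f) (frob T p)) (pullback.snd r f) (frob T p) :=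
    IsPullback.of_hasPullback _ _
  have h2 : IsPullback (pullback.fst r f) (pullback.snd r f) r f := IsPullback.of_hasPullback _ _
  have h3 := h1.paste_horiz h2
  -- h3 : IsPullback (fst ≫ fst) snd r (frob T ≫ f)
  have h4 : IsPullback (pullback.fst r (frob S p)) (pullback.snd r (frob S p)) r (frob S p) :=
    IsPullback.of_hasPullback _ _
  refine IsPullback.of_right ?_ ?_ h4
  · have e1 : twistBC p r f ≫ pullback.fst r (frob S p) =
        pullback.fst (pullback.snd r f) (frob T p) ≫ pullback.fst r f := by
      rw [twistBC, pullback.lift_fst]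
    rw [e1, ← frob_comp p f]
    exact h3
  · rw [twistBC, pullback.lift_snd]

theorem isPullback_relFrob_baseChange {Y T S : Scheme.{u}} [IsCharP S p] [IsCharP T p]
    (r : Y ⟶ S) (f : T ⟶ S) :
    IsPullback (relFrob (pullback.snd r f) p) (pullback.fst r f) (twistBC p r f)
      (relFrob r p) := by
  have h1 := (isPullback_twistBC_snd p r f).flip
  have h2 : IsPullback (pullback.snd r f) (pullback.fst r f) f r :=
    (IsPullback.of_hasPullback r f).flip
  refine IsPullback.of_right ?_ ?_ h1
  · rw [relFrob_snd, relFrob_snd]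
    exact h2
  · have : IsCharP Y p := IsCharP.of_hom r p
    have : IsCharP (pullback r f) p := IsCharP.of_hom (pullback.snd r f) p
    apply pullback.hom_ext
    · rw [Category.assoc, Category.assoc, relFrob_fst, twistBC, pullback.lift_fst,
        ← Category.assoc, relFrob_fst, frob_comp]
    · rw [Category.assoc, Category.assoc, relFrob_snd, twistBC, pullback.lift_snd,
        ← Category.assoc, relFrob_snd, pullback.condition]

/-- relatively perfect morphisms are stable under base change -/
theorem isIso_relFrob_baseChange {Y T S : Scheme.{u}} [IsCharP S p] [IsCharP T p]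
    (r : Y ⟶ S) (f : T ⟶ S) (hr : IsIso (relFrob r p)) :
    IsIso (relFrob (pullback.snd r f) p) :=
  MorphismProperty.of_isPullback (P := MorphismProperty.isomorphisms Scheme.{u})
    (isPullback_relFrob_baseChange p r f).flip hr

theorem main_S15995 {X X' T S : Scheme.{u}}
    [IsCharP S p] [IsCharP T p] (f : T ⟶ S) (hf : IsIso (relFrob f p))
    (g : X ⟶ T) (π : X' ⟶ T) (hπ : IsIso (relFrob π p)) (c : X ⟶ X') (hc : c ≫ π = g)
    (huniv : ∀ (Y : Scheme.{u}) (q : Y ⟶ T), IsIso (relFrob q p) →
      ∀ k : X ⟶ Y, k ≫ q = g → ∃! h : X' ⟶ Y, h ≫ q = π ∧ c ≫ h = k) :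
    IsIso (relFrob (π ≫ f) p) ∧
      ∀ (Y : Scheme.{u}) (r : Y ⟶ S), IsIso (relFrob r p) →
        ∀ k : X ⟶ Y, k ≫ r = g ≫ f → ∃! h : X' ⟶ Y, h ≫ r = π ≫ f ∧ c ≫ h = k := by
  refine ⟨isIso_relFrob_comp p π f hπ hf, fun Y r hr k hk => ?_⟩
  have hq := isIso_relFrob_baseChange p r f hr
  obtain ⟨h', ⟨h1, h2⟩, huniq⟩ := huniv (pullback r f) (pullback.snd r f) hq
    (pullback.lift k g hk) (pullback.lift_snd _ _ _)
  refine ⟨h' ≫ pullback.fst r f, ⟨?_, ?_⟩, fun h₂ ⟨e1, e2⟩ => ?_⟩
  · rw [Category.assoc, pullback.condition, ← Category.assoc, h1]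
  · rw [← Category.assoc, h2, pullback.lift_fst]
  · have e3 := huniq (pullback.lift h₂ π e1) ⟨pullback.lift_snd _ _ _, by
      apply pullback.hom_ext
      · rw [Category.assoc, pullback.lift_fst, pullback.lift_fst, e2]
      · rw [Category.assoc, pullback.lift_snd, pullback.lift_snd, hc]⟩
    rw [← e3, pullback.lift_fst]

end Groth.Agent.Lib.Helper20.RelFrobBC
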