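import Mathlib
import Groth.Agent.Lib.Helper20ResFld

set_option autoImplicit false
universe u
open CategoryTheory CategoryTheory.Limits AlgebraicGeometry

namespace Groth.Agent.Lib.Helper20.ResFld

/-- symmetric version: if `κ(f x) → κ(x)` is bijective, at most one point over `(x, y)`. -/
theorem eq_of_fst_eq_of_snd_eq' {X Y S : Scheme.{u}} {f : X ⟶ S} {g : Y ⟶ S} (w w' : ↑(pullback f g))
    (h1 : pullback.fst f g w = pullback.fst f g w')
    (h2 : pullback.snd f g w = pullback.snd f g w')
    (hf : Function.Bijective (f.residueFieldMap (pullback.fst f g w'))) : w = w' := by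
  apply (pullbackSymmetry f g).hom.homeomorph.injective
  apply eq_of_fst_eq_of_snd_eq ((pullbackSymmetry f g).hom w) ((pullbackSymmetry f g).hom w')
  · rw [← Scheme.Hom.comp_apply, ← Scheme.Hom.comp_apply, pullbackSymmetry_hom_comp_fst, h2]
  · rw [← Scheme.Hom.comp_apply, ← Scheme.Hom.comp_apply, pullbackSymmetry_hom_comp_snd, h1]
  · have e3 : pullback.snd g f ((pullbackSymmetry f g).hom w') = pullback.fst f g w' := by
      rw [← Scheme.Hom.comp_apply, pullbackSymmetry_hom_comp_snd]
    rw [e3]
    exact hf

end Groth.Agent.Lib.Helper20.ResFld
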