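import Mathlib.AlgebraicGeometry.Morphisms.Separated
import Mathlib.AlgebraicGeometry.Morphisms.Etale

/-!
# Helper20: rigidity of morphisms into an unramified separated scheme

Two `Y`-morphisms from a connected scheme `T` to `X`, with `X ⟶ Y` separated with open diagonal
(e.g. unramified of finite type), which agree on a nonempty scheme mapping to `T`, are equal.
-/

set_option autoImplicit false
universe u
open CategoryTheory CategoryTheory.Limits AlgebraicGeometry

namespace Groth.Agent.Lib.Helper20

theorem eq_of_comp_eq_of_connected {T X Y : Scheme.{u}} (p : X ⟶ Y)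
    [IsOpenImmersion (pullback.diagonal p)] [IsSeparated p] [ConnectedSpace T] (u v : T ⟶ X)
    (huv : u ≫ p = v ≫ p) {S : Scheme.{u}} [Nonempty S] (ξ : S ⟶ T) (hξ : ξ ≫ u = ξ ≫ v) :
    u = v := by
  let l : T ⟶ pullback p p := pullback.lift u v huv
  let e : pullback l (pullback.diagonal p) ⟶ T := pullback.fst _ _
  have hopen : IsOpenImmersion e := inferInstance
  have hclosed : IsClosedImmersion e := inferInstance
  have hrange_clopen : IsClopen (Set.range e.base) :=
    ⟨e.isClosedEmbedding.isClosed_range, e.isOpenEmbedding.isOpen_range⟩
  have hne : (Set.range e.base).Nonempty := by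
    let ζ : S ⟶ pullback l (pullback.diagonal p) := pullback.lift ξ (ξ ≫ u) (by
      apply pullback.hom_ext
      · simp only [l, Category.assoc, pullback.lift_fst, pullback.diagonal_fst, Category.comp_id]
      · simp only [l, Category.assoc, pullback.lift_snd, pullback.diagonal_snd, Category.comp_id]
        exact hξ.symm)
    obtain ⟨s⟩ := ‹Nonempty S›
    exact ⟨e.base (ζ.base s), _, rfl⟩
  have huniv : Set.range e.base = Set.univ :=
    (isClopen_iff.mp hrange_clopen).resolve_left hne.ne_empty
  have hiso : IsIso e :=
    isIso_of_isOpenImmersion_of_opensRange_eq_top e (TopologicalSpace.Opens.ext huniv)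
  have h1 : e ≫ l = pullback.snd _ _ ≫ pullback.diagonal p := pullback.condition
  have h2 : e ≫ u = e ≫ v := by
    have ha := congrArg (· ≫ pullback.fst p p) h1
    have hb := congrArg (· ≫ pullback.snd p p) h1
    simp only [l, Category.assoc, pullback.lift_fst, pullback.lift_snd,
      pullback.diagonal_fst, pullback.diagonal_snd, Category.comp_id] at ha hb
    rw [ha, hb]
  exact (cancel_epi e).mp h2

end Groth.Agent.Lib.Helper20
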