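import Groth.Agent.Lib.Helper20SNSch

set_option autoImplicit false
set_option linter.style.haveILetI false

universe u

namespace Groth.Agent.Lib.Helper20.SNDesc

open AlgebraicGeometry CategoryTheory Limits TopologicalSpace TensorProduct
open Groth.Agent.Lib.Helper20.AWNSch Groth.Agent.Lib.Helper20.ImgUH
open Groth.Agent.Lib.Helper20.SNSch

theorem mem_range_of_tmul_eq {K L : Type u} [Field K] [CommRing L] [Algebra K L] [Nontrivial L]
    (x : L) (h : x ⊗ₜ[K] (1 : L) = (1 : L) ⊗ₜ[K] x) : x ∈ Set.range (algebraMap K L) := by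
  have hinj : LinearMap.ker (Algebra.linearMap K L) = ⊥ :=
    LinearMap.ker_eq_bot.mpr (algebraMap K L).injective
  obtain ⟨φ, hφ⟩ := LinearMap.exists_leftInverse_of_injective (Algebra.linearMap K L) hinj
  have hφ1 : φ 1 = 1 := by
    have := LinearMap.congr_fun hφ 1
    simpa using this
  let ψ : L ⊗[K] L →ₗ[K] L := (TensorProduct.lid K L).toLinearMap ∘ₗ (φ.rTensor L)
  have h1 : ψ (x ⊗ₜ[K] (1 : L)) = algebraMap K L (φ x) := by
    simp [ψ, Algebra.algebraMap_eq_smul_one]
  have h2 : ψ ((1 : L) ⊗ₜ[K] x) = x := by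
    simp [ψ, hφ1]
  exact ⟨φ x, by rw [← h1, h, h2]⟩

theorem exists_lift_field_ext {Y Z : Scheme.{u}} (τ : Y ⟶ Z) [Surjective τ] (K : Type u) [Field K]
    (b : Spec (.of K) ⟶ Z) :
    ∃ (L : Type u) (_ : Field L) (j : Spec (.of L) ⟶ Spec (.of K)) (c : Spec (.of L) ⟶ Y),
      c ≫ τ = j ≫ b := by
  have : Surjective (pullback.fst b τ) :=
    MorphismProperty.pullback_fst (P := @Surjective) b τ inferInstance
  obtain ⟨w, -⟩ := (pullback.fst b τ).surjective (IsLocalRing.closedPoint K)
  refine ⟨(pullback b τ).residueField w, inferInstance,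
    (pullback b τ).fromSpecResidueField w ≫ pullback.fst b τ,
    (pullback b τ).fromSpecResidueField w ≫ pullback.snd b τ, ?_⟩
  rw [Category.assoc, Category.assoc, pullback.condition]

theorem appTop_injective_of_field (K L : Type u) [Field K] [Field L]
    (j : Spec (.of L) ⟶ Spec (.of K)) : Function.Injective j.appTop.hom := by
  have hK : IsField Γ(Spec (CommRingCat.of K), ⊤) :=
    MulEquiv.isField (Field.toIsField K)
      (Scheme.ΓSpecIso (CommRingCat.of K)).commRingCatIsoToRingEquiv.toMulEquiv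
  have hL : Nontrivial Γ(Spec (CommRingCat.of L), ⊤) :=
    (Scheme.ΓSpecIso (CommRingCat.of L)).commRingCatIsoToRingEquiv.toEquiv.nontrivial
  rw [injective_iff_map_eq_zero]
  intro x hx
  by_contra hne
  obtain ⟨y, hy⟩ := hK.mul_inv_cancel hne
  have : j.appTop.hom 1 = 0 := by rw [← hy, map_mul, hx, zero_mul]
  rw [map_one] at this
  exact one_ne_zero this

theorem appTop_comp_apply {T U V : Scheme.{u}} (f : T ⟶ U) (g : U ⟶ V) (x : Γ(V, ⊤)) :
    (f ≫ g).appTop.hom x = f.appTop.hom (g.appTop.hom x) := by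
  rw [Scheme.Hom.comp_appTop]
  rfl

theorem main_S13113 {X Y : Scheme.{u}} (hX : HTop.IsSeminormal X)
    (π : Y ⟶ X) [IsProper π] [Surjective π] [IsReduced Y]
    (s : Γ(Y, ⊤)) (hs : (pullback.fst π π).appTop s = (pullback.snd π π).appTop s) :
    ∃! t : Γ(X, ⊤), π.appTop t = s := by
  haveI : IsReduced X := Groth.Agent.S7421.result.2 X hX
  have huniq : Function.Injective π.appTop.hom := by
    haveI : IsSchemeTheoreticallyDominant π := IsSchemeTheoreticallyDominant.of_isDominant π
    exact π.app_injective ⊤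
  have hval : ∀ {T : Scheme.{u}} (c₁ c₂ : T ⟶ Y), c₁ ≫ π = c₂ ≫ π →
      c₁.appTop.hom s = c₂.appTop.hom s := by
    intro T c₁ c₂ h
    have h1 : c₁.appTop.hom s =
        (pullback.lift c₁ c₂ h).appTop.hom ((pullback.fst π π).appTop.hom s) := by
      rw [← appTop_comp_apply, pullback.lift_fst]
    have h2 : c₂.appTop.hom s =
        (pullback.lift c₁ c₂ h).appTop.hom ((pullback.snd π π).appTop.hom s) := by
      rw [← appTop_comp_apply, pullback.lift_snd]
    rw [h1, h2]
    exact congrArg _ hs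
  -- the affine line
  let p : 𝔸(PUnit.{u+1}; X) ⟶ X := 𝔸(PUnit.{u+1}; X) ↘ X
  let γ : Y ⟶ 𝔸(PUnit.{u+1}; X) := AffineSpace.homOfVector π (fun _ => s)
  have hγ : γ ≫ p = π := AffineSpace.homOfVector_over _ _
  have hγs : γ.appTop.hom (AffineSpace.coord X PUnit.unit) = s :=
    AffineSpace.homOfVector_appTop_coord _ _ _
  haveI : QuasiCompact γ := by
    have : QuasiCompact (γ ≫ p) := by rw [hγ]; infer_instance
    exact QuasiCompact.of_comp γ p
  have e1 : γ.toImage ≫ γ.imageι ≫ p = π := by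
    rw [← Category.assoc, γ.toImage_imageι, hγ]
  have : UniversallyClosed γ := by
    have : UniversallyClosed (γ ≫ p) := by rw [hγ]; infer_instance
    exact UniversallyClosed.of_comp_of_isSeparated γ p
  have : UniversallyClosed γ.toImage := by
    have : UniversallyClosed (γ.toImage ≫ γ.imageι) := by rw [γ.toImage_imageι]; infer_instance
    exact UniversallyClosed.of_comp_of_isSeparated γ.toImage γ.imageι
  have hsurj : Surjective γ.toImage :=
    surjective_of_isDominant_of_isClosed_range _ (γ.toImage.isClosedMap.isClosed_range)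
  have : UniversallyClosed (γ.toImage ≫ γ.imageι ≫ p) := by rw [e1]; infer_instance
  have : Surjective (γ.toImage ≫ γ.imageι ≫ p) := by rw [e1]; infer_instance
  have : UniversallyClosed (γ.imageι ≫ p) := UniversallyClosed.of_comp_surjective γ.toImage _
  have : Surjective (γ.imageι ≫ p) := Surjective.of_comp γ.toImage _
  haveI : IsReduced γ.image := by
    haveI : IsSchemeTheoreticallyDominant γ.toImage := ⟨ker_toImage γ⟩
    exact IsSchemeTheoreticallyDominant.isReduced γ.toImage
  -- value of the coordinate along a point of Y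
  have hcoord : ∀ {T : Scheme.{u}} (c : T ⟶ Y),
      (c ≫ γ.toImage ≫ γ.imageι).appTop.hom (AffineSpace.coord X PUnit.unit) = c.appTop.hom s := by
    intro T c
    rw [γ.toImage_imageι, appTop_comp_apply, hγs]
  haveI hUI : UniversallyInjective (γ.imageι ≫ p) := by
    refine ((tfae_universallyInjective (γ.imageι ≫ p)).out 0 1).mpr ?_
    intro K _ b₁ b₂ hb
    have hb' : b₁ ≫ γ.imageι ≫ p = b₂ ≫ γ.imageι ≫ p := hb
    obtain ⟨L₁, _, j₁, c₁, hc₁⟩ := exists_lift_field_ext γ.toImage K b₁
    obtain ⟨L, _, j₂, c₂, hc₂⟩ := exists_lift_field_ext γ.toImage L₁ (j₁ ≫ b₂)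
    have hπ : (j₂ ≫ c₁) ≫ π = c₂ ≫ π := by
      rw [← e1, Category.assoc, reassoc_of% hc₁, reassoc_of% hc₂, hb']
    have hv := hval (j₂ ≫ c₁) c₂ hπ
    rw [← hcoord, ← hcoord, Category.assoc, reassoc_of% hc₁, reassoc_of% hc₂] at hv
    rw [← cancel_mono γ.imageι]
    apply AffineSpace.hom_ext
    · rw [Category.assoc, Category.assoc]
      exact hb'
    · rintro ⟨⟩
      apply appTop_injective_of_field K L (j₂ ≫ j₁)
      rw [← appTop_comp_apply, ← appTop_comp_apply, Category.assoc, Category.assoc]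
      exact hv
  have hFL : FieldLift (γ.imageι ≫ p) := by
    intro K _ a
    obtain ⟨L, _, j, c, hc⟩ := exists_lift_field_ext π K a
    let φ : CommRingCat.of K ⟶ CommRingCat.of L := Spec.preimage j
    have hφ : Spec.map φ = j := Spec.map_preimage j
    letI : Algebra K L := φ.hom.toAlgebra
    let i₁ : CommRingCat.of L ⟶ CommRingCat.of (L ⊗[K] L) :=
      CommRingCat.ofHom (Algebra.TensorProduct.includeLeftRingHom : L →+* L ⊗[K] L)
    let i₂ : CommRingCat.of L ⟶ CommRingCat.of (L ⊗[K] L) :=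
      CommRingCat.ofHom (Algebra.TensorProduct.includeRight : L →ₐ[K] L ⊗[K] L).toRingHom
    have hi : φ ≫ i₁ = φ ≫ i₂ := by
      ext x
      show (Algebra.TensorProduct.includeLeft : L →ₐ[K] L ⊗[K] L) (algebraMap K L x) =
        (Algebra.TensorProduct.includeRight : L →ₐ[K] L ⊗[K] L) (algebraMap K L x)
      rw [AlgHom.commutes, AlgHom.commutes]
    have he : Spec.map i₁ ≫ j = Spec.map i₂ ≫ j := by
      rw [← hφ, ← Spec.map_comp, ← Spec.map_comp, hi]
    have hv := hval (Spec.map i₁ ≫ c) (Spec.map i₂ ≫ c) (by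
      rw [Category.assoc, Category.assoc, hc, ← Category.assoc, ← Category.assoc, he])
    rw [appTop_comp_apply, appTop_comp_apply] at hv
    let lam : L := (Scheme.ΓSpecIso (CommRingCat.of L)).hom.hom (c.appTop.hom s)
    have hnat : ∀ (i : CommRingCat.of L ⟶ CommRingCat.of (L ⊗[K] L)) (x : Γ(Spec (CommRingCat.of L), ⊤)),
        (Scheme.ΓSpecIso (CommRingCat.of (L ⊗[K] L))).hom.hom ((Spec.map i).appTop.hom x) =
          i.hom ((Scheme.ΓSpecIso (CommRingCat.of L)).hom.hom x) := by
      intro i x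
      exact congrArg (fun f => f.hom x) (Scheme.ΓSpecIso_naturality i)
    have hlam : lam ⊗ₜ[K] (1 : L) = (1 : L) ⊗ₜ[K] lam := by
      have h1 := hnat i₁ (c.appTop.hom s)
      have h2 := hnat i₂ (c.appTop.hom s)
      rw [hv] at h1
      exact (h1.symm.trans h2)
    obtain ⟨μ₀, hμ₀⟩ := mem_range_of_tmul_eq lam hlam
    let μ : Γ(Spec (CommRingCat.of K), ⊤) := (Scheme.ΓSpecIso (CommRingCat.of K)).inv.hom μ₀
    have hμ : j.appTop.hom μ = c.appTop.hom s := by
      have hinj : Function.Injective (Scheme.ΓSpecIso (CommRingCat.of L)).hom.hom :=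
        (ConcreteCategory.bijective_of_isIso (Scheme.ΓSpecIso (CommRingCat.of L)).hom).1
      apply hinj
      have h1 : (Scheme.ΓSpecIso (CommRingCat.of L)).hom.hom ((Spec.map φ).appTop.hom μ) =
          φ.hom ((Scheme.ΓSpecIso (CommRingCat.of K)).hom.hom μ) :=
        congrArg (fun f => f.hom μ) (Scheme.ΓSpecIso_naturality φ)
      rw [hφ] at h1
      rw [h1]
      have h2 : (Scheme.ΓSpecIso (CommRingCat.of K)).hom.hom μ = μ₀ :=
        congrArg (fun f => f.hom μ₀) (Scheme.ΓSpecIso (CommRingCat.of K)).inv_hom_id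
      rw [h2]
      exact hμ₀
    let b' : Spec (CommRingCat.of K) ⟶ 𝔸(PUnit.{u+1}; X) := AffineSpace.homOfVector a (fun _ => μ)
    have hb'p : b' ≫ p = a := AffineSpace.homOfVector_over _ _
    have hb' : j ≫ b' = c ≫ γ := by
      apply AffineSpace.hom_ext
      · rw [Category.assoc, Category.assoc]
        show j ≫ b' ≫ p = c ≫ γ ≫ p
        rw [hb'p, hγ, hc]
      · rintro ⟨⟩
        rw [appTop_comp_apply, appTop_comp_apply, hγs]
        have : b'.appTop.hom (AffineSpace.coord X PUnit.unit) = μ :=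
          AffineSpace.homOfVector_appTop_coord _ _ _
        rw [this]
        exact hμ
    haveI : Surjective (pullback.fst b' γ.imageι) := by
      constructor
      intro x
      let l : Spec (CommRingCat.of L) ⟶ pullback b' γ.imageι :=
        pullback.lift j (c ≫ γ.toImage) (by rw [hb', Category.assoc, γ.toImage_imageι])
      refine ⟨l (IsLocalRing.closedPoint L), ?_⟩
      haveI : Subsingleton (Spec (CommRingCat.of K)) :=
        inferInstanceAs (Subsingleton (PrimeSpectrum K))
      exact Subsingleton.elim _ _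
    haveI : IsIso (pullback.fst b' γ.imageι) := isIso_of_isClosedImmersion_of_surjective _
    refine ⟨inv (pullback.fst b' γ.imageι) ≫ pullback.snd b' γ.imageι, ?_⟩
    rw [Category.assoc, ← reassoc_of% (pullback.condition (f := b') (g := γ.imageι)),
      IsIso.inv_hom_id_assoc]
    exact hb'p
  -- conclusion
  have hSN : SNMor (γ.imageι ≫ p) :=
    (snMor_iff _).mpr ⟨Groth.Agent.Lib.Helper20.EtaPt.isUnivHomeo_of _, hFL⟩
  haveI : IsIso (γ.imageι ≫ p) := isIso_of_SNMor_of_isSeminormal _ hSN hX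
  have hkey : π ≫ inv (γ.imageι ≫ p) ≫ γ.imageι = γ := by
    have : π = γ.toImage ≫ (γ.imageι ≫ p) := e1.symm
    rw [this, Category.assoc, IsIso.hom_inv_id_assoc, γ.toImage_imageι]
  refine ⟨(inv (γ.imageι ≫ p) ≫ γ.imageι).appTop.hom (AffineSpace.coord X PUnit.unit), ?_,
    fun t' ht' => huniq (ht'.trans ?_)⟩
  · show π.appTop.hom _ = s
    rw [← appTop_comp_apply, hkey, hγs]
  · show s = π.appTop.hom _
    rw [← appTop_comp_apply, hkey, hγs]

end Groth.Agent.Lib.Helper20.SNDesc
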