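import Groth.Agent.Lib.Helper20SNSch

set_option autoImplicit false
set_option linter.style.haveILetI false

universe u

namespace Groth.Agent.Lib.Helper20.SNLift

open AlgebraicGeometry CategoryTheory Limits TopologicalSpace
open Groth.Agent.Lib.Helper20.AWNSch Groth.Agent.Lib.Helper20.ImgUH
open Groth.Agent.Lib.Helper20.SNSch

theorem main_S13112 {T X Y : Scheme.{u}} (hT : HTop.IsSeminormal T)
    (f : X ⟶ Y) [UniversallyClosed f] [UniversallyInjective f]
    (g : T ⟶ Y)
    (hlift : ∀ t : T, ∃ l : Spec (T.residueField t) ⟶ X, l ≫ f = T.fromSpecResidueField t ≫ g) :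
    ∃ h : T ⟶ X, h ≫ f = g := by
  have hFL : FieldLift (pullback.fst g f) := by
    intro K _ a
    have ha := Scheme.descResidueField_stalkClosedPointTo_fromSpecResidueField K T a
    obtain ⟨l, hl⟩ := hlift (a (IsLocalRing.closedPoint K))
    refine ⟨pullback.lift a
      (Spec.map (Scheme.descResidueField (Scheme.stalkClosedPointTo a)) ≫ l) ?_, ?_⟩
    · rw [Category.assoc, hl, ← Category.assoc, ha]
    · exact pullback.lift_fst _ _ _
  have hsurj : Surjective (pullback.fst g f) := by
    constructor
    intro t
    obtain ⟨b, hb⟩ := hFL (T.residueField t) (T.fromSpecResidueField t)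
    refine ⟨b (IsLocalRing.closedPoint (T.residueField t)), ?_⟩
    have := congrArg (fun q => q (IsLocalRing.closedPoint (T.residueField t))) hb
    refine Eq.trans ?_ (this.trans ?_)
    · rfl
    · exact Scheme.fromSpecResidueField_apply t _
  haveI : UniversallyInjective (pullback.fst g f) :=
    MorphismProperty.pullback_fst (P := @UniversallyInjective) g f inferInstance
  have hUH : FlatMor.IsUnivHomeo (pullback.fst g f) := Groth.Agent.Lib.Helper20.EtaPt.isUnivHomeo_of _
  obtain ⟨s, hs⟩ := exists_section_SN (pullback.fst g f) ((snMor_iff _).mpr ⟨hUH, hFL⟩) hT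
  exact ⟨s ≫ pullback.snd g f, by
    rw [Category.assoc, ← pullback.condition, ← Category.assoc, hs, Category.id_comp]⟩

end Groth.Agent.Lib.Helper20.SNLift
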