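import Groth.Agent.Lib.Helper20SNRing

set_option autoImplicit false
set_option linter.style.haveILetI false

universe u

namespace Groth.Agent.Lib.Helper20.SNLoc

open Groth.Agent.Lib.Helper11

variable {A : Type u} [CommRing A]

theorem exists_away_aux (f t t' s x y c : A) (hf : f = t * t' * s) (B : Type u) [CommRing B]
    [Algebra A B] [IsLocalization.Away f B] (ht : t * (x * s ^ 2) = t * c ^ 2)
    (ht' : t' * (y * s ^ 3) = t' * c ^ 3) :
    ∃ b : B, algebraMap A B x = b ^ 2 ∧ algebraMap A B y = algebraMap A B 1 * b ^ 3 := by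
  have hfu : IsUnit (algebraMap A B f) := IsLocalization.Away.algebraMap_isUnit f
  have hsu : IsUnit (algebraMap A B s) := by
    rw [hf, map_mul] at hfu
    exact isUnit_of_mul_isUnit_right hfu
  have htu : IsUnit (algebraMap A B t) := by
    rw [hf, map_mul, map_mul] at hfu
    exact isUnit_of_mul_isUnit_left (isUnit_of_mul_isUnit_left hfu)
  have htu' : IsUnit (algebraMap A B t') := by
    rw [hf, map_mul, map_mul] at hfu
    exact isUnit_of_mul_isUnit_right (isUnit_of_mul_isUnit_left hfu)
  obtain ⟨us, hus⟩ := hsu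
  refine ⟨algebraMap A B c * ↑us⁻¹, ?_, ?_⟩
  · have h1 : algebraMap A B x * algebraMap A B s ^ 2 = algebraMap A B c ^ 2 := by
      apply htu.mul_left_cancel
      rw [← map_pow, ← map_pow, ← map_mul, ← map_mul, ← map_mul, ht]
    rw [mul_pow, ← h1, ← hus, mul_assoc, ← mul_pow, Units.mul_inv, one_pow, mul_one]
  · have h1 : algebraMap A B y * algebraMap A B s ^ 3 = algebraMap A B c ^ 3 := by
      apply htu'.mul_left_cancel
      rw [← map_pow, ← map_pow, ← map_mul, ← map_mul, ← map_mul, ht']
    rw [map_one, one_mul, mul_pow, ← h1, ← hus, mul_assoc, ← mul_pow, Units.mul_inv, one_pow,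
      mul_one]

/-- Local solutions at a prime spread out to a basic open neighbourhood. -/
theorem exists_away_of_atPrime (p : Ideal A) [p.IsPrime] (Ap : Type u) [CommRing Ap] [Algebra A Ap]
    [IsLocalization.AtPrime Ap p] (x y : A) (b : Ap)
    (h2 : algebraMap A Ap x = b ^ 2) (h3 : algebraMap A Ap y = b ^ 3) :
    ∃ f : A, f ∉ p ∧ ∃ c : Localization.Away f,
      algebraMap A (Localization.Away f) x = c ^ 2 ∧
      algebraMap A (Localization.Away f) y = algebraMap A (Localization.Away f) 1 * c ^ 3 := by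
  obtain ⟨c, s, rfl⟩ := IsLocalization.exists_mk'_eq p.primeCompl b
  have e2 : algebraMap A Ap (x * s ^ 2) = algebraMap A Ap (c ^ 2) := by
    rw [map_mul, h2, map_pow, map_pow, ← mul_pow, IsLocalization.mk'_spec]
  have e3 : algebraMap A Ap (y * s ^ 3) = algebraMap A Ap (c ^ 3) := by
    rw [map_mul, h3, map_pow, map_pow, ← mul_pow, IsLocalization.mk'_spec]
  obtain ⟨t, ht⟩ := (IsLocalization.eq_iff_exists p.primeCompl Ap).mp e2
  obtain ⟨t', ht'⟩ := (IsLocalization.eq_iff_exists p.primeCompl Ap).mp e3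
  refine ⟨t * t' * s, ?_, ?_⟩
  · exact (p.primeCompl.mul_mem (p.primeCompl.mul_mem t.2 t'.2) s.2)
  · exact exists_away_aux _ (t : A) (t' : A) (s : A) x y c rfl _ ht ht'

theorem isSeminormalRing_of_forall_prime
    (h : ∀ p : PrimeSpectrum A, ∃ (Ap : Type u) (_ : CommRing Ap) (_ : Algebra A Ap)
      (_ : IsLocalization.AtPrime Ap p.asIdeal), HTop.IsSeminormalRing Ap) :
    HTop.IsSeminormalRing A := by
  have hred : IsReduced A := by
    apply isReduced_ofLocalizationMaximal
    intro J hJ
    obtain ⟨Ap, _, _, _, hAp⟩ := h ⟨J, hJ.isPrime⟩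
    have : IsReduced Ap := isReduced_of_isSeminormalRing hAp
    have e := IsLocalization.algEquiv J.primeCompl Ap (Localization.AtPrime J)
    exact isReduced_of_injective e.symm.toRingHom e.symm.injective
  refine isSeminormalRing_iff.mpr ⟨hred, fun x y hxy => ?_⟩
  -- the set of good denominators
  let S : Set A := {f | ∃ c : Localization.Away f,
      algebraMap A (Localization.Away f) x = c ^ 2 ∧
      algebraMap A (Localization.Away f) y = algebraMap A (Localization.Away f) 1 * c ^ 3}
  have hS : Ideal.span S = ⊤ := by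
    by_contra hne
    obtain ⟨m, hm, hle⟩ := Ideal.exists_le_maximal _ hne
    obtain ⟨Ap, _, _, _, hAp⟩ := h ⟨m, hm.isPrime⟩
    obtain ⟨b, ⟨hb2, hb3⟩, -⟩ := hAp (algebraMap A Ap x) (algebraMap A Ap y)
      (by rw [← map_pow, ← map_pow, hxy])
    obtain ⟨f, hf, hfS⟩ := exists_away_of_atPrime m Ap x y b hb2 hb3
    exact hf (hle (Ideal.subset_span hfS))
  obtain ⟨s, hsS, hs⟩ := (Ideal.span_eq_top_iff_finite S).mp hS
  have key := exists_of_span s hs (fun f => Localization.Away f) (fun f _ => inferInstance) 1 2 (1 : A)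
    (fun a b h2 h3 => eq_of_sq_eq_of_cube_eq h2 (by simpa using h3)) x y
    (fun f hf => hsS hf)
  obtain ⟨a, ha2, ha3⟩ := key
  exact ⟨a, ha2, by simpa using ha3⟩

end Groth.Agent.Lib.Helper20.SNLoc
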