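import Groth.Agent.Lib.Helper20SNSch
import Groth.Agent.Lib.Helper20SNLoc
import Groth.Agent.S15941
import Groth.Prelude.Def_Pi1

set_option autoImplicit false
set_option linter.style.haveILetI false

universe u

namespace Groth.Agent.Lib.Helper20.SNMain

open AlgebraicGeometry CategoryTheory Limits TopologicalSpace
open Groth.Agent.Lib.Helper20.AWNSch Groth.Agent.Lib.Helper20.ImgUH
open Groth.Agent.Lib.Helper20.SNSch Groth.Agent.Lib.Helper20.SNLoc

variable {X Y : Scheme.{u}}

theorem isSeminormal_of_isOpenImmersion (j : Y ⟶ X) [IsOpenImmersion j]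
    (hX : HTop.IsSeminormal X) : HTop.IsSeminormal Y := by
  rw [(Groth.Agent.S7420.result Y).1]
  have hX' := (Groth.Agent.S7420.result X).1.mp hX
  intro U
  have hU : IsAffineOpen (j ''ᵁ U.1) := U.2.image_of_isOpenImmersion j
  exact isSeminormalRing_of_ringEquiv (j.appIso U.1).commRingCatIsoToRingEquiv (hX' ⟨_, hU⟩)

theorem isSeminormal_of_isNormalScheme (hn : Pi1.IsNormalScheme X) : HTop.IsSeminormal X := by
  rw [(Groth.Agent.S7420.result X).1]
  intro U
  apply isSeminormalRing_of_forall_prime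
  intro p
  have hy : U.2.fromSpec p ∈ U.1 := by
    have : U.2.fromSpec p ∈ Set.range U.2.fromSpec := ⟨p, rfl⟩
    rw [U.2.range_fromSpec] at this
    exact this
  obtain ⟨hd, hic⟩ := hn (U.2.fromSpec p)
  exact ⟨X.presheaf.stalk (U.2.fromSpec p), inferInstance,
    TopCat.Presheaf.algebra_section_stalk X.presheaf ⟨_, hy⟩, U.2.isLocalization_stalk' p hy,
    @Groth.Agent.S15941.result _ _ hd hic⟩

theorem main_S15940 {X' X : Scheme.{u}} (ν : X' ⟶ X)
    (hν : HTop.IsSeminormalization ν) (hX : HTop.IsSeminormal X) : IsIso ν := by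
  obtain ⟨s, hs⟩ := exists_section_SN ν hν.1 hX
  obtain ⟨h, -, hu⟩ := hν.2 X' ν hν.1.1 hν.1.2
  have h1 : ν ≫ s = h := hu _ (by show (ν ≫ s) ≫ ν = ν; rw [Category.assoc, hs, Category.comp_id])
  have h2 : 𝟙 X' = h := hu _ (Category.id_comp _)
  exact ⟨s, h1.trans h2.symm, hs⟩

theorem main_S15961 {X' X : Scheme.{u}} (ν : X' ⟶ X)
    (hν : HTop.IsSeminormalization ν) (hX' : HTop.IsSeminormal X') (U : X.Opens) :
    HTop.IsSeminormalization (ν ∣_ U) :=
  isSeminormalization_of_isSeminormal _ (SNMor.restrict hν.1 U)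
    (isSeminormal_of_isOpenImmersion (ν ⁻¹ᵁ U).ι hX')

theorem main_S15962 {S Sn X' : Scheme.{u}} (π : Sn ⟶ S) (hn : Pi1.IsNormalScheme Sn)
    (ν : X' ⟶ S) (hν : HTop.IsSeminormalization ν) :
    ∃ g : Sn ⟶ X', g ≫ ν = π := by
  have hSn : HTop.IsSeminormal Sn := isSeminormal_of_isNormalScheme hn
  obtain ⟨s, hs⟩ := exists_section_SN (pullback.fst π ν)
    (SNMor.of_isPullback (IsPullback.of_hasPullback π ν) hν.1) hSn
  exact ⟨s ≫ pullback.snd π ν, by
    rw [Category.assoc, ← pullback.condition, ← Category.assoc, hs, Category.id_comp]⟩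

theorem finite_of_comp_injective {A B C : CommRingCat.{u}} [IsNoetherianRing A] (φ : A ⟶ B)
    (ψ : B ⟶ C) (h : (φ ≫ ψ).hom.Finite) (hψ : Function.Injective ψ.hom) : φ.hom.Finite := by
  algebraize [φ.hom, ψ.hom, (φ ≫ ψ).hom]
  have : IsScalarTower A B C := IsScalarTower.of_algebraMap_eq' rfl
  have hfin : Module.Finite A C := h
  have : IsNoetherian A C := isNoetherian_of_isNoetherianRing_of_finite A C
  show Module.Finite A B
  exact Module.Finite.of_injective (IsScalarTower.toAlgHom A B C).toLinearMap hψ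

theorem surjective_of_birational {S Sn : Scheme.{u}} (π : Sn ⟶ S) [IsIntegralHom π]
    (hbir : ∃ U : S.Opens, Dense (U : Set S) ∧ Dense ((π ⁻¹ᵁ U : Sn.Opens) : Set Sn) ∧
      IsIso (π ∣_ U)) : Function.Surjective π := by
  obtain ⟨U, hU, -, hiso⟩ := hbir
  have hcl : IsClosed (Set.range π) := π.isClosedMap.isClosed_range
  have hsub : (U : Set S) ⊆ Set.range π := by
    intro u hu
    obtain ⟨v, hv⟩ := (ConcreteCategory.bijective_of_isIso (π ∣_ U).base).2 ⟨u, hu⟩
    refine ⟨v.1, ?_⟩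
    have h1 := congrArg (fun f => f v) (morphismRestrict_ι π U)
    simp only [Scheme.Hom.comp_apply] at h1
    rw [hv] at h1
    exact h1.symm
  have : Set.range π = Set.univ := by
    apply Set.eq_univ_of_univ_subset
    rw [← hU.closure_eq]
    exact hcl.closure_subset_iff.mpr hsub
  exact Set.range_eq_univ.mp this

theorem main_S15963 {S Sn X' : Scheme.{u}} [IsNoetherian S] [IsReduced S]
    (π : Sn ⟶ S) [IsIntegralHom π]
    (hbir : ∃ U : S.Opens, Dense (U : Set S) ∧ Dense ((π ⁻¹ᵁ U : Sn.Opens) : Set Sn) ∧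
      IsIso (π ∣_ U))
    (ν : X' ⟶ S) (hν : HTop.IsSeminormalization ν) (hX' : HTop.IsSeminormal X')
    (g : Sn ⟶ X') (hg : g ≫ ν = π) :
    (IsSchemeTheoreticallyDominant ν ∧ IsSchemeTheoreticallyDominant g) ∧
      (IsFinite π → IsFinite ν ∧ IsFinite g) := by
  haveI := isAffineHom_of_isUnivHomeo ν hν.1.1
  haveI : Surjective ν := surjective_of_isUnivHomeo ν hν.1.1
  haveI : IsReduced X' := Groth.Agent.S7421.result.2 X' hX'
  have hνinj : Function.Injective ν := (isHomeomorph_of_isUnivHomeo ν hν.1.1).injective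
  have hπs := surjective_of_birational π hbir
  haveI : Surjective g := by
    constructor
    intro x'
    obtain ⟨s, hs⟩ := hπs (ν x')
    refine ⟨s, hνinj ?_⟩
    rw [← hs, ← hg]
    rfl
  have hν1 : IsSchemeTheoreticallyDominant ν := IsSchemeTheoreticallyDominant.of_isDominant ν
  have hg1 : IsSchemeTheoreticallyDominant g := IsSchemeTheoreticallyDominant.of_isDominant g
  refine ⟨⟨hν1, hg1⟩, fun hfin => ?_⟩
  subst hg
  haveI hgfin : IsFinite g := IsFinite.of_comp g ν
  refine ⟨?_, hgfin⟩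
  rw [isFinite_iff]
  refine ⟨inferInstance, fun U hU => ?_⟩
  have h1 : ((g ≫ ν).app U).hom.Finite := (g ≫ ν).finite_app U hU
  have h2 : (g ≫ ν).app U = ν.app U ≫ g.app (ν ⁻¹ᵁ U) := Scheme.Hom.comp_app g ν U
  have h3 : Function.Injective (g.app (ν ⁻¹ᵁ U)).hom := g.app_injective _
  have hN : IsNoetherianRing Γ(S, U) := IsLocallyNoetherian.component_noetherian ⟨U, hU⟩
  rw [h2] at h1
  exact finite_of_comp_injective _ _ h1 h3

end Groth.Agent.Lib.Helper20.SNMain
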