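import Groth.Agent.Lib.Helper20AWNSchA
import Groth.Agent.Lib.Helper20SNRing

set_option autoImplicit false
set_option linter.style.haveILetI false

universe u

namespace Groth.Agent.Lib.Helper20.SNSch

open AlgebraicGeometry CategoryTheory Limits TopologicalSpace
open Groth.Agent.Lib.Helper20.AWNSch Groth.Agent.Lib.Helper20.ImgUH
open Groth.Agent.Lib.Helper20.AWN Groth.Agent.Lib.Helper20.AWNFun Groth.Agent.Lib.Helper20.SNRing
open Groth.Agent.Lib.Helper20.EtaPt

variable {X Y Z W : Scheme.{u}}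

/-- Field-valued points lift along `f`. -/
def FieldLift (f : Y ⟶ X) : Prop :=
  ∀ (K : Type u) [Field K] (a : Spec (.of K) ⟶ X), ∃ b : Spec (.of K) ⟶ Y, b ≫ f = a

theorem fieldLift_of_residueFieldsIso (f : Y ⟶ X) (hs : Function.Surjective f)
    (h : HTop.ResidueFieldsIso f) : FieldLift f := by
  intro K _ a
  obtain ⟨y, hy⟩ := hs (a (IsLocalRing.closedPoint K))
  have := h y
  have ha := Scheme.descResidueField_stalkClosedPointTo_fromSpecResidueField K X a
  refine ⟨Spec.map (inv (f.residueFieldMap y) ≫ (X.residueFieldCongr hy).hom ≫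
    Scheme.descResidueField (Scheme.stalkClosedPointTo a)) ≫ Y.fromSpecResidueField y, ?_⟩
  rw [Category.assoc, ← Scheme.Hom.SpecMap_residueFieldMap_fromSpecResidueField, ← Category.assoc,
    ← Spec.map_comp, ← Category.assoc, IsIso.hom_inv_id, Category.id_comp, Spec.map_comp,
    Category.assoc, Scheme.residueFieldCongr_fromSpecResidueField, ha]

theorem isIso_congr {C : Type*} [Category C] {A B : C} {f g : A ⟶ B} (h : f = g) (hg : IsIso g) :
    IsIso f := h ▸ hg

theorem isIso_residueFieldMap_of_lift (f : Y ⟶ X) (K : Type u) [Field K] (x : X)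
    (φ : X.residueField x ⟶ .of K) [IsIso φ] (b : Spec (.of K) ⟶ Y)
    (hb : b ≫ f = Spec.map φ ≫ X.fromSpecResidueField x) :
    IsIso (f.residueFieldMap (b (IsLocalRing.closedPoint K))) := by
  have h1 : (Scheme.SpecToEquivOfField K X) (b ≫ f) = ⟨x, φ⟩ := by
    rw [hb]
    exact (Scheme.SpecToEquivOfField K X).apply_symm_apply ⟨x, φ⟩
  rw [Scheme.SpecToEquivOfField_eq_iff] at h1
  obtain ⟨e, he⟩ := h1
  have h3 := Scheme.descResidueField_stalkClosedPointTo_comp f b
  have h2 : IsIso (Scheme.Hom.residueFieldMap f (b (IsLocalRing.closedPoint K)) ≫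
      Scheme.descResidueField (Scheme.stalkClosedPointTo b)) := by
    rw [← h3]
    exact isIso_congr he IsIso.comp_isIso
  -- field argument
  have hbij := (ConcreteCategory.isIso_iff_bijective _).mp h2
  have hsurj : Function.Surjective (Scheme.descResidueField (Scheme.stalkClosedPointTo b)).hom := by
    intro z
    obtain ⟨w, hw⟩ := hbij.2 z
    exact ⟨(f.residueFieldMap (b (IsLocalRing.closedPoint K))).hom w, hw⟩
  have hinj : Function.Injective (Scheme.descResidueField (Scheme.stalkClosedPointTo b)).hom :=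
    RingHom.injective _
  have h4 : IsIso (Scheme.descResidueField (Scheme.stalkClosedPointTo b)) :=
    (ConcreteCategory.isIso_iff_bijective _).mpr ⟨hinj, hsurj⟩
  exact IsIso.of_isIso_comp_right _ (Scheme.descResidueField (Scheme.stalkClosedPointTo b))

theorem residueFieldsIso_of_fieldLift (f : Y ⟶ X) (hinj : Function.Injective f)
    (h : FieldLift f) : HTop.ResidueFieldsIso f := by
  intro y
  obtain ⟨b, hb⟩ := h (X.residueField (f y))
    (Spec.map (𝟙 (X.residueField (f y))) ≫ X.fromSpecResidueField (f y))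
  have h1 := isIso_residueFieldMap_of_lift f (X.residueField (f y)) (f y) (𝟙 _) b hb
  have hpt : b (IsLocalRing.closedPoint (X.residueField (f y))) = y := by
    apply hinj
    have := congrArg (fun g => g (IsLocalRing.closedPoint (X.residueField (f y)))) hb
    refine Eq.trans ?_ (this.trans ?_)
    · rfl
    · simp
  rw [hpt] at h1
  exact h1

theorem FieldLift.comp {f : Z ⟶ Y} {g : Y ⟶ X} (hf : FieldLift f) (hg : FieldLift g) :
    FieldLift (f ≫ g) := by
  intro K _ a
  obtain ⟨b, hb⟩ := hg K a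
  obtain ⟨c, hc⟩ := hf K b
  exact ⟨c, by rw [← Category.assoc, hc, hb]⟩

theorem FieldLift.of_isIso (f : Y ⟶ X) [IsIso f] : FieldLift f := by
  intro K _ a
  exact ⟨a ≫ inv f, by simp⟩

theorem FieldLift.of_isPullback {P : Scheme.{u}} {fst : P ⟶ X} {snd : P ⟶ Y} {f : X ⟶ Z}
    {g : Y ⟶ Z} (h : IsPullback fst snd f g) (hg : FieldLift g) : FieldLift fst := by
  intro K _ a
  obtain ⟨b, hb⟩ := hg K (a ≫ f)
  exact ⟨h.lift a b hb.symm, h.lift_fst _ _ _⟩

/-- Universal homeomorphisms inducing isomorphisms on all residue fields. -/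
def SNMor (f : Y ⟶ X) : Prop := FlatMor.IsUnivHomeo f ∧ HTop.ResidueFieldsIso f

theorem snMor_iff (f : Y ⟶ X) : SNMor f ↔ FlatMor.IsUnivHomeo f ∧ FieldLift f := by
  constructor
  · rintro ⟨h1, h2⟩
    exact ⟨h1, fieldLift_of_residueFieldsIso f (isHomeomorph_of_isUnivHomeo f h1).surjective h2⟩
  · rintro ⟨h1, h2⟩
    exact ⟨h1, residueFieldsIso_of_fieldLift f (isHomeomorph_of_isUnivHomeo f h1).injective h2⟩

theorem SNMor.of_isPullback {P : Scheme.{u}} {fst : P ⟶ X} {snd : P ⟶ Y} {f : X ⟶ Z}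
    {g : Y ⟶ Z} (h : IsPullback fst snd f g) (hg : SNMor g) : SNMor fst := by
  rw [snMor_iff] at hg ⊢
  exact ⟨isUnivHomeo_of_isPullback h hg.1, FieldLift.of_isPullback h hg.2⟩

theorem SNMor.comp {f : Z ⟶ Y} {g : Y ⟶ X} (hf : SNMor f) (hg : SNMor g) : SNMor (f ≫ g) := by
  rw [snMor_iff] at hf hg ⊢
  exact ⟨isUnivHomeo_comp f g hf.1 hg.1, hf.2.comp hg.2⟩

theorem SNMor.of_isIso (f : Y ⟶ X) [IsIso f] : SNMor f :=
  (snMor_iff f).mpr ⟨isUnivHomeo_of_isIso f, FieldLift.of_isIso f⟩

theorem SNMor.restrict {f : Y ⟶ X} (hf : SNMor f) (U : X.Opens) : SNMor (f ∣_ U) :=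
  SNMor.of_isPullback (isPullback_morphismRestrict f U) hf

theorem SNMor.specMap_appTop [IsAffine Y] [IsAffine X] {f : Y ⟶ X} (hf : SNMor f) :
    SNMor (Spec.map f.appTop) := by
  have : Spec.map f.appTop = Y.isoSpec.inv ≫ f ≫ X.isoSpec.hom := by
    rw [← Scheme.isoSpec_hom_naturality, Iso.inv_hom_id_assoc]
  rw [this]
  exact (SNMor.of_isIso _).comp (hf.comp (SNMor.of_isIso _))

/-- The reduced induced closed subscheme on the whole space. -/
theorem exists_reduced_SN (P : Scheme.{u}) :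
    ∃ (R : Scheme.{u}) (i : R ⟶ P), IsReduced R ∧ SNMor i := by
  refine ⟨(Scheme.IdealSheafData.vanishingIdeal (⊤ : Closeds P)).subscheme,
    (Scheme.IdealSheafData.vanishingIdeal (⊤ : Closeds P)).subschemeι,
    Groth.Agent.Lib.Helper10.RedInd.isReduced_subscheme_vanishingIdeal ⊤, ?_, ?_⟩
  · have : Surjective (Scheme.IdealSheafData.vanishingIdeal (⊤ : Closeds P)).subschemeι := by
      constructor
      rw [← Set.range_eq_univ, Scheme.IdealSheafData.range_subschemeι,
        Scheme.IdealSheafData.coe_support_vanishingIdeal]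
      rfl
    exact Groth.Agent.Lib.Helper20.EtaPt.isUnivHomeo_of _
  · intro r
    set i := (Scheme.IdealSheafData.vanishingIdeal (⊤ : Closeds P)).subschemeι
    rw [ConcreteCategory.isIso_iff_bijective]
    refine ⟨RingHom.injective _, ?_⟩
    have h1 := Scheme.residue_residueFieldMap i r
    intro z
    obtain ⟨w, hw⟩ := Scheme.residue_surjective _ r z
    obtain ⟨v, hv⟩ := i.stalkMap_surjective r w
    refine ⟨P.residue (i r) v, ?_⟩
    have := congrArg (fun g => g.hom v) h1
    simp only [CommRingCat.hom_comp, RingHom.comp_apply] at this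
    rw [this, hv, hw]

theorem resSurj_of_residueFieldsIso {A B : Type u} [CommRing A] [CommRing B] (φ : A →+* B)
    (h : HTop.ResidueFieldsIso (Spec.map (CommRingCat.ofHom φ))) : ResSurj φ :=
  fun Q => ((isIso_residueFieldMap_iff (CommRingCat.ofHom φ) Q).mp (h Q)).2

theorem isSeminormalRing_of_ringEquiv {A B : Type u} [CommRing A] [CommRing B] (e : A ≃+* B)
    (hA : HTop.IsSeminormalRing A) : HTop.IsSeminormalRing B := by
  intro x y hxy
  obtain ⟨a, ⟨ha2, ha3⟩, hau⟩ := hA (e.symm x) (e.symm y) (by rw [← map_pow, ← map_pow, hxy])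
  refine ⟨e a, ⟨?_, ?_⟩, ?_⟩
  · rw [← map_pow, ← ha2, e.apply_symm_apply]
  · rw [← map_pow, ← ha3, e.apply_symm_apply]
  · rintro b ⟨hb2, hb3⟩
    have := hau (e.symm b) ⟨by rw [← map_pow, ← hb2], by rw [← map_pow, ← hb3]⟩
    rw [← this, e.apply_symm_apply]

theorem isIso_of_isAffine_SN [IsAffine Z] [IsAffine W] (g : Z ⟶ W) (hg : SNMor g)
    [IsReduced Z] (hW : HTop.IsSeminormalRing Γ(W, ⊤)) : IsIso g := by
  have h1 := hg.specMap_appTop
  have h2 : UH g.appTop.hom := (isUnivHomeo_iff_UH _).mp h1.1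
  have h2' : ResSurj g.appTop.hom := resSurj_of_residueFieldsIso _ h1.2
  have h3 := bijective_of_UH_of_isSeminormalRing g.appTop.hom h2 h2' hW
  have h4 : IsIso g.appTop := (ConcreteCategory.isIso_iff_bijective _).mpr h3
  have h5 : IsIso (Spec.map g.appTop) := inferInstance
  exact (MorphismProperty.arrow_mk_iso_iff (MorphismProperty.isomorphisms Scheme)
    (arrowIsoSpecΓOfIsAffine g)).mpr h5

/-- (K) A universal homeomorphism with trivial residue field extensions from a reduced scheme to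
a seminormal scheme is an isomorphism. -/
theorem isIso_of_SNMor_of_isSeminormal (q : Z ⟶ W) (hq : SNMor q) [IsReduced Z]
    (hW : HTop.IsSeminormal W) : IsIso q := by
  have := isAffineHom_of_isUnivHomeo q hq.1
  have hW' := (Groth.Agent.S7420.result W).1.mp hW
  change MorphismProperty.isomorphisms Scheme q
  rw [IsZariskiLocalAtTarget.iff_of_iSup_eq_top (P := MorphismProperty.isomorphisms Scheme)
    (fun U : W.affineOpens => U.1) (iSup_affineOpens_eq_top W)]
  intro U
  have h1 : IsAffine (U.1 : Scheme) := U.2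
  have h2 : IsAffine (q ⁻¹ᵁ U.1 : Scheme) := U.2.preimage q
  refine isIso_of_isAffine_SN (q ∣_ U.1) (hq.restrict U.1) ?_
  exact isSeminormalRing_of_ringEquiv (U.1.topIso).symm.commRingCatIsoToRingEquiv (hW' U)

theorem exists_section_SN (q : Z ⟶ W) (hq : SNMor q) (hW : HTop.IsSeminormal W) :
    ∃ s : W ⟶ Z, s ≫ q = 𝟙 W := by
  obtain ⟨R, i, hR, hi⟩ := exists_reduced_SN Z
  have : IsIso (i ≫ q) := isIso_of_SNMor_of_isSeminormal _ (hi.comp hq) hW
  exact ⟨inv (i ≫ q) ≫ i, by rw [Category.assoc, IsIso.inv_hom_id]⟩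

/-- (G) A universal homeomorphism with trivial residue field extensions and seminormal source
is a seminormalization. -/
theorem isSeminormalization_of_isSeminormal {X' : Scheme.{u}} (ν : X' ⟶ X) (hν : SNMor ν)
    (hX' : HTop.IsSeminormal X') : HTop.IsSeminormalization ν := by
  refine ⟨hν, fun Y π hπ hπ' => ?_⟩
  haveI : IsReduced X' := Groth.Agent.S7421.result.2 X' hX'
  obtain ⟨s, hs⟩ := exists_section_SN (pullback.fst ν π)
    (SNMor.of_isPullback (IsPullback.of_hasPullback ν π) ⟨hπ, hπ'⟩) hX'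
  refine ⟨s ≫ pullback.snd ν π, ?_, fun h' hh' => hom_ext_of_isUnivHomeo π hπ _ _ ?_⟩
  · show (s ≫ pullback.snd ν π) ≫ π = ν
    rw [Category.assoc, ← pullback.condition, ← Category.assoc, hs, Category.id_comp]
  · rw [hh', Category.assoc, ← pullback.condition, ← Category.assoc, hs, Category.id_comp]

end Groth.Agent.Lib.Helper20.SNSch
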