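import Mathlib
import Groth.Prelude.Def_Pi1
import Groth.Agent.Lib.Helper20NormalSec

/-!
# Flat base change of sections and fibrations (helper20)

* `isIso_app_baseChange`: if `f : X ⟶ Y` over an affine `S` has `f.app V` iso for an affine open `V`
  with qcqs preimage, then for flat `t : T ⟶ S` (T affine) the base change `f_T` has
  `f_T.app (pr₁⁻¹ V)` iso.
* `isNormalScheme_baseChange`: if `O_Y → f_* O_X` is an isomorphism, `X_T` is normal and locally
  Noetherian, then `Y_T` is normal (for `t` flat and affine).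
-/

set_option autoImplicit false
universe u

namespace Groth.Agent.Lib.Helper20SecBC
open CategoryTheory CategoryTheory.Limits AlgebraicGeometry
open Groth.Agent.Lib.Helper20NormalSec

theorem appLE_congr_hom {X Y : Scheme.{u}} {f g : X ⟶ Y} (e : f = g) (U : Y.Opens) (V : X.Opens)
    (h : V ≤ f ⁻¹ᵁ U) : f.appLE U V h = g.appLE U V (e ▸ h) := by subst e; rfl

theorem isIso_app_baseChange {S T X Y : Scheme.{u}} (sX : X ⟶ S) (sY : Y ⟶ S) (t : T ⟶ S) [Flat t]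
    (f : X ⟶ Y) (hf : f ≫ sY = sX) [IsAffine S] [IsAffine T]
    (fK : pullback sX t ⟶ pullback sY t)
    (hfst : fK ≫ pullback.fst sY t = pullback.fst sX t ≫ f)
    (hsnd : fK ≫ pullback.snd sY t = pullback.snd sX t)
    (V : Y.Opens) (hV : IsAffineOpen V) (hc : IsCompact (X := X) (f ⁻¹ᵁ V))
    (hqs : IsQuasiSeparated (α := X) (f ⁻¹ᵁ V)) [IsIso (f.app V)] :
    IsIso (fK.app (pullback.fst sY t ⁻¹ᵁ V)) := by
  have HY : IsPullback (pullback.fst sY t) (pullback.snd sY t) sY t := IsPullback.of_hasPullback _ _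
  have HX : IsPullback (pullback.fst sX t) (pullback.snd sX t) sX t := IsPullback.of_hasPullback _ _
  have hUST : (⊤ : T.Opens) ≤ t ⁻¹ᵁ ⊤ := le_top
  have hUSY : V ≤ sY ⁻¹ᵁ ⊤ := le_top
  have hUSX : f ⁻¹ᵁ V ≤ sX ⁻¹ᵁ ⊤ := le_top
  have hUY : pullback.fst sY t ⁻¹ᵁ V = pullback.fst sY t ⁻¹ᵁ V ⊓ pullback.snd sY t ⁻¹ᵁ ⊤ := by simp
  have hUX : fK ⁻¹ᵁ (pullback.fst sY t ⁻¹ᵁ V) =
      pullback.fst sX t ⁻¹ᵁ (f ⁻¹ᵁ V) ⊓ pullback.snd sX t ⁻¹ᵁ ⊤ := by
    rw [← Scheme.Hom.comp_preimage, hfst, Scheme.Hom.comp_preimage]; simp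
  have A := (isIso_pushoutSection_iff HY hUST hUSY hUY).mp
    (isIso_pushoutSection_of_isAffineOpen HY hUST hUSY hUY (isAffineOpen_top S) (isAffineOpen_top T) hV)
  have B := (isIso_pushoutSection_iff HX hUST hUSX hUX).mp
    (isIso_pushoutSection_of_isQuasiSeparated_of_flat_right HX hUST hUSX hUX (isAffineOpen_top S)
      (isAffineOpen_top T) hc hqs)
  have h1 : sY.appLE ⊤ V hUSY ≫ f.app V = sX.appLE ⊤ (f ⁻¹ᵁ V) hUSX := by
    rw [← Scheme.Hom.appLE_eq_app, Scheme.Hom.appLE_comp_appLE]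
    subst hf; rfl
  have h2 : (pullback.fst sY t).appLE V (pullback.fst sY t ⁻¹ᵁ V) le_rfl ≫
      fK.app (pullback.fst sY t ⁻¹ᵁ V) =
      f.app V ≫ (pullback.fst sX t).appLE (f ⁻¹ᵁ V) (fK ⁻¹ᵁ (pullback.fst sY t ⁻¹ᵁ V))
        (by rw [hUX]; exact inf_le_left) := by
    rw [Scheme.Hom.app_eq_appLE, Scheme.Hom.app_eq_appLE, Scheme.Hom.appLE_comp_appLE,
      Scheme.Hom.appLE_comp_appLE]
    exact appLE_congr_hom hfst _ _ _
  have h3 : (pullback.snd sY t).appLE ⊤ (pullback.fst sY t ⁻¹ᵁ V) le_top ≫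
      fK.app (pullback.fst sY t ⁻¹ᵁ V) =
      (pullback.snd sX t).appLE ⊤ (fK ⁻¹ᵁ (pullback.fst sY t ⁻¹ᵁ V)) le_top := by
    rw [Scheme.Hom.app_eq_appLE, Scheme.Hom.appLE_comp_appLE]
    exact appLE_congr_hom hsnd _ _ _
  let ψ : Γ(pullback sX t, fK ⁻¹ᵁ (pullback.fst sY t ⁻¹ᵁ V)) ⟶
      Γ(pullback sY t, pullback.fst sY t ⁻¹ᵁ V) :=
    B.desc (inv (f.app V) ≫ (pullback.fst sY t).appLE V (pullback.fst sY t ⁻¹ᵁ V) le_rfl)
      ((pullback.snd sY t).appLE ⊤ (pullback.fst sY t ⁻¹ᵁ V) le_top) (by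
        rw [← h1, Category.assoc, IsIso.hom_inv_id_assoc]
        exact A.w)
  refine ⟨ψ, ?_, ?_⟩
  · apply A.hom_ext
    · rw [reassoc_of% h2, B.inl_desc, IsIso.hom_inv_id_assoc, Category.comp_id]
    · rw [reassoc_of% h3, B.inr_desc, Category.comp_id]
  · apply B.hom_ext
    · rw [B.inl_desc_assoc, Category.assoc, h2, IsIso.inv_hom_id_assoc, Category.comp_id]
    · rw [B.inr_desc_assoc, h3, Category.comp_id]

theorem isNormalScheme_baseChange {S T X Y : Scheme.{u}} (sX : X ⟶ S) (sY : Y ⟶ S) (t : T ⟶ S)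
    [Flat t] [IsAffineHom t]
    (f : X ⟶ Y) (hf : f ≫ sY = sX) [IsAffine S] [IsAffine T]
    [IsLocallyNoetherian (pullback sX t)] [QuasiCompact f] [QuasiSeparated f]
    (hfib : ∀ V : Y.Opens, IsIso (f.app V))
    (hX : Pi1.IsNormalScheme (pullback sX t)) : Pi1.IsNormalScheme (pullback sY t) := by
  apply isNormalScheme_of_forall_exists_affine
  intro y
  obtain ⟨_, ⟨V, hV, rfl⟩, hyV, -⟩ := Y.isBasis_affineOpens.exists_subset_of_mem_open
    (Set.mem_univ (pullback.fst sY t y)) isOpen_univ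
  haveI : IsAffineHom (pullback.fst sY t) := MorphismProperty.pullback_fst _ _ inferInstance
  refine ⟨pullback.fst sY t ⁻¹ᵁ V, hV.preimage (pullback.fst sY t), hyV, ?_⟩
  let fK : pullback sX t ⟶ pullback sY t :=
    pullback.lift (pullback.fst sX t ≫ f) (pullback.snd sX t)
      (by rw [Category.assoc, hf, pullback.condition])
  haveI := hfib V
  haveI : IsIso (fK.app (pullback.fst sY t ⁻¹ᵁ V)) :=
    isIso_app_baseChange sX sY t f hf fK (pullback.lift_fst _ _ _) (pullback.lift_snd _ _ _) V hV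
      (f.isCompact_preimage hV.isCompact) (f.isQuasiSeparated_preimage hV.isQuasiSeparated)
  have hbij : Function.Bijective (fK.app (pullback.fst sY t ⁻¹ᵁ V)) :=
    ConcreteCategory.bijective_of_isIso _
  letI : Algebra Γ(pullback sY t, pullback.fst sY t ⁻¹ᵁ V)
      Γ(pullback sX t, fK ⁻¹ᵁ (pullback.fst sY t ⁻¹ᵁ V)) :=
    (fK.app (pullback.fst sY t ⁻¹ᵁ V)).hom.toAlgebra
  exact isNormalRing_of_sections hX (fK ⁻¹ᵁ (pullback.fst sY t ⁻¹ᵁ V)) hbij.1 (fun b _ => hbij.2 b)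

end Groth.Agent.Lib.Helper20SecBC
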