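import Mathlib
import Groth.Agent.Lib.Helper20SmoothDescSch
import Groth.Agent.Lib.Helper20SmoothFiber

set_option autoImplicit false
universe u

open CategoryTheory CategoryTheory.Limits AlgebraicGeometry TensorProduct

namespace Groth.Agent.Lib.Helper20.FlatDesc

open Groth.Agent.Lib.Helper20.EtLocal

variable {X Y : Scheme.{u}}

theorem spec_subsingleton_of_isField (K : CommRingCat.{u}) (hK : IsField K) (y y' : ↑(Spec K)) :
    y = y' := by
  have key : ∀ z : PrimeSpectrum K, z.asIdeal = ⊥ := by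
    intro z
    rw [eq_bot_iff]
    intro a ha
    by_contra h0
    obtain ⟨b, hb⟩ := hK.mul_inv_cancel (a := a) h0
    exact z.isPrime.ne_top (Ideal.eq_top_of_isUnit_mem _ ha (IsUnit.of_mul_eq_one _ hb))
  exact PrimeSpectrum.ext ((key y).trans (key y').symm)

set_option maxHeartbeats 1600000 in
theorem formallySmooth_stalkMap_of_flat_of_field_fibre (f : X ⟶ Y)
    [LocallyOfFinitePresentation f]
    (K : CommRingCat.{u}) (hK : IsField K) (g : Spec K ⟶ Y) (w : ↑(pullback f g))
    (H : ((pullback.snd f g).stalkMap w).hom.FormallySmooth)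
    (hflat : (f.stalkMap (pullback.fst f g w)).hom.Flat) :
    (f.stalkMap (pullback.fst f g w)).hom.FormallySmooth := by
  have hxy : f (pullback.fst f g w) = g (pullback.snd f g w) := by
    rw [← Scheme.Hom.comp_apply, ← Scheme.Hom.comp_apply, pullback.condition]
  obtain ⟨_, ⟨W, hW, rfl⟩, hxW, -⟩ := Y.isBasis_affineOpens.exists_subset_of_mem_open
    (Set.mem_univ (f (pullback.fst f g w))) isOpen_univ
  obtain ⟨_, ⟨V, hV, rfl⟩, hxV, hVW⟩ := X.isBasis_affineOpens.exists_subset_of_mem_open hxW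
    (W.2.preimage f.continuous)
  have hyW : pullback.snd f g w ∈ g ⁻¹ᵁ W := by
    change g (pullback.snd f g w) ∈ W
    rw [← hxy]; exact hxW
  let W' : (Spec K).Opens := ⊤
  have hW' : IsAffineOpen W' := isAffineOpen_top _
  have hyW' : pullback.snd f g w ∈ W' := trivial
  have hW'W : W' ≤ g ⁻¹ᵁ W := by
    intro y _
    rw [spec_subsingleton_of_isField K hK y (pullback.snd f g w)]
    exact hyW
  have hK' : IsField Γ(Spec K, W') :=
    MulEquiv.isField hK (Scheme.ΓSpecIso K).commRingCatIsoToRingEquiv.toMulEquiv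
  have hfp : (f.appLE W V hVW).hom.FinitePresentation := f.finitePresentation_appLE hW hV hVW
  algebraize [(f.appLE W V hVW).hom, (g.appLE W W' hW'W).hom]
  let _ : Algebra Γ(Spec K, W') (Γ(X, V) ⊗[Γ(Y, W)] Γ(Spec K, W')) :=
    Algebra.TensorProduct.rightAlgebra
  have e₁ : Spec.map (CommRingCat.ofHom (algebraMap Γ(Y, W) Γ(X, V))) ≫ hW.fromSpec =
      hV.fromSpec ≫ f := IsAffineOpen.SpecMap_appLE_fromSpec f hW hV hVW
  have e₂ : Spec.map (CommRingCat.ofHom (algebraMap Γ(Y, W) Γ(Spec K, W'))) ≫ hW.fromSpec =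
      hW'.fromSpec ≫ g := IsAffineOpen.SpecMap_appLE_fromSpec g hW hW' hW'W
  let j0 := pullback.map _ _ f g hV.fromSpec hW'.fromSpec hW.fromSpec e₁ e₂
  let j := (pullbackSpecIso Γ(Y, W) Γ(X, V) Γ(Spec K, W')).inv ≫ j0
  have hj1 : j ≫ pullback.fst f g =
      Spec.map (CommRingCat.ofHom (algebraMap Γ(X, V) (Γ(X, V) ⊗[Γ(Y, W)] Γ(Spec K, W')))) ≫
        hV.fromSpec := by
    simp only [j, j0, Category.assoc, pullback.lift_fst, pullback.map]
    rw [← Category.assoc, pullbackSpecIso_inv_fst']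
  have hj2 : j ≫ pullback.snd f g =
      Spec.map (CommRingCat.ofHom (algebraMap Γ(Spec K, W')
        (Γ(X, V) ⊗[Γ(Y, W)] Γ(Spec K, W')))) ≫ hW'.fromSpec := by
    simp only [j, j0, Category.assoc, pullback.lift_snd, pullback.map]
    rw [← Category.assoc, pullbackSpecIso_inv_snd]
    rfl
  have hwj : w ∈ Set.range j := by
    have : Set.range j = Set.range j0 := by
      simp only [j, Scheme.Hom.comp_base, TopCat.coe_comp]
      rw [Set.range_comp, Set.range_eq_univ.mpr, Set.image_univ]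
      exact (pullbackSpecIso Γ(Y, W) Γ(X, V) Γ(Spec K, W')).inv.surjective
    have : IsOpenImmersion hW.fromSpec := hW.isOpenImmersion_fromSpec
    have : Mono hW.fromSpec := inferInstance
    rw [‹Set.range j = Set.range j0›, Scheme.Pullback.range_map]
    refine ⟨?_, ?_⟩
    · change pullback.fst f g w ∈ Set.range hV.fromSpec
      rw [hV.range_fromSpec]; exact hxV
    · change pullback.snd f g w ∈ Set.range hW'.fromSpec
      rw [hW'.range_fromSpec]; exact hyW'
  obtain ⟨q, rfl⟩ := hwj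
  have hqprime : q.asIdeal.IsPrime := q.isPrime
  have : IsOpenImmersion hW.fromSpec := hW.isOpenImmersion_fromSpec
  have : IsOpenImmersion hV.fromSpec := hV.isOpenImmersion_fromSpec
  have : IsOpenImmersion hW'.fromSpec := hW'.isOpenImmersion_fromSpec
  have : IsOpenImmersion j0 := inferInstance
  have : IsOpenImmersion j := inferInstance
  have hQ := RingHom.FormallySmooth.respectsIso
  -- step A
  have hA1 := (stalkMap_comp_iff_left hQ j (pullback.snd f g) q).mpr H
  have hA2 := (stalkMap_congr_iff (Q := RingHom.FormallySmooth) hj2 q).mp hA1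
  have hA3 := (stalkMap_comp_iff_right hQ _ hW'.fromSpec q).mp hA2
  have hA4 := (hQ.arrow_mk_iso_iff (Scheme.arrowStalkMapSpecIso _ q)).mp hA3
  have hA4' : (Localization.localRingHom (PrimeSpectrum.comap
        (algebraMap Γ(Spec K, W') (Γ(X, V) ⊗[Γ(Y, W)] Γ(Spec K, W'))) q).asIdeal q.asIdeal
        (algebraMap Γ(Spec K, W') (Γ(X, V) ⊗[Γ(Y, W)] Γ(Spec K, W'))) rfl).FormallySmooth := hA4
  have hA5 : Algebra.IsSmoothAt Γ(Spec K, W') q.asIdeal := by
    change Algebra.FormallySmooth Γ(Spec K, W') (Localization.AtPrime q.asIdeal)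
    rw [← RingHom.formallySmooth_algebraMap]
    have h0 : (algebraMap Γ(Spec K, W') (Localization.AtPrime (PrimeSpectrum.comap
        (algebraMap Γ(Spec K, W') (Γ(X, V) ⊗[Γ(Y, W)] Γ(Spec K, W'))) q).asIdeal)).FormallySmooth := by
      rw [RingHom.formallySmooth_algebraMap]
      have : Algebra.FormallyEtale Γ(Spec K, W') (Localization.AtPrime (PrimeSpectrum.comap
        (algebraMap Γ(Spec K, W') (Γ(X, V) ⊗[Γ(Y, W)] Γ(Spec K, W'))) q).asIdeal) :=
        .of_isLocalization (PrimeSpectrum.comap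
        (algebraMap Γ(Spec K, W') (Γ(X, V) ⊗[Γ(Y, W)] Γ(Spec K, W'))) q).asIdeal.primeCompl
      infer_instance
    have h1 := RingHom.FormallySmooth.comp h0 hA4'
    have h2 : algebraMap Γ(Spec K, W') (Localization.AtPrime q.asIdeal) =
        (Localization.localRingHom (PrimeSpectrum.comap
        (algebraMap Γ(Spec K, W') (Γ(X, V) ⊗[Γ(Y, W)] Γ(Spec K, W'))) q).asIdeal q.asIdeal
        (algebraMap Γ(Spec K, W') (Γ(X, V) ⊗[Γ(Y, W)] Γ(Spec K, W'))) rfl).comp
          (algebraMap Γ(Spec K, W') _) := by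
      rw [IsScalarTower.algebraMap_eq Γ(Spec K, W') (Γ(X, V) ⊗[Γ(Y, W)] Γ(Spec K, W'))
        (Localization.AtPrime q.asIdeal)]
      exact (IsLocalization.map_comp _).symm
    rw [h2]
    exact h1
  have hp : hV.primeIdealOf ⟨pullback.fst f g (j q), hxV⟩ =
      PrimeSpectrum.comap (algebraMap Γ(X, V) (Γ(X, V) ⊗[Γ(Y, W)] Γ(Spec K, W'))) q := by
    apply hV.fromSpec.isOpenEmbedding.injective
    rw [hV.fromSpec_primeIdealOf]
    have h3 : pullback.fst f g (j q) = hV.fromSpec ((Spec.map (CommRingCat.ofHom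
        (algebraMap Γ(X, V) (Γ(X, V) ⊗[Γ(Y, W)] Γ(Spec K, W'))))) q) := by
      rw [← Scheme.Hom.comp_apply, ← Scheme.Hom.comp_apply, hj1]
    exact h3
  -- flatness on the chart
  have hLO : (hV.primeIdealOf ⟨pullback.fst f g (j q), hxV⟩).asIdeal.LiesOver
      (hW.primeIdealOf ⟨f (pullback.fst f g (j q)), hVW hxV⟩).asIdeal :=
    ⟨congr($(IsAffineOpen.comap_primeIdealOf_appLE W hW V hV hVW hxV).1).symm⟩
  let _ := Localization.AtPrime.algebraOfLiesOver
    (hW.primeIdealOf ⟨f (pullback.fst f g (j q)), hVW hxV⟩).asIdeal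
    (hV.primeIdealOf ⟨pullback.fst f g (j q), hxV⟩).asIdeal
  have hF1 : Module.Flat (Localization.AtPrime
        (hW.primeIdealOf ⟨f (pullback.fst f g (j q)), hVW hxV⟩).asIdeal)
      (Localization.AtPrime (hV.primeIdealOf ⟨pullback.fst f g (j q), hxV⟩).asIdeal) :=
    (flat_stalkMap_iff_chart W hW V hV hVW hxV).mp hflat
  have hF2 : Module.Flat Γ(Y, W)
      (Localization.AtPrime (hV.primeIdealOf ⟨pullback.fst f g (j q), hxV⟩).asIdeal) :=
    (Module.flat_iff_of_isLocalization (Localization.AtPrime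
        (hW.primeIdealOf ⟨f (pullback.fst f g (j q)), hVW hxV⟩).asIdeal)
      (hW.primeIdealOf ⟨f (pullback.fst f g (j q)), hVW hxV⟩).asIdeal.primeCompl _).mp hF1
  have hF3 : Module.Flat Γ(Y, W) (Localization.AtPrime
      (q.asIdeal.comap (algebraMap Γ(X, V) (Γ(X, V) ⊗[Γ(Y, W)] Γ(Spec K, W'))))) :=
    Groth.Agent.Lib.Helper20.SmoothFiber.flat_localization_congr _ _ (congrArg (·.asIdeal) hp) hF2
  have hB := Groth.Agent.Lib.Helper20.SmoothFiber.isSmoothAt_of_flat_of_isSmoothAt_field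
    (A := Γ(Y, W)) (B := Γ(X, V)) (K := Γ(Spec K, W'))
    (T := Γ(X, V) ⊗[Γ(Y, W)] Γ(Spec K, W')) hK' q.asIdeal hF3 hA5
  refine (formallySmooth_stalkMap_iff W hW V hV hVW hxV).mpr ?_
  rw [hp]
  exact hB

end Groth.Agent.Lib.Helper20.FlatDesc
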