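import Mathlib
import Groth.Agent.Lib.Helper20SmoothSec

/-!
# helper20: étale-local morphisms through (specializations of) points of smooth schemes, char 0
-/

set_option autoImplicit false
set_option linter.style.haveILetI false
universe u

open CategoryTheory CategoryTheory.Limits AlgebraicGeometry TensorProduct

namespace Groth.Agent.Lib.Helper20.SmoothPt


open Groth.Agent.Lib.Helper20.EtResExt in
/-- Lifting an `L`-point of affine space over the residue field at `p` (with `L` finite separable)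
to a point of affine space with values in an étale `R`-algebra. -/
theorem exists_etale_lift_point {R : Type u} [CommRing R] (p : Ideal R) [p.IsPrime] (n : ℕ)
    (L : Type u) [Field L] [Algebra p.ResidueField L] [FiniteDimensional p.ResidueField L]
    [Algebra.IsSeparable p.ResidueField L] (a : Fin n → L) :
    ∃ (R' : Type u) (_ : CommRing R') (_ : Algebra R R') (_ : Algebra.Etale R R')
      (ψ : R' →+* L) (_ : ψ.comp (algebraMap R R') =
        (algebraMap p.ResidueField L).comp (algebraMap R p.ResidueField)) (r : Fin n → R'),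
      ∀ i, ψ (r i) = a i := by
  obtain ⟨A₁, _, _, hA₁, p₁, _, hp₁, e, he⟩ := exists_etale_residueField_equiv p L
  obtain ⟨⟨d, hd⟩, hint⟩ := IsLocalization.exist_integer_multiples_of_finite
    (nonZeroDivisors (A₁ ⧸ p₁)) (fun i => e.symm (a i))
  choose m' hm' using hint
  obtain ⟨c, rfl⟩ := Ideal.Quotient.mk_surjective d
  have hm : ∀ i, ∃ m : A₁, Ideal.Quotient.mk p₁ m = m' i := fun i => Ideal.Quotient.mk_surjective _
  choose m hm using hm
  have hd0 : algebraMap (A₁ ⧸ p₁) p₁.ResidueField (Ideal.Quotient.mk p₁ c) ≠ 0 := by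
    rw [Ne, map_eq_zero_iff _ (IsFractionRing.injective (A₁ ⧸ p₁) p₁.ResidueField)]
    exact nonZeroDivisors.ne_zero hd
  let ψ₁ : A₁ →+* L := (e : p₁.ResidueField →+* L).comp (algebraMap A₁ p₁.ResidueField)
  have hψ₁c : ψ₁ c ≠ 0 := by
    change e (algebraMap A₁ p₁.ResidueField c) ≠ 0
    rw [Ne, map_eq_zero_iff _ e.injective, ← Ideal.algebraMap_quotient_residueField_mk]
    exact hd0
  have hunit : IsUnit (ψ₁ c) := hψ₁c.isUnit
  let ψ : Localization.Away c →+* L := IsLocalization.Away.lift c hunit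
  have hψ : ∀ y : A₁, ψ (algebraMap A₁ (Localization.Away c) y) = ψ₁ y :=
    fun y => IsLocalization.Away.lift_eq c hunit y
  have hψR : ψ.comp (algebraMap R (Localization.Away c)) =
      (algebraMap p.ResidueField L).comp (algebraMap R p.ResidueField) := by
    ext x
    rw [RingHom.comp_apply, RingHom.comp_apply,
      IsScalarTower.algebraMap_apply R A₁ (Localization.Away c), hψ]
    change e (algebraMap A₁ p₁.ResidueField (algebraMap R A₁ x)) = _
    rw [← he, RingHom.comp_apply, Ideal.ResidueField.map_algebraMap]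
    rfl
  refine ⟨Localization.Away c, inferInstance, inferInstance, inferInstance, ψ, hψR,
    fun i => IsLocalization.mk' (Localization.Away c) (m i)
      (⟨c, Submonoid.mem_powers c⟩ : Submonoid.powers c), ?_⟩
  intro i
  have h1 : ψ (IsLocalization.mk' (Localization.Away c) (m i)
      (⟨c, Submonoid.mem_powers c⟩ : Submonoid.powers c)) * ψ₁ c = ψ₁ (m i) := by
    rw [← hψ c, ← map_mul, ← hψ (m i)]
    congr 1
    exact IsLocalization.mk'_spec _ _ _
  have h2 : ψ₁ (m i) = a i * ψ₁ c := by
    change e (algebraMap A₁ p₁.ResidueField (m i)) = a i * e (algebraMap A₁ p₁.ResidueField c)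
    rw [← Ideal.algebraMap_quotient_residueField_mk, ← Ideal.algebraMap_quotient_residueField_mk,
      hm i, hm' i, Algebra.smul_def, map_mul, RingEquiv.apply_symm_apply, mul_comm]
  rw [h2] at h1
  exact mul_right_cancel₀ hψ₁c h1




/-- Every prime `q` of a finite type `R`-algebra `B` specializes, inside its fibre, to a point whose
residue field is finite over the residue field of the base point. -/
theorem exists_finite_point {R B : Type u} [CommRing R] [CommRing B] [Algebra R B]
    [Algebra.FiniteType R B] (q : Ideal B) [q.IsPrime] (p : Ideal R) [p.IsPrime]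
    [hqp : q.LiesOver p] :
    ∃ (L : Type u) (_ : Field L) (_ : Algebra p.ResidueField L)
      (_ : Module.Finite p.ResidueField L) (χ : B →+* L),
      χ.comp (algebraMap R B) =
        (algebraMap p.ResidueField L).comp (algebraMap R p.ResidueField) ∧
      q ≤ RingHom.ker χ := by
  let α := PrimeSpectrum.primesOverOrderIsoFiber R B p
  let Q : PrimeSpectrum (p.Fiber B) := α ⟨q, ‹_›, ‹_›⟩
  obtain ⟨M, hM, hQM⟩ := Ideal.exists_le_maximal Q.asIdeal Q.2.ne_top
  haveI := hM
  letI : Field (p.Fiber B ⧸ M) := Ideal.Quotient.field M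
  haveI : Algebra.FiniteType p.ResidueField (p.Fiber B ⧸ M) := inferInstance
  have hfin : Module.Finite p.ResidueField (p.Fiber B ⧸ M) :=
    finite_of_finite_type_of_isJacobsonRing _ _
  refine ⟨p.Fiber B ⧸ M, inferInstance, inferInstance, hfin,
    (Ideal.Quotient.mk M).comp (Algebra.TensorProduct.includeRight : B →ₐ[R] p.Fiber B).toRingHom,
    ?_, ?_⟩
  · ext x
    simp only [RingHom.comp_apply, AlgHom.toRingHom_eq_coe, RingHom.coe_coe, AlgHom.commutes]
    rw [IsScalarTower.algebraMap_apply R p.ResidueField (p.Fiber B)]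
    rfl
  · have h1 : (α.symm ⟨M, hM.isPrime⟩ : p.primesOver B).1 =
        M.comap (Algebra.TensorProduct.includeRight : B →ₐ[R] p.Fiber B) :=
      PrimeSpectrum.coe_primesOverOrderIsoFiber_symm_apply (p := p) (S := B) ⟨M, hM.isPrime⟩
    have h2 : α.symm Q ≤ α.symm ⟨M, hM.isPrime⟩ := α.symm.monotone hQM
    have h3 : α.symm Q = ⟨q, ‹_›, ‹_›⟩ := α.symm_apply_apply _
    rw [h3] at h2
    intro b hb
    have : b ∈ (α.symm ⟨M, hM.isPrime⟩ : p.primesOver B).1 := h2 hb
    rw [h1] at this
    rw [RingHom.mem_ker, RingHom.comp_apply, Ideal.Quotient.eq_zero_iff_mem]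
    exact this


set_option backward.isDefEq.respectTransparency false in
/-- Smooth morphisms in characteristic zero: every point specializes to a point through which
there passes a morphism from a scheme étale over the base. -/
theorem exists_etale_hom_through_specialization {X S : Scheme.{u}} (f : X ⟶ S) [Smooth f]
    (hchar : ∀ (U : S.Opens) (𝔭 : Ideal Γ(S, U)) [𝔭.IsPrime], CharZero 𝔭.ResidueField)
    (x : X) :
    ∃ (x' : X) (_ : x ⤳ x') (S' : Scheme.{u}) (g : S' ⟶ S) (h : S' ⟶ X),
      Etale g ∧ h ≫ f = g ∧ x' ∈ Set.range h := by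
  obtain ⟨U, hU, V, hV, hxV, e, hsm⟩ := Smooth.exists_isStandardSmooth f x
  obtain ⟨n, g, hgC, hg⟩ := hsm.exists_etale_mvPolynomial
  let q : PrimeSpectrum Γ(X, V) := hV.primeIdealOf ⟨x, hxV⟩
  have hq : hV.fromSpec q = x := hV.fromSpec_primeIdealOf ⟨x, hxV⟩
  letI : Algebra Γ(S, U) Γ(X, V) := (f.appLE U V e).hom.toAlgebra
  haveI : Algebra.FiniteType Γ(S, U) Γ(X, V) := by
    have : (f.appLE U V e).hom.FiniteType := LocallyOfFiniteType.finiteType_appLE f hU hV e
    exact this
  let 𝔭 : Ideal Γ(S, U) := q.asIdeal.comap (algebraMap Γ(S, U) Γ(X, V))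
  haveI : 𝔭.IsPrime := Ideal.comap_isPrime _ _
  haveI : q.asIdeal.LiesOver 𝔭 := ⟨rfl⟩
  obtain ⟨L, _, _, hfin, χ, hχ, hqχ⟩ := exists_finite_point q.asIdeal 𝔭
  haveI := hfin
  haveI : CharZero 𝔭.ResidueField := hchar U 𝔭
  haveI : Algebra.IsSeparable 𝔭.ResidueField L := inferInstance
  obtain ⟨R', _, _, hR', ψ, hψ, r, hr⟩ :=
    exists_etale_lift_point 𝔭 n L (fun i => χ (g (MvPolynomial.X i)))
  let σ : MvPolynomial (Fin n) Γ(S, U) →+* R' := (MvPolynomial.aeval r).toRingHom
  have hσC : σ.comp MvPolynomial.C = algebraMap Γ(S, U) R' := by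
    ext a
    change MvPolynomial.aeval r (MvPolynomial.C a) = _
    rw [MvPolynomial.aeval_C]
  have hψσ : ψ.comp σ = χ.comp g := by
    apply MvPolynomial.ringHom_ext
    · intro a
      have h1 : ψ (σ (MvPolynomial.C a)) = (ψ.comp (algebraMap Γ(S, U) R')) a := by
        rw [← hσC]; rfl
      have h2 : χ (g (MvPolynomial.C a)) = (χ.comp (algebraMap Γ(S, U) Γ(X, V))) a := by
        have : g (MvPolynomial.C a) = algebraMap Γ(S, U) Γ(X, V) a := congr($hgC a)
        rw [RingHom.comp_apply, ← this]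
      rw [RingHom.comp_apply, RingHom.comp_apply, h1, h2, hψ, hχ]
    · intro i
      change ψ (MvPolynomial.aeval r (MvPolynomial.X i)) = χ (g (MvPolynomial.X i))
      rw [MvPolynomial.aeval_X, hr]
  let q' : PrimeSpectrum Γ(X, V) := ⟨RingHom.ker χ, RingHom.ker_isPrime χ⟩
  let p'' : PrimeSpectrum R' := ⟨RingHom.ker ψ, RingHom.ker_isPrime ψ⟩
  have hpt : (Spec.map (CommRingCat.ofHom g)) q' = (Spec.map (CommRingCat.ofHom σ)) p'' := by
    apply PrimeSpectrum.ext
    change (RingHom.ker χ).comap g = (RingHom.ker ψ).comap σ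
    rw [RingHom.comap_ker, RingHom.comap_ker, hψσ]
  obtain ⟨y, hy1, hy2⟩ := Scheme.Pullback.exists_preimage_pullback
    (f := Spec.map (CommRingCat.ofHom g)) (g := Spec.map (CommRingCat.ofHom σ)) q' p'' hpt
  have hgE : Etale (Spec.map (CommRingCat.ofHom g)) := by
    rw [HasRingHomProperty.Spec_iff (P := @Etale)]
    exact hg
  have hE1 : Etale (Spec.map (CommRingCat.ofHom (algebraMap Γ(S, U) R'))) := by
    rw [HasRingHomProperty.Spec_iff (P := @Etale)]
    exact RingHom.etale_algebraMap.mpr hR'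
  have hcomm : hV.fromSpec ≫ f =
      Spec.map (CommRingCat.ofHom g) ≫ Spec.map (CommRingCat.ofHom MvPolynomial.C) ≫
        hU.fromSpec := by
    rw [← IsAffineOpen.SpecMap_appLE_fromSpec f hU hV e, ← Spec.map_comp_assoc]
    congr 2
    ext a
    exact (congr($hgC a)).symm
  refine ⟨hV.fromSpec q', ?_,
    pullback (Spec.map (CommRingCat.ofHom g)) (Spec.map (CommRingCat.ofHom σ)),
    pullback.snd _ _ ≫ Spec.map (CommRingCat.ofHom (algebraMap Γ(S, U) R')) ≫ hU.fromSpec,
    pullback.fst _ _ ≫ hV.fromSpec, inferInstance, ?_, ⟨y, ?_⟩⟩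
  · rw [← hq]
    exact ((PrimeSpectrum.le_iff_specializes q q').mp hqχ).map hV.fromSpec.continuous
  · rw [Category.assoc, hcomm, pullback.condition_assoc, ← Spec.map_comp_assoc]
    congr 3
    ext a
    exact congr($hσC a)
  · rw [Scheme.Hom.comp_apply, hy1]
    rfl


end Groth.Agent.Lib.Helper20.SmoothPt
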