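import Mathlib

set_option autoImplicit false
universe u

namespace Groth.Agent.Lib.Helper20SteinUH
open Polynomial

/-- In an integral algebra over a field with only trivial idempotents, every element is a unit or
nilpotent. -/
theorem isUnit_or_isNilpotent {K B : Type u} [Field K] [CommRing B] [Algebra K B]
    [Algebra.IsIntegral K B] (hconn : ∀ e : B, IsIdempotentElem e → e = 0 ∨ e = 1) (b : B) :
    IsUnit b ∨ IsNilpotent b := by
  obtain ⟨p, hpm, hpb⟩ := Algebra.IsIntegral.isIntegral (R := K) b
  have hp0 : p ≠ 0 := hpm.ne_zero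
  obtain ⟨q, hpq, hq⟩ := Polynomial.exists_eq_pow_rootMultiplicity_mul_and_not_dvd p hp0 (0 : K)
  set m := p.rootMultiplicity 0 with hm
  rw [C_0, sub_zero] at hpq hq
  have hcop : IsCoprime (X ^ m : K[X]) q :=
    IsCoprime.pow_left ((Polynomial.irreducible_X).coprime_iff_not_dvd.2 hq)
  obtain ⟨a, c, hac⟩ := hcop
  -- evaluate at b
  have hb : (aeval b a) * b ^ m + (aeval b c) * (aeval b q) = 1 := by
    have := congrArg (aeval b) hac
    simpa using this
  have hzero : b ^ m * aeval b q = 0 := by
    have : aeval b p = 0 := by rwa [aeval_def]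
    rw [hpq] at this
    simpa using this
  set e : B := aeval b a * b ^ m with he
  have he1 : 1 - e = aeval b c * aeval b q := by rw [← hb]; ring
  have hidem : IsIdempotentElem e := by
    have h0 : e * (1 - e) = 0 := by
      rw [he1, he]
      calc aeval b a * b ^ m * (aeval b c * aeval b q)
          = aeval b a * aeval b c * (b ^ m * aeval b q) := by ring
        _ = 0 := by rw [hzero, mul_zero]
    change e * e = e
    have : e * e = e - e * (1 - e) := by ring
    rw [this, h0, sub_zero]
  rcases hconn e hidem with h0 | h1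
  · right
    have hq1 : aeval b c * aeval b q = 1 := by rw [← he1, h0, sub_zero]
    refine ⟨m, ?_⟩
    calc b ^ m = b ^ m * (aeval b c * aeval b q) := by rw [hq1, mul_one]
      _ = aeval b c * (b ^ m * aeval b q) := by ring
      _ = 0 := by rw [hzero, mul_zero]
  · left
    by_cases hm0 : m = 0
    · -- `q(b) = 0` with `q(0) ≠ 0`
      have hq0 : aeval b q = 0 := by rw [hm0, pow_zero, one_mul] at hzero; exact hzero
      have hc0 : q.coeff 0 ≠ 0 := fun h => hq (Polynomial.X_dvd_iff.2 h)
      have hdiv : aeval b (q.divX) * b + algebraMap K B (q.coeff 0) = 0 := by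
        have := congrArg (aeval b) (Polynomial.divX_mul_X_add q)
        rw [hq0] at this
        simpa using this
      have : b * (-(aeval b q.divX) * algebraMap K B (q.coeff 0)⁻¹) = 1 := by
        have h2 : aeval b q.divX * b = -algebraMap K B (q.coeff 0) := by
          rw [← add_eq_zero_iff_eq_neg]; exact hdiv
        calc b * (-(aeval b q.divX) * algebraMap K B (q.coeff 0)⁻¹)
            = -(aeval b q.divX * b) * algebraMap K B (q.coeff 0)⁻¹ := by ring
          _ = algebraMap K B (q.coeff 0) * algebraMap K B (q.coeff 0)⁻¹ := by rw [h2, neg_neg]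
          _ = 1 := by rw [← map_mul, mul_inv_cancel₀ hc0, map_one]
      exact IsUnit.of_mul_eq_one _ this
    have : b * (aeval b a * b ^ (m - 1)) = 1 := by
      rw [← h1, he]
      obtain ⟨n, hn⟩ := Nat.exists_eq_succ_of_ne_zero hm0
      rw [hn, Nat.succ_sub_one, pow_succ]
      ring
    exact IsUnit.of_mul_eq_one _ this

theorem algHom_eq_of_connected {K B : Type u} [Field K] [CommRing B] [Algebra K B]
    [Algebra.IsIntegral K B] (hconn : ∀ e : B, IsIdempotentElem e → e = 0 ∨ e = 1)
    (ψ₁ ψ₂ : B →ₐ[K] K) : ψ₁ = ψ₂ := by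
  ext b
  obtain ⟨c, hc⟩ : ∃ c, c = ψ₁ b := ⟨_, rfl⟩
  have h1 : ψ₁ (b - algebraMap K B c) = 0 := by
    rw [map_sub, AlgHom.commutes, hc]; simp
  have hnu : ¬ IsUnit (b - algebraMap K B c) := fun hu => by
    have := hu.map ψ₁
    rw [h1] at this
    exact not_isUnit_zero this
  have hnil := (isUnit_or_isNilpotent (K := K) hconn _).resolve_left hnu
  have h2 : ψ₂ (b - algebraMap K B c) = 0 := (hnil.map ψ₂).eq_zero
  rw [map_sub, AlgHom.commutes, sub_eq_zero] at h2
  rw [h2, ← hc]
  simp

theorem idempotent_trivial_of_connected {B : Type u} [CommRing B]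
    [ConnectedSpace (PrimeSpectrum B)] (e : B) (he : IsIdempotentElem e) : e = 0 ∨ e = 1 := by
  have hnil : ∀ x : B, IsIdempotentElem x → IsNilpotent x → x = 0 := by
    intro x hx ⟨n, hn⟩
    rcases n with _ | n
    · rw [pow_zero] at hn
      rw [← mul_one x, hn, mul_zero]
    · rwa [hx.pow_succ_eq] at hn
  have hmul : e * (1 - e) = 0 := by
    have : e * e = e := he
    rw [mul_sub, mul_one, this, sub_self]
  have hcl : IsClopen ((PrimeSpectrum.basicOpen e : TopologicalSpace.Opens (PrimeSpectrum B)) :
      Set (PrimeSpectrum B)) :=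
    PrimeSpectrum.isClopen_basicOpen_of_mul_add e (1 - e) hmul (by ring)
  rcases isClopen_iff.1 hcl with h | h
  · left
    apply hnil e he
    rw [← PrimeSpectrum.basicOpen_eq_bot_iff]
    exact TopologicalSpace.Opens.ext h
  · right
    have h1e : IsIdempotentElem (1 - e) := he.one_sub
    have : (1 - e) = 0 := by
      apply hnil _ h1e
      rw [← PrimeSpectrum.basicOpen_eq_bot_iff]
      apply TopologicalSpace.Opens.ext
      rw [TopologicalSpace.Opens.coe_bot, Set.eq_empty_iff_forall_notMem]
      intro x hx
      have hxe : x ∈ (PrimeSpectrum.basicOpen e : Set (PrimeSpectrum B)) := by rw [h]; trivial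
      have : x ∈ PrimeSpectrum.basicOpen (e * (1 - e)) := by
        rw [PrimeSpectrum.basicOpen_mul]; exact ⟨hxe, hx⟩
      rw [hmul, PrimeSpectrum.basicOpen_zero] at this
      exact this
    rw [sub_eq_zero] at this
    exact this.symm

end Groth.Agent.Lib.Helper20SteinUH
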