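import Mathlib
import Groth.Prelude.Def_ModSite
import Groth.Prelude.Def_ExtSupp
import Groth.Agent.Lib.Helper21HomI5
import Groth.Agent.Lib.Helper21DerLES2

/-!
# Lead: the explicit internal hom `iHom F G` is contravariantly functorial in `F`, and the comparison
with the abstract `ModSite.sheafHom` is natural in `F` (for S11163)
-/

set_option autoImplicit false
universe u
open CategoryTheory CategoryTheory.Limits Opposite MonoidalCategory

namespace Groth.Agent.LeadExtInj

open Groth.Agent.Lib.Helper21.HomI Groth.Agent.Lib.Helper21.HomU Groth.Agent.Lib.Helper21.ModTensor2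
  Groth.Agent.Lib.Helper21.ModTensor3 Groth.Agent.Lib.Helper21.DerLES2

noncomputable section

variable {C : Type u} [SmallCategory C] {J : GrothendieckTopology C} {O : Sheaf J CommRingCat.{u}}

/-- pre-composition with `u : F' ⟶ F` in the second variable of a bilinear family. -/
def bilPrecompF {A F F' G : ModSite.Mod O} (β : Bil A F G) (u : F' ⟶ F) : Bil A F' G where
  val V a x := β.val V a ((u.val.app (op V)).hom x)
  add_left V a a' x := β.add_left _ _ _ _
  add_right V a x y := by rw [map_add, β.add_right]
  smul_left V r a x := β.smul_left _ _ _ _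
  smul_right V r a x := by rw [map_smul, β.smul_right]
  compat {V' V} k a x := by rw [β.compat, rs_nat]

theorem tensorEquiv_precompF {A F F' G : ModSite.Mod O} (u : F' ⟶ F)
    (h : ((ModSite.tensorBi O).obj A).obj F ⟶ G) :
    tensorEquiv (((ModSite.tensorBi O).obj A).map u ≫ h) = bilPrecompF (tensorEquiv h) u := by
  change Bil.ofPM ((adj O).homEquiv _ _ ((shf O).map ((fgt O).obj A ◁ (fgt O).map u) ≫ h)) =
    bilPrecompF (Bil.ofPM ((adj O).homEquiv _ _ h)) u
  rw [Adjunction.homEquiv_naturality_left]
  rfl

/-- pre-composition of a family with `u : F' ⟶ F`. -/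
def famPrecomp {F F' G : ModSite.Mod O} {W : C} (h : HomFam F G W) (u : F' ⟶ F) :
    HomFam F' G W where
  val V b x := h.val V b ((u.val.app (op V)).hom x)
  add V b x y := by rw [map_add, h.add]
  smul V b r x := by rw [map_smul, h.smul]
  compat {V' V} k b x := by rw [h.compat, rs_nat]

theorem famPrecomp_val {F F' G : ModSite.Mod O} {W : C} (h : HomFam F G W) (u : F' ⟶ F) (V : C)
    (b : V ⟶ W) (x : F'.val.obj (op V)) :
    (famPrecomp h u).val V b x = h.val V b ((u.val.app (op V)).hom x) := rfl

/-- `ℋom(F, G) ⟶ ℋom(F', G)` for `u : F' ⟶ F`. -/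
def iHomPre {F F' : ModSite.Mod O} (u : F' ⟶ F) (G : ModSite.Mod O) : iHom F G ⟶ iHom F' G where
  val := PresheafOfModules.homMk (M₁ := homIPM F G) (M₂ := homIPM F' G)
    { app := fun W => AddCommGrpCat.ofHom
        { toFun := fun h => famPrecomp (W := W.unop) h u
          map_zero' := by
            apply HomFam.ext
            funext V b x
            rfl
          map_add' := fun h k => by
            apply HomFam.ext
            funext V b x
            rfl }
      naturality := fun W W' k => by
        ext h
        rfl }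
    (fun W r h => by
      apply HomFam.ext
      funext V b x
      rfl)

theorem iOut_iHomPre {F F' : ModSite.Mod O} (u : F' ⟶ F) (G : ModSite.Mod O) (W : C)
    (s : (iHom F G).val.obj (op W)) :
    iOut W (((iHomPre u G).val.app (op W)).hom s) = famPrecomp (iOut W s) u := rfl

theorem curryEquiv_precompF {A F F' G : ModSite.Mod O} (β : Bil A F G) (u : F' ⟶ F) :
    curryEquiv (bilPrecompF β u) = curryEquiv β ≫ iHomPre u G := by
  apply SheafOfModules.hom_ext
  apply PresheafOfModules.hom_ext
  intro W
  ext a
  rfl

section nat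

variable {F F' : ModSite.Mod O} [ModSite.HasSheafHom F] [ModSite.HasSheafHom F'] (u : F' ⟶ F)
  (G : ModSite.Mod O)

theorem sheafHomEquiv_sheafHomMap (A : ModSite.Mod O) (x : A ⟶ (ModSite.sheafHom F).obj G) :
    sheafHomEquiv F' G A (x ≫ (ExtSupp.sheafHomMap u).app G) =
      sheafHomEquiv F G A x ≫ iHomPre u G := by
  change curryEquiv (tensorEquiv (((ModSite.sheafHomAdj F').homEquiv A G).symm
      (x ≫ (conjugateEquiv (ModSite.sheafHomAdj F) (ModSite.sheafHomAdj F')
        ((ModSite.tensorBi O).flip.map u)).app G))) =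
    curryEquiv (tensorEquiv (((ModSite.sheafHomAdj F).homEquiv A G).symm x)) ≫ iHomPre u G
  rw [homEquiv_symm_comp_conj, ← curryEquiv_precompF, ← tensorEquiv_precompF]
  rfl

/-- naturality in the first variable of the comparison `ℋom(F, G) ≅ iHom F G`. -/
theorem sheafHomIso_nat :
    (ExtSupp.sheafHomMap u).app G ≫ (sheafHomIso F' G).hom =
      (sheafHomIso F G).hom ≫ iHomPre u G := by
  have h1 := sheafHomEquiv_sheafHomMap u G _ (𝟙 ((ModSite.sheafHom F).obj G))
  rw [Category.id_comp] at h1
  have h2 := sheafHomEquiv_nat F' G ((ExtSupp.sheafHomMap u).app G)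
    (𝟙 ((ModSite.sheafHom F').obj G))
  rw [Category.comp_id] at h2
  rw [h2] at h1
  exact h1

theorem epi_iHomPre_of_epi (h : Epi ((ExtSupp.sheafHomMap u).app G)) : Epi (iHomPre u G) := by
  have e : iHomPre u G = (sheafHomIso F G).inv ≫ (ExtSupp.sheafHomMap u).app G ≫
      (sheafHomIso F' G).hom := by
    rw [sheafHomIso_nat, Iso.inv_hom_id_assoc]
  rw [e]
  infer_instance

end nat

end

end Groth.Agent.LeadExtInj
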