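import Mathlib
import Groth.Agent.Lib.LeadExtAff1
import Groth.Agent.Lib.LeadExtInj1
import Groth.Agent.Lib.Helper21RelExt

/-!
# Lead: naturality in the first variable of `ℰxt^0(F, G) ≅ ℋom(F, G)`
-/

set_option autoImplicit false
universe u
open CategoryTheory CategoryTheory.Limits AlgebraicGeometry TopologicalSpace Opposite

namespace Groth.Agent.LeadExtAff

open Groth.Agent.Lib.Helper21.HomI Groth.Agent.Lib.Helper21.HomU Groth.Agent.Lib.Helper17.FFaith
  Groth.Agent.Lib.Helper21.ExtShDelta Groth.Agent.Lib.Helper21.CoDeltaLib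
  Groth.Agent.LeadExtInj

attribute [local instance] hasSheafHom

noncomputable section

/-- naturality of `R⁰F ≅ F` with respect to natural transformations. -/
theorem rightDerivedZeroIsoSelf_nat {C D : Type*} [Category C] [Category D] [Abelian C] [Abelian D]
    [HasInjectiveResolutions C] {F F' : C ⥤ D} [F.Additive] [F'.Additive]
    [PreservesFiniteLimits F] [PreservesFiniteLimits F'] (θ : F ⟶ F') (A : C) :
    (NatTrans.rightDerived θ 0).app A ≫ F'.rightDerivedZeroIsoSelf.hom.app A =
      F.rightDerivedZeroIsoSelf.hom.app A ≫ θ.app A := by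
  have h := Groth.Agent.Lib.Helper21.RelExt.toRightDerivedZero_nat θ A
  rw [← cancel_epi (F.toRightDerivedZero.app A), ← Category.assoc, ← h, Category.assoc,
    Functor.rightDerivedZeroIsoSelf_inv_hom_id_app, Category.comp_id,
    Functor.rightDerivedZeroIsoSelf_inv_hom_id_app_assoc]

variable {X : Scheme.{u}} [HasInjectiveResolutions (ModSite.Mod X.sheaf)]

theorem extShZeroIso_nat {F F' : ModSite.Mod X.sheaf} (u : F' ⟶ F) (G : ModSite.Mod X.sheaf) :
    (extShDelta (O := X.sheaf) G).map 0 u ≫ (extShZeroIso F' G).hom =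
      (extShZeroIso F G).hom ≫ iHomPre (O := X.sheaf) u G := by
  haveI := sheafHom_preservesFiniteLimits X.sheaf F
  haveI := sheafHom_preservesFiniteLimits X.sheaf F'
  have h1 := rightDerivedZeroIsoSelf_nat (ExtSupp.sheafHomMap (O := X.sheaf) u) G
  have h2 := sheafHomIso_nat (O := X.sheaf) u G
  change (NatTrans.rightDerived (ExtSupp.sheafHomMap (O := X.sheaf) u) 0).app G ≫
    ((Functor.rightDerivedZeroIsoSelf (ModSite.sheafHom (O := X.sheaf) F')).hom.app G ≫
      (sheafHomIso (O := X.sheaf) F' G).hom) =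
    ((Functor.rightDerivedZeroIsoSelf (ModSite.sheafHom (O := X.sheaf) F)).hom.app G ≫
      (sheafHomIso (O := X.sheaf) F G).hom) ≫ iHomPre (O := X.sheaf) u G
  rw [← Category.assoc, h1, Category.assoc, h2, Category.assoc]

end

end Groth.Agent.LeadExtAff
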