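import Groth.Prelude.Def_SymProd
import Groth.Agent.Lib.Helper20QuotRestrict
import Groth.Agent.Lib.Helper20QuotTop
import Mathlib.AlgebraicGeometry.Limits
import Mathlib.RingTheory.Ideal.Operations

/-! Helper20: affine opens of fibre powers; finite sets of points in affine opens. -/

set_option autoImplicit false
universe u

open CategoryTheory CategoryTheory.Limits AlgebraicGeometry

namespace Groth.Agent.Lib.Helper20

section PrimeAvoidance

variable {X : Scheme.{u}}

/-- Finitely many points of an affine open `U₀` lying in an open `O` have a common basic-open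
(hence affine) neighbourhood inside `U₀ ⊓ O`. -/
theorem exists_affine_finite {U₀ : X.Opens} (hU₀ : IsAffineOpen U₀) (O : X.Opens) (T : Finset X)
    (hT : ∀ t ∈ T, t ∈ U₀ ∧ t ∈ O) :
    ∃ U : X.Opens, IsAffineOpen U ∧ U ≤ U₀ ∧ U ≤ O ∧ ∀ t ∈ T, t ∈ U := by
  classical
  rcases T.eq_empty_or_nonempty with rfl | ⟨t₀, ht₀⟩
  · exact ⟨⊥, isAffineOpen_bot X, bot_le, bot_le, by simp⟩
  -- the ideal of sections whose basic open lies in `O`
  let I : Ideal Γ(X, U₀) :=
    { carrier := {b | X.basicOpen b ≤ O}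
      zero_mem' := by
        change X.basicOpen (0 : Γ(X, U₀)) ≤ O
        rw [Scheme.basicOpen_zero]; exact bot_le
      add_mem' := by
        intro a b ha hb
        exact (X.basicOpen_add_le a b).trans (sup_le ha hb)
      smul_mem' := by
        intro c b hb
        change X.basicOpen (c * b) ≤ O
        rw [Scheme.basicOpen_mul]
        exact inf_le_right.trans hb }
  let F : X → Ideal Γ(X, U₀) := fun t => if h : t ∈ U₀ then evalKer U₀ t h else ⊤
  have hF : ∀ t (ht : t ∈ T), F t = evalKer U₀ t (hT t ht).1 := fun t ht => dif_pos (hT t ht).1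
  have hprime : ∀ i ∈ T, i ≠ t₀ → i ≠ t₀ → (F i).IsPrime := by
    intro i hi _ _
    rw [hF i hi]; infer_instance
  have hnot : ¬ ((I : Set Γ(X, U₀)) ⊆ ⋃ i ∈ (↑T : Set X), F i) := by
    rw [Ideal.subset_union_prime t₀ t₀ hprime]
    rintro ⟨t, ht, hle⟩
    obtain ⟨b, hb, htb⟩ := hU₀.exists_basicOpen_le (V := O) ⟨t, (hT t ht).2⟩ (hT t ht).1
    have : b ∈ F t := hle hb
    rw [hF t ht, mem_evalKer] at this
    exact this htb
  rw [Set.not_subset] at hnot
  obtain ⟨b, hbI, hb⟩ := hnot
  refine ⟨X.basicOpen b, hU₀.basicOpen b, X.basicOpen_le b, hbI, fun t ht => ?_⟩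
  by_contra hcon
  apply hb
  simp only [Set.mem_iUnion]
  refine ⟨t, ht, ?_⟩
  rw [SetLike.mem_coe, hF t ht, mem_evalKer]
  exact hcon

end PrimeAvoidance

section FibPow

variable {X S : Scheme.{u}} (f : X ⟶ S) (d : ℕ)

/-- The open of the fibre power given by `V` on the base and `U` on every factor. -/
noncomputable def fibPowOpen (V : S.Opens) (U : X.Opens) : (SymProd.fibPow f d).Opens :=
  { carrier := ((WidePullback.base (fun _ : Fin d => f)).base ⁻¹' (V : Set S) ∩
      ⋂ i : Fin d, (WidePullback.π (fun _ : Fin d => f) i).base ⁻¹' (U : Set X) :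
        Set ↥(SymProd.fibPow f d))
    is_open' := (V.2.preimage (Scheme.Hom.continuous _)).inter
      (isOpen_iInter_of_finite fun _ => U.2.preimage (Scheme.Hom.continuous _)) }

theorem mem_fibPowOpen {V : S.Opens} {U : X.Opens} {z : ↥(SymProd.fibPow f d)} :
    z ∈ fibPowOpen f d V U ↔ (WidePullback.base (fun _ : Fin d => f)).base z ∈ V ∧
      ∀ i : Fin d, (WidePullback.π (fun _ : Fin d => f) i).base z ∈ U := by
  change z ∈ ((WidePullback.base (fun _ : Fin d => f)).base ⁻¹' (V : Set S) ∩
      ⋂ i : Fin d, (WidePullback.π (fun _ : Fin d => f) i).base ⁻¹' (U : Set X) :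
        Set ↥(SymProd.fibPow f d)) ↔ _
  rw [Set.mem_inter_iff, Set.mem_iInter]
  rfl

theorem resLE_comp_resLE_of_eq' {X Y Z : Scheme.{u}} (f : X ⟶ Y) (g : Y ⟶ Z) (k : X ⟶ Z)
    (hk : f ≫ g = k) (W : Z.Opens) (V : Y.Opens) (V' : X.Opens) (e₁ : V' ≤ f ⁻¹ᵁ V)
    (e₂ : V ≤ g ⁻¹ᵁ W) (e₃ : V' ≤ k ⁻¹ᵁ W) :
    f.resLE V V' e₁ ≫ g.resLE W V e₂ = k.resLE W V' e₃ := by
  subst hk
  exact Scheme.Hom.resLE_comp_resLE f e₁ g e₂

/-- The fibre power of an affine open over an affine open of the base is an affine open of the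
fibre power. -/
theorem isAffineOpen_fibPowOpen {V : S.Opens} {U : X.Opens} (hV : IsAffineOpen V)
    (hU : IsAffineOpen U) (hUV : U ≤ f ⁻¹ᵁ V) : IsAffineOpen (fibPowOpen f d V U) := by
  set W := fibPowOpen f d V U with hW
  have hoi : IsOpenImmersion W.ι := inferInstance
  have hWV : W ≤ (WidePullback.base (fun _ : Fin d => f)) ⁻¹ᵁ V :=
    fun z hz => ((mem_fibPowOpen f d).mp hz).1
  have hWU : ∀ i, W ≤ (WidePullback.π (fun _ : Fin d => f) i) ⁻¹ᵁ U :=
    fun i z hz => ((mem_fibPowOpen f d).mp hz).2 i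
  let F : WidePullbackShape (Fin d) ⥤ Scheme.{u} :=
    WidePullbackShape.wideCospan V.toScheme (fun _ : Fin d => U.toScheme)
      (fun _ => f.resLE V U hUV)
  let c : Cone F := WidePullbackShape.mkCone (F := F)
    ((WidePullback.base (fun _ : Fin d => f)).resLE V W hWV)
    (fun i => (WidePullback.π (fun _ : Fin d => f) i).resLE U W (hWU i))
    (fun i => resLE_comp_resLE_of_eq' _ _ _ (WidePullback.π_arrow _ i) _ _ _ _ _ _)
  let a0 : ∀ s : Cone F, s.pt ⟶ V.toScheme := fun s => s.π.app none
  let a : ∀ (s : Cone F) (_ : Fin d), s.pt ⟶ U.toScheme := fun s i => s.π.app (some i)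
  have hcone : ∀ (s : Cone F) (i : Fin d), a s i ≫ f.resLE V U hUV = a0 s := fun s i =>
    s.w (WidePullbackShape.Hom.term i)
  -- the lift
  have hcompat : ∀ (s : Cone F) (i : Fin d), (a s i ≫ U.ι) ≫ f = a0 s ≫ V.ι := by
    intro s i
    rw [Category.assoc, ← Scheme.Hom.resLE_comp_ι f hUV, ← Category.assoc, hcone s i]
  let g : ∀ s : Cone F, s.pt ⟶ SymProd.fibPow f d := fun s =>
    WidePullback.lift (a0 s ≫ V.ι) (fun i => a s i ≫ U.ι) (hcompat s)
  have hgbase : ∀ s : Cone F, g s ≫ WidePullback.base _ = a0 s ≫ V.ι :=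
    fun s => WidePullback.lift_base _ _ _ _
  have hgπ : ∀ (s : Cone F) (i : Fin d), g s ≫ WidePullback.π _ i = a s i ≫ U.ι :=
    fun s i => WidePullback.lift_π _ _ _ _ i
  have hrange : ∀ s : Cone F, Set.range (g s).base ⊆ Set.range W.ι.base := by
    intro s
    rw [Scheme.Opens.range_ι]
    rintro _ ⟨t, rfl⟩
    change (g s).base t ∈ W
    rw [mem_fibPowOpen]
    constructor
    · have := congrArg (fun k => k.base t) (hgbase s)
      simp only [Scheme.Hom.comp_base, TopCat.hom_comp, ContinuousMap.comp_apply] at this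
      rw [this]
      exact (a0 s t).2
    · intro i
      have := congrArg (fun k => k.base t) (hgπ s i)
      simp only [Scheme.Hom.comp_base, TopCat.hom_comp, ContinuousMap.comp_apply] at this
      rw [this]
      exact (a s i t).2
  let l : ∀ s : Cone F, s.pt ⟶ W.toScheme := fun s =>
    IsOpenImmersion.lift W.ι (g s) (hrange s)
  have hl : ∀ s : Cone F, l s ≫ W.ι = g s := fun s => IsOpenImmersion.lift_fac _ _ _
  have hc : IsLimit c :=
    { lift := fun s => l s
      fac := by
        intro s j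
        have hfac := hl s
        rcases j with _ | i
        · change _ ≫ (WidePullback.base (fun _ : Fin d => f)).resLE V W hWV = a0 s
          rw [← cancel_mono V.ι, Category.assoc, Scheme.Hom.resLE_comp_ι, ← Category.assoc, hfac,
            hgbase]
        · change _ ≫ (WidePullback.π (fun _ : Fin d => f) i).resLE U W (hWU i) = a s i
          rw [← cancel_mono U.ι, Category.assoc, Scheme.Hom.resLE_comp_ι, ← Category.assoc, hfac,
            hgπ]
      uniq := by
        intro s m hm
        let m' : s.pt ⟶ W.toScheme := m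
        change m' = l s
        have hm0 : m' ≫ (WidePullback.base (fun _ : Fin d => f)).resLE V W hWV = a0 s := hm none
        have hmi : ∀ i, m' ≫ (WidePullback.π (fun _ : Fin d => f) i).resLE U W (hWU i) = a s i :=
          fun i => hm (some i)
        rw [← cancel_mono W.ι, hl]
        apply WidePullback.hom_ext
        · intro i
          rw [hgπ, Category.assoc, ← Scheme.Hom.resLE_comp_ι _ (hWU i), ← Category.assoc, hmi]
        · rw [hgbase, Category.assoc, ← Scheme.Hom.resLE_comp_ι _ hWV, ← Category.assoc, hm0] }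
  have haff : ∀ j, IsAffine (F.obj j) := by
    rintro (_ | j)
    · exact hV
    · exact hU
  exact Scheme.isAffine_of_isLimit c hc

end FibPow

section Stable

open SGA1

variable {X Y : Scheme.{u}} {G : Type u} [Group G] [Finite G] {ρ : G →* Aut X} {p : X ⟶ Y}

/-- A stable open of `X` is the preimage of an open of the quotient. -/
theorem exists_open_of_stable (hp : IsQuot ρ p) (W : X.Opens)
    (hW : ∀ g : G, (ρ g).hom ⁻¹ᵁ W = W) : ∃ W' : Y.Opens, p ⁻¹ᵁ W' = W := by
  have hpre : p.base ⁻¹' (p.base '' (W : Set X)) = (W : Set X) := by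
    apply Set.Subset.antisymm
    · rintro z ⟨w, hw, hwz⟩
      obtain ⟨g, rfl⟩ := (fibre_iff_orbit hp w z).mp hwz
      have : w ∈ (ρ g).hom ⁻¹ᵁ W := by rw [hW]; exact hw
      exact this
    · exact Set.subset_preimage_image _ _
  have hopen : IsOpen (p.base '' (W : Set X)) := by
    rw [← (isQuotientMap_of_isQuot hp).isOpen_preimage, hpre]
    exact W.2
  refine ⟨⟨_, hopen⟩, ?_⟩
  ext z
  exact Set.ext_iff.mp hpre z

end Stable

end Groth.Agent.Lib.Helper20
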