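import Groth.Agent.Lib.Helper20UHStep

/-!
# Towers of elementary extensions (helper20)
-/

universe u

namespace Groth.Agent.Lib.Helper20.Tower

variable {A B : Type*} [CommRing A] [CommRing B] [Algebra A B]

/-- The subalgebra generated by the first `i` entries of a list. -/
def pre (A : Type*) {B : Type*} [CommRing A] [CommRing B] [Algebra A B] (l : List B) (i : ℕ) :
    Subalgebra A B :=
  Algebra.adjoin A {b | b ∈ l.take i}

theorem set_eq (l : List B) (i : Fin l.length) :
    {b : B | ∃ j : Fin l.length, j < i ∧ b = l.get j} = {b | b ∈ l.take i} := by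
  ext b
  simp only [Set.mem_setOf_eq, List.mem_take_iff_getElem]
  constructor
  · rintro ⟨j, hji, rfl⟩
    exact ⟨j, by have := j.2; have : (j : ℕ) < i := hji; omega, rfl⟩
  · rintro ⟨k, hk, rfl⟩
    have hk1 : k < i := by omega
    have hk2 : k < l.length := by omega
    exact ⟨⟨k, hk2⟩, hk1, rfl⟩

theorem pre_eq (l : List B) (i : Fin l.length) :
    Algebra.adjoin A {b : B | ∃ j : Fin l.length, j < i ∧ b = l.get j} = pre A l i := by
  unfold pre
  rw [set_eq]

theorem pre_length (l : List B) : pre A l l.length = Algebra.adjoin A {b | b ∈ l} := by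
  unfold pre
  rw [List.take_length]

theorem pre_le (l : List B) (i : ℕ) : pre A l i ≤ Algebra.adjoin A {b | b ∈ l} := by
  apply Algebra.adjoin_mono
  intro b hb
  exact List.mem_of_mem_take hb

/-- Towers for a step predicate. -/
def IsTower (St : Subalgebra A B → B → Prop) (l : List B) : Prop :=
  ∀ i : Fin l.length, St (pre A l i) (l.get i)

theorem isTower_iff (St : Subalgebra A B → B → Prop) (l : List B) :
    IsTower St l ↔ ∀ i : Fin l.length,
      St (Algebra.adjoin A {b : B | ∃ j : Fin l.length, j < i ∧ b = l.get j}) (l.get i) := by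
  unfold IsTower
  refine forall_congr' fun i => ?_
  rw [pre_eq]

theorem isTower_nil (St : Subalgebra A B → B → Prop) : IsTower St ([] : List B) :=
  fun i => i.elim0

variable {St : Subalgebra A B → B → Prop}

theorem isTower_append (hmono : ∀ (T T' : Subalgebra A B) (b : B), T ≤ T' → St T b → St T' b)
    {l₁ l₂ : List B} (h₁ : IsTower St l₁) (h₂ : IsTower St l₂) : IsTower St (l₁ ++ l₂) := by
  intro i
  by_cases hi : i.val < l₁.length
  · have e1 : (l₁ ++ l₂).get i = l₁.get ⟨i, hi⟩ := by
      simp [List.getElem_append_left hi]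
    have e2 : pre A (l₁ ++ l₂) i = pre A l₁ i := by
      unfold pre
      rw [List.take_append_of_le_length hi.le]
    rw [e1, e2]
    exact h₁ ⟨i, hi⟩
  · push Not at hi
    have hk : i.val - l₁.length < l₂.length := by
      have := i.2
      simp only [List.length_append] at this
      omega
    have e1 : (l₁ ++ l₂).get i = l₂.get ⟨i - l₁.length, hk⟩ := by
      simp [List.getElem_append_right hi]
    rw [e1]
    apply hmono _ _ _ ?_ (h₂ ⟨_, hk⟩)
    apply Algebra.adjoin_mono
    intro b hb
    show b ∈ (l₁ ++ l₂).take i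
    rw [List.take_append]
    exact List.mem_append_right _ hb

theorem isTower_concat (hmono : ∀ (T T' : Subalgebra A B) (b : B), T ≤ T' → St T b → St T' b)
    {l : List B} (h : IsTower St l) {b : B} (hb : St (Algebra.adjoin A {x | x ∈ l}) b) :
    IsTower St (l ++ [b]) := by
  intro i
  by_cases hi : i.val < l.length
  · have e1 : (l ++ [b]).get i = l.get ⟨i, hi⟩ := by
      simp [List.getElem_append_left hi]
    have e2 : pre A (l ++ [b]) i = pre A l i := by
      unfold pre
      rw [List.take_append_of_le_length hi.le]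
    rw [e1, e2]
    exact h ⟨i, hi⟩
  · push Not at hi
    have hi2 : i.val = l.length := by
      have := i.2
      simp only [List.length_append, List.length_singleton] at this
      omega
    have e1 : (l ++ [b]).get i = b := by
      simp [List.getElem_append_right hi, hi2]
    have e2 : pre A (l ++ [b]) i = Algebra.adjoin A {x | x ∈ l} := by
      unfold pre
      rw [hi2, List.take_append_of_le_length le_rfl, List.take_length]
    rw [e1, e2]
    exact hb

theorem adjoin_le_append_left (l₁ l₂ : List B) :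
    Algebra.adjoin A {x | x ∈ l₁} ≤ Algebra.adjoin A {x | x ∈ l₁ ++ l₂} :=
  Algebra.adjoin_mono fun _ hx => List.mem_append_left _ hx

theorem adjoin_le_append_right (l₁ l₂ : List B) :
    Algebra.adjoin A {x | x ∈ l₂} ≤ Algebra.adjoin A {x | x ∈ l₁ ++ l₂} :=
  Algebra.adjoin_mono fun _ hx => List.mem_append_right _ hx

/-- Tower induction. -/
theorem adjoin_le_of_isTower (S : Subalgebra A B)
    (hS : ∀ (T : Subalgebra A B) (b : B), T ≤ S → St T b → b ∈ S) {l : List B}
    (hl : IsTower St l) : Algebra.adjoin A {b | b ∈ l} ≤ S := by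
  have key : ∀ i : ℕ, i ≤ l.length → pre A l i ≤ S := by
    intro i
    induction i with
    | zero =>
      intro _
      unfold pre
      rw [List.take_zero]
      apply Algebra.adjoin_le
      intro b hb
      simp at hb
    | succ i ih =>
      intro hi
      have hi' : i < l.length := hi
      have ih' := ih hi'.le
      unfold pre
      apply Algebra.adjoin_le
      intro b hb
      have hb' : b ∈ l.take (i + 1) := hb
      rw [List.take_succ_eq_append_getElem hi', List.mem_append, List.mem_singleton] at hb'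
      rcases hb' with hb' | rfl
      · exact ih' (Algebra.subset_adjoin hb')
      · exact hS _ _ ih' (hl ⟨i, hi'⟩)
  rw [← pre_length]
  exact key _ le_rfl

variable (St)

/-- The union of all towers. -/
def towerUnion (hmono : ∀ (T T' : Subalgebra A B) (b : B), T ≤ T' → St T b → St T' b) :
    Subalgebra A B where
  carrier := {b | ∃ l : List B, IsTower St l ∧ b ∈ Algebra.adjoin A {x | x ∈ l}}
  mul_mem' := by
    rintro x y ⟨l₁, h₁, hx⟩ ⟨l₂, h₂, hy⟩
    exact ⟨l₁ ++ l₂, isTower_append hmono h₁ h₂,
      Subalgebra.mul_mem _ (adjoin_le_append_left l₁ l₂ hx) (adjoin_le_append_right l₁ l₂ hy)⟩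
  add_mem' := by
    rintro x y ⟨l₁, h₁, hx⟩ ⟨l₂, h₂, hy⟩
    exact ⟨l₁ ++ l₂, isTower_append hmono h₁ h₂,
      Subalgebra.add_mem _ (adjoin_le_append_left l₁ l₂ hx) (adjoin_le_append_right l₁ l₂ hy)⟩
  algebraMap_mem' := fun a => ⟨[], isTower_nil St, Subalgebra.algebraMap_mem _ a⟩

variable {St}

theorem mem_towerUnion (hmono : ∀ (T T' : Subalgebra A B) (b : B), T ≤ T' → St T b → St T' b)
    (b : B) : b ∈ towerUnion St hmono ↔
      ∃ l : List B, IsTower St l ∧ b ∈ Algebra.adjoin A {x | x ∈ l} := Iff.rfl

theorem exists_tower_two (hmono : ∀ (T T' : Subalgebra A B) (b : B), T ≤ T' → St T b → St T' b)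
    {x y : B} (hx : x ∈ towerUnion St hmono) (hy : y ∈ towerUnion St hmono) :
    ∃ l : List B, IsTower St l ∧ x ∈ Algebra.adjoin A {z | z ∈ l} ∧
      y ∈ Algebra.adjoin A {z | z ∈ l} := by
  obtain ⟨l₁, h₁, hx⟩ := hx
  obtain ⟨l₂, h₂, hy⟩ := hy
  exact ⟨l₁ ++ l₂, isTower_append hmono h₁ h₂, adjoin_le_append_left l₁ l₂ hx,
    adjoin_le_append_right l₁ l₂ hy⟩

theorem exists_tower_finset [DecidableEq B]
    (hmono : ∀ (T T' : Subalgebra A B) (b : B), T ≤ T' → St T b → St T' b)
    (E : Finset B) (hE : ∀ b ∈ E, b ∈ towerUnion St hmono) :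
    ∃ l : List B, IsTower St l ∧ (↑E : Set B) ⊆ Algebra.adjoin A {z | z ∈ l} := by
  induction E using Finset.induction_on with
  | empty => exact ⟨[], isTower_nil St, by simp⟩
  | insert b E hbE ih =>
    obtain ⟨l₁, h₁, hE₁⟩ := ih (fun x hx => hE x (Finset.mem_insert_of_mem hx))
    obtain ⟨l₂, h₂, hb⟩ := hE b (Finset.mem_insert_self b E)
    refine ⟨l₁ ++ l₂, isTower_append hmono h₁ h₂, ?_⟩
    intro x hx
    rw [Finset.coe_insert] at hx
    rcases hx with rfl | hx
    · exact adjoin_le_append_right l₁ l₂ hb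
    · exact adjoin_le_append_left l₁ l₂ (hE₁ hx)

end Groth.Agent.Lib.Helper20.Tower
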