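import Groth.Agent.Lib.Helper20AWNRing

/-!
# Towers under algebra maps (helper20)
-/

universe u

namespace Groth.Agent.Lib.Helper20.Tower

open Groth.Agent.Lib.Helper20.AWN Groth.Agent.Lib.Helper20.EtaPt

section Map

variable {A B C : Type u} [CommRing A] [CommRing B] [CommRing C] [Algebra A B] [Algebra A C]

theorem isTower_iff_getElem (St : Subalgebra A B → B → Prop) (l : List B) :
    IsTower St l ↔ ∀ (i : ℕ) (h : i < l.length), St (pre A l i) l[i] := by
  constructor
  · intro h i hi
    exact h ⟨i, hi⟩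
  · intro h i
    exact h i i.2

theorem adjoin_map_list (g : C →ₐ[A] B) (l : List C) :
    Algebra.adjoin A {b | b ∈ l.map g} = (Algebra.adjoin A {c | c ∈ l}).map g := by
  rw [AlgHom.map_adjoin]
  congr 1
  ext b
  simp only [List.mem_map, Set.mem_ofPred_eq, Set.mem_image]

theorem pre_map (g : C →ₐ[A] B) (l : List C) (i : ℕ) :
    pre A (l.map g) i = (pre A l i).map g := by
  unfold pre
  rw [← List.map_take, adjoin_map_list]

theorem isTower_map_St2 (g : C →ₐ[A] B) {l : List C} (h : IsTower (St2 (A := A)) l) :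
    IsTower (St2 (A := A)) (l.map g) := by
  rw [isTower_iff_getElem] at h ⊢
  intro i hi
  have hi' : i < l.length := by simpa using hi
  rw [pre_map, List.getElem_map]
  obtain ⟨h2, h3⟩ := h i hi'
  exact ⟨⟨_, h2, by rw [map_pow]; rfl⟩, ⟨_, h3, by rw [map_pow]; rfl⟩⟩

theorem isTower_map_StP (g : C →ₐ[A] B) {l : List C} (h : IsTower (StP (A := A)) l) :
    IsTower (StP (A := A)) (l.map g) := by
  rw [isTower_iff_getElem] at h ⊢
  intro i hi
  have hi' : i < l.length := by simpa using hi
  rw [pre_map, List.getElem_map]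
  rcases h i hi' with ⟨h2, h3⟩ | ⟨p, hp, h1, h2⟩
  · exact Or.inl ⟨⟨_, h2, by rw [map_pow]; rfl⟩, ⟨_, h3, by rw [map_pow]; rfl⟩⟩
  · exact Or.inr ⟨p, hp, ⟨_, h1, by rw [map_mul, map_natCast]; rfl⟩, ⟨_, h2, by rw [map_pow]; rfl⟩⟩

theorem isTower_of_map_injective_St2 (g : C →ₐ[A] B) (hg : Function.Injective g) {l : List C}
    (h : IsTower (St2 (A := A)) (l.map g)) : IsTower (St2 (A := A)) l := by
  rw [isTower_iff_getElem] at h ⊢
  intro i hi
  have hi' : i < (l.map g).length := by simpa using hi
  have := h i hi'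
  rw [pre_map, List.getElem_map] at this
  obtain ⟨⟨x, hx, hx'⟩, ⟨y, hy, hy'⟩⟩ := this
  refine ⟨?_, ?_⟩
  · have : x = l[i] ^ 2 := hg (by rw [map_pow]; exact hx')
    rw [← this]; exact hx
  · have : y = l[i] ^ 3 := hg (by rw [map_pow]; exact hy')
    rw [← this]; exact hy

theorem mem_adjoin_of_map_injective (g : C →ₐ[A] B) (hg : Function.Injective g) {l : List C}
    {c : C} (h : g c ∈ Algebra.adjoin A {b | b ∈ l.map g}) :
    c ∈ Algebra.adjoin A {x | x ∈ l} := by
  rw [adjoin_map_list] at h
  obtain ⟨z, hz, hz'⟩ := h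
  have : z = c := hg hz'
  rw [← this]; exact hz

end Map

section Sub

variable {A B : Type u} [CommRing A] [CommRing B] [Algebra A B]

theorem isIntegral_of_towers
    (h : ∀ b : B, ∃ l : List B, IsTower (StP (A := A)) l ∧ b ∈ Algebra.adjoin A {x | x ∈ l}) :
    (algebraMap A B).IsIntegral := by
  intro b
  obtain ⟨l, hl, hb⟩ := h b
  have hle : Algebra.adjoin A {x | x ∈ l} ≤ integralClosure A B := by
    apply adjoin_le_of_isTower _ _ hl
    intro T b hT hb
    rcases hb with ⟨h2, -⟩ | ⟨p, hp, -, h2⟩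
    · exact IsIntegral.of_pow (n := 2) (by norm_num) (hT h2)
    · exact IsIntegral.of_pow hp.pos (hT h2)
  exact hle hb

/-- Towers give `UH`, assuming surjectivity on spectra. -/
theorem UH_of_towers_of_surjective
    (hs : Function.Surjective (PrimeSpectrum.comap (algebraMap A B)))
    (h : ∀ b : B, ∃ l : List B, IsTower (StP (A := A)) l ∧ b ∈ Algebra.adjoin A {x | x ∈ l}) :
    UH (algebraMap A B) := by
  refine ⟨isIntegral_of_towers h, hs, ?_⟩
  intro K _ χ₁ χ₂ hχ
  let S : Subalgebra A B :=
    { carrier := {x | χ₁ x = χ₂ x}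
      mul_mem' := by
        intro x y hx hy
        show χ₁ (x * y) = χ₂ (x * y)
        rw [map_mul, map_mul, hx, hy]
      add_mem' := by
        intro x y hx hy
        show χ₁ (x + y) = χ₂ (x + y)
        rw [map_add, map_add, hx, hy]
      algebraMap_mem' := fun a => RingHom.congr_fun hχ a }
  refine RingHom.ext fun b => ?_
  obtain ⟨l, hl, hb⟩ := h b
  have hle : Algebra.adjoin A {x | x ∈ l} ≤ S := by
    apply adjoin_le_of_isTower _ _ hl
    intro T b hT hb
    show χ₁ b = χ₂ b
    rcases hb with ⟨h2, h3⟩ | ⟨p, hp, h1, h2⟩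
    · apply eq_of_sq_cube
      · have : χ₁ (b ^ 2) = χ₂ (b ^ 2) := hT h2
        rwa [map_pow, map_pow] at this
      · have : χ₁ (b ^ 3) = χ₂ (b ^ 3) := hT h3
        rwa [map_pow, map_pow] at this
    · apply eq_of_prime p hp
      · have : χ₁ ((p : B) * b) = χ₂ ((p : B) * b) := hT h1
        rwa [map_mul, map_mul, map_natCast, map_natCast] at this
      · have : χ₁ (b ^ p) = χ₂ (b ^ p) := hT h2
        rwa [map_pow, map_pow] at this
  exact hle hb

theorem UH_of_towers_of_ker_le (hker : RingHom.ker (algebraMap A B) ≤ nilradical A)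
    (h : ∀ b : B, ∃ l : List B, IsTower (StP (A := A)) l ∧ b ∈ Algebra.adjoin A {x | x ∈ l}) :
    UH (algebraMap A B) :=
  UH_of_towers_of_surjective
    (comap_surjective_of_isIntegral_of_ker_le' _ (isIntegral_of_towers h) hker) h

/-- Every element of the union of towers lies in a tower of elements of the union. -/
theorem exists_tower_in_towerUnion_St2 (b : towerUnion (St2 (A := A) (B := B)) St2_mono) :
    ∃ l : List (towerUnion (St2 (A := A) (B := B)) St2_mono),
      IsTower (St2 (A := A)) l ∧ b ∈ Algebra.adjoin A {x | x ∈ l} := by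
  obtain ⟨l, hl, hb⟩ := b.2
  have hmem : ∀ x ∈ l, x ∈ towerUnion (St2 (A := A) (B := B)) St2_mono :=
    fun x hx => ⟨l, hl, Algebra.subset_adjoin hx⟩
  let l' : List (towerUnion (St2 (A := A) (B := B)) St2_mono) :=
    l.pmap (fun x hx => ⟨x, hx⟩) hmem
  have hmap : l'.map (towerUnion (St2 (A := A) (B := B)) St2_mono).val = l := by
    show (l.pmap (fun x hx => (⟨x, hx⟩ : towerUnion (St2 (A := A) (B := B)) St2_mono)) hmem).map
      (towerUnion (St2 (A := A) (B := B)) St2_mono).val = l
    rw [List.map_pmap]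
    simp
  refine ⟨l', ?_, ?_⟩
  · apply isTower_of_map_injective_St2 (towerUnion (St2 (A := A) (B := B)) St2_mono).val
      Subtype.val_injective
    rw [hmap]
    exact hl
  · apply mem_adjoin_of_map_injective (towerUnion (St2 (A := A) (B := B)) St2_mono).val
      Subtype.val_injective
    rw [hmap]
    exact hb

end Sub

end Groth.Agent.Lib.Helper20.Tower
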