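import Groth.Agent.Lib.Helper20TowerMap

/-!
# Towers under algebra maps, II (helper20)
-/

universe u

namespace Groth.Agent.Lib.Helper20.Tower

open Groth.Agent.Lib.Helper20.AWN Groth.Agent.Lib.Helper20.EtaPt

section Map

variable {A B C : Type u} [CommRing A] [CommRing B] [CommRing C] [Algebra A B] [Algebra A C]

theorem isTower_of_map_injective_StP (g : C →ₐ[A] B) (hg : Function.Injective g) {l : List C}
    (h : IsTower (StP (A := A)) (l.map g)) : IsTower (StP (A := A)) l := by
  rw [isTower_iff_getElem] at h ⊢
  intro i hi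
  have hi' : i < (l.map g).length := by simpa using hi
  have := h i hi'
  rw [pre_map, List.getElem_map] at this
  rcases this with ⟨⟨x, hx, hx'⟩, ⟨y, hy, hy'⟩⟩ | ⟨p, hp, ⟨x, hx, hx'⟩, ⟨y, hy, hy'⟩⟩
  · refine Or.inl ⟨?_, ?_⟩
    · have : x = l[i] ^ 2 := hg (by rw [map_pow]; exact hx')
      rw [← this]; exact hx
    · have : y = l[i] ^ 3 := hg (by rw [map_pow]; exact hy')
      rw [← this]; exact hy
  · refine Or.inr ⟨p, hp, ?_, ?_⟩
    · have : x = (p : C) * l[i] := hg (by rw [map_mul, map_natCast]; exact hx')
      rw [← this]; exact hx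
    · have : y = l[i] ^ p := hg (by rw [map_pow]; exact hy')
      rw [← this]; exact hy

end Map

section Sub

variable {A B : Type u} [CommRing A] [CommRing B] [Algebra A B]

/-- Every element of the union of towers lies in a tower of elements of the union. -/
theorem exists_tower_in_towerUnion_StP (b : towerUnion (StP (A := A) (B := B)) StP_mono) :
    ∃ l : List (towerUnion (StP (A := A) (B := B)) StP_mono),
      IsTower (StP (A := A)) l ∧ b ∈ Algebra.adjoin A {x | x ∈ l} := by
  obtain ⟨l, hl, hb⟩ := b.2
  have hmem : ∀ x ∈ l, x ∈ towerUnion (StP (A := A) (B := B)) StP_mono :=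
    fun x hx => ⟨l, hl, Algebra.subset_adjoin hx⟩
  let l' : List (towerUnion (StP (A := A) (B := B)) StP_mono) :=
    l.pmap (fun x hx => ⟨x, hx⟩) hmem
  have hmap : l'.map (towerUnion (StP (A := A) (B := B)) StP_mono).val = l := by
    show (l.pmap (fun x hx => (⟨x, hx⟩ : towerUnion (StP (A := A) (B := B)) StP_mono)) hmem).map
      (towerUnion (StP (A := A) (B := B)) StP_mono).val = l
    rw [List.map_pmap]
    simp
  refine ⟨l', ?_, ?_⟩
  · apply isTower_of_map_injective_StP (towerUnion (StP (A := A) (B := B)) StP_mono).val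
      Subtype.val_injective
    rw [hmap]
    exact hl
  · apply mem_adjoin_of_map_injective (towerUnion (StP (A := A) (B := B)) StP_mono).val
      Subtype.val_injective
    rw [hmap]
    exact hb

end Sub

end Groth.Agent.Lib.Helper20.Tower
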