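import Groth.Agent.Lib.Helper20Tower

/-!
# Universal homeomorphisms of rings as unions of towers of elementary extensions (helper20)
-/

universe u

namespace Groth.Agent.Lib.Helper20.Tower

open Groth.Agent.Lib.Helper20.AWN Groth.Agent.Lib.Helper20.EtaPt

variable {A B : Type u} [CommRing A] [CommRing B] [Algebra A B]

/-- The square-cube step. -/
def St2 (T : Subalgebra A B) (b : B) : Prop := b ^ 2 ∈ T ∧ b ^ 3 ∈ T

/-- The square-cube or prime step. -/
def StP (T : Subalgebra A B) (b : B) : Prop :=
  (b ^ 2 ∈ T ∧ b ^ 3 ∈ T) ∨ ∃ p : ℕ, p.Prime ∧ (p : B) * b ∈ T ∧ b ^ p ∈ T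

theorem St2_mono (T T' : Subalgebra A B) (b : B) (h : T ≤ T') (hb : St2 T b) : St2 T' b :=
  ⟨h hb.1, h hb.2⟩

theorem StP_mono (T T' : Subalgebra A B) (b : B) (h : T ≤ T') (hb : StP T b) : StP T' b := by
  rcases hb with hb | ⟨p, hp, h1, h2⟩
  · exact Or.inl ⟨h hb.1, h hb.2⟩
  · exact Or.inr ⟨p, hp, h h1, h h2⟩

theorem isTower_StP_of_St2 {l : List B} (h : IsTower (St2 (A := A)) l) :
    IsTower (StP (A := A)) l := fun i => Or.inl (h i)

/-- Two elements of a field with the same squares and cubes are equal. -/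
theorem eq_of_sq_cube {K : Type*} [Field K] {u v : K} (h2 : u ^ 2 = v ^ 2) (h3 : u ^ 3 = v ^ 3) :
    u = v := by
  by_cases hu : u = 0
  · subst hu
    have : v ^ 2 = 0 := by rw [← h2]; ring
    exact (pow_eq_zero_iff (by norm_num)).mp this |>.symm
  · have hu2 : u ^ 2 ≠ 0 := pow_ne_zero _ hu
    have e1 : u = u ^ 3 / u ^ 2 := by field_simp
    have hv : v ≠ 0 := by
      intro hv
      rw [hv] at h2
      exact hu2 (by rw [h2]; ring)
    have e2 : v = v ^ 3 / v ^ 2 := by field_simp
    rw [e1, e2, h2, h3]

/-- Two elements of a field with `p u = p v` and `u ^ p = v ^ p` are equal. -/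
theorem eq_of_prime {K : Type*} [Field K] {u v : K} (p : ℕ) (hp : p.Prime)
    (h1 : (p : K) * u = (p : K) * v) (h2 : u ^ p = v ^ p) : u = v := by
  by_cases h0 : (p : K) = 0
  · haveI : Fact p.Prime := ⟨hp⟩
    haveI : CharP K p := (CharP.charP_iff_prime_eq_zero hp).mpr h0
    exact frobenius_inj K p h2
  · exact mul_left_cancel₀ h0 h1

/-- Towers give `UH`. -/
theorem UH_of_towers (hinj : Function.Injective (algebraMap A B))
    (h : ∀ b : B, ∃ l : List B, IsTower (StP (A := A)) l ∧ b ∈ Algebra.adjoin A {x | x ∈ l}) :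
    UH (algebraMap A B) := by
  have hint : (algebraMap A B).IsIntegral := by
    intro b
    obtain ⟨l, hl, hb⟩ := h b
    have hle : Algebra.adjoin A {x | x ∈ l} ≤ integralClosure A B := by
      apply adjoin_le_of_isTower _ _ hl
      intro T b hT hb
      rcases hb with ⟨h2, -⟩ | ⟨p, hp, -, h2⟩
      · exact IsIntegral.of_pow (n := 2) (by norm_num) (hT h2)
      · exact IsIntegral.of_pow hp.pos (hT h2)
    exact hle hb
  refine ⟨hint, RingHom.IsIntegral.comap_surjective hint hinj, ?_⟩
  intro K _ χ₁ χ₂ hχ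
  let S : Subalgebra A B :=
    { carrier := {x | χ₁ x = χ₂ x}
      mul_mem' := by
        intro x y hx hy
        show χ₁ (x * y) = χ₂ (x * y)
        rw [map_mul, map_mul, hx, hy]
      add_mem' := by
        intro x y hx hy
        show χ₁ (x + y) = χ₂ (x + y)
        rw [map_add, map_add, hx, hy]
      algebraMap_mem' := fun a => RingHom.congr_fun hχ a }
  refine RingHom.ext fun b => ?_
  obtain ⟨l, hl, hb⟩ := h b
  have hle : Algebra.adjoin A {x | x ∈ l} ≤ S := by
    apply adjoin_le_of_isTower _ _ hl
    intro T b hT hb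
    show χ₁ b = χ₂ b
    rcases hb with ⟨h2, h3⟩ | ⟨p, hp, h1, h2⟩
    · apply eq_of_sq_cube
      · have : χ₁ (b ^ 2) = χ₂ (b ^ 2) := hT h2
        rwa [map_pow, map_pow] at this
      · have : χ₁ (b ^ 3) = χ₂ (b ^ 3) := hT h3
        rwa [map_pow, map_pow] at this
    · apply eq_of_prime p hp
      · have : χ₁ ((p : B) * b) = χ₂ ((p : B) * b) := hT h1
        rwa [map_mul, map_mul, map_natCast, map_natCast] at this
      · have : χ₁ (b ^ p) = χ₂ (b ^ p) := hT h2
        rwa [map_pow, map_pow] at this
  exact hle hb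

theorem UH_val_towerUnion {St : Subalgebra A B → B → Prop}
    (hmono : ∀ (T T' : Subalgebra A B) (b : B), T ≤ T' → St T b → St T' b)
    (hUH : UH (algebraMap A B)) : UH (algebraMap (towerUnion St hmono) B) := by
  have hι_int : (algebraMap (towerUnion St hmono) B).IsIntegral := by
    intro b
    exact (show IsIntegral A b from hUH.1 b).tower_top
  exact UH_of_comp_right (algebraMap A (towerUnion St hmono)) (algebraMap (towerUnion St hmono) B)
    Subtype.val_injective hι_int hUH

/-- `UH` gives towers. -/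
theorem towers_of_UH (hUH : UH (algebraMap A B)) (b : B) :
    ∃ l : List B, IsTower (StP (A := A)) l ∧ b ∈ Algebra.adjoin A {x | x ∈ l} := by
  have htop : towerUnion (StP (A := A) (B := B)) StP_mono = ⊤ := by
    apply eq_top_of_closed _ (UH_val_towerUnion StP_mono hUH)
    · intro b h2 h3
      obtain ⟨l, hl, hx, hy⟩ := exists_tower_two StP_mono h2 h3
      exact ⟨l ++ [b], isTower_concat StP_mono hl (Or.inl ⟨hx, hy⟩),
        Algebra.subset_adjoin (by simp)⟩
    · intro p hp b h1 h2
      obtain ⟨l, hl, hx, hy⟩ := exists_tower_two StP_mono h1 h2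
      exact ⟨l ++ [b], isTower_concat StP_mono hl (Or.inr ⟨p, hp, hx, hy⟩),
        Algebra.subset_adjoin (by simp)⟩
  have hb : b ∈ towerUnion (StP (A := A) (B := B)) StP_mono := htop ▸ Algebra.mem_top
  exact hb

/-- Residue field surjectivity from square-cube towers. -/
theorem residue_surjective_of_towers
    (h : ∀ b : B, ∃ l : List B, IsTower (St2 (A := A)) l ∧ b ∈ Algebra.adjoin A {x | x ∈ l})
    (Q : PrimeSpectrum B) :
    Function.Surjective (Ideal.ResidueField.map
      (PrimeSpectrum.comap (algebraMap A B) Q).asIdeal Q.asIdeal (algebraMap A B) rfl) := by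
  set ι := Ideal.ResidueField.map
      (PrimeSpectrum.comap (algebraMap A B) Q).asIdeal Q.asIdeal (algebraMap A B) rfl with hι
  let S : Subalgebra A B :=
    { carrier := {x | algebraMap B Q.asIdeal.ResidueField x ∈ ι.fieldRange}
      mul_mem' := by
        intro x y hx hy
        show algebraMap B Q.asIdeal.ResidueField (x * y) ∈ ι.fieldRange
        rw [map_mul]
        exact mul_mem hx hy
      add_mem' := by
        intro x y hx hy
        show algebraMap B Q.asIdeal.ResidueField (x + y) ∈ ι.fieldRange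
        rw [map_add]
        exact add_mem hx hy
      algebraMap_mem' := fun a =>
        ⟨algebraMap A _ a, Ideal.ResidueField.map_algebraMap _ _ _ rfl a⟩ }
  have hall : ∀ b : B, algebraMap B Q.asIdeal.ResidueField b ∈ ι.fieldRange := by
    intro b
    obtain ⟨l, hl, hb⟩ := h b
    have hle : Algebra.adjoin A {x | x ∈ l} ≤ S := by
      apply adjoin_le_of_isTower _ _ hl
      intro T b hT hb
      show algebraMap B Q.asIdeal.ResidueField b ∈ ι.fieldRange
      have h2 : algebraMap B Q.asIdeal.ResidueField (b ^ 2) ∈ ι.fieldRange := hT hb.1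
      have h3 : algebraMap B Q.asIdeal.ResidueField (b ^ 3) ∈ ι.fieldRange := hT hb.2
      rw [map_pow] at h2 h3
      by_cases hz : algebraMap B Q.asIdeal.ResidueField b = 0
      · rw [hz]; exact zero_mem _
      · have e : algebraMap B Q.asIdeal.ResidueField b =
            algebraMap B Q.asIdeal.ResidueField b ^ 3 *
              (algebraMap B Q.asIdeal.ResidueField b ^ 2)⁻¹ := by
          field_simp
        rw [e]
        exact mul_mem h3 (inv_mem h2)
    exact hle hb
  intro y
  obtain ⟨t, ht, a, hta⟩ := exists_mul_eq_algebraMap Q.asIdeal y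
  have ht0 : algebraMap B Q.asIdeal.ResidueField t ≠ 0 := by
    intro h0
    exact ht (Ideal.algebraMap_residueField_eq_zero.mp h0)
  have e : y = algebraMap B Q.asIdeal.ResidueField a *
      (algebraMap B Q.asIdeal.ResidueField t)⁻¹ := by
    rw [← hta]; field_simp
  have hy : y ∈ ι.fieldRange := by
    rw [e]
    exact mul_mem (hall a) (inv_mem (hall t))
  exact hy

/-- `UH` with trivial residue field extensions gives square-cube towers. -/
theorem towers_of_UH_of_residue (hUH : UH (algebraMap A B))
    (hres : ∀ Q : PrimeSpectrum B, Function.Surjective (Ideal.ResidueField.map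
      (PrimeSpectrum.comap (algebraMap A B) Q).asIdeal Q.asIdeal (algebraMap A B) rfl)) (b : B) :
    ∃ l : List B, IsTower (St2 (A := A)) l ∧ b ∈ Algebra.adjoin A {x | x ∈ l} := by
  have htop : towerUnion (St2 (A := A) (B := B)) St2_mono = ⊤ := by
    apply eq_top_of_closed_of_residue _ (UH_val_towerUnion St2_mono hUH)
    · intro Q
      have hcomp := residueField_map_comp
        (PrimeSpectrum.comap (algebraMap A (towerUnion (St2 (A := A) (B := B)) St2_mono))
          (PrimeSpectrum.comap (algebraMap (towerUnion (St2 (A := A) (B := B)) St2_mono) B) Q)).asIdeal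
        (PrimeSpectrum.comap (algebraMap (towerUnion (St2 (A := A) (B := B)) St2_mono) B) Q).asIdeal
        Q.asIdeal (algebraMap A (towerUnion (St2 (A := A) (B := B)) St2_mono))
        (algebraMap (towerUnion (St2 (A := A) (B := B)) St2_mono) B) rfl rfl rfl
      intro z
      obtain ⟨y, hy⟩ := hres Q z
      refine ⟨Ideal.ResidueField.map _ _ (algebraMap A (towerUnion (St2 (A := A) (B := B)) St2_mono)) rfl y,
        ?_⟩
      rw [← hy]
      exact (RingHom.congr_fun hcomp y).symm
    · intro b h2 h3
      obtain ⟨l, hl, hx, hy⟩ := exists_tower_two St2_mono h2 h3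
      exact ⟨l ++ [b], isTower_concat St2_mono hl ⟨hx, hy⟩, Algebra.subset_adjoin (by simp)⟩
  have hb : b ∈ towerUnion (St2 (A := A) (B := B)) St2_mono := htop ▸ Algebra.mem_top
  exact hb

end Groth.Agent.Lib.Helper20.Tower
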