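import Mathlib
import Groth.Prelude.Def_QFDual
import Groth.Prelude.Def_EGA4b

set_option autoImplicit false
set_option linter.style.haveILetI false
universe u
open Polynomial

namespace Groth.Agent.Lib.Helper20.TraceInt

/-- for commuting elements, `a - b` (left-)divides `P(a) - P(b)`. -/
theorem sub_dvd_aeval_sub {K S : Type*} [CommRing K] [Ring S] [Algebra K S] (a b : S)
    (h : Commute a b) (P : K[X]) : a - b ∣ aeval a P - aeval b P := by
  induction P using Polynomial.induction_on' with
  | add p q hp hq =>
    rw [map_add, map_add, add_sub_add_comm]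
    exact dvd_add hp hq
  | monomial k c =>
    rw [aeval_monomial, aeval_monomial]
    obtain ⟨w, hw⟩ := h.sub_dvd_pow_sub_pow k
    refine ⟨algebraMap K S c * w, ?_⟩
    rw [← mul_sub, hw, ← mul_assoc, ← mul_assoc]
    congr 1
    exact (Algebra.commutes c (a - b))

/-- the determinant trick: if `P(M) = 0` then the characteristic polynomial of `M` divides
`P ^ n`. -/
theorem charpoly_dvd_pow {K : Type*} [CommRing K] {n : Type*} [Fintype n] [DecidableEq n]
    (M : Matrix n n K) (P : K[X]) (hP : aeval M P = 0) : M.charpoly ∣ P ^ Fintype.card n := by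
  set a : Matrix n n K[X] := algebraMap K[X] (Matrix n n K[X]) X with ha
  set b : Matrix n n K[X] := (Polynomial.CAlgHom : K →ₐ[K] K[X]).mapMatrix M with hb
  have hab : Commute a b := Algebra.commutes X b
  have h1 : aeval a P = algebraMap K[X] (Matrix n n K[X]) P := by
    rw [ha, aeval_algebraMap_apply, aeval_X_left_apply]
  have h2 : aeval b P = 0 := by
    rw [hb, aeval_algHom_apply, hP, map_zero]
  have hchar : Matrix.charmatrix M = a - b := by
    rw [ha, hb]
    rfl
  obtain ⟨Q, hQ⟩ := sub_dvd_aeval_sub a b hab P
  rw [h1, h2, sub_zero, ← hchar] at hQ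
  have hdet := congrArg Matrix.det hQ
  rw [Matrix.det_mul, Matrix.algebraMap_eq_diagonal, Matrix.det_diagonal] at hdet
  simp only [Pi.algebraMap_apply, Algebra.algebraMap_self, RingHom.id_apply, Finset.prod_const,
    Finset.card_univ] at hdet
  exact ⟨Q.det, hdet⟩

/-- the trace of a matrix which is integral over a subring is integral. -/
theorem isIntegral_trace_of_aeval_eq_zero {A K : Type*} [CommRing A] [CommRing K] [Algebra A K]
    {n : Type*} [Fintype n] [DecidableEq n] (M : Matrix n n K) (P : A[X]) (hP : P.Monic)
    (h : aeval M P = 0) : IsIntegral A M.trace := by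
  cases isEmpty_or_nonempty n
  · have : M.trace = 0 := by simp [Matrix.trace]
    rw [this]; exact isIntegral_zero
  have h' : aeval M (P.map (algebraMap A K)) = 0 := by
    rw [aeval_map_algebraMap]; exact h
  have hdvd := charpoly_dvd_pow M (P.map (algebraMap A K)) h'
  rw [← Polynomial.map_pow] at hdvd
  have := Polynomial.isIntegral_coeff_of_dvd (P ^ Fintype.card n) M.charpoly
    (hP.pow _) M.charpoly_monic hdvd (Fintype.card n - 1)
  rw [Matrix.trace_eq_neg_charpoly_coeff]
  exact this.neg

/-- the trace of an integral element of a finite free algebra is integral. -/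
theorem isIntegral_algebra_trace {A K L : Type*} [CommRing A] [CommRing K] [CommRing L]
    [Algebra A K] [Algebra K L] [Algebra A L] [IsScalarTower A K L] [Module.Free K L]
    [Module.Finite K L] (x : L) (hx : IsIntegral A x) : IsIntegral A (Algebra.trace K L x) := by
  classical
  obtain ⟨P, hPm, hP⟩ := hx
  let b := Module.Free.chooseBasis K L
  rw [Algebra.trace_eq_matrix_trace b]
  refine isIntegral_trace_of_aeval_eq_zero _ P hPm ?_
  have : aeval (((Algebra.leftMulMatrix b).restrictScalars A) x) P =
      ((Algebra.leftMulMatrix b).restrictScalars A) (aeval x P) := aeval_algHom_apply _ _ _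
  rw [← aeval_def] at hP
  rw [hP, map_zero] at this
  exact this



/-- a normal ring is integrally closed in its total ring of fractions. -/
theorem mem_range_of_isIntegral_of_isNormalRing {A K : Type u} [CommRing A] [CommRing K]
    [Algebra A K] [IsFractionRing A K] (hA : EGA4.IsNormalRing A) (x : K)
    (hx : IsIntegral A x) : x ∈ (algebraMap A K).range := by
  let I : Ideal A :=
    { carrier := {t | ∃ r : A, algebraMap A K r = algebraMap A K t * x}
      zero_mem' := ⟨0, by rw [map_zero, zero_mul]⟩
      add_mem' := by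
        rintro s t ⟨r1, h1⟩ ⟨r2, h2⟩
        exact ⟨r1 + r2, by rw [map_add, map_add, add_mul, h1, h2]⟩
      smul_mem' := by
        rintro c t ⟨r, h⟩
        exact ⟨c * r, by rw [smul_eq_mul, map_mul, map_mul, mul_assoc, h]⟩ }
  by_cases hI : I = ⊤
  · have h1 : (1 : A) ∈ I := by rw [hI]; trivial
    obtain ⟨r, hr⟩ := h1
    rw [map_one, one_mul] at hr
    exact ⟨r, hr⟩
  exfalso
  obtain ⟨p, hpmax, hIp⟩ := Ideal.exists_le_maximal I hI
  haveI := hpmax.isPrime
  obtain ⟨hdom, hic⟩ := hA p
  let Ap := Localization.AtPrime p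
  let F := FractionRing Ap
  let g : A →+* F := (algebraMap Ap F).comp (algebraMap A Ap)
  have hinj : Function.Injective (algebraMap Ap F) := IsFractionRing.injective Ap F
  have hg : ∀ s : nonZeroDivisors A, IsUnit (g s) := by
    intro s
    rw [isUnit_iff_ne_zero]
    intro h0
    have h1 : algebraMap A Ap s = 0 := hinj (h0.trans (map_zero _).symm)
    obtain ⟨t, ht⟩ := (IsLocalization.map_eq_zero_iff p.primeCompl Ap (s : A)).1 h1
    have h2 : (t : A) = 0 := by
      have := (mem_nonZeroDivisors_iff.1 s.2).2 (t : A)
      exact this ht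
    exact t.2 (h2 ▸ p.zero_mem)
  let ψ : K →+* F := IsLocalization.lift hg
  have hψ : ∀ a : A, ψ (algebraMap A K a) = g a := fun a => IsLocalization.lift_eq hg a
  -- `ψ x` is integral over `Ap`, hence in `Ap`
  have hint : IsIntegral Ap (ψ x) := by
    obtain ⟨P, hPm, hP⟩ := hx
    refine ⟨P.map (algebraMap A Ap), hPm.map _, ?_⟩
    rw [Polynomial.eval₂_map]
    have := Polynomial.hom_eval₂ P (algebraMap A K) ψ x
    rw [hP, map_zero] at this
    rw [this]
    congr 1
    ext a
    exact (hψ a).symm
  obtain ⟨y, hy⟩ := IsIntegrallyClosed.isIntegral_iff.1 hint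
  obtain ⟨c, u, rfl⟩ := IsLocalization.exists_mk'_eq p.primeCompl y
  obtain ⟨a, s, rfl⟩ := IsLocalization.exists_mk'_eq (nonZeroDivisors A) x
  have e1 : ψ (IsLocalization.mk' K a s) * g s = g a := by
    rw [← hψ, ← map_mul, IsLocalization.mk'_spec, hψ]
  have e2 : (IsLocalization.mk' Ap c u) * algebraMap A Ap u = algebraMap A Ap c :=
    IsLocalization.mk'_spec _ _ _
  have e3 : algebraMap A Ap (c * s) = algebraMap A Ap (a * u) := by
    apply hinj
    have : g c * g s = g a * g u := by
      rw [← e1, ← hy]
      show algebraMap Ap F (algebraMap A Ap c) * g s = _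
      rw [← e2, map_mul]
      show _ = _ * _ * algebraMap Ap F (algebraMap A Ap u)
      ring
    simpa [g, map_mul] using this
  obtain ⟨v, hv⟩ := (IsLocalization.eq_iff_exists p.primeCompl Ap).1 e3
  have hvu : (v : A) * u ∈ I := by
    refine ⟨(v : A) * c, ?_⟩
    show algebraMap A K ((v : A) * c) = algebraMap A K ((v : A) * u) * IsLocalization.mk' K a s
    have hs : IsUnit (algebraMap A K s) := IsLocalization.map_units K s
    apply hs.mul_right_cancel
    rw [mul_assoc, IsLocalization.mk'_spec, ← map_mul, ← map_mul]
    congr 1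
    rw [mul_assoc, mul_assoc, hv]
    ring
  have : (v : A) * u ∈ p := hIp hvu
  rcases (Ideal.IsPrime.mem_or_mem inferInstance this) with h | h
  · exact v.2 h
  · exact u.2 h

/-- S8961. -/
theorem one_mem_complementary (A K B L : Type u) [CommRing A] [CommRing K] [CommRing B]
    [CommRing L] [Algebra A K] [Algebra A B] [Algebra B L] [Algebra K L] [Algebra A L]
    [IsScalarTower A K L] [IsScalarTower A B L] (h : QFDual.IsDedekindDefined A K B L)
    (hA : EGA4.IsNormalRing A) : (1 : L) ∈ QFDual.complementary A K B L := by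
  intro b
  haveI := h.isFractionRing
  haveI := h.finite
  haveI := h.free
  haveI := h.finiteKL
  rw [one_mul]
  have hb : IsIntegral A b := IsIntegral.of_finite A b
  have hβ : IsIntegral A (algebraMap B L b) := hb.map (IsScalarTower.toAlgHom A B L)
  exact mem_range_of_isIntegral_of_isNormalRing hA _ (isIntegral_algebra_trace _ hβ)

end Groth.Agent.Lib.Helper20.TraceInt
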