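import Groth.Agent.Lib.Helper20UHStep

/-!
# Universally closed / universally injective `Spec` maps in ring terms (helper20)
-/

universe u

namespace Groth.Agent.Lib.Helper20.AWN

open AlgebraicGeometry CategoryTheory
open Groth.Agent.Lib.Helper20.EtaPt Groth.Agent.Lib.Helper20.WeakNorm

/-- Maps to fields are determined by their restriction along `ψ`. -/
def FM {A C : Type u} [CommRing A] [CommRing C] (ψ : A →+* C) : Prop :=
  ∀ (K : Type u) [Field K] (χ₁ χ₂ : C →+* K), χ₁.comp ψ = χ₂.comp ψ → χ₁ = χ₂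

theorem universallyClosed_Spec_iff {A C : Type u} [CommRing A] [CommRing C] (ψ : A →+* C) :
    UniversallyClosed (Spec.map (CommRingCat.ofHom ψ)) ↔ ψ.IsIntegral := by
  constructor
  · intro hc
    have : IsIntegralHom (Spec.map (CommRingCat.ofHom ψ)) :=
      IsIntegralHom.iff_universallyClosed_and_isAffineHom.mpr ⟨hc, inferInstance⟩
    exact IsIntegralHom.SpecMap_iff.mp this
  · intro hint
    have h1 : IsIntegralHom (Spec.map (CommRingCat.ofHom ψ)) := IsIntegralHom.SpecMap_iff.mpr hint
    exact (IsIntegralHom.iff_universallyClosed_and_isAffineHom.mp h1).1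

theorem universallyInjective_Spec_iff {A C : Type u} [CommRing A] [CommRing C] (ψ : A →+* C) :
    UniversallyInjective (Spec.map (CommRingCat.ofHom ψ)) ↔ FM ψ := by
  constructor
  · intro hui K _ φ₁ φ₂ hφ
    have htfae := (tfae_universallyInjective (Spec.map (CommRingCat.ofHom ψ))).out 0 1
    have h1 := htfae.mp hui K
    have h2 : Spec.map (CommRingCat.ofHom φ₁) ≫ Spec.map (CommRingCat.ofHom ψ) =
        Spec.map (CommRingCat.ofHom φ₂) ≫ Spec.map (CommRingCat.ofHom ψ) := by
      rw [← Spec.map_comp, ← Spec.map_comp, ← CommRingCat.ofHom_comp, ← CommRingCat.ofHom_comp, hφ]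
    have h3 := Spec.map_injective (h1 h2)
    exact congrArg (fun f => f.hom) h3
  · intro h
    exact universallyInjective_Spec_of ψ h

theorem FM_of_comp_left {A B' B : Type u} [CommRing A] [CommRing B'] [CommRing B] (ψ : A →+* B')
    (ι : B' →+* B) (hι : Function.Injective ι) (hιint : ι.IsIntegral) (hext : FM (ι.comp ψ)) :
    FM ψ := by
  intro K _ χ₁ χ₂ hχ
  let L := AlgebraicClosure K
  have hsι : Function.Surjective (PrimeSpectrum.comap ι) :=
    RingHom.IsIntegral.comap_surjective hιint hι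
  obtain ⟨h₁, hh₁⟩ := exists_extend_algClosed ι hιint hsι L ((algebraMap K L).comp χ₁)
  obtain ⟨h₂, hh₂⟩ := exists_extend_algClosed ι hιint hsι L ((algebraMap K L).comp χ₂)
  have e : h₁.comp (ι.comp ψ) = h₂.comp (ι.comp ψ) := by
    rw [← RingHom.comp_assoc, ← RingHom.comp_assoc, hh₁, hh₂, RingHom.comp_assoc,
      RingHom.comp_assoc, hχ]
  have e2 := hext L h₁ h₂ e
  refine RingHom.ext fun b' => (algebraMap K L).injective ?_
  have e3 : (algebraMap K L).comp χ₁ = (algebraMap K L).comp χ₂ := by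
    rw [← hh₁, ← hh₂, e2]
  exact RingHom.congr_fun e3 b'

theorem isIntegral_of_comp_left {A B' B : Type u} [CommRing A] [CommRing B'] [CommRing B]
    (ψ : A →+* B') (ι : B' →+* B) (hι : Function.Injective ι) (hint : (ι.comp ψ).IsIntegral) :
    ψ.IsIntegral := by
  intro b'
  obtain ⟨P, hP, hPb⟩ := hint (ι b')
  refine ⟨P, hP, hι ?_⟩
  rw [Polynomial.hom_eval₂, hPb, map_zero]

/-- Residue field surjectivity passes to the lower part of a sub-extension. -/
theorem residue_surjective_of_comp_left {A B' B : Type u} [CommRing A] [CommRing B'] [CommRing B]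
    (ψ : A →+* B') (ι : B' →+* B) (hι : Function.Injective ι) (hιint : ι.IsIntegral)
    (hres : ∀ Q : PrimeSpectrum B, Function.Surjective (Ideal.ResidueField.map
      (PrimeSpectrum.comap (ι.comp ψ) Q).asIdeal Q.asIdeal (ι.comp ψ) rfl))
    (Q' : PrimeSpectrum B') : Function.Surjective (Ideal.ResidueField.map
      (PrimeSpectrum.comap ψ Q').asIdeal Q'.asIdeal ψ rfl) := by
  have hsι : Function.Surjective (PrimeSpectrum.comap ι) :=
    RingHom.IsIntegral.comap_surjective hιint hι
  obtain ⟨Q, rfl⟩ := hsι Q'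
  have hcomp := residueField_map_comp
    (PrimeSpectrum.comap ψ (PrimeSpectrum.comap ι Q)).asIdeal
    (PrimeSpectrum.comap ι Q).asIdeal Q.asIdeal ψ ι rfl rfl rfl
  intro z
  obtain ⟨y, hy⟩ := hres Q (Ideal.ResidueField.map (PrimeSpectrum.comap ι Q).asIdeal Q.asIdeal ι rfl z)
  refine ⟨y, ?_⟩
  apply (Ideal.ResidueField.map (PrimeSpectrum.comap ι Q).asIdeal Q.asIdeal ι rfl).injective
  rw [← hy]
  exact (RingHom.congr_fun hcomp y).symm

end Groth.Agent.Lib.Helper20.AWN
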