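import Groth.Agent.Lib.Helper20AWN

/-!
# Elementary steps in universal homeomorphisms of rings (helper20)

Ring-theoretic proof that a proper extension `A ⊂ B` inducing a universal homeomorphism on spectra
contains an element `b ∉ A` with `b², b³ ∈ A` or `p b, b ^ p ∈ A` for a prime `p`.
-/

universe u

namespace Groth.Agent.Lib.Helper20.AWN

open AlgebraicGeometry CategoryTheory TensorProduct
open Groth.Agent.Lib.Helper20.EtaPt Groth.Agent.Lib.Helper20.WeakNorm

theorem UH.comap_injective {A C : Type u} [CommRing A] [CommRing C] {ψ : A →+* C} (h : UH ψ) :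
    Function.Injective (PrimeSpectrum.comap ψ) :=
  (comap_bijective_of_isUnivHomeo ψ ((isUnivHomeo_iff_UH ψ).mpr h)).1

theorem UH.exists_pow_mem_range {A C : Type u} [CommRing A] [CommRing C] {ψ : A →+* C} (h : UH ψ)
    (Q : PrimeSpectrum C) (z : Q.asIdeal.ResidueField) :
    ∃ n : ℕ, z ^ ringExpChar (PrimeSpectrum.comap ψ Q).asIdeal.ResidueField ^ n ∈
      Set.range (Ideal.ResidueField.map (PrimeSpectrum.comap ψ Q).asIdeal Q.asIdeal ψ rfl) :=
  exists_pow_mem_range_of_isUnivHomeo ψ ((isUnivHomeo_iff_UH ψ).mpr h) Q z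

/-- Sub-extensions of a `UH` map: the lower part. -/
theorem UH_of_comp_left {A B' B : Type u} [CommRing A] [CommRing B'] [CommRing B] (ψ : A →+* B')
    (ι : B' →+* B) (hι : Function.Injective ι) (hιint : ι.IsIntegral) (h : UH (ι.comp ψ)) :
    UH ψ := by
  obtain ⟨hint, hs, hext⟩ := h
  refine ⟨?_, ?_, ?_⟩
  · intro b'
    obtain ⟨P, hP, hPb⟩ := hint (ι b')
    refine ⟨P, hP, hι ?_⟩
    rw [Polynomial.hom_eval₂, hPb, map_zero]
  · intro P
    obtain ⟨Q, hQ⟩ := hs P
    exact ⟨PrimeSpectrum.comap ι Q, by rw [← PrimeSpectrum.comap_comp_apply]; exact hQ⟩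
  · intro K _ χ₁ χ₂ hχ
    let L := AlgebraicClosure K
    have hsι : Function.Surjective (PrimeSpectrum.comap ι) :=
      RingHom.IsIntegral.comap_surjective hιint hι
    obtain ⟨h₁, hh₁⟩ := exists_extend_algClosed ι hιint hsι L ((algebraMap K L).comp χ₁)
    obtain ⟨h₂, hh₂⟩ := exists_extend_algClosed ι hιint hsι L ((algebraMap K L).comp χ₂)
    have e : h₁.comp (ι.comp ψ) = h₂.comp (ι.comp ψ) := by
      rw [← RingHom.comp_assoc, ← RingHom.comp_assoc, hh₁, hh₂, RingHom.comp_assoc,
        RingHom.comp_assoc, hχ]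
    have e2 := hext L h₁ h₂ e
    refine RingHom.ext fun b' => (algebraMap K L).injective ?_
    have e3 : (algebraMap K L).comp χ₁ = (algebraMap K L).comp χ₂ := by
      rw [← hh₁, ← hh₂, e2]
    exact RingHom.congr_fun e3 b'

/-- Sub-extensions of a `UH` map: the upper part. -/
theorem UH_of_comp_right {A B' B : Type u} [CommRing A] [CommRing B'] [CommRing B] (ψ : A →+* B')
    (ι : B' →+* B) (hι : Function.Injective ι) (hιint : ι.IsIntegral) (h : UH (ι.comp ψ)) :
    UH ι := by
  refine ⟨hιint, RingHom.IsIntegral.comap_surjective hιint hι, ?_⟩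
  intro K _ χ₁ χ₂ hχ
  apply h.2.2 K
  rw [← RingHom.comp_assoc, ← RingHom.comp_assoc, hχ]

/-- If `f ^ n` and `f ^ (n + 1)` lie in a subring closed under the square-cube operation, so
does `f`. -/
theorem mem_of_pow_mem {B : Type*} [CommRing B] (R : Subring B)
    (H : ∀ b : B, b ^ 2 ∈ R → b ^ 3 ∈ R → b ∈ R) (f : B) (n : ℕ) (hn : 1 ≤ n)
    (h1 : f ^ n ∈ R) (h2 : f ^ (n + 1) ∈ R) : f ∈ R := by
  have hbig : ∀ j, n * n ≤ j → f ^ j ∈ R := by
    intro j hj
    obtain ⟨q, r, hr, rfl⟩ : ∃ q r, r < n ∧ j = n * q + r :=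
      ⟨j / n, j % n, Nat.mod_lt _ hn, (Nat.div_add_mod j n).symm⟩
    have hq : r ≤ q := by
      by_contra hlt
      push Not at hlt
      have : n * q + r < n * n := by nlinarith
      omega
    have e : f ^ (n * q + r) = (f ^ n) ^ (q - r) * (f ^ (n + 1)) ^ r := by
      rw [← pow_mul, ← pow_mul, ← pow_add]
      congr 1
      have : q = (q - r) + r := by omega
      calc n * q + r = n * ((q - r) + r) + r := by rw [← this]
        _ = n * (q - r) + (n + 1) * r := by ring
    rw [e]
    exact R.mul_mem (R.pow_mem h1 _) (R.pow_mem h2 _)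
  have hdown : ∀ k, 1 ≤ k → (∀ j, k + 1 ≤ j → f ^ j ∈ R) → f ^ k ∈ R := by
    intro k hk hj
    apply H
    · rw [← pow_mul]; exact hj _ (by omega)
    · rw [← pow_mul]; exact hj _ (by omega)
  have hall : ∀ m k, 1 ≤ k → n * n ≤ k + m → ∀ j, k ≤ j → f ^ j ∈ R := by
    intro m
    induction m with
    | zero => intro k hk hkm j hj; exact hbig j (by omega)
    | succ m ih =>
      intro k hk hkm j hj
      rcases Nat.eq_or_lt_of_le hj with rfl | hlt
      · exact hdown k hk (fun j' hj' => ih (k + 1) (by omega) (by omega) j' hj')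
      · exact ih (k + 1) (by omega) (by omega) j hlt
  simpa using hall (n * n) 1 le_rfl (by omega) 1 le_rfl

section Core

variable {A B : Type u} [CommRing A] [CommRing B] [Algebra A B]

/-- The conductor of `B` into (the image of) `A`, as an ideal of `A`. -/
def conductor (A B : Type u) [CommRing A] [CommRing B] [Algebra A B] : Ideal A where
  carrier := {a | ∀ x : B, algebraMap A B a * x ∈ (algebraMap A B).range}
  add_mem' := by
    intro a a' ha ha' x
    rw [map_add, add_mul]
    exact Subring.add_mem _ (ha x) (ha' x)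
  zero_mem' := by
    intro x
    rw [map_zero, zero_mul]
    exact Subring.zero_mem _
  smul_mem' := by
    intro c a ha x
    rw [smul_eq_mul, map_mul, mul_assoc]
    exact Subring.mul_mem _ ⟨c, rfl⟩ (ha x)

theorem mem_conductor (a : A) :
    a ∈ conductor A B ↔ ∀ x : B, algebraMap A B a * x ∈ (algebraMap A B).range := Iff.rfl

theorem map_conductor_mul_mem (y : B) (hy : y ∈ Ideal.map (algebraMap A B) (conductor A B))
    (b : B) : b * y ∈ (algebraMap A B).range := by
  induction hy using Submodule.span_induction generalizing b with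
  | mem y hy =>
    obtain ⟨a, ha, rfl⟩ := hy
    rw [mul_comm]
    exact ha b
  | zero => rw [mul_zero]; exact Subring.zero_mem _
  | add y y' _ _ hy hy' => rw [mul_add]; exact Subring.add_mem _ (hy b) (hy' b)
  | smul c y _ hy => rw [smul_eq_mul, ← mul_assoc]; exact hy (b * c)

/-- Claim B. -/
theorem exists_mul_mem_range_of_mem (hUH : UH (algebraMap A B))
    (H : ∀ b : B, b ^ 2 ∈ (algebraMap A B).range → b ^ 3 ∈ (algebraMap A B).range →
      b ∈ (algebraMap A B).range)
    (𝔭 : Ideal A) (h𝔭 : 𝔭 ∈ (conductor A B).minimalPrimes) (q : PrimeSpectrum B)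
    (hq : (PrimeSpectrum.comap (algebraMap A B) q).asIdeal = 𝔭) (f : B) (hf : f ∈ q.asIdeal) :
    ∃ s : A, s ∉ 𝔭 ∧ algebraMap A B s * f ∈ (algebraMap A B).range := by
  have h𝔭prime : 𝔭.IsPrime := h𝔭.1.1
  -- Claim A
  have hA : ∃ s : A, s ∉ 𝔭 ∧ ∃ n : ℕ, algebraMap A B s * f ^ n ∈
      Ideal.map (algebraMap A B) (conductor A B) := by
    by_contra hcon
    push Not at hcon
    let S : Submonoid B := 𝔭.primeCompl.map (algebraMap A B) ⊔ Submonoid.powers f
    have hdisj : Disjoint (Ideal.map (algebraMap A B) (conductor A B) : Set B) S := by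
      rw [Set.disjoint_left]
      intro y hyJ hyS
      obtain ⟨y₁, hy₁, y₂, hy₂, rfl⟩ := Submonoid.mem_sup.mp hyS
      obtain ⟨s, hs, rfl⟩ := hy₁
      obtain ⟨n, rfl⟩ := hy₂
      exact hcon s hs n hyJ
    obtain ⟨Q', hQ'prime, hJQ', hQ'S⟩ := Ideal.exists_le_prime_disjoint _ S hdisj
    have h1 : conductor A B ≤ Q'.comap (algebraMap A B) := by
      intro a ha
      exact hJQ' (Ideal.mem_map_of_mem _ ha)
    have h2 : Q'.comap (algebraMap A B) ≤ 𝔭 := by
      intro a ha
      by_contra ha𝔭
      have hmemS : algebraMap A B a ∈ S :=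
        Submonoid.mem_sup_left (Submonoid.mem_map_of_mem _ ha𝔭)
      exact Set.disjoint_left.mp hQ'S ha hmemS
    have h3 : 𝔭 ≤ Q'.comap (algebraMap A B) :=
      h𝔭.2 ⟨Ideal.comap_isPrime _ _, h1⟩ h2
    have h4 : PrimeSpectrum.comap (algebraMap A B) ⟨Q', hQ'prime⟩ =
        PrimeSpectrum.comap (algebraMap A B) q := by
      apply PrimeSpectrum.ext
      rw [hq]
      exact le_antisymm h2 h3
    have h5 : (⟨Q', hQ'prime⟩ : PrimeSpectrum B) = q := hUH.comap_injective h4
    have hfQ' : f ∈ Q' := by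
      have : f ∈ (⟨Q', hQ'prime⟩ : PrimeSpectrum B).asIdeal := by rw [h5]; exact hf
      exact this
    have hfS : f ∈ S := Submonoid.mem_sup_right (Submonoid.mem_powers f)
    exact Set.disjoint_left.mp hQ'S hfQ' hfS
  obtain ⟨s, hs, n, hn⟩ := hA
  refine ⟨s, hs, ?_⟩
  -- g = s f has g^(n+1), g^(n+2) in the range
  apply mem_of_pow_mem _ H _ (n + 1) (by omega)
  · have e : (algebraMap A B s * f) ^ (n + 1) =
        (algebraMap A B s ^ n * f) * (algebraMap A B s * f ^ n) := by ring
    rw [e]
    exact map_conductor_mul_mem _ hn _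
  · have e : (algebraMap A B s * f) ^ (n + 1 + 1) =
        (algebraMap A B s ^ (n + 1) * f ^ 2) * (algebraMap A B s * f ^ n) := by ring
    rw [e]
    exact map_conductor_mul_mem _ hn _

/-- Claim C, inductive form. -/
theorem exists_mul_mem_range_of_pow (hUH : UH (algebraMap A B))
    (H : ∀ b : B, b ^ 2 ∈ (algebraMap A B).range → b ^ 3 ∈ (algebraMap A B).range →
      b ∈ (algebraMap A B).range)
    (𝔭 : Ideal A) (h𝔭 : 𝔭 ∈ (conductor A B).minimalPrimes) (q : PrimeSpectrum B)
    (hq : (PrimeSpectrum.comap (algebraMap A B) q).asIdeal = 𝔭)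
    (e : ℕ) (he : e = 1 ∨ (e.Prime ∧ (e : A) ∈ 𝔭))
    (H' : ∀ b : B, (e : B) * b ∈ (algebraMap A B).range →
      b ^ e ∈ (algebraMap A B).range → b ∈ (algebraMap A B).range) (n : ℕ) :
    ∀ x : B, (∃ t : A, t ∉ 𝔭 ∧ ∃ a : A, algebraMap A B t * x ^ e ^ n - algebraMap A B a ∈ q.asIdeal) →
      ∃ s : A, s ∉ 𝔭 ∧ algebraMap A B s * x ∈ (algebraMap A B).range := by
  have h𝔭prime : 𝔭.IsPrime := h𝔭.1.1
  have hbase : ∀ x : B, (∃ t : A, t ∉ 𝔭 ∧ ∃ a : A,
      algebraMap A B t * x - algebraMap A B a ∈ q.asIdeal) →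
      ∃ s : A, s ∉ 𝔭 ∧ algebraMap A B s * x ∈ (algebraMap A B).range := by
    rintro x ⟨t, ht, a, hta⟩
    obtain ⟨s, hs, hsr⟩ := exists_mul_mem_range_of_mem hUH H 𝔭 h𝔭 q hq _ hta
    refine ⟨s * t, fun hmem => ?_, ?_⟩
    · rcases h𝔭prime.mem_or_mem hmem with h | h
      · exact hs h
      · exact ht h
    · have e1 : algebraMap A B (s * t) * x =
          algebraMap A B s * (algebraMap A B t * x - algebraMap A B a) + algebraMap A B (s * a) := by
        rw [map_mul, map_mul]; ring
      rw [e1]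
      exact Subring.add_mem _ hsr ⟨_, rfl⟩
  induction n with
  | zero =>
    intro x hx
    rw [pow_zero, pow_one] at hx
    exact hbase x hx
  | succ n ih =>
    intro x hx
    rcases he with rfl | ⟨hep, he𝔭⟩
    · rw [one_pow, pow_one] at hx
      exact hbase x hx
    · have hx' : ∃ t : A, t ∉ 𝔭 ∧ ∃ a : A,
          algebraMap A B t * (x ^ e) ^ e ^ n - algebraMap A B a ∈ q.asIdeal := by
        obtain ⟨t, ht, a, hta⟩ := hx
        refine ⟨t, ht, a, ?_⟩
        rw [← pow_mul, ← pow_succ']
        exact hta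
      obtain ⟨s, hs, hsr⟩ := ih (x ^ e) hx'
      -- (s x)^e in range
      have h1 : (algebraMap A B s * x) ^ e ∈ (algebraMap A B).range := by
        have e1 : (algebraMap A B s * x) ^ e =
            algebraMap A B (s ^ (e - 1)) * (algebraMap A B s * x ^ e) := by
          have : e = (e - 1) + 1 := by have := hep.one_lt; omega
          rw [map_pow, mul_pow]
          nth_rewrite 1 [this]
          rw [pow_succ]
          ring
        rw [e1]
        exact Subring.mul_mem _ ⟨_, rfl⟩ hsr
      -- e * (s x) in q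
      have h2 : (e : B) * (algebraMap A B s * x) ∈ q.asIdeal := by
        have h3 : algebraMap A B (e : A) ∈ q.asIdeal := by
          have : (e : A) ∈ (PrimeSpectrum.comap (algebraMap A B) q).asIdeal := by rw [hq]; exact he𝔭
          exact this
        rw [map_natCast] at h3
        exact Ideal.mul_mem_right _ _ h3
      obtain ⟨s', hs', hs'r⟩ := exists_mul_mem_range_of_mem hUH H 𝔭 h𝔭 q hq _ h2
      refine ⟨s' * s, fun hmem => ?_, ?_⟩
      · rcases h𝔭prime.mem_or_mem hmem with h | h
        · exact hs' h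
        · exact hs h
      · apply H'
        · have e1 : (e : B) * (algebraMap A B (s' * s) * x) =
              algebraMap A B s' * ((e : B) * (algebraMap A B s * x)) := by
            rw [map_mul]; ring
          rw [e1]
          exact hs'r
        · have e1 : (algebraMap A B (s' * s) * x) ^ e =
              algebraMap A B (s' ^ e) * (algebraMap A B s * x) ^ e := by
            rw [map_mul, map_pow]; ring
          rw [e1]
          exact Subring.mul_mem _ ⟨_, rfl⟩ h1

end Core

/-- Elements of the residue field of a prime are fractions. -/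
theorem exists_mul_eq_algebraMap {A : Type*} [CommRing A] (P : Ideal A) [P.IsPrime]
    (y : P.ResidueField) : ∃ t : A, t ∉ P ∧ ∃ a : A,
      y * algebraMap A P.ResidueField t = algebraMap A P.ResidueField a := by
  obtain ⟨⟨u, v⟩, huv⟩ := IsLocalization.surj (nonZeroDivisors (A ⧸ P)) y
  obtain ⟨a, rfl⟩ := Ideal.Quotient.mk_surjective u
  obtain ⟨t, ht⟩ := Ideal.Quotient.mk_surjective (v : A ⧸ P)
  refine ⟨t, ?_, a, ?_⟩
  · intro htP
    have h0 : (v : A ⧸ P) = 0 := by rw [← ht]; exact Ideal.Quotient.eq_zero_iff_mem.mpr htP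
    exact nonZeroDivisors.ne_zero v.2 h0
  · have e1 : algebraMap A P.ResidueField t = algebraMap (A ⧸ P) P.ResidueField (v : A ⧸ P) := by
      rw [← ht]; rfl
    have e2 : algebraMap A P.ResidueField a =
        algebraMap (A ⧸ P) P.ResidueField (Ideal.Quotient.mk P a) := rfl
    rw [e1, e2]
    exact huv

theorem expChar_cases' (K : Type*) [Field K] (e : ℕ) [h : ExpChar K e] :
    e = 1 ∨ (e.Prime ∧ (e : K) = 0) := by
  cases h with
  | zero => left; rfl
  | prime hp => right; exact ⟨hp, CharP.cast_eq_zero K _⟩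

theorem expChar_cases (K : Type*) [Field K] :
    ringExpChar K = 1 ∨ ((ringExpChar K).Prime ∧ ((ringExpChar K : ℕ) : K) = 0) :=
  expChar_cases' K (ringExpChar K)

section Core2

variable {A B : Type u} [CommRing A] [CommRing B] [Algebra A B]

/-- Claim C from the residue field condition at `q`. -/
theorem exists_mul_mem_range_of_residue (hUH : UH (algebraMap A B))
    (H : ∀ b : B, b ^ 2 ∈ (algebraMap A B).range → b ^ 3 ∈ (algebraMap A B).range →
      b ∈ (algebraMap A B).range)
    (𝔭 : Ideal A) (h𝔭 : 𝔭 ∈ (conductor A B).minimalPrimes) (q : PrimeSpectrum B)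
    (hq : (PrimeSpectrum.comap (algebraMap A B) q).asIdeal = 𝔭)
    (e : ℕ) (he : e = 1 ∨ (e.Prime ∧ (e : A) ∈ 𝔭))
    (H' : ∀ b : B, (e : B) * b ∈ (algebraMap A B).range →
      b ^ e ∈ (algebraMap A B).range → b ∈ (algebraMap A B).range)
    (x : B) (n : ℕ)
    (hx : algebraMap B q.asIdeal.ResidueField x ^ e ^ n ∈ Set.range (Ideal.ResidueField.map
      (PrimeSpectrum.comap (algebraMap A B) q).asIdeal q.asIdeal (algebraMap A B) rfl)) :
    ∃ s : A, s ∉ 𝔭 ∧ algebraMap A B s * x ∈ (algebraMap A B).range := by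
  obtain ⟨y, hy⟩ := hx
  obtain ⟨t, ht, a, hta⟩ := exists_mul_eq_algebraMap
    (PrimeSpectrum.comap (algebraMap A B) q).asIdeal y
  apply exists_mul_mem_range_of_pow hUH H 𝔭 h𝔭 q hq e he H' n x
  refine ⟨t, by rw [← hq]; exact ht, a, ?_⟩
  rw [← Ideal.algebraMap_residueField_eq_zero, map_sub, map_mul, map_pow, ← hy, sub_eq_zero]
  have h1 := congrArg (Ideal.ResidueField.map
      (PrimeSpectrum.comap (algebraMap A B) q).asIdeal q.asIdeal (algebraMap A B) rfl) hta
  rw [map_mul, Ideal.ResidueField.map_algebraMap, Ideal.ResidueField.map_algebraMap] at h1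
  rw [mul_comm]
  exact h1

/-- The finiteness step: if every element of `B` lies in `A` up to a multiplier outside a
minimal prime of the conductor, we have a contradiction unless `A → B` is onto. -/
theorem surjective_of_forall_exists_mul_mem [Module.Finite A B]
    (hUH : UH (algebraMap A B))
    (hC : ∀ 𝔭 : Ideal A, 𝔭 ∈ (conductor A B).minimalPrimes → ∀ q : PrimeSpectrum B,
      (PrimeSpectrum.comap (algebraMap A B) q).asIdeal = 𝔭 → ∀ x : B,
        ∃ s : A, s ∉ 𝔭 ∧ algebraMap A B s * x ∈ (algebraMap A B).range) :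
    Function.Surjective (algebraMap A B) := by
  classical
  by_contra hns
  have hI : conductor A B ≠ ⊤ := by
    intro htop
    apply hns
    intro x
    have h1 : (1 : A) ∈ conductor A B := htop ▸ Submodule.mem_top
    have := h1 x
    rw [map_one, one_mul] at this
    exact this
  obtain ⟨m, hm, hIm⟩ := Ideal.exists_le_maximal _ hI
  haveI : m.IsPrime := hm.isPrime
  obtain ⟨𝔭, h𝔭, -⟩ := Ideal.exists_minimalPrimes_le hIm
  have h𝔭prime : 𝔭.IsPrime := h𝔭.1.1
  obtain ⟨q, hq⟩ := hUH.2.1 ⟨𝔭, h𝔭prime⟩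
  have hq' : (PrimeSpectrum.comap (algebraMap A B) q).asIdeal = 𝔭 := congrArg (·.asIdeal) hq
  obtain ⟨S, hS⟩ := (Module.Finite.fg_top : (⊤ : Submodule A B).FG)
  choose t ht htr using hC 𝔭 h𝔭 q hq'
  let T : A := ∏ x ∈ S, t x
  have hT : T ∉ 𝔭 := by
    intro hmem
    obtain ⟨x, -, hx⟩ := (Ideal.IsPrime.prod_mem_iff).mp hmem
    exact ht x hx
  have hTS : ∀ x ∈ S, algebraMap A B T * x ∈ (algebraMap A B).range := by
    intro x hx
    have e1 : T = (∏ y ∈ S.erase x, t y) * t x := by
      rw [mul_comm]; exact (Finset.mul_prod_erase S t hx).symm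
    rw [e1, map_mul, mul_assoc]
    exact Subring.mul_mem _ ⟨_, rfl⟩ (htr x)
  have hTall : ∀ y : B, algebraMap A B T * y ∈ (algebraMap A B).range := by
    intro y
    have hy : y ∈ Submodule.span A (S : Set B) := hS ▸ Submodule.mem_top
    induction hy using Submodule.span_induction with
    | mem y hy => exact hTS y hy
    | zero => rw [mul_zero]; exact Subring.zero_mem _
    | add y y' _ _ h h' => rw [mul_add]; exact Subring.add_mem _ h h'
    | smul c y _ h =>
      rw [Algebra.smul_def, ← mul_assoc, mul_comm (algebraMap A B T), mul_assoc]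
      exact Subring.mul_mem _ ⟨_, rfl⟩ h
  exact hT (h𝔭.1.2 hTall)

/-- Stacks 0CND, finite case. -/
theorem surjective_of_closed [Module.Finite A B] (hUH : UH (algebraMap A B))
    (H : ∀ b : B, b ^ 2 ∈ (algebraMap A B).range → b ^ 3 ∈ (algebraMap A B).range →
      b ∈ (algebraMap A B).range)
    (H' : ∀ p : ℕ, p.Prime → ∀ b : B, (p : B) * b ∈ (algebraMap A B).range →
      b ^ p ∈ (algebraMap A B).range → b ∈ (algebraMap A B).range) :
    Function.Surjective (algebraMap A B) := by
  apply surjective_of_forall_exists_mul_mem hUH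
  intro 𝔭 h𝔭 q hq x
  obtain ⟨n, hn⟩ := hUH.exists_pow_mem_range q (algebraMap B q.asIdeal.ResidueField x)
  have he : ringExpChar (PrimeSpectrum.comap (algebraMap A B) q).asIdeal.ResidueField = 1 ∨
      ((ringExpChar (PrimeSpectrum.comap (algebraMap A B) q).asIdeal.ResidueField).Prime ∧
        ((ringExpChar (PrimeSpectrum.comap (algebraMap A B) q).asIdeal.ResidueField : ℕ) : A) ∈ 𝔭) := by
    rcases expChar_cases (PrimeSpectrum.comap (algebraMap A B) q).asIdeal.ResidueField with h | ⟨hp, h0⟩
    · exact Or.inl h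
    · refine Or.inr ⟨hp, ?_⟩
      rw [← hq, ← Ideal.algebraMap_residueField_eq_zero, map_natCast]
      exact h0
  refine exists_mul_mem_range_of_residue hUH H 𝔭 h𝔭 q hq _ he ?_ x n hn
  rcases he with h1 | ⟨hp, -⟩
  · intro b _ hb
    rw [h1, pow_one] at hb
    exact hb
  · exact H' _ hp

/-- Stacks 0EUH-type statement, finite case: trivial residue field extensions. -/
theorem surjective_of_closed_of_residue [Module.Finite A B] (hUH : UH (algebraMap A B))
    (hres : ∀ Q : PrimeSpectrum B, Function.Surjective (Ideal.ResidueField.map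
      (PrimeSpectrum.comap (algebraMap A B) Q).asIdeal Q.asIdeal (algebraMap A B) rfl))
    (H : ∀ b : B, b ^ 2 ∈ (algebraMap A B).range → b ^ 3 ∈ (algebraMap A B).range →
      b ∈ (algebraMap A B).range) :
    Function.Surjective (algebraMap A B) := by
  apply surjective_of_forall_exists_mul_mem hUH
  intro 𝔭 h𝔭 q hq x
  refine exists_mul_mem_range_of_residue hUH H 𝔭 h𝔭 q hq 1 (Or.inl rfl) ?_ x 0 ?_
  · intro b _ hb
    rw [pow_one] at hb
    exact hb
  · rw [pow_zero, pow_one]
    exact hres q _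

end Core2

section General

variable {A B : Type u} [CommRing A] [CommRing B] [Algebra A B]

/-- Stacks 0CND in subalgebra form: a subalgebra `T ⊆ B` with `Spec B → Spec T` a universal
homeomorphism which is closed under the two elementary operations is everything. -/
theorem eq_top_of_closed (T : Subalgebra A B) (hUH : UH (algebraMap T B))
    (H : ∀ b : B, b ^ 2 ∈ T → b ^ 3 ∈ T → b ∈ T)
    (H' : ∀ p : ℕ, p.Prime → ∀ b : B, (p : B) * b ∈ T → b ^ p ∈ T → b ∈ T) : T = ⊤ := by
  rw [eq_top_iff]
  rintro b₀ -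
  have hint : IsIntegral T b₀ := hUH.1 b₀
  haveI : Module.Finite T (Algebra.adjoin T {b₀}) := .of_fg hint.fg_adjoin_singleton
  have hι_inj : Function.Injective ((Algebra.adjoin T {b₀}).val : Algebra.adjoin T {b₀} →+* B) :=
    Subtype.val_injective
  have hι_int : ((Algebra.adjoin T {b₀}).val : Algebra.adjoin T {b₀} →+* B).IsIntegral := by
    intro b
    exact (show IsIntegral T b from hUH.1 b).tower_top
  have hUH₀ : UH (algebraMap T (Algebra.adjoin T {b₀})) :=
    UH_of_comp_left _ ((Algebra.adjoin T {b₀}).val : Algebra.adjoin T {b₀} →+* B) hι_inj hι_int hUH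
  have hsurj := surjective_of_closed (A := T) (B := Algebra.adjoin T {b₀}) hUH₀
    (by
      rintro b ⟨t2, h2⟩ ⟨t3, h3⟩
      have hb : (b : B) ∈ T := by
        apply H
        · have : ((b : B)) ^ 2 = (t2 : B) := (congrArg Subtype.val h2).symm
          rw [this]; exact t2.2
        · have : ((b : B)) ^ 3 = (t3 : B) := (congrArg Subtype.val h3).symm
          rw [this]; exact t3.2
      exact ⟨⟨b, hb⟩, Subtype.ext rfl⟩)
    (by
      rintro p hp b ⟨t2, h2⟩ ⟨t3, h3⟩
      have hb : (b : B) ∈ T := by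
        apply H' p hp
        · have : (p : B) * (b : B) = (t2 : B) := by
            have := (congrArg Subtype.val h2).symm
            simpa using this
          rw [this]; exact t2.2
        · have : ((b : B)) ^ p = (t3 : B) := (congrArg Subtype.val h3).symm
          rw [this]; exact t3.2
      exact ⟨⟨b, hb⟩, Subtype.ext rfl⟩)
  obtain ⟨t, ht⟩ := hsurj ⟨b₀, Algebra.subset_adjoin rfl⟩
  have : (t : B) = b₀ := congrArg Subtype.val ht
  rw [← this]
  exact t.2

/-- Variant with trivial residue field extensions: only the square-cube operation is needed. -/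
theorem eq_top_of_closed_of_residue (T : Subalgebra A B) (hUH : UH (algebraMap T B))
    (hres : ∀ Q : PrimeSpectrum B, Function.Surjective (Ideal.ResidueField.map
      (PrimeSpectrum.comap (algebraMap T B) Q).asIdeal Q.asIdeal (algebraMap T B) rfl))
    (H : ∀ b : B, b ^ 2 ∈ T → b ^ 3 ∈ T → b ∈ T) : T = ⊤ := by
  rw [eq_top_iff]
  rintro b₀ -
  have hint : IsIntegral T b₀ := hUH.1 b₀
  haveI : Module.Finite T (Algebra.adjoin T {b₀}) := .of_fg hint.fg_adjoin_singleton
  have hι_inj : Function.Injective ((Algebra.adjoin T {b₀}).val : Algebra.adjoin T {b₀} →+* B) :=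
    Subtype.val_injective
  have hι_int : ((Algebra.adjoin T {b₀}).val : Algebra.adjoin T {b₀} →+* B).IsIntegral := by
    intro b
    exact (show IsIntegral T b from hUH.1 b).tower_top
  have hUH₀ : UH (algebraMap T (Algebra.adjoin T {b₀})) :=
    UH_of_comp_left _ ((Algebra.adjoin T {b₀}).val : Algebra.adjoin T {b₀} →+* B) hι_inj hι_int hUH
  have hres₀ : ∀ Q₀ : PrimeSpectrum (Algebra.adjoin T {b₀}), Function.Surjective
      (Ideal.ResidueField.map
        (PrimeSpectrum.comap (algebraMap T (Algebra.adjoin T {b₀})) Q₀).asIdeal Q₀.asIdeal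
        (algebraMap T (Algebra.adjoin T {b₀})) rfl) := by
    intro Q₀
    obtain ⟨Q, rfl⟩ := RingHom.IsIntegral.comap_surjective hι_int hι_inj Q₀
    have hcomp := residueField_map_comp
      (PrimeSpectrum.comap (algebraMap T (Algebra.adjoin T {b₀}))
        (PrimeSpectrum.comap ((Algebra.adjoin T {b₀}).val : Algebra.adjoin T {b₀} →+* B) Q)).asIdeal
      (PrimeSpectrum.comap ((Algebra.adjoin T {b₀}).val : Algebra.adjoin T {b₀} →+* B) Q).asIdeal
      Q.asIdeal (algebraMap T (Algebra.adjoin T {b₀}))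
      ((Algebra.adjoin T {b₀}).val : Algebra.adjoin T {b₀} →+* B) rfl rfl rfl
    have h1 := hres Q
    have h2 : Function.Surjective ((Ideal.ResidueField.map _ Q.asIdeal
        ((Algebra.adjoin T {b₀}).val : Algebra.adjoin T {b₀} →+* B) rfl) ∘
        (Ideal.ResidueField.map _ _ (algebraMap T (Algebra.adjoin T {b₀})) rfl)) := by
      intro z
      obtain ⟨y, hy⟩ := h1 z
      refine ⟨y, ?_⟩
      rw [← hy]
      exact (RingHom.congr_fun hcomp y).symm
    exact Function.Surjective.of_comp_left h2 (RingHom.injective _)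
  have hsurj := surjective_of_closed_of_residue (A := T) (B := Algebra.adjoin T {b₀}) hUH₀ hres₀
    (by
      rintro b ⟨t2, h2⟩ ⟨t3, h3⟩
      have hb : (b : B) ∈ T := by
        apply H
        · have : ((b : B)) ^ 2 = (t2 : B) := (congrArg Subtype.val h2).symm
          rw [this]; exact t2.2
        · have : ((b : B)) ^ 3 = (t3 : B) := (congrArg Subtype.val h3).symm
          rw [this]; exact t3.2
      exact ⟨⟨b, hb⟩, Subtype.ext rfl⟩)
  obtain ⟨t, ht⟩ := hsurj ⟨b₀, Algebra.subset_adjoin rfl⟩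
  have : (t : B) = b₀ := congrArg Subtype.val ht
  rw [← this]
  exact t.2

end General

/-- Surjectivity of the scheme-theoretic residue field map in ring terms. -/
theorem surjective_residueFieldMap_iff {R S : CommRingCat.{u}} (φ : R ⟶ S) (y : PrimeSpectrum S) :
    Function.Surjective ((Spec.map φ).residueFieldMap y) ↔
      Function.Surjective (Ideal.ResidueField.map (PrimeSpectrum.comap φ.hom y).asIdeal y.asIdeal
        φ.hom rfl) := by
  have key := residueFieldMap_Spec φ y
  have hR := ConcreteCategory.bijective_of_isIso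
    (Scheme.Spec.residueFieldIso R (PrimeSpectrum.comap φ.hom y)).inv
  have hS := ConcreteCategory.bijective_of_isIso (Scheme.Spec.residueFieldIso S y).inv
  have hk : ∀ z, ((Spec.map φ).residueFieldMap y).hom
      ((Scheme.Spec.residueFieldIso R (PrimeSpectrum.comap φ.hom y)).inv.hom z) =
      (Scheme.Spec.residueFieldIso S y).inv.hom
        (Ideal.ResidueField.map (PrimeSpectrum.comap φ.hom y).asIdeal y.asIdeal φ.hom rfl z) :=
    fun z => congrArg (fun f => f.hom z) key
  constructor
  · intro h w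
    obtain ⟨u, hu⟩ := h ((Scheme.Spec.residueFieldIso S y).inv.hom w)
    obtain ⟨z, rfl⟩ := hR.2 u
    exact ⟨z, hS.1 ((hk z).symm.trans hu)⟩
  · intro h v
    obtain ⟨w, rfl⟩ := hS.2 v
    obtain ⟨z, rfl⟩ := h w
    exact ⟨_, hk z⟩

end Groth.Agent.Lib.Helper20.AWN
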