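import Mathlib
import Groth.Prelude.Def_SGA1
import Groth.Agent.Lib.Helper20EtHom
import Groth.Agent.Lib.Helper22FEtGraph

set_option autoImplicit false
universe u
open CategoryTheory CategoryTheory.Limits AlgebraicGeometry

namespace Groth.Agent.Lib.Helper20.UnivSub

open Groth.Agent.Lib.Helper22.FEtGraph

/-- every scheme over a field is flat over it. -/
theorem flat_of_field (k : Type u) [Field k] {X : Scheme.{u}} (p : X ⟶ Spec (CommRingCat.of k)) :
    Flat p := by
  rw [HasRingHomProperty.iff_of_source_openCover (P := @Flat) X.affineCover]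
  intro i
  have h : ((Scheme.ΓSpecIso (.of k)).inv ≫ (X.affineCover.f i ≫ p).appTop).hom.Flat := by
    generalize ((Scheme.ΓSpecIso (.of k)).inv ≫ (X.affineCover.f i ≫ p).appTop) = φ
    algebraize [φ.hom]
    change Module.Flat k _
    infer_instance
  rw [CommRingCat.hom_comp] at h
  exact (RingHom.Flat.respectsIso.cancel_left_isIso (Scheme.ΓSpecIso (.of k)).inv _).mp h

/-- étale morphisms are locally quasi-finite -/
theorem locallyQuasiFinite_of_etale {X Y : Scheme.{u}} (f : X ⟶ Y) [Etale f] :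
    LocallyQuasiFinite f := by
  refine ⟨fun {U} hU {V} hV e => ?_⟩
  have h : (f.appLE U V e).hom.Etale :=
    HasRingHomProperty.appLE (P := @Etale) f inferInstance ⟨U, hU⟩ ⟨V, hV⟩ e
  algebraize [(f.appLE U V e).hom]
  change Algebra.QuasiFinite _ _
  infer_instance

/-- an étale scheme over a field is discrete -/
theorem discreteTopology_of_etale_field (k : Type u) [Field k] {W : Scheme.{u}}
    (p : W ⟶ Spec (CommRingCat.of k)) [Etale p] : DiscreteTopology W := by
  haveI := locallyQuasiFinite_of_etale p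
  have h := p.isDiscrete_preimage_singleton (default : Spec (CommRingCat.of k))
  have hu : p ⁻¹' {default} = Set.univ := by
    ext x
    simp only [Set.mem_preimage, Set.mem_singleton_iff, Set.mem_univ, iff_true]
    exact @Subsingleton.elim _ (inferInstanceAs (Subsingleton (PrimeSpectrum k))) _ _
  rw [hu] at h
  exact isDiscrete_univ_iff.mp h

/-- The locus where two `S`-morphisms into an unramified `S`-scheme agree is open. -/
theorem exists_isOpen_agree_iff {S A B : Scheme.{u}} (a : A ⟶ S) (b : B ⟶ S)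
    [FormallyUnramified b] [LocallyOfFiniteType b]
    (φ ψ : A ⟶ B) (hφ : φ ≫ b = a) (hψ : ψ ≫ b = a) :
    ∃ C : Set A, IsOpen C ∧
      (∀ {T : Scheme.{u}} (t : T ⟶ A), t ≫ φ = t ≫ ψ ↔ Set.range t ⊆ C) := by
  let X' : Over S := Over.mk b
  let Y' : Over S := Over.mk a
  let φ' : Y' ⟶ X' := Over.homMk φ hφ
  let ψ' : Y' ⟶ X' := Over.homMk ψ hψ
  have hunr : FormallyUnramified X'.hom := ‹_›
  have hlft : LocallyOfFiniteType X'.hom := ‹_›
  have hopen : IsOpenImmersion (equalizer.ι φ' ψ').left :=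
    Groth.Agent.Lib.Helper20.EtHom.isOpenImmersion_equalizer_ι_left φ' ψ'
  refine ⟨Set.range (equalizer.ι φ' ψ').left,
    (equalizer.ι φ' ψ').left.isOpenEmbedding.isOpen_range, ?_⟩
  intro T t
  constructor
  · intro ht
    let T' : Over S := Over.mk (t ≫ a)
    let t' : T' ⟶ Y' := Over.homMk t rfl
    have hι : t' ≫ φ' = t' ≫ ψ' := by ext1; exact ht
    rintro _ ⟨x, rfl⟩
    refine ⟨(equalizer.lift t' hι).left x, ?_⟩
    rw [← Scheme.Hom.comp_apply, ← Over.comp_left, equalizer.lift_ι]
    rfl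
  · intro hr
    have h1 : IsOpenImmersion.lift (equalizer.ι φ' ψ').left t hr ≫ (equalizer.ι φ' ψ').left = t :=
      IsOpenImmersion.lift_fac _ _ _
    have h2 : (equalizer.ι φ' ψ').left ≫ φ = (equalizer.ι φ' ψ').left ≫ ψ :=
      congr($(equalizer.condition φ' ψ').left)
    rw [← h1, Category.assoc, Category.assoc, h2]

/-- agreement of morphisms into an unramified scheme can be tested after a surjection -/
theorem eq_of_surjective_comp_eq {S A A' B : Scheme.{u}} (b : B ⟶ S)
    [FormallyUnramified b] [LocallyOfFiniteType b] (p : A' ⟶ A) [Surjective p]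
    (φ ψ : A ⟶ B) (h : φ ≫ b = ψ ≫ b) (hp : p ≫ φ = p ≫ ψ) : φ = ψ := by
  obtain ⟨C, -, hC⟩ := exists_isOpen_agree_iff (φ ≫ b) b φ ψ rfl h.symm
  have h1 : Set.range p ⊆ C := (hC p).mp hp
  have h2 : Set.range (𝟙 A : A ⟶ A) ⊆ C := by
    rintro x -
    obtain ⟨y, rfl⟩ := p.surjective x
    exact h1 ⟨y, rfl⟩
  have := (hC (𝟙 A)).mpr h2
  rwa [Category.id_comp, Category.id_comp] at this

end Groth.Agent.Lib.Helper20.UnivSub
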