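import Mathlib
import Groth.Agent.Lib.Helper20UnivSubBasic

set_option autoImplicit false
universe u
open CategoryTheory CategoryTheory.Limits AlgebraicGeometry

namespace Groth.Agent.Lib.Helper20.UnivSub

open Groth.Agent.Lib.Helper22.FEtGraph

/-- the image of a section of `Z ×_X X' ⟶ X'` is saturated for the projection to `Z`, when
`X' = X ×_S S'` with `S' ⟶ S` having connected geometric fibres and `Z ⟶ X` étale. -/
theorem saturated {S' S X Z : Scheme.{u}} (g : S' ⟶ S)
    (hconn : ∀ (K : Type u) [Field K] [IsAlgClosed K] (ξ : Spec (CommRingCat.of K) ⟶ S),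
      ConnectedSpace ↑(pullback g ξ))
    (x : X ⟶ S) (pr₁ : Z ⟶ X) [Etale pr₁]
    (γ' : pullback x g ⟶ pullback pr₁ (pullback.fst x g))
    (hγ : γ' ≫ pullback.snd pr₁ (pullback.fst x g) = 𝟙 _)
    (w' w'' : ↥(pullback pr₁ (pullback.fst x g))) (hw' : w' ∈ Set.range γ')
    (hq : (pullback.fst pr₁ (pullback.fst x g)) w'' = (pullback.fst pr₁ (pullback.fst x g)) w') :
    w'' ∈ Set.range γ' := by
  let pX := pullback.fst x g
  let sX := pullback.snd x g
  let q₁ := pullback.fst pr₁ pX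
  let q₂ := pullback.snd pr₁ pX
  haveI : Etale q₂ := MorphismProperty.pullback_snd (P := @Etale) pr₁ pX inferInstance
  haveI : Etale (γ' ≫ q₂) := by rw [hγ]; infer_instance
  haveI : Etale γ' := Etale.of_comp γ' q₂
  haveI : Mono γ' := mono_of_mono_fac hγ
  haveI : IsOpenImmersion γ' := IsOpenImmersion.of_flat_of_mono γ'
  obtain ⟨Ω, _, _, ζ, hζ⟩ := exists_geometric_point (q₁ w')
  let τ := pullback.fst q₁ ζ
  let σT := pullback.snd q₁ ζ
  have hτr : Set.range τ = q₁ ⁻¹' {q₁ w'} := by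
    rw [← hζ]
    exact Scheme.Pullback.range_fst q₁ ζ
  obtain ⟨a', ha'⟩ : w' ∈ Set.range τ := by rw [hτr]; rfl
  obtain ⟨a'', ha''⟩ : w'' ∈ Set.range τ := by rw [hτr]; exact hq
  have H : IsPullback q₁ (q₂ ≫ sX) (pr₁ ≫ x) g :=
    (IsPullback.of_hasPullback pr₁ pX).paste_vert (IsPullback.of_hasPullback x g)
  have H1 : IsPullback (τ ≫ (q₂ ≫ sX)) σT g (ζ ≫ (pr₁ ≫ x)) :=
    (IsPullback.of_hasPullback q₁ ζ).paste_horiz H.flip
  haveI := hconn Ω (ζ ≫ (pr₁ ≫ x))
  haveI : ConnectedSpace ↥(pullback q₁ ζ) :=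
    Function.Surjective.connectedSpace (f := H1.isoPullback.inv)
      (ConcreteCategory.bijective_of_isIso H1.isoPullback.inv.base).2
      H1.isoPullback.inv.continuous
  let str := pullback.snd pr₁ (ζ ≫ pr₁)
  haveI : Etale str := MorphismProperty.pullback_snd (P := @Etale) pr₁ (ζ ≫ pr₁) inferInstance
  let s : Spec (CommRingCat.of Ω) ⟶ pullback pr₁ (ζ ≫ pr₁) :=
    pullback.lift ζ (𝟙 _) (by rw [Category.id_comp])
  have hs1 : s ≫ pullback.fst pr₁ (ζ ≫ pr₁) = ζ := pullback.lift_fst _ _ _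
  have hs2 : s ≫ str = 𝟙 _ := pullback.lift_snd _ _ _
  haveI : Etale (s ≫ str) := by rw [hs2]; infer_instance
  haveI : Etale s := Etale.of_comp s str
  haveI : Mono s := mono_of_mono_fac hs2
  haveI : IsOpenImmersion s := IsOpenImmersion.of_flat_of_mono s
  have hcond : q₁ ≫ pr₁ = q₂ ≫ pX := pullback.condition
  have hT : τ ≫ q₁ = σT ≫ ζ := pullback.condition
  let β : pullback q₁ ζ ⟶ pullback pr₁ (ζ ≫ pr₁) :=
    pullback.lift (τ ≫ q₂ ≫ γ' ≫ q₁) σT (by
      rw [Category.assoc, Category.assoc, Category.assoc, hcond, reassoc_of% hγ,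
        ← hcond, reassoc_of% hT])
  have hβ1 : β ≫ pullback.fst pr₁ (ζ ≫ pr₁) = τ ≫ q₂ ≫ γ' ≫ q₁ := pullback.lift_fst _ _ _
  have hβ2 : β ≫ str = σT := pullback.lift_snd _ _ _
  haveI : DiscreteTopology ↥(pullback pr₁ (ζ ≫ pr₁)) := discreteTopology_of_etale_field Ω str
  let z₀ := s default
  have hβa' : β a' = z₀ := by
    let t := (pullback q₁ ζ).fromSpecResidueField a'
    have hr : Set.range (t ≫ τ) ⊆ Set.range γ' := by
      rintro _ ⟨pt, rfl⟩
      rw [Scheme.Hom.comp_apply, Scheme.fromSpecResidueField_apply, ha']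
      exact hw'
    have hu : IsOpenImmersion.lift γ' (t ≫ τ) hr ≫ γ' = t ≫ τ := IsOpenImmersion.lift_fac _ _ _
    have h1 : (t ≫ τ) ≫ q₂ ≫ γ' = t ≫ τ := by
      rw [← hu, Category.assoc, reassoc_of% hγ]
    have h2 : t ≫ β = t ≫ σT ≫ s := by
      apply pullback.hom_ext
      · have h1' := congrArg (fun m => m ≫ q₁) h1
        simp only [Category.assoc] at h1'
        rw [Category.assoc, hβ1, Category.assoc, Category.assoc, hs1, ← hT]
        exact h1'
      · rw [Category.assoc, Category.assoc, Category.assoc]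
        change t ≫ β ≫ str = t ≫ σT ≫ s ≫ str
        rw [hβ2, hs2, Category.comp_id]
    have h3 : β a' = (t ≫ β) default := by
      rw [Scheme.Hom.comp_apply, Scheme.fromSpecResidueField_apply]
    rw [h3, h2, Scheme.Hom.comp_apply, Scheme.Hom.comp_apply]
    congr 1
    exact @Subsingleton.elim _ (inferInstanceAs (Subsingleton (PrimeSpectrum Ω))) _ _
  have hβall : ∀ a, β a = z₀ := by
    have hcl : IsClopen (β ⁻¹' {z₀}) := (isClopen_discrete {z₀}).preimage β.continuous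
    have := hcl.eq_univ ⟨a', hβa'⟩
    intro a
    have ha : a ∈ β ⁻¹' {z₀} := by rw [this]; trivial
    exact ha
  have hrβ : Set.range β ⊆ Set.range s := by
    rintro _ ⟨a, rfl⟩
    exact ⟨default, (hβall a).symm⟩
  have hl : IsOpenImmersion.lift s β hrβ ≫ s = β := IsOpenImmersion.lift_fac _ _ _
  have hl' : IsOpenImmersion.lift s β hrβ = σT := by
    have := congrArg (fun m => m ≫ str) hl
    simp only [Category.assoc, hs2, Category.comp_id] at this
    rw [this]; exact hβ2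
  have hβα : β = σT ≫ s := by rw [← hl, hl']
  have h4 : τ ≫ q₂ ≫ γ' ≫ q₁ = τ ≫ q₁ := by
    rw [← hβ1, hβα, Category.assoc, hs1, hT]
  have h5 : τ ≫ q₂ ≫ γ' = τ := by
    apply pullback.hom_ext
    · rw [Category.assoc, Category.assoc]
      exact h4
    · rw [Category.assoc, Category.assoc]
      change τ ≫ q₂ ≫ γ' ≫ q₂ = τ ≫ q₂
      rw [hγ, Category.comp_id]
  refine ⟨q₂ (τ a''), ?_⟩
  rw [← ha'', ← Scheme.Hom.comp_apply, ← Scheme.Hom.comp_apply, h5]

end Groth.Agent.Lib.Helper20.UnivSub
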