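import Mathlib
import Groth.Prelude.Def_SGA1
import Groth.Agent.Lib.Helper20UnivSubSat

set_option autoImplicit false
universe u
open CategoryTheory CategoryTheory.Limits AlgebraicGeometry

namespace Groth.Agent.Lib.Helper20.UnivSub

open Groth.Agent.Lib.Helper22.FEtGraph

theorem isQuotientMap_of_univSubmersive {S' S : Scheme.{u}} (g : S' ⟶ S)
    (hg : SGA1.UnivSubmersive g) {A B : Scheme.{u}} (f' : A ⟶ B) (i₁ : A ⟶ S') (i₂ : B ⟶ S)
    (H : IsPullback f' i₁ i₂ g) : Topology.IsQuotientMap f' :=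
  hg _ _ _ H

/-- morphisms between base changes of étale schemes descend along universally submersive maps
with connected geometric fibres -/
theorem exists_descend {S' S X Y : Scheme.{u}} (g : S' ⟶ S) (hg : SGA1.UnivSubmersive g)
    (hconn : ∀ (K : Type u) [Field K] [IsAlgClosed K] (ξ : Spec (CommRingCat.of K) ⟶ S),
      ConnectedSpace ↑(pullback g ξ))
    (x : X ⟶ S) (y : Y ⟶ S) [Etale x] [Etale y]
    (h : pullback x g ⟶ pullback y g) (hh : h ≫ pullback.snd y g = pullback.snd x g) :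
    ∃ φ : X ⟶ Y, φ ≫ y = x ∧ pullback.fst x g ≫ φ = h ≫ pullback.fst y g := by
  let pX := pullback.fst x g
  let sX := pullback.snd x g
  let pY := pullback.fst y g
  let sY := pullback.snd y g
  let pr₁ := pullback.fst x y
  let pr₂ := pullback.snd x y
  let q₁ := pullback.fst pr₁ pX
  let q₂ := pullback.snd pr₁ pX
  have hZ : pr₁ ≫ x = pr₂ ≫ y := pullback.condition
  have hcond : q₁ ≫ pr₁ = q₂ ≫ pX := pullback.condition
  let γ₀ : pullback x g ⟶ pullback x y := pullback.lift pX (h ≫ pY) (by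
    rw [Category.assoc]
    change pX ≫ x = h ≫ pY ≫ y
    rw [show pY ≫ y = sY ≫ g from pullback.condition, reassoc_of% hh]
    exact pullback.condition)
  have hγ₀1 : γ₀ ≫ pr₁ = pX := pullback.lift_fst _ _ _
  have hγ₀2 : γ₀ ≫ pr₂ = h ≫ pY := pullback.lift_snd _ _ _
  let γ' : pullback x g ⟶ pullback pr₁ pX := pullback.lift γ₀ (𝟙 _) (by
    rw [hγ₀1, Category.id_comp])
  have hγ1 : γ' ≫ q₁ = γ₀ := pullback.lift_fst _ _ _
  have hγ2 : γ' ≫ q₂ = 𝟙 _ := pullback.lift_snd _ _ _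
  haveI : Etale q₂ := MorphismProperty.pullback_snd (P := @Etale) pr₁ pX inferInstance
  haveI : Etale (γ' ≫ q₂) := by rw [hγ2]; infer_instance
  haveI : Etale γ' := Etale.of_comp γ' q₂
  haveI : Mono γ' := mono_of_mono_fac hγ2
  haveI : IsOpenImmersion γ' := IsOpenImmersion.of_flat_of_mono γ'
  have H : IsPullback q₁ (q₂ ≫ sX) (pr₁ ≫ x) g :=
    (IsPullback.of_hasPullback pr₁ pX).paste_vert (IsPullback.of_hasPullback x g)
  have hq₁ : Topology.IsQuotientMap q₁ := isQuotientMap_of_univSubmersive g hg _ _ _ H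
  have hpX : Topology.IsQuotientMap pX :=
    isQuotientMap_of_univSubmersive g hg _ _ _ (IsPullback.of_hasPullback x g)
  have hsat : q₁ ⁻¹' (q₁ '' Set.range γ') = Set.range γ' := by
    apply Set.Subset.antisymm
    · rintro w'' ⟨w', hw', hw⟩
      exact saturated g hconn x pr₁ γ' hγ2 w' w'' hw' hw.symm
    · exact Set.subset_preimage_image _ _
  have hΓopen : IsOpen (q₁ '' Set.range γ') := by
    rw [← hq₁.isOpen_preimage, hsat]
    exact γ'.isOpenEmbedding.isOpen_range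
  let ΓO : (pullback x y).Opens := ⟨q₁ '' Set.range γ', hΓopen⟩
  let r : (ΓO : Scheme) ⟶ X := ΓO.ι ≫ pr₁
  have hmemΓ : ∀ w : ↥(pullback pr₁ pX), q₁ w ∈ (ΓO : Set ↥(pullback x y)) → w ∈ Set.range γ' := by
    intro w hw
    have : w ∈ q₁ ⁻¹' (q₁ '' Set.range γ') := hw
    rwa [hsat] at this
  -- the lift of the graph
  have hγ₀r : Set.range γ₀ ⊆ Set.range ΓO.ι := by
    rintro _ ⟨a, rfl⟩
    rw [Scheme.Opens.range_ι]
    refine ⟨γ' a, ⟨a, rfl⟩, ?_⟩
    rw [← Scheme.Hom.comp_apply, hγ1]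
  let ℓ : pullback x g ⟶ ΓO := IsOpenImmersion.lift ΓO.ι γ₀ hγ₀r
  have hℓ : ℓ ≫ ΓO.ι = γ₀ := IsOpenImmersion.lift_fac _ _ _
  have hℓr : ℓ ≫ r = pX := by
    change ℓ ≫ ΓO.ι ≫ pr₁ = pX
    rw [reassoc_of% hℓ, hγ₀1]
  haveI : Surjective pX := ⟨hpX.surjective⟩
  haveI : Surjective r := by
    refine ⟨fun a => ?_⟩
    obtain ⟨a', rfl⟩ := pX.surjective a
    refine ⟨ℓ a', ?_⟩
    rw [← Scheme.Hom.comp_apply, hℓr]
  haveI : UniversallyInjective r := by
    have Hc := (tfae_universallyInjective r).out 0 1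
    refine Hc.mpr ?_
    intro K _ a₁ a₂ ha
    dsimp only at ha
    let Ω := AlgebraicClosure K
    let c : Spec (CommRingCat.of Ω) ⟶ Spec (CommRingCat.of K) :=
      Spec.map (CommRingCat.ofHom (algebraMap K Ω))
    haveI : Flat c := flat_of_field K c
    haveI : Surjective c := ⟨fun _ => ⟨default,
      @Subsingleton.elim _ (inferInstanceAs (Subsingleton (PrimeSpectrum K))) _ _⟩⟩
    haveI : Epi c := Flat.epi_of_flat_of_surjective c
    rw [← cancel_epi c, ← cancel_mono ΓO.ι]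
    let b₁ : Spec (CommRingCat.of Ω) ⟶ pullback x y := (c ≫ a₁) ≫ ΓO.ι
    let b₂ : Spec (CommRingCat.of Ω) ⟶ pullback x y := (c ≫ a₂) ≫ ΓO.ι
    change b₁ = b₂
    have hb : b₁ ≫ pr₁ = b₂ ≫ pr₁ := by
      change ((c ≫ a₁) ≫ ΓO.ι) ≫ pr₁ = ((c ≫ a₂) ≫ ΓO.ι) ≫ pr₁
      rw [Category.assoc, Category.assoc, Category.assoc, Category.assoc]
      change c ≫ a₁ ≫ r = c ≫ a₂ ≫ r
      rw [ha]
    let t := b₁ ≫ pr₁
    let fT := pullback.fst pX t
    let sT := pullback.snd pX t
    haveI : Flat sT := flat_of_field Ω sT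
    haveI : Surjective sT := MorphismProperty.pullback_snd (P := @Surjective) pX t inferInstance
    haveI : Epi sT := Flat.epi_of_flat_of_surjective sT
    have hTc : fT ≫ pX = sT ≫ t := pullback.condition
    have key : ∀ (b : Spec (CommRingCat.of Ω) ⟶ pullback x y), b ≫ pr₁ = t →
        Set.range b ⊆ (ΓO : Set ↥(pullback x y)) → sT ≫ b = fT ≫ γ₀ := by
      intro b hbt hbr
      let τ : pullback pX t ⟶ pullback pr₁ pX := pullback.lift (sT ≫ b) fT (by
        rw [Category.assoc, hbt, hTc])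
      have hτ1 : τ ≫ q₁ = sT ≫ b := pullback.lift_fst _ _ _
      have hτ2 : τ ≫ q₂ = fT := pullback.lift_snd _ _ _
      have hτr : Set.range τ ⊆ Set.range γ' := by
        rintro _ ⟨a, rfl⟩
        apply hmemΓ
        rw [← Scheme.Hom.comp_apply, hτ1, Scheme.Hom.comp_apply]
        exact hbr ⟨_, rfl⟩
      have hl : IsOpenImmersion.lift γ' τ hτr ≫ γ' = τ := IsOpenImmersion.lift_fac _ _ _
      have hl' : IsOpenImmersion.lift γ' τ hτr = fT := by
        have := congrArg (fun m => m ≫ q₂) hl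
        simp only [Category.assoc, hγ2, Category.comp_id] at this
        rw [this]; exact hτ2
      rw [← hτ1, ← hl, hl', Category.assoc, hγ1]
    have hr₁ : Set.range b₁ ⊆ (ΓO : Set ↥(pullback x y)) := by
      rintro _ ⟨pt, rfl⟩
      change (ΓO.ι ((c ≫ a₁) pt)) ∈ _
      exact ((c ≫ a₁) pt).2
    have hr₂ : Set.range b₂ ⊆ (ΓO : Set ↥(pullback x y)) := by
      rintro _ ⟨pt, rfl⟩
      change (ΓO.ι ((c ≫ a₂) pt)) ∈ _
      exact ((c ≫ a₂) pt).2
    rw [← cancel_epi sT, key b₁ rfl hr₁, key b₂ hb.symm hr₂]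
  haveI : Etale r := inferInstance
  haveI : Surjective (pullback.diagonal r) := (UniversallyInjective.iff_diagonal r).mp inferInstance
  haveI : IsIso (pullback.diagonal r) :=
    (isIso_iff_isOpenImmersion_and_surjective _).2 ⟨inferInstance, inferInstance⟩
  haveI : Mono r := by
    rw [← pullback.isIso_diagonal_iff]
    infer_instance
  haveI : IsOpenImmersion r := IsOpenImmersion.of_flat_of_mono r
  haveI : IsIso r := (isIso_iff_isOpenImmersion_and_surjective _).2 ⟨inferInstance, inferInstance⟩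
  refine ⟨inv r ≫ ΓO.ι ≫ pr₂, ?_, ?_⟩
  · rw [Category.assoc, Category.assoc, ← hZ, IsIso.inv_comp_eq]
    rfl
  · have : pX ≫ inv r = ℓ := by rw [← hℓr, Category.assoc, IsIso.hom_inv_id, Category.comp_id]
    rw [reassoc_of% this, reassoc_of% hℓ, hγ₀2]

end Groth.Agent.Lib.Helper20.UnivSub
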