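import Mathlib

set_option autoImplicit false
universe u

open CategoryTheory CategoryTheory.Limits AlgebraicGeometry TensorProduct

namespace Groth.Agent.Lib.Helper20.UnrField

theorem exists_point_chart (k : Type u) [Field k] {X : Scheme.{u}}
    (f : X ⟶ Spec (CommRingCat.of k)) [FormallyUnramified f] [LocallyOfFiniteType f] (x : X) :
    ∃ (K : Type u) (_ : Field K) (_ : Algebra k K) (j : Spec (CommRingCat.of K) ⟶ X),
      FiniteDimensional k K ∧ Algebra.IsSeparable k K ∧ IsOpenImmersion j ∧
        Set.range j = {x} ∧ j ≫ f = Spec.map (CommRingCat.ofHom (algebraMap k K)) := by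
  obtain ⟨_, ⟨U, hU0, rfl⟩, hxU, -⟩ := X.isBasis_affineOpens.exists_subset_of_mem_open
    (Set.mem_univ x) isOpen_univ
  have hU : IsAffineOpen U := hU0
  have : IsOpenImmersion hU.fromSpec := hU.isOpenImmersion_fromSpec
  let φ : CommRingCat.of k ⟶ Γ(X, U) := Spec.preimage (hU.fromSpec ≫ f)
  have hφ : Spec.map φ = hU.fromSpec ≫ f := Spec.map_preimage _
  have h1 : φ.hom.FormallyUnramified := by
    rw [← HasRingHomProperty.Spec_iff (P := @FormallyUnramified), hφ]
    exact MorphismProperty.comp_mem _ _ _ inferInstance inferInstance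
  have h2 : φ.hom.FiniteType := by
    rw [← HasRingHomProperty.Spec_iff (P := @LocallyOfFiniteType), hφ]
    infer_instance
  algebraize [φ.hom]
  have : Algebra.FormallyEtale k Γ(X, U) := Algebra.FormallyEtale.of_formallyUnramified_of_field _ _
  obtain ⟨I, _, Ai, _, _, e, hsep⟩ := (Algebra.FormallyEtale.iff_exists_algEquiv_prod
    (K := k) (A := Γ(X, U))).mp this
  let p : PrimeSpectrum Γ(X, U) := hU.primeIdealOf ⟨x, hxU⟩
  obtain ⟨i0, q, hq⟩ := PrimeSpectrum.exists_comap_evalRingHom_eq
    (PrimeSpectrum.comap (e.symm : (Π i, Ai i) →+* Γ(X, U)) p)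
  let ψ : Γ(X, U) →ₐ[k] Ai i0 := (Pi.evalAlgHom k Ai i0).comp e.toAlgHom
  have hψ : Function.Surjective ψ := (Function.surjective_eval i0).comp e.surjective
  refine ⟨Ai i0, inferInstance, inferInstance,
    Spec.map (CommRingCat.ofHom ψ.toRingHom) ≫ hU.fromSpec, ?_, hsep i0, ?_, ?_, ?_⟩
  · have : Module.Finite k Γ(X, U) := Algebra.FormallyUnramified.finite_of_free k _
    exact Module.Finite.of_surjective ψ.toLinearMap hψ
  · have heq : CommRingCat.ofHom ψ.toRingHom =
        (e.toRingEquiv.toCommRingCatIso).hom ≫ CommRingCat.ofHom (Pi.evalRingHom Ai i0) := rfl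
    rw [heq, Spec.map_comp]
    infer_instance
  · have hsub : Subsingleton (Spec (CommRingCat.of (Ai i0))) :=
      inferInstanceAs (Subsingleton (PrimeSpectrum (Ai i0)))
    let q' : Spec (CommRingCat.of (Ai i0)) := q
    have hjq : (Spec.map (CommRingCat.ofHom ψ.toRingHom) ≫ hU.fromSpec) q' = x := by
      rw [Scheme.Hom.comp_apply]
      have : Spec.map (CommRingCat.ofHom ψ.toRingHom) q' = p := by
        change PrimeSpectrum.comap ψ.toRingHom q = p
        have h3 : ψ.toRingHom = (Pi.evalRingHom Ai i0).comp (e : Γ(X, U) →+* (Π i, Ai i)) := rfl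
        rw [h3, PrimeSpectrum.comap_comp_apply, hq, ← PrimeSpectrum.comap_comp_apply]
        have h4 : ((e.symm : (Π i, Ai i) →+* Γ(X, U))).comp (e : Γ(X, U) →+* (Π i, Ai i)) =
            RingHom.id _ := by
          ext a; simp
        rw [h4]; rfl
      rw [this]; exact hU.fromSpec_primeIdealOf ⟨x, hxU⟩
    ext y; constructor
    · rintro ⟨z, rfl⟩; rw [Subsingleton.elim z q']; exact hjq
    · rintro rfl; exact ⟨q', hjq⟩
  · rw [Category.assoc, ← hφ, ← Spec.map_comp]
    congr 1
    ext r
    exact ψ.commutes r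

end Groth.Agent.Lib.Helper20.UnrField
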