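import Mathlib
import Groth.Agent.Lib.Helper20EtSectionsCI2

set_option autoImplicit false
universe u

open CategoryTheory CategoryTheory.Limits AlgebraicGeometry

namespace Groth.Agent.Lib.Helper20.EtSections

theorem exists_sigma_closedImmersions {X S : Scheme.{u}} (f : X ⟶ S) [IsFinite f]
    [FormallyUnramified f] (s : S) :
    ∃ (U : Scheme.{u}) (g : U ⟶ S) (_ : AlgebraicGeometry.Etale g) (u : U) (_ : g u = s)
      (n : ℕ) (V : Fin n → Scheme.{u}) (c : ∀ j, V j ⟶ U) (_ : ∀ j, IsClosedImmersion (c j))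
      (e : (∐ V) ≅ pullback f g), ∀ j, Sigma.ι V j ≫ e.hom ≫ pullback.snd f g = c j := by
  have hT : (f ⁻¹' {s}).Finite := Scheme.Hom.finite_preimage_singleton f s
  have h0 : HasSectionsCI f s (f ⁻¹' {s}) := by
    apply hasSectionsCI_of_finite f s _ hT
    intro t ht
    have h1 : FormallyUnramified (⊤ : X.Opens).ι := inferInstance
    have h2 : FormallyUnramified ((⊤ : X.Opens).ι ≫ f) :=
      MorphismProperty.comp_mem _ _ _ h1 ‹_›
    exact ⟨ht, ⊤, trivial, inferInstance, h2⟩
  obtain ⟨U, g, u, hg, hu, K, hK, W, V, b1, b2, b3, b4, b5⟩ := h0.exists_decomposition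
  -- `W` is closed
  have hWc : IsClosed (W : Set ↥(pullback f g)) := by
    have : (W : Set ↥(pullback f g)) = ((⨆ k, V k : (pullback f g).Opens) : Set ↥(pullback f g))ᶜ := by
      ext w
      simp only [Set.mem_compl_iff, SetLike.mem_coe]
      constructor
      · intro hw hw'
        rw [TopologicalSpace.Opens.mem_iSup] at hw'
        obtain ⟨k, hk⟩ := hw'
        exact (disjoint_iff.mp (b2 k)).le ⟨hw, hk⟩
      · intro hw
        have : w ∈ W ⊔ (⨆ k, V k) := by rw [b1]; trivial
        rcases this with h | h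
        · exact h
        · exact absurd h hw
    rw [this]
    exact (TopologicalSpace.Opens.isOpen _).isClosed_compl
  have hpW : IsClosed (pullback.snd f g '' (W : Set ↥(pullback f g))) :=
    (pullback.snd f g).isClosedMap _ hWc
  let U' : U.Opens := ⟨_, hpW.isOpen_compl⟩
  have huU' : u ∈ U' := by
    rintro ⟨w, hwW, hwu⟩
    refine b5 w hwW hwu ?_
    change f (pullback.fst f g w) = s
    rw [← Scheme.Hom.comp_apply, pullback.condition, Scheme.Hom.comp_apply, hwu, hu]
  have hur : u ∈ Set.range U'.ι := by rw [Scheme.Opens.range_ι]; exact huU'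
  obtain ⟨u', hu'⟩ := hur
  let m := bcMap f g U'.ι
  let V' : K → (pullback f (U'.ι ≫ g)).Opens := fun k => m ⁻¹ᵁ V k
  let e := Finite.equivFin K
  have hcov : ⨆ j, ((V' (e.symm j)).ι).opensRange = ⊤ := by
    rw [eq_top_iff]
    intro w _
    rw [TopologicalSpace.Opens.mem_iSup]
    have hmw : m w ∈ W ⊔ (⨆ k, V k) := by rw [b1]; trivial
    rcases hmw with h | h
    · exfalso
      have hy : pullback.snd f g (m w) ∈ U' := by
        rw [bcMap_snd_apply]
        have : U'.ι (pullback.snd f (U'.ι ≫ g) w) ∈ Set.range U'.ι := ⟨_, rfl⟩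
        rwa [Scheme.Opens.range_ι] at this
      exact hy ⟨m w, h, rfl⟩
    · rw [SetLike.mem_coe, TopologicalSpace.Opens.mem_iSup] at h
      obtain ⟨k, hk⟩ := h
      refine ⟨e k, ?_⟩
      rw [Scheme.Opens.opensRange_ι, Equiv.symm_apply_apply]
      exact hk
  have hdisj : Pairwise (Function.onFun Disjoint (fun j => ((V' (e.symm j)).ι).opensRange)) := by
    intro j j' hjj'
    change Disjoint ((V' (e.symm j)).ι).opensRange ((V' (e.symm j')).ι).opensRange
    rw [Scheme.Opens.opensRange_ι, Scheme.Opens.opensRange_ι]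
    have hne : e.symm j ≠ e.symm j' := fun h => hjj' (e.symm.injective h)
    have := b3 _ _ hne
    rw [disjoint_iff] at this ⊢
    ext w
    simp only [TopologicalSpace.Opens.coe_inf, Set.mem_inter_iff, SetLike.mem_coe,
      TopologicalSpace.Opens.coe_bot, Set.mem_empty_iff_false, iff_false, not_and]
    intro hw hw'
    have h1 : m w ∈ V (e.symm j) ⊓ V (e.symm j') := ⟨hw, hw'⟩
    rw [this] at h1
    exact h1
  obtain ⟨hcol⟩ := nonempty_isColimit_cofanMk_of (fun j => (V' (e.symm j)).ι) hcov hdisj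
  let E : (∐ fun j => ((V' (e.symm j)) : Scheme.{u})) ≅ pullback f (U'.ι ≫ g) :=
    (colimit.isColimit _).coconePointUniqueUpToIso hcol
  refine ⟨U', U'.ι ≫ g, inferInstance, u', ?_, Nat.card K, fun j => ((V' (e.symm j)) : Scheme.{u}),
    fun j => (V' (e.symm j)).ι ≫ pullback.snd f (U'.ι ≫ g), ?_, E, ?_⟩
  · rw [Scheme.Hom.comp_apply, hu', hu]
  · intro j
    have := (b4 (e.symm j)).1
    exact isClosedImmersion_preimage_bcMap f g U'.ι (V (e.symm j))
  · intro j
    rw [← Category.assoc]
    congr 1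
    exact (colimit.isColimit _).comp_coconePointUniqueUpToIso_hom hcol ⟨j⟩

end Groth.Agent.Lib.Helper20.EtSections
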