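import Mathlib
import Groth.Prelude.Def_FlatCA
import Groth.Agent.Lib.Helper14WeakAssD

set_option autoImplicit false
set_option linter.unusedSectionVars false
set_option linter.style.haveILetI false

namespace Groth.Agent.Lib.Helper20.WADesc

open TensorProduct Groth.Agent.Lib.Helper14.WeakAss

universe u

/-- `A → B` "descends weakly associated primes": for every `A`-module `M`, the contraction of a
prime of `B` weakly associated to `B ⊗ M` is weakly associated to `M`. -/
def Desc (A B : Type u) [CommRing A] [CommRing B] [Algebra A B] : Prop :=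
  ∀ (M : Type u) [AddCommGroup M] [Module A M] (t : Ideal B) [t.IsPrime],
    t ∈ FlatCA.weakAss B (B ⊗[A] M) → t.under A ∈ FlatCA.weakAss A M

theorem weakAss_of_linearEquiv {A : Type u} [CommRing A] {N N' : Type u} [AddCommGroup N]
    [Module A N] [AddCommGroup N'] [Module A N'] (e : N ≃ₗ[A] N') (t : Ideal A) [t.IsPrime]
    (h : t ∈ FlatCA.weakAss A N) : t ∈ FlatCA.weakAss A N' := by
  rw [mem_weakAss_iff_isWA] at h ⊢
  obtain ⟨z, hz⟩ := h
  exact ⟨e z, IsWA.map_of_smul (fun z => e z)
    (fun z hz => by rwa [LinearEquiv.map_eq_zero_iff] at hz) (fun r z => by rw [map_smul]) hz⟩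

theorem Desc.of_finite_flat {A B : Type u} [CommRing A] [CommRing B] [Algebra A B]
    [Module.Finite A B] [Module.Flat A B] : Desc A B :=
  fun M _ _ t _ ht => mem_weakAss_under_of_finite_flat M t ht

theorem Desc.comp {A B C : Type u} [CommRing A] [CommRing B] [CommRing C] [Algebra A B]
    [Algebra B C] [Algebra A C] [IsScalarTower A B C] (h1 : Desc A B) (h2 : Desc B C) :
    Desc A C := by
  intro M _ _ t _ ht
  have e : C ⊗[B] (B ⊗[A] M) ≃ₗ[C] C ⊗[A] M :=
    TensorProduct.AlgebraTensorModule.cancelBaseChange A B C C M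
  have h3 := h2 (B ⊗[A] M) t (weakAss_of_linearEquiv e.symm t ht)
  have h4 := h1 M (t.under B) h3
  rwa [Ideal.under_under] at h4

theorem Desc.of_algEquiv {A B B' : Type u} [CommRing A] [CommRing B] [CommRing B'] [Algebra A B]
    [Algebra A B'] (e : B ≃ₐ[A] B') (h : Desc A B) : Desc A B' := by
  intro M _ _ t' _ ht'
  haveI : (t'.comap (e : B →+* B')).IsPrime := Ideal.comap_isPrime _ _
  have h1 : t'.comap (e : B →+* B') ∈ FlatCA.weakAss B (B ⊗[A] M) := by
    refine mem_weakAss_tensor_algEquiv e.symm M _ ?_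
    convert ht' using 1
    ext x
    simp [Ideal.mem_comap]
  have h2 := h M _ h1
  convert h2 using 1
  ext a
  simp [Ideal.under_def, Ideal.mem_comap]

/-- Step A: flat going-down for a witness of the form `1 ⊗ z`. -/
theorem isWA_under_of_flat {A B : Type u} [CommRing A] [CommRing B] [Algebra A B]
    [Module.Flat A B] {N : Type u} [AddCommGroup N] [Module A N] (z : N) (t : Ideal B) [t.IsPrime]
    (h : IsWA t ((1 : B) ⊗ₜ[A] z)) : IsWA (t.under A) z := by
  set I : Ideal A := LinearMap.ker (LinearMap.toSpanSingleton A N z) with hI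
  have hmin : t ∈ (I.map (algebraMap A B)).minimalPrimes := by
    have h1 := h.mem_minimalPrimes
    convert h1 using 2
    ext b
    rw [Submodule.mem_annihilator_span_singleton, TensorProduct.smul_tmul', smul_eq_mul, mul_one,
      tmul_eq_zero_iff_of_flat]
  have hmin' : t.under A ∈ I.minimalPrimes := by
    refine ⟨⟨inferInstance, ?_⟩, fun p' hp' hp'le => ?_⟩
    · rw [Ideal.under_def, ← Ideal.map_le_iff_le_comap]; exact hmin.1.2
    · haveI := hp'.1
      haveI : t.LiesOver (t.under A) := ⟨rfl⟩
      obtain ⟨t', ht't, ht'prime, ht'over⟩ :=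
        Ideal.exists_ideal_le_liesOver_of_le (p := p') (q := t.under A) t hp'le
      have h2 : I.map (algebraMap A B) ≤ t' := by
        rw [Ideal.map_le_iff_le_comap]
        refine hp'.2.trans ?_
        rw [ht'over.over]
      have h3 : t ≤ t' := hmin.2 ⟨ht'prime, h2⟩ ht't
      have h4 : t' = t := le_antisymm ht't h3
      rw [ht'over.over, h4]
  have h5 : t.under A ∈ (Submodule.span A {z}).annihilator.minimalPrimes := by
    convert hmin' using 2
    ext a
    simp [hI]
  exact isWA_of_mem_minimalPrimes h5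

/-- free version: weakly associated primes of `P ⊗ M` for `P` free are weakly associated to `M`. -/
theorem mem_weakAss_of_mem_weakAss_tensor_free {A : Type u} [CommRing A]
    (P : Type u) [AddCommGroup P] [Module A P] [Module.Free A P]
    (M : Type u) [AddCommGroup M] [Module A M] (p : Ideal A) [p.IsPrime]
    (h : p ∈ FlatCA.weakAss A (P ⊗[A] M)) : p ∈ FlatCA.weakAss A M := by
  classical
  rw [mem_weakAss_iff_isWA] at h ⊢
  obtain ⟨w, hw⟩ := h
  let ι := Module.Free.ChooseBasisIndex A P
  let bas : Module.Basis ι A P := Module.Free.chooseBasis A P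
  let e : P ⊗[A] M ≃ₗ[A] ι →₀ M :=
    (TensorProduct.congr bas.repr (LinearEquiv.refl A M)) ≪≫ₗ TensorProduct.finsuppScalarLeft A M ι
  have hw' : IsWA p (e w) := IsWA.map_of_smul (fun z => e z)
    (fun z hz => by rwa [LinearEquiv.map_eq_zero_iff] at hz) (fun r z => by rw [map_smul]) hw
  obtain ⟨i, hi⟩ := IsWA.exists_finsupp p hw'
  exact ⟨_, hi⟩

end Groth.Agent.Lib.Helper20.WADesc
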