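import Mathlib
import Groth.Prelude.Def_FlatCA
import Groth.Agent.Lib.Helper20WADescA

set_option autoImplicit false
set_option linter.unusedSectionVars false
set_option linter.style.haveILetI false

namespace Groth.Agent.Lib.Helper20.WADesc

open TensorProduct Groth.Agent.Lib.Helper14.WeakAss

universe u

section C1

variable {R : Type u} [CommRing R] {B : Type u} [CommRing B] [Algebra R B] [Module.Free R B]

/-- coordinates of `B ⊗ M` with respect to the chosen basis of the free module `B`. -/
noncomputable def coordEquiv (R : Type u) [CommRing R] (B : Type u) [CommRing B] [Algebra R B]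
    [Module.Free R B] (M : Type u) [AddCommGroup M] [Module R M] :
    B ⊗[R] M ≃ₗ[R] (Module.Free.ChooseBasisIndex R B →₀ M) :=
  (TensorProduct.congr (Module.Free.chooseBasis R B).repr (LinearEquiv.refl R M)) ≪≫ₗ
    TensorProduct.finsuppScalarLeft R M _

theorem coordEquiv_tmul {M : Type u} [AddCommGroup M] [Module R M] (b : B) (m : M)
    (i : Module.Free.ChooseBasisIndex R B) :
    coordEquiv R B M (b ⊗ₜ m) i = ((Module.Free.chooseBasis R B).repr b i) • m := by
  classical
  simp only [coordEquiv, LinearEquiv.trans_apply, TensorProduct.congr_tmul,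
    LinearEquiv.refl_apply, TensorProduct.finsuppScalarLeft_apply_tmul_apply]

theorem coordEquiv_natural {M M' : Type u} [AddCommGroup M] [Module R M] [AddCommGroup M']
    [Module R M'] (f : M →ₗ[R] M') (x : B ⊗[R] M) (i : Module.Free.ChooseBasisIndex R B) :
    coordEquiv R B M' (LinearMap.lTensor B f x) i = f (coordEquiv R B M x i) := by
  induction x using TensorProduct.induction_on with
  | zero => simp
  | tmul b m => rw [LinearMap.lTensor_tmul, coordEquiv_tmul, coordEquiv_tmul, map_smul]
  | add x y hx hy => simp only [map_add, Finsupp.add_apply, hx, hy]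

variable (p : Ideal R) [p.IsPrime]

theorem one_tmul_coord_eq_zero [IsDomain (p.ResidueField ⊗[R] B)] (g : B)
    (hg : (1 : p.ResidueField) ⊗ₜ[R] g ≠ 0) {M : Type u} [AddCommGroup M] [Module R M]
    (x : B ⊗[R] M) (hx : g • x = 0) (i : Module.Free.ChooseBasisIndex R B) :
    (1 : p.ResidueField) ⊗ₜ[R] (coordEquiv R B M x i) = 0 := by
  let Ψ : B ⊗[R] M →ₗ[R] (p.ResidueField ⊗[R] B) ⊗[R] M :=
    LinearMap.rTensor M (Algebra.TensorProduct.includeRight : B →ₐ[R] p.ResidueField ⊗[R] B).toLinearMap
  have hΨ : ∀ (b : B) (y : B ⊗[R] M), Ψ (b • y) = ((1 : p.ResidueField) ⊗ₜ[R] b : p.ResidueField ⊗[R] B) • Ψ y := by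
    intro b y
    induction y using TensorProduct.induction_on with
    | zero => simp
    | tmul c m =>
      simp only [Ψ, TensorProduct.smul_tmul', LinearMap.rTensor_tmul, AlgHom.toLinearMap_apply,
        Algebra.TensorProduct.includeRight_apply, smul_eq_mul,
        Algebra.TensorProduct.tmul_mul_tmul, mul_one]
    | add y z hy hz => simp only [smul_add, map_add, hy, hz]
  -- freeness of `D ⊗ M` over the domain `D`
  have e : (p.ResidueField ⊗[R] B) ⊗[p.ResidueField] (p.ResidueField ⊗[R] M) ≃ₗ[p.ResidueField ⊗[R] B] (p.ResidueField ⊗[R] B) ⊗[R] M :=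
    TensorProduct.AlgebraTensorModule.cancelBaseChange R p.ResidueField (p.ResidueField ⊗[R] B) (p.ResidueField ⊗[R] B) M
  haveI : Module.Free (p.ResidueField ⊗[R] B) ((p.ResidueField ⊗[R] B) ⊗[R] M) := Module.Free.of_equiv e
  have h0 : ((1 : p.ResidueField) ⊗ₜ[R] g : p.ResidueField ⊗[R] B) • Ψ x = 0 := by rw [← hΨ, hx, map_zero]
  have h1 : Ψ x = 0 := by
    have hreg : IsSMulRegular ((p.ResidueField ⊗[R] B) ⊗[R] M) ((1 : p.ResidueField) ⊗ₜ[R] g : p.ResidueField ⊗[R] B) :=
      Module.IsTorsionFree.isSMulRegular (IsRegular.of_ne_zero hg)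
    apply hreg
    change ((1 : p.ResidueField) ⊗ₜ[R] g : p.ResidueField ⊗[R] B) • Ψ x = ((1 : p.ResidueField) ⊗ₜ[R] g : p.ResidueField ⊗[R] B) • 0
    rw [h0, smul_zero]
  -- the coordinate map
  let cbar : (p.ResidueField ⊗[R] B) →ₗ[R] p.ResidueField :=
    (TensorProduct.rid R p.ResidueField).toLinearMap ∘ₗ
      LinearMap.lTensor p.ResidueField ((Module.Free.chooseBasis R B).coord i)
  let χ : (p.ResidueField ⊗[R] B) ⊗[R] M →ₗ[R] p.ResidueField ⊗[R] M := LinearMap.rTensor M cbar
  have hχ : ∀ y : B ⊗[R] M, χ (Ψ y) = (1 : p.ResidueField) ⊗ₜ[R] (coordEquiv R B M y i) := by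
    intro y
    induction y using TensorProduct.induction_on with
    | zero => simp
    | tmul c m =>
      simp only [Ψ, χ, cbar, LinearMap.rTensor_tmul, AlgHom.toLinearMap_apply,
        Algebra.TensorProduct.includeRight_apply, LinearMap.coe_comp, LinearEquiv.coe_coe,
        Function.comp_apply, LinearMap.lTensor_tmul, Module.Basis.coord_apply,
        TensorProduct.rid_tmul, coordEquiv_tmul]
      rw [TensorProduct.smul_tmul]
    | add y z hy hz => simp only [map_add, Finsupp.add_apply, TensorProduct.tmul_add, hy, hz]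
  rw [← hχ, h1, map_zero]

theorem exists_smul_eq_zero_of_smul_eq_zero [IsDomain (p.ResidueField ⊗[R] B)] (g : B)
    (hg : (1 : p.ResidueField) ⊗ₜ[R] g ≠ 0) {M : Type u} [AddCommGroup M] [Module R M]
    (v : B ⊗[R] M) (hv : g • v = 0) : ∃ s : R, s ∉ p ∧ s • v = 0 := by
  classical
  let ι := Module.Free.ChooseBasisIndex R B
  let y : ι →₀ M := coordEquiv R B M v
  let M' : Submodule R M := Submodule.span R (Set.range y)
  have hfg : M'.FG := Submodule.fg_span (Finsupp.finite_range y)
  haveI : Module.Finite R M' := Module.Finite.iff_fg.mpr hfg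
  let y' : ι →₀ M' := Finsupp.onFinset y.support
    (fun i => ⟨y i, Submodule.subset_span (Set.mem_range_self i)⟩)
    (fun i hi => by
      rw [Finsupp.mem_support_iff]
      intro h0
      apply hi
      exact Subtype.ext h0)
  let v' : B ⊗[R] M' := (coordEquiv R B M').symm y'
  have hv' : LinearMap.lTensor B M'.subtype v' = v := by
    apply (coordEquiv R B M).injective
    ext i
    rw [coordEquiv_natural]
    simp only [v', LinearEquiv.apply_symm_apply, y', Finsupp.onFinset_apply, Submodule.subtype_apply]
    rfl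
  have hinj : Function.Injective (LinearMap.lTensor B M'.subtype) :=
    Module.Flat.lTensor_preserves_injective_linearMap _ Subtype.val_injective
  have hgv' : g • v' = 0 := by
    apply hinj
    have : LinearMap.lTensor B M'.subtype (g • v') = g • LinearMap.lTensor B M'.subtype v' := by
      rw [← LinearMap.baseChange_eq_ltensor, map_smul]
    rw [this, hv', hv, map_zero]
  have hc : ∀ i, (1 : p.ResidueField) ⊗ₜ[R] (y' i) = 0 := by
    intro i
    have := one_tmul_coord_eq_zero p g hg v' hgv' i
    simpa only [v', LinearEquiv.apply_symm_apply] using this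
  -- hence `κ ⊗ M' = 0`
  let N0 : Submodule R M' := LinearMap.ker (TensorProduct.mk R p.ResidueField M' 1)
  have hN0 : N0 = ⊤ := by
    rw [eq_top_iff]
    intro m' _
    have hm' : (m' : M) ∈ Submodule.map M'.subtype N0 := by
      have hle : M' ≤ Submodule.map M'.subtype N0 := by
        rw [Submodule.span_le]
        rintro _ ⟨i, rfl⟩
        refine ⟨y' i, ?_, rfl⟩
        change TensorProduct.mk R p.ResidueField M' 1 (y' i) = 0
        exact hc i
      exact hle m'.2
    obtain ⟨n, hn, hnm⟩ := hm'
    have : n = m' := Subtype.ext hnm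
    rwa [← this]
  have hsub : Subsingleton (p.ResidueField ⊗[R] M') := by
    refine ⟨fun a b => ?_⟩
    have h0 : ∀ a : p.ResidueField ⊗[R] M', a = 0 := by
      intro a
      induction a using TensorProduct.induction_on with
      | zero => rfl
      | tmul c m' =>
        have h1 : (1 : p.ResidueField) ⊗ₜ[R] m' = 0 := by
          have : m' ∈ N0 := by rw [hN0]; trivial
          exact this
        have : c ⊗ₜ[R] m' = c • ((1 : p.ResidueField) ⊗ₜ[R] m') := by
          rw [TensorProduct.smul_tmul', smul_eq_mul, mul_one]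
        rw [this, h1, smul_zero]
      | add a b ha hb => rw [ha, hb, add_zero]
    rw [h0 a, h0 b]
  have hsupp : (⟨p, inferInstance⟩ : PrimeSpectrum R) ∉ Module.support R M' := by
    rw [Module.mem_support_iff_nontrivial_residueField_tensorProduct]
    exact not_nontrivial _
  rw [Module.mem_support_iff_of_finite] at hsupp
  obtain ⟨s, hs, hsp⟩ := SetLike.not_le_iff_exists.mp hsupp
  refine ⟨s, hsp, ?_⟩
  have hs0 : ∀ x : B ⊗[R] M', s • x = 0 := by
    intro x
    induction x using TensorProduct.induction_on with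
    | zero => simp
    | tmul b m' =>
      rw [TensorProduct.smul_tmul', TensorProduct.smul_tmul, (Module.mem_annihilator.mp hs) m',
        TensorProduct.tmul_zero]
    | add a b ha hb => rw [smul_add, ha, hb, add_zero]
  rw [← hv', ← map_smul, hs0, map_zero]

end C1

end Groth.Agent.Lib.Helper20.WADesc
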