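import Mathlib
import Groth.Prelude.Def_FlatCA
import Groth.Agent.Lib.Helper20WADescB
import Groth.Agent.Lib.Helper20PrimNZD

set_option autoImplicit false
set_option linter.unusedSectionVars false
set_option linter.style.haveILetI false

namespace Groth.Agent.Lib.Helper20.WADesc

open TensorProduct Groth.Agent.Lib.Helper14.WeakAss

universe u

/-- a free algebra all of whose fibres `κ(p) ⊗ B` are domains descends weakly associated primes. -/
theorem Desc.of_free_of_isDomain_fibre {R B : Type u} [CommRing R] [CommRing B] [Algebra R B]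
    [Module.Free R B]
    (hdom : ∀ (p : Ideal R) [p.IsPrime], IsDomain (p.ResidueField ⊗[R] B)) : Desc R B := by
  intro M _ _ t _ ht
  rw [mem_weakAss_iff_isWA] at ht
  obtain ⟨w, hw⟩ := ht
  set p : Ideal R := t.under R with hp
  haveI : t.LiesOver p := ⟨rfl⟩
  haveI := hdom p
  refine mem_weakAss_of_mem_weakAss_tensor_free B M p ?_
  rw [mem_weakAss_iff_isWA]
  refine ⟨w, ?_, ?_⟩
  · intro a ha
    have := hw.1 (algebraMap R B a) (by rw [algebraMap_smul]; exact ha)
    exact this
  · intro x hx
    have hx' : algebraMap R B x ∈ t := hx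
    obtain ⟨g, hg, n, hn⟩ := hw.2 _ hx'
    have hgv : g • (x ^ n • w) = 0 := by
      rw [← hn, mul_smul, ← map_pow, algebraMap_smul]
    have hg1 : (1 : p.ResidueField) ⊗ₜ[R] g ≠ 0 := by
      intro h0
      let φ : p.ResidueField ⊗[R] B →ₐ[R] t.ResidueField :=
        Algebra.TensorProduct.productMap
          (Ideal.ResidueField.mapₐ p t (Algebra.ofId R B) rfl)
          (IsScalarTower.toAlgHom R B t.ResidueField)
      have h1 : φ ((1 : p.ResidueField) ⊗ₜ[R] g) = algebraMap B t.ResidueField g := by
        simp [φ]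
      rw [h0, map_zero] at h1
      exact hg ((Ideal.algebraMap_residueField_eq_zero).mp h1.symm)
    obtain ⟨s, hs, hsv⟩ := exists_smul_eq_zero_of_smul_eq_zero p g hg1 (x ^ n • w) hgv
    exact ⟨s, hs, n, by rw [mul_smul]; exact hsv⟩

section pushout

variable {k K R RK : Type u} [Field k] [Field K] [Algebra k K] [CommRing R] [Algebra k R]
  [CommRing RK] [Algebra k RK] [Algebra K RK] [Algebra R RK] [IsScalarTower k K RK]
  [IsScalarTower k R RK] [Algebra.IsPushout k K R RK]

include k K in
theorem free_of_isPushout : Module.Free R RK := by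
  have h : Algebra.IsPushout k R K RK := Algebra.IsPushout.symm inferInstance
  exact Module.Free.of_equiv h.out.equiv

include k K in
/-- purely transcendental case -/
theorem Desc.of_purelyTranscendental (ι : Type u)
    (e : K ≃ₐ[k] FractionRing (MvPolynomial ι k)) : Desc R RK := by
  haveI : Module.Free R RK := free_of_isPushout (k := k) (K := K)
  refine Desc.of_free_of_isDomain_fibre fun p _ => ?_
  let κ := p.ResidueField
  let e1 : κ ⊗[R] RK ≃ₐ[R] RK ⊗[R] κ := Algebra.TensorProduct.comm R κ RK
  let e2 : RK ⊗[R] κ ≃ₐ[K] K ⊗[k] κ := Algebra.IsPushout.cancelBaseChangeAlg k K R RK κ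
  let e3 : K ⊗[k] κ ≃ₐ[k] FractionRing (MvPolynomial ι k) ⊗[k] κ :=
    Algebra.TensorProduct.congr e AlgEquiv.refl
  haveI : IsDomain (FractionRing (MvPolynomial ι k) ⊗[k] κ) :=
    Groth.Agent.Lib.Helper20.PrimNZD.isDomain_fractionRing_mvPolynomial_tensor κ ι
  exact ((e1.toRingEquiv.trans e2.toRingEquiv).trans e3.toRingEquiv).toMulEquiv.isDomain

end pushout

end Groth.Agent.Lib.Helper20.WADesc
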