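import Mathlib
import Groth.Prelude.Def_FlatCA
import Groth.Agent.Lib.Helper20WADescC

set_option autoImplicit false
set_option linter.unusedSectionVars false
set_option linter.style.haveILetI false

namespace Groth.Agent.Lib.Helper20.WADesc

open TensorProduct Groth.Agent.Lib.Helper14.WeakAss

universe u

section mid

variable (k L R : Type u) [Field k] [Field L] [Algebra k L] [CommRing R] [Algebra k R]

/-- `L ⊗_k R` as an `R`-algebra (via the right factor) and an `L`-algebra. -/
def Mid : Type u := L ⊗[k] R

noncomputable instance : CommRing (Mid k L R) := inferInstanceAs (CommRing (L ⊗[k] R))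
noncomputable instance : Algebra k (Mid k L R) := inferInstanceAs (Algebra k (L ⊗[k] R))
noncomputable instance : Algebra L (Mid k L R) := inferInstanceAs (Algebra L (L ⊗[k] R))
noncomputable instance : Algebra R (Mid k L R) :=
  Algebra.TensorProduct.rightAlgebra (R := k) (A := L) (B := R)
instance : IsScalarTower k L (Mid k L R) := inferInstanceAs (IsScalarTower k L (L ⊗[k] R))
instance : IsScalarTower k R (Mid k L R) :=
  Algebra.TensorProduct.right_isScalarTower (R := k) (A := L) (B := R)

/-- pure tensors in `Mid` -/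
def Mid.tmul {k L R : Type u} [Field k] [Field L] [Algebra k L] [CommRing R] [Algebra k R]
    (c : L) (r : R) : Mid k L R := c ⊗ₜ[k] r

theorem Mid.algebraMap_R (r : R) : algebraMap R (Mid k L R) r = Mid.tmul 1 r := rfl

theorem Mid.algebraMap_L (c : L) : algebraMap L (Mid k L R) c = Mid.tmul c 1 := by
  change algebraMap L (L ⊗[k] R) c = c ⊗ₜ[k] 1
  rw [Algebra.TensorProduct.algebraMap_apply, Algebra.algebraMap_self_apply]

instance : Algebra.IsPushout k L R (Mid k L R) :=
  letI := Algebra.TensorProduct.rightAlgebra (R := k) (A := L) (B := R)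
  inferInstanceAs (Algebra.IsPushout k L R (L ⊗[k] R))

variable (RK : Type u) [CommRing RK] [Algebra k RK] [Algebra R RK] [IsScalarTower k R RK]
  [Algebra L RK] [IsScalarTower k L RK]

/-- the canonical map `L ⊗ R → RK` -/
noncomputable def midHom : Mid k L R →ₐ[k] RK :=
  Algebra.TensorProduct.productMap (IsScalarTower.toAlgHom k L RK) (IsScalarTower.toAlgHom k R RK)

theorem midHom_tmul (c : L) (r : R) :
    midHom k L R RK (Mid.tmul c r) = algebraMap L RK c * algebraMap R RK r := by
  change Algebra.TensorProduct.productMap (IsScalarTower.toAlgHom k L RK)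
    (IsScalarTower.toAlgHom k R RK) (c ⊗ₜ[k] r) = _
  rw [Algebra.TensorProduct.productMap_apply_tmul]
  rfl

noncomputable instance midAlgebra : Algebra (Mid k L R) RK := (midHom k L R RK).toRingHom.toAlgebra

theorem mid_algebraMap_tmul (c : L) (r : R) :
    algebraMap (Mid k L R) RK (Mid.tmul c r) = algebraMap L RK c * algebraMap R RK r :=
  midHom_tmul k L R RK c r

instance mid_towerR : IsScalarTower R (Mid k L R) RK := by
  refine IsScalarTower.of_algebraMap_eq fun r => ?_
  rw [Mid.algebraMap_R, mid_algebraMap_tmul, map_one, one_mul]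

instance mid_towerL : IsScalarTower L (Mid k L R) RK := by
  refine IsScalarTower.of_algebraMap_eq fun c => ?_
  rw [Mid.algebraMap_L, mid_algebraMap_tmul, map_one, mul_one]

instance mid_towerk : IsScalarTower k (Mid k L R) RK := by
  refine IsScalarTower.of_algebraMap_eq fun c => ?_
  exact ((midHom k L R RK).commutes c).symm

variable (K : Type u) [Field K] [Algebra k K] [Algebra L K] [IsScalarTower k L K] [Algebra K RK]
  [IsScalarTower k K RK] [IsScalarTower L K RK] [Algebra.IsPushout k K R RK]

theorem mid_isPushout : Algebra.IsPushout L K (Mid k L R) RK :=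
  (Algebra.IsPushout.comp_iff k L R (S' := Mid k L R) (T := K) (T' := RK)).mp inferInstance

include K in
theorem mid_flat : Module.Flat (Mid k L R) RK := by
  have h1 : Algebra.IsPushout L K (Mid k L R) RK := mid_isPushout k L R RK K
  have h2 : Algebra.IsPushout L (Mid k L R) K RK := h1.symm
  exact Module.Flat.isBaseChange L (Mid k L R) K RK h2.out

end mid

section alg

variable {k K R RK : Type u} [Field k] [Field K] [Algebra k K] [CommRing R] [Algebra k R]
  [CommRing RK] [Algebra k RK] [Algebra K RK] [Algebra R RK] [IsScalarTower k K RK]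
  [IsScalarTower k R RK] [Algebra.IsPushout k K R RK]

include k in
theorem mid_finite_flat (L : Type u) [Field L] [Algebra k L] [FiniteDimensional k L] :
    Module.Finite R (Mid k L R) ∧ Module.Flat R (Mid k L R) := by
  have h : Algebra.IsPushout k R L (Mid k L R) := Algebra.IsPushout.symm inferInstance
  exact ⟨Module.Finite.equiv h.out.equiv, Module.Flat.isBaseChange k R L (Mid k L R) h.out⟩

include k K in
theorem exists_rep (b : RK) :
    ∃ S : Finset (K × R), b = ∑ i ∈ S, algebraMap K RK i.1 * algebraMap R RK i.2 := by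
  obtain ⟨S, hS⟩ := TensorProduct.exists_finset ((Algebra.IsPushout.equiv k K R RK).symm b)
  refine ⟨S, ?_⟩
  have h1 : b = Algebra.IsPushout.equiv k K R RK ((Algebra.IsPushout.equiv k K R RK).symm b) :=
    ((Algebra.IsPushout.equiv k K R RK).apply_symm_apply b).symm
  rw [h1, hS, map_sum]
  exact Finset.sum_congr rfl fun i _ => Algebra.IsPushout.equiv_tmul k K R RK i.1 i.2

include k K in
/-- algebraic case -/
theorem Desc.of_isAlgebraic [Algebra.IsAlgebraic k K] : Desc R RK := by
  classical
  intro M _ _ t _ ht
  rw [mem_weakAss_iff_isWA] at ht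
  obtain ⟨w, hw⟩ := ht
  choose S hS using exists_rep (k := k) (K := K) (R := R) (RK := RK)
  obtain ⟨s, hs⟩ := TensorProduct.exists_finset w
  let T : Finset K := s.biUnion fun j => (S j.1).image Prod.fst
  let L' : IntermediateField k K := IntermediateField.adjoin k (T : Set K)
  haveI : FiniteDimensional k L' :=
    IntermediateField.finiteDimensional_adjoin fun x _ => Algebra.IsIntegral.isIntegral x
  have hmem : ∀ j ∈ s, ∀ i ∈ S j.1, i.1 ∈ L' := by
    intro j hj i hi
    apply IntermediateField.subset_adjoin
    simp only [T, Finset.coe_biUnion, Finset.coe_image, Set.mem_iUnion, Set.mem_image]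
    exact ⟨j, hj, i, hi, rfl⟩
  let b' : RK → Mid k L' R := fun b =>
    ∑ i ∈ S b, if h : i.1 ∈ L' then Mid.tmul ⟨i.1, h⟩ i.2 else 0
  have hb' : ∀ j ∈ s, algebraMap (Mid k L' R) RK (b' j.1) = j.1 := by
    intro j hj
    refine Eq.trans ?_ (hS j.1).symm
    simp only [b', map_sum]
    refine Finset.sum_congr rfl fun i hi => ?_
    rw [dif_pos (hmem j hj i hi), mid_algebraMap_tmul]
    rfl
  let w' : Mid k L' R ⊗[R] M := ∑ j ∈ s, b' j.1 ⊗ₜ[R] j.2
  let e : RK ⊗[Mid k L' R] (Mid k L' R ⊗[R] M) ≃ₗ[RK] RK ⊗[R] M :=
    TensorProduct.AlgebraTensorModule.cancelBaseChange R (Mid k L' R) RK RK M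
  have he : e ((1 : RK) ⊗ₜ[Mid k L' R] w') = w := by
    rw [hs]
    simp only [w', TensorProduct.tmul_sum, map_sum]
    refine Finset.sum_congr rfl fun j hj => ?_
    rw [TensorProduct.AlgebraTensorModule.cancelBaseChange_tmul, Algebra.smul_def, mul_one, hb' j hj]
  haveI : Module.Flat (Mid k L' R) RK := mid_flat k L' R RK K
  have hw1 : IsWA t ((1 : RK) ⊗ₜ[Mid k L' R] w') := by
    have := IsWA.map_of_smul (fun z => e.symm z)
      (fun z hz => by rwa [LinearEquiv.map_eq_zero_iff] at hz) (fun r z => by rw [map_smul]) hw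
    rwa [← he, LinearEquiv.symm_apply_apply] at this
  have hw2 : IsWA (t.under (Mid k L' R)) w' := isWA_under_of_flat w' t hw1
  have h3 : t.under (Mid k L' R) ∈ FlatCA.weakAss (Mid k L' R) (Mid k L' R ⊗[R] M) := by
    rw [mem_weakAss_iff_isWA]; exact ⟨w', hw2⟩
  obtain ⟨hfin, hflat⟩ := mid_finite_flat (k := k) (R := R) L'
  have h4 := Desc.of_finite_flat (A := R) (B := Mid k L' R) M _ h3
  rwa [Ideal.under_under] at h4

include k K in
/-- Stacks 10.66.19 for the concrete base change module `RK ⊗ M`: weakly associated primes descend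
along a field base change. -/
theorem Desc.of_field : Desc R RK := by
  obtain ⟨s, hs⟩ := exists_isTranscendenceBasis k K
  let L : IntermediateField k K := IntermediateField.adjoin k (Set.range (Subtype.val : s → K))
  haveI : Algebra.IsAlgebraic L K := hs.isAlgebraic_field
  let e : L ≃ₐ[k] FractionRing (MvPolynomial s k) := (hs.1.aevalEquivField).symm
  have h1 : Desc R (Mid k L R) := Desc.of_purelyTranscendental (k := k) (K := L) s e
  haveI : Algebra.IsPushout L K (Mid k L R) RK := mid_isPushout k L R RK K
  have h2 : Desc (Mid k L R) RK := Desc.of_isAlgebraic (k := L) (K := K)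
  exact h1.comp h2

end alg

end Groth.Agent.Lib.Helper20.WADesc
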