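import Mathlib
import Groth.Prelude.Def_CurvBase
import Groth.Prelude.Def_FlatCA
import Groth.Agent.Lib.Helper20WADescD
import Groth.Agent.Lib.Helper2ModExact
import Groth.Agent.Lib.Helper2Ass
import Groth.Agent.Lib.Helper2PullbackSec3

set_option autoImplicit false
set_option linter.unusedSectionVars false
set_option linter.style.haveILetI false

universe u
open CategoryTheory CategoryTheory.Limits AlgebraicGeometry TopologicalSpace Opposite TensorProduct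
open Groth.Agent.Lib.Helper2.QCoh Groth.Agent.Lib.Helper2.Push Groth.Agent.Lib.Helper2.ModExact
  Groth.Agent.Lib.Helper2.Ass Groth.Agent.Lib.Helper14.WeakAss

namespace Groth.Agent.Lib.Helper20.WADesc

variable {X : Scheme.{u}} {U : X.Opens} (hU : IsAffineOpen U)

include hU in
/-- bridge: weakly associated points in an affine open and weakly associated primes of the module
of sections. -/
theorem isWeakAssPoint_iff_mem_weakAss (F : X.Modules) [F.IsQuasicoherent] (x : X) (hxU : x ∈ U) :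
    Curv2.IsWeakAssPoint F x ↔
      (hU.primeIdealOf ⟨x, hxU⟩).asIdeal ∈ FlatCA.weakAss Γ(X, U) Γ(F, U) := by
  haveI := (hU.primeIdealOf ⟨x, hxU⟩).isPrime
  have hloc := IsLocOn.of_isQuasicoherent hU F
  rw [mem_weakAss_iff_isWA]
  constructor
  · intro hx
    obtain ⟨m, hm0, hmpow⟩ := exists_section_of_isWeakAssPoint hU hloc x hxU hx
    refine ⟨m, ?_, ?_⟩
    · intro a ha
      by_contra hna
      have hu : IsUnit (X.presheaf.germ U x hxU a) := by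
        by_contra hnu
        exact hna ((germ_mem_maximalIdeal_iff hU x hxU a).1 ((IsLocalRing.mem_maximalIdeal _).2 hnu))
      apply hm0
      apply germ_smul_eq_zero_of_isUnit hu
      rw [← germ_smul, ha, map_zero]
    · intro b hb
      obtain ⟨n, hn⟩ := hmpow b hb
      rw [← map_pow, ← germ_smul] at hn
      obtain ⟨t, hxt, ht⟩ := hloc.exists_smul_eq_zero_of_germ_eq_zero hU x hxU _ hn
      refine ⟨t, ?_, n, ?_⟩
      · exact (Groth.Agent.Lib.Helper2.mem_basicOpen_iff_notMem_primeIdealOf hU x hxU t).1 hxt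
      · rw [mul_smul]; exact ht
  · rintro ⟨m, hm1, hm2⟩
    refine isWeakAssPoint_of hU F x hxU m ?_ ?_
    · intro h0
      obtain ⟨t, hxt, ht⟩ := hloc.exists_smul_eq_zero_of_germ_eq_zero hU x hxU _ h0
      exact (Groth.Agent.Lib.Helper2.mem_basicOpen_iff_notMem_primeIdealOf hU x hxU t).1 hxt
        (hm1 t ht)
    · intro b hb
      obtain ⟨s, hs, n, hn⟩ := hm2 b hb
      refine ⟨n, ?_⟩
      have h2 := congrArg (F.presheaf.germ U x hxU) hn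
      rw [map_zero, germ_smul, map_mul, mul_smul, map_pow] at h2
      have hsu : IsUnit (X.presheaf.germ U x hxU s) := by
        by_contra hnu
        exact hs ((germ_mem_maximalIdeal_iff hU x hxU s).1 ((IsLocalRing.mem_maximalIdeal _).2 hnu))
      exact germ_smul_eq_zero_of_isUnit hsu h2


open Groth.Agent.Lib.Helper2.PullbackSec in
/-- Stacks 31.6.4 in a cartesian square over fields (given as affine schemes with field rings of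
global sections). -/
theorem isWeakAssPoint_of_field_baseChange {X S X' S' : Scheme.{u}} {f : X ⟶ S} {f' : X' ⟶ S'}
    {g' : X' ⟶ X} {g : S' ⟶ S} (hc : IsPullback g' f' f g)
    (hS : IsAffineOpen (⊤ : S.Opens)) (hS' : IsAffineOpen (⊤ : S'.Opens))
    (hk : IsField Γ(S, ⊤)) (hK : IsField Γ(S', ⊤))
    (F : X.Modules) [F.IsQuasicoherent] (y : X')
    (hy : Curv2.IsWeakAssPoint ((Scheme.Modules.pullback g').obj F) y) :
    Curv2.IsWeakAssPoint F (g' y) := by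
  obtain ⟨U, hU, hxU, -⟩ := exists_isAffineOpen_mem_and_subset (X := X) (x := g' y) (U := ⊤) trivial
  have eU : U ≤ f ⁻¹ᵁ ⊤ := le_top
  have eV' : (⊤ : S'.Opens) ≤ g ⁻¹ᵁ ⊤ := le_top
  have hU' : IsAffineOpen (g' ⁻¹ᵁ U ⊓ f' ⁻¹ᵁ ⊤) := isAffineOpen_inf_preimage hc eV' eU hS hS' hU
  have e1 : g' ⁻¹ᵁ U ⊓ f' ⁻¹ᵁ ⊤ ≤ g' ⁻¹ᵁ U := inf_le_left
  have e2 : g' ⁻¹ᵁ U ⊓ f' ⁻¹ᵁ ⊤ ≤ f' ⁻¹ᵁ ⊤ := inf_le_right
  have hyU' : y ∈ g' ⁻¹ᵁ U ⊓ f' ⁻¹ᵁ ⊤ := ⟨hxU, trivial⟩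
  letI aAB : Algebra Γ(S, ⊤) Γ(X, U) := (f.appLE ⊤ U eU).hom.toAlgebra
  letI aAA' : Algebra Γ(S, ⊤) Γ(S', ⊤) := (g.appLE ⊤ ⊤ eV').hom.toAlgebra
  letI aBB' : Algebra Γ(X, U) Γ(X', g' ⁻¹ᵁ U ⊓ f' ⁻¹ᵁ ⊤) := (g'.appLE U _ e1).hom.toAlgebra
  letI aA'B' : Algebra Γ(S', ⊤) Γ(X', g' ⁻¹ᵁ U ⊓ f' ⁻¹ᵁ ⊤) := (f'.appLE ⊤ _ e2).hom.toAlgebra
  letI aAB' : Algebra Γ(S, ⊤) Γ(X', g' ⁻¹ᵁ U ⊓ f' ⁻¹ᵁ ⊤) :=
    ((g'.appLE U _ e1).hom.comp (f.appLE ⊤ U eU).hom).toAlgebra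
  haveI tABB' : IsScalarTower Γ(S, ⊤) Γ(X, U) Γ(X', g' ⁻¹ᵁ U ⊓ f' ⁻¹ᵁ ⊤) :=
    IsScalarTower.of_algebraMap_eq (fun a => rfl)
  have hsq : ∀ a : Γ(S, ⊤), (g'.appLE U _ e1).hom ((f.appLE ⊤ U eU).hom a) =
      (f'.appLE ⊤ _ e2).hom ((g.appLE ⊤ ⊤ eV').hom a) := by
    intro a
    have h1 := Scheme.Hom.appLE_comp_appLE g' f ⊤ U _ eU e1
    have h2 := Scheme.Hom.appLE_comp_appLE f' g ⊤ ⊤ _ eV' e2
    have h3 : (f.appLE ⊤ U eU ≫ g'.appLE U _ e1) = (g.appLE ⊤ ⊤ eV' ≫ f'.appLE ⊤ _ e2) := by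
      rw [h1, h2]
      congr 1
      exact hc.w
    exact congrArg (fun φ => φ.hom a) h3
  haveI tAA'B' : IsScalarTower Γ(S, ⊤) Γ(S', ⊤) Γ(X', g' ⁻¹ᵁ U ⊓ f' ⁻¹ᵁ ⊤) :=
    IsScalarTower.of_algebraMap_eq hsq
  haveI hPO : Algebra.IsPushout Γ(S, ⊤) Γ(S', ⊤) Γ(X, U) Γ(X', g' ⁻¹ᵁ U ⊓ f' ⁻¹ᵁ ⊤) :=
    algebra_isPushout hc eV' eU hS hS' hU e1 e2
  haveI hHq : ((Scheme.Modules.pullback g').obj F).IsQuasicoherent := isQuasicoherent_pullback g' F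
  obtain ⟨T⟩ := nonempty_sections_linearEquiv g' F hU' hU e1
  haveI hqp : (hU'.primeIdealOf ⟨y, hyU'⟩).asIdeal.IsPrime := (hU'.primeIdealOf ⟨y, hyU'⟩).isPrime
  have hq := (isWeakAssPoint_iff_mem_weakAss hU' ((Scheme.Modules.pullback g').obj F) y hyU').mp hy
  have hq' := weakAss_of_linearEquiv T.symm _ hq
  have hq1 : (hU'.primeIdealOf ⟨y, hyU'⟩).asIdeal.comap
      (algebraMap Γ(X, U) Γ(X', g' ⁻¹ᵁ U ⊓ f' ⁻¹ᵁ ⊤)) =
      (hU.primeIdealOf ⟨g' y, hxU⟩).asIdeal := by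
    have h1 := IsAffineOpen.comap_primeIdealOf_appLE U hU _ hU' e1 hyU'
    exact congrArg PrimeSpectrum.asIdeal h1
  have hD : Desc Γ(X, U) Γ(X', g' ⁻¹ᵁ U ⊓ f' ⁻¹ᵁ ⊤) := by
    letI : Field Γ(S, ⊤) := hk.toField
    letI : Field Γ(S', ⊤) := hK.toField
    exact Desc.of_field (k := Γ(S, ⊤)) (K := Γ(S', ⊤))
  have h3 := hD Γ(F, U) _ hq'
  rw [Ideal.under_def, hq1] at h3
  exact (isWeakAssPoint_iff_mem_weakAss hU F (g' y) hxU).mpr h3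

end Groth.Agent.Lib.Helper20.WADesc
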