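import Groth.Agent.Lib.Helper20AWNRing

set_option autoImplicit false
set_option linter.style.haveILetI false

universe u

namespace Groth.Agent.Lib.Helper20.WSub

open AlgebraicGeometry CategoryTheory TensorProduct
open Groth.Agent.Lib.Helper20.AWN Groth.Agent.Lib.Helper20.WeakNorm

theorem nilpotent_of_UH {A C : Type u} [CommRing A] [CommRing C] [Algebra A C]
    (h : UH (algebraMap A C)) (c : C) :
    IsNilpotent (c ⊗ₜ[A] (1 : C) - (1 : C) ⊗ₜ[A] c) := by
  rw [← mem_nilradical, nilradical_eq_sInf, Ideal.mem_sInf]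
  intro Q hQ
  haveI : Q.IsPrime := hQ
  let χ₁ : C →+* Q.ResidueField :=
    (algebraMap (C ⊗[A] C) Q.ResidueField).comp
      (Algebra.TensorProduct.includeLeftRingHom : C →+* C ⊗[A] C)
  let χ₂ : C →+* Q.ResidueField :=
    (algebraMap (C ⊗[A] C) Q.ResidueField).comp
      (Algebra.TensorProduct.includeRight : C →ₐ[A] C ⊗[A] C).toRingHom
  have he : χ₁ = χ₂ := by
    apply h.2.2 Q.ResidueField
    refine RingHom.ext fun a => ?_
    show algebraMap (C ⊗[A] C) Q.ResidueField
        ((Algebra.TensorProduct.includeLeft : C →ₐ[A] C ⊗[A] C) (algebraMap A C a)) =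
      algebraMap (C ⊗[A] C) Q.ResidueField
        ((Algebra.TensorProduct.includeRight : C →ₐ[A] C ⊗[A] C) (algebraMap A C a))
    rw [AlgHom.commutes, AlgHom.commutes]
  have h1 := RingHom.congr_fun he c
  have h2 : algebraMap (C ⊗[A] C) Q.ResidueField (c ⊗ₜ[A] (1 : C) - (1 : C) ⊗ₜ[A] c) = 0 := by
    rw [map_sub, sub_eq_zero]
    exact h1
  exact Ideal.algebraMap_residueField_eq_zero.mp h2

theorem UH_adjoin_of_nilpotent {A B : Type u} [CommRing A] [CommRing B]
    [Algebra A B] (hinj : Function.Injective (algebraMap A B)) [Algebra.IsIntegral A B] (b : B)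
    (hb : IsNilpotent (b ⊗ₜ[A] (1 : B) - (1 : B) ⊗ₜ[A] b)) :
    UH (algebraMap A (Algebra.adjoin A {b})) := by
  set D := Algebra.adjoin A {b} with hD
  have hint : (algebraMap A D).IsIntegral := by
    intro d
    have : IsIntegral A (D.val d) := Algebra.IsIntegral.isIntegral _
    exact (isIntegral_algHom_iff D.val Subtype.val_injective).mp this
  have hinjD : Function.Injective (algebraMap A D) := by
    intro x y hxy
    apply hinj
    exact congrArg (D.val) hxy
  refine ⟨hint, comap_surjective_of_isIntegral_of_ker_le' _ hint ?_, ?_⟩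
  · rw [(RingHom.injective_iff_ker_eq_bot _).mp hinjD]
    exact bot_le
  · intro K _ χ₁ χ₂ hχ
    let L := AlgebraicClosure K
    have hιint : (D.val : D →+* B).IsIntegral := by
      intro x
      have : IsIntegral A x := Algebra.IsIntegral.isIntegral _
      exact this.tower_top
    have hιs : Function.Surjective (PrimeSpectrum.comap (D.val : D →+* B)) := by
      apply comap_surjective_of_isIntegral_of_ker_le' _ hιint
      rw [(RingHom.injective_iff_ker_eq_bot _).mp (Subtype.val_injective)]
      exact bot_le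
    obtain ⟨g₁, hg₁⟩ := exists_extend_algClosed (D.val : D →+* B) hιint hιs L
      ((algebraMap K L).comp χ₁)
    obtain ⟨g₂, hg₂⟩ := exists_extend_algClosed (D.val : D →+* B) hιint hιs L
      ((algebraMap K L).comp χ₂)
    letI : Algebra A L := ((algebraMap K L).comp (χ₁.comp (algebraMap A D))).toAlgebra
    have hc₁ : ∀ a : A, g₁ (algebraMap A B a) = algebraMap A L a := fun a => by
      show g₁ (algebraMap A B a) = (algebraMap K L) (χ₁ (algebraMap A D a))
      exact RingHom.congr_fun hg₁ (algebraMap A D a)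
    have hc₂ : ∀ a : A, g₂ (algebraMap A B a) = algebraMap A L a := fun a => by
      show g₂ (algebraMap A B a) = (algebraMap K L) (χ₁ (algebraMap A D a))
      rw [show χ₁ (algebraMap A D a) = χ₂ (algebraMap A D a) from RingHom.congr_fun hχ a]
      exact RingHom.congr_fun hg₂ (algebraMap A D a)
    let G₁ : B →ₐ[A] L := { g₁ with commutes' := hc₁ }
    let G₂ : B →ₐ[A] L := { g₂ with commutes' := hc₂ }
    let G : B ⊗[A] B →ₐ[A] L := Algebra.TensorProduct.productMap G₁ G₂
    have hG : G (b ⊗ₜ[A] (1 : B) - (1 : B) ⊗ₜ[A] b) = g₁ b - g₂ b := by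
      rw [map_sub]
      simp only [G, Algebra.TensorProduct.productMap_apply_tmul, map_one, mul_one, one_mul]
      rfl
    have h0 : g₁ b - g₂ b = 0 := by
      rw [← hG]
      exact (hb.map G).eq_zero
    have hbD : b ∈ D := Algebra.subset_adjoin (Set.mem_singleton b)
    have hb12 : χ₁ ⟨b, hbD⟩ = χ₂ ⟨b, hbD⟩ := by
      apply (algebraMap K L).injective
      have e1 := RingHom.congr_fun hg₁ ⟨b, hbD⟩
      have e2 := RingHom.congr_fun hg₂ ⟨b, hbD⟩
      simp only [RingHom.comp_apply] at e1 e2
      rw [← e1, ← e2]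
      exact sub_eq_zero.mp h0
    refine RingHom.ext fun d => ?_
    obtain ⟨d, hd⟩ := d
    induction hd using Algebra.adjoin_induction with
    | mem x hx =>
      have : x = b := hx
      subst this
      exact hb12
    | algebraMap a => exact RingHom.congr_fun hχ a
    | add x y hx hy ihx ihy =>
      have : (⟨x + y, D.add_mem hx hy⟩ : D) = ⟨x, hx⟩ + ⟨y, hy⟩ := rfl
      rw [this, map_add, map_add, ihx, ihy]
    | mul x y hx hy ihx ihy =>
      have : (⟨x * y, D.mul_mem hx hy⟩ : D) = ⟨x, hx⟩ * ⟨y, hy⟩ := rfl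
      rw [this, map_mul, map_mul, ihx, ihy]

theorem main_S14795 {A B : Type u} [CommRing A] [CommRing B]
    [Algebra A B] (hinj : Function.Injective (algebraMap A B)) [Algebra.IsIntegral A B]
    (C : Subalgebra A B) (hC : FlatMor.IsUnivHomeo (Spec.map (CommRingCat.ofHom (algebraMap A C))))
    (hmax : ∀ D : Subalgebra A B,
      FlatMor.IsUnivHomeo (Spec.map (CommRingCat.ofHom (algebraMap A D))) → D ≤ C) (b : B) :
    b ∈ C ↔ IsNilpotent (b ⊗ₜ[A] (1 : B) - (1 : B) ⊗ₜ[A] b) := by
  constructor
  · intro hb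
    have h1 := nilpotent_of_UH ((isUnivHomeo_iff_UH _).mp hC) (⟨b, hb⟩ : C)
    have h2 := h1.map (Algebra.TensorProduct.map C.val C.val)
    rw [map_sub] at h2
    simpa using h2
  · intro hb
    have h1 := UH_adjoin_of_nilpotent hinj b hb
    exact hmax _ ((isUnivHomeo_iff_UH _).mpr h1) (Algebra.subset_adjoin (Set.mem_singleton b))

end Groth.Agent.Lib.Helper20.WSub
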