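import Groth.Agent.Lib.Helper20EtaPtSN

/-!
# Weak normalization as an equalizer (helper20)
-/

universe u

namespace Groth.Agent.Lib.Helper20.WeakNorm

open AlgebraicGeometry CategoryTheory TensorProduct
open Groth.Agent.Lib.Helper20.EtaPt

/-- Lemma T: two ring maps to a reduced ring which agree on `A` agree on every `b` with
`b ⊗ 1 - 1 ⊗ b` nilpotent. -/
theorem eq_of_isNilpotent_tmul_sub {A B L : Type*} [CommRing A] [CommRing B] [Algebra A B]
    [CommRing L] [IsReduced L] (g₁ g₂ : B →+* L)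
    (h : g₁.comp (algebraMap A B) = g₂.comp (algebraMap A B)) (b : B)
    (hb : IsNilpotent (b ⊗ₜ[A] (1 : B) - (1 : B) ⊗ₜ[A] b)) : g₁ b = g₂ b := by
  letI : Algebra A L := (g₁.comp (algebraMap A B)).toAlgebra
  let G₁ : B →ₐ[A] L := { g₁ with commutes' := fun a => rfl }
  let G₂ : B →ₐ[A] L := { g₂ with commutes' := fun a => (RingHom.congr_fun h a).symm }
  have h0 := (hb.map (Algebra.TensorProduct.productMap G₁ G₂)).eq_zero
  rw [map_sub, Algebra.TensorProduct.productMap_apply_tmul,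
    Algebra.TensorProduct.productMap_apply_tmul, map_one, map_one, mul_one, one_mul] at h0
  exact sub_eq_zero.mp h0

/-- Lemma W'': ring maps to algebraically closed fields extend along integral maps with
surjective `Spec`. -/
theorem exists_extend_algClosed {E B : Type u} [CommRing E] [CommRing B] (f : E →+* B)
    (hf : f.IsIntegral) (hs : Function.Surjective (PrimeSpectrum.comap f))
    (L : Type u) [Field L] [IsAlgClosed L] (j : E →+* L) : ∃ h : B →+* L, h.comp f = j := by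
  have hker : (RingHom.ker j).IsPrime := RingHom.ker_isPrime j
  obtain ⟨Q, hQ⟩ := hs ⟨RingHom.ker j, hker⟩
  have hQ' : Q.asIdeal.comap f = RingHom.ker j := congrArg (·.asIdeal) hQ
  have hPprime : (Q.asIdeal.comap f).IsPrime := Ideal.comap_isPrime f Q.asIdeal
  let φ : E ⧸ Q.asIdeal.comap f →+* B ⧸ Q.asIdeal := Ideal.quotientMap Q.asIdeal f le_rfl
  have hφint : φ.IsIntegral := RingHom.IsIntegral.quotient f hf
  have hφinj : Function.Injective φ := Ideal.quotientMap_injective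
  let ψ : E ⧸ Q.asIdeal.comap f →+* L := Ideal.Quotient.lift _ j (by
    intro a ha
    rw [hQ'] at ha
    exact ha)
  have hψinj : Function.Injective ψ := by
    rw [injective_iff_map_eq_zero]
    intro a
    obtain ⟨a, rfl⟩ := Ideal.Quotient.mk_surjective a
    intro ha
    have h1 : j a = 0 := ha
    rw [Ideal.Quotient.eq_zero_iff_mem, hQ']
    exact h1
  let : Algebra (E ⧸ Q.asIdeal.comap f) (B ⧸ Q.asIdeal) := φ.toAlgebra
  let : Algebra (E ⧸ Q.asIdeal.comap f) L := ψ.toAlgebra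
  have : Module.IsTorsionFree (E ⧸ Q.asIdeal.comap f) (B ⧸ Q.asIdeal) :=
    Module.isTorsionFree_iff_algebraMap_injective.mpr hφinj
  have : Module.IsTorsionFree (E ⧸ Q.asIdeal.comap f) L :=
    Module.isTorsionFree_iff_algebraMap_injective.mpr hψinj
  have : Algebra.IsIntegral (E ⧸ Q.asIdeal.comap f) (B ⧸ Q.asIdeal) := ⟨hφint⟩
  have : Algebra.IsAlgebraic (E ⧸ Q.asIdeal.comap f) (B ⧸ Q.asIdeal) :=
    Algebra.IsIntegral.isAlgebraic
  let lft : (B ⧸ Q.asIdeal) →ₐ[E ⧸ Q.asIdeal.comap f] L := IsAlgClosed.lift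
  refine ⟨(lft : (B ⧸ Q.asIdeal) →+* L).comp (Ideal.Quotient.mk Q.asIdeal), ?_⟩
  ext a
  have h1 : lft (algebraMap (E ⧸ Q.asIdeal.comap f) (B ⧸ Q.asIdeal) (Ideal.Quotient.mk _ a)) =
    algebraMap (E ⧸ Q.asIdeal.comap f) L (Ideal.Quotient.mk _ a) := lft.commutes _
  exact h1

/-- A criterion for universal injectivity of `Spec` of a ring map: maps to fields are determined
by their restriction. -/
theorem universallyInjective_Spec_of {A C : Type u} [CommRing A] [CommRing C] (ψ : A →+* C)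
    (h : ∀ (K : Type u) [Field K] (φ₁ φ₂ : C →+* K), φ₁.comp ψ = φ₂.comp ψ → φ₁ = φ₂) :
    UniversallyInjective (Spec.map (CommRingCat.ofHom ψ)) := by
  have htfae := (tfae_universallyInjective (Spec.map (CommRingCat.ofHom ψ))).out 0 1
  rw [htfae]
  intro K _ g₁ g₂ hg
  obtain ⟨φ₁, rfl⟩ : ∃ φ, Spec.map φ = g₁ := ⟨Spec.preimage g₁, Spec.map_preimage g₁⟩
  obtain ⟨φ₂, rfl⟩ : ∃ φ, Spec.map φ = g₂ := ⟨Spec.preimage g₂, Spec.map_preimage g₂⟩
  have hg' : Spec.map (CommRingCat.ofHom ψ ≫ φ₁) = Spec.map (CommRingCat.ofHom ψ ≫ φ₂) := by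
    rw [Spec.map_comp, Spec.map_comp]
    exact hg
  have h2 := Spec.map_injective hg'
  have h3 : φ₁.hom.comp ψ = φ₂.hom.comp ψ := congrArg (fun f => f.hom) h2
  have h4 := h K φ₁.hom φ₂.hom h3
  congr 1
  exact CommRingCat.hom_ext h4

/-- Lemma U: for a universal homeomorphism `Spec C → Spec A`, maps from `C` to fields are
determined by their restriction to `A`. -/
theorem hom_ext_of_isUnivHomeo {A C : Type u} [CommRing A] [CommRing C] (ψ : A →+* C)
    (h : FlatMor.IsUnivHomeo (Spec.map (CommRingCat.ofHom ψ)))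
    (K : Type u) [Field K] (φ₁ φ₂ : C →+* K) (hφ : φ₁.comp ψ = φ₂.comp ψ) : φ₁ = φ₂ := by
  have hui : UniversallyInjective (Spec.map (CommRingCat.ofHom ψ)) :=
    ⟨fun X' Y' i₁ i₂ f' hp => (h i₁ i₂ f' hp).injective⟩
  have htfae := (tfae_universallyInjective (Spec.map (CommRingCat.ofHom ψ))).out 0 1
  have h1 := htfae.mp hui K
  have h2 : Spec.map (CommRingCat.ofHom φ₁) ≫ Spec.map (CommRingCat.ofHom ψ) =
      Spec.map (CommRingCat.ofHom φ₂) ≫ Spec.map (CommRingCat.ofHom ψ) := by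
    rw [← Spec.map_comp, ← Spec.map_comp, ← CommRingCat.ofHom_comp, ← CommRingCat.ofHom_comp, hφ]
  have h3 := Spec.map_injective (h1 h2)
  exact congrArg (fun f => f.hom) h3

end Groth.Agent.Lib.Helper20.WeakNorm
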