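import Mathlib
import Groth.Agent.Lib.Helper20ZClos22

/-!
# Z-closure, part 23 (helper20): Hartogs for modules with a "regular pair" in each stalk along `K`
(no finiteness hypothesis), e.g. flat quasi-coherent modules where the local rings have depth `≥ 2`
-/

set_option autoImplicit false
set_option linter.style.haveILetI false
set_option linter.unusedSectionVars false
universe u v
open CategoryTheory CategoryTheory.Limits AlgebraicGeometry TopologicalSpace Opposite

namespace Groth.Agent.Lib.Helper20.ZClosLib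

/-- a "regular pair" on the ring stays a regular pair on any flat module. -/
theorem regular_pair_of_flat {O : Type u} [CommRing O] {N : Type v} [AddCommGroup N] [Module O N]
    [Module.Flat O N] (a b : O) (ha : IsSMulRegular O a)
    (hab : ∀ u : O, (∃ v : O, b • u = a • v) → ∃ w : O, u = a • w) :
    IsSMulRegular N a ∧ ∀ n : N, (∃ n' : N, b • n = a • n') → ∃ w : N, n = a • w := by
  constructor
  · apply Module.Flat.isSMulRegular_of_nonZeroDivisors
    rw [mem_nonZeroDivisors_iff_right]
    intro x hx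
    apply ha
    change a • x = a • 0
    rw [smul_zero, smul_eq_mul, mul_comm]
    exact hx
  · rintro n ⟨n', hn⟩
    have hrel : ∑ i : Fin 2, (![b, -a] : Fin 2 → O) i • (![n, n'] : Fin 2 → N) i = 0 := by
      simp [Fin.sum_univ_two, hn]
    obtain ⟨k, A, y, hx, hf⟩ := Module.Flat.isTrivialRelation_of_sum_smul_eq_zero hrel
    have h0 := hx 0
    simp only [Matrix.cons_val_zero] at h0
    have hw : ∀ j : Fin k, ∃ w : O, A 0 j = a • w := by
      intro j
      apply hab
      refine ⟨A 1 j, ?_⟩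
      have := hf j
      simp only [Fin.sum_univ_two, Matrix.cons_val_zero, Matrix.cons_val_one] at this
      rw [smul_eq_mul, smul_eq_mul]
      linear_combination this
    choose w hw using hw
    refine ⟨∑ j, w j • y j, ?_⟩
    rw [h0, Finset.smul_sum]
    refine Finset.sum_congr rfl fun j _ => ?_
    rw [hw j, smul_eq_mul, mul_smul]


variable {X : Scheme.{u}}

/-- the stalk `F_x` has a regular pair in the maximal ideal (elementary form of depth `≥ 2`, also for modules
which are not of finite type). -/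
def RegPair (F : X.Modules) (x : X) : Prop :=
  ∃ a ∈ IsLocalRing.maximalIdeal (X.presheaf.stalk x),
    ∃ b ∈ IsLocalRing.maximalIdeal (X.presheaf.stalk x),
      IsSMulRegular (F.presheaf.stalk x) a ∧
        ∀ u : F.presheaf.stalk x, (∃ v : F.presheaf.stalk x, b • u = a • v) →
          ∃ w : F.presheaf.stalk x, u = a • w

section Local

open Groth.Agent.S8890 Groth.Agent.Lib.Helper2.QCoh Groth.Agent.Lib.Helper2.ModExact
open Groth.Agent.Lib.Helper20.IsoDepth

variable {F G : X.Modules} (φ : F ⟶ G) [F.IsQuasicoherent] [G.IsQuasicoherent]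
  {U : X.Opens} (hU : IsAffineOpen U)

include hU in
/-- `bij_at` of S8890 with a regular pair instead of depth `≥ 2` and finite type. -/
theorem bij_at' [IsLocallyNoetherian X]
    (x : X) (hx : x ∈ U)
    (hgen : ∀ q : PrimeSpectrum Γ(X, U), q.asIdeal < (hU.primeIdealOf ⟨x, hx⟩).asIdeal →
      Function.Bijective (ψ φ (hU.fromSpec q)))
    (hreg : RegPair F x)
    (hass : ¬ Curv2.IsAssPoint G x) : Function.Bijective (ψ φ x) := by
  haveI : IsNoetherianRing Γ(X, U) := IsLocallyNoetherian.component_noetherian ⟨U, hU⟩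
  obtain ⟨a, ham, b, hbm, hareg, hbreg⟩ := hreg
  have hunit : ∀ s : Γ(X, U), x ∈ X.basicOpen s → IsUnit (X.presheaf.germ U x hx s) :=
    fun s hs => (Scheme.mem_basicOpen _ _ _ hx).1 hs
  -- injectivity
  have hinj : Function.Injective (ψ φ x) := by
    rw [injective_iff_map_eq_zero]
    intro f hf
    by_contra hf0
    obtain ⟨s, m, hs, hsm⟩ := exists_smul_eq_germ hU F x hx f
    have hm0 : F.presheaf.germ U x hx m ≠ 0 := by
      intro h0
      rw [h0] at hsm
      exact hf0 (germ_smul_eq_zero_of_isUnit (hunit s hs) hsm)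
    have h1 : G.presheaf.germ U x hx (φ.app U m) = 0 := by
      rw [← ψ_germ, ← hsm, ψ_smul, hf, smul_zero]
    obtain ⟨e, he, hem⟩ := exists_smul_eq_zero_of_germ_eq_zero hU G x hx _ h1
    have hφm₁ : φ.app U (e • m) = 0 := by rw [Scheme.Modules.Hom.app_smul, hem]
    have hm₁ : F.presheaf.germ U x hx (e • m) ≠ 0 := by
      rw [germ_smul]
      intro h0
      exact hm0 (germ_smul_eq_zero_of_isUnit (hunit e he) h0)
    obtain ⟨r, hrJ, hr⟩ := exists_notMem_mul_mem (hU.primeIdealOf ⟨x, hx⟩).asIdeal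
      (J F x hx (e • m) ⊥) (J_sat hU F x hx (e • m) ⊥)
      (by rw [mem_J, one_smul, Submodule.mem_bot]; exact hm₁)
      (by
        intro q hqprime hlt
        obtain ⟨e', he', hem'⟩ := inj_at φ hU (hU.fromSpec ⟨q, hqprime⟩) (fromSpec_mem hU _)
          (hgen ⟨q, hqprime⟩ hlt).1 (e • m) hφm₁
        rw [primeIdealOf_fromSpec hU ⟨q, hqprime⟩] at he'
        refine ⟨e', ?_, he'⟩
        rw [mem_J, hem', map_zero]
        exact Submodule.zero_mem _)
    rw [mem_J, Submodule.mem_bot] at hrJ
    have h2 := J_max hU F x hx (e • m) ⊥ r hr a ham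
    rw [Submodule.mem_bot] at h2
    apply hrJ
    apply hareg
    change a • _ = a • (0 : F.presheaf.stalk x)
    rw [smul_zero]
    exact h2
  refine ⟨hinj, ?_⟩
  -- surjectivity
  intro g
  by_contra hg
  obtain ⟨s, n, hs, hsn⟩ := exists_smul_eq_germ hU G x hx g
  have hn0 : G.presheaf.germ U x hx n ∉ LinearMap.range (ψₗ φ x) := by
    intro h0
    apply hg
    obtain ⟨v, hv⟩ := (hunit s hs).exists_left_inv
    have h1 := (LinearMap.range (ψₗ φ x)).smul_mem v h0
    rw [← hsn, smul_smul, hv, one_smul] at h1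
    obtain ⟨f, hf⟩ := h1
    exact ⟨f, hf⟩
  obtain ⟨r, hrJ, hr⟩ := exists_notMem_mul_mem (hU.primeIdealOf ⟨x, hx⟩).asIdeal
    (J G x hx n (LinearMap.range (ψₗ φ x))) (J_sat hU G x hx n _)
    (by rw [mem_J, one_smul]; exact hn0)
    (by
      intro q hqprime hlt
      obtain ⟨e', m', he', hem'⟩ := surj_at φ hU (hU.fromSpec ⟨q, hqprime⟩) (fromSpec_mem hU _)
        (hgen ⟨q, hqprime⟩ hlt).2 n
      rw [primeIdealOf_fromSpec hU ⟨q, hqprime⟩] at he'
      refine ⟨e', ?_, he'⟩
      rw [mem_J, ← hem', ← ψ_germ]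
      exact ⟨F.presheaf.germ U x hx m', rfl⟩)
  rw [mem_J] at hrJ
  obtain ⟨n'', hn''0, hn''⟩ := exists_ne_zero_smul_eq_zero
    (IsLocalRing.maximalIdeal (X.presheaf.stalk x)) (ψₗ φ x) hinj a b ham hbm hareg hbreg
    (G.presheaf.germ U x hx (r • n)) hrJ (fun t ht => J_max hU G x hx n _ r hr t ht)
  apply hass
  change IsAssociatedPrime _ _
  rw [isAssociatedPrime_iff]
  refine ⟨(IsLocalRing.maximalIdeal.isMaximal _).isPrime, n'', ?_⟩
  ext c
  rw [Submodule.mem_colon_singleton, Submodule.mem_bot]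
  constructor
  · intro hc
    exact hn'' c hc
  · intro hc
    by_contra hcm
    have hcu : IsUnit c := by
      by_contra hnu
      exact hcm ((IsLocalRing.mem_maximalIdeal c).2 hnu)
    exact hn''0 (germ_smul_eq_zero_of_isUnit hcu hc)

end Local

section Closed

open Groth.Agent.S8890 Groth.Agent.Lib.Helper2.QCoh

variable [IsLocallyNoetherian X]

/-- local form of S8890, with regular pairs. -/
theorem bijective_ψ_local' {F G : X.Modules} (φ : F ⟶ G) [F.IsQuasicoherent] [G.IsQuasicoherent]
    (x : X)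
    (h : ∀ x' : X, x' ⤳ x → Function.Bijective (ψ φ x') ∨
      (RegPair F x' ∧ ¬ Curv2.IsAssPoint G x')) :
    Function.Bijective (ψ φ x) := by
  by_contra hx₀
  obtain ⟨U, hU, hxU⟩ := exists_affine_mem x
  haveI : IsNoetherianRing Γ(X, U) := IsLocallyNoetherian.component_noetherian ⟨U, hU⟩
  let S : Set (PrimeSpectrum Γ(X, U)) :=
    {q | q.asIdeal ≤ (hU.primeIdealOf ⟨x, hxU⟩).asIdeal ∧ ¬ Function.Bijective (ψ φ (hU.fromSpec q))}
  have hne : S.Nonempty := by
    refine ⟨hU.primeIdealOf ⟨x, hxU⟩, le_rfl, ?_⟩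
    change ¬ Function.Bijective (ψ φ (hU.fromSpec (hU.primeIdealOf ⟨x, hxU⟩)))
    rw [hU.fromSpec_primeIdealOf ⟨x, hxU⟩]
    exact hx₀
  obtain ⟨q₀, hq₀S, hmin⟩ := WellFounded.has_min
    (InvImage.wf (fun q : PrimeSpectrum Γ(X, U) => q.asIdeal.height) wellFounded_lt) S hne
  apply hq₀S.2
  have hmem := fromSpec_mem hU q₀
  have hprime := primeIdealOf_fromSpec hU q₀
  have hspec : hU.fromSpec q₀ ⤳ x := fromSpec_specializes hU q₀ x hxU hq₀S.1
  rcases h (hU.fromSpec q₀) hspec with hb | ⟨hreg, hass⟩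
  · exact hb
  · refine bij_at' φ hU (hU.fromSpec q₀) hmem ?_ hreg hass
    intro q hlt
    rw [hprime] at hlt
    by_contra hq
    apply hmin q ⟨hlt.le.trans hq₀S.1, hq⟩
    change q.asIdeal.height < q₀.asIdeal.height
    exact Ideal.height_strict_mono_of_isPrime hlt

variable (Z : Set X) (F : X.Modules)

theorem isZClosedAt_of_regPair [F.IsQuasicoherent] (x : X)
    (h : ∀ x' : X, x' ⤳ x → x' ∈ Z → RegPair F x') :
    ZClos.IsZClosedAt Z F x := by
  apply isZClosedAt_of_forall_bijective
  intro T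
  haveI : ((D Z F).obj T).IsQuasicoherent := isQuasicoherent_D_obj Z F T
  apply bijective_ψ_local' (ZClos.toDiagram Z F T) x
  intro x' hx'
  by_cases hx'T : x' ∈ T.U
  · exact Or.inl (υx_bijective_of_mem Z F x' T hx'T)
  · exact Or.inr ⟨h x' hx' (T.2 (not_not.mp hx'T)),
      Groth.Agent.S1575.not_isAssPoint F T.U x' hx'T⟩

/-- a quasi-coherent module with regular pairs in the stalks along `K` has an invertible unit to `j_*j^*`. -/
theorem isIso_unit_of_regPair (K : Closeds X) (G : X.Modules) [G.IsQuasicoherent]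
    (hG : ∀ x : X, x ∈ (K : Set X) → RegPair G x) :
    IsIso ((ZClos.resPushUnit K.compl).app G) := by
  have hcl : ZClos.IsZClosed (K : Set X) G :=
    isZClosed_of_forall_isZClosedAt _ _ fun x =>
      isZClosedAt_of_regPair (K : Set X) G x fun x' _ hx' => hG x' hx'
  exact (isZClosed_iff_forall_isIso (K : Set X) G).mp hcl (topCl K)

end Closed

end Groth.Agent.Lib.Helper20.ZClosLib
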