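import Mathlib
import Groth.Agent.Lib.Helper20ZClos20

/-!
# Z-closure, part 24 (helper20): extension of morphisms into an affine morphism across a closed set of depth `≥ 2`
-/

set_option autoImplicit false
set_option linter.style.haveILetI false
set_option linter.unusedSectionVars false
universe u v
open CategoryTheory CategoryTheory.Limits AlgebraicGeometry TopologicalSpace Opposite

namespace Groth.Agent.Lib.Helper20.ZClosLib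

/-- morphisms to an affine scheme extend uniquely along a morphism inducing an isomorphism on global sections. -/
theorem existsUnique_extension_of_isIso_appTop {U' V' T : Scheme.{u}} [IsAffine T] (j : U' ⟶ V')
    [IsIso j.appTop] (h : U' ⟶ T) : ∃! g : V' ⟶ T, j ≫ g = h := by
  obtain ⟨g, hg⟩ := exists_hom_appTop V' T (h.appTop ≫ inv j.appTop)
  refine ⟨g, ?_, ?_⟩
  · apply ext_of_isAffine
    rw [Scheme.Hom.comp_appTop, hg, Category.assoc, IsIso.inv_hom_id, Category.comp_id]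
  · intro g' hg'
    apply ext_of_isAffine
    rw [hg, ← hg', Scheme.Hom.comp_appTop, Category.assoc, IsIso.hom_inv_id, Category.comp_id]

variable {X : Scheme.{u}} [IsLocallyNoetherian X] (K : Closeds X)

/-- Hartogs as an isomorphism on global sections of open subschemes. -/
theorem isIso_homOfLE_appTop
    (hK : ∀ x : X, x ∈ (K : Set X) →
      (2 : ℕ∞) ≤ LocCoh.depth (X.presheaf.stalk x) (X.presheaf.stalk x)) (V : X.Opens) :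
    IsIso (X.homOfLE (inf_le_left : V ⊓ K.compl ≤ V)).appTop := by
  rw [ConcreteCategory.isIso_iff_bijective, Scheme.homOfLE_appTop]
  have hb := bijective_res_structureSheaf K hK V
  have key : ∀ (A B : X.Opens) (hA : A = V ⊓ K.compl) (hB : B = V) (i : A ≤ B),
      Function.Bijective (X.presheaf.map (homOfLE i).op) := by
    intro A B hA hB i
    subst hA hB
    exact hb
  refine key _ _ ?_ ?_ _
  · simp
  · simp

variable {Y S : Scheme.{u}} (p : Y ⟶ S) [IsAffineHom p] (a : X ⟶ S)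
  (h : ((K.compl : X.Opens) : Scheme.{u}) ⟶ Y)

/-- local extension over the preimage of an affine open of the base. -/
theorem existsUnique_local_extension
    (hK : ∀ x : X, x ∈ (K : Set X) →
      (2 : ℕ∞) ≤ LocCoh.depth (X.presheaf.stalk x) (X.presheaf.stalk x))
    (hh : h ≫ p = Scheme.Opens.ι (K.compl : X.Opens) ≫ a) (Si : S.Opens) (hSi : IsAffineOpen Si) :
    ∃! γ : ((a ⁻¹ᵁ Si : X.Opens) : Scheme.{u}) ⟶ Y, γ ≫ p = (a ⁻¹ᵁ Si).ι ≫ a ∧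
      X.homOfLE (inf_le_left : a ⁻¹ᵁ Si ⊓ K.compl ≤ a ⁻¹ᵁ Si) ≫ γ =
        X.homOfLE (inf_le_right : a ⁻¹ᵁ Si ⊓ K.compl ≤ K.compl) ≫ h := by
  have hYi : IsAffineOpen (p ⁻¹ᵁ Si) := hSi.preimage p
  haveI : IsAffine ((p ⁻¹ᵁ Si : Y.Opens) : Scheme.{u}) := hYi
  haveI : IsAffine ((Si : S.Opens) : Scheme.{u}) := hSi
  haveI := isIso_homOfLE_appTop K hK (a ⁻¹ᵁ Si)
  set j := X.homOfLE (inf_le_left : a ⁻¹ᵁ Si ⊓ K.compl ≤ a ⁻¹ᵁ Si) with hj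
  set k := X.homOfLE (inf_le_right : a ⁻¹ᵁ Si ⊓ K.compl ≤ K.compl) with hk
  have hjι : j ≫ (a ⁻¹ᵁ Si).ι = (a ⁻¹ᵁ Si ⊓ K.compl).ι := X.homOfLE_ι _
  have hkι : k ≫ Scheme.Opens.ι (K.compl : X.Opens) = (a ⁻¹ᵁ Si ⊓ K.compl).ι := X.homOfLE_ι _
  -- the restriction of `h` lands in `p⁻¹ Si`
  have hkh : (k ≫ h) ≫ p = (a ⁻¹ᵁ Si ⊓ K.compl).ι ≫ a := by
    rw [Category.assoc, hh, ← Category.assoc, hkι]
  have hrange : Set.range (k ≫ h) ⊆ Set.range (p ⁻¹ᵁ Si).ι := by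
    rintro _ ⟨w, rfl⟩
    rw [Scheme.Opens.range_ι]
    change p ((k ≫ h) w) ∈ Si
    have h1 : p ((k ≫ h) w) = ((k ≫ h) ≫ p) w := rfl
    rw [h1, hkh]
    exact w.2.1
  let hi : ((a ⁻¹ᵁ Si ⊓ K.compl : X.Opens) : Scheme.{u}) ⟶ ((p ⁻¹ᵁ Si : Y.Opens) : Scheme.{u}) :=
    IsOpenImmersion.lift (p ⁻¹ᵁ Si).ι (k ≫ h) hrange
  have hhi : hi ≫ (p ⁻¹ᵁ Si).ι = k ≫ h := IsOpenImmersion.lift_fac _ _ _
  obtain ⟨gi, hgi, hgi_uniq⟩ := existsUnique_extension_of_isIso_appTop j hi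
  have hgi' : ∀ g', j ≫ g' = hi → g' = gi := hgi_uniq
  refine ⟨gi ≫ (p ⁻¹ᵁ Si).ι, ⟨?_, ?_⟩, ?_⟩
  · have h2 : gi ≫ (p ∣_ Si) = (a ∣_ Si) := by
      obtain ⟨g0, -, huniq⟩ := existsUnique_extension_of_isIso_appTop j (hi ≫ (p ∣_ Si))
      have hu : ∀ g', j ≫ g' = hi ≫ (p ∣_ Si) → g' = g0 := huniq
      rw [hu (gi ≫ (p ∣_ Si)) (by rw [← Category.assoc, hgi]), hu (a ∣_ Si) ?_]
      rw [← cancel_mono Si.ι, Category.assoc, Category.assoc, morphismRestrict_ι,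
        morphismRestrict_ι, ← Category.assoc, ← Category.assoc, hjι, hhi, hkh]
    rw [Category.assoc, ← morphismRestrict_ι, ← Category.assoc, h2, morphismRestrict_ι]
  · rw [← Category.assoc, hgi, hhi]
  · rintro γ ⟨hγ1, hγ2⟩
    have hrange' : Set.range γ ⊆ Set.range (p ⁻¹ᵁ Si).ι := by
      rintro _ ⟨w, rfl⟩
      rw [Scheme.Opens.range_ι]
      change p (γ w) ∈ Si
      have h1 : p (γ w) = (γ ≫ p) w := rfl
      rw [h1, hγ1]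
      exact w.2
    have hfac : IsOpenImmersion.lift (p ⁻¹ᵁ Si).ι γ hrange' ≫ (p ⁻¹ᵁ Si).ι = γ :=
      IsOpenImmersion.lift_fac _ _ _
    have h3 : IsOpenImmersion.lift (p ⁻¹ᵁ Si).ι γ hrange' = gi := by
      apply hgi'
      rw [← cancel_mono (p ⁻¹ᵁ Si).ι, Category.assoc, hfac, hhi, hγ2]
    rw [← h3, hfac]


/-- morphisms into an affine morphism extend uniquely across a closed set along which the local rings have depth `≥ 2`. -/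
theorem existsUnique_lift_affineHom
    (hK : ∀ x : X, x ∈ (K : Set X) →
      (2 : ℕ∞) ≤ LocCoh.depth (X.presheaf.stalk x) (X.presheaf.stalk x))
    (hh : h ≫ p = Scheme.Opens.ι (K.compl : X.Opens) ≫ a) :
    ∃! g : X ⟶ Y, g ≫ p = a ∧ Scheme.Opens.ι (K.compl : X.Opens) ≫ g = h := by
  classical
  choose γ hγ hγu using fun i : S.affineOpens =>
    existsUnique_local_extension K p a h hK hh i.1 i.2
  have hγu' : ∀ (i : S.affineOpens) (y : ((a ⁻¹ᵁ i.1 : X.Opens) : Scheme.{u}) ⟶ Y),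
      (y ≫ p = (a ⁻¹ᵁ i.1).ι ≫ a ∧
        X.homOfLE (inf_le_left : a ⁻¹ᵁ i.1 ⊓ K.compl ≤ a ⁻¹ᵁ i.1) ≫ y =
          X.homOfLE (inf_le_right : a ⁻¹ᵁ i.1 ⊓ K.compl ≤ K.compl) ≫ h) → y = γ i := hγu
  -- compatibility with restriction to smaller affine opens
  have hres : ∀ (i k : S.affineOpens) (hki : k.1 ≤ i.1),
      X.homOfLE (a.preimage_mono hki) ≫ γ i = γ k := by
    intro i k hki
    apply hγu' k
    constructor
    · rw [Category.assoc, (hγ i).1, ← Category.assoc, X.homOfLE_ι]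
    · rw [← Category.assoc, X.homOfLE_homOfLE]
      have h1 : X.homOfLE ((inf_le_left : a ⁻¹ᵁ k.1 ⊓ K.compl ≤ a ⁻¹ᵁ k.1).trans
          (a.preimage_mono hki)) =
          X.homOfLE (inf_le_inf_right _ (a.preimage_mono hki) :
            a ⁻¹ᵁ k.1 ⊓ K.compl ≤ a ⁻¹ᵁ i.1 ⊓ K.compl) ≫
            X.homOfLE (inf_le_left : a ⁻¹ᵁ i.1 ⊓ K.compl ≤ a ⁻¹ᵁ i.1) :=
        (X.homOfLE_homOfLE _ _).symm
      rw [h1, Category.assoc, (hγ i).2, ← Category.assoc, X.homOfLE_homOfLE]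
  have hcover : IsOpenCover (fun i : S.affineOpens => a ⁻¹ᵁ i.1) := by
    rw [IsOpenCover, eq_top_iff]
    intro x _
    obtain ⟨_, ⟨Sk, hSk, rfl⟩, hxk, -⟩ :=
      S.isBasis_affineOpens.exists_subset_of_mem_open (Set.mem_univ (a x)) isOpen_univ
    exact Opens.mem_iSup.2 ⟨⟨Sk, hSk⟩, hxk⟩
  let 𝒰 : X.OpenCover := X.openCoverOfIsOpenCover (fun i : S.affineOpens => a ⁻¹ᵁ i.1) hcover
  have hcompat : ∀ i j : S.affineOpens,
      pullback.fst (a ⁻¹ᵁ i.1).ι (a ⁻¹ᵁ j.1).ι ≫ γ i =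
        pullback.snd (a ⁻¹ᵁ i.1).ι (a ⁻¹ᵁ j.1).ι ≫ γ j := by
    intro i j
    refine (cancel_epi (isPullback_opens_inf (a ⁻¹ᵁ i.1) (a ⁻¹ᵁ j.1)).isoPullback.hom).mp ?_
    rw [IsPullback.isoPullback_hom_fst_assoc, IsPullback.isoPullback_hom_snd_assoc]
    apply Scheme.hom_ext_of_forall
    intro x
    obtain ⟨_, ⟨Sk, hSk, rfl⟩, hxk, hkij⟩ :=
      S.isBasis_affineOpens.exists_subset_of_mem_open
        (show a x.1 ∈ ((i.1 ⊓ j.1 : S.Opens) : Set S) from x.2) (i.1 ⊓ j.1 : S.Opens).isOpen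
    have hki : Sk ≤ i.1 := fun y hy => (hkij hy).1
    have hkj : Sk ≤ j.1 := fun y hy => (hkij hy).2
    let k : S.affineOpens := ⟨Sk, hSk⟩
    let N : ((a ⁻¹ᵁ i.1 ⊓ a ⁻¹ᵁ j.1 : X.Opens) : Scheme.{u}).Opens :=
      (a ⁻¹ᵁ i.1 ⊓ a ⁻¹ᵁ j.1).ι ⁻¹ᵁ (a ⁻¹ᵁ Sk)
    refine ⟨N, hxk, ?_⟩
    have hr : Set.range (N.ι ≫ (a ⁻¹ᵁ i.1 ⊓ a ⁻¹ᵁ j.1).ι) ⊆ Set.range (a ⁻¹ᵁ Sk).ι := by
      rintro _ ⟨n, rfl⟩
      rw [Scheme.Opens.range_ι]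
      exact n.2
    have he' : IsOpenImmersion.lift (a ⁻¹ᵁ Sk).ι (N.ι ≫ (a ⁻¹ᵁ i.1 ⊓ a ⁻¹ᵁ j.1).ι) hr ≫
        (a ⁻¹ᵁ Sk).ι = N.ι ≫ (a ⁻¹ᵁ i.1 ⊓ a ⁻¹ᵁ j.1).ι := IsOpenImmersion.lift_fac _ _ _
    have h1 : N.ι ≫ X.homOfLE (inf_le_left : a ⁻¹ᵁ i.1 ⊓ a ⁻¹ᵁ j.1 ≤ a ⁻¹ᵁ i.1) =
        IsOpenImmersion.lift (a ⁻¹ᵁ Sk).ι (N.ι ≫ (a ⁻¹ᵁ i.1 ⊓ a ⁻¹ᵁ j.1).ι) hr ≫
          X.homOfLE (a.preimage_mono hki) := by
      rw [← cancel_mono (a ⁻¹ᵁ i.1).ι, Category.assoc, Category.assoc, X.homOfLE_ι, X.homOfLE_ι, he']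
    have h2 : N.ι ≫ X.homOfLE (inf_le_right : a ⁻¹ᵁ i.1 ⊓ a ⁻¹ᵁ j.1 ≤ a ⁻¹ᵁ j.1) =
        IsOpenImmersion.lift (a ⁻¹ᵁ Sk).ι (N.ι ≫ (a ⁻¹ᵁ i.1 ⊓ a ⁻¹ᵁ j.1).ι) hr ≫
          X.homOfLE (a.preimage_mono hkj) := by
      rw [← cancel_mono (a ⁻¹ᵁ j.1).ι, Category.assoc, Category.assoc, X.homOfLE_ι, X.homOfLE_ι, he']
    rw [← Category.assoc, h1, Category.assoc, hres i k hki, ← Category.assoc, h2, Category.assoc,
      hres j k hkj]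
  let g : X ⟶ Y := 𝒰.glueMorphisms γ hcompat
  have hg : ∀ i : S.affineOpens, (a ⁻¹ᵁ i.1).ι ≫ g = γ i := fun i =>
    𝒰.ι_glueMorphisms γ hcompat i
  refine ⟨g, ⟨?_, ?_⟩, ?_⟩
  · apply 𝒰.hom_ext
    intro i
    change (a ⁻¹ᵁ i.1).ι ≫ g ≫ p = (a ⁻¹ᵁ i.1).ι ≫ a
    rw [← Category.assoc, hg, (hγ i).1]
  · apply Scheme.hom_ext_of_forall
    intro u
    obtain ⟨_, ⟨Sk, hSk, rfl⟩, hxk, -⟩ :=
      S.isBasis_affineOpens.exists_subset_of_mem_open (Set.mem_univ (a u.1)) isOpen_univ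
    let i : S.affineOpens := ⟨Sk, hSk⟩
    let N : ((K.compl : X.Opens) : Scheme.{u}).Opens :=
      Scheme.Opens.ι (K.compl : X.Opens) ⁻¹ᵁ (a ⁻¹ᵁ Sk)
    refine ⟨N, hxk, ?_⟩
    have hr : Set.range (N.ι ≫ Scheme.Opens.ι (K.compl : X.Opens)) ⊆
        Set.range (a ⁻¹ᵁ Sk ⊓ K.compl).ι := by
      rintro _ ⟨n, rfl⟩
      rw [Scheme.Opens.range_ι]
      exact ⟨n.2, n.1.2⟩
    have he' : IsOpenImmersion.lift (a ⁻¹ᵁ Sk ⊓ K.compl).ι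
        (N.ι ≫ Scheme.Opens.ι (K.compl : X.Opens)) hr ≫ (a ⁻¹ᵁ Sk ⊓ K.compl).ι =
        N.ι ≫ Scheme.Opens.ι (K.compl : X.Opens) := IsOpenImmersion.lift_fac _ _ _
    have h1 : N.ι ≫ Scheme.Opens.ι (K.compl : X.Opens) =
        IsOpenImmersion.lift (a ⁻¹ᵁ Sk ⊓ K.compl).ι
          (N.ι ≫ Scheme.Opens.ι (K.compl : X.Opens)) hr ≫
          X.homOfLE (inf_le_left : a ⁻¹ᵁ Sk ⊓ K.compl ≤ a ⁻¹ᵁ Sk) ≫ (a ⁻¹ᵁ Sk).ι := by
      rw [X.homOfLE_ι, he']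
    have h2 : IsOpenImmersion.lift (a ⁻¹ᵁ Sk ⊓ K.compl).ι
          (N.ι ≫ Scheme.Opens.ι (K.compl : X.Opens)) hr ≫
          X.homOfLE (inf_le_right : a ⁻¹ᵁ Sk ⊓ K.compl ≤ K.compl) = N.ι := by
      rw [← cancel_mono (Scheme.Opens.ι (K.compl : X.Opens)), Category.assoc, X.homOfLE_ι, he']
    rw [← Category.assoc, h1, Category.assoc, Category.assoc, hg i, (hγ i).2, ← Category.assoc, h2]
  · rintro g' ⟨hg'1, hg'2⟩
    apply 𝒰.hom_ext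
    intro i
    change (a ⁻¹ᵁ i.1).ι ≫ g' = (a ⁻¹ᵁ i.1).ι ≫ g
    rw [hg i]
    apply hγu' i
    constructor
    · rw [Category.assoc, hg'1]
    · rw [← Category.assoc, X.homOfLE_ι,
        ← X.homOfLE_ι (inf_le_right : a ⁻¹ᵁ i.1 ⊓ K.compl ≤ K.compl), Category.assoc, hg'2]


/-- version with an open set. -/
theorem existsUnique_lift_affineHom' {X Y S : Scheme.{u}} [IsLocallyNoetherian X] (U₁ : X.Opens)
    (hU₁ : ∀ x : X, x ∉ U₁ →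
      (2 : ℕ∞) ≤ LocCoh.depth (X.presheaf.stalk x) (X.presheaf.stalk x))
    (p : Y ⟶ S) [IsAffineHom p] (a : X ⟶ S) (h : (U₁ : Scheme.{u}) ⟶ Y)
    (hh : h ≫ p = U₁.ι ≫ a) :
    ∃! g : X ⟶ Y, g ≫ p = a ∧ U₁.ι ≫ g = h := by
  obtain ⟨K, rfl⟩ : ∃ K : Closeds X, K.compl = U₁ := ⟨U₁.compl, U₁.compl_compl⟩
  exact existsUnique_lift_affineHom K p a h (fun x hx => hU₁ x (fun h => h hx)) hh

end Groth.Agent.Lib.Helper20.ZClosLib
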