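import Mathlib
import Groth.Agent.Lib.Helper20ZClos5

set_option autoImplicit false
set_option linter.style.haveILetI false
universe u
open CategoryTheory CategoryTheory.Limits AlgebraicGeometry TopologicalSpace Opposite

namespace Groth.Agent.Lib.Helper20.ZClosLib

open Groth.Agent.Lib.Helper2.ModExact

variable {X : Scheme.{u}} [IsLocallyNoetherian X] (Z : Set X)

/-- a section over an affine open whose germs vanish outside `Z` is killed by restriction to some `X ∖ T`. -/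
theorem exists_toDiagram_app_eq_zero (hZ : StableUnderSpecialization Z) (M : X.Modules)
    (V : X.Opens) (hV : IsAffineOpen V) (g : Γ(M, V))
    (h : ∀ (y : X) (hy : y ∈ V), y ∉ Z → M.presheaf.germ V y hy g = 0) :
    ∃ T : ZClos.Cl Z, (ZClos.toDiagram Z M T).app V g = 0 := by
  obtain ⟨T', hT', h0⟩ := exists_le_map_eq_zero_of_germ Z M hZ ⊥ V hV
    ((ZClos.toDiagram Z M ⊥).app V g) (fun y hy hyZ => by
      have h1 : (ZClos.toDiagram Z M ⊥).app V g =
        M.presheaf.map (homOfLE ((⊥ : ZClos.Cl Z).U.ι.image_preimage_le V)).op g := rfl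
      rw [h1, TopCat.Presheaf.germ_res_apply]
      exact h y _ hyZ)
  refine ⟨T', ?_⟩
  have h2 : ZClos.toDiagram Z M ⊥ ≫ (D Z M).map (homOfLE hT') = ZClos.toDiagram Z M T' :=
    ZClos.toDiagram_map Z M (homOfLE hT')
  rw [← h2]
  exact h0

/-- a morphism between `Z`-closed modules which is bijective on stalks outside `Z` is an isomorphism. -/
theorem isIso_of_isZClosed_of_stalk_bijective (hZ : StableUnderSpecialization Z) {G F' : X.Modules}
    (hG : ZClos.IsZClosed Z G) (hF' : ZClos.IsZClosed Z F') (v : G ⟶ F')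
    (hv : ∀ x : X, x ∉ Z → Function.Bijective ((stalkF x).map v)) : IsIso v := by
  have hGp : ∀ T : ZClos.Cl Z, Mono (ZClos.toDiagram Z G T) :=
    (isZPure_iff_forall_mono Z G).mp (isZPure_of_isZClosed Z G hG)
  have hF'p : ∀ T : ZClos.Cl Z, Mono (ZClos.toDiagram Z F' T) :=
    (isZPure_iff_forall_mono Z F').mp (isZPure_of_isZClosed Z F' hF')
  -- injectivity over affine opens
  have hinjA : ∀ V : X.Opens, IsAffineOpen V → Function.Injective (v.app V) := by
    intro V hV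
    rw [injective_iff_map_eq_zero]
    intro g hg
    obtain ⟨T, hT⟩ := exists_toDiagram_app_eq_zero Z hZ G V hV g (fun y hy hyZ =>
      (hv y hyZ).1 (((stalkF_map_germ v y hy g).trans (by rw [hg]; exact map_zero _)).trans
        (map_zero ((stalkF y).map v).hom).symm))
    haveI := hGp T
    exact (injective_iff_map_eq_zero ((ZClos.toDiagram Z G T).app V).hom).mp
      (Groth.Agent.Lib.Helper20.StalkExact.injective_app_of_mono _ V) g hT
  -- injectivity over all opens
  have hinj : ∀ W : X.Opens, Function.Injective (v.app W) := by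
    intro W
    rw [injective_iff_map_eq_zero]
    intro g hg
    refine G.isSheaf.section_ext (U := op W) fun x hx => ?_
    obtain ⟨_, ⟨V, hV, rfl⟩, hxV, hVW⟩ :=
      X.isBasis_affineOpens.exists_subset_of_mem_open hx W.isOpen
    have hVW' : V ≤ W := hVW
    refine ⟨V, hVW', hxV, ?_⟩
    change G.presheaf.map (homOfLE hVW').op g = G.presheaf.map (homOfLE hVW').op 0
    rw [map_zero]
    apply (injective_iff_map_eq_zero (v.app V).hom).mp (hinjA V hV)
    change v.app V (G.presheaf.map (homOfLE hVW').op g) = 0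
    rw [app_map, hg, map_zero]
  refine isIso_of_bijective_on_affines v fun V hV => ⟨hinjA V hV, fun s' => ?_⟩
  -- the open where `s'` is locally in the image
  let O : Set X := {y | ∃ (W : X.Opens) (_ : y ∈ W) (hW : W ≤ V) (m : Γ(G, W)),
    v.app W m = F'.presheaf.map (homOfLE hW).op s'}
  have hO : IsOpen O := by
    rw [isOpen_iff_forall_mem_open]
    rintro y ⟨W, hyW, hWV, m, hm⟩
    exact ⟨W, fun y' hy' => ⟨W, hy', hWV, m, hm⟩, W.isOpen, hyW⟩
  have hOZ : Oᶜ ∩ V ∩ (⊤ : X.Opens) ⊆ Z := by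
    rintro y ⟨⟨hyO, hyV⟩, -⟩
    by_contra hyZ
    apply hyO
    obtain ⟨c, hc⟩ := (hv y hyZ).2 (F'.presheaf.germ V y hyV s')
    obtain ⟨W₁, hyW₁, m₁, rfl⟩ := G.presheaf.exists_germ_eq c
    rw [stalkF_map_germ] at hc
    obtain ⟨W₂, hyW₂, i₁, i₂, heq⟩ := TopCat.Presheaf.germ_eq _ y hyW₁ hyV _ _ hc
    refine ⟨W₂, hyW₂, leOfHom i₂, G.presheaf.map i₁.op m₁, ?_⟩
    rw [app_map]
    exact heq
  haveI : IsNoetherianRing Γ(X, V) := IsLocallyNoetherian.component_noetherian ⟨V, hV⟩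
  have hN : NoetherianSpace ((V : Set X) : Type u) := noetherianSpace_of_isAffineOpen V hV
  have hQ : QuasiSober ((V : Set X) : Type u) := V.isOpen.isOpenEmbedding_subtypeVal.quasiSober
  have hcl := @closure_subset_of_stableUnderSpecialization _ _ _ hZ V hN hQ ⊤ Oᶜ
    hO.isClosed_compl hOZ
  let T' : ZClos.Cl Z := ⟨⟨closure (Oᶜ ∩ V ∩ (⊤ : X.Opens)), isClosed_closure⟩, hcl⟩
  set W₀ : X.Opens := T'.U.ι ''ᵁ T'.U.ι ⁻¹ᵁ V with hW₀
  have hW₀V : W₀ ≤ V := T'.U.ι.image_preimage_le V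
  have hW₀O : ∀ y ∈ W₀, y ∈ O := by
    intro y hy
    have hy2 : y ∈ T'.U ⊓ V := by rw [← ZClos.ι_image_preimage]; exact hy
    by_contra hyO
    exact hy2.1 (subset_closure ⟨⟨hyO, hy2.2⟩, trivial⟩)
  -- local lifts over `W₀`
  have hloc : ∀ y : W₀, ∃ (Uy : X.Opens) (hUy : Uy ≤ W₀) (_ : y.1 ∈ Uy) (sf : Γ(G, Uy)),
      v.app Uy sf = F'.presheaf.map (homOfLE (hUy.trans hW₀V)).op s' := by
    intro y
    obtain ⟨W, hyW, hWV, m, hm⟩ := hW₀O y.1 y.2
    refine ⟨W ⊓ W₀, inf_le_right, ⟨hyW, y.2⟩,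
      G.presheaf.map (homOfLE (inf_le_left : W ⊓ W₀ ≤ W)).op m, ?_⟩
    rw [app_map, hm, ← ConcreteCategory.comp_apply, ← Functor.map_comp]
    rfl
  choose Uy hUy hyUy sf hsf using hloc
  let M' : TopCat.Sheaf Ab.{u} X.toTopCat := ⟨G.presheaf, G.isSheaf⟩
  have hcompat : TopCat.Presheaf.IsCompatible M'.1 Uy sf := by
    intro y y'
    apply hinj
    change v.app _ (G.presheaf.map (Opens.infLELeft (Uy y) (Uy y')).op (sf y)) =
      v.app _ (G.presheaf.map (Opens.infLERight (Uy y) (Uy y')).op (sf y'))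
    rw [app_map, app_map, hsf, hsf, ← ConcreteCategory.comp_apply, ← Functor.map_comp,
      ← ConcreteCategory.comp_apply, ← Functor.map_comp]
    rfl
  obtain ⟨m, hm, -⟩ := M'.existsUnique_gluing' Uy W₀ (fun y => homOfLE (hUy y))
    (fun y hy => Opens.mem_iSup.mpr ⟨⟨y, hy⟩, hyUy ⟨y, hy⟩⟩) sf hcompat
  have hvm : v.app W₀ m = F'.presheaf.map (homOfLE hW₀V).op s' := by
    refine F'.isSheaf.section_ext (U := op W₀) fun x hx => ?_
    refine ⟨Uy ⟨x, hx⟩, hUy ⟨x, hx⟩, hyUy ⟨x, hx⟩, ?_⟩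
    change F'.presheaf.map (homOfLE (hUy ⟨x, hx⟩)).op (v.app W₀ m) =
      F'.presheaf.map (homOfLE (hUy ⟨x, hx⟩)).op
        (F'.presheaf.map (homOfLE hW₀V).op s')
    rw [← app_map]
    have h3 : G.presheaf.map (homOfLE (hUy ⟨x, hx⟩)).op m = sf ⟨x, hx⟩ := hm ⟨x, hx⟩
    rw [h3, hsf, ← ConcreteCategory.comp_apply, ← Functor.map_comp]
    rfl
  obtain ⟨m', hm'⟩ := toDiagram_app_surjective_of_isZClosed Z G hG T' V hV.isCompact m
  refine ⟨m', ?_⟩
  haveI := hF'p T'
  have hd : (ZClos.toDiagram Z F' T').app V (v.app V m' - s') = 0 := by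
    rw [map_sub, sub_eq_zero]
    have h4 : (ZClos.toDiagram Z F' T').app V (v.app V m') =
        v.app W₀ ((ZClos.toDiagram Z G T').app V m') :=
      (app_map v (homOfLE hW₀V) m').symm
    rw [h4, hm', hvm]
    rfl
  exact sub_eq_zero.mp ((injective_iff_map_eq_zero ((ZClos.toDiagram Z F' T').app V).hom).mp
    (Groth.Agent.Lib.Helper20.StalkExact.injective_app_of_mono _ V) _ hd)

/-- S5852. -/
theorem isIso_fac_of_stalk_bijective_off (hZ : StableUnderSpecialization Z) (F F' : X.Modules)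
    (hF' : ZClos.IsZClosed Z F') (u : F ⟶ F')
    (hu : ∀ x : X, x ∉ Z → Function.Bijective ((stalkF x).map u))
    (v : (ZClos.H0 Z).obj F ⟶ F') (hv : ZClos.rhoApp Z F ≫ v = u) : IsIso v := by
  refine isIso_of_isZClosed_of_stalk_bijective Z hZ (isZClosed_H0 Z F) hF' v fun x hx => ?_
  have h1 : Function.Bijective ((stalkF x).map (ZClos.rhoApp Z F)) :=
    isZClosedAt_of_notMem Z F x hx
  have h2 : (stalkF x).map u = (stalkF x).map (ZClos.rhoApp Z F) ≫ (stalkF x).map v := by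
    rw [← Functor.map_comp, hv]
  have h3 : Function.Bijective ((stalkF x).map (ZClos.rhoApp Z F) ≫ (stalkF x).map v) :=
    h2 ▸ hu x hx
  have h4 : Function.Bijective (((stalkF x).map v) ∘ ((stalkF x).map (ZClos.rhoApp Z F))) := h3
  exact (Function.Bijective.of_comp_iff _ h1).mp h4

end Groth.Agent.Lib.Helper20.ZClosLib
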