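import Mathlib
import Groth.Prelude.Def_DerCA

/-!
# The algebraic augmented full Čech complex of a module with respect to a family of ring elements (helper21)

For a commutative ring `A`, a family `f : I → A` and an `A`-module `N`:
* `locLe h N : N_S → N_{S'}` for submonoids `S ≤ S'`, with uniqueness (`loc_hom_ext`) and inverses (`locInv`) when the
  elements of `S'` act bijectively on `N_S`.
* `Sub f x`: the submonoid generated by the `f (x k)` for a tuple `x : Fin n → I`.
* `CX f N n = ∏_{x : Fin n → I} N_{Sub f x}` (so `CX f N 0 ≅ N`), cofaces `δ`, differential `dC` (alternating sum),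
  `dC_comp_dC`, the complex `cechAug f N : CochainComplex (ModuleCat A) ℕ` and the functor `cechAugFunctor f`.
-/

set_option autoImplicit false

namespace Groth.Agent.Lib.Helper21.AC

open CategoryTheory CategoryTheory.Limits

universe u

variable {A : Type u} [CommRing A]

section Loc

variable {S S' S'' : Submonoid A}

/-- the elements of `A` acting bijectively on a module form a submonoid. -/
def unitSub (P : Type*) [AddCommGroup P] [Module A P] : Submonoid A :=
  (IsUnit.submonoid (Module.End A P)).comap (algebraMap A (Module.End A P)).toMonoidHom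

lemma mem_unitSub {P : Type*} [AddCommGroup P] [Module A P] (a : A) :
    a ∈ unitSub (A := A) P ↔ IsUnit (algebraMap A (Module.End A P) a) := Iff.rfl

lemma le_unitSub_loc (h : S ≤ S') (N : Type u) [AddCommGroup N] [Module A N] :
    S ≤ unitSub (A := A) (LocalizedModule S' N) := fun s hs =>
  IsLocalizedModule.map_units (LocalizedModule.mkLinearMap S' N) ⟨s, h hs⟩

/-- two maps out of a localisation into a module on which the submonoid acts bijectively agree as soon as they agree
on the image of the module. -/
lemma loc_hom_ext {N : Type u} [AddCommGroup N] [Module A N] {P : Type*} [AddCommGroup P] [Module A P]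
    (hP : S ≤ unitSub (A := A) P) {j k : LocalizedModule S N →ₗ[A] P}
    (h : ∀ x : N, j (LocalizedModule.mk x 1) = k (LocalizedModule.mk x 1)) : j = k :=
  IsLocalizedModule.ext S (LocalizedModule.mkLinearMap S N) (fun s => hP s.2) (LinearMap.ext h)

/-- the map `N_S → P` induced by `N → P` when `S` acts bijectively on `P`. -/
noncomputable def locLift {N : Type u} [AddCommGroup N] [Module A N] {P : Type*} [AddCommGroup P]
    [Module A P] (hP : S ≤ unitSub (A := A) P) (g : N →ₗ[A] P) : LocalizedModule S N →ₗ[A] P :=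
  IsLocalizedModule.lift S (LocalizedModule.mkLinearMap S N) g (fun s => hP s.2)

lemma locLift_mk {N : Type u} [AddCommGroup N] [Module A N] {P : Type*} [AddCommGroup P]
    [Module A P] (hP : S ≤ unitSub (A := A) P) (g : N →ₗ[A] P) (x : N) :
    locLift hP g (LocalizedModule.mk x 1) = g x :=
  IsLocalizedModule.lift_apply S (LocalizedModule.mkLinearMap S N) g (fun s => hP s.2) x

/-- the canonical map between localisations. -/
noncomputable def locLe (h : S ≤ S') (N : Type u) [AddCommGroup N] [Module A N] :
    LocalizedModule S N →ₗ[A] LocalizedModule S' N :=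
  locLift (le_unitSub_loc h N) (LocalizedModule.mkLinearMap S' N)

lemma locLe_mk (h : S ≤ S') (N : Type u) [AddCommGroup N] [Module A N] (x : N) :
    locLe h N (LocalizedModule.mk x 1) = LocalizedModule.mk x 1 :=
  locLift_mk _ _ x

lemma locLe_refl (N : Type u) [AddCommGroup N] [Module A N] :
    locLe (le_refl S) N = LinearMap.id :=
  loc_hom_ext (le_unitSub_loc le_rfl N) (fun x => locLe_mk _ N x)

lemma locLe_trans (h : S ≤ S') (h' : S' ≤ S'') (N : Type u) [AddCommGroup N] [Module A N] :
    (locLe h' N).comp (locLe h N) = locLe (h.trans h') N :=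
  loc_hom_ext (le_unitSub_loc (h.trans h') N) (fun x => by
    rw [LinearMap.comp_apply, locLe_mk, locLe_mk, locLe_mk])

lemma locLe_trans_apply (h : S ≤ S') (h' : S' ≤ S'') (N : Type u) [AddCommGroup N] [Module A N]
    (y : LocalizedModule S N) : locLe h' N (locLe h N y) = locLe (h.trans h') N y :=
  LinearMap.congr_fun (locLe_trans h h' N) y

/-- functoriality of localisation in the module. -/
noncomputable def locMap (S : Submonoid A) {N N' : Type u} [AddCommGroup N] [Module A N] [AddCommGroup N']
    [Module A N'] (g : N →ₗ[A] N') : LocalizedModule S N →ₗ[A] LocalizedModule S N' :=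
  IsLocalizedModule.map S (LocalizedModule.mkLinearMap S N) (LocalizedModule.mkLinearMap S N') g

lemma locMap_mk (S : Submonoid A) {N N' : Type u} [AddCommGroup N] [Module A N] [AddCommGroup N']
    [Module A N'] (g : N →ₗ[A] N') (x : N) :
    locMap S g (LocalizedModule.mk x 1) = LocalizedModule.mk (g x) 1 :=
  IsLocalizedModule.map_apply S (LocalizedModule.mkLinearMap S N) (LocalizedModule.mkLinearMap S N') g x

lemma locMap_id (S : Submonoid A) (N : Type u) [AddCommGroup N] [Module A N] :
    locMap S (LinearMap.id : N →ₗ[A] N) = LinearMap.id :=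
  loc_hom_ext (le_unitSub_loc le_rfl N) (fun x => by rw [locMap_mk]; rfl)

lemma locMap_comp (S : Submonoid A) {N N' N'' : Type u} [AddCommGroup N] [Module A N] [AddCommGroup N']
    [Module A N'] [AddCommGroup N''] [Module A N''] (g : N →ₗ[A] N') (g' : N' →ₗ[A] N'') :
    locMap S (g'.comp g) = (locMap S g').comp (locMap S g) :=
  loc_hom_ext (le_unitSub_loc le_rfl N'') (fun x => by
    rw [LinearMap.comp_apply, locMap_mk, locMap_mk, locMap_mk]; rfl)

lemma locMap_add (S : Submonoid A) {N N' : Type u} [AddCommGroup N] [Module A N] [AddCommGroup N']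
    [Module A N'] (g g' : N →ₗ[A] N') : locMap S (g + g') = locMap S g + locMap S g' :=
  map_add (IsLocalizedModule.map S (LocalizedModule.mkLinearMap S N)
    (LocalizedModule.mkLinearMap S N')) g g'

lemma locLe_locMap (h : S ≤ S') {N N' : Type u} [AddCommGroup N] [Module A N] [AddCommGroup N']
    [Module A N'] (g : N →ₗ[A] N') (y : LocalizedModule S N) :
    locLe h N' (locMap S g y) = locMap S' g (locLe h N y) := by
  have : (locLe h N').comp (locMap S g) = (locMap S' g).comp (locLe h N) :=
    loc_hom_ext (le_unitSub_loc h N') (fun x => by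
      rw [LinearMap.comp_apply, LinearMap.comp_apply, locMap_mk, locLe_mk, locLe_mk, locMap_mk])
  exact LinearMap.congr_fun this y

/-- the inverse of `locLe` when the elements of `S'` act bijectively on `N_S`. -/
noncomputable def locInv (N : Type u) [AddCommGroup N] [Module A N]
    (hS' : S' ≤ unitSub (A := A) (LocalizedModule S N)) :
    LocalizedModule S' N →ₗ[A] LocalizedModule S N :=
  locLift hS' (LocalizedModule.mkLinearMap S N)

lemma locInv_mk (N : Type u) [AddCommGroup N] [Module A N]
    (hS' : S' ≤ unitSub (A := A) (LocalizedModule S N)) (x : N) :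
    locInv N hS' (LocalizedModule.mk x 1) = LocalizedModule.mk x 1 :=
  locLift_mk _ _ x

lemma locInv_locLe (h : S ≤ S') (N : Type u) [AddCommGroup N] [Module A N]
    (hS' : S' ≤ unitSub (A := A) (LocalizedModule S N)) (y : LocalizedModule S N) :
    locInv N hS' (locLe h N y) = y := by
  have : (locInv N hS').comp (locLe h N) = LinearMap.id :=
    loc_hom_ext (le_unitSub_loc le_rfl N) (fun x => by
      rw [LinearMap.comp_apply, locLe_mk, locInv_mk]; rfl)
  exact LinearMap.congr_fun this y

lemma locLe_locInv (h : S ≤ S') (N : Type u) [AddCommGroup N] [Module A N]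
    (hS' : S' ≤ unitSub (A := A) (LocalizedModule S N)) (y : LocalizedModule S' N) :
    locLe h N (locInv N hS' y) = y := by
  have : (locLe h N).comp (locInv N hS') = LinearMap.id :=
    loc_hom_ext (le_unitSub_loc le_rfl N) (fun x => by
      rw [LinearMap.comp_apply, locInv_mk, locLe_mk]; rfl)
  exact LinearMap.congr_fun this y

/-- an element acting bijectively on `N` acts bijectively on every localisation of `N`. -/
lemma mem_unitSub_loc {N : Type u} [AddCommGroup N] [Module A N] (a : A)
    (ha : a ∈ unitSub (A := A) N) (S : Submonoid A) : a ∈ unitSub (A := A) (LocalizedModule S N) := by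
  rw [mem_unitSub] at ha ⊢
  obtain ⟨u, hu⟩ := ha
  refine ⟨⟨locMap S u.1, locMap S u.2, ?_, ?_⟩, ?_⟩
  · change (locMap S u.1).comp (locMap S u.2) = LinearMap.id
    rw [← locMap_comp]
    have : (u.1 : Module.End A N).comp u.2 = LinearMap.id := u.mul_inv
    rw [this, locMap_id]
  · change (locMap S u.2).comp (locMap S u.1) = LinearMap.id
    rw [← locMap_comp]
    have : (u.2 : Module.End A N).comp u.1 = LinearMap.id := u.inv_mul
    rw [this, locMap_id]
  · refine loc_hom_ext (le_unitSub_loc le_rfl N) (fun x => ?_)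
    change locMap S (u : Module.End A N) (LocalizedModule.mk x 1) = a • LocalizedModule.mk x 1
    rw [locMap_mk, hu, Module.algebraMap_end_apply, LocalizedModule.smul'_mk]

end Loc


section Cech

lemma alt_sum_eq_zero {G : Type*} [AddCommGroup G] (n : ℕ) (F : Fin (n + 1) → Fin (n + 2) → G)
    (hF : ∀ i j : Fin (n + 1), i ≤ j → F i j.succ = F j i.castSucc) :
    ∑ i : Fin (n + 1), ∑ j : Fin (n + 2), ((-1 : ℤ) ^ (i : ℕ) * (-1 : ℤ) ^ (j : ℕ)) • F i j = 0 := by
  rw [← Finset.sum_product']
  let P := Fin (n + 1) × Fin (n + 2)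
  let S : Finset P := {ij : P | (ij.2 : ℕ) ≤ (ij.1 : ℕ)}
  rw [Finset.univ_product_univ, ← Finset.sum_add_sum_compl S, ← eq_neg_iff_add_eq_zero,
    ← Finset.sum_neg_distrib]
  let φ : ∀ ij : P, ij ∈ S → P := fun ij hij =>
    (Fin.castLT ij.2 (lt_of_le_of_lt (Finset.mem_filter.mp hij).right (Fin.is_lt ij.1)), ij.1.succ)
  apply Finset.sum_bij φ
  · intro ij hij
    simp_rw [S, φ, Finset.compl_filter, Finset.mem_filter_univ, Fin.val_succ,
      Fin.val_castLT] at hij ⊢
    omega
  · rintro ⟨i, j⟩ hij ⟨i', j'⟩ hij' h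
    rw [Prod.mk_inj]
    exact ⟨by simpa [φ] using congr_arg Prod.snd h,
      by simpa [φ, Fin.castSucc_castLT] using congr_arg Fin.castSucc (congr_arg Prod.fst h)⟩
  · rintro ⟨i', j'⟩ hij'
    simp_rw [S, Finset.compl_filter, Finset.mem_filter_univ, not_le] at hij'
    refine ⟨(j'.pred <| ?_, Fin.castSucc i'), ?_, ?_⟩
    · rintro rfl
      simp only [Fin.val_zero, not_lt_zero] at hij'
    · simpa [S] using Nat.le_sub_one_of_lt hij'
    · simp only [φ, Fin.castLT_castSucc, Fin.succ_pred]
  · rintro ⟨i, j⟩ hij
    have hji : (j : ℕ) ≤ i := by simpa [S] using hij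
    dsimp only [φ]
    have e : F (Fin.castLT j (lt_of_le_of_lt hji (Fin.is_lt i))) i.succ = F i j := by
      rw [hF _ i (by rw [Fin.le_def]; exact hji)]
      congr 1
    rw [e, ← neg_smul]
    congr 1
    simp only [Fin.val_succ, Fin.val_castLT, pow_succ]
    ring

lemma succAbove_comm {n : ℕ} (i j : Fin (n + 1)) (h : i ≤ j) (a : Fin n) :
    j.succ.succAbove (i.succAbove a) = i.castSucc.succAbove (j.succAbove a) := by
  rw [Fin.le_def] at h
  ext
  simp only [Fin.succAbove, Fin.lt_def, Fin.val_castSucc, Fin.val_succ]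
  split_ifs <;> simp_all <;> omega

variable {I : Type u} (f : I → A)

/-- the submonoid generated by the values of `f` on a tuple. -/
def Sub {n : ℕ} (x : Fin n → I) : Submonoid A := Submonoid.closure (Set.range (f ∘ x))

lemma Sub_comp_le {n m : ℕ} (x : Fin n → I) (σ : Fin m → Fin n) : Sub f (x ∘ σ) ≤ Sub f x :=
  Submonoid.closure_mono (by rintro _ ⟨k, rfl⟩; exact ⟨σ k, rfl⟩)

lemma mem_Sub {n : ℕ} (x : Fin n → I) (k : Fin n) : f (x k) ∈ Sub f x :=
  Submonoid.subset_closure ⟨k, rfl⟩

variable (N : Type u) [AddCommGroup N] [Module A N]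

/-- the terms of the augmented Čech complex. -/
abbrev CXt (n : ℕ) : Type u := ∀ x : Fin n → I, LocalizedModule (Sub f x) N

variable {N} in
lemma locLe_congr {n : ℕ} {x x' : Fin n → I} (e : x = x') {S' : Submonoid A} (h : Sub f x ≤ S')
    (h' : Sub f x' ≤ S') (c : CXt f N n) : locLe h N (c x) = locLe h' N (c x') := by
  subst e; rfl

/-- the coface maps. -/
noncomputable def δ (n : ℕ) (k : Fin (n + 1)) : CXt f N n →ₗ[A] CXt f N (n + 1) :=
  LinearMap.pi fun x => (locLe (Sub_comp_le f x k.succAbove) N).comp (LinearMap.proj (x ∘ k.succAbove))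

lemma δ_apply (n : ℕ) (k : Fin (n + 1)) (c : CXt f N n) (x : Fin (n + 1) → I) :
    δ f N n k c x = locLe (Sub_comp_le f x k.succAbove) N (c (x ∘ k.succAbove)) := rfl

lemma δ_comp_δ (n : ℕ) (i j : Fin (n + 1)) (h : i ≤ j) :
    (δ f N (n + 1) j.succ).comp (δ f N n i) = (δ f N (n + 1) i.castSucc).comp (δ f N n j) := by
  ext c x
  rw [LinearMap.comp_apply, LinearMap.comp_apply, δ_apply, δ_apply, δ_apply, δ_apply,
    locLe_trans_apply, locLe_trans_apply]
  apply locLe_congr
  funext a
  exact congrArg x (succAbove_comm i j h a)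

/-- the terms, as objects of `ModuleCat`. -/
abbrev CX (n : ℕ) : ModuleCat.{u} A := ModuleCat.of A (CXt f N n)

/-- the cofaces, as morphisms of `ModuleCat`. -/
noncomputable abbrev δm (n : ℕ) (k : Fin (n + 1)) : CX f N n ⟶ CX f N (n + 1) :=
  ModuleCat.ofHom (δ f N n k)

/-- the differential: the alternating sum of the cofaces. -/
noncomputable def dC (n : ℕ) : CX f N n ⟶ CX f N (n + 1) :=
  ∑ k : Fin (n + 1), ((-1 : ℤ) ^ (k : ℕ)) • δm f N n k

theorem dC_comp_dC (n : ℕ) : dC f N n ≫ dC f N (n + 1) = 0 := by
  have key := alt_sum_eq_zero n (fun i j => δm f N n i ≫ δm f N (n + 1) j)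
    (fun i j h => by
      apply ModuleCat.hom_ext
      exact δ_comp_δ f N n i j h)
  unfold dC
  simp only [Preadditive.sum_comp, Preadditive.comp_sum, Preadditive.zsmul_comp,
    Preadditive.comp_zsmul, Finset.smul_sum, smul_smul]
  rw [Finset.sum_comm]
  refine Eq.trans (Finset.sum_congr rfl fun i _ => Finset.sum_congr rfl fun j _ => ?_) key
  rw [mul_comm]

end Cech

end Groth.Agent.Lib.Helper21.AC
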