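import Groth.Agent.Lib.Helper21AC1

/-!
# The algebraic augmented Čech complex: functoriality and acyclicity (helper21)

* `cechAug f N : CochainComplex (ModuleCat A) ℕ`, `cechAugFunctor f` (additive).
* `exactAt_cechAug`: if some `f j` acts bijectively on `N`, the augmented Čech complex of `N` is exact.
-/

set_option autoImplicit false

namespace Groth.Agent.Lib.Helper21.AC

open CategoryTheory CategoryTheory.Limits

universe u

variable {A : Type u} [CommRing A] {I : Type u} (f : I → A)

section Complex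

variable (N : Type u) [AddCommGroup N] [Module A N]

/-- the augmented full Čech complex of `N` with respect to the family `f`: in degree `n` the product over
`x : Fin n → I` of the localisations of `N` at the submonoid generated by the `f (x k)`. -/
noncomputable def cechAug : CochainComplex (ModuleCat.{u} A) ℕ :=
  CochainComplex.of (CX f N) (dC f N) (dC_comp_dC f N)

lemma cechAug_X (n : ℕ) : (cechAug f N).X n = CX f N n := rfl

lemma cechAug_d (n : ℕ) : (cechAug f N).d n (n + 1) = dC f N n := by
  unfold cechAug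
  exact CochainComplex.of_d _ _ n

variable {N}

lemma dC_apply (n : ℕ) (c : CXt f N n) :
    (dC f N n).hom c = ∑ k : Fin (n + 1), ((-1 : ℤ) ^ (k : ℕ)) • δ f N n k c := by
  unfold dC
  rw [ModuleCat.hom_sum, LinearMap.sum_apply]
  rfl

end Complex

section Functor

variable {N N' N'' : Type u} [AddCommGroup N] [Module A N] [AddCommGroup N'] [Module A N']
  [AddCommGroup N''] [Module A N'']

/-- functoriality of the terms. -/
noncomputable def mapX (g : N →ₗ[A] N') (n : ℕ) : CXt f N n →ₗ[A] CXt f N' n :=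
  LinearMap.pi fun x => (locMap (Sub f x) g).comp (LinearMap.proj x)

lemma mapX_apply (g : N →ₗ[A] N') (n : ℕ) (c : CXt f N n) (x : Fin n → I) :
    mapX f g n c x = locMap (Sub f x) g (c x) := rfl

lemma mapX_id (n : ℕ) : mapX f (LinearMap.id : N →ₗ[A] N) n = LinearMap.id := by
  ext c x
  rw [mapX_apply, locMap_id]
  rfl

lemma mapX_comp (g : N →ₗ[A] N') (g' : N' →ₗ[A] N'') (n : ℕ) :
    mapX f (g'.comp g) n = (mapX f g' n).comp (mapX f g n) := by
  ext c x
  rw [mapX_apply, locMap_comp]
  rfl

lemma mapX_add (g g' : N →ₗ[A] N') (n : ℕ) : mapX f (g + g') n = mapX f g n + mapX f g' n := by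
  ext c x
  rw [mapX_apply, locMap_add]
  rfl

lemma mapX_δ (g : N →ₗ[A] N') (n : ℕ) (k : Fin (n + 1)) (c : CXt f N n) :
    mapX f g (n + 1) (δ f N n k c) = δ f N' n k (mapX f g n c) := by
  funext x
  rw [mapX_apply, δ_apply, δ_apply, mapX_apply, locLe_locMap]

lemma mapX_dC (g : N →ₗ[A] N') (n : ℕ) :
    ModuleCat.ofHom (mapX f g n) ≫ dC f N' n = dC f N n ≫ ModuleCat.ofHom (mapX f g (n + 1)) := by
  unfold dC
  rw [Preadditive.comp_sum, Preadditive.sum_comp]
  refine Finset.sum_congr rfl (fun k _ => ?_)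
  rw [Preadditive.comp_zsmul, Preadditive.zsmul_comp]
  congr 1
  apply ModuleCat.hom_ext
  ext c : 1
  exact (mapX_δ f g n k c).symm

/-- functoriality of the augmented Čech complex. -/
noncomputable def cechAugMap (g : N →ₗ[A] N') : cechAug f N ⟶ cechAug f N' :=
  CochainComplex.ofHom (X := cechAug f N) (Y := cechAug f N') (fun n => ModuleCat.ofHom (mapX f g n))
    (fun n => by rw [cechAug_d, cechAug_d]; exact mapX_dC f g n)

lemma cechAugMap_f (g : N →ₗ[A] N') (n : ℕ) :
    (cechAugMap f g).f n = ModuleCat.ofHom (mapX f g n) := rfl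

end Functor

/-- the augmented Čech complex functor. -/
noncomputable def cechAugFunctor : ModuleCat.{u} A ⥤ CochainComplex (ModuleCat.{u} A) ℕ where
  obj N := cechAug f N
  map g := cechAugMap f g.hom
  map_id N := by
    ext n : 1
    rw [cechAugMap_f]
    apply ModuleCat.hom_ext
    exact mapX_id f n
  map_comp g g' := by
    ext n : 1
    rw [HomologicalComplex.comp_f, cechAugMap_f, cechAugMap_f, cechAugMap_f]
    apply ModuleCat.hom_ext
    exact mapX_comp f g.hom g'.hom n

instance : (cechAugFunctor f).Additive where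
  map_add {N N' g g'} := by
    ext n : 1
    change (cechAugMap f (g + g').hom).f n = (cechAugMap f g.hom).f n + (cechAugMap f g'.hom).f n
    rw [cechAugMap_f, cechAugMap_f, cechAugMap_f]
    apply ModuleCat.hom_ext
    exact mapX_add f g.hom g'.hom n


section Contraction

variable {N : Type u} [AddCommGroup N] [Module A N]

/-- canonical maps out of the localisations attached to equal tuples agree. -/
lemma canon_congr {n : ℕ} {x x' : Fin n → I} (e : x = x') {S' : Submonoid A}
    (φ : LocalizedModule (Sub f x) N →ₗ[A] LocalizedModule S' N)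
    (φ' : LocalizedModule (Sub f x') N →ₗ[A] LocalizedModule S' N)
    (hφ : ∀ z : N, φ (LocalizedModule.mk z 1) = LocalizedModule.mk z 1)
    (hφ' : ∀ z : N, φ' (LocalizedModule.mk z 1) = LocalizedModule.mk z 1)
    (hS : Sub f x ≤ unitSub (A := A) (LocalizedModule S' N)) (c : CXt f N n) :
    φ (c x) = φ' (c x') := by
  subst e
  have : φ = φ' := loc_hom_ext hS (fun z => (hφ z).trans (hφ' z).symm)
  rw [this]

variable (j : I)

lemma Sub_le_cons {n : ℕ} (x : Fin n → I) : Sub f x ≤ Sub f (Fin.cons j x : Fin (n + 1) → I) :=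
  Submonoid.closure_mono (by
    rintro _ ⟨k, rfl⟩
    exact ⟨k.succ, by simp⟩)

lemma cons_comp_succAbove_zero {n : ℕ} (x : Fin n → I) :
    (Fin.cons j x : Fin (n + 1) → I) ∘ (0 : Fin (n + 1)).succAbove = x := by
  funext a
  simp [Fin.succAbove_zero]

lemma cons_comp_succAbove_succ {n : ℕ} (x : Fin (n + 1) → I) (k : Fin (n + 1)) :
    (Fin.cons j x : Fin (n + 2) → I) ∘ k.succ.succAbove =
      (Fin.cons j (x ∘ k.succAbove) : Fin (n + 1) → I) := by
  funext a
  refine Fin.cases ?_ (fun a' => ?_) a
  · simp [Fin.succ_succAbove_zero]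
  · simp [Fin.succ_succAbove_succ]

variable (hj : f j ∈ unitSub (A := A) N)

include hj in
lemma Sub_cons_le_unitSub {n : ℕ} (x : Fin n → I) :
    Sub f (Fin.cons j x : Fin (n + 1) → I) ≤ unitSub (A := A) (LocalizedModule (Sub f x) N) := by
  refine Submonoid.closure_le.2 ?_
  rintro _ ⟨k, rfl⟩
  refine Fin.cases ?_ (fun k' => ?_) k
  · simp only [Function.comp_apply, Fin.cons_zero]
    exact mem_unitSub_loc _ hj _
  · simp only [Function.comp_apply, Fin.cons_succ]
    exact le_unitSub_loc le_rfl N (mem_Sub f x k')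

/-- the contraction of the augmented Čech complex when `f j` acts bijectively on `N`. -/
noncomputable def hC (n : ℕ) : CXt f N (n + 1) →ₗ[A] CXt f N n :=
  LinearMap.pi fun x =>
    (locInv N (Sub_cons_le_unitSub f j hj x)).comp (LinearMap.proj (Fin.cons j x : Fin (n + 1) → I))

lemma hC_apply (n : ℕ) (c : CXt f N (n + 1)) (x : Fin n → I) :
    hC f j hj n c x = locInv N (Sub_cons_le_unitSub f j hj x) (c (Fin.cons j x)) := rfl

lemma hC_δ_zero (n : ℕ) (c : CXt f N n) : hC f j hj n (δ f N n 0 c) = c := by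
  funext x
  rw [hC_apply, δ_apply]
  exact canon_congr f (cons_comp_succAbove_zero j x)
    ((locInv N (Sub_cons_le_unitSub f j hj x)).comp (locLe (Sub_comp_le f _ _) N)) LinearMap.id
    (fun z => by rw [LinearMap.comp_apply, locLe_mk, locInv_mk]) (fun z => rfl)
    ((Sub_comp_le f _ _).trans (Sub_cons_le_unitSub f j hj x)) c

lemma hC_δ_succ (n : ℕ) (k : Fin (n + 1)) (c : CXt f N (n + 1)) :
    hC f j hj (n + 1) (δ f N (n + 1) k.succ c) = δ f N n k (hC f j hj n c) := by
  funext x
  rw [hC_apply, δ_apply, δ_apply, hC_apply]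
  exact canon_congr f (cons_comp_succAbove_succ j x k)
    ((locInv N (Sub_cons_le_unitSub f j hj x)).comp (locLe (Sub_comp_le f _ _) N))
    ((locLe (Sub_comp_le f x k.succAbove) N).comp
      (locInv N (Sub_cons_le_unitSub f j hj (x ∘ k.succAbove))))
    (fun z => by rw [LinearMap.comp_apply, locLe_mk, locInv_mk])
    (fun z => by rw [LinearMap.comp_apply, locInv_mk, locLe_mk])
    ((Sub_comp_le f _ _).trans (Sub_cons_le_unitSub f j hj x)) c

/-- the contraction, as a morphism. -/
noncomputable abbrev hm (n : ℕ) : CX f N (n + 1) ⟶ CX f N n := ModuleCat.ofHom (hC f j hj n)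

lemma δm_zero_hm (n : ℕ) : δm f N n 0 ≫ hm f j hj n = 𝟙 _ := by
  apply ModuleCat.hom_ext
  ext c : 1
  exact hC_δ_zero f j hj n c

lemma δm_succ_hm (n : ℕ) (k : Fin (n + 1)) :
    δm f N (n + 1) k.succ ≫ hm f j hj (n + 1) = hm f j hj n ≫ δm f N n k := by
  apply ModuleCat.hom_ext
  ext c : 1
  exact hC_δ_succ f j hj n k c

lemma dC_hm_zero : dC f N 0 ≫ hm f j hj 0 = 𝟙 _ := by
  unfold dC
  rw [Fin.sum_univ_succ, Fin.sum_univ_zero, add_zero, Fin.val_zero, pow_zero, one_smul]
  exact δm_zero_hm f j hj 0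

lemma dC_hm_succ (n : ℕ) :
    dC f N (n + 1) ≫ hm f j hj (n + 1) + hm f j hj n ≫ dC f N n = 𝟙 _ := by
  unfold dC
  rw [Fin.sum_univ_succ, Preadditive.add_comp, Fin.val_zero, pow_zero, one_smul, δm_zero_hm,
    Preadditive.sum_comp, Preadditive.comp_sum, add_assoc, ← Finset.sum_add_distrib]
  rw [Finset.sum_eq_zero, add_zero]
  intro k _
  rw [Preadditive.zsmul_comp, Preadditive.comp_zsmul, δm_succ_hm, Fin.val_succ, pow_succ, mul_neg_one,
    neg_smul, neg_add_cancel]

include hj in
/-- if `f j` acts bijectively on `N`, the augmented Čech complex of `N` is exact. -/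
theorem exactAt_cechAug (n : ℕ) : (cechAug f N).ExactAt n := by
  cases n with
  | zero =>
    rw [HomologicalComplex.exactAt_iff' _ 0 0 1 (by simp) (by simp),
      ShortComplex.moduleCat_exact_iff]
    intro c hc
    refine ⟨0, ?_⟩
    rw [map_zero]
    have h1 := congrArg (fun t => t.hom c) (dC_hm_zero f j hj)
    change (hC f j hj 0) ((dC f N 0).hom c) = c at h1
    have h2 : (dC f N 0).hom c = 0 := by
      rw [← cechAug_d]
      exact hc
    rw [h2, map_zero] at h1
    exact h1
  | succ n =>
    rw [HomologicalComplex.exactAt_iff' _ n (n + 1) (n + 2) (by simp) (by simp),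
      ShortComplex.moduleCat_exact_iff]
    intro c hc
    have h1 := congrArg (fun t => t.hom c) (dC_hm_succ f j hj n)
    change (hC f j hj (n + 1)) ((dC f N (n + 1)).hom c) + (dC f N n).hom ((hC f j hj n) c) = c at h1
    have h2 : (dC f N (n + 1)).hom c = 0 := by
      rw [← cechAug_d]
      exact hc
    rw [h2, map_zero, zero_add] at h1
    refine ⟨hC f j hj n c, ?_⟩
    have h3 := congrArg (fun t : (CX f N n ⟶ CX f N (n + 1)) => t.hom (hC f j hj n c))
      (cechAug_d f N n)
    exact h3.trans h1

end Contraction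

end Groth.Agent.Lib.Helper21.AC
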