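import Groth.Agent.Lib.Helper21AC2

/-!
# The terms of the algebraic augmented Čech complex as exact functors (helper21)

* `Ψ f n = cechAugFunctor f ⋙ eval n` preserves homology (`preservesHomology_Ψ`).
* `isZero_Ψ_of_pt`: in positive degrees it kills modules which are `f i`-power torsion for all `i`.
* `exactAt_map_of_pt`: applied termwise to a complex with power-torsion cohomology it gives an exact complex.
* `Ψ0Iso : Ψ f 0 ≅ 𝟭`.
-/

set_option autoImplicit false

namespace Groth.Agent.Lib.Helper21.AC

open CategoryTheory CategoryTheory.Limits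

universe u

variable {A : Type u} [CommRing A] {I : Type u} (f : I → A)

/-- the degree `n` term of the augmented Čech complex, as a functor. -/
noncomputable def Ψ (n : ℕ) : ModuleCat.{u} A ⥤ ModuleCat.{u} A :=
  cechAugFunctor f ⋙ HomologicalComplex.eval (ModuleCat.{u} A) (ComplexShape.up ℕ) n

instance (n : ℕ) : (Ψ f n).Additive := by
  unfold Ψ
  infer_instance

lemma Ψ_obj (n : ℕ) (N : ModuleCat.{u} A) : (Ψ f n).obj N = CX f N n := rfl

lemma Ψ_map_apply (n : ℕ) {N N' : ModuleCat.{u} A} (g : N ⟶ N') (c : CXt f N n) (x : Fin n → I) :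
    ((Ψ f n).map g).hom c x = locMap (Sub f x) g.hom (c x) := rfl

instance preservesHomology_Ψ (n : ℕ) : (Ψ f n).PreservesHomology := by
  refine ((Functor.exact_tfae (Ψ f n)).out 1 2).1 ?_
  intro Sc hSc
  rw [ShortComplex.ShortExact.moduleCat_exact_iff_function_exact] at hSc ⊢
  intro c
  constructor
  · intro hc
    have hx : ∀ x : Fin n → I, ∃ b : LocalizedModule (Sub f x) Sc.X₁,
        locMap (Sub f x) Sc.f.hom b = c x := by
      intro x
      have hex := IsLocalizedModule.map_exact (Sub f x)
        (LocalizedModule.mkLinearMap (Sub f x) Sc.X₁)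
        (LocalizedModule.mkLinearMap (Sub f x) Sc.X₂)
        (LocalizedModule.mkLinearMap (Sub f x) Sc.X₃) _ _ hSc
      exact (hex (c x)).1 (congrFun hc x)
    choose b hb using hx
    exact ⟨b, funext hb⟩
  · rintro ⟨b, rfl⟩
    funext x
    have hex := IsLocalizedModule.map_exact (Sub f x)
      (LocalizedModule.mkLinearMap (Sub f x) Sc.X₁)
      (LocalizedModule.mkLinearMap (Sub f x) Sc.X₂)
      (LocalizedModule.mkLinearMap (Sub f x) Sc.X₃) _ _ hSc
    exact (hex _).2 ⟨b x, rfl⟩

/-- in positive degrees, the terms kill modules which are `f i`-power torsion for all `i`. -/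
lemma isZero_Ψ_of_pt (n : ℕ) (H : ModuleCat.{u} A)
    (hH : ∀ (i : I) (y : H), ∃ m : ℕ, f i ^ m • y = 0) : IsZero ((Ψ f (n + 1)).obj H) := by
  haveI : ∀ x : Fin (n + 1) → I, Subsingleton (LocalizedModule (Sub f x) H) := by
    intro x
    refine ⟨fun a b => ?_⟩
    have hz : ∀ w : LocalizedModule (Sub f x) H, w = 0 := by
      intro w
      induction w using LocalizedModule.induction_on with
      | h y s =>
        obtain ⟨m, hm⟩ := hH (x 0) y
        rw [← LocalizedModule.zero_mk (1 : Sub f x)]
        refine LocalizedModule.mk_eq.mpr ⟨⟨f (x 0) ^ m, pow_mem (mem_Sub f x 0) m⟩, ?_⟩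
        simp only [one_smul, smul_zero, Submonoid.smul_def]
        exact hm
    rw [hz a, hz b]
  haveI : Subsingleton (CXt f H (n + 1)) := inferInstance
  exact ModuleCat.isZero_of_subsingleton (CX f H (n + 1))

/-- applied termwise to a complex with power torsion cohomology, the positive degree terms of the
augmented Čech complex give an exact complex. -/
theorem exactAt_map_of_pt (K : CochainComplex (ModuleCat.{u} A) ℤ)
    (hK : ∀ (i : I) (q : ℤ) (y : K.homology q), ∃ m : ℕ, f i ^ m • y = 0) (n : ℕ) (q : ℤ) :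
    (((Ψ f (n + 1)).mapHomologicalComplex (ComplexShape.up ℤ)).obj K).ExactAt q := by
  rw [HomologicalComplex.exactAt_iff_isZero_homology]
  have e : (((Ψ f (n + 1)).mapHomologicalComplex (ComplexShape.up ℤ)).obj K).homology q ≅
      (Ψ f (n + 1)).obj (K.homology q) := (K.sc q).mapHomologyIso (Ψ f (n + 1))
  exact (isZero_Ψ_of_pt f n _ (hK · q)).of_iso e

end Groth.Agent.Lib.Helper21.AC
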