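import Mathlib
import Groth.Agent.Lib.Helper16CechLow

/-!
# Exactness of the Amitsur complex in Cech conerve form (helper21)

For `R → A` faithfully flat, the alternating coface complex of the Cech conerve of `R → A` in `CommRingCat`
is exact in positive degrees: ring maps `φ n : Y_{n+1} ⟶ A ⊗_R Y_n` (from the universal property of wide
pushouts) give a contraction `sL` of `A ⊗_R K` in positive degrees (`homotopy_identity`), and faithful flatness
reflects exactness (`exact_dL`, `exactAt_succ`).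
-/

set_option autoImplicit false
universe u
open CategoryTheory CategoryTheory.Limits TensorProduct Simplicial

namespace Groth.Agent.Lib.Helper21.AmitsurCo

noncomputable section

variable (R A : Type u) [CommRing R] [CommRing A] [Algebra R A]

/-- the arrow `R ⟶ A` in `CommRingCat` -/
abbrev fArr : Arrow CommRingCat.{u} := Arrow.mk (CommRingCat.ofHom (algebraMap R A))

/-- the Cech conerve -/
abbrev YC : CosimplicialObject CommRingCat.{u} := (fArr R A).cechConerve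

/-- the terms of the Cech conerve -/
abbrev Yn (n : ℕ) : CommRingCat.{u} := (YC R A).obj ⦋n⦌

/-- structure map -/
def hd (n : ℕ) : CommRingCat.of R ⟶ Yn R A n :=
  WidePushout.head (fun _ : Fin (n + 1) => (fArr R A).hom)

/-- the inclusions of the factors -/
def inc (n : ℕ) (k : Fin (n + 1)) : CommRingCat.of A ⟶ Yn R A n :=
  WidePushout.ι (fun _ : Fin (n + 1) => (fArr R A).hom) k

lemma f_inc (n : ℕ) (k : Fin (n + 1)) :
    CommRingCat.ofHom (algebraMap R A) ≫ inc R A n k = hd R A n :=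
  WidePushout.arrow_ι (fun _ : Fin (n + 1) => (fArr R A).hom) k

lemma hd_δ (n : ℕ) (i : Fin (n + 2)) : hd R A n ≫ (YC R A).δ i = hd R A (n + 1) :=
  WidePushout.head_desc _ _ _ _

lemma inc_δ (n : ℕ) (i : Fin (n + 2)) (k : Fin (n + 1)) :
    inc R A n k ≫ (YC R A).δ i = inc R A (n + 1) (Fin.succAbove i k) :=
  WidePushout.ι_desc _ _ _ _ _

lemma Yn_hom_ext {n : ℕ} {T : CommRingCat.{u}} (g1 g2 : Yn R A n ⟶ T)
    (h1 : ∀ k, inc R A n k ≫ g1 = inc R A n k ≫ g2) (h2 : hd R A n ≫ g1 = hd R A n ≫ g2) :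
    g1 = g2 :=
  WidePushout.hom_ext _ g1 g2 h1 h2

instance algY (n : ℕ) : Algebra R (Yn R A n) := (hd R A n).hom.toAlgebra

lemma algebraMap_Yn (n : ℕ) (r : R) : algebraMap R (Yn R A n) r = (hd R A n).hom r := rfl

/-- the coface maps as algebra homs -/
def δA (n : ℕ) (i : Fin (n + 2)) : Yn R A n →ₐ[R] Yn R A (n + 1) :=
  { ((YC R A).δ i).hom with
    commutes' := fun r => by
      change ((YC R A).δ i).hom ((hd R A n).hom r) = (hd R A (n + 1)).hom r
      rw [← hd_δ R A n i]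
      rfl }

lemma δA_apply (n : ℕ) (i : Fin (n + 2)) (y : Yn R A n) : δA R A n i y = ((YC R A).δ i).hom y := rfl

/-- the alternating sum differential -/
def dL (n : ℕ) : Yn R A n →ₗ[R] Yn R A (n + 1) :=
  ∑ i : Fin (n + 2), (-1 : ℤ) ^ (i : ℕ) • (δA R A n i).toLinearMap

/-- `A ⊗_R Y_n` as a commutative ring -/
abbrev TY (n : ℕ) : CommRingCat.{u} := CommRingCat.of (A ⊗[R] Yn R A n)

/-- `a ↦ a ⊗ 1` -/
abbrev incL (n : ℕ) : CommRingCat.of A ⟶ TY R A n :=
  CommRingCat.ofHom (Algebra.TensorProduct.includeLeft : A →ₐ[R] A ⊗[R] Yn R A n).toRingHom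

/-- `y ↦ 1 ⊗ y` -/
abbrev incR (n : ℕ) : Yn R A n ⟶ TY R A n :=
  CommRingCat.ofHom (Algebra.TensorProduct.includeRight : Yn R A n →ₐ[R] A ⊗[R] Yn R A n).toRingHom

/-- the components of the twisted extra codegeneracy -/
def φfs (n : ℕ) (k : Fin (n + 2)) : CommRingCat.of A ⟶ TY R A n :=
  Fin.cases (incL R A n) (fun k' => inc R A n k' ≫ incR R A n) k

lemma φfs_zero (n : ℕ) : φfs R A n 0 = incL R A n := rfl

lemma φfs_succ (n : ℕ) (k : Fin (n + 1)) : φfs R A n k.succ = inc R A n k ≫ incR R A n := by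
  simp [φfs]

lemma hd_incR (n : ℕ) :
    hd R A n ≫ incR R A n = CommRingCat.ofHom (algebraMap R (A ⊗[R] Yn R A n)) := by
  ext r
  exact (Algebra.TensorProduct.includeRight : Yn R A n →ₐ[R] A ⊗[R] Yn R A n).commutes r

lemma f_incL (n : ℕ) :
    CommRingCat.ofHom (algebraMap R A) ≫ incL R A n =
      CommRingCat.ofHom (algebraMap R (A ⊗[R] Yn R A n)) := by
  ext r
  exact (Algebra.TensorProduct.includeLeft : A →ₐ[R] A ⊗[R] Yn R A n).commutes r

lemma f_φfs (n : ℕ) (k : Fin (n + 2)) :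
    (fArr R A).hom ≫ φfs R A n k = CommRingCat.ofHom (algebraMap R (A ⊗[R] Yn R A n)) := by
  refine Fin.cases ?_ (fun k' => ?_) k
  · exact f_incL R A n
  · rw [φfs_succ]
    have := f_inc R A n k'
    change CommRingCat.ofHom (algebraMap R A) ≫ inc R A n k' ≫ incR R A n = _
    rw [← Category.assoc, this, hd_incR]

/-- the twisted extra codegeneracy `Y_{n+1} ⟶ A ⊗_R Y_n` -/
def φ (n : ℕ) : Yn R A (n + 1) ⟶ TY R A n :=
  WidePushout.desc (CommRingCat.ofHom (algebraMap R (A ⊗[R] Yn R A n))) (φfs R A n) (f_φfs R A n)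

lemma inc_φ (n : ℕ) (k : Fin (n + 2)) : inc R A (n + 1) k ≫ φ R A n = φfs R A n k :=
  WidePushout.ι_desc _ _ _ _ _

lemma hd_φ (n : ℕ) :
    hd R A (n + 1) ≫ φ R A n = CommRingCat.ofHom (algebraMap R (A ⊗[R] Yn R A n)) :=
  WidePushout.head_desc _ _ _ _

/-- `φ` as an algebra hom -/
def φA (n : ℕ) : Yn R A (n + 1) →ₐ[R] A ⊗[R] Yn R A n :=
  { (φ R A n).hom with
    commutes' := fun r => by
      change (φ R A n).hom ((hd R A (n + 1)).hom r) = algebraMap R (A ⊗[R] Yn R A n) r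
      have := hd_φ R A n
      exact ConcreteCategory.congr_hom this r }

lemma φA_apply (n : ℕ) (y : Yn R A (n + 1)) : φA R A n y = (φ R A n).hom y := rfl

/-- `id ⊗ δ_i` as a morphism of commutative rings -/
abbrev mapδ (n : ℕ) (i : Fin (n + 2)) : TY R A n ⟶ TY R A (n + 1) :=
  CommRingCat.ofHom (Algebra.TensorProduct.map (AlgHom.id R A) (δA R A n i)).toRingHom

lemma δ_zero_φ (n : ℕ) : (YC R A).δ 0 ≫ φ R A n = incR R A n := by
  apply Yn_hom_ext
  · intro k
    rw [← Category.assoc, inc_δ, inc_φ, Fin.succAbove_zero, φfs_succ]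
  · rw [← Category.assoc, hd_δ, hd_φ, hd_incR]

lemma incL_mapδ (n : ℕ) (i : Fin (n + 2)) : incL R A n ≫ mapδ R A n i = incL R A (n + 1) := by
  ext a
  change Algebra.TensorProduct.map (AlgHom.id R A) (δA R A n i) (a ⊗ₜ 1) = a ⊗ₜ 1
  rw [Algebra.TensorProduct.map_tmul, map_one]
  rfl

lemma incR_mapδ (n : ℕ) (i : Fin (n + 2)) :
    incR R A n ≫ mapδ R A n i = (YC R A).δ i ≫ incR R A (n + 1) := by
  ext y
  change Algebra.TensorProduct.map (AlgHom.id R A) (δA R A n i) (1 ⊗ₜ y) = 1 ⊗ₜ (δA R A n i y)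
  rw [Algebra.TensorProduct.map_tmul, map_one]

lemma δ_succ_φ (n : ℕ) (i : Fin (n + 2)) :
    (YC R A).δ i.succ ≫ φ R A (n + 1) = φ R A n ≫ mapδ R A n i := by
  apply Yn_hom_ext
  · intro k
    rw [← Category.assoc, inc_δ, inc_φ, ← Category.assoc, inc_φ]
    refine Fin.cases ?_ (fun k' => ?_) k
    · rw [Fin.succ_succAbove_zero, φfs_zero, φfs_zero, incL_mapδ]
    · rw [Fin.succ_succAbove_succ, φfs_succ, φfs_succ, Category.assoc, incR_mapδ, ← Category.assoc,
        inc_δ]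
  · rw [← Category.assoc, hd_δ, hd_φ, ← Category.assoc, hd_φ]
    ext r
    exact ((Algebra.TensorProduct.map (AlgHom.id R A) (δA R A n i)).commutes r).symm

lemma φA_δA_zero (n : ℕ) (y : Yn R A n) : φA R A n (δA R A n 0 y) = 1 ⊗ₜ y :=
  ConcreteCategory.congr_hom (δ_zero_φ R A n) y

lemma φA_δA_succ (n : ℕ) (i : Fin (n + 2)) (y : Yn R A (n + 1)) :
    φA R A (n + 1) (δA R A (n + 1) i.succ y) =
      Algebra.TensorProduct.map (AlgHom.id R A) (δA R A n i) (φA R A n y) :=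
  ConcreteCategory.congr_hom (δ_succ_φ R A n i) y

/-- the contraction `A ⊗ Y_{n+1} → A ⊗ Y_n`, `a ⊗ y ↦ (a ⊗ 1) φ(y)` -/
def sA (n : ℕ) : A ⊗[R] Yn R A (n + 1) →ₐ[A] A ⊗[R] Yn R A n :=
  Algebra.TensorProduct.lift (Algebra.TensorProduct.includeLeft : A →ₐ[A] A ⊗[R] Yn R A n)
    (φA R A n) (fun _ _ => Commute.all _ _)

lemma sA_tmul (n : ℕ) (a : A) (y : Yn R A (n + 1)) :
    sA R A n (a ⊗ₜ y) = (a ⊗ₜ (1 : Yn R A n)) * φA R A n y :=
  Algebra.TensorProduct.lift_tmul _ _ _ _ _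

/-- the contraction as an `R`-linear map -/
def sL (n : ℕ) : A ⊗[R] Yn R A (n + 1) →ₗ[R] A ⊗[R] Yn R A n :=
  ((sA R A n).restrictScalars R).toLinearMap

lemma sL_tmul (n : ℕ) (a : A) (y : Yn R A (n + 1)) :
    sL R A n (a ⊗ₜ y) = (a ⊗ₜ (1 : Yn R A n)) * φA R A n y :=
  sA_tmul R A n a y

/-- `id ⊗ δ_i` as a linear map -/
abbrev Lδ (n : ℕ) (i : Fin (n + 2)) : A ⊗[R] Yn R A n →ₗ[R] A ⊗[R] Yn R A (n + 1) :=
  LinearMap.lTensor A (δA R A n i).toLinearMap

lemma Lδ_eq (n : ℕ) (i : Fin (n + 2)) (z : A ⊗[R] Yn R A n) :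
    Lδ R A n i z = Algebra.TensorProduct.map (AlgHom.id R A) (δA R A n i) z := by
  induction z using TensorProduct.induction_on with
  | zero => simp
  | tmul a y => simp
  | add z w hz hw => rw [map_add, map_add, hz, hw]

lemma sL_Lδ_zero (n : ℕ) : sL R A n ∘ₗ Lδ R A n 0 = LinearMap.id := by
  apply TensorProduct.ext'
  intro a y
  rw [LinearMap.comp_apply, LinearMap.lTensor_tmul, sL_tmul, AlgHom.toLinearMap_apply, φA_δA_zero,
    Algebra.TensorProduct.tmul_mul_tmul, mul_one, one_mul, LinearMap.id_apply]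

lemma sL_Lδ_succ (n : ℕ) (i : Fin (n + 2)) :
    sL R A (n + 1) ∘ₗ Lδ R A (n + 1) i.succ = Lδ R A n i ∘ₗ sL R A n := by
  apply TensorProduct.ext'
  intro a y
  rw [LinearMap.comp_apply, LinearMap.lTensor_tmul, sL_tmul, AlgHom.toLinearMap_apply, φA_δA_succ,
    LinearMap.comp_apply, sL_tmul, Lδ_eq, map_mul, Algebra.TensorProduct.map_tmul, map_one]
  rfl

/-- `id ⊗ d` -/
abbrev DL (n : ℕ) : A ⊗[R] Yn R A n →ₗ[R] A ⊗[R] Yn R A (n + 1) :=
  LinearMap.lTensor A (dL R A n)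

lemma DL_eq (n : ℕ) : DL R A n = ∑ i : Fin (n + 2), (-1 : ℤ) ^ (i : ℕ) • Lδ R A n i := by
  change LinearMap.lTensorHom A (dL R A n) = _
  unfold dL
  rw [map_sum]
  refine Finset.sum_congr rfl fun i _ => ?_
  rw [map_zsmul]
  rfl

/-- the contracting homotopy identity in positive degrees -/
lemma homotopy_identity (n : ℕ) (z : A ⊗[R] Yn R A (n + 1)) :
    sL R A (n + 1) (DL R A (n + 1) z) + DL R A n (sL R A n z) = z := by
  rw [DL_eq, DL_eq, LinearMap.sum_apply, LinearMap.sum_apply, Fin.sum_univ_succ, map_add, map_sum]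
  have h0 : sL R A (n + 1) (((-1 : ℤ) ^ ((0 : Fin (n + 3)) : ℕ) • Lδ R A (n + 1) 0) z) = z := by
    rw [Fin.val_zero, pow_zero, one_smul]
    exact LinearMap.congr_fun (sL_Lδ_zero R A (n + 1)) z
  have hi : ∀ i : Fin (n + 2),
      sL R A (n + 1) (((-1 : ℤ) ^ ((i.succ : Fin (n + 3)) : ℕ) • Lδ R A (n + 1) i.succ) z) =
        -(((-1 : ℤ) ^ (i : ℕ) • Lδ R A n i) (sL R A n z)) := by
    intro i
    have h1 := LinearMap.congr_fun (sL_Lδ_succ R A n i) z
    rw [LinearMap.comp_apply, LinearMap.comp_apply] at h1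
    rw [LinearMap.smul_apply, map_zsmul, h1, LinearMap.smul_apply, Fin.val_succ, pow_succ, mul_neg,
      mul_one, neg_smul]
  rw [h0]
  simp only [hi]
  rw [Finset.sum_neg_distrib]
  abel

/-- the underlying cosimplicial abelian group -/
abbrev Yab : CosimplicialObject AddCommGrpCat.{u} :=
  YC R A ⋙ forget₂ CommRingCat RingCat ⋙ forget₂ RingCat AddCommGrpCat

/-- the Amitsur complex in Cech conerve form -/
abbrev KK : CochainComplex AddCommGrpCat.{u} ℕ :=
  AlgebraicTopology.AlternatingCofaceMapComplex.obj (Yab R A)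

lemma KK_d_apply (n : ℕ) (y : Yn R A n) :
    ((KK R A).d n (n + 1)).hom y = dL R A n y := by
  have h : (KK R A).d n (n + 1) = ∑ i : Fin (n + 2), (-1 : ℤ) ^ (i : ℕ) • (Yab R A).δ i :=
    Groth.Agent.Lib.Helper16.Cech.altCoface_d (Yab R A) n
  rw [h]
  refine (Groth.Agent.Lib.Helper16.CechLow.sum_apply _ _ _).trans ?_
  unfold dL
  rw [LinearMap.sum_apply]
  rfl

lemma dL_comp_dL (n : ℕ) (y : Yn R A n) : dL R A (n + 1) (dL R A n y) = 0 := by
  have h := (KK R A).d_comp_d n (n + 1) (n + 2)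
  have h2 := ConcreteCategory.congr_hom h y
  rw [← KK_d_apply, ← KK_d_apply]
  exact h2

lemma exact_DL (n : ℕ) : Function.Exact (DL R A n) (DL R A (n + 1)) := by
  intro z
  constructor
  · intro hz
    refine ⟨sL R A n z, ?_⟩
    have h := homotopy_identity R A n z
    rw [hz, map_zero, zero_add] at h
    exact h
  · rintro ⟨w, rfl⟩
    have : DL R A (n + 1) ∘ₗ DL R A n = 0 := by
      rw [← LinearMap.lTensor_comp]
      have : dL R A (n + 1) ∘ₗ dL R A n = 0 := LinearMap.ext (dL_comp_dL R A n)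
      rw [this, LinearMap.lTensor_zero]
    exact LinearMap.congr_fun this w

theorem exact_dL [Module.FaithfullyFlat R A] (n : ℕ) :
    Function.Exact (dL R A n) (dL R A (n + 1)) :=
  Module.FaithfullyFlat.lTensor_reflects_exact R A (dL R A n) (dL R A (n + 1)) (exact_DL R A n)

theorem exactAt_succ [Module.FaithfullyFlat R A] (n : ℕ) : (KK R A).ExactAt (n + 1) := by
  rw [HomologicalComplex.exactAt_iff' (KK R A) n (n + 1) (n + 2) (by simp) (by simp),
    ShortComplex.ab_exact_iff]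
  intro z hz
  have hz' : dL R A (n + 1) z = 0 := (KK_d_apply R A (n + 1) z).symm.trans hz
  obtain ⟨y, hy⟩ := (exact_dL R A n z).1 hz'
  exact ⟨y, (KK_d_apply R A n y).trans hy⟩

end

end Groth.Agent.Lib.Helper21.AmitsurCo
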