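import Mathlib

/-!
# `Aut` of the forgetful functor on finite continuous `G`-sets (helper21)
-/

set_option autoImplicit false
universe u

open CategoryTheory PreGaloisCategory
open scoped FintypeCatDiscrete

namespace Groth.Agent.Lib.Helper21.AutForget

variable (G : Type u) [Group G] [TopologicalSpace G] [IsTopologicalGroup G]

/-- the forgetful functor -/
abbrev FF : ContAction FintypeCat.{u} G ⥤ FintypeCat.{u} :=
  forget₂ (ContAction FintypeCat.{u} G) FintypeCat.{u}

example (X : ContAction FintypeCat.{u} G) : (FF G).obj X = X.obj.V := rfl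
example (X Y : ContAction FintypeCat.{u} G) (f : X ⟶ Y) : (FF G).map f = f.hom.hom := rfl

/-- finite continuous `G`-set from a `MulAction` with open stabilizers -/
def mkObj' (S : FintypeCat.{u}) [MulAction G S]
    (hS : ∀ s : S, IsOpen (MulAction.stabilizer G s : Set G)) : ContAction FintypeCat.{u} G :=
  ⟨Action.FintypeCat.ofMulAction G S, by
    have h : ContinuousSMul G S := continuousSMul_iff_stabilizer_isOpen.mpr hS
    constructor
    exact h.continuous_smul⟩

/-- finite continuous `G`-set from a `MulAction` with open stabilizers -/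
def mkObj (T : Type u) [Finite T] [MulAction G T]
    (hT : ∀ t : T, IsOpen (MulAction.stabilizer G t : Set G)) : ContAction FintypeCat.{u} G :=
  mkObj' G (FintypeCat.of T) hT

example (T : Type u) [Finite T] [MulAction G T]
    (hT : ∀ t : T, IsOpen (MulAction.stabilizer G t : Set G)) : (mkObj G T hT).obj.V = FintypeCat.of T := rfl

example (T : Type u) [Finite T] [MulAction G T]
    (hT : ∀ t : T, IsOpen (MulAction.stabilizer G t : Set G)) (g : G) (t : T) :
    ((mkObj G T hT).obj.ρ g).hom t = g • t := rfl

variable {G}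

/-- morphisms out of `mkObj` from equivariant maps -/
def mkHom {T : Type u} [Finite T] [MulAction G T]
    (hT : ∀ t : T, IsOpen (MulAction.stabilizer G t : Set G)) (X : ContAction FintypeCat.{u} G)
    (f : T → X.obj.V) (hf : ∀ (g : G) (t : T), f (g • t) = g • f t) : mkObj G T hT ⟶ X :=
  ObjectProperty.homMk
    { hom := FintypeCat.homMk f
      comm := fun g => by
        ext t
        exact hf g t }

lemma mkHom_apply {T : Type u} [Finite T] [MulAction G T]
    (hT : ∀ t : T, IsOpen (MulAction.stabilizer G t : Set G)) (X : ContAction FintypeCat.{u} G)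
    (f : T → X.obj.V) (hf : ∀ (g : G) (t : T), f (g • t) = g • f t) (t : T) :
    (FF G).map (mkHom hT X f hf) t = f t := rfl

variable (G) in
/-- the canonical map `G → Aut F` -/
def iota : G →* Aut (FF G) where
  toFun g :=
    { hom :=
        { app := fun X => X.obj.ρ g
          naturality := fun X Y f => (f.hom.comm g).symm }
      inv :=
        { app := fun X => X.obj.ρ g⁻¹
          naturality := fun X Y f => (f.hom.comm g⁻¹).symm }
      hom_inv_id := by
        ext X : 2
        change X.obj.ρ g⁻¹ * X.obj.ρ g = 1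
        rw [← map_mul, inv_mul_cancel, map_one]
      inv_hom_id := by
        ext X : 2
        change X.obj.ρ g * X.obj.ρ g⁻¹ = 1
        rw [← map_mul, mul_inv_cancel, map_one] }
  map_one' := by
    apply Iso.ext
    ext X : 2
    exact map_one X.obj.ρ
  map_mul' g h := by
    apply Iso.ext
    ext X : 2
    exact map_mul X.obj.ρ g h

lemma iota_apply (g : G) (X : ContAction FintypeCat.{u} G) (x : X.obj.V) :
    (iota G g).hom.app X x = g • x := rfl

lemma continuous_iota : Continuous (iota G) := by
  rw [Topology.IsInducing.continuous_iff (autEmbedding_isClosedEmbedding _).isInducing,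
    continuous_pi_iff]
  intro X
  haveI : ContinuousSMul G X.obj.V := X.2
  have hφ : Continuous (fun g : G => (fun x : X.obj.V => g • x)) :=
    continuous_pi (fun x => continuous_id.smul continuous_const)
  have hlc : IsLocallyConstant (fun g : G => (fun x : X.obj.V => g • x)) :=
    (IsLocallyConstant.iff_continuous _).mpr hφ
  have := IsLocallyConstant.desc (fun g : G => autEmbedding (FF G) (iota G g) X)
    (fun (a : Aut ((FF G).obj X)) (x : X.obj.V) => (a.hom x : X.obj.V)) hlc (by
      intro a b hab
      apply Iso.ext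
      ext x
      exact congrFun hab x)
  exact this.continuous

/-- any automorphism of the forgetful functor acts on finitely many objects like an element of `G` -/
lemma exists_smul_eq (n : ℕ) (X : Fin n → ContAction FintypeCat.{u} G) (σ : Aut (FF G)) :
    ∃ g : G, ∀ (k : Fin n) (x : (X k).obj.V), σ.hom.app (X k) x = g • x := by
  haveI : ∀ k, ContinuousSMul G (X k).obj.V := fun k => (X k).2
  let T := ∀ k : Fin n, (X k).obj.V → (X k).obj.V
  have hT : ∀ t : T, IsOpen (MulAction.stabilizer G t : Set G) := fun t => stabilizer_isOpen G t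
  let p₀ : T := fun k x => x
  let O := MulAction.orbit G p₀
  have hO : ∀ t : O, IsOpen (MulAction.stabilizer G t : Set G) := by
    intro t
    have : MulAction.stabilizer G t = MulAction.stabilizer G (t : T) := by
      ext g
      simp only [MulAction.mem_stabilizer_iff]
      rw [← Subtype.coe_inj, MulAction.orbit.coe_smul]
    rw [this]
    exact hT _
  let P := mkObj G T hT
  let OO := mkObj G O hO
  let incl : OO ⟶ P := mkHom hO P (fun t => (t : T)) (fun g t => rfl)
  let ev : ∀ (k : Fin n) (x : (X k).obj.V), P ⟶ X k := fun k x =>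
    mkHom hT (X k) (fun f => f k x) (fun g f => rfl)
  let o₀ : O := ⟨p₀, MulAction.mem_orbit_self p₀⟩
  let q : O := (show O from σ.hom.app OO o₀)
  have h1 : σ.hom.app P p₀ = (q : T) := by
    have := ConcreteCategory.congr_hom (σ.hom.naturality incl) o₀
    exact this
  obtain ⟨g, hg⟩ := q.2
  refine ⟨g, fun k x => ?_⟩
  have h2 := ConcreteCategory.congr_hom (σ.hom.naturality (ev k x)) p₀
  change σ.hom.app (X k) x = (show T from σ.hom.app P p₀) k x at h2
  rw [h2, h1]
  have hg' : g • p₀ = (q : T) := hg
  rw [← hg']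
  rfl

lemma denseRange_iota : DenseRange (iota G) := by
  apply dense_iff_inter_open.mpr
  rintro U hU ⟨σ, hσ⟩
  obtain ⟨V, hV, rfl⟩ := isOpen_induced_iff.mp hU
  obtain ⟨I, u, hu, hI⟩ := isOpen_pi_iff.mp hV _ hσ
  let n := I.card
  let e : Fin n ≃ I := (I.equivFin).symm
  obtain ⟨g, hg⟩ := exists_smul_eq n (fun k => (e k : ContAction FintypeCat.{u} G)) σ
  refine ⟨iota G g, ?_, ⟨g, rfl⟩⟩
  apply hI
  intro X hX
  obtain ⟨k, hk⟩ := e.surjective ⟨X, hX⟩
  have hX' : (e k : ContAction FintypeCat.{u} G) = X := congrArg Subtype.val hk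
  have : autEmbedding (FF G) (iota G g) X = autEmbedding (FF G) σ X := by
    subst hX'
    apply Iso.ext
    ext x
    exact (hg k x).symm
  rw [this]
  exact (hu X hX).2

section Univ

variable (Q : Type u) [Group Q] [Finite Q] [TopologicalSpace Q] [DiscreteTopology Q]
  (π : G →* Q) (hπ : Continuous π)

/-- `Q` as a `G`-set via `π` -/
def XQ : ContAction FintypeCat.{u} G :=
  letI : MulAction G Q := MulAction.compHom Q π
  mkObj G Q (fun q => by
    have : (MulAction.stabilizer G q : Set G) = π ⁻¹' {1} := by
      ext g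
      simp only [SetLike.mem_coe, MulAction.mem_stabilizer_iff, Set.mem_preimage,
        Set.mem_singleton_iff]
      change π g * q = q ↔ π g = 1
      constructor
      · intro h
        exact mul_right_cancel (h.trans (one_mul q).symm)
      · intro h
        rw [h, one_mul]
    rw [this]
    exact (isOpen_discrete _).preimage hπ)

/-- right multiplication on `XQ` -/
def rmul (q : Q) : XQ Q π hπ ⟶ XQ Q π hπ :=
  letI : MulAction G Q := MulAction.compHom Q π
  mkHom _ (XQ Q π hπ) (fun x : Q => (x * q : Q)) (fun g x => mul_assoc (π g) x q)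

/-- elements of `XQ` are elements of `Q` -/
def toQ (x : (XQ Q π hπ).obj.V) : Q := x

/-- elements of `Q` are elements of `XQ` -/
def ofQ (q : Q) : (XQ Q π hπ).obj.V := q

lemma app_XQ (σ : Aut (FF G)) (q : Q) :
    toQ Q π hπ (σ.hom.app (XQ Q π hπ) (ofQ Q π hπ q)) =
      toQ Q π hπ (σ.hom.app (XQ Q π hπ) (ofQ Q π hπ 1)) * q := by
  have := ConcreteCategory.congr_hom (σ.hom.naturality (rmul Q π hπ q)) (ofQ Q π hπ 1)
  change toQ Q π hπ (σ.hom.app (XQ Q π hπ) (ofQ Q π hπ (1 * q))) =
    toQ Q π hπ (σ.hom.app (XQ Q π hπ) (ofQ Q π hπ 1)) * q at this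
  rw [one_mul] at this
  exact this

/-- the induced map `Aut F → Q` -/
def psi : Aut (FF G) →* Q where
  toFun σ := toQ Q π hπ (σ.hom.app (XQ Q π hπ) (ofQ Q π hπ 1))
  map_one' := rfl
  map_mul' σ τ := by
    change toQ Q π hπ (σ.hom.app (XQ Q π hπ)
      (ofQ Q π hπ (toQ Q π hπ (τ.hom.app (XQ Q π hπ) (ofQ Q π hπ 1))))) = _ * _
    exact app_XQ Q π hπ σ _

lemma psi_comp_iota : (psi Q π hπ).comp (iota G) = π := by
  ext g
  change (π g * 1 : Q) = π g
  rw [mul_one]

lemma continuous_psi : Continuous (psi Q π hπ) := by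
  rw [continuous_discrete_rng]
  intro q
  have h1 : Continuous (fun σ : Aut (FF G) => autEmbedding (FF G) σ (XQ Q π hπ)) :=
    (continuous_apply _).comp (autEmbedding_isClosedEmbedding (FF G)).continuous
  exact (isOpen_discrete {a : Aut ((FF G).obj (XQ Q π hπ)) |
    toQ Q π hπ (a.hom (ofQ Q π hπ 1)) = q}).preimage h1

include hπ in
theorem existsUnique_psi :
    ∃! ψ : Aut (FF G) →* Q, Continuous ψ ∧ ψ.comp (iota G) = π := by
  refine ⟨psi Q π hπ, ⟨continuous_psi Q π hπ, psi_comp_iota Q π hπ⟩, ?_⟩
  rintro ψ' ⟨hc, hcomp⟩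
  apply DFunLike.coe_injective
  apply DenseRange.equalizer denseRange_iota hc (continuous_psi Q π hπ)
  ext g
  change (ψ'.comp (iota G)) g = ((psi Q π hπ).comp (iota G)) g
  rw [hcomp, psi_comp_iota]

end Univ

end Groth.Agent.Lib.Helper21.AutForget
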