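import Mathlib

/-!
# `Aut` of the forgetful functor on finite `G`-sets is the profinite completion (helper21)
-/

set_option autoImplicit false
universe u

open CategoryTheory PreGaloisCategory

namespace Groth.Agent.Lib.Helper21.AutForget2

variable (G : Type u) [Group G]

/-- the forgetful functor -/
abbrev FF : Action FintypeCat.{u} G ⥤ FintypeCat.{u} := Action.forget FintypeCat.{u} G

/-- finite `G`-set from a `MulAction` -/
def mkObj (T : Type u) [Finite T] [MulAction G T] : Action FintypeCat.{u} G :=
  Action.FintypeCat.ofMulAction G (FintypeCat.of T)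

variable {G}

/-- morphisms out of `mkObj` from equivariant maps -/
def mkHom {T : Type u} [Finite T] [MulAction G T] (X : Action FintypeCat.{u} G)
    (f : T → X.V) (hf : ∀ (g : G) (t : T), f (g • t) = g • f t) : mkObj G T ⟶ X :=
  { hom := FintypeCat.homMk f
    comm := fun g => by
      ext t
      exact hf g t }

variable (G) in
/-- the canonical map `G → Aut F` -/
def iota : G →* Aut (FF G) where
  toFun g :=
    { hom :=
        { app := fun X => X.ρ g
          naturality := fun X Y f => (f.comm g).symm }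
      inv :=
        { app := fun X => X.ρ g⁻¹
          naturality := fun X Y f => (f.comm g⁻¹).symm }
      hom_inv_id := by
        ext X : 2
        change X.ρ g⁻¹ * X.ρ g = 1
        rw [← map_mul, inv_mul_cancel, map_one]
      inv_hom_id := by
        ext X : 2
        change X.ρ g * X.ρ g⁻¹ = 1
        rw [← map_mul, mul_inv_cancel, map_one] }
  map_one' := by
    apply Iso.ext
    ext X : 2
    exact map_one X.ρ
  map_mul' g h := by
    apply Iso.ext
    ext X : 2
    exact map_mul X.ρ g h

lemma iota_apply (g : G) (X : Action FintypeCat.{u} G) (x : X.V) :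
    (iota G g).hom.app X x = g • x := rfl

/-- any automorphism of the forgetful functor acts on finitely many objects like an element of `G` -/
lemma exists_smul_eq (n : ℕ) (X : Fin n → Action FintypeCat.{u} G) (σ : Aut (FF G)) :
    ∃ g : G, ∀ (k : Fin n) (x : (X k).V), σ.hom.app (X k) x = g • x := by
  let T := ∀ k : Fin n, (X k).V → (X k).V
  let p₀ : T := fun k x => x
  let O := MulAction.orbit G p₀
  let P := mkObj G T
  let OO := mkObj G O
  let incl : OO ⟶ P := mkHom P (fun t => (t : T)) (fun g t => rfl)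
  let ev : ∀ (k : Fin n) (x : (X k).V), P ⟶ X k := fun k x =>
    mkHom (X k) (fun f => f k x) (fun g f => rfl)
  let o₀ : O := ⟨p₀, MulAction.mem_orbit_self p₀⟩
  let q : O := (show O from σ.hom.app OO o₀)
  have h1 : σ.hom.app P p₀ = (q : T) := by
    have := ConcreteCategory.congr_hom (σ.hom.naturality incl) o₀
    exact this
  obtain ⟨g, hg⟩ := q.2
  refine ⟨g, fun k x => ?_⟩
  have h2 := ConcreteCategory.congr_hom (σ.hom.naturality (ev k x)) p₀
  change σ.hom.app (X k) x = (show T from σ.hom.app P p₀) k x at h2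
  rw [h2, h1]
  have hg' : g • p₀ = (q : T) := hg
  rw [← hg']
  rfl

lemma denseRange_iota : DenseRange (iota G) := by
  apply dense_iff_inter_open.mpr
  rintro U hU ⟨σ, hσ⟩
  obtain ⟨V, hV, rfl⟩ := isOpen_induced_iff.mp hU
  obtain ⟨I, u, hu, hI⟩ := isOpen_pi_iff.mp hV _ hσ
  let n := I.card
  let e : Fin n ≃ I := (I.equivFin).symm
  obtain ⟨g, hg⟩ := exists_smul_eq n (fun k => (e k : Action FintypeCat.{u} G)) σ
  refine ⟨iota G g, ?_, ⟨g, rfl⟩⟩
  apply hI
  intro X hX
  obtain ⟨k, hk⟩ := e.surjective ⟨X, hX⟩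
  have hX' : (e k : Action FintypeCat.{u} G) = X := congrArg Subtype.val hk
  have : autEmbedding (FF G) (iota G g) X = autEmbedding (FF G) σ X := by
    subst hX'
    apply Iso.ext
    ext x
    exact (hg k x).symm
  rw [this]
  exact (hu X hX).2

section Univ

variable (Q : Type u) [Group Q] [Finite Q] (π : G →* Q)

/-- `Q` as a `G`-set via `π` -/
def XQ : Action FintypeCat.{u} G :=
  letI : MulAction G Q := MulAction.compHom Q π
  mkObj G Q

/-- elements of `XQ` are elements of `Q` -/
def toQ (x : (XQ Q π).V) : Q := x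

/-- elements of `Q` are elements of `XQ` -/
def ofQ (q : Q) : (XQ Q π).V := q

/-- right multiplication on `XQ` -/
def rmul (q : Q) : XQ Q π ⟶ XQ Q π :=
  letI : MulAction G Q := MulAction.compHom Q π
  mkHom (XQ Q π) (fun x : Q => (x * q : Q)) (fun g x => mul_assoc (π g) x q)

lemma app_XQ (σ : Aut (FF G)) (q : Q) :
    toQ Q π (σ.hom.app (XQ Q π) (ofQ Q π q)) =
      toQ Q π (σ.hom.app (XQ Q π) (ofQ Q π 1)) * q := by
  have := ConcreteCategory.congr_hom (σ.hom.naturality (rmul Q π q)) (ofQ Q π 1)
  change toQ Q π (σ.hom.app (XQ Q π) (ofQ Q π (1 * q))) =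
    toQ Q π (σ.hom.app (XQ Q π) (ofQ Q π 1)) * q at this
  rw [one_mul] at this
  exact this

/-- the induced map `Aut F → Q` -/
def psi : Aut (FF G) →* Q where
  toFun σ := toQ Q π (σ.hom.app (XQ Q π) (ofQ Q π 1))
  map_one' := rfl
  map_mul' σ τ := by
    change toQ Q π (σ.hom.app (XQ Q π)
      (ofQ Q π (toQ Q π (τ.hom.app (XQ Q π) (ofQ Q π 1))))) = _ * _
    exact app_XQ Q π σ _

lemma psi_iota (g : G) : psi Q π (iota G g) = π g := by
  change (π g * 1 : Q) = π g
  rw [mul_one]

lemma isOpen_psi_preimage (q : Q) : IsOpen (psi Q π ⁻¹' {q}) := by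
  have h1 : Continuous (fun σ : Aut (FF G) => autEmbedding (FF G) σ (XQ Q π)) :=
    (continuous_apply _).comp (autEmbedding_isClosedEmbedding (FF G)).continuous
  exact (isOpen_discrete {a : Aut ((FF G).obj (XQ Q π)) |
    toQ Q π (a.hom (ofQ Q π 1)) = q}).preimage h1

/-- equivariant maps `XQ → X` from points fixed by the kernel -/
noncomputable def orbitHom (X : Action FintypeCat.{u} G) (x : X.V) (hπ : Function.Surjective π)
    (hx : ∀ g : G, π g = 1 → g • x = x) : XQ Q π ⟶ X :=
  letI : MulAction G Q := MulAction.compHom Q π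
  mkHom X (fun q : Q => (Function.surjInv hπ q) • x) (fun g q => by
    change (Function.surjInv hπ (π g * q)) • x = g • (Function.surjInv hπ q) • x
    rw [← mul_smul]
    have h1 : π ((g * Function.surjInv hπ q)⁻¹ * Function.surjInv hπ (π g * q)) = 1 := by
      rw [map_mul, map_inv, map_mul, Function.surjInv_eq hπ, Function.surjInv_eq hπ,
        inv_mul_cancel]
    have := hx _ h1
    rw [mul_smul, inv_smul_eq_iff] at this
    exact this)

lemma app_eq_psi_smul (X : Action FintypeCat.{u} G) (x : X.V) (hπ : Function.Surjective π)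
    (hx : ∀ g : G, π g = 1 → g • x = x) (σ : Aut (FF G)) :
    σ.hom.app X x = (Function.surjInv hπ (psi Q π σ)) • x := by
  have := ConcreteCategory.congr_hom (σ.hom.naturality (orbitHom Q π X x hπ hx)) (ofQ Q π 1)
  have h1 : (orbitHom Q π X x hπ hx).hom (ofQ Q π 1) = x := by
    change (Function.surjInv hπ (1 : Q)) • x = x
    exact hx _ (Function.surjInv_eq hπ 1)
  change σ.hom.app X ((orbitHom Q π X x hπ hx).hom (ofQ Q π 1)) = _ at this
  rw [h1] at this
  exact this

end Univ

section Completion

open ProfiniteGrp ProfiniteCompletion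

lemma continuous_of_fibers_open {X Y : Type*} [TopologicalSpace X] {tY : TopologicalSpace Y} (f : X → Y)
    (h : ∀ y, IsOpen (f ⁻¹' {y})) : Continuous f := by
  rw [continuous_def]
  intro s _
  rw [← Set.biUnion_of_singleton s, Set.preimage_iUnion₂]
  exact isOpen_biUnion (fun y _ => h y)

variable (G)

/-- the quotient map of a finite index normal subgroup -/
abbrev qm (U : FiniteIndexNormalSubgroup G) : G →* G ⧸ U.toSubgroup :=
  QuotientGroup.mk' U.toSubgroup

variable {G}

lemma psi_map {U V : FiniteIndexNormalSubgroup G} (h : U.toSubgroup ≤ V.toSubgroup)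
    (σ : Aut (FF G)) :
    QuotientGroup.map U.toSubgroup V.toSubgroup (MonoidHom.id G) h
      (psi (G ⧸ U.toSubgroup) (qm G U) σ) = psi (G ⧸ V.toSubgroup) (qm G V) σ := by
  letI : MulAction G (G ⧸ U.toSubgroup) := MulAction.compHom _ (qm G U)
  let q : XQ (G ⧸ U.toSubgroup) (qm G U) ⟶ XQ (G ⧸ V.toSubgroup) (qm G V) :=
    mkHom _ (fun x : G ⧸ U.toSubgroup =>
        ofQ (G ⧸ V.toSubgroup) (qm G V)
          (QuotientGroup.map U.toSubgroup V.toSubgroup (MonoidHom.id G) h x))
      (fun g x => by
        change QuotientGroup.map U.toSubgroup V.toSubgroup (MonoidHom.id G) h (qm G U g * x) =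
          qm G V g * QuotientGroup.map U.toSubgroup V.toSubgroup (MonoidHom.id G) h x
        rw [map_mul]
        rfl)
  have := ConcreteCategory.congr_hom (σ.hom.naturality q) (ofQ _ (qm G U) 1)
  have h1 : q.hom (ofQ _ (qm G U) 1) = ofQ _ (qm G V) 1 := by
    change QuotientGroup.map U.toSubgroup V.toSubgroup (MonoidHom.id G) h 1 = 1
    exact map_one _
  change σ.hom.app (XQ (G ⧸ V.toSubgroup) (qm G V)) (q.hom (ofQ _ (qm G U) 1)) =
    q.hom (σ.hom.app (XQ (G ⧸ U.toSubgroup) (qm G U)) (ofQ _ (qm G U) 1)) at this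
  rw [h1] at this
  exact this.symm

variable (G) in
/-- the comparison map `Aut F → Ĝ` -/
noncomputable def Psi : Aut (FF G) →* completion (GrpCat.of G) where
  toFun σ := ⟨fun U => psi (G ⧸ U.toSubgroup) (qm G U) σ, fun U V f => psi_map f.le σ⟩
  map_one' := Subtype.ext (funext fun U => map_one (psi (G ⧸ U.toSubgroup) (qm G U)))
  map_mul' σ τ := Subtype.ext (funext fun U => map_mul (psi (G ⧸ U.toSubgroup) (qm G U)) σ τ)

lemma Psi_val (σ : Aut (FF G)) (U : FiniteIndexNormalSubgroup G) :
    (Psi G σ).val U = psi (G ⧸ U.toSubgroup) (qm G U) σ := rfl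

lemma continuous_Psi : Continuous (Psi G) := by
  apply Continuous.subtype_mk
  refine @continuous_pi _ _ _ ?_ ?_ _ (fun U => ?_)
  apply continuous_of_fibers_open
  intro q
  exact isOpen_psi_preimage (G ⧸ U.toSubgroup) (qm G U) q

lemma Psi_iota (g : G) : Psi G (iota G g) = etaFn (GrpCat.of G) g := by
  apply Subtype.ext
  funext U
  exact psi_iota (G ⧸ U.toSubgroup) (qm G U) g

lemma app_eq_self_of_Psi (σ : Aut (FF G)) (hσ : Psi G σ = 1) (X : Action FintypeCat.{u} G)
    (x : X.V) : σ.hom.app X x = x := by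
  let K : Subgroup G := (MulAction.toPermHom G X.V).ker
  let U : FiniteIndexNormalSubgroup G := { toSubgroup := K }
  have hU : psi (G ⧸ U.toSubgroup) (qm G U) σ = 1 := by
    have := congrArg (fun z : completion (GrpCat.of G) => z.val U) hσ
    exact this
  have hx : ∀ g : G, qm G U g = 1 → g • x = x := by
    intro g hg
    have hgK : g ∈ K := (QuotientGroup.eq_one_iff g).mp hg
    have : MulAction.toPermHom G X.V g = 1 := hgK
    have h2 := congrArg (fun e : Equiv.Perm X.V => e x) this
    exact h2
  have hs : Function.Surjective (qm G U) := QuotientGroup.mk'_surjective _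
  rw [app_eq_psi_smul (G ⧸ U.toSubgroup) (qm G U) X x hs hx σ, hU]
  exact hx _ (Function.surjInv_eq hs 1)

lemma Psi_injective : Function.Injective (Psi G) := by
  rw [injective_iff_map_eq_one]
  intro σ hσ
  apply Iso.ext
  ext X x
  exact app_eq_self_of_Psi σ hσ X x

lemma Psi_surjective : Function.Surjective (Psi G) := by
  have hc : IsClosed (Set.range (Psi G)) := (isCompact_range continuous_Psi).isClosed
  have hd : Dense (Set.range (Psi G)) := by
    refine (denseRange (GrpCat.of G)).mono ?_
    rintro _ ⟨g, rfl⟩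
    exact ⟨iota G g, Psi_iota g⟩
  intro z
  have := hd.closure_eq ▸ Set.mem_univ z
  rwa [hc.closure_eq] at this

variable (G) in
/-- `Ĝ ≃ₜ* Aut F` -/
noncomputable def equivAut : completion (GrpCat.of G) ≃ₜ* Aut (FF G) :=
  let e : Aut (FF G) ≃* completion (GrpCat.of G) :=
    MulEquiv.ofBijective (Psi G) ⟨Psi_injective, Psi_surjective⟩
  ({ e with
      continuous_toFun := continuous_Psi
      continuous_invFun := Continuous.continuous_symm_of_equiv_compact_to_t2
        (f := e.toEquiv) continuous_Psi } : Aut (FF G) ≃ₜ* completion (GrpCat.of G)).symm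

lemma equivAut_etaFn (g : G) : equivAut G (etaFn (GrpCat.of G) g) = iota G g := by
  rw [← Psi_iota g]
  exact (MulEquiv.ofBijective (Psi G) ⟨Psi_injective, Psi_surjective⟩).symm_apply_apply _

end Completion

end Groth.Agent.Lib.Helper21.AutForget2
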