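import Mathlib

/-!
# Helper21: base change of the kernel of a linear map (pure algebra)

For an `A`-linear map `d : M₀ → M₁` and an `A`-algebra `B`:
* `KerBC B d`: the natural map `B ⊗ ker d → ker (B ⊗ d)` is bijective; `KerSurj B d`: it is surjective;
* `kerBC_of_genInv`: this holds if `d` has a generalised inverse (`d ∘ r ∘ d = d`);
* `exists_genInv`: a generalised inverse exists if `M₁` and `coker d` are projective;
* `kerBC_congr`: invariance under isomorphisms of arrows;
* `KerIso`, `kerBC_tower`, `kerSurj_tower`: transfer along a map of two-term complexes which induces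
  bijections on kernels after the relevant base changes (a universal quasi-isomorphism in degree `0`).
-/

set_option autoImplicit false
universe u
open TensorProduct

namespace Groth.Agent.Lib.Helper21.BC0Alg

section defs
variable {A : Type u} [CommRing A] (B : Type u) [CommRing B] [Algebra A B]
  {M₀ M₁ : Type u} [AddCommGroup M₀] [Module A M₀] [AddCommGroup M₁] [Module A M₁]

/-- `B ⊗ ker d → ker (B ⊗ d)` is surjective -/
def KerSurj (d : M₀ →ₗ[A] M₁) : Prop :=
  ∀ t : B ⊗[A] M₀, d.lTensor B t = 0 →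
    ∃ s : B ⊗[A] LinearMap.ker d, (LinearMap.ker d).subtype.lTensor B s = t

/-- `B ⊗ ker d → ker (B ⊗ d)` is bijective -/
def KerBC (d : M₀ →ₗ[A] M₁) : Prop :=
  Function.Injective ((LinearMap.ker d).subtype.lTensor B) ∧ KerSurj B d

variable {B}

theorem kerBC_of_genInv (d : M₀ →ₗ[A] M₁) (r : M₁ →ₗ[A] M₀) (h : d ∘ₗ r ∘ₗ d = d) :
    KerBC B d := by
  -- the projection onto the kernel
  let e : M₀ →ₗ[A] LinearMap.ker d :=
    LinearMap.codRestrict (LinearMap.ker d) (LinearMap.id - r ∘ₗ d) (fun m => by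
      rw [LinearMap.mem_ker, LinearMap.sub_apply, map_sub, LinearMap.id_apply]
      have := LinearMap.congr_fun h m
      simp only [LinearMap.comp_apply] at this ⊢
      rw [this, sub_self])
  have he : e ∘ₗ (LinearMap.ker d).subtype = LinearMap.id := by
    ext m
    simp only [e, LinearMap.comp_apply, Submodule.subtype_apply, LinearMap.codRestrict_apply,
      LinearMap.sub_apply, LinearMap.id_apply]
    rw [LinearMap.mem_ker.1 m.2, map_zero, sub_zero]
  have hs : (LinearMap.ker d).subtype ∘ₗ e = LinearMap.id - r ∘ₗ d := by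
    ext m
    rfl
  refine ⟨?_, fun t ht => ⟨e.lTensor B t, ?_⟩⟩
  · intro x y hxy
    have := congrArg (e.lTensor B) hxy
    rwa [← LinearMap.comp_apply, ← LinearMap.comp_apply, ← LinearMap.lTensor_comp, he,
      LinearMap.lTensor_id, LinearMap.id_apply, LinearMap.id_apply] at this
  · rw [← LinearMap.comp_apply, ← LinearMap.lTensor_comp, hs, LinearMap.lTensor_sub,
      LinearMap.sub_apply, LinearMap.lTensor_id, LinearMap.id_apply, LinearMap.lTensor_comp,
      LinearMap.comp_apply, ht, map_zero, sub_zero]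

theorem exists_genInv (d : M₀ →ₗ[A] M₁) {W : Type u} [AddCommGroup W] [Module A W]
    (p : M₁ →ₗ[A] W) (hp : Function.Surjective p) (hex : Function.Exact d p)
    [Module.Projective A M₁] [Module.Projective A W] :
    ∃ r : M₁ →ₗ[A] M₀, d ∘ₗ r ∘ₗ d = d := by
  obtain ⟨σ, hσ⟩ := Module.projective_lifting_property p LinearMap.id hp
  -- `ρ = id - σ p` has values in `range d`
  have hρ : ∀ m, (LinearMap.id - σ ∘ₗ p : M₁ →ₗ[A] M₁) m ∈ LinearMap.range d := by
    intro m
    rw [← hex.linearMap_ker_eq, LinearMap.mem_ker, LinearMap.sub_apply, map_sub,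
      LinearMap.id_apply, LinearMap.comp_apply]
    have := LinearMap.congr_fun hσ (p m)
    simp only [LinearMap.comp_apply, LinearMap.id_apply] at this
    rw [this, sub_self]
  let ρ' : M₁ →ₗ[A] LinearMap.range d :=
    LinearMap.codRestrict (LinearMap.range d) (LinearMap.id - σ ∘ₗ p) hρ
  obtain ⟨r, hr⟩ := Module.projective_lifting_property d.rangeRestrict ρ'
    d.surjective_rangeRestrict
  refine ⟨r, ?_⟩
  ext m
  have h1 := congrArg Subtype.val (LinearMap.congr_fun hr (d m))
  simp only [LinearMap.comp_apply] at h1 ⊢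
  change d (r (d m)) = _ at h1
  rw [h1]
  simp only [ρ', LinearMap.codRestrict_apply, LinearMap.sub_apply, LinearMap.id_apply,
    LinearMap.comp_apply]
  rw [hex.apply_apply_eq_zero, map_zero, sub_zero]

end defs

section congr
variable {A : Type u} [CommRing A] {B : Type u} [CommRing B] [Algebra A B]
  {M₀ M₁ N₀ N₁ : Type u} [AddCommGroup M₀] [Module A M₀] [AddCommGroup M₁] [Module A M₁]
  [AddCommGroup N₀] [Module A N₀] [AddCommGroup N₁] [Module A N₁]

/-- the map on kernels induced by a commutative square -/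
def kerMap (d : M₀ →ₗ[A] M₁) (d' : N₀ →ₗ[A] N₁) (a : M₀ →ₗ[A] N₀) (b : M₁ →ₗ[A] N₁)
    (comm : d' ∘ₗ a = b ∘ₗ d) : LinearMap.ker d →ₗ[A] LinearMap.ker d' :=
  LinearMap.codRestrict (LinearMap.ker d') (a ∘ₗ (LinearMap.ker d).subtype) (fun m => by
    rw [LinearMap.mem_ker, LinearMap.comp_apply, ← LinearMap.comp_apply, comm, LinearMap.comp_apply,
      Submodule.subtype_apply, LinearMap.mem_ker.1 m.2, map_zero])

theorem subtype_comp_kerMap (d : M₀ →ₗ[A] M₁) (d' : N₀ →ₗ[A] N₁) (a : M₀ →ₗ[A] N₀)
    (b : M₁ →ₗ[A] N₁) (comm : d' ∘ₗ a = b ∘ₗ d) :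
    (LinearMap.ker d').subtype ∘ₗ kerMap d d' a b comm = a ∘ₗ (LinearMap.ker d).subtype := rfl

theorem kerBC_congr (d : M₀ →ₗ[A] M₁) (d' : N₀ →ₗ[A] N₁) (e₀ : M₀ ≃ₗ[A] N₀) (e₁ : M₁ ≃ₗ[A] N₁)
    (comm : ∀ m, d' (e₀ m) = e₁ (d m)) :
    (KerBC B d → KerBC B d') ∧ (KerSurj B d → KerSurj B d') := by
  have c1 : d' ∘ₗ e₀.toLinearMap = e₁.toLinearMap ∘ₗ d := LinearMap.ext comm
  have c2 : d ∘ₗ e₀.symm.toLinearMap = e₁.symm.toLinearMap ∘ₗ d' := by
    ext n
    simp only [LinearMap.comp_apply, LinearEquiv.coe_coe]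
    rw [LinearEquiv.eq_symm_apply, ← comm, LinearEquiv.apply_symm_apply]
  have hsurj : KerSurj B d → KerSurj B d' := by
    intro h t ht
    have h1 : d.lTensor B (e₀.symm.toLinearMap.lTensor B t) = 0 := by
      rw [← LinearMap.comp_apply, ← LinearMap.lTensor_comp, c2, LinearMap.lTensor_comp,
        LinearMap.comp_apply, ht, map_zero]
    obtain ⟨s, hs⟩ := h _ h1
    refine ⟨(kerMap d d' e₀.toLinearMap e₁.toLinearMap c1).lTensor B s, ?_⟩
    rw [← LinearMap.comp_apply, ← LinearMap.lTensor_comp, subtype_comp_kerMap,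
      LinearMap.lTensor_comp, LinearMap.comp_apply, hs, ← LinearMap.comp_apply,
      ← LinearMap.lTensor_comp]
    have : e₀.toLinearMap ∘ₗ e₀.symm.toLinearMap = LinearMap.id := by
      ext n; simp
    rw [this, LinearMap.lTensor_id, LinearMap.id_apply]
  refine ⟨fun h => ⟨?_, hsurj h.2⟩, hsurj⟩
  intro x y hxy
  have h1 := congrArg (e₀.symm.toLinearMap.lTensor B) hxy
  rw [← LinearMap.comp_apply, ← LinearMap.comp_apply, ← LinearMap.lTensor_comp,
    ← subtype_comp_kerMap d' d e₀.symm.toLinearMap e₁.symm.toLinearMap c2,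
    LinearMap.lTensor_comp, LinearMap.comp_apply, LinearMap.comp_apply] at h1
  have h2 := h.1 h1
  have h3 := congrArg ((kerMap d d' e₀.toLinearMap e₁.toLinearMap c1).lTensor B) h2
  have hid : kerMap d d' e₀.toLinearMap e₁.toLinearMap c1 ∘ₗ
      kerMap d' d e₀.symm.toLinearMap e₁.symm.toLinearMap c2 = LinearMap.id := by
    ext n
    simp [kerMap]
  rwa [← LinearMap.comp_apply, ← LinearMap.comp_apply, ← LinearMap.lTensor_comp, hid,
    LinearMap.lTensor_id, LinearMap.id_apply, LinearMap.id_apply] at h3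

end congr

section tower
variable {R : Type u} [CommRing R] (A : Type u) [CommRing A] [Algebra R A]
  {L₀ L₁ K₀ K₁ : Type u} [AddCommGroup L₀] [Module R L₀] [AddCommGroup L₁] [Module R L₁]
  [AddCommGroup K₀] [Module R K₀] [AddCommGroup K₁] [Module R K₁]

/-- after base change to `A`, the map `a` induces a bijection `ker (A ⊗ ℓ) ≃ ker (A ⊗ k)` -/
def KerIso (ℓ : L₀ →ₗ[R] L₁) (k : K₀ →ₗ[R] K₁) (a : L₀ →ₗ[R] K₀) : Prop :=
  (∀ t : A ⊗[R] L₀, ℓ.lTensor A t = 0 → a.lTensor A t = 0 → t = 0) ∧
    ∀ t' : A ⊗[R] K₀, k.lTensor A t' = 0 → ∃ t : A ⊗[R] L₀, ℓ.lTensor A t = 0 ∧ a.lTensor A t = t'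

variable {A} (B : Type u) [CommRing B] [Algebra A B] [Algebra R B] [IsScalarTower R A B]

/-- naturality of `cancelBaseChange` -/
theorem cancel_nat {N N' : Type u} [AddCommGroup N] [Module R N] [AddCommGroup N'] [Module R N']
    (f : N →ₗ[R] N') (t : B ⊗[A] (A ⊗[R] N)) :
    TensorProduct.AlgebraTensorModule.cancelBaseChange R A B B N' ((f.baseChange A).lTensor B t) =
      f.lTensor B (TensorProduct.AlgebraTensorModule.cancelBaseChange R A B B N t) := by
  induction t using TensorProduct.induction_on with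
  | zero => simp
  | add x y hx hy => simp only [map_add, hx, hy]
  | tmul b s =>
    induction s using TensorProduct.induction_on with
    | zero => simp
    | add x y hx hy => simp only [tmul_add, map_add, hx, hy]
    | tmul a n =>
      simp

theorem kerSurj_tower (ℓ : L₀ →ₗ[R] L₁) (k : K₀ →ₗ[R] K₁) (a : L₀ →ₗ[R] K₀) (b : L₁ →ₗ[R] K₁)
    (comm : k ∘ₗ a = b ∘ₗ ℓ) (hA : KerIso A ℓ k a) (hB : KerIso B ℓ k a) :
    (KerSurj B (ℓ.baseChange A) ↔ KerSurj B (k.baseChange A)) ∧
      (KerBC B (ℓ.baseChange A) ↔ KerBC B (k.baseChange A)) := by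
  let θ := fun (N : Type u) [AddCommGroup N] [Module R N] =>
    TensorProduct.AlgebraTensorModule.cancelBaseChange R A B B N
  have commA : k.baseChange A ∘ₗ a.baseChange A = b.baseChange A ∘ₗ ℓ.baseChange A := by
    rw [← LinearMap.baseChange_comp, ← LinearMap.baseChange_comp, comm]
  -- the induced map on kernels over `A` is bijective
  let α := kerMap (ℓ.baseChange A) (k.baseChange A) (a.baseChange A) (b.baseChange A) commA
  have hα : Function.Bijective α := by
    constructor
    · intro m m' hmm'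
      apply Subtype.ext
      have key : m.1 - m'.1 = 0 := by
        refine hA.1 (m.1 - m'.1) ?_ ?_
        · have h1 := LinearMap.mem_ker.1 m.2
          have h2 := LinearMap.mem_ker.1 m'.2
          rw [← LinearMap.baseChange_eq_ltensor, map_sub, h1, h2, sub_zero]
        · have h3 : a.baseChange A m.1 = a.baseChange A m'.1 := congrArg Subtype.val hmm'
          rw [← LinearMap.baseChange_eq_ltensor, map_sub, h3, sub_self]
      exact sub_eq_zero.1 key
    · intro n
      have hn := n.2
      rw [LinearMap.mem_ker, LinearMap.baseChange_eq_ltensor] at hn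
      obtain ⟨t, ht1, ht2⟩ := hA.2 n.1 hn
      refine ⟨⟨t, ?_⟩, Subtype.ext ?_⟩
      · rw [LinearMap.mem_ker, LinearMap.baseChange_eq_ltensor]
        exact ht1
      · change a.baseChange A t = n.1
        rw [LinearMap.baseChange_eq_ltensor]
        exact ht2
  let αe : LinearMap.ker (ℓ.baseChange A) ≃ₗ[A] LinearMap.ker (k.baseChange A) :=
    LinearEquiv.ofBijective α hα
  have hαB : Function.Bijective (α.lTensor B) := by
    have : α.lTensor B = (LinearEquiv.lTensor B αe).toLinearMap := rfl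
    rw [this]
    exact (LinearEquiv.lTensor B αe).bijective
  -- the two inclusions of kernels
  have hincl : ∀ s, (LinearMap.ker (k.baseChange A)).subtype.lTensor B (α.lTensor B s) =
      (a.baseChange A).lTensor B ((LinearMap.ker (ℓ.baseChange A)).subtype.lTensor B s) := by
    intro s
    rw [← LinearMap.comp_apply, ← LinearMap.lTensor_comp, subtype_comp_kerMap,
      LinearMap.lTensor_comp, LinearMap.comp_apply]
  have hzero : ∀ s, (ℓ.baseChange A).lTensor B
      ((LinearMap.ker (ℓ.baseChange A)).subtype.lTensor B s) = 0 := by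
    intro s
    rw [← LinearMap.comp_apply, ← LinearMap.lTensor_comp]
    have : ℓ.baseChange A ∘ₗ (LinearMap.ker (ℓ.baseChange A)).subtype = 0 := by
      ext m
      exact LinearMap.mem_ker.1 m.2
    rw [this, LinearMap.lTensor_zero, LinearMap.zero_apply]
  -- uniqueness in `ker (B ⊗ ℓ)` detected by `a`
  have huniq : ∀ y y' : B ⊗[A] (A ⊗[R] L₀), (ℓ.baseChange A).lTensor B y = 0 →
      (ℓ.baseChange A).lTensor B y' = 0 →
      (a.baseChange A).lTensor B y = (a.baseChange A).lTensor B y' → y = y' := by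
    intro y y' hy hy' hyy
    have h1 : θ L₀ (y - y') = 0 := by
      refine hB.1 _ ?_ ?_
      · rw [← cancel_nat, map_sub, hy, hy', sub_zero, map_zero]
      · rw [← cancel_nat, map_sub, hyy, sub_self, map_zero]
    have h2 := (θ L₀).injective (h1.trans (map_zero _).symm)
    exact sub_eq_zero.1 h2
  have hS : KerSurj B (ℓ.baseChange A) ↔ KerSurj B (k.baseChange A) := by
    constructor
    · intro h t ht
      have h1 : k.lTensor B (θ K₀ t) = 0 := by
        rw [← cancel_nat, ht, map_zero]
      obtain ⟨w, hw1, hw2⟩ := hB.2 _ h1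
      have h2 : (ℓ.baseChange A).lTensor B ((θ L₀).symm w) = 0 := by
        apply (θ L₁).injective
        rw [cancel_nat, LinearEquiv.apply_symm_apply, hw1, map_zero]
      obtain ⟨s, hs⟩ := h _ h2
      refine ⟨α.lTensor B s, ?_⟩
      rw [hincl, hs]
      apply (θ K₀).injective
      rw [cancel_nat, LinearEquiv.apply_symm_apply, hw2]
    · intro h t ht
      have h1 : (k.baseChange A).lTensor B ((a.baseChange A).lTensor B t) = 0 := by
        rw [← LinearMap.comp_apply, ← LinearMap.lTensor_comp, commA, LinearMap.lTensor_comp,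
          LinearMap.comp_apply, ht, map_zero]
      obtain ⟨s', hs'⟩ := h _ h1
      obtain ⟨s, rfl⟩ := hαB.2 s'
      refine ⟨s, ?_⟩
      refine huniq _ _ (hzero s) ht ?_
      rw [← hincl, hs']
  refine ⟨hS, ?_⟩
  constructor
  · intro h
    refine ⟨fun x y hxy => ?_, hS.1 h.2⟩
    obtain ⟨x', rfl⟩ := hαB.2 x
    obtain ⟨y', rfl⟩ := hαB.2 y
    rw [hincl, hincl] at hxy
    have := huniq _ _ (hzero x') (hzero y') hxy
    rw [h.1 this]
  · intro h
    refine ⟨fun x y hxy => ?_, hS.2 h.2⟩
    apply hαB.1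
    apply h.1
    rw [hincl, hincl, hxy]

end tower

end Groth.Agent.Lib.Helper21.BC0Alg
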