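import Mathlib
import Groth.Agent.Lib.Helper13FlatMV
import Groth.Agent.Lib.Helper21BC0Alg

/-!
# Helper21: the abstract Čech chase for the degree-zero base change map

Given left exact sequences `0 → M → ∏ M₀ i → ∏ M₁ j` over `R` and `0 → M' → ∏ M₀' i → ∏ M₁' j` over `R'`,
semilinear maps between them commuting with the arrows, with `R' ⊗ M₀ i ≅ M₀' i` and `R' ⊗ M₁ j ↪ M₁' j`:
the map `R' ⊗ M → M'` is bijective (surjective) iff `R' ⊗ ker d → ker (R' ⊗ d)` is.
-/

set_option autoImplicit false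
set_option linter.style.haveILetI false
universe u
open TensorProduct

namespace Groth.Agent.Lib.Helper21.BC0Chase

open Groth.Agent.Helper13FlatMV Groth.Agent.Lib.Helper21.BC0Alg

section prod
variable {R R' : Type u} [CommRing R] [CommRing R'] [Algebra R R']
  {I : Type u} {N : I → Type u} {N' : I → Type u}
  [∀ i, AddCommGroup (N i)] [∀ i, Module R (N i)] [∀ i, AddCommGroup (N' i)] [∀ i, Module R' (N' i)]

/-- the product of a family of additive maps -/
def Uprod (v : ∀ i, N i →+ N' i) : (∀ i, N i) →+ (∀ i, N' i) where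
  toFun c i := v i (c i)
  map_zero' := by
    funext i
    exact map_zero (v i)
  map_add' c c' := by
    funext i
    exact map_add (v i) (c i) (c' i)

theorem Uprod_smul (v : ∀ i, N i →+ N' i)
    (hv : ∀ i (r : R) (a : N i), v i (r • a) = algebraMap R R' r • v i a) (r : R) (c : ∀ i, N i) :
    Uprod v (r • c) = algebraMap R R' r • Uprod v c := by
  funext i
  exact hv i r (c i)

variable [Finite I]

open Classical in
/-- `R' ⊗ ∏ = ∏ R' ⊗` for a finite product -/
noncomputable def pR : R' ⊗[R] (∀ i, N i) ≃+ (∀ i, R' ⊗[R] N i) :=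
  letI : Fintype I := Fintype.ofFinite _
  (TensorProduct.piRight R R R' N).toAddEquiv

theorem pR_tmul (b : R') (c : ∀ i, N i) (i : I) :
    pR (R := R) (R' := R') (N := N) (b ⊗ₜ[R] c) i = b ⊗ₜ[R] c i := by
  classical
  letI : Fintype I := Fintype.ofFinite _
  exact congrFun (TensorProduct.piRight_apply R R R' N (b ⊗ₜ[R] c)) i

theorem kap_Uprod (v : ∀ i, N i →+ N' i)
    (hv : ∀ i (r : R) (a : N i), v i (r • a) = algebraMap R R' r • v i a)
    (t : R' ⊗[R] (∀ i, N i)) (i : I) :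
    kap (Uprod v) (Uprod_smul v hv) t i = kap (v i) (hv i) (pR (R := R) (R' := R') (N := N) t i) := by
  induction t using TensorProduct.induction_on with
  | zero => simp
  | add x y hx hy =>
    rw [map_add, map_add, Pi.add_apply, Pi.add_apply, hx, hy, map_add]
  | tmul b c =>
    rw [kap_tmul, pR_tmul, kap_tmul]
    rfl

theorem kap_Uprod_injective (v : ∀ i, N i →+ N' i)
    (hv : ∀ i (r : R) (a : N i), v i (r • a) = algebraMap R R' r • v i a)
    (h : ∀ i, Function.Injective (kap (v i) (hv i))) :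
    Function.Injective (kap (Uprod v) (Uprod_smul v hv)) := by
  intro t t' htt
  apply (pR (R := R) (R' := R') (N := N)).injective
  funext i
  apply h i
  rw [← kap_Uprod, ← kap_Uprod, htt]

theorem kap_Uprod_surjective (v : ∀ i, N i →+ N' i)
    (hv : ∀ i (r : R) (a : N i), v i (r • a) = algebraMap R R' r • v i a)
    (h : ∀ i, Function.Surjective (kap (v i) (hv i))) :
    Function.Surjective (kap (Uprod v) (Uprod_smul v hv)) := by
  intro c
  choose s hs using fun i => h i (c i)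
  refine ⟨(pR (R := R) (R' := R') (N := N)).symm s, ?_⟩
  funext i
  rw [kap_Uprod, AddEquiv.apply_symm_apply]
  exact hs i

end prod

section chase
variable {R R' : Type u} [CommRing R] [CommRing R'] [Algebra R R']
  {I₀ I₁ : Type u} [Finite I₀] [Finite I₁]
  {M : Type u} {M₀ : I₀ → Type u} {M₁ : I₁ → Type u}
  [AddCommGroup M] [Module R M] [∀ i, AddCommGroup (M₀ i)] [∀ i, Module R (M₀ i)]
  [∀ j, AddCommGroup (M₁ j)] [∀ j, Module R (M₁ j)]
  {M' : Type u} {M₀' : I₀ → Type u} {M₁' : I₁ → Type u}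
  [AddCommGroup M'] [Module R' M'] [∀ i, AddCommGroup (M₀' i)] [∀ i, Module R' (M₀' i)]
  [∀ j, AddCommGroup (M₁' j)] [∀ j, Module R' (M₁' j)]

theorem chase (r : M →ₗ[R] (∀ i, M₀ i)) (d : (∀ i, M₀ i) →ₗ[R] (∀ j, M₁ j))
    (hr : Function.Injective r) (hex : Function.Exact r d)
    (r' : M' →ₗ[R'] (∀ i, M₀' i)) (d' : (∀ i, M₀' i) →ₗ[R'] (∀ j, M₁' j))
    (hr' : Function.Injective r') (hex' : Function.Exact r' d')
    (u : M →+ M') (hu : ∀ (a : R) (m : M), u (a • m) = algebraMap R R' a • u m)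
    (u₀ : ∀ i, M₀ i →+ M₀' i)
    (hu₀ : ∀ i (a : R) (m : M₀ i), u₀ i (a • m) = algebraMap R R' a • u₀ i m)
    (u₁ : ∀ j, M₁ j →+ M₁' j)
    (hu₁ : ∀ j (a : R) (m : M₁ j), u₁ j (a • m) = algebraMap R R' a • u₁ j m)
    (hur : ∀ m, r' (u m) = Uprod u₀ (r m))
    (hud : ∀ c, d' (Uprod u₀ c) = Uprod u₁ (d c))
    (h₀ : ∀ i, Function.Bijective (kap (u₀ i) (hu₀ i)))
    (h₁ : ∀ j, Function.Injective (kap (u₁ j) (hu₁ j))) :
    (KerBC R' d → Function.Bijective (kap u hu)) ∧
      (Function.Surjective (kap u hu) ↔ KerSurj R' d) := by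
  have hU₀i := kap_Uprod_injective u₀ hu₀ (fun i => (h₀ i).1)
  have hU₀s := kap_Uprod_surjective u₀ hu₀ (fun i => (h₀ i).2)
  have hU₁i := kap_Uprod_injective u₁ hu₁ h₁
  -- naturality
  have n0 : ∀ x, r' (kap u hu x) = kap (Uprod u₀) (Uprod_smul u₀ hu₀) (r.lTensor R' x) :=
    fun x => kap_nat u hu (Uprod u₀) (Uprod_smul u₀ hu₀) r r' hur x
  have n1 : ∀ t, d' (kap (Uprod u₀) (Uprod_smul u₀ hu₀) t) =
      kap (Uprod u₁) (Uprod_smul u₁ hu₁) (d.lTensor R' t) :=
    fun t => kap_nat (Uprod u₀) (Uprod_smul u₀ hu₀) (Uprod u₁) (Uprod_smul u₁ hu₁) d d' hud t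
  -- `M ≃ ker d`
  have hrk : ∀ m, r m ∈ LinearMap.ker d := fun m => hex.apply_apply_eq_zero m
  let rk : M →ₗ[R] LinearMap.ker d := LinearMap.codRestrict (LinearMap.ker d) r hrk
  have hrkb : Function.Bijective rk := by
    constructor
    · intro m m' hmm
      exact hr (congrArg Subtype.val hmm)
    · intro c
      obtain ⟨m, hm⟩ := (hex c.1).1 (LinearMap.mem_ker.1 c.2)
      exact ⟨m, Subtype.ext hm⟩
  let rke : M ≃ₗ[R] LinearMap.ker d := LinearEquiv.ofBijective rk hrkb
  have hrkB : Function.Bijective (rk.lTensor R') := by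
    have : rk.lTensor R' = (LinearEquiv.lTensor R' rke).toLinearMap := rfl
    rw [this]
    exact (LinearEquiv.lTensor R' rke).bijective
  have hfac : ∀ x, r.lTensor R' x = (LinearMap.ker d).subtype.lTensor R' (rk.lTensor R' x) := by
    intro x
    rw [← LinearMap.comp_apply, ← LinearMap.lTensor_comp]
    rfl
  have hsurj : KerSurj R' d → Function.Surjective (kap u hu) := by
    intro hS m'
    obtain ⟨t, ht⟩ := hU₀s (r' m')
    have h1 : d.lTensor R' t = 0 := by
      apply hU₁i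
      rw [← n1, ht, hex'.apply_apply_eq_zero, map_zero]
    obtain ⟨s, hs⟩ := hS t h1
    obtain ⟨x, hx⟩ := hrkB.2 s
    refine ⟨x, hr' ?_⟩
    rw [n0, hfac, hx, hs, ht]
  refine ⟨fun h => ⟨?_, hsurj h.2⟩, ⟨fun h t ht => ?_, hsurj⟩⟩
  · intro x y hxy
    have h2 : r.lTensor R' x = r.lTensor R' y := by
      apply hU₀i
      rw [← n0, ← n0, hxy]
    rw [hfac, hfac] at h2
    exact hrkB.1 (h.1 h2)
  · have h1 : d' (kap (Uprod u₀) (Uprod_smul u₀ hu₀) t) = 0 := by
      rw [n1, ht, map_zero]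
    obtain ⟨m', hm'⟩ := (hex' _).1 h1
    obtain ⟨x, rfl⟩ := h m'
    refine ⟨rk.lTensor R' x, ?_⟩
    rw [← hfac]
    apply hU₀i
    rw [← n0, hm']

end chase

end Groth.Agent.Lib.Helper21.BC0Chase
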