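import Mathlib
import Groth.Agent.Lib.Helper21ExtMap
import Groth.Prelude.Def_ega3

/-!
# Functoriality of `CohIII.TFun` in the complex: quasi-isomorphisms, extension, restriction (helper21)
-/
set_option autoImplicit false
universe u
open CategoryTheory CategoryTheory.Limits MonoidalCategory

namespace Groth.Agent.Lib.Helper21.TFunE

open Groth.Agent.Lib.Helper21.ExtMap

section Gen

variable {V W : Type*} [Category V] [Category W] [HasZeroMorphisms V] [HasZeroMorphisms W]
  [HasZeroObject V] [HasZeroObject W] {ι ι' : Type*} {c : ComplexShape ι} {c' : ComplexShape ι'}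
  (e : c.Embedding c')

/-- naturality of `mapExtendIso` in the functor -/
lemma mapExtendIso_natural {G G' : V ⥤ W} [G.PreservesZeroMorphisms] [G'.PreservesZeroMorphisms]
    (α : G ⟶ G') (K : HomologicalComplex V c) :
    (NatTrans.mapHomologicalComplex α c').app (K.extend e) ≫ (mapExtendIso e G' K).hom =
      (mapExtendIso e G K).hom ≫
        HomologicalComplex.extendMap ((NatTrans.mapHomologicalComplex α c).app K) e := by
  apply HomologicalComplex.hom_ext
  intro i'
  change α.app (HomologicalComplex.extend.X K (e.r i')) ≫ (compIso G' K (e.r i')).hom =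
    (compIso G K (e.r i')).hom ≫
      HomologicalComplex.extend.mapX ((NatTrans.mapHomologicalComplex α c).app K) (e.r i')
  generalize e.r i' = o
  match o with
  | some i =>
    change α.app (K.X i) ≫ 𝟙 _ = 𝟙 _ ≫ α.app (K.X i)
    rw [Category.comp_id, Category.id_comp]
  | none =>
    apply IsZero.eq_of_tgt
    exact isZero_zero W

end Gen

section T

variable {A : Type u} [CommRing A] {ι : Type} {c : ComplexShape ι}

/-- `M ↦ P ⊗_A M` as a functor to complexes -/
noncomputable def tcF (P : HomologicalComplex (ModuleCat.{u} A) c) :
    ModuleCat.{u} A ⥤ HomologicalComplex (ModuleCat.{u} A) c where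
  obj M := CohIII.tensorObj P M
  map g := CohIII.tensorMap P g
  map_id M := by
    have h : (tensoringRight (ModuleCat.{u} A)).map (𝟙 M) = 𝟙 _ :=
      (tensoringRight (ModuleCat.{u} A)).map_id M
    unfold CohIII.tensorMap
    rw [h, NatTrans.mapHomologicalComplex_id]
    rfl
  map_comp g h := by
    have e : (tensoringRight (ModuleCat.{u} A)).map (g ≫ h) =
        (tensoringRight _).map g ≫ (tensoringRight _).map h :=
      (tensoringRight (ModuleCat.{u} A)).map_comp g h
    unfold CohIII.tensorMap
    rw [e, NatTrans.mapHomologicalComplex_comp, NatTrans.comp_app]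

/-- `TFun P p` is `tcF P` followed by homology -/
noncomputable def TFunIso (P : HomologicalComplex (ModuleCat.{u} A) c) (p : ι) :
    CohIII.TFun P p ≅ tcF P ⋙ HomologicalComplex.homologyFunctor _ c p :=
  NatIso.ofComponents (fun _ => Iso.refl _) (by
    intro M N g
    exact (Category.comp_id _).trans (Category.id_comp _).symm)

/-- a map of complexes induces a natural transformation -/
noncomputable def tcFMap {P P' : HomologicalComplex (ModuleCat.{u} A) c} (ψ : P ⟶ P') :
    tcF P ⟶ tcF P' where
  app M := ((tensorRight M).mapHomologicalComplex c).map ψ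
  naturality M N g :=
    (NatTrans.mapHomologicalComplex_naturality ((tensoringRight (ModuleCat.{u} A)).map g) ψ).symm

/-- a map of complexes which is universally a quasi-isomorphism in degree `p` induces an
isomorphism of the functors `T_p` -/
noncomputable def TFunIsoOfQuasiIsoAt {P P' : HomologicalComplex (ModuleCat.{u} A) c} (ψ : P ⟶ P')
    (p : ι) (h : ∀ M : ModuleCat.{u} A,
      QuasiIsoAt (((tensorRight M).mapHomologicalComplex c).map ψ) p) :
    CohIII.TFun P p ≅ CohIII.TFun P' p :=
  haveI : IsIso (Functor.whiskerRight (tcFMap ψ) (HomologicalComplex.homologyFunctor _ c p)) := by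
    apply (config := { allowSynthFailures := true }) NatIso.isIso_of_isIso_app
    intro M
    exact (quasiIsoAt_iff_isIso_homologyMap _ _).1 (h M)
  TFunIso P p ≪≫ asIso (Functor.whiskerRight (tcFMap ψ) (HomologicalComplex.homologyFunctor _ c p))
    ≪≫ (TFunIso P' p).symm

/-- an isomorphism of complexes induces an isomorphism of the functors `T_p` -/
noncomputable def TFunIsoOfIso {P P' : HomologicalComplex (ModuleCat.{u} A) c} (α : P ≅ P')
    (p : ι) : CohIII.TFun P p ≅ CohIII.TFun P' p :=
  TFunIsoOfQuasiIsoAt α.hom p (fun M =>
    (quasiIsoAt_iff_isIso_homologyMap _ _).2 (by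
      have h1 : IsIso (((tensorRight M).mapHomologicalComplex c).map α.hom) := inferInstance
      exact Functor.map_isIso (HomologicalComplex.homologyFunctor _ c p) _))

variable {ι' : Type} {c' : ComplexShape ι'} (e : c.Embedding c')

/-- tensoring commutes with extension by zero, naturally in the module -/
noncomputable def tcFExtendIso (K : HomologicalComplex (ModuleCat.{u} A) c) :
    tcF (K.extend e) ≅ tcF K ⋙ e.extendFunctor (ModuleCat.{u} A) :=
  NatIso.ofComponents (fun M => mapExtendIso e (tensorRight M) K) (by
    intro M N g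
    exact mapExtendIso_natural e ((tensoringRight (ModuleCat.{u} A)).map g) K)

/-- homology of the extension, naturally -/
noncomputable def extendHomologyNatIso {j : ι} {j' : ι'} (hj' : e.f j = j') :
    e.extendFunctor (ModuleCat.{u} A) ⋙ HomologicalComplex.homologyFunctor _ c' j' ≅
      HomologicalComplex.homologyFunctor _ c j :=
  NatIso.ofComponents (fun K => K.extendHomologyIso e hj') (by
    intro K L φ
    exact HomologicalComplex.extendHomologyIso_hom_naturality φ e hj')

/-- `T_{j'}` of the extension by zero is `T_j` -/
noncomputable def TFunExtendIso (K : HomologicalComplex (ModuleCat.{u} A) c) {j : ι} {j' : ι'}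
    (hj' : e.f j = j') : CohIII.TFun (K.extend e) j' ≅ CohIII.TFun K j :=
  TFunIso (K.extend e) j' ≪≫
    Functor.isoWhiskerRight (tcFExtendIso e K) (HomologicalComplex.homologyFunctor _ c' j') ≪≫
    Functor.associator _ _ _ ≪≫
    Functor.isoWhiskerLeft (tcF K) (extendHomologyNatIso e hj') ≪≫ (TFunIso K j).symm

variable [e.IsRelIff]

/-- tensoring commutes with restriction -/
noncomputable def tcFRestrictionIso (K : HomologicalComplex (ModuleCat.{u} A) c') :
    tcF (K.restriction e) ≅ tcF K ⋙ e.restrictionFunctor (ModuleCat.{u} A) :=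
  NatIso.ofComponents (fun _ => Iso.refl _) (by
    intro M N g
    exact (Category.comp_id _).trans (Category.id_comp _).symm)

/-- homology of the restriction, naturally -/
noncomputable def restrictionHomologyNatIso (i j k : ι) (hi : c.prev j = i) (hk : c.next j = k)
    (hi' : c'.prev (e.f j) = e.f i) (hk' : c'.next (e.f j) = e.f k) :
    e.restrictionFunctor (ModuleCat.{u} A) ⋙ HomologicalComplex.homologyFunctor _ c j ≅
      HomologicalComplex.homologyFunctor _ c' (e.f j) :=
  Functor.isoWhiskerLeft _ (HomologicalComplex.homologyFunctorIso' _ c i j k hi hk) ≪≫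
    (Functor.associator _ _ _).symm ≪≫
    Functor.isoWhiskerRight
      (NatIso.ofComponents (fun K => Iso.refl _) :
        e.restrictionFunctor (ModuleCat.{u} A) ⋙
            HomologicalComplex.shortComplexFunctor' _ c i j k ≅
          HomologicalComplex.shortComplexFunctor' _ c' (e.f i) (e.f j) (e.f k))
      (ShortComplex.homologyFunctor _) ≪≫
    (HomologicalComplex.homologyFunctorIso' _ c' (e.f i) (e.f j) (e.f k) hi' hk').symm

/-- `T_j` of the restriction is `T_{e j}` -/
noncomputable def TFunRestrictionIso (K : HomologicalComplex (ModuleCat.{u} A) c')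
    (i j k : ι) (hi : c.prev j = i) (hk : c.next j = k)
    (hi' : c'.prev (e.f j) = e.f i) (hk' : c'.next (e.f j) = e.f k) :
    CohIII.TFun (K.restriction e) j ≅ CohIII.TFun K (e.f j) :=
  TFunIso (K.restriction e) j ≪≫
    Functor.isoWhiskerRight (tcFRestrictionIso e K) (HomologicalComplex.homologyFunctor _ c j) ≪≫
    Functor.associator _ _ _ ≪≫
    Functor.isoWhiskerLeft (tcF K) (restrictionHomologyNatIso e i j k hi hk hi' hk') ≪≫
    (TFunIso K (e.f j)).symm

end T

end Groth.Agent.Lib.Helper21.TFunE
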