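import Mathlib
import Groth.Agent.Lib.Helper21MumC
import Groth.Agent.Lib.Helper21TFunE

/-!
# Mumford's lemma, natural in the module (helper21)
-/
set_option autoImplicit false
universe u
open CategoryTheory CategoryTheory.Limits MonoidalCategory
attribute [local instance] HasDerivedCategory.standard

namespace Groth.Agent.Lib.Helper21.TFunF

open DerivedCategory Groth.Agent.Lib.Helper1.Tor Groth.Agent.Lib.Helper21.MumB
  Groth.Agent.Lib.Helper21.MumC Groth.Agent.Lib.Helper21.TFunE

variable {R : Type u} [CommRing R]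

/-- reindexing of `T_j` along an equality of indices -/
noncomputable def TFunCongr {ι : Type} {c : ComplexShape ι}
    (K : HomologicalComplex (ModuleCat.{u} R) c) {j j' : ι} (h : j = j') :
    CohIII.TFun K j ≅ CohIII.TFun K j' := eqToIso (by rw [h])

/-- transfer of quasi-isomorphisms from `M ⊗ -` to `- ⊗ M` -/
lemma quasiIsoAt_tensorRight {ι : Type} {c : ComplexShape ι}
    {K K' : HomologicalComplex (ModuleCat.{u} R) c} (ψ : K ⟶ K') (M : ModuleCat.{u} R) (j : ι)
    (h : QuasiIsoAt (((tensorLeft M).mapHomologicalComplex c).map ψ) j) :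
    QuasiIsoAt (((tensorRight M).mapHomologicalComplex c).map ψ) j := by
  rw [quasiIsoAt_iff_isIso_homologyMap] at h ⊢
  let α : (tensorLeft M).mapHomologicalComplex c ⋙ HomologicalComplex.homologyFunctor _ c j ≅
      (tensorRight M).mapHomologicalComplex c ⋙ HomologicalComplex.homologyFunctor _ c j :=
    Functor.isoWhiskerRight
      (NatIso.mapHomologicalComplex (BraidedCategory.tensorLeftIsoTensorRight M) c) _
  exact (NatIso.isIso_map_iff α ψ).1 h

/-- the chain complex associated with a cochain complex -/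
noncomputable abbrev toChain (L : DRing.Cx R) : ChainComplex (ModuleCat.{u} R) ℤ :=
  L.restriction ComplexShape.embeddingDownIntUpInt

/-- `T_{-j}` of the associated chain complex is `T^j` -/
noncomputable def TFunToChainIso (L : DRing.Cx R) (j : ℤ) :
    CohIII.TFun (toChain L) (-j) ≅ CohIII.TFun L j :=
  TFunRestrictionIso ComplexShape.embeddingDownIntUpInt L (-j + 1) (-j) (-j - 1)
    (by simp) (by simp)
    (by simp [ComplexShape.embeddingDownIntUpInt]; ring)
    (by simp [ComplexShape.embeddingDownIntUpInt]; ring) ≪≫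
  TFunCongr L (by simp [ComplexShape.embeddingDownIntUpInt])

variable (C : CochainComplex (ModuleCat.{u} R) ℕ)

/-- **Mumford's lemma**, natural in the module. -/
theorem main_natural [IsNoetherianRing R] (hflat : ∀ n, Module.Flat R (C.X n))
    (hfin : ∀ p, Module.Finite R (C.homology p))
    (N : ℕ) (hN : ∀ (M : ModuleCat.{u} R) (p : ℕ), N ≤ p → (TL M C).ExactAt p)
    (a b : ℤ) (hb : ∀ p : ℕ, b < (p : ℤ) → C.ExactAt p)
    (ha : ∀ (m : Ideal R) [m.IsMaximal] (p : ℕ), (p : ℤ) < a →
      (TL (ModuleCat.of R (R ⧸ m)) C).ExactAt p) :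
    ∃ L : DRing.Cx R, DRing.VanishesOutside L a b ∧ DRing.TermwiseFiniteProjective L ∧
      ∀ p : ℕ, Nonempty (CohIII.TFun C p ≅ CohIII.TFun L (p : ℤ)) := by
  obtain ⟨L, ψ, hL, hLf, hψ⟩ := exists_perfect_univ (CZ C) (termwiseFlat_CZ C hflat)
    (finite_homology_CZ C hfin) ((N : ℤ) - 1)
    (fun M j hj => by
      obtain ⟨n, rfl⟩ := Int.eq_ofNat_of_zero_le (show 0 ≤ j by lia)
      exact (exactAt_TC_CZ_iff C M n).2 (hN M n (by lia)))
    a b
    (fun j hj => by
      by_cases h0 : 0 ≤ j
      · obtain ⟨n, rfl⟩ := Int.eq_ofNat_of_zero_le h0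
        exact (exactAt_CZ_iff C n).2 (hb n hj)
      · exact exactAt_CZ_neg C j (by lia))
    (fun m _ j hj => by
      by_cases h0 : 0 ≤ j
      · obtain ⟨n, rfl⟩ := Int.eq_ofNat_of_zero_le h0
        exact (exactAt_TC_CZ_iff C _ n).2 (ha m n hj)
      · exact exactAt_TC_CZ_neg C _ j (by lia))
  refine ⟨L, hL, hLf, fun p => ?_⟩
  have hq : ∀ M : ModuleCat.{u} R,
      QuasiIsoAt (((tensorRight M).mapHomologicalComplex (ComplexShape.up ℤ)).map ψ) (p : ℤ) := by
    intro M
    have := hψ M
    have hq : QuasiIso ((TC M).map ψ) :=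
      (DerivedCategory.isIso_Q_map_iff_quasiIso (φ := (TC M).map ψ)).1 this
    exact quasiIsoAt_tensorRight ψ M (p : ℤ) (hq.quasiIsoAt _)
  exact ⟨(TFunExtendIso eN C (rfl : eN.f p = (p : ℤ))).symm ≪≫
    (TFunIsoOfQuasiIsoAt ψ (p : ℤ) hq).symm⟩

/-- **Mumford's lemma**, natural in the module, with a chain complex. -/
theorem main_natural_chain [IsNoetherianRing R] (hflat : ∀ n, Module.Flat R (C.X n))
    (hfin : ∀ p, Module.Finite R (C.homology p))
    (N : ℕ) (hN : ∀ (M : ModuleCat.{u} R) (p : ℕ), N ≤ p → (TL M C).ExactAt p) :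
    ∃ P : ChainComplex (ModuleCat.{u} R) ℤ,
      (∀ i, Module.Finite R (P.X i) ∧ Module.Projective R (P.X i)) ∧
      (∀ i : ℤ, 0 < i ∨ i < -(N : ℤ) → IsZero (P.X i)) ∧
      ∀ p : ℕ, Nonempty (CohIII.TFun C p ≅ CohIII.TFun P (-(p : ℤ))) := by
  obtain ⟨L, hL, hLf, hiso⟩ := main_natural C hflat hfin N hN 0 (N : ℤ)
    (fun p hp => by
      have h := hN (ModuleCat.of R R) p (by exact_mod_cast hp.le)
      have e1 : TL (ModuleCat.of R R) C ≅
          ((𝟭 (ModuleCat.{u} R)).mapHomologicalComplex (ComplexShape.up ℕ)).obj C :=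
        (NatIso.mapHomologicalComplex (MonoidalCategory.leftUnitorNatIso (ModuleCat.{u} R))
          (ComplexShape.up ℕ)).app C
      have e2 : ((𝟭 (ModuleCat.{u} R)).mapHomologicalComplex (ComplexShape.up ℕ)).obj C ≅ C :=
        HomologicalComplex.Hom.isoOfComponents (fun i => Iso.refl _) (by
          intro i j _
          exact (Category.id_comp _).trans (Category.comp_id _).symm)
      exact h.of_iso (e1 ≪≫ e2))
    (fun m _ p hp => by lia)
  refine ⟨toChain L, fun i => hLf (-i), fun i hi => hL (-i) (by lia), fun p => ?_⟩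
  obtain ⟨e⟩ := hiso p
  exact ⟨e ≪≫ (TFunToChainIso L (p : ℤ)).symm⟩

end Groth.Agent.Lib.Helper21.TFunF
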