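import Mathlib
import Groth.Agent.Lib.Helper21TFunF
import Groth.Agent.Lib.Helper1LocalCx

/-!
# The natural Mumford complex also computes base-changed homology (helper21)
-/
set_option autoImplicit false
universe u
open CategoryTheory CategoryTheory.Limits MonoidalCategory
attribute [local instance] HasDerivedCategory.standard

namespace Groth.Agent.Lib.Helper21.FibB

open DerivedCategory Pretriangulated Groth.Agent.Lib.Helper1.Tor Groth.Agent.Lib.Helper21.MumB
  Groth.Agent.Lib.Helper21.MumC Groth.Agent.Lib.Helper21.TFunE Groth.Agent.Lib.Helper21.TFunF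
  Groth.Agent.Lib.Helper21.ExtMap Groth.Agent.Lib.Helper1.LocalCx Groth.Agent.Lib.Helper1.LDer

variable {R : Type u} [CommRing R]

/-- a universally quasi-isomorphic map stays a quasi-isomorphism after extension of scalars -/
theorem quasiIso_bc {L K : DRing.Cx R} (ψ : L ⟶ K)
    (hψ : ∀ M : ModuleCat.{u} R, IsIso (Q.map ((TC M).map ψ)))
    (B : Type u) [CommRing B] [Algebra R B] :
    QuasiIso (((ModuleCat.extendScalars.{u, u, u} (algebraMap R B)).mapHomologicalComplex
      (ComplexShape.up ℤ)).map ψ) := by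
  let MB : ModuleCat.{u} R :=
    (ModuleCat.restrictScalars.{u} (algebraMap R B)).obj (ModuleCat.of B B)
  have h1 := hψ MB
  have hT := DerivedCategory.mappingCone_triangle_distinguished ((TC MB).map ψ)
  have hz : IsZero (Q.obj (CochainComplex.mappingCone ((TC MB).map ψ))) :=
    (Triangle.isZero₃_iff_isIso₁ _ hT).2 h1
  have hex : ∀ j : ℤ, (CochainComplex.mappingCone ((TC MB).map ψ)).ExactAt j :=
    Groth.Agent.Lib.Helper1.Tor.exactAt_of_isZero_Q _ hz
  have e := CochainComplex.mappingCone.mapHomologicalComplexIso ψ (T MB)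
  have hex2 : ∀ j : ℤ, ((TC MB).obj (CochainComplex.mappingCone ψ)).ExactAt j :=
    fun j => (hex j).of_iso e.symm
  have hex3 : ∀ j : ℤ, ((bcCx (algebraMap R B)).obj (CochainComplex.mappingCone ψ)).ExactAt j :=
    fun j => (exactAt_bc_iff_TC (algebraMap R B) _ j).2 (hex2 j)
  have e' := CochainComplex.mappingCone.mapHomologicalComplexIso ψ
    (ModuleCat.extendScalars.{u, u, u} (algebraMap R B))
  have hex4 : ∀ j : ℤ, (CochainComplex.mappingCone
      (((ModuleCat.extendScalars.{u, u, u} (algebraMap R B)).mapHomologicalComplex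
        (ComplexShape.up ℤ)).map ψ)).ExactAt j :=
    fun j => (hex3 j).of_iso e'
  have hz4 := Groth.Agent.Lib.Helper1.Tor.isZero_Q_of_exactAt _ hex4
  have hT' := DerivedCategory.mappingCone_triangle_distinguished
    (((ModuleCat.extendScalars.{u, u, u} (algebraMap R B)).mapHomologicalComplex
      (ComplexShape.up ℤ)).map ψ)
  have h5 := (Triangle.isZero₃_iff_isIso₁ _ hT').1 hz4
  exact (DerivedCategory.isIso_Q_map_iff_quasiIso (φ := ((ModuleCat.extendScalars.{u, u, u} (algebraMap R B)).mapHomologicalComplex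
      (ComplexShape.up ℤ)).map ψ)).1 h5

variable (C : CochainComplex (ModuleCat.{u} R) ℕ)

/-- **Mumford's lemma**, natural in the module and compatible with base change -/
theorem main_natural_chain_bc [IsNoetherianRing R] (hflat : ∀ n, Module.Flat R (C.X n))
    (hfin : ∀ p, Module.Finite R (C.homology p))
    (N : ℕ) (hN : ∀ (M : ModuleCat.{u} R) (p : ℕ), N ≤ p → (TL M C).ExactAt p) :
    ∃ P : ChainComplex (ModuleCat.{u} R) ℤ,
      (∀ i, Module.Finite R (P.X i) ∧ Module.Projective R (P.X i)) ∧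
      (∀ i : ℤ, 0 < i ∨ i < -(N : ℤ) → IsZero (P.X i)) ∧
      (∀ p : ℕ, Nonempty (CohIII.TFun C p ≅ CohIII.TFun P (-(p : ℤ)))) ∧
      ∀ (B : Type u) [CommRing B] [Algebra R B] (p : ℕ),
        Nonempty ((CohIII.bcCx (algebraMap R B) C).homology p ≅
          (CohIII.bcCx (algebraMap R B) P).homology (-(p : ℤ))) := by
  have hb : ∀ p : ℕ, (N : ℤ) < (p : ℤ) → C.ExactAt p := fun p hp => by
    have h := hN (ModuleCat.of R R) p (by exact_mod_cast hp.le)
    have e1 : TL (ModuleCat.of R R) C ≅
        ((𝟭 (ModuleCat.{u} R)).mapHomologicalComplex (ComplexShape.up ℕ)).obj C :=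
      (NatIso.mapHomologicalComplex (MonoidalCategory.leftUnitorNatIso (ModuleCat.{u} R))
        (ComplexShape.up ℕ)).app C
    have e2 : ((𝟭 (ModuleCat.{u} R)).mapHomologicalComplex (ComplexShape.up ℕ)).obj C ≅ C :=
      HomologicalComplex.Hom.isoOfComponents (fun i => Iso.refl _) (by
        intro i j _
        exact (Category.id_comp _).trans (Category.comp_id _).symm)
    exact h.of_iso (e1 ≪≫ e2)
  obtain ⟨L, ψ, hL, hLf, hψ⟩ := exists_perfect_univ (CZ C) (termwiseFlat_CZ C hflat)
    (finite_homology_CZ C hfin) ((N : ℤ) - 1)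
    (fun M j hj => by
      obtain ⟨n, rfl⟩ := Int.eq_ofNat_of_zero_le (show 0 ≤ j by lia)
      exact (exactAt_TC_CZ_iff C M n).2 (hN M n (by lia)))
    0 (N : ℤ)
    (fun j hj => by
      by_cases h0 : 0 ≤ j
      · obtain ⟨n, rfl⟩ := Int.eq_ofNat_of_zero_le h0
        exact (exactAt_CZ_iff C n).2 (hb n hj)
      · exact exactAt_CZ_neg C j (by lia))
    (fun m _ j hj => by
      by_cases h0 : 0 ≤ j
      · obtain ⟨n, rfl⟩ := Int.eq_ofNat_of_zero_le h0
        exact absurd hj (by lia)
      · exact exactAt_TC_CZ_neg C _ j (by lia))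
  refine ⟨toChain L, fun i => hLf (-i), fun i hi => hL (-i) (by lia), fun p => ?_,
    fun B _ _ p => ?_⟩
  · have hq : ∀ M : ModuleCat.{u} R,
        QuasiIsoAt (((tensorRight M).mapHomologicalComplex (ComplexShape.up ℤ)).map ψ) (p : ℤ) := by
      intro M
      have := hψ M
      have hq : QuasiIso ((TC M).map ψ) :=
        (DerivedCategory.isIso_Q_map_iff_quasiIso (φ := (TC M).map ψ)).1 this
      exact quasiIsoAt_tensorRight ψ M (p : ℤ) (hq.quasiIsoAt _)
    exact ⟨(TFunExtendIso eN C (rfl : eN.f p = (p : ℤ))).symm ≪≫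
      (TFunIsoOfQuasiIsoAt ψ (p : ℤ) hq).symm ≪≫ (TFunToChainIso L (p : ℤ)).symm⟩
  · let G := ModuleCat.extendScalars.{u, u, u} (algebraMap R B)
    have hq := quasiIso_bc ψ hψ B
    have hq' : QuasiIsoAt ((G.mapHomologicalComplex (ComplexShape.up ℤ)).map ψ) (p : ℤ) :=
      hq.quasiIsoAt _
    -- step 1: extension
    have e1 : ((G.mapHomologicalComplex (ComplexShape.up ℤ)).obj (CZ C)).homology (p : ℤ) ≅
        ((G.mapHomologicalComplex (ComplexShape.up ℕ)).obj C).homology p :=
      (HomologicalComplex.homologyFunctor _ _ (p : ℤ)).mapIso (mapExtendIso eN G C) ≪≫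
        ((G.mapHomologicalComplex (ComplexShape.up ℕ)).obj C).extendHomologyIso eN
          (rfl : eN.f p = (p : ℤ))
    -- step 2: quasi-isomorphism
    have e2 : ((G.mapHomologicalComplex (ComplexShape.up ℤ)).obj L).homology (p : ℤ) ≅
        ((G.mapHomologicalComplex (ComplexShape.up ℤ)).obj (CZ C)).homology (p : ℤ) :=
      isoOfQuasiIsoAt ((G.mapHomologicalComplex (ComplexShape.up ℤ)).map ψ) (p : ℤ)
    -- step 3: restriction to a chain complex
    have e3 : (CohIII.bcCx (algebraMap R B) (toChain L)).homology (-(p : ℤ)) ≅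
        ((G.mapHomologicalComplex (ComplexShape.up ℤ)).obj L).homology (p : ℤ) :=
      (restrictionHomologyNatIso (A := B) ComplexShape.embeddingDownIntUpInt
        (-(p : ℤ) + 1) (-(p : ℤ)) (-(p : ℤ) - 1) (by simp) (by simp)
        (by simp [ComplexShape.embeddingDownIntUpInt]; ring)
        (by simp [ComplexShape.embeddingDownIntUpInt]; ring)).app
          ((G.mapHomologicalComplex (ComplexShape.up ℤ)).obj L) ≪≫
      eqToIso (by simp [ComplexShape.embeddingDownIntUpInt])
    exact ⟨e1.symm ≪≫ e2.symm ≪≫ e3.symm⟩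

end Groth.Agent.Lib.Helper21.FibB
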