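import Mathlib
import Groth.Agent.Lib.Helper21FibB
import Groth.Agent.Lib.Helper21BC0Alg
import Groth.Agent.S2380

/-!
# Helper21: the universal Mumford complex and the kernel of the first differential

* `ker_bijective_of_quasiIsoAt`: a quasi-isomorphism at `j` between complexes of modules whose incoming
  differentials at `j` vanish induces a bijection on the kernels of the outgoing differentials;
* `exact_d_pOpcycles`: `K_i → K_j → opcycles_j → 0` is exact;
* `kerBC_of_projective_opcycles`: `KerBC` for `d : Q_0 → Q_{-1}` when `Q_{-1}` and `opcycles_{-1}` are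
  projective;
* `main_natural_chain_bc0`: Mumford's complex `P` of a cochain complex `C` of flat modules over a
  Noetherian ring, with the additional property that for every `R`-algebra `A` and `A`-algebra `B` the
  conditions `KerSurj B`, `KerBC B` for the first differentials of `C ⊗ A` and `P ⊗ A` are equivalent.
-/
set_option autoImplicit false
set_option linter.style.haveILetI false
universe u
open CategoryTheory CategoryTheory.Limits MonoidalCategory TensorProduct
attribute [local instance] HasDerivedCategory.standard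

namespace Groth.Agent.Lib.Helper21.BC0Cx

open DerivedCategory Groth.Agent.Lib.Helper21.MumB Groth.Agent.Lib.Helper21.MumC
  Groth.Agent.Lib.Helper21.TFunE Groth.Agent.Lib.Helper21.TFunF Groth.Agent.Lib.Helper21.FibB
  Groth.Agent.Lib.Helper21.BC0Alg Groth.Agent.Lib.Helper21.ExtMap

section general
variable {A : Type u} [CommRing A] {ι : Type} {c : ComplexShape ι}

/-- elements killed by the differential come from cycles -/
lemma exists_cycle (K : HomologicalComplex (ModuleCat.{u} A) c) (j k : ι) (hjk : c.next j = k)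
    (z : K.X j) (hz : K.d j k z = 0) : ∃ w : K.cycles j, K.iCycles j w = z := by
  have hS : (ShortComplex.mk (K.iCycles j) (K.d j k) (K.iCycles_d j k)).Exact :=
    ShortComplex.exact_of_f_is_kernel _ (K.cyclesIsKernel j k hjk)
  have := (ShortComplex.ShortExact.moduleCat_exact_iff_function_exact _).1 hS
  exact (this z).1 hz

lemma iCycles_injective (K : HomologicalComplex (ModuleCat.{u} A) c) (j : ι) :
    Function.Injective (K.iCycles j) :=
  (ModuleCat.mono_iff_injective _).1 inferInstance

lemma d_iCycles_apply (K : HomologicalComplex (ModuleCat.{u} A) c) (j k : ι) (w : K.cycles j) :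
    K.d j k (K.iCycles j w) = 0 := by
  have := ConcreteCategory.congr_hom (K.iCycles_d j k) w
  exact this

/-- a quasi-isomorphism at `j` between complexes whose incoming differentials at `j` vanish is
bijective on the kernels of the outgoing differentials -/
theorem ker_bijective_of_quasiIsoAt {K K' : HomologicalComplex (ModuleCat.{u} A) c} (f : K ⟶ K')
    (i j k : ι) (hi : c.prev j = i) (hjk : c.next j = k) (h0 : K.d i j = 0) (h0' : K'.d i j = 0)
    (hq : QuasiIsoAt f j) :
    (∀ y : K.X j, K.d j k y = 0 → f.f j y = 0 → y = 0) ∧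
      ∀ z : K'.X j, K'.d j k z = 0 → ∃ y : K.X j, K.d j k y = 0 ∧ f.f j y = z := by
  haveI := K.isIso_homologyπ i j hi h0
  haveI := K'.isIso_homologyπ i j hi h0'
  haveI : IsIso (HomologicalComplex.homologyMap f j) :=
    (quasiIsoAt_iff_isIso_homologyMap f j).1 hq
  have hc : IsIso (HomologicalComplex.cyclesMap f j) := by
    have e : HomologicalComplex.cyclesMap f j =
        K.homologyπ j ≫ HomologicalComplex.homologyMap f j ≫ inv (K'.homologyπ j) := by
      rw [← Category.assoc, HomologicalComplex.homologyπ_naturality, Category.assoc,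
        IsIso.hom_inv_id, Category.comp_id]
    rw [e]
    infer_instance
  have hcb : Function.Bijective (HomologicalComplex.cyclesMap f j) :=
    (ConcreteCategory.isIso_iff_bijective _).1 hc
  have hnat : ∀ w : K.cycles j, K'.iCycles j (HomologicalComplex.cyclesMap f j w) =
      f.f j (K.iCycles j w) := fun w =>
    ConcreteCategory.congr_hom (HomologicalComplex.cyclesMap_i f j) w
  constructor
  · intro y hy hfy
    obtain ⟨w, rfl⟩ := exists_cycle K j k hjk y hy
    have h1 : HomologicalComplex.cyclesMap f j w = 0 := by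
      apply iCycles_injective K' j
      rw [hnat, hfy, map_zero]
    have h2 : w = 0 := hcb.1 (h1.trans (map_zero _).symm)
    rw [h2, map_zero]
  · intro z hz
    obtain ⟨w', rfl⟩ := exists_cycle K' j k hjk z hz
    obtain ⟨w, rfl⟩ := hcb.2 w'
    exact ⟨K.iCycles j w, d_iCycles_apply K j k w, (hnat w).symm⟩

/-- `K_i → K_j → opcycles_j → 0` is exact -/
theorem exact_d_pOpcycles (K : HomologicalComplex (ModuleCat.{u} A) c) (i j : ι)
    (hi : c.prev j = i) :
    Function.Exact (K.d i j).hom (K.pOpcycles j).hom ∧ Function.Surjective (K.pOpcycles j).hom := by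
  have hS : (ShortComplex.mk (K.d i j) (K.pOpcycles j) (K.d_pOpcycles i j)).Exact :=
    ShortComplex.exact_of_g_is_cokernel _ (K.opcyclesIsCokernel i j hi)
  exact ⟨(ShortComplex.ShortExact.moduleCat_exact_iff_function_exact _).1 hS,
    (ModuleCat.epi_iff_surjective _).1 inferInstance⟩

/-- `KerBC` for `d : Q_0 → Q_{-1}` when `Q_{-1}` and `opcycles_{-1}` are projective -/
theorem kerBC_of_projective_opcycles (Q : ChainComplex (ModuleCat.{u} A) ℤ)
    [Module.Projective A (Q.X (-1))] [Module.Projective A (Q.opcycles (-1))]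
    (B : Type u) [CommRing B] [Algebra A B] : KerBC B (Q.d 0 (-1)).hom := by
  obtain ⟨hex, hsurj⟩ := exact_d_pOpcycles Q 0 (-1) (by simp)
  obtain ⟨r, hr⟩ := exists_genInv (Q.d 0 (-1)).hom (Q.pOpcycles (-1)).hom hsurj hex
  exact kerBC_of_genInv _ r hr

end general

section bridge
variable {R : Type u} [CommRing R] (A : Type u) [CommRing A] [Algebra R A]
  (B : Type u) [CommRing B] [Algebra A B]

/-- `KerBC`, `KerSurj` for `extendScalars` of a map and for its `baseChange` are equivalent -/
theorem kerBC_extendScalars_iff {M N : ModuleCat.{u} R} (g : M ⟶ N) :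
    (KerSurj B ((ModuleCat.extendScalars (algebraMap R A)).map g).hom ↔
        KerSurj B (g.hom.baseChange A)) ∧
      (KerBC B ((ModuleCat.extendScalars (algebraMap R A)).map g).hom ↔
        KerBC B (g.hom.baseChange A)) := by
  have c1 := kerBC_congr (B := B) ((ModuleCat.extendScalars (algebraMap R A)).map g).hom
    (g.hom.baseChange A) (Groth.Agent.S2380.bridge R A M) (Groth.Agent.S2380.bridge R A N)
    (fun m => (Groth.Agent.S2380.bridge_naturality R A g m).symm)
  have c2 := kerBC_congr (B := B) (g.hom.baseChange A)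
    ((ModuleCat.extendScalars (algebraMap R A)).map g).hom
    (Groth.Agent.S2380.bridge R A M).symm (Groth.Agent.S2380.bridge R A N).symm
    (fun m => by
      rw [LinearEquiv.eq_symm_apply, Groth.Agent.S2380.bridge_naturality,
        LinearEquiv.apply_symm_apply])
  exact ⟨⟨c1.2, c2.2⟩, ⟨c1.1, c2.1⟩⟩

/-- invariance under isomorphisms of arrows -/
theorem kerBC_extendScalars_congr {M N M' N' : ModuleCat.{u} R} (g : M ⟶ N) (g' : M' ⟶ N')
    (e₀ : M ≅ M') (e₁ : N ≅ N') (comm : g ≫ e₁.hom = e₀.hom ≫ g') :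
    (KerSurj B ((ModuleCat.extendScalars (algebraMap R A)).map g).hom ↔
        KerSurj B ((ModuleCat.extendScalars (algebraMap R A)).map g').hom) ∧
      (KerBC B ((ModuleCat.extendScalars (algebraMap R A)).map g).hom ↔
        KerBC B ((ModuleCat.extendScalars (algebraMap R A)).map g').hom) := by
  let G := ModuleCat.extendScalars.{u, u, u} (algebraMap R A)
  have comm' : g' ≫ e₁.inv = e₀.inv ≫ g := by
    rw [Iso.comp_inv_eq, Category.assoc, comm, Iso.inv_hom_id_assoc]
  have c1 := kerBC_congr (B := B) (G.map g).hom (G.map g').hom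
    (G.mapIso e₀).toLinearEquiv (G.mapIso e₁).toLinearEquiv (fun m => by
      have := ConcreteCategory.congr_hom
        ((G.map_comp g e₁.hom).symm.trans ((congrArg G.map comm).trans (G.map_comp e₀.hom g'))) m
      exact this.symm)
  have c2 := kerBC_congr (B := B) (G.map g').hom (G.map g).hom
    (G.mapIso e₀.symm).toLinearEquiv (G.mapIso e₁.symm).toLinearEquiv (fun m => by
      have := ConcreteCategory.congr_hom
        ((G.map_comp g' e₁.inv).symm.trans ((congrArg G.map comm').trans (G.map_comp e₀.inv g))) m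
      exact this.symm)
  exact ⟨⟨c1.2, c2.2⟩, ⟨c1.1, c2.1⟩⟩

end bridge

section univ
variable {R : Type u} [CommRing R]

lemma bridge_map (A : Type u) [CommRing A] [Algebra R A] {M N : ModuleCat.{u} R} (g : M ⟶ N)
    (y : (ModuleCat.extendScalars.{u, u, u} (algebraMap R A)).obj M) :
    Groth.Agent.S2380.bridge R A N ((ModuleCat.extendScalars.{u, u, u} (algebraMap R A)).map g y) =
      g.hom.lTensor A (Groth.Agent.S2380.bridge R A M y) := by
  rw [Groth.Agent.S2380.bridge_naturality]
  exact congrFun (LinearMap.baseChange_eq_ltensor (A := A) g.hom) _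

lemma map_eq_zero_iff (A : Type u) [CommRing A] [Algebra R A] {M N : ModuleCat.{u} R} (g : M ⟶ N)
    (y : (ModuleCat.extendScalars.{u, u, u} (algebraMap R A)).obj M) :
    (ModuleCat.extendScalars.{u, u, u} (algebraMap R A)).map g y = 0 ↔
      g.hom.lTensor A (Groth.Agent.S2380.bridge R A M y) = 0 := by
  rw [← bridge_map]
  exact ⟨fun h => (congrArg _ h).trans (map_zero (Groth.Agent.S2380.bridge R A N)),
    fun h => (Groth.Agent.S2380.bridge R A N).injective
      (h.trans (map_zero (Groth.Agent.S2380.bridge R A N)).symm)⟩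

/-- a universal quasi-isomorphism induces bijections on the kernels of the first differentials after
every base change -/
theorem kerIso_of_univ {L K : DRing.Cx R} (ψ : L ⟶ K)
    (hψ : ∀ M : ModuleCat.{u} R, IsIso (Q.map ((Groth.Agent.Lib.Helper1.Tor.TC M).map ψ)))
    (hL : IsZero (L.X (-1))) (hK : IsZero (K.X (-1)))
    (A : Type u) [CommRing A] [Algebra R A] :
    KerIso A (L.d 0 1).hom (K.d 0 1).hom (ψ.f 0).hom := by
  let G := ModuleCat.extendScalars.{u, u, u} (algebraMap R A)
  have hq := quasiIso_bc ψ hψ A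
  have h0 : ((G.mapHomologicalComplex (ComplexShape.up ℤ)).obj L).d (-1) 0 = 0 := by
    change G.map (L.d (-1) 0) = 0
    rw [hL.eq_of_src (L.d (-1) 0) 0, G.map_zero]
  have h0' : ((G.mapHomologicalComplex (ComplexShape.up ℤ)).obj K).d (-1) 0 = 0 := by
    change G.map (K.d (-1) 0) = 0
    rw [hK.eq_of_src (K.d (-1) 0) 0, G.map_zero]
  obtain ⟨q1, q2⟩ := ker_bijective_of_quasiIsoAt
    ((G.mapHomologicalComplex (ComplexShape.up ℤ)).map ψ) (-1) 0 1 (by simp) (by simp) h0 h0'
    (hq.quasiIsoAt 0)
  have q1' : ∀ y : G.obj (L.X 0), G.map (L.d 0 1) y = 0 → G.map (ψ.f 0) y = 0 → y = 0 := q1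
  have q2' : ∀ z : G.obj (K.X 0), G.map (K.d 0 1) z = 0 →
      ∃ y : G.obj (L.X 0), G.map (L.d 0 1) y = 0 ∧ G.map (ψ.f 0) y = z := q2
  constructor
  · intro t h1 h2
    have key := q1' ((Groth.Agent.S2380.bridge R A (L.X 0)).symm t)
      ((map_eq_zero_iff A (L.d 0 1) _).2 (by rw [LinearEquiv.apply_symm_apply]; exact h1))
      ((map_eq_zero_iff A (ψ.f 0) _).2 (by rw [LinearEquiv.apply_symm_apply]; exact h2))
    have := congrArg (Groth.Agent.S2380.bridge R A (L.X 0)) key
    exact ((LinearEquiv.apply_symm_apply _ t).symm.trans this).trans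
      (map_zero (Groth.Agent.S2380.bridge R A (L.X 0)))
  · intro t' h1
    obtain ⟨y, hy1, hy2⟩ := q2' ((Groth.Agent.S2380.bridge R A (K.X 0)).symm t')
      ((map_eq_zero_iff A (K.d 0 1) _).2 (by rw [LinearEquiv.apply_symm_apply]; exact h1))
    refine ⟨Groth.Agent.S2380.bridge R A (L.X 0) y, (map_eq_zero_iff A (L.d 0 1) y).1 hy1, ?_⟩
    rw [← bridge_map, hy2, LinearEquiv.apply_symm_apply]

/-- the kernel conditions for the first differentials of `L ⊗ A` and `K ⊗ A` are equivalent -/
theorem kerBC_iff_of_univ {L K : DRing.Cx R} (ψ : L ⟶ K)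
    (hψ : ∀ M : ModuleCat.{u} R, IsIso (Q.map ((Groth.Agent.Lib.Helper1.Tor.TC M).map ψ)))
    (hL : IsZero (L.X (-1))) (hK : IsZero (K.X (-1)))
    (A : Type u) [CommRing A] [Algebra R A] (B : Type u) [CommRing B] [Algebra A B] :
    (KerSurj B ((ModuleCat.extendScalars (algebraMap R A)).map (L.d 0 1)).hom ↔
        KerSurj B ((ModuleCat.extendScalars (algebraMap R A)).map (K.d 0 1)).hom) ∧
      (KerBC B ((ModuleCat.extendScalars (algebraMap R A)).map (L.d 0 1)).hom ↔
        KerBC B ((ModuleCat.extendScalars (algebraMap R A)).map (K.d 0 1)).hom) := by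
  letI : Algebra R B := ((algebraMap A B).comp (algebraMap R A)).toAlgebra
  haveI : IsScalarTower R A B := IsScalarTower.of_algebraMap_eq (fun _ => rfl)
  have hA := kerIso_of_univ ψ hψ hL hK A
  have hB := kerIso_of_univ ψ hψ hL hK B
  have comm : (K.d 0 1).hom ∘ₗ (ψ.f 0).hom = (ψ.f 1).hom ∘ₗ (L.d 0 1).hom := by
    have := ψ.comm 0 1
    exact congrArg ModuleCat.Hom.hom this
  have T := kerSurj_tower B (L.d 0 1).hom (K.d 0 1).hom (ψ.f 0).hom (ψ.f 1).hom comm hA hB
  have e1 := kerBC_extendScalars_iff A B (L.d 0 1)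
  have e2 := kerBC_extendScalars_iff A B (K.d 0 1)
  exact ⟨e1.1.trans (T.1.trans e2.1.symm), e1.2.trans (T.2.trans e2.2.symm)⟩

variable (C : CochainComplex (ModuleCat.{u} R) ℕ)

/-- **Mumford's lemma**, natural in the module, compatible with base change, and with the equivalence
of the kernel conditions for the first differentials after base change -/
theorem main_natural_chain_bc0 [IsNoetherianRing R] (hflat : ∀ n, Module.Flat R (C.X n))
    (hfin : ∀ p, Module.Finite R (C.homology p))
    (N : ℕ) (hN : ∀ (M : ModuleCat.{u} R) (p : ℕ), N ≤ p → (TL M C).ExactAt p) :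
    ∃ P : ChainComplex (ModuleCat.{u} R) ℤ,
      (∀ i, Module.Finite R (P.X i) ∧ Module.Projective R (P.X i)) ∧
      (∀ i : ℤ, 0 < i ∨ i < -(N : ℤ) → IsZero (P.X i)) ∧
      (∀ p : ℕ, Nonempty (CohIII.TFun C p ≅ CohIII.TFun P (-(p : ℤ)))) ∧
      (∀ (B : Type u) [CommRing B] [Algebra R B] (p : ℕ),
        Nonempty ((CohIII.bcCx (algebraMap R B) C).homology p ≅
          (CohIII.bcCx (algebraMap R B) P).homology (-(p : ℤ)))) ∧
      ∀ (A : Type u) [CommRing A] [Algebra R A] (B : Type u) [CommRing B] [Algebra A B],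
        (KerSurj B ((CohIII.bcCx (algebraMap R A) C).d 0 1).hom ↔
            KerSurj B ((CohIII.bcCx (algebraMap R A) P).d 0 (-1)).hom) ∧
          (KerBC B ((CohIII.bcCx (algebraMap R A) C).d 0 1).hom ↔
            KerBC B ((CohIII.bcCx (algebraMap R A) P).d 0 (-1)).hom) := by
  have hb : ∀ p : ℕ, (N : ℤ) < (p : ℤ) → C.ExactAt p := fun p hp => by
    have h := hN (ModuleCat.of R R) p (by exact_mod_cast hp.le)
    have e1 : TL (ModuleCat.of R R) C ≅
        ((𝟭 (ModuleCat.{u} R)).mapHomologicalComplex (ComplexShape.up ℕ)).obj C :=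
      (NatIso.mapHomologicalComplex (MonoidalCategory.leftUnitorNatIso (ModuleCat.{u} R))
        (ComplexShape.up ℕ)).app C
    have e2 : ((𝟭 (ModuleCat.{u} R)).mapHomologicalComplex (ComplexShape.up ℕ)).obj C ≅ C :=
      HomologicalComplex.Hom.isoOfComponents (fun i => Iso.refl _) (by
        intro i j _
        exact (Category.id_comp _).trans (Category.comp_id _).symm)
    exact h.of_iso (e1 ≪≫ e2)
  obtain ⟨L, ψ, hL, hLf, hψ⟩ := exists_perfect_univ (CZ C) (termwiseFlat_CZ C hflat)
    (finite_homology_CZ C hfin) ((N : ℤ) - 1)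
    (fun M j hj => by
      obtain ⟨n, rfl⟩ := Int.eq_ofNat_of_zero_le (show 0 ≤ j by lia)
      exact (exactAt_TC_CZ_iff C M n).2 (hN M n (by lia)))
    0 (N : ℤ)
    (fun j hj => by
      by_cases h0 : 0 ≤ j
      · obtain ⟨n, rfl⟩ := Int.eq_ofNat_of_zero_le h0
        exact (exactAt_CZ_iff C n).2 (hb n hj)
      · exact exactAt_CZ_neg C j (by lia))
    (fun m _ j hj => by
      by_cases h0 : 0 ≤ j
      · obtain ⟨n, rfl⟩ := Int.eq_ofNat_of_zero_le h0
        exact absurd hj (by lia)
      · exact exactAt_TC_CZ_neg C _ j (by lia))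
  refine ⟨toChain L, fun i => hLf (-i), fun i hi => hL (-i) (by lia), fun p => ?_,
    fun B _ _ p => ?_, fun A _ _ B _ _ => ?_⟩
  · have hq : ∀ M : ModuleCat.{u} R,
        QuasiIsoAt (((tensorRight M).mapHomologicalComplex (ComplexShape.up ℤ)).map ψ) (p : ℤ) := by
      intro M
      have := hψ M
      have hq : QuasiIso ((Groth.Agent.Lib.Helper1.Tor.TC M).map ψ) :=
        (DerivedCategory.isIso_Q_map_iff_quasiIso
          (φ := (Groth.Agent.Lib.Helper1.Tor.TC M).map ψ)).1 this
      exact quasiIsoAt_tensorRight ψ M (p : ℤ) (hq.quasiIsoAt _)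
    exact ⟨(TFunExtendIso eN C (rfl : eN.f p = (p : ℤ))).symm ≪≫
      (TFunIsoOfQuasiIsoAt ψ (p : ℤ) hq).symm ≪≫ (TFunToChainIso L (p : ℤ)).symm⟩
  · let G := ModuleCat.extendScalars.{u, u, u} (algebraMap R B)
    have hq := quasiIso_bc ψ hψ B
    have hq' : QuasiIsoAt ((G.mapHomologicalComplex (ComplexShape.up ℤ)).map ψ) (p : ℤ) :=
      hq.quasiIsoAt _
    have e1 : ((G.mapHomologicalComplex (ComplexShape.up ℤ)).obj (CZ C)).homology (p : ℤ) ≅
        ((G.mapHomologicalComplex (ComplexShape.up ℕ)).obj C).homology p :=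
      (HomologicalComplex.homologyFunctor _ _ (p : ℤ)).mapIso (mapExtendIso eN G C) ≪≫
        ((G.mapHomologicalComplex (ComplexShape.up ℕ)).obj C).extendHomologyIso eN
          (rfl : eN.f p = (p : ℤ))
    have e2 : ((G.mapHomologicalComplex (ComplexShape.up ℤ)).obj L).homology (p : ℤ) ≅
        ((G.mapHomologicalComplex (ComplexShape.up ℤ)).obj (CZ C)).homology (p : ℤ) :=
      isoOfQuasiIsoAt ((G.mapHomologicalComplex (ComplexShape.up ℤ)).map ψ) (p : ℤ)
    have e3 : (CohIII.bcCx (algebraMap R B) (toChain L)).homology (-(p : ℤ)) ≅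
        ((G.mapHomologicalComplex (ComplexShape.up ℤ)).obj L).homology (p : ℤ) :=
      (restrictionHomologyNatIso (A := B) ComplexShape.embeddingDownIntUpInt
        (-(p : ℤ) + 1) (-(p : ℤ)) (-(p : ℤ) - 1) (by simp) (by simp)
        (by simp [ComplexShape.embeddingDownIntUpInt]; ring)
        (by simp [ComplexShape.embeddingDownIntUpInt]; ring)).app
          ((G.mapHomologicalComplex (ComplexShape.up ℤ)).obj L) ≪≫
      eqToIso (by simp [ComplexShape.embeddingDownIntUpInt])
    exact ⟨e1.symm ≪≫ e2.symm ≪≫ e3.symm⟩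
  · have hL1 : IsZero (L.X (-1)) := hL (-1) (Or.inl (by norm_num))
    have hK1 : IsZero ((CZ C).X (-1)) :=
      HomologicalComplex.isZero_extend_X C eN (-1) (fun n hn => by
        have : (n : ℤ) = -1 := hn
        lia)
    have key := kerBC_iff_of_univ ψ hψ hL1 hK1 A B
    -- from `CZ C` to `C`
    have h0 : eN.f 0 = (0 : ℤ) := rfl
    have h1 : eN.f 1 = (1 : ℤ) := rfl
    have c := kerBC_extendScalars_congr A B ((CZ C).d 0 1) (C.d 0 1)
      (C.extendXIso eN h0) (C.extendXIso eN h1) (by
        rw [C.extend_d_eq eN h0 h1, Category.assoc, Category.assoc, Iso.inv_hom_id,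
          Category.comp_id])
    exact ⟨c.1.symm.trans key.1.symm, c.2.symm.trans key.2.symm⟩

end univ

end Groth.Agent.Lib.Helper21.BC0Cx
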