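import Groth.Agent.Lib.Helper21BC0Alg

set_option autoImplicit false
set_option linter.style.haveILetI false
universe u
open TensorProduct

namespace Groth.Agent.Lib.Helper21.BC0Free

open Groth.Agent.Lib.Helper21.BC0Alg

section alg1
variable {A : Type u} [CommRing A] (B : Type u) [CommRing B] [Algebra A B]
  {M₀ M₁ : Type u} [AddCommGroup M₀] [Module A M₀] [AddCommGroup M₁] [Module A M₁]

/-- if `B ⊗ ker d → ker (B ⊗ d)` is surjective, `B ⊗ im d → B ⊗ M₁` is injective -/
theorem range_lTensor_injective_of_kerSurj (d : M₀ →ₗ[A] M₁) (h : KerSurj B d) :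
    Function.Injective ((LinearMap.range d).subtype.lTensor B) := by
  have hd' : Function.Surjective d.rangeRestrict := d.surjective_rangeRestrict
  have hcomp : (LinearMap.range d).subtype ∘ₗ d.rangeRestrict = d := by
    ext m
    rfl
  have key : ∀ x : B ⊗[A] LinearMap.range d, (LinearMap.range d).subtype.lTensor B x = 0 → x = 0 := by
    intro x hx
    obtain ⟨t, rfl⟩ := LinearMap.lTensor_surjective B hd' x
    have h1 : d.lTensor B t = 0 := by
      rw [← hx, ← LinearMap.comp_apply, ← LinearMap.lTensor_comp, hcomp]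
    obtain ⟨s, rfl⟩ := h t h1
    rw [← LinearMap.comp_apply, ← LinearMap.lTensor_comp]
    have : d.rangeRestrict ∘ₗ (LinearMap.ker d).subtype = 0 := by
      ext m
      exact LinearMap.mem_ker.1 m.2
    rw [this, LinearMap.lTensor_zero, LinearMap.zero_apply]
  intro x y hxy
  have := key (x - y) (by rw [map_sub, hxy, sub_self])
  exact sub_eq_zero.1 this

end alg1

section alg2
variable {A : Type u} [CommRing A] {K : Type u} [Field K] [Algebra A K]
  {M : Type u} [AddCommGroup M] [Module A M]

/-- descent of injectivity from a field `K` over `A` to the residue field of the kernel -/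
theorem lTensor_residueField_injective (I : Submodule A M) (x : PrimeSpectrum K)
    (hinj : Function.Injective (I.subtype.lTensor K)) :
    Function.Injective
      (I.subtype.lTensor (PrimeSpectrum.comap (algebraMap A K) x).asIdeal.ResidueField) := by
  set p := PrimeSpectrum.comap (algebraMap A K) x with hp
  have hx : x.asIdeal = ⊥ := by
    have := x.isPrime
    rcases Ideal.eq_bot_or_top x.asIdeal with h | h
    · exact h
    · exact absurd h x.isPrime.ne_top
  have hmem : ∀ a : A, a ∈ p.asIdeal ↔ algebraMap A K a = 0 := by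
    intro a
    change algebraMap A K a ∈ x.asIdeal ↔ _
    rw [hx, Ideal.mem_bot]
  let σ : p.asIdeal.ResidueField →+* K :=
    Ideal.ResidueField.lift p.asIdeal (algebraMap A K)
      (fun a ha => RingHom.mem_ker.2 ((hmem a).1 ha))
      (fun a ha => by
        change IsUnit (algebraMap A K a)
        exact isUnit_iff_ne_zero.2 (fun h0 => ha ((hmem a).2 h0)))
  letI : Algebra p.asIdeal.ResidueField K := σ.toAlgebra
  haveI : IsScalarTower A p.asIdeal.ResidueField K :=
    IsScalarTower.of_algebraMap_eq (fun a =>
      (Ideal.ResidueField.lift_algebraMap p.asIdeal (algebraMap A K) _ _ a).symm)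
  have key : ∀ w : p.asIdeal.ResidueField ⊗[A] I,
      I.subtype.lTensor p.asIdeal.ResidueField w = 0 → w = 0 := by
    intro w hw
    have h1 := cancel_nat (R := A) (A := p.asIdeal.ResidueField) K I.subtype
      ((1 : K) ⊗ₜ[p.asIdeal.ResidueField] w)
    rw [LinearMap.lTensor_tmul, LinearMap.baseChange_eq_ltensor, hw, tmul_zero, map_zero] at h1
    have h2 := hinj (h1.symm.trans (map_zero _).symm)
    have h3 := (TensorProduct.AlgebraTensorModule.cancelBaseChange A p.asIdeal.ResidueField K K
      I).injective (h2.trans (map_zero _).symm)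
    have h4 : Function.Injective (TensorProduct.mk p.asIdeal.ResidueField K
        (p.asIdeal.ResidueField ⊗[A] I) 1) :=
      Module.FaithfullyFlat.tensorProduct_mk_injective _
    exact h4 (h3.trans (map_zero _).symm)
  intro u v huv
  have := key (u - v) (by rw [map_sub, huv, sub_self])
  exact sub_eq_zero.1 this

/-- **freeness of the cokernel from injectivity over the residue field**: if `I ≤ M` is finitely
generated, `M` is finite projective and `κ(p) ⊗ I → κ(p) ⊗ M` is injective, then `M ⧸ I` is free
at `p`. -/
theorem mem_freeLocus_quotient [Module.Finite A M] [Module.Projective A M]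
    (I : Submodule A M) (hI : I.FG) (p : PrimeSpectrum A)
    (hinj : Function.Injective (I.subtype.lTensor p.asIdeal.ResidueField)) :
    p ∈ Module.freeLocus A (M ⧸ I) := by
  let R := Localization.AtPrime p.asIdeal
  haveI : Module.Finite A I := Module.Finite.iff_fg.2 hI
  let f : R ⊗[A] I →ₗ[R] R ⊗[A] M := I.subtype.baseChange R
  let g : R ⊗[A] M →ₗ[R] R ⊗[A] (M ⧸ I) := I.mkQ.baseChange R
  have hg : Function.Surjective g := by
    have := LinearMap.lTensor_surjective R (I.mkQ_surjective)
    intro y
    obtain ⟨z, hz⟩ := this y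
    exact ⟨z, by rw [← hz]; exact congrFun (LinearMap.baseChange_eq_ltensor (A := R) I.mkQ) z⟩
  have hex : Function.Exact f g := by
    have h0 := lTensor_exact R (LinearMap.exact_subtype_mkQ I) I.mkQ_surjective
    intro y
    have := h0 y
    constructor
    · intro hy
      obtain ⟨z, hz⟩ := this.1 (by
        rw [← hy]
        exact (congrFun (LinearMap.baseChange_eq_ltensor (A := R) I.mkQ) y).symm)
      exact ⟨z, by rw [← hz]; exact congrFun (LinearMap.baseChange_eq_ltensor (A := R) I.subtype) z⟩
    · rintro ⟨z, rfl⟩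
      have h1 := this.2 ⟨z, rfl⟩
      rw [← h1]
      change I.mkQ.baseChange R (I.subtype.baseChange R z) = _
      rw [LinearMap.baseChange_eq_ltensor, LinearMap.baseChange_eq_ltensor]
  haveI : Module.Free R (R ⊗[A] M) := Module.free_of_flat_of_isLocalRing
  have hf : Function.Injective (f.lTensor (IsLocalRing.ResidueField R)) := by
    intro u v huv
    have h1 := cancel_nat (R := A) (A := R) (IsLocalRing.ResidueField R) I.subtype u
    have h2 := cancel_nat (R := A) (A := R) (IsLocalRing.ResidueField R) I.subtype v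
    have h3 : (I.subtype.baseChange R).lTensor (IsLocalRing.ResidueField R) u =
        (I.subtype.baseChange R).lTensor (IsLocalRing.ResidueField R) v := huv
    rw [h3, h2] at h1
    have h4 := hinj h1
    exact (TensorProduct.AlgebraTensorModule.cancelBaseChange A R (IsLocalRing.ResidueField R)
      (IsLocalRing.ResidueField R) I).injective h4.symm
  have hfree : Module.Free R (R ⊗[A] (M ⧸ I)) :=
    Module.free_of_lTensor_residueField_injective f g hg hex hf
  exact (Module.mem_freeLocus_iff_tensor p R).2 hfree

end alg2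

section alg3
variable {A : Type u} [CommRing A] {K : Type u} [Field K] [Algebra A K]
  {M₀ M₁ W : Type u} [AddCommGroup M₀] [Module A M₀] [AddCommGroup M₁] [Module A M₁]
  [AddCommGroup W] [Module A W]

/-- **the cokernel is free at the points where the kernel condition holds** -/
theorem mem_freeLocus_of_kerSurj [Module.Finite A M₀] [Module.Finite A M₁] [Module.Projective A M₁]
    (d : M₀ →ₗ[A] M₁) (g : M₁ →ₗ[A] W) (hex : Function.Exact d g) (hg : Function.Surjective g)
    (h : KerSurj K d) (x : PrimeSpectrum K) :
    PrimeSpectrum.comap (algebraMap A K) x ∈ Module.freeLocus A W := by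
  have h1 := range_lTensor_injective_of_kerSurj K d h
  have h2 := lTensor_residueField_injective (LinearMap.range d) x h1
  have hI : (LinearMap.range d).FG := by
    rw [LinearMap.range_eq_map]
    exact Module.Finite.fg_top.map d
  have h3 := mem_freeLocus_quotient (LinearMap.range d) hI _ h2
  let e : (M₁ ⧸ LinearMap.range d) ≃ₗ[A] W :=
    (Submodule.quotEquivOfEq _ _ hex.linearMap_ker_eq.symm).trans (g.quotKerEquivOfSurjective hg)
  rw [← Module.freeLocus_congr e]
  exact h3

end alg3

section transport
variable {A : Type u} [CommRing A] {B B' : Type u} [CommRing B] [Algebra A B] [CommRing B']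
  [Algebra A B'] {M₀ M₁ : Type u} [AddCommGroup M₀] [Module A M₀] [AddCommGroup M₁] [Module A M₁]

/-- the kernel condition only depends on the algebra up to isomorphism -/
theorem kerSurj_of_algEquiv (e : B ≃ₐ[A] B') (d : M₀ →ₗ[A] M₁) (h : KerSurj B d) : KerSurj B' d := by
  intro t ht
  have c : ∀ {N N' : Type u} [AddCommGroup N] [Module A N] [AddCommGroup N'] [Module A N']
      (l : N →ₗ[A] N') (z : B ⊗[A] N),
      l.lTensor B' (e.toLinearMap.rTensor N z) = e.toLinearMap.rTensor N' (l.lTensor B z) := by
    intro N N' _ _ _ _ l z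
    rw [← LinearMap.comp_apply, ← LinearMap.comp_apply, LinearMap.lTensor_comp_rTensor,
      LinearMap.rTensor_comp_lTensor]
  have c' : ∀ {N : Type u} [AddCommGroup N] [Module A N] (z : B' ⊗[A] N),
      e.toLinearMap.rTensor N (e.symm.toLinearMap.rTensor N z) = z := by
    intro N _ _ z
    rw [← LinearMap.comp_apply, ← LinearMap.rTensor_comp]
    have : e.toLinearMap ∘ₗ e.symm.toLinearMap = LinearMap.id := by
      ext b
      simp
    rw [this, LinearMap.rTensor_id, LinearMap.id_apply]
  have c'' : ∀ {N : Type u} [AddCommGroup N] [Module A N] (z : B ⊗[A] N),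
      e.symm.toLinearMap.rTensor N (e.toLinearMap.rTensor N z) = z := by
    intro N _ _ z
    rw [← LinearMap.comp_apply, ← LinearMap.rTensor_comp]
    have : e.symm.toLinearMap ∘ₗ e.toLinearMap = LinearMap.id := by
      ext b
      simp
    rw [this, LinearMap.rTensor_id, LinearMap.id_apply]
  have h1 : d.lTensor B (e.symm.toLinearMap.rTensor M₀ t) = 0 := by
    have h2 := c d (e.symm.toLinearMap.rTensor M₀ t)
    rw [c', ht] at h2
    have h3 := congrArg (e.symm.toLinearMap.rTensor M₁) h2
    rw [c'', map_zero] at h3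
    exact h3.symm
  obtain ⟨s, hs⟩ := h _ h1
  refine ⟨e.toLinearMap.rTensor _ s, ?_⟩
  rw [c, hs, c']

end transport

section tower
variable {R : Type u} [CommRing R] (A : Type u) [CommRing A] [Algebra R A]
  (B : Type u) [CommRing B] [Algebra A B] [Algebra R B] [IsScalarTower R A B]
  {M₀ M₁ : Type u} [AddCommGroup M₀] [Module R M₀] [AddCommGroup M₁] [Module R M₁]

/-- flat base change preserves kernels -/
theorem kerBC_of_flat [Module.Flat R A] (d : M₀ →ₗ[R] M₁) : KerBC A d := by
  refine ⟨Module.Flat.lTensor_preserves_injective_linearMap _ (Subtype.val_injective), ?_⟩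
  intro t ht
  have hex : Function.Exact (LinearMap.ker d).subtype d := LinearMap.exact_subtype_ker_map d
  exact (Module.Flat.lTensor_exact A hex t).1 ht

/-- **transitivity of the kernel condition**: if `ker d` commutes with the base change to `A`, the
kernel conditions for `d` and for `A ⊗ d` over an `A`-algebra `B` are equivalent. -/
theorem kerBC_tower (d : M₀ →ₗ[R] M₁) (hA : KerBC A d) :
    (KerSurj B (d.baseChange A) ↔ KerSurj B d) ∧ (KerBC B (d.baseChange A) ↔ KerBC B d) := by
  let θ := fun (N : Type u) [AddCommGroup N] [Module R N] =>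
    TensorProduct.AlgebraTensorModule.cancelBaseChange R A B B N
  let ι := (LinearMap.ker d).subtype
  let Z := LinearMap.ker (d.baseChange A)
  have hιZ : ∀ s : A ⊗[R] LinearMap.ker d, ι.baseChange A s ∈ Z := by
    intro s
    rw [LinearMap.mem_ker, ← LinearMap.comp_apply, ← LinearMap.baseChange_comp]
    have : d ∘ₗ ι = 0 := by
      ext m
      exact LinearMap.mem_ker.1 m.2
    rw [this, LinearMap.baseChange_zero, LinearMap.zero_apply]
  let e₀ : A ⊗[R] LinearMap.ker d →ₗ[A] Z := LinearMap.codRestrict Z (ι.baseChange A) hιZ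
  have he₀ : Function.Bijective e₀ := by
    constructor
    · intro s s' hss
      have h1 : ι.baseChange A s = ι.baseChange A s' := congrArg Subtype.val hss
      rw [LinearMap.baseChange_eq_ltensor] at h1
      exact hA.1 h1
    · intro z
      have hz := z.2
      rw [LinearMap.mem_ker, LinearMap.baseChange_eq_ltensor] at hz
      obtain ⟨s, hs⟩ := hA.2 z.1 hz
      refine ⟨s, Subtype.ext ?_⟩
      change ι.baseChange A s = z.1
      rw [LinearMap.baseChange_eq_ltensor]
      exact hs
  let e : A ⊗[R] LinearMap.ker d ≃ₗ[A] Z := LinearEquiv.ofBijective e₀ he₀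
  have hsub : Z.subtype ∘ₗ e.toLinearMap = ι.baseChange A := rfl
  -- the basic identities
  have hι : ∀ s'' : B ⊗[A] (A ⊗[R] LinearMap.ker d),
      ι.lTensor B (θ _ s'') = θ _ (Z.subtype.lTensor B ((LinearEquiv.lTensor B e) s'')) := by
    intro s''
    rw [← cancel_nat]
    congr 1
    have : (LinearEquiv.lTensor B e : B ⊗[A] (A ⊗[R] LinearMap.ker d) → B ⊗[A] Z) s'' =
        e.toLinearMap.lTensor B s'' := rfl
    rw [this, ← LinearMap.comp_apply, ← LinearMap.lTensor_comp, hsub]
  have hd : ∀ t' : B ⊗[A] (A ⊗[R] M₀), d.lTensor B (θ _ t') = θ _ ((d.baseChange A).lTensor B t') :=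
    fun t' => (cancel_nat B d t').symm
  have hS : KerSurj B (d.baseChange A) ↔ KerSurj B d := by
    constructor
    · intro h t ht
      have h1 : (d.baseChange A).lTensor B ((θ M₀).symm t) = 0 := by
        apply (θ M₁).injective
        rw [← hd, LinearEquiv.apply_symm_apply, ht, map_zero]
      obtain ⟨s', hs'⟩ := h _ h1
      refine ⟨θ _ ((LinearEquiv.lTensor B e).symm s'), ?_⟩
      rw [hι, LinearEquiv.apply_symm_apply, hs', LinearEquiv.apply_symm_apply]
    · intro h t' ht'
      have h1 : d.lTensor B (θ _ t') = 0 := by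
        rw [hd, ht', map_zero]
      obtain ⟨s, hs⟩ := h _ h1
      refine ⟨(LinearEquiv.lTensor B e) ((θ _).symm s), ?_⟩
      apply (θ M₀).injective
      rw [← hι, LinearEquiv.apply_symm_apply, hs]
  refine ⟨hS, ?_⟩
  constructor
  · intro h
    refine ⟨fun s₁ s₂ hs => ?_, hS.1 h.2⟩
    obtain ⟨s₁', rfl⟩ := (θ (LinearMap.ker d)).surjective s₁
    obtain ⟨s₂', rfl⟩ := (θ (LinearMap.ker d)).surjective s₂
    change ι.lTensor B _ = ι.lTensor B _ at hs
    rw [hι, hι] at hs
    have h1 := h.1 ((θ M₀).injective hs)
    rw [(LinearEquiv.lTensor B e).injective h1]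
  · intro h
    refine ⟨fun s₁ s₂ hs => ?_, hS.2 h.2⟩
    obtain ⟨s₁', rfl⟩ := (LinearEquiv.lTensor B e).surjective s₁
    obtain ⟨s₂', rfl⟩ := (LinearEquiv.lTensor B e).surjective s₂
    have h1 : ι.lTensor B (θ _ s₁') = ι.lTensor B (θ _ s₂') := by
      rw [hι, hι, hs]
    have h2 := h.1 h1
    rw [(θ (LinearMap.ker d)).injective h2]

end tower

end Groth.Agent.Lib.Helper21.BC0Free
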