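import Groth.Agent.Lib.Helper21BC0MainC
import Groth.Agent.Lib.Helper21BC0Free
import Groth.Agent.Lib.Helper26ModSec

set_option autoImplicit false
set_option linter.style.haveILetI false
universe u
open CategoryTheory CategoryTheory.Limits AlgebraicGeometry TensorProduct Opposite TopologicalSpace

namespace Groth.Agent.Lib.Helper21.BC0Epi

open Groth.Agent.Helper13QcqsBC Groth.Agent.Helper13AffBC
  Groth.Agent.Lib.Helper21.BC0Alg Groth.Agent.Lib.Helper21.BC0Geo Groth.Agent.Lib.Helper21.BC0Cx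
  Groth.Agent.Lib.Helper21.BC0Free

section spec
variable (R : CommRingCat.{u}) {A B : (Spec R).Modules} (ψ : A ⟶ B)

theorem surjective_app_top_of_epi [A.IsQuasicoherent] [B.IsQuasicoherent] [Epi ψ] :
    Function.Surjective (ψ.app ⊤) := by
  have h1 : Epi ((Groth.Agent.Lib.Helper23.QCohLocal.ΓF R).map ψ) :=
    (Groth.Agent.Lib.Helper26.ModSec.spec_epi_iff R ψ).1 inferInstance
  have h2 := (ModuleCat.epi_iff_surjective _).1 h1
  exact h2

end spec

section geo
variable {X S X' : Scheme.{u}} (f : X ⟶ S) [QuasiCompact f] [QuasiSeparated f] (F : X.Modules)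
  [F.IsQuasicoherent] {R : CommRingCat.{u}} (g : Spec R ⟶ S) (g' : X' ⟶ X) (f' : X' ⟶ Spec R)
  (h : IsPullback g' f' f g)

/-- an epimorphic base change map to the spectrum of a ring is surjective on global sections -/
theorem kSurj_of_epi {U : S.Opens} (hU : IsAffineOpen U) (hle : (⊤ : (Spec R).Opens) ≤ g ⁻¹ᵁ U)
    (hepi : Epi (bcMap f g g' f' h F)) : KSurj f g g' f' h F hle (f ⁻¹ᵁ U) le_rfl := by
  haveI : QuasiCompact f' := MorphismProperty.of_isPullback (P := @QuasiCompact) h inferInstance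
  haveI : QuasiSeparated f' :=
    MorphismProperty.of_isPullback (P := @QuasiSeparated) h inferInstance
  haveI : ((Scheme.Modules.pushforward f).obj F).IsQuasicoherent :=
    Groth.Agent.Lib.Helper23.QCohLocal.isQuasicoherent_pushforward f F
  haveI : ((Scheme.Modules.pullback g).obj ((Scheme.Modules.pushforward f).obj F)).IsQuasicoherent :=
    Groth.Agent.Lib.Helper2.PullbackSec.isQuasicoherent_pullback _ _
  haveI : ((Scheme.Modules.pullback g').obj F).IsQuasicoherent :=
    Groth.Agent.Lib.Helper2.PullbackSec.isQuasicoherent_pullback _ _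
  haveI : ((Scheme.Modules.pushforward f').obj ((Scheme.Modules.pullback g').obj F)).IsQuasicoherent :=
    Groth.Agent.Lib.Helper23.QCohLocal.isQuasicoherent_pushforward f' _
  exact (bcMap_app_iff f g g' f' h F hle hU (isAffineOpen_top _)).2.1
    (surjective_app_top_of_epi R (bcMap f g g' f' h F))

/-- the composite `Spec R → Spec Γ(S, U) → S` is `g` -/
theorem specMap_appLE_fromSpec {U : S.Opens} (hU : IsAffineOpen U)
    (hle : (⊤ : (Spec R).Opens) ≤ g ⁻¹ᵁ U) :
    Spec.map (g.appLE U ⊤ hle ≫ (Scheme.ΓSpecIso R).hom) ≫ hU.fromSpec = g := by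
  rw [Spec.map_comp, Category.assoc,
    IsAffineOpen.SpecMap_appLE_fromSpec g hU (isAffineOpen_top (Spec R)) hle,
    IsAffineOpen.fromSpec_top, Scheme.isoSpec_Spec_inv, ← Category.assoc, ← Spec.map_comp,
    Iso.inv_hom_id, Spec.map_id, Category.id_comp]

end geo

section field
variable {X S X' : Scheme.{u}} (f : X ⟶ S) [QuasiCompact f] [QuasiSeparated f] (F : X.Modules)
  [F.IsQuasicoherent] {K : Type u} [Field K] (g : Spec (CommRingCat.of K) ⟶ S) (g' : X' ⟶ X)
  (f' : X' ⟶ Spec (CommRingCat.of K)) (h : IsPullback g' f' f g)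

/-- **an epimorphic base change map to the spectrum of a field forces the cokernel of the first
differential to be free at the image point** -/
theorem exists_mem_freeLocus_of_epi {U : S.Opens} (hU : IsAffineOpen U)
    (hle : (⊤ : (Spec (CommRingCat.of K)).Opens) ≤ g ⁻¹ᵁ U)
    (hepi : Epi (bcMap f g g' f' h F))
    (Q : ChainComplex (ModuleCat.{u} Γ(S, U)) ℤ) [Module.Finite Γ(S, U) (Q.X 0)]
    [Module.Finite Γ(S, U) (Q.X (-1))] [Module.Projective Γ(S, U) (Q.X (-1))]
    (hK : letI : Algebra Γ(S, U) Γ(Spec (CommRingCat.of K), ⊤) := (g.appLE U ⊤ hle).hom.toAlgebra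
      KSurj f g g' f' h F hle (f ⁻¹ᵁ U) le_rfl ↔
        KerSurj Γ(Spec (CommRingCat.of K), ⊤) (Q.d 0 (-1)).hom)
    (x : Spec (CommRingCat.of K)) :
    ∃ q : PrimeSpectrum Γ(S, U), hU.fromSpec q = g x ∧
      q ∈ Module.freeLocus Γ(S, U) (Q.opcycles (-1)) := by
  letI alg0 : Algebra Γ(S, U) Γ(Spec (CommRingCat.of K), ⊤) := (g.appLE U ⊤ hle).hom.toAlgebra
  have h1 : KerSurj Γ(Spec (CommRingCat.of K), ⊤) (Q.d 0 (-1)).hom :=
    hK.1 (kSurj_of_epi f F g g' f' h hU hle hepi)
  let ρ : Γ(S, U) →+* K := (g.appLE U ⊤ hle ≫ (Scheme.ΓSpecIso (CommRingCat.of K)).hom).hom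
  letI : Algebra Γ(S, U) K := ρ.toAlgebra
  let e : Γ(Spec (CommRingCat.of K), ⊤) ≃ₐ[Γ(S, U)] K :=
    AlgEquiv.ofRingEquiv (f := (Scheme.ΓSpecIso (CommRingCat.of K)).commRingCatIsoToRingEquiv)
      (fun a => rfl)
  have h2 : KerSurj K (Q.d 0 (-1)).hom := kerSurj_of_algEquiv e _ h1
  obtain ⟨hex, hsurj⟩ := exact_d_pOpcycles Q 0 (-1) (by simp)
  have h3 := mem_freeLocus_of_kerSurj (Q.d 0 (-1)).hom (Q.pOpcycles (-1)).hom hex hsurj h2 x
  refine ⟨PrimeSpectrum.comap (algebraMap Γ(S, U) K) x, ?_, h3⟩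
  have e1 := specMap_appLE_fromSpec g hU hle
  exact congrArg (fun t : Spec (CommRingCat.of K) ⟶ S => t x) e1

end field

end Groth.Agent.Lib.Helper21.BC0Epi
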