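import Groth.Agent.Lib.Helper21BC0Epi

set_option autoImplicit false
set_option linter.style.haveILetI false
universe u
open CategoryTheory CategoryTheory.Limits AlgebraicGeometry TensorProduct Opposite TopologicalSpace

namespace Groth.Agent.Lib.Helper21.BC0Epi

open Groth.Agent.Helper13QcqsBC Groth.Agent.Helper13AffBC
  Groth.Agent.Lib.Helper21.BC0Alg Groth.Agent.Lib.Helper21.BC0Geo Groth.Agent.Lib.Helper21.BC0Cx
  Groth.Agent.Lib.Helper21.BC0Free Groth.Agent.Lib.Helper21.BC0Main Groth.Agent.Lib.Helper21.AlgBC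
  Groth.Agent.Lib.Helper21.NNBC

local instance (X : Scheme.{u}) : EnoughInjectives X.Modules :=
  Groth.Agent.Lib.Helper17.QCPush.enoughInjectives X

section fp
variable {A : Type u} [CommRing A]

theorem finitePresentation_opcycles (Q : ChainComplex (ModuleCat.{u} A) ℤ) (i j : ℤ)
    (hi : (ComplexShape.down ℤ).prev j = i) [Module.Finite A (Q.X i)] [Module.Finite A (Q.X j)]
    [Module.Projective A (Q.X j)] : Module.FinitePresentation A (Q.opcycles j) := by
  obtain ⟨hex, hsurj⟩ := exact_d_pOpcycles Q i j hi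
  haveI := Module.finitePresentation_of_projective A (Q.X j)
  refine Module.finitePresentation_of_surjective (Q.pOpcycles j).hom hsurj ?_
  rw [hex.linearMap_ker_eq, LinearMap.range_eq_map]
  exact Module.Finite.fg_top.map _

end fp

variable {X S : Scheme.{u}} (f : X ⟶ S) [IsProper f] [LocallyOfFinitePresentation f]
  (F : X.Modules) (hF : CohB1.IsFP F) (hflat : FlatMod.IsFlatOver f F)

/-- the degree-0 base change map of the fibre square at `y` -/
noncomputable abbrev fibreBC (y : S) :=
  bcMap f (S.fromSpecResidueField y) (f.fiberι y) (f.fiberToSpecResidueField y)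
    (IsPullback.of_hasPullback f (S.fromSpecResidueField y)) F

include hF hflat in
/-- over an affine open all of whose points have an epimorphic fibre base change map, the cokernel of
the first differential of the local universal complex is projective -/
theorem exists_local_complex_epi {U : S.Opens} (hU : IsAffineOpen U)
    (hepi : ∀ y ∈ U, Epi (fibreBC f F y)) :
    ∃ (A₀ : CommRingCat.{u}) (_ : IsNoetherianRing A₀) (φ : A₀ ⟶ Γ(S, U))
      (P : ChainComplex (ModuleCat.{u} A₀) ℤ),
      (∀ i, Module.Finite A₀ (P.X i) ∧ Module.Projective A₀ (P.X i)) ∧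
      (∀ (q : Spec Γ(S, U)) (p : ℕ),
        CohIII.dRank P (-(p : ℤ)) (Spec.map φ q) = PerfAux.betti f F (hU.fromSpec q) p) ∧
      (∀ p : ℕ, Nonempty (Γ((Coh.Rpush f p).obj F, U) ≃ₗ[Γ(S, U)]
        ↑((CohIII.bcCx φ.hom P).homology (-(p : ℤ))))) ∧
      Module.Projective Γ(S, U) ((CohIII.bcCx φ.hom P).opcycles (-1)) := by
  haveI hq : F.IsQuasicoherent := Groth.Agent.Helper18Strict.isQCoh_of_isFP F hF
  obtain ⟨A₀, hA₀, φ, P, hP, -, hrk, hH, hK⟩ := exists_local_complex0 f F hF hflat hU
  refine ⟨A₀, hA₀, φ, P, hP, hrk, hH, ?_⟩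
  letI : Algebra A₀ Γ(S, U) := φ.hom.toAlgebra
  let Q := CohIII.bcCx (algebraMap A₀ Γ(S, U)) P
  haveI : ∀ i, Module.Finite Γ(S, U) (Q.X i) := fun i => by
    haveI := (hP i).1
    exact finite_bcCx_X P Γ(S, U) i
  haveI : ∀ i, Module.Projective Γ(S, U) (Q.X i) := fun i => by
    haveI := (hP i).2
    exact projective_bcCx_X P Γ(S, U) i
  haveI : Module.FinitePresentation Γ(S, U) (Q.opcycles (-1)) :=
    finitePresentation_opcycles Q 0 (-1) (by simp)
  have huniv : Module.freeLocus Γ(S, U) (Q.opcycles (-1)) = Set.univ := by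
    rw [Set.eq_univ_iff_forall]
    intro q
    have hy : hU.fromSpec q ∈ U := by
      have := Set.mem_range_self (f := hU.fromSpec) q
      rw [hU.range_fromSpec] at this
      exact this
    set y := hU.fromSpec q with hydef
    have hle : (⊤ : (Spec (S.residueField y)).Opens) ≤ (S.fromSpecResidueField y) ⁻¹ᵁ U := by
      intro x _
      change S.fromSpecResidueField y x ∈ U
      rw [Scheme.fromSpecResidueField_apply]
      exact hy
    obtain ⟨q', hq'1, hq'2⟩ := exists_mem_freeLocus_of_epi f F (S.fromSpecResidueField y)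
      (f.fiberι y) (f.fiberToSpecResidueField y)
      (IsPullback.of_hasPullback f (S.fromSpecResidueField y)) hU hle (hepi y hy) Q
      (hK _ _ _ _ (isAffineOpen_top _) hle).2 default
    have h5 : S.fromSpecResidueField y default = y := Scheme.fromSpecResidueField_apply y default
    have : q' = q := hU.fromSpec.isOpenEmbedding.injective (hq'1.trans h5)
    rw [← this]
    exact hq'2
  exact Module.freeLocus_eq_univ_iff.mp huniv

include hF hflat in
/-- if all the fibre base change maps over the affine open `U` are epimorphisms and `H²` of the fibres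
over `U` vanishes, the sections of `R¹ f_* F` over `U` are a finite projective module -/
theorem finite_projective_sections_R1 {U : S.Opens} (hU : IsAffineOpen U)
    (hepi : ∀ y ∈ U, Epi (fibreBC f F y)) (h2 : ∀ s ∈ U, PerfAux.betti f F s 2 = 0) :
    Module.Finite Γ(S, U) Γ((Coh.Rpush f 1).obj F, U) ∧
      Module.Projective Γ(S, U) Γ((Coh.Rpush f 1).obj F, U) := by
  obtain ⟨A₀, hA₀, φ, P, hP, hrk, hH, hW⟩ := exists_local_complex_epi f F hF hflat hU hepi
  letI : Algebra A₀ Γ(S, U) := φ.hom.toAlgebra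
  let Q := CohIII.bcCx (algebraMap A₀ Γ(S, U)) P
  haveI : ∀ i, Module.Finite Γ(S, U) (Q.X i) := fun i => by
    haveI := (hP i).1
    exact finite_bcCx_X P Γ(S, U) i
  haveI : ∀ i, Module.Projective Γ(S, U) (Q.X i) := fun i => by
    haveI := (hP i).2
    exact projective_bcCx_X P Γ(S, U) i
  have hmem : ∀ x : Spec Γ(S, U), hU.fromSpec x ∈ U := fun x => by
    have := Set.mem_range_self (f := hU.fromSpec) x
    rw [hU.range_fromSpec] at this
    exact this
  have hv := vanishing_bc P hP Γ(S, U) (-((2 : ℕ) : ℤ)) (fun x => by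
    have h1 := hrk x 2
    rw [h2 _ (hmem x)] at h1
    exact h1)
  obtain ⟨-, -, ⟨-, hW2p⟩⟩ := hv
  have e2 : (-((2 : ℕ) : ℤ)) = -1 - 1 := by norm_num
  rw [e2] at hW2p
  haveI : Module.Projective Γ(S, U) (Q.opcycles (-1 - 1)) := hW2p
  haveI : Module.Projective Γ(S, U) (Q.opcycles (-1)) := hW
  obtain ⟨-, hsurj⟩ := exact_d_pOpcycles Q 0 (-1) (by simp)
  haveI : Module.Finite Γ(S, U) (Q.opcycles (-1)) :=
    Module.Finite.of_surjective (Q.pOpcycles (-1)).hom hsurj
  obtain ⟨hf, hp⟩ := finite_projective_homology Q (-1)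
  have hH1 := hH 1
  have e1 : (-((1 : ℕ) : ℤ)) = -1 := by norm_num
  rw [e1] at hH1
  obtain ⟨e⟩ := hH1
  haveI := hf
  haveI := hp
  exact ⟨Module.Finite.equiv e.symm, Module.Projective.of_equiv e.symm⟩

include hF hflat in
/-- **`R¹ f_* F` is finite locally free** when `H²` of the fibres vanishes and the degree-0 base change
maps of the fibre squares are epimorphisms. -/
theorem isFinLocFree_R1 (hepi : ∀ y : S, Epi (fibreBC f F y))
    (h2 : ∀ s : S, PerfAux.betti f F s 2 = 0) :
    FlatMod.IsFinLocFree ((Coh.Rpush f 1).obj F) := by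
  haveI hq : F.IsQuasicoherent := Groth.Agent.Helper18Strict.isQCoh_of_isFP F hF
  haveI : Coh.IsQCoh F := hq
  haveI : ((Coh.Rpush f 1).obj F).IsQuasicoherent := Groth.Agent.S0030.result f F 1
  refine Groth.Agent.Lib.Helper1.SPL.isFinLocFree_of_local _ (fun y => ?_)
  refine ⟨_, (⊤ : S.Opens).ι, inferInstance, ?_, ?_⟩
  · rw [Scheme.Opens.opensRange_ι]
    trivial
  · exact isFinLocFree_restrict_of_affine _ ⊤ (fun V hV _ =>
      finite_projective_sections_R1 f F hF hflat hV (fun y _ => hepi y) (fun s _ => h2 s))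

end Groth.Agent.Lib.Helper21.BC0Epi
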