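import Mathlib
import Groth.Agent.Lib.Helper13QcqsBC
import Groth.Agent.Lib.Helper21BC0Chase

/-!
# Helper21: the degree-zero base change map on sections, via a Čech cover

For a pullback square `g' : X' ⟶ X`, `f' : X' ⟶ S'`, `f : X ⟶ S`, `g : S' ⟶ S`, affine opens `U ⊆ S`,
`U' ⊆ g⁻¹U` and a quasi-coherent `F` on `X`:
* `KSurj`: surjectivity of `Γ(S',U') ⊗ Γ(F, W) → Γ(g'^*F, g'⁻¹W ∩ f'⁻¹U')` (companion of helper13's `KBij`);
* `bcMap_app_bijective_iff`, `bcMap_app_surjective_iff`: `bcMap.app U'` is bijective (surjective) iff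
  `KBij (f⁻¹U)` (`KSurj (f⁻¹U)`) holds;
* `cechR`, `cechD`, `cech_exact`: the first two terms of the Čech complex of a cover of an open `T` of `X`
  by opens `O₀ i` with "overlaps" `O₁ j`, as modules over `Γ(S, U)`;
* `KBij_of_kerBC`, `KSurj_iff_kerSurj`: for a finite cover of `f⁻¹U` by affine opens with affine overlaps,
  `KBij (f⁻¹U)` follows from (`KSurj (f⁻¹U)` is equivalent to) the algebraic condition `KerBC` (`KerSurj`)
  for the Čech differential.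
-/

set_option autoImplicit false
set_option linter.style.haveILetI false
universe u
open CategoryTheory CategoryTheory.Limits AlgebraicGeometry Opposite TopologicalSpace TensorProduct

namespace Groth.Agent.Lib.Helper21.BC0Geo

open Scheme.Modules Groth.Agent.Helper13PullbackUnit Groth.Agent.Helper13AffBC
  Groth.Agent.Helper13FlatMV Groth.Agent.Lib.Helper6 Groth.Agent.Helper13QcqsBC
  Groth.Agent.Lib.Helper21.BC0Alg Groth.Agent.Lib.Helper21.BC0Chase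

section cech
variable {X S : Scheme.{u}} (f : X ⟶ S) (F : X.Modules) (U : S.Opens)
  {I₀ I₁ : Type u} (s t : I₁ → I₀) (O₀ : I₀ → X.Opens) (O₁ : I₁ → X.Opens)
  (T : X.Opens) (hT : T ≤ f ⁻¹ᵁ U) (h₀ : ∀ i, O₀ i ≤ T) (hs : ∀ j, O₁ j ≤ O₀ (s j))
  (ht : ∀ j, O₁ j ≤ O₀ (t j))

/-- restriction to the members of the cover -/
noncomputable def cechR : SecR f F U T hT →ₗ[Γ(S, U)] ∀ i, SecR f F U (O₀ i) ((h₀ i).trans hT) :=
  LinearMap.pi (fun i => resL f F U hT ((h₀ i).trans hT) (h₀ i))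

/-- the first Čech differential -/
noncomputable def cechD : (∀ i, SecR f F U (O₀ i) ((h₀ i).trans hT)) →ₗ[Γ(S, U)]
    ∀ j, SecR f F U (O₁ j) (((hs j).trans (h₀ (s j))).trans hT) :=
  LinearMap.pi (fun j =>
    (resL f F U ((h₀ (s j)).trans hT) (((hs j).trans (h₀ (s j))).trans hT) (hs j)).comp
        (LinearMap.proj (s j)) -
      (resL f F U ((h₀ (t j)).trans hT) (((hs j).trans (h₀ (s j))).trans hT) (ht j)).comp
        (LinearMap.proj (t j)))

theorem cechR_apply (m : SecR f F U T hT) (i : I₀) :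
    cechR f F U O₀ T hT h₀ m i = res F (h₀ i) m := rfl

theorem cechD_apply (c : ∀ i, SecR f F U (O₀ i) ((h₀ i).trans hT)) (j : I₁) :
    cechD f F U s t O₀ O₁ T hT h₀ hs ht c j =
      (res F (hs j) (c (s j)) - res F (ht j) (c (t j)) : Γ(F, O₁ j)) := rfl

theorem cechR_injective (hcov : T ≤ ⨆ i, O₀ i) :
    Function.Injective (cechR f F U O₀ T hT h₀) := by
  intro m m' hmm
  refine (modSheaf F).eq_of_locally_eq' O₀ T (fun i => homOfLE (h₀ i)) hcov m m' (fun i => ?_)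
  exact congrFun hmm i

theorem cech_exact (hcov : T ≤ ⨆ i, O₀ i)
    (hpair : ∀ a b : I₀, ∃ j, s j = a ∧ t j = b ∧ O₀ a ⊓ O₀ b ≤ O₁ j) :
    Function.Exact (cechR f F U O₀ T hT h₀) (cechD f F U s t O₀ O₁ T hT h₀ hs ht) := by
  intro c
  constructor
  · intro hc
    have hcompat : TopCat.Presheaf.IsCompatible (modSheaf F).1 O₀ c := by
      intro a b
      obtain ⟨j, rfl, rfl, hj⟩ := hpair a b
      have h1 : res F (hs j) (c (s j)) = res F (ht j) (c (t j)) := by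
        have := congrFun hc j
        rw [cechD_apply] at this
        exact sub_eq_zero.1 this
      have h2 := congrArg (res F hj) h1
      rw [res_res, res_res] at h2
      exact h2
    obtain ⟨m, hm, -⟩ := (modSheaf F).existsUnique_gluing' O₀ T (fun i => homOfLE (h₀ i)) hcov c
      hcompat
    exact ⟨m, funext hm⟩
  · rintro ⟨m, rfl⟩
    funext j
    rw [cechD_apply, cechR_apply, cechR_apply, res_res, res_res, sub_self]
    rfl

end cech

section square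
variable {X S X' S' : Scheme.{u}} (f : X ⟶ S) (g : S' ⟶ S) (g' : X' ⟶ X) (f' : X' ⟶ S')
  (h : IsPullback g' f' f g) (F : X.Modules)
  {U : S.Opens} {U' : S'.Opens} (hle : U' ≤ g ⁻¹ᵁ U)

/-- surjectivity of `Γ(S',U') ⊗ Γ(F, W) → Γ(g'^*F, g'⁻¹W ∩ f'⁻¹U')` -/
def KSurj (W : X.Opens) (hW : W ≤ f ⁻¹ᵁ U) : Prop :=
  letI : Algebra Γ(S, U) Γ(S', U') := (g.appLE U U' hle).hom.toAlgebra
  Function.Surjective (kap (R := Γ(S, U)) (R' := Γ(S', U'))
    (uW f g' f' F hW (inf_le_left : Vp g' f' U' W ≤ g' ⁻¹ᵁ W) inf_le_right)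
    (uW_smul f g g' f' h F hle hW inf_le_left inf_le_right))

include hle in
/-- `bcMap.app U'` and the map `Γ(S',U') ⊗ Γ(F, f⁻¹U) → Γ(g'^*F, f'⁻¹U')` differ by bijections. -/
theorem bcMap_app_iff [QuasiCompact f] [QuasiSeparated f] [F.IsQuasicoherent]
    (hU : IsAffineOpen U) (hU' : IsAffineOpen U') :
    (Function.Bijective ((bcMap f g g' f' h F).app U') ↔ KBij f g g' f' h F hle (f ⁻¹ᵁ U) le_rfl) ∧
      (Function.Surjective ((bcMap f g g' f' h F).app U') ↔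
        KSurj f g g' f' h F hle (f ⁻¹ᵁ U) le_rfl) := by
  haveI : ((pushforward f).obj F).IsQuasicoherent :=
    Groth.Agent.Lib.Helper23.QCohLocal.isQuasicoherent_pushforward f F
  have hle' : f' ⁻¹ᵁ U' ≤ g' ⁻¹ᵁ (f ⁻¹ᵁ U) := preimage_le f g g' f' h hle
  letI : Algebra Γ(S, U) Γ(S', U') := (g.appLE U U' hle).hom.toAlgebra
  let φ : SecR f F U (f ⁻¹ᵁ U) le_rfl →+
      Γ((Scheme.Modules.pullback g).obj ((pushforward f).obj F), U') :=
    unitSec g ((pushforward f).obj F) hle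
  have hφ : ∀ (r : Γ(S, U)) (m : SecR f F U (f ⁻¹ᵁ U) le_rfl),
      φ (r • m) = algebraMap Γ(S, U) Γ(S', U') r • φ m := by
    intro r m
    have e := unitSec_smul g ((pushforward f).obj F) hle r
      (show Γ((pushforward f).obj F, U) from m)
    refine Eq.trans (congrArg (unitSec g ((pushforward f).obj F) hle) ?_) e
    exact appLE_smul_eq f F U r m
  have hφ' : ∀ (r : Γ(S, U)) (m : SecR f F U (f ⁻¹ᵁ U) le_rfl),
      uW f g' f' F le_rfl hle' (le_refl (f' ⁻¹ᵁ U')) (r • m) =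
        algebraMap Γ(S, U) Γ(S', U') r • uW f g' f' F le_rfl hle' (le_refl (f' ⁻¹ᵁ U')) m :=
    uW_smul f g g' f' h F hle le_rfl hle' le_rfl
  -- `kap φ` is bijective
  have hkφ : Function.Bijective (kap φ hφ) := by
    refine kap_bijective_of_existsUnique _ hφ ?_
    intro N _ _ l hl
    refine existsUnique_lift g ((pushforward f).obj F) hU hU' hle N l fun r x => ?_
    have e := hl r x
    refine Eq.trans (congrArg l ?_) e
    exact (appLE_smul_eq f F U r x).symm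
  -- `bcMap.app U' ∘ kap φ = kap φ'`
  let β : Γ((Scheme.Modules.pullback g).obj ((pushforward f).obj F), U') →+
      SecR f' ((Scheme.Modules.pullback g').obj F) U' (f' ⁻¹ᵁ U') le_rfl :=
    ((bcMap f g g' f' h F).app U').hom
  have hβs : ∀ (r' : Γ(S', U')) (q : Γ((Scheme.Modules.pullback g).obj ((pushforward f).obj F), U')),
      β (r' • q) = r' • β q := by
    intro r' q
    have e := (bcMap f g g' f' h F).app_smul r' q
    refine e.trans ?_
    exact (appLE_smul_eq f' ((Scheme.Modules.pullback g').obj F) U' r' _).symm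
  let βl : Γ((Scheme.Modules.pullback g).obj ((pushforward f).obj F), U') →ₗ[Γ(S', U')]
      SecR f' ((Scheme.Modules.pullback g').obj F) U' (f' ⁻¹ᵁ U') le_rfl :=
    { toFun := β, map_add' := β.map_add, map_smul' := fun r q => hβs r q }
  have hβ : ∀ x, βl (kap φ hφ x) =
      kap (uW f g' f' F le_rfl hle' (le_refl (f' ⁻¹ᵁ U'))) hφ' x := by
    intro x
    have := kap_nat φ hφ (uW f g' f' F le_rfl hle' (le_refl (f' ⁻¹ᵁ U'))) hφ' LinearMap.id βl
      (fun m => bcMap_unitSec f g g' f' h F hle m) x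
    rw [this, LinearMap.lTensor_id, LinearMap.id_apply]
  -- transport along `Vp (f⁻¹U) = f'⁻¹U'`
  have hVle : Vp g' f' U' (f ⁻¹ᵁ U) ≤ f' ⁻¹ᵁ U' := inf_le_right
  have hVeq : Vp g' f' U' (f ⁻¹ᵁ U) = f' ⁻¹ᵁ U' := inf_eq_right.2 hle'
  let ψ := resL f' ((Scheme.Modules.pullback g').obj F) U' (le_refl (f' ⁻¹ᵁ U'))
    (inf_le_right : Vp g' f' U' (f ⁻¹ᵁ U) ≤ f' ⁻¹ᵁ U') hVle
  have hψ : Function.Bijective ψ :=
    map_bijective_of_eq ((Scheme.Modules.pullback g').obj F) hVeq (homOfLE hVle)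
  have hn : ∀ x, ψ (kap (uW f g' f' F le_rfl hle' (le_refl (f' ⁻¹ᵁ U'))) hφ' x) =
      kap (R := Γ(S, U)) (R' := Γ(S', U'))
        (uW f g' f' F le_rfl (inf_le_left : Vp g' f' U' (f ⁻¹ᵁ U) ≤ g' ⁻¹ᵁ (f ⁻¹ᵁ U)) inf_le_right)
        (uW_smul f g g' f' h F hle le_rfl inf_le_left inf_le_right) x := by
    intro x
    have := kap_nat (R := Γ(S, U)) (R' := Γ(S', U'))
      (uW f g' f' F le_rfl hle' (le_refl (f' ⁻¹ᵁ U'))) hφ'
      (uW f g' f' F le_rfl (inf_le_left : Vp g' f' U' (f ⁻¹ᵁ U) ≤ g' ⁻¹ᵁ (f ⁻¹ᵁ U)) inf_le_right)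
      (uW_smul f g g' f' h F hle le_rfl inf_le_left inf_le_right)
      LinearMap.id ψ (fun a => unitSec_res g' F _ _ le_rfl hVle a |>.trans (by
        congr 1
        exact res_self F a)) x
    rw [this, LinearMap.lTensor_id, LinearMap.id_apply]
  -- the composite `ψ ∘ bcMap.app U' ∘ kap φ` is the map of `KBij`
  have hcomp : ∀ x, ψ (βl (kap φ hφ x)) =
      kap (R := Γ(S, U)) (R' := Γ(S', U'))
        (uW f g' f' F le_rfl (inf_le_left : Vp g' f' U' (f ⁻¹ᵁ U) ≤ g' ⁻¹ᵁ (f ⁻¹ᵁ U)) inf_le_right)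
        (uW_smul f g g' f' h F hle le_rfl inf_le_left inf_le_right) x := by
    intro x
    rw [hβ, hn]
  constructor
  · constructor
    · intro hb
      show Function.Bijective (kap (R := Γ(S, U)) (R' := Γ(S', U'))
        (uW f g' f' F le_rfl (inf_le_left : Vp g' f' U' (f ⁻¹ᵁ U) ≤ g' ⁻¹ᵁ (f ⁻¹ᵁ U)) inf_le_right)
        (uW_smul f g g' f' h F hle le_rfl inf_le_left inf_le_right))
      have hb' : Function.Bijective βl := hb
      have := (hψ.comp hb').comp hkφ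
      have e : (ψ ∘ βl) ∘ (kap φ hφ) = _ := funext hcomp
      rw [e] at this
      exact this
    · intro hK
      change Function.Bijective (kap (R := Γ(S, U)) (R' := Γ(S', U'))
        (uW f g' f' F le_rfl (inf_le_left : Vp g' f' U' (f ⁻¹ᵁ U) ≤ g' ⁻¹ᵁ (f ⁻¹ᵁ U)) inf_le_right)
        (uW_smul f g g' f' h F hle le_rfl inf_le_left inf_le_right)) at hK
      have h1 : Function.Bijective ((ψ ∘ βl) ∘ (kap φ hφ)) := by
        have e : (ψ ∘ βl) ∘ (kap φ hφ) = _ := funext hcomp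
        rw [e]
        exact hK
      have h2 : Function.Bijective (ψ ∘ βl) := (Function.Bijective.of_comp_iff _ hkφ).1 h1
      exact (Function.Bijective.of_comp_iff' hψ _).1 h2
  · constructor
    · intro hb
      show Function.Surjective (kap (R := Γ(S, U)) (R' := Γ(S', U'))
        (uW f g' f' F le_rfl (inf_le_left : Vp g' f' U' (f ⁻¹ᵁ U) ≤ g' ⁻¹ᵁ (f ⁻¹ᵁ U)) inf_le_right)
        (uW_smul f g g' f' h F hle le_rfl inf_le_left inf_le_right))
      intro y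
      obtain ⟨y1, hy1⟩ := hψ.2 y
      have hb' : Function.Surjective βl := hb
      obtain ⟨y2, hy2⟩ := hb' y1
      obtain ⟨x, hx⟩ := hkφ.2 y2
      exact ⟨x, by rw [← hcomp, hx, hy2, hy1]⟩
    · intro hK y
      change Function.Surjective (kap (R := Γ(S, U)) (R' := Γ(S', U'))
        (uW f g' f' F le_rfl (inf_le_left : Vp g' f' U' (f ⁻¹ᵁ U) ≤ g' ⁻¹ᵁ (f ⁻¹ᵁ U)) inf_le_right)
        (uW_smul f g g' f' h F hle le_rfl inf_le_left inf_le_right)) at hK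
      obtain ⟨x, hx⟩ := hK (ψ y)
      refine ⟨kap φ hφ x, hψ.1 ?_⟩
      exact (hcomp x).trans hx

section cover
variable {I₀ I₁ : Type u} [Finite I₀] [Finite I₁] (s t : I₁ → I₀) (O₀ : I₀ → X.Opens)
  (O₁ : I₁ → X.Opens) (h₀ : ∀ i, O₀ i ≤ f ⁻¹ᵁ U) (hs : ∀ j, O₁ j ≤ O₀ (s j))
  (ht : ∀ j, O₁ j ≤ O₀ (t j))

include h in
/-- **Čech criterion**: for a finite cover of `f⁻¹U` by affine opens `O₀ i` with affine overlaps `O₁ j`,
the map `Γ(S',U') ⊗ Γ(F, f⁻¹U) → Γ(g'^*F, f'⁻¹U')` is bijective (surjective) as soon as (iff) the kernel of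
the first Čech differential commutes with the base change `Γ(S,U) → Γ(S',U')`. -/
theorem K_of_cech [F.IsQuasicoherent] (hU : IsAffineOpen U) (hU' : IsAffineOpen U')
    (hcov : f ⁻¹ᵁ U ≤ ⨆ i, O₀ i)
    (hpair : ∀ a b : I₀, ∃ j, s j = a ∧ t j = b ∧ O₀ a ⊓ O₀ b ≤ O₁ j)
    (ha₀ : ∀ i, IsAffineOpen (O₀ i)) (ha₁ : ∀ j, IsAffineOpen (O₁ j)) :
    letI : Algebra Γ(S, U) Γ(S', U') := (g.appLE U U' hle).hom.toAlgebra
    (KerBC Γ(S', U') (cechD f F U s t O₀ O₁ (f ⁻¹ᵁ U) le_rfl h₀ hs ht) →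
        KBij f g g' f' h F hle (f ⁻¹ᵁ U) le_rfl) ∧
      (KSurj f g g' f' h F hle (f ⁻¹ᵁ U) le_rfl ↔
        KerSurj Γ(S', U') (cechD f F U s t O₀ O₁ (f ⁻¹ᵁ U) le_rfl h₀ hs ht)) := by
  letI : Algebra Γ(S, U) Γ(S', U') := (g.appLE U U' hle).hom.toAlgebra
  let G := (Scheme.Modules.pullback g').obj F
  have hT' : Vp g' f' U' (f ⁻¹ᵁ U) ≤ f' ⁻¹ᵁ U' := inf_le_right
  have h₀' : ∀ i, Vp g' f' U' (O₀ i) ≤ Vp g' f' U' (f ⁻¹ᵁ U) := fun i => Vp_mono g' f' (h₀ i)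
  have hs' : ∀ j, Vp g' f' U' (O₁ j) ≤ Vp g' f' U' (O₀ (s j)) := fun j => Vp_mono g' f' (hs j)
  have ht' : ∀ j, Vp g' f' U' (O₁ j) ≤ Vp g' f' U' (O₀ (t j)) := fun j => Vp_mono g' f' (ht j)
  have hcov' : Vp g' f' U' (f ⁻¹ᵁ U) ≤ ⨆ i, Vp g' f' U' (O₀ i) := by
    rintro x ⟨hx1, hx2⟩
    have : g' x ∈ (⨆ i, O₀ i : X.Opens) := hcov hx1
    obtain ⟨i, hi⟩ := Opens.mem_iSup.1 this
    exact Opens.mem_iSup.2 ⟨i, ⟨hi, hx2⟩⟩
  have hpair' : ∀ a b : I₀, ∃ j, s j = a ∧ t j = b ∧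
      Vp g' f' U' (O₀ a) ⊓ Vp g' f' U' (O₀ b) ≤ Vp g' f' U' (O₁ j) := by
    intro a b
    obtain ⟨j, hj1, hj2, hj3⟩ := hpair a b
    exact ⟨j, hj1, hj2, (Vp_inf_le g' f' (O₀ a) (O₀ b)).trans (Vp_mono g' f' hj3)⟩
  have hex := cech_exact f F U s t O₀ O₁ (f ⁻¹ᵁ U) le_rfl h₀ hs ht hcov hpair
  have hinj := cechR_injective f F U O₀ (f ⁻¹ᵁ U) le_rfl h₀ hcov
  have hex' := cech_exact f' G U' s t (fun i => Vp g' f' U' (O₀ i)) (fun j => Vp g' f' U' (O₁ j))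
    (Vp g' f' U' (f ⁻¹ᵁ U)) hT' h₀' hs' ht' hcov' hpair'
  have hinj' := cechR_injective f' G U' (fun i => Vp g' f' U' (O₀ i))
    (Vp g' f' U' (f ⁻¹ᵁ U)) hT' h₀' hcov'
  have key := chase (R := Γ(S, U)) (R' := Γ(S', U'))
    (cechR f F U O₀ (f ⁻¹ᵁ U) le_rfl h₀) (cechD f F U s t O₀ O₁ (f ⁻¹ᵁ U) le_rfl h₀ hs ht)
    hinj hex
    (cechR f' G U' (fun i => Vp g' f' U' (O₀ i)) (Vp g' f' U' (f ⁻¹ᵁ U)) hT' h₀')
    (cechD f' G U' s t (fun i => Vp g' f' U' (O₀ i)) (fun j => Vp g' f' U' (O₁ j))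
      (Vp g' f' U' (f ⁻¹ᵁ U)) hT' h₀' hs' ht')
    hinj' hex'
    (uW f g' f' F le_rfl (inf_le_left : Vp g' f' U' (f ⁻¹ᵁ U) ≤ g' ⁻¹ᵁ (f ⁻¹ᵁ U)) inf_le_right)
    (uW_smul f g g' f' h F hle le_rfl inf_le_left inf_le_right)
    (fun i => uW f g' f' F ((h₀ i).trans le_rfl)
      (inf_le_left : Vp g' f' U' (O₀ i) ≤ g' ⁻¹ᵁ (O₀ i)) inf_le_right)
    (fun i => uW_smul f g g' f' h F hle ((h₀ i).trans le_rfl) inf_le_left inf_le_right)
    (fun j => uW f g' f' F (((hs j).trans (h₀ (s j))).trans le_rfl)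
      (inf_le_left : Vp g' f' U' (O₁ j) ≤ g' ⁻¹ᵁ (O₁ j)) inf_le_right)
    (fun j => uW_smul f g g' f' h F hle (((hs j).trans (h₀ (s j))).trans le_rfl) inf_le_left
      inf_le_right)
    ?_ ?_ ?_ ?_
  · exact key
  · intro m
    funext i
    exact unitSec_res g' F _ _ (h₀ i) (h₀' i) m
  · intro c
    funext j
    rw [cechD_apply]
    change (res G (hs' j) (unitSec g' F _ (c (s j))) - res G (ht' j) (unitSec g' F _ (c (t j))) :
      Γ(G, Vp g' f' U' (O₁ j))) = unitSec g' F _ (cechD f F U s t O₀ O₁ (f ⁻¹ᵁ U) le_rfl h₀ hs ht c j)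
    rw [cechD_apply, map_sub]
    congr 1
    · exact unitSec_res g' F _ _ (hs j) (hs' j) (c (s j))
    · exact unitSec_res g' F _ _ (ht j) (ht' j) (c (t j))
  · intro i
    exact KBij_of_isAffineOpen f g g' f' h F hle hU hU' ((h₀ i).trans le_rfl) (ha₀ i)
  · intro j
    exact (KBij_of_isAffineOpen f g g' f' h F hle hU hU' (((hs j).trans (h₀ (s j))).trans le_rfl)
      (ha₁ j)).1

end cover

end square

end Groth.Agent.Lib.Helper21.BC0Geo
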