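import Groth.Agent.Lib.Helper21BC0Free
import Groth.Agent.Lib.Helper21BC0Cx
import Groth.Agent.Lib.Helper21AlgBC

set_option autoImplicit false
set_option linter.style.haveILetI false
universe u
open CategoryTheory CategoryTheory.Limits TensorProduct

namespace Groth.Agent.Lib.Helper21.BC0Loc

open Groth.Agent.Lib.Helper21.BC0Alg Groth.Agent.Lib.Helper21.BC0Cx Groth.Agent.Lib.Helper21.BC0Free
  Groth.Agent.Lib.Helper21.AlgBC Groth.Agent.Lib.Helper3

section comp
variable {A₀ A B : Type u} [CommRing A₀] [CommRing A] [CommRing B] (φ : A₀ →+* A) (ψ : A →+* B)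
  {ι : Type} {c : ComplexShape ι}

/-- base change of complexes is transitive -/
noncomputable def bcCxComp (P : HomologicalComplex (ModuleCat.{u} A₀) c) :
    CohIII.bcCx (ψ.comp φ) P ≅ CohIII.bcCx ψ (CohIII.bcCx φ P) :=
  (NatIso.mapHomologicalComplex (ModuleCat.extendScalarsComp.{u} φ ψ) c).app P

end comp

section proj
variable {A : Type u} [CommRing A] (B : Type u) [CommRing B] [Algebra A B]

/-- a finitely presented module becomes projective after a base change into its free locus -/
theorem projective_baseChange_of_freeLocus (W : Type u) [AddCommGroup W] [Module A W]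
    [Module.FinitePresentation A W]
    (h : ∀ x : PrimeSpectrum B, PrimeSpectrum.comap (algebraMap A B) x ∈ Module.freeLocus A W) :
    Module.Projective B (B ⊗[A] W) := by
  have huniv : Module.freeLocus B (B ⊗[A] W) = Set.univ := by
    rw [Set.eq_univ_iff_forall]
    intro x
    exact Module.comap_freeLocus_le (A := B) (h x)
  exact Module.freeLocus_eq_univ_iff.mp huniv

variable (Q : ChainComplex (ModuleCat.{u} A) ℤ)

/-- the cokernels of a base change into the free locus are projective -/
theorem projective_opcycles_of_freeLocus (q : ℤ) [Module.FinitePresentation A (Q.opcycles q)]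
    (h : ∀ x : PrimeSpectrum B,
      PrimeSpectrum.comap (algebraMap A B) x ∈ Module.freeLocus A (Q.opcycles q)) :
    Module.Projective B ((CohIII.bcCx (algebraMap A B) Q).opcycles q) := by
  let e : (CohIII.bcCx (algebraMap A B) Q).opcycles q ≃ₗ[B] B ⊗[A] (Q.opcycles q) :=
    (bcOpcyclesIso B Q q).toLinearEquiv.trans (Groth.Agent.S2380.bridge A B (Q.opcycles q))
  haveI := projective_baseChange_of_freeLocus B (Q.opcycles q) h
  exact Module.Projective.of_equiv e.symm

/-- **the kernel condition over a flat localisation inside the free locus of the cokernel** -/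
theorem kerBC_of_flat_of_freeLocus [Module.Flat A B] [Module.Finite A (Q.X 0)]
    [Module.Finite A (Q.X (-1))] [Module.Projective A (Q.X (-1))]
    (h : ∀ x : PrimeSpectrum B,
      PrimeSpectrum.comap (algebraMap A B) x ∈ Module.freeLocus A (Q.opcycles (-1)))
    (B' : Type u) [CommRing B'] [Algebra B B'] [Algebra A B'] [IsScalarTower A B B'] :
    KerBC B' (Q.d 0 (-1)).hom := by
  obtain ⟨hex, hsurj⟩ := exact_d_pOpcycles Q 0 (-1) (by simp)
  haveI := Module.finitePresentation_of_projective A (Q.X (-1))
  haveI : Module.FinitePresentation A (Q.opcycles (-1)) := by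
    refine Module.finitePresentation_of_surjective (Q.pOpcycles (-1)).hom hsurj ?_
    rw [hex.linearMap_ker_eq, LinearMap.range_eq_map]
    exact Module.Finite.fg_top.map _
  haveI := projective_baseChange_of_freeLocus B (Q.opcycles (-1)) h
  have hA : KerBC B (Q.d 0 (-1)).hom := kerBC_of_flat B _
  refine ((kerBC_tower B B' (Q.d 0 (-1)).hom hA).2).1 ?_
  -- `B ⊗ d` has a generalized inverse
  have hsurj' : Function.Surjective ((Q.pOpcycles (-1)).hom.baseChange B) := by
    intro y
    obtain ⟨z, hz⟩ := LinearMap.lTensor_surjective B hsurj y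
    exact ⟨z, by rw [← hz]; exact congrFun (LinearMap.baseChange_eq_ltensor (A := B) _) z⟩
  have hex' : Function.Exact ((Q.d 0 (-1)).hom.baseChange B)
      ((Q.pOpcycles (-1)).hom.baseChange B) := by
    have h0 := lTensor_exact B hex hsurj
    intro y
    have := h0 y
    constructor
    · intro hy
      obtain ⟨z, hz⟩ := this.1 (by
        rw [← hy]
        exact (congrFun (LinearMap.baseChange_eq_ltensor (A := B) _) y).symm)
      exact ⟨z, by rw [← hz]; exact congrFun (LinearMap.baseChange_eq_ltensor (A := B) _) z⟩
    · rintro ⟨z, rfl⟩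
      have h1 := this.2 ⟨z, rfl⟩
      rw [← h1]
      rw [LinearMap.baseChange_eq_ltensor, LinearMap.baseChange_eq_ltensor]
  obtain ⟨r, hr⟩ := exists_genInv ((Q.d 0 (-1)).hom.baseChange B)
    ((Q.pOpcycles (-1)).hom.baseChange B) hsurj' hex'
  exact kerBC_of_genInv _ r hr

/-- `H₀` of a base change into the free locus of the first cokernel is finite projective -/
theorem finite_projective_homology_zero (hfin : ∀ i, Module.Finite A (Q.X i))
    (hproj : ∀ i, Module.Projective A (Q.X i)) (hz : IsZero (Q.X 1))
    (h : ∀ x : PrimeSpectrum B,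
      PrimeSpectrum.comap (algebraMap A B) x ∈ Module.freeLocus A (Q.opcycles (-1))) :
    Module.Finite B ((CohIII.bcCx (algebraMap A B) Q).homology 0) ∧
      Module.Projective B ((CohIII.bcCx (algebraMap A B) Q).homology 0) := by
  let K := CohIII.bcCx (algebraMap A B) Q
  haveI : ∀ i, Module.Finite B (K.X i) := fun i => by
    haveI := hfin i
    exact finite_bcCx_X Q B i
  haveI : ∀ i, Module.Projective B (K.X i) := fun i => by
    haveI := hproj i
    exact projective_bcCx_X Q B i
  obtain ⟨hex, hsurj⟩ := exact_d_pOpcycles Q 0 (-1) (by simp)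
  haveI := hfin 0
  haveI := hfin (-1)
  haveI := hproj (-1)
  haveI := Module.finitePresentation_of_projective A (Q.X (-1))
  haveI : Module.FinitePresentation A (Q.opcycles (-1)) := by
    refine Module.finitePresentation_of_surjective (Q.pOpcycles (-1)).hom hsurj ?_
    rw [hex.linearMap_ker_eq, LinearMap.range_eq_map]
    exact Module.Finite.fg_top.map _
  have hW : Module.Projective B (K.opcycles (-1)) := projective_opcycles_of_freeLocus B Q (-1) h
  have hzK : IsZero (K.X 1) :=
    Functor.map_isZero (ModuleCat.extendScalars (algebraMap A B)) hz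
  have hd : K.d 1 0 = 0 := hzK.eq_of_src _ _
  let e0 : K.X 0 ≅ K.opcycles 0 := K.pOpcyclesIso 1 0 (by simp) hd
  haveI : Module.Finite B (K.opcycles 0) := Module.Finite.equiv e0.toLinearEquiv
  haveI : Module.Projective B (K.opcycles 0) := Module.Projective.of_equiv e0.toLinearEquiv
  have e : (0 : ℤ) - 1 = -1 := by norm_num
  haveI : Module.Projective B (K.opcycles (0 - 1)) := by
    rw [e]
    exact hW
  exact finite_projective_homology K 0

end proj

end Groth.Agent.Lib.Helper21.BC0Loc
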