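import Groth.Agent.Lib.Helper21UnivCx
import Groth.Agent.Lib.Helper21BC0Cx

/-!
# Helper21: the universal Mumford complex over a Noetherian ring, with the kernel condition
-/

set_option autoImplicit false
set_option linter.style.haveILetI false
universe u
open CategoryTheory CategoryTheory.Limits AlgebraicGeometry MonoidalCategory Opposite

namespace Groth.Agent.Lib.Helper21.BC0Univ

open Groth.Agent.Lib.Helper16.CechLow Groth.Agent.Lib.Helper21.CechMod
  Groth.Agent.Lib.Helper21.CechBC Groth.Agent.Lib.Helper21.MumC Groth.Agent.Lib.Helper21.MumD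
  Groth.Agent.Lib.Helper21.TFunG Groth.Agent.Lib.Helper21.FibA Groth.Agent.Lib.Helper21.FibB
  Groth.Agent.Lib.Helper21.FibC Groth.Agent.Lib.Helper21.BC0Alg Groth.Agent.Lib.Helper21.BC0Cx

/-- invariance of the kernel conditions under isomorphisms of cochain complexes -/
theorem kerBC_iff_of_iso {A : Type u} [CommRing A] (B : Type u) [CommRing B] [Algebra A B]
    {K K' : CochainComplex (ModuleCat.{u} A) ℕ} (Θ : K ≅ K') :
    (KerSurj B (K.d 0 1).hom ↔ KerSurj B (K'.d 0 1).hom) ∧
      (KerBC B (K.d 0 1).hom ↔ KerBC B (K'.d 0 1).hom) := by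
  have c1 := kerBC_congr (B := B) (K.d 0 1).hom (K'.d 0 1).hom
    (HomologicalComplex.Hom.isoApp Θ 0).toLinearEquiv (HomologicalComplex.Hom.isoApp Θ 1).toLinearEquiv
    (fun m => ConcreteCategory.congr_hom (Θ.hom.comm 0 1) m)
  have c2 := kerBC_congr (B := B) (K'.d 0 1).hom (K.d 0 1).hom
    (HomologicalComplex.Hom.isoApp Θ.symm 0).toLinearEquiv
    (HomologicalComplex.Hom.isoApp Θ.symm 1).toLinearEquiv
    (fun m => ConcreteCategory.congr_hom (Θ.inv.comm 0 1) m)
  exact ⟨⟨c1.2, c2.2⟩, ⟨c1.1, c2.1⟩⟩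

variable (A : Type u) [CommRing A] {X : Scheme.{u}} [X.Over (Spec (CommRingCat.of A))]
  (F : X.Modules)

/-- **The universal Mumford complex** over a Noetherian ring, together with a finite affine cover
`U` of `X` such that after every base change `A → A'` the kernel conditions for the first
differentials of `C(U, F) ⊗ A'` and of `P ⊗ A'` are equivalent. -/
theorem exists_univ_complex0 [IsNoetherianRing A] [IsProper (X ↘ Spec (CommRingCat.of A))]
    (hF : Coh.IsCoh F) (hfl : FlatMod.IsFlatOver (X ↘ Spec (CommRingCat.of A)) F) :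
    ∃ (ι : Type u) (_ : Finite ι) (U : ι → X.Opens), (⨆ i, U i = ⊤) ∧
      (∀ s : Finset ι, s.Nonempty → IsAffineOpen (⨅ i ∈ s, U i)) ∧
    ∃ P : ChainComplex (ModuleCat.{u} A) ℤ,
      (∀ i, Module.Finite A (P.X i) ∧ Module.Projective A (P.X i)) ∧
      (∃ N : ℕ, ∀ i : ℤ, 0 < i ∨ i < -(N : ℤ) → IsZero (P.X i)) ∧
      (∀ (p : ℕ) (y : ↑(Spec (CommRingCat.of A))),
        CohIII.fiberRank (X ↘ Spec (CommRingCat.of A)) F p y = CohIII.dRank P (-(p : ℤ)) y) ∧
      (∀ (B : Type u) [CommRing B] [Algebra A B] (X' : Scheme.{u})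
        [X'.Over (Spec (CommRingCat.of B))] (g' : X' ⟶ X)
        (_ : IsPullback g' (X' ↘ Spec (CommRingCat.of B)) (X ↘ Spec (CommRingCat.of A))
          (Spec.map (CommRingCat.ofHom (algebraMap A B)))) (p : ℕ),
        Nonempty (Coh.HH X' ((Scheme.Modules.pullback g').obj F) p ≃ₗ[B]
          ↑((CohIII.bcCx (algebraMap A B) P).homology (-(p : ℤ))))) ∧
      ∀ (A' : Type u) [CommRing A'] [Algebra A A'] (B : Type u) [CommRing B] [Algebra A' B],
        (KerSurj B ((CohIII.bcCx (algebraMap A A') (CA A F U)).d 0 1).hom ↔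
            KerSurj B ((CohIII.bcCx (algebraMap A A') P).d 0 (-1)).hom) ∧
          (KerBC B ((CohIII.bcCx (algebraMap A A') (CA A F U)).d 0 1).hom ↔
            KerBC B ((CohIII.bcCx (algebraMap A A') P).d 0 (-1)).hom) := by
  haveI : F.IsQuasicoherent := hF.1
  haveI : CompactSpace X :=
    QuasiCompact.compactSpace_of_compactSpace (X ↘ Spec (CommRingCat.of A))
  obtain ⟨ι, hfin, U, hcov, hU1, hU⟩ := exists_cover A X
  have hflat : ∀ n, Module.Flat A ((CA A F U).X n) :=
    fun n => flat_CX A F U hfl (isAffineOpen_Ux U hU) n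
  have hfinH : ∀ p, Module.Finite A ((CA A F U).homology p) := fun p => by
    obtain ⟨e⟩ := nonempty_linearEquiv_homology A F U hcov hU p
    have := Groth.Agent.S0002.result A X F hF p
    exact Module.Finite.equiv e
  have hN : ∀ (M : ModuleCat.{u} A) (p : ℕ), Nat.card ι ≤ p → (TL M (CA A F U)).ExactAt p :=
    fun M p hp => exactAt_TL_of_le A F U hcov hU hU1 M p hp
  obtain ⟨P, hP, hPb, hiso, hbc, hker⟩ :=
    main_natural_chain_bc0 (CA A F U) hflat hfinH (Nat.card ι) hN
  refine ⟨ι, hfin, U, hcov, hU, P, hP, ⟨Nat.card ι, hPb⟩, fun p y => ?_,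
    fun B _ _ X' _ g' h p => ?_, hker⟩
  · exact fiberRank_eq A F y U hcov hU P p (hbc y.asIdeal.ResidueField p)
  · obtain ⟨e1⟩ := nonempty_linearEquiv_homology_bc A B g' h F U hcov hU p
    obtain ⟨e2⟩ := hbc B p
    exact ⟨e1.trans e2.toLinearEquiv⟩

/-- transport of the kernel conditions along the Čech base change isomorphism -/
theorem kerBC_iff_cech_bc (A' : Type u) [CommRing A'] [Algebra A A'] {Y : Scheme.{u}}
    [Y.Over (Spec (CommRingCat.of A'))] (q : Y ⟶ X)
    (h : IsPullback q (Y ↘ Spec (CommRingCat.of A')) (X ↘ Spec (CommRingCat.of A))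
      (Spec.map (CommRingCat.ofHom (algebraMap A A'))))
    [F.IsQuasicoherent] {ι : Type u} [Finite ι] (U : ι → X.Opens)
    (hU : ∀ s : Finset ι, s.Nonempty → IsAffineOpen (⨅ i ∈ s, U i))
    (B : Type u) [CommRing B] [Algebra A' B] :
    (KerSurj B ((CohIII.bcCx (algebraMap A A') (CA A F U)).d 0 1).hom ↔
        KerSurj B (dA A' (Fp q F) (Up q U) 0)) ∧
      (KerBC B ((CohIII.bcCx (algebraMap A A') (CA A F U)).d 0 1).hom ↔
        KerBC B (dA A' (Fp q F) (Up q U) 0)) := by
  have key := kerBC_iff_of_iso B (ΦB A A' q h F U (isAffineOpen_Ux U hU))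
  rw [CA_d] at key
  exact key

end Groth.Agent.Lib.Helper21.BC0Univ
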