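import Groth.Agent.Lib.Helper21NNBC
import Groth.Agent.Lib.Helper21BC0Univ
import Groth.Agent.Lib.Helper21BC0Geo

set_option autoImplicit false
set_option linter.style.haveILetI false
universe u
open CategoryTheory CategoryTheory.Limits AlgebraicGeometry TensorProduct Opposite

namespace Groth.Agent.Lib.Helper21.BC0Main

open Groth.Agent.Lib.Helper17.StalkBC Groth.Agent.Lib.Helper21.CechMod
  Groth.Agent.Helper13QcqsBC Groth.Agent.Lib.Helper16.CechLow Groth.Agent.Lib.Helper21.CechBC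
  Groth.Agent.Lib.Helper21.BC0Alg Groth.Agent.Lib.Helper21.BC0Geo Groth.Agent.Lib.Helper6

section ring
variable {X S : Scheme.{u}} (f : X ⟶ S) {U : S.Opens} (hU : IsAffineOpen U)

theorem hRes_fromSpec : hRes f hU ≫ hU.fromSpec = (f ⁻¹ᵁ U).ι ≫ f := by
  unfold hRes
  rw [Category.assoc, hU.isoSpec_hom_fromSpec, morphismRestrict_ι]

theorem appLE_congr_hom {Y T : Scheme.{u}} {φ ψ : Y ⟶ T} (h : φ = ψ) (V : T.Opens) (W : Y.Opens)
    (e : W ≤ φ ⁻¹ᵁ V) : φ.appLE V W e = ψ.appLE V W (h ▸ e) := by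
  subst h
  rfl

theorem fromSpec_appLE_top :
    hU.fromSpec.appLE U ⊤ (hU.fromSpec_preimage_self.ge) = (Scheme.ΓSpecIso Γ(S, U)).inv := by
  unfold Scheme.Hom.appLE
  rw [hU.fromSpec_app_self, Category.assoc, ← Functor.map_comp]
  have : ((eqToHom hU.fromSpec_preimage_self).op ≫ (homOfLE hU.fromSpec_preimage_self.ge).op) = 𝟙 _ :=
    Subsingleton.elim _ _
  rw [this, CategoryTheory.Functor.map_id, Category.comp_id]

theorem ringA_compat_hom (W : (f ⁻¹ᵁ U : Scheme.{u}).Opens) :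
    (Scheme.ΓSpecIso Γ(S, U)).inv ≫ (hRes f hU).appLE ⊤ W le_top =
      f.appLE U ((f ⁻¹ᵁ U).ι ''ᵁ W) ((f ⁻¹ᵁ U).ι_image_le W) := by
  have e0 : W ≤ (hRes f hU ≫ hU.fromSpec) ⁻¹ᵁ U := by
    rw [hRes_fromSpec]
    intro x hx
    exact x.2
  have h1 := appLE_congr_hom (hRes_fromSpec f hU) U W e0
  rw [← Scheme.Hom.appLE_comp_appLE (hRes f hU) hU.fromSpec U ⊤ W hU.fromSpec_preimage_self.ge le_top,
    fromSpec_appLE_top,
    ← Scheme.Hom.appLE_comp_appLE (f ⁻¹ᵁ U).ι f U ((f ⁻¹ᵁ U).ι ''ᵁ W) W ((f ⁻¹ᵁ U).ι_image_le W)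
      (by rw [(f ⁻¹ᵁ U).ι.preimage_image_eq W]), Scheme.Opens.ι_appLE] at h1
  refine h1.trans ?_
  have h2 : X.presheaf.map (homOfLE (x := (f ⁻¹ᵁ U).ι ''ᵁ W) (y := (f ⁻¹ᵁ U).ι ''ᵁ W) le_rfl).op = 𝟙 _ := by
    have : (homOfLE (x := (f ⁻¹ᵁ U).ι ''ᵁ W) (y := (f ⁻¹ᵁ U).ι ''ᵁ W) le_rfl).op = 𝟙 _ :=
      Subsingleton.elim _ _
    rw [this, CategoryTheory.Functor.map_id]
  exact (congrArg (fun t => f.appLE U ((f ⁻¹ᵁ U).ι ''ᵁ W) ((f ⁻¹ᵁ U).ι_image_le W) ≫ t) h2).trans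
    (Category.comp_id _)

theorem ringA_compat (W : (f ⁻¹ᵁ U : Scheme.{u}).Opens) (a : Γ(S, U)) :
    letI := overRes f hU
    (ringA Γ(S, U) W a : Γ((f ⁻¹ᵁ U : Scheme.{u}), W)) =
      (f.appLE U ((f ⁻¹ᵁ U).ι ''ᵁ W) ((f ⁻¹ᵁ U).ι_image_le W)).hom a :=
  ConcreteCategory.congr_hom (ringA_compat_hom f hU W) a

end ring

section restr
variable {X : Scheme.{u}} (T : X.Opens) (F : X.Modules)

theorem smul_restrict (W : (T : Scheme.{u}).Opens) (r : Γ((T : Scheme.{u}), W))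
    (m : Γ((Scheme.Modules.restrictFunctor T.ι).obj F, W)) :
    (r • m : Γ((Scheme.Modules.restrictFunctor T.ι).obj F, W)) =
      ((show Γ(X, T.ι ''ᵁ W) from r) • (show Γ(F, T.ι ''ᵁ W) from m) : Γ(F, T.ι ''ᵁ W)) := by
  have h1 : (r • m : Γ((Scheme.Modules.restrictFunctor T.ι).obj F, W)) =
      (((T.ι.appIso W).inv.hom r : Γ(X, T.ι ''ᵁ W)) • (show Γ(F, T.ι ''ᵁ W) from m) :
        Γ(F, T.ι ''ᵁ W)) := rfl
  rw [h1, Scheme.Opens.ι_appIso]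
  rfl

end restr

section arrow
variable {X S : Scheme.{u}} (f : X ⟶ S) (F : X.Modules) {U : S.Opens} (hU : IsAffineOpen U)
  {ι : Type u} (V : ι → (f ⁻¹ᵁ U : Scheme.{u}).Opens)

/-- the members of the cover, as opens of `X` -/
noncomputable def O₀ (x : Fin 1 → ι) : X.Opens := (f ⁻¹ᵁ U).ι ''ᵁ (Ux V x)

/-- the pairwise intersections, as opens of `X` -/
noncomputable def O₁ (z : Fin 2 → ι) : X.Opens := (f ⁻¹ᵁ U).ι ''ᵁ (Ux V z)

def sF (z : Fin 2 → ι) : Fin 1 → ι := z ∘ Fin.succAbove 0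
def tF (z : Fin 2 → ι) : Fin 1 → ι := z ∘ Fin.succAbove 1

theorem h₀ (x : Fin 1 → ι) : O₀ f V x ≤ f ⁻¹ᵁ U := (f ⁻¹ᵁ U).ι_image_le _

theorem hs (z : Fin 2 → ι) : O₁ f V z ≤ O₀ f V (sF z) :=
  (f ⁻¹ᵁ U).ι.image_mono (face V z 0).le

theorem ht (z : Fin 2 → ι) : O₁ f V z ≤ O₀ f V (tF z) :=
  (f ⁻¹ᵁ U).ι.image_mono (face V z 1).le

/-- the identification of Čech 0-cochains -/
noncomputable def e₀ :
    letI := overRes f hU
    CX Γ(S, U) ((Scheme.Modules.restrictFunctor (f ⁻¹ᵁ U).ι).obj F) V 0 ≃ₗ[Γ(S, U)]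
      (∀ x : Fin 1 → ι, SecR f F U (O₀ f V x) (h₀ f V x)) :=
  letI := overRes f hU
  { toFun := fun c x => c x
    invFun := fun c x => c x
    left_inv := fun _ => rfl
    right_inv := fun _ => rfl
    map_add' := fun _ _ => rfl
    map_smul' := fun a c => by
      funext x
      change ((ringA Γ(S, U) (Ux V x) a : Γ((f ⁻¹ᵁ U : Scheme.{u}), Ux V x)) •
        (show Γ((Scheme.Modules.restrictFunctor (f ⁻¹ᵁ U).ι).obj F, Ux V x) from c x) :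
          Γ((Scheme.Modules.restrictFunctor (f ⁻¹ᵁ U).ι).obj F, Ux V x)) =
        (((f.appLE U (O₀ f V x) (h₀ f V x)).hom a : Γ(X, O₀ f V x)) •
          (show Γ(F, O₀ f V x) from c x) : Γ(F, O₀ f V x))
      rw [smul_restrict, ringA_compat]
      rfl }

/-- the identification of Čech 1-cochains -/
noncomputable def e₁ :
    letI := overRes f hU
    CX Γ(S, U) ((Scheme.Modules.restrictFunctor (f ⁻¹ᵁ U).ι).obj F) V 1 ≃ₗ[Γ(S, U)]
      (∀ z : Fin 2 → ι, SecR f F U (O₁ f V z) (((hs f V z).trans (h₀ f V (sF z))).trans le_rfl)) :=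
  letI := overRes f hU
  { toFun := fun c x => c x
    invFun := fun c x => c x
    left_inv := fun _ => rfl
    right_inv := fun _ => rfl
    map_add' := fun _ _ => rfl
    map_smul' := fun a c => by
      funext x
      change ((ringA Γ(S, U) (Ux V x) a : Γ((f ⁻¹ᵁ U : Scheme.{u}), Ux V x)) •
        (show Γ((Scheme.Modules.restrictFunctor (f ⁻¹ᵁ U).ι).obj F, Ux V x) from c x) :
          Γ((Scheme.Modules.restrictFunctor (f ⁻¹ᵁ U).ι).obj F, Ux V x)) =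
        (((f.appLE U (O₁ f V x) (((hs f V x).trans (h₀ f V (sF x))).trans le_rfl)).hom a :
            Γ(X, O₁ f V x)) •
          (show Γ(F, O₁ f V x) from c x) : Γ(F, O₁ f V x))
      rw [smul_restrict, ringA_compat]
      rfl }

theorem e_comm :
    letI := overRes f hU
    ∀ c : CX Γ(S, U) ((Scheme.Modules.restrictFunctor (f ⁻¹ᵁ U).ι).obj F) V 0,
      cechD f F U sF tF (O₀ f V) (O₁ f V) (f ⁻¹ᵁ U) le_rfl (h₀ f V) (hs f V) (ht f V)
        (e₀ f F hU V c) =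
      e₁ f F hU V (dA Γ(S, U) ((Scheme.Modules.restrictFunctor (f ⁻¹ᵁ U).ι).obj F) V 0 c) := by
  letI := overRes f hU
  intro c
  funext z
  rw [cechD_apply]
  change _ = dA Γ(S, U) ((Scheme.Modules.restrictFunctor (f ⁻¹ᵁ U).ι).obj F) V 0 c z
  rw [dA_apply, Fin.sum_univ_two]
  simp only [Fin.val_zero, pow_zero, one_smul, Fin.val_one, pow_one, neg_smul]
  rw [← sub_eq_add_neg]
  rfl

theorem kerBC_restrict_iff (B : Type u) [CommRing B] [Algebra Γ(S, U) B] :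
    letI := overRes f hU
    (KerSurj B (dA Γ(S, U) ((Scheme.Modules.restrictFunctor (f ⁻¹ᵁ U).ι).obj F) V 0) ↔
        KerSurj B (cechD f F U sF tF (O₀ f V) (O₁ f V) (f ⁻¹ᵁ U) le_rfl (h₀ f V) (hs f V)
          (ht f V))) ∧
      (KerBC B (dA Γ(S, U) ((Scheme.Modules.restrictFunctor (f ⁻¹ᵁ U).ι).obj F) V 0) ↔
        KerBC B (cechD f F U sF tF (O₀ f V) (O₁ f V) (f ⁻¹ᵁ U) le_rfl (h₀ f V) (hs f V)
          (ht f V))) := by
  letI := overRes f hU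
  have c1 := kerBC_congr (B := B)
    (dA Γ(S, U) ((Scheme.Modules.restrictFunctor (f ⁻¹ᵁ U).ι).obj F) V 0)
    (cechD f F U sF tF (O₀ f V) (O₁ f V) (f ⁻¹ᵁ U) le_rfl (h₀ f V) (hs f V) (ht f V))
    (e₀ f F hU V) (e₁ f F hU V) (e_comm f F hU V)
  have c2 := kerBC_congr (B := B)
    (cechD f F U sF tF (O₀ f V) (O₁ f V) (f ⁻¹ᵁ U) le_rfl (h₀ f V) (hs f V) (ht f V))
    (dA Γ(S, U) ((Scheme.Modules.restrictFunctor (f ⁻¹ᵁ U).ι).obj F) V 0)
    (e₀ f F hU V).symm (e₁ f F hU V).symm (fun m => by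
      rw [LinearEquiv.eq_symm_apply, ← e_comm, LinearEquiv.apply_symm_apply])
  exact ⟨⟨c1.2, c2.2⟩, ⟨c1.1, c2.1⟩⟩

end arrow

end Groth.Agent.Lib.Helper21.BC0Main
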