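import Groth.Agent.Lib.Helper21BC0MainA

set_option autoImplicit false
set_option linter.style.haveILetI false
universe u
open CategoryTheory CategoryTheory.Limits AlgebraicGeometry TensorProduct Opposite

namespace Groth.Agent.Lib.Helper21.BC0Main

open Groth.Agent.Lib.Helper17.StalkBC Groth.Agent.Lib.Helper21.CechMod
  Groth.Agent.Helper13QcqsBC Groth.Agent.Lib.Helper16.CechLow Groth.Agent.Lib.Helper21.CechBC
  Groth.Agent.Lib.Helper21.BC0Alg Groth.Agent.Lib.Helper21.BC0Geo Groth.Agent.Lib.Helper6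

section cover
variable {X S X' S' : Scheme.{u}} (f : X ⟶ S) (g : S' ⟶ S) (g' : X' ⟶ X) (f' : X' ⟶ S')
  (h : IsPullback g' f' f g) (F : X.Modules)
  {U : S.Opens} {U' : S'.Opens} (hle : U' ≤ g ⁻¹ᵁ U) (hU : IsAffineOpen U)
  {ι : Type u} [Finite ι] (V : ι → (f ⁻¹ᵁ U : Scheme.{u}).Opens)

include h in
theorem K_of_cover [F.IsQuasicoherent] (hU' : IsAffineOpen U') (hcovV : ⨆ i, V i = ⊤)
    (hV : ∀ s : Finset ι, s.Nonempty → IsAffineOpen (⨅ i ∈ s, V i)) :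
    letI := overRes f hU
    letI : Algebra Γ(S, U) Γ(S', U') := (g.appLE U U' hle).hom.toAlgebra
    (KerBC Γ(S', U') (dA Γ(S, U) ((Scheme.Modules.restrictFunctor (f ⁻¹ᵁ U).ι).obj F) V 0) →
        KBij f g g' f' h F hle (f ⁻¹ᵁ U) le_rfl) ∧
      (KSurj f g g' f' h F hle (f ⁻¹ᵁ U) le_rfl ↔
        KerSurj Γ(S', U') (dA Γ(S, U) ((Scheme.Modules.restrictFunctor (f ⁻¹ᵁ U).ι).obj F) V 0)) := by
  letI := overRes f hU
  letI : Algebra Γ(S, U) Γ(S', U') := (g.appLE U U' hle).hom.toAlgebra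
  have hcov : f ⁻¹ᵁ U ≤ ⨆ x, O₀ f V x := by
    intro x hx
    have h1 : (⟨x, hx⟩ : (f ⁻¹ᵁ U : Scheme.{u})) ∈ (⨆ i, V i : (f ⁻¹ᵁ U : Scheme.{u}).Opens) := by
      rw [hcovV]
      trivial
    obtain ⟨i, hi⟩ := TopologicalSpace.Opens.mem_iSup.1 h1
    refine TopologicalSpace.Opens.mem_iSup.2 ⟨fun _ => i, ?_⟩
    refine ⟨⟨x, hx⟩, ?_, rfl⟩
    exact le_Ux V (fun _ => i) (V i) (fun _ => le_rfl) hi
  have hpair : ∀ a b : Fin 1 → ι, ∃ z : Fin 2 → ι, sF z = a ∧ tF z = b ∧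
      O₀ f V a ⊓ O₀ f V b ≤ O₁ f V z := by
    intro a b
    refine ⟨![b 0, a 0], ?_, ?_, ?_⟩
    · funext k
      fin_cases k
      rfl
    · funext k
      fin_cases k
      rfl
    · rintro x ⟨⟨y₁, hy₁, e₁⟩, ⟨y₂, hy₂, e₂⟩⟩
      have hy : y₁ = y₂ := Subtype.ext (e₁.trans e₂.symm)
      subst hy
      refine ⟨y₁, ?_, e₁⟩
      refine le_Ux V ![b 0, a 0] (Ux V a ⊓ Ux V b) (fun k => ?_) ⟨hy₁, hy₂⟩
      fin_cases k
      · exact inf_le_right.trans (Ux_le V b 0)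
      · exact inf_le_left.trans (Ux_le V a 0)
  have ha₀ : ∀ x, IsAffineOpen (O₀ f V x) := fun x =>
    (isAffineOpen_Ux V hV 0 x).image_of_isOpenImmersion (f ⁻¹ᵁ U).ι
  have ha₁ : ∀ z, IsAffineOpen (O₁ f V z) := fun z =>
    (isAffineOpen_Ux V hV 1 z).image_of_isOpenImmersion (f ⁻¹ᵁ U).ι
  have key := K_of_cech f g g' f' h F hle sF tF (O₀ f V) (O₁ f V) (h₀ f V) (hs f V) (ht f V)
    hU hU' hcov hpair ha₀ ha₁
  have e := kerBC_restrict_iff f F hU V Γ(S', U')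
  exact ⟨fun hk => key.1 (e.2.1 hk), key.2.trans e.1.symm⟩

end cover

section model
open Groth.Agent.Lib.Helper21.NNBC Groth.Agent.Lib.Helper21.BC0Univ Groth.Agent.Lib.Helper21.TFunB
  Groth.Agent.Lib.Helper21.Semicont Groth.Agent.Lib.Helper21.TBridge

variable {X S : Scheme.{u}} {f : X ⟶ S} {F : X.Modules} {U : S.Opens} {hU : IsAffineOpen U}

/-- **Lemma H with the kernel condition**: the universal complex of a model computes the cohomology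
of every base change, and its first differential controls the base change map in degree 0. -/
theorem Model.exists_complex0 [QuasiCompact f] [QuasiSeparated f] [F.IsQuasicoherent]
    (M : Model f F hU) :
    ∃ P : ChainComplex (ModuleCat.{u} M.A₀) ℤ,
      (∀ i, Module.Finite M.A₀ (P.X i) ∧ Module.Projective M.A₀ (P.X i)) ∧
      (∃ N : ℕ, ∀ i : ℤ, 0 < i ∨ i < -(N : ℤ) → IsZero (P.X i)) ∧
      (∀ (B : CommRingCat.{u}) (ψ : Γ(S, U) ⟶ B) (X' : Scheme.{u}) (f' : X' ⟶ Spec B)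
        (g' : X' ⟶ X) (_ : IsPullback g' f' f (Spec.map ψ ≫ hU.fromSpec)),
        (∀ (q : Spec B) (p : ℕ),
          CohIII.dRank P (-(p : ℤ)) (Spec.map (M.φ ≫ ψ) q) =
            PerfAux.betti f F ((Spec.map ψ ≫ hU.fromSpec) q) p) ∧
        ∀ p : ℕ,
          letI : X'.Over (Spec (CommRingCat.of B)) := ⟨f'⟩
          Nonempty (Coh.HH X' ((Scheme.Modules.pullback g').obj F) p ≃ₗ[B]
            ↑((CohIII.bcCx (M.φ ≫ ψ).hom P).homology (-(p : ℤ))))) ∧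
      ∀ {S' X' : Scheme.{u}} (g : S' ⟶ S) (g' : X' ⟶ X) (f' : X' ⟶ S')
        (h : IsPullback g' f' f g) {U' : S'.Opens} (_ : IsAffineOpen U') (hle : U' ≤ g ⁻¹ᵁ U),
        letI : Algebra Γ(S, U) Γ(S', U') := (g.appLE U U' hle).hom.toAlgebra
        (KerBC Γ(S', U') ((CohIII.bcCx M.φ.hom P).d 0 (-1)).hom →
            KBij f g g' f' h F hle (f ⁻¹ᵁ U) le_rfl) ∧
          (KSurj f g g' f' h F hle (f ⁻¹ᵁ U) le_rfl ↔
            KerSurj Γ(S', U') ((CohIII.bcCx M.φ.hom P).d 0 (-1)).hom) := by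
  haveI := M.noeth
  haveI := M.proper
  haveI : M.F₀.IsQuasicoherent := M.coh.1
  letI : M.X₀.Over (Spec (CommRingCat.of M.A₀)) := ⟨M.f₀⟩
  haveI : IsProper (M.X₀ ↘ Spec (CommRingCat.of M.A₀)) := M.proper
  obtain ⟨ι, hfin, U₀, hcov₀, hU₀, P, hP, hN, hrk, huniv, hker⟩ :=
    exists_univ_complex0 M.A₀ M.F₀ M.coh M.flat
  refine ⟨P, hP, hN, fun B ψ X' f' g' hsq => ?_, fun {S' X'} g g' f' h {U'} hU' hle => ?_⟩
  · obtain ⟨g₂, h1, hleft⟩ := exists_lift_hRes B ψ f' g' hsq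
    have hsq3 : IsPullback (g₂ ≫ M.q₀) f' M.f₀ (Spec.map (M.φ ≫ ψ)) := by
      rw [Spec.map_comp]
      exact hleft.paste_horiz M.sq
    let e : (Scheme.Modules.pullback g').obj F ≅ (Scheme.Modules.pullback (g₂ ≫ M.q₀)).obj M.F₀ :=
      (Scheme.Modules.pullbackCongr h1.symm).app F ≪≫
        ((Scheme.Modules.pullbackComp g₂ (f ⁻¹ᵁ U).ι).app F).symm ≪≫
        (Scheme.Modules.pullback g₂).mapIso M.iso ≪≫
        (Scheme.Modules.pullbackComp g₂ M.q₀).app M.F₀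
    refine ⟨fun q p => ?_, fun p => ?_⟩
    · have r1 := hrk p (Spec.map (M.φ ≫ ψ) q)
      have r2 := betti_baseChange M.f₀ (Spec.map (M.φ ≫ ψ)) (g₂ ≫ M.q₀) f' hsq3 M.F₀ q p
      have r3 := betti_congr_iso f' e q p
      have r4 := betti_baseChange f (Spec.map ψ ≫ hU.fromSpec) g' f' hsq F q p
      rw [← r4, r3, r2]
      exact r1.symm
    · letI : X'.Over (Spec (CommRingCat.of B)) := ⟨f'⟩
      letI : Algebra M.A₀ B := (M.φ ≫ ψ).hom.toAlgebra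
      obtain ⟨e1⟩ := huniv B X' (g₂ ≫ M.q₀) hsq3 p
      exact ⟨(Groth.Agent.Lib.Helper17.StalkBC.hhEquiv B e p).trans e1⟩
  · letI := overRes f hU
    letI : Algebra Γ(S, U) Γ(S', U') := (g.appLE U U' hle).hom.toAlgebra
    letI : Algebra M.A₀ Γ(S, U) := M.φ.hom.toAlgebra
    have hsq : IsPullback M.q₀ ((f ⁻¹ᵁ U : Scheme.{u}) ↘ Spec (CommRingCat.of Γ(S, U)))
        (M.X₀ ↘ Spec (CommRingCat.of M.A₀))
        (Spec.map (CommRingCat.ofHom (algebraMap M.A₀ Γ(S, U)))) := M.sq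
    have k1 := hker Γ(S, U) Γ(S', U')
    have k2 := kerBC_iff_cech_bc M.A₀ M.F₀ Γ(S, U) M.q₀ hsq U₀ hU₀ Γ(S', U')
    let V : ι → (f ⁻¹ᵁ U : Scheme.{u}).Opens := Up M.q₀ U₀
    have hcovV : ⨆ i, V i = ⊤ := by
      change ⨆ i, M.q₀ ⁻¹ᵁ U₀ i = ⊤
      rw [← Scheme.Hom.preimage_iSup, hcov₀]
      rfl
    have hV : ∀ s : Finset ι, s.Nonempty → IsAffineOpen (⨅ i ∈ s, V i) := by
      intro s hs
      have := preimage_biInf M.q₀ U₀ s
      rw [this]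
      exact isAffineOpen_preimage M.A₀ Γ(S, U) M.q₀ hsq _ (hU₀ s hs)
    have k4 := K_of_cover f g g' f' h F hle hU V hU' hcovV hV
    let Θ : CA Γ(S, U) ((Scheme.Modules.restrictFunctor (f ⁻¹ᵁ U).ι).obj F) V ≅
        CA Γ(S, U) (Fp M.q₀ M.F₀) V :=
      (CAF Γ(S, U) V).mapIso
        ((Scheme.Modules.restrictFunctorIsoPullback (f ⁻¹ᵁ U).ι).app F ≪≫ M.iso)
    have k3 := kerBC_iff_of_iso Γ(S', U') Θ
    rw [CA_d, CA_d] at k3
    exact ⟨fun hk => k4.1 (k3.2.2 (k2.2.1 (k1.2.2 hk))),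
      k4.2.trans (k3.1.trans (k2.1.symm.trans k1.1))⟩

end model

end Groth.Agent.Lib.Helper21.BC0Main
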