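import Groth.Agent.Lib.Helper21NNBC
import Groth.Agent.Lib.Helper21AlgBC
import Groth.Agent.Lib.Helper20LocFree
import Groth.Agent.Lib.Helper2LocFree
import Groth.Agent.Lib.Helper1PC15
import Groth.Agent.Lib.Helper17MV9
import Groth.Agent.S0030

/-!
# Helper21: cohomology and base change over an arbitrary base (vanishing and local freeness of the
higher direct images from the vanishing of the cohomology of the fibres)

`f : X → S` proper of finite presentation, `F` of finite presentation and flat over `S`; no Noetherian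
hypothesis.

* `exists_sections_complex`: `Γ(V, R^p f_* F) ≃ H_{-p}(P ⊗_{A₀} Γ(S, V))` for affine `V`;
* `subsingleton_sections_Rpush`, `finite_projective_sections_Rpush`;
* `isZero_Rpush_of_fibres`, `isZero_restrict_Rpush`, `isFinLocFree_restrict_Rpush`, `isOpen_betti_eq_zero`.
-/

set_option autoImplicit false
set_option linter.style.haveILetI false
universe u
open CategoryTheory CategoryTheory.Limits AlgebraicGeometry TensorProduct TopologicalSpace

namespace Groth.Agent.Lib.Helper21.NNBC

open Groth.Agent.Lib.Helper17.StalkBC Groth.Agent.Lib.Helper21.Semicont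
  Groth.Agent.Lib.Helper21.TBridge Groth.Agent.Lib.Helper21.AlgBC

section SheafLevel

variable {S : Scheme.{u}}

/-- the stalk at `y ∈ U` of a module without sections over the affine opens contained in `U` is zero -/
theorem subsingleton_stalk_of_affine (M : S.Modules) (y : S) (U : S.Opens) (hyU : y ∈ U)
    (h : ∀ V : S.Opens, IsAffineOpen V → V ≤ U → Subsingleton Γ(M, V)) :
    Subsingleton (M.presheaf.stalk y) := by
  refine ⟨fun a b => ?_⟩
  have key : ∀ c : M.presheaf.stalk y, c = 0 := by
    intro c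
    obtain ⟨W, hW, s, rfl⟩ := TopCat.Presheaf.exists_germ_eq M.presheaf c
    obtain ⟨V, hV, hyV, hVW⟩ := (Opens.isBasis_iff_nbhd.mp S.isBasis_affineOpens)
      (show y ∈ W ⊓ U from ⟨hW, hyU⟩)
    haveI := h V hV (hVW.trans inf_le_right)
    have h1 : M.presheaf.germ W y hW s =
        M.presheaf.germ V y hyV (M.presheaf.map (homOfLE (hVW.trans inf_le_left)).op s) :=
      (TopCat.Presheaf.germ_res_apply M.presheaf (homOfLE (hVW.trans inf_le_left)) y hyV s).symm
    rw [h1, Subsingleton.elim (M.presheaf.map (homOfLE (hVW.trans inf_le_left)).op s) 0, map_zero]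
  rw [key a, key b]

/-- a module without sections over the affine opens contained in `U` restricts to zero on `U` -/
theorem isZero_restrict_of_affine (M : S.Modules) (U : S.Opens)
    (h : ∀ V : S.Opens, IsAffineOpen V → V ≤ U → Subsingleton Γ(M, V)) :
    IsZero (M.restrict U.ι) := by
  apply Groth.Agent.Lib.Helper17.MV.isZero_of_stalk_subsingleton
  intro y
  have e := (Scheme.Modules.restrictStalkNatIso U.ι y).app M
  have hs : Subsingleton (M.presheaf.stalk (U.ι y)) :=
    subsingleton_stalk_of_affine M (U.ι y) U y.2 h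
  exact @Equiv.subsingleton _ _ e.addCommGroupIsoToAddEquiv.toEquiv hs

/-- a quasi-coherent module whose sections over the affine opens contained in `U` are finite
projective is finite locally free on `U` -/
theorem isFinLocFree_restrict_of_affine (M : S.Modules) [M.IsQuasicoherent] (U : S.Opens)
    (h : ∀ V : S.Opens, IsAffineOpen V → V ≤ U →
      Module.Finite Γ(S, V) Γ(M, V) ∧ Module.Projective Γ(S, V) Γ(M, V)) :
    FlatMod.IsFinLocFree (M.restrict U.ι) := by
  refine Groth.Agent.Lib.Helper1.SPL.isFinLocFree_of_local _ (fun y => ?_)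
  obtain ⟨V, hV, hyV, hVU⟩ := (Opens.isBasis_iff_nbhd.mp S.isBasis_affineOpens)
    (show y.1 ∈ U from y.2)
  obtain ⟨hfin, hproj⟩ := h V hV hVU
  let e := Groth.Agent.Lib.Helper20.PullbackAff.ΓUEquiv hV M
  haveI : Module.Finite Γ(S, V) ((Groth.Agent.Lib.Helper20.Thickening.ΓUF hV).obj M) :=
    Module.Finite.equiv e
  haveI : Module.Projective Γ(S, V) ((Groth.Agent.Lib.Helper20.Thickening.ΓUF hV).obj M) :=
    Module.Projective.of_equiv e
  haveI : Module.FinitePresentation Γ(S, V)
      ((Groth.Agent.Lib.Helper20.Thickening.ΓUF hV).obj M) :=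
    Module.finitePresentation_of_projective _ _
  obtain ⟨D, m, hyD, hDV, ⟨eD⟩⟩ :=
    Groth.Agent.Lib.Helper20.LocFree.exists_restrict_iso_freeMod M hV y.1 hyV
  have hle : D ≤ U := hDV.trans hVU
  have hD : FlatMod.IsFinLocFree (M.restrict D.ι) :=
    Groth.Agent.Lib.Helper2.LocFree.isFinLocFree_of_iso_freeMod _ eD
  refine ⟨D, S.homOfLE hle, inferInstance, ?_, ?_⟩
  · rw [Scheme.Hom.mem_opensRange]
    refine ⟨⟨y.1, hyD⟩, ?_⟩
    apply Subtype.ext
    simp
  · exact Groth.Agent.Lib.Helper1.SPL.isFinLocFree_restrict_restrict_of_factor U.ι D.ι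
      (S.homOfLE hle) (S.homOfLE_ι hle) M hD

end SheafLevel

local instance (X : Scheme.{u}) : EnoughInjectives X.Modules :=
  Groth.Agent.Lib.Helper17.QCPush.enoughInjectives X

variable {X S : Scheme.{u}} (f : X ⟶ S) [IsProper f] [LocallyOfFinitePresentation f]
  (F : X.Modules) (hF : CohB1.IsFP F) (hflat : FlatMod.IsFlatOver f F)

include hF hflat in
/-- the sections of `R^p f_* F` over an affine open `V` of the base are computed by the base change to
`Γ(S, V)` of a bounded complex of finite projective modules over a Noetherian ring, whose rank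
functions are the Betti numbers of the fibres over the points of `V`. -/
theorem exists_sections_complex {V : S.Opens} (hV : IsAffineOpen V) :
    ∃ (A₀ : CommRingCat.{u}) (_ : IsNoetherianRing A₀) (φ : A₀ ⟶ Γ(S, V))
      (P : ChainComplex (ModuleCat.{u} A₀) ℤ),
      (∀ i, Module.Finite A₀ (P.X i) ∧ Module.Projective A₀ (P.X i)) ∧
      (∃ N : ℕ, ∀ i : ℤ, 0 < i ∨ i < -(N : ℤ) → IsZero (P.X i)) ∧
      (∀ (q : Spec Γ(S, V)) (p : ℕ),
        CohIII.dRank P (-(p : ℤ)) (Spec.map φ q) = PerfAux.betti f F (hV.fromSpec q) p) ∧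
      ∀ p : ℕ, Nonempty (Γ((Coh.Rpush f p).obj F, V) ≃ₗ[Γ(S, V)]
        ↑((CohIII.bcCx φ.hom P).homology (-(p : ℤ)))) := by
  haveI hq : F.IsQuasicoherent := Groth.Agent.Helper18Strict.isQCoh_of_isFP F hF
  haveI : Coh.IsQCoh F := hq
  obtain ⟨M⟩ := nonempty_model f F hF hflat hV
  obtain ⟨P, hP, hN, huniv⟩ := M.exists_complex
  have e0 : Spec.map (𝟙 Γ(S, V)) ≫ hV.fromSpec = hV.fromSpec := by
    rw [Spec.map_id]
    exact Category.id_comp _
  have hsq : IsPullback (f ⁻¹ᵁ V).ι (hRes f hV) f (Spec.map (𝟙 Γ(S, V)) ≫ hV.fromSpec) := by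
    have key : ∀ t : Spec Γ(S, V) ⟶ S, hV.fromSpec = t →
        IsPullback (f ⁻¹ᵁ V).ι (hRes f hV) f t := by
      rintro t rfl
      exact isPullback_hRes f hV
    exact key _ e0.symm
  obtain ⟨hrk, hH⟩ := huniv Γ(S, V) (𝟙 _) _ (hRes f hV) (f ⁻¹ᵁ V).ι hsq
  refine ⟨M.A₀, M.noeth, M.φ, P, hP, hN, fun q p => ?_, fun p => ?_⟩
  · have h1 := hrk q p
    have h2 : (Spec.map (𝟙 Γ(S, V)) ≫ hV.fromSpec) q = hV.fromSpec q := by rw [e0]
    have h3 : M.φ ≫ 𝟙 Γ(S, V) = M.φ := Category.comp_id _
    rw [h2, h3] at h1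
    exact h1
  · letI := overRes f hV
    obtain ⟨e1⟩ := nonempty_sections_linearEquiv f F hV p
    obtain ⟨e2⟩ := hH p
    let e3 := hhEquiv Γ(S, V) ((Scheme.Modules.restrictFunctorIsoPullback (f ⁻¹ᵁ V).ι).app F) p
    have key : ∀ (σ : M.A₀ ⟶ Γ(S, V)), σ = M.φ →
        Nonempty (Γ((Coh.Rpush f p).obj F, V) ≃ₗ[Γ(S, V)]
          ↑((CohIII.bcCx σ.hom P).homology (-(p : ℤ)))) →
        Nonempty (Γ((Coh.Rpush f p).obj F, V) ≃ₗ[Γ(S, V)]
          ↑((CohIII.bcCx M.φ.hom P).homology (-(p : ℤ)))) := by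
      rintro σ rfl h
      exact h
    exact key (M.φ ≫ 𝟙 _) (Category.comp_id _) ⟨e1.trans (e3.trans e2)⟩


omit [IsProper f] [LocallyOfFinitePresentation f] in
theorem dRank_eq_zero_of_isZero {A : Type u} [CommRing A] (P : ChainComplex (ModuleCat.{u} A) ℤ)
    (i : ℤ) (h : IsZero (P.X i)) (x : PrimeSpectrum A) : CohIII.dRank P i x = 0 := by
  have hz : IsZero ((CohIII.bcCx (algebraMap A x.asIdeal.ResidueField) P).X i) :=
    Functor.map_isZero (ModuleCat.extendScalars (algebraMap A x.asIdeal.ResidueField)) h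
  have hz' : IsZero ((CohIII.bcCx (algebraMap A x.asIdeal.ResidueField) P).homology i) :=
    (HomologicalComplex.ExactAt.of_isZero hz).isZero_homology
  haveI : Subsingleton ((CohIII.bcCx (algebraMap A x.asIdeal.ResidueField) P).homology i) :=
    ModuleCat.subsingleton_of_isZero hz'
  exact Module.finrank_zero_of_subsingleton

include hF hflat in
/-- if `H^p` of all the fibres over the affine open `V` vanishes, `R^p f_* F` has no sections over `V` -/
theorem subsingleton_sections_Rpush {V : S.Opens} (hV : IsAffineOpen V) (p : ℕ)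
    (h : ∀ s ∈ V, PerfAux.betti f F s p = 0) :
    Subsingleton Γ((Coh.Rpush f p).obj F, V) := by
  obtain ⟨A₀, hA₀, φ, P, hP, -, hrk, hH⟩ := exists_sections_complex f F hF hflat hV
  letI : Algebra A₀ Γ(S, V) := φ.hom.toAlgebra
  obtain ⟨e⟩ := hH p
  have hv := (vanishing_bc P hP Γ(S, V) (-(p : ℤ)) (fun x => by
    have h1 := hrk x p
    have h2 : hV.fromSpec x ∈ V := by
      have := Set.mem_range_self (f := hV.fromSpec) x
      rw [hV.range_fromSpec] at this
      exact this
    rw [h _ h2] at h1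
    exact h1)).1
  exact e.injective.subsingleton

include hF hflat in
/-- if `H^{p+1}` and `H^{p-1}` of all the fibres over the affine open `V` vanish, the sections of
`R^p f_* F` over `V` are a finite projective module -/
theorem finite_projective_sections_Rpush {V : S.Opens} (hV : IsAffineOpen V) (p : ℕ)
    (h1 : ∀ s ∈ V, PerfAux.betti f F s (p + 1) = 0)
    (h2 : p = 0 ∨ ∀ s ∈ V, PerfAux.betti f F s (p - 1) = 0) :
    Module.Finite Γ(S, V) Γ((Coh.Rpush f p).obj F, V) ∧
      Module.Projective Γ(S, V) Γ((Coh.Rpush f p).obj F, V) := by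
  obtain ⟨A₀, hA₀, φ, P, hP, ⟨N, hN⟩, hrk, hH⟩ := exists_sections_complex f F hF hflat hV
  letI : Algebra A₀ Γ(S, V) := φ.hom.toAlgebra
  obtain ⟨e⟩ := hH p
  have hmem : ∀ x : Spec Γ(S, V), hV.fromSpec x ∈ V := fun x => by
    have := Set.mem_range_self (f := hV.fromSpec) x
    rw [hV.range_fromSpec] at this
    exact this
  obtain ⟨⟨ha, hb⟩, -⟩ := projective_homology_bc P hP Γ(S, V) (-(p : ℤ)) (fun x => by
    rcases h2 with h2 | h2
    · subst h2
      exact dRank_eq_zero_of_isZero P _ (hN _ (Or.inl (by simp))) _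
    · rcases Nat.eq_zero_or_pos p with hp | hp
      · subst hp
        exact dRank_eq_zero_of_isZero P _ (hN _ (Or.inl (by simp))) _
      · have h3 := hrk x (p - 1)
        rw [h2 _ (hmem x)] at h3
        have h4 : (-(p : ℤ) + 1) = -((p - 1 : ℕ) : ℤ) := by
          rw [Nat.cast_sub hp]
          ring
        rw [h4]
        exact h3) (fun x => by
    have h3 := hrk x (p + 1)
    rw [h1 _ (hmem x)] at h3
    have h4 : (-(p : ℤ) - 1) = -((p + 1 : ℕ) : ℤ) := by
      push_cast
      ring
    rw [h4]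
    exact h3)
  haveI := ha
  haveI := hb
  exact ⟨Module.Finite.equiv e.symm, Module.Projective.of_equiv e.symm⟩


include hF hflat in
/-- the locus where `H^p` of the fibre vanishes, as an open subscheme -/
theorem isOpen_betti_eq_zero (p : ℕ) : IsOpen {s : S | PerfAux.betti f F s p = 0} := by
  have := isOpen_betti_lt f F hF hflat p 1
  convert this using 1
  ext s
  simp

include hF hflat in
/-- `R^p f_* F` vanishes on an open `U` over which `H^p` of all the fibres vanishes -/
theorem isZero_restrict_Rpush (p : ℕ) (U : S.Opens)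
    (h : ∀ s ∈ U, PerfAux.betti f F s p = 0) :
    IsZero (((Coh.Rpush f p).obj F).restrict U.ι) :=
  isZero_restrict_of_affine _ U (fun V hV hVU =>
    subsingleton_sections_Rpush f F hF hflat hV p (fun s hs => h s (hVU hs)))

include hF hflat in
/-- `R^p f_* F` is finite locally free on an open `U` over which `H^{p+1}` and `H^{p-1}` of all the
fibres vanish -/
theorem isFinLocFree_restrict_Rpush (p : ℕ) (U : S.Opens)
    (h1 : ∀ s ∈ U, PerfAux.betti f F s (p + 1) = 0)
    (h2 : p = 0 ∨ ∀ s ∈ U, PerfAux.betti f F s (p - 1) = 0) :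
    FlatMod.IsFinLocFree (((Coh.Rpush f p).obj F).restrict U.ι) := by
  haveI hq : F.IsQuasicoherent := Groth.Agent.Helper18Strict.isQCoh_of_isFP F hF
  haveI : Coh.IsQCoh F := hq
  haveI : ((Coh.Rpush f p).obj F).IsQuasicoherent := Groth.Agent.S0030.result f F p
  refine isFinLocFree_restrict_of_affine _ U (fun V hV hVU => ?_)
  exact finite_projective_sections_Rpush f F hF hflat hV p (fun s hs => h1 s (hVU hs))
    (h2.imp id (fun h2 s hs => h2 s (hVU hs)))

include hF hflat in
/-- `R^p f_* F = 0` if `H^p` of all the fibres vanishes -/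
theorem isZero_Rpush_of_fibres (p : ℕ) (h : ∀ s : S, PerfAux.betti f F s p = 0) :
    IsZero ((Coh.Rpush f p).obj F) := by
  apply Groth.Agent.Lib.Helper17.MV.isZero_of_stalk_subsingleton
  intro y
  refine subsingleton_stalk_of_affine _ y ⊤ trivial (fun V hV _ => ?_)
  exact subsingleton_sections_Rpush f F hF hflat hV p (fun s _ => h s)

end Groth.Agent.Lib.Helper21.NNBC
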