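import Groth.Agent.Lib.Helper21BC0MainB
import Groth.Agent.Lib.Helper21NNBC2

set_option autoImplicit false
set_option linter.style.haveILetI false
universe u
open CategoryTheory CategoryTheory.Limits AlgebraicGeometry TensorProduct Opposite TopologicalSpace

namespace Groth.Agent.Lib.Helper21.BC0Main

open Groth.Agent.Lib.Helper17.StalkBC Groth.Agent.Lib.Helper21.CechMod
  Groth.Agent.Helper13QcqsBC Groth.Agent.Helper13AffBC
  Groth.Agent.Lib.Helper21.BC0Alg Groth.Agent.Lib.Helper21.BC0Geo Groth.Agent.Lib.Helper21.BC0Cx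
  Groth.Agent.Lib.Helper21.NNBC Groth.Agent.Lib.Helper21.AlgBC

local instance (X : Scheme.{u}) : EnoughInjectives X.Modules :=
  Groth.Agent.Lib.Helper17.QCPush.enoughInjectives X

variable {X S : Scheme.{u}} (f : X ⟶ S) [IsProper f] [LocallyOfFinitePresentation f]
  (F : X.Modules) (hF : CohB1.IsFP F) (hflat : FlatMod.IsFlatOver f F)

include hF hflat in
/-- the local universal complex over an affine open `U` of the base, with the kernel condition
controlling the degree-0 base change maps -/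
theorem exists_local_complex0 {U : S.Opens} (hU : IsAffineOpen U) :
    ∃ (A₀ : CommRingCat.{u}) (_ : IsNoetherianRing A₀) (φ : A₀ ⟶ Γ(S, U))
      (P : ChainComplex (ModuleCat.{u} A₀) ℤ),
      (∀ i, Module.Finite A₀ (P.X i) ∧ Module.Projective A₀ (P.X i)) ∧
      (∃ N : ℕ, ∀ i : ℤ, 0 < i ∨ i < -(N : ℤ) → IsZero (P.X i)) ∧
      (∀ (q : Spec Γ(S, U)) (p : ℕ),
        CohIII.dRank P (-(p : ℤ)) (Spec.map φ q) = PerfAux.betti f F (hU.fromSpec q) p) ∧
      (∀ p : ℕ, Nonempty (Γ((Coh.Rpush f p).obj F, U) ≃ₗ[Γ(S, U)]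
        ↑((CohIII.bcCx φ.hom P).homology (-(p : ℤ))))) ∧
      ∀ {S' X' : Scheme.{u}} (g : S' ⟶ S) (g' : X' ⟶ X) (f' : X' ⟶ S')
        (h : IsPullback g' f' f g) {U' : S'.Opens} (_ : IsAffineOpen U') (hle : U' ≤ g ⁻¹ᵁ U),
        letI : Algebra Γ(S, U) Γ(S', U') := (g.appLE U U' hle).hom.toAlgebra
        (KerBC Γ(S', U') ((CohIII.bcCx φ.hom P).d 0 (-1)).hom →
            KBij f g g' f' h F hle (f ⁻¹ᵁ U) le_rfl) ∧
          (KSurj f g g' f' h F hle (f ⁻¹ᵁ U) le_rfl ↔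
            KerSurj Γ(S', U') ((CohIII.bcCx φ.hom P).d 0 (-1)).hom) := by
  haveI hq : F.IsQuasicoherent := Groth.Agent.Helper18Strict.isQCoh_of_isFP F hF
  haveI : Coh.IsQCoh F := hq
  obtain ⟨M⟩ := nonempty_model f F hF hflat hU
  obtain ⟨P, hP, hN, huniv, hK⟩ := Model.exists_complex0 M
  have e0 : Spec.map (𝟙 Γ(S, U)) ≫ hU.fromSpec = hU.fromSpec := by
    rw [Spec.map_id]
    exact Category.id_comp _
  have hsq : IsPullback (f ⁻¹ᵁ U).ι (hRes f hU) f (Spec.map (𝟙 Γ(S, U)) ≫ hU.fromSpec) := by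
    have key : ∀ t : Spec Γ(S, U) ⟶ S, hU.fromSpec = t →
        IsPullback (f ⁻¹ᵁ U).ι (hRes f hU) f t := by
      rintro t rfl
      exact isPullback_hRes f hU
    exact key _ e0.symm
  obtain ⟨hrk, hH⟩ := huniv Γ(S, U) (𝟙 _) _ (hRes f hU) (f ⁻¹ᵁ U).ι hsq
  refine ⟨M.A₀, M.noeth, M.φ, P, hP, hN, fun q p => ?_, fun p => ?_,
    fun {S' X'} g g' f' h {U'} hU' hle => hK g g' f' h hU' hle⟩
  · have h1 := hrk q p
    have h2 : (Spec.map (𝟙 Γ(S, U)) ≫ hU.fromSpec) q = hU.fromSpec q := by rw [e0]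
    have h3 : M.φ ≫ 𝟙 Γ(S, U) = M.φ := Category.comp_id _
    rw [h2, h3] at h1
    exact h1
  · letI := overRes f hU
    obtain ⟨e1⟩ := nonempty_sections_linearEquiv f F hU p
    obtain ⟨e2⟩ := hH p
    let e3 := hhEquiv Γ(S, U) ((Scheme.Modules.restrictFunctorIsoPullback (f ⁻¹ᵁ U).ι).app F) p
    have key : ∀ (σ : M.A₀ ⟶ Γ(S, U)), σ = M.φ →
        Nonempty (Γ((Coh.Rpush f p).obj F, U) ≃ₗ[Γ(S, U)]
          ↑((CohIII.bcCx σ.hom P).homology (-(p : ℤ)))) →
        Nonempty (Γ((Coh.Rpush f p).obj F, U) ≃ₗ[Γ(S, U)]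
          ↑((CohIII.bcCx M.φ.hom P).homology (-(p : ℤ)))) := by
      rintro σ rfl h
      exact h
    exact key (M.φ ≫ 𝟙 _) (Category.comp_id _) ⟨e1.trans (e3.trans e2)⟩

include hF hflat in
/-- if `H¹` of the fibres over the affine open `U` vanishes, the degree-0 base change map is bijective
on the sections over every affine open mapping into `U` -/
theorem bijective_bcMap_app_of_H1 {U : S.Opens} (hU : IsAffineOpen U)
    (h1 : ∀ s ∈ U, PerfAux.betti f F s 1 = 0)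
    {S' X' : Scheme.{u}} (g : S' ⟶ S) (g' : X' ⟶ X) (f' : X' ⟶ S')
    (h : IsPullback g' f' f g) {U' : S'.Opens} (hU' : IsAffineOpen U') (hle : U' ≤ g ⁻¹ᵁ U) :
    Function.Bijective ((bcMap f g g' f' h F).app U') := by
  haveI hq : F.IsQuasicoherent := Groth.Agent.Helper18Strict.isQCoh_of_isFP F hF
  obtain ⟨A₀, hA₀, φ, P, hP, -, hrk, -, hK⟩ := exists_local_complex0 f F hF hflat hU
  letI : Algebra A₀ Γ(S, U) := φ.hom.toAlgebra
  letI : Algebra Γ(S, U) Γ(S', U') := (g.appLE U U' hle).hom.toAlgebra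
  obtain ⟨-, -, ⟨-, hproj⟩⟩ := vanishing_bc P hP Γ(S, U) (-((1 : ℕ) : ℤ)) (fun x => by
    have h1' := hrk x 1
    have h2 : hU.fromSpec x ∈ U := by
      have := Set.mem_range_self (f := hU.fromSpec) x
      rw [hU.range_fromSpec] at this
      exact this
    rw [h1 _ h2] at h1'
    exact h1')
  haveI := (hP (-1)).2
  haveI : Module.Projective Γ(S, U) ((CohIII.bcCx (algebraMap A₀ Γ(S, U)) P).X (-1)) :=
    projective_bcCx_X P Γ(S, U) (-1)
  haveI : Module.Projective Γ(S, U) ((CohIII.bcCx (algebraMap A₀ Γ(S, U)) P).opcycles (-1)) := hproj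
  have hker : KerBC Γ(S', U') ((CohIII.bcCx (algebraMap A₀ Γ(S, U)) P).d 0 (-1)).hom :=
    kerBC_of_projective_opcycles (CohIII.bcCx (algebraMap A₀ Γ(S, U)) P) Γ(S', U')
  have hb := (hK g g' f' h hU' hle).1 hker
  exact (bcMap_app_iff f g g' f' h F hle hU hU').1.2 hb

include hF hflat in
/-- **cohomology and base change in degree 0**: if `H¹` of the fibres over the open `W` vanishes, the
base change map `g^* f_* F → f'_* g'^* F` is an isomorphism for every cartesian square whose base maps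
into `W`. -/
theorem isIso_bcMap_of_H1 (W : S.Opens) (hW : ∀ s ∈ W, PerfAux.betti f F s 1 = 0)
    {S' X' : Scheme.{u}} (g : S' ⟶ S) (g' : X' ⟶ X) (f' : X' ⟶ S')
    (h : IsPullback g' f' f g) (hg : ∀ z : S', g z ∈ W) : IsIso (bcMap f g g' f' h F) := by
  let ι : Type u :=
    {U' : S'.Opens // IsAffineOpen U' ∧ ∃ U : S.Opens, IsAffineOpen U ∧ U ≤ W ∧ U' ≤ g ⁻¹ᵁ U}
  refine isIso_of_bijective_on_basis _ (fun i : ι => i.1) ?_ ?_
  · rw [Opens.isBasis_iff_nbhd]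
    intro W' y hyW
    obtain ⟨V, hV, hyV, hVW⟩ := exists_isAffineOpen_mem_and_subset (x := g y) (U := W) (hg y)
    obtain ⟨U', hU', hyU', hU'W⟩ := exists_isAffineOpen_mem_and_subset (x := y)
      (U := W' ⊓ g ⁻¹ᵁ V) ⟨hyW, hyV⟩
    exact ⟨U', ⟨⟨U', hU', V, hV, hVW, hU'W.trans inf_le_right⟩, rfl⟩, hyU', hU'W.trans inf_le_left⟩
  · rintro ⟨U', hU', U, hU, hUW, hle⟩
    exact bijective_bcMap_app_of_H1 f F hF hflat hU (fun s hs => hW s (hUW hs)) g g' f' h hU' hle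

end Groth.Agent.Lib.Helper21.BC0Main
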