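import Groth.Agent.Lib.Helper21BC0MainC
import Groth.Agent.Lib.Helper21NNBC2

set_option autoImplicit false
set_option linter.style.haveILetI false
universe u
open CategoryTheory CategoryTheory.Limits AlgebraicGeometry TensorProduct Opposite TopologicalSpace

namespace Groth.Agent.Lib.Helper21.BC0Main

variable {X S : Scheme.{u}} (f : X ⟶ S) [IsProper f] (F : X.Modules) (hF : CohB1.IsFP F)

include hF in
theorem finite_fiberH (s : S) (p : ℕ) :
    Module.Finite (S.residueField s) (PerfAux.fiberH f F s p) := by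
  letI : (f.fiber s).Over (Spec (CommRingCat.of (S.residueField s))) :=
    ⟨f.fiberToSpecResidueField s⟩
  haveI : IsProper ((f.fiber s) ↘ Spec (CommRingCat.of (S.residueField s))) :=
    MorphismProperty.pullback_snd (P := @IsProper) _ _ (inferInstance : IsProper f)
  have hfp := Groth.Agent.Helper18Strict.isFP_pullback (f.fiberι s) F hF
  have hcoh : Coh.IsCoh ((Scheme.Modules.pullback (f.fiberι s)).obj F) :=
    ⟨Groth.Agent.Helper18Strict.isQCoh_of_isFP _ hfp, Groth.Agent.Helper18Strict.isFT_of_isFP _ hfp⟩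
  exact Groth.Agent.S0002.result (S.residueField s) (f.fiber s) _ hcoh p

include hF in
theorem subsingleton_fiberH_iff (s : S) (p : ℕ) :
    Subsingleton (PerfAux.fiberH f F s p) ↔ PerfAux.betti f F s p = 0 := by
  haveI := finite_fiberH f F hF s p
  constructor
  · intro h
    exact Module.finrank_zero_of_subsingleton
  · intro h
    exact Module.finrank_zero_iff.mp h

section bound
open Groth.Agent.Lib.Helper21.NNBC

variable [LocallyOfFinitePresentation f] (hflat : FlatMod.IsFlatOver f F)

include hF hflat in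
/-- over an affine open the cohomology of the fibres vanishes in large degrees, uniformly -/
theorem exists_bound_betti {V : S.Opens} (hV : IsAffineOpen V) :
    ∃ N : ℕ, ∀ s ∈ V, ∀ j : ℕ, N < j → PerfAux.betti f F s j = 0 := by
  obtain ⟨A₀, hA₀, φ, P, hP, ⟨N, hN⟩, hrk, -⟩ := exists_sections_complex f F hF hflat hV
  refine ⟨N, fun s hs j hj => ?_⟩
  have hs' : s ∈ Set.range hV.fromSpec := by
    rw [hV.range_fromSpec]
    exact hs
  obtain ⟨q, rfl⟩ := hs'
  rw [← hrk q j]
  exact dRank_eq_zero_of_isZero P _ (hN _ (Or.inr (by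
    have : (N : ℤ) < (j : ℤ) := by exact_mod_cast hj
    omega))) _

include hF hflat in
/-- the locus where all the higher cohomology groups of the fibres vanish is open -/
theorem isOpen_forall_betti_eq_zero :
    IsOpen {s : S | ∀ j : ℕ, 1 ≤ j → PerfAux.betti f F s j = 0} := by
  rw [isOpen_iff_forall_mem_open]
  intro s hs
  obtain ⟨V, hV, hsV, -⟩ := exists_isAffineOpen_mem_and_subset (x := s) (U := ⊤) trivial
  obtain ⟨N, hN⟩ := exists_bound_betti f F hF hflat hV
  refine ⟨(V : Set S) ∩ ⋂ j ∈ Finset.Icc 1 N, {s' : S | PerfAux.betti f F s' j = 0}, ?_, ?_, ?_⟩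
  · rintro s' ⟨hs'V, hs'⟩ j hj
    by_cases hjN : j ≤ N
    · have := Set.mem_iInter₂.1 hs' j (Finset.mem_Icc.2 ⟨hj, hjN⟩)
      exact this
    · exact hN s' hs'V j (not_le.1 hjN)
  · refine V.2.inter (isOpen_biInter_finset (fun j _ => ?_))
    exact isOpen_betti_eq_zero f F hF hflat j
  · refine ⟨hsV, Set.mem_iInter₂.2 (fun j hj => ?_)⟩
    exact hs j (Finset.mem_Icc.1 hj).1

end bound

end Groth.Agent.Lib.Helper21.BC0Main
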