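import Groth.Agent.Lib.Helper21BC0Loc
import Groth.Agent.Lib.Helper21BC0EpiB
import Groth.Agent.Lib.Helper21BC0MainD

set_option autoImplicit false
set_option linter.style.haveILetI false
universe u
open CategoryTheory CategoryTheory.Limits AlgebraicGeometry TensorProduct Opposite TopologicalSpace

namespace Groth.Agent.Lib.Helper21.BC0Nhd

open Groth.Agent.Lib.Helper17.StalkBC Groth.Agent.Helper13QcqsBC Groth.Agent.Helper13AffBC
  Groth.Agent.Lib.Helper21.BC0Alg Groth.Agent.Lib.Helper21.BC0Geo Groth.Agent.Lib.Helper21.BC0Cx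
  Groth.Agent.Lib.Helper21.BC0Free Groth.Agent.Lib.Helper21.BC0Main Groth.Agent.Lib.Helper21.AlgBC
  Groth.Agent.Lib.Helper21.NNBC Groth.Agent.Lib.Helper21.BC0Epi Groth.Agent.Lib.Helper21.BC0Loc

local instance (X : Scheme.{u}) : EnoughInjectives X.Modules :=
  Groth.Agent.Lib.Helper17.QCPush.enoughInjectives X

section SheafLevel
variable {S : Scheme.{u}}

/-- a quasi-coherent module is finite locally free on `U` if every point of `U` has an affine open
neighbourhood inside `U` over which the sections are finite projective -/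
theorem isFinLocFree_restrict_of_affine' (M : S.Modules) [M.IsQuasicoherent] (U : S.Opens)
    (h : ∀ y ∈ U, ∃ V : S.Opens, IsAffineOpen V ∧ y ∈ V ∧ V ≤ U ∧
      Module.Finite Γ(S, V) Γ(M, V) ∧ Module.Projective Γ(S, V) Γ(M, V)) :
    FlatMod.IsFinLocFree (M.restrict U.ι) := by
  refine Groth.Agent.Lib.Helper1.SPL.isFinLocFree_of_local _ (fun y => ?_)
  obtain ⟨V, hV, hyV, hVU, hfin, hproj⟩ := h y.1 y.2
  let e := Groth.Agent.Lib.Helper20.PullbackAff.ΓUEquiv hV M
  haveI : Module.Finite Γ(S, V) ((Groth.Agent.Lib.Helper20.Thickening.ΓUF hV).obj M) :=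
    Module.Finite.equiv e
  haveI : Module.Projective Γ(S, V) ((Groth.Agent.Lib.Helper20.Thickening.ΓUF hV).obj M) :=
    Module.Projective.of_equiv e
  haveI : Module.FinitePresentation Γ(S, V)
      ((Groth.Agent.Lib.Helper20.Thickening.ΓUF hV).obj M) :=
    Module.finitePresentation_of_projective _ _
  obtain ⟨D, m, hyD, hDV, ⟨eD⟩⟩ :=
    Groth.Agent.Lib.Helper20.LocFree.exists_restrict_iso_freeMod M hV y.1 hyV
  have hle : D ≤ U := hDV.trans hVU
  have hD : FlatMod.IsFinLocFree (M.restrict D.ι) :=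
    Groth.Agent.Lib.Helper2.LocFree.isFinLocFree_of_iso_freeMod _ eD
  refine ⟨D, S.homOfLE hle, inferInstance, ?_, ?_⟩
  · rw [Scheme.Hom.mem_opensRange]
    refine ⟨⟨y.1, hyD⟩, ?_⟩
    apply Subtype.ext
    simp
  · exact Groth.Agent.Lib.Helper1.SPL.isFinLocFree_restrict_restrict_of_factor U.ι D.ι
      (S.homOfLE hle) (S.homOfLE_ι hle) M hD

end SheafLevel

variable {X S : Scheme.{u}} (f : X ⟶ S) [IsProper f] [LocallyOfFinitePresentation f]
  (F : X.Modules) (hF : CohB1.IsFP F) (hflat : FlatMod.IsFlatOver f F)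

include hF hflat in
/-- the local universal complex over an affine open `U`, computing the sections of the higher direct
images over all the affine opens inside `U`, and controlling the degree-0 base change maps -/
theorem exists_local_complex1 {U : S.Opens} (hU : IsAffineOpen U) :
    ∃ (A₀ : CommRingCat.{u}) (_ : IsNoetherianRing A₀) (φ : A₀ ⟶ Γ(S, U))
      (P : ChainComplex (ModuleCat.{u} A₀) ℤ),
      (∀ i, Module.Finite A₀ (P.X i) ∧ Module.Projective A₀ (P.X i)) ∧
      (∃ N : ℕ, ∀ i : ℤ, 0 < i ∨ i < -(N : ℤ) → IsZero (P.X i)) ∧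
      (∀ {V : S.Opens} (_ : IsAffineOpen V) (hle : V ≤ U) (p : ℕ),
        Nonempty (Γ((Coh.Rpush f p).obj F, V) ≃ₗ[Γ(S, V)]
          ↑((CohIII.bcCx (φ ≫ S.presheaf.map (homOfLE hle).op).hom P).homology (-(p : ℤ))))) ∧
      ∀ {S' X' : Scheme.{u}} (g : S' ⟶ S) (g' : X' ⟶ X) (f' : X' ⟶ S')
        (h : IsPullback g' f' f g) {U' : S'.Opens} (_ : IsAffineOpen U') (hle : U' ≤ g ⁻¹ᵁ U),
        letI : Algebra Γ(S, U) Γ(S', U') := (g.appLE U U' hle).hom.toAlgebra
        (KerBC Γ(S', U') ((CohIII.bcCx φ.hom P).d 0 (-1)).hom →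
            KBij f g g' f' h F hle (f ⁻¹ᵁ U) le_rfl) ∧
          (KSurj f g g' f' h F hle (f ⁻¹ᵁ U) le_rfl ↔
            KerSurj Γ(S', U') ((CohIII.bcCx φ.hom P).d 0 (-1)).hom) := by
  haveI hq : F.IsQuasicoherent := Groth.Agent.Helper18Strict.isQCoh_of_isFP F hF
  haveI : Coh.IsQCoh F := hq
  obtain ⟨M⟩ := nonempty_model f F hF hflat hU
  obtain ⟨P, hP, hN, huniv, hK⟩ := Model.exists_complex0 M
  refine ⟨M.A₀, M.noeth, M.φ, P, hP, hN, fun {V} hV hle p => ?_,
    fun {S' X'} g g' f' h {U'} hU' hle => hK g g' f' h hU' hle⟩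
  have e0 : Spec.map (S.presheaf.map (homOfLE hle).op) ≫ hU.fromSpec = hV.fromSpec :=
    hU.map_fromSpec hV (homOfLE hle).op
  have hsq : IsPullback (f ⁻¹ᵁ V).ι (hRes f hV) f
      (Spec.map (S.presheaf.map (homOfLE hle).op) ≫ hU.fromSpec) := by
    have key : ∀ t : Spec Γ(S, V) ⟶ S, hV.fromSpec = t →
        IsPullback (f ⁻¹ᵁ V).ι (hRes f hV) f t := by
      rintro t rfl
      exact isPullback_hRes f hV
    exact key _ e0.symm
  obtain ⟨-, hH⟩ := huniv Γ(S, V) (S.presheaf.map (homOfLE hle).op) _ (hRes f hV) (f ⁻¹ᵁ V).ι hsq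
  letI := overRes f hV
  obtain ⟨e1⟩ := nonempty_sections_linearEquiv f F hV p
  obtain ⟨e2⟩ := hH p
  let e3 := hhEquiv Γ(S, V) ((Scheme.Modules.restrictFunctorIsoPullback (f ⁻¹ᵁ V).ι).app F) p
  exact ⟨e1.trans (e3.trans e2)⟩

include hF hflat in
/-- **cohomology and base change in degree 0 at a point**: if the base change map of the fibre square at
`y` is an epimorphism, then `y` has an open neighbourhood over which `f_* F` is finite locally free and
commutes with every base change. -/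
theorem exists_nhd_of_epi (y : S) (hy : Epi (fibreBC f F y)) :
    ∃ U : S.Opens, y ∈ U ∧
      FlatMod.IsFinLocFree (((Coh.Rpush f 0).obj F).restrict U.ι) ∧
      ∀ {S' X' : Scheme.{u}} (g : S' ⟶ S) (g' : X' ⟶ X) (f' : X' ⟶ S')
        (h : IsPullback g' f' f g), (∀ z : S', g z ∈ U) → IsIso (bcMap f g g' f' h F) := by
  haveI hq : F.IsQuasicoherent := Groth.Agent.Helper18Strict.isQCoh_of_isFP F hF
  haveI : Coh.IsQCoh F := hq
  obtain ⟨V, hV, hyV, -⟩ := exists_isAffineOpen_mem_and_subset (x := y) (U := ⊤) trivial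
  obtain ⟨A₀, hA₀, φ, P, hP, ⟨N, hN⟩, hH, hK⟩ := exists_local_complex1 f F hF hflat hV
  letI : Algebra A₀ Γ(S, V) := φ.hom.toAlgebra
  let Q := CohIII.bcCx (algebraMap A₀ Γ(S, V)) P
  have hfin : ∀ i, Module.Finite Γ(S, V) (Q.X i) := fun i => by
    haveI := (hP i).1
    exact finite_bcCx_X P Γ(S, V) i
  have hproj : ∀ i, Module.Projective Γ(S, V) (Q.X i) := fun i => by
    haveI := (hP i).2
    exact projective_bcCx_X P Γ(S, V) i
  haveI := hfin 0
  haveI := hfin (-1)
  haveI := hproj (-1)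
  have hz : IsZero (Q.X 1) :=
    Functor.map_isZero (ModuleCat.extendScalars (algebraMap A₀ Γ(S, V))) (hN 1 (Or.inl one_pos))
  haveI : Module.FinitePresentation Γ(S, V) (Q.opcycles (-1)) :=
    finitePresentation_opcycles Q 0 (-1) (by simp)
  -- the free locus of the first cokernel
  let Ω : (Spec Γ(S, V)).Opens :=
    ⟨Module.freeLocus Γ(S, V) (Q.opcycles (-1)), Module.isOpen_freeLocus⟩
  have hle0 : (⊤ : (Spec (S.residueField y)).Opens) ≤ (S.fromSpecResidueField y) ⁻¹ᵁ V := by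
    intro x _
    change S.fromSpecResidueField y x ∈ V
    rw [Scheme.fromSpecResidueField_apply]
    exact hyV
  obtain ⟨q₀, hq₀1, hq₀2⟩ := exists_mem_freeLocus_of_epi f F (S.fromSpecResidueField y)
    (f.fiberι y) (f.fiberToSpecResidueField y)
    (IsPullback.of_hasPullback f (S.fromSpecResidueField y)) hV hle0 hy Q
    (hK _ _ _ _ (isAffineOpen_top _) hle0).2 default
  have hq₀y : hV.fromSpec q₀ = y := hq₀1.trans (Scheme.fromSpecResidueField_apply y default)
  -- basic opens inside the free locus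
  have hbasic : ∀ q : Spec Γ(S, V), q ∈ Ω → ∃ a : Γ(S, V),
      q ∈ PrimeSpectrum.basicOpen a ∧
        (PrimeSpectrum.basicOpen a : Set (PrimeSpectrum Γ(S, V))) ⊆
          Module.freeLocus Γ(S, V) (Q.opcycles (-1)) := by
    intro q hq
    obtain ⟨_, ⟨_, ⟨a, rfl⟩, rfl⟩, hqa, hsub⟩ :=
      PrimeSpectrum.isBasis_basic_opens.exists_subset_of_mem_open hq Ω.2
    exact ⟨a, hqa, hsub⟩
  -- the two consequences over a basic open inside the free locus
  have hloc : ∀ a : Γ(S, V), (PrimeSpectrum.basicOpen a : Set (PrimeSpectrum Γ(S, V))) ⊆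
      Module.freeLocus Γ(S, V) (Q.opcycles (-1)) →
      ∀ x : PrimeSpectrum Γ(S, S.basicOpen a),
        PrimeSpectrum.comap (algebraMap Γ(S, V) Γ(S, S.basicOpen a)) x ∈
          Module.freeLocus Γ(S, V) (Q.opcycles (-1)) := by
    intro a ha x
    haveI : IsLocalization.Away a Γ(S, S.basicOpen a) := hV.isLocalization_basicOpen a
    apply ha
    rw [← PrimeSpectrum.localization_away_comap_range Γ(S, S.basicOpen a) a]
    exact ⟨x, rfl⟩
  refine ⟨hV.fromSpec ''ᵁ Ω, ⟨q₀, hq₀2, hq₀y⟩, ?_, ?_⟩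
  · -- finite local freeness
    haveI : ((Coh.Rpush f 0).obj F).IsQuasicoherent := Groth.Agent.S0030.result f F 0
    refine isFinLocFree_restrict_of_affine' _ _ ?_
    rintro _ ⟨q, hq, rfl⟩
    obtain ⟨a, hqa, ha⟩ := hbasic q hq
    have himg : hV.fromSpec ''ᵁ PrimeSpectrum.basicOpen a = S.basicOpen a :=
      hV.fromSpec_image_basicOpen a
    refine ⟨S.basicOpen a, hV.basicOpen a, ?_, ?_, ?_⟩
    · rw [← himg]
      exact ⟨q, hqa, rfl⟩
    · rw [← himg]
      exact hV.fromSpec.image_mono ha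
    · obtain ⟨e⟩ := hH (hV.basicOpen a) (S.basicOpen_le a) 0
      haveI : IsLocalization.Away a Γ(S, S.basicOpen a) := hV.isLocalization_basicOpen a
      obtain ⟨h1, h2⟩ := finite_projective_homology_zero Γ(S, S.basicOpen a) Q hfin hproj hz
        (hloc a ha)
      let Θ := bcCxComp (algebraMap A₀ Γ(S, V)) (algebraMap Γ(S, V) Γ(S, S.basicOpen a)) P
      let eΘ := ((HomologicalComplex.homologyFunctor (ModuleCat.{u} Γ(S, S.basicOpen a))
        (ComplexShape.down ℤ) 0).mapIso Θ).toLinearEquiv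
      have e' : Γ((Coh.Rpush f 0).obj F, S.basicOpen a) ≃ₗ[Γ(S, S.basicOpen a)]
          ↑((CohIII.bcCx (algebraMap Γ(S, V) Γ(S, S.basicOpen a)) Q).homology 0) := by
        have e00 : (-((0 : ℕ) : ℤ)) = 0 := by norm_num
        rw [e00] at e
        exact e.trans eΘ
      haveI := h1
      haveI := h2
      exact ⟨Module.Finite.equiv e'.symm, Module.Projective.of_equiv e'.symm⟩
  · -- base change
    intro S' X' g g' f' h hg
    let ι : Type u :=
      {U' : S'.Opens // IsAffineOpen U' ∧ ∃ a : Γ(S, V),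
        (PrimeSpectrum.basicOpen a : Set (PrimeSpectrum Γ(S, V))) ⊆
          Module.freeLocus Γ(S, V) (Q.opcycles (-1)) ∧ U' ≤ g ⁻¹ᵁ (S.basicOpen a)}
    refine isIso_of_bijective_on_basis _ (fun i : ι => i.1) ?_ ?_
    · rw [Opens.isBasis_iff_nbhd]
      intro W' z hzW
      obtain ⟨q, hq, hqz⟩ := hg z
      obtain ⟨a, hqa, ha⟩ := hbasic q hq
      have hza : g z ∈ S.basicOpen a := by
        rw [← hV.fromSpec_image_basicOpen a]
        exact ⟨q, hqa, hqz⟩
      obtain ⟨U', hU', hzU', hU'W⟩ := exists_isAffineOpen_mem_and_subset (x := z)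
        (U := W' ⊓ g ⁻¹ᵁ (S.basicOpen a)) ⟨hzW, hza⟩
      exact ⟨U', ⟨⟨U', hU', a, ha, hU'W.trans inf_le_right⟩, rfl⟩, hzU', hU'W.trans inf_le_left⟩
    · rintro ⟨U', hU', a, ha, hle'⟩
      have hle : U' ≤ g ⁻¹ᵁ V := hle'.trans (g.preimage_mono (S.basicOpen_le a))
      letI : Algebra Γ(S, V) Γ(S', U') := (g.appLE V U' hle).hom.toAlgebra
      letI : Algebra Γ(S, S.basicOpen a) Γ(S', U') := (g.appLE (S.basicOpen a) U' hle').hom.toAlgebra
      haveI : IsScalarTower Γ(S, V) Γ(S, S.basicOpen a) Γ(S', U') :=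
        IsScalarTower.of_algebraMap_eq (fun x => by
          have := Scheme.Hom.map_appLE g hle' (homOfLE (S.basicOpen_le a)).op
          exact (ConcreteCategory.congr_hom this x).symm)
      haveI : IsLocalization.Away a Γ(S, S.basicOpen a) := hV.isLocalization_basicOpen a
      haveI : Module.Flat Γ(S, V) Γ(S, S.basicOpen a) :=
        IsLocalization.flat Γ(S, S.basicOpen a) (Submonoid.powers a)
      have hker : KerBC Γ(S', U') (Q.d 0 (-1)).hom :=
        kerBC_of_flat_of_freeLocus Γ(S, S.basicOpen a) Q (hloc a ha) Γ(S', U')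
      have hb := (hK g g' f' h hU' hle).1 hker
      exact (bcMap_app_iff f g g' f' h F hle hV hU').1.2 hb

end Groth.Agent.Lib.Helper21.BC0Nhd
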