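import Mathlib

/-!
# Ext out of a coproduct (helper21)
-/

set_option autoImplicit false
set_option linter.style.haveILetI false
set_option linter.unusedVariables false
universe w v u t

open CategoryTheory Abelian Limits

namespace Groth.Agent.Lib.Helper21.BCCop

/-- `ι j : Z j ⟶ P` exhibits `P` as a coproduct of the `Z j` (propositional form) -/
structure IsCoprod {C : Type u} [Category.{v} C] {J : Type t} {Z : J → C} {P : C}
    (ι : ∀ j, Z j ⟶ P) : Prop where
  hom_ext : ∀ {W : C} (φ φ' : P ⟶ W), (∀ j, ι j ≫ φ = ι j ≫ φ') → φ = φ'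
  exists_desc : ∀ {W : C} (φ : ∀ j, Z j ⟶ W), ∃ ψ : P ⟶ W, ∀ j, ι j ≫ ψ = φ j

theorem isCoprod_of_isColimit {C : Type u} [Category.{v} C] {J : Type t} {Z : J → C}
    (c : Cofan Z) (hc : IsColimit c) : IsCoprod (fun j => c.inj j) where
  hom_ext φ φ' h := Cofan.IsColimit.hom_ext hc _ _ h
  exists_desc φ := ⟨Cofan.IsColimit.desc hc φ, fun j => Cofan.IsColimit.fac hc φ j⟩

theorem isCoprod_map {C : Type u} [Category.{v} C] {D : Type*} [Category D] (Φ : C ⥤ D)
    {J : Type t} {Z : J → C} (c : Cofan Z) (hc : IsColimit c)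
    [PreservesColimit (Discrete.functor Z) Φ] :
    IsCoprod (fun j => Φ.map (c.inj j)) := by
  have h := isColimitOfPreserves Φ hc
  constructor
  · intro W φ φ' hφ
    apply h.hom_ext
    rintro ⟨j⟩
    exact hφ j
  · intro W φ
    let s : Cocone (Discrete.functor Z ⋙ Φ) :=
      { pt := W
        ι := Discrete.natTrans fun ⟨j⟩ => φ j }
    exact ⟨h.desc s, fun j => h.fac s ⟨j⟩⟩

variable {C : Type u} [Category.{v} C] [Abelian C] [HasExt.{w} C] [EnoughInjectives C]
  {J : Type t} {Z : J → C} {P : C} {ι : ∀ j, Z j ⟶ P}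

omit [EnoughInjectives C] in
lemma assoc₀ {Z' P Y T : C} (f : Z' ⟶ P) {n m k : ℕ} (z : Ext.{w} P Y n) (γ : Ext.{w} Y T m)
    (h : n + m = k) :
    ((Ext.mk₀ f).comp z (zero_add n)).comp γ h = (Ext.mk₀ f).comp (z.comp γ h) (zero_add k) :=
  Ext.comp_assoc _ _ _ (zero_add n) h (by omega)

theorem ext_coprod (hι : IsCoprod ι) : ∀ (n : ℕ) (F : C),
    (∀ x : Ext.{w} P F n, (∀ j, (Ext.mk₀ (ι j)).comp x (zero_add n) = 0) → x = 0) ∧
    (∀ y : ∀ j, Ext.{w} (Z j) F n, ∃ x : Ext.{w} P F n,
      ∀ j, (Ext.mk₀ (ι j)).comp x (zero_add n) = y j) := by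
  intro n
  induction n with
  | zero =>
    intro F
    constructor
    · intro x hx
      obtain ⟨φ, rfl⟩ := (Ext.mk₀_bijective _ _).2 x
      have : φ = 0 := by
        apply hι.hom_ext
        intro j
        have h1 := hx j
        rw [Ext.mk₀_comp_mk₀, ← Ext.mk₀_zero] at h1
        rw [(Ext.mk₀_bijective _ _).1 h1, comp_zero]
      rw [this, Ext.mk₀_zero]
    · intro y
      choose φ hφ using fun j => (Ext.mk₀_bijective _ _).2 (y j)
      obtain ⟨ψ, hψ⟩ := hι.exists_desc φ
      refine ⟨Ext.mk₀ ψ, fun j => ?_⟩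
      rw [Ext.mk₀_comp_mk₀, hψ, hφ]
  | succ n ih =>
    intro F
    let S : ShortComplex C := ShortComplex.mk (Injective.ι F) (cokernel.π (Injective.ι F))
      (cokernel.condition _)
    have hS : S.ShortExact :=
      { exact := ShortComplex.exact_cokernel (Injective.ι F)
        mono_f := inferInstanceAs (Mono (Injective.ι F))
        epi_g := inferInstanceAs (Epi (cokernel.π (Injective.ι F))) }
    haveI : Injective S.X₂ := inferInstanceAs (Injective (Injective.under F))
    constructor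
    · intro x hx
      obtain ⟨z, hz⟩ := Ext.covariant_sequence_exact₁ P hS x (Ext.eq_zero_of_injective _) rfl
      have h1 : ∀ j, ∃ w : Ext.{w} (Z j) S.X₂ n,
          w.comp (Ext.mk₀ S.g) (add_zero n) = (Ext.mk₀ (ι j)).comp z (zero_add n) := by
        intro j
        apply Ext.covariant_sequence_exact₃ (Z j) hS _ rfl
        rw [assoc₀, hz, hx j]
      choose w hw using h1
      obtain ⟨W, hW⟩ := (ih S.X₂).2 w
      have h2 : z - W.comp (Ext.mk₀ S.g) (add_zero n) = 0 := by
        apply (ih S.X₃).1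
        intro j
        rw [sub_eq_add_neg, Ext.comp_add, Ext.comp_neg, ← assoc₀, hW, hw, add_neg_cancel]
      rw [sub_eq_zero] at h2
      rw [← hz, h2, Ext.comp_assoc_of_second_deg_zero, hS.comp_extClass, Ext.comp_zero]
    · intro y
      have h1 : ∀ j, ∃ z : Ext.{w} (Z j) S.X₃ n, z.comp hS.extClass rfl = y j := fun j =>
        Ext.covariant_sequence_exact₁ (Z j) hS (y j) (Ext.eq_zero_of_injective _) rfl
      choose z hz using h1
      obtain ⟨zz, hzz⟩ := (ih S.X₃).2 z
      refine ⟨zz.comp hS.extClass rfl, fun j => ?_⟩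
      rw [← assoc₀, hzz, hz]

end Groth.Agent.Lib.Helper21.BCCop
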