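import Mathlib
import Groth.Agent.Lib.Helper21BCExt
import Groth.Agent.Lib.Helper21BCCop

/-!
# Base change on Ext: generators, coproducts and dimension shifting (helper21)
-/

set_option autoImplicit false
set_option linter.style.haveILetI false
set_option linter.unusedSectionVars false
universe w w' v v' u u' a b t

open CategoryTheory Abelian TensorProduct Limits

namespace Groth.Agent.Lib.Helper21.BCGen
open Groth.Agent.Lib.Helper21.BCExt Groth.Agent.Lib.Helper21.BCCop

/-- dual basis of a finite projective module -/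
theorem exists_dualBasis (A : Type a) (B : Type b) [CommRing A] [AddCommGroup B] [Module A B]
    [Module.Finite A B] [Module.Projective A B] :
    ∃ (r : ℕ) (e : Fin r → B) (φ : Fin r → B →ₗ[A] A), ∀ x : B, x = ∑ k, φ k x • e k := by
  obtain ⟨r, e, he⟩ := Module.Finite.exists_fin (R := A) (M := B)
  have hsurj : Function.Surjective (Fintype.linearCombination A e) := by
    rw [← LinearMap.range_eq_top, Fintype.range_linearCombination, he]
  obtain ⟨s, hs⟩ := Module.projective_lifting_property (Fintype.linearCombination A e)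
    LinearMap.id hsurj
  refine ⟨r, e, fun k => (LinearMap.proj k).comp s, fun x => ?_⟩
  have h1 := LinearMap.congr_fun hs x
  rw [LinearMap.comp_apply, Fintype.linearCombination_apply, LinearMap.id_apply] at h1
  exact h1.symm

section coord
variable {A : Type a} [CommRing A] {B : Type b} [AddCommGroup B] [Module A B]
  {E : Type*} [AddCommGroup E] [Module A E]

/-- the coordinate map `B ⊗ E → E` attached to a functional on `B` -/
noncomputable def coord (φ : B →ₗ[A] A) : B ⊗[A] E →ₗ[A] E :=
  (TensorProduct.lid A E).toLinearMap ∘ₗ φ.rTensor E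

lemma coord_tmul (φ : B →ₗ[A] A) (s : B) (x : E) : coord φ (s ⊗ₜ[A] x) = φ s • x := by
  simp [coord]

lemma coord_lTensor {E₁ : Type*} [AddCommGroup E₁] [Module A E₁] (φ : B →ₗ[A] A)
    (l : E →ₗ[A] E₁) (t : B ⊗[A] E) : coord φ (l.lTensor B t) = l (coord φ t) := by
  induction t with
  | zero => simp
  | add x y hx hy => rw [map_add, map_add, hx, hy, map_add, map_add]
  | tmul s x => rw [LinearMap.lTensor_tmul, coord_tmul, coord_tmul, map_smul]

lemma eq_sum_coord {r : ℕ} (e : Fin r → B) (φ : Fin r → B →ₗ[A] A)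
    (h : ∀ x : B, x = ∑ k, φ k x • e k) (t : B ⊗[A] E) :
    t = ∑ k, e k ⊗ₜ[A] coord (φ k) t := by
  induction t with
  | zero => simp
  | add x y hx hy =>
    conv_lhs => rw [hx, hy]
    rw [← Finset.sum_add_distrib]
    refine Finset.sum_congr rfl fun k _ => ?_
    rw [map_add, TensorProduct.tmul_add]
  | tmul s x =>
    conv_lhs => rw [h s]
    rw [TensorProduct.sum_tmul]
    refine Finset.sum_congr rfl fun k _ => ?_
    rw [coord_tmul, TensorProduct.smul_tmul]

end coord


section BC
variable {C : Type u} [Category.{v} C] [Abelian C] [HasExt.{w} C]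
variable {D : Type u'} [Category.{v'} D] [Abelian D] [HasExt.{w'} D]
variable (Φ : C ⥤ D) [Φ.Additive] [PreservesFiniteLimits Φ] [PreservesFiniteColimits Φ]
variable {A : Type a} [CommRing A] {B : Type b} [CommRing B] [Algebra A B]
variable {F : C} {F' : D} (ρ : A →+* End F) (ρ' : B →+* End F') (c : Φ.obj F ⟶ F')
variable (hc : ∀ r : A, Φ.map (ρ r) ≫ c = c ≫ ρ' (algebraMap A B r))

/-- a coproduct of good objects is good, when `B` is finite projective over `A` -/
theorem good_coprod [EnoughInjectives C] [EnoughInjectives D] [Module.Finite A B]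
    [Module.Projective A B] {J : Type t} {Z : J → C} {P : C} (ι : ∀ j, Z j ⟶ P)
    (hι : IsCoprod ι) (hι' : IsCoprod (fun j => Φ.map (ι j)))
    (hZ : ∀ j, Good Φ ρ ρ' c hc (Z j)) : Good Φ ρ ρ' c hc P := by
  intro n
  obtain ⟨r, e, φ, hφ⟩ := exists_dualBasis A B
  have hsq : ∀ (j : J) (t : B ⊗[A] ExtM ρ P n),
      T Φ ρ ρ' c hc (Z j) n ((pre ρ (Ext.mk₀ (ι j)) (zero_add n)).lTensor B t) =
        pre ρ' (Ext.mk₀ (Φ.map (ι j))) (zero_add n) (T Φ ρ ρ' c hc P n t) := by
    intro j t
    rw [T_pre, Ext.mapExactFunctor_mk₀]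
  constructor
  · rw [injective_iff_map_eq_zero]
    intro t ht
    have h1 : ∀ j, (pre ρ (Ext.mk₀ (ι j)) (zero_add n)).lTensor B t = 0 := by
      intro j
      apply (hZ j n).1
      rw [hsq, ht, map_zero, map_zero]
    have h2 : ∀ k, coord (φ k) t = 0 := by
      intro k
      have h3 : ∀ j, (Ext.mk₀ (ι j)).comp (coord (φ k) t).toExt (zero_add n) = 0 := by
        intro j
        have h4 := coord_lTensor (φ k) (pre ρ (Ext.mk₀ (ι j)) (zero_add n)) t
        rw [h1 j, map_zero] at h4
        exact h4.symm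
      exact ((ext_coprod hι n F).1 (coord (φ k) t).toExt h3)
    rw [eq_sum_coord e φ hφ t]
    refine Finset.sum_eq_zero fun k _ => ?_
    rw [h2 k, TensorProduct.tmul_zero]
  · intro y
    have h1 : ∀ j, ∃ tj : B ⊗[A] ExtM ρ (Z j) n,
        T Φ ρ ρ' c hc (Z j) n tj = pre ρ' (Ext.mk₀ (Φ.map (ι j))) (zero_add n) y :=
      fun j => (hZ j n).2 _
    choose tj htj using h1
    have h2 : ∀ k, ∃ x : Ext.{w} P F n, ∀ j,
        (Ext.mk₀ (ι j)).comp x (zero_add n) = (coord (φ k) (tj j)).toExt :=
      fun k => (ext_coprod hι n F).2 fun j => (coord (φ k) (tj j)).toExt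
    choose x hx using h2
    let t : B ⊗[A] ExtM ρ P n := ∑ k, e k ⊗ₜ[A] ExtM.ofExt ρ (x k)
    refine ⟨t, ?_⟩
    have h3 : ∀ j, (pre ρ (Ext.mk₀ (ι j)) (zero_add n)).lTensor B t = tj j := by
      intro j
      rw [eq_sum_coord e φ hφ (tj j), map_sum]
      refine Finset.sum_congr rfl fun k _ => ?_
      rw [LinearMap.lTensor_tmul]
      congr 1
      exact hx k j
    have h4 : T Φ ρ ρ' c hc P n t - y = 0 := by
      have h5 : ∀ j, (Ext.mk₀ (Φ.map (ι j))).comp (T Φ ρ ρ' c hc P n t - y).toExt (zero_add n) = 0 := by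
        intro j
        have h6 := hsq j t
        rw [h3 j, htj j] at h6
        have h7 : pre ρ' (Ext.mk₀ (Φ.map (ι j))) (zero_add n) (T Φ ρ ρ' c hc P n t - y) = 0 := by
          rw [map_sub, ← h6, sub_self]
        exact h7
      exact (ext_coprod hι' n F').1 _ h5
    exact sub_eq_zero.mp h4


section gen
variable [Module.Flat A B]

/-- the kernel short exact sequence of an epimorphism -/
noncomputable def kerSC {P K : C} (π : P ⟶ K) : ShortComplex C :=
  ShortComplex.mk (kernel.ι π) π (kernel.condition π)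

lemma kerSC_shortExact {P K : C} (π : P ⟶ K) [Epi π] : (kerSC π).ShortExact :=
  { exact := ShortComplex.exact_of_f_is_kernel _ (kernelIsKernel π)
    mono_f := inferInstanceAs (Mono (kernel.ι π))
    epi_g := inferInstanceAs (Epi π) }

variable (hgen : ∀ K : C, ∃ (P : C) (π : P ⟶ K), Epi π ∧ Good Φ ρ ρ' c hc P)
include hgen

/-- degree-zero injectivity holds for every object -/
theorem T0_injective (Z : C) : Function.Injective (T Φ ρ ρ' c hc Z 0) := by
  obtain ⟨P, π, hπ, hP⟩ := hgen Z
  have hS := kerSC_shortExact π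
  rw [injective_iff_map_eq_zero]
  intro t ht
  have h1 : (pre ρ (Ext.mk₀ (kerSC π).g) (zero_add 0)).lTensor B t = 0 := by
    apply (hP 0).1
    have e1 := sq_g Φ ρ ρ' c hc hS 0 t
    have e2 : pre ρ' (Ext.mk₀ ((kerSC π).map Φ).g) (zero_add 0)
        (T Φ ρ ρ' c hc (kerSC π).X₃ 0 t) = 0 := (congrArg _ ht).trans (map_zero _)
    exact e1.trans (e2.trans (map_zero _).symm)
  exact (injective_iff_map_eq_zero _).1
    (Module.Flat.lTensor_preserves_injective_linearMap _ (injective₀ ρ hS)) t h1

/-- **dimension shifting**: if every object is a quotient of a good object, every object is good -/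
theorem good_of_generators : ∀ Z : C, Good Φ ρ ρ' c hc Z := by
  have key : ∀ N : ℕ, ∀ Z : C, (∀ n, n < N → Function.Bijective (T Φ ρ ρ' c hc Z n)) ∧
      Function.Injective (T Φ ρ ρ' c hc Z N) := by
    intro N
    induction N with
    | zero => exact fun Z => ⟨fun n hn => absurd hn (Nat.not_lt_zero n), T0_injective Φ ρ ρ' c hc hgen Z⟩
    | succ N ih =>
      intro Z
      obtain ⟨P, π, hπ, hP⟩ := hgen Z
      have hS := kerSC_shortExact π
      have hS' := hS.map_of_exact Φ
      have hK := ih (kerSC π).X₁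
      have hZ := ih Z
      have hsurj : Function.Surjective (T Φ ρ ρ' c hc Z N) := by
        cases N with
        | zero =>
          refine AddMonoidHom.surjective_of_surjective_of_injective_of_left_exact
            ((pre ρ (Ext.mk₀ (kerSC π).g) (zero_add 0)).lTensor B).toAddMonoidHom
            ((pre ρ (Ext.mk₀ (kerSC π).f) (zero_add 0)).lTensor B).toAddMonoidHom
            (pre ρ' (Ext.mk₀ ((kerSC π).map Φ).g) (zero_add 0)).toAddMonoidHom
            (pre ρ' (Ext.mk₀ ((kerSC π).map Φ).f) (zero_add 0)).toAddMonoidHom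
            (T Φ ρ ρ' c hc (kerSC π).X₃ 0).toAddMonoidHom
            (T Φ ρ ρ' c hc (kerSC π).X₂ 0).toAddMonoidHom
            (T Φ ρ ρ' c hc (kerSC π).X₁ 0).toAddMonoidHom ?_ ?_ ?_ ?_ (hP 0).2 hK.2 ?_
          · ext t
            exact (sq_g Φ ρ ρ' c hc hS 0 t).symm
          · ext t
            exact (sq_f Φ ρ ρ' c hc hS 0 t).symm
          · exact Module.Flat.lTensor_exact B (exact₂ ρ hS 0)
          · exact exact₂ ρ' hS' 0
          · exact injective₀ ρ' hS'
        | succ m =>
          refine AddMonoidHom.surjective_of_surjective_of_surjective_of_injective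
            ((pre ρ hS.extClass (show 1 + m = m + 1 by omega)).lTensor B).toAddMonoidHom
            ((pre ρ (Ext.mk₀ (kerSC π).g) (zero_add (m + 1))).lTensor B).toAddMonoidHom
            ((pre ρ (Ext.mk₀ (kerSC π).f) (zero_add (m + 1))).lTensor B).toAddMonoidHom
            (pre ρ' hS'.extClass (show 1 + m = m + 1 by omega)).toAddMonoidHom
            (pre ρ' (Ext.mk₀ ((kerSC π).map Φ).g) (zero_add (m + 1))).toAddMonoidHom
            (pre ρ' (Ext.mk₀ ((kerSC π).map Φ).f) (zero_add (m + 1))).toAddMonoidHom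
            (T Φ ρ ρ' c hc (kerSC π).X₁ m).toAddMonoidHom
            (T Φ ρ ρ' c hc (kerSC π).X₃ (m + 1)).toAddMonoidHom
            (T Φ ρ ρ' c hc (kerSC π).X₂ (m + 1)).toAddMonoidHom
            (T Φ ρ ρ' c hc (kerSC π).X₁ (m + 1)).toAddMonoidHom
            ?_ ?_ ?_ ?_ ?_ ?_ (hK.1 m (Nat.lt_succ_self m)).2 (hP (m + 1)).2 hK.2
          · ext t
            exact (sq_δ Φ ρ ρ' c hc hS m t).symm
          · ext t
            exact (sq_g Φ ρ ρ' c hc hS (m + 1) t).symm
          · ext t
            exact (sq_f Φ ρ ρ' c hc hS (m + 1) t).symm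
          · exact Module.Flat.lTensor_exact B (exact₂ ρ hS (m + 1))
          · exact exact₃ ρ' hS' m
          · exact exact₂ ρ' hS' (m + 1)
      have hinj : Function.Injective (T Φ ρ ρ' c hc Z (N + 1)) := by
        refine AddMonoidHom.injective_of_surjective_of_injective_of_injective
          ((pre ρ (Ext.mk₀ (kerSC π).f) (zero_add N)).lTensor B).toAddMonoidHom
          ((pre ρ hS.extClass (show 1 + N = N + 1 by omega)).lTensor B).toAddMonoidHom
          ((pre ρ (Ext.mk₀ (kerSC π).g) (zero_add (N + 1))).lTensor B).toAddMonoidHom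
          (pre ρ' (Ext.mk₀ ((kerSC π).map Φ).f) (zero_add N)).toAddMonoidHom
          (pre ρ' hS'.extClass (show 1 + N = N + 1 by omega)).toAddMonoidHom
          (pre ρ' (Ext.mk₀ ((kerSC π).map Φ).g) (zero_add (N + 1))).toAddMonoidHom
          (T Φ ρ ρ' c hc (kerSC π).X₂ N).toAddMonoidHom
          (T Φ ρ ρ' c hc (kerSC π).X₁ N).toAddMonoidHom
          (T Φ ρ ρ' c hc (kerSC π).X₃ (N + 1)).toAddMonoidHom
          (T Φ ρ ρ' c hc (kerSC π).X₂ (N + 1)).toAddMonoidHom
          ?_ ?_ ?_ ?_ ?_ ?_ (hP N).2 hK.2 (hP (N + 1)).1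
        · ext t
          exact (sq_f Φ ρ ρ' c hc hS N t).symm
        · ext t
          exact (sq_δ Φ ρ ρ' c hc hS N t).symm
        · ext t
          exact (sq_g Φ ρ ρ' c hc hS (N + 1) t).symm
        · exact Module.Flat.lTensor_exact B (exact₁ ρ hS N)
        · exact Module.Flat.lTensor_exact B (exact₃ ρ hS N)
        · exact exact₁ ρ' hS' N
      refine ⟨fun n hn => ?_, hinj⟩
      rcases Nat.lt_succ_iff_lt_or_eq.mp hn with h | rfl
      · exact hZ.1 n h
      · exact ⟨hZ.2, hsurj⟩
  intro Z n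
  exact (key (n + 1) Z).1 n (Nat.lt_succ_self n)

end gen

end BC

end Groth.Agent.Lib.Helper21.BCGen
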