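import Mathlib
import Groth.Agent.Lib.Helper21BCSch
import Groth.Agent.Lib.Helper21BCGen

/-!
# Base change of cohomology along a finite projective algebra, without any finiteness on `X`

Every abelian sheaf on a space is a quotient of a coproduct of sheaves `ℤ_U` with `U` in a given
basis; together with `Helper21BCGen.good_of_generators` this yields base change for all objects.
-/

set_option autoImplicit false
universe u
open CategoryTheory CategoryTheory.Limits Opposite TopologicalSpace Abelian AlgebraicGeometry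
open TensorProduct

namespace Groth.Agent.Lib.Helper21.BCFin
open Groth.Agent.Lib.Helper23.AffVanish Groth.Agent.Lib.Helper21.BCExt
  Groth.Agent.Lib.Helper21.BCCop Groth.Agent.Lib.Helper21.BCGen Groth.Agent.Lib.Helper21.BCTop
  Groth.Agent.Lib.Helper21.BCSch Groth.Agent.Lib.Helper16.ClosedEmb

section top
variable {X : TopCat.{u}} (Bs : Set (Opens X)) (hB : Opens.IsBasis Bs) (K : CohTop.Ab X)

/-- index set: a basic open together with a section of `K` over it -/
abbrev Idx : Type u := Σ U : Bs, ToType (K.obj.obj (op U.1))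

/-- the generators -/
noncomputable abbrev Zfam : Idx Bs K → CohTop.Ab X := fun j => ZU j.1.1

/-- the canonical map from the coproduct of the `ℤ_U` -/
noncomputable def π : (∐ Zfam Bs K) ⟶ K :=
  Sigma.desc (fun j => CohFree.ofSect (J X) j.1.1 K j.2)

include hB in
theorem epi_π : Epi (π Bs K) := by
  rw [locSurj_iff]
  intro V t x hx
  obtain ⟨U, hU, hxU, hUV⟩ := Opens.isBasis_iff_nbhd.1 hB hx
  let j : Idx Bs K := ⟨⟨U, hU⟩, K.obj.map (homOfLE hUV).op t⟩
  refine ⟨U, hUV, ⟨((Sigma.ι (Zfam Bs K) j).hom.app (op U)) (CohFree.gen (J X) U), ?_⟩, hxU⟩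
  have h1 : Sigma.ι (Zfam Bs K) j ≫ π Bs K = CohFree.ofSect (J X) U K (K.obj.map (homOfLE hUV).op t) := by
    unfold π
    exact Sigma.ι_desc _ j
  have h2 := CohFree.evalGen_ofSect (J X) U K (K.obj.map (homOfLE hUV).op t)
  rw [← h1] at h2
  exact h2

end top

section sch
variable {X S X' S' : Scheme.{u}} (f : X ⟶ S) (g : S' ⟶ S) (g' : X' ⟶ X) (f' : X' ⟶ S')
  (h : IsPullback g' f' f g) (F : X.Modules)

include h in
/-- over an affine base and along a finite projective base change `S' → S` of affine schemes, the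
base change maps on `Ext^n(Z, F)` are bijective for *every* abelian sheaf `Z` -/
theorem good_all [F.IsQuasicoherent] (hS : IsAffineOpen (⊤ : S.Opens))
    (hS' : IsAffineOpen (⊤ : S'.Opens))
    (hfin : letI := algTop g; Module.Finite Γ(S, ⊤) Γ(S', ⊤))
    (hproj : letI := algTop g; Module.Projective Γ(S, ⊤) Γ(S', ⊤)) :
    letI := algTop g
    ∀ Z, Good (CohTop.pull g'.base) (ρ f F) (ρ' g' f' F) (c g' F) (hc f g g' f' h F) Z := by
  letI := algTop g
  haveI := hfin
  haveI := hproj
  haveI : Module.Flat Γ(S, ⊤) Γ(S', ⊤) := inferInstance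
  haveI : PreservesColimitsOfSize.{u, u} (CohTop.pull g'.base) :=
    (adj g'.base).leftAdjoint_preservesColimits
  apply good_of_generators
  intro K
  refine ⟨∐ Zfam X.affineOpens K, π X.affineOpens K, epi_π _ X.isBasis_affineOpens K, ?_⟩
  apply good_coprod (CohTop.pull g'.base) _ _ _ _ (Sigma.ι (Zfam X.affineOpens K))
  · exact isCoprod_of_isColimit _ (coproductIsCoproduct _)
  · exact isCoprod_map (CohTop.pull g'.base) _ (coproductIsCoproduct _)
  · intro j
    exact goodOpen_of_isAffineOpen f g g' f' h F hS hS' j.1.1 j.1.2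

include h in
/-- **Finite projective base change, affine base, arbitrary `X`**. -/
theorem nonempty_linearEquiv_top [F.IsQuasicoherent] (hS : IsAffineOpen (⊤ : S.Opens))
    (hS' : IsAffineOpen (⊤ : S'.Opens))
    (hfin : letI := algTop g; Module.Finite Γ(S, ⊤) Γ(S', ⊤))
    (hproj : letI := algTop g; Module.Projective Γ(S, ⊤) Γ(S', ⊤)) (n : ℕ) :
    letI := algTop g
    Nonempty (Γ(S', ⊤) ⊗[Γ(S, ⊤)] ExtM (ρ f F) (constZ X) n ≃ₗ[Γ(S', ⊤)]
      ExtM (ρ' g' f' F) (constZ X') n) := by
  letI := algTop g
  exact nonempty_linearEquiv g'.base (ρ f F) (ρ' g' f' F) (c g' F) (hc f g g' f' h F)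
    (good_all f g g' f' h F hS hS' hfin hproj (ZU ⊤)) n

end sch

section alg
universe a b a' b'
variable {A : Type a} {B : Type b} {A' : Type a'} {B' : Type b'} [CommRing A] [CommRing B]
  [CommRing A'] [CommRing B'] [Algebra A B] [Algebra A' B'] (φ : A ≃+* A') (φ' : B ≃+* B')
  (hφ : ∀ a, φ' (algebraMap A B a) = algebraMap A' B' (φ a))

attribute [local instance] RingHomInvPair.of_ringEquiv RingHomInvPair.of_ringEquiv_symm

/-- the semilinear equivalence underlying a compatible pair of ring isomorphisms -/
def semiEquiv : B ≃ₛₗ[(φ : A →+* A')] B' :=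
  { φ'.toAddEquiv with
    map_smul' := fun r x => by
      change φ' (r • x) = φ r • φ' x
      rw [Algebra.smul_def, Algebra.smul_def, map_mul, hφ] }

include hφ in
theorem finite_of_ringEquiv [Module.Finite A B] : Module.Finite A' B' :=
  Module.Finite.of_surjective (semiEquiv φ φ' hφ).toLinearMap (semiEquiv φ φ' hφ).surjective

include hφ in
theorem projective_of_ringEquiv [Module.Projective A B] : Module.Projective A' B' :=
  Module.Projective.of_equiv (semiEquiv φ φ' hφ)

end alg

end Groth.Agent.Lib.Helper21.BCFin
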