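import Mathlib
import Groth.Prelude.Def_CechEdge
import Groth.Agent.Lib.Helper21Cech10

set_option autoImplicit false
universe u
open CategoryTheory CategoryTheory.Limits Opposite

namespace Groth.Agent.Lib.Helper21.Cech

variable {C : Type u} [SmallCategory C] [HasPullbacks C]
variable {J : GrothendieckTopology C} {U : C} {ι κ : Type u} (Y : ι → Over U) (Y' : κ → Over U)
variable (f : FormalCoproduct.mk ι Y ⟶ FormalCoproduct.mk κ Y')

/-- refinement of points -/
def refPt {V : C} (x : Pt Y V) : Pt Y' V := ⟨f.f x.idx, x.map ≫ (f.φ x.idx).left⟩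

theorem refPt_str {V : C} (x : Pt Y V) : (refPt Y Y' f x).str = x.str := by
  simp only [refPt, Pt.str, Category.assoc]
  congr 1
  exact Over.w (f.φ x.idx)

theorem tup_refine {V : C} (g : V ⟶ U) {n : ℕ} (e : Fin (n + 1) → Pt Y V)
    (he : ∀ a, (e a).str = g) :
    tup Y g e he ≫ (Limits.Pi.map (fun a => f.φ ((e a).idx)) :
      fp Y (fun a => (e a).idx) ⟶ fp Y' (fun a => f.f (e a).idx)) =
      tup Y' g (fun a => refPt Y Y' f (e a)) (fun a => (refPt_str Y Y' f (e a)).trans (he a)) := by
  apply Pi.hom_ext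
  intro a
  rw [Category.assoc, Limits.Pi.map_π, ← Category.assoc]
  erw [tup_π, tup_π]
  ext
  simp [Pt.hom, refPt]

variable (P : PSh C)

/-- the refinement map of Čech complexes -/
noncomputable def refCx : CechEdge.cx P Y' ⟶ CechEdge.cx P Y := CohCx.cechRefine P f

theorem cechRefine_f (n : ℕ) :
    (refCx Y Y' f P).f n =
      ((FormalCoproduct.evalOp.{u} (Over U) AddCommGrpCat.{u}).obj ((Over.forget U).op ⋙ P)).map
        (FormalCoproduct.powerMap f (Fin (n + 1))).op := rfl

theorem cechRefine_proj (n : ℕ) (i : Fin (n + 1) → ι) :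
    (refCx Y Y' f P).f n ≫ proj Y P n i =
      proj Y' P n (fun a => f.f (i a)) ≫
        P.map ((Limits.Pi.map (fun a => f.φ (i a)) : fp Y i ⟶ fp Y' (fun a => f.f (i a))).left).op := by
  rw [cechRefine_f, FormalCoproduct.evalOp_obj_map]
  erw [Pi.lift_π]
  rfl

theorem cechRefine_evM {V : C} (g : V ⟶ U) {n : ℕ} (e : Fin (n + 1) → Pt Y V)
    (he : ∀ a, (e a).str = g) :
    (refCx Y Y' f P).f n ≫ evM Y P g e he =
      evM Y' P g (fun a => refPt Y Y' f (e a))
        (fun a => (refPt_str Y Y' f (e a)).trans (he a)) := by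
  rw [evM, ← Category.assoc, cechRefine_proj, Category.assoc, ← P.map_comp, ← op_comp,
    ← Over.comp_left, tup_refine]
  rfl

theorem cechRefine_naturality {P Q : PSh C} (φ : P ⟶ Q) :
    (CechEdge.cxFunctor Y').map φ ≫ refCx Y Y' f Q =
      refCx Y Y' f P ≫ (CechEdge.cxFunctor Y).map φ := by
  apply HomologicalComplex.hom_ext
  intro n
  apply X_hom_ext
  intro V g e he
  rw [HomologicalComplex.comp_f, HomologicalComplex.comp_f, Category.assoc, Category.assoc,
    cechRefine_evM, cxMap_evM, cxMap_evM, ← Category.assoc, cechRefine_evM]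

theorem toCech₀_refine :
    CechEdge.toCech₀ P Y' ≫ (refCx Y Y' f P).f 0 = CechEdge.toCech₀ P Y := by
  apply X_hom_ext
  intro V g e he
  rw [Category.assoc, cechRefine_evM, toCech₀_evM, toCech₀_evM]

/-- the refinement map on Čech cohomology -/
noncomputable abbrev refH (p : ℕ) : CohCx.cechH P Y' p →+ CohCx.cechH P Y p :=
  (HomologicalComplex.homologyMap (refCx Y Y' f P) p).hom

theorem refH_toCech (s : P.obj (op U)) :
    refH Y Y' f P 0 (CechEdge.toCech Y' P s) = CechEdge.toCech Y P s := by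
  have h1 : CechEdge.toCycles P Y' ≫ HomologicalComplex.cyclesMap (refCx Y Y' f P) 0 =
      CechEdge.toCycles P Y := by
    rw [← cancel_mono ((CechEdge.cx P Y).iCycles 0), Category.assoc]
    erw [HomologicalComplex.cyclesMap_i]
    rw [← Category.assoc]
    erw [CechEdge.toCycles_i, CechEdge.toCycles_i]
    exact toCech₀_refine Y Y' f P
  have h2 : (CechEdge.toCycles P Y' ≫ (CechEdge.cx P Y').homologyπ 0) ≫
      HomologicalComplex.homologyMap (refCx Y Y' f P) 0 =
      CechEdge.toCycles P Y ≫ (CechEdge.cx P Y).homologyπ 0 := by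
    rw [Category.assoc, HomologicalComplex.homologyπ_naturality, ← Category.assoc, h1]
  exact ConcreteCategory.congr_hom h2 s

theorem refH_naturality {P Q : PSh C} (φ : P ⟶ Q) (p : ℕ) (x : CohCx.cechH P Y' p) :
    refH Y Y' f Q p (CechEdge.cechHMap Y' φ p x) =
      CechEdge.cechHMap Y φ p (refH Y Y' f P p x) := by
  have := congrArg (fun t => HomologicalComplex.homologyMap t p) (cechRefine_naturality Y Y' f φ)
  simp only [HomologicalComplex.homologyMap_comp] at this
  exact ConcreteCategory.congr_hom this x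

/-- the morphism of short complexes of Čech complexes induced by refinement -/
noncomputable def refSC (S : ShortComplex (PSh C)) :
    S.map (CechEdge.cxFunctor Y') ⟶ S.map (CechEdge.cxFunctor Y) where
  τ₁ := refCx Y Y' f S.X₁
  τ₂ := refCx Y Y' f S.X₂
  τ₃ := refCx Y Y' f S.X₃
  comm₁₂ := (cechRefine_naturality Y Y' f S.f).symm
  comm₂₃ := (cechRefine_naturality Y Y' f S.g).symm

theorem refH_Cδ (S : ShortComplex (PSh C)) (hS : S.ShortExact) (p : ℕ)
    (x : CohCx.cechH S.X₃ Y' p) :
    refH Y Y' f S.X₁ (p + 1) (Cδ Y' S hS p x) = Cδ Y S hS p (refH Y Y' f S.X₃ p x) := by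
  have := HomologicalComplex.HomologySequence.δ_naturality (refSC Y Y' f S)
    (shortExact_cx Y' S hS) (shortExact_cx Y S hS) p (p + 1) rfl
  exact ConcreteCategory.congr_hom this x

/-- composing an edge family with refinement gives an edge family -/
theorem isEdge_refine
    (e : ∀ (P : Cᵒᵖ ⥤ AddCommGrpCat.{u}) (p : ℕ),
      CohCx.cechH P Y p →+ CohSite.HU (CechEdge.shf J P) p U)
    (he : CechEdge.IsEdge J Y e)
    (hY' : Sieve.ofArrows (fun i => (Y' i).left) (fun i => (Y' i).hom) ∈ J U) :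
    CechEdge.IsEdge J Y' (fun P p => (e P p).comp (refH Y Y' f P p)) where
  cover := hY'
  zero := fun P s => by
    rw [AddMonoidHom.comp_apply, refH_toCech]
    exact he.zero P s
  natural := fun P Q φ p x => by
    rw [AddMonoidHom.comp_apply, AddMonoidHom.comp_apply, refH_naturality]
    exact he.natural P Q φ p _
  delta := fun S hS hC p x => by
    rw [AddMonoidHom.comp_apply, AddMonoidHom.comp_apply]
    have h1 := refH_Cδ Y Y' f S hS p x
    have h2 := he.delta S hS (shortExact_cx Y S hS) p (refH Y Y' f S.X₃ p x)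
    exact (congrArg (e S.X₁ (p + 1)) h1).trans h2

theorem edgeSh_refine
    (e : ∀ (P : Cᵒᵖ ⥤ AddCommGrpCat.{u}) (p : ℕ),
      CohCx.cechH P Y p →+ CohSite.HU (CechEdge.shf J P) p U)
    (e' : ∀ (P : Cᵒᵖ ⥤ AddCommGrpCat.{u}) (p : ℕ),
      CohCx.cechH P Y' p →+ CohSite.HU (CechEdge.shf J P) p U)
    (he : CechEdge.IsEdge J Y e) (he' : CechEdge.IsEdge J Y' e')
    (F : Sheaf J AddCommGrpCat.{u}) (p : ℕ) (x : CohCx.cechH F.obj Y' p) :
    CechEdge.edgeSh e F p ((HomologicalComplex.homologyMap (CohCx.cechRefine F.obj f) p).hom x) =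
      CechEdge.edgeSh e' F p x := by
  have h := isEdge_unique Y' _ e' (isEdge_refine Y Y' f e he he'.cover) he'
  rw [edgeSh_apply, edgeSh_apply, ← h]
  rfl

end Groth.Agent.Lib.Helper21.Cech
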