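import Mathlib
import Groth.Agent.Lib.Helper16CechH1

/-!
# Čech complexes on a space: restriction to sub-families, extension by zero, cone contraction (helper21)

For a presheaf `P` of abelian groups on a space and a family `U : ι → Opens X`, with `CK U P` the full Čech
complex (helper16's `CechLow`):

* `rho f` : restriction of cochains along `f : κ → ι` (a chain map), `ext0 f` : extension by zero;
* `Vk U k = fun i => U i ⊓ U k`, `eta k : C(U, P) → C(Vk U k, P)`, bijective on components containing `k`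
  (`etaInv`);
* `hcone` : the contraction of `C(W, P)` for a family `W` with a largest member `W k`;
* `step` : the cone-decomposition step: a solution of `d b' = ρ c` on the sub-family avoiding `k` extends to a
  solution of `d b = c`, as soon as cocycles of `C(Vk U k restricted, P)` one degree lower extend to cocycles.
-/

set_option autoImplicit false
set_option linter.unusedSectionVars false
universe u
open CategoryTheory

namespace Groth.Agent.Lib.Helper21.CechCone
open Opposite CategoryTheory.Limits TopologicalSpace Groth.Agent.Lib.Helper16.CechLow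
  Groth.Agent.Lib.Helper16.CechH1

variable {X : TopCat.{u}} (P : (Opens X)ᵒᵖ ⥤ AddCommGrpCat.{u}) {ι : Type u} (U : ι → Opens X)

/-- the differential applied to elements -/
noncomputable abbrev dd (n : ℕ) (c : (CK U P).X n) : (CK U P).X (n + 1) := (CK U P).d n (n + 1) c

lemma dd_dd (n : ℕ) (c : (CK U P).X n) : dd P U (n + 1) (dd P U n c) = 0 := by
  have h := ConcreteCategory.congr_hom ((CK U P).d_comp_d n (n + 1) (n + 2)) c
  rw [ConcreteCategory.comp_apply] at h
  exact h

lemma dd_zero (n : ℕ) : dd P U n 0 = 0 := map_zero _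

lemma dd_add (n : ℕ) (c c' : (CK U P).X n) : dd P U n (c + c') = dd P U n c + dd P U n c' :=
  map_add _ _ _

lemma dd_sub (n : ℕ) (c c' : (CK U P).X n) : dd P U n (c - c') = dd P U n c - dd P U n c' :=
  map_sub _ _ _

lemma pr_zero (n : ℕ) (x : Fin (n + 1) → ι) : pr U P n x 0 = 0 := map_zero _

lemma pr_add (n : ℕ) (x : Fin (n + 1) → ι) (c c' : (CK U P).X n) :
    pr U P n x (c + c') = pr U P n x c + pr U P n x c' := map_add _ _ _

lemma pr_sub (n : ℕ) (x : Fin (n + 1) → ι) (c c' : (CK U P).X n) :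
    pr U P n x (c - c') = pr U P n x c - pr U P n x c' := map_sub _ _ _

/-- any two ways of restricting agree -/
lemma map_map_any {A B C : Opens X} (f : op A ⟶ op B) (g : op B ⟶ op C) (h : op A ⟶ op C)
    (y : P.obj (op A)) : P.map g (P.map f y) = P.map h y := by
  rw [← ConcreteCategory.comp_apply, ← P.map_comp]
  exact congrArg (fun t => P.map t y) (Subsingleton.elim _ _)

lemma map_id_any {A : Opens X} (f : op A ⟶ op A) (y : P.obj (op A)) : P.map f y = y := by
  have : f = 𝟙 (op A) := Subsingleton.elim _ _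
  rw [this, P.map_id]
  rfl

/-- components at equal tuples agree after any restriction -/
lemma pr_congr {n : ℕ} {v v' : Fin (n + 1) → ι} (h : v = v') {T : Opens X}
    (g : op (Ux U v) ⟶ op T) (g' : op (Ux U v') ⟶ op T) (c : (CK U P).X n) :
    P.map g (pr U P n v c) = P.map g' (pr U P n v' c) := by
  subst h
  rw [Subsingleton.elim g g']

/-! ### restriction along a map of index types -/

section rho
variable {κ : Type u} (f : κ → ι)

/-- restriction of cochains to the family `U ∘ f` -/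
noncomputable def rho (n : ℕ) (c : (CK U P).X n) : (CK (U ∘ f) P).X n :=
  mkElt (U ∘ f) P n (fun x => pr U P n (f ∘ x) c)

lemma pr_rho (n : ℕ) (c : (CK U P).X n) (x : Fin (n + 1) → κ) :
    pr (U ∘ f) P n x (rho P U f n c) = pr U P n (f ∘ x) c :=
  pr_mkElt (U ∘ f) P n _ x

lemma rho_zero (n : ℕ) : rho P U f n 0 = 0 := by
  apply elt_ext (U ∘ f) P n
  intro x
  rw [pr_rho, pr_zero, pr_zero]

lemma rho_add (n : ℕ) (c c' : (CK U P).X n) :
    rho P U f n (c + c') = rho P U f n c + rho P U f n c' := by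
  apply elt_ext (U ∘ f) P n
  intro x
  rw [pr_rho, pr_add, pr_add, pr_rho, pr_rho]

lemma rho_sub (n : ℕ) (c c' : (CK U P).X n) :
    rho P U f n (c - c') = rho P U f n c - rho P U f n c' := by
  apply elt_ext (U ∘ f) P n
  intro x
  rw [pr_rho, pr_sub, pr_sub, pr_rho, pr_rho]

lemma rho_dd (n : ℕ) (c : (CK U P).X n) :
    rho P U f (n + 1) (dd P U n c) = dd P (U ∘ f) n (rho P U f n c) := by
  apply elt_ext (U ∘ f) P (n + 1)
  intro x
  rw [pr_rho, d_pr_apply, d_pr_apply]
  refine Finset.sum_congr rfl (fun i _ => ?_)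
  rw [pr_rho]
  rfl

open Classical in
/-- extension by zero of cochains of the family `U ∘ f` -/
noncomputable def ext0 (n : ℕ) (b : (CK (U ∘ f) P).X n) : (CK U P).X n :=
  mkElt U P n (fun x =>
    if h : ∃ x' : Fin (n + 1) → κ, f ∘ x' = x then
      P.map (homOfLE (le_of_eq (congrArg (Ux U) h.choose_spec.symm) :
        Ux U x ≤ Ux (U ∘ f) h.choose)).op (pr (U ∘ f) P n h.choose b)
    else 0)

lemma pr_ext0_of_not (n : ℕ) (b : (CK (U ∘ f) P).X n) (x : Fin (n + 1) → ι)
    (h : ¬ ∃ x' : Fin (n + 1) → κ, f ∘ x' = x) : pr U P n x (ext0 P U f n b) = 0 := by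
  rw [ext0, pr_mkElt, dif_neg h]

lemma pr_ext0_comp (hf : Function.Injective f) (n : ℕ) (b : (CK (U ∘ f) P).X n)
    (x' : Fin (n + 1) → κ) : pr U P n (f ∘ x') (ext0 P U f n b) = pr (U ∘ f) P n x' b := by
  have h : ∃ x'' : Fin (n + 1) → κ, f ∘ x'' = f ∘ x' := ⟨x', rfl⟩
  rw [ext0, pr_mkElt, dif_pos h]
  have e : h.choose = x' := by
    funext a
    exact hf (congrFun h.choose_spec a)
  have := pr_congr P (U ∘ f) e
    (homOfLE (le_of_eq (congrArg (Ux U) h.choose_spec.symm) :
        Ux U (f ∘ x') ≤ Ux (U ∘ f) h.choose)).op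
    (homOfLE (le_refl _ : Ux U (f ∘ x') ≤ Ux (U ∘ f) x')).op b
  rw [this]
  exact map_id_any P _ _

lemma rho_ext0 (hf : Function.Injective f) (n : ℕ) (b : (CK (U ∘ f) P).X n) :
    rho P U f n (ext0 P U f n b) = b := by
  apply elt_ext (U ∘ f) P n
  intro x
  rw [pr_rho, pr_ext0_comp P U f hf]

end rho

/-! ### intersecting the family with one member -/

section eta
variable (k : ι)

/-- the family `U i ⊓ U k` -/
abbrev Vk : ι → Opens X := fun i => U i ⊓ U k

lemma Vk_le_top (i : ι) : Vk U k i ≤ Vk U k k := le_inf inf_le_right inf_le_right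

lemma Ux_Vk_le {n : ℕ} (x : Fin (n + 1) → ι) : Ux (Vk U k) x ≤ Ux U x :=
  le_Ux U x _ (fun a => (Ux_le (Vk U k) x a).trans inf_le_left)

lemma Ux_le_Vk {n : ℕ} (x : Fin (n + 1) → ι) (h : ∃ a, x a = k) : Ux U x ≤ Ux (Vk U k) x := by
  obtain ⟨a₀, h₀⟩ := h
  exact le_Ux (Vk U k) x _ (fun a => le_inf (Ux_le U x a)
    ((Ux_le U x a₀).trans (le_of_eq (congrArg U h₀))))

/-- restriction of cochains from the family `U` to the family `U i ⊓ U k` -/
noncomputable def eta (n : ℕ) (c : (CK U P).X n) : (CK (Vk U k) P).X n :=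
  mkElt (Vk U k) P n (fun x => P.map (homOfLE (Ux_Vk_le U k x)).op (pr U P n x c))

lemma pr_eta (n : ℕ) (c : (CK U P).X n) (x : Fin (n + 1) → ι) :
    pr (Vk U k) P n x (eta P U k n c) = P.map (homOfLE (Ux_Vk_le U k x)).op (pr U P n x c) :=
  pr_mkElt (Vk U k) P n _ x

lemma eta_zero (n : ℕ) : eta P U k n 0 = 0 := by
  apply elt_ext (Vk U k) P n
  intro x
  rw [pr_eta, pr_zero, pr_zero, map_zero]

lemma eta_dd (n : ℕ) (c : (CK U P).X n) :
    eta P U k (n + 1) (dd P U n c) = dd P (Vk U k) n (eta P U k n c) := by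
  apply elt_ext (Vk U k) P (n + 1)
  intro x
  rw [pr_eta, d_pr_apply, d_pr_apply, map_sum]
  refine Finset.sum_congr rfl (fun i _ => ?_)
  rw [map_zsmul, pr_eta]
  congr 1
  rw [map_map_any P _ _ ((homOfLE ((Ux_Vk_le U k x).trans (face U x i).le)).op),
    map_map_any P _ _ ((homOfLE ((Ux_Vk_le U k x).trans (face U x i).le)).op)]

open Classical in
/-- inverse of `eta` on the components containing `k`, zero on the others -/
noncomputable def etaInv (n : ℕ) (b : (CK (Vk U k) P).X n) : (CK U P).X n :=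
  mkElt U P n (fun x =>
    if h : ∃ a, x a = k then P.map (homOfLE (Ux_le_Vk U k x h)).op (pr (Vk U k) P n x b) else 0)

lemma pr_etaInv_of_mem (n : ℕ) (b : (CK (Vk U k) P).X n) (x : Fin (n + 1) → ι)
    (h : ∃ a, x a = k) :
    pr U P n x (etaInv P U k n b) = P.map (homOfLE (Ux_le_Vk U k x h)).op (pr (Vk U k) P n x b) := by
  rw [etaInv, pr_mkElt, dif_pos h]

lemma pr_etaInv_of_not (n : ℕ) (b : (CK (Vk U k) P).X n) (x : Fin (n + 1) → ι)
    (h : ¬ ∃ a, x a = k) : pr U P n x (etaInv P U k n b) = 0 := by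
  rw [etaInv, pr_mkElt, dif_neg h]

/-- `eta` is injective on the components containing `k` -/
lemma eta_injective_of_mem {n : ℕ} (x : Fin (n + 1) → ι) (h : ∃ a, x a = k)
    (y y' : P.obj (op (Ux U x)))
    (hy : P.map (homOfLE (Ux_Vk_le U k x)).op y = P.map (homOfLE (Ux_Vk_le U k x)).op y') :
    y = y' := by
  have := congrArg (P.map (homOfLE (Ux_le_Vk U k x h)).op) hy
  rw [map_map_any P _ _ (𝟙 _), map_map_any P _ _ (𝟙 _), map_id_any, map_id_any] at this
  exact this

end eta

/-! ### the cone contraction for a family with a largest member -/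

section hcone
variable {κ : Type u} (W : κ → Opens X) (k : κ) (hk : ∀ i, W i ≤ W k)
include hk

lemma Ux_le_cons {n : ℕ} (x : Fin (n + 1) → κ) :
    Ux W x ≤ Ux W (Fin.cons k x : Fin (n + 2) → κ) := by
  refine le_Ux W _ _ (fun a => ?_)
  refine Fin.cases ?_ (fun a' => ?_) a
  · simpa using (Ux_le W x 0).trans (hk _)
  · simpa using Ux_le W x a'

/-- the cone contraction `(h c)_x = c_{(k, x)}` -/
noncomputable def hcone (n : ℕ) (c : (CK W P).X (n + 1)) : (CK W P).X n :=
  mkElt W P n (fun x => P.map (homOfLE (Ux_le_cons W k hk x)).op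
    (pr W P (n + 1) (Fin.cons k x) c))

lemma pr_hcone (n : ℕ) (c : (CK W P).X (n + 1)) (x : Fin (n + 1) → κ) :
    pr W P n x (hcone P W k hk n c) =
      P.map (homOfLE (Ux_le_cons W k hk x)).op (pr W P (n + 1) (Fin.cons k x) c) :=
  pr_mkElt W P n _ x

lemma hcone_zero (n : ℕ) : hcone P W k hk n 0 = 0 := by
  apply elt_ext W P n
  intro x
  rw [pr_hcone, pr_zero, pr_zero, map_zero]

omit hk in
theorem cons_comp_succAbove_zero {α : Type*} {n : ℕ} (x : α) (e : Fin (n + 1) → α) :
    (Fin.cons x e : Fin (n + 2) → α) ∘ Fin.succAbove 0 = e := by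
  funext a
  simp

omit hk in
theorem cons_comp_succAbove_succ {α : Type*} {n : ℕ} (x : α) (e : Fin (n + 2) → α)
    (j : Fin (n + 2)) :
    (Fin.cons x e : Fin (n + 3) → α) ∘ Fin.succAbove j.succ =
      Fin.cons x (e ∘ Fin.succAbove j) := by
  funext a
  refine Fin.cases ?_ (fun b => ?_) a
  · simp
  · simp

/-- the homotopy identity `d h + h d = id` in positive degrees -/
theorem dd_hcone (n : ℕ) (c : (CK W P).X (n + 1)) :
    dd P W n (hcone P W k hk n c) + hcone P W k hk (n + 1) (dd P W (n + 1) c) = c := by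
  apply elt_ext W P (n + 1)
  intro x
  rw [pr_add, d_pr_apply, pr_hcone, d_pr_apply, map_sum, Fin.sum_univ_succ (n := n + 2)]
  have h0 : P.map (homOfLE (Ux_le_cons W k hk x)).op
      (((-1 : ℤ) ^ ((0 : Fin (n + 3)) : ℕ)) •
        P.map (face W (Fin.cons k x : Fin (n + 3) → κ) 0).op
          (pr W P (n + 1) ((Fin.cons k x : Fin (n + 3) → κ) ∘ Fin.succAbove 0) c)) =
      pr W P (n + 1) x c := by
    rw [Fin.val_zero, pow_zero, one_smul, map_map_any P _ _
      ((homOfLE (le_of_eq (congrArg (Ux W) (cons_comp_succAbove_zero k x).symm))).op)]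
    rw [pr_congr P W (cons_comp_succAbove_zero k x) _ (𝟙 _) c]
    exact map_id_any P _ _
  have h1 : ∀ i : Fin (n + 2), P.map (homOfLE (Ux_le_cons W k hk x)).op
      (((-1 : ℤ) ^ ((i.succ : Fin (n + 3)) : ℕ)) •
        P.map (face W (Fin.cons k x : Fin (n + 3) → κ) i.succ).op
          (pr W P (n + 1) ((Fin.cons k x : Fin (n + 3) → κ) ∘ Fin.succAbove i.succ) c)) =
      - (((-1 : ℤ) ^ (i : ℕ)) • P.map (face W x i).op
          (pr W P n (x ∘ Fin.succAbove i) (hcone P W k hk n c))) := by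
    intro i
    rw [map_zsmul, pr_hcone, Fin.val_succ, pow_succ, mul_neg_one, neg_smul]
    congr 2
    rw [map_map_any P _ _ ((homOfLE ((face W x i).le.trans
        ((Ux_le_cons W k hk (x ∘ Fin.succAbove i)).trans
          (le_of_eq (congrArg (Ux W) (cons_comp_succAbove_succ k x i).symm))))).op),
      map_map_any P _ _ ((homOfLE ((face W x i).le.trans
        (Ux_le_cons W k hk (x ∘ Fin.succAbove i)))).op)]
    exact pr_congr P W (cons_comp_succAbove_succ k x i) _ _ c
  rw [h0]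
  simp only [h1, Finset.sum_neg_distrib]
  abel

end hcone

/-! ### the cone-decomposition step -/

section step
variable {κ : Type u} (g : κ → ι) (k : ι)

/-- a tuple avoiding `k` factors through `g` -/
lemma exists_factor (hg : ∀ i, i ≠ k → ∃ j, g j = i) {n : ℕ} (x : Fin (n + 1) → ι)
    (hx : ¬ ∃ a, x a = k) : ∃ x' : Fin (n + 1) → κ, g ∘ x' = x := by
  have h : ∀ a, ∃ j, g j = x a := fun a => hg (x a) (fun h => hx ⟨a, h⟩)
  choose x' hx' using h
  exact ⟨x', funext hx'⟩

lemma not_mem_of_factor (hgk : ∀ j, g j ≠ k) {n : ℕ} (x' : Fin (n + 1) → κ) :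
    ¬ ∃ a, (g ∘ x') a = k := by
  rintro ⟨a, ha⟩
  exact hgk _ ha

lemma rho_eta_of_rho_eq_zero (n : ℕ) (c : (CK U P).X n) (h : rho P U g n c = 0) :
    rho P (Vk U k) g n (eta P U k n c) = 0 := by
  apply elt_ext (Vk U k ∘ g) P n
  intro x
  have h' := congrArg (pr (U ∘ g) P n x) h
  rw [pr_rho, pr_zero] at h'
  rw [pr_rho, pr_eta, h', map_zero, pr_zero]

/-- **The cone-decomposition step.**  Let `g : κ → ι` be injective with image the complement of `k`.
A solution `b'` of `d b' = ρ c` on the sub-family `U ∘ g` extends to a solution of `d b = c`, as soon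
as cocycles of the intersected sub-family `(U i ⊓ U k)_{i ≠ k}`, one degree lower, extend to cocycles
of the intersected family. -/
theorem step (hginj : Function.Injective g) (hgk : ∀ j, g j ≠ k) (hg : ∀ i, i ≠ k → ∃ j, g j = i)
    (q : ℕ) (c : (CK U P).X (q + 1)) (hc : dd P U (q + 1) c = 0)
    (b' : (CK (U ∘ g) P).X q) (hb' : dd P (U ∘ g) q b' = rho P U g (q + 1) c)
    (hyp : ∀ z : (CK (Vk U k ∘ g) P).X q, dd P (Vk U k ∘ g) q z = 0 →
      ∃ e : (CK (Vk U k) P).X q, dd P (Vk U k) q e = 0 ∧ rho P (Vk U k) g q e = z) :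
    ∃ b : (CK U P).X q, rho P U g q b = b' ∧ dd P U q b = c := by
  obtain ⟨b0, hb0⟩ : ∃ b0, b0 = ext0 P U g q b' := ⟨_, rfl⟩
  have hρb0 : rho P U g q b0 = b' := by rw [hb0]; exact rho_ext0 P U g hginj q b'
  obtain ⟨c1, hc1⟩ : ∃ c1, c1 = c - dd P U q b0 := ⟨_, rfl⟩
  have hρc1 : rho P U g (q + 1) c1 = 0 := by
    rw [hc1, rho_sub, rho_dd, hρb0, hb', sub_self]
  have hdc1 : dd P U (q + 1) c1 = 0 := by
    rw [hc1, dd_sub, hc, dd_dd, sub_zero]
  obtain ⟨c2, hc2⟩ : ∃ c2, c2 = eta P U k (q + 1) c1 := ⟨_, rfl⟩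
  have hdc2 : dd P (Vk U k) (q + 1) c2 = 0 := by
    rw [hc2, ← eta_dd, hdc1, eta_zero]
  obtain ⟨h2, hh2⟩ : ∃ h2, h2 = hcone P (Vk U k) k (Vk_le_top U k) q c2 := ⟨_, rfl⟩
  have hh : dd P (Vk U k) q h2 = c2 := by
    have := dd_hcone P (Vk U k) k (Vk_le_top U k) q c2
    rw [hdc2, hcone_zero, add_zero, ← hh2] at this
    exact this
  obtain ⟨z, hz⟩ : ∃ z, z = rho P (Vk U k) g q h2 := ⟨_, rfl⟩
  have hdz : dd P (Vk U k ∘ g) q z = 0 := by
    rw [hz, ← rho_dd, hh, hc2]
    exact rho_eta_of_rho_eq_zero P U g k (q + 1) c1 hρc1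
  obtain ⟨e, hde, hρe⟩ := hyp z hdz
  obtain ⟨b2, hb2⟩ : ∃ b2, b2 = h2 - e := ⟨_, rfl⟩
  have hdb2 : dd P (Vk U k) q b2 = c2 := by rw [hb2, dd_sub, hh, hde, sub_zero]
  have hρb2 : rho P (Vk U k) g q b2 = 0 := by rw [hb2, rho_sub, hρe, ← hz, sub_self]
  obtain ⟨b1, hb1⟩ : ∃ b1, b1 = etaInv P U k q b2 := ⟨_, rfl⟩
  have hηb1 : eta P U k q b1 = b2 := by
    apply elt_ext (Vk U k) P q
    intro x
    rw [pr_eta, hb1]
    by_cases hx : ∃ a, x a = k
    · rw [pr_etaInv_of_mem P U k q b2 x hx, map_map_any P _ _ (𝟙 _), map_id_any]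
    · rw [pr_etaInv_of_not P U k q b2 x hx, map_zero]
      obtain ⟨x', rfl⟩ := exists_factor g k hg x hx
      have := congrArg (pr (Vk U k ∘ g) P q x') hρb2
      rw [pr_rho, pr_zero] at this
      exact this.symm
  have hρb1 : rho P U g q b1 = 0 := by
    apply elt_ext (U ∘ g) P q
    intro x'
    rw [pr_rho, pr_zero, hb1, pr_etaInv_of_not P U k q b2 _ (not_mem_of_factor g k hgk x')]
  have hdb1 : dd P U q b1 = c1 := by
    apply elt_ext U P (q + 1)
    intro x
    by_cases hx : ∃ a, x a = k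
    · apply eta_injective_of_mem P U k x hx
      rw [← pr_eta, ← pr_eta, eta_dd, hηb1, hdb2, hc2]
    · obtain ⟨x', rfl⟩ := exists_factor g k hg x hx
      rw [← pr_rho, ← pr_rho, rho_dd, hρb1, dd_zero, hρc1]
  refine ⟨b0 + b1, ?_, ?_⟩
  · rw [rho_add, hρb0, hρb1, add_zero]
  · rw [dd_add, hdb1, hc1]
    abel

end step

end Groth.Agent.Lib.Helper21.CechCone
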