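import Mathlib
import Groth.Agent.Lib.Helper21CechCone1

/-!
# Čech cohomology of a finite family vanishes above the cardinality (helper21)

Uses the cone-decomposition step of `Helper21CechCone1`.
-/

set_option autoImplicit false
set_option linter.unusedSectionVars false
universe u
open CategoryTheory

namespace Groth.Agent.Lib.Helper21.CechCone
open Opposite CategoryTheory.Limits TopologicalSpace Groth.Agent.Lib.Helper16.CechLow
  Groth.Agent.Lib.Helper16.CechH1

variable {X : TopCat.{u}} (P : (Opens X)ᵒᵖ ⥤ AddCommGrpCat.{u}) {ι : Type u} (U : ι → Opens X)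

/-- cocycles are coboundaries implies vanishing of `H^(n+1)` -/
lemma isZero_homology_succ_of_exists (n : ℕ)
    (h : ∀ c : (CK U P).X (n + 1), dd P U (n + 1) c = 0 → ∃ b : (CK U P).X n, dd P U n b = c) :
    IsZero ((CK U P).homology (n + 1)) := by
  rw [← HomologicalComplex.exactAt_iff_isZero_homology,
    HomologicalComplex.exactAt_iff' (CK U P) n (n + 1) (n + 2) (by simp) (by simp),
    ShortComplex.ab_exact_iff]
  exact h

lemma subsingleton_X_of_isEmpty [IsEmpty ι] (n : ℕ) : Subsingleton ((CK U P).X n) :=
  ⟨fun c c' => elt_ext U P n c c' (fun x => (IsEmpty.false (x 0)).elim)⟩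

lemma isZero_homology_of_isEmpty [IsEmpty ι] (n : ℕ) : IsZero ((CK U P).homology n) := by
  rw [← HomologicalComplex.exactAt_iff_isZero_homology]
  apply ShortComplex.exact_of_isZero_X₂
  haveI : Subsingleton ((CK U P).sc n).X₂ := subsingleton_X_of_isEmpty P U n
  exact AddCommGrpCat.isZero_of_subsingleton _

/-- extension of cocycles which are coboundaries -/
lemma extend_of_coboundary {κ : Type u} (f : κ → ι) (hf : Function.Injective f) (n : ℕ)
    (z : (CK (U ∘ f) P).X (n + 1)) (h : ∃ e', dd P (U ∘ f) n e' = z) :
    ∃ e : (CK U P).X (n + 1), dd P U (n + 1) e = 0 ∧ rho P U f (n + 1) e = z := by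
  obtain ⟨e', rfl⟩ := h
  refine ⟨dd P U n (ext0 P U f n e'), dd_dd P U n _, ?_⟩
  rw [rho_dd, rho_ext0 P U f hf]

theorem vanish_aux (N : ℕ) : ∀ (ι : Type u) [Finite ι] (U : ι → Opens X), Nat.card ι = N →
    ∀ q : ℕ, N ≤ q + 1 → ∀ c : (CK U P).X (q + 1), dd P U (q + 1) c = 0 →
      ∃ b : (CK U P).X q, dd P U q b = c := by
  induction N with
  | zero =>
    intro ι _ U hN q _ c _
    haveI : IsEmpty ι := by
      rcases (Nat.card_eq_zero.1 hN) with h | h
      · exact h
      · exact (not_finite ι).elim
    haveI := subsingleton_X_of_isEmpty P U (q + 1)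
    exact ⟨0, Subsingleton.elim _ _⟩
  | succ N ih =>
    intro ι _ U hN q hq c hc
    haveI : Nonempty ι := by
      by_contra h
      rw [not_nonempty_iff] at h
      rw [Nat.card_of_isEmpty] at hN
      omega
    obtain ⟨k⟩ := ‹Nonempty ι›
    classical
    have hcard : Nat.card {i : ι // i ≠ k} = N := by
      have h1 : Nat.card ι = Nat.card (Option {i : ι // i ≠ k}) :=
        Nat.card_congr (Equiv.optionSubtypeNe k).symm
      rw [Finite.card_option] at h1
      omega
    have hginj : Function.Injective (Subtype.val : {i : ι // i ≠ k} → ι) := Subtype.val_injective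
    have hb' := ih {i : ι // i ≠ k} (U ∘ Subtype.val) hcard q (by omega)
      (rho P U Subtype.val (q + 1) c) (by rw [← rho_dd, hc, rho_zero])
    obtain ⟨b', hb'⟩ := hb'
    have hyp : ∀ z : (CK (Vk U k ∘ (Subtype.val : {i : ι // i ≠ k} → ι)) P).X q,
        dd P (Vk U k ∘ Subtype.val) q z = 0 →
        ∃ e : (CK (Vk U k) P).X q, dd P (Vk U k) q e = 0 ∧ rho P (Vk U k) Subtype.val q e = z := by
      intro z hz
      cases q with
      | zero =>
        haveI : IsEmpty {i : ι // i ≠ k} := by
          have : Nat.card {i : ι // i ≠ k} = 0 := by omega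
          rcases (Nat.card_eq_zero.1 this) with h | h
          · exact h
          · exact (not_finite {i : ι // i ≠ k}).elim
        haveI := subsingleton_X_of_isEmpty P (Vk U k ∘ (Subtype.val : {i : ι // i ≠ k} → ι)) 0
        exact ⟨0, dd_zero P (Vk U k) 0, Subsingleton.elim _ _⟩
      | succ q' =>
        exact extend_of_coboundary P (Vk U k) Subtype.val hginj q' z
          (ih {i : ι // i ≠ k} (Vk U k ∘ Subtype.val) hcard q' (by omega) z hz)
    obtain ⟨b, _, hb⟩ := step P U (Subtype.val : {i : ι // i ≠ k} → ι) k hginj (fun j => j.2)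
      (fun i hi => ⟨⟨i, hi⟩, rfl⟩) q c hc b' hb' hyp
    exact ⟨b, hb⟩

/-- **Čech cohomology of a family indexed by a finite set with `n` elements vanishes in degrees
`≥ n`** (for an arbitrary presheaf, ordered cochains). -/
theorem isZero_homology_of_card_le [Finite ι] (q : ℕ) (hq : Nat.card ι ≤ q) :
    IsZero ((CK U P).homology q) := by
  cases q with
  | zero =>
    haveI : IsEmpty ι := by
      have : Nat.card ι = 0 := by omega
      rcases (Nat.card_eq_zero.1 this) with h | h
      · exact h
      · exact (not_finite ι).elim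
    exact isZero_homology_of_isEmpty P U 0
  | succ q' =>
    exact isZero_homology_succ_of_exists P U q'
      (vanish_aux P (Nat.card ι) ι U rfl q' (by omega))

end Groth.Agent.Lib.Helper21.CechCone
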