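import Mathlib
import Groth.Agent.Lib.Helper21CechCone2

/-!
# Čech vanishing from an extension property (helper21)

`ExtProp P U`: compatible families of sections over `U_y ∩ U_{a j}` extend to `U_y`, for every tuple `y`.
Under `ExtProp P U`, the ordered Čech complex of the presheaf `P` for the family `U` (arbitrary index type) is
exact in positive degrees (`exists_of_extProp`).  The proof is an induction on the degree, each degree being
handled by Zorn's lemma and the cone-decomposition step of `Helper21CechCone1`.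
-/

set_option autoImplicit false
set_option linter.unusedSectionVars false
universe u
open CategoryTheory

namespace Groth.Agent.Lib.Helper21.CechCone
open Opposite CategoryTheory.Limits TopologicalSpace Groth.Agent.Lib.Helper16.CechLow
  Groth.Agent.Lib.Helper16.CechH1

variable {X : TopCat.{u}} (P : (Opens X)ᵒᵖ ⥤ AddCommGrpCat.{u})

/-- the extension property: compatible families of sections over the `U_y ∩ U_{a j}` extend to `U_y` -/
def ExtProp {ι : Type u} (U : ι → Opens X) : Prop :=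
  ∀ (m : ℕ) (y : Fin (m + 1) → ι) (κ : Type u) (a : κ → ι)
    (t : ∀ j : κ, P.obj (op (Ux U y ⊓ U (a j)))),
    (∀ j j' : κ, P.map (homOfLE (inf_le_left :
        (Ux U y ⊓ U (a j)) ⊓ (Ux U y ⊓ U (a j')) ≤ Ux U y ⊓ U (a j))).op (t j) =
      P.map (homOfLE (inf_le_right :
        (Ux U y ⊓ U (a j)) ⊓ (Ux U y ⊓ U (a j')) ≤ Ux U y ⊓ U (a j'))).op (t j')) →
    ∃ t' : P.obj (op (Ux U y)),
      ∀ j, P.map (homOfLE (inf_le_left : Ux U y ⊓ U (a j) ≤ Ux U y)).op t' = t j

variable {P} in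
lemma ExtProp.comp {ι ι' : Type u} {U : ι → Opens X} (h : ExtProp P U) (f : ι' → ι) :
    ExtProp P (U ∘ f) :=
  fun m y κ a t ht => h m (f ∘ y) κ (f ∘ a) t ht

section vk
variable {ι : Type u} (U : ι → Opens X) (k : ι)

lemma Ux_cons_le_Vk {m : ℕ} (y : Fin (m + 1) → ι) :
    Ux U (Fin.cons k y : Fin (m + 2) → ι) ≤ Ux (Vk U k) y :=
  le_Ux (Vk U k) y _ (fun a => le_inf
    ((Ux_le U (Fin.cons k y : Fin (m + 2) → ι) a.succ).trans (le_of_eq (by simp)))
    ((Ux_le U (Fin.cons k y : Fin (m + 2) → ι) 0).trans (le_of_eq (by simp))))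

lemma Ux_Vk_le_cons {m : ℕ} (y : Fin (m + 1) → ι) :
    Ux (Vk U k) y ≤ Ux U (Fin.cons k y : Fin (m + 2) → ι) := by
  refine le_Ux U _ _ (fun a => ?_)
  refine Fin.cases ?_ (fun a' => ?_) a
  · simpa using (Ux_le (Vk U k) y 0).trans inf_le_right
  · simpa using (Ux_le (Vk U k) y a').trans inf_le_left

variable {P U} in
lemma ExtProp.vk (h : ExtProp P U) : ExtProp P (Vk U k) := by
  intro m y κ a t ht
  have hle : ∀ j, Ux U (Fin.cons k y : Fin (m + 2) → ι) ⊓ U (a j) ≤
      Ux (Vk U k) y ⊓ Vk U k (a j) :=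
    fun j => le_inf (inf_le_left.trans (Ux_cons_le_Vk U k y))
      (le_inf inf_le_right (inf_le_left.trans
        ((Ux_le U (Fin.cons k y : Fin (m + 2) → ι) 0).trans (le_of_eq (by simp)))))
  have hcompat : ∀ j j' : κ, P.map (homOfLE (inf_le_left :
        (Ux U (Fin.cons k y : Fin (m + 2) → ι) ⊓ U (a j)) ⊓
          (Ux U (Fin.cons k y : Fin (m + 2) → ι) ⊓ U (a j')) ≤ _)).op
          (P.map (homOfLE (hle j)).op (t j)) =
      P.map (homOfLE (inf_le_right :
        (Ux U (Fin.cons k y : Fin (m + 2) → ι) ⊓ U (a j)) ⊓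
          (Ux U (Fin.cons k y : Fin (m + 2) → ι) ⊓ U (a j')) ≤ _)).op
          (P.map (homOfLE (hle j')).op (t j')) := by
    intro j j'
    have hA : (Ux U (Fin.cons k y : Fin (m + 2) → ι) ⊓ U (a j)) ⊓
        (Ux U (Fin.cons k y : Fin (m + 2) → ι) ⊓ U (a j')) ≤
        (Ux (Vk U k) y ⊓ Vk U k (a j)) ⊓ (Ux (Vk U k) y ⊓ Vk U k (a j')) :=
      inf_le_inf (hle j) (hle j')
    have h1 := congrArg (P.map (homOfLE hA).op) (ht j j')
    rw [map_map_any P _ _ (homOfLE (hA.trans inf_le_left)).op,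
      map_map_any P _ _ (homOfLE (hA.trans inf_le_right)).op] at h1
    rw [map_map_any P _ _ (homOfLE (hA.trans inf_le_left)).op,
      map_map_any P _ _ (homOfLE (hA.trans inf_le_right)).op]
    exact h1
  obtain ⟨t', ht'⟩ := h (m + 1) (Fin.cons k y) κ a
    (fun j => P.map (homOfLE (hle j)).op (t j)) hcompat
  refine ⟨P.map (homOfLE (Ux_Vk_le_cons U k y)).op t', fun j => ?_⟩
  have h1 : Ux (Vk U k) y ⊓ Vk U k (a j) ≤ Ux U (Fin.cons k y : Fin (m + 2) → ι) ⊓ U (a j) :=
    le_inf (inf_le_left.trans (Ux_Vk_le_cons U k y)) (inf_le_right.trans inf_le_left)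
  have h2 := congrArg (P.map (homOfLE h1).op) (ht' j)
  rw [map_map_any P _ _ (homOfLE (inf_le_left.trans (Ux_Vk_le_cons U k y))).op,
    map_map_any P _ _ (𝟙 _), map_id_any] at h2
  rw [map_map_any P _ _ (homOfLE (inf_le_left.trans (Ux_Vk_le_cons U k y))).op]
  exact h2

end vk

/-! ### constant 0-cochains -/

section const
variable {ι : Type u} (V : ι → Opens X) (T : Opens X) (hT : ∀ i, V i ≤ T)

/-- the 0-cochain of the family `V` of restrictions of a section over a larger open -/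
noncomputable def constCochain (s : P.obj (op T)) : (CK V P).X 0 :=
  mkElt V P 0 (fun x => P.map (homOfLE ((Ux_le V x 0).trans (hT _))).op s)

lemma pr_constCochain (s : P.obj (op T)) (x : Fin (0 + 1) → ι) :
    pr V P 0 x (constCochain P V T hT s) = P.map (homOfLE ((Ux_le V x 0).trans (hT _))).op s :=
  pr_mkElt V P 0 _ x

lemma dd_constCochain (s : P.obj (op T)) : dd P V 0 (constCochain P V T hT s) = 0 := by
  apply elt_ext V P (0 + 1)
  intro x
  have hx : Ux V x ≤ T := (Ux_le V x 0).trans (hT _)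
  rw [d_pr_apply, pr_zero, Fin.sum_univ_two, pr_constCochain, pr_constCochain,
    map_map_any P _ _ (homOfLE hx).op, map_map_any P _ _ (homOfLE hx).op]
  simp

end const

/-! ### the degree-zero extension hypothesis -/

section hyp0
variable {ι : Type u} (W : ι → Opens X) (k : ι) {κ : Type u} (g : κ → ι)

/-- constant 1-tuple -/
abbrev cst {α : Type u} (j : α) : Fin (0 + 1) → α := fun _ => j

lemma eq_cst {α : Type u} (x : Fin (0 + 1) → α) : x = cst (x 0) := by
  funext a
  have ha : a = 0 := Subsingleton.elim (α := Fin 1) a 0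
  rw [ha]

lemma Ux_cst_le (j : ι) : Ux W (cst j) ≤ W j := Ux_le W (cst j) 0

lemma le_Ux_cst (j : ι) : W j ≤ Ux W (cst j) := le_Ux W (cst j) _ (fun _ => le_rfl)

lemma cons_comp_succAbove_one {α : Type u} (j j' : α) :
    (Fin.cons j (cst j') : Fin (0 + 2) → α) ∘ Fin.succAbove 1 = cst j := by
  funext a
  have ha : a = 0 := Subsingleton.elim (α := Fin 1) a 0
  rw [ha]
  rfl

theorem hyp0 (hE : ExtProp P W) (z : (CK (Vk W k ∘ g) P).X 0)
    (hz : dd P (Vk W k ∘ g) 0 z = 0) :
    ∃ e : (CK (Vk W k) P).X 0, dd P (Vk W k) 0 e = 0 ∧ rho P (Vk W k) g 0 e = z := by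
  have hle : ∀ j : κ, Ux W (cst k) ⊓ W (g j) ≤ Ux (Vk W k ∘ g) (cst j) := fun j =>
    le_Ux (Vk W k ∘ g) (cst j) _
      (fun _ => le_inf inf_le_right (inf_le_left.trans (Ux_cst_le W k)))
  have hcompat : ∀ j j' : κ, P.map (homOfLE (inf_le_left :
        (Ux W (cst k) ⊓ W (g j)) ⊓ (Ux W (cst k) ⊓ W (g j')) ≤ _)).op
          (P.map (homOfLE (hle j)).op (pr (Vk W k ∘ g) P 0 (cst j) z)) =
      P.map (homOfLE (inf_le_right :
        (Ux W (cst k) ⊓ W (g j)) ⊓ (Ux W (cst k) ⊓ W (g j')) ≤ _)).op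
          (P.map (homOfLE (hle j')).op (pr (Vk W k ∘ g) P 0 (cst j') z)) := by
    intro j j'
    have e0 : (Fin.cons j (cst j') : Fin (0 + 2) → κ) ∘ Fin.succAbove 0 = cst j' :=
      cons_comp_succAbove_zero j (cst j')
    have e1 : (Fin.cons j (cst j') : Fin (0 + 2) → κ) ∘ Fin.succAbove 1 = cst j :=
      cons_comp_succAbove_one j j'
    have hA : (Ux W (cst k) ⊓ W (g j)) ⊓ (Ux W (cst k) ⊓ W (g j')) ≤
        Ux (Vk W k ∘ g) (Fin.cons j (cst j') : Fin (0 + 2) → κ) := by
      refine le_Ux (Vk W k ∘ g) _ _ (fun a => ?_)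
      refine Fin.cases ?_ (fun a' => ?_) a
      · exact le_inf (inf_le_left.trans inf_le_right)
          (inf_le_left.trans (inf_le_left.trans (Ux_cst_le W k)))
      · exact le_inf (inf_le_right.trans inf_le_right)
          (inf_le_left.trans (inf_le_left.trans (Ux_cst_le W k)))
    have h0 := congrArg (pr (Vk W k ∘ g) P (0 + 1) (Fin.cons j (cst j') : Fin (0 + 2) → κ)) hz
    rw [d_pr_apply, pr_zero, Fin.sum_univ_two] at h0
    simp only [Fin.val_zero, pow_zero, one_smul, Fin.val_one, pow_one, neg_smul] at h0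
    rw [add_neg_eq_zero] at h0
    have h1 := congrArg (P.map (homOfLE hA).op) h0
    rw [map_map_any P _ _ (homOfLE (hA.trans (face (Vk W k ∘ g) _ 0).le)).op,
      map_map_any P _ _ (homOfLE (hA.trans (face (Vk W k ∘ g) _ 1).le)).op] at h1
    rw [pr_congr P (Vk W k ∘ g) e0 _
        (homOfLE (inf_le_right.trans (hle j'))).op z,
      pr_congr P (Vk W k ∘ g) e1 _
        (homOfLE (inf_le_left.trans (hle j))).op z] at h1
    rw [map_map_any P _ _ (homOfLE (inf_le_left.trans (hle j))).op,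
      map_map_any P _ _ (homOfLE (inf_le_right.trans (hle j'))).op]
    exact h1.symm
  obtain ⟨t', ht'⟩ := hE 0 (cst k) κ g
    (fun j => P.map (homOfLE (hle j)).op (pr (Vk W k ∘ g) P 0 (cst j) z)) hcompat
  have hT : ∀ i, Vk W k i ≤ Ux W (cst k) := fun i => inf_le_right.trans (le_Ux_cst W k)
  refine ⟨constCochain P (Vk W k) (Ux W (cst k)) hT t', dd_constCochain P _ _ hT t', ?_⟩
  apply elt_ext (Vk W k ∘ g) P 0
  intro x'
  rw [pr_rho, pr_constCochain]
  have h3 : Ux (Vk W k) (g ∘ x') ≤ Ux W (cst k) ⊓ W (g (x' 0)) :=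
    le_inf ((Ux_le (Vk W k) (g ∘ x') 0).trans (hT _))
      ((Ux_le (Vk W k) (g ∘ x') 0).trans inf_le_left)
  have h4 := congrArg (P.map (homOfLE h3).op) (ht' (x' 0))
  rw [map_map_any P _ _ (homOfLE (h3.trans inf_le_left)).op,
    map_map_any P _ _ (homOfLE (h3.trans (hle (x' 0)))).op] at h4
  refine h4.trans ?_
  exact (pr_congr P (Vk W k ∘ g) (eq_cst x').symm _ (𝟙 _) z).trans (map_id_any P _ _)

end hyp0

end Groth.Agent.Lib.Helper21.CechCone
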