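import Mathlib
import Groth.Agent.Lib.Helper21CechCone3

/-!
# Čech vanishing from an extension property: the Zorn argument (helper21)
-/

set_option autoImplicit false
set_option linter.unusedSectionVars false
universe u
open CategoryTheory

namespace Groth.Agent.Lib.Helper21.CechCone
open Opposite CategoryTheory.Limits TopologicalSpace Groth.Agent.Lib.Helper16.CechLow
  Groth.Agent.Lib.Helper16.CechH1

variable {X : TopCat.{u}} (P : (Opens X)ᵒᵖ ⥤ AddCommGrpCat.{u})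

section zorn
variable {ι : Type u} (U : ι → Opens X) (q : ℕ) (c : (CK U P).X (q + 1))

/-- partial solutions of `d b = c`: a set `S` of indices and a cochain solving the equation on the
components with indices in `S` -/
structure PS where
  S : Set ι
  b : (CK U P).X q
  sol : ∀ x : Fin (q + 2) → ι, (∀ a, x a ∈ S) →
    pr U P (q + 1) x (dd P U q b) = pr U P (q + 1) x c

instance : Preorder (PS P U q c) where
  le A B := A.S ⊆ B.S ∧
    ∀ x : Fin (q + 1) → ι, (∀ a, x a ∈ A.S) → pr U P q x B.b = pr U P q x A.b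
  le_refl A := ⟨subset_rfl, fun _ _ => rfl⟩
  le_trans A B C h1 h2 := ⟨h1.1.trans h2.1,
    fun x hx => (h2.2 x (fun a => h1.1 (hx a))).trans (h1.2 x hx)⟩

variable {P U q c}

lemma PS.le_def {A B : PS P U q c} : A ≤ B ↔ A.S ⊆ B.S ∧
    ∀ x : Fin (q + 1) → ι, (∀ a, x a ∈ A.S) → pr U P q x B.b = pr U P q x A.b := Iff.rfl

lemma exists_mem_of_chain {C : Set (PS P U q c)} (hC : IsChain (· ≤ ·) C) {n : ℕ}
    (x : Fin (n + 1) → ι) (hx : ∀ a, ∃ A ∈ C, x a ∈ A.S) : ∃ A ∈ C, ∀ a, x a ∈ A.S := by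
  classical
  choose A hAC hA using hx
  haveI : Nonempty C := ⟨⟨A 0, hAC 0⟩⟩
  obtain ⟨z, hz⟩ := (hC.directed).finset_le
    (Finset.univ.image (fun a => (⟨A a, hAC a⟩ : C)))
  exact ⟨z.1, z.2, fun a =>
    (hz ⟨A a, hAC a⟩ (Finset.mem_image_of_mem _ (Finset.mem_univ a))).1 (hA a)⟩

open Classical in
/-- the union of a chain of partial solutions -/
noncomputable def bstar (C : Set (PS P U q c)) : (CK U P).X q :=
  mkElt U P q (fun x =>
    if h : ∃ A ∈ C, ∀ a, x a ∈ A.S then pr U P q x h.choose.b else 0)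

lemma pr_bstar {C : Set (PS P U q c)} (hC : IsChain (· ≤ ·) C) {A : PS P U q c} (hA : A ∈ C)
    (x : Fin (q + 1) → ι) (hx : ∀ a, x a ∈ A.S) :
    pr U P q x (bstar C) = pr U P q x A.b := by
  have h : ∃ A ∈ C, ∀ a, x a ∈ A.S := ⟨A, hA, hx⟩
  rw [bstar, pr_mkElt, dif_pos h]
  obtain ⟨hB, hxB⟩ := h.choose_spec
  rcases eq_or_ne h.choose A with e | e
  · rw [e]
  · rcases hC hB hA e with h1 | h1
    · exact (h1.2 x hxB).symm
    · exact h1.2 x hx

/-- upper bound of a chain -/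
noncomputable def ub (C : Set (PS P U q c)) (hC : IsChain (· ≤ ·) C) : PS P U q c where
  S := ⋃ A ∈ C, A.S
  b := bstar C
  sol := by
    intro x hx
    obtain ⟨A, hA, hxA⟩ := exists_mem_of_chain hC x (fun a => by simpa using hx a)
    rw [← A.sol x hxA, d_pr_apply, d_pr_apply]
    refine Finset.sum_congr rfl (fun i _ => ?_)
    rw [pr_bstar hC hA (x ∘ Fin.succAbove i) (fun a => hxA _)]

lemma le_ub (C : Set (PS P U q c)) (hC : IsChain (· ≤ ·) C) {A : PS P U q c} (hA : A ∈ C) :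
    A ≤ ub C hC :=
  ⟨Set.subset_biUnion_of_mem hA, fun x hx => pr_bstar hC hA x hx⟩

/-- extension of a partial solution to one more index -/
lemma extend_PS (hc : dd P U (q + 1) c = 0) (m : PS P U q c) (k : ι) (hk : k ∉ m.S)
    (T : Set ι) (hST : m.S ⊆ T) (hkT : k ∈ T) (hT : ∀ i ∈ T, i = k ∨ i ∈ m.S)
    (hyp : ∀ z : (CK (Vk (U ∘ (Subtype.val : T → ι)) ⟨k, hkT⟩ ∘
          (Subtype.val : {t : T // t ≠ ⟨k, hkT⟩} → T)) P).X q,
        dd P (Vk (U ∘ (Subtype.val : T → ι)) ⟨k, hkT⟩ ∘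
          (Subtype.val : {t : T // t ≠ ⟨k, hkT⟩} → T)) q z = 0 →
        ∃ e : (CK (Vk (U ∘ (Subtype.val : T → ι)) ⟨k, hkT⟩) P).X q,
          dd P (Vk (U ∘ (Subtype.val : T → ι)) ⟨k, hkT⟩) q e = 0 ∧
          rho P (Vk (U ∘ (Subtype.val : T → ι)) ⟨k, hkT⟩)
            (Subtype.val : {t : T // t ≠ ⟨k, hkT⟩} → T) q e = z) :
    ∃ m' : PS P U q c, m ≤ m' ∧ k ∈ m'.S := by
  have hgS : ∀ j : {t : T // t ≠ ⟨k, hkT⟩}, (j.1 : ι) ∈ m.S := by
    intro j
    rcases hT _ j.1.2 with h | h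
    · exact (j.2 (Subtype.ext h)).elim
    · exact h
  have hcT : dd P (U ∘ (Subtype.val : T → ι)) (q + 1)
      (rho P U (Subtype.val : T → ι) (q + 1) c) = 0 := by
    rw [← rho_dd, hc, rho_zero]
  have hb' : dd P ((U ∘ (Subtype.val : T → ι)) ∘
        (Subtype.val : {t : T // t ≠ ⟨k, hkT⟩} → T)) q
      (rho P (U ∘ (Subtype.val : T → ι)) (Subtype.val : {t : T // t ≠ ⟨k, hkT⟩} → T) q
        (rho P U (Subtype.val : T → ι) q m.b)) =
      rho P (U ∘ (Subtype.val : T → ι)) (Subtype.val : {t : T // t ≠ ⟨k, hkT⟩} → T) (q + 1)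
        (rho P U (Subtype.val : T → ι) (q + 1) c) := by
    rw [← rho_dd, ← rho_dd]
    apply elt_ext ((U ∘ (Subtype.val : T → ι)) ∘
        (Subtype.val : {t : T // t ≠ ⟨k, hkT⟩} → T)) P (q + 1)
    intro x
    rw [pr_rho, pr_rho, pr_rho, pr_rho]
    exact m.sol _ (fun a => hgS (x a))
  obtain ⟨bT, hbT1, hbT2⟩ := step P (U ∘ (Subtype.val : T → ι))
    (Subtype.val : {t : T // t ≠ ⟨k, hkT⟩} → T) ⟨k, hkT⟩ Subtype.val_injective (fun j => j.2)
    (fun i hi => ⟨⟨i, hi⟩, rfl⟩) q _ hcT _ hb' hyp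
  refine ⟨⟨T, ext0 P U (Subtype.val : T → ι) q bT, ?_⟩, ⟨hST, ?_⟩, hkT⟩
  · intro x hx
    obtain ⟨x', rfl⟩ : ∃ x' : Fin (q + 2) → T, Subtype.val ∘ x' = x :=
      ⟨fun a => ⟨x a, hx a⟩, rfl⟩
    rw [← pr_rho P U (Subtype.val : T → ι) (q + 1) _ x',
      ← pr_rho P U (Subtype.val : T → ι) (q + 1) c x', rho_dd,
      rho_ext0 P U (Subtype.val : T → ι) Subtype.val_injective, hbT2]
  · intro x hx
    have hne : ∀ a, (⟨x a, hST (hx a)⟩ : T) ≠ ⟨k, hkT⟩ := fun a h =>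
      hk (by
        have h' : x a = k := congrArg Subtype.val h
        rw [← h']
        exact hx a)
    obtain ⟨x'', rfl⟩ : ∃ x'' : Fin (q + 1) → {t : T // t ≠ ⟨k, hkT⟩},
        (Subtype.val : T → ι) ∘ ((Subtype.val : {t : T // t ≠ ⟨k, hkT⟩} → T) ∘ x'') = x :=
      ⟨fun a => ⟨⟨x a, hST (hx a)⟩, hne a⟩, rfl⟩
    show pr U P q ((Subtype.val : T → ι) ∘
        ((Subtype.val : {t : T // t ≠ ⟨k, hkT⟩} → T) ∘ x''))
        (ext0 P U (Subtype.val : T → ι) q bT) = _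
    rw [pr_ext0_comp P U (Subtype.val : T → ι) Subtype.val_injective,
      ← pr_rho P (U ∘ (Subtype.val : T → ι))
        (Subtype.val : {t : T // t ≠ ⟨k, hkT⟩} → T) q bT x'', hbT1, pr_rho, pr_rho]

/-- **Zorn argument**: if the cone-decomposition step is available for all sub-families, then a cocycle
is a coboundary. -/
theorem exists_of_step (hc : dd P U (q + 1) c = 0)
    (hyp : ∀ (T : Set ι) (k : ι) (hkT : k ∈ T)
      (z : (CK (Vk (U ∘ (Subtype.val : T → ι)) ⟨k, hkT⟩ ∘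
          (Subtype.val : {t : T // t ≠ ⟨k, hkT⟩} → T)) P).X q),
        dd P (Vk (U ∘ (Subtype.val : T → ι)) ⟨k, hkT⟩ ∘
          (Subtype.val : {t : T // t ≠ ⟨k, hkT⟩} → T)) q z = 0 →
        ∃ e : (CK (Vk (U ∘ (Subtype.val : T → ι)) ⟨k, hkT⟩) P).X q,
          dd P (Vk (U ∘ (Subtype.val : T → ι)) ⟨k, hkT⟩) q e = 0 ∧
          rho P (Vk (U ∘ (Subtype.val : T → ι)) ⟨k, hkT⟩)
            (Subtype.val : {t : T // t ≠ ⟨k, hkT⟩} → T) q e = z) :
    ∃ b : (CK U P).X q, dd P U q b = c := by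
  obtain ⟨m, hm⟩ := zorn_le (α := PS P U q c)
    (fun C hC => ⟨ub C hC, fun A hA => le_ub C hC hA⟩)
  have hS : ∀ k, k ∈ m.S := by
    intro k
    by_contra hk
    obtain ⟨m', hmm', hk'⟩ := extend_PS hc m k hk (insert k m.S) (Set.subset_insert _ _)
      (Set.mem_insert _ _) (fun i hi => hi) (hyp (insert k m.S) k (Set.mem_insert _ _))
    exact hk ((hm hmm').1 hk')
  exact ⟨m.b, elt_ext U P (q + 1) _ _ (fun x => m.sol x (fun a => hS _))⟩

end zorn

/-- **Čech vanishing from the extension property.** -/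
theorem exists_of_extProp (q : ℕ) : ∀ (ι : Type u) (U : ι → Opens X), ExtProp P U →
    ∀ c : (CK U P).X (q + 1), dd P U (q + 1) c = 0 → ∃ b : (CK U P).X q, dd P U q b = c := by
  induction q with
  | zero =>
    intro ι U hE c hc
    exact exists_of_step hc (fun T k hkT z hz =>
      hyp0 P (U ∘ (Subtype.val : T → ι)) ⟨k, hkT⟩ Subtype.val (hE.comp _) z hz)
  | succ q' ih =>
    intro ι U hE c hc
    exact exists_of_step hc (fun T k hkT z hz =>
      extend_of_coboundary P (Vk (U ∘ (Subtype.val : T → ι)) ⟨k, hkT⟩) Subtype.val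
        Subtype.val_injective q' z
        (ih _ (Vk (U ∘ (Subtype.val : T → ι)) ⟨k, hkT⟩ ∘ Subtype.val)
          (((hE.comp _).vk _).comp _) z hz))

/-- **Čech vanishing from the extension property**, homology form. -/
theorem isZero_homology_of_extProp {ι : Type u} (U : ι → Opens X) (hE : ExtProp P U) (q : ℕ) :
    IsZero ((CK U P).homology (q + 1)) :=
  isZero_homology_succ_of_exists P U q (exists_of_extProp P q ι U hE)

end Groth.Agent.Lib.Helper21.CechCone
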