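import Mathlib
import Groth.Agent.Lib.Helper21CechCone4

/-!
# The extension property for a sheaf with surjective restrictions (helper21)
-/

set_option autoImplicit false
set_option linter.unusedSectionVars false
universe u
open CategoryTheory

namespace Groth.Agent.Lib.Helper21.CechCone
open Opposite CategoryTheory.Limits TopologicalSpace Groth.Agent.Lib.Helper16.CechLow
  Groth.Agent.Lib.Helper16.CechH1

variable {X : TopCat.{u}} (F : TopCat.Sheaf AddCommGrpCat.{u} X) {ι : Type u} (U : ι → Opens X)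

lemma iInf_cons_eq {m : ℕ} (y : Fin (m + 1) → ι) (i : ι) :
    (⨅ l : Fin (m + 1 + 1), U ((Fin.cons i y : Fin (m + 1 + 1) → ι) l)) = Ux U y ⊓ U i := by
  apply le_antisymm
  · refine le_inf (le_Ux U y _ (fun l' => (iInf_le _ l'.succ).trans (le_of_eq (by simp))))
      ((iInf_le _ 0).trans (le_of_eq (by simp)))
  · refine le_iInf (fun l => ?_)
    refine Fin.cases ?_ (fun l' => ?_) l
    · simpa using (inf_le_right : Ux U y ⊓ U i ≤ U i)
    · simpa using (inf_le_left : Ux U y ⊓ U i ≤ _).trans (Ux_le U y l')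

theorem extProp_of_sheaf
    (h : ∀ (κ : Type u) (a : κ → Σ p : ℕ, Fin (p + 1) → ι),
      Function.Surjective (F.obj.map (homOfLE
        (iSup_le fun k => (iInf_le _ ⟨0, Nat.succ_pos _⟩).trans (le_iSup U ((a k).2 ⟨0, Nat.succ_pos _⟩)) :
          (⨆ k, ⨅ j, U ((a k).2 j)) ≤ iSup U)).op)) :
    ExtProp F.obj U := by
  intro m y κ a t ht
  obtain ⟨s, hs, -⟩ := TopCat.Sheaf.existsUnique_gluing F (fun j => Ux U y ⊓ U (a j)) t ht
  have hW : (⨆ j : κ, ⨅ l, U ((⟨m + 1, Fin.cons (a j) y⟩ : Σ p : ℕ, Fin (p + 1) → ι).2 l)) =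
      ⨆ j : κ, Ux U y ⊓ U (a j) :=
    iSup_congr (fun j => iInf_cons_eq U y (a j))
  obtain ⟨s', hs'⟩ := h κ (fun j => ⟨m + 1, Fin.cons (a j) y⟩)
    (F.obj.map (homOfLE (le_of_eq hW)).op s)
  have hy : Ux U y ≤ iSup U := (Ux_le U y 0).trans (le_iSup U _)
  refine ⟨F.obj.map (homOfLE hy).op s', fun j => ?_⟩
  have h1 : Ux U y ⊓ U (a j) ≤
      ⨆ j : κ, ⨅ l, U ((⟨m + 1, Fin.cons (a j) y⟩ : Σ p : ℕ, Fin (p + 1) → ι).2 l) :=
    (le_iSup (fun j => Ux U y ⊓ U (a j)) j).trans (le_of_eq hW.symm)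
  have h2 := congrArg (F.obj.map (homOfLE h1).op) hs'
  rw [map_map_any F.obj _ _ (homOfLE (inf_le_left.trans hy)).op,
    map_map_any F.obj _ _ (homOfLE (le_iSup (fun j => Ux U y ⊓ U (a j)) j)).op] at h2
  rw [map_map_any F.obj _ _ (homOfLE (inf_le_left.trans hy)).op, h2]
  exact hs j

end Groth.Agent.Lib.Helper21.CechCone
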