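import Mathlib
import Groth.Prelude.Def_EtCech

set_option autoImplicit false
universe w v₁ u₁ v₂ u₂
open CategoryTheory CategoryTheory.Limits Opposite

/-! Čech-acyclicity of `u.op ⋙ I` for an injective presheaf `I` on a locally small category `D` and a
functor `u : C ⥤ D` such that `Over.post u` preserves finite products; general universes.
The proof is via the complex of free presheaves on tuples of points. -/

namespace Groth.Agent.Lib.Helper21.CechFree

section shrink
universe a b c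
variable {α : Type a} {β : Type b} {γ : Type c} [Small.{w} α] [Small.{w} β] [Small.{w} γ]

/-- map induced on `Shrink` -/
noncomputable def shrinkMap (f : α → β) : Shrink.{w} α → Shrink.{w} β :=
  fun s => equivShrink β (f ((equivShrink α).symm s))

theorem shrinkMap_mk (f : α → β) (x : α) :
    shrinkMap f (equivShrink α x : Shrink.{w} α) = equivShrink β (f x) := by
  simp [shrinkMap]

theorem shrinkMap_comp (f : α → β) (g : β → γ) :
    (shrinkMap g : Shrink.{w} β → Shrink.{w} γ) ∘ shrinkMap f = shrinkMap (g ∘ f) := by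
  funext s
  simp [shrinkMap]

theorem shrinkMap_id : (shrinkMap (id : α → α) : Shrink.{w} α → Shrink.{w} α) = id := by
  funext s
  simp [shrinkMap]

end shrink

section free
variable {α β γ : Type w}

/-- map of free abelian groups -/
noncomputable def freeMap (f : α → β) :
    AddCommGrpCat.of (FreeAbelianGroup α) ⟶ AddCommGrpCat.of (FreeAbelianGroup β) :=
  AddCommGrpCat.ofHom (FreeAbelianGroup.map f)

theorem freeMap_of (f : α → β) (x : α) :
    (freeMap f).hom (FreeAbelianGroup.of x) = FreeAbelianGroup.of (f x) :=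
  FreeAbelianGroup.map_of_apply x

theorem free_hom_ext {A : AddCommGrpCat.{w}} (f g : AddCommGrpCat.of (FreeAbelianGroup α) ⟶ A)
    (h : ∀ x, f.hom (FreeAbelianGroup.of x) = g.hom (FreeAbelianGroup.of x)) : f = g := by
  apply AddCommGrpCat.hom_ext
  exact FreeAbelianGroup.lift_ext _ _ h

theorem freeMap_comp (f : α → β) (g : β → γ) : freeMap f ≫ freeMap g = freeMap (g ∘ f) := by
  apply free_hom_ext
  intro x
  change (freeMap g).hom ((freeMap f).hom (FreeAbelianGroup.of x)) = _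
  rw [freeMap_of, freeMap_of, freeMap_of]
  rfl

theorem freeMap_id : freeMap (id : α → α) = 𝟙 _ := by
  apply free_hom_ext
  intro x
  erw [freeMap_of]

/-- morphism out of a free abelian group -/
noncomputable def freeDesc {A : AddCommGrpCat.{w}} (f : α → A) :
    AddCommGrpCat.of (FreeAbelianGroup α) ⟶ A :=
  AddCommGrpCat.ofHom (FreeAbelianGroup.lift f)

theorem freeDesc_of {A : AddCommGrpCat.{w}} (f : α → A) (x : α) :
    (freeDesc f).hom (FreeAbelianGroup.of x) = f x :=
  FreeAbelianGroup.lift_apply_of _ _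

end free

section basic
variable {C : Type u₁} [Category.{v₁} C] {U : C} [HasFiniteProducts (Over U)] {ι : Type w}
  (Y : ι → Over U)

/-- the iterated fibre product -/
noncomputable abbrev fp {n : ℕ} (i : Fin (n + 1) → ι) : Over U := ∏ᶜ (Y ∘ i)

variable (P : Cᵒᵖ ⥤ AddCommGrpCat.{w})

/-- coface maps -/
noncomputable def face (n : ℕ) (j : Fin (n + 2)) :
    (EtCech.cechComplex Y P).X n ⟶ (EtCech.cechComplex Y P).X (n + 1) :=
  ((FormalCoproduct.evalOp.{w} (Over U) AddCommGrpCat.{w}).obj ((Over.forget U).op ⋙ P)).map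
    (((FormalCoproduct.mk _ Y).cech.map (SimplexCategory.δ j).op).op)

theorem cx_d (n : ℕ) :
    (EtCech.cechComplex Y P).d n (n + 1) =
      ∑ j : Fin (n + 2), (-1 : ℤ) ^ (j : ℕ) • face Y P n j := by
  have h1 := CochainComplex.of_d (fun n => (EtCech.cechComplex Y P).X n)
      (AlgebraicTopology.AlternatingCofaceMapComplex.objD
        ((FormalCoproduct.cosimplicialObjectFunctor (FormalCoproduct.mk _ Y).cech).obj
          ((Over.forget U).op ⋙ P))) n
  exact h1

/-- the map between fibre products induced by δ j -/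
noncomputable def dmap {n : ℕ} (j : Fin (n + 2)) (i : Fin (n + 2) → ι) :
    fp Y i ⟶ fp Y (i ∘ Fin.succAbove j) :=
  Pi.lift (fun a => Pi.π (Y ∘ i) (Fin.succAbove j a))

theorem dmap_π {n : ℕ} (j : Fin (n + 2)) (i : Fin (n + 2) → ι) (a : Fin (n + 1)) :
    dmap Y j i ≫ Pi.π (Y ∘ (i ∘ Fin.succAbove j)) a = Pi.π (Y ∘ i) (Fin.succAbove j a) := by
  rw [dmap]
  erw [Pi.lift_π]

/-- projections -/
noncomputable abbrev proj (n : ℕ) (i : Fin (n + 1) → ι) :
    (EtCech.cechComplex Y P).X n ⟶ P.obj (op (fp Y i).left) :=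
  Pi.π (fun (i : Fin (n + 1) → ι) => P.obj (op (fp Y i).left)) i

theorem face_π (n : ℕ) (j : Fin (n + 2)) (i : Fin (n + 2) → ι) :
    face Y P n j ≫ proj Y P (n + 1) i =
      proj Y P n (i ∘ Fin.succAbove j) ≫ P.map (dmap Y j i).left.op := by
  rw [face, FormalCoproduct.evalOp_obj_map]
  erw [Pi.lift_π]
  rfl

theorem X_ext {n : ℕ} (c c' : (EtCech.cechComplex Y P).X n)
    (h : ∀ i, (proj Y P n i).hom c = (proj Y P n i).hom c') : c = c' := by
  apply (Concrete.productEquiv (fun (i : Fin (n + 1) → ι) => P.obj (op (fp Y i).left))).injective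
  funext i
  rw [Concrete.productEquiv_apply_apply, Concrete.productEquiv_apply_apply]
  exact h i

/-- an element of the Čech complex from its components -/
noncomputable def mkX {n : ℕ} (x : ∀ i : Fin (n + 1) → ι, P.obj (op (fp Y i).left)) :
    (EtCech.cechComplex Y P).X n :=
  (Concrete.productEquiv (fun (i : Fin (n + 1) → ι) => P.obj (op (fp Y i).left))).symm x

theorem proj_mkX {n : ℕ} (x : ∀ i : Fin (n + 1) → ι, P.obj (op (fp Y i).left))
    (i : Fin (n + 1) → ι) : (proj Y P n i).hom (mkX Y P x) = x i :=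
  Concrete.productEquiv_symm_apply_π _ x i

end basic

section points
variable {C : Type u₁} [Category.{v₁} C] {D : Type u₂} [Category.{v₂} D]
variable (u : C ⥤ D) {U : C} [HasFiniteProducts (Over U)] {ι : Type w} (Y : ι → Over U)

/-- a `D`-point of the family with values in `V : D` -/
structure PtD (V : D) where
  /-- the index -/
  idx : ι
  /-- the morphism -/
  map : V ⟶ u.obj (Y idx).left

variable {u Y}

/-- structure map of a point -/
def PtD.str {V : D} (x : PtD u Y V) : V ⟶ u.obj U := x.map ≫ u.map (Y x.idx).hom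

/-- a point as a morphism in `Over (u U)` -/
def PtD.hom {V : D} (x : PtD u Y V) (g : V ⟶ u.obj U) (h : x.str = g) :
    Over.mk g ⟶ (Over.post (X := U) u).obj (Y x.idx) :=
  Over.homMk x.map h

/-- precomposition -/
def PtD.pre {V V' : D} (t : V' ⟶ V) (x : PtD u Y V) : PtD u Y V' := ⟨x.idx, t ≫ x.map⟩

@[simp] theorem PtD.pre_str {V V' : D} (t : V' ⟶ V) (x : PtD u Y V) :
    (x.pre t).str = t ≫ x.str := by
  simp [PtD.pre, PtD.str]

theorem PtD.pre_id {V : D} (x : PtD u Y V) : x.pre (𝟙 V) = x := by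
  simp [PtD.pre]

theorem PtD.pre_comp {V V' V'' : D} (t' : V'' ⟶ V') (t : V' ⟶ V) (x : PtD u Y V) :
    x.pre (t' ≫ t) = (x.pre t).pre t' := by
  simp [PtD.pre]

variable (u Y)
variable [PreservesFiniteProducts (Over.post (X := U) u)]

/-- the image of the fibre product is a fibre product -/
noncomputable def isLim {n : ℕ} (i : Fin (n + 1) → ι) :
    IsLimit (Fan.mk ((Over.post (X := U) u).obj (fp Y i))
      (fun a => (Over.post (X := U) u).map (Pi.π (Y ∘ i) a))) :=
  haveI : PreservesLimitsOfShape (Discrete (Fin (n + 1))) (Over.post (X := U) u) :=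
    PreservesFiniteProducts.preserves _
  isLimitOfHasProductOfPreservesLimit (Over.post (X := U) u) (Y ∘ i)

/-- the morphism to the image of the fibre product determined by a tuple of points -/
noncomputable def tupD {V : D} (g : V ⟶ u.obj U) {n : ℕ} (e : Fin (n + 1) → PtD u Y V)
    (he : ∀ a, (e a).str = g) :
    Over.mk g ⟶ (Over.post (X := U) u).obj (fp Y (fun a => (e a).idx)) :=
  Fan.IsLimit.lift (isLim u Y (fun a => (e a).idx)) (fun a => (e a).hom g (he a))

theorem tupD_π {V : D} (g : V ⟶ u.obj U) {n : ℕ} (e : Fin (n + 1) → PtD u Y V)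
    (he : ∀ a, (e a).str = g) (a : Fin (n + 1)) :
    tupD u Y g e he ≫ (Over.post (X := U) u).map (Pi.π (Y ∘ fun a => (e a).idx) a) =
      (e a).hom g (he a) :=
  Fan.IsLimit.fac (isLim u Y (fun a => (e a).idx)) _ a

theorem tupD_dmap {V : D} (g : V ⟶ u.obj U) {n : ℕ} (e : Fin (n + 2) → PtD u Y V)
    (he : ∀ a, (e a).str = g) (j : Fin (n + 2)) :
    tupD u Y g e he ≫ (Over.post (X := U) u).map (dmap Y j (fun a => (e a).idx)) =
      tupD u Y g (e ∘ Fin.succAbove j) (fun a => he _) := by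
  refine Fan.IsLimit.hom_ext (isLim u Y (fun a => ((e ∘ Fin.succAbove j) a).idx)) _ _ (fun a => ?_)
  change _ ≫ (Over.post (X := U) u).map _ = _ ≫ (Over.post (X := U) u).map _
  rw [tupD_π, Category.assoc, ← Functor.map_comp]
  have h1 : dmap Y j (fun a => (e a).idx) ≫ Pi.π (Y ∘ fun a => ((e ∘ Fin.succAbove j) a).idx) a =
      Pi.π (Y ∘ fun a => (e a).idx) (Fin.succAbove j a) := dmap_π Y j _ a
  rw [h1, tupD_π]
  rfl

theorem tupD_dmap_left {V : D} (g : V ⟶ u.obj U) {n : ℕ} (e : Fin (n + 2) → PtD u Y V)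
    (he : ∀ a, (e a).str = g) (j : Fin (n + 2)) :
    (tupD u Y g e he).left ≫ u.map (dmap Y j (fun a => (e a).idx)).left =
      (tupD u Y g (e ∘ Fin.succAbove j) (fun a => he _)).left :=
  congrArg (fun t => t.left) (tupD_dmap u Y g e he j)

theorem tupD_pre {V V' : D} (t : V' ⟶ V) (g : V ⟶ u.obj U) {n : ℕ} (e : Fin (n + 1) → PtD u Y V)
    (he : ∀ a, (e a).str = g) :
    (Over.homMk t rfl : Over.mk (t ≫ g) ⟶ Over.mk g) ≫ tupD u Y g e he =
      tupD u Y (t ≫ g) (fun a => (e a).pre t) (fun a => by simp [he a]) := by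
  refine Fan.IsLimit.hom_ext (isLim u Y (fun a => (e a).idx)) _ _ (fun a => ?_)
  change _ ≫ (Over.post (X := U) u).map _ = _ ≫ (Over.post (X := U) u).map _
  rw [Category.assoc, tupD_π]
  have := tupD_π u Y (t ≫ g) (fun a => (e a).pre t) (fun a => by simp [he a]) a
  refine Eq.trans ?_ this.symm
  ext
  rfl

theorem tupD_pre_left {V V' : D} (t : V' ⟶ V) (g : V ⟶ u.obj U) {n : ℕ}
    (e : Fin (n + 1) → PtD u Y V) (he : ∀ a, (e a).str = g) :
    t ≫ (tupD u Y g e he).left =
      (tupD u Y (t ≫ g) (fun a => (e a).pre t) (fun a => by simp [he a])).left :=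
  congrArg (fun t => t.left) (tupD_pre u Y t g e he)

variable (Q : Dᵒᵖ ⥤ AddCommGrpCat.{w})

/-- evaluation of Čech cochains of `u.op ⋙ Q` at a tuple of points -/
noncomputable def evD {V : D} (g : V ⟶ u.obj U) {n : ℕ} (e : Fin (n + 1) → PtD u Y V)
    (he : ∀ a, (e a).str = g) : (EtCech.cechComplex Y (u.op ⋙ Q)).X n ⟶ Q.obj (op V) :=
  proj Y (u.op ⋙ Q) n (fun a => (e a).idx) ≫ Q.map (tupD u Y g e he).left.op

theorem evD_congr {V : D} {g g' : V ⟶ u.obj U} {n : ℕ} {e e' : Fin (n + 1) → PtD u Y V}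
    (he : ∀ a, (e a).str = g) (he' : ∀ a, (e' a).str = g') (hg : g = g') (hee : e = e') :
    evD u Y Q g e he = evD u Y Q g' e' he' := by
  subst hg hee
  rfl

theorem evD_pre {V V' : D} (t : V' ⟶ V) (g : V ⟶ u.obj U) {n : ℕ} (e : Fin (n + 1) → PtD u Y V)
    (he : ∀ a, (e a).str = g) :
    evD u Y Q g e he ≫ Q.map t.op =
      evD u Y Q (t ≫ g) (fun a => (e a).pre t) (fun a => by simp [he a]) := by
  have h1 : Q.map (tupD u Y g e he).left.op ≫ Q.map t.op =
      Q.map (t ≫ (show V ⟶ u.obj (fp Y (fun a => (e a).idx)).left from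
        (tupD u Y g e he).left)).op := by
    rw [op_comp, Q.map_comp]
    rfl
  rw [evD, Category.assoc]
  refine (congrArg (fun s => proj Y (u.op ⋙ Q) n (fun a => (e a).idx) ≫ s) h1).trans ?_
  exact congrArg (fun s : V' ⟶ u.obj (fp Y (fun a => (e a).idx)).left =>
    proj Y (u.op ⋙ Q) n (fun a => (e a).idx) ≫ Q.map s.op) (tupD_pre_left u Y t g e he)

theorem face_evD {V : D} (g : V ⟶ u.obj U) {n : ℕ} (e : Fin (n + 2) → PtD u Y V)
    (he : ∀ a, (e a).str = g) (j : Fin (n + 2)) :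
    face Y (u.op ⋙ Q) n j ≫ evD u Y Q g e he =
      evD u Y Q g (e ∘ Fin.succAbove j) (fun a => he _) := by
  rw [evD, ← Category.assoc, face_π, Category.assoc]
  have h1 : (u.op ⋙ Q).map (dmap Y j (fun a => (e a).idx)).left.op ≫
      Q.map (tupD u Y g e he).left.op =
      Q.map ((show V ⟶ u.obj (fp Y (fun a => (e a).idx)).left from (tupD u Y g e he).left) ≫
        u.map (dmap Y j (fun a => (e a).idx)).left).op := by
    rw [op_comp, Q.map_comp]
    rfl
  refine (congrArg (fun s => proj Y (u.op ⋙ Q) n ((fun a => (e a).idx) ∘ Fin.succAbove j) ≫ s)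
    h1).trans ?_
  exact congrArg (fun s : V ⟶ u.obj (fp Y (fun a => ((e ∘ Fin.succAbove j) a).idx)).left =>
    proj Y (u.op ⋙ Q) n (fun a => ((e ∘ Fin.succAbove j) a).idx) ≫ Q.map s.op)
    (tupD_dmap_left u Y g e he j)

theorem d_evD {V : D} (g : V ⟶ u.obj U) {n : ℕ} (e : Fin (n + 2) → PtD u Y V)
    (he : ∀ a, (e a).str = g) :
    (EtCech.cechComplex Y (u.op ⋙ Q)).d n (n + 1) ≫ evD u Y Q g e he =
      ∑ j : Fin (n + 2), (-1 : ℤ) ^ (j : ℕ) •
        evD u Y Q g (e ∘ Fin.succAbove j) (fun a => he _) := by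
  rw [cx_d, Preadditive.sum_comp]
  refine Finset.sum_congr rfl (fun j _ => ?_)
  rw [Preadditive.zsmul_comp, face_evD]

/-! ### tuples with common structure map -/

/-- tuples of points with a common structure map -/
def T (n : ℕ) (V : D) : Type (max w v₂) :=
  {e : Fin (n + 1) → PtD u Y V // ∀ a, (e a).str = (e 0).str}

variable {u Y}

/-- the common structure map -/
def T.g {n : ℕ} {V : D} (e : T u Y n V) : V ⟶ u.obj U := (e.1 0).str

/-- precomposition -/
def T.pre {n : ℕ} {V V' : D} (t : V' ⟶ V) (e : T u Y n V) : T u Y n V' :=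
  ⟨fun a => (e.1 a).pre t, fun a => by simp [e.2 a]⟩

theorem T.pre_id {n : ℕ} {V : D} (e : T u Y n V) : T.pre (𝟙 V) e = e := by
  apply Subtype.ext
  funext a
  exact PtD.pre_id _

theorem T.pre_comp {n : ℕ} {V V' V'' : D} (t' : V'' ⟶ V') (t : V' ⟶ V) (e : T u Y n V) :
    T.pre (t' ≫ t) e = T.pre t' (T.pre t e) := by
  apply Subtype.ext
  funext a
  exact PtD.pre_comp _ _ _

theorem T.pre_g {n : ℕ} {V V' : D} (t : V' ⟶ V) (e : T u Y n V) : (T.pre t e).g = t ≫ e.g :=
  PtD.pre_str _ _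

/-- faces -/
def T.δ {n : ℕ} {V : D} (j : Fin (n + 2)) (e : T u Y (n + 1) V) : T u Y n V :=
  ⟨e.1 ∘ Fin.succAbove j, fun a => (e.2 _).trans (e.2 _).symm⟩

theorem T.δ_g {n : ℕ} {V : D} (j : Fin (n + 2)) (e : T u Y (n + 1) V) : (T.δ j e).g = e.g :=
  e.2 _

theorem T.δ_pre {n : ℕ} {V V' : D} (t : V' ⟶ V) (j : Fin (n + 2)) (e : T u Y (n + 1) V) :
    T.δ j (T.pre t e) = T.pre t (T.δ j e) := rfl

variable (u Y)

/-- chosen point -/
noncomputable def ptD (V : D) (g : V ⟶ u.obj U) (h : ∃ x : PtD u Y V, x.str = g) : PtD u Y V :=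
  h.choose

theorem ptD_str (V : D) (g : V ⟶ u.obj U) (h : ∃ x : PtD u Y V, x.str = g) :
    (ptD u Y V g h).str = g :=
  h.choose_spec

theorem ptD_congr (V : D) {g g' : V ⟶ u.obj U} (hg : g = g') (h : ∃ x : PtD u Y V, x.str = g)
    (h' : ∃ x : PtD u Y V, x.str = g') : ptD u Y V g h = ptD u Y V g' h' := by
  subst hg
  rfl

variable {u Y}

/-- cone -/
noncomputable def T.cons {n : ℕ} {V : D} (e : T u Y n V) : T u Y (n + 1) V :=
  ⟨Fin.cons (ptD u Y V e.g ⟨e.1 0, rfl⟩) e.1, fun a => by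
    refine Fin.cases ?_ (fun b => ?_) a
    · rfl
    · simp only [Fin.cons_succ, Fin.cons_zero]
      rw [ptD_str]
      exact e.2 b⟩

theorem T.δ_zero_cons {n : ℕ} {V : D} (e : T u Y n V) : T.δ 0 (T.cons e) = e := by
  apply Subtype.ext
  funext a
  simp [T.δ, T.cons]

theorem T.δ_succ_cons {n : ℕ} {V : D} (j : Fin (n + 2)) (e : T u Y (n + 1) V) :
    T.δ j.succ (T.cons e) = T.cons (T.δ j e) := by
  apply Subtype.ext
  funext a
  refine Fin.cases ?_ (fun b => ?_) a
  · simp only [T.δ, T.cons, Function.comp_apply, Fin.succ_succAbove_zero, Fin.cons_zero]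
    exact ptD_congr u Y V (T.δ_g j e).symm _ _
  · simp only [T.δ, T.cons, Function.comp_apply, Fin.succ_succAbove_succ, Fin.cons_succ]

variable (u Y)

/-- evaluation at a tuple -/
noncomputable def evT {n : ℕ} {V : D} (e : T u Y n V) :
    (EtCech.cechComplex Y (u.op ⋙ Q)).X n ⟶ Q.obj (op V) :=
  evD u Y Q e.g e.1 e.2

theorem evT_pre {n : ℕ} {V V' : D} (t : V' ⟶ V) (e : T u Y n V) :
    evT u Y Q e ≫ Q.map t.op = evT u Y Q (T.pre t e) := by
  rw [evT, evD_pre]
  exact evD_congr u Y Q _ _ (T.pre_g t e).symm rfl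

theorem d_evT {n : ℕ} {V : D} (e : T u Y (n + 1) V) :
    (EtCech.cechComplex Y (u.op ⋙ Q)).d n (n + 1) ≫ evT u Y Q e =
      ∑ j : Fin (n + 2), (-1 : ℤ) ^ (j : ℕ) • evT u Y Q (T.δ j e) := by
  rw [evT, d_evD]
  refine Finset.sum_congr rfl (fun j _ => ?_)
  congr 1
  exact evD_congr u Y Q _ _ (T.δ_g j e).symm rfl

/-- the canonical tuple -/
noncomputable def canT {n : ℕ} (i : Fin (n + 1) → ι) : T u Y n (u.obj (fp Y i).left) :=
  ⟨fun a => ⟨i a, u.map (Pi.π (Y ∘ i) a).left⟩, fun a => by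
    change u.map (Pi.π (Y ∘ i) a).left ≫ u.map (Y (i a)).hom =
      u.map (Pi.π (Y ∘ i) 0).left ≫ u.map (Y (i 0)).hom
    rw [← u.map_comp, ← u.map_comp]
    congr 1
    exact (Over.w (Pi.π (Y ∘ i) a)).trans (Over.w (Pi.π (Y ∘ i) 0)).symm⟩

theorem canT_g {n : ℕ} (i : Fin (n + 1) → ι) : (canT u Y i).g = u.map (fp Y i).hom := by
  change u.map (Pi.π (Y ∘ i) 0).left ≫ u.map (Y (i 0)).hom = _
  rw [← u.map_comp]
  congr 1
  exact Over.w (Pi.π (Y ∘ i) 0)

theorem tupD_canT {n : ℕ} (i : Fin (n + 1) → ι) :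
    (tupD u Y (canT u Y i).g (canT u Y i).1 (canT u Y i).2).left = 𝟙 (u.obj (fp Y i).left) := by
  have h : tupD u Y (canT u Y i).g (canT u Y i).1 (canT u Y i).2 =
      (Over.homMk (𝟙 _) (by rw [canT_g]; exact Category.id_comp _) :
        Over.mk (canT u Y i).g ⟶ (Over.post (X := U) u).obj (fp Y i)) := by
    refine Fan.IsLimit.hom_ext (isLim u Y i) _ _ (fun a => ?_)
    change _ ≫ (Over.post (X := U) u).map _ = _ ≫ (Over.post (X := U) u).map _
    have := tupD_π u Y (canT u Y i).g (canT u Y i).1 (canT u Y i).2 a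
    refine this.trans ?_
    ext
    exact (Category.id_comp _).symm
  rw [h]
  rfl

theorem proj_eq_evT {n : ℕ} (i : Fin (n + 1) → ι) :
    proj Y (u.op ⋙ Q) n i = evT u Y Q (canT u Y i) := by
  rw [evT, evD]
  have h := congrArg (fun s : u.obj (fp Y i).left ⟶ u.obj (fp Y i).left =>
    proj Y (u.op ⋙ Q) n i ≫ Q.map s.op) (tupD_canT u Y i)
  refine Eq.trans ?_ h.symm
  change _ = proj Y (u.op ⋙ Q) n i ≫ Q.map (𝟙 _).op
  rw [op_id]
  erw [Q.map_id]
  exact (Category.comp_id _).symm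

theorem canT_pre_dmap {n : ℕ} (j : Fin (n + 2)) (i : Fin (n + 2) → ι) :
    T.pre (u.map (dmap Y j i).left) (canT u Y (i ∘ Fin.succAbove j)) = T.δ j (canT u Y i) := by
  apply Subtype.ext
  funext a
  change PtD.mk (i (Fin.succAbove j a))
      (u.map (dmap Y j i).left ≫ u.map (Pi.π (Y ∘ (i ∘ Fin.succAbove j)) a).left) =
    PtD.mk (i (Fin.succAbove j a)) (u.map (Pi.π (Y ∘ i) (Fin.succAbove j a)).left)
  rw [← u.map_comp, ← Over.comp_left, dmap_π]

end points

end Groth.Agent.Lib.Helper21.CechFree
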