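import Mathlib
import Groth.Agent.Lib.Helper21CechFree

/-!
# Čech complexes (general universes): exactness in the presheaf variable (helper21)

`cxFun Y` the Čech complex functor on presheaves, `cxMap_proj`, `shortExact_cx` (a short complex of
presheaves which is exact on the iterated fibre products of the family gives a short exact sequence of Čech
complexes), `isZero_X₃` (vanishing consequence of the long exact sequence).
-/

set_option autoImplicit false
universe w v₁ u₁
open CategoryTheory CategoryTheory.Limits Opposite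

namespace Groth.Agent.Lib.Helper21.CechEtSES
open Groth.Agent.Lib.Helper21.CechFree

variable {C : Type u₁} [Category.{v₁} C] {U : C} [HasFiniteProducts (Over U)] {ι : Type w}
  (Y : ι → Over U)

/-- the Čech complex functor on presheaves -/
noncomputable abbrev cxFun :
    (Cᵒᵖ ⥤ AddCommGrpCat.{w}) ⥤ CochainComplex AddCommGrpCat.{w} ℕ :=
  (Functor.whiskeringLeft (Over U)ᵒᵖ Cᵒᵖ AddCommGrpCat.{w}).obj (Over.forget U).op ⋙
    cechComplexFunctor Y

theorem cxMap_proj {P Q : Cᵒᵖ ⥤ AddCommGrpCat.{w}} (φ : P ⟶ Q) (n : ℕ) (i : Fin (n + 1) → ι) :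
    ((cxFun Y).map φ).f n ≫ proj Y Q n i = proj Y P n i ≫ φ.app (op (fp Y i).left) := by
  simp [cxFun, cechComplexFunctor, proj]
  exact Pi.map_π _ _

theorem cxMap_zero (P Q : Cᵒᵖ ⥤ AddCommGrpCat.{w}) : (cxFun Y).map (0 : P ⟶ Q) = 0 := by
  apply HomologicalComplex.hom_ext
  intro n
  refine Limits.Pi.hom_ext _ _ (fun (j : Fin (n + 1) → ι) => ?_)
  have h := cxMap_proj Y (0 : P ⟶ Q) n j
  refine h.trans ?_
  refine Eq.trans ?_ zero_comp.symm
  exact comp_zero

variable (T : ShortComplex (Cᵒᵖ ⥤ AddCommGrpCat.{w}))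

/-- the short complex of Čech complexes -/
noncomputable def scCx : ShortComplex (CochainComplex AddCommGrpCat.{w} ℕ) :=
  ShortComplex.mk ((cxFun Y).map T.f) ((cxFun Y).map T.g) (by
    rw [← Functor.map_comp, T.zero, cxMap_zero])

variable (hinj : ∀ {n : ℕ} (i : Fin (n + 1) → ι),
    Function.Injective (T.f.app (op (fp Y i).left)).hom)
  (hex : ∀ {n : ℕ} (i : Fin (n + 1) → ι) (x : T.X₂.obj (op (fp Y i).left)),
    (T.g.app (op (fp Y i).left)).hom x = 0 → ∃ y, (T.f.app (op (fp Y i).left)).hom y = x)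
  (hsurj : ∀ {n : ℕ} (i : Fin (n + 1) → ι),
    Function.Surjective (T.g.app (op (fp Y i).left)).hom)

include hinj hex hsurj in
/-- exactness of the Čech complexes from exactness on the fibre products -/
theorem shortExact_cx : (scCx Y T).ShortExact := by
  apply HomologicalComplex.shortExact_of_degreewise_shortExact
  intro n
  have hf : ∀ (c : (EtCech.cechComplex Y T.X₁).X n) (i : Fin (n + 1) → ι),
      (proj Y T.X₂ n i).hom ((((cxFun Y).map T.f).f n).hom c) =
        (T.f.app _).hom ((proj Y T.X₁ n i).hom c) := fun c i =>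
    ConcreteCategory.congr_hom (cxMap_proj Y T.f n i) c
  have hg : ∀ (c : (EtCech.cechComplex Y T.X₂).X n) (i : Fin (n + 1) → ι),
      (proj Y T.X₃ n i).hom ((((cxFun Y).map T.g).f n).hom c) =
        (T.g.app _).hom ((proj Y T.X₂ n i).hom c) := fun c i =>
    ConcreteCategory.congr_hom (cxMap_proj Y T.g n i) c
  refine ShortComplex.ShortExact.mk' ?_ ?_ ?_
  · rw [ShortComplex.ab_exact_iff]
    intro c hc
    change (((cxFun Y).map T.g).f n).hom c = 0 at hc
    have h1 : ∀ i, ∃ y, (T.f.app _).hom y = (proj Y T.X₂ n i).hom c := by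
      intro i
      apply hex i
      rw [← hg, hc, map_zero]
    choose y hy using h1
    refine ⟨mkX Y T.X₁ y, ?_⟩
    change (((cxFun Y).map T.f).f n).hom _ = c
    apply X_ext
    intro i
    rw [hf, proj_mkX, hy]
  · rw [AddCommGrpCat.mono_iff_injective]
    intro c c' hcc
    change (((cxFun Y).map T.f).f n).hom c = (((cxFun Y).map T.f).f n).hom c' at hcc
    apply X_ext
    intro i
    apply hinj i
    rw [← hf, ← hf, hcc]
  · rw [AddCommGrpCat.epi_iff_surjective]
    intro c
    have h1 : ∀ i, ∃ y, (T.g.app _).hom y = (proj Y T.X₃ n i).hom c :=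
      fun i => hsurj i _
    choose y hy using h1
    refine ⟨mkX Y T.X₂ y, ?_⟩
    change (((cxFun Y).map T.g).f n).hom _ = c
    apply X_ext
    intro i
    rw [hg, proj_mkX, hy]

include hinj hex hsurj in
/-- `Ȟ^i(X₂) = 0` and `Ȟ^{i+1}(X₁) = 0` imply `Ȟ^i(X₃) = 0`. -/
theorem isZero_X₃ (i : ℕ) (h₂ : IsZero (EtCech.cechH Y T.X₂ i))
    (h₁ : IsZero (EtCech.cechH Y T.X₁ (i + 1))) : IsZero (EtCech.cechH Y T.X₃ i) :=
  ((shortExact_cx Y T hinj hex hsurj).homology_exact₃ i (i + 1) rfl).isZero_of_both_isZero h₂ h₁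

end Groth.Agent.Lib.Helper21.CechEtSES
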