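import Mathlib
import Groth.Agent.Lib.Helper21CechFree
import Groth.Agent.Lib.Helper16CechLow

/-!
# Sections lift along an epimorphism when `Ȟ^1` of the kernel vanishes (general universes) (helper21)

General-universe version (for `EtCech.cechComplex`) of helper16's argument for S0859, in terms of the
"evaluation at tuples of points" API of `Helper21CechFree` (with `u = 𝟭`).
-/

set_option autoImplicit false
set_option linter.unusedSectionVars false
universe w v₁ u₁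
open CategoryTheory CategoryTheory.Limits Opposite

namespace Groth.Agent.Lib.Helper21.CechEtSurj
open Groth.Agent.Lib.Helper21.CechFree

variable {C : Type u₁} [Category.{v₁} C] {W : C} [HasFiniteProducts (Over W)] {ι : Type w}
  (Y : ι → Over W)

instance preservesFiniteProducts_post_id :
    PreservesFiniteProducts (Over.post (X := W) (𝟭 C)) := by
  have e : Over.post (X := W) (𝟭 C) ≅ 𝟭 (Over W) :=
    NatIso.ofComponents (fun Z => Over.isoMk (Iso.refl _) (by
      change 𝟙 _ ≫ Z.hom = Z.hom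
      exact Category.id_comp _)) (by
      intro Z Z' φ
      ext
      change φ.left ≫ 𝟙 _ = 𝟙 _ ≫ φ.left
      rw [Category.comp_id, Category.id_comp])
  exact ⟨fun n => preservesLimitsOfShape_of_natIso e.symm⟩

/-- points of the family -/
abbrev Pt (V : C) := PtD (𝟭 C) Y V

/-- 1-tuple at a point -/
def one {V : C} (p : Pt Y V) : T (𝟭 C) Y 0 V := ⟨fun _ => p, fun _ => rfl⟩

/-- 2-tuple -/
def two {V : C} (p q : Pt Y V) (h : q.str = p.str) : T (𝟭 C) Y 1 V :=
  ⟨![p, q], fun a => by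
    refine Fin.cases ?_ (fun b => ?_) a
    · rfl
    · obtain rfl : b = 0 := Subsingleton.elim _ _
      exact h⟩

variable (P₁ P₂ P₃ : Cᵒᵖ ⥤ AddCommGrpCat.{w}) (f : P₁ ⟶ P₂) (g : P₂ ⟶ P₃)

lemma nat_apply {A B : Cᵒᵖ ⥤ AddCommGrpCat.{w}} (φ : A ⟶ B) {V V' : C} (h : V' ⟶ V)
    (y : A.obj (op V)) :
    (φ.app (op V')).hom ((A.map h.op).hom y) = (B.map h.op).hom ((φ.app (op V)).hom y) :=
  ConcreteCategory.congr_hom (φ.naturality h.op) y

lemma map_map_apply (A : Cᵒᵖ ⥤ AddCommGrpCat.{w}) {V V' V'' : C} (h : V' ⟶ V) (h' : V'' ⟶ V')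
    (y : A.obj (op V)) :
    (A.map h'.op).hom ((A.map h.op).hom y) = (A.map (h' ≫ h).op).hom y := by
  rw [op_comp, A.map_comp]
  rfl

lemma one_pre {V V' : C} (h : V' ⟶ V) (p : Pt Y V) :
    T.pre h (one Y p) = one Y (p.pre h) := rfl

lemma delta_zero_two {V : C} (p q : Pt Y V) (h : q.str = p.str) :
    T.δ 0 (two Y p q h) = one Y q := by
  apply Subtype.ext
  funext a
  obtain rfl : a = 0 := Subsingleton.elim (α := Fin 1) _ _
  rfl

lemma delta_one_two {V : C} (p q : Pt Y V) (h : q.str = p.str) :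
    T.δ 1 (two Y p q h) = one Y p := by
  apply Subtype.ext
  funext a
  obtain rfl : a = 0 := Subsingleton.elim (α := Fin 1) _ _
  rfl

/-- **Lifting sections.**  Let `P₁ → P₂ → P₃` be presheaves with `P₁ = ker (P₂ → P₃)` objectwise, `P₂`
satisfying gluing and `P₃` separatedness for the family `Y` over `W`.  If `Ȟ^1(Y, P₁) = 0`, then a section
`s` of `P₃` over `W` which lifts to `P₂` on every member of the family lifts to `P₂` over `W`. -/
theorem exists_lift (hfg : f ≫ g = 0)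
    (hinj : ∀ V : C, Function.Injective (f.app (op V)).hom)
    (hker : ∀ (V : C) (a : P₂.obj (op V)), (g.app (op V)).hom a = 0 →
      ∃ b, (f.app (op V)).hom b = a)
    (hglue : ∀ x : ∀ k, P₂.obj (op (Y k).left),
      (∀ i j (Z : C) (gi : Z ⟶ (Y i).left) (gj : Z ⟶ (Y j).left),
        gi ≫ (Y i).hom = gj ≫ (Y j).hom → (P₂.map gi.op).hom (x i) = (P₂.map gj.op).hom (x j)) →
      ∃ t : P₂.obj (op W), ∀ k, (P₂.map (Y k).hom.op).hom t = x k)
    (hsep : ∀ t t' : P₃.obj (op W),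
      (∀ k, (P₃.map (Y k).hom.op).hom t = (P₃.map (Y k).hom.op).hom t') → t = t')
    (hz : IsZero (EtCech.cechH Y P₁ 1))
    (s : P₃.obj (op W)) (t : ∀ k, P₂.obj (op (Y k).left))
    (ht : ∀ k, (g.app (op (Y k).left)).hom (t k) = (P₃.map (Y k).hom.op).hom s) :
    ∃ tt : P₂.obj (op W), (g.app (op W)).hom tt = s := by
  -- sections attached to points
  obtain ⟨τ, hτdef⟩ : ∃ τ : ∀ (V : C), Pt Y V → P₂.obj (op V),
      ∀ (V : C) (p : Pt Y V), τ V p = (P₂.map p.map.op).hom (t p.idx) := ⟨_, fun _ _ => rfl⟩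
  have hτ : ∀ (V : C) (p : Pt Y V), (g.app (op V)).hom (τ V p) = (P₃.map p.str.op).hom s := by
    intro V p
    rw [hτdef]
    refine (nat_apply g p.map (t p.idx)).trans ?_
    have h1 : (g.app (op ((𝟭 C).obj (Y p.idx).left))).hom (t p.idx) =
        (P₃.map (Y p.idx).hom.op).hom s := ht p.idx
    rw [h1]
    exact map_map_apply P₃ (Y p.idx).hom p.map s
  -- the 1-cochain
  have hdiff : ∀ x : Fin 2 → ι, ∃ a : P₁.obj (op (fp Y x).left),
      (f.app (op (fp Y x).left)).hom a =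
        τ _ ((canT (𝟭 C) Y x).1 1) - τ _ ((canT (𝟭 C) Y x).1 0) := by
    intro x
    apply hker
    have h1 := hτ _ ((canT (𝟭 C) Y x).1 1)
    have h0 := hτ _ ((canT (𝟭 C) Y x).1 0)
    rw [(canT (𝟭 C) Y x).2 1] at h1
    rw [map_sub]
    exact sub_eq_zero.2 (h1.trans h0.symm)
  choose a ha using hdiff
  obtain ⟨c, hcdef⟩ : ∃ c : (EtCech.cechComplex Y ((𝟭 C).op ⋙ P₁)).X 1,
      c = mkX Y ((𝟭 C).op ⋙ P₁) a := ⟨_, rfl⟩
  have hev : ∀ (V : C) (e : T (𝟭 C) Y 1 V),
      (f.app (op V)).hom ((evT (𝟭 C) Y P₁ e).hom c) = τ V (e.1 1) - τ V (e.1 0) := by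
    intro V e
    rw [evT, evD, ConcreteCategory.comp_apply, hcdef, proj_mkX]
    erw [nat_apply f (tupD (𝟭 C) Y e.g e.1 e.2).left, ha, map_sub, hτdef, hτdef, hτdef, hτdef]
    erw [map_map_apply P₂, map_map_apply P₂]
    have h1 := congrArg (fun φ => φ.left) (tupD_π (𝟭 C) Y e.g e.1 e.2 1)
    have h0 := congrArg (fun φ => φ.left) (tupD_π (𝟭 C) Y e.g e.1 e.2 0)
    simp only [Over.comp_left] at h1 h0
    erw [h1, h0]
    rfl
  -- cocycle condition
  have hc : ((EtCech.cechComplex Y ((𝟭 C).op ⋙ P₁)).d 1 2).hom c = 0 := by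
    apply X_ext
    intro i
    rw [proj_eq_evT (𝟭 C) Y P₁ i, ← ConcreteCategory.comp_apply, d_evT, map_zero]
    apply hinj
    rw [map_zero, Groth.Agent.Lib.Helper16.CechLow.sum_apply, map_sum, Fin.sum_univ_three]
    simp only [Fin.val_zero, pow_zero, one_smul, Fin.val_one, pow_one, neg_smul, Fin.val_two,
      even_two, Even.neg_pow, one_pow]
    erw [map_neg]
    rw [hev, hev, hev]
    have e00 : Fin.succAbove (0 : Fin 3) (0 : Fin 2) = 1 := by decide
    have e01 : Fin.succAbove (0 : Fin 3) (1 : Fin 2) = 2 := by decide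
    have e10 : Fin.succAbove (1 : Fin 3) (0 : Fin 2) = 0 := by decide
    have e11 : Fin.succAbove (1 : Fin 3) (1 : Fin 2) = 2 := by decide
    have e20 : Fin.succAbove (2 : Fin 3) (0 : Fin 2) = 0 := by decide
    have e21 : Fin.succAbove (2 : Fin 3) (1 : Fin 2) = 1 := by decide
    simp only [T.δ, Function.comp_apply, e00, e01, e10, e11, e20, e21]
    abel
  -- the cocycle is a coboundary
  obtain ⟨b, hb⟩ := Groth.Agent.Lib.Helper16.CechLow.exists_of_isZero_homology Y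
    ((Over.forget W).op ⋙ (𝟭 C).op ⋙ P₁) 0 hz c hc
  have hb' : ((EtCech.cechComplex Y ((𝟭 C).op ⋙ P₁)).d 0 1).hom b = c := hb
  -- components of `b`
  obtain ⟨β, hβdef⟩ : ∃ β : ∀ k, P₁.obj (op (Y k).left),
      ∀ k, β k = (evT (𝟭 C) Y P₁ (one Y (⟨k, 𝟙 _⟩ : Pt Y (Y k).left))).hom b := ⟨_, fun _ => rfl⟩
  have hβ : ∀ (k : ι) (Z : C) (gk : Z ⟶ (Y k).left),
      (evT (𝟭 C) Y P₁ (one Y (⟨k, gk⟩ : Pt Y Z))).hom b = (P₁.map gk.op).hom (β k) := by
    intro k Z gk
    rw [hβdef, ← ConcreteCategory.comp_apply, evT_pre, one_pre]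
    have : (⟨k, 𝟙 _⟩ : Pt Y (Y k).left).pre gk = ⟨k, gk⟩ := by
      change (⟨k, gk ≫ 𝟙 _⟩ : Pt Y Z) = ⟨k, gk⟩
      rw [Category.comp_id]
    rw [this]
  -- corrected sections
  have hgf : ∀ k, (g.app (op (Y k).left)).hom ((f.app (op (Y k).left)).hom (β k)) = 0 := by
    intro k
    exact congrArg (fun m : P₁ ⟶ P₃ => (m.app (op (Y k).left)).hom (β k)) hfg
  obtain ⟨TT, hTdef⟩ : ∃ TT : ∀ k, P₂.obj (op (Y k).left),
      ∀ k, TT k = t k - (f.app (op (Y k).left)).hom (β k) := ⟨_, fun _ => rfl⟩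
  have hcompat : ∀ i j (Z : C) (gi : Z ⟶ (Y i).left) (gj : Z ⟶ (Y j).left),
      gi ≫ (Y i).hom = gj ≫ (Y j).hom →
        (P₂.map gi.op).hom (TT i) = (P₂.map gj.op).hom (TT j) := by
    intro i j Z gi gj hij
    have hstr : (⟨j, gj⟩ : Pt Y Z).str = (⟨i, gi⟩ : Pt Y Z).str := hij.symm
    have h1 := ConcreteCategory.congr_hom
      (d_evT (𝟭 C) Y P₁ (two Y (⟨i, gi⟩ : Pt Y Z) ⟨j, gj⟩ hstr)) b
    rw [ConcreteCategory.comp_apply, hb', Groth.Agent.Lib.Helper16.CechLow.sum_apply,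
      Fin.sum_univ_two] at h1
    simp only [Fin.val_zero, pow_zero, one_smul, Fin.val_one, pow_one, neg_smul] at h1
    rw [delta_zero_two, delta_one_two] at h1
    have h2 := congrArg (f.app (op Z)).hom h1
    rw [hev, map_add] at h2
    erw [map_neg] at h2
    rw [hβ, hβ] at h2
    erw [nat_apply f gj, nat_apply f gi] at h2
    rw [hτdef, hτdef] at h2
    rw [hTdef, hTdef, map_sub, map_sub]
    change (P₂.map gj.op).hom (t j) - (P₂.map gi.op).hom (t i) =
      (P₂.map gj.op).hom ((f.app (op (Y j).left)).hom (β j)) +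
        -(P₂.map gi.op).hom ((f.app (op (Y i).left)).hom (β i)) at h2
    rw [sub_eq_sub_iff_add_eq_add]
    have h3 := sub_eq_iff_eq_add.1 h2
    rw [h3]
    abel
  obtain ⟨tt, htt⟩ := hglue TT hcompat
  refine ⟨tt, ?_⟩
  apply hsep
  intro k
  rw [← nat_apply g (Y k).hom tt, htt k, hTdef, map_sub, hgf, sub_zero, ht]

end Groth.Agent.Lib.Helper21.CechEtSurj
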