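import Mathlib
import Groth.Agent.Lib.Helper21CechEtSurj
import Groth.Agent.Lib.Helper21CechEtSES

/-!
# Čech-flasque sheaves on a site (general universes): sections are exact, quotients are Čech-flasque (helper21)
-/

set_option autoImplicit false
set_option linter.unusedSectionVars false
universe w v₁ u₁
open CategoryTheory CategoryTheory.Limits Opposite

namespace Groth.Agent.Lib.Helper21.CechEtSurj
open Groth.Agent.Lib.Helper21.CechFree

section Site
variable {C : Type u₁} [Category.{v₁} C] {J : GrothendieckTopology C}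
  [HasSheafify J AddCommGrpCat.{w}]
  [PreservesLimitsOfSize.{v₁, max v₁ u₁} (forget AddCommGrpCat.{w})]

lemma injective_of_mono_site {F G : Sheaf J AddCommGrpCat.{w}} (f : F ⟶ G) [Mono f] (V : C) :
    Function.Injective (f.hom.app (op V)).hom := by
  haveI : Mono f.hom := (sheafToPresheaf _ _).map_mono f
  haveI : Mono (f.hom.app (op V)) := inferInstance
  exact (AddCommGrpCat.mono_iff_injective _).1 inferInstance

lemma exists_of_isKernel_site (S : ShortComplex (Sheaf J AddCommGrpCat.{w})) (hS : S.ShortExact)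
    (V : C) (a : S.X₂.obj.obj (op V)) (ha : (S.g.hom.app (op V)).hom a = 0) :
    ∃ b : S.X₁.obj.obj (op V), (S.f.hom.app (op V)).hom b = a := by
  have h := hS.exact.map_of_mono_of_preservesKernel
    (sheafToPresheaf J AddCommGrpCat.{w} ⋙ (evaluation _ _).obj (op V)) hS.mono_f inferInstance
  exact (ShortComplex.ab_exact_iff _).1 h a ha

variable {W : C} [HasFiniteProducts (Over W)] {ι : Type w} (Y : ι → Over W)
  (hY : Sieve.ofArrows (fun i => (Y i).left) (fun i => (Y i).hom) ∈ J W)

include hY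

lemma isSheafFor_of_sheaf (P : Sheaf J AddCommGrpCat.{w}) :
    Presieve.IsSheafFor (P.obj ⋙ forget _)
      (Presieve.ofArrows (fun k => (Y k).left) (fun k => (Y k).hom)) := by
  have hP := Presheaf.isSheaf_comp_of_isSheaf J P.obj (forget AddCommGrpCat.{w}) P.property
  rw [isSheaf_iff_isSheaf_of_type] at hP
  rw [Presieve.isSheafFor_iff_generate]
  exact hP _ hY

lemma glue_site (P : Sheaf J AddCommGrpCat.{w}) (x : ∀ k, P.obj.obj (op (Y k).left))
    (hx : ∀ i j (Z : C) (gi : Z ⟶ (Y i).left) (gj : Z ⟶ (Y j).left),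
      gi ≫ (Y i).hom = gj ≫ (Y j).hom →
        (P.obj.map gi.op).hom (x i) = (P.obj.map gj.op).hom (x j)) :
    ∃ t : P.obj.obj (op W), ∀ k, (P.obj.map (Y k).hom.op).hom t = x k := by
  obtain ⟨t, ht, _⟩ := ((Presieve.isSheafFor_arrows_iff _ _).1 (isSheafFor_of_sheaf Y hY P)) x hx
  exact ⟨t, ht⟩

lemma sep_site (P : Sheaf J AddCommGrpCat.{w}) (t t' : P.obj.obj (op W))
    (h : ∀ k, (P.obj.map (Y k).hom.op).hom t = (P.obj.map (Y k).hom.op).hom t') : t = t' := by
  have hx : Presieve.Arrows.Compatible (P.obj ⋙ forget _) (fun k => (Y k).hom)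
      (fun k => (P.obj.map (Y k).hom.op).hom t') := by
    intro i j Z gi gj hij
    change (P.obj.map gi.op).hom ((P.obj.map (Y i).hom.op).hom t') =
      (P.obj.map gj.op).hom ((P.obj.map (Y j).hom.op).hom t')
    rw [map_map_apply, map_map_apply, hij]
  obtain ⟨t₀, _, ht₀⟩ := ((Presieve.isSheafFor_arrows_iff _ _).1 (isSheafFor_of_sheaf Y hY P)) _ hx
  exact (ht₀ t h).trans (ht₀ t' (fun _ => rfl)).symm

end Site

/-- **Sections lift along an epimorphism of sheaves when `Ȟ^1` of the kernel vanishes on enough covering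
families.** -/
theorem surjective_of_cech_h1 {C : Type u₁} [Category.{v₁} C] {J : GrothendieckTopology C}
    [HasSheafify J AddCommGrpCat.{w}] [J.WEqualsLocallyBijective AddCommGrpCat.{w}]
    [PreservesLimitsOfSize.{v₁, max v₁ u₁} (forget AddCommGrpCat.{w})]
    (S : ShortComplex (Sheaf J AddCommGrpCat.{w})) (hS : S.ShortExact)
    (W : C) [HasFiniteProducts (Over W)]
    (h : ∀ T ∈ J W, ∃ (ι : Type w) (Y : ι → Over W), (∀ i, T.arrows (Y i).hom) ∧
      Sieve.ofArrows (fun i => (Y i).left) (fun i => (Y i).hom) ∈ J W ∧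
      IsZero (EtCech.cechH Y S.X₁.obj 1)) :
    Function.Surjective (S.g.hom.app (op W)).hom := by
  intro s
  haveI : Epi S.g := hS.epi_g
  haveI : Mono S.f := hS.mono_f
  have hloc : Sheaf.IsLocallySurjective S.g :=
    (Sheaf.isLocallySurjective_iff_epi' AddCommGrpCat.{w} S.g).2 inferInstance
  have hT : Presheaf.imageSieve S.g.hom s ∈ J W := hloc.imageSieve_mem s
  obtain ⟨ι, Y, hYT, hY, hz⟩ := h _ hT
  choose t ht using hYT
  have hfg : S.f.hom ≫ S.g.hom = 0 := by
    have := S.zero
    exact congrArg (fun m : S.X₁ ⟶ S.X₃ => m.hom) this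
  exact exists_lift Y S.X₁.obj S.X₂.obj S.X₃.obj S.f.hom S.g.hom hfg
    (fun V => injective_of_mono_site S.f V)
    (fun V a ha => exists_of_isKernel_site S hS V a ha)
    (glue_site Y hY S.X₂) (sep_site Y hY S.X₃) hz s t ht

end Groth.Agent.Lib.Helper21.CechEtSurj
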