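import Mathlib
import Groth.Prelude.Def_EtCech
import Groth.Agent.Lib.Helper21CechFree

set_option autoImplicit false
universe w v₁ u₁ v₂ u₂
open CategoryTheory CategoryTheory.Limits Opposite

/-! Čech-acyclicity of `u.op ⋙ I` for an injective presheaf `I` (general universes): the complex of
free presheaves and the main theorem. -/

namespace Groth.Agent.Lib.Helper21.CechFree

theorem hom_sum_apply {M N : AddCommGrpCat.{w}} {κ : Type*} (s : Finset κ) (f : κ → (M ⟶ N))
    (x : M) : (∑ j ∈ s, f j).hom x = ∑ j ∈ s, (f j).hom x := by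
  have : (∑ j ∈ s, f j).hom = ∑ j ∈ s, (f j).hom := map_sum AddCommGrpCat.homAddEquiv f s
  rw [this, AddMonoidHom.finset_sum_apply]

section main
variable {C : Type u₁} [Category.{v₁} C] {D : Type u₂} [Category.{v₂} D] [LocallySmall.{w} D]
variable (u : C ⥤ D) {U : C} [HasFiniteProducts (Over U)] {ι : Type w} (Y : ι → Over U)
variable [PreservesFiniteProducts (Over.post (X := U) u)]

instance small_PtD (V : D) : Small.{w} (PtD u Y V) := by
  let e : PtD u Y V ≃ Σ k : ι, (V ⟶ u.obj (Y k).left) :=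
    { toFun := fun x => ⟨x.idx, x.map⟩
      invFun := fun x => ⟨x.1, x.2⟩
      left_inv := fun _ => rfl
      right_inv := fun _ => rfl }
  exact small_map e

instance small_T (n : ℕ) (V : D) : Small.{w} (T u Y n V) := by
  unfold T
  infer_instance

/-- basis type -/
abbrev S (n : ℕ) (V : D) : Type w := Shrink.{w} (T u Y n V)

/-- the free presheaf on tuples -/
noncomputable def F (n : ℕ) : Dᵒᵖ ⥤ AddCommGrpCat.{w} where
  obj V := AddCommGrpCat.of (FreeAbelianGroup (S u Y n V.unop))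
  map t := freeMap (shrinkMap (T.pre t.unop))
  map_id V := by
    have : (T.pre (𝟙 V.unop) : T u Y n V.unop → T u Y n V.unop) = id := funext T.pre_id
    change freeMap (shrinkMap (T.pre (𝟙 V.unop))) = _
    rw [this, shrinkMap_id, freeMap_id]
  map_comp t t' := by
    change freeMap (shrinkMap (T.pre (t'.unop ≫ t.unop))) = freeMap _ ≫ freeMap _
    rw [freeMap_comp, shrinkMap_comp]
    congr 2
    funext e
    exact T.pre_comp _ _ _

/-- basis elements -/
noncomputable def bas {n : ℕ} {V : D} (e : T u Y n V) : (F u Y n).obj (op V) :=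
  FreeAbelianGroup.of (equivShrink _ e)

theorem F_map_bas {n : ℕ} {V V' : D} (t : V' ⟶ V) (e : T u Y n V) :
    ((F u Y n).map t.op).hom (bas u Y e) = bas u Y (T.pre t e) := by
  change (freeMap _).hom (FreeAbelianGroup.of _) = _
  rw [freeMap_of, shrinkMap_mk]
  rfl

theorem F_hom_ext {n : ℕ} {V : D} {A : AddCommGrpCat.{w}} (f g : (F u Y n).obj (op V) ⟶ A)
    (h : ∀ e : T u Y n V, f.hom (bas u Y e) = g.hom (bas u Y e)) : f = g := by
  apply free_hom_ext
  intro s
  obtain ⟨e, rfl⟩ := (equivShrink _).surjective s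
  exact h e

/-- face maps -/
noncomputable def δF (n : ℕ) (j : Fin (n + 2)) (V : D) :
    (F u Y (n + 1)).obj (op V) ⟶ (F u Y n).obj (op V) :=
  freeMap (shrinkMap (T.δ j))

theorem δF_bas {n : ℕ} (j : Fin (n + 2)) {V : D} (e : T u Y (n + 1) V) :
    (δF u Y n j V).hom (bas u Y e) = bas u Y (T.δ j e) := by
  change (freeMap _).hom (FreeAbelianGroup.of _) = _
  rw [freeMap_of, shrinkMap_mk]
  rfl

theorem δF_naturality (n : ℕ) (j : Fin (n + 2)) {V V' : D} (t : V' ⟶ V) :
    (F u Y (n + 1)).map t.op ≫ δF u Y n j V' = δF u Y n j V ≫ (F u Y n).map t.op := by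
  change freeMap _ ≫ freeMap _ = freeMap _ ≫ freeMap _
  rw [freeMap_comp, freeMap_comp, shrinkMap_comp, shrinkMap_comp]
  rfl

/-- boundary -/
noncomputable def bd (n : ℕ) : F u Y (n + 1) ⟶ F u Y n where
  app V := ∑ j : Fin (n + 2), (-1 : ℤ) ^ (j : ℕ) • δF u Y n j V.unop
  naturality V V' t := by
    rw [Preadditive.comp_sum, Preadditive.sum_comp]
    refine Finset.sum_congr rfl (fun j _ => ?_)
    rw [Preadditive.comp_zsmul, Preadditive.zsmul_comp]
    congr 1
    exact δF_naturality u Y n j t.unop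

theorem bd_bas {n : ℕ} {V : D} (e : T u Y (n + 1) V) :
    ((bd u Y n).app (op V)).hom (bas u Y e) =
      ∑ j : Fin (n + 2), (-1 : ℤ) ^ (j : ℕ) • bas u Y (T.δ j e) := by
  change (∑ j : Fin (n + 2), (-1 : ℤ) ^ (j : ℕ) • δF u Y n j V).hom (bas u Y e) = _
  rw [hom_sum_apply]
  refine Finset.sum_congr rfl (fun j _ => ?_)
  rw [AddCommGrpCat.hom_zsmul, AddMonoidHom.smul_apply, δF_bas]

/-- homotopy -/
noncomputable def hF (n : ℕ) (V : D) : (F u Y n).obj (op V) ⟶ (F u Y (n + 1)).obj (op V) :=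
  freeMap (shrinkMap T.cons)

theorem hF_δF_zero (n : ℕ) (V : D) : hF u Y n V ≫ δF u Y n 0 V = 𝟙 _ := by
  change freeMap _ ≫ freeMap _ = _
  rw [freeMap_comp, shrinkMap_comp]
  have : (T.δ 0 ∘ T.cons : T u Y n V → T u Y n V) = id := funext T.δ_zero_cons
  rw [this, shrinkMap_id, freeMap_id]
  rfl

theorem hF_δF_succ (n : ℕ) (j : Fin (n + 2)) (V : D) :
    hF u Y (n + 1) V ≫ δF u Y (n + 1) j.succ V = δF u Y n j V ≫ hF u Y n V := by
  change freeMap _ ≫ freeMap _ = freeMap _ ≫ freeMap _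
  rw [freeMap_comp, freeMap_comp, shrinkMap_comp, shrinkMap_comp]
  congr 2
  funext e
  exact T.δ_succ_cons j e

theorem homotopy (n : ℕ) (V : D) :
    hF u Y (n + 1) V ≫ (bd u Y (n + 1)).app (op V) + (bd u Y n).app (op V) ≫ hF u Y n V = 𝟙 _ := by
  change hF u Y (n + 1) V ≫ (∑ j : Fin (n + 3), (-1 : ℤ) ^ (j : ℕ) • δF u Y (n + 1) j V) +
    (∑ j : Fin (n + 2), (-1 : ℤ) ^ (j : ℕ) • δF u Y n j V) ≫ hF u Y n V = _
  rw [Preadditive.comp_sum, Preadditive.sum_comp, Fin.sum_univ_succ]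
  have h1 : ∀ j : Fin (n + 2),
      hF u Y (n + 1) V ≫ ((-1 : ℤ) ^ ((j.succ : Fin (n + 3)) : ℕ) • δF u Y (n + 1) j.succ V) =
      - (((-1 : ℤ) ^ (j : ℕ) • δF u Y n j V) ≫ hF u Y n V) := by
    intro j
    rw [Preadditive.comp_zsmul, hF_δF_succ, Fin.val_succ, pow_succ, mul_neg_one, neg_smul,
      Preadditive.zsmul_comp]
  rw [Finset.sum_congr rfl (fun j _ => h1 j), Finset.sum_neg_distrib, Fin.val_zero, pow_zero,
    one_smul, hF_δF_zero]
  abel

variable (I : Dᵒᵖ ⥤ AddCommGrpCat.{w})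

/-- components of `φ` -/
noncomputable def φapp {n : ℕ} (c : (EtCech.cechComplex Y (u.op ⋙ I)).X n) (V : D) :
    (F u Y n).obj (op V) ⟶ I.obj (op V) :=
  freeDesc (fun s => (evT u Y I ((equivShrink (T u Y n V)).symm s)).hom c)

theorem φapp_bas {n : ℕ} (c : (EtCech.cechComplex Y (u.op ⋙ I)).X n) {V : D} (e : T u Y n V) :
    (φapp u Y I c V).hom (bas u Y e) = (evT u Y I e).hom c := by
  change (freeDesc _).hom (FreeAbelianGroup.of _) = _
  rw [freeDesc_of, Equiv.symm_apply_apply]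

theorem φapp_nat {n : ℕ} (c : (EtCech.cechComplex Y (u.op ⋙ I)).X n) {V V' : D} (t : V' ⟶ V) :
    (F u Y n).map t.op ≫ φapp u Y I c V' = φapp u Y I c V ≫ I.map t.op := by
  apply F_hom_ext u Y
  intro e
  rw [ConcreteCategory.comp_apply, ConcreteCategory.comp_apply]
  erw [F_map_bas, φapp_bas, φapp_bas]
  exact (ConcreteCategory.congr_hom (evT_pre u Y I t e) c).symm

/-- the morphism `F n ⟶ I` attached to a cochain -/
noncomputable def φ {n : ℕ} (c : (EtCech.cechComplex Y (u.op ⋙ I)).X n) : F u Y n ⟶ I where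
  app V := φapp u Y I c V.unop
  naturality V V' t := φapp_nat u Y I c t.unop

theorem φ_bas {n : ℕ} (c : (EtCech.cechComplex Y (u.op ⋙ I)).X n) {V : D} (e : T u Y n V) :
    ((φ u Y I c).app (op V)).hom (bas u Y e) = (evT u Y I e).hom c :=
  φapp_bas u Y I c e

theorem φ_zero (n : ℕ) : φ u Y I (0 : (EtCech.cechComplex Y (u.op ⋙ I)).X n) = 0 := by
  ext V : 2
  obtain ⟨V⟩ := V
  apply F_hom_ext u Y
  intro e
  rw [φ_bas, map_zero]
  rfl

theorem bd_φ {n : ℕ} (c : (EtCech.cechComplex Y (u.op ⋙ I)).X n) :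
    bd u Y n ≫ φ u Y I c = φ u Y I (((EtCech.cechComplex Y (u.op ⋙ I)).d n (n + 1)).hom c) := by
  ext V : 2
  obtain ⟨V⟩ := V
  apply F_hom_ext u Y
  intro e
  rw [NatTrans.comp_app, ConcreteCategory.comp_apply]
  erw [bd_bas, φ_bas]
  rw [map_sum]
  have h1 := ConcreteCategory.congr_hom (d_evT u Y I e) c
  rw [ConcreteCategory.comp_apply] at h1
  refine Eq.trans ?_ h1.symm
  rw [hom_sum_apply]
  refine Finset.sum_congr rfl (fun j _ => ?_)
  rw [map_zsmul, AddCommGrpCat.hom_zsmul, AddMonoidHom.smul_apply]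
  congr 1
  exact φ_bas u Y I c (T.δ j e)

theorem exists_bd_comp_eq [Injective I] {n : ℕ} (c : (EtCech.cechComplex Y (u.op ⋙ I)).X (n + 1))
    (hc : ((EtCech.cechComplex Y (u.op ⋙ I)).d (n + 1) (n + 2)).hom c = 0) :
    ∃ ψ : F u Y n ⟶ I, bd u Y n ≫ ψ = φ u Y I c := by
  have h0 : bd u Y (n + 1) ≫ φ u Y I c = 0 := by rw [bd_φ, hc, φ_zero]
  have hk : kernel.ι (bd u Y n) ≫ φ u Y I c = 0 := by
    ext V x
    have hy : ((bd u Y n).app V).hom (((kernel.ι (bd u Y n)).app V).hom x) = 0 :=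
      congrArg (fun f : kernel (bd u Y n) ⟶ F u Y n => (NatTrans.app f V).hom x)
        (kernel.condition (bd u Y n))
    have hy2 := ConcreteCategory.congr_hom (homotopy u Y n V.unop)
      (((kernel.ι (bd u Y n)).app V).hom x)
    rw [AddCommGrpCat.hom_add_apply, ConcreteCategory.comp_apply, ConcreteCategory.comp_apply] at hy2
    erw [hy] at hy2
    rw [map_zero, add_zero] at hy2
    have h3 := congrArg (fun f : F u Y (n + 1 + 1) ⟶ I => (NatTrans.app f V).hom
      ((hF u Y (n + 1) V.unop).hom (((kernel.ι (bd u Y n)).app V).hom x))) h0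
    change ((φ u Y I c).app V).hom (((bd u Y (n + 1)).app V).hom _) = 0 at h3
    erw [hy2] at h3
    exact h3
  refine ⟨Injective.factorThru (cokernel.desc _ (φ u Y I c) hk)
    (Abelian.factorThruCoimage (bd u Y n)), ?_⟩
  have h1 : Abelian.coimage.π (bd u Y n) ≫ Abelian.factorThruCoimage (bd u Y n) = bd u Y n :=
    Abelian.coimage.fac _
  calc bd u Y n ≫ Injective.factorThru (cokernel.desc _ (φ u Y I c) hk)
        (Abelian.factorThruCoimage (bd u Y n))
      = Abelian.coimage.π (bd u Y n) ≫ (Abelian.factorThruCoimage (bd u Y n) ≫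
          Injective.factorThru (cokernel.desc _ (φ u Y I c) hk)
            (Abelian.factorThruCoimage (bd u Y n))) := by
        rw [← Category.assoc, h1]
    _ = Abelian.coimage.π (bd u Y n) ≫ cokernel.desc _ (φ u Y I c) hk := by
        rw [Injective.comp_factorThru]
    _ = φ u Y I c := cokernel.π_desc _ _ _

/-- the cochain attached to a morphism `F n ⟶ I` -/
noncomputable def hat {n : ℕ} (ψ : F u Y n ⟶ I) : (EtCech.cechComplex Y (u.op ⋙ I)).X n :=
  mkX Y (u.op ⋙ I) (fun i => (ψ.app (op (u.obj (fp Y i).left))).hom (bas u Y (canT u Y i)))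

theorem pre_tupD_canT {n : ℕ} {V : D} (e : T u Y n V) :
    T.pre (tupD u Y e.g e.1 e.2).left (canT u Y (fun a => (e.1 a).idx)) = e := by
  apply Subtype.ext
  funext a
  change PtD.mk (e.1 a).idx ((tupD u Y e.g e.1 e.2).left ≫
    u.map (Pi.π (Y ∘ fun a => (e.1 a).idx) a).left) = e.1 a
  have := congrArg (fun t => t.left) (tupD_π u Y e.g e.1 e.2 a)
  change (tupD u Y e.g e.1 e.2).left ≫ u.map (Pi.π (Y ∘ fun a => (e.1 a).idx) a).left =
    (e.1 a).map at this
  rw [this]
  rfl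

theorem evT_hat {n : ℕ} (ψ : F u Y n ⟶ I) {V : D} (e : T u Y n V) :
    (evT u Y I e).hom (hat u Y I ψ) = (ψ.app (op V)).hom (bas u Y e) := by
  rw [evT, evD, ConcreteCategory.comp_apply]
  erw [proj_mkX]
  have h1 := ConcreteCategory.congr_hom (ψ.naturality (tupD u Y e.g e.1 e.2).left.op)
    (bas u Y (canT u Y (fun a => (e.1 a).idx)))
  rw [ConcreteCategory.comp_apply, ConcreteCategory.comp_apply] at h1
  refine h1.symm.trans ?_
  erw [F_map_bas, pre_tupD_canT]
  rfl

theorem isZero_homology [Injective I] (p : ℕ) :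
    IsZero ((EtCech.cechComplex Y (u.op ⋙ I)).homology (p + 1)) := by
  have hex : (EtCech.cechComplex Y (u.op ⋙ I)).ExactAt (p + 1) := by
    rw [HomologicalComplex.exactAt_iff' _ p (p + 1) (p + 2) (by simp) (by simp),
      ShortComplex.ab_exact_iff]
    intro c hc
    change ((EtCech.cechComplex Y (u.op ⋙ I)).d (p + 1) (p + 2)).hom c = 0 at hc
    obtain ⟨ψ, hψ⟩ := exists_bd_comp_eq u Y I c hc
    refine ⟨hat u Y I ψ, ?_⟩
    change ((EtCech.cechComplex Y (u.op ⋙ I)).d p (p + 1)).hom (hat u Y I ψ) = c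
    apply X_ext
    intro i
    rw [proj_eq_evT]
    have h1 := ConcreteCategory.congr_hom (d_evT u Y I (canT u Y i)) (hat u Y I ψ)
    rw [ConcreteCategory.comp_apply] at h1
    refine h1.trans ?_
    rw [hom_sum_apply]
    have h2 : ∀ j : Fin (p + 2),
        ((-1 : ℤ) ^ (j : ℕ) • evT u Y I (T.δ j (canT u Y i))).hom (hat u Y I ψ) =
        (ψ.app (op (u.obj (fp Y i).left))).hom ((-1 : ℤ) ^ (j : ℕ) • bas u Y (T.δ j (canT u Y i))) := by
      intro j
      rw [AddCommGrpCat.hom_zsmul, AddMonoidHom.smul_apply, map_zsmul, evT_hat]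
    rw [Finset.sum_congr rfl (fun j _ => h2 j), ← map_sum, ← bd_bas]
    have h3 := congrArg (fun f : F u Y (p + 1) ⟶ I =>
      (NatTrans.app f (op (u.obj (fp Y i).left))).hom (bas u Y (canT u Y i))) hψ
    change (ψ.app _).hom (((bd u Y p).app _).hom _) = _ at h3
    rw [h3]
    exact φ_bas u Y I c (canT u Y i)
  exact hex.isZero_homology

end main

end Groth.Agent.Lib.Helper21.CechFree
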