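import Mathlib
import Groth.Agent.S3886

/-!
# Two maps of formal coproducts induce simplicially homotopic maps of Čech nerves
(helper21; for S3088)
-/

set_option autoImplicit false
universe w v u

open CategoryTheory CategoryTheory.Limits Opposite Simplicial

namespace Groth.Agent.Lib.Helper21.CechHomotopy

open FormalCoproduct

variable {C : Type u} [Category.{v} C] [HasFiniteProducts C]
  {U V : FormalCoproduct.{w} C} (f g : U ⟶ V)

/-- the "mixed" map `U^k → V^m`: the component at `a : Fin m` is the projection to `s a` followed by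
`f` or `g` according to `θ a`. -/
noncomputable def mix {k m : ℕ} (s : Fin m → Fin k) (θ : Fin m → Bool) :
    U.power (Fin k) ⟶ V.power (Fin m) :=
  Fan.IsLimit.lift (isLimitPowerFan V (Fin m))
    (fun a => U.powerπ (s a) ≫ (if θ a then f else g))

@[reassoc (attr := simp)]
lemma mix_π {k m : ℕ} (s : Fin m → Fin k) (θ : Fin m → Bool) (a : Fin m) :
    mix f g s θ ≫ V.powerπ a = U.powerπ (s a) ≫ (if θ a then f else g) := by
  unfold mix
  exact Fan.IsLimit.fac (isLimitPowerFan V (Fin m)) _ a

lemma hom_ext_power {W : FormalCoproduct.{w} C} {m : ℕ} (p q : W ⟶ V.power (Fin m))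
    (h : ∀ a, p ≫ V.powerπ a = q ≫ V.powerπ a) : p = q :=
  Fan.IsLimit.hom_ext (isLimitPowerFan V (Fin m)) _ _ h

lemma mix_mapPower {k m m' : ℕ} (s : Fin m → Fin k) (θ : Fin m → Bool) (t : Fin m' → Fin m) :
    mix f g s θ ≫ V.mapPower t = mix f g (s ∘ t) (θ ∘ t) := by
  apply hom_ext_power
  intro a
  simp

lemma mapPower_mix {k k' m : ℕ} (s : Fin m → Fin k) (θ : Fin m → Bool) (t : Fin k → Fin k') :
    U.mapPower t ≫ mix f g s θ = mix f g (t ∘ s) θ := by
  apply hom_ext_power
  intro a
  simp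

set_option backward.defeqAttrib.useBackward true in
set_option backward.isDefEq.respectTransparency false in
lemma powerMap_π (k : ℕ) (a : Fin k) :
    powerMap f (Fin k) ≫ V.powerπ a = U.powerπ a ≫ f := by
  refine hom_ext rfl (fun i => ?_)
  rw [eqToHom_refl, Category.comp_id]
  exact Pi.map_π (fun b => f.φ (i b)) a

lemma powerMap_eq_mix_true (k : ℕ) : powerMap f (Fin k) = mix f g id (fun _ => true) := by
  apply hom_ext_power
  intro a
  rw [mix_π, powerMap_π]
  rfl

lemma powerMap_eq_mix_false (k : ℕ) : powerMap g (Fin k) = mix f g id (fun _ => false) := by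
  apply hom_ext_power
  intro a
  rw [mix_π, powerMap_π]
  rfl


lemma succAbove_val {n : ℕ} (i : Fin (n + 1)) (a : Fin n) :
    (Fin.succAbove i a).val = if a.val < i.val then a.val else a.val + 1 := by
  unfold Fin.succAbove
  split_ifs with h1 h2 h2
  · simp
  · exact absurd (by simpa [Fin.lt_def] using h1) h2
  · exact absurd (by simpa [Fin.lt_def] using h2) h1
  · simp

lemma predAbove_val {n : ℕ} (i : Fin n) (a : Fin (n + 1)) :
    (Fin.predAbove i a).val = if i.val < a.val then a.val - 1 else a.val := by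
  unfold Fin.predAbove
  split_ifs with h1 h2 h2
  · simp
  · exact absurd (by simpa [Fin.lt_def] using h1) h2
  · exact absurd (by simpa [Fin.lt_def] using h2) h1
  · simp

lemma f1s {n : ℕ} (a : Fin (n + 1)) :
    Fin.predAbove (0 : Fin (n + 1)) (Fin.succAbove (0 : Fin (n + 2)) a) = a := by
  apply Fin.ext
  simp only [succAbove_val, predAbove_val, Fin.val_zero]
  split_ifs <;> omega

lemma f1t {n : ℕ} (a : Fin (n + 1)) :
    decide (Fin.succAbove (0 : Fin (n + 2)) a ≤ (0 : Fin (n + 1)).castSucc) = false := by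
  rw [decide_eq_false_iff_not, Fin.le_def]
  simp only [succAbove_val, predAbove_val, Fin.val_zero, Fin.val_castSucc]
  split_ifs <;> omega

lemma f2s {n : ℕ} (a : Fin (n + 1)) :
    Fin.predAbove (Fin.last n) (Fin.succAbove (Fin.last (n + 1)) a) = a := by
  apply Fin.ext
  have := a.isLt
  simp only [succAbove_val, predAbove_val, Fin.val_last]
  split_ifs <;> omega

lemma f2t {n : ℕ} (a : Fin (n + 1)) :
    decide (Fin.succAbove (Fin.last (n + 1)) a ≤ (Fin.last n).castSucc) = true := by
  have := a.isLt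
  rw [decide_eq_true_iff, Fin.le_def]
  simp only [succAbove_val, predAbove_val, Fin.val_last, Fin.val_castSucc]
  split_ifs <;> omega

lemma f3s {n : ℕ} (i : Fin (n + 2)) (j : Fin (n + 1)) (hij : i ≤ j.castSucc) (a : Fin (n + 2)) :
    Fin.predAbove j.succ (Fin.succAbove i.castSucc a) = Fin.succAbove i (Fin.predAbove j a) := by
  apply Fin.ext
  have := Fin.le_def.mp hij
  simp only [succAbove_val, predAbove_val, Fin.val_succ, Fin.val_castSucc] at this ⊢
  split_ifs <;> omega

lemma f3t {n : ℕ} (i : Fin (n + 2)) (j : Fin (n + 1)) (hij : i ≤ j.castSucc) (a : Fin (n + 2)) :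
    decide (Fin.succAbove i.castSucc a ≤ j.succ.castSucc) = decide (a ≤ j.castSucc) := by
  have := Fin.le_def.mp hij
  rw [decide_eq_decide, Fin.le_def, Fin.le_def]
  simp only [succAbove_val, Fin.val_succ, Fin.val_castSucc] at this ⊢
  split_ifs <;> omega

lemma f4s {n : ℕ} (j : Fin (n + 1)) (a : Fin (n + 2)) :
    Fin.predAbove j.succ (Fin.succAbove j.castSucc.succ a) =
      Fin.predAbove j.castSucc (Fin.succAbove j.castSucc.succ a) := by
  apply Fin.ext
  simp only [succAbove_val, predAbove_val, Fin.val_succ, Fin.val_castSucc]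
  split_ifs <;> omega

lemma f4t {n : ℕ} (j : Fin (n + 1)) (a : Fin (n + 2)) :
    decide (Fin.succAbove j.castSucc.succ a ≤ j.succ.castSucc) =
      decide (Fin.succAbove j.castSucc.succ a ≤ j.castSucc.castSucc) := by
  rw [decide_eq_decide, Fin.le_def, Fin.le_def]
  simp only [succAbove_val, Fin.val_succ, Fin.val_castSucc]
  split_ifs <;> omega

lemma f5s {n : ℕ} (i : Fin (n + 2)) (j : Fin (n + 1)) (hji : j.castSucc < i) (a : Fin (n + 2)) :
    Fin.predAbove j.castSucc (Fin.succAbove i.succ a) = Fin.succAbove i (Fin.predAbove j a) := by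
  apply Fin.ext
  have := Fin.lt_def.mp hji
  simp only [succAbove_val, predAbove_val, Fin.val_succ, Fin.val_castSucc] at this ⊢
  split_ifs <;> omega

lemma f5t {n : ℕ} (i : Fin (n + 2)) (j : Fin (n + 1)) (hji : j.castSucc < i) (a : Fin (n + 2)) :
    decide (Fin.succAbove i.succ a ≤ j.castSucc.castSucc) = decide (a ≤ j.castSucc) := by
  have := Fin.lt_def.mp hji
  rw [decide_eq_decide, Fin.le_def, Fin.le_def]
  simp only [succAbove_val, Fin.val_succ, Fin.val_castSucc] at this ⊢
  split_ifs <;> omega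

lemma f6s {n : ℕ} (i j : Fin (n + 1)) (hij : i ≤ j) (a : Fin (n + 3)) :
    Fin.predAbove j (Fin.predAbove i.castSucc a) = Fin.predAbove i (Fin.predAbove j.succ a) := by
  apply Fin.ext
  have := Fin.le_def.mp hij
  simp only [succAbove_val, predAbove_val, Fin.val_succ, Fin.val_castSucc] at this ⊢
  split_ifs <;> omega

lemma f6t {n : ℕ} (i j : Fin (n + 1)) (hij : i ≤ j) (a : Fin (n + 3)) :
    decide (Fin.predAbove i.castSucc a ≤ j.castSucc) = decide (a ≤ j.succ.castSucc) := by
  have := Fin.le_def.mp hij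
  rw [decide_eq_decide, Fin.le_def, Fin.le_def]
  simp only [predAbove_val, Fin.val_succ, Fin.val_castSucc] at this ⊢
  split_ifs <;> omega

lemma f7s {n : ℕ} (i j : Fin (n + 1)) (hji : j ≤ i) (a : Fin (n + 3)) :
    Fin.predAbove j (Fin.predAbove i.succ a) = Fin.predAbove i (Fin.predAbove j.castSucc a) := by
  apply Fin.ext
  have := Fin.le_def.mp hji
  simp only [succAbove_val, predAbove_val, Fin.val_succ, Fin.val_castSucc] at this ⊢
  split_ifs <;> omega

lemma f7t {n : ℕ} (i j : Fin (n + 1)) (hji : j ≤ i) (a : Fin (n + 3)) :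
    decide (Fin.predAbove i.succ a ≤ j.castSucc) = decide (a ≤ j.castSucc.castSucc) := by
  have := Fin.le_def.mp hji
  rw [decide_eq_decide, Fin.le_def, Fin.le_def]
  simp only [predAbove_val, Fin.val_succ, Fin.val_castSucc] at this ⊢
  split_ifs <;> omega


lemma cech_δ (n : ℕ) (i : Fin (n + 2)) :
    (U.cech).δ i = U.mapPower (α := Fin (n + 1)) (β := Fin (n + 2)) (Fin.succAbove i) := rfl

lemma cech_σ (n : ℕ) (i : Fin (n + 1)) :
    (U.cech).σ i = U.mapPower (α := Fin (n + 2)) (β := Fin (n + 1)) (Fin.predAbove i) := rfl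

/-- the homotopy components -/
noncomputable def hh {n : ℕ} (i : Fin (n + 1)) :
    U.power (Fin (n + 1)) ⟶ V.power (Fin (n + 2)) :=
  mix f g (k := n + 1) (m := n + 2) (Fin.predAbove i) (fun a => decide (a ≤ i.castSucc))

lemma mix_congr {k m : ℕ} {s s' : Fin m → Fin k} {θ θ' : Fin m → Bool}
    (hs : ∀ a, s a = s' a) (hθ : ∀ a, θ a = θ' a) : mix f g s θ = mix f g s' θ' := by
  obtain rfl : s = s' := funext hs
  obtain rfl : θ = θ' := funext hθ
  rfl

lemma h1 (n : ℕ) : hh f g (0 : Fin (n + 1)) ≫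
    V.mapPower (α := Fin (n + 1)) (β := Fin (n + 2)) (Fin.succAbove 0) = powerMap g (Fin (n + 1)) := by
  rw [hh, mix_mapPower, powerMap_eq_mix_false f g]
  exact mix_congr f g (fun a => f1s a) (fun a => f1t a)

lemma h2 (n : ℕ) : hh f g (Fin.last n) ≫
    V.mapPower (α := Fin (n + 1)) (β := Fin (n + 2)) (Fin.succAbove (Fin.last (n + 1))) =
      powerMap f (Fin (n + 1)) := by
  rw [hh, mix_mapPower, powerMap_eq_mix_true f g]
  exact mix_congr f g (fun a => f2s a) (fun a => f2t a)

lemma h3 {n : ℕ} (i : Fin (n + 2)) (j : Fin (n + 1)) (hij : i ≤ j.castSucc) :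
    hh f g j.succ ≫ V.mapPower (α := Fin (n + 2)) (β := Fin (n + 3)) (Fin.succAbove i.castSucc) =
      U.mapPower (α := Fin (n + 1)) (β := Fin (n + 2)) (Fin.succAbove i) ≫ hh f g j := by
  rw [hh, hh, mix_mapPower, mapPower_mix]
  exact mix_congr f g (fun a => f3s i j hij a) (fun a => f3t i j hij a)

lemma h4 {n : ℕ} (j : Fin (n + 1)) :
    hh f g j.succ ≫ V.mapPower (α := Fin (n + 2)) (β := Fin (n + 3)) (Fin.succAbove j.castSucc.succ) =
      hh f g j.castSucc ≫
        V.mapPower (α := Fin (n + 2)) (β := Fin (n + 3)) (Fin.succAbove j.castSucc.succ) := by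
  rw [hh, hh, mix_mapPower, mix_mapPower]
  exact mix_congr f g (fun a => f4s j a) (fun a => f4t j a)

lemma h5 {n : ℕ} (i : Fin (n + 2)) (j : Fin (n + 1)) (hji : j.castSucc < i) :
    hh f g j.castSucc ≫ V.mapPower (α := Fin (n + 2)) (β := Fin (n + 3)) (Fin.succAbove i.succ) =
      U.mapPower (α := Fin (n + 1)) (β := Fin (n + 2)) (Fin.succAbove i) ≫ hh f g j := by
  rw [hh, hh, mix_mapPower, mapPower_mix]
  exact mix_congr f g (fun a => f5s i j hji a) (fun a => f5t i j hji a)

lemma h6 {n : ℕ} (i j : Fin (n + 1)) (hij : i ≤ j) :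
    hh f g j ≫ V.mapPower (α := Fin (n + 3)) (β := Fin (n + 2)) (Fin.predAbove i.castSucc) =
      U.mapPower (α := Fin (n + 2)) (β := Fin (n + 1)) (Fin.predAbove i) ≫ hh f g j.succ := by
  rw [hh, hh, mix_mapPower, mapPower_mix]
  exact mix_congr f g (fun a => f6s i j hij a) (fun a => f6t i j hij a)

lemma h7 {n : ℕ} (i j : Fin (n + 1)) (hji : j ≤ i) :
    hh f g j ≫ V.mapPower (α := Fin (n + 3)) (β := Fin (n + 2)) (Fin.predAbove i.succ) =
      U.mapPower (α := Fin (n + 2)) (β := Fin (n + 1)) (Fin.predAbove i) ≫ hh f g j.castSucc := by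
  rw [hh, hh, mix_mapPower, mapPower_mix]
  exact mix_congr f g (fun a => f7s i j hji a) (fun a => f7t i j hji a)

/-- The simplicial homotopy between the maps of Čech nerves induced by `f` and `g`. -/
noncomputable def homotopy :
    SimplicialObject.Homotopy (cechFunctor.map f) (cechFunctor.map g) where
  h i := hh f g i
  h_zero_comp_δ_zero n := h1 f g n
  h_last_comp_δ_last n := h2 f g n
  h_succ_comp_δ_castSucc_of_lt i j hij := h3 f g i j hij
  h_succ_comp_δ_castSucc_succ j := h4 f g j
  h_castSucc_comp_δ_succ_of_lt i j hji := h5 f g i j hji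
  h_comp_σ_castSucc_of_le i j hij := h6 f g i j hij
  h_comp_σ_succ_of_lt i j hji := h7 f g i j hji

end Groth.Agent.Lib.Helper21.CechHomotopy
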