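import Mathlib
import Groth.Prelude.Def_CechEdge
import Groth.Agent.Lib.Helper21Cech1
import Groth.Agent.Lib.Helper21Cech3

set_option autoImplicit false
universe u
open CategoryTheory CategoryTheory.Limits Opposite

/-! Čech-acyclicity of `u.op ⋙ Eff Q` for `u : C ⥤ D` preserving pullbacks, where `D` need not have
pullbacks. -/

namespace Groth.Agent.Lib.Helper21.CechPush2
open Groth.Agent.Lib.Helper21.Cech

variable {C D : Type u} [SmallCategory C] [SmallCategory D] [HasPullbacks C]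
variable (u : C ⥤ D) [PreservesLimitsOfShape WalkingCospan u]

instance preservesTerminal_post (U : C) :
    PreservesLimit (Functor.empty.{0} (Over U)) (Over.post (X := U) u) := by
  apply preservesLimit_of_preserves_limit_cone (Over.mkIdTerminal (X := U))
  apply (isLimitMapConeEmptyConeEquiv _ _).symm _
  have h : (Over.post (X := U) u).obj (Over.mk (𝟙 U)) ≅ Over.mk (𝟙 (u.obj U)) :=
    Over.isoMk (Iso.refl _) (by
      change 𝟙 _ ≫ 𝟙 _ = u.map (𝟙 U)
      simp)
  exact IsTerminal.ofIso Over.mkIdTerminal h.symm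

instance preservesFin_post (U : C) (n : ℕ) :
    PreservesLimitsOfShape (Discrete (Fin n)) (Over.post (X := U) u) := by
  have : PreservesLimitsOfShape (Discrete.{0} PEmpty) (Over.post (X := U) u) :=
    preservesLimitsOfShape_pempty_of_preservesTerminal _
  have h := Limits.PreservesFiniteProducts.of_preserves_binary_and_terminal (Over.post (X := U) u)
  exact h.preserves n

variable {U : C} {ι : Type u} (Y : ι → Over U)

/-- a `D`-point of the family with values in `V : D` -/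
structure PtD (V : D) where
  /-- the index -/
  idx : ι
  /-- the morphism -/
  map : V ⟶ u.obj (Y idx).left

variable {u Y}

/-- structure map of a point -/
def PtD.str {V : D} (x : PtD u Y V) : V ⟶ u.obj U := x.map ≫ u.map (Y x.idx).hom

/-- a point as a morphism in `Over (u U)` -/
def PtD.hom {V : D} (x : PtD u Y V) (g : V ⟶ u.obj U) (h : x.str = g) :
    Over.mk g ⟶ (Over.post (X := U) u).obj (Y x.idx) :=
  Over.homMk x.map h

variable (u Y)

/-- the image of the fibre product is a fibre product -/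
noncomputable def isLim {n : ℕ} (i : Fin (n + 1) → ι) :
    IsLimit (Fan.mk ((Over.post (X := U) u).obj (fp Y i))
      (fun a => (Over.post (X := U) u).map (Pi.π (Y ∘ i) a))) :=
  isLimitOfHasProductOfPreservesLimit (Over.post (X := U) u) (Y ∘ i)

/-- the morphism to the image of the fibre product determined by a tuple of points -/
noncomputable def tupD {V : D} (g : V ⟶ u.obj U) {n : ℕ} (e : Fin (n + 1) → PtD u Y V)
    (he : ∀ a, (e a).str = g) :
    Over.mk g ⟶ (Over.post (X := U) u).obj (fp Y (fun a => (e a).idx)) :=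
  Fan.IsLimit.lift (isLim u Y (fun a => (e a).idx)) (fun a => (e a).hom g (he a))

theorem tupD_π {V : D} (g : V ⟶ u.obj U) {n : ℕ} (e : Fin (n + 1) → PtD u Y V)
    (he : ∀ a, (e a).str = g) (a : Fin (n + 1)) :
    tupD u Y g e he ≫ (Over.post (X := U) u).map (Pi.π (Y ∘ fun a => (e a).idx) a) =
      (e a).hom g (he a) :=
  Fan.IsLimit.fac (isLim u Y (fun a => (e a).idx)) _ a

theorem tupD_π_left {V : D} (g : V ⟶ u.obj U) {n : ℕ} (e : Fin (n + 1) → PtD u Y V)
    (he : ∀ a, (e a).str = g) (a : Fin (n + 1)) :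
    (tupD u Y g e he).left ≫ u.map (Pi.π (Y ∘ fun a => (e a).idx) a).left = (e a).map :=
  congrArg (fun t => t.left) (tupD_π u Y g e he a)

theorem tupD_w {V : D} (g : V ⟶ u.obj U) {n : ℕ} (e : Fin (n + 1) → PtD u Y V)
    (he : ∀ a, (e a).str = g) :
    (tupD u Y g e he).left ≫ u.map (fp Y (fun a => (e a).idx)).hom = g :=
  Over.w (tupD u Y g e he)

theorem tupD_dmap {V : D} (g : V ⟶ u.obj U) {n : ℕ} (e : Fin (n + 2) → PtD u Y V)
    (he : ∀ a, (e a).str = g) (j : Fin (n + 2)) :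
    tupD u Y g e he ≫ (Over.post (X := U) u).map (dmap Y j (fun a => (e a).idx)) =
      tupD u Y g (e ∘ Fin.succAbove j) (fun a => he _) := by
  refine Fan.IsLimit.hom_ext (isLim u Y (fun a => ((e ∘ Fin.succAbove j) a).idx)) _ _ (fun a => ?_)
  change _ ≫ (Over.post (X := U) u).map _ = _ ≫ (Over.post (X := U) u).map _
  rw [tupD_π, Category.assoc, ← Functor.map_comp]
  have h1 : dmap Y j (fun a => (e a).idx) ≫ Pi.π (Y ∘ fun a => ((e ∘ Fin.succAbove j) a).idx) a =
      Pi.π (Y ∘ fun a => (e a).idx) (Fin.succAbove j a) := by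
    rw [dmap]
    erw [Pi.lift_π]
  rw [h1, tupD_π]
  rfl

theorem tupD_dmap_left {V : D} (g : V ⟶ u.obj U) {n : ℕ} (e : Fin (n + 2) → PtD u Y V)
    (he : ∀ a, (e a).str = g) (j : Fin (n + 2)) :
    (tupD u Y g e he).left ≫ u.map (dmap Y j (fun a => (e a).idx)).left =
      (tupD u Y g (e ∘ Fin.succAbove j) (fun a => he _)).left :=
  congrArg (fun t => t.left) (tupD_dmap u Y g e he j)

/-- the canonical tuple of a morphism to the image of a fibre product -/
noncomputable def canD {n : ℕ} (i : Fin (n + 1) → ι) {V : D} (t : V ⟶ u.obj (fp Y i).left) :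
    Fin (n + 1) → PtD u Y V :=
  fun a => ⟨i a, t ≫ u.map (Pi.π (Y ∘ i) a).left⟩

theorem canD_str {n : ℕ} (i : Fin (n + 1) → ι) {V : D} (t : V ⟶ u.obj (fp Y i).left)
    (a : Fin (n + 1)) : (canD u Y i t a).str = t ≫ u.map (fp Y i).hom := by
  change (t ≫ u.map (Pi.π (Y ∘ i) a).left) ≫ u.map (Y (i a)).hom = _
  rw [Category.assoc, ← u.map_comp]
  congr 2
  exact Over.w (Pi.π (Y ∘ i) a)

theorem tupD_canD {n : ℕ} (i : Fin (n + 1) → ι) {V : D} (t : V ⟶ u.obj (fp Y i).left) :
    (tupD u Y (t ≫ u.map (fp Y i).hom) (canD u Y i t) (canD_str u Y i t)).left = t := by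
  have h : tupD u Y (t ≫ u.map (fp Y i).hom) (canD u Y i t) (canD_str u Y i t) =
      (Over.homMk t rfl : Over.mk (t ≫ u.map (fp Y i).hom) ⟶ (Over.post (X := U) u).obj (fp Y i)) := by
    refine Fan.IsLimit.hom_ext (isLim u Y i) _ _ (fun a => ?_)
    change _ ≫ (Over.post (X := U) u).map _ = _ ≫ (Over.post (X := U) u).map _
    have := tupD_π u Y (t ≫ u.map (fp Y i).hom) (canD u Y i t) (canD_str u Y i t) a
    refine this.trans ?_
    ext
    rfl
  rw [h]
  rfl

theorem canD_tupD {V : D} (g : V ⟶ u.obj U) {n : ℕ} (e : Fin (n + 1) → PtD u Y V)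
    (he : ∀ a, (e a).str = g) :
    canD u Y (fun a => (e a).idx) (tupD u Y g e he).left = e := by
  funext a
  change PtD.mk (e a).idx ((tupD u Y g e he).left ≫ u.map (Pi.π (Y ∘ fun a => (e a).idx) a).left) = e a
  rw [tupD_π_left]
  rfl

variable (Q : Dᵒᵖ ⥤ AddCommGrpCat.{u})

/-- evaluation of a section of `Eff Q` -/
noncomputable def evAt {W V : D} (f : V ⟶ W) : (Eff Q).obj (op W) ⟶ Q.obj (op V) :=
  AddCommGrpCat.ofHom
    { toFun := fun s => s V f
      map_zero' := rfl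
      map_add' := fun _ _ => rfl }

theorem evAt_apply {W V : D} (f : V ⟶ W) (s : (Eff Q).obj (op W)) : (evAt Q f).hom s = s V f := rfl

theorem map_evAt {W W' V : D} (t : W' ⟶ W) (f : V ⟶ W') :
    (Eff Q).map t.op ≫ evAt Q f = evAt Q (f ≫ t) := rfl

theorem eff_ext {W : D} {A : AddCommGrpCat.{u}} (a b : A ⟶ (Eff Q).obj (op W))
    (h : ∀ (V : D) (t : V ⟶ W), a ≫ evAt Q t = b ≫ evAt Q t) : a = b := by
  ext x
  funext V t
  exact ConcreteCategory.congr_hom (h V t) x

theorem evAt_congr {W V : D} {f f' : V ⟶ W} (h : f = f') : evAt Q f = evAt Q f' := by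
  subst h; rfl

/-- evaluation of Čech cochains of `u.op ⋙ Eff Q` -/
noncomputable def evD {V : D} (g : V ⟶ u.obj U) {n : ℕ} (e : Fin (n + 1) → PtD u Y V)
    (he : ∀ a, (e a).str = g) : (CechEdge.cx (u.op ⋙ Eff Q) Y).X n ⟶ Q.obj (op V) :=
  proj Y (u.op ⋙ Eff Q) n (fun a => (e a).idx) ≫ evAt Q (tupD u Y g e he).left

theorem evD_congr {V : D} {g g' : V ⟶ u.obj U} {n : ℕ} {e e' : Fin (n + 1) → PtD u Y V}
    (he : ∀ a, (e a).str = g) (he' : ∀ a, (e' a).str = g') (hg : g = g') (hee : e = e') :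
    evD u Y Q g e he = evD u Y Q g' e' he' := by
  subst hg hee
  rfl

theorem proj_evAt {n : ℕ} (i : Fin (n + 1) → ι) {V : D} (t : V ⟶ u.obj (fp Y i).left) :
    proj Y (u.op ⋙ Eff Q) n i ≫ evAt Q t =
      evD u Y Q (t ≫ u.map (fp Y i).hom) (canD u Y i t) (canD_str u Y i t) := by
  rw [evD]
  exact congrArg (fun s : V ⟶ u.obj (fp Y i).left => proj Y (u.op ⋙ Eff Q) n i ≫ evAt Q s)
    (tupD_canD u Y i t).symm

theorem effD_X_hom_ext {A : AddCommGrpCat.{u}} {n : ℕ}
    (f f' : A ⟶ (CechEdge.cx (u.op ⋙ Eff Q) Y).X n)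
    (h : ∀ (V : D) (g : V ⟶ u.obj U) (e : Fin (n + 1) → PtD u Y V) (he : ∀ a, (e a).str = g),
      f ≫ evD u Y Q g e he = f' ≫ evD u Y Q g e he) : f = f' := by
  apply Pi.hom_ext
  intro (i : Fin (n + 1) → ι)
  apply eff_ext Q (W := u.obj (fp Y i).left)
  intro V t
  have h0 := h V (t ≫ u.map (fp Y i).hom) (canD u Y i t) (canD_str u Y i t)
  have hp := proj_evAt u Y Q i t
  refine (Category.assoc _ _ _).trans ((congrArg (fun s => f ≫ s) hp).trans (h0.trans ?_))
  exact ((Category.assoc _ _ _).trans (congrArg (fun s => f' ≫ s) hp)).symm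

theorem face_evD {V : D} (g : V ⟶ u.obj U) {n : ℕ} (e : Fin (n + 2) → PtD u Y V)
    (he : ∀ a, (e a).str = g) (j : Fin (n + 2)) :
    face Y (u.op ⋙ Eff Q) n j ≫ evD u Y Q g e he =
      evD u Y Q g (e ∘ Fin.succAbove j) (fun a => he _) := by
  rw [evD, ← Category.assoc, face_π, Category.assoc]
  exact congrArg (fun s : V ⟶ u.obj (fp Y (fun a => ((e ∘ Fin.succAbove j) a).idx)).left =>
    proj Y (u.op ⋙ Eff Q) n (fun a => ((e ∘ Fin.succAbove j) a).idx) ≫ evAt Q s)
    (tupD_dmap_left u Y g e he j)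

theorem d_evD {V : D} (g : V ⟶ u.obj U) {n : ℕ} (e : Fin (n + 2) → PtD u Y V)
    (he : ∀ a, (e a).str = g) :
    (CechEdge.cx (u.op ⋙ Eff Q) Y).d n (n + 1) ≫ evD u Y Q g e he =
      ∑ j : Fin (n + 2), (-1 : ℤ) ^ (j : ℕ) •
        evD u Y Q g (e ∘ Fin.succAbove j) (fun a => he _) := by
  rw [cx_d, Preadditive.sum_comp]
  refine Finset.sum_congr rfl (fun j _ => ?_)
  rw [Preadditive.zsmul_comp, face_evD]

/-- chosen point -/
noncomputable def ptD (V : D) (g : V ⟶ u.obj U) (h : ∃ x : PtD u Y V, x.str = g) : PtD u Y V :=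
  h.choose

theorem ptD_str (V : D) (g : V ⟶ u.obj U) (h : ∃ x : PtD u Y V, x.str = g) :
    (ptD u Y V g h).str = g :=
  h.choose_spec

theorem ptD_congr (V : D) {g g' : V ⟶ u.obj U} (hg : g = g') (h : ∃ x : PtD u Y V, x.str = g)
    (h' : ∃ x : PtD u Y V, x.str = g') : ptD u Y V g h = ptD u Y V g' h' := by
  subst hg
  rfl

theorem consD_str {V : D} (g : V ⟶ u.obj U) {n : ℕ} (x : PtD u Y V) (hx : x.str = g)
    (e : Fin (n + 1) → PtD u Y V) (he : ∀ a, (e a).str = g) (a : Fin (n + 2)) :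
    ((Fin.cons x e : Fin (n + 2) → PtD u Y V) a).str = g := by
  refine Fin.cases ?_ (fun b => ?_) a
  · simpa using hx
  · simpa using he b

/-- the components of the contracting homotopy -/
noncomputable def hC (n : ℕ) (i : Fin (n + 1) → ι) :
    (CechEdge.cx (u.op ⋙ Eff Q) Y).X (n + 1) ⟶ (u.op ⋙ Eff Q).obj (op (fp Y i).left) :=
  AddCommGrpCat.ofHom
    { toFun := fun c V t =>
        (evD u Y Q (t ≫ u.map (fp Y i).hom)
          (Fin.cons (ptD u Y V (t ≫ u.map (fp Y i).hom) ⟨canD u Y i t 0, canD_str u Y i t 0⟩)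
            (canD u Y i t))
          (consD_str u Y _ _ (ptD_str u Y _ _ _) _ (canD_str u Y i t))).hom c
      map_zero' := by funext V f; exact map_zero _
      map_add' := fun x y => by funext V f; exact map_add _ _ _ }

theorem hC_evAt (n : ℕ) (i : Fin (n + 1) → ι) {V : D} (t : V ⟶ u.obj (fp Y i).left) :
    hC u Y Q n i ≫ evAt Q t =
      evD u Y Q (t ≫ u.map (fp Y i).hom)
          (Fin.cons (ptD u Y V (t ≫ u.map (fp Y i).hom) ⟨canD u Y i t 0, canD_str u Y i t 0⟩)
            (canD u Y i t))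
          (consD_str u Y _ _ (ptD_str u Y _ _ _) _ (canD_str u Y i t)) := by
  ext c
  rfl

/-- the contracting homotopy -/
noncomputable def hD (n : ℕ) :
    (CechEdge.cx (u.op ⋙ Eff Q) Y).X (n + 1) ⟶ (CechEdge.cx (u.op ⋙ Eff Q) Y).X n :=
  Pi.lift (fun i => hC u Y Q n i)

theorem hD_proj (n : ℕ) (i : Fin (n + 1) → ι) :
    hD u Y Q n ≫ proj Y (u.op ⋙ Eff Q) n i = hC u Y Q n i := by
  rw [hD]
  exact Pi.lift_π _ _

theorem hD_evD {V : D} (g : V ⟶ u.obj U) {n : ℕ} (e : Fin (n + 1) → PtD u Y V)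
    (he : ∀ a, (e a).str = g) :
    hD u Y Q n ≫ evD u Y Q g e he =
      evD u Y Q g (Fin.cons (ptD u Y V g ⟨e 0, he 0⟩) e)
        (consD_str u Y g _ (ptD_str u Y _ _ _) e he) := by
  have h1 : hD u Y Q n ≫ evD u Y Q g e he = hC u Y Q n (fun a => (e a).idx) ≫
      evAt Q (tupD u Y g e he).left := by
    rw [evD, ← Category.assoc, hD_proj]
  rw [h1]
  refine (hC_evAt u Y Q n (fun a => (e a).idx) (tupD u Y g e he).left).trans ?_
  refine evD_congr u Y Q _ _ (tupD_w u Y g e he) ?_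
  funext a
  refine Fin.cases ?_ (fun b => ?_) a
  · simp only [Fin.cons_zero]
    exact ptD_congr u Y V (tupD_w u Y g e he) _ _
  · simp only [Fin.cons_succ]
    exact congrFun (canD_tupD u Y g e he) b

theorem hD_homotopy (n : ℕ) :
    hD u Y Q n ≫ (CechEdge.cx (u.op ⋙ Eff Q) Y).d n (n + 1) +
      (CechEdge.cx (u.op ⋙ Eff Q) Y).d (n + 1) (n + 2) ≫ hD u Y Q (n + 1) = 𝟙 _ := by
  apply effD_X_hom_ext
  intro V g e he
  rw [Preadditive.add_comp, Category.assoc, Category.assoc, d_evD, hD_evD, d_evD,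
    Preadditive.comp_sum, Fin.sum_univ_succ (n := n + 2), Category.id_comp]
  have h0 : evD u Y Q g
      ((Fin.cons (ptD u Y V g ⟨e 0, he 0⟩) e : Fin (n + 3) → PtD u Y V) ∘ Fin.succAbove 0)
      (fun a => consD_str u Y g _ (ptD_str u Y _ _ _) e he _) = evD u Y Q g e he :=
    evD_congr u Y Q _ _ rfl (cons_comp_succAbove_zero _ _)
  have h1 : ∀ j : Fin (n + 2),
      evD u Y Q g
        ((Fin.cons (ptD u Y V g ⟨e 0, he 0⟩) e : Fin (n + 3) → PtD u Y V) ∘ Fin.succAbove j.succ)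
        (fun a => consD_str u Y g _ (ptD_str u Y _ _ _) e he _) =
      hD u Y Q n ≫ evD u Y Q g (e ∘ Fin.succAbove j) (fun a => he _) := by
    intro j
    rw [hD_evD]
    exact evD_congr u Y Q _ _ rfl (cons_comp_succAbove_succ _ _ _)
  rw [h0]
  simp only [h1, Fin.val_zero, pow_zero, one_smul, Fin.val_succ, pow_succ, mul_neg, mul_one,
    neg_smul, Preadditive.comp_zsmul, Finset.sum_neg_distrib]
  abel

/-- Čech cohomology of `u.op ⋙ Eff Q` vanishes in positive degrees. -/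
theorem isZero_cechH_effPush (p : ℕ) : IsZero (CohCx.cechH (u.op ⋙ Eff Q) Y (p + 1)) := by
  have hex : (CechEdge.cx (u.op ⋙ Eff Q) Y).ExactAt (p + 1) := by
    rw [HomologicalComplex.exactAt_iff' _ p (p + 1) (p + 2) (by simp) (by simp),
      ShortComplex.ab_exact_iff]
    intro x hx
    change ((CechEdge.cx (u.op ⋙ Eff Q) Y).d (p + 1) (p + 2)).hom x = 0 at hx
    refine ⟨(hD u Y Q p).hom x, ?_⟩
    change ((CechEdge.cx (u.op ⋙ Eff Q) Y).d p (p + 1)).hom ((hD u Y Q p).hom x) = x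
    have := ConcreteCategory.congr_hom (hD_homotopy u Y Q p) x
    simp only [AddCommGrpCat.hom_add, AddMonoidHom.add_apply, ConcreteCategory.comp_apply] at this
    rw [hx, map_zero, add_zero] at this
    simpa using this
  exact hex.isZero_homology

end Groth.Agent.Lib.Helper21.CechPush2
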