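import Mathlib
import Groth.Prelude.Def_CohSite
import Groth.Prelude.Def_CohCx
import Groth.Prelude.Def_FreeSh
import Groth.Agent.Lib.Helper21PushAcyc
import Groth.Agent.Lib.Helper21TorsFree

/-!
# Helper21: cohomology of sieves (Ext in presheaves) versus cohomology of objects
-/

universe u
open CategoryTheory Limits Abelian Opposite

namespace Groth.Agent.Lib.Helper21.SieveCoh

variable {C : Type u} [SmallCategory C] (J : GrothendieckTopology C)

instance isContinuous_id_bot : (𝟭 C).IsContinuous ⊥ J where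
  op_comp_isSheaf_of_types _ := Presieve.isSheaf_bot

/-- abelian presheaves, as sheaves for the trivial topology. -/
abbrev PAb (C : Type u) [SmallCategory C] := Sheaf (⊥ : GrothendieckTopology C) AddCommGrpCat.{u}

/-- the inclusion of sheaves into presheaves, as a direct image. -/
noncomputable abbrev ι : Sheaf J AddCommGrpCat.{u} ⥤ PAb C := CohSite.push J ⊥ (𝟭 C)

/-- the underlying presheaf, as a sheaf for the trivial topology. -/
abbrev ιo (F : Sheaf J AddCommGrpCat.{u}) : PAb C := ⟨F.obj, Presheaf.isSheaf_bot _⟩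

/-- `ι F ≅ ιo F`. -/
noncomputable def ιIso (F : Sheaf J AddCommGrpCat.{u}) : (ι J).obj F ≅ ιo J F :=
  (fullyFaithfulSheafToPresheaf _ _).preimageIso (Functor.leftUnitor F.obj)

section Families

variable {X : C} (R : Sieve X)

/-- the free abelian presheaf on a sieve. -/
noncomputable abbrev ZR : PAb C :=
  (presheafToSheaf (⊥ : GrothendieckTopology C) AddCommGrpCat.{u}).obj
    (R.functor ⋙ AddCommGrpCat.free.{u})

/-- the sheafification adjunction for the trivial topology. -/
noncomputable abbrev botAdj :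
    presheafToSheaf (⊥ : GrothendieckTopology C) AddCommGrpCat.{u} ⊣
      sheafToPresheaf (⊥ : GrothendieckTopology C) AddCommGrpCat.{u} :=
  sheafificationAdjunction _ _

/-- generator of `ZR R` attached to an arrow of the sieve. -/
noncomputable def genR {V : C} (g : V ⟶ X) (hg : R g) : (ZR R).obj.obj (op V) :=
  (((botAdj (C := C)).unit.app (R.functor ⋙ AddCommGrpCat.free.{u})).app (op V)).hom
    (FreeAbelianGroup.of (⟨g, hg⟩ : R.functor.obj (op V)))

theorem genR_map {V W : C} (g : V ⟶ X) (hg : R g) (h : W ⟶ V) :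
    ((ZR R).obj.map h.op).hom (genR R g hg) = genR R (h ≫ g) (R.downward_closed hg h) := by
  have hf : (FreeAbelianGroup.of (⟨h ≫ g, R.downward_closed hg h⟩ : R.functor.obj (op W))) =
      ((R.functor ⋙ AddCommGrpCat.free.{u}).map h.op).hom
        (FreeAbelianGroup.of (⟨g, hg⟩ : R.functor.obj (op V))) := by
    change _ = FreeAbelianGroup.map _ _
    rw [FreeAbelianGroup.map_of_apply]
    rfl
  have h1 := (ConcreteCategory.congr_hom
    (((botAdj (C := C)).unit.app (R.functor ⋙ AddCommGrpCat.free.{u})).naturality h.op)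
    (FreeAbelianGroup.of (⟨g, hg⟩ : R.functor.obj (op V)))).symm
  exact h1.trans (congrArg
    ((((botAdj (C := C)).unit.app (R.functor ⋙ AddCommGrpCat.free.{u})).app (op W)).hom) hf.symm)

variable (P : PAb C)

/-- the family of sections attached to a morphism out of `ZR R`. -/
noncomputable def famOf (ψ : ZR R ⟶ P) :
    Presieve.FamilyOfElements (P.obj ⋙ forget AddCommGrpCat.{u}) R.arrows :=
  fun V g hg => (ψ.hom.app (op V)).hom (genR R g hg)

theorem famOf_sieveCompatible (ψ : ZR R ⟶ P) : (famOf R P ψ).SieveCompatible := by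
  intro V W g h hg
  change (ψ.hom.app (op W)).hom (genR R (h ≫ g) _) =
    (P.obj.map h.op).hom ((ψ.hom.app (op V)).hom (genR R g hg))
  rw [← genR_map]
  exact ConcreteCategory.congr_hom (ψ.hom.naturality h.op) (genR R g hg)

theorem famOf_comp {P P' : PAb C} (ψ : ZR R ⟶ P) (α : P ⟶ P') {V : C} (g : V ⟶ X) (hg : R g) :
    famOf R P' (ψ ≫ α) g hg = (α.hom.app (op V)).hom (famOf R P ψ g hg) := rfl

/-- the morphism of presheaves attached to a compatible family. -/
noncomputable def liftPre (x : Presieve.FamilyOfElements (P.obj ⋙ forget AddCommGrpCat.{u}) R.arrows)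
    (hx : x.SieveCompatible) : R.functor ⋙ AddCommGrpCat.free.{u} ⟶ P.obj where
  app V := AddCommGrpCat.ofHom (FreeAbelianGroup.lift
    (fun f : R.functor.obj V => (x f.1 f.2 : P.obj.obj V)))
  naturality V W h := by
    apply AddCommGrpCat.hom_ext
    apply FreeAbelianGroup.lift_ext
    intro f
    change FreeAbelianGroup.lift (fun f : R.functor.obj W => (x f.1 f.2 : P.obj.obj W))
        (FreeAbelianGroup.map (R.functor.map h) (FreeAbelianGroup.of f)) =
      (P.obj.map h).hom (FreeAbelianGroup.lift (fun f : R.functor.obj V => (x f.1 f.2 : P.obj.obj V))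
        (FreeAbelianGroup.of f))
    rw [FreeAbelianGroup.map_of_apply, FreeAbelianGroup.lift_apply_of, FreeAbelianGroup.lift_apply_of]
    exact hx f.1 h.unop f.2

/-- the morphism out of `ZR R` attached to a compatible family. -/
noncomputable def ofFam (x : Presieve.FamilyOfElements (P.obj ⋙ forget AddCommGrpCat.{u}) R.arrows)
    (hx : x.SieveCompatible) : ZR R ⟶ P :=
  ((botAdj (C := C)).homEquiv _ P).symm (liftPre R P x hx)

theorem famOf_ofFam (x : Presieve.FamilyOfElements (P.obj ⋙ forget AddCommGrpCat.{u}) R.arrows)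
    (hx : x.SieveCompatible) : famOf R P (ofFam R P x hx) = x := by
  funext V g hg
  have h2 : (botAdj (C := C)).unit.app (R.functor ⋙ AddCommGrpCat.free.{u}) ≫
      (sheafToPresheaf _ _).map (ofFam R P x hx) = liftPre R P x hx := by
    have e : (botAdj (C := C)).homEquiv _ P (ofFam R P x hx) =
        (botAdj (C := C)).unit.app _ ≫ (sheafToPresheaf _ _).map (ofFam R P x hx) :=
      (botAdj (C := C)).homEquiv_unit _ _ _
    rw [← e, ofFam, Equiv.apply_symm_apply]
  have h3 := ConcreteCategory.congr_hom (NatTrans.congr_app h2 (op V))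
    (FreeAbelianGroup.of (⟨g, hg⟩ : R.functor.obj (op V)))
  refine (Eq.trans rfl h3).trans ?_
  change FreeAbelianGroup.lift (fun f : R.functor.obj (op V) => (x f.1 f.2 : P.obj.obj (op V)))
    (FreeAbelianGroup.of (⟨g, hg⟩ : R.functor.obj (op V))) = _
  rw [FreeAbelianGroup.lift_apply_of]

theorem ofFam_famOf (ψ : ZR R ⟶ P) :
    ofFam R P (famOf R P ψ) (famOf_sieveCompatible R P ψ) = ψ := by
  apply ((botAdj (C := C)).homEquiv _ P).injective
  rw [ofFam, Equiv.apply_symm_apply, Adjunction.homEquiv_unit]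
  apply NatTrans.ext
  funext V
  apply AddCommGrpCat.hom_ext
  apply FreeAbelianGroup.lift_ext
  intro f
  change FreeAbelianGroup.lift (fun f : R.functor.obj V => (famOf R P ψ f.1 f.2 : P.obj.obj V))
      (FreeAbelianGroup.of f) =
    (ψ.hom.app V).hom ((((botAdj (C := C)).unit.app (R.functor ⋙ AddCommGrpCat.free.{u})).app V).hom
      (FreeAbelianGroup.of f))
  rw [FreeAbelianGroup.lift_apply_of]
  rfl

theorem hom_ext_famOf {ψ ψ' : ZR R ⟶ P} (h : famOf R P ψ = famOf R P ψ') : ψ = ψ' := by
  rw [← ofFam_famOf R P ψ, ← ofFam_famOf R P ψ']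
  congr 1

end Families

section Exactness

/-- sheafification of presheaves (seen as sheaves for `⊥`) is left adjoint to the inclusion. -/
noncomputable def sheafifyAdjBot :
    sheafToPresheaf (⊥ : GrothendieckTopology C) (Type u) ⋙ presheafToSheaf J (Type u) ⊣
      sheafToPresheaf J (Type u) ⋙ (sheafBotEquivalence (C := C) (Type u)).inverse :=
  (sheafBotEquivalence (C := C) (Type u)).toAdjunction.comp (sheafificationAdjunction J (Type u))

noncomputable def pushSetIso :
    sheafToPresheaf J (Type u) ⋙ (sheafBotEquivalence (C := C) (Type u)).inverse ≅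
      (𝟭 C).sheafPushforwardContinuous (Type u) ⊥ J :=
  NatIso.ofComponents (fun F => (fullyFaithfulSheafToPresheaf _ _).preimageIso
    (Functor.leftUnitor F.obj).symm) (by
      intro F G f
      apply Sheaf.hom_ext
      ext V x
      rfl)

instance preservesFiniteLimits_pullSet_id :
    PreservesFiniteLimits ((𝟭 C).sheafPullback (Type u) ⊥ J) := by
  have : PreservesFiniteLimits
      (sheafToPresheaf (⊥ : GrothendieckTopology C) (Type u) ⋙ presheafToSheaf J (Type u)) :=
    comp_preservesFiniteLimits _ _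
  exact preservesFiniteLimits_of_natIso
    (((sheafifyAdjBot J).ofNatIsoRight (pushSetIso J)).leftAdjointUniq
      ((𝟭 C).sheafAdjunctionContinuous (Type u) ⊥ J))

end Exactness

section PullZR

open PushAcyc

variable {X : C} (R : Sieve X)

/-- post-composition of a family with a morphism. -/
def mapFam {P P' : PAb C} (α : P ⟶ P')
    (x : Presieve.FamilyOfElements (P.obj ⋙ forget AddCommGrpCat.{u}) R.arrows) :
    Presieve.FamilyOfElements (P'.obj ⋙ forget AddCommGrpCat.{u}) R.arrows :=
  fun V g hg => (α.hom.app (op V)).hom (x g hg)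

theorem mapFam_sieveCompatible {P P' : PAb C} (α : P ⟶ P')
    (x : Presieve.FamilyOfElements (P.obj ⋙ forget AddCommGrpCat.{u}) R.arrows)
    (hx : x.SieveCompatible) : (mapFam R α x).SieveCompatible := by
  intro V W g h hg
  change (α.hom.app (op W)).hom (x (h ≫ g) _) = (P'.obj.map h.op).hom ((α.hom.app (op V)).hom (x g hg))
  rw [hx g h hg]
  exact ConcreteCategory.congr_hom (α.hom.naturality h.op) (x g hg)

theorem ofFam_comp {P P' : PAb C} (α : P ⟶ P')
    (x : Presieve.FamilyOfElements (P.obj ⋙ forget AddCommGrpCat.{u}) R.arrows)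
    (hx : x.SieveCompatible) :
    ofFam R P x hx ≫ α = ofFam R P' (mapFam R α x) (mapFam_sieveCompatible R α x hx) := by
  apply hom_ext_famOf
  rw [famOf_ofFam]
  funext V g hg
  rw [famOf_comp, famOf_ofFam]
  rfl

/-- the family of restrictions of a section of a sheaf. -/
def restrFam (G : Sheaf J AddCommGrpCat.{u}) (s : G.obj.obj (op X)) :
    Presieve.FamilyOfElements (((ι J).obj G).obj ⋙ forget AddCommGrpCat.{u}) R.arrows :=
  fun V g _ => (G.obj.map g.op).hom s

theorem restrFam_sieveCompatible (G : Sheaf J AddCommGrpCat.{u}) (s : G.obj.obj (op X)) :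
    (restrFam J R G s).SieveCompatible := by
  intro V W g h hg
  change (G.obj.map (h ≫ g).op).hom s = (G.obj.map h.op).hom ((G.obj.map g.op).hom s)
  rw [op_comp, G.obj.map_comp]
  rfl

theorem restrFam_map {G G' : Sheaf J AddCommGrpCat.{u}} (a : G ⟶ G') (s : G.obj.obj (op X)) :
    restrFam J R G' ((a.hom.app (op X)).hom s) = mapFam R ((ι J).map a) (restrFam J R G s) := by
  funext V g hg
  change (G'.obj.map g.op).hom ((a.hom.app (op X)).hom s) =
    (a.hom.app (op V)).hom ((G.obj.map g.op).hom s)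
  exact (ConcreteCategory.congr_hom (a.hom.naturality g.op) s).symm

theorem isSheafFor_forget (hR : R ∈ J X) (G : Sheaf J AddCommGrpCat.{u}) :
    Presieve.IsSheafFor (G.obj ⋙ forget AddCommGrpCat.{u}) R.arrows :=
  ((Presheaf.isSheaf_iff_isSheaf_forget J G.obj (forget AddCommGrpCat.{u})).1 G.property).isSheafFor
    R hR

/-- gluing a compatible family of sections of a sheaf over a covering sieve. -/
noncomputable def amalg (hR : R ∈ J X) (G : Sheaf J AddCommGrpCat.{u})
    (x : Presieve.FamilyOfElements (((ι J).obj G).obj ⋙ forget AddCommGrpCat.{u}) R.arrows)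
    (hx : x.SieveCompatible) : G.obj.obj (op X) :=
  (isSheafFor_forget J R hR G).amalgamate x
    ((Presieve.compatible_iff_sieveCompatible
      (P := G.obj ⋙ forget AddCommGrpCat.{u}) (S := R) x).2 hx)

theorem restrFam_amalg (hR : R ∈ J X) (G : Sheaf J AddCommGrpCat.{u})
    (x : Presieve.FamilyOfElements (((ι J).obj G).obj ⋙ forget AddCommGrpCat.{u}) R.arrows)
    (hx : x.SieveCompatible) : restrFam J R G (amalg J R hR G x hx) = x := by
  funext V g hg
  exact (isSheafFor_forget J R hR G).valid_glue _ g hg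

theorem amalg_restrFam (hR : R ∈ J X) (G : Sheaf J AddCommGrpCat.{u}) (s : G.obj.obj (op X)) :
    amalg J R hR G (restrFam J R G s) (restrFam_sieveCompatible J R G s) = s := by
  symm
  apply (isSheafFor_forget J R hR G).isSeparatedFor.ext
  intro V g hg
  have h := restrFam_amalg J R hR G (restrFam J R G s) (restrFam_sieveCompatible J R G s)
  exact (congrFun (congrFun (congrFun h V) g) hg).symm

/-- `a(ℤ[R]) ≅ ℤ_X` for a covering sieve `R` of `X`. -/
noncomputable def pullZRIso (hR : R ∈ J X) :
    (pull J ⊥ (𝟭 C)).obj (ZR R) ≅ CohCx.freeSheaf J X :=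
  Coyoneda.ext _ _
    (fun {G} φ => CohFree.ofSect J X G (amalg J R hR G
      (famOf R ((ι J).obj G) ((adjP J ⊥ (𝟭 C)).homEquiv _ _ φ))
      (famOf_sieveCompatible R _ _)))
    (fun {G} ψ => ((adjP J ⊥ (𝟭 C)).homEquiv _ _).symm
      (ofFam R ((ι J).obj G) (restrFam J R G (CohFree.evalGen J X G ψ))
        (restrFam_sieveCompatible J R G _)))
    (fun {G} φ => by
      rw [← Equiv.eq_symm_apply, Equiv.symm_symm]
      apply hom_ext_famOf
      rw [famOf_ofFam, CohFree.evalGen_ofSect, restrFam_amalg])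
    (fun {G} ψ => by
      have h := CohFree.ofSect_evalGen J X G ψ
      conv_rhs => rw [← h]
      congr 1
      simp only [Equiv.apply_symm_apply, famOf_ofFam]
      exact amalg_restrFam J R hR G _)
    (fun {G G'} ψ a => by
      rw [← Adjunction.homEquiv_naturality_right_symm, ofFam_comp]
      congr 2
      rw [← restrFam_map]
      rfl)

end PullZR

section Forward

open PushAcyc

/-- acyclicity on objects implies vanishing of the presheaf cohomology of covering sieves. -/
theorem ext_ZR_eq_zero (F : Sheaf J AddCommGrpCat.{u})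
    (hF : ∀ (U : C) (q : ℕ), Subsingleton (CohSite.HU F (q + 1) U)) {X : C} (R : Sieve X)
    (hR : R ∈ J X) (q : ℕ) (x : Ext.{u} (ZR R) ((ι J).obj F) (q + 1)) : x = 0 := by
  refine ext_push_eq_zero J ⊥ (𝟭 C) F hF q (ZR R) ?_ x
  intro p y
  refine AcyclicAdj.ext_eq_zero_of_iso (pullZRIso J R hR) (p + 1) ?_ y
  intro z
  haveI := hF X p
  exact Subsingleton.elim (α := CohSite.HU F (p + 1) X) z 0

end Forward

section Converse

open PushAcyc TorsFree

/-- vanishing of the presheaf cohomology of covering sieves. -/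
def HypB (G : Sheaf J AddCommGrpCat.{u}) : Prop :=
  ∀ (X : C) (R : Sieve X), R ∈ J X → ∀ (q : ℕ) (x : Ext.{u} (ZR R) ((ι J).obj G) (q + 1)), x = 0

variable (F : Sheaf J AddCommGrpCat.{u})

/-- `0 → F → I → Q → 0` with `I` injective. -/
noncomputable def shS : ShortComplex (Sheaf J AddCommGrpCat.{u}) :=
  ShortComplex.mk (Injective.ι F) (cokernel.π (Injective.ι F)) (cokernel.condition _)

theorem shS_shortExact : (shS J F).ShortExact where
  exact := ShortComplex.exact_cokernel _
  mono_f := inferInstanceAs (Mono (Injective.ι F))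
  epi_g := inferInstanceAs (Epi (cokernel.π _))

instance : Injective (shS J F).X₂ := inferInstanceAs (Injective (Injective.under F))

instance : (ι J).Additive := inferInstanceAs (CohSite.push J ⊥ (𝟭 C)).Additive

instance : PreservesFiniteLimits (ι J) :=
  haveI : PreservesLimitsOfSize.{0, 0} (ι J) :=
    (adjP J ⊥ (𝟭 C)).rightAdjoint_preservesLimits
  PreservesLimitsOfSize.preservesFiniteLimits.{0, 0} _

theorem ιS_exact : ((shS J F).map (ι J)).Exact ∧ Mono ((ι J).map (shS J F).f) :=
  (Functor.preservesFiniteLimits_iff_forall_exact_map_and_mono (ι J)).1 inferInstance _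
    (shS_shortExact J F)

instance : Mono ((ι J).map (shS J F).f) := (ιS_exact J F).2

/-- `0 → ιF → ιI → Q' → 0` in presheaves. -/
noncomputable def preS : ShortComplex (PAb C) :=
  ShortComplex.mk ((ι J).map (shS J F).f) (cokernel.π ((ι J).map (shS J F).f))
    (cokernel.condition _)

theorem preS_shortExact : (preS J F).ShortExact where
  exact := ShortComplex.exact_cokernel _
  mono_f := inferInstanceAs (Mono ((ι J).map (shS J F).f))
  epi_g := inferInstanceAs (Epi (cokernel.π _))

/-- `Q' → ιQ`. -/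
noncomputable def ν : (preS J F).X₃ ⟶ (ι J).obj (shS J F).X₃ :=
  cokernel.desc ((shS J F).map (ι J)).f ((shS J F).map (ι J)).g ((shS J F).map (ι J)).zero

theorem preS_g_ν : (preS J F).g ≫ ν J F = (ι J).map (shS J F).g :=
  cokernel.π_desc _ _ _

instance mono_ν : Mono (ν J F) := (ιS_exact J F).1.mono_cokernelDesc

theorem surjective_app_of_epi_bot {P P' : PAb C} (α : P ⟶ P') [Epi α] (V : Cᵒᵖ) :
    Function.Surjective (α.hom.app V).hom := by
  intro s
  have h : Presheaf.IsLocallySurjective (⊥ : GrothendieckTopology C) α.hom :=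
    (Sheaf.isLocallySurjective_iff_epi' (φ := α)).2 inferInstance
  have h1 := h.imageSieve_mem (U := V.unop) s
  have h2 : Presheaf.imageSieve α.hom s = ⊤ := h1
  have h3 : (Presheaf.imageSieve α.hom s) (𝟙 V.unop) := by rw [h2]; trivial
  obtain ⟨t, ht⟩ := h3
  refine ⟨t, ?_⟩
  rw [show (𝟙 V.unop).op = 𝟙 V from rfl, P'.obj.map_id] at ht
  exact ht

theorem ν_app_injective (V : Cᵒᵖ) : Function.Injective ((ν J F).hom.app V).hom :=
  injective_app_of_mono (ν J F) V

theorem preS_g_ν_app (V : C) (t : (shS J F).X₂.obj.obj (op V)) :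
    ((ν J F).hom.app (op V)).hom (((preS J F).g.hom.app (op V)).hom t) =
      ((shS J F).g.hom.app (op V)).hom t := by
  have h := preS_g_ν J F
  rw [Sheaf.hom_ext_iff] at h
  exact ConcreteCategory.congr_hom (congr_app h (op V)) t

/-- key step: `I(X) → Q(X)` is surjective if `H^1(R, F) = 0` for covering sieves. -/
theorem surjective_g_of_hypB (hB : ∀ (X : C) (R : Sieve X), R ∈ J X →
      ∀ (x : Ext.{u} (ZR R) ((ι J).obj F) 1), x = 0)
    (X : C) (s : (shS J F).X₃.obj.obj (op X)) :
    ∃ t : (shS J F).X₂.obj.obj (op X), ((shS J F).g.hom.app (op X)).hom t = s := by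
  haveI : Epi (shS J F).g := (shS_shortExact J F).epi_g
  have hls : Presheaf.IsLocallySurjective J (shS J F).g.hom :=
    (Sheaf.isLocallySurjective_iff_epi' (φ := (shS J F).g)).2 inferInstance
  let R : Sieve X := Presheaf.imageSieve (shS J F).g.hom s
  have hR : R ∈ J X := hls.imageSieve_mem s
  have hlift : ∀ ⦃V : C⦄ (g : V ⟶ X), R g → ∃ t : (shS J F).X₂.obj.obj (op V),
      ((shS J F).g.hom.app (op V)).hom t = ((shS J F).X₃.obj.map g.op).hom s :=
    fun V g hg => hg
  choose tl htl using hlift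
  let x' : Presieve.FamilyOfElements ((preS J F).X₃.obj ⋙ forget AddCommGrpCat.{u}) R.arrows :=
    fun V g hg => ((preS J F).g.hom.app (op V)).hom (tl g hg)
  have hν : ∀ ⦃V : C⦄ (g : V ⟶ X) (hg : R g), ((ν J F).hom.app (op V)).hom (x' g hg) =
      ((shS J F).X₃.obj.map g.op).hom s := by
    intro V g hg
    exact (preS_g_ν_app J F V (tl g hg)).trans (htl g hg)
  have hx' : x'.SieveCompatible := by
    intro V W g h hg
    apply ν_app_injective J F (op W)
    have h1 := hν (h ≫ g) (R.downward_closed hg h)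
    have h2 := ConcreteCategory.congr_hom ((ν J F).hom.naturality h.op) (x' g hg)
    refine h1.trans (Eq.trans ?_ h2.symm)
    change _ = ((shS J F).X₃.obj.map h.op).hom (((ν J F).hom.app (op V)).hom (x' g hg))
    rw [hν g hg, op_comp, (shS J F).X₃.obj.map_comp]
    rfl
  let φ : ZR R ⟶ (preS J F).X₃ := ofFam R _ x' hx'
  have hS' := preS_shortExact J F
  obtain ⟨y, hy⟩ := Ext.covariant_sequence_exact₃ (ZR R) hS' (Ext.mk₀ φ) (rfl : 0 + 1 = 1)
    (hB X R hR _)
  obtain ⟨ψ, rfl⟩ := (Ext.mk₀_bijective _ _).2 y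
  rw [Ext.mk₀_comp_mk₀] at hy
  have hψ : ψ ≫ (preS J F).g = φ := (Ext.mk₀_bijective _ _).1 hy
  let t' := famOf R _ ψ
  have ht' : t'.SieveCompatible := famOf_sieveCompatible R _ ψ
  have hπt' : ∀ ⦃V : C⦄ (g : V ⟶ X) (hg : R g),
      ((preS J F).g.hom.app (op V)).hom (t' g hg) = x' g hg := by
    intro V g hg
    have h1 : famOf R _ (ψ ≫ (preS J F).g) g hg = x' g hg := by
      rw [hψ]
      exact congrFun (congrFun (congrFun (famOf_ofFam R _ x' hx') V) g) hg
    exact h1
  let t := amalg J R hR (shS J F).X₂ t' ht'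
  have htr : ∀ ⦃V : C⦄ (g : V ⟶ X) (hg : R g),
      ((shS J F).X₂.obj.map g.op).hom t = t' g hg := fun V g hg =>
    congrFun (congrFun (congrFun (restrFam_amalg J R hR (shS J F).X₂ t' ht') V) g) hg
  refine ⟨t, ?_⟩
  apply (isSheafFor_forget J R hR (shS J F).X₃).isSeparatedFor.ext
  intro V g hg
  change ((shS J F).X₃.obj.map g.op).hom (((shS J F).g.hom.app (op X)).hom t) =
    ((shS J F).X₃.obj.map g.op).hom s
  have h1 := ConcreteCategory.congr_hom ((shS J F).g.hom.naturality g.op) t
  refine h1.symm.trans ?_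
  change ((shS J F).g.hom.app (op V)).hom (((shS J F).X₂.obj.map g.op).hom t) = _
  rw [htr g hg, ← hν g hg, ← hπt' g hg]
  exact (preS_g_ν_app J F V (t' g hg)).symm

/-- `H^1(X, F) = 0`. -/
theorem ext_one_eq_zero (hB : HypB J F) (X : C) (x : Ext.{u} (CohCx.freeSheaf J X) F 1) : x = 0 := by
  have hS := shS_shortExact J F
  obtain ⟨y, hy⟩ := Ext.covariant_sequence_exact₁ (CohCx.freeSheaf J X) hS x
    (Ext.eq_zero_of_injective _) (rfl : 0 + 1 = 1)
  obtain ⟨φ, rfl⟩ := (Ext.mk₀_bijective _ _).2 y
  obtain ⟨t, ht⟩ := surjective_g_of_hypB J F (fun X R hR x => hB X R hR 0 x) X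
    (CohFree.evalGen J X _ φ)
  have hφ : CohFree.ofSect J X _ t ≫ (shS J F).g = φ := by
    rw [ofSect_comp, ht]
    exact CohFree.ofSect_evalGen J X _ φ
  rw [← hy, ← hφ, ← Ext.mk₀_comp_mk₀, Ext.comp_assoc_of_second_deg_zero, hS.comp_extClass,
    Ext.comp_zero] <;> rfl

/-- the sequence stays exact in presheaves. -/
theorem ιS_shortExact (hB : HypB J F) : ((shS J F).map (ι J)).ShortExact := by
  have h := ιS_exact J F
  haveI : Epi ((shS J F).map (ι J)).g := by
    haveI : Epi ((ι J).map (shS J F).g).hom := by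
      haveI : ∀ V : Cᵒᵖ, Epi (((ι J).map (shS J F).g).hom.app V) := by
        intro V
        rw [AddCommGrpCat.epi_iff_surjective]
        intro s
        exact surjective_g_of_hypB J F (fun X R hR x => hB X R hR 0 x) V.unop s
      exact NatTrans.epi_of_epi_app _
    exact Sheaf.Hom.epi_of_presheaf_epi _ _ ((ι J).map (shS J F).g)
  exact { exact := h.1, mono_f := h.2, epi_g := inferInstance }

instance : Injective ((shS J F).map (ι J)).X₂ :=
  (ι J).injective_obj_of_injective (inferInstanceAs (Injective (shS J F).X₂))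

theorem hypB_quotient (hB : HypB J F) : HypB J (shS J F).X₃ := by
  intro X R hR q x
  have hS' := ιS_shortExact J F hB
  obtain ⟨y, hy⟩ := Ext.covariant_sequence_exact₃ (ZR R) hS' x (rfl : (q + 1) + 1 = q + 1 + 1)
    (hB X R hR (q + 1) _)
  rw [← hy, Ext.eq_zero_of_injective y, Ext.zero_comp] <;> rfl

end Converse

/-- vanishing of the presheaf cohomology of covering sieves implies acyclicity on objects. -/
theorem ext_freeSheaf_eq_zero : ∀ (q : ℕ) (F : Sheaf J AddCommGrpCat.{u}), HypB J F →
    ∀ (X : C) (x : Ext.{u} (CohCx.freeSheaf J X) F (q + 1)), x = 0 := by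
  intro q
  induction q with
  | zero => exact fun F hB X x => ext_one_eq_zero J F hB X x
  | succ q ih =>
    intro F hB X x
    have hS := shS_shortExact J F
    obtain ⟨y, hy⟩ := Ext.covariant_sequence_exact₁ (CohCx.freeSheaf J X) hS x
      (Ext.eq_zero_of_injective _) (rfl : (q + 1) + 1 = q + 1 + 1)
    rw [← hy, ih _ (hypB_quotient J F hB) X y, Ext.zero_comp] <;> rfl

end Groth.Agent.Lib.Helper21.SieveCoh

namespace Groth.Agent.Lib.Helper21.SieveCoh

variable {C : Type u} [SmallCategory C] (J : GrothendieckTopology C)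

theorem ext_eq_zero_of_iso_right {𝒜 : Type*} [Category 𝒜] [Abelian 𝒜] [HasExt.{u} 𝒜]
    {X Y Y' : 𝒜} (e : Y ≅ Y') (n : ℕ)
    (h : ∀ y : Ext.{u} X Y n, y = 0) (x : Ext.{u} X Y' n) : x = 0 := by
  have h1 : x = (x.comp (Ext.mk₀ e.inv) (add_zero n)).comp (Ext.mk₀ e.hom) (add_zero n) := by
    rw [Ext.comp_assoc_of_third_deg_zero, Ext.mk₀_comp_mk₀, e.inv_hom_id, Ext.comp_mk₀_id]
  rw [h1, h (x.comp (Ext.mk₀ e.inv) (add_zero n)), Ext.zero_comp]

/-- An abelian sheaf is acyclic on all objects iff the presheaf cohomology of all covering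
sieves with values in it vanishes in positive degrees. -/
theorem acyclic_iff (F : Sheaf J AddCommGrpCat.{u}) :
    (∀ (X : C) (q : ℕ), Subsingleton (CohSite.HU F (q + 1) X)) ↔
      ∀ (X : C) (R : Sieve X), R ∈ J X → ∀ q : ℕ,
        Subsingleton (CohCx.HK (J := (⊥ : GrothendieckTopology C))
          ⟨R.functor, Presheaf.isSheaf_bot _⟩ ⟨F.obj, Presheaf.isSheaf_bot _⟩ (q + 1)) := by
  constructor
  · intro hF X R hR q
    have key : ∀ x : Ext.{u} (ZR R) (ιo J F) (q + 1), x = 0 :=
      ext_eq_zero_of_iso_right (ιIso J F) (q + 1) (ext_ZR_eq_zero J F hF R hR q)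
    constructor
    intro x y
    exact (key x).trans (key y).symm
  · intro h X q
    have hB : HypB J F := by
      intro X R hR q x
      refine ext_eq_zero_of_iso_right (ιIso J F).symm (q + 1) ?_ x
      intro y
      haveI := h X R hR q
      exact Subsingleton.elim (α := CohCx.HK (J := (⊥ : GrothendieckTopology C))
          ⟨R.functor, Presheaf.isSheaf_bot _⟩ ⟨F.obj, Presheaf.isSheaf_bot _⟩ (q + 1)) y 0
    have key := ext_freeSheaf_eq_zero J q F hB X
    constructor
    intro x y
    exact (key x).trans (key y).symm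

end Groth.Agent.Lib.Helper21.SieveCoh
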