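import Mathlib
import Groth.Prelude.Def_CechEdge
import Groth.Agent.Lib.Helper21Cech6
import Groth.Agent.Lib.Helper21SieveCoh

/-!
# Helper21: Čech cohomology of a family with values in a presheaf is the presheaf-Ext out of the
free abelian presheaf on the generated sieve
-/

set_option autoImplicit false
universe u
open CategoryTheory CategoryTheory.Limits Opposite Abelian

namespace Groth.Agent.Lib.Helper21.CechSieve

open Groth.Agent.Lib.Helper21.Cech Groth.Agent.Lib.Helper21.SieveCoh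

variable {C : Type u} [SmallCategory C] [HasPullbacks C]
variable {U : C} {ι : Type u} (Y : ι → Over U)

/-- the sieve generated by the family. -/
abbrev RY : Sieve U := Sieve.ofArrows (fun i => (Y i).left) (fun i => (Y i).hom)

theorem mem_RY (k : ι) : (RY Y) (Y k).hom := Sieve.ofArrows_mk _ _ k

section comp

variable (P : Cᵒᵖ ⥤ AddCommGrpCat.{u})

/-- the components of a degree-`0` Čech class. -/
noncomputable def comp (k : ι) : CohCx.cechH P Y 0 →+ P.obj (op (Y k).left) :=
  (inv ((CechEdge.cx P Y).homologyπ 0) ≫ (CechEdge.cx P Y).iCycles 0 ≫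
    evM Y P (Y k).hom (fun _ => idPt Y k) (fun _ => idPt_str Y k)).hom

theorem comp_π (k : ι) (z : (CechEdge.cx P Y).cycles 0) :
    comp Y P k (((CechEdge.cx P Y).homologyπ 0).hom z) =
      xk Y P (((CechEdge.cx P Y).iCycles 0).hom z) k := by
  change ((CechEdge.cx P Y).homologyπ 0 ≫ inv ((CechEdge.cx P Y).homologyπ 0) ≫
    (CechEdge.cx P Y).iCycles 0 ≫
    evM Y P (Y k).hom (fun _ => idPt Y k) (fun _ => idPt_str Y k)).hom z = _
  rw [IsIso.hom_inv_id_assoc]
  rfl

theorem exists_π (x : CohCx.cechH P Y 0) :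
    ∃ z : (CechEdge.cx P Y).cycles 0, ((CechEdge.cx P Y).homologyπ 0).hom z = x :=
  (homologyπ_bijective Y P).2 x

theorem comp_ext (x x' : CohCx.cechH P Y 0) (h : ∀ k, comp Y P k x = comp Y P k x') : x = x' := by
  obtain ⟨z, rfl⟩ := exists_π Y P x
  obtain ⟨z', rfl⟩ := exists_π Y P x'
  congr 1
  apply iCycles_injective Y P
  apply X0_ext
  intro k
  have := h k
  rwa [comp_π, comp_π] at this

theorem comp_compatible (x : CohCx.cechH P Y 0) :
    Presieve.Arrows.Compatible (P ⋙ forget _) (fun k => (Y k).hom)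
      (fun k => comp Y P k x) := by
  obtain ⟨z, rfl⟩ := exists_π Y P x
  have h := (d_eq_zero_iff Y P (((CechEdge.cx P Y).iCycles 0).hom z)).1 (d_iCycles Y P z)
  intro i j Z gi gj hij
  have := h i j Z gi gj hij
  simpa only [comp_π] using this

theorem exists_of_compatible (x : ∀ k, P.obj (op (Y k).left))
    (hx : Presieve.Arrows.Compatible (P ⋙ forget _) (fun k => (Y k).hom) x) :
    ∃ c : CohCx.cechH P Y 0, ∀ k, comp Y P k c = x k := by
  have hd : ((CechEdge.cx P Y).d 0 1).hom (mkX0 Y P x) = 0 := by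
    rw [d_eq_zero_iff]
    have hfun : xk Y P (mkX0 Y P x) = x := funext (fun k => xk_mkX0 Y P x k)
    rw [hfun]
    exact hx
  obtain ⟨z, hz⟩ := exists_cycle Y P _ hd
  refine ⟨((CechEdge.cx P Y).homologyπ 0).hom z, fun k => ?_⟩
  rw [comp_π, hz, xk_mkX0]

variable {P} in
theorem comp_natural {Q : Cᵒᵖ ⥤ AddCommGrpCat.{u}} (φ : P ⟶ Q) (x : CohCx.cechH P Y 0) (k : ι) :
    comp Y Q k (CechEdge.cechHMap Y φ 0 x) = (φ.app (op (Y k).left)).hom (comp Y P k x) := by
  obtain ⟨z, rfl⟩ := exists_π Y P x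
  have h1 : CechEdge.cechHMap Y φ 0 (((CechEdge.cx P Y).homologyπ 0).hom z) =
      ((CechEdge.cx Q Y).homologyπ 0).hom
        ((HomologicalComplex.cyclesMap ((CechEdge.cxFunctor Y).map φ) 0).hom z) :=
    ConcreteCategory.congr_hom
      (HomologicalComplex.homologyπ_naturality ((CechEdge.cxFunctor Y).map φ) 0) z
  rw [h1, comp_π, comp_π]
  have h2 : ((CechEdge.cx Q Y).iCycles 0).hom
      ((HomologicalComplex.cyclesMap ((CechEdge.cxFunctor Y).map φ) 0).hom z) =
      (((CechEdge.cxFunctor Y).map φ).f 0).hom (((CechEdge.cx P Y).iCycles 0).hom z) :=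
    ConcreteCategory.congr_hom
      (HomologicalComplex.cyclesMap_i ((CechEdge.cxFunctor Y).map φ) 0) z
  rw [h2]
  exact ConcreteCategory.congr_hom
    (cxMap_evM Y φ (Y k).hom (fun _ => idPt Y k) (fun _ => idPt_str Y k))
    (((CechEdge.cx P Y).iCycles 0).hom z)

end comp

section degreeZero

theorem genR_congr {X : C} (R : Sieve X) {V : C} {g g' : V ⟶ X} (h : g = g') (hg : R g)
    (hg' : R g') : genR R g hg = genR R g' hg' := by
  subst h
  rfl

theorem gen_compatible :
    Presieve.Arrows.Compatible ((ZR (RY Y)).obj ⋙ forget _) (fun k => (Y k).hom)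
      (fun k => genR (RY Y) (Y k).hom (mem_RY Y k)) := by
  intro i j Z gi gj hij
  change ((ZR (RY Y)).obj.map gi.op).hom (genR (RY Y) (Y i).hom (mem_RY Y i)) =
    ((ZR (RY Y)).obj.map gj.op).hom (genR (RY Y) (Y j).hom (mem_RY Y j))
  rw [genR_map, genR_map]
  exact genR_congr (RY Y) hij _ _

/-- the universal degree-`0` Čech class. -/
noncomputable def γ : CohCx.cechH (ZR (RY Y)).obj Y 0 :=
  (exists_of_compatible Y (ZR (RY Y)).obj _ (gen_compatible Y)).choose

theorem comp_γ (k : ι) :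
    comp Y (ZR (RY Y)).obj k (γ Y) = genR (RY Y) (Y k).hom (mem_RY Y k) :=
  (exists_of_compatible Y (ZR (RY Y)).obj _ (gen_compatible Y)).choose_spec k

variable (P : PAb C)

theorem comp_cechHMap_γ (ψ : ZR (RY Y) ⟶ P) (k : ι) :
    comp Y P.obj k (CechEdge.cechHMap Y ψ.hom 0 (γ Y)) =
      famOf (RY Y) P ψ (Y k).hom (mem_RY Y k) := by
  rw [comp_natural, comp_γ]
  rfl

/-- morphisms out of `ℤ[R]` give degree-`0` Čech classes. -/
noncomputable def d0 : (ZR (RY Y) ⟶ P) →+ CohCx.cechH P.obj Y 0 where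
  toFun ψ := CechEdge.cechHMap Y ψ.hom 0 (γ Y)
  map_zero' := by
    apply comp_ext
    intro k
    rw [comp_cechHMap_γ, map_zero]
    rfl
  map_add' ψ ψ' := by
    apply comp_ext
    intro k
    rw [map_add, comp_cechHMap_γ, comp_cechHMap_γ, comp_cechHMap_γ]
    change ((ψ + ψ').hom.app _).hom _ = _
    rw [Sheaf.Hom.add_app]
    rfl

theorem comp_d0 (ψ : ZR (RY Y) ⟶ P) (k : ι) :
    comp Y P.obj k (d0 Y P ψ) = famOf (RY Y) P ψ (Y k).hom (mem_RY Y k) :=
  comp_cechHMap_γ Y P ψ k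

theorem d0_natural {P P' : PAb C} (α : P ⟶ P') (ψ : ZR (RY Y) ⟶ P) :
    d0 Y P' (ψ ≫ α) = CechEdge.cechHMap Y α.hom 0 (d0 Y P ψ) :=
  cechHMap_comp Y ψ.hom α.hom 0 (γ Y)

theorem d0_injective : Function.Injective (d0 Y P) := by
  intro ψ ψ' h
  apply hom_ext_famOf
  funext V g hg
  obtain ⟨k, a, rfl⟩ := (Sieve.mem_ofArrows_iff _ _ g).1 hg
  have h1 := famOf_sieveCompatible (RY Y) P ψ (Y k).hom a (mem_RY Y k)
  have h2 := famOf_sieveCompatible (RY Y) P ψ' (Y k).hom a (mem_RY Y k)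
  have h3 : famOf (RY Y) P ψ (Y k).hom (mem_RY Y k) = famOf (RY Y) P ψ' (Y k).hom (mem_RY Y k) := by
    rw [← comp_d0, ← comp_d0, h]
  exact h1.trans ((congrArg _ h3).trans h2.symm)

theorem d0_surjective : Function.Surjective (d0 Y P) := by
  intro c
  have hx := comp_compatible Y P.obj c
  let fam := hx.familyOfElements.sieveExtend
  have hfam : fam.Compatible := hx.familyOfElements_compatible.sieveExtend
  have hfam' : Presieve.FamilyOfElements.SieveCompatible
      (P := P.obj ⋙ forget AddCommGrpCat.{u}) (S := RY Y) fam :=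
    (Presieve.compatible_iff_sieveCompatible (P := P.obj ⋙ forget AddCommGrpCat.{u})
      (S := RY Y) fam).1 hfam
  refine ⟨ofFam (RY Y) P fam hfam', ?_⟩
  apply comp_ext
  intro k
  rw [comp_d0, famOf_ofFam]
  have h1 := Presieve.extend_agrees hx.familyOfElements_compatible
    (Presieve.ofArrows.mk (Y := fun i => (Y i).left) (f := fun i => (Y i).hom) k)
  exact h1.trans (hx.familyOfElements_ofArrows_mk k)

/-- `Hom(ℤ[R], P) ≃ Ȟ^0(Y, P)`. -/
noncomputable def d0Equiv : (ZR (RY Y) ⟶ P) ≃+ CohCx.cechH P.obj Y 0 :=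
  AddEquiv.ofBijective (d0 Y P) ⟨d0_injective Y P, d0_surjective Y P⟩

end degreeZero

end Groth.Agent.Lib.Helper21.CechSieve
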