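import Mathlib
import Groth.Agent.Lib.Helper21CechSieve

/-!
# Helper21: `Ȟ^q(Y, M) ≅ Ext^q(ℤ[R_Y], M)` in presheaves
-/

set_option autoImplicit false
universe u
open CategoryTheory CategoryTheory.Limits Opposite Abelian

namespace Groth.Agent.Lib.Helper21.CechSieve

open Groth.Agent.Lib.Helper21.Cech Groth.Agent.Lib.Helper21.SieveCoh

/-- two quotients of the same group with the same kernel are isomorphic. -/
noncomputable def addEquivOfKerEq {A B₁ B₂ : Type*} [AddCommGroup A] [AddCommGroup B₁]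
    [AddCommGroup B₂] (f₁ : A →+ B₁) (f₂ : A →+ B₂) (h₁ : Function.Surjective f₁)
    (h₂ : Function.Surjective f₂) (hk : ∀ a, f₁ a = 0 ↔ f₂ a = 0) : B₁ ≃+ B₂ :=
  have hker : f₁.ker = f₂.ker := by
    ext a
    exact hk a
  (QuotientAddGroup.quotientKerEquivOfSurjective f₁ h₁).symm.trans
    ((QuotientAddGroup.quotientAddEquivOfEq hker).trans
      (QuotientAddGroup.quotientKerEquivOfSurjective f₂ h₂))

variable {C : Type u} [SmallCategory C]

instance isEquivalence_sheafToPresheaf_bot :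
    (sheafToPresheaf (⊥ : GrothendieckTopology C) AddCommGrpCat.{u}).IsEquivalence :=
  inferInstanceAs (sheafBotEquivalence (C := C) AddCommGrpCat.{u}).functor.IsEquivalence

/-- the standard injective short exact sequence. -/
noncomputable def Sinj (M : PAb C) : ShortComplex (PAb C) :=
  ShortComplex.mk (Injective.ι M) (cokernel.π (Injective.ι M)) (cokernel.condition _)

theorem Sinj_shortExact (M : PAb C) : (Sinj M).ShortExact where
  exact := ShortComplex.exact_cokernel _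
  mono_f := inferInstanceAs (Mono (Injective.ι M))
  epi_g := inferInstanceAs (Epi (cokernel.π (Injective.ι M)))

instance (M : PAb C) : Injective (Sinj M).X₂ := inferInstanceAs (Injective (Injective.under M))

/-- the underlying sequence of presheaves. -/
noncomputable def Sinj' (M : PAb C) : ShortComplex (Cᵒᵖ ⥤ AddCommGrpCat.{u}) :=
  (Sinj M).map (sheafToPresheaf (⊥ : GrothendieckTopology C) AddCommGrpCat.{u})

theorem Sinj'_shortExact (M : PAb C) : (Sinj' M).ShortExact :=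
  (Sinj_shortExact M).map_of_exact _

variable [HasPullbacks C] {U : C} {ι : Type u} (Y : ι → Over U)

theorem isZero_cechH_injective (I : PAb C) [Injective I] (p : ℕ) :
    IsZero (CohCx.cechH I.obj Y (p + 1)) := by
  let E : PAb C := ⟨Eff I.obj, Presheaf.isSheaf_bot _⟩
  let j : I ⟶ E := ⟨effι I.obj⟩
  haveI : Mono j := Sheaf.Hom.mono_of_presheaf_mono _ _ j
  let r : E ⟶ I := Injective.factorThru (𝟙 I) j
  have hr : j ≫ r = 𝟙 I := Injective.comp_factorThru _ _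
  have hr' : effι I.obj ≫ r.hom = 𝟙 I.obj := congrArg (fun f => f.hom) hr
  haveI : Subsingleton (CohCx.cechH (Eff I.obj) Y (p + 1)) :=
    AddCommGrpCat.subsingleton_of_isZero (isZero_cechH_eff Y I.obj p)
  haveI : Subsingleton (CohCx.cechH I.obj Y (p + 1)) := by
    refine ⟨fun x y => ?_⟩
    have hx : ∀ z : CohCx.cechH I.obj Y (p + 1), z = 0 := by
      intro z
      have h1 := cechHMap_id Y I.obj (p + 1) z
      rw [← hr', cechHMap_comp] at h1
      rw [← h1, Subsingleton.elim (CechEdge.cechHMap Y (effι I.obj) (p + 1) z) 0, map_zero]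
    rw [hx x, hx y]
  exact AddCommGrpCat.isZero_of_subsingleton _

omit [HasPullbacks C] in
theorem extδ_surjective (X M : PAb C) (n : ℕ) :
    Function.Surjective ((Sinj_shortExact M).extClass.postcomp X (rfl : n + 1 = n + 1)) := by
  intro x
  exact Ext.covariant_sequence_exact₁ X (Sinj_shortExact M) x (Ext.eq_zero_of_injective _) rfl

omit [HasPullbacks C] in
theorem extδ_injective (X M : PAb C) (n : ℕ) :
    Function.Injective
      ((Sinj_shortExact M).extClass.postcomp X (rfl : (n + 1) + 1 = n + 2)) := by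
  rw [injective_iff_map_eq_zero]
  intro x hx
  obtain ⟨x₂, rfl⟩ := Ext.covariant_sequence_exact₃ X (Sinj_shortExact M) x rfl hx
  rw [Ext.eq_zero_of_injective x₂, Ext.zero_comp]

theorem Cδ_injective_Sinj (M : PAb C) (n : ℕ) :
    Function.Injective (Cδ Y (Sinj' M) (Sinj'_shortExact M) (n + 1)) := by
  rw [injective_iff_map_eq_zero]
  intro x hx
  obtain ⟨y, rfl⟩ := cech_exact₃ Y (Sinj' M) (Sinj'_shortExact M) (n + 1) x hx
  haveI : Subsingleton (CohCx.cechH (Sinj' M).X₂ Y (n + 1)) :=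
    AddCommGrpCat.subsingleton_of_isZero (isZero_cechH_injective Y (Sinj M).X₂ n)
  rw [Subsingleton.elim y 0, map_zero]

theorem Cδ_surjective_Sinj (M : PAb C) (n : ℕ) :
    Function.Surjective (Cδ Y (Sinj' M) (Sinj'_shortExact M) n) :=
  Cδ_surjective Y (Sinj' M) (Sinj'_shortExact M) n (isZero_cechH_injective Y (Sinj M).X₂ n)

/-- the degree-one comparison map on the Ext side. -/
noncomputable def f₂ (M : PAb C) :
    CohCx.cechH (Sinj M).X₃.obj Y 0 →+ Ext (ZR (RY Y)) M 1 :=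
  ((Sinj_shortExact M).extClass.postcomp (ZR (RY Y)) (zero_add 1)).comp
    (Ext.addEquiv₀.symm.toAddMonoidHom.comp (d0Equiv Y (Sinj M).X₃).symm.toAddMonoidHom)

theorem f₂_d0 (M : PAb C) (φ : ZR (RY Y) ⟶ (Sinj M).X₃) :
    f₂ Y M (d0 Y (Sinj M).X₃ φ) = (Ext.mk₀ φ).comp (Sinj_shortExact M).extClass (zero_add 1) := by
  change ((Ext.mk₀ ((d0Equiv Y (Sinj M).X₃).symm (d0Equiv Y (Sinj M).X₃ φ))).comp
    (Sinj_shortExact M).extClass (zero_add 1)) = _
  rw [AddEquiv.symm_apply_apply]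

theorem f₂_surjective (M : PAb C) : Function.Surjective (f₂ Y M) := by
  intro x
  obtain ⟨x₃, hx₃⟩ := extδ_surjective (ZR (RY Y)) M 0 x
  refine ⟨d0 Y (Sinj M).X₃ (Ext.addEquiv₀ x₃), ?_⟩
  rw [f₂_d0, Ext.mk₀_addEquiv₀_apply]
  exact hx₃

theorem f₂_eq_zero_iff (M : PAb C) (a : CohCx.cechH (Sinj M).X₃.obj Y 0) :
    Cδ Y (Sinj' M) (Sinj'_shortExact M) 0 a = 0 ↔ f₂ Y M a = 0 := by
  constructor
  · intro ha
    obtain ⟨b, rfl⟩ := cech_exact₃ Y (Sinj' M) (Sinj'_shortExact M) 0 a ha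
    obtain ⟨ψ, rfl⟩ := d0_surjective Y (Sinj M).X₂ b
    have h1 : CechEdge.cechHMap Y (Sinj' M).g 0 (d0 Y (Sinj M).X₂ ψ) =
        d0 Y (Sinj M).X₃ (ψ ≫ (Sinj M).g) := (d0_natural Y (Sinj M).g ψ).symm
    rw [h1, f₂_d0, ← Ext.mk₀_comp_mk₀, Ext.comp_assoc_of_second_deg_zero,
      (Sinj_shortExact M).comp_extClass, Ext.comp_zero] <;> rfl
  · intro ha
    obtain ⟨φ, rfl⟩ := d0_surjective Y (Sinj M).X₃ a
    rw [f₂_d0] at ha
    obtain ⟨x₂, hx₂⟩ := Ext.covariant_sequence_exact₃ (ZR (RY Y)) (Sinj_shortExact M)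
      (Ext.mk₀ φ) (zero_add 1) ha
    have h2 : φ = Ext.addEquiv₀ x₂ ≫ (Sinj M).g := by
      apply Ext.addEquiv₀.symm.injective
      change Ext.mk₀ φ = Ext.mk₀ _
      rw [← Ext.mk₀_comp_mk₀, Ext.mk₀_addEquiv₀_apply]
      exact hx₂.symm
    rw [h2, d0_natural]
    exact Cδ_cechHMap_g Y (Sinj' M) (Sinj'_shortExact M) 0 _

/-- the comparison isomorphisms, by dimension shifting. -/
theorem nonempty_addEquiv : ∀ (q : ℕ) (M : PAb C),
    Nonempty (CohCx.cechH M.obj Y q ≃+ Ext (ZR (RY Y)) M q)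
  | 0, M => ⟨(d0Equiv Y M).symm.trans Ext.addEquiv₀.symm⟩
  | 1, M => ⟨addEquivOfKerEq (Cδ Y (Sinj' M) (Sinj'_shortExact M) 0) (f₂ Y M)
      (Cδ_surjective_Sinj Y M 0) (f₂_surjective Y M) (f₂_eq_zero_iff Y M)⟩
  | (n + 2), M => by
    obtain ⟨e⟩ := nonempty_addEquiv (n + 1) (Sinj M).X₃
    let e₁ : CohCx.cechH (Sinj M).X₃.obj Y (n + 1) ≃+ CohCx.cechH M.obj Y (n + 2) :=
      AddEquiv.ofBijective (Cδ Y (Sinj' M) (Sinj'_shortExact M) (n + 1))
        ⟨Cδ_injective_Sinj Y M n, Cδ_surjective_Sinj Y M (n + 1)⟩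
    let e₂ : Ext (ZR (RY Y)) (Sinj M).X₃ (n + 1) ≃+ Ext (ZR (RY Y)) M (n + 2) :=
      AddEquiv.ofBijective
        ((Sinj_shortExact M).extClass.postcomp (ZR (RY Y)) (rfl : (n + 1) + 1 = n + 2))
        ⟨extδ_injective (ZR (RY Y)) M n, extδ_surjective (ZR (RY Y)) M (n + 1)⟩
    exact ⟨e₁.symm.trans (e.trans e₂)⟩

theorem nonempty_iso (M : Cᵒᵖ ⥤ AddCommGrpCat.{u}) (q : ℕ) :
    Nonempty (CohCx.cechH M Y q ≅ AddCommGrpCat.of (Ext (ZR (RY Y))
      (⟨M, Presheaf.isSheaf_bot _⟩ : PAb C) q)) := by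
  obtain ⟨e⟩ := nonempty_addEquiv Y q ⟨M, Presheaf.isSheaf_bot _⟩
  exact ⟨e.toAddCommGrpIso⟩

end Groth.Agent.Lib.Helper21.CechSieve
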