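import Mathlib
import Groth.Prelude.Def_ModSite

set_option autoImplicit false
universe u
open CategoryTheory Opposite Limits

namespace Groth.Agent.Lib.Helper21.Chaotic

variable {D : Type u} [SmallCategory D]

/-- only the maximal sieves are covering -/
def IsChaotic (K : GrothendieckTopology D) : Prop := ∀ (X : D) (S : Sieve X), S ∈ K X → S = ⊤

theorem isChaotic_bot : IsChaotic (⊥ : GrothendieckTopology D) :=
  fun _ _ hS => GrothendieckTopology.bot_covering.1 hS

theorem isChaotic_over {K : GrothendieckTopology D} (hK : IsChaotic K) (X : D) :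
    IsChaotic (K.over X) := by
  intro Y S hS
  have h1 := hK _ _ ((K.mem_over_iff S).1 hS)
  have h2 : (Sieve.overEquiv Y) S = (Sieve.overEquiv Y) ⊤ := by
    rw [h1]; exact (map_top (Sieve.overEquiv Y)).symm
  exact (Sieve.overEquiv Y).injective h2

theorem isSheaf_of_isChaotic {K : GrothendieckTopology D} (hK : IsChaotic K)
    {A : Type*} [Category A] (P : Dᵒᵖ ⥤ A) : Presheaf.IsSheaf K P := by
  intro E X S hS
  rw [hK X S hS]
  exact Presieve.isSheafFor_top _

variable {K : GrothendieckTopology D} (R : Sheaf K RingCat.{u})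

theorem forget_essSurj_aux (hK : IsChaotic K) :
    (SheafOfModules.forget R : SheafOfModules.{u} R ⥤ _).EssSurj where
  mem_essImage M := ⟨⟨M, isSheaf_of_isChaotic hK _⟩, ⟨Iso.refl _⟩⟩

theorem forget_isEquivalence (hK : IsChaotic K) :
    (SheafOfModules.forget R : SheafOfModules.{u} R ⥤ _).IsEquivalence := by
  haveI := forget_essSurj_aux R hK
  exact { }

theorem preservesColimits_evaluation (hK : IsChaotic K) (W : Dᵒᵖ) :
    PreservesColimitsOfSize.{u, u} (SheafOfModules.evaluation R W : SheafOfModules.{u} R ⥤ _) := by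
  haveI := forget_isEquivalence R hK
  unfold SheafOfModules.evaluation
  infer_instance



section abstract

variable {𝒜 ℬ : Type*} [Category 𝒜] [Category ℬ] {Φ Ψ : 𝒜 ⥤ ℬ} (β : Φ ⟶ Ψ)

theorem isIso_app_of_isColimit {J : Type*} [Category J] {Dg : J ⥤ 𝒜} (c : Cocone Dg)
    (hΦ : IsColimit (Φ.mapCocone c)) (hΨ : IsColimit (Ψ.mapCocone c))
    (h : ∀ j, IsIso (β.app (Dg.obj j))) : IsIso (β.app c.pt) := by
  let α : Dg ⋙ Φ ≅ Dg ⋙ Ψ :=
    NatIso.ofComponents (fun j => asIso (β.app (Dg.obj j))) (fun f => by simp)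
  have : β.app c.pt = (IsColimit.coconePointsIsoOfNatIso hΦ hΨ α).hom := by
    apply hΦ.hom_ext
    intro j
    rw [IsColimit.comp_coconePointsIsoOfNatIso_hom]
    simp [α]
  rw [this]
  infer_instance

theorem isIso_app_of_isLimit {J : Type*} [Category J] {Dg : J ⥤ 𝒜} (c : Cone Dg)
    (hΦ : IsLimit (Φ.mapCone c)) (hΨ : IsLimit (Ψ.mapCone c))
    (h : ∀ j, IsIso (β.app (Dg.obj j))) : IsIso (β.app c.pt) := by
  let α : Dg ⋙ Φ ≅ Dg ⋙ Ψ :=
    NatIso.ofComponents (fun j => asIso (β.app (Dg.obj j))) (fun f => by simp)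
  have : β.app c.pt = (IsLimit.conePointsIsoOfNatIso hΦ hΨ α).hom := by
    apply hΨ.hom_ext
    intro j
    rw [IsLimit.conePointsIsoOfNatIso_hom_comp]
    simp [α]
  rw [this]
  infer_instance

end abstract



open TensorProduct ChangeOfRings

section alg
variable {R S : Type u} [CommRing R] [CommRing S] (f : R →+* S)

set_option backward.isDefEq.respectTransparency false in
/-- `y ↦ y ⊗ 1` -/
noncomputable def unitInv : ModuleCat.of S S ⟶
    (ModuleCat.extendScalars.{u, u, u} f).obj (ModuleCat.of R R) :=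
  ModuleCat.ofHom
    { toFun := fun y => (y ⊗ₜ[R,f] (1 : R) : (ModuleCat.extendScalars.{u, u, u} f).obj (ModuleCat.of R R))
      map_add' := fun a b => TensorProduct.add_tmul _ _ _
      map_smul' := fun s y => rfl }

set_option backward.isDefEq.respectTransparency false in
theorem unitInv_apply (y : S) :
    (unitInv f).hom y = (y ⊗ₜ[R,f] (1 : R) : (ModuleCat.extendScalars.{u, u, u} f).obj (ModuleCat.of R R)) :=
  rfl

set_option backward.isDefEq.respectTransparency false in
theorem one_tmul_eq (r : R) :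
    ((1 : S) ⊗ₜ[R,f] r : (ModuleCat.extendScalars.{u, u, u} f).obj (ModuleCat.of R R)) =
      (f r ⊗ₜ[R,f] (1 : R) : (ModuleCat.extendScalars.{u, u, u} f).obj (ModuleCat.of R R)) := by
  letI : Module R S := Module.compHom S f
  have h2 := TensorProduct.smul_tmul (R := R) (R' := R) (M := S) (N := R) r (1 : S) (1 : R)
  have h3 : (r • (1 : S)) = f r := by
    change f r • (1 : S) = f r
    rw [smul_eq_mul, mul_one]
  rw [h3, smul_eq_mul, mul_one] at h2
  exact h2.symm

set_option backward.isDefEq.respectTransparency false in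
/-- pure algebra: the canonical map `S ⊗_R R ⟶ S` is an isomorphism. -/
theorem isIso_of_unit
    (ψ : (ModuleCat.extendScalars.{u, u, u} f).obj (ModuleCat.of R R) ⟶ ModuleCat.of S S)
    (hψ : ∀ (r : R), ψ.hom ((1 : S) ⊗ₜ[R,f] r :
      (ModuleCat.extendScalars.{u, u, u} f).obj (ModuleCat.of R R)) = f r) : IsIso ψ := by
  refine ⟨unitInv f, ?_, ?_⟩
  · apply ModuleCat.ExtendScalars.hom_ext
    intro r
    change (unitInv f).hom (ψ.hom _) = _
    rw [hψ, unitInv_apply, ← one_tmul_eq]
    rfl
  · apply ModuleCat.hom_ext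
    apply LinearMap.ext
    intro y
    change ψ.hom ((unitInv f).hom y) = y
    rw [unitInv_apply]
    have : (y ⊗ₜ[R,f] (1 : R) : (ModuleCat.extendScalars.{u, u, u} f).obj (ModuleCat.of R R)) =
        y • ((1 : S) ⊗ₜ[R,f] (1 : R) :
          (ModuleCat.extendScalars.{u, u, u} f).obj (ModuleCat.of R R)) := by
      have h := ModuleCat.ExtendScalars.smul_tmul f (M := ModuleCat.of R R) y (1 : S) (1 : R)
      rw [mul_one] at h
      exact h.symm
    rw [this, map_smul, hψ, map_one]
    exact mul_one y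

end alg



variable {D : Type u} [SmallCategory D] {K : GrothendieckTopology D} (O : Sheaf K CommRingCat.{u})

/-- evaluation at `W`, with values in modules over the commutative ring `O(W)` -/
noncomputable abbrev evO (W : D) : ModSite.Mod O ⥤ ModuleCat.{u} (O.obj.obj (op W)) :=
  SheafOfModules.evaluation (ModSite.ringSh O) (op W)

/-- `M ↦ M(V) ⊗_{O(V)} O(U)` -/
noncomputable abbrev PhiG {U V : D} (g : U ⟶ V) :
    ModSite.Mod O ⥤ ModuleCat.{u} (O.obj.obj (op U)) :=
  evO O V ⋙ ModuleCat.extendScalars (O.obj.map g.op).hom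

/-- the base change map `M(V) ⊗_{O(V)} O(U) ⟶ M(U)` -/
noncomputable def bc {U V : D} (g : U ⟶ V) (M : ModSite.Mod O) :
    (PhiG O g).obj M ⟶ (evO O U).obj M :=
  ((ModuleCat.extendRestrictScalarsAdj (O.obj.map g.op).hom).homEquiv
    ((evO O V).obj M) ((evO O U).obj M)).symm (M.val.map g.op)

theorem bc_naturality {U V : D} (g : U ⟶ V) {M N : ModSite.Mod O} (φ : M ⟶ N) :
    (PhiG O g).map φ ≫ bc O g N = bc O g M ≫ (evO O U).map φ := by
  unfold bc
  have h1 := (ModuleCat.extendRestrictScalarsAdj (O.obj.map g.op).hom).homEquiv_naturality_left_symm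
    ((evO O V).map φ) (N.val.map g.op)
  have h2 := (ModuleCat.extendRestrictScalarsAdj (O.obj.map g.op).hom).homEquiv_naturality_right_symm
    (M.val.map g.op) ((evO O U).map φ)
  refine h1.symm.trans (Eq.trans ?_ h2)
  congr 1
  exact (PresheafOfModules.Hom.naturality φ.val g.op).symm

/-- the base change natural transformation -/
noncomputable def beta {U V : D} (g : U ⟶ V) : PhiG O g ⟶ evO O U where
  app M := bc O g M
  naturality _ _ φ := bc_naturality O g φ

end Groth.Agent.Lib.Helper21.Chaotic
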