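import Mathlib
import Groth.Prelude.Def_ModSite
import Groth.Agent.Lib.Helper21Chaotic1

set_option autoImplicit false
universe u
open CategoryTheory Opposite Limits

namespace Groth.Agent.Lib.Helper21.Chaotic

open TensorProduct ChangeOfRings

section abstract2

variable {𝒜 ℬ : Type*} [Category 𝒜] [Category ℬ] {Φ Ψ : 𝒜 ⥤ ℬ} (β : Φ ⟶ Ψ)

/-- transport of colimit cocones along a natural transformation which is invertible on the
relevant objects -/
noncomputable def isColimitMapCoconeOfNatTrans {J : Type*} [Category J] {Dg : J ⥤ 𝒜}
    (c : Cocone Dg)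
    (h : ∀ j, IsIso (β.app (Dg.obj j))) (hpt : IsIso (β.app c.pt))
    (hΦ : IsColimit (Φ.mapCocone c)) : IsColimit (Ψ.mapCocone c) := by
  let α : Dg ⋙ Φ ≅ Dg ⋙ Ψ :=
    NatIso.ofComponents (fun j => asIso (β.app (Dg.obj j))) (fun f => by simp)
  refine (IsColimit.equivOfNatIsoOfIso α (Φ.mapCocone c) (Ψ.mapCocone c) ?_) hΦ
  refine Cocones.ext (asIso (β.app c.pt)) ?_
  intro j
  simp [α]

end abstract2

variable {D : Type u} [SmallCategory D] {K : GrothendieckTopology D} (O : Sheaf K CommRingCat.{u})

set_option backward.isDefEq.respectTransparency false in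
theorem isIso_bc_unit {U V : D} (g : U ⟶ V) : IsIso (bc O g (ModSite.unit O)) := by
  apply isIso_of_unit (O.obj.map g.op).hom
  intro r
  exact (ModuleCat.extendRestrictScalarsAdj_homEquiv_apply
    (f := (O.obj.map g.op).hom) (bc O g (ModSite.unit O)) r).symm.trans (by
      unfold bc
      rw [Equiv.apply_symm_apply]
      rfl)

/-- on a chaotic site, a cocone of modules is colimit as soon as it is so sectionwise -/
noncomputable def isColimitOfEvO (hK : IsChaotic K) {J : Type*} [Category J]
    [HasColimitsOfShape J AddCommGrpCat.{u}] {Dg : J ⥤ ModSite.Mod O}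
    (c : Cocone Dg) (h : ∀ W : D, IsColimit ((evO O W).mapCocone c)) : IsColimit c := by
  haveI := forget_isEquivalence (ModSite.ringSh O) hK
  apply isColimitOfReflects (SheafOfModules.forget (ModSite.ringSh O))
  apply PresheafOfModules.evaluationJointlyReflectsColimits
  intro X
  exact h X.unop

theorem preservesColimits_evO (hK : IsChaotic K) (W : D) :
    PreservesColimitsOfSize.{u, u} (evO O W) :=
  preservesColimits_evaluation (ModSite.ringSh O) hK (op W)

theorem preservesColimits_PhiG (hK : IsChaotic K) {U V : D} (g : U ⟶ V) :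
    PreservesColimitsOfSize.{u, u} (PhiG O g) := by
  haveI := preservesColimits_evO O hK V
  infer_instance

/-- the base change map is invertible on free modules (chaotic site) -/
theorem isIso_bc_free (hK : IsChaotic K) {U V : D} (g : U ⟶ V) (σ : Type u) :
    IsIso (bc O g (SheafOfModules.free (R := ModSite.ringSh O) σ)) := by
  haveI := preservesColimits_evO O hK U
  haveI := preservesColimits_PhiG O hK g
  exact isIso_app_of_isColimit (beta O g)
    (colimit.cocone (Discrete.functor fun _ : σ => ModSite.unit O))
    (isColimitOfPreserves (PhiG O g) (colimit.isColimit _))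
    (isColimitOfPreserves (evO O U) (colimit.isColimit _))
    (fun _ => isIso_bc_unit O g)

/-- the base change map is invertible on modules with a global presentation (chaotic site) -/
theorem isIso_bc_of_isColimit (hK : IsChaotic K) {U V : D} (g : U ⟶ V) {M : ModSite.Mod O}
    {ι σ : Type u} (f : SheafOfModules.free (R := ModSite.ringSh O) ι ⟶ SheafOfModules.free σ)
    (π : SheafOfModules.free σ ⟶ M) (H : f ≫ π = 0)
    (hc : IsColimit (CokernelCofork.ofπ π H)) : IsIso (bc O g M) := by
  haveI := preservesColimits_evO O hK U
  haveI := preservesColimits_PhiG O hK g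
  refine isIso_app_of_isColimit (beta O g) (CokernelCofork.ofπ π H)
    (isColimitOfPreserves (PhiG O g) hc) (isColimitOfPreserves (evO O U) hc) ?_
  rintro (_ | _)
  · exact isIso_bc_free O hK g ι
  · exact isIso_bc_free O hK g σ

end Groth.Agent.Lib.Helper21.Chaotic
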