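import Mathlib
import Groth.Prelude.Def_ModSite
import Groth.Agent.Lib.Helper21Chaotic2
import Groth.Agent.Lib.Helper21RetractFreeSite
import Groth.Agent.Lib.Helper21CoprodSec1

set_option autoImplicit false
universe u
open CategoryTheory Opposite Limits

namespace Groth.Agent.Lib.Helper21.Chaotic

open Groth.Agent.Lib.Helper21.RetractFreeSite

variable {D : Type u} [SmallCategory D] {K : GrothendieckTopology D} (O : Sheaf K CommRingCat.{u})
  {T : D} (hT : IsTerminal T) (M : ModSite.Mod O)

/-- maps out of a free module -/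
noncomputable def freeDesc {σ : Type u} {M : ModSite.Mod O} (a : σ → (ModSite.unit O ⟶ M)) :
    SheafOfModules.free (R := ModSite.ringSh O) σ ⟶ M :=
  Cofan.IsColimit.desc (SheafOfModules.isColimitFreeCofan (R := ModSite.ringSh O) σ) a

theorem ιFree_freeDesc {σ : Type u} {M : ModSite.Mod O} (a : σ → (ModSite.unit O ⟶ M)) (m : σ) :
    SheafOfModules.ιFree (R := ModSite.ringSh O) m ≫ freeDesc O a = a m :=
  Cofan.IsColimit.fac (SheafOfModules.isColimitFreeCofan (R := ModSite.ringSh O) σ) a m

theorem free_hom_ext {σ : Type u} {M : ModSite.Mod O}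
    (a b : SheafOfModules.free (R := ModSite.ringSh O) σ ⟶ M)
    (h : ∀ m, SheafOfModules.ιFree (R := ModSite.ringSh O) m ≫ a =
      SheafOfModules.ιFree (R := ModSite.ringSh O) m ≫ b) : a = b :=
  Cofan.IsColimit.hom_ext (SheafOfModules.isColimitFreeCofan (R := ModSite.ringSh O) σ) _ _ h

/-- index set of generators: all sections over `T` -/
abbrev Sg : Type u := M.val.obj (op T)

/-- the tautological epimorphism `O^{(M(T))} ⟶ M` -/
noncomputable def piM : SheafOfModules.free (R := ModSite.ringSh O) (Sg O M (T := T)) ⟶ M :=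
  freeDesc O (fun m => (unitEquiv (ModSite.ringSh O) hT M).symm m)

/-- the generators of `O^{(σ)}(T)` -/
noncomputable def eFree (σ : Type u) (m : σ) :
    (SheafOfModules.free (R := ModSite.ringSh O) σ).val.obj (op T) :=
  unitEquiv (ModSite.ringSh O) hT _ (SheafOfModules.ιFree (R := ModSite.ringSh O) m)

theorem piM_eFree (m : Sg O M (T := T)) :
    (piM O hT M).val.app (op T) (eFree O hT _ m) = m := by
  unfold eFree
  rw [← unitEquiv_comp]
  unfold piM
  rw [ιFree_freeDesc]
  exact (unitEquiv (ModSite.ringSh O) hT M).apply_symm_apply m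

/-- `(σ →₀ O(T)) ⟶ O^{(σ)}(T)` -/
noncomputable def thetaF (σ : Type u) :
    (σ →₀ (ModSite.ringSh O).obj.obj (op T)) →ₗ[(ModSite.ringSh O).obj.obj (op T)]
      (SheafOfModules.free (R := ModSite.ringSh O) σ).val.obj (op T) :=
  Finsupp.linearCombination _ (eFree O hT σ)

/-- the relations -/
abbrev Rl : Type u :=
  LinearMap.ker (Finsupp.linearCombination ((ModSite.ringSh O).obj.obj (op T))
    (id : Sg O M (T := T) → M.val.obj (op T)))

theorem piM_thetaF (k : Sg O M (T := T) →₀ (ModSite.ringSh O).obj.obj (op T)) :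
    (piM O hT M).val.app (op T) (thetaF O hT _ k) =
      Finsupp.linearCombination _ (id : Sg O M (T := T) → M.val.obj (op T)) k := by
  unfold thetaF
  rw [Finsupp.linearCombination_apply, Finsupp.linearCombination_apply, Finsupp.sum, Finsupp.sum,
    map_sum]
  refine Finset.sum_congr rfl fun m _ => ?_
  rw [map_smul, piM_eFree]
  rfl

/-- the map of relations -/
noncomputable def fM : SheafOfModules.free (R := ModSite.ringSh O) (Rl O M (T := T)) ⟶
    SheafOfModules.free (R := ModSite.ringSh O) (Sg O M (T := T)) :=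
  freeDesc O (fun κ => (unitEquiv (ModSite.ringSh O) hT _).symm (thetaF O hT _ κ.1))

theorem fM_eFree (κ : Rl O M (T := T)) :
    (fM O hT M).val.app (op T) (eFree O hT _ κ) = thetaF O hT _ κ.1 := by
  unfold eFree
  rw [← unitEquiv_comp]
  unfold fM
  rw [ιFree_freeDesc]
  exact (unitEquiv (ModSite.ringSh O) hT _).apply_symm_apply _

theorem fM_piM : fM O hT M ≫ piM O hT M = 0 := by
  apply free_hom_ext
  intro κ
  rw [comp_zero]
  apply (unitEquiv (ModSite.ringSh O) hT M).injective
  rw [map_zero, ← Category.assoc, unitEquiv_comp]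
  change (piM O hT M).val.app (op T) ((fM O hT M).val.app (op T) (eFree O hT _ κ)) = 0
  rw [fM_eFree, piM_thetaF]
  exact κ.2

theorem eFree_eq (σ : Type u) (m : σ) :
    eFree O hT σ m = (SheafOfModules.ιFree (R := ModSite.ringSh O) m).val.app (op T)
      (1 : (ModSite.ringSh O).obj.obj (op T)) := rfl

theorem ιFree_app_apply (σ : Type u) (m : σ) (r : (ModSite.ringSh O).obj.obj (op T)) :
    (SheafOfModules.ιFree (R := ModSite.ringSh O) m).val.app (op T) r = r • eFree O hT σ m := by
  rw [eFree_eq, ← map_smul]
  congr 1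
  exact (mul_one r).symm

/-- generation of `O^{(σ)}(T)` on a chaotic site -/
theorem exists_thetaF_eq (hK : IsChaotic K) (σ : Type u)
    (b : (SheafOfModules.free (R := ModSite.ringSh O) σ).val.obj (op T)) :
    ∃ k : σ →₀ (ModSite.ringSh O).obj.obj (op T), thetaF O hT σ k = b := by
  classical
  haveI := preservesColimits_evO O hK T
  have hc := isColimitCofanMkObjOfIsColimit (evO O T) (fun _ : σ => ModSite.unit O)
    (fun m => SheafOfModules.ιFree (R := ModSite.ringSh O) m)
    (SheafOfModules.isColimitFreeCofan (R := ModSite.ringSh O) σ)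
  obtain ⟨t, z, hz⟩ := Groth.Agent.Lib.Helper21.CoprodSec.exists_sum_of_isColimit _ _ hc b
  refine ⟨∑ m ∈ t, Finsupp.single m (z m), ?_⟩
  rw [hz, map_sum]
  refine Finset.sum_congr rfl fun m _ => ?_
  unfold thetaF
  rw [Finsupp.linearCombination_single]
  exact (ιFree_app_apply O hT σ m (z m)).symm

instance evO_additive (W : D) : (evO O W).Additive where
  map_add := rfl

/-- the presentation is right exact on sections over `T` -/
noncomputable def isColimitEvT (hK : IsChaotic K) :
    IsColimit ((evO O T).mapCocone (CokernelCofork.ofπ (piM O hT M) (fM_piM O hT M))) := by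
  refine (isColimitMapCoconeCoforkEquiv' (evO O T) (fM_piM O hT M)).symm ?_
  let S : ShortComplex (ModuleCat.{u} (O.obj.obj (op T))) :=
    ShortComplex.mk ((evO O T).map (fM O hT M)) ((evO O T).map (piM O hT M))
      (by rw [← Functor.map_comp, fM_piM, Functor.map_zero])
  have hex : S.Exact := by
    rw [ShortComplex.moduleCat_exact_iff]
    intro b hb
    obtain ⟨k, rfl⟩ := exists_thetaF_eq O hT hK _ b
    have hk : k ∈ LinearMap.ker (Finsupp.linearCombination ((ModSite.ringSh O).obj.obj (op T))
        (id : Sg O M (T := T) → M.val.obj (op T))) := by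
      rw [LinearMap.mem_ker, ← piM_thetaF]
      exact hb
    exact ⟨eFree O hT _ (⟨k, hk⟩ : Rl O M (T := T)), fM_eFree O hT M ⟨k, hk⟩⟩
  haveI : Epi S.g := by
    rw [ModuleCat.epi_iff_surjective]
    intro m
    exact ⟨eFree O hT _ m, piM_eFree O hT M m⟩
  exact hex.gIsCokernel

/-- if all base change maps from `T` are invertible, the tautological presentation is a
presentation (chaotic site with terminal object `T`) -/
noncomputable def isColimitPres (hK : IsChaotic K)
    (h : ∀ (W : D) (g : W ⟶ T), IsIso (bc O g M)) :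
    IsColimit (CokernelCofork.ofπ (piM O hT M) (fM_piM O hT M)) := by
  apply isColimitOfEvO O hK
  intro W
  refine isColimitMapCoconeOfNatTrans (beta O (hT.from W)) _ ?_ (h W _) ?_
  · rintro (_ | _)
    · exact isIso_bc_free O hK _ _
    · exact isIso_bc_free O hK _ _
  · exact isColimitOfPreserves (ModuleCat.extendScalars (O.obj.map (hT.from W).op).hom)
      (isColimitEvT O hT M hK)

include hT in
theorem nonempty_presentation (hK : IsChaotic K)
    (h : ∀ (W : D) (g : W ⟶ T), IsIso (bc O g M)) :
    Nonempty (SheafOfModules.Presentation M) :=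
  ⟨SheafOfModules.presentationOfIsCokernelFree (fM O hT M) (piM O hT M) (fM_piM O hT M)
    (isColimitPres O hT M hK h)⟩

end Groth.Agent.Lib.Helper21.Chaotic
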