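import Mathlib
import Groth.Agent.Lib.Helper21Ext1

/-!
# Torsors and extensions on a site, universe-general basics (helper21)

Sections of abelian sheaves, the constant sheaf `ℤ`, sections of short exact sequences.
All statements are for a site `C : Type u`, `Category.{v} C` and sheaves valued in
`AddCommGrpCat.{max u v}`.
-/

set_option autoImplicit false
universe v u w'
open CategoryTheory CategoryTheory.Limits Opposite

namespace Groth.Agent.Lib.Helper21.TorsA

variable {C : Type u} [Category.{v} C] (J : GrothendieckTopology C)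

/-- restriction of sections of an abelian sheaf -/
abbrev res (E : Sheaf J AddCommGrpCat.{max u v}) {V W : C} (f : W ⟶ V) :
    E.obj.obj (op V) →+ E.obj.obj (op W) :=
  (E.obj.map f.op).hom

variable {J}

lemma res_id (E : Sheaf J AddCommGrpCat.{max u v}) {V : C} (t : E.obj.obj (op V)) :
    res J E (𝟙 V) t = t := by
  change (E.obj.map (𝟙 V).op).hom t = t
  rw [op_id, E.obj.map_id]
  rfl

lemma res_comp (E : Sheaf J AddCommGrpCat.{max u v}) {V W Z : C} (g : Z ⟶ W) (f : W ⟶ V)
    (t : E.obj.obj (op V)) : res J E (g ≫ f) t = res J E g (res J E f t) := by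
  change (E.obj.map (g ≫ f).op).hom t = (E.obj.map g.op).hom ((E.obj.map f.op).hom t)
  rw [op_comp, E.obj.map_comp]
  rfl

lemma res_map {E E' : Sheaf J AddCommGrpCat.{max u v}} (a : E ⟶ E') {V W : C} (f : W ⟶ V)
    (t : E.obj.obj (op V)) :
    res J E' f ((a.hom.app (op V)).hom t) = (a.hom.app (op W)).hom (res J E f t) :=
  (ConcreteCategory.congr_hom (a.hom.naturality f.op) t).symm

theorem isSheafFor_forget (E : Sheaf J AddCommGrpCat.{max u v}) {V : C} (S : Sieve V)
    (hS : S ∈ J V) :
    Presieve.IsSheafFor (E.obj ⋙ forget AddCommGrpCat.{max u v}) S.arrows :=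
  ((Presheaf.isSheaf_iff_isSheaf_forget J E.obj (forget AddCommGrpCat.{max u v})).1
    E.property).isSheafFor S hS

/-- sections of a sheaf agreeing on a covering sieve are equal -/
theorem ext_of_cover (E : Sheaf J AddCommGrpCat.{max u v}) {V : C} (S : Sieve V) (hS : S ∈ J V)
    (t t' : E.obj.obj (op V)) (h : ∀ ⦃W : C⦄ (f : W ⟶ V), S f → res J E f t = res J E f t') :
    t = t' :=
  (isSheafFor_forget E S hS).isSeparatedFor.ext (fun _ f hf => h f hf)

/-- if the empty sieve covers `V` then sections over `V` are unique -/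
theorem eq_of_bot_mem (E : Sheaf J AddCommGrpCat.{max u v}) {V : C} (hV : (⊥ : Sieve V) ∈ J V)
    (t t' : E.obj.obj (op V)) : t = t' :=
  ext_of_cover E ⊥ hV t t' (fun _ _ hf => hf.elim)

/-- gluing of a compatible family of sections of an abelian sheaf -/
theorem exists_glue (E : Sheaf J AddCommGrpCat.{max u v}) {V : C} (S : Sieve V) (hS : S ∈ J V)
    (x : ∀ ⦃W : C⦄ (f : W ⟶ V), S f → E.obj.obj (op W))
    (hx : ∀ ⦃W W' : C⦄ (f : W ⟶ V) (hf : S f) (g : W' ⟶ W),
      res J E g (x f hf) = x (g ≫ f) (S.downward_closed hf g)) :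
    ∃ t : E.obj.obj (op V), ∀ ⦃W : C⦄ (f : W ⟶ V) (hf : S f), res J E f t = x f hf := by
  let y : Presieve.FamilyOfElements (E.obj ⋙ forget AddCommGrpCat.{max u v}) S.arrows :=
    fun W f hf => x f hf
  have hy : y.Compatible := by
    rw [Presieve.compatible_iff_sieveCompatible]
    intro W W' f g hf
    exact (hx f hf g).symm
  obtain ⟨t, ht, -⟩ := isSheafFor_forget E S hS y hy
  exact ⟨t, fun W f hf => ht f hf⟩

section types

variable (P : Sheaf J (Type max u v))

/-- sections of a sheaf of sets agreeing on a covering sieve are equal -/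
theorem ext_of_cover_type {V : C} (S : Sieve V) (hS : S ∈ J V)
    (t t' : P.obj.obj (op V)) (h : ∀ ⦃W : C⦄ (f : W ⟶ V), S f → P.obj.map f.op t = P.obj.map f.op t') :
    t = t' :=
  (((isSheaf_iff_isSheaf_of_type J P.obj).1 P.property) S hS).isSeparatedFor.ext
    (fun _ f hf => h f hf)

lemma map_id_type {V : C} (t : P.obj.obj (op V)) : P.obj.map (𝟙 V).op t = t := by
  rw [op_id, P.obj.map_id]
  rfl

lemma map_comp_type {V W Z : C} (g : Z ⟶ W) (f : W ⟶ V) (t : P.obj.obj (op V)) :
    P.obj.map (g ≫ f).op t = P.obj.map g.op (P.obj.map f.op t) := by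
  rw [op_comp, P.obj.map_comp]
  rfl

/-- gluing of a compatible family of sections of a sheaf of sets -/
theorem exists_glue_type {V : C} (S : Sieve V) (hS : S ∈ J V)
    (x : ∀ ⦃W : C⦄ (f : W ⟶ V), S f → P.obj.obj (op W))
    (hx : ∀ ⦃W W' : C⦄ (f : W ⟶ V) (hf : S f) (g : W' ⟶ W),
      P.obj.map g.op (x f hf) = x (g ≫ f) (S.downward_closed hf g)) :
    ∃ t : P.obj.obj (op V), ∀ ⦃W : C⦄ (f : W ⟶ V) (hf : S f), P.obj.map f.op t = x f hf := by
  let y : Presieve.FamilyOfElements P.obj S.arrows := fun W f hf => x f hf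
  have hy : y.Compatible := by
    rw [Presieve.compatible_iff_sieveCompatible]
    intro W W' f g hf
    exact (hx f hf g).symm
  obtain ⟨t, ht, -⟩ := ((isSheaf_iff_isSheaf_of_type J P.obj).1 P.property) S hS y hy
  exact ⟨t, fun W f hf => ht f hf⟩

/-- if the empty sieve covers `V` then a sheaf of sets has exactly one section over `V` -/
theorem eq_of_bot_mem_type {V : C} (hV : (⊥ : Sieve V) ∈ J V) (t t' : P.obj.obj (op V)) : t = t' :=
  ext_of_cover_type P ⊥ hV t t' (fun _ _ hf => hf.elim)

theorem nonempty_of_bot_mem_type {V : C} (hV : (⊥ : Sieve V) ∈ J V) : Nonempty (P.obj.obj (op V)) := by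
  obtain ⟨t, -⟩ := exists_glue_type P ⊥ hV (fun _ _ hf => hf.elim) (fun _ _ _ hf _ => hf.elim)
  exact ⟨t⟩

/-- gluing: a subpresheaf of a sheaf of sets which is local, has at most one section over every
object and is locally inhabited has a (unique) compatible family of sections. -/
theorem exists_global_of_local_unique_type
    (T : ∀ V : C, Set (P.obj.obj (op V)))
    (hres : ∀ ⦃V W : C⦄ (f : W ⟶ V) (t : P.obj.obj (op V)), t ∈ T V → P.obj.map f.op t ∈ T W)
    (hloc : ∀ (V : C) (t : P.obj.obj (op V)) (S : Sieve V), S ∈ J V →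
      (∀ ⦃W : C⦄ (f : W ⟶ V), S f → P.obj.map f.op t ∈ T W) → t ∈ T V)
    (huniq : ∀ (V : C) (t t' : P.obj.obj (op V)), t ∈ T V → t' ∈ T V → t = t')
    (hex : ∀ V : C, ∃ S ∈ J V, ∀ ⦃W : C⦄ (f : W ⟶ V), S f → (T W).Nonempty) :
    ∃ t : ∀ V : C, P.obj.obj (op V), (∀ V, t V ∈ T V) ∧
      ∀ ⦃V W : C⦄ (f : W ⟶ V), P.obj.map f.op (t V) = t W := by
  have key : ∀ V : C, ∃ t : P.obj.obj (op V), t ∈ T V := by
    intro V
    obtain ⟨S, hS, hne⟩ := hex V
    have hx : ∀ ⦃W : C⦄ (f : W ⟶ V) (hf : S f), (hne f hf).choose ∈ T W :=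
      fun W f hf => (hne f hf).choose_spec
    obtain ⟨t, ht⟩ := exists_glue_type P S hS (fun W f hf => (hne f hf).choose)
      (fun W W' f hf g => huniq W' _ _ (hres g _ (hx f hf)) (hx (g ≫ f) (S.downward_closed hf g)))
    refine ⟨t, hloc V t S hS (fun W f hf => ?_)⟩
    rw [ht f hf]
    exact hx f hf
  choose t ht using key
  exact ⟨t, ht, fun V W f => huniq W _ _ (hres f _ (ht V)) (ht W)⟩

end types

variable (J)

section const
variable [HasSheafify J AddCommGrpCat.{max u v}]
variable (B : Type max u v) [AddCommGroup B]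

/-- the constant presheaf -/
abbrev Kp : Cᵒᵖ ⥤ AddCommGrpCat.{max u v} := (Functor.const Cᵒᵖ).obj (AddCommGrpCat.of B)

/-- the constant sheaf -/
noncomputable abbrev K : Sheaf J AddCommGrpCat.{max u v} :=
  (constantSheaf J AddCommGrpCat.{max u v}).obj (AddCommGrpCat.of B)

/-- constants as sections of the constant sheaf -/
noncomputable def cst (V : C) : B →+ (K J B).obj.obj (op V) :=
  ((toSheafify J (Kp B)).app (op V)).hom

variable {B}

lemma res_cst {V W : C} (f : W ⟶ V) (b : B) :
    res J (K J B) f (cst J B V b) = cst J B W b := by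
  have h := ConcreteCategory.congr_hom ((toSheafify J (Kp B)).naturality f.op) b
  exact h.symm

lemma exists_cst_locally {V : C} (s : (K J B).obj.obj (op V)) :
    ∃ S ∈ J V, ∀ ⦃W : C⦄ (f : W ⟶ V), S f →
      ∃ b : B, cst J B W b = res J (K J B) f s := by
  refine ⟨Presheaf.imageSieve (toSheafify J (Kp B)) s,
    Presheaf.imageSieve_mem J (toSheafify J (Kp B)) s, ?_⟩
  intro W f hf
  obtain ⟨b, hb⟩ := hf
  exact ⟨b, hb⟩

lemma cst_eq_cst {V : C} (b b' : B) (h : cst J B V b = cst J B V b') :
    b = b' ∨ (⊥ : Sieve V) ∈ J V := by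
  by_cases hb : b = b'
  · exact Or.inl hb
  · right
    have h1 := Presheaf.equalizerSieve_mem J (toSheafify J (Kp B)) (X := op V) b b' h
    refine J.superset_covering ?_ h1
    intro W f hf
    exact (hb hf).elim

end const

section Z
variable [HasSheafify J AddCommGrpCat.{max u v}]

/-- the constant sheaf `ℤ` -/
noncomputable abbrev ZC : Sheaf J AddCommGrpCat.{max u v} := K J (ULift.{max u v} ℤ)

/-- the section `1` of the constant sheaf `ℤ` -/
noncomputable def one (V : C) : (ZC J).obj.obj (op V) := cst J (ULift.{max u v} ℤ) V ⟨1⟩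

variable {J}

lemma res_one {V W : C} (f : W ⟶ V) : res J (ZC J) f (one J V) = one J W :=
  res_cst J f _

lemma cst_eq_zsmul_one (V : C) (m : ULift.{max u v} ℤ) :
    cst J (ULift.{max u v} ℤ) V m = m.down • one J V := by
  unfold one
  rw [← map_zsmul]
  congr 1
  apply ULift.ext
  simp

/-- maps out of the constant sheaf `ℤ` are determined by the image of `1` -/
theorem hom_ext_one {E : Sheaf J AddCommGrpCat.{max u v}} (a b : ZC J ⟶ E)
    (h : ∀ V : C, (a.hom.app (op V)).hom (one J V) = (b.hom.app (op V)).hom (one J V)) :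
    a = b := by
  apply Sheaf.hom_ext
  apply sheafify_hom_ext _ _ _ E.property
  ext ⟨V⟩ m
  change (a.hom.app (op V)).hom (cst J (ULift.{max u v} ℤ) V m) =
    (b.hom.app (op V)).hom (cst J (ULift.{max u v} ℤ) V m)
  rw [cst_eq_zsmul_one, map_zsmul, map_zsmul, h]

/-- the map out of the constant sheaf `ℤ` attached to a compatible family of sections -/
theorem exists_hom_of_family (E : Sheaf J AddCommGrpCat.{max u v}) (t : ∀ V : C, E.obj.obj (op V))
    (ht : ∀ ⦃V W : C⦄ (f : W ⟶ V), res J E f (t V) = t W) :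
    ∃ s : ZC J ⟶ E, ∀ V : C, (s.hom.app (op V)).hom (one J V) = t V := by
  let α : Kp (ULift.{max u v} ℤ) ⟶ E.obj :=
    { app := fun V => AddCommGrpCat.ofHom
        { toFun := fun m => m.down • t V.unop
          map_zero' := by simp
          map_add' := fun m m' => by simp [add_zsmul] }
      naturality := by
        intro V W f
        ext m
        change m.down • t W.unop = (E.obj.map f).hom (m.down • t V.unop)
        rw [map_zsmul]
        congr 1
        exact (ht f.unop).symm }
  refine ⟨⟨sheafifyLift J α E.property⟩, fun V => ?_⟩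
  have h0 : (toSheafify J (Kp (ULift.{max u v} ℤ))).app (op V) ≫
      (sheafifyLift J α E.property).app (op V) = α.app (op V) := by
    rw [← NatTrans.comp_app, toSheafify_sheafifyLift]
  have h := ConcreteCategory.congr_hom h0 (⟨1⟩ : ULift.{max u v} ℤ)
  refine h.trans ?_
  change (1 : ℤ) • t V = t V
  rw [one_zsmul]

end Z

section sections
variable {J}

theorem exact_sections [HasSheafify J AddCommGrpCat.{max u v}]
    {S : ShortComplex (Sheaf J AddCommGrpCat.{max u v})} (hS : S.ShortExact)
    (V : C) (e : S.X₂.obj.obj (op V)) (he : (S.g.hom.app (op V)).hom e = 0) :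
    ∃ b : S.X₁.obj.obj (op V), (S.f.hom.app (op V)).hom b = e := by
  let F : Sheaf J AddCommGrpCat.{max u v} ⥤ AddCommGrpCat.{max u v} :=
    sheafToPresheaf J _ ⋙ (evaluation _ _).obj (op V)
  haveI := hS.mono_f
  haveI : F.PreservesZeroMorphisms := ⟨fun _ _ => rfl⟩
  have h : (S.map F).Exact := hS.exact.map_of_mono_of_preservesKernel F inferInstance inferInstance
  rw [ShortComplex.ab_exact_iff] at h
  exact h e he

theorem zero_sections [HasSheafify J AddCommGrpCat.{max u v}]
    (S : ShortComplex (Sheaf J AddCommGrpCat.{max u v}))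
    (V : C) (b : S.X₁.obj.obj (op V)) :
    (S.g.hom.app (op V)).hom ((S.f.hom.app (op V)).hom b) = 0 := by
  have h : ((S.f ≫ S.g).hom.app (op V)).hom b = 0 := by rw [S.zero]; rfl
  exact h

theorem injective_app_of_mono {A B : Sheaf J AddCommGrpCat.{max u v}} (f : A ⟶ B) [Mono f] (V : C) :
    Function.Injective (f.hom.app (op V)).hom := by
  haveI : Mono f.hom := (Sheaf.Hom.mono_iff_presheaf_mono J AddCommGrpCat.{max u v} f).1 inferInstance
  haveI : Mono (f.hom.app (op V)) := inferInstance
  exact (AddCommGrpCat.mono_iff_injective _).1 inferInstance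

theorem locally_surjective_of_epi [HasSheafify J AddCommGrpCat.{max u v}]
    {A B : Sheaf J AddCommGrpCat.{max u v}} (f : A ⟶ B) [Epi f] (V : C)
    (z : B.obj.obj (op V)) :
    ∃ S ∈ J V, ∀ ⦃W : C⦄ (g : W ⟶ V), S g →
      ∃ t : A.obj.obj (op W), (f.hom.app (op W)).hom t = res J B g z := by
  haveI : Sheaf.IsLocallySurjective f := (Sheaf.isLocallySurjective_iff_epi' (φ := f)).2 inferInstance
  refine ⟨Presheaf.imageSieve f.hom z, Presheaf.imageSieve_mem J f.hom z, ?_⟩
  intro W g hg
  obtain ⟨t, ht⟩ := hg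
  exact ⟨t, ht⟩

end sections

end Groth.Agent.Lib.Helper21.TorsA
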