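import Mathlib
import Groth.Agent.Lib.Helper21TorsA

/-!
# Maps out of constant sheaves on a site (helper21)
-/

set_option autoImplicit false
universe v u
open CategoryTheory CategoryTheory.Limits Opposite

namespace Groth.Agent.Lib.Helper21.ConstHom
open Groth.Agent.Lib.Helper21.TorsA

variable {C : Type u} [Category.{v} C] {J : GrothendieckTopology C}
  [HasSheafify J AddCommGrpCat.{max u v}] {B : Type max u v} [AddCommGroup B]

/-- the map out of a constant sheaf attached to a compatible family of homomorphisms -/
theorem exists_hom_of_family (E : Sheaf J AddCommGrpCat.{max u v})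
    (t : ∀ V : C, B →+ E.obj.obj (op V))
    (ht : ∀ ⦃V W : C⦄ (f : W ⟶ V) (b : B), res J E f (t V b) = t W b) :
    ∃ s : K J B ⟶ E, ∀ (V : C) (b : B), (s.hom.app (op V)).hom (cst J B V b) = t V b := by
  let α : Kp B ⟶ E.obj :=
    { app := fun V => AddCommGrpCat.ofHom (t V.unop)
      naturality := by
        intro V W f
        ext b
        exact (ht f.unop b).symm }
  refine ⟨⟨sheafifyLift J α E.property⟩, fun V b => ?_⟩
  have h0 : (toSheafify J (Kp B)).app (op V) ≫
      (sheafifyLift J α E.property).app (op V) = α.app (op V) := by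
    rw [← NatTrans.comp_app, toSheafify_sheafifyLift]
  exact ConcreteCategory.congr_hom h0 b

/-- a map out of a constant sheaf is a monomorphism as soon as it kills no nonzero constant -/
theorem mono_of_cst {E : Sheaf J AddCommGrpCat.{max u v}} (s : K J B ⟶ E)
    (h : ∀ (V : C) (b : B), (s.hom.app (op V)).hom (cst J B V b) = 0 → b = 0 ∨ (⊥ : Sieve V) ∈ J V) :
    Mono s := by
  rw [Sheaf.Hom.mono_iff_presheaf_mono]
  haveI : ∀ V : Cᵒᵖ, Mono (s.hom.app V) := by
    intro V
    rw [AddCommGrpCat.mono_iff_injective, injective_iff_map_eq_zero]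
    intro x hx
    obtain ⟨S, hS, H⟩ := exists_cst_locally J x
    apply ext_of_cover (K J B) S hS _ _
    intro W f hf
    obtain ⟨b, hb⟩ := H f hf
    rw [map_zero, ← hb]
    have h1 : (s.hom.app (op W)).hom (cst J B W b) = 0 := by
      rw [hb, ← res_map, hx, map_zero]
    rcases h W b h1 with h2 | h2
    · rw [h2, map_zero]
    · exact eq_of_bot_mem _ h2 _ _
  exact NatTrans.mono_of_mono_app _

/-- a map out of a constant sheaf is an epimorphism as soon as every section of the target is
locally the image of a constant -/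
theorem epi_of_cst {E : Sheaf J AddCommGrpCat.{max u v}} (s : K J B ⟶ E)
    (h : ∀ (V : C) (e : E.obj.obj (op V)), ∃ S ∈ J V, ∀ ⦃W : C⦄ (f : W ⟶ V), S f →
      ∃ b : B, (s.hom.app (op W)).hom (cst J B W b) = res J E f e) : Epi s := by
  rw [← Sheaf.isLocallySurjective_iff_epi']
  constructor
  intro V e
  obtain ⟨S, hS, H⟩ := h V e
  refine J.superset_covering ?_ hS
  intro W f hf
  obtain ⟨b, hb⟩ := H f hf
  exact ⟨cst J B W b, hb⟩

end Groth.Agent.Lib.Helper21.ConstHom
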