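import Mathlib
set_option autoImplicit false
universe u
open CategoryTheory Opposite Limits

namespace Groth.Agent.Lib.Helper21.ConstSec

variable {C : Type u} [SmallCategory C] (J : GrothendieckTopology C) (Λ : Type u) [CommRing Λ] (U : C)

/-- sections over `U` of the constant sheaf, as a functor of the module. -/
noncomputable def Φ : ModuleCat.{u} Λ ⥤ ModuleCat.{u} Λ :=
  (Functor.const Cᵒᵖ ⋙ presheafToSheaf J (ModuleCat.{u} Λ)) ⋙ sheafToPresheaf J (ModuleCat.{u} Λ) ⋙
    (evaluation Cᵒᵖ (ModuleCat.{u} Λ)).obj (op U)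

theorem Φ_obj (M : ModuleCat.{u} Λ) :
    (Φ J Λ U).obj M = ((constantSheaf J (ModuleCat.{u} Λ)).obj M).obj.obj (op U) := rfl

theorem Φ_map {M N : ModuleCat.{u} Λ} (f : M ⟶ N) :
    (Φ J Λ U).map f = ((constantSheaf J (ModuleCat.{u} Λ)).map f).hom.app (op U) := rfl

noncomputable instance : PreservesFiniteLimits (Φ J Λ U) := by unfold Φ; infer_instance
instance : (Φ J Λ U).Additive := by unfold Φ; infer_instance

/-- the constant-sheaf sections functor preserves surjections (choose a set-theoretic section). -/
theorem Φ_map_surjective {N N' : ModuleCat.{u} Λ} (π : N ⟶ N') (hπ : Function.Surjective π.hom) :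
    Function.Surjective ((Φ J Λ U).map π).hom := by
  classical
  let F := forget (ModuleCat.{u} Λ)
  let P := (Functor.const Cᵒᵖ).obj N
  let P' := (Functor.const Cᵒᵖ).obj N'
  let α : P ⟶ P' := (Functor.const Cᵒᵖ).map π
  choose σ hσ using hπ
  let β : P' ⋙ F ⟶ P ⋙ F :=
    { app := fun _ => TypeCat.ofHom σ
      naturality := by
        intro X Y f
        ext x
        simp [P, P'] }
  have hβ : β ≫ Functor.whiskerRight α F = 𝟙 _ := by
    ext X x
    exact hσ x
  have h1 : (presheafToSheaf J (Type u)).map β ≫
      (presheafToSheaf J (Type u)).map (Functor.whiskerRight α F) = 𝟙 _ := by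
    rw [← Functor.map_comp, hβ]
    exact CategoryTheory.Functor.map_id _ _
  let e := sheafComposeNatIso J F (sheafificationAdjunction J (ModuleCat.{u} Λ))
    (sheafificationAdjunction J (Type u))
  have hnat := e.hom.naturality α
  -- evaluate at `U`
  have hsurj : Function.Surjective
      (((presheafToSheaf J (Type u)).map (Functor.whiskerRight α F)).hom.app (op U)) := by
    intro y
    refine ⟨((presheafToSheaf J (Type u)).map β).hom.app (op U) y, ?_⟩
    have h2 := congrArg (fun t => t.hom.app (op U)) h1
    exact CategoryTheory.congr_fun h2 y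
  intro y
  -- transport `y` through the isomorphism
  have hiso : IsIso ((e.hom.app P').hom.app (op U)) := inferInstance
  obtain ⟨y', hy'⟩ := ((isIso_iff_bijective _).1 hiso).2 y
  obtain ⟨x', hx'⟩ := hsurj y'
  refine ⟨(e.hom.app P).hom.app (op U) x', ?_⟩
  have h3 := congrArg (fun t => t.hom.app (op U)) hnat
  have h4 := CategoryTheory.congr_fun h3 x'
  rw [← hy', ← hx']
  exact h4.symm

end Groth.Agent.Lib.Helper21.ConstSec
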