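import Mathlib
import Groth.Agent.Lib.Helper21ConstSec1
set_option autoImplicit false
universe u
open CategoryTheory Opposite Limits

namespace Groth.Agent.Lib.Helper21.ConstSec

variable {C : Type u} [SmallCategory C] (J : GrothendieckTopology C) (Λ : Type u) [CommRing Λ] (U : C)

theorem Φ_preservesFiniteColimits : PreservesFiniteColimits (Φ J Λ U) := by
  rw [Functor.preservesFiniteColimits_iff_forall_exact_map_and_epi]
  intro S hS
  have h2 := (Functor.preservesFiniteLimits_iff_forall_exact_map_and_mono (Φ J Λ U)).1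
    inferInstance S hS
  refine ⟨h2.1, ?_⟩
  haveI := hS.epi_g
  rw [ModuleCat.epi_iff_surjective]
  exact Φ_map_surjective J Λ U S.g ((ModuleCat.epi_iff_surjective S.g).1 inferInstance)

/-- `Φ` is `Λ`-linear on morphisms. -/
theorem Φ_map_smul {M N : ModuleCat.{u} Λ} (r : Λ) (f : M ⟶ N) :
    (Φ J Λ U).map (r • f) = r • (Φ J Λ U).map f := by
  have hkey : ∀ (N : ModuleCat.{u} Λ),
      sheafifyMap J ((Functor.const Cᵒᵖ).map (r • 𝟙 N)) =
        r • 𝟙 (sheafify J ((Functor.const Cᵒᵖ).obj N)) := by
    intro N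
    apply sheafify_hom_ext J _ _ ((presheafToSheaf J _).obj _).property
    rw [← toSheafify_naturality]
    have h1 : (Functor.const Cᵒᵖ).map (r • 𝟙 N) = r • 𝟙 ((Functor.const Cᵒᵖ).obj N) := by
      ext X : 2
      rw [NatTrans.app_smul]
      rfl
    rw [h1, Linear.smul_comp, Linear.comp_smul, Category.id_comp, Category.comp_id]
  have h2 : r • f = f ≫ (r • 𝟙 N) := by
    rw [Linear.comp_smul, Category.comp_id]
  rw [h2, Functor.map_comp]
  have h3 : (Φ J Λ U).map (r • 𝟙 N) = r • 𝟙 _ := by
    have h4 := congrArg (fun t => t.app (op U)) (hkey N)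
    simp only [NatTrans.app_smul] at h4
    exact h4
  rw [h3, Linear.comp_smul, Category.comp_id]

end Groth.Agent.Lib.Helper21.ConstSec
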