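import Mathlib
set_option autoImplicit false
universe u
open CategoryTheory Opposite Limits TensorProduct

namespace Groth.Agent.Lib.Helper21.Watts

variable (Λ : Type u) [CommRing Λ]

/-- `m ↦ m ⊗ q` -/
noncomputable def fq (M : Type u) [AddCommGroup M] [Module Λ M]
    (Q : Type u) [AddCommGroup Q] [Module Λ Q] (q : Q) :
    ModuleCat.of Λ M ⟶ ModuleCat.of Λ (M ⊗[Λ] Q) :=
  ModuleCat.ofHom ((TensorProduct.mk Λ M Q).flip q)

theorem fq_add (M : Type u) [AddCommGroup M] [Module Λ M]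
    (Q : Type u) [AddCommGroup Q] [Module Λ Q] (q q' : Q) :
    fq Λ M Q (q + q') = fq Λ M Q q + fq Λ M Q q' := by
  unfold fq
  rw [map_add]
  rfl

theorem fq_smul (M : Type u) [AddCommGroup M] [Module Λ M]
    (Q : Type u) [AddCommGroup Q] [Module Λ Q] (r : Λ) (q : Q) :
    fq Λ M Q (r • q) = r • fq Λ M Q q := by
  unfold fq
  rw [map_smul]
  rfl

variable {Λ}
variable (Φ : ModuleCat.{u} Λ ⥤ ModuleCat.{u} Λ) [Φ.Additive]
  (hlin : ∀ (M N : ModuleCat.{u} Λ) (r : Λ) (f : M ⟶ N), Φ.map (r • f) = r • Φ.map f)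
  (M : Type u) [AddCommGroup M] [Module Λ M]

include hlin in
/-- the comparison map `Φ(M) ⊗ Q → Φ(M ⊗ Q)` -/
noncomputable def θ (Q : Type u) [AddCommGroup Q] [Module Λ Q] :
    (Φ.obj (ModuleCat.of Λ M)) ⊗[Λ] Q →ₗ[Λ] Φ.obj (ModuleCat.of Λ (M ⊗[Λ] Q)) :=
  TensorProduct.lift (LinearMap.mk₂ Λ (fun s q => (Φ.map (fq Λ M Q q)).hom s)
    (fun s s' q => map_add _ s s')
    (fun r s q => map_smul _ r s)
    (fun s q q' => by
      rw [fq_add, Functor.map_add]
      rfl)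
    (fun r s q => by
      rw [fq_smul, hlin]
      rfl))

theorem θ_tmul (Q : Type u) [AddCommGroup Q] [Module Λ Q] (s : Φ.obj (ModuleCat.of Λ M)) (q : Q) :
    θ Φ hlin M Q (s ⊗ₜ q) = (Φ.map (fq Λ M Q q)).hom s := by
  unfold θ
  rw [TensorProduct.lift.tmul]
  rfl

theorem θ_nat {Q Q' : Type u} [AddCommGroup Q] [Module Λ Q] [AddCommGroup Q'] [Module Λ Q']
    (h : Q →ₗ[Λ] Q') (z : (Φ.obj (ModuleCat.of Λ M)) ⊗[Λ] Q) :
    θ Φ hlin M Q' (LinearMap.lTensor _ h z) =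
      (Φ.map (ModuleCat.ofHom (LinearMap.lTensor M h))).hom (θ Φ hlin M Q z) := by
  induction z using TensorProduct.induction_on with
  | zero => simp
  | tmul s q =>
    rw [LinearMap.lTensor_tmul, θ_tmul, θ_tmul]
    have h1 : fq Λ M Q' (h q) = fq Λ M Q q ≫ ModuleCat.ofHom (LinearMap.lTensor M h) := by
      unfold fq
      rw [← ModuleCat.ofHom_comp]
      congr 1
    rw [h1, Functor.map_comp]
    rfl
  | add a b ha hb => rw [map_add, map_add, ha, hb, map_add, map_add]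

end Groth.Agent.Lib.Helper21.Watts
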