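import Mathlib
import Groth.Agent.Lib.Helper21Watts1
set_option autoImplicit false
universe u
open CategoryTheory Opposite Limits TensorProduct

namespace Groth.Agent.Lib.Helper21.Watts

variable {Λ : Type u} [CommRing Λ]
variable (Φ : ModuleCat.{u} Λ ⥤ ModuleCat.{u} Λ) [Φ.Additive]
  (hlin : ∀ (M N : ModuleCat.{u} Λ) (r : Λ) (f : M ⟶ N), Φ.map (r • f) = r • Φ.map f)
  (M : Type u) [AddCommGroup M] [Module Λ M]

theorem lTensor_sum' {R : Type*} [CommSemiring R] (M' : Type*) {N P : Type*} [AddCommMonoid M']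
    [AddCommMonoid N] [AddCommMonoid P] [Module R M'] [Module R N] [Module R P]
    {ι : Type*} (s : Finset ι) (f : ι → N →ₗ[R] P) :
    (∑ i ∈ s, f i).lTensor M' = ∑ i ∈ s, (f i).lTensor M' :=
  map_sum (LinearMap.lTensorHom (R := R) M') f s

theorem θ_self_bijective : Function.Bijective (θ Φ hlin M Λ) := by
  have h1 : fq Λ M Λ 1 = ((TensorProduct.rid Λ M).symm.toModuleIso).hom := by
    unfold fq
    apply ModuleCat.hom_ext
    apply LinearMap.ext
    intro m
    rfl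
  haveI : IsIso (fq Λ M Λ 1) := by rw [h1]; infer_instance
  have h2 : (θ Φ hlin M Λ : _ → _) = (Φ.map (fq Λ M Λ 1)).hom ∘ (TensorProduct.rid Λ _) := by
    have h3 : θ Φ hlin M Λ = (Φ.map (fq Λ M Λ 1)).hom ∘ₗ (TensorProduct.rid Λ _).toLinearMap := by
      apply TensorProduct.ext'
      intro s r
      rw [θ_tmul, LinearMap.comp_apply, LinearEquiv.coe_coe, TensorProduct.rid_tmul, map_smul]
      have h4 : fq Λ M Λ r = r • fq Λ M Λ 1 := by
        rw [← fq_smul, smul_eq_mul, mul_one]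
      rw [h4, hlin]
      rfl
    rw [h3]
    rfl
  rw [h2]
  refine Function.Bijective.comp ?_ (TensorProduct.rid Λ _).bijective
  exact ConcreteCategory.bijective_of_isIso (Φ.map (fq Λ M Λ 1))

/-- finite direct sums -/
theorem θ_bijective_of_sum {n : ℕ} (Q : Type u) [AddCommGroup Q] [Module Λ Q]
    (Qi : Fin n → Type u) [∀ i, AddCommGroup (Qi i)] [∀ i, Module Λ (Qi i)]
    (ι : ∀ i, Qi i →ₗ[Λ] Q) (π : ∀ i, Q →ₗ[Λ] Qi i)
    (hsum : ∑ i, (ι i) ∘ₗ (π i) = LinearMap.id)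
    (h : ∀ i, Function.Bijective (θ Φ hlin M (Qi i))) : Function.Bijective (θ Φ hlin M Q) := by
  have hid1 : ∀ z : (Φ.obj (ModuleCat.of Λ M)) ⊗[Λ] Q,
      z = ∑ i, LinearMap.lTensor _ (ι i) (LinearMap.lTensor _ (π i) z) := by
    intro z
    have hz : LinearMap.lTensor (Φ.obj (ModuleCat.of Λ M)) (∑ i, (ι i) ∘ₗ (π i)) z = z := by
      rw [hsum, LinearMap.lTensor_id, LinearMap.id_apply]
    refine hz.symm.trans ?_
    rw [lTensor_sum', LinearMap.sum_apply]
    refine Finset.sum_congr rfl fun i _ => ?_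
    rw [LinearMap.lTensor_comp, LinearMap.comp_apply]
  have hid2 : ∀ y : Φ.obj (ModuleCat.of Λ (M ⊗[Λ] Q)),
      y = ∑ i, (Φ.map (ModuleCat.ofHom (LinearMap.lTensor M (ι i)))).hom
        ((Φ.map (ModuleCat.ofHom (LinearMap.lTensor M (π i)))).hom y) := by
    intro y
    have h1 : 𝟙 (ModuleCat.of Λ (M ⊗[Λ] Q)) =
        ∑ i, ModuleCat.ofHom (LinearMap.lTensor M (π i)) ≫ ModuleCat.ofHom (LinearMap.lTensor M (ι i)) := by
      have h2 : (LinearMap.id : M ⊗[Λ] Q →ₗ[Λ] _) = ∑ i, LinearMap.lTensor M (ι i) ∘ₗ LinearMap.lTensor M (π i) := by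
        simp_rw [← LinearMap.lTensor_comp]
        rw [← lTensor_sum', hsum, LinearMap.lTensor_id]
      apply ModuleCat.hom_ext
      rw [ModuleCat.hom_sum]
      exact h2
    have h3 := congrArg (fun t => (Φ.map t).hom y) h1
    simp only [Functor.map_sum, Functor.map_comp] at h3
    rw [ModuleCat.hom_sum, LinearMap.sum_apply] at h3
    have h4 : Φ.map (𝟙 (ModuleCat.of Λ (M ⊗[Λ] Q))) = 𝟙 _ := CategoryTheory.Functor.map_id _ _
    rw [h4] at h3
    exact h3
  constructor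
  · rw [injective_iff_map_eq_zero]
    intro z hz
    rw [hid1 z]
    refine Finset.sum_eq_zero fun i _ => ?_
    have h1 := θ_nat Φ hlin M (π i) z
    rw [hz, map_zero] at h1
    rw [(h i).1 (h1.trans (map_zero _).symm), map_zero]
  · intro y
    choose w hw using fun i => (h i).2 ((Φ.map (ModuleCat.ofHom (LinearMap.lTensor M (π i)))).hom y)
    refine ⟨∑ i, LinearMap.lTensor _ (ι i) (w i), ?_⟩
    rw [map_sum, hid2 y]
    refine Finset.sum_congr rfl fun i _ => ?_
    rw [θ_nat, hw]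

end Groth.Agent.Lib.Helper21.Watts
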