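import Mathlib
import Groth.Agent.Lib.Helper21Watts2
set_option autoImplicit false
universe u
open CategoryTheory Opposite Limits TensorProduct

namespace Groth.Agent.Lib.Helper21.Watts

variable {Λ : Type u} [CommRing Λ]
variable (Φ : ModuleCat.{u} Λ ⥤ ModuleCat.{u} Λ) [Φ.Additive]
  (hlin : ∀ (M N : ModuleCat.{u} Λ) (r : Λ) (f : M ⟶ N), Φ.map (r • f) = r • Φ.map f)
  (M : Type u) [AddCommGroup M] [Module Λ M]

theorem θ_pi_bijective (n : ℕ) : Function.Bijective (θ Φ hlin M (Fin n → Λ)) := by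
  classical
  refine θ_bijective_of_sum Φ hlin M (Fin n → Λ) (fun _ => Λ)
    (fun i => LinearMap.single Λ (fun _ => Λ) i) (fun i => LinearMap.proj i) ?_
    (fun _ => θ_self_bijective Φ hlin M)
  apply LinearMap.ext
  intro x
  rw [LinearMap.sum_apply, LinearMap.id_apply]
  simp only [LinearMap.comp_apply, LinearMap.proj_apply, LinearMap.coe_single]
  exact Finset.univ_sum_single x

/-- right exactness of `Φ` on linear maps -/
theorem exact_map [PreservesFiniteColimits Φ] {N₁ N₂ N₃ : Type u} [AddCommGroup N₁] [Module Λ N₁]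
    [AddCommGroup N₂] [Module Λ N₂] [AddCommGroup N₃] [Module Λ N₃]
    (f : N₁ →ₗ[Λ] N₂) (g : N₂ →ₗ[Λ] N₃) (hfg : Function.Exact f g) (hg : Function.Surjective g) :
    Function.Exact (Φ.map (ModuleCat.ofHom f)).hom (Φ.map (ModuleCat.ofHom g)).hom ∧
      Function.Surjective (Φ.map (ModuleCat.ofHom g)).hom := by
  have hzero : ModuleCat.ofHom f ≫ ModuleCat.ofHom g = 0 := by
    apply ModuleCat.hom_ext
    apply LinearMap.ext
    intro x
    exact hfg.apply_apply_eq_zero x
  let S : ShortComplex (ModuleCat.{u} Λ) := ShortComplex.mk _ _ hzero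
  have hS : S.Exact := (ShortComplex.ShortExact.moduleCat_exact_iff_function_exact S).2 hfg
  haveI : Epi S.g := (ModuleCat.epi_iff_surjective _).2 hg
  have h0 := (Functor.preservesFiniteColimits_tfae Φ).out 3 1
  have h := h0.1 inferInstance S ⟨hS, inferInstance⟩
  refine ⟨(ShortComplex.ShortExact.moduleCat_exact_iff_function_exact (S.map Φ)).1 h.1, ?_⟩
  exact (ModuleCat.epi_iff_surjective _).1 h.2

theorem θ_bijective_of_fp [PreservesFiniteColimits Φ] (Q : Type u) [AddCommGroup Q] [Module Λ Q]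
    [Module.FinitePresentation Λ Q] : Function.Bijective (θ Φ hlin M Q) := by
  classical
  obtain ⟨n, K, e, hK⟩ := Module.FinitePresentation.exists_fin Λ Q
  obtain ⟨m, g, hg⟩ := Submodule.fg_iff_exists_fin_generating_family.1 hK
  let p : (Fin n → Λ) →ₗ[Λ] Q := e.symm.toLinearMap ∘ₗ K.mkQ
  let A : (Fin m → Λ) →ₗ[Λ] (Fin n → Λ) := Fintype.linearCombination Λ g
  have hp : Function.Surjective p := e.symm.surjective.comp K.mkQ_surjective
  have hAp : Function.Exact A p := by
    rw [LinearMap.exact_iff]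
    have h1 : LinearMap.ker p = K := by
      rw [LinearMap.ker_comp, LinearEquiv.ker, Submodule.comap_bot, Submodule.ker_mkQ]
    rw [h1, Fintype.range_linearCombination, hg]
  -- rows
  have htop := lTensor_exact (Φ.obj (ModuleCat.of Λ M)) hAp hp
  have htops : Function.Surjective (LinearMap.lTensor (Φ.obj (ModuleCat.of Λ M)) p) :=
    LinearMap.lTensor_surjective _ hp
  obtain ⟨hbot, hbots⟩ := exact_map Φ (LinearMap.lTensor M A) (LinearMap.lTensor M p)
    (lTensor_exact M hAp hp) (LinearMap.lTensor_surjective _ hp)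
  have hm := θ_pi_bijective Φ hlin M m
  have hn := θ_pi_bijective Φ hlin M n
  constructor
  · rw [injective_iff_map_eq_zero]
    intro z hz
    obtain ⟨z₂, rfl⟩ := htops z
    rw [θ_nat] at hz
    obtain ⟨y₁, hy₁⟩ := (hbot _).1 hz
    obtain ⟨z₁, rfl⟩ := hm.2 y₁
    rw [← θ_nat] at hy₁
    have h2 := hn.1 hy₁
    rw [← h2]
    exact htop.apply_apply_eq_zero z₁
  · intro y
    obtain ⟨y₂, rfl⟩ := hbots y
    obtain ⟨z₂, rfl⟩ := hn.2 y₂
    exact ⟨_, θ_nat Φ hlin M p z₂⟩

end Groth.Agent.Lib.Helper21.Watts
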