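import Mathlib
import Groth.Agent.Lib.Helper21ConstSec2
import Groth.Agent.Lib.Helper21Watts3

/-!
# Helper21: sections of constant sheaves of modules and tensor products with f.p. modules
-/
set_option autoImplicit false
universe u
open CategoryTheory Opposite Limits TensorProduct

namespace Groth.Agent.Lib.Helper21.ConstSec

open Groth.Agent.Lib.Helper21.Watts

variable {C : Type u} [SmallCategory C] (J : GrothendieckTopology C) (Λ : Type u) [CommRing Λ] (U : C)

theorem Φ_lin : ∀ (M N : ModuleCat.{u} Λ) (r : Λ) (f : M ⟶ N),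
    (Φ J Λ U).map (r • f) = r • (Φ J Λ U).map f :=
  fun _ _ r f => Φ_map_smul J Λ U r f

/-- the comparison `M̲(U) ⊗ Q → (M ⊗ Q)̲(U)` is bijective for `Q` finitely presented. -/
theorem θ_bijective (M Q : Type u) [AddCommGroup M] [Module Λ M] [AddCommGroup Q] [Module Λ Q]
    [Module.FinitePresentation Λ Q] :
    Function.Bijective (θ (Φ J Λ U) (Φ_lin J Λ U) M Q) := by
  haveI := Φ_preservesFiniteColimits J Λ U
  exact θ_bijective_of_fp (Φ J Λ U) (Φ_lin J Λ U) M Q

/-- sections of the constant sheaf on a flat module over a coherent ring are flat. -/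
theorem flat_sections (hΛ : ∀ I : Ideal Λ, I.FG → Module.FinitePresentation Λ I)
    (M : Type u) [AddCommGroup M] [Module Λ M] [Module.Flat Λ M] :
    Module.Flat Λ ((Φ J Λ U).obj (ModuleCat.of Λ M)) := by
  rw [Module.Flat.iff_lTensor_injective]
  intro I hI
  haveI := hΛ I hI
  have hI' := θ_bijective J Λ U M I
  have hΛ' := θ_self_bijective (Φ J Λ U) (Φ_lin J Λ U) M
  have hnat := θ_nat (Φ J Λ U) (Φ_lin J Λ U) M I.subtype
  -- `Φ` preserves the injection `M ⊗ I → M ⊗ Λ`
  have hinj : Function.Injective (LinearMap.lTensor M I.subtype) :=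
    Module.Flat.lTensor_preserves_injective_linearMap I.subtype Subtype.val_injective
  haveI : Mono (ModuleCat.ofHom (LinearMap.lTensor M I.subtype)) :=
    (ModuleCat.mono_iff_injective _).2 hinj
  have hinj2 : Function.Injective
      ((Φ J Λ U).map (ModuleCat.ofHom (LinearMap.lTensor M I.subtype))).hom :=
    (ModuleCat.mono_iff_injective _).1 inferInstance
  intro z z' hz
  apply hI'.1
  apply hinj2
  rw [← hnat, ← hnat, hz]

end Groth.Agent.Lib.Helper21.ConstSec
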