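import Mathlib
import Groth.Agent.Lib.Helper21Ext1

/-!
# Constant sheaves on a site: sections, maps out of `ℤ`, and `φ`-torsion in `H¹` (helper21)

* `exists_global_of_local_unique`: gluing of locally existing, unique sections.
* `cst`, `res_cst`, `exists_cst_locally`, `cst_eq_cst`: constants as sections of constant sheaves.
* `hom_ext_one`, `exists_hom_of_family`: maps out of the constant sheaf `ℤ`.
* `exists_section`: an extension of `ℤ` by a torsion-free constant sheaf splits as soon as a locally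
  nonzero endomorphism of `ℤ` lifts to it.
-/

set_option autoImplicit false
universe u
open CategoryTheory CategoryTheory.Limits Opposite

namespace Groth.Agent.Lib.Helper21.ConstTors

variable {C : Type u} [SmallCategory C] (J : GrothendieckTopology C)

/-- restriction of sections of an abelian sheaf -/
abbrev res (E : Sheaf J AddCommGrpCat.{u}) {V W : C} (f : W ⟶ V) :
    E.obj.obj (op V) →+ E.obj.obj (op W) :=
  (E.obj.map f.op).hom

variable {J}

lemma res_id (E : Sheaf J AddCommGrpCat.{u}) {V : C} (t : E.obj.obj (op V)) :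
    res J E (𝟙 V) t = t := by
  change (E.obj.map (𝟙 V).op).hom t = t
  rw [op_id, E.obj.map_id]
  rfl

lemma res_comp (E : Sheaf J AddCommGrpCat.{u}) {V W Z : C} (g : Z ⟶ W) (f : W ⟶ V)
    (t : E.obj.obj (op V)) : res J E (g ≫ f) t = res J E g (res J E f t) := by
  change (E.obj.map (g ≫ f).op).hom t = (E.obj.map g.op).hom ((E.obj.map f.op).hom t)
  rw [op_comp, E.obj.map_comp]
  rfl

lemma res_map {E E' : Sheaf J AddCommGrpCat.{u}} (a : E ⟶ E') {V W : C} (f : W ⟶ V)
    (t : E.obj.obj (op V)) :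
    res J E' f ((a.hom.app (op V)).hom t) = (a.hom.app (op W)).hom (res J E f t) :=
  (ConcreteCategory.congr_hom (a.hom.naturality f.op) t).symm

theorem isSheafFor_forget (E : Sheaf J AddCommGrpCat.{u}) {V : C} (S : Sieve V) (hS : S ∈ J V) :
    Presieve.IsSheafFor (E.obj ⋙ forget AddCommGrpCat.{u}) S.arrows :=
  ((Presheaf.isSheaf_iff_isSheaf_forget J E.obj (forget AddCommGrpCat.{u})).1
    E.property).isSheafFor S hS

/-- sections of a sheaf agreeing on a covering sieve are equal -/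
theorem ext_of_cover (E : Sheaf J AddCommGrpCat.{u}) {V : C} (S : Sieve V) (hS : S ∈ J V)
    (t t' : E.obj.obj (op V)) (h : ∀ ⦃W : C⦄ (f : W ⟶ V), S f → res J E f t = res J E f t') :
    t = t' :=
  (isSheafFor_forget E S hS).isSeparatedFor.ext (fun _ f hf => h f hf)

/-- if the empty sieve covers `V` then sections over `V` are unique -/
theorem eq_of_bot_mem (E : Sheaf J AddCommGrpCat.{u}) {V : C} (hV : (⊥ : Sieve V) ∈ J V)
    (t t' : E.obj.obj (op V)) : t = t' :=
  ext_of_cover E ⊥ hV t t' (fun _ _ hf => hf.elim)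

/-- gluing: a subpresheaf of a sheaf which is local, has at most one section over every object
and is locally inhabited has a (unique) compatible family of sections. -/
theorem exists_global_of_local_unique (E : Sheaf J AddCommGrpCat.{u})
    (T : ∀ V : C, Set (E.obj.obj (op V)))
    (hres : ∀ ⦃V W : C⦄ (f : W ⟶ V) (t : E.obj.obj (op V)), t ∈ T V → res J E f t ∈ T W)
    (hloc : ∀ (V : C) (t : E.obj.obj (op V)) (S : Sieve V), S ∈ J V →
      (∀ ⦃W : C⦄ (f : W ⟶ V), S f → res J E f t ∈ T W) → t ∈ T V)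
    (huniq : ∀ (V : C) (t t' : E.obj.obj (op V)), t ∈ T V → t' ∈ T V → t = t')
    (hex : ∀ V : C, ∃ S ∈ J V, ∀ ⦃W : C⦄ (f : W ⟶ V), S f → (T W).Nonempty) :
    ∃ t : ∀ V : C, E.obj.obj (op V), (∀ V, t V ∈ T V) ∧
      ∀ ⦃V W : C⦄ (f : W ⟶ V), res J E f (t V) = t W := by
  have key : ∀ V : C, ∃ t : E.obj.obj (op V), t ∈ T V := by
    intro V
    obtain ⟨S, hS, hne⟩ := hex V
    let x : Presieve.FamilyOfElements (E.obj ⋙ forget AddCommGrpCat.{u}) S.arrows :=
      fun W f hf => (hne f hf).choose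
    have hx : ∀ ⦃W : C⦄ (f : W ⟶ V) (hf : S f), x f hf ∈ T W :=
      fun W f hf => (hne f hf).choose_spec
    have hcomp : x.Compatible := by
      intro W₁ W₂ Z g₁ g₂ f₁ f₂ h₁ h₂ _
      exact huniq Z (res J E g₁ (x f₁ h₁)) (res J E g₂ (x f₂ h₂)) (hres g₁ _ (hx f₁ h₁))
        (hres g₂ _ (hx f₂ h₂))
    obtain ⟨t, ht, -⟩ := isSheafFor_forget E S hS x hcomp
    refine ⟨t, hloc V t S hS (fun W f hf => ?_)⟩
    have h1 : res J E f t = x f hf := ht f hf
    rw [h1]
    exact hx f hf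
  choose t ht using key
  exact ⟨t, ht, fun V W f => huniq W _ _ (hres f _ (ht V)) (ht W)⟩

variable (J)

section const
variable (B : Type u) [AddCommGroup B]

/-- the constant presheaf -/
abbrev Kp : Cᵒᵖ ⥤ AddCommGrpCat.{u} := (Functor.const Cᵒᵖ).obj (AddCommGrpCat.of B)

/-- the constant sheaf -/
noncomputable abbrev K : Sheaf J AddCommGrpCat.{u} :=
  (constantSheaf J AddCommGrpCat.{u}).obj (AddCommGrpCat.of B)

/-- constants as sections of the constant sheaf -/
noncomputable def cst (V : C) : B →+ (K J B).obj.obj (op V) :=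
  ((toSheafify J (Kp B)).app (op V)).hom

variable {B}

lemma res_cst {V W : C} (f : W ⟶ V) (b : B) :
    res J (K J B) f (cst J B V b) = cst J B W b := by
  have h := ConcreteCategory.congr_hom ((toSheafify J (Kp B)).naturality f.op) b
  exact h.symm

lemma exists_cst_locally {V : C} (s : (K J B).obj.obj (op V)) :
    ∃ S ∈ J V, ∀ ⦃W : C⦄ (f : W ⟶ V), S f → ∃ b : B, cst J B W b = res J (K J B) f s := by
  refine ⟨Presheaf.imageSieve (toSheafify J (Kp B)) s,
    Presheaf.imageSieve_mem J (toSheafify J (Kp B)) s, ?_⟩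
  intro W f hf
  obtain ⟨b, hb⟩ := hf
  exact ⟨b, hb⟩

lemma cst_eq_cst {V : C} (b b' : B) (h : cst J B V b = cst J B V b') :
    b = b' ∨ (⊥ : Sieve V) ∈ J V := by
  by_cases hb : b = b'
  · exact Or.inl hb
  · right
    have h1 := Presheaf.equalizerSieve_mem J (toSheafify J (Kp B)) (X := op V) b b' h
    refine J.superset_covering ?_ h1
    intro W f hf
    exact (hb hf).elim

end const

section Z

/-- the constant sheaf `ℤ` -/
noncomputable abbrev ZC : Sheaf J AddCommGrpCat.{u} := K J (ULift.{u} ℤ)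

/-- the section `1` of the constant sheaf `ℤ` -/
noncomputable def one (V : C) : (ZC J).obj.obj (op V) := cst J (ULift.{u} ℤ) V ⟨1⟩

variable {J}

lemma res_one {V W : C} (f : W ⟶ V) : res J (ZC J) f (one J V) = one J W :=
  res_cst J f _

lemma cst_eq_zsmul_one (V : C) (m : ULift.{u} ℤ) :
    cst J (ULift.{u} ℤ) V m = m.down • one J V := by
  unfold one
  rw [← map_zsmul]
  congr 1
  apply ULift.ext
  simp

/-- maps out of the constant sheaf `ℤ` are determined by the image of `1` -/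
theorem hom_ext_one {E : Sheaf J AddCommGrpCat.{u}} (a b : ZC J ⟶ E)
    (h : ∀ V : C, (a.hom.app (op V)).hom (one J V) = (b.hom.app (op V)).hom (one J V)) : a = b := by
  apply Sheaf.hom_ext
  apply sheafify_hom_ext _ _ _ E.property
  ext ⟨V⟩ m
  change (a.hom.app (op V)).hom (cst J (ULift.{u} ℤ) V m) =
    (b.hom.app (op V)).hom (cst J (ULift.{u} ℤ) V m)
  rw [cst_eq_zsmul_one, map_zsmul, map_zsmul, h]

/-- the map out of the constant sheaf `ℤ` attached to a compatible family of sections -/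
theorem exists_hom_of_family (E : Sheaf J AddCommGrpCat.{u}) (t : ∀ V : C, E.obj.obj (op V))
    (ht : ∀ ⦃V W : C⦄ (f : W ⟶ V), res J E f (t V) = t W) :
    ∃ s : ZC J ⟶ E, ∀ V : C, (s.hom.app (op V)).hom (one J V) = t V := by
  let α : Kp (ULift.{u} ℤ) ⟶ E.obj :=
    { app := fun V => AddCommGrpCat.ofHom
        { toFun := fun m => m.down • t V.unop
          map_zero' := by simp
          map_add' := fun m m' => by simp [add_zsmul] }
      naturality := by
        intro V W f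
        ext m
        change m.down • t W.unop = (E.obj.map f).hom (m.down • t V.unop)
        rw [map_zsmul]
        congr 1
        exact (ht f.unop).symm }
  refine ⟨⟨sheafifyLift J α E.property⟩, fun V => ?_⟩
  have h0 : (toSheafify J (Kp (ULift.{u} ℤ))).app (op V) ≫ (sheafifyLift J α E.property).app (op V) =
      α.app (op V) := by
    rw [← NatTrans.comp_app, toSheafify_sheafifyLift]
  have h := ConcreteCategory.congr_hom h0 (⟨1⟩ : ULift.{u} ℤ)
  refine h.trans ?_
  change (1 : ℤ) • t V = t V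
  rw [one_zsmul]

end Z



section sections
variable {J}

theorem exact_sections {S : ShortComplex (Sheaf J AddCommGrpCat.{u})} (hS : S.ShortExact)
    (V : C) (e : S.X₂.obj.obj (op V)) (he : (S.g.hom.app (op V)).hom e = 0) :
    ∃ b : S.X₁.obj.obj (op V), (S.f.hom.app (op V)).hom b = e := by
  let F : Sheaf J AddCommGrpCat.{u} ⥤ AddCommGrpCat.{u} :=
    sheafToPresheaf J _ ⋙ (evaluation _ _).obj (op V)
  haveI := hS.mono_f
  haveI : F.PreservesZeroMorphisms := ⟨fun _ _ => rfl⟩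
  have h : (S.map F).Exact := hS.exact.map_of_mono_of_preservesKernel F inferInstance inferInstance
  rw [ShortComplex.ab_exact_iff] at h
  exact h e he

theorem zero_sections (S : ShortComplex (Sheaf J AddCommGrpCat.{u}))
    (V : C) (b : S.X₁.obj.obj (op V)) :
    (S.g.hom.app (op V)).hom ((S.f.hom.app (op V)).hom b) = 0 := by
  have h : ((S.f ≫ S.g).hom.app (op V)).hom b = 0 := by rw [S.zero]; rfl
  exact h

theorem injective_app_of_mono {A B : Sheaf J AddCommGrpCat.{u}} (f : A ⟶ B) [Mono f] (V : C) :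
    Function.Injective (f.hom.app (op V)).hom := by
  haveI : Mono f.hom := (Sheaf.Hom.mono_iff_presheaf_mono J AddCommGrpCat.{u} f).1 inferInstance
  haveI : Mono (f.hom.app (op V)) := inferInstance
  exact (AddCommGrpCat.mono_iff_injective _).1 inferInstance

theorem locally_surjective_of_epi {A B : Sheaf J AddCommGrpCat.{u}} (f : A ⟶ B) [Epi f] (V : C)
    (z : B.obj.obj (op V)) :
    ∃ S ∈ J V, ∀ ⦃W : C⦄ (g : W ⟶ V), S g →
      ∃ t : A.obj.obj (op W), (f.hom.app (op W)).hom t = res J B g z := by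
  haveI : Sheaf.IsLocallySurjective f := (Sheaf.isLocallySurjective_iff_epi' (φ := f)).2 inferInstance
  refine ⟨Presheaf.imageSieve f.hom z, Presheaf.imageSieve_mem J f.hom z, ?_⟩
  intro W g hg
  obtain ⟨t, ht⟩ := hg
  exact ⟨t, ht⟩

end sections

section rep
variable {A : Type u} [AddCommGroup A]

/-- a coset representative of `a` modulo `m A` -/
noncomputable def rep (m : ℤ) (a : A) : A :=
  Function.surjInv (QuotientAddGroup.mk_surjective (s := (zsmulAddGroupHom m : A →+ A).range))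
    (QuotientAddGroup.mk a)

lemma mk_rep (m : ℤ) (a : A) :
    (QuotientAddGroup.mk (rep m a) : A ⧸ (zsmulAddGroupHom m : A →+ A).range) =
      QuotientAddGroup.mk a :=
  Function.surjInv_eq _ _

lemma rep_spec (m : ℤ) (a : A) : ∃ b : A, a = m • b + rep m a := by
  have h := mk_rep m a
  rw [QuotientAddGroup.eq] at h
  obtain ⟨b, hb⟩ := h
  refine ⟨b, ?_⟩
  have hb' : m • b = -rep m a + a := hb
  rw [hb']
  abel

lemma rep_eq_of_sub (m : ℤ) (a a' : A) (b : A) (h : a - a' = m • b) : rep m a = rep m a' := by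
  unfold rep
  congr 1
  rw [QuotientAddGroup.eq]
  refine ⟨-b, ?_⟩
  change m • (-b) = -a + a'
  rw [smul_neg, ← h]
  abel

lemma rep_rep (m : ℤ) (a : A) : rep m (rep m a) = rep m a := by
  obtain ⟨b, hb⟩ := rep_spec m a
  refine rep_eq_of_sub m _ _ (-b) ?_
  rw [smul_neg]
  nth_rewrite 2 [hb]
  abel

end rep


section main
variable {J}
variable {A : Type u} [AddCommGroup A]
  {E : Sheaf J AddCommGrpCat.{u}} (i : K J A ⟶ E) (π : E ⟶ ZC J)
  (φ : ZC J ⟶ ZC J) {ι : Type u} (U : ι → C) (n : ι → ℤ)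
  (ψ : ZC J ⟶ E)

/-- the section of `E` given by `ψ` -/
noncomputable def ev (V : C) : E.obj.obj (op V) := (ψ.hom.app (op V)).hom (one J V)

lemma res_ev {V W : C} (f : W ⟶ V) : res J E f (ev ψ V) = ev ψ W := by
  unfold ev
  rw [res_map, res_one]

lemma π_ev (hψ : ψ ≫ π = φ) (V : C) :
    (π.hom.app (op V)).hom (ev ψ V) = (φ.hom.app (op V)).hom (one J V) := by
  subst hψ
  rfl

lemma φ_apply (hφ : ∀ (k : ι) (V : C) (_ : V ⟶ U k), φ.hom.app (op V) = n k • 𝟙 _)
    (k : ι) {V : C} (h : V ⟶ U k) (z : (ZC J).obj.obj (op V)) :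
    (φ.hom.app (op V)).hom z = n k • z := by
  rw [hφ k V h, AddCommGrpCat.hom_zsmul]
  rfl

/-- `ψ(1) - n_k t` is locally a constant from the set of chosen representatives -/
def Good (V : C) (t : E.obj.obj (op V)) : Prop :=
  ∀ ⦃W : C⦄ (f : W ⟶ V) (k : ι), Nonempty (W ⟶ U k) → ∃ S ∈ J W, ∀ ⦃W' : C⦄ (g : W' ⟶ W), S g →
    ∃ r : A, rep (n k) r = r ∧
      ev ψ W' - n k • res J E (g ≫ f) t = (i.hom.app (op W')).hom (cst J A W' r)

/-- the sections over `1` which are canonical quotients of `ψ(1)` by `φ` -/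
def T (V : C) : Set (E.obj.obj (op V)) :=
  {t | (π.hom.app (op V)).hom t = one J V ∧ Good i U n ψ V t}

lemma T_res ⦃V W : C⦄ (f : W ⟶ V) (t : E.obj.obj (op V)) (ht : t ∈ T i π U n ψ V) :
    res J E f t ∈ T i π U n ψ W := by
  obtain ⟨h1, h2⟩ := ht
  refine ⟨?_, ?_⟩
  · rw [← res_map, h1, res_one]
  · intro W' f' k hk
    obtain ⟨S, hS, H⟩ := h2 (f' ≫ f) k hk
    refine ⟨S, hS, fun W'' g hg => ?_⟩
    obtain ⟨r, hr, hr'⟩ := H g hg
    refine ⟨r, hr, ?_⟩
    rw [← hr', ← res_comp, Category.assoc]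

lemma T_local (V : C) (t : E.obj.obj (op V)) (S : Sieve V) (hS : S ∈ J V)
    (H : ∀ ⦃W : C⦄ (f : W ⟶ V), S f → res J E f t ∈ T i π U n ψ W) : t ∈ T i π U n ψ V := by
  refine ⟨?_, ?_⟩
  · apply ext_of_cover (ZC J) S hS
    intro W f hf
    rw [res_map, (H f hf).1, res_one]
  · intro W f k hk
    have h1 : ∀ ⦃W' : C⦄ (g : W' ⟶ W), (S.pullback f) g → ∃ S' ∈ J W', ∀ ⦃W'' : C⦄ (g' : W'' ⟶ W'),
        S' g' → ∃ r : A, rep (n k) r = r ∧
          ev ψ W'' - n k • res J E (g' ≫ g ≫ f) t = (i.hom.app (op W'')).hom (cst J A W'' r) := by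
      intro W' g hg
      obtain ⟨S', hS', H'⟩ := (H (g ≫ f) hg).2 (𝟙 W') k (hk.map fun h => g ≫ h)
      refine ⟨S', hS', fun W'' g' hg' => ?_⟩
      obtain ⟨r, hr, hr'⟩ := H' g' hg'
      refine ⟨r, hr, ?_⟩
      rw [← hr', Category.comp_id, ← res_comp]
    choose S' hS' H' using h1
    refine ⟨Sieve.bind (S.pullback f) (fun W' g hg => S' g hg),
      J.bind_covering (J.pullback_stable f hS) (fun W' g hg => hS' g hg), ?_⟩
    intro W'' g'' hg''
    obtain ⟨W', g', g, hg, hg', rfl⟩ := hg''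
    obtain ⟨r, hr, hr'⟩ := H' g hg g' hg'
    refine ⟨r, hr, ?_⟩
    rw [← hr', Category.assoc]


lemma T_unique (hA : ∀ (m : ℤ) (a : A), m ≠ 0 → m • a = 0 → a = 0) (w : i ≫ π = 0)
    (hS : (ShortComplex.mk i π w).ShortExact) (hn : ∀ k, n k ≠ 0)
    (hcov : ∀ V : C, ∃ R ∈ J V, ∀ ⦃W : C⦄ (g : W ⟶ V), R g → ∃ k, Nonempty (W ⟶ U k))
    (V : C) (t t' : E.obj.obj (op V)) (ht : t ∈ T i π U n ψ V) (ht' : t' ∈ T i π U n ψ V) :
    t = t' := by
  haveI : Mono i := hS.mono_f
  have hd : (π.hom.app (op V)).hom (t - t') = 0 := by rw [map_sub, ht.1, ht'.1, sub_self]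
  obtain ⟨a, ha⟩ := exact_sections hS V (t - t') hd
  have ha' : (i.hom.app (op V)).hom a = t - t' := ha
  suffices h0 : a = 0 by
    rw [h0, map_zero] at ha'
    exact sub_eq_zero.1 ha'.symm
  obtain ⟨R, hR, HR⟩ := hcov V
  apply ext_of_cover (K J A) R hR a 0
  intro W f hf
  rw [map_zero]
  obtain ⟨k, hk⟩ := HR f hf
  obtain ⟨S1, hS1, H1⟩ := ht.2 f k hk
  obtain ⟨S2, hS2, H2⟩ := ht'.2 f k hk
  apply ext_of_cover (K J A) (S1 ⊓ S2) (J.intersection_covering hS1 hS2) _ 0
  intro W' g hg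
  rw [map_zero]
  obtain ⟨r, hr, hr'⟩ := H1 g hg.1
  obtain ⟨r', hr2, hr2'⟩ := H2 g hg.2
  have key : n k • res J (K J A) g (res J (K J A) f a) = cst J A W' (r' - r) := by
    apply injective_app_of_mono i W'
    rw [map_zsmul, ← res_map, ← res_map, ha', ← res_comp, map_sub, map_sub, map_sub, smul_sub]
    have e1 : n k • res J E (g ≫ f) t = ev ψ W' - (i.hom.app (op W')).hom (cst J A W' r) := by
      rw [← hr']; abel
    have e2 : n k • res J E (g ≫ f) t' = ev ψ W' - (i.hom.app (op W')).hom (cst J A W' r') := by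
      rw [← hr2']; abel
    rw [e1, e2]
    abel
  obtain ⟨S3, hS3, H3⟩ := exists_cst_locally J (res J (K J A) g (res J (K J A) f a))
  apply ext_of_cover (K J A) S3 hS3 _ 0
  intro W'' g' hg'
  rw [map_zero]
  obtain ⟨b, hb⟩ := H3 g' hg'
  rw [← hb]
  have h3 : cst J A W'' (n k • b) = cst J A W'' (r' - r) := by
    rw [map_zsmul, hb, ← map_zsmul, key, res_cst]
  rcases cst_eq_cst J _ _ h3 with h | h
  · have hrr : r' = r := by
      have := rep_eq_of_sub (n k) r' r b h.symm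
      rwa [hr2, hr] at this
    have h4 : n k • b = 0 := by rw [h, hrr, sub_self]
    rw [hA (n k) b (hn k) h4, map_zero]
  · exact eq_of_bot_mem (K J A) h _ _

/-- the sieve of arrows over which `T` is inhabited -/
def Sne (V : C) : Sieve V where
  arrows W _ := (T i π U n ψ W).Nonempty
  downward_closed := by
    rintro W W' f ⟨t, ht⟩ g
    exact ⟨res J E g t, T_res i π U n ψ g t ht⟩

lemma Sne_pullback {V W : C} (f : W ⟶ V) : (Sne i π U n ψ V).pullback f = Sne i π U n ψ W := by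
  ext W' g
  rfl

lemma Sne_mem_of_lift (w : i ≫ π = 0) (hS : (ShortComplex.mk i π w).ShortExact)
    (hφ : ∀ (k : ι) (V : C) (_ : V ⟶ U k), φ.hom.app (op V) = n k • 𝟙 _) (hψ : ψ ≫ π = φ)
    {W' : C} (k : ι) (h : W' ⟶ U k) (t' : E.obj.obj (op W'))
    (ht' : (π.hom.app (op W')).hom t' = one J W') : Sne i π U n ψ W' ∈ J W' := by
  have h0 : (π.hom.app (op W')).hom (ev ψ W' - n k • t') = 0 := by
    rw [map_sub, map_zsmul, π_ev π φ ψ hψ, φ_apply φ U n hφ k h, ht', sub_self]
  obtain ⟨a, ha⟩ := exact_sections hS W' _ h0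
  have ha' : (i.hom.app (op W')).hom a = ev ψ W' - n k • t' := ha
  obtain ⟨S3, hS3, H3⟩ := exists_cst_locally J a
  refine J.superset_covering ?_ hS3
  intro W'' g' hg'
  obtain ⟨a₀, ha₀⟩ := H3 g' hg'
  obtain ⟨b₀, hb₀⟩ := rep_spec (n k) a₀
  have e1 : ev ψ W'' - n k • (res J E g' t' + (i.hom.app (op W'')).hom (cst J A W'' b₀)) =
      (i.hom.app (op W'')).hom (cst J A W'' (rep (n k) a₀)) := by
    have e2 : res J E g' (ev ψ W' - n k • t') = (i.hom.app (op W'')).hom (cst J A W'' a₀) := by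
      rw [← ha', res_map, ha₀]
    rw [map_sub, map_zsmul, res_ev] at e2
    have e3 : cst J A W'' (rep (n k) a₀) = cst J A W'' a₀ - n k • cst J A W'' b₀ := by
      rw [← map_zsmul, ← map_sub]
      congr 1
      nth_rewrite 2 [hb₀]
      abel
    rw [e3, map_sub, map_zsmul, ← e2, smul_add]
    abel
  refine ⟨res J E g' t' + (i.hom.app (op W'')).hom (cst J A W'' b₀), ?_, ?_⟩
  · have hz := zero_sections (ShortComplex.mk i π w) W'' (cst J A W'' b₀)
    have hz' : (π.hom.app (op W'')).hom ((i.hom.app (op W'')).hom (cst J A W'' b₀)) = 0 := hz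
    rw [map_add, ← res_map, ht', res_one, hz', add_zero]
  · intro Z f₂ j hj
    by_cases hjk : n j = n k
    · refine ⟨⊤, J.top_mem Z, fun Z' g₂ _ => ⟨rep (n k) a₀, ?_, ?_⟩⟩
      · rw [hjk]
        exact rep_rep _ _
      · rw [hjk]
        have e4 := congrArg (res J E (g₂ ≫ f₂)) e1
        rw [map_sub, map_zsmul, res_ev, res_map, res_cst] at e4
        exact e4
    · have hZ : (⊥ : Sieve Z) ∈ J Z := by
        obtain ⟨hj'⟩ := hj
        have h1 := φ_apply φ U n hφ j hj' (one J Z)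
        have h2 := φ_apply φ U n hφ k (f₂ ≫ g' ≫ h) (one J Z)
        have h3 : cst J (ULift.{u} ℤ) Z ⟨n j⟩ = cst J (ULift.{u} ℤ) Z ⟨n k⟩ := by
          rw [cst_eq_zsmul_one, cst_eq_zsmul_one]
          exact h1.symm.trans h2
        rcases cst_eq_cst J _ _ h3 with h4 | h4
        · exact (hjk (congrArg ULift.down h4)).elim
        · exact h4
      exact ⟨⊥, hZ, fun _ _ hg => hg.elim⟩

lemma Sne_mem_of_map (w : i ≫ π = 0) (hS : (ShortComplex.mk i π w).ShortExact)
    (hφ : ∀ (k : ι) (V : C) (_ : V ⟶ U k), φ.hom.app (op V) = n k • 𝟙 _) (hψ : ψ ≫ π = φ)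
    {W : C} (k : ι) (h : W ⟶ U k) : Sne i π U n ψ W ∈ J W := by
  haveI : Epi π := hS.epi_g
  obtain ⟨S2, hS2, H2⟩ := locally_surjective_of_epi π W (one J W)
  apply J.transitive hS2
  intro W' g hg
  rw [Sne_pullback]
  obtain ⟨t', ht'⟩ := H2 g hg
  rw [res_one] at ht'
  exact Sne_mem_of_lift i π φ U n ψ w hS hφ hψ k (g ≫ h) t' ht'

lemma Sne_mem (w : i ≫ π = 0) (hS : (ShortComplex.mk i π w).ShortExact)
    (hφ : ∀ (k : ι) (V : C) (_ : V ⟶ U k), φ.hom.app (op V) = n k • 𝟙 _) (hψ : ψ ≫ π = φ)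
    (hcov : ∀ V : C, ∃ R ∈ J V, ∀ ⦃W : C⦄ (g : W ⟶ V), R g → ∃ k, Nonempty (W ⟶ U k))
    (V : C) : Sne i π U n ψ V ∈ J V := by
  obtain ⟨R, hR, HR⟩ := hcov V
  apply J.transitive hR
  intro W f hf
  rw [Sne_pullback]
  obtain ⟨k, ⟨h⟩⟩ := HR f hf
  exact Sne_mem_of_map i π φ U n ψ w hS hφ hψ k h

/-- an extension of the constant sheaf `ℤ` by a torsion-free constant sheaf splits as soon as a
locally nonzero endomorphism of `ℤ` lifts to it -/
theorem exists_section (hA : ∀ (m : ℤ) (a : A), m ≠ 0 → m • a = 0 → a = 0) (w : i ≫ π = 0)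
    (hS : (ShortComplex.mk i π w).ShortExact) (hn : ∀ k, n k ≠ 0)
    (hφ : ∀ (k : ι) (V : C) (_ : V ⟶ U k), φ.hom.app (op V) = n k • 𝟙 _)
    (hcov : ∀ V : C, ∃ R ∈ J V, ∀ ⦃W : C⦄ (g : W ⟶ V), R g → ∃ k, Nonempty (W ⟶ U k))
    (hψ : ψ ≫ π = φ) : ∃ s : ZC J ⟶ E, s ≫ π = 𝟙 _ := by
  obtain ⟨t, ht, hcomp⟩ := exists_global_of_local_unique E (T i π U n ψ) (T_res i π U n ψ)
    (T_local i π U n ψ) (T_unique i π U n ψ hA w hS hn hcov)
    (fun V => ⟨Sne i π U n ψ V, Sne_mem i π φ U n ψ w hS hφ hψ hcov V, fun W f hf => hf⟩)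
  obtain ⟨s, hs⟩ := exists_hom_of_family E t hcomp
  refine ⟨s, hom_ext_one _ _ (fun V => ?_)⟩
  change (π.hom.app (op V)).hom ((s.hom.app (op V)).hom (one J V)) = one J V
  rw [hs]
  exact (ht V).1

end main

end Groth.Agent.Lib.Helper21.ConstTors
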