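import Mathlib

/-!
# Helper21: an additive functor to abelian groups preserves a coproduct as soon as every element of
the value at the coproduct is a finite sum of images
-/

set_option autoImplicit false
universe u v w
open CategoryTheory CategoryTheory.Limits Opposite

namespace Groth.Agent.Lib.Helper21.CoprodSec

section Std

variable {ι : Type u} (A : ι → AddCommGrpCat.{u})

open DirectSum Classical in
/-- the standard coproduct cofan in abelian groups -/
noncomputable def stdCofan : Cofan A :=
  Cofan.mk (AddCommGrpCat.of (⨁ i, A i)) fun i =>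
    AddCommGrpCat.ofHom (DirectSum.of (fun i => A i) i)

open DirectSum Classical in
/-- the standard cofan is a coproduct -/
noncomputable def stdCofanIsColimit : IsColimit (stdCofan A) :=
  mkCofanColimit _
    (fun s => AddCommGrpCat.ofHom (DirectSum.toAddMonoid fun i => (s.inj i).hom))
    (fun s i => by
      ext x
      exact DirectSum.toAddMonoid_of (fun i => (s.inj i).hom) i x)
    (fun s m hm => by
      ext : 1
      apply DirectSum.addHom_ext
      intro i x
      have h := congrArg (fun t => t.hom x) (hm i)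
      refine Eq.trans h ?_
      exact (DirectSum.toAddMonoid_of (fun i => (s.inj i).hom) i x).symm)

end Std

variable {𝒜 : Type w} [Category.{v} 𝒜] [Preadditive 𝒜] (G : 𝒜 ⥤ AddCommGrpCat.{u}) [G.Additive]
  {ι : Type u} (f : ι → 𝒜) [HasCoproduct f]

open DirectSum Classical in
theorem preservesColimit_of_exists_sum
    (h : ∀ x : G.obj (∐ f), ∃ (t : Finset ι) (z : ∀ i, G.obj (f i)),
      x = ∑ i ∈ t, (G.map (Sigma.ι f i)).hom (z i)) :
    PreservesColimit (Discrete.functor f) G := by
  let A : ι → AddCommGrpCat.{u} := fun i => G.obj (f i)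
  let Ψ : (⨁ i, A i) →+ G.obj (∐ f) := DirectSum.toAddMonoid fun i => (G.map (Sigma.ι f i)).hom
  have hΨ_of : ∀ i (z : A i), Ψ (DirectSum.of (fun i => A i) i z) = (G.map (Sigma.ι f i)).hom z :=
    fun i z => DirectSum.toAddMonoid_of (fun i => (G.map (Sigma.ι f i)).hom) i z
  have hcomp : ∀ j, ((G.map (Sigma.π f j)).hom).comp Ψ = DFinsupp.evalAddMonoidHom j := by
    intro j
    apply DirectSum.addHom_ext
    intro i z
    rw [AddMonoidHom.comp_apply, hΨ_of]
    have h1 : (G.map (Sigma.π f j)).hom ((G.map (Sigma.ι f i)).hom z) =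
        (G.map (Sigma.ι f i ≫ Sigma.π f j)).hom z := by
      rw [G.map_comp]; rfl
    rw [h1]
    by_cases hij : i = j
    · subst hij
      rw [Sigma.ι_π_eq_id, G.map_id]
      exact (DirectSum.of_eq_same (β := fun i => A i) i z).symm
    · rw [Sigma.ι_π_of_ne f hij, G.map_zero]
      exact (DirectSum.of_eq_of_ne (β := fun i => A i) i j z (Ne.symm hij)).symm
  have hinj : Function.Injective Ψ := by
    rw [injective_iff_map_eq_zero]
    intro y hy
    apply DFinsupp.ext
    intro j
    have h1 := DFunLike.congr_fun (hcomp j) y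
    rw [AddMonoidHom.comp_apply, hy, map_zero] at h1
    exact h1.symm
  have hsurj : Function.Surjective Ψ := by
    intro x
    obtain ⟨t, z, hz⟩ := h x
    refine ⟨∑ i ∈ t, DirectSum.of (fun i => A i) i (z i), ?_⟩
    rw [map_sum, hz]
    exact Finset.sum_congr rfl fun i _ => hΨ_of i (z i)
  let e : (⨁ i, A i) ≃+ G.obj (∐ f) := AddEquiv.ofBijective Ψ ⟨hinj, hsurj⟩
  have hcof : IsColimit (Cofan.mk (G.obj (∐ f)) (fun i => G.map (Sigma.ι f i)) : Cofan A) := by
    refine IsColimit.ofIsoColimit (stdCofanIsColimit A)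
      (Cofan.ext (AddEquiv.toAddCommGrpIso e) (fun i => ?_))
    ext z
    exact hΨ_of i z
  exact preservesColimit_of_preserves_colimit_cocone (coproductIsCoproduct f)
    ((isColimitMapCoconeCofanMkEquiv G f (Sigma.ι f)).symm hcof)

theorem preservesColimitsOfShape_of_exists_sum (ι : Type u) [HasCoproductsOfShape ι 𝒜]
    (h : ∀ (f : ι → 𝒜) (x : G.obj (∐ f)), ∃ (t : Finset ι) (z : ∀ i, G.obj (f i)),
      x = ∑ i ∈ t, (G.map (Sigma.ι f i)).hom (z i)) :
    PreservesColimitsOfShape (Discrete ι) G := by
  constructor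
  intro K
  haveI := preservesColimit_of_exists_sum G (K.obj ∘ Discrete.mk) (h _)
  exact preservesColimit_of_iso_diagram G (Discrete.natIsoFunctor (F := K)).symm

end Groth.Agent.Lib.Helper21.CoprodSec
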