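import Mathlib

/-!
# Helper21: lifting maps from an exact resolution into an injective resolution
-/

open CategoryTheory Limits

namespace Groth.Agent.Lib.Helper21.DerAcycNat

universe v v' u u'

variable {C : Type u} [Category.{v} C] [Abelian C]

/-- an exact (not necessarily injective) `ℕ`-indexed resolution of `Z`. -/
structure Res (Z : C) where
  /-- the complex -/
  K : CochainComplex C ℕ
  /-- the augmentation -/
  ι₀ : Z ⟶ K.X 0
  mono : Mono ι₀
  w : ι₀ ≫ K.d 0 1 = 0
  exact₀ : (ShortComplex.mk ι₀ (K.d 0 1) w).Exact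
  exact_succ : ∀ n : ℕ, (ShortComplex.mk (K.d n (n + 1)) (K.d (n + 1) (n + 2))
    (K.d_comp_d n (n + 1) (n + 2))).Exact

attribute [instance] Res.mono

/-- an injective resolution is a resolution. -/
noncomputable def Res.ofInj {Z : C} (I : InjectiveResolution Z) : Res Z where
  K := I.cocomplex
  ι₀ := I.ι.f 0
  mono := inferInstanceAs (Mono (I.ι.f 0))
  w := I.ι_f_zero_comp_complex_d
  exact₀ := I.exact₀
  exact_succ := I.exact_succ

/-- exact functors map resolutions to resolutions. -/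
noncomputable def Res.map {D : Type u'} [Category.{v'} D] [Abelian D] {Z : C} (R : Res Z)
    (E : C ⥤ D) [E.Additive] [E.PreservesHomology] : Res (E.obj Z) where
  K := (E.mapHomologicalComplex _).obj R.K
  ι₀ := E.map R.ι₀
  mono := by
    haveI : Mono R.ι₀ := R.mono
    exact inferInstanceAs (Mono (E.map R.ι₀))
  w := by
    change E.map R.ι₀ ≫ E.map (R.K.d 0 1) = 0
    rw [← E.map_comp, R.w, E.map_zero]
  exact₀ := R.exact₀.map E
  exact_succ n := (R.exact_succ n).map E

namespace Res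

variable {Y Z : C}

/-- Auxiliary construction for `desc`. -/
noncomputable def descFZero (f : Z ⟶ Y) (I : InjectiveResolution Y) (R : Res Z) :
    R.K.X 0 ⟶ I.cocomplex.X 0 :=
  Injective.factorThru (f ≫ I.ι.f 0) R.ι₀

theorem ι₀_descFZero (f : Z ⟶ Y) (I : InjectiveResolution Y) (R : Res Z) :
    R.ι₀ ≫ descFZero f I R = f ≫ I.ι.f 0 :=
  Injective.comp_factorThru _ _

/-- Auxiliary construction for `desc`. -/
noncomputable def descFOne (f : Z ⟶ Y) (I : InjectiveResolution Y) (R : Res Z) :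
    R.K.X 1 ⟶ I.cocomplex.X 1 :=
  R.exact₀.descToInjective (descFZero f I R ≫ I.cocomplex.d 0 1) (by
    change R.ι₀ ≫ descFZero f I R ≫ I.cocomplex.d 0 1 = 0
    rw [← Category.assoc, ι₀_descFZero, Category.assoc]
    exact (congrArg (fun t => f ≫ t) I.ι_f_zero_comp_complex_d).trans comp_zero)

theorem descFOne_zero_comm (f : Z ⟶ Y) (I : InjectiveResolution Y) (R : Res Z) :
    R.K.d 0 1 ≫ descFOne f I R = descFZero f I R ≫ I.cocomplex.d 0 1 :=
  R.exact₀.comp_descToInjective _ _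

/-- Auxiliary construction for `desc`. -/
noncomputable def descFSucc (I : InjectiveResolution Y) (R : Res Z) (n : ℕ)
    (g : R.K.X n ⟶ I.cocomplex.X n) (g' : R.K.X (n + 1) ⟶ I.cocomplex.X (n + 1))
    (w : R.K.d n (n + 1) ≫ g' = g ≫ I.cocomplex.d n (n + 1)) :
    Σ' g'' : R.K.X (n + 2) ⟶ I.cocomplex.X (n + 2),
      R.K.d (n + 1) (n + 2) ≫ g'' = g' ≫ I.cocomplex.d (n + 1) (n + 2) :=
  ⟨(R.exact_succ n).descToInjective
    (g' ≫ I.cocomplex.d (n + 1) (n + 2)) (by
      change R.K.d n (n + 1) ≫ g' ≫ I.cocomplex.d (n + 1) (n + 2) = 0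
      rw [reassoc_of% w, HomologicalComplex.d_comp_d, comp_zero]),
      (R.exact_succ n).comp_descToInjective _ _⟩

/-- A morphism descends to a cochain map from a resolution to an injective resolution. -/
noncomputable def desc (f : Z ⟶ Y) (I : InjectiveResolution Y) (R : Res Z) :
    R.K ⟶ I.cocomplex :=
  CochainComplex.mkHom _ _ (descFZero f _ _) (descFOne f _ _) (descFOne_zero_comm f I R).symm
    fun n ⟨g, g', w⟩ => ⟨(descFSucc I R n g g' w.symm).1, (descFSucc I R n g g' w.symm).2.symm⟩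

theorem desc_commutes_zero (f : Z ⟶ Y) (I : InjectiveResolution Y) (R : Res Z) :
    R.ι₀ ≫ (desc f I R).f 0 = f ≫ I.ι.f 0 := by
  have : (desc f I R).f 0 = descFZero f I R := by simp [desc]
  rw [this, ι₀_descFZero]

/-- An auxiliary definition for `descHomotopyZero`. -/
noncomputable def descHomotopyZeroZero {I : InjectiveResolution Y} {R : Res Z}
    (f : R.K ⟶ I.cocomplex) (comm : R.ι₀ ≫ f.f 0 = 0) : R.K.X 1 ⟶ I.cocomplex.X 0 :=
  R.exact₀.descToInjective (f.f 0) comm

theorem comp_descHomotopyZeroZero {I : InjectiveResolution Y} {R : Res Z}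
    (f : R.K ⟶ I.cocomplex) (comm : R.ι₀ ≫ f.f 0 = 0) :
    R.K.d 0 1 ≫ descHomotopyZeroZero f comm = f.f 0 :=
  R.exact₀.comp_descToInjective _ _

/-- An auxiliary definition for `descHomotopyZero`. -/
noncomputable def descHomotopyZeroOne {I : InjectiveResolution Y} {R : Res Z}
    (f : R.K ⟶ I.cocomplex) (comm : R.ι₀ ≫ f.f 0 = 0) :
    R.K.X 2 ⟶ I.cocomplex.X 1 :=
  (R.exact_succ 0).descToInjective (f.f 1 - descHomotopyZeroZero f comm ≫ I.cocomplex.d 0 1)
    (by
      change R.K.d 0 1 ≫ (f.f 1 - descHomotopyZeroZero f comm ≫ I.cocomplex.d 0 1) = 0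
      rw [Preadditive.comp_sub, ← Category.assoc, comp_descHomotopyZeroZero f comm,
          HomologicalComplex.Hom.comm, sub_self])

theorem comp_descHomotopyZeroOne {I : InjectiveResolution Y} {R : Res Z}
    (f : R.K ⟶ I.cocomplex) (comm : R.ι₀ ≫ f.f 0 = 0) :
    R.K.d 1 2 ≫ descHomotopyZeroOne f comm =
      f.f 1 - descHomotopyZeroZero f comm ≫ I.cocomplex.d 0 1 :=
  (R.exact_succ 0).comp_descToInjective _ _

/-- An auxiliary definition for `descHomotopyZero`. -/
noncomputable def descHomotopyZeroSucc {I : InjectiveResolution Y} {R : Res Z}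
    (f : R.K ⟶ I.cocomplex) (n : ℕ) (g : R.K.X (n + 1) ⟶ I.cocomplex.X n)
    (g' : R.K.X (n + 2) ⟶ I.cocomplex.X (n + 1))
    (w : f.f (n + 1) = R.K.d (n + 1) (n + 2) ≫ g' + g ≫ I.cocomplex.d n (n + 1)) :
    R.K.X (n + 3) ⟶ I.cocomplex.X (n + 2) :=
  (R.exact_succ (n + 1)).descToInjective (f.f (n + 2) - g' ≫ I.cocomplex.d _ _) (by
      change R.K.d (n + 1) (n + 2) ≫ (f.f (n + 2) - g' ≫ I.cocomplex.d _ _) = 0
      rw [Preadditive.comp_sub, ← HomologicalComplex.Hom.comm, w, Preadditive.add_comp,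
        Category.assoc, Category.assoc, HomologicalComplex.d_comp_d, comp_zero,
        add_zero, sub_self])

theorem comp_descHomotopyZeroSucc {I : InjectiveResolution Y} {R : Res Z}
    (f : R.K ⟶ I.cocomplex) (n : ℕ) (g : R.K.X (n + 1) ⟶ I.cocomplex.X n)
    (g' : R.K.X (n + 2) ⟶ I.cocomplex.X (n + 1))
    (w : f.f (n + 1) = R.K.d (n + 1) (n + 2) ≫ g' + g ≫ I.cocomplex.d n (n + 1)) :
    R.K.d (n + 2) (n + 3) ≫ descHomotopyZeroSucc f n g g' w =
      f.f (n + 2) - g' ≫ I.cocomplex.d _ _ :=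
  (R.exact_succ (n + 1)).comp_descToInjective _ _

/-- Any descent of the zero morphism is homotopic to zero. -/
noncomputable def descHomotopyZero {I : InjectiveResolution Y} {R : Res Z}
    (f : R.K ⟶ I.cocomplex) (comm : R.ι₀ ≫ f.f 0 = 0) : Homotopy f 0 :=
  Homotopy.mkCoinductive _ (descHomotopyZeroZero f comm)
    (by simp [comp_descHomotopyZeroZero])
    (descHomotopyZeroOne f comm) (by simp [comp_descHomotopyZeroOne]) (fun n ⟨g, g', w⟩ =>
    ⟨descHomotopyZeroSucc f n g g' (by simp only [w, add_comm]),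
      by simp [comp_descHomotopyZeroSucc]⟩)

/-- Two descents of the same morphism are homotopic. -/
noncomputable def descHomotopy (f : Z ⟶ Y) {I : InjectiveResolution Y} {R : Res Z}
    (g h : R.K ⟶ I.cocomplex) (g_comm : R.ι₀ ≫ g.f 0 = f ≫ I.ι.f 0)
    (h_comm : R.ι₀ ≫ h.f 0 = f ≫ I.ι.f 0) : Homotopy g h :=
  Homotopy.equivSubZero.invFun (descHomotopyZero _ (by
    rw [HomologicalComplex.sub_f_apply, Preadditive.comp_sub, g_comm, h_comm, sub_self]))

end Res

end Groth.Agent.Lib.Helper21.DerAcycNat
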