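import Mathlib
import Groth.Agent.Lib.Helper21ResDesc
import Groth.Agent.Lib.Helper21DerAcyc

/-!
# Helper21: natural iso `Rⁿ(E ⋙ G) ≅ E ⋙ RⁿG` for `E` exact sending injectives to `G`-acyclics
-/

open CategoryTheory Limits

namespace Groth.Agent.Lib.Helper21.DerAcycNat

universe v v' v'' u u' u''

section Comp

variable {𝒜 : Type u} [Category.{v} 𝒜] [Abelian 𝒜]
  {ℬ : Type u'} [Category.{v'} ℬ] [Abelian ℬ]
  {𝒟 : Type u''} [Category.{v''} 𝒟] [Abelian 𝒟]
  (E : 𝒜 ⥤ ℬ) [E.Additive] [E.PreservesHomology]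
  (G : ℬ ⥤ 𝒟) [G.Additive]

/-- the comparison chain map `E(I) ⟶ J`. -/
noncomputable def ψ {M : 𝒜} (I : InjectiveResolution M) (J : InjectiveResolution (E.obj M)) :
    (E.mapHomologicalComplex _).obj I.cocomplex ⟶ J.cocomplex :=
  Res.desc (𝟙 _) J ((Res.ofInj I).map E)

theorem ψ_comm {M : 𝒜} (I : InjectiveResolution M) (J : InjectiveResolution (E.obj M)) :
    E.map (Res.ofInj I).ι₀ ≫ (ψ E I J).f 0 = (Res.ofInj J).ι₀ := by
  have := Res.desc_commutes_zero (𝟙 _) J ((Res.ofInj I).map E)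
  exact this.trans (Category.id_comp _)

theorem comp_aux6 {𝒞 : Type*} [Category 𝒞] {A A' P P' Q Q' B B' : 𝒞} (a : A ⟶ A')
    (iI' : A' ⟶ P') (iI : A ⟶ P) (m₁ : P ⟶ P') (p' : P' ⟶ Q') (p : P ⟶ Q) (m₂ : Q ⟶ Q')
    (kJ : Q ⟶ B) (kJ' : Q' ⟶ B') (b : B ⟶ B') (h1 : a ≫ iI' = iI ≫ m₁)
    (h2 : kJ ≫ b = m₂ ≫ kJ') (h3 : m₁ ≫ p' = p ≫ m₂) :
    a ≫ iI' ≫ p' ≫ kJ' = (iI ≫ p ≫ kJ) ≫ b := by
  rw [reassoc_of% h1, reassoc_of% h3, ← h2]
  simp only [Category.assoc]

theorem aux_g {M M' K0 K0' : 𝒜} {L' : ℬ} (i : M ⟶ K0) (p : K0 ⟶ K0') (f : M ⟶ M')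
    (i' : M' ⟶ K0') (ψ' : E.obj K0' ⟶ L') (j' : E.obj M' ⟶ L') (c : i ≫ p = f ≫ i')
    (c' : E.map i' ≫ ψ' = j') : E.map i ≫ E.map p ≫ ψ' = E.map f ≫ j' := by
  rw [← Category.assoc, ← E.map_comp, c, E.map_comp, Category.assoc, c']

theorem aux_h {𝒞 : Type*} [Category 𝒞] {EM EM' EK0 L L' : 𝒞} (Ei : EM ⟶ EK0) (ψ : EK0 ⟶ L)
    (j : EM ⟶ L) (p' : L ⟶ L') (Ef : EM ⟶ EM') (j' : EM' ⟶ L') (c : Ei ≫ ψ = j)
    (c' : j ≫ p' = Ef ≫ j') : Ei ≫ ψ ≫ p' = Ef ≫ j' := by
  rw [← Category.assoc, c, c']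

variable [HasInjectiveResolutions 𝒜] [HasInjectiveResolutions ℬ]

/-- the component of the comparison map, for given resolutions. -/
noncomputable def compRes {M : 𝒜} (I : InjectiveResolution M)
    (J : InjectiveResolution (E.obj M)) (n : ℕ) :
    ((E ⋙ G).rightDerived n).obj M ⟶ (G.rightDerived n).obj (E.obj M) :=
  (I.isoRightDerivedObj (E ⋙ G) n).hom ≫
    HomologicalComplex.homologyMap ((G.mapHomologicalComplex _).map (ψ E I J)) n ≫
    (J.isoRightDerivedObj G n).inv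

theorem compRes_naturality {M M' : 𝒜} (f : M ⟶ M') (I : InjectiveResolution M)
    (I' : InjectiveResolution M') (J : InjectiveResolution (E.obj M))
    (J' : InjectiveResolution (E.obj M')) (n : ℕ) :
    ((E ⋙ G).rightDerived n).map f ≫ compRes E G I' J' n =
      compRes E G I J n ≫ (G.rightDerived n).map (E.map f) := by
  let φ : I.cocomplex ⟶ I'.cocomplex := InjectiveResolution.desc f I' I
  have comm : I.ι.f 0 ≫ φ.f 0 = f ≫ I'.ι.f 0 := InjectiveResolution.desc_commutes_zero f I' I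
  have comm₀ : (Res.ofInj I).ι₀ ≫ φ.f 0 = f ≫ (Res.ofInj I').ι₀ := comm
  let φ' : J.cocomplex ⟶ J'.cocomplex := InjectiveResolution.desc (E.map f) J' J
  have comm' : J.ι.f 0 ≫ φ'.f 0 = E.map f ≫ J'.ι.f 0 :=
    InjectiveResolution.desc_commutes_zero (E.map f) J' J
  have comm₀' : (Res.ofInj J).ι₀ ≫ φ'.f 0 = E.map f ≫ (Res.ofInj J').ι₀ := comm'
  have h1 := InjectiveResolution.isoRightDerivedObj_hom_naturality f I I' φ comm (E ⋙ G) n
  have h2 := InjectiveResolution.isoRightDerivedObj_inv_naturality (E.map f) J J' φ' comm' G n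
  have H : Homotopy ((E.mapHomologicalComplex _).map φ ≫ ψ E I' J') (ψ E I J ≫ φ') := by
    refine Res.descHomotopy (R := (Res.ofInj I).map E) (E.map f) _ _ ?_ ?_
    · exact aux_g E _ _ _ _ _ _ comm₀ (ψ_comm E I' J')
    · exact aux_h _ _ _ _ _ _ (ψ_comm E I J) comm₀'
  have h3 : HomologicalComplex.homologyMap ((G.mapHomologicalComplex _).map
        ((E.mapHomologicalComplex _).map φ)) n ≫
      HomologicalComplex.homologyMap ((G.mapHomologicalComplex _).map (ψ E I' J')) n =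
      HomologicalComplex.homologyMap ((G.mapHomologicalComplex _).map (ψ E I J)) n ≫
      HomologicalComplex.homologyMap ((G.mapHomologicalComplex _).map φ') n := by
    rw [← HomologicalComplex.homologyMap_comp, ← HomologicalComplex.homologyMap_comp,
      ← Functor.map_comp, ← Functor.map_comp]
    exact (G.mapHomotopy H).homologyMap_eq n
  exact comp_aux6 _ _ _ _ _ _ _ _ _ _ h1 h2 h3

/-- the comparison natural transformation `Rⁿ(E ⋙ G) ⟶ E ⋙ RⁿG`. -/
noncomputable def compNat (n : ℕ) : (E ⋙ G).rightDerived n ⟶ E ⋙ G.rightDerived n where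
  app M := compRes E G (injectiveResolution M) (injectiveResolution (E.obj M)) n
  naturality _ _ f := compRes_naturality E G f _ _ _ _ n

end Comp

section Iso

open Groth.Agent.Lib.Helper23SS3 Groth.Agent.Lib.Helper23SS5 Groth.Agent.S12229
  Groth.Agent.Lib.Helper23Acyclic Groth.Agent.Lib.Helper23Leray Groth.Agent.Lib.Helper23Bridge

variable {𝒜 : Type u} [Category.{v} 𝒜] [Abelian 𝒜]
  {ℬ : Type u'} [Category.{v'} ℬ] [Abelian ℬ]
  {𝒟 : Type u''} [Category.{v''} 𝒟] [Abelian 𝒟]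
  (E : 𝒜 ⥤ ℬ) [E.Additive] [E.PreservesHomology]
  (G : ℬ ⥤ 𝒟) [G.Additive]

/-- the augmentation `E M[0] ⟶ E(I)`. -/
noncomputable def ιE {M : 𝒜} (I : InjectiveResolution M) :
    (CochainComplex.single₀ ℬ).obj (E.obj M) ⟶ (E.mapHomologicalComplex _).obj I.cocomplex :=
  (HomologicalComplex.singleMapHomologicalComplex E _ 0).inv.app M ≫
    (E.mapHomologicalComplex _).map I.ι

instance {M : 𝒜} (I : InjectiveResolution M) : QuasiIso (ιE E I) := by
  unfold ιE
  infer_instance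

theorem ιE_f_zero {M : 𝒜} (I : InjectiveResolution M) :
    (ιE E I).f 0 = E.map (I.ι.f 0) := by
  dsimp [ιE]
  simp
  exact Category.id_comp _

theorem ιE_ψ {M : 𝒜} (I : InjectiveResolution M) (J : InjectiveResolution (E.obj M)) :
    ιE E I ≫ ψ E I J = J.ι := by
  apply HomologicalComplex.from_single_hom_ext
  rw [HomologicalComplex.comp_f, ιE_f_zero]
  exact ψ_comm E I J

theorem quasiIso_ψ {M : 𝒜} (I : InjectiveResolution M) (J : InjectiveResolution (E.obj M)) :
    QuasiIso (ψ E I J) := by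
  have : QuasiIso (ιE E I ≫ ψ E I J) := by
    rw [ιE_ψ]
    infer_instance
  exact quasiIso_of_comp_left (ιE E I) (ψ E I J)

variable [EnoughInjectives ℬ] [PreservesFiniteLimits G]

theorem quasiIso_map_ψ
    (hE : ∀ I : 𝒜, Injective I → ∀ q : ℕ, 0 < q → IsZero ((G.rightDerived q).obj (E.obj I)))
    {M : 𝒜} (I : InjectiveResolution M) (J : InjectiveResolution (E.obj M)) :
    QuasiIso ((G.mapHomologicalComplex (ComplexShape.up ℕ)).map (ψ E I J)) := by
  have : HasDerivedCategory.{max u' v'} ℬ := HasDerivedCategory.standard _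
  have : HasDerivedCategory.{max u'' v''} 𝒟 := HasDerivedCategory.standard _
  let EI : CochainComplex ℬ ℤ :=
    (E.mapHomologicalComplex (ComplexShape.up ℤ)).obj I.cochainComplex
  have hEI : EI.IsStrictlyGE 0 := by dsimp [EI]; infer_instance
  let K : CochainComplex.Plus ℬ := ⟨EI, 0, hEI⟩
  have hK : IsIso (τ G K) := leray G K (fun m => (acyclic_iff G _).2 (hE _ (by
    show Injective (I.cochainComplex.X m); infer_instance)))
  have hψ := quasiIso_ψ E I J
  have hψ' : QuasiIso (HomologicalComplex.extendMap (ψ E I J) ComplexShape.embeddingUpNat) :=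
    (HomologicalComplex.quasiIso_extendMap_iff _ _).2 hψ
  let a₁ : EI ⟶ ((E.mapHomologicalComplex (ComplexShape.up ℕ)).obj I.cocomplex).extend
      ComplexShape.embeddingUpNat :=
    (extendMapIso E I.cocomplex ComplexShape.embeddingUpNat).hom
  let a₂ : ((E.mapHomologicalComplex (ComplexShape.up ℕ)).obj I.cocomplex).extend
      ComplexShape.embeddingUpNat ⟶ J.cocomplex.extend ComplexShape.embeddingUpNat :=
    HomologicalComplex.extendMap (ψ E I J) ComplexShape.embeddingUpNat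
  have ha₂ : QuasiIso a₂ := hψ'
  have ha : QuasiIso (a₁ ≫ a₂) := inferInstance
  have hJ : J.cochainComplex.IsStrictlyGE 0 := inferInstance
  have hinj : ∀ k, Injective (J.cochainComplex.X k) := fun k => inferInstance
  let a₀ : EI ⟶ J.cochainComplex := a₁ ≫ a₂
  let a' : K ⟶ ⟨J.cochainComplex, 0, hJ⟩ := ObjectProperty.homMk a₀
  have hGa : QuasiIso ((G.mapHomologicalComplex (ComplexShape.up ℤ)).map (a₁ ≫ a₂)) :=
    (isIso_τ_iff_quasiIso G J.cochainComplex 0 hJ hinj a' ha).1 hK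
  have h1 : QuasiIso ((G.mapHomologicalComplex (ComplexShape.up ℤ)).map a₂) := by
    rw [Functor.map_comp] at hGa
    exact (quasiIso_iff_comp_left _ _).1 hGa
  have hnat := extendMapIso_naturality G (ψ E I J) ComplexShape.embeddingUpNat
  have h2 : QuasiIso (HomologicalComplex.extendMap
      ((G.mapHomologicalComplex (ComplexShape.up ℕ)).map (ψ E I J))
      ComplexShape.embeddingUpNat) := by
    have h3 : QuasiIso ((G.mapHomologicalComplex (ComplexShape.up ℤ)).map a₂ ≫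
        (extendMapIso G J.cocomplex ComplexShape.embeddingUpNat).hom) := inferInstance
    rw [hnat] at h3
    exact (quasiIso_iff_comp_left _ _).1 h3
  exact (HomologicalComplex.quasiIso_extendMap_iff _ _).1 h2

variable [HasInjectiveResolutions 𝒜]

theorem isIso_compRes
    (hE : ∀ I : 𝒜, Injective I → ∀ q : ℕ, 0 < q → IsZero ((G.rightDerived q).obj (E.obj I)))
    {M : 𝒜} (I : InjectiveResolution M) (J : InjectiveResolution (E.obj M)) (n : ℕ) :
    IsIso (compRes E G I J n) := by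
  haveI := quasiIso_map_ψ E G hE I J
  haveI : IsIso (HomologicalComplex.homologyMap
      ((G.mapHomologicalComplex (ComplexShape.up ℕ)).map (ψ E I J)) n) :=
    (quasiIsoAt_iff_isIso_homologyMap _ n).1 inferInstance
  unfold compRes
  exact IsIso.comp_isIso' inferInstance (IsIso.comp_isIso' this inferInstance)

/-- `Rⁿ(E ⋙ G) ≅ E ⋙ RⁿG` for `E` exact sending injectives to `G`-acyclic objects. -/
noncomputable def compIso
    (hE : ∀ I : 𝒜, Injective I → ∀ q : ℕ, 0 < q → IsZero ((G.rightDerived q).obj (E.obj I)))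
    (n : ℕ) : (E ⋙ G).rightDerived n ≅ E ⋙ G.rightDerived n :=
  haveI : ∀ M, IsIso ((compNat E G n).app M) := fun _ => isIso_compRes E G hE _ _ n
  haveI := NatIso.isIso_of_isIso_app (compNat E G n)
  asIso (compNat E G n)

end Iso

end Groth.Agent.Lib.Helper21.DerAcycNat
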