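import Mathlib
import Groth.Prelude.Def_ModSite
import Groth.Agent.Lib.Helper21Dual12
import Groth.Agent.S13581
import Groth.Agent.S0485

open CategoryTheory MonoidalCategory Opposite Limits

universe u

namespace Groth.Agent.Lib.Helper21.Dual

open Groth.Agent.Lib.Helper21.ModTensor Groth.Agent.Lib.Helper21.ModTensor2
  Groth.Agent.Lib.Helper21.ModTensor3 Groth.Agent.Lib.Helper21.ModTensor4
  Groth.Agent.Lib.Helper21.ModTensor5
  Groth.Agent.Lib.Helper21.ModTensor6 Groth.Agent.Lib.Helper21.ModRestr
  Groth.Agent.Lib.Helper21.LocFact Groth.Agent.Lib.Helper21.RestrExact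

attribute [local instance] Groth.Agent.Lib.Helper21.ExtShDelta.hasSheafHom

variable {C : Type u} [SmallCategory C] {J : GrothendieckTopology C} {O : Sheaf J CommRingCat.{u}}

/-- `Ext^i(F ⊗ E, G) ≅ Ext^i(F, G ⊗ E^∨)` for `E` locally finite free. -/
theorem nonempty_ext_tensor_dual (E : ModSite.Mod O) (hE : IsLocFF E) (F G : ModSite.Mod O)
    [HasExt.{u} (ModSite.Mod O)] (i : ℕ) :
    Nonempty (Abelian.Ext.{u} ((tR O E).obj F) G i ≃+
      Abelian.Ext.{u} F ((tR O (dual E)).obj G) i) := by
  haveI : EnoughInjectives (ModSite.Mod O) := Groth.Agent.S0485.result J _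
  haveI : PreservesFiniteLimits (tR O (dual E)) := preservesFiniteLimits_tR_dual E hE
  haveI : (tR O (dual E)).PreservesHomology := inferInstance
  haveI : (tR O (dual E)).PreservesInjectiveObjects :=
    preservesInjectiveObjects_tR_dual E hE
  exact Groth.Agent.S13581.nonempty_ext_adj (dualAdj E hE) F G i

end Groth.Agent.Lib.Helper21.Dual
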