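import Groth.Prelude.Def_EssFT
import Mathlib.RingTheory.RingHom.Locally
import Mathlib.AlgebraicGeometry.Morphisms.QuasiCompact

/-!
Helper library (helper21): the "every affine open has a cover by affine opens with
essentially-of-finite-type ring maps" form of `EssFT.LocallyEssFiniteType`.
-/

universe u

open CategoryTheory CategoryTheory.Limits AlgebraicGeometry TopologicalSpace

namespace Groth.Agent.Lib.Helper21EssFT

variable {X Y : Scheme.{u}}

/-- The cover property over one affine open `U` of the target. -/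
def CoverProp (f : X ⟶ Y) (U : Y.affineOpens) : Prop :=
  ∃ T : Set X.affineOpens,
    (⋃ V ∈ T, ((V : X.Opens) : Set ↥X)) = ((f ⁻¹ᵁ (U : Y.Opens)) : Set ↥X) ∧
      ∀ V ∈ T, ∃ e : (V : X.Opens) ≤ f ⁻¹ᵁ (U : Y.Opens),
        (f.appLE (U : Y.Opens) (V : X.Opens) e).hom.EssFiniteType

lemma locally_of_cover (f : X ⟶ Y) (S : Set Y.affineOpens)
    (hS : (⋃ U ∈ S, ((U : Y.Opens) : Set ↥Y)) = Set.univ)
    (h : ∀ U ∈ S, CoverProp f U) : EssFT.LocallyEssFiniteType f := by
  refine ⟨fun x => ?_⟩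
  have hx : f.base x ∈ (⋃ U ∈ S, ((U : Y.Opens) : Set ↥Y)) := by rw [hS]; trivial
  simp only [Set.mem_iUnion, exists_prop] at hx
  obtain ⟨U, hU, hxU⟩ := hx
  obtain ⟨T, hT, hT'⟩ := h U hU
  have hx' : x ∈ (⋃ V ∈ T, ((V : X.Opens) : Set ↥X)) := by
    rw [hT]; exact hxU
  simp only [Set.mem_iUnion, exists_prop] at hx'
  obtain ⟨V, hV, hxV⟩ := hx'
  obtain ⟨e, he⟩ := hT' V hV
  exact ⟨U, V, hxV, e, he⟩

lemma essFiniteType_basicOpen (f : X ⟶ Y) (U : Y.affineOpens) (V : X.affineOpens)
    (e : (V : X.Opens) ≤ f ⁻¹ᵁ (U : Y.Opens)) (t : Γ(X, (V : X.Opens)))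
    (ht : RingHom.EssFiniteType
      ((algebraMap Γ(X, (V : X.Opens)) (Localization.Away t)).comp (f.appLE U V e).hom)) :
    (f.appLE (U : Y.Opens) (X.basicOpen t) ((X.basicOpen_le t).trans e)).hom.EssFiniteType := by
  have hloc : IsLocalization.Away t Γ(X, X.basicOpen t) := V.2.isLocalization_basicOpen t
  let eq : Localization.Away t ≃+* Γ(X, X.basicOpen t) :=
    (IsLocalization.algEquiv (Submonoid.powers t) _ _).toRingEquiv
  have h1 : algebraMap Γ(X, (V : X.Opens)) Γ(X, X.basicOpen t) =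
      eq.toRingHom.comp (algebraMap Γ(X, (V : X.Opens)) (Localization.Away t)) :=
    RingHom.ext (fun x ↦ (AlgEquiv.commutes (IsLocalization.algEquiv _ _ _) _).symm)
  have h2 : (f.appLE (U : Y.Opens) (X.basicOpen t) ((X.basicOpen_le t).trans e)).hom =
      (algebraMap Γ(X, (V : X.Opens)) Γ(X, X.basicOpen t)).comp (f.appLE U V e).hom := by
    rw [← f.appLE_map e (homOfLE (X.basicOpen_le t)).op]
    rfl
  rw [h2, h1, RingHom.comp_assoc]
  exact RingHom.EssFiniteType.respectsIso.left _ _ ht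

lemma cover_of_locally (f : X ⟶ Y) [hf : EssFT.LocallyEssFiniteType f] (U : Y.affineOpens) :
    CoverProp f U := by
  classical
  -- for each affine open V ≤ f⁻¹U the ring map is locally ess. finite type
  have key : ∀ (V : X.affineOpens) (e : (V : X.Opens) ≤ f ⁻¹ᵁ (U : Y.Opens)),
      RingHom.Locally RingHom.EssFiniteType (f.appLE U V e).hom :=
    fun V e => HasRingHomProperty.appLE (P := @EssFT.LocallyEssFiniteType) f hf U V e
  let T : Set X.affineOpens :=
    {W | ∃ (V : X.affineOpens) (e : (V : X.Opens) ≤ f ⁻¹ᵁ (U : Y.Opens))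
        (t : Γ(X, (V : X.Opens))),
        RingHom.EssFiniteType
          ((algebraMap Γ(X, (V : X.Opens)) (Localization.Away t)).comp (f.appLE U V e).hom) ∧
        (W : X.Opens) = X.basicOpen t}
  refine ⟨T, ?_, ?_⟩
  · apply Set.Subset.antisymm
    · intro x hx
      simp only [Set.mem_iUnion, exists_prop] at hx
      obtain ⟨W, ⟨V, e, t, -, hW⟩, hxW⟩ := hx
      have : x ∈ X.basicOpen t := by rw [← hW]; exact hxW
      exact e (X.basicOpen_le t this)
    · intro x hx
      obtain ⟨_, ⟨V, hV, rfl⟩, hxV, hVU⟩ :=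
        X.isBasis_affineOpens.exists_subset_of_mem_open hx (f ⁻¹ᵁ (U : Y.Opens)).2
      have e : ((⟨V, hV⟩ : X.affineOpens) : X.Opens) ≤ f ⁻¹ᵁ (U : Y.Opens) := hVU
      obtain ⟨s, hs, hst⟩ := key ⟨V, hV⟩ e
      have hcov : (⨆ i ∈ s, X.basicOpen i) = V := iSup_basicOpen_of_span_eq_top V s hs
      have hxV' : x ∈ (⨆ i ∈ s, X.basicOpen i) := by rw [hcov]; exact hxV
      simp only [Opens.mem_iSup, exists_prop] at hxV'
      obtain ⟨t, hts, hxt⟩ := hxV'
      simp only [Set.mem_iUnion, exists_prop]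
      refine ⟨⟨X.basicOpen t, hV.basicOpen t⟩, ⟨⟨V, hV⟩, e, t, hst t hts, rfl⟩, hxt⟩
  · rintro W ⟨V, e, t, ht, hW⟩
    have hle : (W : X.Opens) ≤ f ⁻¹ᵁ (U : Y.Opens) := by
      rw [hW]; exact (X.basicOpen_le t).trans e
    refine ⟨hle, ?_⟩
    have := essFiniteType_basicOpen f U V e t ht
    exact (f.appLE_congr hle rfl hW (fun φ => φ.hom.EssFiniteType)).mpr this

/-- The affine opens cover a scheme. -/
lemma iUnion_affineOpens (Y : Scheme.{u}) :
    (⋃ U ∈ (Set.univ : Set Y.affineOpens), ((U : Y.Opens) : Set ↥Y)) = Set.univ := by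
  apply Set.eq_univ_of_forall
  intro y
  obtain ⟨_, ⟨V, hV, rfl⟩, hyV, -⟩ :=
    Y.isBasis_affineOpens.exists_subset_of_mem_open (Set.mem_univ y) isOpen_univ
  simp only [Set.mem_iUnion, exists_prop]
  exact ⟨⟨V, hV⟩, Set.mem_univ _, hyV⟩

/-- Main equivalence. -/
lemma locally_iff_forall_cover (f : X ⟶ Y) :
    EssFT.LocallyEssFiniteType f ↔ ∀ U : Y.affineOpens, CoverProp f U :=
  ⟨fun _ U => cover_of_locally f U,
    fun h => locally_of_cover f Set.univ (iUnion_affineOpens Y) (fun U _ => h U)⟩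

lemma stableUnderComposition_locally :
    RingHom.StableUnderComposition (RingHom.Locally RingHom.EssFiniteType) :=
  RingHom.locally_stableUnderComposition RingHom.EssFiniteType.respectsIso
    RingHom.EssFiniteType.isStableUnderBaseChange.localizationPreserves
    RingHom.EssFiniteType.stableUnderComposition

lemma isStableUnderBaseChange_locally :
    RingHom.IsStableUnderBaseChange (RingHom.Locally RingHom.EssFiniteType) :=
  RingHom.locally_isStableUnderBaseChange RingHom.EssFiniteType.respectsIso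
    RingHom.EssFiniteType.isStableUnderBaseChange

lemma comp (f : X ⟶ Y) {Z : Scheme.{u}} (g : Y ⟶ Z) [EssFT.LocallyEssFiniteType f]
    [EssFT.LocallyEssFiniteType g] : EssFT.LocallyEssFiniteType (f ≫ g) := by
  have := HasRingHomProperty.stableUnderComposition (P := @EssFT.LocallyEssFiniteType)
    stableUnderComposition_locally
  exact MorphismProperty.comp_mem _ f g ‹_› ‹_›

lemma pullback_snd (f : X ⟶ Y) {Y' : Scheme.{u}} (g : Y' ⟶ Y) [EssFT.LocallyEssFiniteType f] :
    EssFT.LocallyEssFiniteType (pullback.snd f g) := by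
  have := HasRingHomProperty.isStableUnderBaseChange (P := @EssFT.LocallyEssFiniteType)
    isStableUnderBaseChange_locally
  exact MorphismProperty.pullback_snd (P := @EssFT.LocallyEssFiniteType) f g ‹_›

end Groth.Agent.Lib.Helper21EssFT
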