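import Mathlib
import Groth.Prelude.Def_EtGm

/-!
# Open subschemes as objects of the small étale site, and sections of `G_m` (helper21)
-/

set_option autoImplicit false
universe u
open CategoryTheory CategoryTheory.Limits AlgebraicGeometry Opposite

namespace Groth.Agent.Lib.Helper21.EtOpen

variable {X : Scheme.{u}}

/-- covering sieves of the small étale site -/
theorem mem_smallEtale_iff (Z : X.Etale) (R : Sieve Z) :
    R ∈ X.smallEtaleTopology Z ↔
      ∀ z : Z.left, ∃ (Y : X.Etale) (f : Y ⟶ Z) (y : Y.left), R f ∧ f.left y = z := by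
  have e : X.smallEtaleTopology =
      (X.smallPretopology (P := EtCoh.etaleMP) (Q := EtCoh.etaleMP)).toGrothendieck :=
    Scheme.smallGrothendieckTopology_eq_toGrothendieck_smallPretopology X le_rfl
  rw [e]
  refine (Scheme.mem_toGrothendieck_smallPretopology Z R).trans ⟨?_, ?_⟩
  · intro h z
    obtain ⟨Y, f, y, h1, -, h2⟩ := h z
    exact ⟨Y, f, y, h1, h2⟩
  · intro h z
    obtain ⟨Y, f, y, h1, h2⟩ := h z
    exact ⟨Y, f, y, h1, inferInstanceAs (Etale f.left), h2⟩

/-- an open subscheme as an object of the small étale site -/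
noncomputable abbrev opObj (U : X.Opens) : X.Etale := Scheme.Etale.mk U.ι

/-- the étale `X`-scheme `Z` maps into the open `U` -/
def Lands (Z : X.Etale) (U : X.Opens) : Prop := Z.hom ⁻¹ᵁ U = ⊤

lemma lands_iff (Z : X.Etale) (U : X.Opens) : Lands Z U ↔ ∀ z : Z.left, Z.hom z ∈ U := by
  unfold Lands
  constructor
  · intro h z
    have : z ∈ Z.hom ⁻¹ᵁ U := by rw [h]; trivial
    exact this
  · intro h
    ext z
    simp only [TopologicalSpace.Opens.coe_top, Set.mem_univ, iff_true]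
    exact h z

lemma Lands.of_hom {Z Z' : X.Etale} (k : Z' ⟶ Z) {U : X.Opens} (h : Lands Z U) : Lands Z' U := by
  rw [lands_iff] at h ⊢
  intro z
  have hw : k.left ≫ Z.hom = Z'.hom := Over.w k.hom
  rw [← hw]
  exact h (k.left z)

lemma Lands.mono {Z : X.Etale} {U U' : X.Opens} (h : Lands Z U) (hU : U ≤ U') : Lands Z U' := by
  rw [lands_iff] at h ⊢
  exact fun z => hU (h z)

lemma Lands.inf {Z : X.Etale} {U U' : X.Opens} (h : Lands Z U) (h' : Lands Z U') :
    Lands Z (U ⊓ U') := by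
  rw [lands_iff] at h h' ⊢
  exact fun z => ⟨h z, h' z⟩

lemma lands_opObj (U : X.Opens) : Lands (opObj U) U := by
  rw [lands_iff]
  intro z
  exact z.2

lemma Lands.range_subset {Z : X.Etale} {U : X.Opens} (h : Lands Z U) :
    Set.range Z.hom ⊆ Set.range U.ι := by
  rintro _ ⟨z, rfl⟩
  exact ⟨⟨Z.hom z, (lands_iff Z U).1 h z⟩, rfl⟩

/-- the underlying morphism to an open subscheme -/
noncomputable def liftL {Z : X.Etale} {U : X.Opens} (h : Lands Z U) : Z.left ⟶ U.toScheme :=
  IsOpenImmersion.lift U.ι Z.hom h.range_subset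

lemma liftL_fac {Z : X.Etale} {U : X.Opens} (h : Lands Z U) : liftL h ≫ U.ι = Z.hom :=
  IsOpenImmersion.lift_fac _ _ _

/-- the morphism to an open subscheme -/
noncomputable def liftO {Z : X.Etale} {U : X.Opens} (h : Lands Z U) : Z ⟶ opObj U :=
  MorphismProperty.Over.homMk (liftL h) (liftL_fac h)

lemma hom_opObj_ext {Z : X.Etale} {U : X.Opens} (a b : Z ⟶ opObj U) : a = b := by
  apply MorphismProperty.Over.Hom.ext
  have ha : a.left ≫ U.ι = Z.hom := Over.w a.hom
  have hb : b.left ≫ U.ι = Z.hom := Over.w b.hom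
  exact (cancel_mono U.ι).1 (ha.trans hb.symm)

lemma lands_of_hom_opObj {Z : X.Etale} {U : X.Opens} (a : Z ⟶ opObj U) : Lands Z U :=
  (lands_opObj U).of_hom a

/-- pulling functions on an open of `X` back to `Z` -/
noncomputable def pullU (Z : X.Etale) (U : X.Opens) (h : Lands Z U) : Γ(X, U) →+* Γ(Z.left, ⊤) :=
  (Z.hom.appLE U ⊤ (le_of_eq h.symm)).hom

lemma pullU_comp {Z Z' : X.Etale} (k : Z' ⟶ Z) (U : X.Opens) (h : Lands Z U) (r : Γ(X, U)) :
    k.left.appTop.hom (pullU Z U h r) = pullU Z' U (h.of_hom k) r := by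
  have hw : k.left ≫ Z.hom = Z'.hom := Over.w k.hom
  have h1 : Z.hom.appLE U ⊤ (le_of_eq h.symm) ≫ k.left.appLE ⊤ ⊤ le_top =
      (k.left ≫ Z.hom).appLE U ⊤ (by rw [hw]; exact le_of_eq (h.of_hom k).symm) :=
    Scheme.Hom.appLE_comp_appLE _ _ _ _ _ _ _
  have h2 : k.left.appLE ⊤ ⊤ le_top = k.left.appTop := by
    simp [Scheme.Hom.appLE, Scheme.Hom.appTop]
  have h3 : (k.left ≫ Z.hom).appLE U ⊤ (by rw [hw]; exact le_of_eq (h.of_hom k).symm) =
      Z'.hom.appLE U ⊤ (le_of_eq (h.of_hom k).symm) := by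
    congr 1
  rw [h2, h3] at h1
  exact ConcreteCategory.congr_hom h1 r

lemma pullU_res (Z : X.Etale) {U U' : X.Opens} (hU : U ≤ U') (h : Lands Z U) (r : Γ(X, U')) :
    pullU Z U h (X.presheaf.map (homOfLE hU).op r) = pullU Z U' (h.mono hU) r := by
  have h1 := Scheme.Hom.map_appLE Z.hom (le_of_eq h.symm) (homOfLE hU).op
  exact ConcreteCategory.congr_hom h1 r

lemma pullU_opObj_bijective (U : X.Opens) :
    Function.Bijective (pullU (opObj U) U (lands_opObj U)) := by
  have h1 : (opObj U).hom.appLE U ⊤ (le_of_eq (lands_opObj U).symm) = U.topIso.inv := by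
    change U.ι.appLE U ⊤ _ = _
    rw [Scheme.Opens.ι_appLE]
    rfl
  have h2 : IsIso ((opObj U).hom.appLE U ⊤ (le_of_eq (lands_opObj U).symm)) := by
    rw [h1]; infer_instance
  exact ConcreteCategory.bijective_of_isIso _

/-- units of functions on `Z` as sections of `G_m` -/
noncomputable def gmOf (Z : X.Etale) : Additive (Γ(Z.left, ⊤))ˣ ≃+ (EtCoh.Gm X).obj.obj (op Z) :=
  (AddEquiv.ulift : ULift.{u+1} (Additive (Γ(Z.left, ⊤))ˣ) ≃+ Additive (Γ(Z.left, ⊤))ˣ).symm

lemma res_gmOf {Z Z' : X.Etale} (k : Z' ⟶ Z) (a : Additive (Γ(Z.left, ⊤))ˣ) :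
    ((EtCoh.Gm X).obj.map k.op).hom (gmOf Z a) =
      gmOf Z' (Additive.ofMul (Units.map k.left.appTop.hom.toMonoidHom a.toMul)) := rfl

/-- units on an open of `X` as sections of `G_m` over `Z` -/
noncomputable def gmU (Z : X.Etale) (U : X.Opens) (h : Lands Z U) :
    Additive (Γ(X, U))ˣ →+ (EtCoh.Gm X).obj.obj (op Z) :=
  (gmOf Z).toAddMonoidHom.comp (MonoidHom.toAdditive (Units.map (pullU Z U h).toMonoidHom))

lemma gmU_apply (Z : X.Etale) (U : X.Opens) (h : Lands Z U) (a : Additive (Γ(X, U))ˣ) :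
    gmU Z U h a = gmOf Z (Additive.ofMul (Units.map (pullU Z U h).toMonoidHom a.toMul)) := rfl

lemma res_gmU {Z Z' : X.Etale} (k : Z' ⟶ Z) (U : X.Opens) (h : Lands Z U)
    (a : Additive (Γ(X, U))ˣ) :
    ((EtCoh.Gm X).obj.map k.op).hom (gmU Z U h a) = gmU Z' U (h.of_hom k) a := by
  rw [gmU_apply, res_gmOf, gmU_apply]
  congr 2
  apply Units.ext
  exact pullU_comp k U h _

/-- restriction of units -/
noncomputable def resu {U U' : X.Opens} (hU : U ≤ U') : Additive (Γ(X, U'))ˣ →+ Additive (Γ(X, U))ˣ :=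
  MonoidHom.toAdditive (Units.map (X.presheaf.map (homOfLE hU).op).hom.toMonoidHom)

lemma gmU_resu (Z : X.Etale) {U U' : X.Opens} (hU : U ≤ U') (h : Lands Z U)
    (a : Additive (Γ(X, U'))ˣ) : gmU Z U h (resu hU a) = gmU Z U' (h.mono hU) a := by
  rw [gmU_apply, gmU_apply]
  congr 2
  apply Units.ext
  exact pullU_res Z hU h _

lemma gmU_opObj_bijective (U : X.Opens) :
    Function.Bijective (gmU (opObj U) U (lands_opObj U)) := by
  have hb := pullU_opObj_bijective U
  let e : Γ(X, U) ≃+* Γ((opObj U).left, ⊤) := RingEquiv.ofBijective _ hb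
  have h1 : Function.Bijective (Units.map (pullU (opObj U) U (lands_opObj U)).toMonoidHom) :=
    (Units.mapEquiv e.toMulEquiv).bijective
  exact (gmOf (opObj U)).bijective.comp h1

/-- the preimage of an open of `X` in an étale `X`-scheme, as an object of the site -/
noncomputable def preObj (V : X.Etale) (U : X.Opens) : X.Etale :=
  Scheme.Etale.mk ((V.hom ⁻¹ᵁ U).ι ≫ V.hom)

/-- the inclusion of the preimage -/
noncomputable def preObjι (V : X.Etale) (U : X.Opens) : preObj V U ⟶ V :=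
  MorphismProperty.Over.homMk (V.hom ⁻¹ᵁ U).ι rfl

lemma lands_preObj (V : X.Etale) (U : X.Opens) : Lands (preObj V U) U := by
  rw [lands_iff]
  intro z
  exact z.2

/-- arrows landing in a member of an open cover of `X` form a covering sieve -/
theorem cover_of_opens {ι : Type*} (W : ι → X.Opens) (hcov : ∀ x : X, ∃ i, x ∈ W i) (V : X.Etale)
    (S : Sieve V) (hS : ∀ ⦃Z : X.Etale⦄ (f : Z ⟶ V), (∃ i, Lands Z (W i)) → S f) :
    S ∈ X.smallEtaleTopology V := by
  rw [mem_smallEtale_iff]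
  intro z
  obtain ⟨i, hi⟩ := hcov (V.hom z)
  exact ⟨preObj V (W i), preObjι V (W i), ⟨z, hi⟩, hS _ ⟨i, lands_preObj V (W i)⟩, rfl⟩

/-- the sieve of arrows landing in a member of a family of opens -/
def landSieve {ι : Type*} (W : ι → X.Opens) (V : X.Etale) : Sieve V where
  arrows Z _ := ∃ i, Lands Z (W i)
  downward_closed := by
    rintro Z Z' f ⟨i, hi⟩ k
    exact ⟨i, hi.of_hom k⟩

lemma landSieve_mem {ι : Type*} (W : ι → X.Opens) (hcov : ∀ x : X, ∃ i, x ∈ W i) (V : X.Etale) :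
    landSieve W V ∈ X.smallEtaleTopology V :=
  cover_of_opens W hcov V _ (fun _ _ h => h)

end Groth.Agent.Lib.Helper21.EtOpen
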