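import Mathlib
import Groth.Prelude.Def_ModSite2
import Groth.Agent.Lib.Helper21GammaZ2
import Groth.Agent.S6160
import Groth.Agent.Lib.Helper21GammaZNat0

open CategoryTheory Opposite Limits

universe u

namespace Groth.Agent.Lib.Helper21.GammaZ

open Groth.Agent.Lib.Helper21.ModTensor2 Groth.Agent.Lib.Helper21.NullOn
  Groth.Agent.Lib.Helper21.RestrExact

variable {C : Type u} [SmallCategory C] {J : GrothendieckTopology C}

section Res

variable {O O' : Sheaf J CommRingCat.{u}} (φ : O ⟶ O') (U : C)

/-- restriction of scalars along a morphism of structure sheaves. -/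
noncomputable abbrev resφ : ModSite.Mod O' ⥤ ModSite.Mod O :=
  SheafOfModules.restrictScalars ((sheafCompose J (forget₂ CommRingCat.{u} RingCat.{u})).map φ)

instance resφ_preservesFiniteLimits : PreservesFiniteLimits (resφ φ) := by
  haveI : PreservesLimitsOfSize.{u, u} (resφ φ) := (Groth.Agent.S6160.result _).1
  haveI : PreservesLimitsOfSize.{0, 0} (resφ φ) := preservesLimitsOfSize_shrink.{0, u, 0, u} _
  exact PreservesLimitsOfSize.preservesFiniteLimits.{0, 0} _

instance resφ_preservesFiniteColimits : PreservesFiniteColimits (resφ φ) := by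
  haveI : PreservesColimitsOfSize.{u, u} (resφ φ) := (Groth.Agent.S6160.result _).2.1
  haveI : PreservesColimitsOfSize.{0, 0} (resφ φ) := preservesColimitsOfSize_shrink.{0, u, 0, u} _
  exact PreservesColimitsOfSize.preservesFiniteColimits.{0, 0} _

instance resφ_preservesHomology : (resφ φ).PreservesHomology := inferInstance

theorem restr_resφ_map_eq_zero {A B : ModSite.Mod O'} (h : A ⟶ B)
    (hh : (ModSite.restr O' U).map h = 0) : (ModSite.restr O U).map ((resφ φ).map h) = 0 := by
  ext Y m
  exact congrArg (fun ψ : (ModSite.restr O' U).obj A ⟶ (ModSite.restr O' U).obj B =>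
    (ψ.val.app Y).hom m) hh

variable [ModSite.HasPushOver O U] [ModSite.HasPushOver O' U]

theorem restr_sectOnι_eq_zero (O : Sheaf J CommRingCat.{u}) (U : C) [ModSite.HasPushOver O U]
    (M : ModSite.Mod O) : (ModSite.restr O U).map ((ModSite.sectOnι O U).app M) = 0 :=
  (comp_unit_eq_zero_iff_restr O U _).1 (kernel.condition _)

/-- the comparison `res(Γ_Z M) ⟶ Γ_Z(res M)`. -/
noncomputable def resComp (M : ModSite.Mod O') :
    (resφ φ).obj ((ModSite.sectOn O' U).obj M) ⟶ (ModSite.sectOn O U).obj ((resφ φ).obj M) :=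
  sectOnLift O U ((resφ φ).map ((ModSite.sectOnι O' U).app M))
    (restr_resφ_map_eq_zero φ U _ (restr_sectOnι_eq_zero O' U M))

theorem resComp_ι (M : ModSite.Mod O') :
    resComp φ U M ≫ (ModSite.sectOnι O U).app ((resφ φ).obj M) =
      (resφ φ).map ((ModSite.sectOnι O' U).app M) :=
  sectOnLift_ι O U _ _

theorem resComp_ι_app (M : ModSite.Mod O') (V : Cᵒᵖ)
    (s : ((resφ φ).obj ((ModSite.sectOn O' U).obj M)).val.obj V) :
    (((ModSite.sectOnι O U).app ((resφ φ).obj M)).val.app V).hom
      (((resComp φ U M).val.app V).hom s) =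
    (((resφ φ).map ((ModSite.sectOnι O' U).app M)).val.app V).hom s :=
  sectOnLift_ι_app O U _ _ V s

instance isIso_resComp (M : ModSite.Mod O') : IsIso (resComp φ U M) := by
  apply isIso_of_bijective_app
  · intro V s₁ s₂ hs
    have h1 := resComp_ι_app φ U M V s₁
    have h2 := resComp_ι_app φ U M V s₂
    rw [hs] at h1
    have h3 : (((resφ φ).map ((ModSite.sectOnι O' U).app M)).val.app V).hom s₁ =
        (((resφ φ).map ((ModSite.sectOnι O' U).app M)).val.app V).hom s₂ := h1.symm.trans h2
    exact injective_sectOnι_app O' U M V h3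
  · intro V t
    obtain ⟨s, hs⟩ := exists_sectOn_section U M V.unop
      ((((ModSite.sectOnι O U).app ((resφ φ).obj M)).val.app V).hom t)
      (fun W f hW => sectOnι_vanish U ((resφ φ).obj M) V.unop t W f hW)
    refine ⟨s, ?_⟩
    apply injective_sectOnι_app O U ((resφ φ).obj M) V
    exact (resComp_ι_app φ U M V s).trans hs

/-- `Γ_Z` commutes with restriction of scalars. -/
noncomputable def sectOnResIso :
    ModSite.sectOn O' U ⋙ resφ φ ≅ resφ φ ⋙ ModSite.sectOn O U :=
  NatIso.ofComponents (fun M => asIso (resComp φ U M)) (by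
    intro M N h
    haveI := mono_sectOnι_app O U ((resφ φ).obj N)
    rw [← cancel_mono ((ModSite.sectOnι O U).app ((resφ φ).obj N))]
    dsimp only [Functor.comp_map, asIso_hom, Functor.comp_obj]
    rw [Category.assoc, Category.assoc, resComp_ι, sectOnι_naturality, ← Category.assoc,
      resComp_ι, ← Functor.map_comp, ← Functor.map_comp, sectOnι_naturality])

end Res

section Restr

variable (O : Sheaf J CommRingCat.{u}) [HasBinaryProducts C] (U X : C)

/-- the object `U × X → X` of `C/X`. -/
noncomputable abbrev WX : Over X := Over.mk (Limits.prod.snd : U ⨯ X ⟶ X)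

variable [ModSite.HasPushOver (O.over X) (WX U X)]

theorem restr_restr_sectOnι_eq_zero (M : ModSite.Mod O) :
    (ModSite.restr (O.over X) (WX U X)).map
      ((ModSite.restr O X).map ((ModSite.sectOnι O U).app M)) = 0 := by
  ext Y m
  have h := sectOnι_vanish U M Y.unop.left.left m Y.unop.left.left (𝟙 _)
    ⟨Y.unop.hom.left ≫ Limits.prod.fst⟩
  rw [op_id, CategoryTheory.Functor.map_id] at h
  exact h

/-- the comparison `(Γ_Z M)|_X ⟶ Γ_{Z/X}(M|_X)`. -/
noncomputable def restrComp (M : ModSite.Mod O) :
    (ModSite.restr O X).obj ((ModSite.sectOn O U).obj M) ⟶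
      (ModSite.sectOn (O.over X) (WX U X)).obj ((ModSite.restr O X).obj M) :=
  sectOnLift (O.over X) (WX U X) ((ModSite.restr O X).map ((ModSite.sectOnι O U).app M))
    (restr_restr_sectOnι_eq_zero O U X M)

theorem restrComp_ι (M : ModSite.Mod O) :
    restrComp O U X M ≫ (ModSite.sectOnι (O.over X) (WX U X)).app ((ModSite.restr O X).obj M) =
      (ModSite.restr O X).map ((ModSite.sectOnι O U).app M) :=
  sectOnLift_ι (O.over X) (WX U X) _ _

theorem restrComp_ι_app (M : ModSite.Mod O) (V : (Over X)ᵒᵖ)
    (s : ((ModSite.restr O X).obj ((ModSite.sectOn O U).obj M)).val.obj V) :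
    (((ModSite.sectOnι (O.over X) (WX U X)).app ((ModSite.restr O X).obj M)).val.app V).hom
      (((restrComp O U X M).val.app V).hom s) =
    (((ModSite.restr O X).map ((ModSite.sectOnι O U).app M)).val.app V).hom s :=
  sectOnLift_ι_app (O.over X) (WX U X) _ _ V s

instance isIso_restrComp (M : ModSite.Mod O) : IsIso (restrComp O U X M) := by
  apply isIso_of_bijective_app
  · intro V s₁ s₂ hs
    have h1 := restrComp_ι_app O U X M V s₁
    have h2 := restrComp_ι_app O U X M V s₂
    rw [hs] at h1
    have h3 : (((ModSite.restr O X).map ((ModSite.sectOnι O U).app M)).val.app V).hom s₁ =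
        (((ModSite.restr O X).map ((ModSite.sectOnι O U).app M)).val.app V).hom s₂ :=
      h1.symm.trans h2
    exact injective_sectOnι_app O U M (op V.unop.left) h3
  · intro V t
    obtain ⟨s, hs⟩ := exists_sectOn_section U M V.unop.left
      ((((ModSite.sectOnι (O.over X) (WX U X)).app ((ModSite.restr O X).obj M)).val.app V).hom t)
      (fun W f hW => by
        obtain ⟨g⟩ := hW
        exact sectOnι_vanish (WX U X) ((ModSite.restr O X).obj M) V.unop t
          (Over.mk (f ≫ V.unop.hom)) (Over.homMk f rfl)
          ⟨Over.homMk (prod.lift g (f ≫ V.unop.hom)) (prod.lift_snd _ _)⟩)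
    refine ⟨s, ?_⟩
    apply injective_sectOnι_app (O.over X) (WX U X) ((ModSite.restr O X).obj M) V
    exact (restrComp_ι_app O U X M V s).trans hs

/-- `Γ_Z` commutes with localisation. -/
noncomputable def sectOnRestrIso :
    ModSite.sectOn O U ⋙ ModSite.restr O X ≅
      ModSite.restr O X ⋙ ModSite.sectOn (O.over X) (WX U X) :=
  NatIso.ofComponents (fun M => asIso (restrComp O U X M)) (by
    intro M N h
    haveI := mono_sectOnι_app (O.over X) (WX U X) ((ModSite.restr O X).obj N)
    rw [← cancel_mono ((ModSite.sectOnι (O.over X) (WX U X)).app ((ModSite.restr O X).obj N))]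
    dsimp only [Functor.comp_map, asIso_hom, Functor.comp_obj]
    rw [Category.assoc, Category.assoc, restrComp_ι, sectOnι_naturality, ← Category.assoc,
      restrComp_ι, ← Functor.map_comp, ← Functor.map_comp, sectOnι_naturality])

end Restr

end Groth.Agent.Lib.Helper21.GammaZ
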