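import Mathlib
import Groth.Prelude.Def_ModSite2
import Groth.Prelude.Def_ExtSupp
import Groth.Agent.Lib.Helper21GammaZNat

/-!
# Helper21: gluing morphisms into a module null on `U` along a cover `{U, V}` with `V` subterminal
-/

open CategoryTheory Opposite Limits

universe u

namespace Groth.Agent.Lib.Helper21.Glue

variable {C : Type u} [SmallCategory C] {J : GrothendieckTopology C} (O : Sheaf J CommRingCat.{u})
  (U V : C)

section

variable {O} {M T : ModSite.Mod O} (ψ : (ModSite.restr O V).obj M ⟶ (ModSite.restr O V).obj T)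

/-- restriction of sections of a module. -/
noncomputable def res (T : ModSite.Mod O) {Z Y : C} (f : Z ⟶ Y) (t : T.val.obj (op Y)) : T.val.obj (op Z) :=
  T.val.presheaf.map f.op t

theorem res_add (T : ModSite.Mod O) {Z Y : C} (f : Z ⟶ Y) (t t' : T.val.obj (op Y)) :
    res T f (t + t') = res T f t + res T f t' :=
  map_add (T.val.presheaf.map f.op).hom t t'

theorem res_smul (T : ModSite.Mod O) {Z Y : C} (f : Z ⟶ Y) (r : O.obj.obj (op Y))
    (t : T.val.obj (op Y)) :
    res T f (r • t) = (O.obj.map f.op r : O.obj.obj (op Z)) • res T f t :=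
  PresheafOfModules.map_smul T.val f.op r t

theorem res_comp (T : ModSite.Mod O) {Z' Z Y : C} (k : Z' ⟶ Z) (f : Z ⟶ Y)
    (t : T.val.obj (op Y)) : res T k (res T f t) = res T (k ≫ f) t := by
  unfold res
  rw [op_comp, Functor.map_comp]
  rfl

theorem res_id (T : ModSite.Mod O) {Y : C} (t : T.val.obj (op Y)) : res T (𝟙 Y) t = t := by
  unfold res
  rw [op_id, CategoryTheory.Functor.map_id]
  rfl

/-- the component of `ψ` at an object `g : Z ⟶ V` of `C/V`, as a function on sections. -/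
noncomputable def appAt {Z : C} (g : Z ⟶ V) (m : M.val.obj (op Z)) : T.val.obj (op Z) :=
  (ψ.val.app (op (Over.mk g))).hom m

theorem appAt_congr {Z : C} (g g' : Z ⟶ V) (h : g = g') (m : M.val.obj (op Z)) :
    appAt V ψ g m = appAt V ψ g' m := by
  subst h
  rfl

theorem appAt_map {Z Z' : C} (g : Z ⟶ V) (k : Z' ⟶ Z) (m : M.val.obj (op Z)) :
    appAt V ψ (k ≫ g) (res M k m) = res T k (appAt V ψ g m) :=
  PresheafOfModules.naturality_apply ψ.val
    (Over.homMk k rfl : Over.mk (k ≫ g) ⟶ Over.mk g).op m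

theorem appAt_add {Z : C} (g : Z ⟶ V) (m m' : M.val.obj (op Z)) :
    appAt V ψ g (m + m') = appAt V ψ g m + appAt V ψ g m' :=
  map_add _ _ _

theorem appAt_smul {Z : C} (g : Z ⟶ V) (r : O.obj.obj (op Z)) (m : M.val.obj (op Z)) :
    appAt V ψ g (r • m) = r • appAt V ψ g m :=
  map_smul (ψ.val.app (op (Over.mk g))).hom r m

end

section Glue

variable {O} {U V} {M T : ModSite.Mod O} (hV : ∀ X : C, Subsingleton (X ⟶ V))
  (hUV : J.CoversTop (fun b : Bool => cond b U V))
  (ψ : (ModSite.restr O V).obj M ⟶ (ModSite.restr O V).obj T)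
  (hψ : ∀ (Z : C) (g : Z ⟶ V) (_ : Z ⟶ U) (m : M.val.obj (op Z)), appAt V ψ g m = 0)

theorem isSheafFor_forget (T : ModSite.Mod O) {Y : C} (R : Sieve Y) (hR : R ∈ J Y) :
    Presieve.IsSheafFor (T.val.presheaf ⋙ forget AddCommGrpCat.{u}) R.arrows :=
  ((Presheaf.isSheaf_iff_isSheaf_forget J T.val.presheaf (forget AddCommGrpCat.{u})).1
    T.isSheaf).isSheafFor R hR

open Classical in
/-- the family to be glued. -/
noncomputable def fam (Y : C) (s : M.val.obj (op Y)) :
    Presieve.FamilyOfElements (T.val.presheaf ⋙ forget AddCommGrpCat.{u})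
      (Sieve.ofObjects (fun b : Bool => cond b U V) Y).arrows :=
  fun Z f _ => if h : Nonempty (Z ⟶ V) then appAt V ψ h.some (res M f s)
    else (0 : T.val.obj (op Z))

include hV in
theorem fam_eq (Y : C) (s : M.val.obj (op Y)) {Z : C} (f : Z ⟶ Y) (g : Z ⟶ V)
    (hf : (Sieve.ofObjects (fun b : Bool => cond b U V) Y).arrows f) :
    fam (U := U) ψ Y s f hf = appAt V ψ g (res M f s) := by
  unfold fam
  rw [dif_pos ⟨g⟩]
  exact appAt_congr V ψ _ _ ((hV Z).elim _ _) _

include hV hψ in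
theorem fam_eq_zero (Y : C) (s : M.val.obj (op Y)) {Z : C} (f : Z ⟶ Y) (k : Z ⟶ U)
    (hf : (Sieve.ofObjects (fun b : Bool => cond b U V) Y).arrows f) :
    fam (U := U) ψ Y s f hf = (0 : T.val.obj (op Z)) := by
  by_cases h : Nonempty (Z ⟶ V)
  · obtain ⟨g⟩ := h
    rw [fam_eq hV ψ Y s f g hf]
    exact hψ Z g k _
  · unfold fam
    rw [dif_neg h]

theorem res_zero (T : ModSite.Mod O) {Z Y : C} (f : Z ⟶ Y) :
    res T f (0 : T.val.obj (op Y)) = 0 :=
  map_zero (T.val.presheaf.map f.op).hom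

include hV hψ in
theorem fam_compatible (Y : C) (s : M.val.obj (op Y)) : (fam (U := U) ψ Y s).SieveCompatible := by
  intro Z Z' f k hf
  by_cases h : Nonempty (Z ⟶ V)
  · obtain ⟨g⟩ := h
    rw [fam_eq hV ψ Y s f g hf, fam_eq hV ψ Y s (k ≫ f) (k ≫ g)]
    rw [← res_comp]
    exact appAt_map V ψ g k _
  · obtain ⟨b, ⟨l⟩⟩ := hf
    cases b with
    | false => exact absurd ⟨l⟩ h
    | true =>
      rw [fam_eq_zero hV ψ hψ Y s (k ≫ f) (k ≫ l), fam_eq_zero hV ψ hψ Y s f l]
      exact (res_zero T k).symm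

include hV hUV hψ in
theorem existsUnique_glue (Y : C) (s : M.val.obj (op Y)) :
    ∃! t : T.val.obj (op Y), (∀ (Z : C) (f : Z ⟶ Y) (g : Z ⟶ V),
      res T f t = appAt V ψ g (res M f s)) ∧
      ∀ (Z : C) (f : Z ⟶ Y) (_ : Z ⟶ U), res T f t = 0 := by
  have hs := isSheafFor_forget T (Sieve.ofObjects (fun b : Bool => cond b U V) Y) (hUV Y)
  have hc := (Presieve.compatible_iff_sieveCompatible _).2 (fam_compatible hV ψ hψ Y s)
  refine ⟨hs.amalgamate _ hc, ⟨?_, ?_⟩, ?_⟩
  · intro Z f g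
    have hf : (Sieve.ofObjects (fun b : Bool => cond b U V) Y).arrows f := ⟨false, ⟨g⟩⟩
    exact (hs.valid_glue hc f hf).trans (fam_eq hV ψ Y s f g hf)
  · intro Z f k
    have hf : (Sieve.ofObjects (fun b : Bool => cond b U V) Y).arrows f := ⟨true, ⟨k⟩⟩
    exact (hs.valid_glue hc f hf).trans (fam_eq_zero hV ψ hψ Y s f k hf)
  · rintro t' ⟨ht', ht''⟩
    apply hs.isSeparatedFor.ext
    intro Z f hf
    obtain ⟨b, ⟨l⟩⟩ := hf
    cases b with
    | false =>
      have hf : (Sieve.ofObjects (fun b : Bool => cond b U V) Y).arrows f := ⟨false, ⟨l⟩⟩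
      exact (ht' Z f l).trans ((hs.valid_glue hc f hf).trans (fam_eq hV ψ Y s f l hf)).symm
    | true =>
      have hf : (Sieve.ofObjects (fun b : Bool => cond b U V) Y).arrows f := ⟨true, ⟨l⟩⟩
      exact (ht'' Z f l).trans
        ((hs.valid_glue hc f hf).trans (fam_eq_zero hV ψ hψ Y s f l hf)).symm

/-- the glued section. -/
noncomputable def glueFun (Y : C) (s : M.val.obj (op Y)) : T.val.obj (op Y) :=
  (existsUnique_glue hV hUV ψ hψ Y s).exists.choose

theorem glueFun_spec (Y : C) (s : M.val.obj (op Y)) (Z : C) (f : Z ⟶ Y) (g : Z ⟶ V) :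
    res T f (glueFun hV hUV ψ hψ Y s) = appAt V ψ g (res M f s) :=
  (existsUnique_glue hV hUV ψ hψ Y s).exists.choose_spec.1 Z f g

theorem glueFun_spec' (Y : C) (s : M.val.obj (op Y)) (Z : C) (f : Z ⟶ Y) (k : Z ⟶ U) :
    res T f (glueFun hV hUV ψ hψ Y s) = 0 :=
  (existsUnique_glue hV hUV ψ hψ Y s).exists.choose_spec.2 Z f k

theorem glueFun_unique (Y : C) (s : M.val.obj (op Y)) (t : T.val.obj (op Y))
    (ht : ∀ (Z : C) (f : Z ⟶ Y) (g : Z ⟶ V), res T f t = appAt V ψ g (res M f s))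
    (ht' : ∀ (Z : C) (f : Z ⟶ Y) (_ : Z ⟶ U), res T f t = 0) :
    t = glueFun hV hUV ψ hψ Y s :=
  (existsUnique_glue hV hUV ψ hψ Y s).unique ⟨ht, ht'⟩
    ⟨glueFun_spec hV hUV ψ hψ Y s, glueFun_spec' hV hUV ψ hψ Y s⟩

theorem glueFun_add (Y : C) (s s' : M.val.obj (op Y)) :
    glueFun hV hUV ψ hψ Y (s + s') = glueFun hV hUV ψ hψ Y s + glueFun hV hUV ψ hψ Y s' := by
  symm
  apply glueFun_unique
  · intro Z f g
    rw [res_add, res_add, appAt_add, glueFun_spec hV hUV ψ hψ Y s Z f g,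
      glueFun_spec hV hUV ψ hψ Y s' Z f g]
  · intro Z f k
    rw [res_add, glueFun_spec' hV hUV ψ hψ Y s Z f k, glueFun_spec' hV hUV ψ hψ Y s' Z f k,
      add_zero]

theorem glueFun_map (Y Y' : C) (h : Y' ⟶ Y) (s : M.val.obj (op Y)) :
    glueFun hV hUV ψ hψ Y' (res M h s) = res T h (glueFun hV hUV ψ hψ Y s) := by
  symm
  apply glueFun_unique
  · intro Z f g
    rw [res_comp, res_comp]
    exact glueFun_spec hV hUV ψ hψ Y s Z (f ≫ h) g
  · intro Z f k
    rw [res_comp]
    exact glueFun_spec' hV hUV ψ hψ Y s Z (f ≫ h) k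

theorem glueFun_smul (Y : C) (r : O.obj.obj (op Y)) (s : M.val.obj (op Y)) :
    glueFun hV hUV ψ hψ Y (r • s) = r • glueFun hV hUV ψ hψ Y s := by
  symm
  apply glueFun_unique
  · intro Z f g
    rw [res_smul, res_smul, appAt_smul, glueFun_spec hV hUV ψ hψ Y s Z f g]
  · intro Z f k
    rw [res_smul, glueFun_spec' hV hUV ψ hψ Y s Z f k, smul_zero]

theorem glueFun_of_hom (Y : C) (g : Y ⟶ V) (s : M.val.obj (op Y)) :
    glueFun hV hUV ψ hψ Y s = appAt V ψ g s := by
  have h := glueFun_spec hV hUV ψ hψ Y s Y (𝟙 Y) g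
  rw [res_id, res_id] at h
  exact h

theorem glueFun_of_hom' (Y : C) (k : Y ⟶ U) (s : M.val.obj (op Y)) :
    glueFun hV hUV ψ hψ Y s = 0 := by
  have h := glueFun_spec' hV hUV ψ hψ Y s Y (𝟙 Y) k
  rw [res_id] at h
  exact h

/-- the glued morphism of abelian presheaves. -/
noncomputable def glueAb : M.val.presheaf ⟶ T.val.presheaf where
  app Y := AddCommGrpCat.ofHom
    (AddMonoidHom.mk' (glueFun hV hUV ψ hψ Y.unop) (glueFun_add hV hUV ψ hψ Y.unop))
  naturality {Y Y'} h := by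
    apply AddCommGrpCat.hom_ext
    apply AddMonoidHom.ext
    intro s
    exact glueFun_map hV hUV ψ hψ Y.unop Y'.unop h.unop s

/-- the glued morphism of sheaves of modules. -/
noncomputable def glueHom : M ⟶ T :=
  ⟨PresheafOfModules.homMk (glueAb hV hUV ψ hψ)
    (fun Y r m => glueFun_smul hV hUV ψ hψ Y.unop r m)⟩

theorem glueHom_app (Y : C) (s : M.val.obj (op Y)) :
    ((glueHom hV hUV ψ hψ).val.app (op Y)).hom s = glueFun hV hUV ψ hψ Y s := rfl

theorem restr_glueHom : (ModSite.restr O V).map (glueHom hV hUV ψ hψ) = ψ := by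
  ext Y m
  exact glueFun_of_hom hV hUV ψ hψ Y.unop.left Y.unop.hom m

theorem restr_glueHom' : (ModSite.restr O U).map (glueHom hV hUV ψ hψ) = 0 := by
  ext Y m
  exact glueFun_of_hom' hV hUV ψ hψ Y.unop.left Y.unop.hom m

theorem app_res {A B : ModSite.Mod O} (φ : A ⟶ B) {Z Y : C} (f : Z ⟶ Y) (s : A.val.obj (op Y)) :
    (φ.val.app (op Z)).hom (res A f s) = res B f ((φ.val.app (op Y)).hom s) :=
  PresheafOfModules.naturality_apply φ.val f.op s

theorem eq_glueHom (φ : M ⟶ T) (h : (ModSite.restr O V).map φ = ψ)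
    (h' : (ModSite.restr O U).map φ = 0) :
    φ = glueHom hV hUV ψ hψ := by
  ext Y s
  refine glueFun_unique hV hUV ψ hψ Y.unop s _ ?_ ?_
  · intro Z f g
    refine (app_res φ f s).symm.trans ?_
    subst h
    rfl
  · intro Z f k
    refine (app_res φ f s).symm.trans ?_
    exact congrArg (fun θ : (ModSite.restr O U).obj M ⟶ (ModSite.restr O U).obj T =>
      (θ.val.app (op (Over.mk k))).hom (res M f s)) h'

end Glue

end Groth.Agent.Lib.Helper21.Glue
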