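import Mathlib
import Groth.Prelude.Def_ModSite2
import Groth.Prelude.Def_ExtSupp
import Groth.Agent.Lib.Helper21Glue
import Groth.Agent.Lib.Helper21NullOn
import Groth.Agent.Lib.Helper21RestrExact

/-!
# Helper21: excision `j_!((M|_V)/(M|_V)_W) ≅ M/M_U` for a cover `{U, V}` with `V` subterminal
-/

open CategoryTheory Opposite Limits

universe u

namespace Groth.Agent.Lib.Helper21.Excision

open Groth.Agent.Lib.Helper21.Glue Groth.Agent.Lib.Helper21.NullOn

/-- `M/M_U` is null on `U` (no direct image needed). -/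
theorem isNullOn_quotOn' {C : Type u} [SmallCategory C] {J : GrothendieckTopology C}
    (O : Sheaf J CommRingCat.{u}) (U : C) (M : ModSite.Mod O) :
    ModSite.IsNullOn O U ((ModSite.quotOn O U).obj M) := by
  let adj := ModSite.extZeroAdj O U
  have hsplit : adj.unit.app ((ModSite.restr O U).obj M) ≫
      (ModSite.restr O U).map (adj.counit.app M) = 𝟙 _ :=
    adj.right_triangle_components M
  have : Epi ((ModSite.restr O U).map (adj.counit.app M)) := by
    have : IsSplitEpi ((ModSite.restr O U).map (adj.counit.app M)) := ⟨⟨⟨_, hsplit⟩⟩⟩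
    infer_instance
  haveI := Groth.Agent.Lib.Helper21.RestrExact.restr_preservesFiniteColimits O U
  exact (isZero_cokernel_of_epi ((ModSite.restr O U).map (adj.counit.app M))).of_iso
    (PreservesCokernel.iso (ModSite.restr O U) (adj.counit.app M))

variable {C : Type u} [SmallCategory C] [HasBinaryProducts C] {J : GrothendieckTopology C}
  {O : Sheaf J CommRingCat.{u}} (U V : C)

/-- the object `U × V → V` of `C/V`. -/
noncomputable abbrev W : Over V := Over.mk (Limits.prod.snd : U ⨯ V ⟶ V)

variable (M : ModSite.Mod O)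

/-- `(M|_V)/(M|_V)_W`. -/
noncomputable abbrev A : ModSite.Mod (O.over V) :=
  (ModSite.quotOn (O.over V) (W U V)).obj ((ModSite.restr O V).obj M)

/-- `M/M_U`. -/
noncomputable abbrev B : ModSite.Mod O := (ModSite.quotOn O U).obj M

theorem restrW_restrV_π :
    (ModSite.restr (O.over V) (W U V)).map ((ModSite.restr O V).map (π O U M)) = 0 := by
  ext Y m
  exact (ExtSupp.isNullOn_iff O U (B U M)).1 (ExtSupp.isNullOn_quotOn O U M)
    (Y.unop.hom.left ≫ Limits.prod.fst) _

/-- the comparison `(M|_V)/(M|_V)_W ⟶ (M/M_U)|_V`. -/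
noncomputable def b : A U V M ⟶ (ModSite.restr O V).obj (B U M) :=
  cokernel.desc _ ((ModSite.restr O V).map (π O U M))
    ((counit_comp_eq_zero_iff_restr (O.over V) (W U V) _).2 (restrW_restrV_π U V M))

theorem π_b : π (O.over V) (W U V) ((ModSite.restr O V).obj M) ≫ b U V M =
    (ModSite.restr O V).map (π O U M) :=
  cokernel.π_desc _ _ _

/-- the comparison `j_!((M|_V)/(M|_V)_W) ⟶ M/M_U`. -/
noncomputable def a : (ModSite.extZero O V).obj (A U V M) ⟶ B U M :=
  ((ModSite.extZeroAdj O V).homEquiv (A U V M) (B U M)).symm (b U V M)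

theorem homEquiv_a_comp {P : ModSite.Mod O} (x : B U M ⟶ P) :
    (ModSite.extZeroAdj O V).homEquiv (A U V M) P (a U V M ≫ x) =
      b U V M ≫ (ModSite.restr O V).map x := by
  rw [Adjunction.homEquiv_naturality_right]
  unfold a
  rw [Equiv.apply_symm_apply]

theorem restrU_π_comp {P : ModSite.Mod O} (x : B U M ⟶ P) :
    (ModSite.restr O U).map (π O U M ≫ x) = 0 := by
  rw [Functor.map_comp]
  have h : (ModSite.restr O U).map (π O U M) = 0 :=
    (ExtSupp.isNullOn_quotOn O U M).eq_of_tgt _ _
  rw [h, zero_comp]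

section Iso

variable {U V} (hV : ∀ X : C, Subsingleton (X ⟶ V))
  (hUV : J.CoversTop (fun b : Bool => cond b U V))

theorem appAt_restr {M P : ModSite.Mod O} (φ : M ⟶ P) {Z : C} (g : Z ⟶ V)
    (m : M.val.obj (op Z)) :
    appAt V ((ModSite.restr O V).map φ) g m = (φ.val.app (op Z)).hom m := rfl

include hV hUV in
/-- morphisms vanishing on `U` are determined by their restriction to `V`. -/
theorem eq_of_restr_eq {M P : ModSite.Mod O} (φ φ' : M ⟶ P)
    (h : (ModSite.restr O V).map φ = (ModSite.restr O V).map φ')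
    (h0 : (ModSite.restr O U).map φ = 0) (h0' : (ModSite.restr O U).map φ' = 0) : φ = φ' := by
  have hψ : ∀ (Z : C) (g : Z ⟶ V) (_ : Z ⟶ U) (m : M.val.obj (op Z)),
      appAt V ((ModSite.restr O V).map φ) g m = 0 := by
    intro Z g k m
    rw [appAt_restr]
    exact congrArg (fun θ : (ModSite.restr O U).obj M ⟶ (ModSite.restr O U).obj P =>
      (θ.val.app (op (Over.mk k))).hom m) h0
  exact (eq_glueHom hV hUV _ hψ φ rfl h0).trans (eq_glueHom hV hUV _ hψ φ' h.symm h0').symm

include hV hUV in
theorem bijective_a_comp (M P : ModSite.Mod O) :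
    Function.Bijective (fun x : B U M ⟶ P => a U V M ≫ x) := by
  constructor
  · intro x x' hx
    have h1 : b U V M ≫ (ModSite.restr O V).map x = b U V M ≫ (ModSite.restr O V).map x' := by
      rw [← homEquiv_a_comp, ← homEquiv_a_comp]
      exact congrArg _ hx
    have h2 : (ModSite.restr O V).map (π O U M ≫ x) = (ModSite.restr O V).map (π O U M ≫ x') := by
      rw [Functor.map_comp, Functor.map_comp, ← π_b, Category.assoc, Category.assoc, h1]
    have h3 := eq_of_restr_eq hV hUV _ _ h2 (restrU_π_comp U M x) (restrU_π_comp U M x')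
    exact (cancel_epi (π O U M)).1 h3
  · intro y
    let y' : A U V M ⟶ (ModSite.restr O V).obj P :=
      (ModSite.extZeroAdj O V).homEquiv (A U V M) P y
    let ψ : (ModSite.restr O V).obj M ⟶ (ModSite.restr O V).obj P :=
      π (O.over V) (W U V) ((ModSite.restr O V).obj M) ≫ y'
    have h0 : (ModSite.restr (O.over V) (W U V)).map ψ = 0 := by
      rw [Functor.map_comp]
      have h : (ModSite.restr (O.over V) (W U V)).map
          (π (O.over V) (W U V) ((ModSite.restr O V).obj M)) = 0 :=
        (isNullOn_quotOn' (O.over V) (W U V) ((ModSite.restr O V).obj M)).eq_of_tgt _ _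
      rw [h, zero_comp]
    have hψ : ∀ (Z : C) (g : Z ⟶ V) (_ : Z ⟶ U) (m : M.val.obj (op Z)), appAt V ψ g m = 0 := by
      intro Z g k m
      exact congrArg (fun θ : (ModSite.restr (O.over V) (W U V)).obj ((ModSite.restr O V).obj M) ⟶
          (ModSite.restr (O.over V) (W U V)).obj ((ModSite.restr O V).obj P) =>
        (θ.val.app (op (Over.mk (Over.homMk (prod.lift k g) (prod.lift_snd _ _) :
          Over.mk g ⟶ W U V)))).hom m) h0
    let φ : M ⟶ P := glueHom hV hUV ψ hψ
    have hφV : (ModSite.restr O V).map φ = ψ := restr_glueHom hV hUV ψ hψ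
    have hφU : (ModSite.restr O U).map φ = 0 := restr_glueHom' hV hUV ψ hψ
    let x : B U M ⟶ P := cokernel.desc _ φ ((counit_comp_eq_zero_iff_restr O U φ).2 hφU)
    have hx : π O U M ≫ x = φ := cokernel.π_desc _ _ _
    refine ⟨x, ?_⟩
    apply ((ModSite.extZeroAdj O V).homEquiv (A U V M) P).injective
    change _ = y'
    rw [homEquiv_a_comp]
    rw [← cancel_epi (π (O.over V) (W U V) ((ModSite.restr O V).obj M)), ← Category.assoc, π_b,
      ← Functor.map_comp, hx, hφV]

include hV hUV in
theorem isIso_a (M : ModSite.Mod O) : IsIso (a U V M) :=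
  isIso_of_coyoneda_map_bijective _ (fun P => bijective_a_comp hV hUV M P)

end Iso

end Groth.Agent.Lib.Helper21.Excision
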