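import Mathlib
import Groth.Prelude.Def_ModSite
import Groth.Agent.Lib.Helper21ExtShDelta

set_option autoImplicit false
universe u v₁ u₁ w
open CategoryTheory CategoryTheory.Limits Opposite

namespace Groth.Agent.Lib.Helper21.SheafHomFree

open Groth.Agent.Lib.Helper21.ModTensor3 Groth.Agent.Lib.Helper21.ModTensor5
  Groth.Agent.Lib.Helper21.ModTensor7

section general

variable {𝒜 : Type u₁} [Category.{v₁} 𝒜] [Preadditive 𝒜] [HasFiniteBiproducts 𝒜]
  (σ : Type w) [Finite σ]

/-- `A ↦ A^{⊕ σ}`. -/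
noncomputable def BiF : 𝒜 ⥤ 𝒜 where
  obj A := ⨁ (fun _ : σ => A)
  map u := biproduct.map (fun _ => u)

theorem BiF_map {A B : 𝒜} (u : A ⟶ B) : (BiF σ).map u = biproduct.map (fun _ : σ => u) := rfl

theorem biAdj_aux1 {A' A B : 𝒜} (u : A' ⟶ A) (g : A ⟶ ⨁ (fun _ : σ => B)) (s : σ) :
    biproduct.ι (fun _ : σ => A') s ≫ biproduct.desc (fun s => (u ≫ g) ≫ biproduct.π (fun _ : σ => B) s) =
      biproduct.ι (fun _ : σ => A') s ≫ biproduct.map (fun _ : σ => u) ≫
        biproduct.desc (fun s => g ≫ biproduct.π (fun _ : σ => B) s) := by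
  simp

theorem biAdj_aux2 {A B B' : 𝒜} (f : ⨁ (fun _ : σ => A) ⟶ B) (v : B ⟶ B') (s : σ) :
    biproduct.lift (fun s => biproduct.ι (fun _ : σ => A) s ≫ f ≫ v) ≫ biproduct.π (fun _ : σ => B') s =
      (biproduct.lift (fun s => biproduct.ι (fun _ : σ => A) s ≫ f) ≫ biproduct.map (fun _ : σ => v)) ≫
        biproduct.π (fun _ : σ => B') s := by
  simp

/-- `A ↦ A^{⊕ σ}` is self-adjoint. -/
noncomputable def biAdj : BiF (𝒜 := 𝒜) σ ⊣ BiF σ :=
  Adjunction.mkOfHomEquiv
    { homEquiv := fun A B =>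
        { toFun := fun f => biproduct.lift (fun s => biproduct.ι (fun _ : σ => A) s ≫ f)
          invFun := fun g => biproduct.desc (fun s => g ≫ biproduct.π (fun _ : σ => B) s)
          left_inv := fun f => by
            refine biproduct.hom_ext' _ _ (fun s => ?_)
            exact (biproduct.ι_desc _ _).trans (biproduct.lift_π _ _)
          right_inv := fun g => by
            refine biproduct.hom_ext _ _ (fun s => ?_)
            exact (biproduct.lift_π _ _).trans (biproduct.ι_desc _ _) }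
      homEquiv_naturality_left_symm := fun {A' A B} u g => by
        refine biproduct.hom_ext' _ _ (fun s => ?_)
        exact biAdj_aux1 σ u g s
      homEquiv_naturality_right := fun {A B B'} f v => by
        refine biproduct.hom_ext _ _ (fun s => ?_)
        exact biAdj_aux2 σ f v s }

end general

attribute [local instance] Abelian.hasFiniteBiproducts

variable {C : Type u} [SmallCategory C] {J : GrothendieckTopology C} (O : Sheaf J CommRingCat.{u})

/-- `- ⊗ O ≅ id`. -/
noncomputable def tRUnitIso : tR O (ModSite.unit O) ≅ 𝟭 (ModSite.Mod O) :=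
  ((brd O).app (ModSite.unit O)).symm ≪≫ tLUnitIso O

variable (σ : Type u) [Finite σ]

/-- the free module on `σ`, as a coproduct. -/
noncomputable abbrev FO : ModSite.Mod O := ∐ fun _ : σ => ModSite.unit O

/-- `A ≅ A ⊗ O`. -/
noncomputable def aIso (A : ModSite.Mod O) : A ≅ (tL O A).obj (ModSite.unit O) :=
  ((tRUnitIso O).app A).symm

theorem aIso_nat {A A' : ModSite.Mod O} (u : A ⟶ A') :
    u ≫ (aIso O A').hom = (aIso O A).hom ≫ ((ModSite.tensorBi O).map u).app (ModSite.unit O) :=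
  (tRUnitIso O).inv.naturality u

/-- the comparison iso `A^{⊕ σ} ≅ A ⊗ O^{⊕ σ}`. -/
noncomputable def νIsoApp (A : ModSite.Mod O) :
    (⨁ (fun _ : σ => A)) ≅ (tL O A).obj (FO O σ) :=
  biproduct.isoCoproduct (fun _ : σ => A) ≪≫
    Limits.Sigma.mapIso (fun _ : σ => aIso O A) ≪≫
    (PreservesCoproduct.iso (tL O A) (fun _ : σ => ModSite.unit O)).symm

theorem ι_νIsoApp (A : ModSite.Mod O) (s : σ) :
    biproduct.ι (fun _ : σ => A) s ≫ (νIsoApp O σ A).hom = (aIso O A).hom ≫
      (tL O A).map (Sigma.ι (fun _ : σ => ModSite.unit O) s) := by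
  have e1 : biproduct.ι (fun _ : σ => A) s ≫ (biproduct.isoCoproduct (fun _ : σ => A)).hom =
      Sigma.ι (fun _ : σ => A) s := by
    rw [biproduct.isoCoproduct_hom, biproduct.ι_desc]
  have e2 : Sigma.ι (fun _ : σ => A) s ≫ (Limits.Sigma.mapIso (fun _ : σ => aIso O A)).hom =
      (aIso O A).hom ≫ Sigma.ι (fun _ : σ => (tL O A).obj (ModSite.unit O)) s :=
    Sigma.ι_mapIso_hom _ _
  have e3 : Sigma.ι (fun _ : σ => (tL O A).obj (ModSite.unit O)) s ≫
      sigmaComparison (tL O A) (fun _ : σ => ModSite.unit O) =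
      (tL O A).map (Sigma.ι (fun _ : σ => ModSite.unit O) s) :=
    ι_comp_sigmaComparison _ _ _
  calc biproduct.ι (fun _ : σ => A) s ≫ (νIsoApp O σ A).hom
      = biproduct.ι (fun _ : σ => A) s ≫ ((biproduct.isoCoproduct (fun _ : σ => A)).hom ≫
          (Limits.Sigma.mapIso (fun _ : σ => aIso O A)).hom ≫
          sigmaComparison (tL O A) (fun _ : σ => ModSite.unit O)) := rfl
    _ = (biproduct.ι (fun _ : σ => A) s ≫ (biproduct.isoCoproduct (fun _ : σ => A)).hom) ≫
          (Limits.Sigma.mapIso (fun _ : σ => aIso O A)).hom ≫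
          sigmaComparison (tL O A) (fun _ : σ => ModSite.unit O) := (Category.assoc _ _ _).symm
    _ = Sigma.ι (fun _ : σ => A) s ≫ (Limits.Sigma.mapIso (fun _ : σ => aIso O A)).hom ≫
          sigmaComparison (tL O A) (fun _ : σ => ModSite.unit O) := by rw [e1]
    _ = (Sigma.ι (fun _ : σ => A) s ≫ (Limits.Sigma.mapIso (fun _ : σ => aIso O A)).hom) ≫
          sigmaComparison (tL O A) (fun _ : σ => ModSite.unit O) := (Category.assoc _ _ _).symm
    _ = ((aIso O A).hom ≫ Sigma.ι (fun _ : σ => (tL O A).obj (ModSite.unit O)) s) ≫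
          sigmaComparison (tL O A) (fun _ : σ => ModSite.unit O) := by rw [e2]
    _ = (aIso O A).hom ≫ Sigma.ι (fun _ : σ => (tL O A).obj (ModSite.unit O)) s ≫
          sigmaComparison (tL O A) (fun _ : σ => ModSite.unit O) := Category.assoc _ _ _
    _ = _ := by rw [e3]

theorem ν_nat {A A' : ModSite.Mod O} (u : A ⟶ A') :
    biproduct.map (fun _ : σ => u) ≫ (νIsoApp O σ A').hom =
      (νIsoApp O σ A).hom ≫ ((ModSite.tensorBi O).map u).app (FO O σ) := by
  apply biproduct.hom_ext'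
  intro s
  have h2 : (tL O A).map (Sigma.ι (fun _ : σ => ModSite.unit O) s) ≫
      ((ModSite.tensorBi O).map u).app (FO O σ) =
      ((ModSite.tensorBi O).map u).app (ModSite.unit O) ≫
        (tL O A').map (Sigma.ι (fun _ : σ => ModSite.unit O) s) :=
    ((ModSite.tensorBi O).map u).naturality (Sigma.ι (fun _ : σ => ModSite.unit O) s)
  calc biproduct.ι (fun _ : σ => A) s ≫ biproduct.map (fun _ : σ => u) ≫ (νIsoApp O σ A').hom
      = (biproduct.ι (fun _ : σ => A) s ≫ biproduct.map (fun _ : σ => u)) ≫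
          (νIsoApp O σ A').hom := (Category.assoc _ _ _).symm
    _ = (u ≫ biproduct.ι (fun _ : σ => A') s) ≫ (νIsoApp O σ A').hom := by
        rw [biproduct.ι_map]
    _ = u ≫ biproduct.ι (fun _ : σ => A') s ≫ (νIsoApp O σ A').hom := Category.assoc _ _ _
    _ = u ≫ (aIso O A').hom ≫ (tL O A').map (Sigma.ι (fun _ : σ => ModSite.unit O) s) := by
        rw [ι_νIsoApp]
    _ = (u ≫ (aIso O A').hom) ≫ (tL O A').map (Sigma.ι (fun _ : σ => ModSite.unit O) s) :=
        (Category.assoc _ _ _).symm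
    _ = ((aIso O A).hom ≫ ((ModSite.tensorBi O).map u).app (ModSite.unit O)) ≫
          (tL O A').map (Sigma.ι (fun _ : σ => ModSite.unit O) s) := by rw [aIso_nat]
    _ = (aIso O A).hom ≫ ((ModSite.tensorBi O).map u).app (ModSite.unit O) ≫
          (tL O A').map (Sigma.ι (fun _ : σ => ModSite.unit O) s) := Category.assoc _ _ _
    _ = (aIso O A).hom ≫ (tL O A).map (Sigma.ι (fun _ : σ => ModSite.unit O) s) ≫
          ((ModSite.tensorBi O).map u).app (FO O σ) := by rw [h2]
    _ = ((aIso O A).hom ≫ (tL O A).map (Sigma.ι (fun _ : σ => ModSite.unit O) s)) ≫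
          ((ModSite.tensorBi O).map u).app (FO O σ) := (Category.assoc _ _ _).symm
    _ = (biproduct.ι (fun _ : σ => A) s ≫ (νIsoApp O σ A).hom) ≫
          ((ModSite.tensorBi O).map u).app (FO O σ) := by rw [ι_νIsoApp]
    _ = _ := Category.assoc _ _ _

/-- `A^{⊕ σ} ≅ A ⊗ O^{⊕ σ}` naturally. -/
noncomputable def νIso : BiF (𝒜 := ModSite.Mod O) σ ≅ tR O (SheafOfModules.free σ) :=
  NatIso.ofComponents (fun A => νIsoApp O σ A) (fun {A A'} u => ν_nat O σ u)

/-- `- ⊗ O^{⊕ σ} ⊣ (-)^{⊕ σ}`. -/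
noncomputable def freeAdj : tR O (SheafOfModules.free σ) ⊣ BiF (𝒜 := ModSite.Mod O) σ :=
  (biAdj (𝒜 := ModSite.Mod O) σ).ofNatIsoLeft (νIso O σ)

/-- `ℋom(O^{⊕ σ}, -) ≅ (-)^{⊕ σ}`. -/
noncomputable def sheafHomFreeIso [ModSite.HasSheafHom (SheafOfModules.free σ : ModSite.Mod O)] :
    ModSite.sheafHom (SheafOfModules.free σ : ModSite.Mod O) ≅ BiF (𝒜 := ModSite.Mod O) σ :=
  (ModSite.sheafHomAdj (SheafOfModules.free σ : ModSite.Mod O)).rightAdjointUniq (freeAdj O σ)

theorem preservesColimits_sheafHom_free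
    [ModSite.HasSheafHom (SheafOfModules.free σ : ModSite.Mod O)] :
    PreservesColimitsOfSize.{u, u}
      (ModSite.sheafHom (SheafOfModules.free σ : ModSite.Mod O)) := by
  haveI : PreservesColimitsOfSize.{u, u} (BiF (𝒜 := ModSite.Mod O) σ) :=
    (biAdj (𝒜 := ModSite.Mod O) σ).leftAdjoint_preservesColimits
  exact preservesColimits_of_natIso (sheafHomFreeIso O σ).symm

end Groth.Agent.Lib.Helper21.SheafHomFree
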