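import Mathlib
import Groth.Agent.Lib.Helper21ExtShLocFree
import Groth.Agent.Lib.Helper21FreeConst
import Groth.Agent.Lib.Helper21DerAcyc
import Groth.Agent.Lib.Helper21ModCoh
import Groth.Agent.Lib.Helper23Acyclic
import Groth.Agent.Lib.Helper23ExtRD
import Groth.Agent.Lib.Helper23LocSS
import Groth.Agent.S12895

/-!
# Helper21: `Ext^p(M, N) ≅ H^p(ℋom(M, N))` when `ℋom(M, -)` is exact
-/

set_option autoImplicit false

universe u

open CategoryTheory CategoryTheory.Limits Opposite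

namespace Groth.Agent.Lib.Helper21.ExtLocFree

open Groth.Agent.Lib.Helper23Acyclic Groth.Agent.Lib.Helper23LocSS Groth.Agent.Lib.Helper23ExtRD
  Groth.Agent.Lib.Helper21.FreeAb Groth.Agent.Lib.Helper21.TorsFree Groth.Agent.Lib.Helper21.DerPost
  Groth.Agent.Lib.Helper21.DerAcyc Groth.Agent.S12895 Groth.Agent.Lib.Helper21.ExtShDelta

variable {C : Type u} [SmallCategory C] {J : GrothendieckTopology C} (O : Sheaf J CommRingCat.{u})

/-- `ℋom(M, -)` is exact if all higher `ℰxt(M, -)` vanish. -/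
theorem preservesFiniteColimits_sheafHom (M : ModSite.Mod O) [ModSite.HasSheafHom M]
    [HasInjectiveResolutions (ModSite.Mod O)]
    (h : ∀ (G : ModSite.Mod O) (q : ℕ),
      IsZero (((ModSite.sheafHom M).rightDerived (q + 1)).obj G)) :
    PreservesFiniteColimits (ModSite.sheafHom M) := by
  haveI := Groth.Agent.Lib.Helper21.ModTensor3.isGrothendieckAbelian O
  haveI : EnoughInjectives (ModSite.Mod O) := inferInstance
  have : HasDerivedCategory.{u + 1} (ModSite.Mod O) := HasDerivedCategory.standard _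
  haveI := sheafHom_preservesFiniteLimits O M
  rw [Functor.preservesFiniteColimits_iff_forall_exact_map_and_epi]
  intro S hS
  haveI := hS.mono_f
  refine ⟨hS.exact.map_of_mono_of_preservesKernel _ inferInstance inferInstance, ?_⟩
  refine epi_of_acyclic (ModSite.sheafHom M) S hS ((acyclic_iff (ModSite.sheafHom M) S.X₁).2 ?_)
  intro i hi
  obtain ⟨q, rfl⟩ : ∃ k, i = k + 1 := ⟨i - 1, by omega⟩
  exact h S.X₁ q

/-- `Ext^p(M, N) ≅ H^p(ℋom(M, N))` when `ℋom(M, -)` is exact. -/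
theorem nonempty_ext_addEquiv_HC (M N : ModSite.Mod O) [ModSite.HasSheafHom M]
    [HasExt.{u} (ModSite.Mod O)] [PreservesFiniteColimits (ModSite.sheafHom M)] (p : ℕ) :
    Nonempty (Abelian.Ext.{u} M N p ≃+ ModSite.HC O ((ModSite.sheafHom M).obj N) p) := by
  haveI := Groth.Agent.Lib.Helper21.ModTensor3.isGrothendieckAbelian O
  haveI : EnoughInjectives (ModSite.Mod O) := inferInstance
  haveI := sheafHom_preservesFiniteLimits O M
  let T : ModSite.Mod O ⥤ Sheaf J AddCommGrpCat.{u} :=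
    ModSite.sheafHom M ⋙ SheafOfModules.toSheaf (ModSite.ringSh O)
  let S : Sheaf J AddCommGrpCat.{u} ⥤ AddCommGrpCat.{u} :=
    preadditiveCoyoneda.obj (op (Zc (J := J)))
  have hT : ∀ Q : ModSite.Mod O, Injective Q → ∀ q : ℕ, 0 < q →
      IsZero ((S.rightDerived q).obj (T.obj Q)) := by
    intro Q hQ q hq
    obtain ⟨q, rfl⟩ : ∃ k, q = k + 1 := ⟨q - 1, by lia⟩
    obtain ⟨e⟩ := rightDerived_coyoneda_iso (Zc (J := J)) (T.obj Q) (q + 1)
    refine IsZero.of_iso ?_ e
    haveI : Subsingleton (Abelian.Ext.{u} (Zc (J := J)) (T.obj Q) (q + 1)) :=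
      ⟨fun x y => (ext_sheafHom_eq_zero O M Q q _ TF_Zc x).trans
        (ext_sheafHom_eq_zero O M Q q _ TF_Zc y).symm⟩
    exact AddCommGrpCat.isZero_of_subsingleton _
  haveI : (ModSite.sheafHom M).PreservesHomology := inferInstance
  haveI : T.PreservesHomology := inferInstance
  obtain ⟨e₁⟩ := nonempty_rightDerived_comp_iso T S hT N p
  let e₃ := (rightDerivedIso (sheafHomCoyonedaIso O M) p).app N
  obtain ⟨e₄⟩ := rightDerived_coyoneda_iso M N p
  obtain ⟨e₅⟩ := rightDerived_coyoneda_iso (Zc (J := J)) (T.obj N) p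
  exact ⟨(e₄.symm ≪≫ e₃.symm ≪≫ e₁ ≪≫ e₅).addCommGroupIsoToAddEquiv⟩

end Groth.Agent.Lib.Helper21.ExtLocFree
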