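import Mathlib
import Groth.Agent.Lib.Helper21ExtZero1

/-!
# Helper21: the stalk of the explicit extension by zero `E G` at a point of the site

`stalkIso G Φ : Φ.presheafFiber.obj (EAb G) ≅ ∐ fun x : Φ.fiber.obj U => (Φ.over x).presheafFiber.obj G.presheaf`.
-/

set_option autoImplicit false
universe u
open CategoryTheory Opposite Limits

namespace Groth.Agent.Lib.Helper21.ExtZeroStalk

open Groth.Agent.Lib.Helper21.ExtZero

variable {C : Type u} [SmallCategory C] {J : GrothendieckTopology C} {R : Cᵒᵖ ⥤ RingCat.{u}} {U : C}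
  (G : PresheafOfModules.{u} (RU R U)) (Φ : GrothendieckTopology.Point.{u} J)

/-- the stalk of `G` at the point over `x`. -/
noncomputable abbrev S (x : Φ.fiber.obj U) : AddCommGrpCat.{u} :=
  (Φ.over x).presheafFiber.obj G.presheaf

/-- inclusion of a component, as a morphism of abelian groups -/
noncomputable def ιEhom (A : Over U) : G.presheaf.obj (op A) ⟶ (EAb G).obj (op A.left) :=
  AddCommGrpCat.ofHom
    (by classical exact (DirectSum.of (fun φ : A.left ⟶ U => cmp G (op A.left) φ) A.hom))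

theorem ιEhom_apply (A : Over U) (x : G.presheaf.obj (op A)) :
    (ιEhom G A).hom x = ιE G (op A.left) A.hom x := by
  classical
  rfl

theorem EAb_hom_ext {V : C} {N : AddCommGrpCat.{u}} (a b : (EAb G).obj (op V) ⟶ N)
    (h : ∀ φ : V ⟶ U, ιEhom G (Over.mk φ) ≫ a = ιEhom G (Over.mk φ) ≫ b) : a = b := by
  apply AddCommGrpCat.hom_ext
  apply E_hom_ext G
  intro φ x
  have := ConcreteCategory.congr_hom (h φ) x
  exact this

theorem ιEhom_map {A B : Over U} (f : A ⟶ B) :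
    ιEhom G B ≫ (EAb G).map f.left.op = G.presheaf.map f.op ≫ ιEhom G A := by
  apply AddCommGrpCat.hom_ext
  ext x
  change (EAb G).map f.left.op (ιE G (op B.left) B.hom x) = ιE G (op A.left) A.hom _
  have := E_map_ιE G f.left.op B.hom A.hom (Over.w f) x
  refine this.trans ?_
  rfl

/-- the element of the fibre of `Φ.over x` given by `v` -/
def elt (A : Over U) (v : Φ.fiber.obj A.left) (x : Φ.fiber.obj U) (h : Φ.fiber.map A.hom v = x) :
    (Φ.over x).fiber.obj A := ⟨v, h⟩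

/-- component of the forward map -/
noncomputable def compTo (A : Over U) (v : Φ.fiber.obj A.left) (x : Φ.fiber.obj U)
    (h : Φ.fiber.map A.hom v = x) : G.presheaf.obj (op A) ⟶ ∐ (S G Φ) :=
  (Φ.over x).toPresheafFiber A (elt Φ A v x h) G.presheaf ≫ Sigma.ι (S G Φ) x

theorem compTo_eq (A : Over U) (v : Φ.fiber.obj A.left) (x : Φ.fiber.obj U)
    (h : Φ.fiber.map A.hom v = x) :
    compTo G Φ A v x h = compTo G Φ A v (Φ.fiber.map A.hom v) rfl := by
  subst h
  rfl

theorem compTo_map {A B : Over U} (f : A ⟶ B) (v : Φ.fiber.obj A.left) (x : Φ.fiber.obj U)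
    (h : Φ.fiber.map A.hom v = x) (h' : Φ.fiber.map B.hom (Φ.fiber.map f.left v) = x) :
    G.presheaf.map f.op ≫ compTo G Φ A v x h = compTo G Φ B (Φ.fiber.map f.left v) x h' := by
  unfold compTo
  rw [← Category.assoc, (Φ.over x).toPresheafFiber_w f (elt Φ A v x h) G.presheaf]
  rfl

/-- the forward map on sections over `V` at `v` -/
noncomputable def fwdV (V : C) (v : Φ.fiber.obj V) : (EAb G).obj (op V) ⟶ ∐ (S G Φ) :=
  AddCommGrpCat.ofHom
    (by classical exact DirectSum.toAddMonoid fun φ : V ⟶ U =>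
      (compTo G Φ (Over.mk φ) v (Φ.fiber.map φ v) rfl).hom)

theorem ιEhom_fwdV (V : C) (v : Φ.fiber.obj V) (φ : V ⟶ U) :
    ιEhom G (Over.mk φ) ≫ fwdV G Φ V v = compTo G Φ (Over.mk φ) v (Φ.fiber.map φ v) rfl := by
  classical
  apply AddCommGrpCat.hom_ext
  ext x
  exact DirectSum.toAddMonoid_of (β := fun φ : V ⟶ U => cmp G (op V) φ)
    (fun φ : V ⟶ U => (compTo G Φ (Over.mk φ) v (Φ.fiber.map φ v) rfl).hom) φ x

theorem fwdV_map {V' V : C} (g : V' ⟶ V) (v' : Φ.fiber.obj V') :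
    (EAb G).map g.op ≫ fwdV G Φ V' v' = fwdV G Φ V (Φ.fiber.map g v') := by
  apply EAb_hom_ext
  intro φ
  rw [ιEhom_fwdV]
  have h1 := ιEhom_map G (Over.homMk g rfl : Over.mk (g ≫ φ) ⟶ Over.mk φ)
  change ιEhom G (Over.mk φ) ≫ (EAb G).map g.op = _ at h1
  rw [← Category.assoc, h1, Category.assoc, ιEhom_fwdV]
  have hx : Φ.fiber.map (Over.mk (g ≫ φ)).hom v' = Φ.fiber.map φ (Φ.fiber.map g v') := by
    change Φ.fiber.map (g ≫ φ) v' = _
    simp
  have e := compTo_eq G Φ (Over.mk (g ≫ φ)) v' _ hx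
  have e2 := compTo_map G Φ (Over.homMk g rfl : Over.mk (g ≫ φ) ⟶ Over.mk φ) v' _ hx rfl
  rw [e] at e2
  exact e2

/-- the forward map -/
noncomputable def fwd : Φ.presheafFiber.obj (EAb G) ⟶ ∐ (S G Φ) :=
  Φ.presheafFiberDesc (fun V v => fwdV G Φ V v) (fun _ _ g v' => fwdV_map G Φ g v')

/-- component of the backward map -/
noncomputable def bwdA (x : Φ.fiber.obj U) (A : Over U) (a : (Φ.over x).fiber.obj A) :
    G.presheaf.obj (op A) ⟶ Φ.presheafFiber.obj (EAb G) :=
  ιEhom G A ≫ Φ.toPresheafFiber A.left a.1 (EAb G)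

theorem bwdA_map (x : Φ.fiber.obj U) {A B : Over U} (f : A ⟶ B) (a : (Φ.over x).fiber.obj A) :
    G.presheaf.map f.op ≫ bwdA G Φ x A a = bwdA G Φ x B ((Φ.over x).fiber.map f a) := by
  unfold bwdA
  rw [← Category.assoc, ← ιEhom_map, Category.assoc, Φ.toPresheafFiber_w f.left a.1 (EAb G)]
  rfl

/-- the backward map on the `x`-summand -/
noncomputable def bwdx (x : Φ.fiber.obj U) : S G Φ x ⟶ Φ.presheafFiber.obj (EAb G) :=
  (Φ.over x).presheafFiberDesc (fun A a => bwdA G Φ x A a) (fun _ _ f a => bwdA_map G Φ x f a)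

/-- the backward map -/
noncomputable def bwd : ∐ (S G Φ) ⟶ Φ.presheafFiber.obj (EAb G) :=
  Sigma.desc (fun x => bwdx G Φ x)

theorem toPF_bwdx (x : Φ.fiber.obj U) (A : Over U) (a : (Φ.over x).fiber.obj A) :
    (Φ.over x).toPresheafFiber A a G.presheaf ≫ bwdx G Φ x = bwdA G Φ x A a :=
  (Φ.over x).toPresheafFiber_presheafFiberDesc (fun A a => bwdA G Φ x A a)
    (fun _ _ f a => bwdA_map G Φ x f a) A a

theorem toPF_fwd (V : C) (v : Φ.fiber.obj V) :
    Φ.toPresheafFiber V v (EAb G) ≫ fwd G Φ = fwdV G Φ V v :=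
  Φ.toPresheafFiber_presheafFiberDesc (fun V v => fwdV G Φ V v)
    (fun _ _ g v' => fwdV_map G Φ g v') V v

theorem compTo_bwd (A : Over U) (v : Φ.fiber.obj A.left) (x : Φ.fiber.obj U)
    (h : Φ.fiber.map A.hom v = x) :
    compTo G Φ A v x h ≫ bwd G Φ = ιEhom G A ≫ Φ.toPresheafFiber A.left v (EAb G) := by
  unfold compTo bwd
  rw [Category.assoc, Sigma.ι_desc, toPF_bwdx]
  rfl

theorem fwd_bwd : fwd G Φ ≫ bwd G Φ = 𝟙 _ := by
  apply Φ.presheafFiber_hom_ext
  intro V v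
  rw [← Category.assoc, toPF_fwd, Category.comp_id]
  apply EAb_hom_ext
  intro φ
  rw [← Category.assoc, ιEhom_fwdV, compTo_bwd]
  rfl

theorem bwd_fwd : bwd G Φ ≫ fwd G Φ = 𝟙 _ := by
  apply Sigma.hom_ext
  intro x
  unfold bwd
  rw [Sigma.ι_desc_assoc, Category.comp_id]
  apply (Φ.over x).presheafFiber_hom_ext
  intro A a
  rw [← Category.assoc, toPF_bwdx]
  unfold bwdA
  rw [Category.assoc, toPF_fwd]
  have h1 := ιEhom_fwdV G Φ A.left a.1 A.hom
  have h2 := compTo_eq G Φ A a.1 x a.2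
  change ιEhom G A ≫ fwdV G Φ A.left a.1 = _ at h1
  rw [h1]
  exact h2.symm

/-- the stalk of `E G` at `Φ` is the direct sum of the stalks of `G` at the points over `Φ`. -/
noncomputable def stalkIso : Φ.presheafFiber.obj (EAb G) ≅ ∐ (S G Φ) where
  hom := fwd G Φ
  inv := bwd G Φ
  hom_inv_id := fwd_bwd G Φ
  inv_hom_id := bwd_fwd G Φ

end Groth.Agent.Lib.Helper21.ExtZeroStalk
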