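import Mathlib

/-!
# Fibre dimension of a finite module (universe-polymorphic)

Universe-polymorphic versions of some helpers from `Groth.Agent.S2380` (helper3):
right exactness of base change in quotient form and upper semicontinuity of the fibre
dimension of a finite module.
-/

set_option autoImplicit false
universe u v

namespace Groth.Agent.Lib.Helper21Fd

open TensorProduct Topology

section K
variable {R : Type u} [CommRing R] (S : Type*) [CommRing S] [Algebra R S]
  {M N : Type v} [AddCommGroup M] [Module R M] [AddCommGroup N] [Module R N]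

theorem ker_baseChange_mkQ (d : M →ₗ[R] N) :
    LinearMap.ker ((LinearMap.range d).mkQ.baseChange S) = LinearMap.range (d.baseChange S) := by
  have hex : Function.Exact (d.lTensor S) ((LinearMap.range d).mkQ.lTensor S) :=
    lTensor_exact S (LinearMap.exact_map_mkQ_range d) (Submodule.mkQ_surjective _)
  ext z
  rw [LinearMap.mem_ker, LinearMap.mem_range]
  have h1 : ((LinearMap.range d).mkQ.baseChange S) z = ((LinearMap.range d).mkQ.lTensor S) z := rfl
  rw [h1, hex z]
  rfl

/-- right exactness of base change, in quotient form -/
noncomputable def quotBaseChangeEquiv (d : M →ₗ[R] N) :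
    ((S ⊗[R] N) ⧸ LinearMap.range (d.baseChange S)) ≃ₗ[S] S ⊗[R] (N ⧸ LinearMap.range d) :=
  (Submodule.quotEquivOfEq _ _ (ker_baseChange_mkQ S d).symm).trans
    (((LinearMap.range d).mkQ.baseChange S).quotKerEquivOfSurjective
      (LinearMap.baseChange_surjective S (Submodule.mkQ_surjective _)))

end K

/-- the fibre dimension of a module at a point of the spectrum -/
noncomputable def fd {A : Type u} [CommRing A] (M : Type v) [AddCommGroup M] [Module A M]
    (x : PrimeSpectrum A) : ℕ :=
  Module.finrank x.asIdeal.ResidueField (x.asIdeal.ResidueField ⊗[A] M)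

section C
variable {A : Type u} [CommRing A] (M : Type v) [AddCommGroup M] [Module A M]

theorem subsingleton_tensor_quot_iff (k : Type*) [CommRing k] [Algebra A k] (N : Submodule A M) :
    Subsingleton (k ⊗[A] (M ⧸ LinearMap.range N.subtype)) ↔ N.baseChange k = ⊤ := by
  rw [← (quotBaseChangeEquiv k N.subtype).subsingleton_congr,
    Submodule.Quotient.subsingleton_iff]
  rfl

theorem span_one_tmul_eq_top (k : Type*) [CommRing k] [Algebra A k] :
    Submodule.span k (Set.range (fun m : M => (1 : k) ⊗ₜ[A] m)) = ⊤ := by
  have h := Submodule.baseChange_top (R := A) (M := M) k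
  rw [Submodule.baseChange_eq_span, Submodule.map_top] at h
  exact h

theorem fd_eventually_le [Module.Finite A M] (x0 : PrimeSpectrum A) :
    ∀ᶠ x in 𝓝 x0, fd M x ≤ fd M x0 := by
  let k0 := x0.asIdeal.ResidueField
  obtain ⟨κ, a, -, hsp, hli⟩ :=
    exists_linearIndependent' k0 (fun m : M => (1 : k0) ⊗ₜ[A] m)
  rw [span_one_tmul_eq_top M k0] at hsp
  let b : Module.Basis κ k0 (k0 ⊗[A] M) := Module.Basis.mk hli hsp.ge
  have : Finite κ := Module.Finite.finite_basis b
  have : Fintype κ := Fintype.ofFinite κ
  have hcard : fd M x0 = Fintype.card κ := Module.finrank_eq_card_basis b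
  let N : Submodule A M := Submodule.span A (Set.range a)
  have hN : ∀ (k : Type u) [CommRing k] [Algebra A k],
      N.baseChange k = Submodule.span k (Set.range (fun i => (1 : k) ⊗ₜ[A] a i)) := by
    intro k _ _
    rw [Submodule.baseChange_span, ← Set.range_comp]
    rfl
  let D := M ⧸ LinearMap.range N.subtype
  have hx0 : x0 ∉ Module.support A D := by
    rw [Module.mem_support_iff_nontrivial_residueField_tensorProduct,
      not_nontrivial_iff_subsingleton, subsingleton_tensor_quot_iff, hN]
    exact hsp
  have hopen : IsOpen (Module.support A D)ᶜ :=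
    (Module.isClosed_support (R := A) (M := D)).isOpen_compl
  filter_upwards [hopen.mem_nhds hx0] with x hx
  rw [Set.mem_compl_iff, Module.mem_support_iff_nontrivial_residueField_tensorProduct,
    not_nontrivial_iff_subsingleton, subsingleton_tensor_quot_iff, hN] at hx
  rw [hcard]
  exact finrank_le_of_span_eq_top hx

end C

end Groth.Agent.Lib.Helper21Fd
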