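import Mathlib
import Groth.Agent.Lib.Helper21CechBC
import Groth.Agent.S2380

/-!
# Čech base change, linearly over the new base (helper21)
-/
set_option autoImplicit false
universe u
open CategoryTheory CategoryTheory.Limits Opposite TopologicalSpace AlgebraicGeometry TensorProduct

namespace Groth.Agent.Lib.Helper21.FibA
open Groth.Agent.Lib.Helper16.CechLow Groth.Agent.Lib.Helper21.CechMod
  Groth.Agent.Lib.Helper21.CechBC

variable (A B : Type u) [CommRing A] [CommRing B] [Algebra A B] {X X' : Scheme.{u}}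
  [X.Over (Spec (CommRingCat.of A))] [X'.Over (Spec (CommRingCat.of B))] (g' : X' ⟶ X)
  (h : IsPullback g' (X' ↘ Spec (CommRingCat.of B)) (X ↘ Spec (CommRingCat.of A))
    (Spec.map (CommRingCat.ofHom (algebraMap A B))))
  (F : X.Modules) {ι : Type u} (U : ι → X.Opens) [Finite ι]

lemma φ_smul (n : ℕ) (b : B) (t : B ⊗[A] CX A F U n) :
    φ A B g' h F U n (b • t) = b • φ A B g' h F U n t := by
  induction t with
  | zero => rw [smul_zero, map_zero, smul_zero]
  | add t t' ht ht' => rw [smul_add, map_add, ht, ht', map_add, smul_add]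
  | tmul b' c =>
    funext x
    rw [TensorProduct.smul_tmul', φ_tmul]
    change _ = b • (φ A B g' h F U n (b' ⊗ₜ[A] c) x)
    rw [φ_tmul, smul_smul]
    rfl

/-- the `B`-linear base change isomorphism on Čech cochains -/
noncomputable def φL [F.IsQuasicoherent]
    (hU : ∀ (n : ℕ) (x : Fin (n + 1) → ι), IsAffineOpen (Ux U x)) (n : ℕ) :
    (B ⊗[A] CX A F U n) ≃ₗ[B] CX B (Fp g' F) (Up g' U) n :=
  { AddEquiv.ofBijective (φ A B g' h F U n) (φ_bijective A B g' h F U hU n) with
    map_smul' := fun b t => φ_smul A B g' h F U n b t }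

/-- the base change isomorphism of Čech complexes, as complexes of `B`-modules -/
noncomputable def ΦB [F.IsQuasicoherent]
    (hU : ∀ (n : ℕ) (x : Fin (n + 1) → ι), IsAffineOpen (Ux U x)) :
    CohIII.bcCx (algebraMap A B) (CA A F U) ≅ CA B (Fp g' F) (Up g' U) :=
  HomologicalComplex.Hom.isoOfComponents
    (fun n => ((Groth.Agent.S2380.bridge A B ((CA A F U).X n)).trans
      (φL A B g' h F U hU n)).toModuleIso)
    (by
      intro i j hij
      have : j = i + 1 := hij.symm
      subst this
      ext z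
      change ((CA B (Fp g' F) (Up g' U)).d i (i + 1)).hom
          (φ A B g' h F U i (Groth.Agent.S2380.bridge A B ((CA A F U).X i) z)) =
        φ A B g' h F U (i + 1) (Groth.Agent.S2380.bridge A B ((CA A F U).X (i + 1))
          ((ModuleCat.extendScalars (algebraMap A B)).map ((CA A F U).d i (i + 1)) z))
      rw [Groth.Agent.S2380.bridge_naturality, CA_d, CA_d]
      exact (φ_d A B g' h F U i _).symm)

include h in
/-- **Čech base change**, linear version: `H^p(X', g'^*F) ≃ₗ[B] H^p(B ⊗_A C(U, F))` -/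
theorem nonempty_linearEquiv_homology_bc [F.IsQuasicoherent] (hcov : ⨆ i, U i = ⊤)
    (hU : ∀ s : Finset ι, s.Nonempty → IsAffineOpen (⨅ i ∈ s, U i)) (p : ℕ) :
    Nonempty (Coh.HH X' (Fp g' F) p ≃ₗ[B]
      ↑((CohIII.bcCx (algebraMap A B) (CA A F U)).homology p)) := by
  haveI : (Fp g' F).IsQuasicoherent :=
    Groth.Agent.Lib.Helper2.PullbackSec.isQuasicoherent_pullback g' F
  have hcov' : ⨆ i, Up g' U i = ⊤ := by
    rw [← Scheme.Hom.preimage_iSup, hcov]
    rfl
  have hU' : ∀ s : Finset ι, s.Nonempty → IsAffineOpen (⨅ i ∈ s, Up g' U i) := by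
    intro s hs
    rw [preimage_biInf]
    exact isAffineOpen_preimage A B g' h _ (hU s hs)
  obtain ⟨e1⟩ := nonempty_linearEquiv_homology B (Fp g' F) (Up g' U) hcov' hU' p
  exact ⟨e1.trans (HomologicalComplex.homologyMapIso
    (ΦB A B g' h F U (isAffineOpen_Ux U hU)) p).symm.toLinearEquiv⟩

end Groth.Agent.Lib.Helper21.FibA
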