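import Mathlib
import Groth.Prelude
import Groth.Agent.Lib.Helper21CechMod
import Groth.Agent.Lib.Helper21ModTensor7
import Groth.Agent.Lib.Helper27TensorLin
import Groth.Agent.Lib.Helper20FormalPull
import Groth.Agent.Lib.Helper23TildeTensor
import Groth.Agent.Lib.Helper16TensorCmp2
import Groth.Agent.Lib.Helper20PullbackAff
import Groth.Agent.Lib.Helper23TensorQCoh

/-!
# The functor `M ↦ Γ(W, F ⊗_A M)` (helper21)
-/
set_option autoImplicit false
universe u
open CategoryTheory CategoryTheory.Limits AlgebraicGeometry MonoidalCategory Opposite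

namespace Groth.Agent.Lib.Helper21.TFunA

open Groth.Agent.Lib.Helper21.ModTensor2 Groth.Agent.Lib.Helper21.ModTensor3
  Groth.Agent.Lib.Helper21.CechMod Groth.Agent.Lib.Helper23.TildeTensor

section QC
variable {R : CommRingCat.{u}} {𝒟 : Type (u + 1)} [Category.{u} 𝒟]
  (Φ : 𝒟 ⥤ (Spec (CommRingCat.of R)).Modules)

/-- a colimit preserving functor with quasi-coherent values into modules on `Spec R`, composed
with global sections, preserves colimits. -/
theorem _root_.Groth.Agent.Lib.Helper21.TFun.preservesColimits_comp_Γ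
    [PreservesColimitsOfSize.{u, u} Φ]
    (hΦ : ∀ d, (Φ.obj d).IsQuasicoherent) :
    PreservesColimitsOfSize.{u, u} (Φ ⋙ moduleSpecΓFunctor (R := R)) := by
  haveI : ∀ d, IsIso ((Functor.whiskerLeft Φ (Scheme.Modules.fromTildeΓNatTrans (R := R))).app d) := by
    intro d
    haveI := hΦ d
    exact Scheme.Modules.isIso_fromTildeΓ_of_isQuasicoherent (Φ.obj d)
  haveI : IsIso (Functor.whiskerLeft Φ (Scheme.Modules.fromTildeΓNatTrans (R := R))) :=
    NatIso.isIso_of_isIso_app _
  let e : (Φ ⋙ moduleSpecΓFunctor (R := R)) ⋙ tilde.functor R ≅ Φ :=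
    (Functor.associator _ _ _) ≪≫
      asIso (Functor.whiskerLeft Φ (Scheme.Modules.fromTildeΓNatTrans (R := R))) ≪≫
      Φ.rightUnitor
  haveI : PreservesColimitsOfSize.{u, u} ((Φ ⋙ moduleSpecΓFunctor (R := R)) ⋙ tilde.functor R) :=
    preservesColimits_of_natIso e.symm
  exact preservesColimits_of_reflects_of_preserves (Φ ⋙ moduleSpecΓFunctor (R := R))
    (tilde.functor R)

end QC

section Tilde
variable (R : CommRingCat.{u}) (M : ModuleCat.{u} R)

/-- `tilde` is linear: multiplication by `r` on `M` induces multiplication by `r` on `M~`. -/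
theorem tilde_map_smul (r : R) :
    tilde.map (r • 𝟙 M) = Formal.smulModΓ (tilde M) ((Scheme.ΓSpecIso R).inv.hom r) := by
  apply ((tilde.adjunction (R := R)).homEquiv M (tilde M)).injective
  rw [Adjunction.homEquiv_unit, Adjunction.homEquiv_unit]
  ext m
  change ((moduleSpecΓFunctor (R := R)).map (tilde.map (r • 𝟙 M))).hom (sec R M m) =
    ((moduleSpecΓFunctor (R := R)).map (Formal.smulModΓ (tilde M) _)).hom (sec R M m)
  have h1 := ConcreteCategory.congr_hom (tilde.toOpen_map_app (r • 𝟙 M) ⊤) m
  refine Eq.trans (b := sec R M (r • m)) ?_ ?_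
  · exact h1
  · rw [sec_smul]
    rfl

end Tilde

section G
variable (A : Type u) [CommRing A] {X : Scheme.{u}} [X.Over (Spec (CommRingCat.of A))]
  (F : X.Modules)

/-- the functor `M ↦ f^*(M~) ⊗ F` -/
noncomputable abbrev 𝒢 : ModuleCat.{u} A ⥤ X.Modules := CohIII.tensorAFunctor A F

theorem 𝒢_map_smul (M : ModuleCat.{u} A) (a : A) :
    (𝒢 A F).map (a • 𝟙 M) = Formal.smulMod A ((𝒢 A F).obj M) a := by
  change (tR X.sheaf F).map ((Scheme.Modules.pullback (X ↘ Spec (CommRingCat.of A))).map
    (tilde.map (a • 𝟙 M))) = _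
  rw [tilde_map_smul, Groth.Agent.Lib.Helper20.FormalPull.pullback_map_smulModΓ,
    Groth.Agent.Lib.Helper27TensorLin.tR_map_smulModΓ]
  rfl

noncomputable instance : PreservesColimitsOfSize.{u, u} (𝒢 A F) := by
  unfold 𝒢 CohIII.tensorAFunctor
  haveI : PreservesColimitsOfSize.{u, u} (DCoh.tensorRightMod F) :=
    inferInstanceAs (PreservesColimitsOfSize.{u, u} (tR X.sheaf F))
  haveI : PreservesColimitsOfSize.{u, u} (Scheme.Modules.pullback (X ↘ Spec (CommRingCat.of A))) :=
    (Scheme.Modules.pullbackPushforwardAdjunction _).leftAdjoint_preservesColimits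
  haveI : PreservesColimitsOfSize.{u, u} (tilde.functor (CommRingCat.of A)) :=
    tilde.adjunction.leftAdjoint_preservesColimits
  infer_instance

instance 𝒢_isQuasicoherent [F.IsQuasicoherent] (M : ModuleCat.{u} A) :
    ((𝒢 A F).obj M).IsQuasicoherent := by
  haveI : ((tilde.functor (CommRingCat.of A)).obj M).IsQuasicoherent :=
    inferInstanceAs (tilde (R := CommRingCat.of A) M).IsQuasicoherent
  haveI : ((Scheme.Modules.pullback (X ↘ Spec (CommRingCat.of A))).obj
      ((tilde.functor (CommRingCat.of A)).obj M)).IsQuasicoherent :=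
    Groth.Agent.Lib.Helper20.PullbackAff.isQuasicoherent_pullback _ _
  exact Groth.Agent.Lib.Helper23.TensorQCoh.isQuasicoherent_tensorMod _ _

end G

section SecF
variable (A : Type u) [CommRing A] {X : Scheme.{u}} [X.Over (Spec (CommRingCat.of A))]
  (W : X.Opens)

/-- the map on sections over `W`, as an `A`-linear map -/
noncomputable def appA {G G' : X.Modules} (φ : G ⟶ G') : SecA A G W →ₗ[A] SecA A G' W where
  toFun s := (φ.app W).hom s
  map_add' s t := map_add (φ.app W).hom s t
  map_smul' a s := by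
    change (φ.app W).hom ((ringA A W a : Γ(X, W)) • (show Γ(G, W) from s)) =
      ((ringA A W a : Γ(X, W)) • (φ.app W).hom s : Γ(G', W))
    exact Scheme.Modules.Hom.app_smul φ _ _

lemma appA_apply {G G' : X.Modules} (φ : G ⟶ G') (s : SecA A G W) :
    appA A W φ s = (φ.app W).hom s := rfl

/-- sections over `W` as `A`-modules, functorially -/
noncomputable def SecAF : X.Modules ⥤ ModuleCat.{u} A where
  obj G := ModuleCat.of A (SecA A G W)
  map φ := ModuleCat.ofHom (appA A W φ)
  map_id G := by
    ext s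
    rfl
  map_comp φ ψ := by
    ext s
    rfl

instance : (SecAF A W).Additive where
  map_add {G G' φ ψ} := by
    ext s
    rfl

open Groth.Agent.Lib.Helper20.PullbackAff Groth.Agent.Lib.Helper20.Thickening
  Groth.Agent.Lib.Helper2.QCoh in
lemma toΓUF_natural {W : X.Opens} (hW : IsAffineOpen W) {G G' : X.Modules} (φ : G ⟶ G')
    (y : Γ(G, W)) :
    ((ΓUF hW).map φ).hom (toΓUF hW G y) = toΓUF hW G' ((φ.app W).hom y) := by
  have h := ConcreteCategory.congr_hom
    (φ.mapPresheaf.naturality (homOfLE (fromSpec_image_le hW ⊤)).op) y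
  change (φ.app (hW.fromSpec ''ᵁ ⊤)).hom
    ((G.presheaf.map (homOfLE (fromSpec_image_le hW ⊤)).op).hom y) =
    (G'.presheaf.map (homOfLE (fromSpec_image_le hW ⊤)).op).hom ((φ.app W).hom y)
  exact h

open Groth.Agent.Lib.Helper20.PullbackAff Groth.Agent.Lib.Helper20.Thickening in
/-- sections over an affine open `W`, as `A`-modules, through `Spec Γ(X, W)` -/
noncomputable def secAFIso {W : X.Opens} (hW : IsAffineOpen W) :
    SecAF A W ≅ ΓUF hW ⋙ ModuleCat.restrictScalars (ringA A W) :=
  NatIso.ofComponents (fun G => LinearEquiv.toModuleIso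
    (show SecA A G W ≃ₗ[A] ↑((ModuleCat.restrictScalars (ringA A W)).obj ((ΓUF hW).obj G)) from
    { toFun := fun s => ΓUEquiv hW G s
      invFun := fun t => (ΓUEquiv hW G).symm t
      left_inv := fun s => (ΓUEquiv hW G).symm_apply_apply s
      right_inv := fun t => (ΓUEquiv hW G).apply_symm_apply t
      map_add' := fun s t => map_add (ΓUEquiv hW G) s t
      map_smul' := fun a s => (ΓUEquiv hW G).map_smul (ringA A W a) s }))
    (fun {G G'} φ => by
      ext s
      exact (toΓUF_natural hW φ s).symm)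

end SecF

section EW
variable (A : Type u) [CommRing A] {X : Scheme.{u}} [X.Over (Spec (CommRingCat.of A))]
  (F : X.Modules)

/-- `M ↦ Γ(W, f^*(M~) ⊗ F)` as a functor on `A`-modules -/
noncomputable abbrev EW (W : X.Opens) : ModuleCat.{u} A ⥤ ModuleCat.{u} A := 𝒢 A F ⋙ SecAF A W

lemma SecAF_map_smulMod (W : X.Opens) (G : X.Modules) (a : A) :
    (SecAF A W).map (Formal.smulMod A G a) = a • 𝟙 _ := by
  ext s
  rfl

instance 𝒢_additive : (𝒢 A F).Additive := by
  unfold 𝒢 CohIII.tensorAFunctor
  haveI : (DCoh.tensorRightMod F).Additive := DCoh.additive_tensorRightMod F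
  haveI : (Scheme.Modules.pullback (X ↘ Spec (CommRingCat.of A))).Additive :=
    (Scheme.Modules.pullbackPushforwardAdjunction _).left_adjoint_additive
  infer_instance

instance EW_linear (W : X.Opens) : (EW A F W).Linear A where
  map_smul {M N} g a := by
    have h1 : a • g = g ≫ (a • 𝟙 N) := by rw [Linear.comp_smul, Category.comp_id]
    rw [h1, Functor.map_comp]
    change (EW A F W).map g ≫ (SecAF A W).map ((𝒢 A F).map (a • 𝟙 N)) = _
    rw [𝒢_map_smul, SecAF_map_smulMod, Linear.comp_smul]
    congr 1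

open Groth.Agent.Lib.Helper20.PullbackAff Groth.Agent.Lib.Helper20.Thickening in
theorem preservesColimits_EW [F.IsQuasicoherent] {W : X.Opens} (hW : IsAffineOpen W) :
    PreservesColimitsOfSize.{u, u} (EW A F W) := by
  haveI : PreservesColimitsOfSize.{u, u} (Scheme.Modules.restrictFunctor hW.fromSpec) :=
    (Scheme.Modules.restrictAdjunction hW.fromSpec).leftAdjoint_preservesColimits
  haveI : PreservesColimitsOfSize.{u, u}
      ((𝒢 A F ⋙ Scheme.Modules.restrictFunctor hW.fromSpec) ⋙
        moduleSpecΓFunctor (R := Γ(X, W))) :=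
    Groth.Agent.Lib.Helper21.TFun.preservesColimits_comp_Γ _ (fun M => by
      change ((Scheme.Modules.restrictFunctor hW.fromSpec).obj ((𝒢 A F).obj M)).IsQuasicoherent
      infer_instance)
  haveI : PreservesColimitsOfSize.{u, u} (ModuleCat.restrictScalars.{u} (ringA A W)) :=
    (ModuleCat.restrictCoextendScalarsAdj.{u} (ringA A W)).leftAdjoint_preservesColimits
  let e : EW A F W ≅ ((𝒢 A F ⋙ Scheme.Modules.restrictFunctor hW.fromSpec) ⋙
      moduleSpecΓFunctor (R := Γ(X, W))) ⋙ ModuleCat.restrictScalars.{u} (ringA A W) :=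
    Functor.isoWhiskerLeft (𝒢 A F) (secAFIso A hW)
  exact preservesColimits_of_natIso e.symm

end EW

end Groth.Agent.Lib.Helper21.TFunA
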