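import Mathlib
import Groth.Agent.Lib.Helper21TFunA

/-!
# The Čech complex of modules as a functor of the module (helper21)
-/
set_option autoImplicit false
universe u
open CategoryTheory CategoryTheory.Limits AlgebraicGeometry MonoidalCategory Opposite

namespace Groth.Agent.Lib.Helper21.TFunB

open Groth.Agent.Lib.Helper16.CechLow Groth.Agent.Lib.Helper21.CechMod
  Groth.Agent.Lib.Helper21.TFunA

section CAF
variable (A : Type u) [CommRing A] {X : Scheme.{u}} [X.Over (Spec (CommRingCat.of A))]
  {ι : Type u} (U : ι → X.Opens)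

/-- the map on Čech cochains induced by a morphism of modules -/
noncomputable def cxMap {G G' : X.Modules} (φ : G ⟶ G') (n : ℕ) :
    CX A G U n →ₗ[A] CX A G' U n where
  toFun c x := appA A (Ux U x) φ (c x)
  map_add' c c' := by
    funext x
    exact map_add (appA A (Ux U x) φ) (c x) (c' x)
  map_smul' a c := by
    funext x
    exact map_smul (appA A (Ux U x) φ) a (c x)

lemma cxMap_apply {G G' : X.Modules} (φ : G ⟶ G') (n : ℕ) (c : CX A G U n)
    (x : Fin (n + 1) → ι) : cxMap A U φ n c x = (φ.app (Ux U x)).hom (c x) := rfl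

lemma appA_resA {G G' : X.Modules} (φ : G ⟶ G') {V W : X.Opens} (i : W ⟶ V) (s : SecA A G V) :
    appA A W φ (resA A G i s) = resA A G' i (appA A V φ s) := by
  have h := ConcreteCategory.congr_hom (φ.mapPresheaf.naturality i.op) s
  exact h

lemma cxMap_dA {G G' : X.Modules} (φ : G ⟶ G') (n : ℕ) (c : CX A G U n) :
    cxMap A U φ (n + 1) (dA A G U n c) = dA A G' U n (cxMap A U φ n c) := by
  funext x
  rw [dA_apply]
  change appA A (Ux U x) φ (dA A G U n c x) = _
  rw [dA_apply, map_sum]
  refine Finset.sum_congr rfl (fun i _ => ?_)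
  rw [map_zsmul, appA_resA]
  rfl

/-- the morphism of Čech complexes induced by a morphism of modules -/
noncomputable def CAmap {G G' : X.Modules} (φ : G ⟶ G') : CA A G U ⟶ CA A G' U where
  f n := ModuleCat.ofHom (cxMap A U φ n)
  comm' i j hij := by
    have : j = i + 1 := hij.symm
    subst this
    rw [CA_d, CA_d]
    ext c
    exact (cxMap_dA A U φ i c).symm

lemma CAmap_f {G G' : X.Modules} (φ : G ⟶ G') (n : ℕ) :
    (CAmap A U φ).f n = ModuleCat.ofHom (cxMap A U φ n) := rfl

/-- the Čech complex functor -/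
noncomputable def CAF : X.Modules ⥤ CochainComplex (ModuleCat.{u} A) ℕ where
  obj G := CA A G U
  map φ := CAmap A U φ
  map_id G := by
    apply HomologicalComplex.hom_ext
    intro n
    ext c
    rfl
  map_comp φ ψ := by
    apply HomologicalComplex.hom_ext
    intro n
    ext c
    rfl

/-- naturality of the comparison with Mathlib's Čech complex -/
lemma θ_natural {G G' : X.Modules} (φ : G ⟶ G') :
    (cechComplexFunctor U).map φ.mapPresheaf ≫ (θ A G' U).hom =
      (θ A G U).hom ≫ ((F₂ (A := A)).mapHomologicalComplex (ComplexShape.up ℕ)).map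
        (CAmap A U φ) := by
  ext n c
  change eX A G' U n (((cechComplexFunctor U).map φ.mapPresheaf).f n c) =
    cxMap A U φ n (eX A G U n c)
  funext x
  rw [eX_apply]
  have h := ConcreteCategory.congr_hom
    (Groth.Agent.Lib.Helper27CechNat.map_pr U φ.mapPresheaf n x) c
  exact h

end CAF

section HNat
variable (A : Type u) [CommRing A] {X : Scheme.{u}} [X.Over (Spec (CommRingCat.of A))]
  {ι : Type u} (U : ι → X.Opens) (hcov : ⨆ i, U i = ⊤)
  (hU : ∀ s : Finset ι, s.Nonempty → IsAffineOpen (⨅ i ∈ s, U i))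

open Groth.Agent.Lib.Helper27CechNat

/-- sheaf cohomology of a quasi-coherent module is Čech cohomology of the complex of modules -/
noncomputable def hIsoApp (G : X.Modules) [Coh.IsQCoh G] (p : ℕ) :
    Coh.HH X G p ≃+ ↑((CA A G U).homology p) :=
  (AddEquiv.ofBijective (cmpM U hcov G p) (cmpM_bijective U hcov hU G p)).symm.trans
    (hEquiv (θ A G U) p)

lemma hIsoApp_cmpM (G : X.Modules) [Coh.IsQCoh G] (p : ℕ) (x : ↑(CohB1.cechH U G p)) :
    hIsoApp A U hcov hU G p (cmpM U hcov G p x) = hEquiv (θ A G U) p x := by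
  unfold hIsoApp
  rw [AddEquiv.trans_apply]
  congr 1
  exact (AddEquiv.ofBijective (cmpM U hcov G p) (cmpM_bijective U hcov hU G p)).symm_apply_apply x

lemma hIsoApp_natural {G G' : X.Modules} [Coh.IsQCoh G] [Coh.IsQCoh G'] (φ : G ⟶ G') (p : ℕ)
    (y : Coh.HH X G p) :
    hIsoApp A U hcov hU G' p (Sheaf.H.map ((SheafOfModules.toSheaf X.ringCatSheaf).map φ) p y) =
      (HomologicalComplex.homologyMap (CAmap A U φ) p).hom (hIsoApp A U hcov hU G p y) := by
  obtain ⟨x, rfl⟩ := (cmpM_bijective U hcov hU G p).2 y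
  rw [← cmpM_natural U hcov ((SheafOfModules.toSheaf X.ringCatSheaf).map φ) p x, hIsoApp_cmpM,
    hIsoApp_cmpM]
  exact hEquiv_naturality (θ A G U) (θ A G' U) ((cechComplexFunctor U).map φ.mapPresheaf)
    (CAmap A U φ) (θ_natural A U φ) p x

end HNat

end Groth.Agent.Lib.Helper21.TFunB
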