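import Mathlib
import Groth.Agent.Lib.Helper21TFunB

/-!
# Eilenberg–Watts for the Čech complex functor (helper21)
-/
set_option autoImplicit false
universe u
open CategoryTheory CategoryTheory.Limits AlgebraicGeometry MonoidalCategory Opposite TensorProduct

namespace Groth.Agent.Lib.Helper21.TFunC

open Groth.Agent.Lib.Helper16.CechLow Groth.Agent.Lib.Helper21.CechMod
  Groth.Agent.Lib.Helper21.TFunA Groth.Agent.Lib.Helper21.TFunB Groth.Agent.Lib.Helper16.TensorCmp

section EWgen
variable {A : Type u} [CommRing A] (T T' : ModuleCat.{u} A ⥤ ModuleCat.{u} A)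
  [T.Additive] [T.Linear A] [T'.Additive] [T'.Linear A]

/-- the comparison maps are compatible with natural transformations -/
lemma tM_natTrans (δ : T ⟶ T') (M : ModuleCat.{u} A)
    (z : TensorProduct A (T.obj (ModuleCat.of A A)) M) :
    (δ.app M).hom (tM T M z) = tM T' M (LinearMap.rTensor M (δ.app (ModuleCat.of A A)).hom z) := by
  induction z using TensorProduct.induction_on with
  | zero => simp
  | tmul y x =>
    rw [tM_tmul, LinearMap.rTensor_tmul, tM_tmul]
    exact ConcreteCategory.congr_hom (δ.naturality (θ x)) y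
  | add a b ha hb => simp only [map_add, ha, hb]

/-- Eilenberg–Watts: a colimit preserving linear functor is a tensor product -/
theorem tM_bijective [PreservesColimitsOfSize.{u, u} T] (M : ModuleCat.{u} A) :
    Function.Bijective (tM T M) :=
  ⟨tM_injective_of_pfc T M, tM_surjective_of_pfc T M⟩

end EWgen

section Tn
variable (A : Type u) [CommRing A] {X : Scheme.{u}} [X.Over (Spec (CommRingCat.of A))]
  (F : X.Modules) {ι : Type u} (U : ι → X.Opens)

/-- `M ↦ C^n(U, f^*(M~) ⊗ F)` -/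
noncomputable abbrev Tn (n : ℕ) : ModuleCat.{u} A ⥤ ModuleCat.{u} A :=
  𝒢 A F ⋙ CAF A U ⋙ HomologicalComplex.eval _ _ n

lemma Tn_map_apply (n : ℕ) {M N : ModuleCat.{u} A} (g : M ⟶ N) (c : (Tn A F U n).obj M)
    (x : Fin (n + 1) → ι) :
    (show CX A ((𝒢 A F).obj N) U n from ((Tn A F U n).map g).hom c) x =
      ((EW A F (Ux U x)).map g).hom ((show CX A ((𝒢 A F).obj M) U n from c) x) := rfl

instance CAF_additive : (CAF A U).Additive where
  map_add {G G' φ ψ} := by
    apply HomologicalComplex.hom_ext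
    intro n
    ext c
    rfl

lemma CAF_map_smulMod (G : X.Modules) (a : A) :
    (CAF A U).map (Formal.smulMod A G a) = a • 𝟙 _ := by
  apply HomologicalComplex.hom_ext
  intro n
  ext c
  rfl

instance Tn_linear (n : ℕ) : (Tn A F U n).Linear A where
  map_smul {M N} g a := by
    have h1 : a • g = g ≫ (a • 𝟙 N) := by rw [Linear.comp_smul, Category.comp_id]
    rw [h1, Functor.map_comp]
    change (Tn A F U n).map g ≫
      (HomologicalComplex.eval _ _ n).map ((CAF A U).map ((𝒢 A F).map (a • 𝟙 N))) = _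
    rw [𝒢_map_smul, CAF_map_smulMod]
    ext c
    rfl

variable [Finite ι]

open Classical in
/-- `(∏ N_x) ⊗ M = ∏ (N_x ⊗ M)` for the finite product of cochains -/
noncomputable def piL (G : X.Modules) (M : ModuleCat.{u} A) (n : ℕ) :
    TensorProduct A (CX A G U n) M ≃ₗ[A]
      (∀ x : Fin (n + 1) → ι, TensorProduct A (SecA A G (Ux U x)) M) :=
  letI : Fintype (Fin (n + 1) → ι) := Fintype.ofFinite _
  (TensorProduct.comm A (∀ x : Fin (n + 1) → ι, SecA A G (Ux U x)) M).trans
    ((TensorProduct.piRight A A M (fun x : Fin (n + 1) → ι => SecA A G (Ux U x))).trans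
      (LinearEquiv.piCongrRight (fun x : Fin (n + 1) → ι =>
        TensorProduct.comm A M (SecA A G (Ux U x)))))

lemma piL_tmul (G : X.Modules) (M : ModuleCat.{u} A) (n : ℕ) (c : CX A G U n) (m : M)
    (x : Fin (n + 1) → ι) : piL A U G M n (c ⊗ₜ[A] m) x = c x ⊗ₜ[A] m := by
  classical
  letI : Fintype (Fin (n + 1) → ι) := Fintype.ofFinite _
  change TensorProduct.comm A M (SecA A G (Ux U x))
    (TensorProduct.piRight A A M (fun x : Fin (n + 1) → ι => SecA A G (Ux U x))
      (m ⊗ₜ[A] (show ∀ x : Fin (n + 1) → ι, SecA A G (Ux U x) from c)) x) = _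
  rw [TensorProduct.piRight_apply, TensorProduct.piRightHom_tmul]
  rfl

/-- the component at `x` of a cochain -/
noncomputable def evx (n : ℕ) (M : ModuleCat.{u} A) (x : Fin (n + 1) → ι) :
    ↑((Tn A F U n).obj M) →ₗ[A] SecA A ((𝒢 A F).obj M) (Ux U x) where
  toFun c := (show CX A ((𝒢 A F).obj M) U n from c) x
  map_add' _ _ := rfl
  map_smul' _ _ := rfl

lemma evx_ext (n : ℕ) (M : ModuleCat.{u} A) (c c' : ↑((Tn A F U n).obj M))
    (h : ∀ x, evx A F U n M x c = evx A F U n M x c') : c = c' := by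
  change (show CX A ((𝒢 A F).obj M) U n from c) = (show CX A ((𝒢 A F).obj M) U n from c')
  funext x
  exact h x

/-- the comparison map of `Tn` is componentwise the comparison map of `EW` -/
lemma tM_Tn_comp (n : ℕ) (M : ModuleCat.{u} A) (x : Fin (n + 1) → ι) :
    (evx A F U n M x) ∘ₗ (tM (Tn A F U n) M) =
      (tM (EW A F (Ux U x)) M) ∘ₗ (LinearMap.proj x) ∘ₗ
        (piL A U ((𝒢 A F).obj (ModuleCat.of A A)) M n).toLinearMap := by
  apply TensorProduct.ext'
  intro c m
  change evx A F U n M x (tM (Tn A F U n) M (c ⊗ₜ[A] m)) =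
    tM (EW A F (Ux U x)) M
      (piL A U ((𝒢 A F).obj (ModuleCat.of A A)) M n
        ((show CX A ((𝒢 A F).obj (ModuleCat.of A A)) U n from c) ⊗ₜ[A] m) x)
  rw [piL_tmul, tM_tmul]
  exact (tM_tmul (EW A F (Ux U x)) M _ m).symm

lemma tM_Tn_apply (n : ℕ) (M : ModuleCat.{u} A)
    (t : TensorProduct A ((Tn A F U n).obj (ModuleCat.of A A)) M) (x : Fin (n + 1) → ι) :
    evx A F U n M x (tM (Tn A F U n) M t) =
      tM (EW A F (Ux U x)) M (piL A U ((𝒢 A F).obj (ModuleCat.of A A)) M n t x) :=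
  LinearMap.congr_fun (tM_Tn_comp A F U n M x) t

theorem tM_Tn_bijective [F.IsQuasicoherent]
    (hU : ∀ (n : ℕ) (x : Fin (n + 1) → ι), IsAffineOpen (Ux U x)) (n : ℕ) (M : ModuleCat.{u} A) :
    Function.Bijective (tM (Tn A F U n) M) := by
  have hx : ∀ x : Fin (n + 1) → ι, Function.Bijective (tM (EW A F (Ux U x)) M) := fun x => by
    haveI := preservesColimits_EW A F (hU n x)
    exact tM_bijective (EW A F (Ux U x)) M
  constructor
  · intro t t' htt
    apply (piL A U ((𝒢 A F).obj (ModuleCat.of A A)) M n).injective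
    funext x
    apply (hx x).1
    rw [← tM_Tn_apply, ← tM_Tn_apply, htt]
  · intro c
    choose s hs using fun x => (hx x).2 (evx A F U n M x c)
    refine ⟨(piL A U ((𝒢 A F).obj (ModuleCat.of A A)) M n).symm s, ?_⟩
    apply evx_ext
    intro x
    rw [tM_Tn_apply, LinearEquiv.apply_symm_apply]
    exact hs x

/-- the Čech differential as a natural transformation -/
noncomputable def dNat (n : ℕ) : Tn A F U n ⟶ Tn A F U (n + 1) where
  app M := (CA A ((𝒢 A F).obj M) U).d n (n + 1)
  naturality M N g := ((CAF A U).map ((𝒢 A F).map g)).comm n (n + 1)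

/-- the Čech complex of `f^*(A~) ⊗ F` -/
noncomputable abbrev C0 : CochainComplex (ModuleCat.{u} A) ℕ :=
  CA A ((𝒢 A F).obj (ModuleCat.of A A)) U

/-- **Eilenberg–Watts for the Čech complex**: `C(U, f^*(A~) ⊗ F) ⊗_A M ≅ C(U, f^*(M~) ⊗ F)` -/
noncomputable def Ψ [F.IsQuasicoherent]
    (hU : ∀ (n : ℕ) (x : Fin (n + 1) → ι), IsAffineOpen (Ux U x)) (M : ModuleCat.{u} A) :
    CohIII.tensorObj (C0 A F U) M ≅ CA A ((𝒢 A F).obj M) U :=
  HomologicalComplex.Hom.isoOfComponents
    (fun n => (LinearEquiv.ofBijective (tM (Tn A F U n) M)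
      (tM_Tn_bijective A F U hU n M)).toModuleIso)
    (by
      intro i j hij
      have : j = i + 1 := hij.symm
      subst this
      ext t
      exact tM_natTrans (Tn A F U i) (Tn A F U (i + 1)) (dNat A F U i) M t)

lemma Ψ_hom_f [F.IsQuasicoherent]
    (hU : ∀ (n : ℕ) (x : Fin (n + 1) → ι), IsAffineOpen (Ux U x)) (M : ModuleCat.{u} A) (n : ℕ) :
    (Ψ A F U hU M).hom.f n = ModuleCat.ofHom (tM (Tn A F U n) M) := rfl

/-- naturality of `Ψ` in the module -/
lemma Ψ_natural [F.IsQuasicoherent]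
    (hU : ∀ (n : ℕ) (x : Fin (n + 1) → ι), IsAffineOpen (Ux U x)) {M N : ModuleCat.{u} A}
    (g : M ⟶ N) :
    CohIII.tensorMap (C0 A F U) g ≫ (Ψ A F U hU N).hom =
      (Ψ A F U hU M).hom ≫ (CAF A U).map ((𝒢 A F).map g) := by
  apply HomologicalComplex.hom_ext
  intro n
  ext t
  exact (tM_nat (Tn A F U n) g t).symm

end Tn

end Groth.Agent.Lib.Helper21.TFunC
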