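import Mathlib
import Groth.Agent.Lib.Helper21TFunC

/-!
# `M ↦ H^p(X, f^*(M~) ⊗ F)` is `M ↦ H^p(C ⊗_A M)` naturally in `M` (Čech complex `C`)
-/

universe u
open CategoryTheory CategoryTheory.Limits AlgebraicGeometry MonoidalCategory Opposite TensorProduct

namespace Groth.Agent.Lib.Helper21.TFunD

open Groth.Agent.Lib.Helper16.CechLow Groth.Agent.Lib.Helper21.CechMod
  Groth.Agent.Lib.Helper21.TFunA Groth.Agent.Lib.Helper21.TFunB Groth.Agent.Lib.Helper21.TFunC

section NatIso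
variable (A : Type u) [CommRing A] {X : Scheme.{u}} [X.Over (Spec (CommRingCat.of A))]
  (F : X.Modules) [F.IsQuasicoherent] {ι : Type u} [Finite ι] (U : ι → X.Opens) (hcov : ⨆ i, U i = ⊤)
  (hU : ∀ s : Finset ι, s.Nonempty → IsAffineOpen (⨅ i ∈ s, U i))
  (hU' : ∀ (n : ℕ) (x : Fin (n + 1) → ι), IsAffineOpen (Ux U x))

/-- componentwise: `H^p(X, f^*(M~) ⊗ F) ≃+ H^p(C0 ⊗ M)` -/
noncomputable def compEquiv (p : ℕ) (M : ModuleCat.{u} A) :
    Coh.HH X ((𝒢 A F).obj M) p ≃+ ↑(CohIII.T (C0 A F U) p M) :=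
  (hIsoApp A U hcov hU ((𝒢 A F).obj M) p).trans
    ((HomologicalComplex.homologyMapIso (Ψ A F U hU' M) p).symm.toLinearEquiv.toAddEquiv)

lemma compEquiv_apply (p : ℕ) (M : ModuleCat.{u} A) (y : Coh.HH X ((𝒢 A F).obj M) p) :
    compEquiv A F U hcov hU hU' p M y =
      (HomologicalComplex.homologyMap (Ψ A F U hU' M).inv p).hom
        (hIsoApp A U hcov hU ((𝒢 A F).obj M) p y) := rfl

lemma compEquiv_natural (p : ℕ) {M N : ModuleCat.{u} A} (g : M ⟶ N)
    (y : Coh.HH X ((𝒢 A F).obj M) p) :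
    compEquiv A F U hcov hU hU' p N
        (Sheaf.H.map ((SheafOfModules.toSheaf X.ringCatSheaf).map ((𝒢 A F).map g)) p y) =
      ((CohIII.TFun (C0 A F U) p).map g).hom (compEquiv A F U hcov hU hU' p M y) := by
  rw [compEquiv_apply, compEquiv_apply, hIsoApp_natural]
  have h0 : CohIII.tensorMap (C0 A F U) g ≫ (Ψ A F U hU' N).hom =
      (Ψ A F U hU' M).hom ≫ CAmap A U ((𝒢 A F).map g) := Ψ_natural A F U hU' g
  have h : CAmap A U ((𝒢 A F).map g) ≫ (Ψ A F U hU' N).inv =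
      (Ψ A F U hU' M).inv ≫ CohIII.tensorMap (C0 A F U) g := by
    rw [Iso.comp_inv_eq, Category.assoc, h0, Iso.inv_hom_id_assoc]
  have h2 : HomologicalComplex.homologyMap (CAmap A U ((𝒢 A F).map g)) p ≫
        HomologicalComplex.homologyMap (Ψ A F U hU' N).inv p =
      HomologicalComplex.homologyMap (Ψ A F U hU' M).inv p ≫
        HomologicalComplex.homologyMap (CohIII.tensorMap (C0 A F U) g) p := by
    rw [← HomologicalComplex.homologyMap_comp, ← HomologicalComplex.homologyMap_comp, h]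
  have h3 := congrArg (fun k => k.hom (hIsoApp A U hcov hU ((𝒢 A F).obj M) p y)) h2
  exact h3

/-- the natural isomorphism `H^p(X, f^*(-~) ⊗ F) ≅ H^p(C0 ⊗ -)` -/
noncomputable def natIsoH (p : ℕ) :
    𝒢 A F ⋙ CohIII.HAb X p ≅
      CohIII.TFun (C0 A F U) p ⋙ forget₂ (ModuleCat.{u} A) AddCommGrpCat.{u} :=
  NatIso.ofComponents
    (fun M => (compEquiv A F U hcov hU hU' p M).toAddCommGrpIso)
    (by
      intro M N g
      ext y
      exact compEquiv_natural A F U hcov hU hU' p g y)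

end NatIso

end Groth.Agent.Lib.Helper21.TFunD
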