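import Mathlib
import Groth.Agent.Lib.Helper21TFunD
import Groth.Agent.Lib.Helper21TFunF
import Groth.Agent.Lib.Helper21MumD
import Groth.Agent.Lib.Helper21ModTensor7

/-!
# `M ↦ H^p(X, f^*(M~) ⊗ F)` is computed by a bounded complex of finite projective modules,
naturally in `M` (helper21)
-/
set_option autoImplicit false
universe u
open CategoryTheory CategoryTheory.Limits AlgebraicGeometry MonoidalCategory Opposite

namespace Groth.Agent.Lib.Helper21.TFunG

section pb
set_option backward.isDefEq.respectTransparency.types false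

variable {X Y : Scheme.{u}} (f : X ⟶ Y)

/-- (copied from helper1's `Helper1Fib3`, to keep the import closure small) -/
instance final_opensMap : (TopologicalSpace.Opens.map f.base).Final := by
  apply Functor.final_of_exists_of_isFiltered
  · intro U
    exact ⟨⊤, ⟨homOfLE le_top⟩⟩
  · intro U V s s'
    exact ⟨V, 𝟙 V, Subsingleton.elim _ _⟩

instance isRightAdjoint_pushforward :
    (SheafOfModules.pushforward.{u} f.toRingCatSheafHom).IsRightAdjoint :=
  inferInstanceAs ((Scheme.Modules.pushforward f).IsRightAdjoint)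

theorem isIso_pullbackObjUnitToUnit :
    IsIso (SheafOfModules.pullbackObjUnitToUnit.{u} f.toRingCatSheafHom) := by
  infer_instance

/-- `f^* O_Y ≅ O_X` -/
noncomputable def pullbackUnitIso :
    (Scheme.Modules.pullback f).obj (Coh.structureModule Y) ≅ Coh.structureModule X :=
  @asIso _ _ _ _ (SheafOfModules.pullbackObjUnitToUnit.{u} f.toRingCatSheafHom)
    (isIso_pullbackObjUnitToUnit f)

end pb

open Groth.Agent.Lib.Helper16.CechLow Groth.Agent.Lib.Helper21.CechMod
  Groth.Agent.Lib.Helper21.CechBC Groth.Agent.Lib.Helper21.MumC Groth.Agent.Lib.Helper21.MumD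
  Groth.Agent.Lib.Helper21.TFunA Groth.Agent.Lib.Helper21.TFunB Groth.Agent.Lib.Helper21.TFunC
  Groth.Agent.Lib.Helper21.TFunD Groth.Agent.Lib.Helper21.TFunE Groth.Agent.Lib.Helper21.TFunF
  Groth.Agent.Lib.Helper21.ModTensor7 Groth.Agent.Lib.Helper21.ModTensor3


variable (A : Type u) [CommRing A] {X : Scheme.{u}} [X.Over (Spec (CommRingCat.of A))]
  (F : X.Modules)

/-- `f^*(A~) ⊗ F ≅ F` -/
noncomputable def 𝒢AIso : (𝒢 A F).obj (ModuleCat.of A A) ≅ F :=
  (DCoh.tensorRightMod F).mapIso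
    ((Scheme.Modules.pullback (X ↘ Spec (CommRingCat.of A))).mapIso
        (tildeSelf (R := CommRingCat.of A)) ≪≫
      pullbackUnitIso (X ↘ Spec (CommRingCat.of A))) ≪≫
    (tLUnitIso X.sheaf).app F

/-- the functor `T^p` of a quasi-coherent module on a quasi-compact separated `A`-scheme is computed
by the Čech complex of `F`, naturally -/
theorem nonempty_natIso_cech [F.IsQuasicoherent] {ι : Type u} [Finite ι] (U : ι → X.Opens)
    (hcov : ⨆ i, U i = ⊤)
    (hU : ∀ s : Finset ι, s.Nonempty → IsAffineOpen (⨅ i ∈ s, U i)) (p : ℕ) :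
    Nonempty (CohIII.tensorAFunctor A F ⋙ CohIII.HAb X p ≅
      CohIII.TFun (CA A F U) p ⋙ forget₂ (ModuleCat.{u} A) AddCommGrpCat.{u}) :=
  ⟨natIsoH A F U hcov hU (isAffineOpen_Ux U hU) p ≪≫
    Functor.isoWhiskerRight (TFunIsoOfIso ((CAF A U).mapIso (𝒢AIso A F)) p) _⟩

/-- **Main theorem**: for `X` proper over a Noetherian ring `A` and `F` coherent and flat over `A`
there is a bounded complex `P` of finite projective `A`-modules computing
`M ↦ H^p(X, f^*(M~) ⊗ F)` naturally in `M`. -/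
theorem exists_complex [IsNoetherianRing A] [IsProper (X ↘ Spec (CommRingCat.of A))]
    (hF : Coh.IsCoh F) (hfl : FlatMod.IsFlatOver (X ↘ Spec (CommRingCat.of A)) F) :
    ∃ P : ChainComplex (ModuleCat.{u} A) ℤ,
      (∀ i, Module.Finite A (P.X i) ∧ Module.Projective A (P.X i)) ∧
      (∃ N : ℕ, ∀ i : ℤ, 0 < i ∨ i < -(N : ℤ) → IsZero (P.X i)) ∧
      ∀ p : ℕ, Nonempty (CohIII.tensorAFunctor A F ⋙ CohIII.HAb X p ≅
        CohIII.TFun P (-(p : ℤ)) ⋙ forget₂ (ModuleCat.{u} A) AddCommGrpCat.{u}) := by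
  haveI : F.IsQuasicoherent := hF.1
  haveI : CompactSpace X :=
    QuasiCompact.compactSpace_of_compactSpace (X ↘ Spec (CommRingCat.of A))
  obtain ⟨ι, hfin, U, hcov, hU1, hU⟩ := exists_cover A X
  have hflat : ∀ n, Module.Flat A ((CA A F U).X n) :=
    fun n => flat_CX A F U hfl (isAffineOpen_Ux U hU) n
  have hfinH : ∀ p, Module.Finite A ((CA A F U).homology p) := fun p => by
    obtain ⟨e⟩ := nonempty_linearEquiv_homology A F U hcov hU p
    have := Groth.Agent.S0002.result A X F hF p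
    exact Module.Finite.equiv e
  have hN : ∀ (M : ModuleCat.{u} A) (p : ℕ), Nat.card ι ≤ p → (TL M (CA A F U)).ExactAt p :=
    fun M p hp => exactAt_TL_of_le A F U hcov hU hU1 M p hp
  obtain ⟨P, hP, hPb, hiso⟩ := main_natural_chain (CA A F U) hflat hfinH (Nat.card ι) hN
  refine ⟨P, hP, ⟨Nat.card ι, hPb⟩, fun p => ?_⟩
  obtain ⟨e⟩ := hiso p
  obtain ⟨e'⟩ := nonempty_natIso_cech A F U hcov hU p
  exact ⟨e' ≪≫ Functor.isoWhiskerRight e _⟩

end Groth.Agent.Lib.Helper21.TFunG
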