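import Mathlib
import Groth.Agent.Lib.Helper21FibA
import Groth.Agent.Lib.Helper21FibB
import Groth.Agent.Lib.Helper21TFunG

/-!
# Fibre ranks are the ranks of the natural Mumford complex (helper21)
-/
set_option autoImplicit false
universe u
open CategoryTheory CategoryTheory.Limits AlgebraicGeometry MonoidalCategory Opposite

namespace Groth.Agent.Lib.Helper21.FibC

open Groth.Agent.Lib.Helper16.CechLow Groth.Agent.Lib.Helper21.CechMod
  Groth.Agent.Lib.Helper21.CechBC Groth.Agent.Lib.Helper21.MumC Groth.Agent.Lib.Helper21.MumD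
  Groth.Agent.Lib.Helper21.TFunG Groth.Agent.Lib.Helper21.FibA Groth.Agent.Lib.Helper21.FibB

section ToGlobal

variable {X : Scheme.{u}}

lemma toGlobal_comp {K K' : Type u} [CommRing K] [CommRing K']
    (g : X ⟶ Spec (CommRingCat.of K)) (τ : CommRingCat.of K' ⟶ CommRingCat.of K) (c : K') :
    Coh.toGlobal (g ≫ Spec.map τ) c = Coh.toGlobal g (τ.hom c) := by
  have h1 := ConcreteCategory.congr_hom (Scheme.ΓSpecIso_inv_naturality τ) c
  change (g ≫ Spec.map τ).appTop.hom ((Scheme.ΓSpecIso (CommRingCat.of K')).inv.hom c) =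
    g.appTop.hom ((Scheme.ΓSpecIso (CommRingCat.of K)).inv.hom (τ.hom c))
  rw [Scheme.Hom.comp_appTop]
  exact congrArg g.appTop.hom h1.symm

end ToGlobal

section Fib

variable (A : Type u) [CommRing A] {X : Scheme.{u}} [X.Over (Spec (CommRingCat.of A))]
  (F : X.Modules) (y : ↑(Spec (CommRingCat.of A)))

/-- the fibre as a scheme over the spectrum of the algebraic residue field `κ(y) = Frac(A/y)` -/
@[reducible] noncomputable def fibOver : ((X ↘ Spec (CommRingCat.of A)).fiber y).Over
    (Spec (CommRingCat.of y.asIdeal.ResidueField)) :=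
  ⟨(X ↘ Spec (CommRingCat.of A)).fiberToSpecResidueField y ≫
    Spec.map (Scheme.Spec.residueFieldIso (CommRingCat.of A) y).inv⟩

lemma isPullback_fib :
    letI := fibOver A (X := X) y
    IsPullback ((X ↘ Spec (CommRingCat.of A)).fiberι y)
      ((X ↘ Spec (CommRingCat.of A)).fiber y ↘ Spec (CommRingCat.of y.asIdeal.ResidueField))
      (X ↘ Spec (CommRingCat.of A))
      (Spec.map (CommRingCat.ofHom (algebraMap A y.asIdeal.ResidueField))) := by
  have h0 := IsPullback.of_hasPullback (X ↘ Spec (CommRingCat.of A))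
    ((Spec (CommRingCat.of A)).fromSpecResidueField y)
  refine IsPullback.of_iso h0 (Iso.refl _) (Iso.refl _)
    (Scheme.Spec.mapIso (Scheme.Spec.residueFieldIso (CommRingCat.of A) y).symm.op ≪≫ Iso.refl _)
    (Iso.refl _) ?_ ?_ ?_ ?_
  · simp; rfl
  · simp; rfl
  · simp
  · simp
    exact (Scheme.Spec.map_residueFieldIso_inv_eq_fromSpecResidueField
      (R := CommRingCat.of A) (x := y)).symm

/-- the two vector space structures on the cohomology of the fibre have the same dimension -/
lemma finrank_fiberH (p : ℕ) :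
    letI := fibOver A (X := X) y
    Module.finrank ((Spec (CommRingCat.of A)).residueField y)
        (CohIII.fiberH (X ↘ Spec (CommRingCat.of A)) F y p) =
      Module.finrank y.asIdeal.ResidueField
        (Coh.HH ((X ↘ Spec (CommRingCat.of A)).fiber y)
          (Fp ((X ↘ Spec (CommRingCat.of A)).fiberι y) F) p) := by
  letI := fibOver A (X := X) y
  unfold Module.finrank
  congr 1
  refine rank_eq_of_equiv_equiv (Scheme.Spec.residueFieldIso (CommRingCat.of A) y).hom.hom
    (AddEquiv.refl _) ?_ ?_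
  · exact (ConcreteCategory.bijective_of_isIso
      (Scheme.Spec.residueFieldIso (CommRingCat.of A) y).hom)
  · intro c m
    change Coh.toGlobal ((X ↘ Spec (CommRingCat.of A)).fiberToSpecResidueField y) c • m =
      Coh.toGlobal ((X ↘ Spec (CommRingCat.of A)).fiberToSpecResidueField y ≫
        Spec.map (Scheme.Spec.residueFieldIso (CommRingCat.of A) y).inv)
        ((Scheme.Spec.residueFieldIso (CommRingCat.of A) y).hom.hom c) • m
    have h1 := toGlobal_comp ((X ↘ Spec (CommRingCat.of A)).fiberToSpecResidueField y)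
      (Scheme.Spec.residueFieldIso (CommRingCat.of A) y).inv
      ((Scheme.Spec.residueFieldIso (CommRingCat.of A) y).hom.hom c)
    have h2 : (Scheme.Spec.residueFieldIso (CommRingCat.of A) y).inv.hom
        ((Scheme.Spec.residueFieldIso (CommRingCat.of A) y).hom.hom c) = c := by
      have := congrArg (fun k => k.hom c)
        (Scheme.Spec.residueFieldIso (CommRingCat.of A) y).hom_inv_id
      exact this
    have h3 := h1.trans (congrArg
      (Coh.toGlobal ((X ↘ Spec (CommRingCat.of A)).fiberToSpecResidueField y)) h2)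
    exact (congrArg (fun r => r • m) h3).symm

/-- the fibre rank is the rank function of any complex computing the base changed Čech homology -/
theorem fiberRank_eq [F.IsQuasicoherent] {ι : Type u} [Finite ι] (U : ι → X.Opens)
    (hcov : ⨆ i, U i = ⊤) (hU : ∀ s : Finset ι, s.Nonempty → IsAffineOpen (⨅ i ∈ s, U i))
    (P : ChainComplex (ModuleCat.{u} A) ℤ) (p : ℕ)
    (hP : Nonempty ((CohIII.bcCx (algebraMap A y.asIdeal.ResidueField) (CA A F U)).homology p ≅
      (CohIII.bcCx (algebraMap A y.asIdeal.ResidueField) P).homology (-(p : ℤ)))) :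
    CohIII.fiberRank (X ↘ Spec (CommRingCat.of A)) F p y = CohIII.dRank P (-(p : ℤ)) y := by
  letI := fibOver A (X := X) y
  obtain ⟨e1⟩ := nonempty_linearEquiv_homology_bc A y.asIdeal.ResidueField
    ((X ↘ Spec (CommRingCat.of A)).fiberι y) (isPullback_fib A y) F U hcov hU p
  obtain ⟨e2⟩ := hP
  unfold CohIII.fiberRank CohIII.dRank
  refine (finrank_fiberH A F y p).trans ?_
  exact LinearEquiv.finrank_eq (e1.trans e2.toLinearEquiv)

end Fib

section Main

variable (A : Type u) [CommRing A] {X : Scheme.{u}} [X.Over (Spec (CommRingCat.of A))]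
  (F : X.Modules)

/-- **Main theorem with fibre ranks**: the natural Mumford complex `P` of `TFunG.exists_complex`
can be chosen so that `dim_{κ(y)} H^p(X_y, F_y) = dim_{κ(y)} H_{-p}(P ⊗ κ(y))`. -/
theorem exists_complex_fib [IsNoetherianRing A] [IsProper (X ↘ Spec (CommRingCat.of A))]
    (hF : Coh.IsCoh F) (hfl : FlatMod.IsFlatOver (X ↘ Spec (CommRingCat.of A)) F) :
    ∃ P : ChainComplex (ModuleCat.{u} A) ℤ,
      (∀ i, Module.Finite A (P.X i) ∧ Module.Projective A (P.X i)) ∧
      (∃ N : ℕ, ∀ i : ℤ, 0 < i ∨ i < -(N : ℤ) → IsZero (P.X i)) ∧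
      (∀ p : ℕ, Nonempty (CohIII.tensorAFunctor A F ⋙ CohIII.HAb X p ≅
        CohIII.TFun P (-(p : ℤ)) ⋙ forget₂ (ModuleCat.{u} A) AddCommGrpCat.{u})) ∧
      ∀ (p : ℕ) (y : ↑(Spec (CommRingCat.of A))),
        CohIII.fiberRank (X ↘ Spec (CommRingCat.of A)) F p y = CohIII.dRank P (-(p : ℤ)) y := by
  haveI : F.IsQuasicoherent := hF.1
  haveI : CompactSpace X :=
    QuasiCompact.compactSpace_of_compactSpace (X ↘ Spec (CommRingCat.of A))
  obtain ⟨ι, hfin, U, hcov, hU1, hU⟩ := exists_cover A X
  have hflat : ∀ n, Module.Flat A ((CA A F U).X n) :=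
    fun n => flat_CX A F U hfl (isAffineOpen_Ux U hU) n
  have hfinH : ∀ p, Module.Finite A ((CA A F U).homology p) := fun p => by
    obtain ⟨e⟩ := nonempty_linearEquiv_homology A F U hcov hU p
    have := Groth.Agent.S0002.result A X F hF p
    exact Module.Finite.equiv e
  have hN : ∀ (M : ModuleCat.{u} A) (p : ℕ), Nat.card ι ≤ p → (TL M (CA A F U)).ExactAt p :=
    fun M p hp => exactAt_TL_of_le A F U hcov hU hU1 M p hp
  obtain ⟨P, hP, hPb, hiso, hbc⟩ := main_natural_chain_bc (CA A F U) hflat hfinH (Nat.card ι) hN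
  refine ⟨P, hP, ⟨Nat.card ι, hPb⟩, fun p => ?_, fun p y => ?_⟩
  · obtain ⟨e⟩ := hiso p
    obtain ⟨e'⟩ := nonempty_natIso_cech A F U hcov hU p
    exact ⟨e' ≪≫ Functor.isoWhiskerRight e _⟩
  · exact fiberRank_eq A F y U hcov hU P p (hbc y.asIdeal.ResidueField p)

end Main

end Groth.Agent.Lib.Helper21.FibC
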