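import Mathlib
import Groth.Prelude.Def_FilD

/-!
# Helper21: finite filtered objects of an abelian category — elementwise (refinement) calculus
-/

set_option autoImplicit false
universe v u

open CategoryTheory CategoryTheory.Limits Opposite

namespace Groth.Agent.Lib.Helper21.FilD

open _root_.FilD

variable {A : Type u} [Category.{v} A] [Abelian A]

/-- The transition map `F q ⟶ F p` for `p ≤ q`. -/
noncomputable abbrev tr (F : ℤᵒᵖ ⥤ A) {p q : ℤ} (h : p ≤ q) : F.obj (op q) ⟶ F.obj (op p) :=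
  F.map (homOfLE h).op

theorem tr_eq_map (F : ℤᵒᵖ ⥤ A) {p q : ℤ} (h : p ≤ q) (f : op q ⟶ op p) : F.map f = tr F h := by
  congr 1

theorem stepHom_eq (F : ℤᵒᵖ ⥤ A) (p : ℤ) :
    F.map (stepHom p) = tr F (Int.le_add_one le_rfl : p ≤ p + 1) := rfl

@[reassoc]
theorem tr_tr (F : ℤᵒᵖ ⥤ A) {p q r : ℤ} (h : p ≤ q) (h' : q ≤ r) :
    tr F h' ≫ tr F h = tr F (h.trans h') := by
  rw [← F.map_comp]
  congr 1

theorem tr_refl (F : ℤᵒᵖ ⥤ A) (p : ℤ) : tr F (le_refl p) = 𝟙 _ := by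
  rw [← F.map_id]
  congr 1

@[reassoc]
theorem tr_app {F G : ℤᵒᵖ ⥤ A} (φ : F ⟶ G) {p q : ℤ} (h : p ≤ q) :
    tr F h ≫ φ.app (op p) = φ.app (op q) ≫ tr G h :=
  φ.naturality _

/-- The projection onto the graded piece. -/
noncomputable abbrev grπ (F : ℤᵒᵖ ⥤ A) (p : ℤ) : F.obj (op p) ⟶ (gr A p).obj F :=
  cokernel.π (F.map (stepHom p))

instance (F : ℤᵒᵖ ⥤ A) (p : ℤ) : Epi (grπ F p) := by
  show Epi (cokernel.π _)
  exact coequalizer.π_epi

@[reassoc]
theorem step_grπ (F : ℤᵒᵖ ⥤ A) (p : ℤ) : F.map (stepHom p) ≫ grπ F p = 0 :=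
  cokernel.condition _

@[reassoc]
theorem tr_grπ (F : ℤᵒᵖ ⥤ A) {p q : ℤ} (h : p + 1 ≤ q) :
    tr F ((Int.le_add_one le_rfl).trans h : p ≤ q) ≫ grπ F p = 0 := by
  rw [← tr_tr F (Int.le_add_one le_rfl : p ≤ p + 1) h, Category.assoc]
  rw [← stepHom_eq, step_grπ, comp_zero]

@[reassoc]
theorem grπ_map {F G : ℤᵒᵖ ⥤ A} (φ : F ⟶ G) (p : ℤ) :
    grπ F p ≫ (gr A p).map φ = φ.app (op p) ≫ grπ G p := by
  simp [gr, grπ]

/-- Elements of `F p` dying in `gr^p` come from `F (p+1)`, up to refinement. -/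
theorem exists_lift_of_comp_grπ_eq_zero (F : ℤᵒᵖ ⥤ A) (p : ℤ) {T : A} (x : T ⟶ F.obj (op p))
    (hx : x ≫ grπ F p = 0) :
    ∃ (T' : A) (π : T' ⟶ T) (_ : Epi π) (x' : T' ⟶ F.obj (op (p + 1))),
      π ≫ x = x' ≫ F.map (stepHom p) :=
  (ShortComplex.exact_cokernel (F.map (stepHom p))).exact_up_to_refinements x hx

/-- Consequence of `gr`-exactness: decomposition of elements whose image is in the next step. -/
theorem exists_decomp_of_gr_exact (S : ShortComplex (ℤᵒᵖ ⥤ A)) (p : ℤ)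
    (hS : (S.map (gr A p)).Exact) {T : A} (y : T ⟶ S.X₂.obj (op p))
    (hy : y ≫ S.g.app (op p) ≫ grπ S.X₃ p = 0) :
    ∃ (T' : A) (π : T' ⟶ T) (_ : Epi π) (w : T' ⟶ S.X₁.obj (op p))
      (y' : T' ⟶ S.X₂.obj (op (p + 1))),
      π ≫ y = w ≫ S.f.app (op p) + y' ≫ S.X₂.map (stepHom p) := by
  have hS' : ∀ ⦃T : A⦄ (x₂ : T ⟶ (gr A p).obj S.X₂), x₂ ≫ (gr A p).map S.g = 0 →
      ∃ (T' : A) (π : T' ⟶ T) (_ : Epi π) (x₁ : T' ⟶ (gr A p).obj S.X₁),
        π ≫ x₂ = x₁ ≫ (gr A p).map S.f := fun T x₂ h => hS.exact_up_to_refinements x₂ h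
  have h1 : (y ≫ grπ S.X₂ p) ≫ (gr A p).map S.g = 0 := by
    rw [Category.assoc, grπ_map, hy]
  obtain ⟨T₁, π₁, hπ₁, wb, hwb⟩ := hS' _ h1
  obtain ⟨T₂, π₂, hπ₂, w, hw⟩ := surjective_up_to_refinements_of_epi (grπ S.X₁ p) wb
  have h2 : (π₂ ≫ π₁ ≫ y - w ≫ S.f.app (op p)) ≫ grπ S.X₂ p = 0 := by
    rw [Preadditive.sub_comp, Category.assoc, Category.assoc, Category.assoc, hwb, ← grπ_map,
      ← Category.assoc w, ← hw, Category.assoc, sub_self]
  obtain ⟨T₃, π₃, hπ₃, y', hy'⟩ := exists_lift_of_comp_grπ_eq_zero S.X₂ p _ h2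
  refine ⟨T₃, π₃ ≫ π₂ ≫ π₁, inferInstance, π₃ ≫ w, y', ?_⟩
  rw [← hy', Preadditive.comp_sub]
  simp only [Category.assoc]
  abel

section Strict

variable {X Y : FilF A}

/-- Elementwise characterization of strict morphisms. -/
theorem isStrict_iff (φ : X ⟶ Y) :
    IsStrict φ ↔ ∀ (p q : ℤ) (h : p ≤ q) ⦃T : A⦄ (x : T ⟶ X.obj.obj (op p))
      (y : T ⟶ Y.obj.obj (op q)), x ≫ φ.hom.app (op p) = y ≫ tr Y.obj h →
      ∃ (T' : A) (π : T' ⟶ T) (_ : Epi π) (x' : T' ⟶ X.obj.obj (op q)),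
        x' ≫ φ.hom.app (op q) = π ≫ y := by
  constructor
  · intro hφ p q h T x y hxy
    have : Mono (tr Y.obj h) := Y.property.1 _
    have h1 := hφ p q h
    have hf1 : (imageSubobject (φ.hom.app (op p))).Factors (y ≫ tr Y.obj h) := by
      rw [← hxy]
      exact imageSubobject_factors_comp_self _ _
    have hf2 : (Subobject.mk (tr Y.obj h)).Factors (y ≫ tr Y.obj h) :=
      Subobject.factors_of_factors_right _ (Subobject.mk_factors_self _)
    have hf : (imageSubobject (φ.hom.app (op q) ≫ Y.obj.map (homOfLE h).op)).Factors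
        (y ≫ tr Y.obj h) := by
      rw [h1]
      exact (Subobject.inf_factors _).2 ⟨hf1, hf2⟩
    obtain ⟨T', π, hπ, x', hx'⟩ := surjective_up_to_refinements_of_epi
      (factorThruImageSubobject (φ.hom.app (op q) ≫ Y.obj.map (homOfLE h).op))
      (Subobject.factorThru _ _ hf)
    refine ⟨T', π, hπ, x', ?_⟩
    rw [← cancel_mono (tr Y.obj h)]
    have := congrArg (fun t => t ≫ (imageSubobject
      (φ.hom.app (op q) ≫ Y.obj.map (homOfLE h).op)).arrow) hx'
    simp only [Category.assoc, Subobject.factorThru_arrow, imageSubobject_arrow_comp] at this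
    rw [Category.assoc, Category.assoc]
    exact this.symm
  · intro hφ p q h
    have : Mono (tr Y.obj h) := Y.property.1 _
    apply le_antisymm
    · apply le_inf
      · refine imageSubobject_le _ (tr X.obj h ≫ factorThruImageSubobject (φ.hom.app (op p))) ?_
        rw [Category.assoc, imageSubobject_arrow_comp]
        exact tr_app φ.hom h
      · exact imageSubobject_le_mk _ _ (φ.hom.app (op q)) rfl
    · set P := imageSubobject (φ.hom.app (op p)) ⊓ Subobject.mk (tr Y.obj h) with hP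
      set Q := imageSubobject (φ.hom.app (op q) ≫ Y.obj.map (homOfLE h).op) with hQ
      let a₁ : (P : A) ⟶ (imageSubobject (φ.hom.app (op p)) : A) := Subobject.ofLE _ _ inf_le_left
      let a₂ : (P : A) ⟶ (Subobject.mk (tr Y.obj h) : A) := Subobject.ofLE _ _ inf_le_right
      have ha₁ : a₁ ≫ (imageSubobject (φ.hom.app (op p))).arrow = P.arrow :=
        Subobject.ofLE_arrow _
      have ha₂ : a₂ ≫ (Subobject.mk (tr Y.obj h)).arrow = P.arrow := Subobject.ofLE_arrow _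
      obtain ⟨y, hy⟩ : ∃ y : (P : A) ⟶ Y.obj.obj (op q), y ≫ tr Y.obj h = P.arrow :=
        ⟨a₂ ≫ (Subobject.underlyingIso (tr Y.obj h)).hom, by
          rw [Category.assoc, Subobject.underlyingIso_hom_comp_eq_mk, ha₂]⟩
      obtain ⟨T₁, π₁, hπ₁, x, hx⟩ := surjective_up_to_refinements_of_epi
        (factorThruImageSubobject (φ.hom.app (op p))) a₁
      have hx2 : x ≫ φ.hom.app (op p) = (π₁ ≫ y) ≫ tr Y.obj h := by
        rw [Category.assoc, hy, ← ha₁, ← Category.assoc, hx, Category.assoc,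
          imageSubobject_arrow_comp]
      obtain ⟨T₂, π₂, hπ₂, x', hx'⟩ := hφ p q h x (π₁ ≫ y) hx2
      have sq : CommSq (x' ≫ factorThruImageSubobject
          (φ.hom.app (op q) ≫ Y.obj.map (homOfLE h).op)) (π₂ ≫ π₁) Q.arrow P.arrow :=
        ⟨by
          rw [Category.assoc, imageSubobject_arrow_comp, ← Category.assoc x', hx', Category.assoc,
            Category.assoc, Category.assoc, ← hy]⟩
      have : StrongEpi (π₂ ≫ π₁) := strongEpi_of_epi _
      exact Subobject.le_of_comm sq.lift sq.fac_right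

end Strict

section GrExact

/-- Descending induction on the filtration index. -/
theorem int_desc_induction {P : ℤ → Prop} (b : ℤ) (h0 : ∀ p, b ≤ p → P p)
    (hstep : ∀ p, P (p + 1) → P p) (p : ℤ) : P p := by
  by_cases hp : b ≤ p
  · exact h0 p hp
  · obtain ⟨k, hk⟩ : ∃ k : ℕ, p = b - k := ⟨(b - p).toNat, by omega⟩
    subst hk
    clear hp
    induction k with
    | zero => exact h0 _ (by simp)
    | succ k ih =>
      apply hstep
      have : b - ((k + 1 : ℕ) : ℤ) + 1 = b - (k : ℤ) := by push_cast; ring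
      rw [this]
      exact ih

variable (S : ShortComplex (FilF A))

/-- `exists_decomp_of_gr_exact` for short complexes of finite filtered objects. -/
theorem exists_decomp_of_gr_exact' (p : ℤ) (hS : (S.map (grF A p)).Exact) {T : A}
    (y : T ⟶ S.X₂.obj.obj (op p))
    (hy : y ≫ S.g.hom.app (op p) ≫ grπ S.X₃.obj p = 0) :
    ∃ (T' : A) (π : T' ⟶ T) (_ : Epi π) (w : T' ⟶ S.X₁.obj.obj (op p))
      (y' : T' ⟶ S.X₂.obj.obj (op (p + 1))),
      π ≫ y = w ≫ S.f.hom.app (op p) + y' ≫ S.X₂.obj.map (stepHom p) :=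
  exists_decomp_of_gr_exact (S.map (IsFinFil A).ι) p hS y hy

/-- Level-wise exactness (refinement form) from `gr`-exactness. -/
theorem exists_lift_of_gr_exact (hS : ∀ p : ℤ, (S.map (grF A p)).Exact) (p : ℤ) :
    ∀ ⦃T : A⦄ (y : T ⟶ S.X₂.obj.obj (op p)), y ≫ S.g.hom.app (op p) = 0 →
      ∃ (T' : A) (π : T' ⟶ T) (_ : Epi π) (x : T' ⟶ S.X₁.obj.obj (op p)),
        π ≫ y = x ≫ S.f.hom.app (op p) := by
  obtain ⟨b, hb⟩ := S.X₂.property.2.1
  refine int_desc_induction (P := fun p => ∀ ⦃T : A⦄ (y : T ⟶ S.X₂.obj.obj (op p)),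
    y ≫ S.g.hom.app (op p) = 0 → ∃ (T' : A) (π : T' ⟶ T) (_ : Epi π)
      (x : T' ⟶ S.X₁.obj.obj (op p)), π ≫ y = x ≫ S.f.hom.app (op p)) b ?_ ?_ p
  · intro p hp T y _
    refine ⟨T, 𝟙 T, inferInstance, 0, ?_⟩
    rw [zero_comp]
    exact (hb p hp).eq_of_tgt _ _
  · intro p ih T y hy
    obtain ⟨T₁, π₁, hπ₁, w, y', hdec⟩ := exists_decomp_of_gr_exact' S p (hS p) y
      (by rw [← Category.assoc, hy, zero_comp])
    have hzero : S.f.hom.app (op p) ≫ S.g.hom.app (op p) = 0 :=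
      congrArg (fun φ => φ.hom.app (op p)) S.zero
    have hmono : Mono (S.X₃.obj.map (stepHom p)) := S.X₃.property.1 _
    have hy' : y' ≫ S.g.hom.app (op (p + 1)) = 0 := by
      rw [← cancel_mono (S.X₃.obj.map (stepHom p)), Category.assoc, zero_comp,
        ← S.g.hom.naturality, ← Category.assoc]
      have : y' ≫ S.X₂.obj.map (stepHom p) = π₁ ≫ y - w ≫ S.f.hom.app (op p) := by
        rw [hdec]; abel
      rw [this, Preadditive.sub_comp, Category.assoc, hy, comp_zero, Category.assoc, hzero,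
        comp_zero, sub_self]
    obtain ⟨T₂, π₂, hπ₂, u, hu⟩ := ih y' hy'
    refine ⟨T₂, π₂ ≫ π₁, inferInstance, π₂ ≫ w + u ≫ S.X₁.obj.map (stepHom p), ?_⟩
    rw [Category.assoc, hdec, Preadditive.comp_add, Preadditive.add_comp, ← Category.assoc π₂ y',
      hu, Category.assoc, Category.assoc, Category.assoc, S.f.hom.naturality]

theorem level_exact_of_gr_exact (hS : ∀ p : ℤ, (S.map (grF A p)).Exact) (p : ℤ) :
    (S.map ((IsFinFil A).ι ⋙ (evaluation ℤᵒᵖ A).obj (op p))).Exact := by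
  rw [ShortComplex.exact_iff_exact_up_to_refinements]
  intro T y hy
  exact exists_lift_of_gr_exact S hS p y hy

theorem isStrict_f_of_gr_exact (hS : ∀ p : ℤ, (S.map (grF A p)).Exact) : IsStrict S.f := by
  rw [isStrict_iff]
  intro p q h T x y hxy
  have hmono : Mono (tr S.X₃.obj h) := S.X₃.property.1 _
  have hzero : S.f.hom.app (op p) ≫ S.g.hom.app (op p) = 0 :=
    congrArg (fun φ => φ.hom.app (op p)) S.zero
  have hy : y ≫ S.g.hom.app (op q) = 0 := by
    rw [← cancel_mono (tr S.X₃.obj h), Category.assoc, zero_comp, ← tr_app S.g.hom h,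
      ← Category.assoc, ← hxy, Category.assoc, hzero, comp_zero]
  obtain ⟨T', π, hπ, x', hx'⟩ := exists_lift_of_gr_exact S hS q y hy
  exact ⟨T', π, hπ, x', hx'.symm⟩

theorem isStrict_g_of_gr_exact (hS : ∀ p : ℤ, (S.map (grF A p)).Exact) : IsStrict S.g := by
  rw [isStrict_iff]
  suffices H : ∀ (k : ℕ) (p q : ℤ) (h : p ≤ q), q = p + k →
      ∀ ⦃T : A⦄ (y : T ⟶ S.X₂.obj.obj (op p)) (z : T ⟶ S.X₃.obj.obj (op q)),
        y ≫ S.g.hom.app (op p) = z ≫ tr S.X₃.obj h →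
        ∃ (T' : A) (π : T' ⟶ T) (_ : Epi π) (y' : T' ⟶ S.X₂.obj.obj (op q)),
          y' ≫ S.g.hom.app (op q) = π ≫ z by
    intro p q h
    exact H (q - p).toNat p q h (by omega)
  intro k
  induction k with
  | zero =>
    intro p q h hq T y z hyz
    obtain rfl : q = p := by simpa using hq
    refine ⟨T, 𝟙 T, inferInstance, y, ?_⟩
    have : tr S.X₃.obj h = 𝟙 _ := tr_refl _ _
    rw [hyz, this, Category.comp_id, Category.id_comp]
  | succ k ih =>
    intro p q h hq T y z hyz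
    have h1 : p + 1 ≤ q := by push_cast at hq; omega
    have htr : tr S.X₃.obj h = tr S.X₃.obj h1 ≫ S.X₃.obj.map (stepHom p) :=
      (tr_tr S.X₃.obj (Int.le_add_one le_rfl) h1).symm
    obtain ⟨T₁, π₁, hπ₁, w, y₁, hdec⟩ := exists_decomp_of_gr_exact' S p (hS p) y (by
      rw [← Category.assoc, hyz, htr, Category.assoc, Category.assoc, step_grπ, comp_zero,
        comp_zero])
    have hzero : S.f.hom.app (op p) ≫ S.g.hom.app (op p) = 0 :=
      congrArg (fun φ => φ.hom.app (op p)) S.zero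
    have hmono : Mono (S.X₃.obj.map (stepHom p)) := S.X₃.property.1 _
    have hy₁ : y₁ ≫ S.g.hom.app (op (p + 1)) = (π₁ ≫ z) ≫ tr S.X₃.obj h1 := by
      rw [← cancel_mono (S.X₃.obj.map (stepHom p)), Category.assoc, ← S.g.hom.naturality,
        ← Category.assoc]
      have : y₁ ≫ S.X₂.obj.map (stepHom p) = π₁ ≫ y - w ≫ S.f.hom.app (op p) := by
        rw [hdec]; abel
      rw [this, Preadditive.sub_comp, Category.assoc, hyz, Category.assoc w, hzero, comp_zero,
        sub_zero, htr]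
      simp only [Category.assoc]
    obtain ⟨T₂, π₂, hπ₂, y', hy'⟩ := ih (p + 1) q h1 (by push_cast at hq; omega) y₁ (π₁ ≫ z) hy₁
    exact ⟨T₂, π₂ ≫ π₁, inferInstance, y', by rw [hy', Category.assoc]⟩

end GrExact

end Groth.Agent.Lib.Helper21.FilD
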