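import Mathlib
import Groth.Agent.Lib.Helper21FilD

/-!
# Helper21: strictness via `gr` of the kernel
-/

set_option autoImplicit false
universe v u

open CategoryTheory CategoryTheory.Limits Opposite

namespace Groth.Agent.Lib.Helper21.FilD

open _root_.FilD

variable {A : Type u} [Category.{v} A] [Abelian A]

section Kernel

variable {X Y : FilF A} (φ : X ⟶ Y)

/-- The short complex `Ker φ ⟶ X ⟶ Y` of functors. -/
noncomputable abbrev kerSC : ShortComplex (ℤᵒᵖ ⥤ A) :=
  ShortComplex.mk (kernel.ι φ.hom) φ.hom (kernel.condition φ.hom)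

theorem kerSC_level_exact (p : ℤ) :
    ((kerSC φ).map ((evaluation ℤᵒᵖ A).obj (op p))).Exact :=
  (ShortComplex.exact_kernel φ.hom).map_of_mono_of_preservesKernel _ inferInstance inferInstance

theorem kernel_ι_app_comp (p : ℤ) :
    (kernel.ι φ.hom).app (op p) ≫ φ.hom.app (op p) = 0 := by
  rw [← NatTrans.comp_app, kernel.condition]
  rfl

theorem exists_kernel_lift (p : ℤ) {T : A} (x : T ⟶ X.obj.obj (op p))
    (hx : x ≫ φ.hom.app (op p) = 0) :
    ∃ k : T ⟶ (kernel φ.hom).obj (op p), k ≫ (kernel.ι φ.hom).app (op p) = x := by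
  have h := kerSC_level_exact φ p
  have : Mono ((kerSC φ).map ((evaluation ℤᵒᵖ A).obj (op p))).f := by
    show Mono ((kernel.ι φ.hom).app (op p))
    infer_instance
  exact h.lift' x hx

theorem isStrict_iff_gr_kernel_exact :
    IsStrict φ ↔ ∀ p : ℤ, ((kerSC φ).map (gr A p)).Exact := by
  constructor
  · intro hφ p
    rw [isStrict_iff] at hφ
    suffices H : ∀ ⦃T : A⦄ (xb : T ⟶ (gr A p).obj X.obj), xb ≫ (gr A p).map φ.hom = 0 →
        ∃ (T' : A) (π : T' ⟶ T) (_ : Epi π) (kb : T' ⟶ (gr A p).obj (kernel φ.hom)),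
          π ≫ xb = kb ≫ (gr A p).map (kernel.ι φ.hom) by
      rw [ShortComplex.exact_iff_exact_up_to_refinements]
      intro T xb hxb
      exact H xb hxb
    intro T xb hxb
    obtain ⟨T₁, π₁, hπ₁, x, hx⟩ := surjective_up_to_refinements_of_epi (grπ X.obj p) xb
    have h1 : (x ≫ φ.hom.app (op p)) ≫ grπ Y.obj p = 0 := by
      rw [Category.assoc, ← grπ_map, ← Category.assoc, ← hx, Category.assoc, hxb, comp_zero]
    have hmonoY : Mono (Y.obj.map (stepHom p)) := Y.property.1 _
    obtain ⟨y, hy⟩ : ∃ y : T₁ ⟶ Y.obj.obj (op (p + 1)),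
        y ≫ tr Y.obj (Int.le_add_one le_rfl : p ≤ p + 1) = x ≫ φ.hom.app (op p) :=
      (ShortComplex.exact_cokernel (Y.obj.map (stepHom p))).lift' _ h1
    obtain ⟨T₂, π₂, hπ₂, x', hx'⟩ := hφ p (p + 1) (Int.le_add_one le_rfl) x y hy.symm
    have h2 : (π₂ ≫ x - x' ≫ X.obj.map (stepHom p)) ≫ φ.hom.app (op p) = 0 := by
      rw [Preadditive.sub_comp, Category.assoc, Category.assoc, ← hy, φ.hom.naturality,
        ← Category.assoc x', hx', Category.assoc]
      exact sub_self _
    obtain ⟨k, hk⟩ := exists_kernel_lift φ p _ h2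
    refine ⟨T₂, π₂ ≫ π₁, inferInstance, k ≫ grπ (kernel φ.hom) p, ?_⟩
    rw [Category.assoc, Category.assoc, grπ_map, ← Category.assoc k, hk, Preadditive.sub_comp,
      Category.assoc, Category.assoc, step_grπ, comp_zero, sub_zero, hx]
  · intro hgr
    rw [isStrict_iff]
    suffices H : ∀ (k : ℕ) (p q : ℤ) (h : p ≤ q), q = p + k →
        ∀ ⦃T : A⦄ (x : T ⟶ X.obj.obj (op p)) (y : T ⟶ Y.obj.obj (op q)),
          x ≫ φ.hom.app (op p) = y ≫ tr Y.obj h →
          ∃ (T' : A) (π : T' ⟶ T) (_ : Epi π) (x' : T' ⟶ X.obj.obj (op q)),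
            x' ≫ φ.hom.app (op q) = π ≫ y by
      intro p q h
      exact H (q - p).toNat p q h (by omega)
    intro k
    induction k with
    | zero =>
      intro p q h hq T x y hxy
      obtain rfl : q = p := by simpa using hq
      refine ⟨T, 𝟙 T, inferInstance, x, ?_⟩
      have : tr Y.obj h = 𝟙 _ := tr_refl _ _
      rw [hxy, this, Category.comp_id, Category.id_comp]
    | succ k ih =>
      intro p q h hq T x y hxy
      have h1 : p + 1 ≤ q := by push_cast at hq; omega
      have htr : tr Y.obj h = tr Y.obj h1 ≫ Y.obj.map (stepHom p) :=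
        (tr_tr Y.obj (Int.le_add_one le_rfl) h1).symm
      obtain ⟨T₁, π₁, hπ₁, w, x₁, hdec⟩ := exists_decomp_of_gr_exact (kerSC φ) p (hgr p) x (by
        show x ≫ φ.hom.app (op p) ≫ grπ Y.obj p = 0
        rw [← Category.assoc, hxy, htr, Category.assoc, Category.assoc, step_grπ, comp_zero,
          comp_zero])
      replace hdec : π₁ ≫ x = w ≫ (kernel.ι φ.hom).app (op p) + x₁ ≫ X.obj.map (stepHom p) := hdec
      have hmono : Mono (Y.obj.map (stepHom p)) := Y.property.1 _
      have hx₁ : x₁ ≫ φ.hom.app (op (p + 1)) = (π₁ ≫ y) ≫ tr Y.obj h1 := by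
        rw [← cancel_mono (Y.obj.map (stepHom p)), Category.assoc, ← φ.hom.naturality,
          ← Category.assoc]
        have : x₁ ≫ X.obj.map (stepHom p) = π₁ ≫ x - w ≫ (kernel.ι φ.hom).app (op p) := by
          rw [hdec]; abel
        rw [this, Preadditive.sub_comp, Category.assoc, hxy, Category.assoc w,
          kernel_ι_app_comp, comp_zero, sub_zero, htr]
        simp only [Category.assoc]
      obtain ⟨T₂, π₂, hπ₂, x', hx'⟩ := ih (p + 1) q h1 (by push_cast at hq; omega) x₁ (π₁ ≫ y) hx₁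
      exact ⟨T₂, π₂ ≫ π₁, inferInstance, x', by rw [hx', Category.assoc]⟩

end Kernel

end Groth.Agent.Lib.Helper21.FilD
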