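import Mathlib
import Groth.Agent.Lib.Helper21FilD2

/-!
# Helper21: extension of morphisms into filtered injective objects along strict monomorphisms
-/

set_option autoImplicit false
universe w v u

open CategoryTheory CategoryTheory.Limits Opposite

namespace Groth.Agent.Lib.Helper21.FilD

open _root_.FilD

section Desc

/-- Descending recursion over `ℤ`. -/
noncomputable def descFamily {St : ℤ → Type w} (b : ℤ) (zero : ∀ p, b ≤ p → St p)
    (step : ∀ p, St (p + 1) → St p) : ∀ p, St p
  | p => if hp : b ≤ p then zero p hp else step p (descFamily b zero step (p + 1))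
termination_by p => (b - p).toNat
decreasing_by omega

theorem exists_desc_family {St : ℤ → Type w} (R : ∀ p, St p → St (p + 1) → Prop) (b : ℤ)
    (zero : ∀ p, b ≤ p → St p)
    (hzero : ∀ p (hp : b ≤ p), R p (zero p hp) (zero (p + 1) (by omega)))
    (hstep : ∀ p (s : St (p + 1)), ∃ s' : St p, R p s' s) :
    ∃ H : ∀ p, St p, ∀ p, R p (H p) (H (p + 1)) := by
  refine ⟨descFamily b zero (fun p s => Classical.choose (hstep p s)), fun p => ?_⟩
  by_cases hp : b ≤ p
  · have h1 : descFamily b zero (fun p s => Classical.choose (hstep p s)) p = zero p hp := by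
      rw [descFamily, dif_pos hp]
    have h2 : descFamily b zero (fun p s => Classical.choose (hstep p s)) (p + 1) =
        zero (p + 1) (by omega) := by
      rw [descFamily, dif_pos (by omega)]
    rw [h1, h2]
    exact hzero p hp
  · have h1 : descFamily b zero (fun p s => Classical.choose (hstep p s)) p =
        Classical.choose (hstep p (descFamily b zero (fun p s => Classical.choose (hstep p s))
          (p + 1))) := by
      rw [descFamily, dif_neg hp]
    rw [h1]
    exact Classical.choose_spec (hstep p _)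

end Desc

variable {A : Type u} [Category.{v} A] [Abelian A]

/-- A family of maps compatible with the steps is natural. -/
theorem naturality_of_step {F G : ℤᵒᵖ ⥤ A} (h : ∀ p : ℤ, F.obj (op p) ⟶ G.obj (op p))
    (hstep : ∀ p : ℤ, F.map (stepHom p) ≫ h p = h (p + 1) ≫ G.map (stepHom p))
    {p q : ℤ} (hpq : p ≤ q) : tr F hpq ≫ h p = h q ≫ tr G hpq := by
  obtain ⟨k, hk⟩ : ∃ k : ℕ, q = p + k := ⟨(q - p).toNat, by omega⟩
  induction k generalizing p q with
  | zero =>
    obtain rfl : q = p := by simpa using hk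
    have e1 : tr F hpq = 𝟙 _ := tr_refl _ _
    have e2 : tr G hpq = 𝟙 _ := tr_refl _ _
    rw [e1, e2, Category.id_comp, Category.comp_id]
  | succ k ih =>
    have h1 : p + 1 ≤ q := by push_cast at hk; omega
    have e1 : tr F hpq = tr F h1 ≫ F.map (stepHom p) :=
      (tr_tr F (Int.le_add_one le_rfl) h1).symm
    have e2 : tr G hpq = tr G h1 ≫ G.map (stepHom p) :=
      (tr_tr G (Int.le_add_one le_rfl) h1).symm
    rw [e1, e2, Category.assoc, hstep, ← Category.assoc, ih h1 (by push_cast at hk; omega),
      Category.assoc]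

/-- The natural transformation attached to a step-compatible family. -/
noncomputable def natTransOfStep {F G : ℤᵒᵖ ⥤ A} (h : ∀ p : ℤ, F.obj (op p) ⟶ G.obj (op p))
    (hstep : ∀ p : ℤ, F.map (stepHom p) ≫ h p = h (p + 1) ≫ G.map (stepHom p)) : F ⟶ G where
  app p := h p.unop
  naturality p q f := by
    have hle : q.unop ≤ p.unop := leOfHom f.unop
    have e1 : F.map f = tr F hle := by congr 1
    have e2 : G.map f = tr G hle := by congr 1
    rw [e1, e2]
    exact naturality_of_step h hstep hle

/-- Abelian-category lemma: gluing two maps into an injective object. -/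
theorem exists_desc_of_injective {Wp Zp Zq J : A} [Injective J] (a : Wp ⟶ Zp) (b : Zq ⟶ Zp)
    (ψ : Wp ⟶ J) (η : Zq ⟶ J)
    (hcompat : ∀ ⦃T : A⦄ (w : T ⟶ Wp) (z : T ⟶ Zq), w ≫ a = z ≫ b → w ≫ ψ = z ≫ η) :
    ∃ h : Zp ⟶ J, a ≫ h = ψ ∧ b ≫ h = η := by
  let c : Wp ⊞ Zq ⟶ Zp := biprod.desc a b
  let ξ : Wp ⊞ Zq ⟶ J := biprod.desc ψ η
  have hker : kernel.ι c ≫ ξ = 0 := by
    have h1 : (kernel.ι c ≫ biprod.fst) ≫ a = (-(kernel.ι c ≫ biprod.snd)) ≫ b := by
      have := kernel.condition c
      have h2 : kernel.ι c ≫ c = (kernel.ι c ≫ biprod.fst) ≫ a + (kernel.ι c ≫ biprod.snd) ≫ b := by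
        simp only [c, Category.assoc]
        rw [← Preadditive.comp_add]
        congr 1
        ext <;> simp
      rw [this] at h2
      rw [Preadditive.neg_comp]
      exact eq_neg_of_add_eq_zero_left h2.symm
    have h3 := hcompat _ _ h1
    have h4 : kernel.ι c ≫ ξ = (kernel.ι c ≫ biprod.fst) ≫ ψ + (kernel.ι c ≫ biprod.snd) ≫ η := by
      simp only [ξ, Category.assoc]
      rw [← Preadditive.comp_add]
      congr 1
      ext <;> simp
    rw [h4, h3, Preadditive.neg_comp]
    exact neg_add_cancel _
  let h := (ShortComplex.exact_kernel c).descToInjective ξ hker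
  have hh : c ≫ h = ξ := (ShortComplex.exact_kernel c).comp_descToInjective ξ hker
  refine ⟨h, ?_, ?_⟩
  · have := congrArg (fun t => biprod.inl ≫ t) hh
    simpa [c, ξ] using this
  · have := congrArg (fun t => biprod.inr ≫ t) hh
    simpa [c, ξ] using this

section KernelObj

variable {W Z : FilF A} (u : W ⟶ Z)

theorem exists_kernel_lift' (P : ℤᵒᵖ) {T : A} (x : T ⟶ W.obj.obj P)
    (hx : x ≫ u.hom.app P = 0) :
    ∃ k : T ⟶ (kernel u.hom).obj P, k ≫ (kernel.ι u.hom).app P = x := by
  have h : ((kerSC u).map ((evaluation ℤᵒᵖ A).obj P)).Exact :=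
    (ShortComplex.exact_kernel u.hom).map_of_mono_of_preservesKernel _ inferInstance inferInstance
  have : Mono ((kerSC u).map ((evaluation ℤᵒᵖ A).obj P)).f := by
    show Mono ((kernel.ι u.hom).app P)
    infer_instance
  exact h.lift' x hx

theorem kernel_ι_app_comp' (P : ℤᵒᵖ) :
    (kernel.ι u.hom).app P ≫ u.hom.app P = 0 := by
  rw [← NatTrans.comp_app, kernel.condition]
  rfl

theorem isFinFil_kernel : IsFinFil A (kernel u.hom) := by
  have hmono : ∀ ⦃p q : ℤᵒᵖ⦄ (f : p ⟶ q), Mono ((kernel u.hom).map f) := by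
    intro p q f
    have hW : Mono (W.obj.map f) := W.property.1 f
    have e : (kernel u.hom).map f ≫ (kernel.ι u.hom).app q =
        (kernel.ι u.hom).app p ≫ W.obj.map f := (kernel.ι u.hom).naturality f
    exact mono_of_mono_fac e
  refine ⟨hmono, ?_, ?_⟩
  · obtain ⟨b, hb⟩ := W.property.2.1
    exact ⟨b, fun p hp => IsZero.of_mono ((kernel.ι u.hom).app (op p)) (hb p hp)⟩
  · obtain ⟨a₁, h₁⟩ := W.property.2.2
    obtain ⟨a₂, h₂⟩ := Z.property.2.2
    refine ⟨min a₁ a₂, fun p q f hp => ?_⟩
    have hW : IsIso (W.obj.map f) := h₁ f (le_trans hp (min_le_left _ _))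
    have hZ : IsIso (Z.obj.map f) := h₂ f (le_trans hp (min_le_right _ _))
    have hm := hmono f
    have hw : ((kernel.ι u.hom).app q ≫ inv (W.obj.map f)) ≫ u.hom.app p = 0 := by
      rw [← cancel_mono (Z.obj.map f), zero_comp, Category.assoc, Category.assoc,
        ← u.hom.naturality, IsIso.inv_hom_id_assoc, kernel_ι_app_comp']
    obtain ⟨k, hk⟩ := exists_kernel_lift' u p _ hw
    have hsplit : k ≫ (kernel u.hom).map f = 𝟙 _ := by
      rw [← cancel_mono ((kernel.ι u.hom).app q), Category.assoc, (kernel.ι u.hom).naturality f,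
        ← Category.assoc, hk, Category.assoc, IsIso.inv_hom_id, Category.comp_id,
        Category.id_comp]
    have : IsSplitEpi ((kernel u.hom).map f) := ⟨⟨k, hsplit⟩⟩
    exact isIso_of_mono_of_isSplitEpi _

theorem mono_app_of_mono [Mono u] (P : ℤᵒᵖ) : Mono (u.hom.app P) := by
  let K : FilF A := ⟨kernel u.hom, isFinFil_kernel u⟩
  let k : K ⟶ W := ObjectProperty.homMk (kernel.ι u.hom)
  have hk : k ≫ u = 0 := by
    apply ObjectProperty.hom_ext
    exact kernel.condition u.hom
  have hk0 : k = 0 := by
    rw [← cancel_mono u, hk, zero_comp]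
  have hι : kernel.ι u.hom = 0 := congrArg (fun t => t.hom) hk0
  apply Preadditive.mono_of_cancel_zero
  intro T g hg
  obtain ⟨k', hk'⟩ := exists_kernel_lift' u P g hg
  rw [← hk', hι]
  exact comp_zero

end KernelObj

theorem injective_level {I : FilF A} (hI : IsFilteredInjective I) (p : ℤ) :
    Injective (I.obj.obj (op p)) := by
  obtain ⟨b, hb⟩ := I.property.2.1
  refine int_desc_induction (P := fun p => Injective (I.obj.obj (op p))) b ?_ ?_ p
  · intro p hp
    exact (hb p hp).injective
  · intro p ih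
    have hm : Mono (I.obj.map (stepHom p)) := I.property.1 _
    let S : ShortComplex A := ShortComplex.mk (I.obj.map (stepHom p)) (grπ I.obj p)
      (step_grπ I.obj p)
    have hS : S.ShortExact :=
      { exact := ShortComplex.exact_cokernel _
        mono_f := hm
        epi_g := inferInstanceAs (Epi (grπ I.obj p)) }
    have : Injective S.X₁ := ih
    have : Injective S.X₃ := hI p
    exact Injective.of_iso hS.splittingOfInjective.isoBinaryBiproduct.symm inferInstance

/-- Extension into a filtered injective object along a strict monomorphism. -/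
theorem exists_extension {W Z I : FilF A} (u : W ⟶ Z) [Mono u] (hu : IsStrict u)
    (hI : IsFilteredInjective I) (ψ : W ⟶ I) : ∃ h : Z ⟶ I, u ≫ h = ψ := by
  rw [isStrict_iff] at hu
  have hmono : ∀ P : ℤᵒᵖ, Mono (u.hom.app P) := mono_app_of_mono u
  obtain ⟨b, hb⟩ := Z.property.2.1
  let St : ℤ → Type v := fun p =>
    {h : Z.obj.obj (op p) ⟶ I.obj.obj (op p) // u.hom.app (op p) ≫ h = ψ.hom.app (op p)}
  let R : ∀ p, St p → St (p + 1) → Prop := fun p s' s =>
    Z.obj.map (stepHom p) ≫ s'.1 = s.1 ≫ I.obj.map (stepHom p)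
  have hWzero : ∀ p, b ≤ p → IsZero (W.obj.obj (op p)) := fun p hp =>
    IsZero.of_mono (u.hom.app (op p)) (hb p hp)
  obtain ⟨H, hH⟩ := exists_desc_family R b
    (fun p hp => ⟨0, (hWzero p hp).eq_of_src _ _⟩)
    (fun p hp => by simp [R])
    (fun p s => by
      have := injective_level hI p
      obtain ⟨s1, hs1⟩ := s
      obtain ⟨h, h1, h2⟩ := exists_desc_of_injective (u.hom.app (op p)) (Z.obj.map (stepHom p))
        (ψ.hom.app (op p)) (s1 ≫ I.obj.map (stepHom p)) (by
          intro T w z hwz
          obtain ⟨T', π, hπ, w', hw'⟩ := hu p (p + 1) (Int.le_add_one le_rfl) w z hwz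
          have e1 : π ≫ w = w' ≫ W.obj.map (stepHom p) := by
            rw [← cancel_mono (u.hom.app (op p)), Category.assoc, Category.assoc, hwz,
              u.hom.naturality, ← Category.assoc w', hw', Category.assoc]
          rw [← cancel_epi π, ← Category.assoc, e1, Category.assoc, ψ.hom.naturality, ← hs1,
            ← Category.assoc w', ← Category.assoc w', hw']
          simp only [Category.assoc])
      exact ⟨⟨h, h1⟩, h2⟩)
  let η : Z.obj ⟶ I.obj := natTransOfStep (fun p => (H p).1) hH
  refine ⟨ObjectProperty.homMk η, ?_⟩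
  apply ObjectProperty.hom_ext
  ext P
  exact (H P.unop).2

end Groth.Agent.Lib.Helper21.FilD
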