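import Mathlib
import Groth.Agent.Lib.Helper21FilD3

/-!
# Helper21: maps from filtered acyclic complexes to bounded below filtered injective complexes
-/

set_option autoImplicit false
universe w v u

open CategoryTheory CategoryTheory.Limits Opposite

namespace Groth.Agent.Lib.Helper21.FilD

open _root_.FilD

section Asc

/-- Ascending recursion over `ℤ`. -/
noncomputable def ascFamily {St : ℤ → Type w} (a : ℤ) (zero : ∀ n, n < a → St n)
    (step : ∀ n, St (n - 1) → St n) : ∀ n, St n
  | n => if hn : n < a then zero n hn else step n (ascFamily a zero step (n - 1))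
termination_by n => (n + 1 - a).toNat
decreasing_by omega

theorem exists_asc_family {St : ℤ → Type w} (R : ∀ n, St (n - 1) → St n → Prop) (a : ℤ)
    (zero : ∀ n, n < a → St n)
    (hzero : ∀ n (hn : n < a), R n (zero (n - 1) (by omega)) (zero n hn))
    (hstep : ∀ n (s : St (n - 1)), ∃ s' : St n, R n s s') :
    ∃ H : ∀ n, St n, ∀ n, R n (H (n - 1)) (H n) := by
  refine ⟨ascFamily a zero (fun n s => Classical.choose (hstep n s)), fun n => ?_⟩
  by_cases hn : n < a
  · have h1 : ascFamily a zero (fun n s => Classical.choose (hstep n s)) n = zero n hn := by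
      rw [ascFamily, dif_pos hn]
    have h2 : ascFamily a zero (fun n s => Classical.choose (hstep n s)) (n - 1) =
        zero (n - 1) (by omega) := by
      rw [ascFamily, dif_pos (by omega)]
    rw [h1, h2]
    exact hzero n hn
  · have h1 : ascFamily a zero (fun n s => Classical.choose (hstep n s)) n =
        Classical.choose (hstep n (ascFamily a zero (fun n s => Classical.choose (hstep n s))
          (n - 1))) := by
      rw [ascFamily, dif_neg hn]
    rw [h1]
    exact Classical.choose_spec (hstep n _)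

end Asc

variable {A : Type u} [Category.{v} A] [Abelian A]

/-- Extension into a filtered injective object along a `gr`-exact sequence. -/
theorem exists_desc_of_gr_exact (S : ShortComplex (FilF A))
    (hS : ∀ p : ℤ, (S.map (grF A p)).Exact) {I : FilF A} (hI : IsFilteredInjective I)
    (ψ : S.X₂ ⟶ I) (hψ : S.f ≫ ψ = 0) : ∃ h : S.X₃ ⟶ I, S.g ≫ h = ψ := by
  have hg := isStrict_g_of_gr_exact S hS
  rw [isStrict_iff] at hg
  have hψ' : ∀ p : ℤ, S.f.hom.app (op p) ≫ ψ.hom.app (op p) = 0 := fun p =>
    congrArg (fun t => t.hom.app (op p)) hψ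
  obtain ⟨b₂, hb₂⟩ := S.X₂.property.2.1
  obtain ⟨b₃, hb₃⟩ := S.X₃.property.2.1
  let St : ℤ → Type v := fun p =>
    {h : S.X₃.obj.obj (op p) ⟶ I.obj.obj (op p) // S.g.hom.app (op p) ≫ h = ψ.hom.app (op p)}
  let R : ∀ p, St p → St (p + 1) → Prop := fun p s' s =>
    S.X₃.obj.map (stepHom p) ≫ s'.1 = s.1 ≫ I.obj.map (stepHom p)
  obtain ⟨H, hH⟩ := exists_desc_family R (max b₂ b₃)
    (fun p hp => ⟨0, (hb₂ p (le_trans (le_max_left _ _) hp)).eq_of_src _ _⟩)
    (fun p hp => by simp [R])
    (fun p s => by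
      have := injective_level hI p
      obtain ⟨s1, hs1⟩ := s
      obtain ⟨h, h1, h2⟩ := exists_desc_of_injective (S.g.hom.app (op p))
        (S.X₃.obj.map (stepHom p)) (ψ.hom.app (op p)) (s1 ≫ I.obj.map (stepHom p)) (by
          intro T y z hyz
          obtain ⟨T₁, π₁, hπ₁, y', hy'⟩ := hg p (p + 1) (Int.le_add_one le_rfl) y z hyz
          have e1 : (π₁ ≫ y - y' ≫ S.X₂.obj.map (stepHom p)) ≫ S.g.hom.app (op p) = 0 := by
            rw [Preadditive.sub_comp, Category.assoc, Category.assoc, hyz, S.g.hom.naturality,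
              ← Category.assoc y', hy', Category.assoc]
            exact sub_self _
          obtain ⟨T₂, π₂, hπ₂, x, hx⟩ := exists_lift_of_gr_exact S hS p _ e1
          have e2 : π₂ ≫ π₁ ≫ y = x ≫ S.f.hom.app (op p) + π₂ ≫ y' ≫ S.X₂.obj.map (stepHom p) := by
            rw [← hx, Preadditive.comp_sub]
            abel
          have key : (π₂ ≫ π₁ ≫ y) ≫ ψ.hom.app (op p) =
              (π₂ ≫ π₁ ≫ z) ≫ s1 ≫ I.obj.map (stepHom p) := by
            rw [e2, Preadditive.add_comp, Category.assoc, hψ', comp_zero, zero_add, Category.assoc,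
              Category.assoc, ψ.hom.naturality, ← hs1, ← Category.assoc y', ← Category.assoc y',
              hy']
            simp only [Category.assoc]
          rw [← cancel_epi π₁, ← cancel_epi π₂]
          simpa only [Category.assoc] using key)
      exact ⟨⟨h, h1⟩, h2⟩)
  let η : S.X₃.obj ⟶ I.obj := natTransOfStep (fun p => (H p).1) hH
  refine ⟨ObjectProperty.homMk η, ?_⟩
  apply ObjectProperty.hom_ext
  ext P
  exact (H P.unop).2

/-- The `gr`-exact short complex `K^{n-1} ⟶ K^n ⟶ K^{n+1}` of a filtered acyclic complex. -/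
theorem gr_exact_of_isFilteredAcyclic (K : CochainComplex (FilF A) ℤ) (hK : IsFilteredAcyclic K)
    (n : ℤ) (p : ℤ) :
    ((ShortComplex.mk (K.d (n - 1) n) (K.d n (n + 1)) (K.d_comp_d _ _ _)).map (grF A p)).Exact :=
  (HomologicalComplex.exactAt_iff' _ (n - 1) n (n + 1) (by simp) (by simp)).1 (hK p n)

/-- Maps from a filtered acyclic complex to a bounded below complex of filtered injectives are
null-homotopic. -/
theorem nonempty_homotopy_zero (K I : CochainComplex (FilF A) ℤ) (hK : IsFilteredAcyclic K)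
    (a : ℤ) [I.IsStrictlyGE a] (hI : ∀ n, IsFilteredInjective (I.X n)) (φ : K ⟶ I) :
    Nonempty (Homotopy φ 0) := by
  have hIzero : ∀ n, n < a → IsZero (I.X n) := fun n hn => I.isZero_of_isStrictlyGE a n hn
  let St : ℤ → Type v := fun n =>
    {s : ∀ m, m = n + 1 → (K.X m ⟶ I.X n) //
      ∀ m (hm : m = n + 1), K.d n m ≫ (φ.f m - s m hm ≫ I.d n m) = 0}
  let R : ∀ n, St (n - 1) → St n → Prop := fun n sp s =>
    φ.f n = K.d n (n + 1) ≫ s.1 (n + 1) rfl + sp.1 n (by omega) ≫ I.d (n - 1) n
  obtain ⟨H, hH⟩ := exists_asc_family R a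
    (fun n hn => ⟨fun m _ => 0, fun m hm => by
      rw [zero_comp, sub_zero, ← φ.comm, (hIzero n hn).eq_of_tgt (φ.f n) 0, zero_comp]⟩)
    (fun n hn => by
      show φ.f n = K.d n (n + 1) ≫ 0 + 0 ≫ I.d (n - 1) n
      rw [comp_zero, zero_comp, add_zero]
      exact (hIzero n hn).eq_of_tgt _ _)
    (fun n sp => by
      obtain ⟨sp1, hsp⟩ := sp
      let ψ : K.X n ⟶ I.X n := φ.f n - sp1 n (by omega) ≫ I.d (n - 1) n
      have hψ : K.d (n - 1) n ≫ ψ = 0 := hsp n (by omega)
      obtain ⟨h, hh⟩ : ∃ h : K.X (n + 1) ⟶ I.X n, K.d n (n + 1) ≫ h = ψ :=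
        exists_desc_of_gr_exact
          (ShortComplex.mk (K.d (n - 1) n) (K.d n (n + 1)) (K.d_comp_d _ _ _))
          (gr_exact_of_isFilteredAcyclic K hK n) (hI n) ψ hψ
      refine ⟨⟨fun m hm => eqToHom (by rw [hm]) ≫ h, ?_⟩, ?_⟩
      · intro m hm
        subst hm
        dsimp only
        rw [eqToHom_refl, Category.id_comp, Preadditive.comp_sub, ← Category.assoc, hh,
          ← φ.comm]
        show φ.f n ≫ I.d n (n + 1) -
          (φ.f n - sp1 n (by omega) ≫ I.d (n - 1) n) ≫ I.d n (n + 1) = 0
        rw [Preadditive.sub_comp, Category.assoc, I.d_comp_d, comp_zero, sub_zero, sub_self]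
      · show φ.f n = K.d n (n + 1) ≫ (eqToHom rfl ≫ h) + sp1 n (by omega) ≫ I.d (n - 1) n
        rw [eqToHom_refl, Category.id_comp, hh]
        show φ.f n = φ.f n - sp1 n (by omega) ≫ I.d (n - 1) n + sp1 n (by omega) ≫ I.d (n - 1) n
        abel)
  refine ⟨{ hom := fun i j => if h : i = j + 1 then (H j).1 i h else 0
            zero := fun i j hij => by
              rw [dif_neg]
              intro h
              exact hij h.symm
            comm := fun n => by
              rw [dNext_eq _ (show (ComplexShape.up ℤ).Rel n (n + 1) from rfl),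
                prevD_eq _ (show (ComplexShape.up ℤ).Rel (n - 1) n by simp)]
              rw [dif_pos rfl, dif_pos (by omega : n = n - 1 + 1)]
              rw [HomologicalComplex.zero_f, add_zero]
              exact hH n }⟩

end Groth.Agent.Lib.Helper21.FilD
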