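import Mathlib
import Groth.Agent.Lib.Helper21FilD4

/-!
# Helper21: `Fil^f(A)` has binary biproducts; filtered quasi-isomorphisms and filtered injectives
-/

set_option autoImplicit false
universe w v u

open CategoryTheory CategoryTheory.Limits Opposite

namespace Groth.Agent.Lib.Helper21.FilD

open _root_.FilD

variable {A : Type u} [Category.{v} A] [Abelian A]

section Biprod

variable (X Y : FilF A)

theorem biprod_total_app (P : ℤᵒᵖ) :
    (biprod.fst : X.obj ⊞ Y.obj ⟶ X.obj).app P ≫ (biprod.inl : X.obj ⟶ X.obj ⊞ Y.obj).app P +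
      (biprod.snd : X.obj ⊞ Y.obj ⟶ Y.obj).app P ≫ (biprod.inr : Y.obj ⟶ X.obj ⊞ Y.obj).app P =
      𝟙 _ := by
  have := congrArg (fun t => t.app P) (biprod.total (X := X.obj) (Y := Y.obj))
  exact this

theorem isFinFil_biprod : IsFinFil A (X.obj ⊞ Y.obj) := by
  have hmono : ∀ ⦃p q : ℤᵒᵖ⦄ (f : p ⟶ q), Mono ((X.obj ⊞ Y.obj).map f) := by
    intro p q f
    have hX : Mono (X.obj.map f) := X.property.1 f
    have hY : Mono (Y.obj.map f) := Y.property.1 f
    apply Preadditive.mono_of_cancel_zero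
    intro T g hg
    have h1 : g ≫ (biprod.fst : X.obj ⊞ Y.obj ⟶ X.obj).app p = 0 := by
      rw [← cancel_mono (X.obj.map f), Category.assoc, zero_comp,
        ← (biprod.fst : X.obj ⊞ Y.obj ⟶ X.obj).naturality f, ← Category.assoc, hg, zero_comp]
    have h2 : g ≫ (biprod.snd : X.obj ⊞ Y.obj ⟶ Y.obj).app p = 0 := by
      rw [← cancel_mono (Y.obj.map f), Category.assoc, zero_comp,
        ← (biprod.snd : X.obj ⊞ Y.obj ⟶ Y.obj).naturality f, ← Category.assoc, hg, zero_comp]
    rw [← Category.comp_id g, ← biprod_total_app X Y p, Preadditive.comp_add, ← Category.assoc,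
      h1, zero_comp, ← Category.assoc, h2, zero_comp, add_zero]
  refine ⟨hmono, ?_, ?_⟩
  · obtain ⟨b₁, hb₁⟩ := X.property.2.1
    obtain ⟨b₂, hb₂⟩ := Y.property.2.1
    refine ⟨max b₁ b₂, fun p hp => ?_⟩
    rw [IsZero.iff_id_eq_zero, ← biprod_total_app X Y (op p)]
    rw [(hb₁ p (le_trans (le_max_left _ _) hp)).eq_of_tgt
        ((biprod.fst : X.obj ⊞ Y.obj ⟶ X.obj).app (op p)) 0,
      (hb₂ p (le_trans (le_max_right _ _) hp)).eq_of_tgt
        ((biprod.snd : X.obj ⊞ Y.obj ⟶ Y.obj).app (op p)) 0, zero_comp, zero_comp, add_zero]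
  · obtain ⟨a₁, h₁⟩ := X.property.2.2
    obtain ⟨a₂, h₂⟩ := Y.property.2.2
    refine ⟨min a₁ a₂, fun p q f hp => ?_⟩
    have hX : IsIso (X.obj.map f) := h₁ f (le_trans hp (min_le_left _ _))
    have hY : IsIso (Y.obj.map f) := h₂ f (le_trans hp (min_le_right _ _))
    have hm := hmono f
    let l : (X.obj ⊞ Y.obj).obj q ⟶ (X.obj ⊞ Y.obj).obj p :=
      (biprod.fst : X.obj ⊞ Y.obj ⟶ X.obj).app q ≫ inv (X.obj.map f) ≫
        (biprod.inl : X.obj ⟶ X.obj ⊞ Y.obj).app p +
      (biprod.snd : X.obj ⊞ Y.obj ⟶ Y.obj).app q ≫ inv (Y.obj.map f) ≫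
        (biprod.inr : Y.obj ⟶ X.obj ⊞ Y.obj).app p
    have hl : l ≫ (X.obj ⊞ Y.obj).map f = 𝟙 _ := by
      simp only [l, Preadditive.add_comp, Category.assoc]
      rw [← (biprod.inl : X.obj ⟶ X.obj ⊞ Y.obj).naturality f,
        ← (biprod.inr : Y.obj ⟶ X.obj ⊞ Y.obj).naturality f, IsIso.inv_hom_id_assoc,
        IsIso.inv_hom_id_assoc]
      exact biprod_total_app X Y q
    have : IsSplitEpi ((X.obj ⊞ Y.obj).map f) := ⟨⟨l, hl⟩⟩
    exact isIso_of_mono_of_isSplitEpi _

/-- The biproduct bicone in `Fil^f(A)`. -/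
noncomputable def biprodBicone : BinaryBicone X Y where
  pt := ⟨X.obj ⊞ Y.obj, isFinFil_biprod X Y⟩
  fst := ObjectProperty.homMk biprod.fst
  snd := ObjectProperty.homMk biprod.snd
  inl := ObjectProperty.homMk biprod.inl
  inr := ObjectProperty.homMk biprod.inr
  inl_fst := by apply ObjectProperty.hom_ext; exact biprod.inl_fst
  inl_snd := by apply ObjectProperty.hom_ext; exact biprod.inl_snd
  inr_fst := by apply ObjectProperty.hom_ext; exact biprod.inr_fst
  inr_snd := by apply ObjectProperty.hom_ext; exact biprod.inr_snd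

instance : HasBinaryBiproduct X Y :=
  hasBinaryBiproduct_of_total (biprodBicone X Y) (by
    apply ObjectProperty.hom_ext
    exact biprod.total)

end Biprod

instance : HasBinaryBiproducts (FilF A) := ⟨fun _ _ => inferInstance⟩

section QuasiIso

open CochainComplex HomotopyCategory Pretriangulated

theorem exactAt_mappingCone_of_quasiIso {C : Type u} [Category.{v} C] [Abelian C]
    {K L : CochainComplex C ℤ} (φ : K ⟶ L) [QuasiIso φ] (n : ℤ) :
    (mappingCone φ).ExactAt n := by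
  have h1 : HomotopyCategory.quasiIso C _ ((HomotopyCategory.quotient _ _).map φ) :=
    (HomotopyCategory.quotient_map_mem_quasiIso_iff φ).2 (by
      rw [HomologicalComplex.mem_quasiIso_iff]; infer_instance)
  rw [HomotopyCategory.quasiIso_eq_trW_subcategoryAcyclic] at h1
  have h2 := ((HomotopyCategory.subcategoryAcyclic C).trW_iff_of_distinguished _
    (HomotopyCategory.mappingCone_triangleh_distinguished φ)).1 h1
  exact (HomotopyCategory.quotient_obj_mem_subcategoryAcyclic_iff_exactAt _).1 h2 n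

theorem isFilteredAcyclic_mappingCone {K L : CochainComplex (FilF A) ℤ} (α : K ⟶ L)
    (hα : IsFilteredQuasiIso α) : IsFilteredAcyclic (mappingCone α) := by
  intro p n
  have := hα p
  have e := mappingCone.mapHomologicalComplexIso α (grF A p)
  have h1 : IsZero ((mappingCone ((grCx p).map α)).homology n) :=
    (HomologicalComplex.exactAt_iff_isZero_homology _ _).1 (exactAt_mappingCone_of_quasiIso _ n)
  exact (HomologicalComplex.exactAt_iff_isZero_homology _ _).2
    (IsZero.of_iso h1 ((HomologicalComplex.homologyFunctor _ _ n).mapIso e))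

theorem hom_eq_zero_of_isFilteredAcyclic (C I : CochainComplex (FilF A) ℤ)
    (hC : IsFilteredAcyclic C) (a : ℤ) [I.IsStrictlyGE a]
    (hI : ∀ n, IsFilteredInjective (I.X n))
    (f : (HomotopyCategory.quotient (FilF A) (ComplexShape.up ℤ)).obj C ⟶
      (HomotopyCategory.quotient (FilF A) (ComplexShape.up ℤ)).obj I) : f = 0 := by
  obtain ⟨g, rfl⟩ := (HomotopyCategory.quotient _ _).map_surjective f
  obtain ⟨h⟩ := nonempty_homotopy_zero C I hC a hI g
  rw [HomotopyCategory.eq_of_homotopy _ _ h, Functor.map_zero]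

theorem hom_shift_eq_zero_of_isFilteredAcyclic (C I : CochainComplex (FilF A) ℤ)
    (hC : IsFilteredAcyclic C) (a : ℤ) [I.IsStrictlyGE a]
    (hI : ∀ n, IsFilteredInjective (I.X n))
    (f : (HomotopyCategory.quotient (FilF A) (ComplexShape.up ℤ)).obj C ⟶
      ((HomotopyCategory.quotient (FilF A) (ComplexShape.up ℤ)).obj I)⟦(1 : ℤ)⟧) : f = 0 := by
  let e := ((HomotopyCategory.quotient (FilF A) (ComplexShape.up ℤ)).commShiftIso (1 : ℤ)).app I
  have : (I⟦(1 : ℤ)⟧).IsStrictlyGE (a - 1) := I.isStrictlyGE_shift a 1 (a - 1) (by omega)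
  have h0 : f ≫ e.inv = 0 :=
    hom_eq_zero_of_isFilteredAcyclic C (I⟦(1 : ℤ)⟧) hC (a - 1) (fun n => hI (n + 1)) _
  rw [← cancel_mono e.inv, h0, zero_comp]

theorem bijective_precomp (I : CochainComplex (FilF A) ℤ) (a : ℤ) [I.IsStrictlyGE a]
    (hI : ∀ n, IsFilteredInjective (I.X n)) {K L : CochainComplex (FilF A) ℤ} (α : K ⟶ L)
    (hα : IsFilteredQuasiIso α) :
    Function.Bijective (fun β : (HomotopyCategory.quotient (FilF A) (ComplexShape.up ℤ)).obj L ⟶
        (HomotopyCategory.quotient (FilF A) (ComplexShape.up ℤ)).obj I =>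
      (HomotopyCategory.quotient (FilF A) (ComplexShape.up ℤ)).map α ≫ β) := by
  have hT := HomotopyCategory.mappingCone_triangleh_distinguished α
  have hC := isFilteredAcyclic_mappingCone α hα
  constructor
  · intro β β' h
    have h0 : (HomotopyCategory.quotient (FilF A) (ComplexShape.up ℤ)).map α ≫ (β - β') = 0 := by
      rw [Preadditive.comp_sub]
      exact sub_eq_zero.2 h
    obtain ⟨g, hg⟩ := Pretriangulated.Triangle.yoneda_exact₂ (mappingCone.triangleh α) hT
      (β - β') h0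
    have hg0 : g = 0 := hom_eq_zero_of_isFilteredAcyclic _ I hC a hI g
    rw [hg0, comp_zero] at hg
    exact sub_eq_zero.1 hg
  · intro γ
    have hrot := Pretriangulated.rot_of_distTriang _ hT
    have h0 : (mappingCone.triangleh α).rotate.mor₂ ≫ γ⟦(1 : ℤ)⟧' = 0 :=
      hom_shift_eq_zero_of_isFilteredAcyclic _ I hC a hI _
    obtain ⟨g, hg⟩ : ∃ g : ((HomotopyCategory.quotient (FilF A) (ComplexShape.up ℤ)).obj L)⟦(1 : ℤ)⟧ ⟶
        ((HomotopyCategory.quotient (FilF A) (ComplexShape.up ℤ)).obj I)⟦(1 : ℤ)⟧,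
        γ⟦(1 : ℤ)⟧' =
          (-((HomotopyCategory.quotient (FilF A) (ComplexShape.up ℤ)).map α)⟦(1 : ℤ)⟧') ≫ g :=
      Pretriangulated.Triangle.yoneda_exact₃ _ hrot (γ⟦(1 : ℤ)⟧') h0
    obtain ⟨β', rfl⟩ := (CategoryTheory.shiftFunctor (HomotopyCategory (FilF A) (ComplexShape.up ℤ))
      (1 : ℤ)).map_surjective g
    refine ⟨-β', ?_⟩
    apply (CategoryTheory.shiftFunctor (HomotopyCategory (FilF A) (ComplexShape.up ℤ)) (1 : ℤ)).map_injective
    show ((HomotopyCategory.quotient (FilF A) (ComplexShape.up ℤ)).map α ≫ (-β'))⟦(1 : ℤ)⟧' =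
      γ⟦(1 : ℤ)⟧'
    rw [hg, Functor.map_comp, Functor.map_neg, Preadditive.comp_neg, Preadditive.neg_comp]

end QuasiIso

end Groth.Agent.Lib.Helper21.FilD
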