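import Mathlib
import Groth.Prelude.Def_FilD

/-!
# Helper21: functors `ℤᵒᵖ ⥤ C` from a sequence of objects and step maps
-/

set_option autoImplicit false
universe w v u

open CategoryTheory Opposite

namespace Groth.Agent.Lib.Helper21.IntSeq

variable {C : Type u} [Category.{v} C] (obj : ℤ → C) (step : ∀ p, obj (p + 1) ⟶ obj p)

/-- Composite of `k` steps `obj q ⟶ obj p` where `q = p + k`. -/
def mapAux : ∀ (k : ℕ) (p q : ℤ), q = p + k → (obj q ⟶ obj p)
  | 0, p, q, h => eqToHom (by rw [h]; simp)
  | k + 1, p, q, h => mapAux k (p + 1) q (by rw [h]; push_cast; ring) ≫ step p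

theorem mapAux_congr {k k' : ℕ} (hk : k = k') (p q : ℤ) (h : q = p + k) (h' : q = p + k') :
    mapAux obj step k p q h = mapAux obj step k' p q h' := by
  subst hk
  rfl

theorem mapAux_zero (p : ℤ) (h : p = p + (0 : ℕ)) : mapAux obj step 0 p p h = 𝟙 _ := by
  simp [mapAux]

theorem mapAux_one (p : ℤ) (h : p + 1 = p + (1 : ℕ)) :
    mapAux obj step 1 p (p + 1) h = step p := by
  simp [mapAux]

theorem mapAux_comp : ∀ (k₁ k₂ : ℕ) (p q r : ℤ) (h₁ : q = p + k₁) (h₂ : r = q + k₂)
    (h : r = p + (k₁ + k₂ : ℕ)),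
    mapAux obj step (k₁ + k₂) p r h = mapAux obj step k₂ q r h₂ ≫ mapAux obj step k₁ p q h₁
  | 0, k₂, p, q, r, h₁, h₂, h => by
    obtain rfl : q = p := by simpa using h₁
    rw [mapAux_zero, Category.comp_id]
    exact mapAux_congr obj step (by simp) _ _ _ _
  | k₁ + 1, k₂, p, q, r, h₁, h₂, h => by
    have e : k₁ + 1 + k₂ = (k₁ + k₂) + 1 := by omega
    rw [mapAux_congr obj step e p r h (by rw [h]; push_cast; ring)]
    show mapAux obj step (k₁ + k₂) (p + 1) r _ ≫ step p =
      mapAux obj step k₂ q r h₂ ≫ mapAux obj step k₁ (p + 1) q _ ≫ step p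
    rw [mapAux_comp k₁ k₂ (p + 1) q r (by rw [h₁]; push_cast; ring) h₂
      (by rw [h]; push_cast; ring), Category.assoc]

/-- The functor `ℤᵒᵖ ⥤ C` with given objects and step maps. -/
def ofIntOpSequence : ℤᵒᵖ ⥤ C where
  obj P := obj P.unop
  map {P Q} f := mapAux obj step (P.unop - Q.unop).toNat Q.unop P.unop (by
    have := leOfHom f.unop
    omega)
  map_id P := by
    rw [mapAux_congr obj step (show (P.unop - P.unop).toNat = 0 by simp) _ _ _ (by simp)]
    exact mapAux_zero obj step _ _
  map_comp {P Q R} f g := by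
    have h1 := leOfHom f.unop
    have h2 := leOfHom g.unop
    rw [mapAux_congr obj step (show (P.unop - R.unop).toNat =
      (Q.unop - R.unop).toNat + (P.unop - Q.unop).toNat by omega) _ _ _ (by omega)]
    exact mapAux_comp obj step _ _ _ _ _ _ _ _

@[simp]
theorem ofIntOpSequence_obj (P : ℤᵒᵖ) : (ofIntOpSequence obj step).obj P = obj P.unop := rfl

theorem ofIntOpSequence_map_stepHom (p : ℤ) :
    (ofIntOpSequence obj step).map (FilD.stepHom p) = step p := by
  show mapAux obj step ((p + 1) - p).toNat p (p + 1) _ = step p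
  rw [mapAux_congr obj step (show ((p + 1) - p).toNat = 1 by simp) _ _ _ (by simp)]
  exact mapAux_one obj step p _

/-- A property of morphisms stable under composition and containing isomorphisms holds for all
composites of steps having it. -/
theorem mapAux_prop (W : MorphismProperty C) [W.IsMultiplicative] [W.RespectsIso] :
    ∀ (k : ℕ) (p q : ℤ) (h : q = p + k), (∀ r, p ≤ r → r < q → W (step r)) →
      W (mapAux obj step k p q h)
  | 0, p, q, h, _ => by
    show W (eqToHom _)
    exact MorphismProperty.of_isIso W _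
  | k + 1, p, q, h, hW => by
    show W (mapAux obj step k (p + 1) q _ ≫ step p)
    refine W.comp_mem _ _ (mapAux_prop W k (p + 1) q _ (fun r hr hr' => hW r (by omega) hr')) ?_
    exact hW p le_rfl (by rw [h]; push_cast; omega)

theorem ofIntOpSequence_map_prop (W : MorphismProperty C) [W.IsMultiplicative] [W.RespectsIso]
    {P Q : ℤᵒᵖ} (f : P ⟶ Q) (hW : ∀ r, Q.unop ≤ r → r < P.unop → W (step r)) :
    W ((ofIntOpSequence obj step).map f) :=
  mapAux_prop obj step W _ _ _ _ hW

end Groth.Agent.Lib.Helper21.IntSeq
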