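import Mathlib
import Groth.Agent.Lib.Helper21FilD5
import Groth.Agent.Lib.Helper21IntSeq

/-!
# Helper21: every finite filtered object embeds strictly into a filtered injective object
-/

set_option autoImplicit false
universe w v u

open CategoryTheory CategoryTheory.Limits Opposite

namespace Groth.Agent.Lib.Helper21.FilD

open _root_.FilD Groth.Agent.Lib.Helper21.IntSeq

theorem exists_desc_family' {St : ℤ → Type w} (R : ∀ p, St p → St (p + 1) → Prop) (b : ℤ)
    (zero : ∀ p, b ≤ p → St p)
    (hzero : ∀ p (hp : b ≤ p), R p (zero p hp) (zero (p + 1) (by omega)))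
    (hstep : ∀ p (s : St (p + 1)), ∃ s' : St p, R p s' s) :
    ∃ H : ∀ p, St p, (∀ p, R p (H p) (H (p + 1))) ∧ ∀ p (hp : b ≤ p), H p = zero p hp := by
  have hz : ∀ p (hp : b ≤ p),
      descFamily b zero (fun p s => Classical.choose (hstep p s)) p = zero p hp := by
    intro p hp
    rw [descFamily, dif_pos hp]
  refine ⟨descFamily b zero (fun p s => Classical.choose (hstep p s)), fun p => ?_, hz⟩
  by_cases hp : b ≤ p
  · rw [hz p hp, hz (p + 1) (by omega)]
    exact hzero p hp
  · have h1 : descFamily b zero (fun p s => Classical.choose (hstep p s)) p =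
        Classical.choose (hstep p (descFamily b zero (fun p s => Classical.choose (hstep p s))
          (p + 1))) := by
      rw [descFamily, dif_neg hp]
    rw [h1]
    exact Classical.choose_spec (hstep p _)

variable {A : Type u} [Category.{v} A] [Abelian A]

/-- State of the recursive construction of a filtered injective hull at level `q`. -/
structure EmbSt (X : FilF A) (q : ℤ) where
  obj : A
  u : X.obj.obj (op q) ⟶ obj
  inj : Injective obj
  mono : Mono u

/-- Compatibility relation between consecutive states. -/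
def EmbRel (X : FilF A) (q : ℤ) (s' : EmbSt X q) (s : EmbSt X (q + 1)) : Prop :=
  ∃ i : s.obj ⟶ s'.obj, Mono i ∧ Injective (cokernel i) ∧
    X.obj.map (stepHom q) ≫ s'.u = s.u ≫ i ∧
    (IsIso (X.obj.map (stepHom q)) → IsIso i) ∧
    ∀ ⦃T : A⦄ (x : T ⟶ X.obj.obj (op q)) (y : T ⟶ s.obj), x ≫ s'.u = y ≫ i →
      ∃ (T' : A) (π : T' ⟶ T) (_ : Epi π) (x' : T' ⟶ X.obj.obj (op (q + 1))),
        x' ≫ X.obj.map (stepHom q) = π ≫ x

theorem embStep [EnoughInjectives A] (X : FilF A) (q : ℤ) (s : EmbSt X (q + 1)) :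
    ∃ s' : EmbSt X q, EmbRel X q s' s := by
  have hmono : Mono (X.obj.map (stepHom q)) := X.property.1 _
  obtain ⟨J, j, hJ, hj, hJ0⟩ : ∃ (J : A) (j : (gr A q).obj X.obj ⟶ J), Injective J ∧ Mono j ∧
      (IsZero ((gr A q).obj X.obj) → IsZero J) := by
    by_cases h0 : IsZero ((gr A q).obj X.obj)
    · exact ⟨_, 𝟙 _, h0.injective, inferInstance, fun h => h⟩
    · exact ⟨Injective.under _, Injective.ι _, inferInstance, inferInstance, fun h => absurd h h0⟩
  have hsinj := s.inj
  have hsmono := s.mono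
  let e : X.obj.obj (op q) ⟶ s.obj := Injective.factorThru s.u (X.obj.map (stepHom q))
  have he : X.obj.map (stepHom q) ≫ e = s.u := Injective.comp_factorThru _ _
  let u' : X.obj.obj (op q) ⟶ s.obj ⊞ J := biprod.lift e (grπ X.obj q ≫ j)
  have hu'mono : Mono u' := by
    apply Preadditive.mono_of_cancel_zero
    intro T g hg
    have h1 : g ≫ e = 0 := by
      have := congrArg (fun t => t ≫ biprod.fst) hg
      simpa [u'] using this
    have h2 : g ≫ grπ X.obj q = 0 := by
      have := congrArg (fun t => t ≫ biprod.snd) hg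
      simp only [u', Category.assoc, biprod.lift_snd, zero_comp] at this
      rw [← cancel_mono j, Category.assoc, this, zero_comp]
    obtain ⟨g', hg'⟩ : ∃ g' : T ⟶ X.obj.obj (op (q + 1)), g' ≫ X.obj.map (stepHom q) = g :=
      (ShortComplex.exact_cokernel (X.obj.map (stepHom q))).lift' g h2
    have h3 : g' ≫ s.u = 0 := by rw [← he, ← Category.assoc, hg', h1]
    have h4 : g' = 0 := by rw [← cancel_mono s.u, h3, zero_comp]
    rw [← hg', h4, zero_comp]
  refine ⟨⟨s.obj ⊞ J, u', inferInstance, hu'mono⟩, biprod.inl, inferInstance, ?_, ?_, ?_, ?_⟩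
  · exact Injective.of_iso (cokernelBiprodInlIso (X := s.obj) (Y := J)).symm hJ
  · show X.obj.map (stepHom q) ≫ u' = s.u ≫ biprod.inl
    apply biprod.hom_ext
    · simp [u', he]
    · simp only [u', Category.assoc, biprod.lift_snd, biprod.inl_snd, comp_zero]
      rw [← Category.assoc, step_grπ, zero_comp]
  · intro hiso
    have hG : IsZero ((gr A q).obj X.obj) := by
      show IsZero (cokernel (X.obj.map (stepHom q)))
      exact isZero_cokernel_of_epi _
    have hJz := hJ0 hG
    refine ⟨biprod.fst, biprod.inl_fst, ?_⟩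
    have : (biprod.snd : s.obj ⊞ J ⟶ J) = 0 := hJz.eq_of_tgt _ _
    rw [← biprod.total, this, zero_comp, add_zero]
  · intro T x y hxy
    have h2 : x ≫ grπ X.obj q = 0 := by
      have := congrArg (fun t => t ≫ biprod.snd) hxy
      simp only [u', Category.assoc, biprod.lift_snd, biprod.inl_snd, comp_zero] at this
      rw [← cancel_mono j, Category.assoc, this, zero_comp]
    obtain ⟨T', π, hπ, x', hx'⟩ := exists_lift_of_comp_grπ_eq_zero X.obj q x h2
    exact ⟨T', π, hπ, x', hx'.symm⟩

theorem exists_strict_mono_into_filteredInjective [EnoughInjectives A] (X : FilF A) :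
    ∃ (I : FilF A) (u : X ⟶ I), IsFilteredInjective I ∧ Mono u ∧ IsStrict u := by
  obtain ⟨b, hb⟩ := X.property.2.1
  obtain ⟨a, ha⟩ := X.property.2.2
  obtain ⟨H, hH, hHzero⟩ := exists_desc_family' (EmbRel X) b
    (fun q hq => ⟨X.obj.obj (op q), 𝟙 _, (hb q hq).injective, inferInstance⟩)
    (fun q hq => by
      refine ⟨X.obj.map (stepHom q), X.property.1 _, ?_, ?_, fun h => h, ?_⟩
      · exact (IsZero.of_epi (cokernel.π (X.obj.map (stepHom q))) (hb q hq)).injective
      · simp
      · intro T x y hxy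
        exact ⟨T, 𝟙 T, inferInstance, y, by simpa using hxy.symm⟩)
    (fun q s => embStep X q s)
  choose i hi_mono hi_inj hi_compat hi_iso hi_strict using hH
  let F : ℤᵒᵖ ⥤ A := ofIntOpSequence (fun q => (H q).obj) i
  have hFstep : ∀ q, F.map (stepHom q) = i q := ofIntOpSequence_map_stepHom _ _
  have hF : IsFinFil A F := by
    refine ⟨?_, ⟨b, ?_⟩, ⟨a, ?_⟩⟩
    · intro P Q f
      exact ofIntOpSequence_map_prop _ _ (MorphismProperty.monomorphisms A) f
        (fun r _ _ => hi_mono r)
    · intro q hq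
      show IsZero (H q).obj
      rw [hHzero q hq]
      exact hb q hq
    · intro P Q f hP
      exact ofIntOpSequence_map_prop _ _ (MorphismProperty.isomorphisms A) f
        (fun r _ hr => hi_iso r (ha (stepHom r) (by show r + 1 ≤ a; omega)))
  let I : FilF A := ⟨F, hF⟩
  let uη : X.obj ⟶ F := natTransOfStep (fun q => (H q).u) (fun q => by
    rw [hFstep]
    exact hi_compat q)
  let u : X ⟶ I := ObjectProperty.homMk uη
  have hu_app : ∀ q : ℤ, u.hom.app (op q) = (H q).u := fun q => rfl
  refine ⟨I, u, ?_, ?_, ?_⟩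
  · intro q
    show Injective (cokernel (F.map (stepHom q)))
    rw [hFstep]
    exact hi_inj q
  · have : ∀ P : ℤᵒᵖ, Mono (uη.app P) := fun P => (H P.unop).mono
    have h1 : Mono uη := NatTrans.mono_of_mono_app uη
    exact (IsFinFil A).ι.mono_of_mono_map h1
  · rw [isStrict_iff]
    suffices Hs : ∀ (k : ℕ) (p q : ℤ) (h : p ≤ q), q = p + k →
        ∀ ⦃T : A⦄ (x : T ⟶ X.obj.obj (op p)) (y : T ⟶ F.obj (op q)),
          x ≫ (H p).u = y ≫ tr F h →
          ∃ (T' : A) (π : T' ⟶ T) (_ : Epi π) (x' : T' ⟶ X.obj.obj (op q)),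
            x' ≫ (H q).u = π ≫ y by
      intro p q h T x y hxy
      exact Hs (q - p).toNat p q h (by omega) x y hxy
    intro k
    induction k with
    | zero =>
      intro p q h hq T x y hxy
      obtain rfl : q = p := by simpa using hq
      refine ⟨T, 𝟙 T, inferInstance, x, ?_⟩
      have : tr F h = 𝟙 _ := tr_refl _ _
      rw [hxy, this, Category.comp_id, Category.id_comp]
    | succ k ih =>
      intro p q h hq T x y hxy
      have h1 : p + 1 ≤ q := by push_cast at hq; omega
      have htr : tr F h = tr F h1 ≫ i p := by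
        rw [← hFstep]
        exact (tr_tr F (Int.le_add_one le_rfl) h1).symm
      have hxy' : x ≫ (H p).u = (y ≫ tr F h1) ≫ i p := by
        rw [hxy, htr]
        exact (Category.assoc y (tr F h1) (i p)).symm
      obtain ⟨T₁, π₁, hπ₁, x₁, hx₁⟩ := hi_strict p x (y ≫ tr F h1) hxy'
      have hm := hi_mono p
      have hx₁' : x₁ ≫ (H (p + 1)).u = (π₁ ≫ y) ≫ tr F h1 := by
        rw [← cancel_mono (i p), Category.assoc, ← hi_compat p, ← Category.assoc, hx₁,
          Category.assoc, hxy']
        show π₁ ≫ (y ≫ tr F h1) ≫ i p = ((π₁ ≫ y) ≫ tr F h1) ≫ i p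
        rw [← Category.assoc π₁, ← Category.assoc π₁]
      obtain ⟨T₂, π₂, hπ₂, x', hx'⟩ := ih (p + 1) q h1 (by push_cast at hq; omega) x₁ (π₁ ≫ y) hx₁'
      exact ⟨T₂, π₂ ≫ π₁, inferInstance, x', by rw [hx', Category.assoc]⟩

end Groth.Agent.Lib.Helper21.FilD
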