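import Mathlib
import Groth.Agent.Lib.Helper21FilD6

/-!
# Helper21: canonical truncations of complexes of finite filtered objects
-/

set_option autoImplicit false
universe w v u

open CategoryTheory CategoryTheory.Limits Opposite

namespace Groth.Agent.Lib.Helper21.FilD

open _root_.FilD

variable {A : Type u} [Category.{v} A] [Abelian A]

theorem isFinFil_of_iso {F G : ℤᵒᵖ ⥤ A} (e : F ≅ G) (hF : IsFinFil A F) : IsFinFil A G := by
  obtain ⟨h1, ⟨b, hb⟩, ⟨a, ha⟩⟩ := hF
  have key : ∀ ⦃p q : ℤᵒᵖ⦄ (f : p ⟶ q), G.map f = e.inv.app p ≫ F.map f ≫ e.hom.app q := by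
    intro p q f
    rw [e.hom.naturality f, ← Category.assoc, ← NatTrans.comp_app, e.inv_hom_id]
    simp
  refine ⟨fun p q f => ?_, ⟨b, fun p hp => ?_⟩, ⟨a, fun p q f hp => ?_⟩⟩
  · rw [key f]
    have := h1 f
    infer_instance
  · exact IsZero.of_iso (hb p hp) (e.symm.app (op p))
  · rw [key f]
    have := ha f hp
    infer_instance

instance : (IsFinFil A).IsClosedUnderIsomorphisms where
  of_iso e h := isFinFil_of_iso e h

/-- The natural transformation `ev_{p+1} ⟶ ev_p`. -/
@[simps]
def stepNat (p : ℤ) :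
    (evaluation ℤᵒᵖ A).obj (op (p + 1)) ⟶ (evaluation ℤᵒᵖ A).obj (op p) where
  app F := F.map (stepHom p)
  naturality F G φ := (φ.naturality (stepHom p)).symm

/-- The natural transformation `ev_p ⟶ gr^p`. -/
@[simps]
noncomputable def grπNat (p : ℤ) : (evaluation ℤᵒᵖ A).obj (op p) ⟶ gr A p where
  app F := grπ F p
  naturality F G φ := (grπ_map φ p).symm

/-- The short complex of complexes `ev_{p+1} M ⟶ ev_p M ⟶ gr^p M`. -/
noncomputable def grSC (M : CochainComplex (ℤᵒᵖ ⥤ A) ℤ) (p : ℤ) :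
    ShortComplex (CochainComplex A ℤ) :=
  ShortComplex.mk ((NatTrans.mapHomologicalComplex (stepNat (A := A) p) _).app M)
    ((NatTrans.mapHomologicalComplex (grπNat (A := A) p) _).app M) (by
      ext n
      simp only [HomologicalComplex.comp_f, NatTrans.mapHomologicalComplex_app_f,
        HomologicalComplex.zero_f]
      exact step_grπ (M.X n) p)

theorem grSC_shortExact (M : CochainComplex (ℤᵒᵖ ⥤ A) ℤ) (p : ℤ)
    (hM : ∀ n, Mono ((M.X n).map (stepHom p))) : (grSC M p).ShortExact := by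
  rw [HomologicalComplex.shortExact_iff_degreewise_shortExact]
  intro n
  have := hM n
  exact
    { exact := ShortComplex.exact_cokernel ((M.X n).map (stepHom p))
      mono_f := hM n
      epi_g := inferInstanceAs (Epi (grπ (M.X n) p)) }

/-- The morphism of short complexes `grSC M p ⟶ grSC K p` induced by `f : M ⟶ K`. -/
noncomputable def grSCMap {M K : CochainComplex (ℤᵒᵖ ⥤ A) ℤ} (f : M ⟶ K) (p : ℤ) :
    grSC M p ⟶ grSC K p where
  τ₁ := (((evaluation ℤᵒᵖ A).obj (op (p + 1))).mapHomologicalComplex _).map f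
  τ₂ := (((evaluation ℤᵒᵖ A).obj (op p)).mapHomologicalComplex _).map f
  τ₃ := ((gr A p).mapHomologicalComplex _).map f
  comm₁₂ := NatTrans.mapHomologicalComplex_naturality (stepNat (A := A) p) f
  comm₂₃ := NatTrans.mapHomologicalComplex_naturality (grπNat (A := A) p) f

theorem quasiIso_gr_of_level {M K : CochainComplex (ℤᵒᵖ ⥤ A) ℤ} (f : M ⟶ K) (p : ℤ)
    (hM : ∀ n, Mono ((M.X n).map (stepHom p))) (hK : ∀ n, Mono ((K.X n).map (stepHom p)))
    (h1 : QuasiIso ((((evaluation ℤᵒᵖ A).obj (op (p + 1))).mapHomologicalComplex _).map f))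
    (h2 : QuasiIso ((((evaluation ℤᵒᵖ A).obj (op p)).mapHomologicalComplex _).map f)) :
    QuasiIso (((gr A p).mapHomologicalComplex _).map f) :=
  HomologicalComplex.HomologySequence.quasiIso_τ₃ (grSCMap f p) (grSC_shortExact M p hM)
    (grSC_shortExact K p hK) h1 h2

/-- Exactness of a complex of functors can be checked levelwise. -/
theorem exactAt_of_level (K : CochainComplex (ℤᵒᵖ ⥤ A) ℤ) (i : ℤ)
    (h : ∀ t : ℤᵒᵖ, ((((evaluation ℤᵒᵖ A).obj t).mapHomologicalComplex _).obj K).ExactAt i) :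
    K.ExactAt i := by
  rw [HomologicalComplex.exactAt_iff, ShortComplex.exact_iff_isZero_homology,
    Functor.isZero_iff]
  intro t
  have h1 := h t
  rw [HomologicalComplex.exactAt_iff, ShortComplex.exact_iff_isZero_homology] at h1
  exact IsZero.of_iso h1 ((K.sc i).mapHomologyIso ((evaluation ℤᵒᵖ A).obj t)).symm


/-- The underlying complex of functors of a complex of finite filtered objects. -/
noncomputable abbrev toB (K : CochainComplex (FilF A) ℤ) : CochainComplex (ℤᵒᵖ ⥤ A) ℤ :=
  ((IsFinFil A).ι.mapHomologicalComplex _).obj K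

theorem mono_step_toB (K : CochainComplex (FilF A) ℤ) (p n : ℤ) :
    Mono (((toB K).X n).map (stepHom p)) := (K.X n).property.1 _

/-- Levelwise vanishing of homology from vanishing of the homology of graded pieces. -/
theorem level_homology_isZero (K : CochainComplex (FilF A) ℤ) (n : ℤ)
    (hK : ∀ p : ℤ, IsZero (((grCx p).obj K).homology n)) (q : ℤ) :
    IsZero (((((evaluation ℤᵒᵖ A).obj (op q)).mapHomologicalComplex _).obj (toB K)).homology n) := by
  obtain ⟨b, hb⟩ := (K.X n).property.2.1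
  refine int_desc_induction (P := fun q => IsZero (((((evaluation ℤᵒᵖ A).obj
    (op q)).mapHomologicalComplex _).obj (toB K)).homology n)) b ?_ ?_ q
  · intro q hq
    rw [← HomologicalComplex.exactAt_iff_isZero_homology]
    exact HomologicalComplex.ExactAt.of_isZero (hb q hq)
  · intro q ih
    have hS := grSC_shortExact (toB K) q (fun m => mono_step_toB K q m)
    have hex := hS.homology_exact₂ n
    have h3 : IsZero ((grSC (toB K) q).X₃.homology n) := hK q
    exact hex.isZero_X₂ (ih.eq_of_src _ _) (h3.eq_of_tgt _ _)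

/-- Lift a complex of functors with finite filtered terms to a complex of finite filtered objects. -/
noncomputable def liftCx (M : CochainComplex (ℤᵒᵖ ⥤ A) ℤ) (hM : ∀ n, IsFinFil A (M.X n)) :
    CochainComplex (FilF A) ℤ where
  X n := ⟨M.X n, hM n⟩
  d i j := ObjectProperty.homMk (M.d i j)
  shape i j h := by
    apply ObjectProperty.hom_ext
    exact M.shape i j h
  d_comp_d' i j k _ _ := by
    apply ObjectProperty.hom_ext
    exact M.d_comp_d i j k

/-- Morphism out of a lifted complex. -/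
noncomputable def liftHomFrom (M : CochainComplex (ℤᵒᵖ ⥤ A) ℤ) (hM : ∀ n, IsFinFil A (M.X n))
    (K : CochainComplex (FilF A) ℤ) (f : M ⟶ toB K) : liftCx M hM ⟶ K where
  f n := ObjectProperty.homMk (f.f n)
  comm' i j _ := by
    apply ObjectProperty.hom_ext
    exact f.comm i j

/-- Morphism into a lifted complex. -/
noncomputable def liftHomTo (M : CochainComplex (ℤᵒᵖ ⥤ A) ℤ) (hM : ∀ n, IsFinFil A (M.X n))
    (K : CochainComplex (FilF A) ℤ) (f : toB K ⟶ M) : K ⟶ liftCx M hM where
  f n := ObjectProperty.homMk (f.f n)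
  comm' i j _ := by
    apply ObjectProperty.hom_ext
    exact f.comm i j

theorem isZero_of_isZero_obj (X : FilF A) (h : IsZero X.obj) : IsZero X := by
  rw [IsZero.iff_id_eq_zero]
  apply ObjectProperty.hom_ext
  exact (IsZero.iff_id_eq_zero _).1 h

section Cokernel

variable {W Z : FilF A} (u : W ⟶ Z)

/-- The short complex `W ⟶ Z ⟶ Coker u` of functors. -/
noncomputable abbrev cokerSC : ShortComplex (ℤᵒᵖ ⥤ A) :=
  ShortComplex.mk u.hom (cokernel.π u.hom) (cokernel.condition u.hom)

theorem cokerSC_level_exact (P : ℤᵒᵖ) :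
    ((cokerSC u).map ((evaluation ℤᵒᵖ A).obj P)).Exact :=
  (ShortComplex.exact_cokernel u.hom).map_of_epi_of_preservesCokernel _ inferInstance inferInstance

instance epi_cokernel_π_app (P : ℤᵒᵖ) : Epi ((cokernel.π u.hom).app P) :=
  inferInstanceAs (Epi (((evaluation ℤᵒᵖ A).obj P).map (cokernel.π u.hom)))

theorem exists_lift_of_comp_cokernel_π_eq_zero (P : ℤᵒᵖ) {T : A} (z : T ⟶ Z.obj.obj P)
    (hz : z ≫ (cokernel.π u.hom).app P = 0) :
    ∃ (T' : A) (π : T' ⟶ T) (_ : Epi π) (w : T' ⟶ W.obj.obj P), π ≫ z = w ≫ u.hom.app P :=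
  (cokerSC_level_exact u P).exact_up_to_refinements z hz

theorem isFinFil_cokernel (hu : IsStrict u) : IsFinFil A (cokernel u.hom) := by
  rw [isStrict_iff] at hu
  have hmono : ∀ ⦃P Q : ℤᵒᵖ⦄ (f : P ⟶ Q), Mono ((cokernel u.hom).map f) := by
    intro P Q f
    have hle : Q.unop ≤ P.unop := leOfHom f.unop
    apply Preadditive.mono_of_cancel_zero
    intro T x hx
    obtain ⟨T₁, π₁, hπ₁, z, hz⟩ :=
      surjective_up_to_refinements_of_epi ((cokernel.π u.hom).app P) x
    have h1 : (z ≫ Z.obj.map f) ≫ (cokernel.π u.hom).app Q = 0 := by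
      rw [Category.assoc, (cokernel.π u.hom).naturality f, ← Category.assoc, ← hz,
        Category.assoc, hx, comp_zero]
    obtain ⟨T₂, π₂, hπ₂, w, hw⟩ := exists_lift_of_comp_cokernel_π_eq_zero u Q _ h1
    obtain ⟨T₃, π₃, hπ₃, x', hx'⟩ := hu Q.unop P.unop hle w (π₂ ≫ z) (by
      rw [← hw, Category.assoc, tr_eq_map Z.obj hle f])
    have h2 : (π₃ ≫ π₂ ≫ π₁) ≫ x = 0 := by
      have hc : u.hom.app P ≫ (cokernel.π u.hom).app P = 0 := by
        rw [← NatTrans.comp_app, cokernel.condition]
        rfl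
      have hx'' : x' ≫ u.hom.app P = π₃ ≫ π₂ ≫ z := hx'
      rw [Category.assoc, Category.assoc, hz, ← Category.assoc π₂, ← Category.assoc π₃, ← hx'',
        Category.assoc, hc, comp_zero]
    rwa [← cancel_epi (π₃ ≫ π₂ ≫ π₁), comp_zero]
  refine ⟨hmono, ?_, ?_⟩
  · obtain ⟨b, hb⟩ := Z.property.2.1
    exact ⟨b, fun p hp => IsZero.of_epi ((cokernel.π u.hom).app (op p)) (hb p hp)⟩
  · obtain ⟨a, ha⟩ := Z.property.2.2
    refine ⟨a, fun P Q f hP => ?_⟩
    have hZ : IsIso (Z.obj.map f) := ha f hP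
    have := hmono f
    have e : Z.obj.map f ≫ (cokernel.π u.hom).app Q =
        (cokernel.π u.hom).app P ≫ (cokernel u.hom).map f := (cokernel.π u.hom).naturality f
    have : Epi ((cokernel.π u.hom).app P ≫ (cokernel u.hom).map f) := by
      rw [← e]
      infer_instance
    have : Epi ((cokernel u.hom).map f) := epi_of_epi ((cokernel.π u.hom).app P) _
    exact isIso_of_mono_of_epi _

end Cokernel

end Groth.Agent.Lib.Helper21.FilD
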