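import Mathlib
import Groth.Agent.Lib.Helper21FilD7

/-!
# Helper21: filtered injective resolutions of bounded below complexes of finite filtered objects
-/

set_option autoImplicit false
universe w v u

open CategoryTheory CategoryTheory.Limits Opposite

namespace Groth.Agent.Lib.Helper21.FilD

open _root_.FilD

section AscS

/-- Ascending recursion over `ℤ`, successor form. -/
noncomputable def ascFamilyS {St : ℤ → Type w} (a : ℤ) (zero : ∀ n, n < a → St n)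
    (step : ∀ n, St n → St (n + 1)) : ∀ n, St n
  | n => if hn : n < a then zero n hn else
      cast (by rw [sub_add_cancel]) (step (n - 1) (ascFamilyS a zero step (n - 1)))
termination_by n => (n + 1 - a).toNat
decreasing_by omega

theorem cast_step_eq {St : ℤ → Type w} (F : ∀ n, St n) (step : ∀ n, St n → St (n + 1))
    (m n : ℤ) (hm : m = n) (h : St (m + 1) = St (n + 1)) :
    cast h (step m (F m)) = step n (F n) := by
  subst hm
  rfl

theorem ascFamilyS_succ {St : ℤ → Type w} (a : ℤ) (zero : ∀ n, n < a → St n)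
    (step : ∀ n, St n → St (n + 1)) (n : ℤ) (hn : ¬ n + 1 < a) :
    ascFamilyS a zero step (n + 1) = step n (ascFamilyS a zero step n) := by
  rw [ascFamilyS, dif_neg hn]
  exact cast_step_eq (ascFamilyS a zero step) step (n + 1 - 1) n (by omega) _

theorem exists_asc_family_succ {St : ℤ → Type w} (R : ∀ n, St n → St (n + 1) → Prop) (a : ℤ)
    (zero : ∀ n, n < a → St n)
    (hzero : ∀ n (hn : n + 1 < a), R n (zero n (by omega)) (zero (n + 1) hn))
    (hstep : ∀ n (s : St n), ∃ s' : St (n + 1), R n s s') :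
    ∃ H : ∀ n, St n, (∀ n, R n (H n) (H (n + 1))) ∧ ∀ n (hn : n < a), H n = zero n hn := by
  have hz : ∀ n (hn : n < a),
      ascFamilyS a zero (fun n s => Classical.choose (hstep n s)) n = zero n hn := by
    intro n hn
    rw [ascFamilyS, dif_pos hn]
  refine ⟨ascFamilyS a zero (fun n s => Classical.choose (hstep n s)), fun n => ?_, hz⟩
  by_cases hn : n + 1 < a
  · rw [hz (n + 1) hn, hz n (by omega)]
    exact hzero n hn
  · rw [ascFamilyS_succ a zero _ n hn]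
    exact Classical.choose_spec (hstep n _)

end AscS

section AbelianLemma

variable {C : Type u} [Category.{v} C] [Abelian C]

/-- Quasi-isomorphism criterion for the inductive construction of resolutions by pushouts. -/
theorem quasiIso_of_pushout_data {K I : CochainComplex C ℤ} (φ : K ⟶ I) (P : ℤ → C)
    (k : ∀ n, K.X n ⟶ P n) (e : ∀ n, P n ⟶ K.X (n + 1)) (i : ∀ n, P n ⟶ I.X n)
    (u : ∀ n, I.X n ⟶ P (n + 1))
    (H1 : ∀ n, φ.f n = k n ≫ i n) (H2 : ∀ n, I.d n (n + 1) = u n ≫ i (n + 1))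
    (H3 : ∀ n, k n ≫ e n = K.d n (n + 1)) (H4 : ∀ n, u n ≫ e (n + 1) = 0)
    (H6 : ∀ n, Mono (i n))
    (E2 : ∀ n ⦃T : C⦄ (z : T ⟶ P (n + 1)), ∃ (T' : C) (π : T' ⟶ T) (_ : Epi π)
      (y : T' ⟶ I.X n) (x : T' ⟶ K.X (n + 1)), π ≫ z = y ≫ u n + x ≫ k (n + 1))
    (E3 : ∀ n ⦃T : C⦄ (y : T ⟶ I.X n) (x : T ⟶ K.X (n + 1)), y ≫ u n + x ≫ k (n + 1) = 0 →
      ∃ (T' : C) (π : T' ⟶ T) (_ : Epi π) (z : T' ⟶ P n),
        π ≫ y = z ≫ i n ∧ π ≫ x = -(z ≫ e n)) :
    QuasiIso φ := by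
  rw [quasiIso_iff]
  intro j
  rw [quasiIsoAt_iff_isIso_homologyMap]
  have hmono : Mono (HomologicalComplex.homologyMap φ j) := by
    obtain ⟨m, rfl⟩ : ∃ m, j = m + 1 + 1 := ⟨j - 2, by omega⟩
    rw [HomologicalComplex.mono_homologyMap_iff_up_to_refinements φ (m + 1) (m + 1 + 1)
      (m + 1 + 1 + 1) (by simp) (by simp)]
    intro T x₂ _ y₁ hxy
    have := H6 (m + 1 + 1)
    have h1 : (-y₁) ≫ u (m + 1) + x₂ ≫ k (m + 1 + 1) = 0 := by
      rw [← cancel_mono (i (m + 1 + 1)), zero_comp]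
      simp only [Preadditive.add_comp, Preadditive.neg_comp, Category.assoc]
      rw [← H2, ← H1, hxy]
      exact neg_add_cancel _
    obtain ⟨T₁, π₁, hπ₁, z, hz1, hz2⟩ := E3 (m + 1) (-y₁) x₂ h1
    obtain ⟨T₂, π₂, hπ₂, y', x, hyx⟩ := E2 m z
    refine ⟨T₂, π₂ ≫ π₁, inferInstance, -x, ?_⟩
    rw [Category.assoc, hz2, Preadditive.comp_neg, ← Category.assoc, hyx, Preadditive.add_comp,
      Category.assoc, H4, comp_zero, zero_add, Category.assoc, H3, Preadditive.neg_comp]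
  have hepi : Epi (HomologicalComplex.homologyMap φ j) := by
    obtain ⟨m, rfl⟩ : ∃ m, j = m + 1 := ⟨j - 1, by omega⟩
    rw [HomologicalComplex.epi_homologyMap_iff_up_to_refinements φ m (m + 1)
      (m + 1 + 1) (by simp) (by simp)]
    intro T y₂ hy₂
    have := H6 (m + 1 + 1)
    have h1 : y₂ ≫ u (m + 1) + (0 : T ⟶ K.X (m + 1 + 1)) ≫ k (m + 1 + 1) = 0 := by
      rw [zero_comp, add_zero, ← cancel_mono (i (m + 1 + 1)), zero_comp, Category.assoc, ← H2,
        hy₂]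
    obtain ⟨T₁, π₁, hπ₁, z, hz1, hz2⟩ := E3 (m + 1) y₂ 0 h1
    have hz3 : z ≫ e (m + 1) = 0 := by
      rw [comp_zero] at hz2
      exact neg_eq_zero.1 hz2.symm
    obtain ⟨T₂, π₂, hπ₂, y', x, hyx⟩ := E2 m z
    have hx : x ≫ K.d (m + 1) (m + 1 + 1) = 0 := by
      have h2 : x ≫ k (m + 1) = π₂ ≫ z - y' ≫ u m := by rw [hyx]; abel
      rw [← H3, ← Category.assoc, h2, Preadditive.sub_comp, Category.assoc, hz3, comp_zero,
        Category.assoc, H4, comp_zero, sub_self]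
    refine ⟨T₂, π₂ ≫ π₁, inferInstance, x, hx, y', ?_⟩
    rw [Category.assoc, hz1, ← Category.assoc, hyx, Preadditive.add_comp, Category.assoc,
      Category.assoc, ← H2, ← H1]
    exact add_comm _ _
  exact isIso_of_mono_of_epi _

end AbelianLemma


variable {A : Type u} [Category.{v} A] [Abelian A]

/-- Strictness in terms of arbitrary morphisms of `ℤᵒᵖ`. -/
theorem isStrict_iff' {X Y : FilF A} (φ : X ⟶ Y) :
    IsStrict φ ↔ ∀ ⦃Q₁ Q₂ : ℤᵒᵖ⦄ (f : Q₁ ⟶ Q₂) ⦃T : A⦄ (x : T ⟶ X.obj.obj Q₂)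
      (y : T ⟶ Y.obj.obj Q₁), x ≫ φ.hom.app Q₂ = y ≫ Y.obj.map f →
      ∃ (T' : A) (π : T' ⟶ T) (_ : Epi π) (x' : T' ⟶ X.obj.obj Q₁),
        x' ≫ φ.hom.app Q₁ = π ≫ y := by
  rw [isStrict_iff]
  constructor
  · intro h Q₁ Q₂ f T x y hxy
    have hle : Q₂.unop ≤ Q₁.unop := leOfHom f.unop
    exact h Q₂.unop Q₁.unop hle x y (by rw [hxy, tr_eq_map Y.obj hle f])
  · intro h p q hle T x y hxy
    exact h (homOfLE hle).op x y hxy

theorem isStrict_of_isZero_tgt {X Y : FilF A} (φ : X ⟶ Y) (hY : ∀ Q : ℤᵒᵖ, IsZero (Y.obj.obj Q)) :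
    IsStrict φ := by
  rw [isStrict_iff']
  intro Q₁ Q₂ f T x y _
  exact ⟨T, 𝟙 T, inferInstance, 0, (hY Q₁).eq_of_tgt _ _⟩

/-- Composition of strict morphisms, the second one being a monomorphism. -/
theorem isStrict_comp_of_mono {X Y Z : FilF A} (f : X ⟶ Y) (g : Y ⟶ Z) (hf : IsStrict f)
    (hg : IsStrict g) [Mono g] : IsStrict (f ≫ g) := by
  rw [isStrict_iff'] at hf hg ⊢
  intro Q₁ Q₂ t T x z hxz
  have hgm : Mono (g.hom.app Q₂) := mono_app_of_mono g Q₂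
  have h1 : (x ≫ f.hom.app Q₂) ≫ g.hom.app Q₂ = z ≫ Z.obj.map t := by
    rw [Category.assoc]
    exact hxz
  obtain ⟨T₁, π₁, hπ₁, y', hy'⟩ := hg t _ _ h1
  have h2 : (π₁ ≫ x) ≫ f.hom.app Q₂ = y' ≫ Y.obj.map t := by
    rw [← cancel_mono (g.hom.app Q₂), Category.assoc, Category.assoc, Category.assoc,
      g.hom.naturality t, ← Category.assoc y', hy', Category.assoc, ← h1, Category.assoc]
  obtain ⟨T₂, π₂, hπ₂, x', hx'⟩ := hf t _ _ h2
  refine ⟨T₂, π₂ ≫ π₁, inferInstance, x', ?_⟩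
  have : (f ≫ g).hom.app Q₁ = f.hom.app Q₁ ≫ g.hom.app Q₁ := rfl
  rw [this, ← Category.assoc, hx', Category.assoc, hy', Category.assoc]

theorem mono_of_mono_app {X Y : FilF A} (φ : X ⟶ Y) (h : ∀ Q : ℤᵒᵖ, Mono (φ.hom.app Q)) :
    Mono φ := by
  have : Mono ((IsFinFil A).ι.map φ) := NatTrans.mono_of_mono_app φ.hom
  exact (IsFinFil A).ι.mono_of_mono_map this

section PushoutStep

variable {P I Kn : FilF A} (i : P ⟶ I) (e : P ⟶ Kn) (F : ℤᵒᵖ ⥤ A) (u : I.obj ⟶ F)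
  (k : Kn.obj ⟶ F)

/-- Levelwise surjectivity of `I ⊕ Kn ⟶ F`. -/
def PoL2 : Prop := ∀ (Q : ℤᵒᵖ) ⦃T : A⦄ (c : T ⟶ F.obj Q), ∃ (T' : A) (π : T' ⟶ T) (_ : Epi π)
  (y : T' ⟶ I.obj.obj Q) (x : T' ⟶ Kn.obj.obj Q), π ≫ c = y ≫ u.app Q + x ≫ k.app Q

/-- Levelwise exactness of `P ⟶ I ⊕ Kn ⟶ F`. -/
def PoL3 : Prop := ∀ (Q : ℤᵒᵖ) ⦃T : A⦄ (y : T ⟶ I.obj.obj Q) (x : T ⟶ Kn.obj.obj Q),
  y ≫ u.app Q + x ≫ k.app Q = 0 → ∃ (T' : A) (π : T' ⟶ T) (_ : Epi π) (z : T' ⟶ P.obj.obj Q),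
    π ≫ y = z ≫ i.hom.app Q ∧ π ≫ x = -(z ≫ e.hom.app Q)

variable {i e F u k}

theorem isFinFil_of_po [Mono i] (hi : IsStrict i) (hsq : i.hom ≫ u = e.hom ≫ k)
    (h2 : PoL2 (I := I) (Kn := Kn) F u k) (h3 : PoL3 i e F u k) : IsFinFil A F := by
  rw [isStrict_iff'] at hi
  have hsq' : ∀ Q : ℤᵒᵖ, i.hom.app Q ≫ u.app Q = e.hom.app Q ≫ k.app Q := fun Q => by
    rw [← NatTrans.comp_app, hsq, NatTrans.comp_app]
  have hmono : ∀ ⦃Q₁ Q₂ : ℤᵒᵖ⦄ (f : Q₁ ⟶ Q₂), Mono (F.map f) := by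
    intro Q₁ Q₂ f
    apply Preadditive.mono_of_cancel_zero
    intro T c hc
    obtain ⟨T₁, π₁, hπ₁, y, x, hyx⟩ := h2 Q₁ c
    have h1 : (y ≫ I.obj.map f) ≫ u.app Q₂ + (x ≫ Kn.obj.map f) ≫ k.app Q₂ = 0 := by
      rw [Category.assoc, Category.assoc, u.naturality f, k.naturality f, ← Category.assoc,
        ← Category.assoc, ← Preadditive.add_comp, ← hyx, Category.assoc, hc, comp_zero]
    obtain ⟨T₂, π₂, hπ₂, z, hz1, hz2⟩ := h3 Q₂ _ _ h1
    obtain ⟨T₃, π₃, hπ₃, z', hz'⟩ := hi f z (π₂ ≫ y) (by rw [← hz1, Category.assoc])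
    have hmonoI : Mono (i.hom.app Q₂) := mono_app_of_mono i Q₂
    have hmonoK : Mono (Kn.obj.map f) := Kn.property.1 f
    have hz'' : z' ≫ P.obj.map f = π₃ ≫ z := by
      rw [← cancel_mono (i.hom.app Q₂), Category.assoc, i.hom.naturality f, ← Category.assoc,
        hz', Category.assoc, Category.assoc, Category.assoc, ← hz1]
    have hx : π₃ ≫ π₂ ≫ x = -(z' ≫ e.hom.app Q₁) := by
      rw [← cancel_mono (Kn.obj.map f), Preadditive.neg_comp, Category.assoc, Category.assoc,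
        Category.assoc, ← e.hom.naturality f, ← Category.assoc z', hz'', hz2,
        Preadditive.comp_neg, Category.assoc]
    have h4 : (π₃ ≫ π₂ ≫ π₁) ≫ c = 0 := by
      rw [Category.assoc, Category.assoc, hyx, Preadditive.comp_add, Preadditive.comp_add,
        ← Category.assoc π₂, ← Category.assoc π₃, ← hz', ← Category.assoc π₂ x,
        ← Category.assoc π₃ (π₂ ≫ x), hx, Category.assoc, hsq' Q₁, Preadditive.neg_comp,
        Category.assoc]
      exact add_neg_cancel _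
    rwa [← cancel_epi (π₃ ≫ π₂ ≫ π₁), comp_zero]
  refine ⟨hmono, ?_, ?_⟩
  · obtain ⟨b₁, hb₁⟩ := I.property.2.1
    obtain ⟨b₂, hb₂⟩ := Kn.property.2.1
    refine ⟨max b₁ b₂, fun p hp => ?_⟩
    rw [IsZero.iff_id_eq_zero]
    obtain ⟨T₁, π₁, hπ₁, y, x, hyx⟩ := h2 (op p) (𝟙 (F.obj (op p)))
    rw [(hb₁ p (le_trans (le_max_left _ _) hp)).eq_of_tgt y 0,
      (hb₂ p (le_trans (le_max_right _ _) hp)).eq_of_tgt x 0, zero_comp, zero_comp,
      add_zero] at hyx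
    rwa [← cancel_epi π₁, comp_zero]
  · obtain ⟨a₁, h₁⟩ := I.property.2.2
    obtain ⟨a₂, h₂⟩ := Kn.property.2.2
    refine ⟨min a₁ a₂, fun Q₁ Q₂ f hQ => ?_⟩
    have hI : IsIso (I.obj.map f) := h₁ f (le_trans hQ (min_le_left _ _))
    have hK : IsIso (Kn.obj.map f) := h₂ f (le_trans hQ (min_le_right _ _))
    have := hmono f
    have : Epi (F.map f) := by
      rw [epi_iff_surjective_up_to_refinements]
      intro T c
      obtain ⟨T₁, π₁, hπ₁, y, x, hyx⟩ := h2 Q₂ c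
      refine ⟨T₁, π₁, hπ₁, (y ≫ inv (I.obj.map f)) ≫ u.app Q₁ +
        (x ≫ inv (Kn.obj.map f)) ≫ k.app Q₁, ?_⟩
      rw [hyx, Preadditive.add_comp, Category.assoc, Category.assoc, ← u.naturality f,
        Category.assoc, Category.assoc, ← k.naturality f, IsIso.inv_hom_id_assoc,
        IsIso.inv_hom_id_assoc]
    exact isIso_of_mono_of_epi _

theorem mono_app_of_po [Mono i] (h3 : PoL3 i e F u k) (Q : ℤᵒᵖ) : Mono (k.app Q) := by
  apply Preadditive.mono_of_cancel_zero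
  intro T x hx
  have hmonoI : Mono (i.hom.app Q) := mono_app_of_mono i Q
  obtain ⟨T₁, π₁, hπ₁, z, hz1, hz2⟩ := h3 Q (0 : T ⟶ I.obj.obj Q) x (by rw [zero_comp, zero_add, hx])
  have hz : z = 0 := by
    rw [← cancel_mono (i.hom.app Q), zero_comp, ← hz1, comp_zero]
  rw [hz, zero_comp, neg_zero] at hz2
  rwa [← cancel_epi π₁, comp_zero]

theorem isStrict_of_po [Mono i] (hi : IsStrict i) (hsq : i.hom ≫ u = e.hom ≫ k)
    (h2 : PoL2 (I := I) (Kn := Kn) F u k) (h3 : PoL3 i e F u k) (hF : IsFinFil A F) :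
    IsStrict (ObjectProperty.homMk k : Kn ⟶ (⟨F, hF⟩ : FilF A)) := by
  rw [isStrict_iff'] at hi ⊢
  have hsq' : ∀ Q : ℤᵒᵖ, i.hom.app Q ≫ u.app Q = e.hom.app Q ≫ k.app Q := fun Q => by
    rw [← NatTrans.comp_app, hsq, NatTrans.comp_app]
  intro Q₁ Q₂ f T x c hxc
  have hxc' : x ≫ k.app Q₂ = c ≫ F.map f := hxc
  obtain ⟨T₁, π₁, hπ₁, y1, x1, hyx⟩ := h2 Q₁ c
  have h1 : (-(y1 ≫ I.obj.map f)) ≫ u.app Q₂ + (π₁ ≫ x - x1 ≫ Kn.obj.map f) ≫ k.app Q₂ = 0 := by
    rw [Preadditive.neg_comp, Preadditive.sub_comp, Category.assoc, Category.assoc,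
      Category.assoc, hxc', ← Category.assoc π₁, hyx, Preadditive.add_comp, Category.assoc,
      Category.assoc, u.naturality f, k.naturality f]
    abel
  obtain ⟨T₂, π₂, hπ₂, z, hz1, hz2⟩ := h3 Q₂ _ _ h1
  obtain ⟨T₃, π₃, hπ₃, z', hz'⟩ := hi f (-z) (π₂ ≫ y1) (by
    rw [Preadditive.neg_comp, ← hz1, Preadditive.comp_neg, neg_neg, Category.assoc])
  refine ⟨T₃, π₃ ≫ π₂ ≫ π₁, inferInstance, π₃ ≫ π₂ ≫ x1 + z' ≫ e.hom.app Q₁, ?_⟩
  show (π₃ ≫ π₂ ≫ x1 + z' ≫ e.hom.app Q₁) ≫ k.app Q₁ = (π₃ ≫ π₂ ≫ π₁) ≫ c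
  rw [Category.assoc, Category.assoc, hyx, Preadditive.comp_add, Preadditive.comp_add,
    ← Category.assoc π₂ y1, ← Category.assoc π₃ (π₂ ≫ y1), ← hz', Category.assoc z', hsq' Q₁,
    Preadditive.add_comp]
  simp only [Category.assoc]
  exact add_comm _ _

end PushoutStep


section GrLevel

variable {P I Kn : FilF A} {i : P ⟶ I} {e : P ⟶ Kn} {F : ℤᵒᵖ ⥤ A} {u : I.obj ⟶ F}
  {k : Kn.obj ⟶ F}

theorem mono_gr_map_of_strict_mono (i : P ⟶ I) [Mono i] (hi : IsStrict i) (p : ℤ) :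
    Mono ((grF A p).map i) := by
  rw [isStrict_iff'] at hi
  apply Preadditive.mono_of_cancel_zero
  intro T xb hxb
  have hxb' : xb ≫ (gr A p).map i.hom = 0 := hxb
  obtain ⟨T₁, π₁, hπ₁, x, hx⟩ := surjective_up_to_refinements_of_epi (grπ P.obj p) xb
  have h1 : (x ≫ i.hom.app (op p)) ≫ grπ I.obj p = 0 := by
    rw [Category.assoc, ← grπ_map, ← Category.assoc, ← hx, Category.assoc, hxb', comp_zero]
  obtain ⟨T₂, π₂, hπ₂, y, hy⟩ := exists_lift_of_comp_grπ_eq_zero I.obj p _ h1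
  obtain ⟨T₃, π₃, hπ₃, x', hx'⟩ := hi (stepHom p) (π₂ ≫ x) y (by rw [Category.assoc, hy])
  have hmonoI : Mono (i.hom.app (op p)) := mono_app_of_mono i (op p)
  have h2 : x' ≫ P.obj.map (stepHom p) = π₃ ≫ π₂ ≫ x := by
    rw [← cancel_mono (i.hom.app (op p)), Category.assoc, i.hom.naturality (stepHom p),
      ← Category.assoc, hx', Category.assoc, ← hy]
    simp only [Category.assoc]
  have h3 : (π₃ ≫ π₂ ≫ π₁) ≫ xb = 0 := by
    rw [Category.assoc, Category.assoc, hx, ← Category.assoc π₂, ← Category.assoc π₃, ← h2,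
      Category.assoc, step_grπ, comp_zero]
  rwa [← cancel_epi (π₃ ≫ π₂ ≫ π₁), comp_zero]

theorem gr_E2 (h2 : PoL2 (I := I) (Kn := Kn) F u k) (p : ℤ) ⦃T : A⦄ (z : T ⟶ (gr A p).obj F) :
    ∃ (T' : A) (π : T' ⟶ T) (_ : Epi π) (y : T' ⟶ (gr A p).obj I.obj)
      (x : T' ⟶ (gr A p).obj Kn.obj), π ≫ z = y ≫ (gr A p).map u + x ≫ (gr A p).map k := by
  obtain ⟨T₁, π₁, hπ₁, c, hc⟩ := surjective_up_to_refinements_of_epi (grπ F p) z
  obtain ⟨T₂, π₂, hπ₂, y, x, hyx⟩ := h2 (op p) c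
  refine ⟨T₂, π₂ ≫ π₁, inferInstance, y ≫ grπ I.obj p, x ≫ grπ Kn.obj p, ?_⟩
  rw [Category.assoc, hc, ← Category.assoc, hyx, Preadditive.add_comp, Category.assoc,
    Category.assoc, Category.assoc, Category.assoc, grπ_map, grπ_map]

theorem gr_E3 (h2 : PoL2 (I := I) (Kn := Kn) F u k) (h3 : PoL3 i e F u k) (p : ℤ) ⦃T : A⦄
    (yb : T ⟶ (gr A p).obj I.obj) (xb : T ⟶ (gr A p).obj Kn.obj)
    (hyx : yb ≫ (gr A p).map u + xb ≫ (gr A p).map k = 0) :
    ∃ (T' : A) (π : T' ⟶ T) (_ : Epi π) (zb : T' ⟶ (gr A p).obj P.obj),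
      π ≫ yb = zb ≫ (gr A p).map i.hom ∧ π ≫ xb = -(zb ≫ (gr A p).map e.hom) := by
  obtain ⟨T₁, π₁, hπ₁, y, hy⟩ := surjective_up_to_refinements_of_epi (grπ I.obj p) yb
  obtain ⟨T₂, π₂, hπ₂, x, hx⟩ := surjective_up_to_refinements_of_epi (grπ Kn.obj p) (π₁ ≫ xb)
  have h1 : ((π₂ ≫ y) ≫ u.app (op p) + x ≫ k.app (op p)) ≫ grπ F p = 0 := by
    rw [Preadditive.add_comp, Category.assoc, Category.assoc, Category.assoc, ← grπ_map,
      ← grπ_map, ← Category.assoc y, ← hy, ← Category.assoc x, ← hx]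
    simp only [Category.assoc]
    rw [← Preadditive.comp_add, ← Preadditive.comp_add, hyx, comp_zero, comp_zero]
  obtain ⟨T₃, π₃, hπ₃, c, hc⟩ := exists_lift_of_comp_grπ_eq_zero F p _ h1
  obtain ⟨T₄, π₄, hπ₄, y1, x1, hyx1⟩ := h2 (op (p + 1)) c
  have h4 : (π₄ ≫ π₃ ≫ π₂ ≫ y - y1 ≫ I.obj.map (stepHom p)) ≫ u.app (op p) +
      (π₄ ≫ π₃ ≫ x - x1 ≫ Kn.obj.map (stepHom p)) ≫ k.app (op p) = 0 := by
    have e1 : π₄ ≫ π₃ ≫ ((π₂ ≫ y) ≫ u.app (op p) + x ≫ k.app (op p)) =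
        (y1 ≫ u.app (op (p + 1)) + x1 ≫ k.app (op (p + 1))) ≫ F.map (stepHom p) := by
      rw [hc, ← Category.assoc, hyx1]
    simp only [Preadditive.add_comp, Preadditive.comp_add, Category.assoc] at e1
    rw [← u.naturality (stepHom p), ← k.naturality (stepHom p)] at e1
    simp only [Preadditive.sub_comp, Category.assoc]
    rw [← sub_eq_zero] at e1
    rw [← e1]
    abel
  obtain ⟨T₅, π₅, hπ₅, z, hz1, hz2⟩ := h3 (op p) _ _ h4
  refine ⟨T₅, π₅ ≫ π₄ ≫ π₃ ≫ π₂ ≫ π₁, inferInstance, z ≫ grπ P.obj p, ?_, ?_⟩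
  · have := congrArg (fun t => t ≫ grπ I.obj p) hz1
    simp only [Category.assoc, Preadditive.sub_comp, Preadditive.comp_sub, step_grπ, comp_zero,
      sub_zero] at this
    simp only [Category.assoc]
    rw [hy, this, grπ_map]
  · have := congrArg (fun t => t ≫ grπ Kn.obj p) hz2
    simp only [Category.assoc, Preadditive.sub_comp, Preadditive.comp_sub, step_grπ, comp_zero,
      sub_zero, Preadditive.neg_comp] at this
    simp only [Category.assoc]
    rw [hx, this, grπ_map]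

end GrLevel


theorem isZero_level_of_isZero (X : FilF A) (h : IsZero X) (Q : ℤᵒᵖ) : IsZero (X.obj.obj Q) :=
  (Functor.isZero_iff _).1 ((IsFinFil A).ι.map_isZero h) Q

section Resolution

open ZeroObject

variable (K : CochainComplex (FilF A) ℤ)

/-- State of the inductive construction of a filtered injective resolution. -/
structure ResSt (n : ℤ) where
  P : FilF A
  I : FilF A
  k : K.X n ⟶ P
  e : P ⟶ K.X (n + 1)
  i : P ⟶ I
  hk : k ≫ e = K.d n (n + 1)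
  he : e ≫ K.d (n + 1) (n + 1 + 1) = 0
  k_mono : Mono k
  k_strict : IsStrict k
  i_mono : Mono i
  i_strict : IsStrict i
  inj : IsFilteredInjective I

/-- Compatibility relation between consecutive states. -/
def ResRel (n : ℤ) (s : ResSt K n) (s' : ResSt K (n + 1)) : Prop :=
  ∃ u : s.I ⟶ s'.P, s.i ≫ u = s.e ≫ s'.k ∧ u ≫ s'.e = 0 ∧
    PoL2 (I := s.I) (Kn := K.X (n + 1)) s'.P.obj u.hom s'.k.hom ∧
    PoL3 s.i s.e s'.P.obj u.hom s'.k.hom

theorem resStep [EnoughInjectives A] (n : ℤ) (s : ResSt K n) :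
    ∃ s' : ResSt K (n + 1), ResRel K n s s' := by
  have := s.i_mono
  let F : ℤᵒᵖ ⥤ A := pushout s.i.hom s.e.hom
  let u0 : s.I.obj ⟶ F := pushout.inl _ _
  let k0 : (K.X (n + 1)).obj ⟶ F := pushout.inr _ _
  have hpo : IsPushout s.i.hom s.e.hom u0 k0 := IsPushout.of_hasPushout _ _
  have hsq : s.i.hom ≫ u0 = s.e.hom ≫ k0 := pushout.condition
  have h2 : PoL2 (I := s.I) (Kn := K.X (n + 1)) F u0 k0 := by
    intro Q T c
    exact (hpo.map ((evaluation ℤᵒᵖ A).obj Q)).hom_eq_add_up_to_refinements c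
  have h3 : PoL3 s.i s.e F u0 k0 := by
    intro Q T y x hyx
    have hex := (hpo.map ((evaluation ℤᵒᵖ A).obj Q)).exact_shortComplex
    obtain ⟨T', π, hπ, z, hz⟩ : ∃ (T' : A) (π : T' ⟶ T) (_ : Epi π) (z : T' ⟶ s.P.obj.obj Q),
        π ≫ biprod.lift y x = z ≫ biprod.lift (s.i.hom.app Q) (-(s.e.hom.app Q)) :=
      hex.exact_up_to_refinements (biprod.lift y x) (by
        show biprod.lift y x ≫ biprod.desc (u0.app Q) (k0.app Q) = 0
        rw [biprod.lift_desc]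
        exact hyx)
    refine ⟨T', π, hπ, z, ?_, ?_⟩
    · have := congrArg (fun t => t ≫ biprod.fst) hz
      simpa using this
    · have := congrArg (fun t => t ≫ biprod.snd) hz
      simpa using this
  have hF : IsFinFil A F := isFinFil_of_po s.i_strict hsq h2 h3
  let P' : FilF A := ⟨F, hF⟩
  let u : s.I ⟶ P' := ObjectProperty.homMk u0
  let k' : K.X (n + 1) ⟶ P' := ObjectProperty.homMk k0
  have hk'mono : Mono k' := mono_of_mono_app k' (fun Q => mono_app_of_po h3 Q)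
  have hk'strict : IsStrict k' := isStrict_of_po s.i_strict hsq h2 h3 hF
  let e0 : F ⟶ (K.X (n + 1 + 1)).obj := pushout.desc 0 (K.d (n + 1) (n + 1 + 1)).hom (by
    rw [comp_zero]
    exact (congrArg (fun t => t.hom) s.he).symm)
  let e' : P' ⟶ K.X (n + 1 + 1) := ObjectProperty.homMk e0
  obtain ⟨I', i', hI', hi'mono, hi'strict⟩ := exists_strict_mono_into_filteredInjective P'
  refine ⟨{ P := P', I := I', k := k', e := e', i := i', hk := ?_, he := ?_, k_mono := hk'mono,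
            k_strict := hk'strict, i_mono := hi'mono, i_strict := hi'strict, inj := hI' },
    u, ?_, ?_, h2, h3⟩
  · apply ObjectProperty.hom_ext
    exact pushout.inr_desc _ _ _
  · apply ObjectProperty.hom_ext
    show e0 ≫ (K.d (n + 1 + 1) (n + 1 + 1 + 1)).hom = 0
    apply pushout.hom_ext
    · rw [← Category.assoc, pushout.inl_desc, zero_comp, comp_zero]
    · rw [← Category.assoc, pushout.inr_desc, comp_zero]
      exact congrArg (fun t => t.hom) (K.d_comp_d _ _ _)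
  · apply ObjectProperty.hom_ext
    exact hsq
  · apply ObjectProperty.hom_ext
    exact pushout.inl_desc _ _ _

/-- The zero state. -/
noncomputable def zeroSt (a : ℤ) [K.IsStrictlyGE a] (n : ℤ) (hn : n < a) : ResSt K n where
  P := 0
  I := 0
  k := 0
  e := 0
  i := 0
  hk := by
    rw [zero_comp]
    exact (K.isZero_of_isStrictlyGE a n hn).eq_of_src _ _
  he := zero_comp
  k_mono := ⟨fun f g _ => (K.isZero_of_isStrictlyGE a n hn).eq_of_tgt _ _⟩
  k_strict := isStrict_of_isZero_tgt _ (fun Q => isZero_level_of_isZero _ (isZero_zero _) Q)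
  i_mono := ⟨fun f g _ => (isZero_zero _).eq_of_tgt _ _⟩
  i_strict := isStrict_of_isZero_tgt _ (fun Q => isZero_level_of_isZero _ (isZero_zero _) Q)
  inj := fun p => IsZero.injective ((grF A p).map_isZero (isZero_zero _))

theorem zeroSt_rel (a : ℤ) [K.IsStrictlyGE a] (n : ℤ) (hn : n + 1 < a) :
    ResRel K n (zeroSt K a n (by omega)) (zeroSt K a (n + 1) hn) := by
  have hz : ∀ Q : ℤᵒᵖ, IsZero ((0 : FilF A).obj.obj Q) := fun Q =>
    isZero_level_of_isZero _ (isZero_zero _) Q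
  have hzK : ∀ Q : ℤᵒᵖ, IsZero ((K.X (n + 1)).obj.obj Q) := fun Q =>
    isZero_level_of_isZero _ (K.isZero_of_isStrictlyGE a (n + 1) hn) Q
  refine ⟨0, ?_, ?_, ?_, ?_⟩
  · exact (isZero_zero _).eq_of_src _ _
  · exact zero_comp
  · intro Q T c
    exact ⟨T, 𝟙 T, inferInstance, 0, 0, (hz Q).eq_of_tgt _ _⟩
  · intro Q T y x _
    exact ⟨T, 𝟙 T, inferInstance, 0, (hz Q).eq_of_tgt _ _, (hzK Q).eq_of_tgt _ _⟩

/-- Filtered injective resolutions of bounded below complexes, with the same bound. -/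
theorem exists_filteredInjective_resolution [EnoughInjectives A] (a : ℤ) [K.IsStrictlyGE a] :
    ∃ (I : CochainComplex (FilF A) ℤ) (φ : K ⟶ I), I.IsStrictlyGE a ∧
      (∀ n, IsFilteredInjective (I.X n)) ∧ IsFilteredQuasiIso φ ∧
      ∀ n, Mono (φ.f n) ∧ IsStrict (φ.f n) := by
  obtain ⟨H, hH, hHzero⟩ := exists_asc_family_succ (ResRel K) a (zeroSt K a)
    (zeroSt_rel K a) (resStep K)
  choose u hsq hue hL2 hL3 using hH
  let X : ℤ → FilF A := fun n => (H n).I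
  let d : ∀ n, X n ⟶ X (n + 1) := fun n => u n ≫ (H (n + 1)).i
  have sq : ∀ n, d n ≫ d (n + 1) = 0 := by
    intro n
    show (u n ≫ (H (n + 1)).i) ≫ (u (n + 1) ≫ (H (n + 1 + 1)).i) = 0
    rw [Category.assoc, ← Category.assoc (H (n + 1)).i, hsq (n + 1), Category.assoc,
      ← Category.assoc (u n), hue n, zero_comp]
  let I : CochainComplex (FilF A) ℤ := CochainComplex.of X d sq
  have hId : ∀ n, I.d n (n + 1) = u n ≫ (H (n + 1)).i := fun n => CochainComplex.of_d X d n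
  let φ : K ⟶ I :=
    { f := fun n => (H n).k ≫ (H n).i
      comm' := by
        intro m j hmj
        obtain rfl : m + 1 = j := hmj
        rw [hId]
        show ((H m).k ≫ (H m).i) ≫ (u m ≫ (H (m + 1)).i) =
          K.d m (m + 1) ≫ ((H (m + 1)).k ≫ (H (m + 1)).i)
        rw [Category.assoc, ← Category.assoc (H m).i, hsq m, Category.assoc,
          ← Category.assoc (H m).k, (H m).hk] }
  have hφ : ∀ n, φ.f n = (H n).k ≫ (H n).i := fun n => rfl
  refine ⟨I, φ, ?_, fun n => (H n).inj, ?_, ?_⟩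
  · rw [CochainComplex.isStrictlyGE_iff]
    intro m hm
    show IsZero (H m).I
    rw [hHzero m hm]
    exact isZero_zero _
  · intro p
    have G1 : ∀ n, (grF A p).map (φ.f n) = (grF A p).map (H n).k ≫ (grF A p).map (H n).i :=
      fun n => by rw [hφ, Functor.map_comp]
    have G2 : ∀ n, (grF A p).map (I.d n (n + 1)) =
        (grF A p).map (u n) ≫ (grF A p).map (H (n + 1)).i :=
      fun n => by rw [hId, Functor.map_comp]
    have G3 : ∀ n, (grF A p).map (H n).k ≫ (grF A p).map (H n).e =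
        (grF A p).map (K.d n (n + 1)) :=
      fun n => by rw [← Functor.map_comp, (H n).hk]
    have G4 : ∀ n, (grF A p).map (u n) ≫ (grF A p).map (H (n + 1)).e = 0 :=
      fun n => by rw [← Functor.map_comp, hue n, Functor.map_zero]
    refine quasiIso_of_pushout_data ((grCx p).map φ) (fun n => (grF A p).obj (H n).P)
      (fun n => (grF A p).map (H n).k) (fun n => (grF A p).map (H n).e)
      (fun n => (grF A p).map (H n).i) (fun n => (grF A p).map (u n)) G1 G2 G3 G4 ?_ ?_ ?_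
    · intro n
      have := (H n).i_mono
      exact mono_gr_map_of_strict_mono (H n).i (H n).i_strict p
    · intro n T z
      exact gr_E2 (hL2 n) p z
    · intro n T y x hyx
      exact gr_E3 (hL2 n) (hL3 n) p y x hyx
  · intro n
    have := (H n).i_mono
    have := (H n).k_mono
    refine ⟨?_, ?_⟩
    · rw [hφ]
      exact mono_comp _ _
    · rw [hφ]
      exact isStrict_comp_of_mono _ _ (H n).k_strict (H n).i_strict

end Resolution

end Groth.Agent.Lib.Helper21.FilD
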