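import Mathlib
import Groth.Agent.Lib.Helper21FilD8

/-!
# Helper21: the filtered horseshoe lemma
-/

set_option autoImplicit false
universe w v u

open CategoryTheory CategoryTheory.Limits Opposite

namespace Groth.Agent.Lib.Helper21.FilD

open _root_.FilD

section Base

theorem exists_asc_family_base {St : ℤ → Type w} (R : ∀ n, St n → St (n + 1) → Prop) (a : ℤ)
    (zero : ∀ n, n < a → St n) (base : St a)
    (hstep : ∀ n, a ≤ n → ∀ s : St n, ∃ s' : St (n + 1), R n s s') :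
    ∃ H : ∀ n, St n, (∀ n, a ≤ n → R n (H n) (H (n + 1))) ∧ H a = base ∧
      ∀ n (hn : n < a), H n = zero n hn := by
  classical
  let zero' : ∀ n, n < a + 1 → St n := fun n hn =>
    if h : n < a then zero n h else (show a = n by omega) ▸ base
  let step : ∀ n, St n → St (n + 1) := fun n s =>
    if h : a ≤ n then Classical.choose (hstep n h s) else zero' (n + 1) (by omega)
  refine ⟨ascFamilyS (a + 1) zero' step, ?_, ?_, ?_⟩
  · intro n hn
    rw [ascFamilyS_succ (a + 1) zero' step n (by omega)]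
    simp only [step, dif_pos hn]
    exact Classical.choose_spec (hstep n hn _)
  · rw [ascFamilyS, dif_pos (by omega)]
    simp only [zero', dif_neg (lt_irrefl a)]
  · intro n hn
    rw [ascFamilyS, dif_pos (by omega)]
    simp only [zero', dif_pos hn]

end Base

variable {A : Type u} [Category.{v} A] [Abelian A]

theorem epi_of_epi_app {X Y : FilF A} (φ : X ⟶ Y) (h : ∀ Q : ℤᵒᵖ, Epi (φ.hom.app Q)) :
    Epi φ := by
  have : Epi ((IsFinFil A).ι.map φ) := NatTrans.epi_of_epi_app φ.hom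
  exact (IsFinFil A).ι.epi_of_epi_map this

section LevelExact

variable (S : ShortComplex (FilF A))
  (hS : ∀ p : ℤ, (S.map ((IsFinFil A).ι ⋙ (evaluation ℤᵒᵖ A).obj (op p))).ShortExact)

include hS

theorem mono_f_app_of_level (Q : ℤᵒᵖ) : Mono (S.f.hom.app Q) := (hS Q.unop).mono_f

theorem epi_g_app_of_level (Q : ℤᵒᵖ) : Epi (S.g.hom.app Q) := (hS Q.unop).epi_g

theorem mono_f_of_level : Mono S.f := mono_of_mono_app _ (mono_f_app_of_level S hS)

theorem epi_g_of_level : Epi S.g := epi_of_epi_app _ (epi_g_app_of_level S hS)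

theorem exists_lift_of_level (Q : ℤᵒᵖ) ⦃T : A⦄ (y : T ⟶ S.X₂.obj.obj Q)
    (hy : y ≫ S.g.hom.app Q = 0) :
    ∃ (T' : A) (π : T' ⟶ T) (_ : Epi π) (x : T' ⟶ S.X₁.obj.obj Q),
      π ≫ y = x ≫ S.f.hom.app Q :=
  (hS Q.unop).exact.exact_up_to_refinements y hy

theorem isStrict_f_of_level : IsStrict S.f := by
  rw [isStrict_iff']
  intro Q₁ Q₂ t T x y hxy
  have hm : Mono (S.X₃.obj.map t) := S.X₃.property.1 t
  have hzero : S.f.hom.app Q₂ ≫ S.g.hom.app Q₂ = 0 :=
    congrArg (fun φ => φ.hom.app Q₂) S.zero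
  have hy : y ≫ S.g.hom.app Q₁ = 0 := by
    rw [← cancel_mono (S.X₃.obj.map t), Category.assoc, zero_comp, ← S.g.hom.naturality t,
      ← Category.assoc, ← hxy, Category.assoc, hzero, comp_zero]
  obtain ⟨T', π, hπ, x', hx'⟩ := exists_lift_of_level S hS Q₁ y hy
  exact ⟨T', π, hπ, x', hx'.symm⟩

theorem gr_exact_of_level (p : ℤ) : (S.map (grF A p)).Exact := by
  suffices H : ∀ ⦃T : A⦄ (xb : T ⟶ (gr A p).obj S.X₂.obj), xb ≫ (gr A p).map S.g.hom = 0 →
      ∃ (T' : A) (π : T' ⟶ T) (_ : Epi π) (wb : T' ⟶ (gr A p).obj S.X₁.obj),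
        π ≫ xb = wb ≫ (gr A p).map S.f.hom by
    rw [ShortComplex.exact_iff_exact_up_to_refinements]
    intro T xb hxb
    exact H xb hxb
  intro T xb hxb
  obtain ⟨T₁, π₁, hπ₁, x, hx⟩ := surjective_up_to_refinements_of_epi (grπ S.X₂.obj p) xb
  have h1 : (x ≫ S.g.hom.app (op p)) ≫ grπ S.X₃.obj p = 0 := by
    rw [Category.assoc, ← grπ_map, ← Category.assoc, ← hx, Category.assoc, hxb, comp_zero]
  obtain ⟨T₂, π₂, hπ₂, z, hz⟩ := exists_lift_of_comp_grπ_eq_zero S.X₃.obj p _ h1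
  have := epi_g_app_of_level S hS (op (p + 1))
  obtain ⟨T₃, π₃, hπ₃, x1, hx1⟩ :=
    surjective_up_to_refinements_of_epi (S.g.hom.app (op (p + 1))) z
  have h2 : (π₃ ≫ π₂ ≫ x - x1 ≫ S.X₂.obj.map (stepHom p)) ≫ S.g.hom.app (op p) = 0 := by
    rw [Preadditive.sub_comp, Category.assoc, Category.assoc, Category.assoc,
      S.g.hom.naturality (stepHom p), ← Category.assoc x1, ← hx1, Category.assoc, ← hz]
    exact sub_self _
  obtain ⟨T₄, π₄, hπ₄, w, hw⟩ := exists_lift_of_level S hS (op p) _ h2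
  refine ⟨T₄, π₄ ≫ π₃ ≫ π₂ ≫ π₁, inferInstance, w ≫ grπ S.X₁.obj p, ?_⟩
  have := congrArg (fun t => t ≫ grπ S.X₂.obj p) hw
  simp only [Category.assoc, Preadditive.sub_comp, Preadditive.comp_sub, step_grπ, comp_zero,
    sub_zero] at this
  simp only [Category.assoc]
  rw [hx, this, grπ_map]

end LevelExact


section ResolutionFacts

variable {X : FilF A} {J : CochainComplex (FilF A) ℤ} [J.IsStrictlyGE 0]
  (c : (CochainComplex.singleFunctor (FilF A) 0).obj X ⟶ J) (hc : IsFilteredQuasiIso c)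

include hc

theorem gr_exact_resolution (n : ℤ) (hn : n ≠ 0) (p : ℤ) :
    ((ShortComplex.mk (J.d (n - 1) n) (J.d n (n + 1)) (J.d_comp_d _ _ _)).map (grF A p)).Exact := by
  have := hc p
  have h1 : ((grCx p).obj ((CochainComplex.singleFunctor (FilF A) 0).obj X)).ExactAt n :=
    HomologicalComplex.ExactAt.of_isZero ((grF A p).map_isZero
      (HomologicalComplex.isZero_single_obj_X (ComplexShape.up ℤ) 0 X n hn))
  have h2 : ((grCx p).obj J).ExactAt n :=
    (quasiIsoAt_iff_exactAt ((grCx p).map c) n h1).1 inferInstance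
  exact (HomologicalComplex.exactAt_iff' _ (n - 1) n (n + 1) (by simp) (by simp)).1 h2

theorem gr_mono_resolution (p : ℤ) : Mono ((grF A p).map (c.f 0)) := by
  have := hc p
  have hiso : IsIso (HomologicalComplex.homologyMap ((grCx p).map c) 0) :=
    (quasiIsoAt_iff_isIso_homologyMap _ _).1 inferInstance
  have hmono : Mono (HomologicalComplex.homologyMap ((grCx p).map c) 0) := inferInstance
  rw [HomologicalComplex.mono_homologyMap_iff_up_to_refinements ((grCx p).map c) (-1) 0 (0 + 1)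
    (by simp) (by simp)] at hmono
  apply Preadditive.mono_of_cancel_zero
  intro T x hx
  have hd : ∀ i j, ((grCx p).obj ((CochainComplex.singleFunctor (FilF A) 0).obj X)).d i j = 0 := by
    intro i j
    show (grF A p).map (((CochainComplex.singleFunctor (FilF A) 0).obj X).d i j) = 0
    rw [show ((CochainComplex.singleFunctor (FilF A) 0).obj X).d i j = 0 from rfl,
      Functor.map_zero]
  obtain ⟨T', π, hπ, x₁, hx₁⟩ := hmono x (by rw [hd, comp_zero]) 0 (by
    rw [zero_comp]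
    exact hx)
  rw [hd, comp_zero] at hx₁
  rwa [← cancel_epi π, comp_zero]

theorem gr_exact_resolution_zero (p : ℤ) :
    ((ShortComplex.mk (c.f 0) (J.d 0 (0 + 1)) (by
      rw [c.comm 0 (0 + 1)]
      exact zero_comp)).map (grF A p)).Exact := by
  have := hc p
  have hiso : IsIso (HomologicalComplex.homologyMap ((grCx p).map c) 0) :=
    (quasiIsoAt_iff_isIso_homologyMap _ _).1 inferInstance
  have hepi : Epi (HomologicalComplex.homologyMap ((grCx p).map c) 0) := inferInstance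
  rw [HomologicalComplex.epi_homologyMap_iff_up_to_refinements ((grCx p).map c) (-1) 0 (0 + 1)
    (by simp) (by simp)] at hepi
  rw [ShortComplex.exact_iff_exact_up_to_refinements]
  intro T y hy
  obtain ⟨T', π, hπ, x₂, _, y₁, hxy⟩ := hepi y hy
  have hz : IsZero (((grCx p).obj J).X (-1)) :=
    (grF A p).map_isZero (J.isZero_of_isStrictlyGE 0 (-1) (by omega))
  rw [hz.eq_of_tgt y₁ 0, zero_comp, add_zero] at hxy
  exact ⟨T', π, hπ, x₂, hxy⟩

end ResolutionFacts


section Theta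

variable {X : FilF A} {I J : CochainComplex (FilF A) ℤ} [J.IsStrictlyGE 0]
  (hI : ∀ n, IsFilteredInjective (I.X n))
  (c : (CochainComplex.singleFunctor (FilF A) 0).obj X ⟶ J) (hc : IsFilteredQuasiIso c)

/-- State of the recursive construction of the twisting maps. -/
def ThSt (I : CochainComplex (FilF A) ℤ) {J : CochainComplex (FilF A) ℤ}
    (c : (CochainComplex.singleFunctor (FilF A) 0).obj X ⟶ J) (n : ℤ) : Type v :=
  {θ : J.X n ⟶ I.X (n + 1) // (∀ m, J.d m n ≫ θ ≫ I.d (n + 1) (n + 1 + 1) = 0) ∧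
    c.f n ≫ θ ≫ I.d (n + 1) (n + 1 + 1) = 0}

omit [J.IsStrictlyGE 0] in
include hI in
theorem theta_step_aux (n : ℤ) (W : FilF A) (w : W ⟶ J.X n) (hw : w ≫ J.d n (n + 1) = 0)
    (hex : ∀ p, ((ShortComplex.mk w (J.d n (n + 1)) hw).map (grF A p)).Exact)
    (θ : J.X n ⟶ I.X (n + 1)) (hθ : w ≫ θ ≫ I.d (n + 1) (n + 1 + 1) = 0) :
    ∃ h : J.X (n + 1) ⟶ I.X (n + 1 + 1), J.d n (n + 1) ≫ h = -(θ ≫ I.d (n + 1) (n + 1 + 1)) :=
  exists_desc_of_gr_exact (ShortComplex.mk w (J.d n (n + 1)) hw) hex (hI _)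
    (-(θ ≫ I.d (n + 1) (n + 1 + 1))) (by
      show w ≫ (-(θ ≫ I.d (n + 1) (n + 1 + 1))) = 0
      rw [Preadditive.comp_neg, hθ, neg_zero])

include hI hc in
theorem thStep (n : ℤ) (hn0 : 0 ≤ n) (s : ThSt I c n) :
    ∃ s' : ThSt I c (n + 1), J.d n (n + 1) ≫ s'.1 = -(s.1 ≫ I.d (n + 1) (n + 1 + 1)) := by
  obtain ⟨θ, h1, h2⟩ := s
  have key : ∃ h : J.X (n + 1) ⟶ I.X (n + 1 + 1),
      J.d n (n + 1) ≫ h = -(θ ≫ I.d (n + 1) (n + 1 + 1)) := by
    by_cases hn : n = 0
    · subst hn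
      exact theta_step_aux hI 0 _ (c.f 0) _ (gr_exact_resolution_zero c hc) θ h2
    · exact theta_step_aux hI n _ (J.d (n - 1) n) (J.d_comp_d _ _ _)
        (gr_exact_resolution c hc n hn) θ (h1 (n - 1))
  obtain ⟨h, hh⟩ := key
  refine ⟨⟨h, ?_, ?_⟩, hh⟩
  · intro m
    by_cases hm : m + 1 = n + 1
    · obtain rfl : m = n := by omega
      rw [← Category.assoc, hh, Preadditive.neg_comp, Category.assoc, I.d_comp_d, comp_zero,
        neg_zero]
    · rw [J.shape m (n + 1) hm, zero_comp]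
  · exact (HomologicalComplex.isZero_single_obj_X (ComplexShape.up ℤ) 0 X (n + 1)
      (by omega)).eq_of_src _ _

include hI hc in
theorem exists_theta (θ0 : J.X 0 ⟶ I.X (0 + 1))
    (h0 : c.f 0 ≫ θ0 ≫ I.d (0 + 1) (0 + 1 + 1) = 0) :
    ∃ θ : ∀ n, J.X n ⟶ I.X (n + 1), θ 0 = θ0 ∧
      ∀ n, J.d n (n + 1) ≫ θ (n + 1) = -(θ n ≫ I.d (n + 1) (n + 1 + 1)) := by
  have hJz : ∀ n, n < 0 → IsZero (J.X n) := fun n hn => J.isZero_of_isStrictlyGE 0 n hn
  have hinv : ∀ m, J.d m 0 ≫ θ0 ≫ I.d (0 + 1) (0 + 1 + 1) = 0 := by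
    intro m
    by_cases hm : m < 0
    · exact (hJz m hm).eq_of_src _ _
    · rw [J.shape m 0 (by simp; omega), zero_comp]
  obtain ⟨H, hH, hbase, hzero⟩ := exists_asc_family_base (St := ThSt I c)
    (fun n s s' => J.d n (n + 1) ≫ s'.1 = -(s.1 ≫ I.d (n + 1) (n + 1 + 1))) 0
    (fun n hn => ⟨0, fun m => by simp, by simp⟩)
    ⟨θ0, hinv, h0⟩ (thStep hI c hc)
  refine ⟨fun n => (H n).1, by show (H 0).1 = θ0; rw [hbase], fun n => ?_⟩
  by_cases hn : 0 ≤ n
  · exact hH n hn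
  · exact (hJz n (by omega)).eq_of_src _ _

end Theta


/-- The filtered horseshoe lemma. -/
theorem filtered_horseshoe (S : ShortComplex (FilF A))
    (hS : ∀ p : ℤ, (S.map ((IsFinFil A).ι ⋙ (evaluation ℤᵒᵖ A).obj (op p))).ShortExact)
    (I : CochainComplex (FilF A) ℤ) (hI : ∀ n, IsFilteredInjective (I.X n))
    (a : (CochainComplex.singleFunctor (FilF A) 0).obj S.X₁ ⟶ I)
    (J : CochainComplex (FilF A) ℤ) [J.IsStrictlyGE 0]
    (c : (CochainComplex.singleFunctor (FilF A) 0).obj S.X₃ ⟶ J) (hc : IsFilteredQuasiIso c) :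
    ∃ (M : CochainComplex (FilF A) ℤ) (α : I ⟶ M) (β : M ⟶ J)
      (b : (CochainComplex.singleFunctor (FilF A) 0).obj S.X₂ ⟶ M),
      (∀ n, ∃ (r : M.X n ⟶ I.X n) (s : J.X n ⟶ M.X n), α.f n ≫ r = 𝟙 _ ∧ s ≫ β.f n = 𝟙 _ ∧
        α.f n ≫ β.f n = 0 ∧ r ≫ α.f n + β.f n ≫ s = 𝟙 _) ∧
      a ≫ α = (CochainComplex.singleFunctor (FilF A) 0).map S.f ≫ b ∧
      b ≫ β = (CochainComplex.singleFunctor (FilF A) 0).map S.g ≫ c := by
  have hfm := mono_f_of_level S hS
  have hfs := isStrict_f_of_level S hS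
  have hge := epi_g_of_level S hS
  let e₁ : ((CochainComplex.singleFunctor (FilF A) 0).obj S.X₁).X 0 ≅ S.X₁ :=
    HomologicalComplex.singleObjXSelf (ComplexShape.up ℤ) 0 S.X₁
  let e₂ : ((CochainComplex.singleFunctor (FilF A) 0).obj S.X₂).X 0 ≅ S.X₂ :=
    HomologicalComplex.singleObjXSelf (ComplexShape.up ℤ) 0 S.X₂
  let e₃ : ((CochainComplex.singleFunctor (FilF A) 0).obj S.X₃).X 0 ≅ S.X₃ :=
    HomologicalComplex.singleObjXSelf (ComplexShape.up ℤ) 0 S.X₃
  let a0 : S.X₁ ⟶ I.X 0 := e₁.inv ≫ a.f 0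
  let c0 : S.X₃ ⟶ J.X 0 := e₃.inv ≫ c.f 0
  have hfmap : ((CochainComplex.singleFunctor (FilF A) 0).map S.f).f 0 =
      e₁.hom ≫ S.f ≫ e₂.inv := HomologicalComplex.single_map_f_self (ComplexShape.up ℤ) 0 S.f
  have hgmap : ((CochainComplex.singleFunctor (FilF A) 0).map S.g).f 0 =
      e₂.hom ≫ S.g ≫ e₃.inv := HomologicalComplex.single_map_f_self (ComplexShape.up ℤ) 0 S.g
  have ha0' : a.f 0 ≫ I.d 0 (0 + 1) = 0 := by
    rw [a.comm 0 (0 + 1)]
    exact zero_comp
  have hc0' : c.f 0 ≫ J.d 0 (0 + 1) = 0 := by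
    rw [c.comm 0 (0 + 1)]
    exact zero_comp
  have ha0 : a0 ≫ I.d 0 (0 + 1) = 0 := by
    rw [Category.assoc, ha0', comp_zero]
  have hc0 : c0 ≫ J.d 0 (0 + 1) = 0 := by
    rw [Category.assoc, hc0', comp_zero]
  have hea : e₁.hom ≫ a0 = a.f 0 := by
    rw [← Category.assoc, e₁.hom_inv_id, Category.id_comp]
  have hec : e₃.hom ≫ c0 = c.f 0 := by
    rw [← Category.assoc, e₃.hom_inv_id, Category.id_comp]
  obtain ⟨ρ, hρ⟩ := exists_extension S.f hfs (hI 0) a0
  let S2 : ShortComplex (FilF A) := ShortComplex.mk S.f (S.g ≫ c0)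
    (by rw [← Category.assoc, S.zero, zero_comp])
  have hS2 : ∀ p, (S2.map (grF A p)).Exact := by
    intro p
    have hm : Mono ((grF A p).map c0) := by
      have := gr_mono_resolution c hc p
      have h1 : (grF A p).map c0 = (grF A p).map e₃.inv ≫ (grF A p).map (c.f 0) :=
        Functor.map_comp _ _ _
      rw [h1]
      infer_instance
    have hex := gr_exact_of_level S hS p
    rw [ShortComplex.exact_iff_exact_up_to_refinements] at hex
    have hex' : ∀ ⦃T : A⦄ (x : T ⟶ (grF A p).obj S.X₂), x ≫ (grF A p).map S.g = 0 →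
        ∃ (T' : A) (π : T' ⟶ T) (_ : Epi π) (x₁ : T' ⟶ (grF A p).obj S.X₁),
          π ≫ x = x₁ ≫ (grF A p).map S.f := hex
    suffices H : ∀ ⦃T : A⦄ (x : T ⟶ (grF A p).obj S.X₂), x ≫ (grF A p).map (S.g ≫ c0) = 0 →
        ∃ (T' : A) (π : T' ⟶ T) (_ : Epi π) (x₁ : T' ⟶ (grF A p).obj S.X₁),
          π ≫ x = x₁ ≫ (grF A p).map S.f by
      rw [ShortComplex.exact_iff_exact_up_to_refinements]
      intro T x hx
      exact H x hx
    intro T x hx1
    have hx2 : (x ≫ (grF A p).map S.g) ≫ (grF A p).map c0 = 0 := by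
      rw [Category.assoc, ← Functor.map_comp]
      exact hx1
    have hx3 : x ≫ (grF A p).map S.g = 0 := by
      rwa [← cancel_mono ((grF A p).map c0), zero_comp]
    exact hex' x hx3
  obtain ⟨θ0, hθ0⟩ := exists_desc_of_gr_exact S2 hS2 (hI (0 + 1)) (-(ρ ≫ I.d 0 (0 + 1))) (by
    show S.f ≫ (-(ρ ≫ I.d 0 (0 + 1))) = 0
    rw [Preadditive.comp_neg, ← Category.assoc, hρ, ha0, neg_zero])
  have hθ0' : (S.g ≫ c0) ≫ θ0 = -(ρ ≫ I.d 0 (0 + 1)) := hθ0
  have h0 : c.f 0 ≫ θ0 ≫ I.d (0 + 1) (0 + 1 + 1) = 0 := by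
    have h1 : c0 ≫ θ0 ≫ I.d (0 + 1) (0 + 1 + 1) = 0 := by
      rw [← cancel_epi S.g, comp_zero, ← Category.assoc, ← Category.assoc, hθ0',
        Preadditive.neg_comp, Category.assoc, I.d_comp_d, comp_zero, neg_zero]
    rw [← hec, Category.assoc, h1, comp_zero]
  obtain ⟨θ, hθ00, hθ⟩ := exists_theta hI c hc θ0 h0
  -- the complex `M`
  let dM : ∀ n, (I.X n ⊞ J.X n) ⟶ (I.X (n + 1) ⊞ J.X (n + 1)) := fun n =>
    biprod.desc (I.d n (n + 1) ≫ biprod.inl) (θ n ≫ biprod.inl + J.d n (n + 1) ≫ biprod.inr)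
  have hdM1 : ∀ n, biprod.inl ≫ dM n = I.d n (n + 1) ≫ biprod.inl := fun n =>
    biprod.inl_desc _ _
  have hdM2 : ∀ n, biprod.inr ≫ dM n = θ n ≫ biprod.inl + J.d n (n + 1) ≫ biprod.inr := fun n =>
    biprod.inr_desc _ _
  have sq : ∀ n, dM n ≫ dM (n + 1) = 0 := by
    intro n
    apply biprod.hom_ext'
    · rw [← Category.assoc, hdM1, Category.assoc, hdM1, ← Category.assoc, I.d_comp_d, zero_comp,
        comp_zero]
    · rw [← Category.assoc, hdM2, Preadditive.add_comp, Category.assoc, hdM1, Category.assoc,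
        hdM2, Preadditive.comp_add, ← Category.assoc (J.d n (n + 1)), hθ n,
        ← Category.assoc (J.d n (n + 1)), J.d_comp_d, zero_comp, add_zero, comp_zero,
        Preadditive.neg_comp, Category.assoc]
      exact add_neg_cancel _
  let M : CochainComplex (FilF A) ℤ := CochainComplex.of (fun n => I.X n ⊞ J.X n) dM sq
  have hMd : ∀ n, M.d n (n + 1) = dM n := fun n => CochainComplex.of_d _ dM n
  let α : I ⟶ M :=
    { f := fun n => biprod.inl
      comm' := by
        intro m j hmj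
        obtain rfl : m + 1 = j := hmj
        rw [hMd, hdM1] }
  let β : M ⟶ J :=
    { f := fun n => biprod.snd
      comm' := by
        intro m j hmj
        obtain rfl : m + 1 = j := hmj
        rw [hMd]
        apply biprod.hom_ext'
        · rw [← Category.assoc, biprod.inl_snd, zero_comp, ← Category.assoc, hdM1, Category.assoc,
            biprod.inl_snd, comp_zero]
        · rw [← Category.assoc, biprod.inr_snd, Category.id_comp, ← Category.assoc, hdM2,
            Preadditive.add_comp, Category.assoc, biprod.inl_snd, comp_zero, zero_add,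
            Category.assoc, biprod.inr_snd, Category.comp_id] }
  let φ : S.X₂ ⟶ M.X 0 := ρ ≫ biprod.inl + (S.g ≫ c0) ≫ biprod.inr
  have hφ : ∀ k, (ComplexShape.up ℤ).Rel 0 k → φ ≫ M.d 0 k = 0 := by
    intro k hk
    obtain rfl : 0 + 1 = k := hk
    rw [hMd]
    show (ρ ≫ biprod.inl + (S.g ≫ c0) ≫ biprod.inr) ≫ dM 0 = 0
    rw [Preadditive.add_comp, Category.assoc, hdM1, Category.assoc, hdM2, hθ00,
      Preadditive.comp_add, ← Category.assoc (S.g ≫ c0) θ0, hθ0', Category.assoc S.g c0,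
      ← Category.assoc c0, hc0, zero_comp, comp_zero, add_zero, Preadditive.neg_comp,
      Category.assoc]
    exact add_neg_cancel _
  let b : (CochainComplex.singleFunctor (FilF A) 0).obj S.X₂ ⟶ M :=
    HomologicalComplex.mkHomFromSingle φ hφ
  have hb0 : b.f 0 = e₂.hom ≫ φ := HomologicalComplex.mkHomFromSingle_f φ hφ
  refine ⟨M, α, β, b, fun n => ⟨biprod.fst, biprod.inr, biprod.inl_fst, biprod.inr_snd,
    biprod.inl_snd, biprod.total⟩, ?_, ?_⟩
  · apply HomologicalComplex.from_single_hom_ext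
    show a.f 0 ≫ biprod.inl =
      ((CochainComplex.singleFunctor (FilF A) 0).map S.f).f 0 ≫ b.f 0
    rw [hfmap, hb0]
    show a.f 0 ≫ biprod.inl =
      (e₁.hom ≫ S.f ≫ e₂.inv) ≫ e₂.hom ≫ (ρ ≫ biprod.inl + (S.g ≫ c0) ≫ biprod.inr)
    rw [Category.assoc, Category.assoc, e₂.inv_hom_id_assoc, Preadditive.comp_add,
      ← Category.assoc S.f ρ, hρ, ← Category.assoc S.f (S.g ≫ c0), ← Category.assoc S.f S.g,
      S.zero, zero_comp, zero_comp, add_zero, ← Category.assoc, hea]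
  · apply HomologicalComplex.from_single_hom_ext
    show b.f 0 ≫ biprod.snd =
      ((CochainComplex.singleFunctor (FilF A) 0).map S.g).f 0 ≫ c.f 0
    rw [hgmap, hb0]
    show (e₂.hom ≫ (ρ ≫ biprod.inl + (S.g ≫ c0) ≫ biprod.inr)) ≫ biprod.snd =
      (e₂.hom ≫ S.g ≫ e₃.inv) ≫ c.f 0
    rw [Category.assoc, Preadditive.add_comp, Category.assoc, biprod.inl_snd, comp_zero, zero_add,
      Category.assoc, biprod.inr_snd, Category.comp_id]
    simp only [Category.assoc]
    rfl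

end Groth.Agent.Lib.Helper21.FilD
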