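import Mathlib

/-!
# Helper21: a cokernel of a map between (infinite) direct sums as a filtered colimit of cokernels
of maps between finite sub-sums

Abstract setting: an abelian category with coproducts, families `A : I → 𝒜`, `Bf : J' → 𝒜`,
`ψ : ∐ Bf ⟶ ∐ A` such that every component `Bf j ⟶ ∐ A` factors through a finite sub-sum.
-/

set_option autoImplicit false
universe u v w
open CategoryTheory CategoryTheory.Limits

namespace Groth.Agent.Lib.Helper21.FiltColim

variable {𝒜 : Type w} [Category.{v} 𝒜] [Abelian 𝒜] [HasCoproducts.{u} 𝒜]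

section Sub

variable {I : Type u} (A : I → 𝒜)

/-- finite sub-sum -/
noncomputable abbrev sub (t : Finset I) : 𝒜 := ∐ fun i : t => A i.1

/-- inclusion of a sub-sum -/
noncomputable def incl (t : Finset I) : sub A t ⟶ ∐ A := Sigma.desc fun i : t => Sigma.ι A i.1

open Classical in
/-- retraction onto a sub-sum -/
noncomputable def ρ (t : Finset I) : ∐ A ⟶ sub A t :=
  Sigma.desc fun i => if h : i ∈ t then Sigma.ι (fun i : t => A i.1) ⟨i, h⟩ else 0

/-- transition between sub-sums -/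
noncomputable def trans {t t' : Finset I} (h : t ⊆ t') : sub A t ⟶ sub A t' :=
  Sigma.desc fun i : t => Sigma.ι (fun i : t' => A i.1) ⟨i.1, h i.2⟩

@[reassoc (attr := simp)]
lemma ι_incl (t : Finset I) (i : t) :
    Sigma.ι (fun i : t => A i.1) i ≫ incl A t = Sigma.ι A i.1 := by
  unfold incl; rw [Sigma.ι_desc]

@[reassoc]
lemma ι_ρ_of_mem (t : Finset I) (i : I) (h : i ∈ t) :
    Sigma.ι A i ≫ ρ A t = Sigma.ι (fun i : t => A i.1) ⟨i, h⟩ := by
  unfold ρ; rw [Sigma.ι_desc, dif_pos h]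

@[reassoc]
lemma ι_ρ_of_not_mem (t : Finset I) (i : I) (h : i ∉ t) : Sigma.ι A i ≫ ρ A t = 0 := by
  unfold ρ; rw [Sigma.ι_desc, dif_neg h]

@[reassoc (attr := simp)]
lemma ι_trans {t t' : Finset I} (h : t ⊆ t') (i : t) :
    Sigma.ι (fun i : t => A i.1) i ≫ trans A h = Sigma.ι (fun i : t' => A i.1) ⟨i.1, h i.2⟩ := by
  unfold trans; rw [Sigma.ι_desc]

@[reassoc (attr := simp)]
lemma incl_ρ (t : Finset I) : incl A t ≫ ρ A t = 𝟙 _ := by
  apply Sigma.hom_ext
  rintro ⟨i, hi⟩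
  rw [ι_incl_assoc, ι_ρ_of_mem A t i hi, Category.comp_id]

instance (t : Finset I) : Mono (incl A t) := mono_of_mono_fac (incl_ρ A t)

@[reassoc (attr := simp)]
lemma trans_incl {t t' : Finset I} (h : t ⊆ t') : trans A h ≫ incl A t' = incl A t := by
  apply Sigma.hom_ext
  intro i
  rw [ι_trans_assoc, ι_incl, ι_incl]

lemma trans_refl (t : Finset I) : trans A (Finset.Subset.refl t) = 𝟙 _ := by
  apply Sigma.hom_ext
  intro i
  rw [ι_trans, Category.comp_id]

@[reassoc]
lemma trans_trans {t t' t'' : Finset I} (h : t ⊆ t') (h' : t' ⊆ t'') :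
    trans A h ≫ trans A h' = trans A (h.trans h') := by
  apply Sigma.hom_ext
  intro i
  rw [ι_trans_assoc, ι_trans, ι_trans]

/-- the idempotent projecting onto the sub-sum -/
noncomputable def pr (t : Finset I) : ∐ A ⟶ ∐ A := ρ A t ≫ incl A t

@[reassoc]
lemma ι_pr_of_mem (t : Finset I) (i : I) (h : i ∈ t) : Sigma.ι A i ≫ pr A t = Sigma.ι A i := by
  unfold pr
  rw [ι_ρ_of_mem_assoc A t i h, ι_incl]

@[reassoc (attr := simp)]
lemma incl_pr {t t' : Finset I} (h : t ⊆ t') : incl A t ≫ pr A t' = incl A t := by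
  apply Sigma.hom_ext
  intro i
  rw [ι_incl_assoc, ι_incl, ι_pr_of_mem A t' i.1 (h i.2)]

end Sub

section Main

variable {I J' : Type u} (A : I → 𝒜) (Bf : J' → 𝒜) (ψ : ∐ Bf ⟶ ∐ A)

/-- validity of a pair of finite subsets: `ψ` maps the `s`-sub-sum into the `t`-sub-sum -/
def Valid (s : Finset J') (t : Finset I) : Prop :=
  ∀ j ∈ s, Sigma.ι Bf j ≫ ψ ≫ pr A t = Sigma.ι Bf j ≫ ψ

variable {A Bf ψ}

lemma Valid.mono {s s' : Finset J'} {t t' : Finset I} (h : Valid A Bf ψ s' t) (hs : s ⊆ s')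
    (ht : t ⊆ t') : Valid A Bf ψ s t' := by
  intro j hj
  have h1 := h j (hs hj)
  have h2 : Sigma.ι Bf j ≫ ψ = (Sigma.ι Bf j ≫ ψ ≫ ρ A t) ≫ incl A t := by
    rw [Category.assoc, Category.assoc]; exact h1.symm
  rw [← Category.assoc, h2, Category.assoc, incl_pr A ht]

open Classical in
lemma Valid.union {s s' : Finset J'} {t t' : Finset I} (h : Valid A Bf ψ s t)
    (h' : Valid A Bf ψ s' t') : Valid A Bf ψ (s ∪ s') (t ∪ t') := by
  intro j hj
  rcases Finset.mem_union.1 hj with hj | hj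
  · exact (h.mono (Finset.Subset.refl _) Finset.subset_union_left) j hj
  · exact (h'.mono (Finset.Subset.refl _) Finset.subset_union_right) j hj

lemma valid_empty (t : Finset I) : Valid A Bf ψ ∅ t := by
  intro j hj
  exact absurd hj (Finset.notMem_empty j)

variable (A Bf ψ)

/-- the index category -/
abbrev Idx : Type u := { p : Finset J' × Finset I // Valid A Bf ψ p.1 p.2 }

instance : Nonempty (Idx A Bf ψ) := ⟨⟨(∅, ∅), valid_empty ∅⟩⟩

open Classical in
instance : IsDirected (Idx A Bf ψ) (· ≤ ·) := by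
  refine ⟨fun a b => ⟨⟨(a.1.1 ∪ b.1.1, a.1.2 ∪ b.1.2), a.2.union b.2⟩, ?_, ?_⟩⟩
  · exact ⟨Finset.subset_union_left, Finset.subset_union_left⟩
  · exact ⟨Finset.subset_union_right, Finset.subset_union_right⟩

variable {A Bf ψ}

/-- the finite piece of `ψ` -/
noncomputable def ψl (l : Idx A Bf ψ) : sub Bf l.1.1 ⟶ sub A l.1.2 :=
  Sigma.desc fun j : l.1.1 => Sigma.ι Bf j.1 ≫ ψ ≫ ρ A l.1.2

@[reassoc]
lemma ψl_incl (l : Idx A Bf ψ) : ψl l ≫ incl A l.1.2 = incl Bf l.1.1 ≫ ψ := by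
  apply Sigma.hom_ext
  intro j
  unfold ψl
  rw [Sigma.ι_desc_assoc, ι_incl_assoc, Category.assoc, Category.assoc]
  exact l.2 j.1 j.2

@[reassoc]
lemma ψl_trans {l l' : Idx A Bf ψ} (h : l ≤ l') :
    ψl l ≫ trans A h.2 = trans Bf h.1 ≫ ψl l' := by
  rw [← cancel_mono (incl A l'.1.2), Category.assoc, trans_incl, ψl_incl, Category.assoc, ψl_incl,
    trans_incl_assoc]

/-- the diagram -/
noncomputable def D : Idx A Bf ψ ⥤ 𝒜 where
  obj l := cokernel (ψl l)
  map {l l'} f := cokernel.map (ψl l) (ψl l') (trans Bf (leOfHom f).1) (trans A (leOfHom f).2)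
    (ψl_trans (leOfHom f))
  map_id l := by
    apply coequalizer.hom_ext
    rw [cokernel.π_desc, Category.comp_id, trans_refl, Category.id_comp]
  map_comp {l l' l''} f g := by
    apply coequalizer.hom_ext
    rw [cokernel.π_desc, cokernel.π_desc_assoc, Category.assoc, cokernel.π_desc,
      ← Category.assoc, trans_trans]

/-- the projection onto `D.obj l` -/
noncomputable def πD (l : Idx A Bf ψ) : sub A l.1.2 ⟶ (D (A := A) (Bf := Bf) (ψ := ψ)).obj l :=
  cokernel.π (ψl l)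

instance (l : Idx A Bf ψ) : Epi (πD l) := coequalizer.π_epi

@[reassoc (attr := simp)]
lemma ψl_πD (l : Idx A Bf ψ) : ψl l ≫ πD l = 0 := cokernel.condition _

@[reassoc]
lemma πD_map {l l' : Idx A Bf ψ} (f : l ⟶ l') :
    πD l ≫ (D (A := A) (Bf := Bf) (ψ := ψ)).map f = trans A (leOfHom f).2 ≫ πD l' :=
  cokernel.π_desc _ _ _

/-- the legs of the cocone -/
noncomputable def leg (l : Idx A Bf ψ) :
    (D (A := A) (Bf := Bf) (ψ := ψ)).obj l ⟶ cokernel ψ :=
  cokernel.desc (ψl l) (incl A l.1.2 ≫ cokernel.π ψ) (by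
    rw [ψl_incl_assoc, cokernel.condition, comp_zero])

@[reassoc (attr := simp)]
lemma πD_leg (l : Idx A Bf ψ) : πD l ≫ leg l = incl A l.1.2 ≫ cokernel.π ψ :=
  cokernel.π_desc _ _ _

/-- the cocone -/
noncomputable def coconeι : (D : Idx A Bf ψ ⥤ 𝒜) ⟶ (Functor.const _).obj (cokernel ψ) where
  app l := leg l
  naturality {l l'} f := by
    rw [← cancel_epi (πD l)]
    dsimp
    rw [πD_map_assoc, πD_leg, Category.comp_id, πD_leg, trans_incl_assoc]

end Main

end Groth.Agent.Lib.Helper21.FiltColim
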