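import Mathlib
import Groth.Agent.Lib.Helper21FiltColim1

/-!
# Helper21: the colimit property of the diagram of finite pieces
-/

set_option autoImplicit false
universe u v w
open CategoryTheory CategoryTheory.Limits

namespace Groth.Agent.Lib.Helper21.FiltColim

variable {𝒜 : Type w} [Category.{v} 𝒜] [Abelian 𝒜] [HasCoproducts.{u} 𝒜]
  {I J' : Type u} {A : I → 𝒜} {Bf : J' → 𝒜} {ψ : ∐ Bf ⟶ ∐ A}

/-- the index `(∅, {i})` -/
def lOne (i : I) : Idx A Bf ψ := ⟨(∅, {i}), valid_empty _⟩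

lemma mem_lOne (i : I) : i ∈ (lOne (A := A) (Bf := Bf) (ψ := ψ) i).1.2 :=
  Finset.mem_singleton_self i

lemma lOne_le (i : I) (l : Idx A Bf ψ) (hi : i ∈ l.1.2) : lOne i ≤ l :=
  ⟨Finset.empty_subset _, Finset.singleton_subset_iff.2 hi⟩

section

variable (c : Cocone (D : Idx A Bf ψ ⥤ 𝒜))

/-- component of the descended map -/
noncomputable def hOne (i : I) : A i ⟶ c.pt :=
  Sigma.ι (fun i' : (lOne (A := A) (Bf := Bf) (ψ := ψ) i).1.2 => A i'.1) ⟨i, mem_lOne i⟩ ≫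
    πD (lOne i) ≫ c.ι.app (lOne i)

/-- the descended map on `∐ A` -/
noncomputable def hAll : ∐ A ⟶ c.pt := Sigma.desc (hOne c)

lemma ι_πD_app (l : Idx A Bf ψ) (i : I) (hi : i ∈ l.1.2) :
    Sigma.ι (fun i' : l.1.2 => A i'.1) ⟨i, hi⟩ ≫ πD l ≫ c.ι.app l = hOne c i := by
  unfold hOne
  have hw := c.w (homOfLE (lOne_le i l hi))
  rw [← hw, πD_map_assoc, ι_trans_assoc]

lemma πD_app (l : Idx A Bf ψ) : πD l ≫ c.ι.app l = incl A l.1.2 ≫ hAll c := by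
  apply Sigma.hom_ext
  rintro ⟨i, hi⟩
  rw [ι_πD_app c l i hi, ι_incl_assoc]
  unfold hAll
  rw [Sigma.ι_desc]

lemma ι_ψ_hAll (l : Idx A Bf ψ) (j : J') (hj : j ∈ l.1.1) : Sigma.ι Bf j ≫ ψ ≫ hAll c = 0 := by
  have h1 : Sigma.ι Bf j ≫ ψ ≫ ρ A l.1.2 =
      Sigma.ι (fun j' : l.1.1 => Bf j'.1) ⟨j, hj⟩ ≫ ψl l := by
    unfold ψl
    rw [Sigma.ι_desc]
  have h2 : Sigma.ι Bf j ≫ ψ = Sigma.ι Bf j ≫ ψ ≫ ρ A l.1.2 ≫ incl A l.1.2 := (l.2 j hj).symm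
  calc Sigma.ι Bf j ≫ ψ ≫ hAll c = (Sigma.ι Bf j ≫ ψ) ≫ hAll c := (Category.assoc _ _ _).symm
    _ = (Sigma.ι Bf j ≫ ψ ≫ ρ A l.1.2 ≫ incl A l.1.2) ≫ hAll c := by rw [← h2]
    _ = (Sigma.ι Bf j ≫ ψ ≫ ρ A l.1.2) ≫ incl A l.1.2 ≫ hAll c := by
      simp only [Category.assoc]
    _ = (Sigma.ι (fun j' : l.1.1 => Bf j'.1) ⟨j, hj⟩ ≫ ψl l) ≫ πD l ≫ c.ι.app l := by
      rw [h1, πD_app]
    _ = 0 := by rw [Category.assoc, ψl_πD_assoc, zero_comp, comp_zero]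

variable (H : ∀ j, ∃ t : Finset I, Valid A Bf ψ {j} t)

include H in
lemma ψ_hAll : ψ ≫ hAll c = 0 := by
  apply Sigma.hom_ext
  intro j
  obtain ⟨t, ht⟩ := H j
  rw [comp_zero]
  exact ι_ψ_hAll c ⟨({j}, t), ht⟩ j (Finset.mem_singleton_self j)

end

/-- the colimit property -/
noncomputable def isColimit (H : ∀ j, ∃ t : Finset I, Valid A Bf ψ {j} t) :
    IsColimit (Cocone.mk (cokernel ψ) (coconeι (A := A) (Bf := Bf) (ψ := ψ))) where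
  desc c := cokernel.desc ψ (hAll c) (ψ_hAll c H)
  fac c l := by
    change leg l ≫ _ = _
    rw [← cancel_epi (πD l), πD_leg_assoc, cokernel.π_desc, πD_app]
  uniq c m hm := by
    apply coequalizer.hom_ext
    rw [cokernel.π_desc]
    apply Sigma.hom_ext
    intro i
    unfold hAll
    rw [Sigma.ι_desc]
    unfold hOne
    have h1 : leg (lOne i) ≫ m = c.ι.app (lOne i) := hm (lOne i)
    rw [← h1, πD_leg_assoc, ι_incl_assoc]

end Groth.Agent.Lib.Helper21.FiltColim
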