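import Mathlib
import Groth.Agent.Lib.Helper21TypeA3

/-!
# Helper21: Čech exactness for refinements of finite sums of `j_{U!} O_U`

For refinement data `R` (coverings `W i k ⟶ U i`) on a site with fibre products, the sequence
`⊕_{i,k,l} j_! O_{W_ik ×_{U_i} W_il} ⟶ ⊕_{i,k} j_! O_{W_ik} ⟶ ⊕_i j_! O_{U_i} ⟶ 0` is exact.
-/

set_option autoImplicit false
universe u
open CategoryTheory CategoryTheory.Limits Opposite

namespace Groth.Agent.Lib.Helper21.TypeA

open Groth.Agent.Lib.Helper23FreeOn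

variable {C : Type u} [SmallCategory C] {J : GrothendieckTopology C} (O : Sheaf J CommRingCat.{u})

lemma eMap_comp {X V U : C} (c : X ⟶ V) (g : V ⟶ U) :
    eMap O (c ≫ g) = eMap O c ≫ eMap O g := by
  apply (homEquiv O (ModSite.freeOn O U) X).injective
  rw [homEquiv_eMap_comp]
  unfold eMap
  rw [Equiv.apply_symm_apply, Equiv.apply_symm_apply, op_comp]
  exact PresheafOfModules.map_comp_apply _ g.op c.op (uSec O U)

/-- gluing sections of a sheaf of modules along a covering family, in terms of fibre products -/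
theorem exists_glue [HasPullbacks C] (T : ModSite.Mod O) {U : C} {κ : Type u} (W : κ → C)
    (g : ∀ k, W k ⟶ U) (hcov : Sieve.ofArrows W g ∈ J U) (s : ∀ k, T.val.obj (op (W k)))
    (hs : ∀ k l, T.val.presheaf.map (pullback.fst (g k) (g l)).op (s k) =
      T.val.presheaf.map (pullback.snd (g k) (g l)).op (s l)) :
    ∃ t : T.val.obj (op U), ∀ k, T.val.presheaf.map (g k).op t = s k := by
  have h1 : Presheaf.IsSheaf J (T.val.presheaf ⋙ forget AddCommGrpCat.{u}) :=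
    (Presheaf.isSheaf_iff_isSheaf_forget J T.val.presheaf (forget AddCommGrpCat.{u})).1 T.isSheaf
  have h2 : Presieve.IsSheaf J (T.val.presheaf ⋙ forget AddCommGrpCat.{u}) :=
    (isSheaf_iff_isSheaf_of_type J _).1 h1
  have h3 : Presieve.IsSheafFor (T.val.presheaf ⋙ forget AddCommGrpCat.{u})
      (Presieve.ofArrows W g) :=
    (Presieve.isSheafFor_iff_generate _).2 (h2 _ hcov)
  obtain ⟨t, ht, -⟩ := (Presieve.isSheafFor_arrows_iff_pullbacks
    (T.val.presheaf ⋙ forget AddCommGrpCat.{u}) g).1 h3 s hs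
  exact ⟨t, ht⟩

variable {B : Set C} [HasPullbacks C]

namespace RefData

variable {ι : Type u} {U : ι → C} (R : RefData J B U)

/-- index type of the Čech term -/
abbrev I2 : Type u := Σ i, R.κ i × R.κ i

/-- the fibre products `W_ik ×_{U_i} W_il` -/
noncomputable def V2 (x : R.I2) : C := pullback (R.g x.1 x.2.1) (R.g x.1 x.2.2)

/-- first projection -/
noncomputable def p1 (x : R.I2) : R.V2 x ⟶ R.W x.1 x.2.1 := pullback.fst _ _

/-- second projection -/
noncomputable def p2 (x : R.I2) : R.V2 x ⟶ R.W x.1 x.2.2 := pullback.snd _ _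

lemma p_cond (x : R.I2) : R.p1 x ≫ R.g x.1 x.2.1 = R.p2 x ≫ R.g x.1 x.2.2 := pullback.condition

/-- the Čech term -/
noncomputable abbrev cech : ModSite.Mod O := ∐ fun x : R.I2 => ModSite.freeOn O (R.V2 x)

/-- the Čech differential -/
noncomputable def a : R.cech O ⟶ R.src O :=
  Sigma.desc fun x : R.I2 =>
    eMap O (R.p1 x) ≫ Sigma.ι (fun y : Σ i, R.κ i => ModSite.freeOn O (R.W y.1 y.2)) ⟨x.1, x.2.1⟩ -
    eMap O (R.p2 x) ≫ Sigma.ι (fun y : Σ i, R.κ i => ModSite.freeOn O (R.W y.1 y.2)) ⟨x.1, x.2.2⟩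

@[reassoc]
lemma ι_a (x : R.I2) :
    Sigma.ι (fun x : R.I2 => ModSite.freeOn O (R.V2 x)) x ≫ R.a O =
    eMap O (R.p1 x) ≫ Sigma.ι (fun y : Σ i, R.κ i => ModSite.freeOn O (R.W y.1 y.2)) ⟨x.1, x.2.1⟩ -
    eMap O (R.p2 x) ≫ Sigma.ι (fun y : Σ i, R.κ i => ModSite.freeOn O (R.W y.1 y.2)) ⟨x.1, x.2.2⟩ := by
  unfold a
  rw [Sigma.ι_desc]

lemma a_e : R.a O ≫ R.e O = 0 := by
  apply Sigma.hom_ext
  intro x
  rw [ι_a_assoc, comp_zero, Preadditive.sub_comp, Category.assoc, Category.assoc, ι_e, ι_e,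
    ← Category.assoc, ← Category.assoc, ← eMap_comp, ← eMap_comp, R.p_cond x, sub_self]

theorem exists_desc {T : ModSite.Mod O} (h : R.src O ⟶ T) (hh : R.a O ≫ h = 0) :
    ∃ h' : (∐ fun i => ModSite.freeOn O (U i)) ⟶ T, R.e O ≫ h' = h := by
  have key : ∀ i, ∃ t : T.val.obj (op (U i)), ∀ k, T.val.presheaf.map (R.g i k).op t =
      homEquiv O T (R.W i k)
        (Sigma.ι (fun y : Σ i, R.κ i => ModSite.freeOn O (R.W y.1 y.2)) ⟨i, k⟩ ≫ h) := by
    intro i
    apply exists_glue O T (R.W i) (R.g i) (R.cov i)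
    intro k l
    have h1 := congrArg (fun t => Sigma.ι (fun x : R.I2 => ModSite.freeOn O (R.V2 x))
      ⟨i, (k, l)⟩ ≫ t) hh
    rw [ι_a_assoc, comp_zero, Preadditive.sub_comp, sub_eq_zero, Category.assoc,
      Category.assoc] at h1
    have h2 := congrArg (homEquiv O T _) h1
    rw [homEquiv_eMap_comp, homEquiv_eMap_comp] at h2
    exact h2
  choose t ht using key
  refine ⟨Sigma.desc fun i => (homEquiv O T (U i)).symm (t i), ?_⟩
  apply Sigma.hom_ext
  rintro ⟨i, k⟩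
  rw [ι_e_assoc, Sigma.ι_desc]
  apply (homEquiv O T (R.W i k)).injective
  rw [homEquiv_eMap_comp, Equiv.apply_symm_apply]
  exact ht i k

/-- `R.e` is a cokernel of the Čech differential -/
noncomputable def isColimit : IsColimit (CokernelCofork.ofπ (R.e O) (R.a_e O)) :=
  CokernelCofork.IsColimit.ofπ _ _
    (fun {T} h hh => (R.exists_desc O h hh).choose)
    (fun {T} h hh => (R.exists_desc O h hh).choose_spec)
    (fun {T} h hh m hm => by
      rw [← cancel_epi (R.e O), hm, (R.exists_desc O h hh).choose_spec])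

theorem exact_a_e : (ShortComplex.mk (R.a O) (R.e O) (R.a_e O)).Exact :=
  ShortComplex.exact_of_g_is_cokernel _ (R.isColimit O)

end RefData

variable (B)

/-- refinement data for a family of quasi-compact objects -/
theorem nonempty_refData
    (hB₁ : ∀ X : C, ∃ (κ : Type u) (Y : κ → C) (g : ∀ k, Y k ⟶ X),
      Sieve.ofArrows Y g ∈ J X ∧ ∀ k, Y k ∈ B)
    {ι : Type u} (V : ι → C) (hV : ∀ i, CohCx.IsQcObject (hSh J (V i))) :
    Nonempty (RefData J B V) := by
  choose κ hκ W g hW _ hcov using fun i =>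
    exists_finite_cover B hB₁ (hV i) (⊤ : Sieve (V i)) (J.top_mem _)
  exact ⟨⟨κ, hκ, W, g, hW, hcov⟩⟩

/-- the kernel of a refinement map is finitely generated: an exact sequence `A ⟶ R.src ⟶ ⊕ j_!O`
with `A` a finite sum of `j_! O_V`, `V ∈ B`. -/
theorem RefData.exists_exact
    (hB₁ : ∀ X : C, ∃ (κ : Type u) (Y : κ → C) (g : ∀ k, Y k ⟶ X),
      Sieve.ofArrows Y g ∈ J X ∧ ∀ k, Y k ∈ B)
    (hB₃ : ∀ (U U₁ U₂ : C) (f₁ : U₁ ⟶ U) (f₂ : U₂ ⟶ U), U ∈ B → U₁ ∈ B → U₂ ∈ B →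
      CohCx.IsQcObject (hSh J (pullback f₁ f₂)))
    {ι : Type u} [Finite ι] {U : ι → C} (hU : ∀ i, U i ∈ B) (R : RefData J B U) :
    ∃ (A : ModSite.Mod O) (_ : IsFF O B A) (a : A ⟶ R.src O) (ha : a ≫ R.e O = 0),
      (ShortComplex.mk a (R.e O) ha).Exact := by
  haveI := R.fin
  obtain ⟨R'⟩ := nonempty_refData B hB₁ R.V2
    (fun x => hB₃ _ _ _ _ _ (hU x.1) (R.memB x.1 x.2.1) (R.memB x.1 x.2.2))
  refine ⟨R'.src O, R'.isFF_src O, R'.e O ≫ R.a O, by rw [Category.assoc, R.a_e, comp_zero], ?_⟩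
  have hex := R.exact_a_e O
  rw [ShortComplex.exact_iff_exact_up_to_refinements] at hex ⊢
  intro T x₂ hx₂
  obtain ⟨T', p, hp, x₁, hx₁⟩ := hex x₂ hx₂
  obtain ⟨T'', p', hp', y, hy⟩ := (epi_iff_surjective_up_to_refinements (R'.e O)).1 inferInstance x₁
  refine ⟨T'', p' ≫ p, epi_comp _ _, y, ?_⟩
  dsimp at hx₁ ⊢
  rw [Category.assoc, hx₁, ← Category.assoc, hy, Category.assoc]

end Groth.Agent.Lib.Helper21.TypeA
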