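import Mathlib
import Groth.Agent.Lib.Helper21TypeA2

/-!
# Helper21: change of presentation and horseshoe lemma for presentations (abelian categories)
-/

set_option autoImplicit false
open CategoryTheory CategoryTheory.Limits

namespace Groth.Agent.Lib.Helper21.TypeA

universe v w
variable {𝒜 : Type w} [Category.{v} 𝒜] [Abelian 𝒜]

/-- precomposing the first map of an exact sequence with an epi keeps it exact -/
theorem exact_epi_comp {A' A P F : 𝒜} (r : A' ⟶ A) [Epi r] (a : A ⟶ P) (π : P ⟶ F)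
    (h : a ≫ π = 0) (hex : (ShortComplex.mk a π h).Exact) :
    (ShortComplex.mk (r ≫ a) π (by rw [Category.assoc, h, comp_zero])).Exact := by
  rw [ShortComplex.exact_iff_exact_up_to_refinements] at hex ⊢
  intro T x₂ hx₂
  obtain ⟨T', p, hp, x₁, hx₁⟩ := hex x₂ hx₂
  obtain ⟨T'', p', hp', y, hy⟩ := (epi_iff_surjective_up_to_refinements r).1 inferInstance x₁
  refine ⟨T'', p' ≫ p, epi_comp _ _, y, ?_⟩
  dsimp at hx₁ ⊢
  rw [Category.assoc, hx₁, ← Category.assoc, hy, Category.assoc]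

section ChangePres

variable {Q P F P' A Q' : 𝒜} (ψ : Q ⟶ P) (π : P ⟶ F) (hψπ : ψ ≫ π = 0)
  (hex : (ShortComplex.mk ψ π hψπ).Exact)
  (e : P' ⟶ P) (a : A ⟶ P') (hae : a ≫ e = 0) (hex' : (ShortComplex.mk a e hae).Exact)
  (e'' : Q' ⟶ Q) [Epi e''] (ψ' : Q' ⟶ P') (hψ' : ψ' ≫ e = e'' ≫ ψ)

include hψπ hae hψ' in
lemma changePres_zero : biprod.desc a ψ' ≫ e ≫ π = 0 := by
  apply biprod.hom_ext'
  · rw [biprod.inl_desc_assoc, comp_zero, ← Category.assoc, hae, zero_comp]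
  · rw [biprod.inr_desc_assoc, comp_zero, ← Category.assoc, hψ', Category.assoc, hψπ, comp_zero]

include hex hex' in
theorem exact_changePres :
    (ShortComplex.mk (biprod.desc a ψ') (e ≫ π) (changePres_zero ψ π hψπ e a hae e'' ψ' hψ')).Exact := by
  rw [ShortComplex.exact_iff_exact_up_to_refinements] at hex hex' ⊢
  intro T x hx
  dsimp at x hx
  -- x ≫ e lies in the image of ψ
  obtain ⟨T₁, p₁, hp₁, y, hy⟩ := hex (x ≫ e) (by dsimp; rw [Category.assoc, hx])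
  dsimp at y hy
  obtain ⟨T₂, p₂, hp₂, z, hz⟩ := (epi_iff_surjective_up_to_refinements e'').1 inferInstance y
  have h1 : (p₂ ≫ p₁ ≫ x - z ≫ ψ') ≫ e = 0 := by
    rw [Preadditive.sub_comp, Category.assoc, Category.assoc, Category.assoc, hψ', hy,
      ← Category.assoc z, ← hz, Category.assoc, sub_self]
  obtain ⟨T₃, p₃, hp₃, w, hw⟩ := hex' (p₂ ≫ p₁ ≫ x - z ≫ ψ') h1
  dsimp at w hw
  refine ⟨T₃, p₃ ≫ p₂ ≫ p₁, epi_comp _ _, biprod.lift w (p₃ ≫ z), ?_⟩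
  dsimp
  rw [biprod.lift_desc, ← hw, Preadditive.comp_sub, Category.assoc, Category.assoc,
    Category.assoc]
  abel

end ChangePres

section Horseshoe

variable (S : ShortComplex 𝒜) (hS : S.ShortExact)
  {P₁ R₁ P₃ R₃ : 𝒜} (π₁ : P₁ ⟶ S.X₁) [Epi π₁] (r₁ : R₁ ⟶ P₁) (h₁ : r₁ ≫ π₁ = 0)
  (hex₁ : (ShortComplex.mk r₁ π₁ h₁).Exact)
  (π₃ : P₃ ⟶ S.X₃) [Epi π₃] (r₃ : R₃ ⟶ P₃) (h₃ : r₃ ≫ π₃ = 0)
  (hex₃ : (ShortComplex.mk r₃ π₃ h₃).Exact)
  (s : P₃ ⟶ S.X₂) (hs : s ≫ S.g = π₃) (w : R₃ ⟶ P₁) (hw : w ≫ π₁ ≫ S.f = r₃ ≫ s)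

/-- the middle projection -/
noncomputable def hsπ : P₁ ⊞ P₃ ⟶ S.X₂ := biprod.desc (π₁ ≫ S.f) s

/-- the middle relation map -/
noncomputable def hsr : R₁ ⊞ R₃ ⟶ P₁ ⊞ P₃ :=
  biprod.desc (r₁ ≫ biprod.inl) (biprod.lift (-w) r₃)

include h₁ hw in
lemma hsr_hsπ : hsr r₁ r₃ w ≫ hsπ S π₁ s = 0 := by
  unfold hsr hsπ
  apply biprod.hom_ext'
  · rw [biprod.inl_desc_assoc, comp_zero, Category.assoc, biprod.inl_desc, ← Category.assoc, h₁,
      zero_comp]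
  · rw [biprod.inr_desc_assoc, comp_zero, biprod.lift_desc, Preadditive.neg_comp, hw, neg_add_cancel]

include hS hs in
theorem epi_hsπ : Epi (hsπ S π₁ s) := by
  have hSex := hS.exact
  rw [ShortComplex.exact_iff_exact_up_to_refinements] at hSex
  rw [epi_iff_surjective_up_to_refinements]
  intro T y
  obtain ⟨T₁, p₁, hp₁, x₃, hx₃⟩ := (epi_iff_surjective_up_to_refinements π₃).1 inferInstance
    (y ≫ S.g)
  have h1 : (p₁ ≫ y - x₃ ≫ s) ≫ S.g = 0 := by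
    rw [Preadditive.sub_comp, Category.assoc, Category.assoc, hs, hx₃, sub_self]
  obtain ⟨T₂, p₂, hp₂, z, hz⟩ := hSex _ h1
  obtain ⟨T₃, p₃, hp₃, x₁, hx₁⟩ := (epi_iff_surjective_up_to_refinements π₁).1 inferInstance z
  refine ⟨T₃, p₃ ≫ p₂ ≫ p₁, epi_comp _ _, biprod.lift x₁ (p₃ ≫ p₂ ≫ x₃), ?_⟩
  unfold hsπ
  rw [biprod.lift_desc, ← Category.assoc x₁, ← hx₁, Category.assoc p₃ z S.f, ← hz]
  simp only [Preadditive.comp_sub, Category.assoc]
  abel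

include hS hex₁ hex₃ hs hw in
theorem exact_horseshoe :
    (ShortComplex.mk (hsr r₁ r₃ w) (hsπ S π₁ s) (hsr_hsπ S π₁ r₁ h₁ r₃ s w hw)).Exact := by
  haveI := hS.mono_f
  rw [ShortComplex.exact_iff_exact_up_to_refinements] at hex₁ hex₃ ⊢
  intro T x hx
  dsimp at x hx
  unfold hsπ at hx
  -- components
  have hx' : (x ≫ biprod.fst) ≫ π₁ ≫ S.f + (x ≫ biprod.snd) ≫ s = 0 := by
    rw [← comp_desc_eq]; exact hx
  have h3 : (x ≫ biprod.snd) ≫ π₃ = 0 := by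
    have h4 : ((x ≫ biprod.fst) ≫ π₁ ≫ S.f + (x ≫ biprod.snd) ≫ s) ≫ S.g = 0 := by
      rw [hx', zero_comp]
    simp only [Preadditive.add_comp, Category.assoc, S.zero, comp_zero, zero_add, hs] at h4
    rw [Category.assoc]; exact h4
  obtain ⟨T₁, p₁, hp₁, y₃, hy₃⟩ := hex₃ (x ≫ biprod.snd) h3
  have h5 : (p₁ ≫ x ≫ biprod.fst + y₃ ≫ w) ≫ π₁ = 0 := by
    rw [← cancel_mono S.f, zero_comp]
    simp only [Preadditive.add_comp, Category.assoc]
    rw [hw, ← Category.assoc y₃ r₃ s, ← hy₃]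
    have h6 : p₁ ≫ ((x ≫ biprod.fst) ≫ π₁ ≫ S.f + (x ≫ biprod.snd) ≫ s) = 0 := by
      rw [hx', comp_zero]
    simp only [Preadditive.comp_add, Category.assoc] at h6
    simpa only [Category.assoc] using h6
  obtain ⟨T₂, p₂, hp₂, y₁, hy₁⟩ := hex₁ _ h5
  refine ⟨T₂, p₂ ≫ p₁, epi_comp _ _, biprod.lift y₁ (p₂ ≫ y₃), ?_⟩
  dsimp
  unfold hsr
  rw [biprod.lift_desc]
  apply biprod.hom_ext
  · simp only [Category.assoc, Preadditive.add_comp, biprod.inl_fst, Category.comp_id,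
      biprod.lift_fst, Preadditive.comp_neg]
    rw [← hy₁, Preadditive.comp_add]
    abel
  · simp only [Category.assoc, Preadditive.add_comp, biprod.inl_snd, comp_zero, zero_add,
      biprod.lift_snd]
    rw [hy₃]

end Horseshoe

end Groth.Agent.Lib.Helper21.TypeA
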