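import Mathlib
import Groth.Agent.Lib.Helper21TypeA5
import Groth.Agent.Lib.Helper21TypeA6

/-!
# Helper21: modules of type A are closed under extensions
-/

set_option autoImplicit false
universe u
open CategoryTheory CategoryTheory.Limits Opposite

namespace Groth.Agent.Lib.Helper21.TypeA

variable {C : Type u} [SmallCategory C] {J : GrothendieckTopology C} (O : Sheaf J CommRingCat.{u})
  (B : Set C)

variable {O B}

theorem isTypeA_of_exact {R P F : ModSite.Mod O} (hR : IsFF O B R) (hP : IsFF O B P)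
    (r : R ⟶ P) (π : P ⟶ F) [Epi π] (h : r ≫ π = 0) (hex : (ShortComplex.mk r π h).Exact) :
    IsTypeA O B F := by
  obtain ⟨e⟩ := nonempty_iso_cokernel_of_exact (ShortComplex.mk r π h) hex
  exact (isTypeA_cokernel hR hP r).of_iso e.symm

/-- a presentation of a module of type A whose middle term is literally a coproduct -/
theorem IsTypeA.exists_exact_sigma {F : ModSite.Mod O} (hF : IsTypeA O B F) :
    ∃ (ι : Type u) (_ : Finite ι) (U : ι → C) (_ : ∀ i, U i ∈ B) (Q : ModSite.Mod O)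
      (_ : IsFF O B Q) (ψ : Q ⟶ ∐ fun i => ModSite.freeOn O (U i))
      (π : (∐ fun i => ModSite.freeOn O (U i)) ⟶ F) (h : ψ ≫ π = 0),
      Epi π ∧ (ShortComplex.mk ψ π h).Exact := by
  obtain ⟨Q, P, ψ, hQ, ⟨ι, hι, U, hU, ⟨eP⟩⟩, ⟨iF⟩⟩ := hF.exists_pres
  have h0 : (ψ ≫ eP.hom) ≫ eP.inv ≫ cokernel.π ψ ≫ iF.inv = 0 := by simp
  refine ⟨ι, hι, U, hU, Q, hQ, ψ ≫ eP.hom, eP.inv ≫ cokernel.π ψ ≫ iF.inv, h0, inferInstance, ?_⟩
  have hex : (ShortComplex.mk ψ (cokernel.π ψ) (cokernel.condition ψ)).Exact :=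
    ShortComplex.exact_cokernel ψ
  rw [ShortComplex.exact_iff_exact_up_to_refinements] at hex ⊢
  intro T x hx
  dsimp at x hx
  have h1 : (x ≫ eP.inv) ≫ cokernel.π ψ = 0 := by
    rw [← cancel_mono iF.inv, zero_comp, Category.assoc, Category.assoc]
    exact hx
  obtain ⟨T', p, hp, y, hy⟩ := hex (x ≫ eP.inv) h1
  dsimp at y hy
  refine ⟨T', p, hp, y, ?_⟩
  dsimp
  rw [← Category.assoc, ← hy, Category.assoc, Category.assoc, Iso.inv_hom_id, Category.comp_id]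

variable (O B)

/-- a presentation of a module `F₃` of type A adapted to an epimorphism `q : F₂ ⟶ F₃` -/
theorem exists_exact_lift [HasPullbacks C]
    (hB₁ : ∀ X : C, ∃ (κ : Type u) (Y : κ → C) (g : ∀ k, Y k ⟶ X),
      Sieve.ofArrows Y g ∈ J X ∧ ∀ k, Y k ∈ B)
    (hB₂ : ∀ U ∈ B, CohCx.IsQcObject (hSh J U))
    (hB₃ : ∀ (U U₁ U₂ : C) (f₁ : U₁ ⟶ U) (f₂ : U₂ ⟶ U), U ∈ B → U₁ ∈ B → U₂ ∈ B →
      CohCx.IsQcObject (hSh J (pullback f₁ f₂)))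
    {F₂ F₃ : ModSite.Mod O} (q : F₂ ⟶ F₃) [Epi q] (hF : IsTypeA O B F₃) :
    ∃ (R P : ModSite.Mod O) (_ : IsFF O B R) (_ : IsFF O B P) (r : R ⟶ P) (π : P ⟶ F₃)
      (h : r ≫ π = 0) (s : P ⟶ F₂), Epi π ∧ (ShortComplex.mk r π h).Exact ∧ s ≫ q = π := by
  obtain ⟨ι, hι, U, hU, Q, hQ, ψ, π, h, hπ, hex⟩ := hF.exists_exact_sigma
  obtain ⟨R, s, hs⟩ := exists_refine_sigma O B hB₁ hB₂ U hU q π
  obtain ⟨A, hA, a, ha, hexA⟩ := RefData.exists_exact O B hB₁ hB₃ hU R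
  obtain ⟨Q', hQ', e'', he'', ψ', hψ'⟩ := exists_refine O B hB₁ hB₂ hQ (R.e O) ψ
  refine ⟨A ⊞ Q', R.src O, hA.biprod hQ', R.isFF_src O, biprod.desc a ψ', R.e O ≫ π,
    changePres_zero ψ π h (R.e O) a ha e'' ψ' hψ', s, epi_comp _ _, ?_, hs⟩
  exact exact_changePres ψ π h hex (R.e O) a ha hexA e'' ψ' hψ'

theorem isTypeA_of_shortExact [HasPullbacks C]
    (hB₁ : ∀ X : C, ∃ (κ : Type u) (Y : κ → C) (g : ∀ k, Y k ⟶ X),
      Sieve.ofArrows Y g ∈ J X ∧ ∀ k, Y k ∈ B)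
    (hB₂ : ∀ U ∈ B, CohCx.IsQcObject (hSh J U))
    (hB₃ : ∀ (U U₁ U₂ : C) (f₁ : U₁ ⟶ U) (f₂ : U₂ ⟶ U), U ∈ B → U₁ ∈ B → U₂ ∈ B →
      CohCx.IsQcObject (hSh J (pullback f₁ f₂)))
    (S : ShortComplex (ModSite.Mod O)) (hS : S.ShortExact)
    (h₁ : IsTypeA O B S.X₁) (h₃ : IsTypeA O B S.X₃) : IsTypeA O B S.X₂ := by
  haveI := hS.mono_f
  haveI := hS.epi_g
  obtain ⟨ι₁, hι₁, U₁, hU₁, R₁, hR₁, r₁, π₁, hr₁, hπ₁, hex₁⟩ := h₁.exists_exact_sigma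
  obtain ⟨R₃, P₃, hR₃, hP₃, r₃, π₃, hr₃, s, hπ₃, hex₃, hs⟩ :=
    exists_exact_lift O B hB₁ hB₂ hB₃ S.g h₃
  have h0 : (r₃ ≫ s) ≫ S.g = 0 := by rw [Category.assoc, hs, hr₃]
  obtain ⟨R₃', hR₃', e₃, he₃, w, hw⟩ := exists_refine O B hB₁ hB₂ hR₃ π₁ (hS.exact.lift _ h0)
  have hex₃' := exact_epi_comp e₃ r₃ π₃ hr₃ hex₃
  have hw' : w ≫ π₁ ≫ S.f = (e₃ ≫ r₃) ≫ s := by
    rw [← Category.assoc, hw, Category.assoc, ShortComplex.Exact.lift_f, Category.assoc]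
  have hex := exact_horseshoe S hS π₁ r₁ hr₁ hex₁ π₃ (e₃ ≫ r₃) _ hex₃' s hs w hw'
  haveI := epi_hsπ S hS π₁ π₃ s hs
  exact isTypeA_of_exact (hR₁.biprod hR₃') ((isFF_sigma U₁ hU₁).biprod hP₃) _ _ _ hex

end Groth.Agent.Lib.Helper21.TypeA
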