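import Mathlib
import Groth.Agent.Lib.Helper21FiltColim2
import Groth.Agent.Lib.Helper21CoprodSec2
import Groth.Agent.Lib.Helper21TypeA7

/-!
# Helper21: every module is a filtered colimit of modules of type A
-/

set_option autoImplicit false
universe u
open CategoryTheory CategoryTheory.Limits Opposite

namespace Groth.Agent.Lib.Helper21.TypeA

open Groth.Agent.Lib.Helper23FreeOn Groth.Agent.Lib.Helper21.CoprodSec
  Groth.Agent.Lib.Helper21.FiltColim

variable {C : Type u} [SmallCategory C] {J : GrothendieckTopology C} (O : Sheaf J CommRingCat.{u})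
  (B : Set C)

/-- every module is a quotient of a direct sum of `j_{U!} O_U`, `U ∈ B` -/
theorem exists_epi_freeOn
    (hB₁ : ∀ X : C, ∃ (κ : Type u) (Y : κ → C) (g : ∀ k, Y k ⟶ X),
      Sieve.ofArrows Y g ∈ J X ∧ ∀ k, Y k ∈ B)
    (M : ModSite.Mod O) :
    ∃ (I : Type u) (U : I → C) (_ : ∀ i, U i ∈ B)
      (π : (∐ fun i => ModSite.freeOn O (U i)) ⟶ M), Epi π := by
  let I : Type u := Σ (U : {U : C // U ∈ B}), M.val.obj (op U.1)
  refine ⟨I, fun x => x.1.1, fun x => x.1.2,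
    Sigma.desc fun x : I => (homEquiv O M x.1.1).symm x.2, ⟨?_⟩⟩
  intro T a b hab
  have key : ∀ (U : C) (_ : U ∈ B) (s : M.val.obj (op U)),
      a.val.app (op U) s = b.val.app (op U) s := by
    intro U hU s
    have h1 := congrArg (fun t => Sigma.ι (fun x : I => ModSite.freeOn O x.1.1) ⟨⟨U, hU⟩, s⟩ ≫ t)
      hab
    simp only [Sigma.ι_desc_assoc] at h1
    rw [homEquiv_symm_comp, homEquiv_symm_comp] at h1
    exact (homEquiv O T U).symm.injective h1
  apply SheafOfModules.hom_ext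
  apply PresheafOfModules.hom_ext
  intro X
  apply ModuleCat.hom_ext
  apply LinearMap.ext
  intro x
  obtain ⟨κ, Yf, g, hcov, hY⟩ := hB₁ X.unop
  have hsep : Presheaf.IsSeparated J T.val.presheaf := Presheaf.IsSheaf.isSeparated T.isSheaf
  apply hsep X.unop _ hcov
  rintro Y' f ⟨_, c, _, ⟨k⟩, rfl⟩
  have h1 : ∀ (w : M ⟶ T), T.val.presheaf.map (c ≫ g k).op (w.val.app X x) =
      T.val.map c.op (w.val.app (op (Yf k)) (M.val.map (g k).op x)) := by
    intro w
    have h2 := PresheafOfModules.naturality_apply w.val (g k).op x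
    rw [h2, op_comp]
    exact PresheafOfModules.map_comp_apply T.val (g k).op c.op _
  exact (h1 a).trans ((congrArg _ (key (Yf k) (hY k) _)).trans (h1 b).symm)

/-- maps from `j_{U!} O_U`, `U` quasi-compact, to a direct sum factor through a finite sub-sum -/
theorem exists_factor (U : C) (hU : CohCx.IsQcObject (hSh J U)) {ι : Type u}
    (f : ι → ModSite.Mod O) (x : ModSite.freeOn O U ⟶ ∐ f) :
    ∃ t : Finset ι, x ≫ pr f t = x := by
  have hW : HasFinSubcover J U := hasFinSubcover_of_isQcObject hU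
  obtain ⟨t, z, hz⟩ := exists_finite_sum f hW (homEquiv O (∐ f) U x)
  refine ⟨t, ?_⟩
  have hx : x = ∑ i ∈ t, (homEquiv O (f i) U).symm (z i) ≫ Sigma.ι f i := by
    apply (homEquiv O (∐ f) U).injective
    rw [hz, homEquiv_eq O (∐ f) U (∑ i ∈ t, _), sum_val_app]
    refine Finset.sum_congr rfl fun i _ => ?_
    rw [← homEquiv_eq, homEquiv_comp, Equiv.apply_symm_apply]
  conv_lhs => rw [hx]
  conv_rhs => rw [hx]
  rw [Preadditive.sum_comp]
  refine Finset.sum_congr rfl fun i hi => ?_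
  rw [Category.assoc, ι_pr_of_mem f t i hi]

theorem exists_filtered_colimit
    (hB₁ : ∀ X : C, ∃ (κ : Type u) (Y : κ → C) (g : ∀ k, Y k ⟶ X),
      Sieve.ofArrows Y g ∈ J X ∧ ∀ k, Y k ∈ B)
    (hB₂ : ∀ U ∈ B, CohCx.IsQcObject (hSh J U)) (F : ModSite.Mod O) :
    ∃ (Λ : Type u) (_ : SmallCategory Λ) (_ : IsFiltered Λ) (D : Λ ⥤ ModSite.Mod O)
      (ι : D ⟶ (Functor.const Λ).obj F),
      (∀ l, IsTypeA O B (D.obj l)) ∧ Nonempty (IsColimit (Cocone.mk F ι)) := by
  obtain ⟨I, U, hU, π, hπ⟩ := exists_epi_freeOn O B hB₁ F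
  obtain ⟨J', V, hV, π', hπ'⟩ := exists_epi_freeOn O B hB₁ (kernel π)
  let A : I → ModSite.Mod O := fun i => ModSite.freeOn O (U i)
  let Bf : J' → ModSite.Mod O := fun j => ModSite.freeOn O (V j)
  let ψ : ∐ Bf ⟶ ∐ A := π' ≫ kernel.ι π
  have hψπ : ψ ≫ π = 0 := by rw [Category.assoc, kernel.condition, comp_zero]
  have hex : (ShortComplex.mk ψ π hψπ).Exact :=
    exact_epi_comp π' (kernel.ι π) π (kernel.condition π) (ShortComplex.exact_kernel π)
  obtain ⟨e⟩ := nonempty_iso_cokernel_of_exact (ShortComplex.mk ψ π hψπ) hex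
  have H : ∀ j, ∃ t : Finset I, Valid A Bf ψ {j} t := by
    intro j
    obtain ⟨t, ht⟩ := exists_factor O (V j) (hB₂ _ (hV j)) A (Sigma.ι Bf j ≫ ψ)
    refine ⟨t, ?_⟩
    intro j' hj'
    obtain rfl : j' = j := Finset.mem_singleton.1 hj'
    rw [← Category.assoc, ht]
  refine ⟨Idx A Bf ψ, inferInstance, inferInstance, FiltColim.D,
    coconeι ≫ (Functor.const _).map e.inv, ?_, ⟨?_⟩⟩
  · intro l
    exact isTypeA_cokernel (isFF_sigma (fun j : l.1.1 => V j.1) (fun j => hV j.1))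
      (isFF_sigma (fun i : l.1.2 => U i.1) (fun i => hU i.1)) (ψl l)
  · exact IsColimit.ofIsoColimit (FiltColim.isColimit H)
      (Cocones.ext e.symm (fun l => rfl))

end Groth.Agent.Lib.Helper21.TypeA
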