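import Mathlib

/-!
# Helper21: acyclic bounded-below complexes of "flat" objects stay acyclic under a right exact functor
-/

open CategoryTheory Limits

namespace Groth.Agent.Lib.Helper21.FlatCx

universe v u

variable {A : Type u} [Category.{v} A] [Abelian A]

section

variable (K : ChainComplex A ℤ)

/-- The short complex `Z_i → K_i → Z_j` for `j + 1 = i`. -/
noncomputable def cycSES (i j : ℤ) : ShortComplex A :=
  ShortComplex.mk (K.iCycles i) (K.toCycles i j)
    (by rw [← cancel_mono (K.iCycles j), Category.assoc, K.toCycles_i, K.iCycles_d, zero_comp])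

theorem cycSES_shortExact (hac : K.Acyclic) (i j : ℤ) (hij : j + 1 = i) :
    (cycSES K i j).ShortExact := by
  have hnext : (ComplexShape.down ℤ).next i = j := by
    rw [ChainComplex.next]; omega
  have hprev : (ComplexShape.down ℤ).prev j = i := by
    rw [ChainComplex.prev]; omega
  have hexact : (cycSES K i j).Exact := by
    let S' : ShortComplex A := ShortComplex.mk (K.iCycles i) (K.d i j) (K.iCycles_d i j)
    have hS' : S'.Exact := ShortComplex.exact_of_f_is_kernel _ (K.cyclesIsKernel i j hnext)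
    let φ : cycSES K i j ⟶ S' :=
      { τ₁ := 𝟙 _
        τ₂ := 𝟙 _
        τ₃ := K.iCycles j
        comm₁₂ := by simp [cycSES, S']
        comm₂₃ := by simp [cycSES, S'] }
    haveI : Epi φ.τ₁ := inferInstanceAs (Epi (𝟙 _))
    haveI : IsIso φ.τ₂ := inferInstanceAs (IsIso (𝟙 _))
    haveI : Mono φ.τ₃ := inferInstanceAs (Mono (K.iCycles j))
    exact (ShortComplex.exact_iff_of_epi_of_isIso_of_mono φ).2 hS'
  have hepi : Epi (K.toCycles i j) := by
    have h := hac j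
    rw [HomologicalComplex.exactAt_iff, ShortComplex.exact_iff_epi_toCycles] at h
    subst hprev
    exact h
  exact { exact := hexact, mono_f := inferInstanceAs (Mono (K.iCycles i)), epi_g := hepi }

end

variable (Φ : A ⥤ A) [Φ.Additive] [PreservesFiniteColimits Φ]
  (𝓕 : A → Prop)

theorem flat_cycles (h0 : ∀ X, IsZero X → 𝓕 X)
    (hker : ∀ S : ShortComplex A, S.ShortExact → 𝓕 S.X₂ → 𝓕 S.X₃ → 𝓕 S.X₁)
    (K : ChainComplex A ℤ) (hb : ∃ i₀ : ℤ, ∀ i, i < i₀ → IsZero (K.X i))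
    (hK : ∀ i, 𝓕 (K.X i)) (hac : K.Acyclic) (i : ℤ) : 𝓕 (K.cycles i) := by
  obtain ⟨i₀, hi₀⟩ := hb
  have hzero : ∀ j, j < i₀ → 𝓕 (K.cycles j) := fun j hj =>
    h0 _ (IsZero.of_mono (K.iCycles j) (hi₀ j hj))
  by_cases hi : i < i₀
  · exact hzero i hi
  · have hle : i₀ - 1 ≤ i := by omega
    induction i, hle using Int.le_induction with
    | base => exact hzero _ (by omega)
    | succ n hn ih =>
      by_cases hn' : n < i₀
      · exact hker _ (cycSES_shortExact K hac (n + 1) n rfl) (hK _) (hzero n hn')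
      · exact hker _ (cycSES_shortExact K hac (n + 1) n rfl) (hK _) (ih hn')

theorem acyclic_map (h0 : ∀ X, IsZero X → 𝓕 X)
    (hker : ∀ S : ShortComplex A, S.ShortExact → 𝓕 S.X₂ → 𝓕 S.X₃ → 𝓕 S.X₁)
    (hΦ : ∀ S : ShortComplex A, S.ShortExact → 𝓕 S.X₃ → (S.map Φ).ShortExact)
    (K : ChainComplex A ℤ) (hb : ∃ i₀ : ℤ, ∀ i, i < i₀ → IsZero (K.X i))
    (hK : ∀ i, 𝓕 (K.X i)) (hac : K.Acyclic) :
    ((Φ.mapHomologicalComplex (ComplexShape.down ℤ)).obj K).Acyclic := by
  intro j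
  have hcyc := flat_cycles 𝓕 h0 hker K hb hK hac
  have hprev : (ComplexShape.down ℤ).prev j = j + 1 := by rw [ChainComplex.prev]
  have hnext : (ComplexShape.down ℤ).next j = j - 1 := by rw [ChainComplex.next]
  rw [HomologicalComplex.exactAt_iff' _ (j + 1) j (j - 1) hprev hnext]
  -- the three short complexes
  have hSb := hΦ _ (cycSES_shortExact K hac j (j - 1) (by omega)) (hcyc (j - 1))
  have hSk := hΦ _ (cycSES_shortExact K hac (j - 1) (j - 1 - 1) (by omega)) (hcyc (j - 1 - 1))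
  have hepi0 : Epi (K.toCycles (j + 1) j) := (cycSES_shortExact K hac (j + 1) j rfl).epi_g
  haveI : Epi (Φ.map (K.toCycles (j + 1) j)) := inferInstance
  haveI : Mono (Φ.map (K.iCycles (j - 1))) := hSk.mono_f
  let Sa : ShortComplex A := ShortComplex.mk (Φ.map (K.d (j + 1) j)) (Φ.map (K.toCycles j (j - 1)))
    (by
      rw [← cancel_mono (Φ.map (K.iCycles (j - 1))), Category.assoc, ← Φ.map_comp,
        K.toCycles_i, ← Φ.map_comp, K.d_comp_d, Φ.map_zero, zero_comp])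
  let φ₁ : Sa ⟶ (cycSES K j (j - 1)).map Φ :=
    { τ₁ := Φ.map (K.toCycles (j + 1) j)
      τ₂ := 𝟙 _
      τ₃ := 𝟙 _
      comm₁₂ := by
        change Φ.map (K.toCycles (j + 1) j) ≫ Φ.map (K.iCycles j) = Φ.map (K.d (j + 1) j) ≫ 𝟙 _
        rw [← Φ.map_comp, K.toCycles_i, Category.comp_id]
      comm₂₃ := by
        change 𝟙 _ ≫ Φ.map (K.toCycles j (j - 1)) = Φ.map (K.toCycles j (j - 1)) ≫ 𝟙 _
        rw [Category.comp_id, Category.id_comp] }
  haveI : Epi φ₁.τ₁ := inferInstanceAs (Epi (Φ.map (K.toCycles (j + 1) j)))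
  haveI : IsIso φ₁.τ₂ := inferInstanceAs (IsIso (𝟙 _))
  haveI : Mono φ₁.τ₃ := inferInstanceAs (Mono (𝟙 _))
  have hSa : Sa.Exact := (ShortComplex.exact_iff_of_epi_of_isIso_of_mono φ₁).2 hSb.exact
  let φ₂ : Sa ⟶ ((Φ.mapHomologicalComplex (ComplexShape.down ℤ)).obj K).sc' (j + 1) j (j - 1) :=
    { τ₁ := 𝟙 _
      τ₂ := 𝟙 _
      τ₃ := Φ.map (K.iCycles (j - 1))
      comm₁₂ := by
        change 𝟙 _ ≫ Φ.map (K.d (j + 1) j) = Φ.map (K.d (j + 1) j) ≫ 𝟙 _
        rw [Category.comp_id, Category.id_comp]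
      comm₂₃ := by
        change 𝟙 _ ≫ Φ.map (K.d j (j - 1)) = Φ.map (K.toCycles j (j - 1)) ≫ Φ.map (K.iCycles (j - 1))
        rw [← Φ.map_comp, K.toCycles_i, Category.id_comp] }
  haveI : Epi φ₂.τ₁ := inferInstanceAs (Epi (𝟙 _))
  haveI : IsIso φ₂.τ₂ := inferInstanceAs (IsIso (𝟙 _))
  haveI : Mono φ₂.τ₃ := inferInstanceAs (Mono (Φ.map (K.iCycles (j - 1))))
  exact (ShortComplex.exact_iff_of_epi_of_isIso_of_mono φ₂).1 hSa

end Groth.Agent.Lib.Helper21.FlatCx
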