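import Mathlib
import Groth.Prelude.Def_RDerDelta
import Groth.Agent.S16463
set_option backward.isDefEq.respectTransparency.types false

/-!
# The adjunction edge map on `Ext` groups (helper23)

For an adjunction `L ⊣ R` between abelian categories with `L` exact, `w : Z' ⟶ L Z`, the edge map
`Ext^p(Z, R A) → Ext^p(Z', A)` (apply `L`, precompose with `w`, postcompose with the counit) is bijective for every
`R`-acyclic object `A` as soon as it is bijective in degree `0` (dimension shifting).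
-/

set_option autoImplicit false
universe w w' v v' u u'
open CategoryTheory CategoryTheory.Limits Abelian

namespace Groth.Agent.Lib.Helper23.AdjEdge

variable {𝒞 : Type u} [Category.{v} 𝒞] [Abelian 𝒞] [HasExt.{w} 𝒞]
variable {𝒟 : Type u'} [Category.{v'} 𝒟] [Abelian 𝒟] [HasExt.{w'} 𝒟]
variable (L : 𝒞 ⥤ 𝒟) [L.Additive] [PreservesFiniteLimits L] [PreservesFiniteColimits L]
variable {Z : 𝒞} {Z' : 𝒟} (w : Z' ⟶ L.obj Z)

/-- the general edge map `Ext^p(Z, Y) → Ext^p(Z', A)` attached to `κ : L Y ⟶ A` -/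
noncomputable def edgeG {Y : 𝒞} {A : 𝒟} (κ : L.obj Y ⟶ A) (p : ℕ) : Ext.{w} Z Y p →+ Ext.{w'} Z' A p :=
  ((Ext.mk₀ κ).postcomp Z' (add_zero p)).comp
    (((Ext.mk₀ w).precomp (L.obj Y) (zero_add p)).comp (L.mapExtAddHom Z Y p))

lemma edgeG_apply {Y : 𝒞} {A : 𝒟} (κ : L.obj Y ⟶ A) (p : ℕ) (x : Ext.{w} Z Y p) :
    edgeG L w κ p x =
      ((Ext.mk₀ w).comp (x.mapExactFunctor L) (zero_add p)).comp (Ext.mk₀ κ) (add_zero p) := rfl

lemma edgeG_natural {Y Y' : 𝒞} {A A' : 𝒟} (κ : L.obj Y ⟶ A) (κ' : L.obj Y' ⟶ A') (ψ : Y ⟶ Y') (φ : A ⟶ A')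
    (h : L.map ψ ≫ κ' = κ ≫ φ) (p : ℕ) (x : Ext.{w} Z Y p) :
    edgeG L w κ' p (x.comp (Ext.mk₀ ψ) (add_zero p)) = (edgeG L w κ p x).comp (Ext.mk₀ φ) (add_zero p) := by
  rw [edgeG_apply, edgeG_apply, Ext.mapExactFunctor_comp, Ext.mapExactFunctor_mk₀]
  rw [Ext.comp_assoc _ _ _ (add_zero p) (add_zero 0) (by omega)]
  rw [← Ext.comp_assoc _ _ _ (zero_add p) (add_zero p) (by omega)]
  rw [Ext.comp_assoc _ _ _ (add_zero p) (add_zero 0) (by omega)]
  rw [Ext.mk₀_comp_mk₀, Ext.mk₀_comp_mk₀, h]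

lemma edgeG_δ {S' : ShortComplex 𝒞} (hS' : S'.ShortExact) {S : ShortComplex 𝒟} (hS : S.ShortExact)
    (τ : S'.map L ⟶ S) (p : ℕ) (x : Ext.{w} Z S'.X₃ p) :
    edgeG L w τ.τ₁ (p + 1) (x.comp hS'.extClass rfl) = (edgeG L w τ.τ₃ p x).comp hS.extClass rfl := by
  have nat := ShortComplex.ShortExact.extClass_naturality (hS'.map_of_exact L) hS τ
  have key : ∀ (y : Ext.{w'} (L.obj Z) (S'.map L).X₃ p),
      ((Ext.mk₀ w).comp (y.comp (hS'.map_of_exact L).extClass rfl) (zero_add (p + 1))).comp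
          (Ext.mk₀ τ.τ₁) (add_zero (p + 1)) =
        (((Ext.mk₀ w).comp y (zero_add p)).comp (Ext.mk₀ τ.τ₃) (add_zero p)).comp hS.extClass rfl := by
    intro y
    rw [Ext.comp_assoc _ _ _ (zero_add (p + 1)) (add_zero (p + 1)) (by omega)]
    rw [Ext.comp_assoc _ _ _ rfl (add_zero 1) (by omega)]
    rw [nat]
    rw [Ext.comp_assoc _ _ _ (zero_add p) (add_zero p) (by omega)]
    rw [Ext.comp_assoc _ _ _ (zero_add p) rfl (by omega)]
    rw [Ext.comp_assoc _ _ _ (add_zero p) rfl (by omega)]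
  rw [edgeG_apply, edgeG_apply, Ext.mapExactFunctor_comp, Ext.mapExactFunctor_extClass]
  exact key _

section Main

variable (R : 𝒟 ⥤ 𝒞) [R.Additive] (adj : L ⊣ R)

/-- the edge map `Ext^p(Z, R A) → Ext^p(Z', A)` of the adjunction -/
noncomputable abbrev edge (A : 𝒟) (p : ℕ) : Ext.{w} Z (R.obj A) p →+ Ext.{w'} Z' A p :=
  edgeG L w (adj.counit.app A) p

/-- the counit as a morphism of short complexes `L R S ⟶ S` -/
noncomputable def counitSC (S : ShortComplex 𝒟) : (S.map R).map L ⟶ S where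
  τ₁ := adj.counit.app S.X₁
  τ₂ := adj.counit.app S.X₂
  τ₃ := adj.counit.app S.X₃
  comm₁₂ := (adj.counit_naturality S.f).symm
  comm₂₃ := (adj.counit_naturality S.g).symm

variable [EnoughInjectives 𝒟] [PreservesFiniteLimits R]

omit [HasExt.{w} 𝒞] [HasExt.{w'} 𝒟] in
theorem shortExact_map {S : ShortComplex 𝒟} (hS : S.ShortExact) (Δ : RDer.DerivedLES R)
    (h1 : IsZero ((R.rightDerived 1).obj S.X₁)) : (S.map R).ShortExact := by
  have hm : Mono S.f := hS.mono_f
  have hmono : Mono (R.map S.f) := inferInstance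
  have hex : (S.map R).Exact := hS.exact.map_of_mono_of_preservesKernel R hm inferInstance
  have hepi0 : Epi ((R.rightDerived 0).map S.g) := (Δ.exact₃ S hS 0 1 rfl).epi_f (h1.eq_of_tgt _ _)
  have hnat := R.toRightDerivedZero.naturality S.g
  have hepi : Epi (R.map S.g) := by
    have h2 : R.map S.g = R.toRightDerivedZero.app S.X₂ ≫ (R.rightDerived 0).map S.g ≫
        inv (R.toRightDerivedZero.app S.X₃) := by
      rw [← Category.assoc, ← hnat, Category.assoc, IsIso.hom_inv_id, Category.comp_id]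
    rw [h2]
    infer_instance
  exact { exact := hex, mono_f := hmono, epi_g := hepi }

theorem edge_bijective (h0 : ∀ A : 𝒟, Function.Bijective (edge L w R adj A 0)) (p : ℕ) :
    ∀ A : 𝒟, (∀ q : ℕ, 0 < q → IsZero ((R.rightDerived q).obj A)) →
      Function.Bijective (edge L w R adj A p) := by
  obtain ⟨Δ⟩ := Groth.Agent.S16463.result R
  induction p with
  | zero => intro A _; exact h0 A
  | succ p ih =>
    intro A hA
    let I : InjectivePresentation A := Classical.arbitrary _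
    let S := ShortComplex.mk _ _ (cokernel.condition I.f)
    haveI hinj : Injective S.X₂ := I.injective
    have hS : S.ShortExact := { exact := ShortComplex.exact_cokernel I.f }
    have hRS : (S.map R).ShortExact := shortExact_map R hS Δ (hA 1 Nat.one_pos)
    have hI : ∀ q : ℕ, 0 < q → IsZero ((R.rightDerived q).obj S.X₂) := by
      intro q hq
      obtain ⟨q', rfl⟩ := Nat.exists_eq_succ_of_ne_zero hq.ne'
      exact Functor.isZero_rightDerived_obj_injective_succ _ q' _
    have hQ : ∀ q : ℕ, 0 < q → IsZero ((R.rightDerived q).obj S.X₃) := by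
      intro q hq
      exact (Δ.exact₃ S hS q (q + 1) rfl).isZero_X₂ ((hI q hq).eq_of_src _ _)
        ((hA (q + 1) (Nat.succ_pos q)).eq_of_tgt _ _)
    haveI : Injective (S.map R).X₂ := adj.map_injective _ hinj
    let τ := counitSC L R adj S
    haveI : Subsingleton (Ext.{w} Z (S.map R).X₂ (p + 1)) := Ext.subsingleton_of_injective _ _ _
    haveI : Subsingleton (Ext.{w'} Z' S.X₂ (p + 1)) := Ext.subsingleton_of_injective _ _ _
    exact AddMonoidHom.bijective_of_surjective_of_bijective_of_right_exact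
      ((Ext.mk₀ (S.map R).g).postcomp Z (add_zero p)) (hRS.extClass.postcomp Z rfl)
      ((Ext.mk₀ S.g).postcomp Z' (add_zero p)) (hS.extClass.postcomp Z' rfl)
      (edgeG L w τ.τ₂ p) (edgeG L w τ.τ₃ p) (edgeG L w τ.τ₁ (p + 1))
      (by
        ext x
        exact (edgeG_natural L w τ.τ₂ τ.τ₃ (S.map R).g S.g τ.comm₂₃.symm p x).symm)
      (by
        ext x
        exact (edgeG_δ L w hRS hS τ p x).symm)
      ((ShortComplex.ab_exact_iff_function_exact _).mp
        (Ext.covariant_sequence_exact₃' Z hRS p (p + 1) rfl))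
      ((ShortComplex.ab_exact_iff_function_exact _).mp
        (Ext.covariant_sequence_exact₃' Z' hS p (p + 1) rfl))
      (ih S.X₂ hI).surjective (ih S.X₃ hQ)
      (fun x₁ ↦ Ext.covariant_sequence_exact₁ _ hRS x₁ (by subsingleton) rfl)
      (fun y₁ ↦ Ext.covariant_sequence_exact₁ _ hS y₁ (by subsingleton) rfl)

end Main

end Groth.Agent.Lib.Helper23.AdjEdge
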