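import Mathlib
import Groth.Prelude.Def_RDer
import Groth.Prelude.Def_RDerDelta
import Groth.Agent.S16463
import Groth.Agent.Lib.Helper23AdjEdge
set_option backward.isDefEq.respectTransparency.types false

/-!
# `H^q(Ψ K) ⟶ Ψ(H^q K)` is an isomorphism for complexes with `Ψ`-acyclic terms and cohomology (helper23)
-/

set_option autoImplicit false
universe v₂ v₃ u₂ u₃
open CategoryTheory CategoryTheory.Limits HomologicalComplex

namespace Groth.Agent.Lib.Helper23.HomCmp

variable {B : Type u₂} [Category.{v₂} B] [Abelian B] [EnoughInjectives B]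
  {C : Type u₃} [Category.{v₃} C] [Abelian C]
  (Ψ : B ⥤ C) [Ψ.Additive]

/-- `Ψ`-acyclic objects -/
def Acyclic (X : B) : Prop := ∀ a : ℕ, 0 < a → IsZero ((Ψ.rightDerived a).obj X)

variable {Ψ}

lemma acyclic_of_iso {X Y : B} (e : X ≅ Y) (h : Acyclic Ψ X) : Acyclic Ψ Y :=
  fun a ha => (h a ha).of_iso ((Ψ.rightDerived a).mapIso e.symm)

lemma acyclic_X₃ {S : ShortComplex B} (hS : S.ShortExact) (h1 : Acyclic Ψ S.X₁) (h2 : Acyclic Ψ S.X₂) :
    Acyclic Ψ S.X₃ := by
  obtain ⟨Δ⟩ := Groth.Agent.S16463.result Ψ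
  intro a ha
  exact (Δ.exact₃ S hS a (a + 1) rfl).isZero_X₂ ((h2 a ha).eq_of_src _ _)
    ((h1 (a + 1) (Nat.succ_pos a)).eq_of_tgt _ _)

lemma acyclic_X₂ {S : ShortComplex B} (hS : S.ShortExact) (h1 : Acyclic Ψ S.X₁) (h3 : Acyclic Ψ S.X₃) :
    Acyclic Ψ S.X₂ := by
  obtain ⟨Δ⟩ := Groth.Agent.S16463.result Ψ
  intro a ha
  exact (Δ.exact₂ S hS a).isZero_X₂ ((h1 a ha).eq_of_src _ _) ((h3 a ha).eq_of_tgt _ _)

section Mor

variable {P Q : B} (t : P ⟶ Q)

/-- `0 → ker t → P → im t → 0` -/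
noncomputable def sc1 : ShortComplex B :=
  ShortComplex.mk (kernel.ι t) (Abelian.factorThruImage t) (by
    rw [← cancel_mono (Abelian.image.ι t), Category.assoc, Abelian.image.fac, kernel.condition, zero_comp])

lemma sc1_shortExact : (sc1 t).ShortExact := by
  let T : ShortComplex B := ShortComplex.mk (kernel.ι t) t (kernel.condition t)
  have hT : T.Exact := ShortComplex.exact_of_f_is_kernel _ (kernelIsKernel t)
  let φ : sc1 t ⟶ T :=
    { τ₁ := 𝟙 _
      τ₂ := 𝟙 _
      τ₃ := Abelian.image.ι t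
      comm₁₂ := by simp [sc1, T]
      comm₂₃ := by simp [sc1, T] }
  haveI : Epi φ.τ₁ := inferInstanceAs (Epi (𝟙 _))
  haveI : IsIso φ.τ₂ := inferInstanceAs (IsIso (𝟙 _))
  haveI : Mono φ.τ₃ := inferInstanceAs (Mono (Abelian.image.ι t))
  exact
    { exact := (ShortComplex.exact_iff_of_epi_of_isIso_of_mono φ).2 hT
      mono_f := inferInstanceAs (Mono (kernel.ι t))
      epi_g := inferInstanceAs (Epi (Abelian.factorThruImage t)) }

/-- `0 → im t → Q → coker t → 0` for a given cokernel -/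
noncomputable def sc2 {H : B} (π : Q ⟶ H) (w : t ≫ π = 0) : ShortComplex B :=
  ShortComplex.mk (Abelian.image.ι t) π (by
    rw [← cancel_epi (Abelian.factorThruImage t), ← Category.assoc, Abelian.image.fac, w, comp_zero])

lemma sc2_shortExact {H : B} (π : Q ⟶ H) (w : t ≫ π = 0) (hπ : IsColimit (CokernelCofork.ofπ π w)) :
    (sc2 t π w).ShortExact := by
  let T : ShortComplex B := ShortComplex.mk t π w
  have hT : T.Exact := ShortComplex.exact_of_g_is_cokernel _ hπ
  let φ : T ⟶ sc2 t π w :=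
    { τ₁ := Abelian.factorThruImage t
      τ₂ := 𝟙 _
      τ₃ := 𝟙 _
      comm₁₂ := by simp [sc2, T]
      comm₂₃ := by simp [sc2, T] }
  haveI : Epi φ.τ₁ := inferInstanceAs (Epi (Abelian.factorThruImage t))
  haveI : IsIso φ.τ₂ := inferInstanceAs (IsIso (𝟙 _))
  haveI : Mono φ.τ₃ := inferInstanceAs (Mono (𝟙 _))
  have hepi : Epi π := by
    have := Cofork.IsColimit.epi hπ
    exact this
  exact
    { exact := (ShortComplex.exact_iff_of_epi_of_isIso_of_mono φ).1 hT
      mono_f := inferInstanceAs (Mono (Abelian.image.ι t))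
      epi_g := hepi }

/-- acyclicity propagates from the kernel, the source and the cokernel of `t` to its image and target -/
theorem acyclic_image_and_target {H : B} (π : Q ⟶ H) (w : t ≫ π = 0) (hπ : IsColimit (CokernelCofork.ofπ π w))
    (hk : Acyclic Ψ (kernel t)) (hP : Acyclic Ψ P) (hH : Acyclic Ψ H) :
    Acyclic Ψ (Abelian.image t) ∧ Acyclic Ψ Q := by
  have h1 : Acyclic Ψ (Abelian.image t) := acyclic_X₃ (sc1_shortExact t) hk hP
  exact ⟨h1, acyclic_X₂ (sc2_shortExact t π w hπ) h1 hH⟩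

variable [PreservesFiniteLimits Ψ]

/-- `Ψ` preserves the cokernel of `t` when the kernel and the image of `t` have no `R¹Ψ` -/
theorem nonempty_isColimit_map {H : B} (π : Q ⟶ H) (w : t ≫ π = 0) (hπ : IsColimit (CokernelCofork.ofπ π w))
    (hk : IsZero ((Ψ.rightDerived 1).obj (kernel t)))
    (hi : IsZero ((Ψ.rightDerived 1).obj (Abelian.image t))) :
    Nonempty (IsColimit (CokernelCofork.ofπ (Ψ.map π)
      (show Ψ.map t ≫ Ψ.map π = 0 by rw [← Ψ.map_comp, w, Ψ.map_zero]))) := by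
  obtain ⟨Δ⟩ := Groth.Agent.S16463.result Ψ
  have h1 : ((sc1 t).map Ψ).ShortExact :=
    Groth.Agent.Lib.Helper23.AdjEdge.shortExact_map Ψ (sc1_shortExact t) Δ hk
  have h2 : ((sc2 t π w).map Ψ).ShortExact :=
    Groth.Agent.Lib.Helper23.AdjEdge.shortExact_map Ψ (sc2_shortExact t π w hπ) Δ hi
  have hepi : Epi (Ψ.map (Abelian.factorThruImage t)) := h1.epi_g
  haveI : Epi ((sc2 t π w).map Ψ).g := h2.epi_g
  have h3 := h2.exact.gIsCokernel
  have hh : Ψ.map t = Ψ.map (Abelian.factorThruImage t) ≫ Ψ.map (Abelian.image.ι t) := by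
    rw [← Ψ.map_comp, Abelian.image.fac]
  exact ⟨isCokernelEpiComp h3 (Ψ.map (Abelian.factorThruImage t)) (hg := hepi) hh⟩

end Mor

section Cx

variable (K : CochainComplex B ℕ)

omit [EnoughInjectives B] in
lemma toCycles_eq_zero (i j : ℕ) (h : ¬ i + 1 = j) : K.toCycles i j = 0 := by
  rw [← cancel_mono (K.iCycles j), K.toCycles_i, zero_comp]
  exact K.shape i j h

/-- the kernel of `X^i → Z^{i+1}` is `Z^i` -/
noncomputable def kernelToCyclesIso (i : ℕ) : kernel (K.toCycles i (i + 1)) ≅ K.cycles i :=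
  IsLimit.conePointUniqueUpToIso
    (isKernelCompMono (kernelIsKernel (K.toCycles i (i + 1))) (K.iCycles (i + 1))
      (K.toCycles_i i (i + 1)).symm)
    (K.cyclesIsKernel i (i + 1) (by simp))

variable {K}

theorem acyclic_kernel_toCycles (hX : ∀ n, Acyclic Ψ (K.X n)) (i j : ℕ)
    (hZ : i + 1 = j → Acyclic Ψ (K.cycles i)) : Acyclic Ψ (kernel (K.toCycles i j)) := by
  by_cases h : i + 1 = j
  · subst h
    exact acyclic_of_iso (kernelToCyclesIso K i).symm (hZ rfl)
  · have h0 := toCycles_eq_zero K i j h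
    haveI : IsIso (kernel.ι (K.toCycles i j)) := by
      rw [h0]
      infer_instance
    exact acyclic_of_iso (asIso (kernel.ι (K.toCycles i j))).symm (hX i)

theorem acyclic_cycles (hX : ∀ n, Acyclic Ψ (K.X n)) (hH : ∀ n, Acyclic Ψ (K.homology n)) :
    ∀ n, Acyclic Ψ (K.cycles n) := by
  intro n
  induction n with
  | zero =>
    have hk := acyclic_kernel_toCycles hX 0 0 (fun h => absurd h (by omega))
    exact (acyclic_image_and_target (K.toCycles 0 0) (K.homologyπ 0) (K.toCycles_comp_homologyπ 0 0)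
      (K.homologyIsCokernel 0 0 (by simp)) hk (hX 0) (hH 0)).2
  | succ n ih =>
    have hk := acyclic_kernel_toCycles hX n (n + 1) (fun _ => ih)
    exact (acyclic_image_and_target (K.toCycles n (n + 1)) (K.homologyπ (n + 1))
      (K.toCycles_comp_homologyπ n (n + 1))
      (K.homologyIsCokernel n (n + 1) (by simp)) hk (hX n) (hH (n + 1))).2

variable [PreservesFiniteLimits Ψ]

omit [EnoughInjectives B] in
instance isIso_cyclesComparison (K : CochainComplex B ℕ) (i : ℕ) : IsIso (RDer.cyclesComparison Ψ K i) := by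
  let h1 := ((Ψ.mapHomologicalComplex (ComplexShape.up ℕ)).obj K).cyclesIsKernel i ((ComplexShape.up ℕ).next i) rfl
  let h2 := KernelFork.mapIsLimit _ (K.cyclesIsKernel i ((ComplexShape.up ℕ).next i) rfl) Ψ
  have : RDer.cyclesComparison Ψ K i = (IsLimit.conePointUniqueUpToIso h1 h2).hom := rfl
  rw [this]
  infer_instance

theorem isIso_homologyComparison (hX : ∀ n, Acyclic Ψ (K.X n)) (hH : ∀ n, Acyclic Ψ (K.homology n)) (q : ℕ) :
    IsIso (RDer.homologyComparison Ψ K q) := by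
  have hZ := acyclic_cycles hX hH
  set i := (ComplexShape.up ℕ).prev q with hi
  let t := K.toCycles i q
  have hk : Acyclic Ψ (kernel t) := acyclic_kernel_toCycles hX i q (fun _ => hZ i)
  have him : Acyclic Ψ (Abelian.image t) :=
    (acyclic_image_and_target t (K.homologyπ q) (K.toCycles_comp_homologyπ i q)
      (K.homologyIsCokernel i q hi.symm) hk (hX i) (hH q)).1
  obtain ⟨hΨ⟩ := nonempty_isColimit_map t (K.homologyπ q) (K.toCycles_comp_homologyπ i q)
    (K.homologyIsCokernel i q hi.symm) (hk 1 Nat.one_pos) (him 1 Nat.one_pos)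
  let K' := (Ψ.mapHomologicalComplex (ComplexShape.up ℕ)).obj K
  let cc := RDer.cyclesComparison Ψ K q
  have hcc : K'.toCycles i q ≫ cc = Ψ.map t := RDer.toCycles_cyclesComparison Ψ K q
  have hepi : Epi (Ψ.map (K.homologyπ q)) := Cofork.IsColimit.epi hΨ
  have h0 : Ψ.map t ≫ inv cc = K'.toCycles i q := (IsIso.comp_inv_eq cc).2 hcc.symm
  have h00 : Ψ.map t ≫ inv cc ≫ K'.homologyπ q = 0 :=
    (Category.assoc _ _ _).symm.trans
      ((congrArg (fun z => z ≫ K'.homologyπ q) h0).trans (K'.toCycles_comp_homologyπ i q))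
  let ν : Ψ.obj (K.homology q) ⟶ K'.homology q :=
    hΨ.desc (CokernelCofork.ofπ (inv cc ≫ K'.homologyπ q) h00)
  have hν : Ψ.map (K.homologyπ q) ≫ ν = inv cc ≫ K'.homologyπ q :=
    hΨ.fac _ WalkingParallelPair.one
  refine ⟨⟨ν, ?_, ?_⟩⟩
  · rw [← cancel_epi (K'.homologyπ q), RDer.homologyπ_homologyComparison_assoc, hν,
      IsIso.hom_inv_id_assoc, Category.comp_id]
  · rw [← cancel_epi (Ψ.map (K.homologyπ q)), reassoc_of% hν, RDer.homologyπ_homologyComparison,
      IsIso.inv_hom_id_assoc, Category.comp_id]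

end Cx

end Groth.Agent.Lib.Helper23.HomCmp
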