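import Mathlib
import Groth.Prelude.Def_CohBC2
import Groth.Agent.Lib.Helper23HomCmp
import Groth.Agent.Lib.Helper21RelExtSS
import Groth.Agent.S0856
import Groth.Agent.S0030
import Groth.Agent.S0028
import Groth.Agent.S11319
import Groth.Agent.S0484
set_option backward.isDefEq.respectTransparency.types false

/-!
# The second Leray edge map `R^p (f ≫ g)_* M ⟶ g_* R^p f_* M` is an isomorphism for `g` affine (helper23)
-/

set_option autoImplicit false
universe u

namespace Groth.Agent.Lib.Helper23.LerayOut

open CategoryTheory AlgebraicGeometry AlgebraicGeometry.Scheme.Modules Limits Opposite TopologicalSpace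
open Groth.Agent.Lib.Helper23.HomCmp

section Abstract

universe v₁ v₂ v₃ u₁ u₂ u₃
variable {A : Type u₁} [Category.{v₁} A] [Abelian A] [HasInjectiveResolutions A]
  {B : Type u₂} [Category.{v₂} B] [Abelian B] [EnoughInjectives B]
  {C : Type u₃} [Category.{v₃} C] [Abelian C]

theorem isIso_edgeOut (Φ : A ⥤ B) [Φ.Additive] (Ψ : B ⥤ C) [Ψ.Additive] [PreservesFiniteLimits Ψ] (X : A)
    (hX : ∀ n, Acyclic Ψ (Φ.obj ((injectiveResolution X).cocomplex.X n)))
    (hH : ∀ n, Acyclic Ψ ((Φ.rightDerived n).obj X)) (q : ℕ) :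
    IsIso (RDer.edgeOut Φ Ψ q X) := by
  have h1 : IsIso (RDer.homologyComparison Ψ
      ((Φ.mapHomologicalComplex _).obj (injectiveResolution X).cocomplex) q) := by
    apply isIso_homologyComparison
    · intro n
      exact hX n
    · intro n
      exact acyclic_of_iso ((injectiveResolution X).isoRightDerivedObj Φ n) (hH n)
  have h2 : IsIso (Ψ.map ((injectiveResolution X).isoRightDerivedObj Φ q).inv) := inferInstance
  have h3 : IsIso (((injectiveResolution X).isoRightDerivedObj (Φ ⋙ Ψ) q).hom) := inferInstance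
  unfold RDer.edgeOut
  exact @IsIso.comp_isIso _ _ _ _ _ _ _ h3 (@IsIso.comp_isIso _ _ _ _ _ _ _ h1 h2)

end Abstract

theorem isFlasque_toAb_of_injective {X : Scheme.{u}} (I : X.Modules) (hI : Injective I) :
    TopCat.Sheaf.IsFlasque (Coh.toAb I) := by
  constructor
  intro U V i
  rw [AddCommGrpCat.epi_iff_surjective]
  have hm : Mono i.unop := ⟨fun _ _ _ => Subsingleton.elim _ _⟩
  exact @Groth.Agent.S0856.result (Opens X) _ (Opens.grothendieckTopology X) X.ringCatSheaf I hI _ _ i.unop hm

theorem isIso_lerayEdgeOut {X Y Z : Scheme.{u}} (f : X ⟶ Y) (g : Y ⟶ Z)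
    [QuasiCompact f] [QuasiSeparated f] [IsAffineHom g] [HasInjectiveResolutions X.Modules]
    (M : X.Modules) [Coh.IsQCoh M] (p : ℕ) :
    IsIso (CohBC.lerayEdgeOut f g p M) := by
  have := Groth.Agent.S0484.result (Opens.grothendieckTopology Y) Y.ringCatSheaf
  haveI : EnoughInjectives Y.Modules := inferInstanceAs (EnoughInjectives (SheafOfModules.{u} Y.ringCatSheaf))
  have h1 : IsIso (RDer.edgeOut (pushforward f) (pushforward g) p M) := by
    apply isIso_edgeOut
    · intro n a ha
      obtain ⟨a', rfl⟩ := Nat.exists_eq_succ_of_ne_zero ha.ne'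
      refine Groth.Agent.Lib.Helper21.RelExtSS.isZero_Rpush_of_isFlasque g _ ?_ a'
      haveI := isFlasque_toAb_of_injective ((injectiveResolution M).cocomplex.X n)
        ((injectiveResolution M).injective n)
      exact TopCat.Sheaf.IsFlasque.pushforward_isFlasque
        (Coh.toAb ((injectiveResolution M).cocomplex.X n)) f.base
    · intro n a ha
      haveI : Coh.IsQCoh ((Coh.Rpush f n).obj M) := Groth.Agent.S0030.result f M n
      have hz := Groth.Agent.S0028.result g ((Coh.Rpush f n).obj M) a ha
      obtain ⟨e⟩ := Groth.Agent.S11319.result g ((Coh.Rpush f n).obj M) a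
      exact Groth.Agent.Lib.Helper21.RelExtSS.isZero_of_isZero_toAb _ (hz.of_iso e)
  unfold CohBC.lerayEdgeOut
  have h2 : IsIso ((RDer.rightDerivedIso (pushforwardComp f g) p).inv.app M) := inferInstance
  exact @IsIso.comp_isIso _ _ _ _ _ _ _ h2 h1

end Groth.Agent.Lib.Helper23.LerayOut
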