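import Mathlib
import Groth.Prelude.Def_CohCmp
import Groth.Agent.Lib.Helper23ModAbBridge
import Groth.Agent.Lib.Helper16Restr

/-!
# Tools for the comparison maps `CohCmp.SectCmp` (helper23)

* `exists_local_lift`: an epimorphism of `O_Y`-modules is locally surjective on sections.
* `toAbOnIso`, `toAbOn_shortExact`: `CohCmp.toAbOn X U` (restrict to `U`, then underlying abelian sheaf) is exact.
-/

set_option autoImplicit false
universe u
open CohCmp

namespace Groth.Agent.Lib.Helper23.SectCmpLib

open AlgebraicGeometry CategoryTheory Scheme.Modules Opposite Limits TopologicalSpace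

/-- epimorphisms of modules are locally surjective on sections -/
theorem exists_local_lift {Y : Scheme.{u}} {A B : Y.Modules} (φ : A ⟶ B) [Epi φ]
    (V : Y.Opens) (t : B.presheaf.obj (op V)) (y : Y) (hy : y ∈ V) :
    ∃ (W : Y.Opens) (hWV : W ≤ V), y ∈ W ∧ ∃ s : A.presheaf.obj (op W),
      φ.app W s = B.presheaf.map (homOfLE hWV).op t := by
  let E : SheafOfModules.{u} Y.ringCatSheaf ⥤ Sheaf (Opens.grothendieckTopology Y) AddCommGrpCat.{u} :=
    SheafOfModules.toSheaf Y.ringCatSheaf
  have : Epi (E.map φ) := by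
    have : E.PreservesEpimorphisms := preservesEpimorphisms_of_preservesColimitsOfShape E
    exact @Functor.map_epi _ _ _ _ E _ _ _ φ ‹Epi φ›
  obtain ⟨W, hWV, ⟨s, hs⟩, hyW⟩ :=
    (Groth.Agent.Lib.Helper16.ClosedEmb.locSurj_iff (Y := Y.toTopCat) (E.map φ)).1 this V t y hy
  exact ⟨W, hWV, hyW, s, hs⟩

noncomputable def toAbOnIso {X : Scheme.{u}} (U : X.Opens) :
    toAbOn X U ≅ (SheafOfModules.toSheaf X.ringCatSheaf : SheafOfModules.{u} X.ringCatSheaf ⥤ _) ⋙
      CohTop.restrFunctor (X := X.toTopCat) U :=
  NatIso.ofComponents (fun M => Iso.refl _) (by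
    intro M N φ
    exact (Category.comp_id _).trans (Eq.trans rfl (Category.id_comp _).symm))

/-- restriction to an open followed by the underlying abelian sheaf is exact -/
theorem toAbOn_shortExact {X : Scheme.{u}} (U : X.Opens) (S : ShortComplex X.Modules) (hS : S.ShortExact) :
    (S.map (toAbOn X U)).ShortExact := by
  let E : SheafOfModules.{u} X.ringCatSheaf ⥤ Sheaf (Opens.grothendieckTopology X) AddCommGrpCat.{u} :=
    SheafOfModules.toSheaf X.ringCatSheaf
  let R : Sheaf (Opens.grothendieckTopology X) AddCommGrpCat.{u} ⥤ CohTop.Ab (TopCat.of U) :=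
    CohTop.restrFunctor (X := X.toTopCat) U
  let S' : ShortComplex (SheafOfModules.{u} X.ringCatSheaf) := S
  have hS' : S'.ShortExact := hS
  have h1 : (S'.map E).ShortExact := hS'.map_of_exact E
  have : PreservesFiniteLimits R := Groth.Agent.Lib.Helper16.Restr.restr_preservesFiniteLimits (X := X.toTopCat) U
  have : PreservesFiniteColimits R := Groth.Agent.Lib.Helper16.Restr.restr_preservesFiniteColimits (X := X.toTopCat) U
  have : R.Additive := inferInstanceAs (CohTop.restrFunctor (X := X.toTopCat) U).Additive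
  have h2 : ((S'.map E).map R).ShortExact := h1.map_of_exact R
  let G : SheafOfModules.{u} X.ringCatSheaf ⥤ CohTop.Ab (TopCat.of U) := E ⋙ R
  have : G.Additive := inferInstanceAs (E ⋙ R).Additive
  have h3 : (S'.map G).ShortExact := h2
  let T : SheafOfModules.{u} X.ringCatSheaf ⥤ CohTop.Ab (TopCat.of U) := toAbOn X U
  have hT : T.Additive := inferInstanceAs (toAbOn X U).Additive
  let e : T ≅ G := toAbOnIso U
  have h4 : (S'.map T).ShortExact := ShortComplex.shortExact_of_iso (S'.mapNatIso e).symm h3
  exact h4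

end Groth.Agent.Lib.Helper23.SectCmpLib
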