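import Mathlib
import Groth.Prelude.Def_CohCmp
import Groth.Agent.Lib.Helper23LerayOut
import Groth.Agent.Lib.Helper23SectCmpLib
import Groth.Agent.Lib.Helper16Flasque
import Groth.Agent.Lib.Helper16Restr
import Groth.Agent.S0484

/-!
# General base change, part 1: effaceability of `F ↦ H^p(U, F|_U)` on `O_X`-modules and the
uniqueness of δ-compatible families out of it (helper21)
-/

set_option autoImplicit false
universe u
open CategoryTheory CategoryTheory.Limits AlgebraicGeometry Opposite TopologicalSpace Abelian CohCmp

namespace Groth.Agent.Lib.Helper21.GBC1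

variable {X : Scheme.{u}}

theorem enoughInjectives (X : Scheme.{u}) : EnoughInjectives X.Modules := by
  have := Groth.Agent.S0484.result (Opens.grothendieckTopology X) X.ringCatSheaf
  exact inferInstanceAs (EnoughInjectives (SheafOfModules.{u} X.ringCatSheaf))

/-- an isomorphism of abelian sheaves transports vanishing of cohomology -/
theorem subsingleton_H_of_iso {T : TopCat.{u}} {A B : CohTop.Ab T} (e : A ≅ B) (n : ℕ)
    (h : Subsingleton (Sheaf.H B n)) : Subsingleton (Sheaf.H A n) := by
  refine ⟨fun x y => ?_⟩
  have hx : Sheaf.H.map e.inv n (Sheaf.H.map e.hom n x) = x := by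
    rw [← Sheaf.H.map_comp_apply, e.hom_inv_id, Sheaf.H.map_id_apply]
  have hy : Sheaf.H.map e.inv n (Sheaf.H.map e.hom n y) = y := by
    rw [← Sheaf.H.map_comp_apply, e.hom_inv_id, Sheaf.H.map_id_apply]
  rw [← hx, ← hy, Subsingleton.elim (Sheaf.H.map e.hom n x) (Sheaf.H.map e.hom n y)]

/-- **effaceability**: an injective `O_X`-module has no higher cohomology over any open. -/
theorem subsingleton_HHon_of_injective (I : X.Modules) (hI : Injective I) (U : X.Opens) (p : ℕ) :
    Subsingleton (Coh.HHon X I U (p + 1)) := by
  haveI hfl : TopCat.Sheaf.IsFlasque (Coh.toAb I) :=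
    Groth.Agent.Lib.Helper23.LerayOut.isFlasque_toAb_of_injective I hI
  have e := (Groth.Agent.Lib.Helper23.SectCmpLib.toAbOnIso U).app I
  have h := Groth.Agent.Lib.Helper16.Flasque.H_subsingleton
    ((CohTop.restrFunctor (X := X.toTopCat) U).obj (Coh.toAb I)) p
  exact subsingleton_H_of_iso e (p + 1) h

/-- for a short exact sequence with injective middle term, the connecting map in degree `p` is
surjective -/
theorem extδ_surjective (S : ShortComplex X.Modules) (hI : Injective S.X₂) (U : X.Opens)
    (hA : (S.map (toAbOn X U)).ShortExact) (p : ℕ) (x : Coh.HHon X S.X₁ U (p + 1)) :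
    ∃ y : Coh.HHon X S.X₃ U p, extδ hA p y = x := by
  haveI := subsingleton_HHon_of_injective S.X₂ hI U p
  obtain ⟨y, hy⟩ := Ext.covariant_sequence_exact₁ (CohTop.const U (ULift.{u} ℤ)) hA
    (x : Ext (CohTop.const U (ULift.{u} ℤ)) ((toAbOn X U).obj S.X₁) (p + 1))
    (Subsingleton.elim (α := Coh.HHon X S.X₂ U (p + 1)) _ _) rfl
  exact ⟨y, hy⟩

/-- the standard injective embedding sequence -/
noncomputable def injSeq (F : X.Modules) : haveI := enoughInjectives X; ShortComplex X.Modules :=
  haveI := enoughInjectives X
  ShortComplex.mk (Injective.ι F) (cokernel.π (Injective.ι F)) (cokernel.condition _)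

theorem injSeq_shortExact (F : X.Modules) : (injSeq F).ShortExact := by
  haveI := enoughInjectives X
  exact { exact := ShortComplex.exact_cokernel _
          mono_f := inferInstanceAs (Mono (Injective.ι F))
          epi_g := inferInstanceAs (Epi (cokernel.π (Injective.ι F))) }

theorem injSeq_injective (F : X.Modules) : Injective (injSeq F).X₂ := by
  haveI := enoughInjectives X
  exact inferInstanceAs (Injective (Injective.under F))

/-- **uniqueness of δ-compatible families** out of `F ↦ H^•(U, F|_U)`: two families of maps into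
groups `T F p` that are compatible with the connecting maps (for the same family `d` on the target)
and agree in degree `0` agree in all degrees. -/
theorem family_unique (U : X.Opens) (T : X.Modules → ℕ → Type*)
    (d : ∀ (S : ShortComplex X.Modules) (_ : S.ShortExact) (p : ℕ), T S.X₃ p → T S.X₁ (p + 1))
    (a b : ∀ (F : X.Modules) (p : ℕ), Coh.HHon X F U p → T F p)
    (ha : ∀ (S : ShortComplex X.Modules) (hS : S.ShortExact)
      (hA : (S.map (toAbOn X U)).ShortExact) (p : ℕ) (x : Coh.HHon X S.X₃ U p),
      a S.X₁ (p + 1) (extδ hA p x) = d S hS p (a S.X₃ p x))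
    (hb : ∀ (S : ShortComplex X.Modules) (hS : S.ShortExact)
      (hA : (S.map (toAbOn X U)).ShortExact) (p : ℕ) (x : Coh.HHon X S.X₃ U p),
      b S.X₁ (p + 1) (extδ hA p x) = d S hS p (b S.X₃ p x))
    (h0 : ∀ (F : X.Modules) (x : Coh.HHon X F U 0), a F 0 x = b F 0 x) (p : ℕ) :
    ∀ (F : X.Modules) (x : Coh.HHon X F U p), a F p x = b F p x := by
  induction p with
  | zero => exact h0
  | succ p ih =>
    intro F x
    have hS := injSeq_shortExact F
    have hA := Groth.Agent.Lib.Helper23.SectCmpLib.toAbOn_shortExact U (injSeq F) hS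
    obtain ⟨y, rfl⟩ := extδ_surjective (injSeq F) (injSeq_injective F) U hA p x
    exact (ha _ hS hA p y).trans ((congrArg (d _ hS p) (ih _ y)).trans (hb _ hS hA p y).symm)

end Groth.Agent.Lib.Helper21.GBC1
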