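import Mathlib
import Groth.Prelude.Def_CohCmp
import Groth.Agent.Lib.Helper21GBC1

/-!
# General base change, part 2: naturality of the pullback maps on cohomology and their compatibility
with connecting homomorphisms (helper21)
-/

set_option autoImplicit false
universe u
open CategoryTheory CategoryTheory.Limits AlgebraicGeometry Opposite TopologicalSpace Abelian CohCmp

namespace Groth.Agent.Lib.Helper21.GBC2

section Top

variable {X Y : TopCat.{u}} (f : X ⟶ Y)

lemma pullAb_apply (M : CohTop.Ab Y) (p : ℕ) (x : Sheaf.H M p) :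
    CohPull.pullAb f M p x =
      (Ext.mk₀ (CohPull.oneTo f)).comp (x.mapExactFunctor (CohPull.inv f)) (zero_add p) := rfl

/-- `pullAb` is natural in the sheaf -/
lemma pullAb_natural {M N : CohTop.Ab Y} (φ : M ⟶ N) (p : ℕ) (x : Sheaf.H M p) :
    CohPull.pullAb f N p (Sheaf.H.map φ p x) =
      Sheaf.H.map ((CohPull.inv f).map φ) p (CohPull.pullAb f M p x) := by
  rw [pullAb_apply, pullAb_apply, Sheaf.H.map_apply, Sheaf.H.map_apply,
    Ext.mapExactFunctor_comp, Ext.mapExactFunctor_mk₀, Ext.comp_assoc _ _ _ (zero_add p)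
      (add_zero p) (by omega)]

/-- `pullAb` commutes with connecting homomorphisms -/
lemma pullAb_extClass {S : ShortComplex (CohTop.Ab Y)} (hS : S.ShortExact) (p : ℕ)
    (x : Sheaf.H S.X₃ p) :
    CohPull.pullAb f S.X₁ (p + 1) (x.comp hS.extClass rfl) =
      (CohPull.pullAb f S.X₃ p x).comp (hS.map_of_exact (CohPull.inv f)).extClass rfl := by
  rw [pullAb_apply, pullAb_apply, Ext.mapExactFunctor_comp, Ext.mapExactFunctor_extClass,
    Ext.comp_assoc _ _ _ (zero_add p) rfl (by omega)]
  rfl

end Top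

section Sch

/-- the underlying abelian sheaf functor, typed on `X.Modules` -/
noncomputable abbrev toAbF (X : Scheme.{u}) : X.Modules ⥤ CohTop.Ab X :=
  SheafOfModules.toSheaf X.ringCatSheaf

instance toAbF_additive (X : Scheme.{u}) : (toAbF X).Additive where
  map_add := by
    intros
    rfl

variable {X Y : Scheme.{u}} (g : X ⟶ Y)

/-- `theta` is natural in the module -/
lemma theta_natural {M N : Y.Modules} (φ : M ⟶ N) :
    (CohPull.inv g.base).map ((SheafOfModules.toSheaf Y.ringCatSheaf).map φ) ≫ CohPull.theta g N =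
      CohPull.theta g M ≫
        (SheafOfModules.toSheaf X.ringCatSheaf).map ((Scheme.Modules.pullback g).map φ) := by
  unfold CohPull.theta
  rw [← Adjunction.homEquiv_naturality_left_symm, ← Adjunction.homEquiv_naturality_right_symm]
  congr 1
  have h := (Scheme.Modules.pullbackPushforwardAdjunction g).unit.naturality φ
  have h2 := (SheafOfModules.toSheaf Y.ringCatSheaf).congr_map h
  exact ((CategoryTheory.Functor.map_comp _ _ _).symm.trans h2).trans
    (CategoryTheory.Functor.map_comp _ _ _)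

lemma pullMod_apply (M : Y.Modules) (p : ℕ) (x : Coh.HH Y M p) :
    CohPull.pullMod g M p x =
      Sheaf.H.map (CohPull.theta g M) p (CohPull.pullAb g.base (Coh.toAb M) p x) := rfl

/-- `pullMod` is natural in the module -/
lemma pullMod_natural {M N : Y.Modules} (φ : M ⟶ N) (p : ℕ) (x : Coh.HH Y M p) :
    CohPull.pullMod g N p (CohPull.mapH φ p x) =
      CohPull.mapH ((Scheme.Modules.pullback g).map φ) p (CohPull.pullMod g M p x) := by
  rw [pullMod_apply, pullMod_apply]
  change Sheaf.H.map (CohPull.theta g N) p (CohPull.pullAb g.base (Coh.toAb N) p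
    (Sheaf.H.map ((SheafOfModules.toSheaf Y.ringCatSheaf).map φ) p x)) =
    Sheaf.H.map ((SheafOfModules.toSheaf X.ringCatSheaf).map ((Scheme.Modules.pullback g).map φ)) p
      (Sheaf.H.map (CohPull.theta g M) p (CohPull.pullAb g.base (Coh.toAb M) p x))
  rw [pullAb_natural, ← Sheaf.H.map_comp_apply, ← Sheaf.H.map_comp_apply, theta_natural]

/-- the morphism of short complexes of abelian sheaves given by `theta` -/
noncomputable def thetaSC (S : ShortComplex Y.Modules) :
    (S.map (toAbF Y)).map (CohPull.inv g.base) ⟶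
      (S.map (Scheme.Modules.pullback g)).map (toAbF X) where
  τ₁ := CohPull.theta g S.X₁
  τ₂ := CohPull.theta g S.X₂
  τ₃ := CohPull.theta g S.X₃
  comm₁₂ := (theta_natural g S.f).symm
  comm₂₃ := (theta_natural g S.g).symm

/-- a general form of compatibility with connecting maps: postcomposition with a morphism of short
exact sequences -/
lemma comp_extClass_naturality {𝒜 : Type*} [Category 𝒜] [Abelian 𝒜] [HasExt 𝒜]
    {S₁ S₂ : ShortComplex 𝒜} (h₁ : S₁.ShortExact) (h₂ : S₂.ShortExact) (φ : S₁ ⟶ S₂)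
    {Z : 𝒜} {p : ℕ} (y : Ext Z S₁.X₃ p) :
    ((y.comp h₁.extClass rfl).comp (Ext.mk₀ φ.τ₁) (add_zero (p + 1))) =
      (y.comp (Ext.mk₀ φ.τ₃) (add_zero p)).comp h₂.extClass rfl := by
  rw [Ext.comp_assoc _ _ _ rfl (add_zero 1) (by omega),
    ShortComplex.ShortExact.extClass_naturality h₁ h₂ φ,
    ← Ext.comp_assoc _ _ _ (add_zero p) (zero_add 1) (by omega)]

/-- `pullMod` commutes with connecting homomorphisms, for a short exact sequence of modules whose
inverse image is still short exact (as abelian sheaves) -/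
lemma pullMod_extClass (S : ShortComplex Y.Modules)
    (hA : (S.map (toAbF Y)).ShortExact)
    (hA' : ((S.map (Scheme.Modules.pullback g)).map (toAbF X)).ShortExact)
    (p : ℕ) (x : Coh.HH Y S.X₃ p) :
    CohPull.pullMod g S.X₁ (p + 1) (x.comp hA.extClass rfl) =
      (CohPull.pullMod g S.X₃ p x).comp hA'.extClass rfl := by
  rw [pullMod_apply, pullMod_apply]
  have h1 := pullAb_extClass g.base hA p x
  refine (congrArg (Sheaf.H.map (CohPull.theta g S.X₁) (p + 1)) h1).trans ?_
  rw [Sheaf.H.map_apply, Sheaf.H.map_apply]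
  exact comp_extClass_naturality (hA.map_of_exact (CohPull.inv g.base)) hA' (thetaSC g S) _

/-- `pullOnIso` as a natural isomorphism -/
noncomputable def pullOnNatIso (U : Y.Opens) (U' : X.Opens) (h : U' ≤ g ⁻¹ᵁ U) :
    Scheme.Modules.restrictFunctor U.ι ⋙ Scheme.Modules.pullback (g.resLE U U' h) ≅
      Scheme.Modules.pullback g ⋙ Scheme.Modules.restrictFunctor U'.ι :=
  Functor.isoWhiskerRight (Scheme.Modules.restrictFunctorIsoPullback U.ι)
      (Scheme.Modules.pullback (g.resLE U U' h)) ≪≫
    Scheme.Modules.pullbackComp (g.resLE U U' h) U.ι ≪≫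
    Scheme.Modules.pullbackCongr (Scheme.Hom.resLE_comp_ι g h) ≪≫
    (Scheme.Modules.pullbackComp U'.ι g).symm ≪≫
    Functor.isoWhiskerLeft (Scheme.Modules.pullback g)
      (Scheme.Modules.restrictFunctorIsoPullback U'.ι).symm

lemma pullOnNatIso_hom_app (U : Y.Opens) (U' : X.Opens) (h : U' ≤ g ⁻¹ᵁ U) (F : Y.Modules) :
    (pullOnNatIso g U U' h).hom.app F = (CohPull.pullOnIso g U U' h F).hom := by
  simp [pullOnNatIso, CohPull.pullOnIso]

lemma pullOn_apply (U : Y.Opens) (U' : X.Opens) (h : U' ≤ g ⁻¹ᵁ U) (F : Y.Modules) (p : ℕ)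
    (x : Coh.HHon Y F U p) :
    CohPull.pullOn g U U' h F p x =
      CohPull.mapH (CohPull.pullOnIso g U U' h F).hom p
        (CohPull.pullMod (g.resLE U U' h) (F.restrict U.ι) p x) := rfl

/-- `pullOn` is natural in the module -/
lemma pullOn_natural (U : Y.Opens) (U' : X.Opens) (h : U' ≤ g ⁻¹ᵁ U) {F G : Y.Modules} (φ : F ⟶ G)
    (p : ℕ) (x : Coh.HHon Y F U p) :
    CohPull.pullOn g U U' h G p (CohPull.mapH ((Scheme.Modules.restrictFunctor U.ι).map φ) p x) =
      CohPull.mapH ((Scheme.Modules.restrictFunctor U'.ι).map ((Scheme.Modules.pullback g).map φ)) p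
        (CohPull.pullOn g U U' h F p x) := by
  rw [pullOn_apply, pullOn_apply]
  have h1 := pullMod_natural (g.resLE U U' h) ((Scheme.Modules.restrictFunctor U.ι).map φ) p x
  refine (congrArg (CohPull.mapH (CohPull.pullOnIso g U U' h G).hom p) h1).trans ?_
  have h2 := (pullOnNatIso g U U' h).hom.naturality φ
  rw [pullOnNatIso_hom_app, pullOnNatIso_hom_app] at h2
  have h3 := (toAbF (↑U')).congr_map h2
  change Sheaf.H.map _ p (Sheaf.H.map _ p _) = Sheaf.H.map _ p (Sheaf.H.map _ p _)
  rw [← Sheaf.H.map_comp_apply, ← Sheaf.H.map_comp_apply]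
  have key := ((CategoryTheory.Functor.map_comp _ _ _).symm.trans h3).trans
    (CategoryTheory.Functor.map_comp _ _ _)
  exact congrArg (fun t => Sheaf.H.map t p _) key

instance restrictFunctor_additive {U Z : Scheme.{u}} (j : U ⟶ Z) [IsOpenImmersion j] :
    (Scheme.Modules.restrictFunctor j).Additive where
  map_add := by
    intros
    rfl

lemma extδ_apply {U : Scheme.{u}} {S : ShortComplex (CohTop.Ab U)} (hS : S.ShortExact) (p : ℕ)
    (x : Sheaf.H S.X₃ p) : extδ hS p x = x.comp hS.extClass rfl := rfl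

/-- `pullOn` commutes with connecting homomorphisms, for a short exact sequence of modules whose
inverse image restricted to `U'` is still short exact (as abelian sheaves) -/
lemma pullOn_extδ (U : Y.Opens) (U' : X.Opens) (h : U' ≤ g ⁻¹ᵁ U) (S : ShortComplex Y.Modules)
    (hA : (S.map (toAbOn Y U)).ShortExact)
    (hA' : ((S.map (Scheme.Modules.pullback g)).map (toAbOn X U')).ShortExact)
    (p : ℕ) (x : Coh.HHon Y S.X₃ U p) :
    CohPull.pullOn g U U' h S.X₁ (p + 1) (extδ hA p x) =
      extδ hA' p (CohPull.pullOn g U U' h S.X₃ p x) := by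
  let SU : ShortComplex (↑U : Scheme.{u}).Modules := S.map (Scheme.Modules.restrictFunctor U.ι)
  have hAU : (SU.map (toAbF (↑U : Scheme.{u}))).ShortExact := hA
  let e : SU.map (Scheme.Modules.pullback (g.resLE U U' h)) ≅
      (S.map (Scheme.Modules.pullback g)).map (Scheme.Modules.restrictFunctor U'.ι) :=
    S.mapNatIso (pullOnNatIso g U U' h)
  let e' : (SU.map (Scheme.Modules.pullback (g.resLE U U' h))).map (toAbF (↑U' : Scheme.{u})) ≅
      ((S.map (Scheme.Modules.pullback g)).map (Scheme.Modules.restrictFunctor U'.ι)).map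
        (toAbF (↑U' : Scheme.{u})) :=
    (toAbF (↑U' : Scheme.{u})).mapShortComplex.mapIso e
  have hA'' : ((SU.map (Scheme.Modules.pullback (g.resLE U U' h))).map
      (toAbF (↑U' : Scheme.{u}))).ShortExact :=
    ShortComplex.shortExact_of_iso e'.symm hA'
  rw [pullOn_apply, pullOn_apply, extδ_apply, extδ_apply]
  have h1 := pullMod_extClass (g.resLE U U' h) SU hAU hA'' p x
  refine (congrArg (CohPull.mapH (CohPull.pullOnIso g U U' h S.X₁).hom (p + 1)) h1).trans ?_
  have h2 := comp_extClass_naturality hA'' hA' e'.hom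
    (CohPull.pullMod (g.resLE U U' h) SU.X₃ p x)
  refine Eq.trans ?_ (h2.trans ?_)
  · change Sheaf.H.map _ (p + 1) _ = _
    rw [Sheaf.H.map_apply]
    congr 2
  · change _ = (Sheaf.H.map _ p _).comp _ _
    rw [Sheaf.H.map_apply]
    congr 3

end Sch

section Res

variable {X : Scheme.{u}}

lemma resLE_apply (F : X.Modules) {U U' : X.Opens} (h : U' ≤ U) (p : ℕ) (x : Coh.HHon X F U p) :
    CohPull.resLE F h p x =
      CohPull.mapH ((Scheme.Modules.restrictFunctor U'.ι).map
        ((Scheme.Modules.pullbackId X).hom.app F)) p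
        (CohPull.pullOn (𝟙 X) U U' (by rwa [Scheme.Hom.id_preimage]) F p x) := rfl

/-- restriction of cohomology classes is natural in the module -/
lemma resLE_natural {F G : X.Modules} (φ : F ⟶ G) {U U' : X.Opens} (h : U' ≤ U) (p : ℕ)
    (x : Coh.HHon X F U p) :
    CohPull.resLE G h p (CohPull.mapH ((Scheme.Modules.restrictFunctor U.ι).map φ) p x) =
      CohPull.mapH ((Scheme.Modules.restrictFunctor U'.ι).map φ) p (CohPull.resLE F h p x) := by
  rw [resLE_apply, resLE_apply, pullOn_natural]
  have h2 := (Scheme.Modules.pullbackId X).hom.naturality φ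
  have h3 := (Scheme.Modules.restrictFunctor U'.ι ⋙ toAbF (↑U' : Scheme.{u})).congr_map h2
  change Sheaf.H.map _ p (Sheaf.H.map _ p _) = Sheaf.H.map _ p (Sheaf.H.map _ p _)
  rw [← Sheaf.H.map_comp_apply, ← Sheaf.H.map_comp_apply]
  have key := ((CategoryTheory.Functor.map_comp _ _ _).symm.trans h3).trans
    (CategoryTheory.Functor.map_comp _ _ _)
  exact congrArg (fun t => Sheaf.H.map t p _) key

/-- restriction of cohomology classes commutes with connecting homomorphisms -/
lemma resLE_extδ {U U' : X.Opens} (h : U' ≤ U) (S : ShortComplex X.Modules)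
    (hA : (S.map (toAbOn X U)).ShortExact) (hA' : (S.map (toAbOn X U')).ShortExact)
    (p : ℕ) (x : Coh.HHon X S.X₃ U p) :
    CohPull.resLE S.X₁ h (p + 1) (extδ hA p x) = extδ hA' p (CohPull.resLE S.X₃ h p x) := by
  let e : S.map (Scheme.Modules.pullback (𝟙 X)) ≅ S := by
    refine (S.mapNatIso (Scheme.Modules.pullbackId X)).trans ?_
    exact ShortComplex.isoMk (Iso.refl _) (Iso.refl _) (Iso.refl _) (by simp) (by simp)
  let e' : (S.map (Scheme.Modules.pullback (𝟙 X))).map (toAbOn X U') ≅ S.map (toAbOn X U') :=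
    (toAbOn X U').mapShortComplex.mapIso e
  have hA'' : ((S.map (Scheme.Modules.pullback (𝟙 X))).map (toAbOn X U')).ShortExact :=
    ShortComplex.shortExact_of_iso e'.symm hA'
  rw [resLE_apply, resLE_apply]
  have h1 := pullOn_extδ (𝟙 X) U U' (by rwa [Scheme.Hom.id_preimage]) S hA hA'' p x
  refine (congrArg (CohPull.mapH ((Scheme.Modules.restrictFunctor U'.ι).map
        ((Scheme.Modules.pullbackId X).hom.app S.X₁)) (p + 1)) h1).trans ?_
  rw [extδ_apply, extδ_apply]
  have h2 := comp_extClass_naturality hA'' hA' e'.hom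
    (CohPull.pullOn (𝟙 X) U U' (by rwa [Scheme.Hom.id_preimage]) S.X₃ p x)
  refine Eq.trans ?_ (h2.trans ?_)
  · change Sheaf.H.map _ (p + 1) _ = _
    rw [Sheaf.H.map_apply]
    congr 2
  · change _ = (Sheaf.H.map _ p _).comp _ _
    rw [Sheaf.H.map_apply]
    congr 3

end Res

end Groth.Agent.Lib.Helper21.GBC2
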