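import Mathlib
import Groth.Prelude.Def_CohCmp

/-!
# General base change, part 3: units of the inverse image adjunctions under the coherence
isomorphisms (`pullbackComp`, `pullbackCongr`, `pullbackId`, `restrictFunctorIsoPullback`) and the
unit characterisation of `CohPull.pullOnIso` (helper21)
-/

set_option autoImplicit false
universe u
open CategoryTheory AlgebraicGeometry Opposite TopologicalSpace
open AlgebraicGeometry.Scheme.Modules

namespace Groth.Agent.Lib.Helper21.GBC3

section Mates

variable {X Y Z : Scheme.{u}}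

/-- unit of the composite vs. `pullbackComp` -/
lemma unit_pullbackComp (f : X ⟶ Y) (g : Y ⟶ Z) (M : Z.Modules) :
    (pullbackPushforwardAdjunction g).unit.app M ≫
        (pushforward g).map ((pullbackPushforwardAdjunction f).unit.app ((pullback g).obj M)) ≫
        (pushforwardComp f g).hom.app _ ≫
        (pushforward (f ≫ g)).map ((pullbackComp f g).hom.app M) =
      (pullbackPushforwardAdjunction (f ≫ g)).unit.app M := by
  have h := unit_conjugateEquiv
    ((pullbackPushforwardAdjunction g).comp (pullbackPushforwardAdjunction f))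
    (pullbackPushforwardAdjunction (f ≫ g)) (pullbackComp f g).inv M
  rw [conjugateEquiv_pullbackComp_inv] at h
  have h2 : ((pullbackPushforwardAdjunction g).comp (pullbackPushforwardAdjunction f)).unit.app M =
      (pullbackPushforwardAdjunction g).unit.app M ≫
        (pushforward g).map ((pullbackPushforwardAdjunction f).unit.app ((pullback g).obj M)) :=
    Adjunction.comp_unit_app _ _ _
  rw [h2, Category.assoc] at h
  have h3 := congrArg (fun t => t ≫ (pushforward (f ≫ g)).map ((pullbackComp f g).hom.app M)) h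
  simp only [Category.assoc] at h3
  refine h3.trans ?_
  rw [← CategoryTheory.Functor.map_comp, Iso.inv_hom_id_app, CategoryTheory.Functor.map_id]
  exact Category.comp_id _

/-- unit vs. `pullbackCongr` -/
lemma unit_pullbackCongr {f g : X ⟶ Y} (e : f = g) (M : Y.Modules) :
    (pullbackPushforwardAdjunction f).unit.app M ≫
        (pushforward f).map ((pullbackCongr e).hom.app M) ≫
        (pushforwardCongr e).hom.app _ =
      (pullbackPushforwardAdjunction g).unit.app M := by
  subst e
  have h1 : (pullbackCongr (rfl : f = f)).hom.app M = 𝟙 _ := by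
    simp [pullbackCongr]
  have h2 : (pushforwardCongr (rfl : f = f)).hom.app ((pullback f).obj M) = 𝟙 _ := by
    apply Scheme.Modules.hom_ext
    intro U
    rw [pushforwardCongr_hom_app_app]
    simp
  rw [h1, h2, CategoryTheory.Functor.map_id, Category.comp_id]
  exact Category.comp_id _

/-- unit vs. `restrictFunctorIsoPullback` -/
lemma unit_restrictFunctorIsoPullback (j : X ⟶ Y) [IsOpenImmersion j] (M : Y.Modules) :
    (restrictAdjunction j).unit.app M ≫
        (pushforward j).map ((restrictFunctorIsoPullback j).hom.app M) =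
      (pullbackPushforwardAdjunction j).unit.app M :=
  Adjunction.unit_leftAdjointUniq_hom_app _ _ M

lemma unit_restrictFunctorIsoPullback_inv (j : X ⟶ Y) [IsOpenImmersion j] (M : Y.Modules) :
    (pullbackPushforwardAdjunction j).unit.app M ≫
        (pushforward j).map ((restrictFunctorIsoPullback j).inv.app M) =
      (restrictAdjunction j).unit.app M := by
  rw [← unit_restrictFunctorIsoPullback, Category.assoc, ← CategoryTheory.Functor.map_comp,
    Iso.hom_inv_id_app, CategoryTheory.Functor.map_id]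
  exact Category.comp_id _

/-- unit vs. `pullbackId` -/
lemma unit_pullbackId (M : X.Modules) :
    (pullbackPushforwardAdjunction (𝟙 X)).unit.app M ≫
        (pushforward (𝟙 X)).map ((pullbackId X).hom.app M) =
      (pushforwardId X).inv.app M := by
  have h := unit_conjugateEquiv Adjunction.id (pullbackPushforwardAdjunction (𝟙 X))
    (pullbackId X).hom M
  rw [conjugateEquiv_pullbackId_hom] at h
  simp only [Adjunction.id_unit, Functor.id_obj] at h
  refine h.symm.trans ?_
  exact Category.id_comp _

end Mates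

section PullOn

variable {X Y : Scheme.{u}} (g : X ⟶ Y) (U : Y.Opens) (U' : X.Opens) (h : U' ≤ g ⁻¹ᵁ U)
  (F : Y.Modules)

lemma pullOnIso_hom :
    (CohPull.pullOnIso g U U' h F).hom =
      (pullback (g.resLE U U' h)).map ((restrictFunctorIsoPullback U.ι).hom.app F) ≫
        (pullbackComp (g.resLE U U' h) U.ι).hom.app F ≫
        (pullbackCongr (Scheme.Hom.resLE_comp_ι g h)).hom.app F ≫
        (pullbackComp U'.ι g).inv.app F ≫
        (restrictFunctorIsoPullback U'.ι).inv.app ((pullback g).obj F) := by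
  simp [CohPull.pullOnIso]

/-- **unit characterisation of `pullOnIso`** -/
theorem unit_pullOnIso :
    (restrictAdjunction U.ι).unit.app F ≫
        (pushforward U.ι).map
          ((pullbackPushforwardAdjunction (g.resLE U U' h)).unit.app (F.restrict U.ι) ≫
            (pushforward (g.resLE U U' h)).map (CohPull.pullOnIso g U U' h F).hom) ≫
        (pushforwardComp (g.resLE U U' h) U.ι).hom.app _ ≫
        (pushforwardCongr (Scheme.Hom.resLE_comp_ι g h)).hom.app _ =
      (pullbackPushforwardAdjunction g).unit.app F ≫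
        (pushforward g).map ((restrictAdjunction U'.ι).unit.app ((pullback g).obj F)) ≫
        (pushforwardComp U'.ι g).hom.app _ := by
  have e : g.resLE U U' h ≫ U.ι = U'.ι ≫ g := Scheme.Hom.resLE_comp_ι g h
  -- Step 1: naturality of the unit of `k`
  have s1 : (pullbackPushforwardAdjunction (g.resLE U U' h)).unit.app (F.restrict U.ι) ≫
      (pushforward (g.resLE U U' h)).map ((pullback (g.resLE U U' h)).map
        ((restrictFunctorIsoPullback U.ι).hom.app F)) =
      (restrictFunctorIsoPullback U.ι).hom.app F ≫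
        (pullbackPushforwardAdjunction (g.resLE U U' h)).unit.app ((pullback U.ι).obj F) :=
    ((pullbackPushforwardAdjunction (g.resLE U U' h)).unit.naturality
      ((restrictFunctorIsoPullback U.ι).hom.app F)).symm
  have s1' := congrArg (fun t => (pushforward U.ι).map t) s1
  simp only [CategoryTheory.Functor.map_comp] at s1'
  have lC := unit_restrictFunctorIsoPullback U.ι F
  have lA := unit_pullbackComp (g.resLE U U' h) U.ι F
  have lB := unit_pullbackCongr e F
  have lA' := unit_pullbackComp U'.ι g F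
  have lC' := unit_restrictFunctorIsoPullback_inv U'.ι ((pullback g).obj F)
  have n1 : ∀ {A B : (↑U' : Scheme.{u}).Modules} (x : A ⟶ B),
      (pushforward U.ι).map ((pushforward (g.resLE U U' h)).map x) ≫
        (pushforwardComp (g.resLE U U' h) U.ι).hom.app B =
      (pushforwardComp (g.resLE U U' h) U.ι).hom.app A ≫
        (pushforward (g.resLE U U' h ≫ U.ι)).map x :=
    fun x => (pushforwardComp (g.resLE U U' h) U.ι).hom.naturality x
  have n2 : ∀ {A B : (↑U' : Scheme.{u}).Modules} (x : A ⟶ B),
      (pushforward (g.resLE U U' h ≫ U.ι)).map x ≫ (pushforwardCongr e).hom.app B =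
        (pushforwardCongr e).hom.app A ≫ (pushforward (U'.ι ≫ g)).map x :=
    fun x => (pushforwardCongr e).hom.naturality x
  have n3 : ∀ {A B : (↑U' : Scheme.{u}).Modules} (x : A ⟶ B),
      (pushforward g).map ((pushforward U'.ι).map x) ≫ (pushforwardComp U'.ι g).hom.app B =
        (pushforwardComp U'.ι g).hom.app A ≫ (pushforward (U'.ι ≫ g)).map x :=
    fun x => (pushforwardComp U'.ι g).hom.naturality x
  rw [pullOnIso_hom]
  simp only [CategoryTheory.Functor.map_comp, Category.assoc]
  rw [reassoc_of% s1', reassoc_of% lC]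
  rw [reassoc_of% (n1 ((restrictFunctorIsoPullback U'.ι).inv.app ((pullback g).obj F)))]
  rw [reassoc_of% (n1 ((pullbackComp U'.ι g).inv.app F))]
  rw [reassoc_of% (n1 ((pullbackCongr e).hom.app F))]
  rw [reassoc_of% (n1 ((pullbackComp (g.resLE U U' h) U.ι).hom.app F))]
  rw [reassoc_of% lA]
  rw [n2 ((restrictFunctorIsoPullback U'.ι).inv.app ((pullback g).obj F))]
  rw [reassoc_of% (n2 ((pullbackComp U'.ι g).inv.app F))]
  rw [reassoc_of% lB]
  rw [← lA']
  simp only [Category.assoc]
  have hinv : (pushforward (U'.ι ≫ g)).map ((pullbackComp U'.ι g).hom.app F) ≫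
      (pushforward (U'.ι ≫ g)).map ((pullbackComp U'.ι g).inv.app F) = 𝟙 _ := by
    rw [← CategoryTheory.Functor.map_comp, Iso.hom_inv_id_app]
    exact CategoryTheory.Functor.map_id _ _
  rw [reassoc_of% hinv]
  rw [← n3 ((restrictFunctorIsoPullback U'.ι).inv.app ((pullback g).obj F))]
  rw [← CategoryTheory.Functor.map_comp_assoc, lC']

/-- naturality of a morphism of modules with respect to restriction maps, elementwise -/
lemma app_map {Z : Scheme.{u}} {A B : Z.Modules} (φ : A ⟶ B) {V W : Z.Opens} (i : V ⟶ W)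
    (m : A.presheaf.obj (op W)) :
    φ.app V (A.presheaf.map i.op m) = B.presheaf.map i.op (φ.app W m) :=
  ConcreteCategory.congr_hom (φ.mapPresheaf.naturality i.op) m

lemma map_map_apply {Z : Scheme.{u}} (A : Z.Modules) {V₁ V₂ V₃ : Z.Opens} (i : V₁ ⟶ V₂) (j : V₂ ⟶ V₃)
    (m : A.presheaf.obj (op V₃)) :
    A.presheaf.map i.op (A.presheaf.map j.op m) = A.presheaf.map (i ≫ j).op m := by
  rw [op_comp, A.presheaf.map_comp]
  rfl

/-- the unit characterisation of `pullOnIso` on sections -/
theorem sec_pullOnIso (W : Y.Opens) (s : F.presheaf.obj (op W)) :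
    ((pushforwardCongr (Scheme.Hom.resLE_comp_ι g h)).hom.app
        (((pullback g).obj F).restrict U'.ι)).app W
      ((CohPull.pullOnIso g U U' h F).hom.app ((g.resLE U U' h) ⁻¹ᵁ (U.ι ⁻¹ᵁ W))
        (((pullbackPushforwardAdjunction (g.resLE U U' h)).unit.app (F.restrict U.ι)).app
          (U.ι ⁻¹ᵁ W) (F.presheaf.map (homOfLE (U.ι.image_preimage_le W)).op s))) =
    ((pullback g).obj F).presheaf.map (homOfLE (U'.ι.image_preimage_le (g ⁻¹ᵁ W))).op
      (((pullbackPushforwardAdjunction g).unit.app F).app W s) := by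
  have h0 := congrArg (fun φ => (φ.app W) s) (unit_pullOnIso g U U' h F)
  exact h0

lemma sectH0_apply {Z : Scheme.{u}} (A : Z.Modules) (V : Z.Opens) (s : A.presheaf.obj (op V)) :
    Sheaf.H.equiv₀ (Coh.toAb (A.restrict V.ι)) (Limits.isTerminalTop : Limits.IsTerminal (⊤ : V.toScheme.Opens))
      (CohPull.sectH0 A V s) = A.presheaf.map (eqToHom V.ι_image_top).op s := by
  unfold CohPull.sectH0
  rw [AddEquiv.trans_apply, AddEquiv.apply_symm_apply]
  rfl

lemma sectH0_eq_iff {Z : Scheme.{u}} (A : Z.Modules) (V : Z.Opens) (s : A.presheaf.obj (op V))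
    (x : Coh.HHon Z A V 0) :
    x = CohPull.sectH0 A V s ↔
      Sheaf.H.equiv₀ (Coh.toAb (A.restrict V.ι)) (Limits.isTerminalTop : Limits.IsTerminal (⊤ : V.toScheme.Opens)) x =
        A.presheaf.map (eqToHom V.ι_image_top).op s := by
  rw [← sectH0_apply]
  exact (Sheaf.H.equiv₀ _ _).injective.eq_iff.symm

/-- `equiv₀` of `mapH` -/
lemma equiv₀_mapH {Z : Scheme.{u}} {A B : Z.Modules} (φ : A ⟶ B) (x : Coh.HH Z A 0) :
    Sheaf.H.equiv₀ (Coh.toAb B) (Limits.isTerminalTop : Limits.IsTerminal (⊤ : Z.Opens)) (CohPull.mapH φ 0 x) =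
      φ.app ⊤ (Sheaf.H.equiv₀ (Coh.toAb A) (Limits.isTerminalTop : Limits.IsTerminal (⊤ : Z.Opens)) x) :=
  (Sheaf.H.equiv₀_naturality (Limits.isTerminalTop : Limits.IsTerminal (⊤ : Z.Opens))
    ((SheafOfModules.toSheaf Z.ringCatSheaf).map φ) x).symm

/-- **degree zero**: `pullOn` on classes of sections is the unit of `g^* ⊣ g_*` followed by
restriction -/
theorem pullOn_sectH0 (s : F.presheaf.obj (op U)) :
    CohPull.pullOn g U U' h F 0 (CohPull.sectH0 F U s) =
      CohPull.sectH0 ((pullback g).obj F) U'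
        (((pullback g).obj F).presheaf.map (homOfLE h).op
          (((pullbackPushforwardAdjunction g).unit.app F).app U s)) := by
  rw [sectH0_eq_iff]
  change Sheaf.H.equiv₀ _ _ (CohPull.mapH (CohPull.pullOnIso g U U' h F).hom 0
    (CohPull.pullMod (g.resLE U U' h) (F.restrict U.ι) 0 (CohPull.sectH0 F U s))) = _
  rw [equiv₀_mapH, CohPull.equiv₀_pullMod, sectH0_apply]
  have hs := sec_pullOnIso g U U' h F U s
  rw [pushforwardCongr_hom_app_app] at hs
  let ψ : F.restrict U.ι ⟶ (pushforward (g.resLE U U' h)).obj (((pullback g).obj F).restrict U'.ι) :=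
    (pullbackPushforwardAdjunction (g.resLE U U' h)).unit.app (F.restrict U.ι) ≫
      (pushforward (g.resLE U U' h)).map (CohPull.pullOnIso g U U' h F).hom
  let i : (⊤ : (↑U : Scheme.{u}).Opens) ⟶ U.ι ⁻¹ᵁ U := eqToHom U.ι_preimage_self.symm
  have h1 := app_map ψ i (F.presheaf.map (homOfLE (U.ι.image_preimage_le U)).op s)
  have h2 : (F.restrict U.ι).presheaf.map i.op
      (F.presheaf.map (homOfLE (U.ι.image_preimage_le U)).op s) =
      F.presheaf.map (eqToHom U.ι_image_top).op s := by
    change F.presheaf.map (U.ι.opensFunctor.map i).op _ = _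
    rw [map_map_apply]
    congr 1
  rw [h2] at h1
  refine h1.trans ?_
  change (((pullback g).obj F).restrict U'.ι).presheaf.map
    ((Opens.map (g.resLE U U' h).base).map i).op (ψ.app (U.ι ⁻¹ᵁ U) _) = _
  have hle : (⊤ : (↑U' : Scheme.{u}).Opens) ≤ (U'.ι ≫ g) ⁻¹ᵁ U := by
    intro x _
    exact h x.2
  have h3 := map_map_apply (((pullback g).obj F).restrict U'.ι) (homOfLE hle)
    (eqToHom (by rw [Scheme.Hom.resLE_comp_ι g h]) :
      (U'.ι ≫ g) ⁻¹ᵁ U ⟶ (g.resLE U U' h ≫ U.ι) ⁻¹ᵁ U)
    (ψ.app (U.ι ⁻¹ᵁ U) (F.presheaf.map (homOfLE (U.ι.image_preimage_le U)).op s))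
  have h4 : (homOfLE hle ≫ (eqToHom (by rw [Scheme.Hom.resLE_comp_ι g h]) :
      (U'.ι ≫ g) ⁻¹ᵁ U ⟶ (g.resLE U U' h ≫ U.ι) ⁻¹ᵁ U)) =
      (Opens.map (g.resLE U U' h).base).map i := Subsingleton.elim _ _
  rw [h4] at h3
  refine h3.symm.trans ?_
  refine (congrArg _ hs).trans ?_
  change ((pullback g).obj F).presheaf.map (U'.ι.opensFunctor.map (homOfLE hle)).op _ = _
  rw [map_map_apply]
  refine (map_map_apply ((pullback g).obj F) (V₂ := U'.ι ''ᵁ (U'.ι ⁻¹ᵁ (g ⁻¹ᵁ U)))
    ((Scheme.Hom.opensFunctor U'.ι).map (homOfLE hle))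
    (homOfLE (U'.ι.image_preimage_le (g ⁻¹ᵁ U))) _).trans ?_
  congr 1

end PullOn

section Res

variable {X : Scheme.{u}}

/-- `mapH` in degree zero on classes of sections -/
lemma mapH_sectH0 {A B : X.Modules} (φ : A ⟶ B) (V : X.Opens) (t : A.presheaf.obj (op V)) :
    CohPull.mapH ((restrictFunctor V.ι).map φ) 0 (CohPull.sectH0 A V t) =
      CohPull.sectH0 B V (φ.app V t) := by
  rw [sectH0_eq_iff, equiv₀_mapH, sectH0_apply]
  exact app_map φ (eqToHom V.ι_image_top) t

/-- **degree zero**: restriction of classes of sections is restriction of sections -/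
theorem resLE_sectH0 (F : X.Modules) {U U' : X.Opens} (h : U' ≤ U) (s : F.presheaf.obj (op U)) :
    CohPull.resLE F h 0 (CohPull.sectH0 F U s) =
      CohPull.sectH0 F U' (F.presheaf.map (homOfLE h).op s) := by
  have h' : U' ≤ (𝟙 X) ⁻¹ᵁ U := by rwa [Scheme.Hom.id_preimage]
  change CohPull.mapH ((restrictFunctor U'.ι).map ((pullbackId X).hom.app F)) 0
    (CohPull.pullOn (𝟙 X) U U' h' F 0 (CohPull.sectH0 F U s)) = _
  rw [pullOn_sectH0, mapH_sectH0]
  congr 1
  rw [app_map ((pullbackId X).hom.app F) (homOfLE h')]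
  congr 1
  have h1 := congrArg (fun φ => (φ.app U) s) (unit_pullbackId F)
  exact h1

end Res

end Groth.Agent.Lib.Helper21.GBC3
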