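import Mathlib
import Groth.Prelude.Def_CohCmp
import Groth.Agent.Lib.Helper21GBC1
import Groth.Agent.Lib.Helper21GBC2
import Groth.Agent.Lib.Helper21GBC3

/-!
# General base change, part 4: the comparison maps `ε_V` of a `CohCmp.SectCmp` are compatible with
restriction to smaller opens of the base (helper21)
-/

set_option autoImplicit false
universe u
open CategoryTheory AlgebraicGeometry Opposite TopologicalSpace Abelian CohCmp
open AlgebraicGeometry.Scheme.Modules

namespace Groth.Agent.Lib.Helper21.GBC4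

open Groth.Agent.Lib.Helper21.GBC1 Groth.Agent.Lib.Helper21.GBC2 Groth.Agent.Lib.Helper21.GBC3

variable {X Y : Scheme.{u}} (f : X ⟶ Y) [HasInjectiveResolutions X.Modules]
  {Δ : RDer.DerivedLES (pushforward f)} (E : CohCmp.SectCmp f Δ)

/-- **the comparison maps are natural in the open of the base** -/
theorem ε_res {V W : Y.Opens} (hWV : W ≤ V) (F : X.Modules) (p : ℕ)
    (x : Coh.HHon X F (f ⁻¹ᵁ V) p) :
    ((Coh.Rpush f p).obj F).presheaf.map (homOfLE hWV).op (E.ε V F p x) =
      E.ε W F p (CohPull.resLE F (f.preimage_mono hWV) p x) := by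
  refine family_unique (f ⁻¹ᵁ V)
    (fun F p => ((Coh.Rpush f p).obj F).presheaf.obj (op W))
    (fun S hS p => (Δ.δ S hS p (p + 1) rfl).app W)
    (fun F p x => ((Coh.Rpush f p).obj F).presheaf.map (homOfLE hWV).op (E.ε V F p x))
    (fun F p x => E.ε W F p (CohPull.resLE F (f.preimage_mono hWV) p x))
    ?_ ?_ ?_ p F x
  · intro S hS hA p x
    change ((Coh.Rpush f (p + 1)).obj S.X₁).presheaf.map (homOfLE hWV).op
      (E.ε V S.X₁ (p + 1) (extδ hA p x)) = _
    rw [E.delta V S hS hA p x]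
    exact (app_map (Δ.δ S hS p (p + 1) rfl) (homOfLE hWV) (E.ε V S.X₃ p x)).symm
  · intro S hS hA p x
    have hA' := Groth.Agent.Lib.Helper23.SectCmpLib.toAbOn_shortExact (f ⁻¹ᵁ W) S hS
    change E.ε W S.X₁ (p + 1) (CohPull.resLE S.X₁ (f.preimage_mono hWV) (p + 1) (extδ hA p x)) = _
    rw [resLE_extδ (f.preimage_mono hWV) S hA hA' p x, E.delta W S hS hA' p]
  · intro F x
    obtain ⟨s, rfl⟩ := (CohPull.sectH0 F (f ⁻¹ᵁ V)).surjective x
    change ((Coh.Rpush f 0).obj F).presheaf.map (homOfLE hWV).op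
      (E.ε V F 0 (CohPull.sectH0 F (f ⁻¹ᵁ V) s)) =
      E.ε W F 0 (CohPull.resLE F (f.preimage_mono hWV) 0 (CohPull.sectH0 F (f ⁻¹ᵁ V) s))
    rw [E.zero V F s, resLE_sectH0, E.zero W F]
    exact (app_map ((pushforward f).toRightDerivedZero.app F) (homOfLE hWV) s).symm

end Groth.Agent.Lib.Helper21.GBC4
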