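import Mathlib
import Groth.Prelude.Def_CohCmp
import Groth.Agent.Lib.Helper21GBC4

/-!
# General base change, part 5: the comparison maps `ε_V` are linear over the functions on `V`
(helper21)
-/

set_option autoImplicit false
universe u
open CategoryTheory AlgebraicGeometry Opposite TopologicalSpace Abelian CohCmp
open AlgebraicGeometry.Scheme.Modules

namespace Groth.Agent.Lib.Helper21.GBC5

open Groth.Agent.Lib.Helper21.GBC1 Groth.Agent.Lib.Helper21.GBC2 Groth.Agent.Lib.Helper21.GBC3

section Smul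

variable {X : Scheme.{u}}

/-- multiplication by a global function is natural in the module -/
lemma smulAb_natural {M N : X.Modules} (φ : M ⟶ N) (r : Coh.Γtop X) :
    (SheafOfModules.toSheaf X.ringCatSheaf).map φ ≫ Coh.smulAb N r =
      Coh.smulAb M r ≫ (SheafOfModules.toSheaf X.ringCatSheaf).map φ := by
  ext U m
  change (Coh.smulAb N r).hom.app U (φ.val.app U m) = φ.val.app U ((Coh.smulAb M r).hom.app U m)
  rw [Coh.smulAb_app, Coh.smulAb_app]
  exact ((φ.val.app U).hom.map_smul _ m).symm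

lemma smul_def (M : X.Modules) (n : ℕ) (r : Coh.Γtop X) (x : Coh.HH X M n) :
    r • x = Sheaf.H.map (Coh.smulAb M r) n x := rfl

/-- `mapH` is linear over global functions -/
lemma mapH_smul {M N : X.Modules} (φ : M ⟶ N) (n : ℕ) (r : Coh.Γtop X) (x : Coh.HH X M n) :
    CohPull.mapH φ n (r • x) = r • CohPull.mapH φ n x := by
  rw [smul_def, smul_def]
  change Sheaf.H.map _ n (Sheaf.H.map _ n x) = Sheaf.H.map _ n (Sheaf.H.map _ n x)
  rw [← Sheaf.H.map_comp_apply, ← Sheaf.H.map_comp_apply, smulAb_natural]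

/-- multiplication by a function on the open subscheme `U`, as an endomorphism of the restricted
short complex of abelian sheaves -/
noncomputable def smulSC (U : X.Opens) (S : ShortComplex X.Modules)
    (r : Coh.Γtop (↑U : Scheme.{u})) : S.map (toAbOn X U) ⟶ S.map (toAbOn X U) where
  τ₁ := Coh.smulAb ((restrictFunctor U.ι).obj S.X₁) r
  τ₂ := Coh.smulAb ((restrictFunctor U.ι).obj S.X₂) r
  τ₃ := Coh.smulAb ((restrictFunctor U.ι).obj S.X₃) r
  comm₁₂ := (smulAb_natural ((restrictFunctor U.ι).map S.f) r).symm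
  comm₂₃ := (smulAb_natural ((restrictFunctor U.ι).map S.g) r).symm

/-- connecting homomorphisms are linear over the functions on the open -/
lemma extδ_smul (U : X.Opens) (S : ShortComplex X.Modules)
    (hA : (S.map (toAbOn X U)).ShortExact) (p : ℕ) (r : Coh.Γtop (↑U : Scheme.{u}))
    (x : Coh.HHon X S.X₃ U p) :
    extδ hA p (r • x) =
      Sheaf.H.map (Coh.smulAb ((restrictFunctor U.ι).obj S.X₁) r) (p + 1) (extδ hA p x) := by
  rw [extδ_apply, extδ_apply]
  exact (comp_extClass_naturality hA hA (smulSC U S r) x).symm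

/-- the function on the open subscheme `U` attached to a function on `U` -/
noncomputable def topOf (U : X.Opens) : Γ(X, U) →+* Coh.Γtop (↑U : Scheme.{u}) :=
  (X.presheaf.map (eqToHom U.ι_image_top).op).hom

/-- multiplication on classes of sections -/
lemma smul_sectH0 (F : X.Modules) (U : X.Opens) (r : Γ(X, U)) (s : F.presheaf.obj (op U)) :
    topOf U r • CohPull.sectH0 F U s = CohPull.sectH0 F U (r • s) := by
  rw [sectH0_eq_iff, smul_def]
  have h := (Sheaf.H.equiv₀_naturality (Limits.isTerminalTop : Limits.IsTerminal (⊤ : U.toScheme.Opens))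
    (Coh.smulAb (F.restrict U.ι) (topOf U r)) (CohPull.sectH0 F U s)).symm
  refine h.trans ?_
  rw [sectH0_apply, Coh.smulAb_app]
  have h1 : Coh.resTop (↑U : Scheme.{u}) (op ⊤) (topOf U r) = topOf U r := by
    change ((↑U : Scheme.{u}).ringCatSheaf.obj.map (𝟙 (op ⊤))).hom (topOf U r) = _
    rw [CategoryTheory.Functor.map_id]
    rfl
  rw [h1]
  have h2 := Scheme.Modules.smul_restrictAppIso_hom_apply U.ι F (⊤ : (↑U : Scheme.{u}).Opens)
    (topOf U r) (F.presheaf.map (eqToHom U.ι_image_top).op s)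
  refine h2.trans ?_
  rw [Scheme.Opens.ι_appIso]
  exact (Scheme.Modules.map_smul F (eqToHom U.ι_image_top) r s).symm

end Smul

section Lin

variable {X Y : Scheme.{u}} (f : X ⟶ Y) [HasInjectiveResolutions X.Modules]
  {Δ : RDer.DerivedLES (pushforward f)} (E : CohCmp.SectCmp f Δ)

/-- pull back a function on `V` to a function on the open subscheme `f⁻¹V` -/
noncomputable def pullFun (V : Y.Opens) : Γ(Y, V) →+* Coh.Γtop (↑(f ⁻¹ᵁ V) : Scheme.{u}) :=
  (topOf (f ⁻¹ᵁ V)).comp (f.app V).hom

/-- **the comparison maps are linear over the functions on `V`** -/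
theorem ε_smul (V : Y.Opens) (a : Γ(Y, V)) (F : X.Modules) (p : ℕ)
    (x : Coh.HHon X F (f ⁻¹ᵁ V) p) :
    E.ε V F p (pullFun f V a • x) = a • E.ε V F p x := by
  refine family_unique (f ⁻¹ᵁ V)
    (fun F p => ((Coh.Rpush f p).obj F).presheaf.obj (op V))
    (fun S hS p => (Δ.δ S hS p (p + 1) rfl).app V)
    (fun F p x => E.ε V F p (pullFun f V a • x))
    (fun F p x => a • E.ε V F p x)
    ?_ ?_ ?_ p F x
  · intro S hS hA p x
    change E.ε V S.X₁ (p + 1) (Sheaf.H.map _ (p + 1) (extδ hA p x)) = _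
    have h1 := extδ_smul (f ⁻¹ᵁ V) S hA p (pullFun f V a) x
    refine (congrArg (E.ε V S.X₁ (p + 1)) h1.symm).trans ?_
    exact E.delta V S hS hA p _
  · intro S hS hA p x
    change a • E.ε V S.X₁ (p + 1) (extδ hA p x) = _
    rw [E.delta V S hS hA p x]
    exact (Scheme.Modules.Hom.app_smul (Δ.δ S hS p (p + 1) rfl) a (E.ε V S.X₃ p x)).symm
  · intro F x
    obtain ⟨s, rfl⟩ := (CohPull.sectH0 F (f ⁻¹ᵁ V)).surjective x
    change E.ε V F 0 (pullFun f V a • CohPull.sectH0 F (f ⁻¹ᵁ V) s) =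
      a • E.ε V F 0 (CohPull.sectH0 F (f ⁻¹ᵁ V) s)
    have h1 : pullFun f V a • CohPull.sectH0 F (f ⁻¹ᵁ V) s =
        CohPull.sectH0 F (f ⁻¹ᵁ V) ((f.app V).hom a • s) := smul_sectH0 F (f ⁻¹ᵁ V) _ s
    rw [h1, E.zero V F, E.zero V F]
    exact Scheme.Modules.Hom.app_smul ((pushforward f).toRightDerivedZero.app F) a s

end Lin

end Groth.Agent.Lib.Helper21.GBC5
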