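import Mathlib
import Groth.Prelude.Def_CohCmp
import Groth.Agent.Lib.Helper21GBC4
import Groth.Agent.Lib.Helper21GBC5
import Groth.Agent.S16954

/-!
# General base change, part 7: local injectivity of the comparison maps (helper21)

* `exists_local_lift_of_exact`: sections killed by `g` lift locally along `f`, for an exact sequence of
  modules on a scheme;
* `resLE_trans`: transitivity of the restriction maps `CohPull.resLE`;
* `extδ_mapH`: consecutive maps of the long exact cohomology sequence compose to zero;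
* `ε_locally_injective`: a class killed by `ε_V` restricts to zero near every point of `V`.
-/

set_option autoImplicit false
set_option linter.style.haveILetI false
universe u
open CategoryTheory CategoryTheory.Limits AlgebraicGeometry Opposite TopologicalSpace Abelian CohCmp
open AlgebraicGeometry.Scheme.Modules

namespace Groth.Agent.Lib.Helper21.GBC7

open Groth.Agent.Lib.Helper21.GBC1 Groth.Agent.Lib.Helper21.GBC2 Groth.Agent.Lib.Helper21.GBC3
  Groth.Agent.Lib.Helper21.GBC4

section Lift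
variable {Y : Scheme.{u}}

/-- sections over `V` as a functor to abelian groups -/
noncomputable abbrev secF (V : Y.Opens) : SheafOfModules.{u} Y.ringCatSheaf ⥤ AddCommGrpCat.{u} :=
  SheafOfModules.toSheaf Y.ringCatSheaf ⋙ sheafToPresheaf _ _ ⋙ (evaluation _ _).obj (op V)

instance (V : Y.Opens) : PreservesFiniteLimits (secF (Y := Y) V) := by
  unfold secF
  have : PreservesFiniteLimits (sheafToPresheaf (Opens.grothendieckTopology Y) AddCommGrpCat.{u} ⋙
      (evaluation (Opens Y)ᵒᵖ AddCommGrpCat.{u}).obj (op V)) := comp_preservesFiniteLimits _ _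
  exact comp_preservesFiniteLimits _ _

/-- sections killed by `g` lift locally along `f`, for an exact sequence of modules -/
theorem exists_local_lift_of_exact (S : ShortComplex Y.Modules) (hS : S.Exact)
    (V : Y.Opens) (t : S.X₂.presheaf.obj (op V)) (ht : S.g.app V t = 0) (y : Y) (hy : y ∈ V) :
    ∃ (W : Y.Opens) (hWV : W ≤ V), y ∈ W ∧ ∃ s : S.X₁.presheaf.obj (op W),
      S.f.app W s = S.X₂.presheaf.map (homOfLE hWV).op t := by
  let S₀ : ShortComplex (SheafOfModules.{u} Y.ringCatSheaf) := S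
  have hS₀ : S₀.Exact := hS
  have hepi : Epi (kernel.lift S₀.g S₀.f S₀.zero) := S₀.exact_iff_epi_kernel_lift.1 hS₀
  let S' : ShortComplex (SheafOfModules.{u} Y.ringCatSheaf) :=
    ShortComplex.mk (kernel.ι S₀.g) S₀.g (kernel.condition _)
  have hS' : S'.Exact := ShortComplex.exact_of_f_is_kernel _ (kernelIsKernel S₀.g)
  haveI : Mono S'.f := inferInstanceAs (Mono (kernel.ι S₀.g))
  have h1 : (S'.map (secF V)).Exact :=
    hS'.map_of_mono_of_preservesKernel (secF V) inferInstance inferInstance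
  rw [ShortComplex.ab_exact_iff] at h1
  obtain ⟨z, hz⟩ := h1 t ht
  let K : Y.Modules := S'.X₁
  let lft : S.X₁ ⟶ K := kernel.lift S₀.g S₀.f S₀.zero
  let ι : K ⟶ S.X₂ := S'.f
  haveI : Epi lft := hepi
  have hfac : lft ≫ ι = S.f := kernel.lift_ι S₀.g S₀.f S₀.zero
  have hz' : ι.app V z = t := hz
  obtain ⟨W, hWV, hyW, s, hs⟩ :=
    Groth.Agent.Lib.Helper23.SectCmpLib.exists_local_lift lft V z y hy
  refine ⟨W, hWV, hyW, s, ?_⟩
  have h2 : S.f.app W s = ι.app W (lft.app W s) := by
    rw [← hfac]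
    rfl
  rw [h2, hs, ← hz']
  exact (app_map ι (homOfLE hWV) z)

end Lift

section Res
variable {X : Scheme.{u}}

/-- **transitivity of restriction of cohomology classes** -/
theorem resLE_trans (F : X.Modules) {U U' U'' : X.Opens} (h : U' ≤ U) (h' : U'' ≤ U') (p : ℕ)
    (x : Coh.HHon X F U p) :
    CohPull.resLE F h' p (CohPull.resLE F h p x) = CohPull.resLE F (h'.trans h) p x := by
  refine family_unique U
    (fun F p => Coh.HHon X F U'' p)
    (fun S hS p => extδ (Groth.Agent.Lib.Helper23.SectCmpLib.toAbOn_shortExact U'' S hS) p)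
    (fun F p x => CohPull.resLE F h' p (CohPull.resLE F h p x))
    (fun F p x => CohPull.resLE F (h'.trans h) p x)
    ?_ ?_ ?_ p F x
  · intro S hS hA p x
    have hA' := Groth.Agent.Lib.Helper23.SectCmpLib.toAbOn_shortExact U' S hS
    have hA'' := Groth.Agent.Lib.Helper23.SectCmpLib.toAbOn_shortExact U'' S hS
    change CohPull.resLE S.X₁ h' (p + 1) (CohPull.resLE S.X₁ h (p + 1) (extδ hA p x)) = _
    rw [resLE_extδ h S hA hA' p x, resLE_extδ h' S hA' hA'' p]
  · intro S hS hA p x
    have hA'' := Groth.Agent.Lib.Helper23.SectCmpLib.toAbOn_shortExact U'' S hS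
    exact resLE_extδ (h'.trans h) S hA hA'' p x
  · intro F x
    obtain ⟨s, rfl⟩ := (CohPull.sectH0 F U).surjective x
    rw [resLE_sectH0, resLE_sectH0, resLE_sectH0, map_map_apply]
    rfl

/-- consecutive maps of the long exact cohomology sequence compose to zero -/
theorem extδ_mapH (U : X.Opens) (S : ShortComplex X.Modules)
    (hA : (S.map (toAbOn X U)).ShortExact) (p : ℕ) (z : Coh.HHon X S.X₂ U p) :
    extδ hA p (CohPull.mapH ((restrictFunctor U.ι).map S.g) p z) = 0 := by
  rw [extδ_apply]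
  change ((z : Ext _ _ p).comp (Ext.mk₀ ((toAbOn X U).map S.g)) (add_zero p)).comp hA.extClass rfl = 0
  rw [Ext.comp_assoc_of_second_deg_zero]
  have h0 : (Ext.mk₀ ((toAbOn X U).map S.g)).comp hA.extClass (zero_add 1) = 0 :=
    hA.comp_extClass
  rw [h0, Ext.comp_zero]

end Res

section Inj
variable {X Y : Scheme.{u}} (f : X ⟶ Y) [HasInjectiveResolutions X.Modules]
  {Δ : RDer.DerivedLES (pushforward f)} (E : CohCmp.SectCmp f Δ)

/-- `ε` is injective in degree zero -/
theorem ε_zero_injective (V : Y.Opens) (F : X.Modules) (x : Coh.HHon X F (f ⁻¹ᵁ V) 0)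
    (hx : E.ε V F 0 x = 0) : x = 0 := by
  haveI := enoughInjectives X
  obtain ⟨s, rfl⟩ := (CohPull.sectH0 F (f ⁻¹ᵁ V)).surjective x
  rw [E.zero V F s] at hx
  let τ := (pushforward f).toRightDerivedZero.app F
  have : IsIso τ := inferInstance
  have h1 : (inv τ).app V (τ.app V s) = s :=
    congrArg (fun φ : (pushforward f).obj F ⟶ (pushforward f).obj F => φ.app V s)
      (IsIso.hom_inv_id τ)
  have h2 : s = 0 := by
    have h3 : τ.app V s = 0 := hx
    exact h1.symm.trans ((congrArg ((inv τ).app V) h3).trans (map_zero _))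
  rw [h2, map_zero]

/-- **the comparison maps are locally injective** -/
theorem ε_locally_injective (p : ℕ) : ∀ (F : X.Modules) (V : Y.Opens)
    (x : Coh.HHon X F (f ⁻¹ᵁ V) p) (_ : E.ε V F p x = 0) (y : Y) (_ : y ∈ V),
    ∃ (W : Y.Opens) (hWV : W ≤ V), y ∈ W ∧ CohPull.resLE F (f.preimage_mono hWV) p x = 0 := by
  induction p with
  | zero =>
    intro F V x hx y hy
    refine ⟨V, le_rfl, hy, ?_⟩
    rw [ε_zero_injective f E V F x hx, map_zero]
  | succ p ih =>
    intro F V x hx y hy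
    have hS := injSeq_shortExact F
    have hA := Groth.Agent.Lib.Helper23.SectCmpLib.toAbOn_shortExact (f ⁻¹ᵁ V) (injSeq F) hS
    obtain ⟨y₀, rfl⟩ := extδ_surjective (injSeq F) (injSeq_injective F) (f ⁻¹ᵁ V) hA p x
    have h1 := E.delta V (injSeq F) hS hA p y₀
    have h2 : (Δ.δ (injSeq F) hS p (p + 1) rfl).app V (E.ε V (injSeq F).X₃ p y₀) = 0 :=
      h1.symm.trans hx
    obtain ⟨W, hWV, hyW, s, hs⟩ := exists_local_lift_of_exact _ (Δ.exact₃ (injSeq F) hS p (p + 1) rfl)
      V (E.ε V (injSeq F).X₃ p y₀) h2 y hy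
    obtain ⟨W₁, hW₁W, hyW₁, z, hz⟩ :=
      Groth.Agent.S16954.result f E (injSeq F).X₂ p W s y hyW
    -- the class `resLE y₀ - g z` is killed by `ε`
    have hW₁V : W₁ ≤ V := hW₁W.trans hWV
    have e1 : E.ε W₁ (injSeq F).X₃ p (CohPull.resLE (injSeq F).X₃ (f.preimage_mono hW₁V) p y₀) =
        ((Coh.Rpush f p).obj (injSeq F).X₃).presheaf.map (homOfLE hW₁V).op
          (E.ε V (injSeq F).X₃ p y₀) := (ε_res f E hW₁V (injSeq F).X₃ p y₀).symm
    have e2 : E.ε W₁ (injSeq F).X₃ p
        (CohPull.mapH ((restrictFunctor (f ⁻¹ᵁ W₁).ι).map (injSeq F).g) p z) =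
        ((Coh.Rpush f p).map (injSeq F).g).app W₁ (E.ε W₁ (injSeq F).X₂ p z) :=
      E.natural W₁ (injSeq F).g p z
    have e3 : ((Coh.Rpush f p).map (injSeq F).g).app W₁ (E.ε W₁ (injSeq F).X₂ p z) =
        ((Coh.Rpush f p).obj (injSeq F).X₃).presheaf.map (homOfLE hW₁V).op
          (E.ε V (injSeq F).X₃ p y₀) := by
      rw [hz, app_map ((Coh.Rpush f p).map (injSeq F).g) (homOfLE hW₁W) s]
      have hs' : ((Coh.Rpush f p).map (injSeq F).g).app W s =
          ((Coh.Rpush f p).obj (injSeq F).X₃).presheaf.map (homOfLE hWV).op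
            (E.ε V (injSeq F).X₃ p y₀) := hs
      rw [hs', map_map_apply]
      rfl
    have e4 : E.ε W₁ (injSeq F).X₃ p
        (CohPull.resLE (injSeq F).X₃ (f.preimage_mono hW₁V) p y₀ -
          CohPull.mapH ((restrictFunctor (f ⁻¹ᵁ W₁).ι).map (injSeq F).g) p z) = 0 := by
      rw [map_sub, e1, e2, e3, sub_self]
    obtain ⟨W₂, hW₂W₁, hyW₂, h5⟩ := ih (injSeq F).X₃ W₁ _ e4 y hyW₁
    have hW₂V : W₂ ≤ V := hW₂W₁.trans hW₁V
    refine ⟨W₂, hW₂V, hyW₂, ?_⟩
    have hA₂ := Groth.Agent.Lib.Helper23.SectCmpLib.toAbOn_shortExact (f ⁻¹ᵁ W₂) (injSeq F) hS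
    refine (resLE_extδ (f.preimage_mono hW₂V) (injSeq F) hA hA₂ p y₀).trans ?_
    rw [map_sub, sub_eq_zero, resLE_trans, resLE_natural] at h5
    rw [h5]
    exact extδ_mapH (f ⁻¹ᵁ W₂) (injSeq F) hA₂ p _

end Inj

end Groth.Agent.Lib.Helper21.GBC7
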