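import Mathlib
import Groth.Prelude.Def_CohPull
import Groth.Agent.Lib.Helper23AdjEdge
import Groth.Agent.S11319
set_option backward.isDefEq.respectTransparency.types false

/-!
# The edge map `H^p(Y, f_* G) → H^p(X, G)` (helper23)

`CohPull.pushEdge f G p` is the adjunction edge map of abelian sheaves (`pushEdge_eq`), hence bijective in all degrees
when the higher direct images of `G` vanish (`pushEdge_bijective_of_isZeroAb`, `pushEdge_bijective_of_isZero`).
-/

set_option autoImplicit false
universe u

namespace Groth.Agent.Lib.Helper23.PushEdge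

open AlgebraicGeometry CategoryTheory Scheme.Modules Opposite Limits TopologicalSpace Abelian
open Groth.Agent.Lib.Helper23.AdjEdge

variable {X Y : Scheme.{u}} (f : X ⟶ Y)

/-- `theta` followed by the counit of modules is the counit of abelian sheaves -/
theorem theta_counit (G : X.Modules) :
    CohPull.theta f ((pushforward f).obj G) ≫
      (SheafOfModules.toSheaf X.ringCatSheaf).map ((pullbackPushforwardAdjunction f).counit.app G) =
    (CohPull.invPushAdj f.base).counit.app (Coh.toAb G) := by
  unfold CohPull.theta
  rw [← Adjunction.homEquiv_naturality_right_symm]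
  have h2 := (pullbackPushforwardAdjunction f).right_triangle_components G
  have h3 := (SheafOfModules.toSheaf Y.ringCatSheaf).congr_map h2
  have h1 : (SheafOfModules.toSheaf Y.ringCatSheaf).map
        ((pullbackPushforwardAdjunction f).unit.app ((pushforward f).obj G)) ≫
      (CohTop.push f.base).map ((SheafOfModules.toSheaf X.ringCatSheaf).map
        ((pullbackPushforwardAdjunction f).counit.app G)) = 𝟙 _ :=
    ((CategoryTheory.Functor.map_comp _ _ _).symm.trans h3).trans (CategoryTheory.Functor.map_id _ _)
  refine (congrArg _ h1).trans ?_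
  rw [Adjunction.homEquiv_counit]
  erw [CategoryTheory.Functor.map_id, Category.id_comp]
  rfl

/-- the edge map of abelian sheaves for `f` -/
noncomputable abbrev abEdge (A : CohTop.Ab X.carrier) (p : ℕ) :=
  edge (CohPull.inv f.base) (CohPull.oneTo f.base) (CohTop.push f.base) (CohPull.invPushAdj f.base) A p

theorem pushEdge_eq (G : X.Modules) (p : ℕ) (x : Coh.HH Y ((pushforward f).obj G) p) :
    CohPull.pushEdge f G p x = abEdge f (Coh.toAb G) p x := by
  have h1 : CohPull.pushEdge f G p x =
      (((Ext.mk₀ (CohPull.oneTo f.base)).comp (x.mapExactFunctor (CohPull.inv f.base)) (zero_add p)).comp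
        (Ext.mk₀ (CohPull.theta f ((pushforward f).obj G))) (add_zero p)).comp
        (Ext.mk₀ ((SheafOfModules.toSheaf X.ringCatSheaf).map
          ((pullbackPushforwardAdjunction f).counit.app G))) (add_zero p) := rfl
  rw [h1, Ext.comp_assoc _ _ _ (add_zero p) (add_zero 0) (by omega), Ext.mk₀_comp_mk₀, theta_counit]
  rfl

theorem abEdge_zero_bijective (A : CohTop.Ab X.carrier) : Function.Bijective (abEdge f A 0) := by
  have key : ∀ x, Sheaf.H.equiv₀ A isTerminalTop (abEdge f A 0 x) =
      Sheaf.H.equiv₀ ((CohTop.push f.base).obj A) isTerminalTop x := by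
    intro x
    have h1 : abEdge f A 0 x = Sheaf.H.map ((CohPull.invPushAdj f.base).counit.app A) 0
        (CohPull.pullAb f.base ((CohTop.push f.base).obj A) 0 x) := rfl
    rw [h1, ← Sheaf.H.equiv₀_naturality]
    have h4 := CohPull.equiv₀_pullAb f.base ((CohTop.push f.base).obj A) x
    have h2 := (CohPull.invPushAdj f.base).right_triangle_components A
    have h3 := congrArg (fun t => t.hom.app (op ⊤)
      (Sheaf.H.equiv₀ ((CohTop.push f.base).obj A) isTerminalTop x)) h2
    refine (congrArg (fun t => ((CohPull.invPushAdj f.base).counit.app A).hom.app (op ⊤) t) h4).trans ?_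
    exact h3
  have h2 : (abEdge f A 0 : _ → _) = (Sheaf.H.equiv₀ A isTerminalTop).symm ∘
      (Sheaf.H.equiv₀ ((CohTop.push f.base).obj A) isTerminalTop) := by
    funext x
    exact ((Sheaf.H.equiv₀ A isTerminalTop).eq_symm_apply).2 (key x)
  rw [h2]
  exact (Sheaf.H.equiv₀ A isTerminalTop).symm.bijective.comp (Sheaf.H.equiv₀ _ isTerminalTop).bijective

theorem pushEdge_bijective_of_isZeroAb (G : X.Modules)
    (hA : ∀ q : ℕ, 0 < q → Limits.IsZero ((Coh.RpushAb f q).obj (Coh.toAb G))) (p : ℕ) :
    Function.Bijective (CohPull.pushEdge f G p) := by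
  haveI : PreservesFiniteLimits (CohTop.push f.base) := by
    haveI := (CohPull.invPushAdj f.base).rightAdjoint_preservesLimits
    infer_instance
  have hb := edge_bijective (CohPull.inv f.base) (CohPull.oneTo f.base) (CohTop.push f.base)
    (CohPull.invPushAdj f.base) (abEdge_zero_bijective f) p (Coh.toAb G) hA
  have h2 : (CohPull.pushEdge f G p : _ → _) = abEdge f (Coh.toAb G) p := by
    funext x
    exact pushEdge_eq f G p x
  rw [h2]
  exact hb

theorem pushEdge_bijective_of_isZero [HasInjectiveResolutions X.Modules] (G : X.Modules)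
    (hG : ∀ q : ℕ, 0 < q → Limits.IsZero ((Coh.Rpush f q).obj G)) (p : ℕ) :
    Function.Bijective (CohPull.pushEdge f G p) := by
  refine pushEdge_bijective_of_isZeroAb f G ?_ p
  intro q hq
  obtain ⟨e⟩ := Groth.Agent.S11319.result f G q
  have h1 : IsZero (Coh.toAb ((Coh.Rpush f q).obj G)) :=
    (SheafOfModules.toSheaf Y.ringCatSheaf).map_isZero (hG q hq)
  exact h1.of_iso e.symm

end Groth.Agent.Lib.Helper23.PushEdge
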