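import Mathlib
import Groth.Prelude.Def_CohCmp
import Groth.Agent.Lib.Helper21GBC5
import Groth.Agent.Lib.Helper23PushEdge
import Groth.Agent.S0028

/-!
# General base change, part 6: `pullMod` through the edge map `pushEdge` (helper21)
-/

set_option autoImplicit false
universe u
open CategoryTheory AlgebraicGeometry Opposite TopologicalSpace Abelian CohCmp
open AlgebraicGeometry.Scheme.Modules

namespace Groth.Agent.Lib.Helper21.GBC6

open Groth.Agent.Lib.Helper21.GBC1 Groth.Agent.Lib.Helper21.GBC2 Groth.Agent.Lib.Helper21.GBC3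
  Groth.Agent.Lib.Helper21.GBC5

variable {X Y : Scheme.{u}} (g : X ⟶ Y)

lemma mapH_comp {Z : Scheme.{u}} {A B C : Z.Modules} (φ : A ⟶ B) (ψ : B ⟶ C) (p : ℕ)
    (x : Coh.HH Z A p) :
    CohPull.mapH ψ p (CohPull.mapH φ p x) = CohPull.mapH (φ ≫ ψ) p x := by
  change Sheaf.H.map _ p (Sheaf.H.map _ p x) = Sheaf.H.map _ p x
  rw [← Sheaf.H.map_comp_apply]
  congr 1

lemma mapH_id {Z : Scheme.{u}} (A : Z.Modules) (p : ℕ) (x : Coh.HH Z A p) :
    CohPull.mapH (𝟙 A) p x = x := by
  change Sheaf.H.map _ p x = x
  exact Sheaf.H.map_id_apply x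

/-- `pullMod` is the unit followed by the edge map -/
theorem pullMod_eq_pushEdge (M : Y.Modules) (p : ℕ) (x : Coh.HH Y M p) :
    CohPull.pullMod g M p x =
      CohPull.pushEdge g ((pullback g).obj M) p
        (CohPull.mapH ((pullbackPushforwardAdjunction g).unit.app M) p x) := by
  change _ = CohPull.mapH ((pullbackPushforwardAdjunction g).counit.app ((pullback g).obj M)) p
    (CohPull.pullMod g _ p (CohPull.mapH ((pullbackPushforwardAdjunction g).unit.app M) p x))
  rw [pullMod_natural, mapH_comp]
  have h := (pullbackPushforwardAdjunction g).left_triangle_components M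
  rw [h]
  exact (mapH_id _ p _).symm

/-- the edge map is bijective for an affine morphism and a quasi-coherent module -/
theorem pushEdge_bijective [IsAffineHom g] (N : X.Modules) [Coh.IsQCoh N] (p : ℕ) :
    Function.Bijective (CohPull.pushEdge g N p) :=
  Groth.Agent.Lib.Helper23.PushEdge.pushEdge_bijective_of_isZeroAb g N
    (fun q hq => Groth.Agent.S0028.result g N q hq) p

end Groth.Agent.Lib.Helper21.GBC6
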