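import Mathlib
import Groth.Agent.Lib.Helper21TFunA
import Groth.Agent.Lib.Helper21TFunE

/-!
# Linearity of `TFun`, linear upgrade of additive natural isomorphisms, `H^0 = Γ` (helper21)
-/
set_option autoImplicit false
universe u
open CategoryTheory CategoryTheory.Limits AlgebraicGeometry MonoidalCategory Opposite

namespace Groth.Agent.Lib.Helper21.TFunI

open Groth.Agent.Lib.Helper21.TFunA Groth.Agent.Lib.Helper21.TFunE

section Lin

variable {A : Type u} [CommRing A] {ι : Type} {c : ComplexShape ι}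

lemma homologyMap_smul {K L : HomologicalComplex (ModuleCat.{u} A) c} (φ : K ⟶ L) (a : A) (p : ι) :
    HomologicalComplex.homologyMap (a • φ) p = a • HomologicalComplex.homologyMap φ p := by
  have e : (HomologicalComplex.shortComplexFunctor (ModuleCat.{u} A) c p).map (a • φ) =
      a • (HomologicalComplex.shortComplexFunctor (ModuleCat.{u} A) c p).map φ := by
    ext <;> rfl
  change ShortComplex.homologyMap
    ((HomologicalComplex.shortComplexFunctor (ModuleCat.{u} A) c p).map (a • φ)) = _
  rw [e, ShortComplex.homologyMap_smul]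
  rfl

lemma tensorMap_smul (P : HomologicalComplex (ModuleCat.{u} A) c) {M N : ModuleCat.{u} A}
    (g : M ⟶ N) (a : A) : CohIII.tensorMap P (a • g) = a • CohIII.tensorMap P g := by
  apply HomologicalComplex.hom_ext
  intro n
  change P.X n ◁ (a • g) = a • (P.X n ◁ g)
  exact MonoidalLinear.whiskerLeft_smul _ _ _

lemma tensorMap_add (P : HomologicalComplex (ModuleCat.{u} A) c) {M N : ModuleCat.{u} A}
    (g h : M ⟶ N) : CohIII.tensorMap P (g + h) = CohIII.tensorMap P g + CohIII.tensorMap P h := by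
  apply HomologicalComplex.hom_ext
  intro n
  change P.X n ◁ (g + h) = P.X n ◁ g + P.X n ◁ h
  exact MonoidalPreadditive.whiskerLeft_add _ _

instance TFun_additive (P : HomologicalComplex (ModuleCat.{u} A) c) (p : ι) :
    (CohIII.TFun P p).Additive where
  map_add {M N g h} := by
    change HomologicalComplex.homologyMap (CohIII.tensorMap P (g + h)) p = _
    rw [tensorMap_add, HomologicalComplex.homologyMap_add]
    rfl

instance TFun_linear (P : HomologicalComplex (ModuleCat.{u} A) c) (p : ι) :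
    (CohIII.TFun P p).Linear A where
  map_smul {M N} g a := by
    change HomologicalComplex.homologyMap (CohIII.tensorMap P (a • g)) p = _
    rw [tensorMap_smul, homologyMap_smul]
    rfl

/-- an additive natural isomorphism between functors compatible with homotheties is linear -/
noncomputable def linearIsoOfAddIso (S T : ModuleCat.{u} A ⥤ ModuleCat.{u} A)
    (hS : ∀ (M : ModuleCat.{u} A) (a : A), S.map (a • 𝟙 M) = a • 𝟙 _)
    (hT : ∀ (M : ModuleCat.{u} A) (a : A), T.map (a • 𝟙 M) = a • 𝟙 _)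
    (φ : S ⋙ forget₂ (ModuleCat.{u} A) AddCommGrpCat.{u} ≅
      T ⋙ forget₂ (ModuleCat.{u} A) AddCommGrpCat.{u}) : S ≅ T :=
  NatIso.ofComponents
    (fun M => LinearEquiv.toModuleIso
      { (φ.app M).addCommGroupIsoToAddEquiv with
        map_smul' := fun a x => by
          have h := φ.hom.naturality (a • 𝟙 M)
          have h2 := congrArg (fun k => k.hom x) h
          have h3 : (φ.hom.app M).hom ((S.map (a • 𝟙 M)).hom x) =
              (T.map (a • 𝟙 M)).hom ((φ.hom.app M).hom x) := h2
          rw [hS, hT] at h3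
          exact h3 })
    (by
      intro M N g
      ext x
      have h := φ.hom.naturality g
      have h2 := congrArg (fun k => k.hom x) h
      exact h2)

end Lin

section Geo
open Groth.Agent.Lib.Helper21.CechMod

variable (A : Type u) [CommRing A] {X : Scheme.{u}} [X.Over (Spec (CommRingCat.of A))]

lemma ringA_top (a : A) :
    ringA A (⊤ : X.Opens) a =
      ((X ↘ Spec (CommRingCat.of A)).app ⊤).hom
        (((Spec (CommRingCat.of A)).presheaf.map
          (⊤ : (Spec (CommRingCat.of A)).Opens).leTop.op).hom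
            ((Scheme.ΓSpecIso (CommRingCat.of A)).inv.hom a)) := by
  have h1 : (⊤ : (Spec (CommRingCat.of A)).Opens).leTop.op = 𝟙 _ := Subsingleton.elim _ _
  have h2 : (homOfLE (le_top : (⊤ : X.Opens) ≤ ⊤)).op = 𝟙 _ := Subsingleton.elim _ _
  unfold ringA
  rw [h1, h2]
  simp only [CategoryTheory.Functor.map_id]
  rfl

lemma gsA_smul (G : X.Modules) (a : A) (s : (CohIII.globalSectionsA A).obj G) :
    a • s = (show Γ(G, ⊤) from (ringA A (⊤ : X.Opens) a • (show Γ(G, ⊤) from s))) := by
  change ((Spec (CommRingCat.of A)).presheaf.map (⊤ : (Spec (CommRingCat.of A)).Opens).leTop.op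
    ((Scheme.ΓSpecIso (CommRingCat.of A)).inv a)) • (show Γ((Scheme.Modules.pushforward (X ↘ Spec (CommRingCat.of A))).obj G, ⊤) from s) = _
  rw [ringA_top]
  rfl

lemma gsA_map_smulMod (G : X.Modules) (a : A) :
    (CohIII.globalSectionsA A).map (Formal.smulMod A G a) = a • 𝟙 _ := by
  ext s
  change _ = a • s
  rw [gsA_smul]
  rfl

/-- `Γ(X, -) ≅ H^0(X, -)` as functors to abelian groups -/
noncomputable def gsAIsoH0 :
    CohIII.globalSectionsA A (X := X) ⋙ forget₂ (ModuleCat.{u} A) AddCommGrpCat.{u} ≅ CohIII.HAb X 0 :=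
  NatIso.ofComponents
    (fun G => AddEquiv.toAddCommGrpIso
      (Sheaf.H.equiv₀ ((SheafOfModules.toSheaf X.ringCatSheaf).obj G) Limits.isTerminalTop).symm)
    (by
      intro G G' φ
      ext s
      exact (Sheaf.H.equiv₀_symm_naturality (hT := Limits.isTerminalTop)
        ((SheafOfModules.toSheaf X.ringCatSheaf).map φ) s).symm)

/-- `M ↦ Γ(X, f^*(M~) ⊗ F)` is compatible with homotheties -/
lemma 𝒢gsA_map_smul (F : X.Modules) (M : ModuleCat.{u} A) (a : A) :
    (𝒢 A F ⋙ CohIII.globalSectionsA A).map (a • 𝟙 M) = a • 𝟙 _ := by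
  change (CohIII.globalSectionsA A).map ((𝒢 A F).map (a • 𝟙 M)) = _
  rw [𝒢_map_smul, gsA_map_smulMod]
  rfl

lemma TFun_map_smul_id {ι : Type} {c : ComplexShape ι}
    (P : HomologicalComplex (ModuleCat.{u} A) c) (p : ι) (M : ModuleCat.{u} A) (a : A) :
    (CohIII.TFun P p).map (a • 𝟙 M) = a • 𝟙 _ := by
  rw [Functor.map_smul, CategoryTheory.Functor.map_id]

/-- an additive natural isomorphism `H^0(X, f^*(-~) ⊗ F) ≅ T` upgrades to a linear isomorphism
`Γ(X, f^*(-~) ⊗ F) ≅ T` -/
noncomputable def gsALinearIso (F : X.Modules) {ι : Type} {c : ComplexShape ι}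
    (P : HomologicalComplex (ModuleCat.{u} A) c) (p : ι)
    (e : CohIII.tensorAFunctor A F ⋙ CohIII.HAb X 0 ≅
      CohIII.TFun P p ⋙ forget₂ (ModuleCat.{u} A) AddCommGrpCat.{u}) :
    CohIII.tensorAFunctor A F ⋙ CohIII.globalSectionsA A ≅ CohIII.TFun P p :=
  linearIsoOfAddIso (𝒢 A F ⋙ CohIII.globalSectionsA A) (CohIII.TFun P p)
    (𝒢gsA_map_smul A F) (TFun_map_smul_id A P p)
    (Functor.associator _ _ _ ≪≫ Functor.isoWhiskerLeft (𝒢 A F) (gsAIsoH0 A) ≪≫ e)

end Geo

end Groth.Agent.Lib.Helper21.TFunI
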