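import Mathlib
import Groth.Agent.Lib.Helper21TFunE

/-!
# `T_q(M) = H_q(P ⊗ M)` commutes with products for `P` termwise finite projective (helper21)
-/
set_option autoImplicit false
universe u
open CategoryTheory CategoryTheory.Limits MonoidalCategory TensorProduct

namespace Groth.Agent.Lib.Helper21.TFunJ

section PiTensor

variable {A : Type u} [CommRing A] {J : Type u} (M : J → Type u) [∀ j, AddCommGroup (M j)]
  [∀ j, Module A (M j)]

/-- naturality of `piRightHom` in the first variable -/
lemma piRightHom_natural {N N' : Type u} [AddCommGroup N] [Module A N] [AddCommGroup N']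
    [Module A N'] (f : N →ₗ[A] N') (x : N ⊗[A] (∀ j, M j)) (j : J) :
    TensorProduct.piRightHom A A N' M (LinearMap.rTensor _ f x) j =
      LinearMap.rTensor _ f (TensorProduct.piRightHom A A N M x j) := by
  induction x using TensorProduct.induction_on with
  | zero => simp
  | tmul n m => simp
  | add x y hx hy => simp only [map_add, Pi.add_apply, hx, hy]

/-- `(Fin n → A) ⊗ X ≃ (Fin n → X)` -/
noncomputable def finE (n : ℕ) (X : Type u) [AddCommGroup X] [Module A X] :
    (Fin n → A) ⊗[A] X ≃ₗ[A] (Fin n → X) :=
  (TensorProduct.comm A (Fin n → A) X).trans (TensorProduct.piScalarRight A A X (Fin n))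

lemma finE_tmul (n : ℕ) (X : Type u) [AddCommGroup X] [Module A X] (a : Fin n → A) (x : X)
    (k : Fin n) : finE (A := A) n X (a ⊗ₜ x) k = a k • x := by
  simp [finE]

lemma piRightHom_bijective_fin (n : ℕ) :
    Function.Bijective (TensorProduct.piRightHom A A (Fin n → A) M) := by
  -- compare with the flip
  let E1 : (Fin n → A) ⊗[A] (∀ j, M j) ≃ₗ[A] (Fin n → ∀ j, M j) := finE n _
  let E2 : (∀ j, (Fin n → A) ⊗[A] M j) ≃ₗ[A] (∀ j, Fin n → M j) :=
    LinearEquiv.piCongrRight (fun j => finE n (M j))
  let flip : (Fin n → ∀ j, M j) ≃ (∀ j, Fin n → M j) :=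
    ⟨fun f j k => f k j, fun g k j => g j k, fun _ => rfl, fun _ => rfl⟩
  have hcomm : ∀ x, E2 (TensorProduct.piRightHom A A (Fin n → A) M x) = flip (E1 x) := by
    intro x
    induction x using TensorProduct.induction_on with
    | zero => simp; rfl
    | tmul a m =>
      funext j k
      change finE n (M j) (TensorProduct.piRightHom A A (Fin n → A) M (a ⊗ₜ m) j) k =
        finE n (∀ j, M j) (a ⊗ₜ m) k j
      rw [TensorProduct.piRightHom_tmul, finE_tmul, finE_tmul]
      rfl
    | add x y hx hy =>
      rw [map_add, map_add, hx, hy, map_add]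
      rfl
  have h : (TensorProduct.piRightHom A A (Fin n → A) M : _ → _) = E2.symm ∘ flip ∘ E1 := by
    funext x
    apply E2.injective
    rw [hcomm]
    simp
  rw [h]
  exact E2.symm.bijective.comp (flip.bijective.comp E1.bijective)

/-- tensoring with a finite projective module commutes with arbitrary products -/
theorem piRightHom_bijective (N : Type u) [AddCommGroup N] [Module A N] [Module.Finite A N]
    [Module.Projective A N] : Function.Bijective (TensorProduct.piRightHom A A N M) := by
  obtain ⟨n, r, s, -, -, hrs⟩ := Module.Finite.exists_comp_eq_id_of_projective A N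
  have hrs' : ∀ x, r (s x) = x := fun x => by
    have := congrArg (fun k => k x) hrs
    exact this
  have hb := piRightHom_bijective_fin M (A := A) n
  have hrT : ∀ (X : Type u) [AddCommGroup X] [Module A X] (x : N ⊗[A] X),
      LinearMap.rTensor X r (LinearMap.rTensor X s x) = x := by
    intro X _ _ x
    rw [← LinearMap.comp_apply, ← LinearMap.rTensor_comp, hrs, LinearMap.rTensor_id]
    rfl
  constructor
  · intro x y hxy
    have h1 : LinearMap.rTensor _ s x = LinearMap.rTensor _ s y := by
      apply hb.1
      funext j
      rw [piRightHom_natural, piRightHom_natural, hxy]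
    rw [← hrT _ x, ← hrT _ y, h1]
  · intro y
    obtain ⟨x', hx'⟩ := hb.2 (fun j => LinearMap.rTensor _ s (y j))
    refine ⟨LinearMap.rTensor _ r x', ?_⟩
    funext j
    rw [piRightHom_natural, hx', hrT]

end PiTensor

section HProd

variable {A : Type u} [CommRing A] {ι : Type} {c : ComplexShape ι}

/-- elements: a cycle of a complex of modules -/
lemma exists_cycle (K : HomologicalComplex (ModuleCat.{u} A) c) (q k : ι) (hk : c.next q = k)
    (x : K.X q) (hx : (K.d q k).hom x = 0) : ∃ z : K.cycles q, (K.iCycles q).hom z = x := by
  let N : ModuleCat.{u} A := ModuleCat.of A (LinearMap.ker (K.d q k).hom)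
  let incl : N ⟶ K.X q := ModuleCat.ofHom (LinearMap.ker (K.d q k).hom).subtype
  have hw : incl ≫ K.d q k = 0 := by
    ext y
    exact y.2
  refine ⟨(K.liftCycles incl k hk hw).hom ⟨x, hx⟩, ?_⟩
  have h := K.liftCycles_i incl k hk hw
  have h2 := congrArg (fun f => f.hom (⟨x, hx⟩ : LinearMap.ker (K.d q k).hom)) h
  exact h2

lemma iCycles_injective (K : HomologicalComplex (ModuleCat.{u} A) c) (q : ι) :
    Function.Injective (K.iCycles q).hom :=
  (ModuleCat.mono_iff_injective _).1 inferInstance

lemma homologyπ_surjective (K : HomologicalComplex (ModuleCat.{u} A) c) (q : ι) :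
    Function.Surjective (K.homologyπ q).hom :=
  (ModuleCat.epi_iff_surjective _).1 inferInstance

lemma d_iCycles (K : HomologicalComplex (ModuleCat.{u} A) c) (q k : ι) (z : K.cycles q) :
    (K.d q k).hom ((K.iCycles q).hom z) = 0 := by
  have h := K.iCycles_d q k
  have h2 := congrArg (fun f => f.hom z) h
  exact h2

lemma toCycles_i_apply (K : HomologicalComplex (ModuleCat.{u} A) c) (i q : ι) (y : K.X i) :
    (K.iCycles q).hom ((K.toCycles i q).hom y) = (K.d i q).hom y := by
  have h := K.toCycles_i i q
  have h2 := congrArg (fun f => f.hom y) h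
  exact h2

lemma exists_of_homologyπ_eq_zero (K : HomologicalComplex (ModuleCat.{u} A) c) (i q : ι)
    (hi : c.prev q = i) (z : K.cycles q) (hz : (K.homologyπ q).hom z = 0) :
    ∃ y : K.X i, (K.toCycles i q).hom y = z := by
  let S : ShortComplex (ModuleCat.{u} A) :=
    ShortComplex.mk (K.toCycles i q) (K.homologyπ q) (K.toCycles_comp_homologyπ i q)
  have hS : S.Exact := S.exact_of_g_is_cokernel (K.homologyIsCokernel i q hi)
  exact (ShortComplex.moduleCat_exact_iff S).1 hS z hz

lemma homologyπ_toCycles (K : HomologicalComplex (ModuleCat.{u} A) c) (i q : ι) (y : K.X i) :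
    (K.homologyπ q).hom ((K.toCycles i q).hom y) = 0 := by
  have h := K.toCycles_comp_homologyπ i q
  have h2 := congrArg (fun f => f.hom y) h
  exact h2

lemma cyclesMap_i_apply {K L : HomologicalComplex (ModuleCat.{u} A) c} (φ : K ⟶ L) (q : ι)
    (z : K.cycles q) :
    (L.iCycles q).hom ((HomologicalComplex.cyclesMap φ q).hom z) =
      (φ.f q).hom ((K.iCycles q).hom z) := by
  have h := HomologicalComplex.cyclesMap_i φ q
  have h2 := congrArg (fun f => f.hom z) h
  exact h2

lemma homologyπ_naturality_apply {K L : HomologicalComplex (ModuleCat.{u} A) c} (φ : K ⟶ L)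
    (q : ι) (z : K.cycles q) :
    (HomologicalComplex.homologyMap φ q).hom ((K.homologyπ q).hom z) =
      (L.homologyπ q).hom ((HomologicalComplex.cyclesMap φ q).hom z) := by
  have h := HomologicalComplex.homologyπ_naturality φ q
  have h2 := congrArg (fun f => f.hom z) h
  exact h2

lemma comm_apply {K L : HomologicalComplex (ModuleCat.{u} A) c} (φ : K ⟶ L) (i j : ι)
    (x : K.X i) : (φ.f j).hom ((K.d i j).hom x) = (L.d i j).hom ((φ.f i).hom x) := by
  have h := φ.comm i j
  have h2 := congrArg (fun f => f.hom x) h
  exact h2.symm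

/-- homology commutes with "products": if `K → K' j` is termwise a product, so is it on
homology -/
theorem homology_bijective {J : Type u} (K : HomologicalComplex (ModuleCat.{u} A) c)
    (K' : J → HomologicalComplex (ModuleCat.{u} A) c) (pr : ∀ j, K ⟶ K' j)
    (hbij : ∀ i, Function.Bijective (fun (x : K.X i) (j : J) => ((pr j).f i).hom x)) (q : ι) :
    Function.Bijective
      (fun (x : K.homology q) (j : J) => (HomologicalComplex.homologyMap (pr j) q).hom x) := by
  have hinj : ∀ (i : ι) (x y : K.X i), (∀ j, ((pr j).f i).hom x = ((pr j).f i).hom y) → x = y :=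
    fun i x y h => (hbij i).1 (funext h)
  constructor
  · intro x x' hxx'
    -- reduce to x - x' = 0
    obtain ⟨z, rfl⟩ := homologyπ_surjective K q x
    obtain ⟨z', rfl⟩ := homologyπ_surjective K q x'
    have hd : ∀ j, ((K' j).homologyπ q).hom
        ((HomologicalComplex.cyclesMap (pr j) q).hom (z - z')) = 0 := by
      intro j
      have h := congrFun hxx' j
      simp only [homologyπ_naturality_apply] at h
      rw [map_sub, map_sub, h, sub_self]
    -- pick preimages
    have hy : ∀ j, ∃ y : (K' j).X (c.prev q), ((K' j).toCycles (c.prev q) q).hom y =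
        (HomologicalComplex.cyclesMap (pr j) q).hom (z - z') :=
      fun j => exists_of_homologyπ_eq_zero (K' j) (c.prev q) q rfl _ (hd j)
    choose yj hyj using hy
    obtain ⟨y, hy⟩ := (hbij (c.prev q)).2 yj
    have hy' : ∀ j, ((pr j).f (c.prev q)).hom y = yj j := fun j => congrFun hy j
    have hz : (K.toCycles (c.prev q) q).hom y = z - z' := by
      apply iCycles_injective K q
      rw [toCycles_i_apply]
      apply hinj q
      intro j
      rw [comm_apply, hy', ← toCycles_i_apply, hyj, cyclesMap_i_apply]
    have h0 : (K.homologyπ q).hom (z - z') = 0 := by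
      rw [← hz, homologyπ_toCycles]
    rw [map_sub, sub_eq_zero] at h0
    exact h0
  · intro x
    have hz : ∀ j, ∃ z : (K' j).cycles q, ((K' j).homologyπ q).hom z = x j :=
      fun j => homologyπ_surjective (K' j) q (x j)
    choose zj hzj using hz
    obtain ⟨w, hw⟩ := (hbij q).2 (fun j => ((K' j).iCycles q).hom (zj j))
    have hw' : ∀ j, ((pr j).f q).hom w = ((K' j).iCycles q).hom (zj j) := fun j => congrFun hw j
    have hdw : (K.d q (c.next q)).hom w = 0 := by
      apply hinj (c.next q)
      intro j
      rw [comm_apply, hw', d_iCycles, map_zero]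
    obtain ⟨z, hz⟩ := exists_cycle K q (c.next q) rfl w hdw
    refine ⟨(K.homologyπ q).hom z, ?_⟩
    funext j
    change (HomologicalComplex.homologyMap (pr j) q).hom ((K.homologyπ q).hom z) = x j
    rw [homologyπ_naturality_apply, ← hzj]
    congr 1
    apply iCycles_injective (K' j) q
    rw [cyclesMap_i_apply, hz, hw']

end HProd

section Pres

variable {A : Type u} [CommRing A]

/-- a fan of abelian groups which is bijective onto the product is a limit -/
noncomputable def isLimitFanOfBijective {J : Type u} (f : J → AddCommGrpCat.{u}) (P : AddCommGrpCat.{u})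
    (g : ∀ j, P ⟶ f j) (h : Function.Bijective (fun (x : P) (j : J) => (g j).hom x)) :
    IsLimit (Fan.mk P g) := by
  let e : P ≃+ (∀ j, f j) :=
    AddEquiv.ofBijective
      ({ toFun := fun x j => (g j).hom x
         map_zero' := by funext j; exact map_zero _
         map_add' := fun x y => by funext j; exact map_add _ x y } : P →+ (∀ j, f j)) h
  have he : ∀ x j, e x j = (g j).hom x := fun x j => rfl
  refine mkFanLimit _ (fun s => AddCommGrpCat.ofHom
      (e.symm.toAddMonoidHom.comp
        ({ toFun := fun t j => (s.proj j).hom t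
           map_zero' := by funext j; exact map_zero _
           map_add' := fun x y => by funext j; exact map_add _ x y } : s.pt →+ (∀ j, f j)))) ?_ ?_
  · intro s j
    ext t
    change (g j).hom (e.symm (fun j => (s.proj j).hom t)) = _
    rw [← he, AddEquiv.apply_symm_apply]
  · intro s m hm
    ext t
    apply e.injective
    change e (m.hom t) = e (e.symm (fun j => (s.proj j).hom t))
    rw [AddEquiv.apply_symm_apply]
    funext j
    rw [he]
    have := congrArg (fun k => k.hom t) (hm j)
    exact this

/-- a functor to abelian groups which turns concrete products of modules into products preserves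
products -/
theorem preservesProducts_of_bijective (G : ModuleCat.{u} A ⥤ AddCommGrpCat.{u}) (J : Type u)
    (h : ∀ M : J → ModuleCat.{u} A, Function.Bijective
      (fun (x : G.obj (ModuleCat.of A (∀ j, M j))) (j : J) =>
        (G.map (ModuleCat.ofHom (LinearMap.proj j : (∀ j, M j) →ₗ[A] M j))).hom x)) :
    PreservesLimitsOfShape (Discrete J) G := by
  haveI : ∀ f : J → ModuleCat.{u} A, PreservesLimit (Discrete.functor f) G := by
    intro f
    apply preservesLimit_of_preserves_limit_cone (ModuleCat.productConeIsLimit f)
    apply (isLimitMapConeFanMkEquiv _ _ _).symm _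
    exact isLimitFanOfBijective _ _ _ (h f)
  exact preservesLimitsOfShape_of_discrete G

open Groth.Agent.Lib.Helper21.TFunE in
/-- `T_q` commutes with products when `P` is termwise finite projective -/
theorem preservesProducts_TFun (P : ChainComplex (ModuleCat.{u} A) ℤ)
    (hP : ∀ i, Module.Finite A (P.X i) ∧ Module.Projective A (P.X i)) (q : ℤ) (J : Type u) :
    PreservesLimitsOfShape (Discrete J)
      (CohIII.TFun P q ⋙ forget₂ (ModuleCat.{u} A) AddCommGrpCat.{u}) := by
  apply preservesProducts_of_bijective
  intro M
  have hb := homology_bijective (CohIII.tensorObj P (ModuleCat.of A (∀ j, M j)))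
    (fun j => CohIII.tensorObj P (M j))
    (fun j => CohIII.tensorMap P (ModuleCat.ofHom (LinearMap.proj j : (∀ j, M j) →ₗ[A] M j)))
    (fun i => by
      haveI := (hP i).1
      haveI := (hP i).2
      have hpi := piRightHom_bijective (A := A) (fun j => (M j : Type u)) (P.X i)
      have heq : ∀ (x : (P.X i : Type u) ⊗[A] (∀ j, M j)) (j : J),
          (P.X i ◁ ModuleCat.ofHom (LinearMap.proj j : (∀ j, M j) →ₗ[A] M j)).hom x =
            TensorProduct.piRightHom A A (P.X i) (fun j => (M j : Type u)) x j := by
        intro x j
        induction x using TensorProduct.induction_on with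
        | zero => simp
        | tmul n m => rfl
        | add x y hx hy => rw [map_add, hx, hy, map_add]; rfl
      exact ⟨fun x y hxy => hpi.1 (funext fun j => by
          rw [← heq, ← heq]; exact congrFun hxy j),
        fun y => by
          obtain ⟨x, hx⟩ := hpi.2 y
          exact ⟨x, funext fun j => by rw [← hx]; exact heq x j⟩⟩) q
  exact hb

end Pres

end Groth.Agent.Lib.Helper21.TFunJ
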