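import Mathlib
import Groth.Prelude.Def_ega3
import Groth.Agent.Lib.Helper21TFunJ
import Groth.Agent.Lib.Helper21TFunI
import Groth.Agent.Lib.Helper21BC0Free
import Groth.Agent.Lib.Helper16TensorCmp
import Groth.Agent.Lib.Helper3FlatCx
import Groth.Agent.Lib.Helper13FlatMV

/-!
# General base change: the algebra of the comparison map `tM` of `M ↦ H_j(K ⊗ M)` (helper21)
-/

set_option autoImplicit false
set_option linter.style.haveILetI false
universe u
open CategoryTheory CategoryTheory.Limits TensorProduct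

namespace Groth.Agent.Lib.Helper21.GBCAlg

open Groth.Agent.Lib.Helper21.TFunJ Groth.Agent.Lib.Helper21.BC0Alg
  Groth.Agent.Lib.Helper16.TensorCmp Groth.Agent.Lib.Helper21.TFunI

section Cyc
variable {A : Type u} [CommRing A] {ι : Type} {c : ComplexShape ι}
  (K : HomologicalComplex (ModuleCat.{u} A) c) (i j k : ι)

/-- cycles as the kernel of the differential -/
noncomputable def cycEquiv (hk : c.next j = k) :
    K.cycles j ≃ₗ[A] LinearMap.ker (K.d j k).hom :=
  LinearEquiv.ofBijective
    (LinearMap.codRestrict (LinearMap.ker (K.d j k).hom) (K.iCycles j).hom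
      (fun z => d_iCycles K j k z))
    ⟨fun z z' hzz => iCycles_injective K j (congrArg Subtype.val hzz),
      fun t => by
        obtain ⟨z, hz⟩ := exists_cycle K j k hk t.1 t.2
        exact ⟨z, Subtype.ext hz⟩⟩

lemma cycEquiv_apply (hk : c.next j = k) (z : K.cycles j) :
    (cycEquiv K j k hk z : K.X j) = (K.iCycles j).hom z := rfl

lemma iCycles_cycEquiv_symm (hk : c.next j = k) (t : LinearMap.ker (K.d j k).hom) :
    (K.iCycles j).hom ((cycEquiv K j k hk).symm t) = t.1 := by
  have := cycEquiv_apply K j k hk ((cycEquiv K j k hk).symm t)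
  rw [LinearEquiv.apply_symm_apply] at this
  exact this.symm

/-- the class of an element of the kernel of the differential -/
noncomputable def cls (hk : c.next j = k) : LinearMap.ker (K.d j k).hom →ₗ[A] K.homology j :=
  (K.homologyπ j).hom ∘ₗ (cycEquiv K j k hk).symm.toLinearMap

lemma cls_surjective (hk : c.next j = k) : Function.Surjective (cls K j k hk) :=
  (homologyπ_surjective K j).comp (cycEquiv K j k hk).symm.surjective

lemma cls_eq_zero_iff (hi : c.prev j = i) (hk : c.next j = k) (t : LinearMap.ker (K.d j k).hom) :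
    cls K j k hk t = 0 ↔ ∃ w : K.X i, (K.d i j).hom w = t.1 := by
  constructor
  · intro h
    obtain ⟨y, hy⟩ := exists_of_homologyπ_eq_zero K i j hi _ h
    refine ⟨y, ?_⟩
    rw [← toCycles_i_apply, hy]
    exact iCycles_cycEquiv_symm K j k hk t
  · rintro ⟨w, hw⟩
    have e : (cycEquiv K j k hk).symm t = (K.toCycles i j).hom w := by
      apply iCycles_injective K j
      rw [iCycles_cycEquiv_symm, toCycles_i_apply, hw]
    change (K.homologyπ j).hom ((cycEquiv K j k hk).symm t) = 0
    rw [e]
    exact homologyπ_toCycles K i j w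

lemma cls_natural {K L : HomologicalComplex (ModuleCat.{u} A) c} (φ : K ⟶ L) (hk : c.next j = k)
    (t : LinearMap.ker (K.d j k).hom) (t' : LinearMap.ker (L.d j k).hom)
    (ht : (φ.f j).hom t.1 = t'.1) :
    (HomologicalComplex.homologyMap φ j).hom (cls K j k hk t) = cls L j k hk t' := by
  change (HomologicalComplex.homologyMap φ j).hom ((K.homologyπ j).hom _) = (L.homologyπ j).hom _
  rw [homologyπ_naturality_apply]
  congr 1
  apply iCycles_injective L j
  rw [cyclesMap_i_apply]
  refine (congrArg (φ.f j).hom (iCycles_cycEquiv_symm K j k hk t)).trans ?_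
  exact ht.trans (iCycles_cycEquiv_symm L j k hk t').symm

end Cyc

section Swap
variable {A : Type u} [CommRing A] (B : Type u) [CommRing B] [Algebra A B]
  {M₀ M₁ : Type u} [AddCommGroup M₀] [Module A M₀] [AddCommGroup M₁] [Module A M₁]

lemma comm_rTensor (d : M₀ →ₗ[A] M₁) (t : M₀ ⊗[A] B) :
    TensorProduct.comm A M₁ B (d.rTensor B t) = d.lTensor B (TensorProduct.comm A M₀ B t) := by
  induction t with
  | zero => simp
  | add t t' ht ht' => simp only [map_add, ht, ht']
  | tmul m b => rfl

/-- `KerSurj` with the algebra on the right -/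
theorem kerSurj_iff (d : M₀ →ₗ[A] M₁) :
    KerSurj B d ↔ ∀ t : M₀ ⊗[A] B, d.rTensor B t = 0 →
      ∃ s : LinearMap.ker d ⊗[A] B, (LinearMap.ker d).subtype.rTensor B s = t := by
  constructor
  · intro h t ht
    obtain ⟨s, hs⟩ := h (TensorProduct.comm A M₀ B t) (by
      rw [← comm_rTensor, ht, map_zero])
    refine ⟨(TensorProduct.comm A _ B).symm s, ?_⟩
    apply (TensorProduct.comm A M₀ B).injective
    rw [comm_rTensor, LinearEquiv.apply_symm_apply, hs]
  · intro h t ht
    obtain ⟨s, hs⟩ := h ((TensorProduct.comm A M₀ B).symm t) (by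
      apply (TensorProduct.comm A M₁ B).injective
      rw [comm_rTensor, LinearEquiv.apply_symm_apply, ht, map_zero])
    refine ⟨TensorProduct.comm A _ B s, ?_⟩
    rw [← comm_rTensor, hs, LinearEquiv.apply_symm_apply]

/-- injectivity in `KerBC` with the algebra on the right -/
theorem kerInj_iff (d : M₀ →ₗ[A] M₁) :
    Function.Injective ((LinearMap.ker d).subtype.lTensor B) ↔
      Function.Injective ((LinearMap.ker d).subtype.rTensor B) := by
  constructor
  · intro h s s' hss
    apply (TensorProduct.comm A _ B).injective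
    apply h
    rw [← comm_rTensor, ← comm_rTensor, hss]
  · intro h s s' hss
    apply (TensorProduct.comm A _ B).symm.injective
    apply h
    apply (TensorProduct.comm A M₀ B).injective
    rw [comm_rTensor, comm_rTensor, LinearEquiv.apply_symm_apply, LinearEquiv.apply_symm_apply, hss]

end Swap

section A3F
variable {A : Type u} [CommRing A] {ι : Type} {c : ComplexShape ι}
  (K : HomologicalComplex (ModuleCat.{u} A) c) (i j k : ι) (hi : c.prev j = i) (hk : c.next j = k)
  (B : Type u) [CommRing B] [Algebra A B]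

/-- `K ⊗_A B` -/
noncomputable abbrev KB : HomologicalComplex (ModuleCat.{u} A) c :=
  CohIII.tensorObj K (ModuleCat.of A B)

lemma KB_d (t : K.X j ⊗[A] B) :
    ((KB K B).d j k).hom t = (K.d j k).hom.rTensor B t := rfl

/-- `ker d ⊗ B → K_j ⊗ B` -/
noncomputable def νpre : LinearMap.ker (K.d j k).hom ⊗[A] B →ₗ[A] ↑((KB K B).X j) :=
  (LinearMap.ker (K.d j k).hom).subtype.rTensor B

lemma νpre_mem (s : LinearMap.ker (K.d j k).hom ⊗[A] B) :
    ((KB K B).d j k).hom (νpre K j k B s) = 0 := by
  have h0 : (K.d j k).hom ∘ₗ (LinearMap.ker (K.d j k).hom).subtype = 0 := by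
    ext m
    exact m.2
  have h1 := LinearMap.rTensor_comp_apply B (K.d j k).hom (LinearMap.ker (K.d j k).hom).subtype s
  rw [h0, LinearMap.rTensor_zero, LinearMap.zero_apply] at h1
  exact h1.symm

/-- `ker d ⊗ B → ker (d ⊗ B)` -/
noncomputable def ν : LinearMap.ker (K.d j k).hom ⊗[A] B →ₗ[A] LinearMap.ker ((KB K B).d j k).hom :=
  LinearMap.codRestrict _ (νpre K j k B) (fun s => νpre_mem K j k B s)

lemma ν_val (s : LinearMap.ker (K.d j k).hom ⊗[A] B) :
    (ν K j k B s : ↑((KB K B).X j)) = νpre K j k B s := rfl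

/-- the class in `T(A) = H_j(K ⊗ A)` of an element of the kernel -/
noncomputable def cA : LinearMap.ker (K.d j k).hom →ₗ[A] (CohIII.TFun K j).obj (ModuleCat.of A A) :=
  (Groth.Agent.Lib.Helper3.TUnitIso K j).inv.hom ∘ₗ cls K j k hk

lemma cA_surjective : Function.Surjective (cA K j k hk) := by
  have h1 : Function.Bijective (Groth.Agent.Lib.Helper3.TUnitIso K j).inv.hom :=
    (ConcreteCategory.isIso_iff_bijective (Groth.Agent.Lib.Helper3.TUnitIso K j).inv).1 inferInstance
  exact h1.2.comp (cls_surjective K j k hk)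

include hi in
lemma cA_boundary (n : K.X i) (hn : (K.d j k).hom ((K.d i j).hom n) = 0) :
    cA K j k hk ⟨(K.d i j).hom n, hn⟩ = 0 := by
  change (Groth.Agent.Lib.Helper3.TUnitIso K j).inv.hom (cls K j k hk _) = 0
  rw [(cls_eq_zero_iff K i j k hi hk _).2 ⟨n, rfl⟩, map_zero]

/-- **the comparison map on classes of pure tensors** -/
theorem tM_cA (m : LinearMap.ker (K.d j k).hom) (b : B) :
    tM (CohIII.TFun K j) (ModuleCat.of A B) (cA K j k hk m ⊗ₜ[A] b) =
      cls (KB K B) j k hk (ν K j k B (m ⊗ₜ[A] b)) := by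
  rw [tM_tmul]
  let KA := CohIII.tensorObj K (ModuleCat.of A A)
  have hm1 : ((KA.d j k).hom ((m : K.X j) ⊗ₜ[A] (1 : A)) = 0) := by
    change (K.d j k).hom.rTensor A ((m : K.X j) ⊗ₜ[A] (1 : A)) = 0
    rw [LinearMap.rTensor_tmul, m.2, TensorProduct.zero_tmul]
  have e1 : (Groth.Agent.Lib.Helper3.TUnitIso K j).inv.hom (cls K j k hk m) =
      cls KA j k hk ⟨(m : K.X j) ⊗ₜ[A] (1 : A), hm1⟩ :=
    cls_natural j k (Groth.Agent.Lib.Helper3.tensorObjUnitIso K).inv hk m _ rfl
  change ((CohIII.TFun K j).map (θ (M := ModuleCat.of A B) b)).hom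
    ((Groth.Agent.Lib.Helper3.TUnitIso K j).inv.hom (cls K j k hk m)) = _
  rw [e1]
  refine cls_natural j k (CohIII.tensorMap K (θ (M := ModuleCat.of A B) b)) hk _ _ ?_
  change (m : K.X j) ⊗ₜ[A] ((θ (M := ModuleCat.of A B) b).hom (1 : A)) = (m : K.X j) ⊗ₜ[A] b
  rw [θ_apply, one_smul]

theorem tM_comp_cA :
    (tM (CohIII.TFun K j) (ModuleCat.of A B)) ∘ₗ (cA K j k hk).rTensor B =
      cls (KB K B) j k hk ∘ₗ ν K j k B := by
  apply TensorProduct.ext'
  intro m b
  exact tM_cA K j k hk B m b

end A3F

section A3F2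
variable {A : Type u} [CommRing A] {ι : Type} {c : ComplexShape ι}
  (K : HomologicalComplex (ModuleCat.{u} A) c) (i j k : ι) (hi : c.prev j = i) (hk : c.next j = k)
  (B : Type u) [CommRing B] [Algebra A B]

/-- the differential `K_i → ker (K_j → K_k)` -/
noncomputable def δ : K.X i →ₗ[A] LinearMap.ker (K.d j k).hom :=
  LinearMap.codRestrict _ (K.d i j).hom (fun n => by
    rw [LinearMap.mem_ker]
    exact ConcreteCategory.congr_hom (K.d_comp_d i j k) n)

lemma νpre_δ (v : K.X i ⊗[A] B) :
    νpre K j k B ((δ K i j k).rTensor B v) = ((KB K B).d i j).hom v := by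
  have h1 := LinearMap.rTensor_comp_apply B (LinearMap.ker (K.d j k).hom).subtype (δ K i j k) v
  exact h1.symm

include hi in
lemma cA_comp_δ : cA K j k hk ∘ₗ δ K i j k = 0 := by
  ext n
  exact cA_boundary K i j k hi hk n _

include hi in
/-- a class vanishes iff the element is `νpre` of the image of `δ ⊗ B` -/
lemma exists_of_cls_eq_zero (t : LinearMap.ker ((KB K B).d j k).hom)
    (ht : cls (KB K B) j k hk t = 0) :
    ∃ v : K.X i ⊗[A] B, νpre K j k B ((δ K i j k).rTensor B v) = t.1 := by
  obtain ⟨v, hv⟩ := (cls_eq_zero_iff (KB K B) i j k hi hk t).1 ht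
  exact ⟨v, (νpre_δ K i j k B v).trans hv⟩

include hi hk in
/-- **`tM` is surjective iff the kernel of `d` generates the kernel of `d ⊗ B`** -/
theorem tM_surjective_iff :
    Function.Surjective (tM (CohIII.TFun K j) (ModuleCat.of A B)) ↔ KerSurj B (K.d j k).hom := by
  rw [kerSurj_iff]
  constructor
  · intro hs t ht
    let t' : LinearMap.ker ((KB K B).d j k).hom := ⟨t, ht⟩
    obtain ⟨w, hw⟩ := hs (cls (KB K B) j k hk t')
    obtain ⟨s, rfl⟩ := LinearMap.rTensor_surjective B (cA_surjective K j k hk) w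
    have h1 : cls (KB K B) j k hk (ν K j k B s) = cls (KB K B) j k hk t' := by
      rw [← hw]
      exact (LinearMap.congr_fun (tM_comp_cA K j k hk B) s).symm
    have h2 : cls (KB K B) j k hk (t' - ν K j k B s) = 0 := by
      rw [map_sub, h1, sub_self]
    obtain ⟨v, hv⟩ := exists_of_cls_eq_zero K i j k hi hk B _ h2
    refine ⟨s + (δ K i j k).rTensor B v, ?_⟩
    change νpre K j k B (s + (δ K i j k).rTensor B v) = t
    rw [map_add, hv]
    change νpre K j k B s + ((show ↑((KB K B).X j) from t) - νpre K j k B s) = t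
    abel
  · intro hK w
    obtain ⟨t', rfl⟩ := cls_surjective (KB K B) j k hk w
    obtain ⟨s, hs⟩ := hK t'.1 t'.2
    refine ⟨(cA K j k hk).rTensor B s, ?_⟩
    have e : ν K j k B s = t' := Subtype.ext hs
    rw [← e]
    exact LinearMap.congr_fun (tM_comp_cA K j k hk B) s

include hi hk in
/-- **`tM` is bijective if the kernel of `d` commutes with the base change to `B`** -/
theorem tM_bijective_of_kerBC (hB : KerBC B (K.d j k).hom) :
    Function.Bijective (tM (CohIII.TFun K j) (ModuleCat.of A B)) := by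
  refine ⟨?_, (tM_surjective_iff K i j k hi hk B).2 hB.2⟩
  have hinj : Function.Injective (νpre K j k B) := (kerInj_iff B (K.d j k).hom).1 hB.1
  rw [injective_iff_map_eq_zero]
  intro w hw
  obtain ⟨s, rfl⟩ := LinearMap.rTensor_surjective B (cA_surjective K j k hk) w
  have h1 : cls (KB K B) j k hk (ν K j k B s) = 0 :=
    (LinearMap.congr_fun (tM_comp_cA K j k hk B) s).symm.trans hw
  obtain ⟨v, hv⟩ := exists_of_cls_eq_zero K i j k hi hk B _ h1
  have h2 : (δ K i j k).rTensor B v = s := hinj hv
  rw [← h2, ← LinearMap.rTensor_comp_apply]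
  have h3 := cA_comp_δ K i j k hi hk
  rw [h3, LinearMap.rTensor_zero, LinearMap.zero_apply]

include hi hk in
/-- flat base change -/
theorem tM_bijective_of_flat [Module.Flat A B] :
    Function.Bijective (tM (CohIII.TFun K j) (ModuleCat.of A B)) :=
  tM_bijective_of_kerBC K i j k hi hk B (Groth.Agent.Lib.Helper21.BC0Free.kerBC_of_flat (A := B) (K.d j k).hom)

end A3F2

section Transfer
open Groth.Agent.Helper13FlatMV

variable {R R' : Type u} [CommRing R] [CommRing R'] [Algebra R R']
  {M M' M₂ M₂' : Type u} [AddCommGroup M] [Module R M] [AddCommGroup M'] [Module R' M']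
  [AddCommGroup M₂] [Module R M₂] [AddCommGroup M₂'] [Module R' M₂']

/-- bijectivity/surjectivity of `kap` only depends on the semilinear map up to isomorphism -/
theorem kap_iff_of_equiv (u : M →+ M') (hu : ∀ (r : R) (m : M), u (r • m) = algebraMap R R' r • u m)
    (u₂ : M₂ →+ M₂') (hu₂ : ∀ (r : R) (m : M₂), u₂ (r • m) = algebraMap R R' r • u₂ m)
    (e : M ≃ₗ[R] M₂) (e' : M' ≃ₗ[R'] M₂') (he : ∀ m, e' (u m) = u₂ (e m)) :
    (Function.Bijective (kap u hu) ↔ Function.Bijective (kap u₂ hu₂)) ∧
      (Function.Surjective (kap u hu) ↔ Function.Surjective (kap u₂ hu₂)) := by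
  have key : ∀ x, e' (kap u hu x) = kap u₂ hu₂ (e.toLinearMap.lTensor R' x) :=
    fun x => kap_nat u hu u₂ hu₂ e.toLinearMap e'.toLinearMap he x
  let σ : R' ⊗[R] M ≃ₗ[R] R' ⊗[R] M₂ := TensorProduct.congr (LinearEquiv.refl R R') e
  have hσ : ∀ x, σ x = e.toLinearMap.lTensor R' x := fun x => rfl
  have hc : (e' : M' → M₂') ∘ (kap u hu) = (kap u₂ hu₂) ∘ (σ : R' ⊗[R] M → R' ⊗[R] M₂) := by
    funext x
    exact (key x).trans (congrArg _ (hσ x).symm)
  constructor
  · constructor
    · intro hb
      have h1 : Function.Bijective ((kap u₂ hu₂) ∘ (σ : R' ⊗[R] M → R' ⊗[R] M₂)) := by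
        rw [← hc]
        exact e'.bijective.comp hb
      exact (Function.Bijective.of_comp_iff _ σ.bijective).1 h1
    · intro hb
      have h1 : Function.Bijective ((e' : M' → M₂') ∘ (kap u hu)) := by
        rw [hc]
        exact hb.comp σ.bijective
      exact (Function.Bijective.of_comp_iff' e'.bijective _).1 h1
  · constructor
    · intro hs
      have h1 : Function.Surjective ((kap u₂ hu₂) ∘ (σ : R' ⊗[R] M → R' ⊗[R] M₂)) := by
        rw [← hc]
        exact e'.surjective.comp hs
      exact Function.Surjective.of_comp h1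
    · intro hs
      have h1 : Function.Surjective ((e' : M' → M₂') ∘ (kap u hu)) := by
        rw [hc]
        exact hs.comp σ.surjective
      exact (Function.Surjective.of_comp_iff' e'.bijective _).1 h1

end Transfer

section TransferT
open Groth.Agent.Helper13FlatMV

variable {A : Type u} [CommRing A] (B : Type u) [CommRing B] [Algebra A B]
  (T : ModuleCat.{u} A ⥤ ModuleCat.{u} A) [T.Additive] [T.Linear A]
  {M M' : Type u} [AddCommGroup M] [Module A M] [AddCommGroup M'] [Module B M']

/-- the comparison map `tM` against a semilinear map which it describes -/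
theorem tM_iff_kap (u : M →+ M') (hu : ∀ (r : A) (m : M), u (r • m) = algebraMap A B r • u m)
    (Λ : ↑(T.obj (ModuleCat.of A B)) ≃+ M') (h' : M ≃ₗ[A] ↑(T.obj (ModuleCat.of A A)))
    (hΛ : ∀ (x : M) (b : B), Λ (tM T (ModuleCat.of A B) (h' x ⊗ₜ[A] b)) = b • u x) :
    (Function.Bijective (tM T (ModuleCat.of A B)) ↔ Function.Bijective (kap u hu)) ∧
      (Function.Surjective (tM T (ModuleCat.of A B)) ↔ Function.Surjective (kap u hu)) := by
  let σ : B ⊗[A] M ≃ₗ[A] ↑(T.obj (ModuleCat.of A A)) ⊗[A] B :=
    (TensorProduct.comm A B M).trans (TensorProduct.congr h' (LinearEquiv.refl A B))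
  have key : ∀ z, kap u hu z = Λ (tM T (ModuleCat.of A B) (σ z)) := by
    intro z
    induction z with
    | zero => simp
    | add z z' hz hz' => rw [map_add, hz, hz', map_add, map_add, map_add]
    | tmul b x =>
      rw [kap_tmul]
      exact (hΛ x b).symm
  have hc : (kap u hu : B ⊗[A] M → M') =
      (Λ : ↑(T.obj (ModuleCat.of A B)) → M') ∘ (tM T (ModuleCat.of A B)) ∘
        (σ : B ⊗[A] M → ↑(T.obj (ModuleCat.of A A)) ⊗[A] B) := funext key
  constructor
  · rw [hc]
    constructor
    · intro hb
      exact Λ.bijective.comp (hb.comp σ.bijective)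
    · intro hb
      have h1 := (Function.Bijective.of_comp_iff' Λ.bijective _).1 hb
      exact (Function.Bijective.of_comp_iff _ σ.bijective).1 h1
  · rw [hc]
    constructor
    · intro hs
      exact Λ.surjective.comp (hs.comp σ.surjective)
    · intro hs
      have h1 := (Function.Surjective.of_comp_iff' Λ.bijective _).1 hs
      exact Function.Surjective.of_comp h1

end TransferT

end Groth.Agent.Lib.Helper21.GBCAlg
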