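import Mathlib
import Groth.Prelude.Def_CohCmp
import Groth.Agent.Lib.Helper21GBC6
import Groth.Agent.Lib.Helper21FibA
import Groth.Agent.Lib.Helper21TFunI
import Groth.Agent.Lib.Helper21TFunC
import Groth.Agent.Lib.Helper16TensorCmp
import Groth.Agent.Lib.Helper3FlatCx
import Groth.Agent.Lib.Helper21GBCAlg

/-!
# General base change, part 8: the pullback on cohomology through Čech complexes (helper21)

For a cartesian square `X' = X ×_{Spec A} Spec B` and a quasi-coherent `F` on `X` with a finite affine cover `U`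
with affine intersections:
* `pushEdge_natural`: the edge map `H^p(Y, f_*G) → H^p(X, G)` is natural in `G`;
* `Ξ`: `C(U, F) ⊗_A B ≅ C(U, g'_* g'^* F)` as complexes of `A`-modules;
* `exists_equiv_tM`: `H^p(X', g'^*F) ≃ H^p(C(U,F) ⊗_A B)` such that `b • pullMod x` corresponds to `tM (x ⊗ b)`;
* `pullMod_smul`, `tM_iff_kap_pullMod`.
-/

set_option autoImplicit false
set_option linter.style.haveILetI false
universe u
open CategoryTheory CategoryTheory.Limits AlgebraicGeometry Opposite TopologicalSpace TensorProduct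
open AlgebraicGeometry.Scheme.Modules

namespace Groth.Agent.Lib.Helper21.GBC8

open Groth.Agent.Lib.Helper21.GBC2 Groth.Agent.Lib.Helper21.GBC3 Groth.Agent.Lib.Helper21.GBC5
  Groth.Agent.Lib.Helper21.GBC6
open Groth.Agent.Lib.Helper16.CechLow Groth.Agent.Lib.Helper21.CechMod
  Groth.Agent.Lib.Helper21.CechBC Groth.Agent.Helper13PullbackUnit Groth.Agent.Helper13QcqsBC
  Groth.Agent.Lib.Helper21.TFunB

section Edge
variable {X Y : Scheme.{u}} (g : X ⟶ Y)

/-- the edge map is natural in the module -/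
theorem pushEdge_natural {G G' : X.Modules} (φ : G ⟶ G') (p : ℕ)
    (y : Coh.HH Y ((pushforward g).obj G) p) :
    CohPull.pushEdge g G' p (CohPull.mapH ((pushforward g).map φ) p y) =
      CohPull.mapH φ p (CohPull.pushEdge g G p y) := by
  change CohPull.mapH ((pullbackPushforwardAdjunction g).counit.app G') p
      (CohPull.pullMod g _ p (CohPull.mapH ((pushforward g).map φ) p y)) =
    CohPull.mapH φ p (CohPull.mapH ((pullbackPushforwardAdjunction g).counit.app G) p
      (CohPull.pullMod g _ p y))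
  rw [pullMod_natural, mapH_comp, mapH_comp]
  congr 2
  exact (pullbackPushforwardAdjunction g).counit.naturality φ

end Edge

section Smul
variable (B : Type u) [CommRing B] {X' : Scheme.{u}} [X'.Over (Spec (CommRingCat.of B))]

/-- multiplication by `b` on cohomology is induced by the endomorphism `smulMod` -/
lemma mapH_smulMod (N : X'.Modules) (b : B) (p : ℕ) (y : Coh.HH X' N p) :
    CohPull.mapH (Formal.smulMod B N b) p y = b • y := rfl

end Smul


section N2F
variable (A B : Type u) [CommRing A] [CommRing B] [Algebra A B] {X X' : Scheme.{u}}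
  [X.Over (Spec (CommRingCat.of A))] [X'.Over (Spec (CommRingCat.of B))] (g' : X' ⟶ X)
  (h : IsPullback g' (X' ↘ Spec (CommRingCat.of B)) (X ↘ Spec (CommRingCat.of A))
    (Spec.map (CommRingCat.ofHom (algebraMap A B))))
  (F : X.Modules)

/-- the direct image of the pulled back module -/
noncomputable abbrev Pm : X.Modules := (pushforward g').obj (Fp g' F)

include h in
lemma ringA_pre (W : X.Opens) (a : A) :
    ringA B (g' ⁻¹ᵁ W) (algebraMap A B a) = (g'.app W).hom (ringA A W a) := by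
  have e1 : (g'.app W).hom (ringA A W a) =
      (X'.presheaf.map (homOfLE (le_top : g' ⁻¹ᵁ W ≤ ⊤)).op).hom
        ((g'.appTop).hom (Coh.toGlobal (X ↘ Spec (CommRingCat.of A)) a)) := by
    have := ConcreteCategory.congr_hom (g'.naturality (homOfLE (le_top : W ≤ ⊤)).op)
      (Coh.toGlobal (X ↘ Spec (CommRingCat.of A)) a)
    exact this
  rw [e1]
  change (X'.presheaf.map (homOfLE (le_top : g' ⁻¹ᵁ W ≤ ⊤)).op).hom
      (Coh.toGlobal (X' ↘ Spec (CommRingCat.of B)) (algebraMap A B a)) = _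
  congr 1
  have h1 := ConcreteCategory.congr_hom
    (Scheme.ΓSpecIso_inv_naturality (CommRingCat.ofHom (algebraMap A B))) a
  have h2 : (g' ≫ (X ↘ Spec (CommRingCat.of A))).appTop =
      ((X' ↘ Spec (CommRingCat.of B)) ≫ Spec.map (CommRingCat.ofHom (algebraMap A B))).appTop := by
    rw [h.w]
  have h3 := ConcreteCategory.congr_hom h2 ((Scheme.ΓSpecIso (CommRingCat.of A)).inv.hom a)
  rw [Scheme.Hom.comp_appTop, Scheme.Hom.comp_appTop] at h3
  change (X' ↘ Spec (CommRingCat.of B)).appTop.hom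
    ((Scheme.ΓSpecIso (CommRingCat.of B)).inv.hom (algebraMap A B a)) =
    g'.appTop.hom ((X ↘ Spec (CommRingCat.of A)).appTop.hom
      ((Scheme.ΓSpecIso (CommRingCat.of A)).inv.hom a))
  refine Eq.trans ?_ h3.symm
  change _ = (X' ↘ Spec (CommRingCat.of B)).appTop.hom
    ((Spec.map (CommRingCat.ofHom (algebraMap A B))).appTop.hom
      ((Scheme.ΓSpecIso (CommRingCat.of A)).inv.hom a))
  congr 1

variable {W : X.Opens}

lemma kapA_smul (b : B) (t : B ⊗[A] SecA A F W) :
    kapA A B g' h F (le_refl (g' ⁻¹ᵁ W)) le_rfl (b • t) =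
      b • kapA A B g' h F (le_refl (g' ⁻¹ᵁ W)) le_rfl t := by
  induction t with
  | zero => rw [smul_zero, map_zero, smul_zero]
  | add t t' ht ht' => rw [smul_add, map_add, ht, ht', map_add, smul_add]
  | tmul b' c =>
    rw [TensorProduct.smul_tmul', kapA_tmul, kapA_tmul, smul_smul]
    rfl

variable {ι : Type u} (U : ι → X.Opens) [Finite ι]

/-- the comparison `C(U, F) ⊗_A B → C(U, g'_* g'^* F)` on cochains, additive version -/
noncomputable def xi0 (n : ℕ) : (CX A F U n) ⊗[A] B →+ CX A (Pm g' F) U n where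
  toFun t x := (show SecA A (Pm g' F) (Ux U x) from
    kapA A B g' h F (le_refl (g' ⁻¹ᵁ (Ux U x))) le_rfl
      (pR A B F U n (TensorProduct.comm A _ _ t) x))
  map_zero' := by
    funext x
    rw [map_zero, map_zero]
    exact map_zero _
  map_add' t t' := by
    funext x
    rw [map_add, map_add]
    exact map_add _ _ _

lemma xi0_tmul (n : ℕ) (c : CX A F U n) (b : B) (x : Fin (n + 1) → ι) :
    xi0 A B g' h F U n (c ⊗ₜ[A] b) x =
      (show SecA A (Pm g' F) (Ux U x) from
        (b • (show SecA B (Fp g' F) (g' ⁻¹ᵁ (Ux U x)) from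
          unitSec g' F (le_refl (g' ⁻¹ᵁ (Ux U x))) (show Γ(F, Ux U x) from c x)))) := by
  change (show SecA A (Pm g' F) (Ux U x) from
    kapA A B g' h F (le_refl (g' ⁻¹ᵁ (Ux U x))) le_rfl
      (pR A B F U n (TensorProduct.comm A _ _ (c ⊗ₜ[A] b)) x)) = _
  rw [TensorProduct.comm_tmul, pR_tmul, kapA_tmul]

include h in
lemma smul_Pm (a : A) (s : SecA A (Pm g' F) W) :
    a • s = (show SecA A (Pm g' F) W from
      (algebraMap A B a • (show SecA B (Fp g' F) (g' ⁻¹ᵁ W) from s))) := by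
  change ((ringA A W a : Γ(X, W)) • (show Γ(Pm g' F, W) from s) : Γ(Pm g' F, W)) =
    ((ringA B (g' ⁻¹ᵁ W) (algebraMap A B a) : Γ(X', g' ⁻¹ᵁ W)) •
      (show Γ(Fp g' F, g' ⁻¹ᵁ W) from s) : Γ(Fp g' F, g' ⁻¹ᵁ W))
  rw [ringA_pre A B g' h W a]
  rfl

include h in
lemma xi0_smul (n : ℕ) (a : A) (t : (CX A F U n) ⊗[A] B) :
    xi0 A B g' h F U n (a • t) = a • xi0 A B g' h F U n t := by
  induction t with
  | zero => rw [smul_zero, map_zero, smul_zero]
  | add t t' ht ht' => rw [smul_add, map_add, ht, ht', map_add, smul_add]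
  | tmul c b =>
    funext x
    rw [TensorProduct.smul_tmul', TensorProduct.smul_tmul, xi0_tmul]
    change _ = a • (xi0 A B g' h F U n (c ⊗ₜ[A] b) x)
    rw [xi0_tmul, smul_Pm A B g' h F a, Algebra.smul_def, mul_smul]

/-- the comparison `C(U, F) ⊗_A B → C(U, g'_* g'^* F)` on cochains -/
noncomputable def xi (n : ℕ) : (CX A F U n) ⊗[A] B →ₗ[A] CX A (Pm g' F) U n :=
  { xi0 A B g' h F U n with
    map_smul' := fun a t => xi0_smul A B g' h F U n a t }

lemma xi_tmul (n : ℕ) (c : CX A F U n) (b : B) (x : Fin (n + 1) → ι) :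
    xi A B g' h F U n (c ⊗ₜ[A] b) x =
      (show SecA A (Pm g' F) (Ux U x) from
        (b • (show SecA B (Fp g' F) (g' ⁻¹ᵁ (Ux U x)) from
          unitSec g' F (le_refl (g' ⁻¹ᵁ (Ux U x))) (show Γ(F, Ux U x) from c x)))) :=
  xi0_tmul A B g' h F U n c b x

include h in
theorem xi_bijective [F.IsQuasicoherent]
    (hU : ∀ (n : ℕ) (x : Fin (n + 1) → ι), IsAffineOpen (Ux U x)) (n : ℕ) :
    Function.Bijective (xi A B g' h F U n) := by
  constructor
  · intro t t' htt
    apply (TensorProduct.comm A _ _).injective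
    apply (pR A B F U n).injective
    funext x
    exact (kapA_bijective A B g' h F (le_refl (g' ⁻¹ᵁ (Ux U x))) le_rfl (hU n x)).1
      (congrFun htt x)
  · intro c
    choose s hs using fun x =>
      (kapA_bijective A B g' h F (le_refl (g' ⁻¹ᵁ (Ux U x))) le_rfl (hU n x)).2 (c x)
    refine ⟨(TensorProduct.comm A _ _).symm ((pR A B F U n).symm s), ?_⟩
    funext x
    change kapA A B g' h F (le_refl (g' ⁻¹ᵁ (Ux U x))) le_rfl
      (pR A B F U n (TensorProduct.comm A _ _ ((TensorProduct.comm A _ _).symm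
        ((pR A B F U n).symm s))) x) = c x
    rw [LinearEquiv.apply_symm_apply, AddEquiv.apply_symm_apply]
    exact hs x

omit [Finite ι] in
lemma unitSec_face' {n : ℕ} (x : Fin (n + 2) → ι) (i : Fin (n + 2))
    (m : Γ(F, Ux U (x ∘ Fin.succAbove i))) :
    unitSec g' F (le_refl (g' ⁻¹ᵁ (Ux U x))) (F.presheaf.map (face U x i).op m) =
      (Pm g' F).presheaf.map (face U x i).op
        (unitSec g' F (le_refl (g' ⁻¹ᵁ (Ux U (x ∘ Fin.succAbove i)))) m) := by
  have e1 : face U x i = homOfLE (face U x i).le := Subsingleton.elim _ _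
  rw [e1]
  exact (unitSec_res g' F (le_refl (g' ⁻¹ᵁ (Ux U (x ∘ Fin.succAbove i))))
    (le_refl (g' ⁻¹ᵁ (Ux U x))) (face U x i).le (g'.preimage_mono (face U x i).le) m).symm

lemma xi_d (n : ℕ) (t : (CX A F U n) ⊗[A] B) :
    xi A B g' h F U (n + 1) ((dA A F U n).rTensor B t) =
      dA A (Pm g' F) U n (xi A B g' h F U n t) := by
  induction t with
  | zero => rw [map_zero, map_zero, map_zero, map_zero]
  | add t t' ht ht' => rw [map_add, map_add, ht, ht', map_add, map_add]
  | tmul c b =>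
    funext x
    rw [LinearMap.rTensor_tmul, xi_tmul, dA_apply, dA_apply]
    have h1 : unitSec g' F (le_refl (g' ⁻¹ᵁ (Ux U x))) (show Γ(F, Ux U x) from
        ∑ i : Fin (n + 2), (-1 : ℤ) ^ (i : ℕ) • resA A F (face U x i) (c (x ∘ Fin.succAbove i))) =
        ∑ i : Fin (n + 2), (-1 : ℤ) ^ (i : ℕ) •
          (Pm g' F).presheaf.map (face U x i).op
            (unitSec g' F (le_refl (g' ⁻¹ᵁ (Ux U (x ∘ Fin.succAbove i))))
              (show Γ(F, Ux U (x ∘ Fin.succAbove i)) from c (x ∘ Fin.succAbove i))) := by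
      refine (map_sum (unitSec g' F (le_refl (g' ⁻¹ᵁ (Ux U x)))) (fun i : Fin (n + 2) =>
        ((-1 : ℤ) ^ (i : ℕ) • (show Γ(F, Ux U x) from
          resA A F (face U x i) (c (x ∘ Fin.succAbove i))))) Finset.univ).trans ?_
      refine Finset.sum_congr rfl (fun i _ => ?_)
      refine (map_zsmul (unitSec g' F (le_refl (g' ⁻¹ᵁ (Ux U x)))) ((-1 : ℤ) ^ (i : ℕ)) _).trans ?_
      congr 1
      exact unitSec_face' g' F U x i _
    refine (congrArg (fun z => (show SecA A (Pm g' F) (Ux U x) from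
      (b • (show SecA B (Fp g' F) (g' ⁻¹ᵁ (Ux U x)) from z)))) h1).trans ?_
    change (show SecA A (Pm g' F) (Ux U x) from b • (∑ i : Fin (n + 2), (-1 : ℤ) ^ (i : ℕ) •
      (show SecA B (Fp g' F) (g' ⁻¹ᵁ (Ux U x)) from
        (Pm g' F).presheaf.map (face U x i).op
          (unitSec g' F (le_refl (g' ⁻¹ᵁ (Ux U (x ∘ Fin.succAbove i))))
            (show Γ(F, Ux U (x ∘ Fin.succAbove i)) from c (x ∘ Fin.succAbove i)))))) = _
    rw [Finset.smul_sum]
    refine Finset.sum_congr rfl (fun i _ => ?_)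
    rw [smul_comm, xi_tmul]
    congr 1
    exact ((resA B (Fp g' F) ((Opens.map g'.base).map (face U x i))).map_smul b _).symm

/-- the isomorphism of complexes `C(U, F) ⊗_A B ≅ C(U, g'_* g'^* F)` -/
noncomputable def Ξ [F.IsQuasicoherent]
    (hU : ∀ (n : ℕ) (x : Fin (n + 1) → ι), IsAffineOpen (Ux U x)) :
    CohIII.tensorObj (CA A F U) (ModuleCat.of A B) ≅ CA A (Pm g' F) U :=
  HomologicalComplex.Hom.isoOfComponents
    (fun n => (LinearEquiv.ofBijective (xi A B g' h F U n)
      (xi_bijective A B g' h F U hU n)).toModuleIso)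
    (by
      intro i j hij
      have : j = i + 1 := hij.symm
      subst this
      ext z
      change ((CA A (Pm g' F) U).d i (i + 1)).hom (xi A B g' h F U i z) =
        xi A B g' h F U (i + 1)
          ((MonoidalCategory.whiskerRight ((CA A F U).d i (i + 1)) (ModuleCat.of A B)).hom z)
      rw [CA_d, CA_d]
      exact (xi_d A B g' h F U i z).symm)

lemma Ξ_hom_f [F.IsQuasicoherent]
    (hU : ∀ (n : ℕ) (x : Fin (n + 1) → ι), IsAffineOpen (Ux U x)) (n : ℕ)
    (z : (CX A F U n) ⊗[A] B) :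
    ((Ξ A B g' h F U hU).hom.f n).hom z = xi A B g' h F U n z := rfl

omit [Finite ι] in
lemma unitSec_refl (m : Γ(F, W)) :
    unitSec g' F (le_refl (g' ⁻¹ᵁ W)) m =
      ((pullbackPushforwardAdjunction g').unit.app F).app W m := by
  rw [unitSec_apply]
  have e : (homOfLE (le_refl (g' ⁻¹ᵁ W))).op = 𝟙 _ := Subsingleton.elim _ _
  rw [e, CategoryTheory.Functor.map_id]
  rfl

include h in
omit [Finite ι] in
lemma unitSec_smulA (a : A) (m : SecA A F W) :
    (show SecA B (Fp g' F) (g' ⁻¹ᵁ W) from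
      unitSec g' F (le_refl (g' ⁻¹ᵁ W)) (show Γ(F, W) from a • m)) =
    algebraMap A B a • (show SecA B (Fp g' F) (g' ⁻¹ᵁ W) from
      unitSec g' F (le_refl (g' ⁻¹ᵁ W)) (show Γ(F, W) from m)) := by
  have e := unitSec_smul g' F (le_refl (g' ⁻¹ᵁ W)) (ringA A W a) (show Γ(F, W) from m)
  refine e.trans ?_
  change ((g'.appLE W (g' ⁻¹ᵁ W) le_rfl).hom (ringA A W a) : Γ(X', g' ⁻¹ᵁ W)) • _ =
    ((ringA B (g' ⁻¹ᵁ W) (algebraMap A B a) : Γ(X', g' ⁻¹ᵁ W)) • _ : Γ(Fp g' F, g' ⁻¹ᵁ W))
  rw [ringA_pre A B g' h W a]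
  congr 2
  exact congrArg CommRingCat.Hom.hom (Scheme.Hom.appLE_eq_app _)

/-- the morphism `F ⟶ g'_* g'^* F`, unit followed by multiplication by `b` -/
noncomputable abbrev unB (b : B) : F ⟶ Pm g' F :=
  (pullbackPushforwardAdjunction g').unit.app F ≫
    (pushforward g').map (Formal.smulMod B (Fp g' F) b)

omit [Finite ι] [Algebra A B] in
lemma unB_app (b : B) (m : Γ(F, W)) :
    (show SecA A (Pm g' F) W from ((unB B g' F b).app W).hom m) =
      (show SecA A (Pm g' F) W from
        (b • (show SecA B (Fp g' F) (g' ⁻¹ᵁ W) from unitSec g' F (le_refl (g' ⁻¹ᵁ W)) m))) := by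
  rw [unitSec_refl]
  rfl

/-- **the chain identity** -/
theorem chain [F.IsQuasicoherent]
    (hU : ∀ (n : ℕ) (x : Fin (n + 1) → ι), IsAffineOpen (Ux U x)) (b : B) :
    CohIII.tensorMap (CA A F U) (Groth.Agent.Lib.Helper16.TensorCmp.θ (M := ModuleCat.of A B) b) ≫
        (Ξ A B g' h F U hU).hom =
      (Groth.Agent.Lib.Helper3.tensorObjUnitIso (CA A F U)).hom ≫ CAmap A U (unB B g' F b) := by
  apply HomologicalComplex.hom_ext
  intro n
  apply ModuleCat.hom_ext
  apply TensorProduct.ext'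
  intro c a
  funext x
  change xi A B g' h F U n (c ⊗ₜ[A] (a • b)) x =
    ((unB B g' F b).app (Ux U x)).hom ((a • c) x)
  rw [xi_tmul]
  refine Eq.trans ?_ (unB_app A B g' F b _).symm
  change _ = (show SecA A (Pm g' F) (Ux U x) from
    (b • (show SecA B (Fp g' F) (g' ⁻¹ᵁ (Ux U x)) from
      unitSec g' F (le_refl (g' ⁻¹ᵁ (Ux U x))) (show Γ(F, Ux U x) from a • c x))))
  rw [unitSec_smulA A B g' h F a (c x), smul_smul, Algebra.smul_def, mul_comm]

section Main
variable (hcov : ⨆ i, U i = ⊤)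
  (hU : ∀ s : Finset ι, s.Nonempty → IsAffineOpen (⨅ i ∈ s, U i))

omit [Finite ι] in
/-- the Čech comparison isomorphism is `A`-linear -/
lemma hIsoApp_smul (G : X.Modules) [Coh.IsQCoh G] (p : ℕ) (a : A) (x : Coh.HH X G p) :
    hIsoApp A U hcov hU G p (a • x) = a • hIsoApp A U hcov hU G p x := by
  have h1 := hIsoApp_natural A U hcov hU (Formal.smulMod A G a) p x
  have h2 : CAmap A U (Formal.smulMod A G a) = a • 𝟙 _ :=
    Groth.Agent.Lib.Helper21.TFunC.CAF_map_smulMod A U G a
  rw [h2, smul_homology] at h1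
  exact h1

/-- the Čech comparison isomorphism, as an `A`-linear equivalence -/
noncomputable def hLin (G : X.Modules) [Coh.IsQCoh G] (p : ℕ) :
    Coh.HH X G p ≃ₗ[A] ↑((CA A G U).homology p) :=
  { hIsoApp A U hcov hU G p with
    map_smul' := fun a x => hIsoApp_smul A U hcov hU G p a x }

include h in
lemma isAffineHom_g' : IsAffineHom g' :=
  MorphismProperty.of_isPullback h.flip (inferInstance : IsAffineHom
    (Spec.map (CommRingCat.ofHom (algebraMap A B))))

end Main

section Main2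
variable (hcov : ⨆ i, U i = ⊤)
  (hU : ∀ s : Finset ι, s.Nonempty → IsAffineOpen (⨅ i ∈ s, U i))

open Groth.Agent.Lib.Helper16.TensorCmp Groth.Agent.Lib.Helper21.TFunI in
include h hcov hU in
/-- **Čech description of the pullback on cohomology** for a base change `Spec B → Spec A`:
`H^p(X', g'^*F)` is `H^p(C(U,F) ⊗_A B)` in such a way that `b • pullMod x` corresponds to the image of
`x ⊗ b` under the comparison map `tM`. -/
theorem exists_equiv_tM [Coh.IsQCoh F] (p : ℕ) :
    ∃ (Λ : ↑((CohIII.TFun (CA A F U) p).obj (ModuleCat.of A B)) ≃+ Coh.HH X' (Fp g' F) p)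
      (h' : Coh.HH X F p ≃ₗ[A] ↑((CohIII.TFun (CA A F U) p).obj (ModuleCat.of A A))),
      ∀ (x : Coh.HH X F p) (b : B),
        Λ (tM (CohIII.TFun (CA A F U) p) (ModuleCat.of A B) (h' x ⊗ₜ[A] b)) =
          b • CohPull.pullMod g' F p x := by
  haveI : F.IsQuasicoherent := ‹Coh.IsQCoh F›
  haveI : IsAffineHom g' := isAffineHom_g' A B g' h
  haveI : Coh.IsQCoh (Fp g' F) :=
    Groth.Agent.Lib.Helper2.PullbackSec.isQuasicoherent_pullback g' F
  haveI : Coh.IsQCoh (Pm g' F) :=
    Groth.Agent.Lib.Helper23.QCohLocal.isQuasicoherent_pushforward g' (Fp g' F)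
  have hUx := isAffineOpen_Ux U hU
  let T := CohIII.TFun (CA A F U) p
  let tu := Groth.Agent.Lib.Helper3.TUnitIso (CA A F U) p
  let HΞ : ↑(T.obj (ModuleCat.of A B)) ≃+ ↑((CA A (Pm g' F) U).homology p) :=
    ((HomologicalComplex.homologyFunctor _ _ p).mapIso
      (Ξ A B g' h F U hUx)).toLinearEquiv.toAddEquiv
  let pe : Coh.HH X (Pm g' F) p ≃+ Coh.HH X' (Fp g' F) p :=
    AddEquiv.ofBijective (CohPull.pushEdge g' (Fp g' F) p) (pushEdge_bijective g' (Fp g' F) p)
  refine ⟨HΞ.trans ((hIsoApp A U hcov hU (Pm g' F) p).symm.trans pe),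
    (hLin A U hcov hU F p).trans tu.symm.toLinearEquiv, fun x b => ?_⟩
  rw [tM_tmul]
  -- the element of `H^p(C(U, P))`
  have key : HΞ ((T.map (θ (M := ModuleCat.of A B) b)).hom
      (((hLin A U hcov hU F p).trans tu.symm.toLinearEquiv) x)) =
      hIsoApp A U hcov hU (Pm g' F) p (CohPull.mapH (unB B g' F b) p x) := by
    rw [hIsoApp_natural A U hcov hU (unB B g' F b) p x]
    change (HomologicalComplex.homologyMap (Ξ A B g' h F U hUx).hom p).hom
      ((HomologicalComplex.homologyMap (CohIII.tensorMap (CA A F U)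
        (θ (M := ModuleCat.of A B) b)) p).hom (tu.inv.hom (hIsoApp A U hcov hU F p x))) = _
    rw [← ModuleCat.comp_apply, ← HomologicalComplex.homologyMap_comp, chain A B g' h F U hUx b,
      HomologicalComplex.homologyMap_comp, ModuleCat.comp_apply]
    congr 1
    exact ConcreteCategory.congr_hom tu.inv_hom_id (hIsoApp A U hcov hU F p x)
  refine (congrArg (fun z => pe ((hIsoApp A U hcov hU (Pm g' F) p).symm z)) key).trans ?_
  rw [AddEquiv.symm_apply_apply]
  change CohPull.pushEdge g' (Fp g' F) p (CohPull.mapH (unB B g' F b) p x) = _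
  rw [← mapH_comp, pushEdge_natural, ← pullMod_eq_pushEdge]
  rfl

end Main2

section Main3
variable (hcov : ⨆ i, U i = ⊤)
  (hU : ∀ s : Finset ι, s.Nonempty → IsAffineOpen (⨅ i ∈ s, U i))

open Groth.Agent.Lib.Helper16.TensorCmp Groth.Agent.Lib.Helper21.TFunI Groth.Agent.Helper13FlatMV

include h hcov hU in
/-- the pullback on cohomology is semilinear -/
theorem pullMod_smul [Coh.IsQCoh F] (p : ℕ) (a : A) (x : Coh.HH X F p) :
    CohPull.pullMod g' F p (a • x) = algebraMap A B a • CohPull.pullMod g' F p x := by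
  obtain ⟨Λ, h', hΛ⟩ := exists_equiv_tM A B g' h F U hcov hU p
  have h1 := hΛ (a • x) 1
  have h2 := hΛ x (algebraMap A B a)
  rw [one_smul] at h1
  rw [← h1, ← h2, LinearEquiv.map_smul, TensorProduct.smul_tmul, Algebra.smul_def, mul_one]

include h hcov hU in
/-- **the base change map in cohomology against the Čech complex**: the map
`B ⊗_A H^p(X, F) → H^p(X', g'^*F)` is bijective (surjective) iff `tM` is, for the functor
`M ↦ H^p(C(U, F) ⊗_A M)`. -/
theorem tM_iff_kap_pullMod [Coh.IsQCoh F] (p : ℕ)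
    (hs : ∀ (a : A) (x : Coh.HH X F p),
      CohPull.pullMod g' F p (a • x) = algebraMap A B a • CohPull.pullMod g' F p x) :
    (Function.Bijective (tM (CohIII.TFun (CA A F U) p) (ModuleCat.of A B)) ↔
        Function.Bijective (kap (CohPull.pullMod g' F p) hs)) ∧
      (Function.Surjective (tM (CohIII.TFun (CA A F U) p) (ModuleCat.of A B)) ↔
        Function.Surjective (kap (CohPull.pullMod g' F p) hs)) := by
  obtain ⟨Λ, h', hΛ⟩ := exists_equiv_tM A B g' h F U hcov hU p
  exact Groth.Agent.Lib.Helper21.GBCAlg.tM_iff_kap B (CohIII.TFun (CA A F U) p)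
    (CohPull.pullMod g' F p) hs Λ h' hΛ

end Main3

end N2F

end Groth.Agent.Lib.Helper21.GBC8
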