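import Mathlib
import Groth.Prelude.Def_CohCmp
import Groth.Agent.Lib.Helper21GBC8
import Groth.Agent.Lib.Helper21BC0MainA

/-!
# General base change, part 9: the pullback on cohomology over affine opens of the bases (helper21)
-/

set_option autoImplicit false
set_option linter.style.haveILetI false
universe u
open CategoryTheory CategoryTheory.Limits AlgebraicGeometry Opposite TopologicalSpace TensorProduct
open AlgebraicGeometry.Scheme.Modules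

namespace Groth.Agent.Lib.Helper21.GBC9

open Groth.Agent.Lib.Helper21.GBC2 Groth.Agent.Lib.Helper21.GBC3 Groth.Agent.Lib.Helper21.GBC5
  Groth.Agent.Lib.Helper21.GBC6 Groth.Agent.Lib.Helper21.GBC8
open Groth.Agent.Lib.Helper17.StalkBC Groth.Agent.Lib.Helper21.CechMod
  Groth.Agent.Lib.Helper21.CechBC Groth.Agent.Lib.Helper21.NNBC Groth.Agent.Lib.Helper21.BC0Main

section Sq
variable {X S X' S' : Scheme.{u}} (f : X ⟶ S) (g : S' ⟶ S) (g' : X' ⟶ X) (f' : X' ⟶ S')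
  (h : IsPullback g' f' f g)
  {V : S.Opens} {V' : S'.Opens} (hV : IsAffineOpen V) (hV' : IsAffineOpen V') (hle : V' ≤ g ⁻¹ᵁ V)

include h in
/-- the restriction of a cartesian square to affine opens of the bases is cartesian over the
spectra of the rings of functions -/
theorem isPullback_resLE_hRes (hWW : f' ⁻¹ᵁ V' ≤ g' ⁻¹ᵁ (f ⁻¹ᵁ V)) :
    IsPullback (g'.resLE (f ⁻¹ᵁ V) (f' ⁻¹ᵁ V') hWW) (hRes f' hV') (hRes f hV)
      (Spec.map (g.appLE V V' hle)) := by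
  have e : hV'.fromSpec ≫ g = Spec.map (g.appLE V V' hle) ≫ hV.fromSpec :=
    (IsAffineOpen.SpecMap_appLE_fromSpec g hV hV' hle).symm
  have hsq : IsPullback ((f' ⁻¹ᵁ V').ι ≫ g') (hRes f' hV') f
      (Spec.map (g.appLE V V' hle) ≫ hV.fromSpec) := by
    rw [← e]
    exact (isPullback_hRes f' hV').paste_horiz h
  obtain ⟨g₂, h1, h2⟩ := exists_lift_hRes Γ(S', V') (g.appLE V V' hle) (hRes f' hV')
    ((f' ⁻¹ᵁ V').ι ≫ g') hsq
  have h3 : g₂ = g'.resLE (f ⁻¹ᵁ V) (f' ⁻¹ᵁ V') hWW := by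
    rw [← cancel_mono (f ⁻¹ᵁ V).ι, h1, Scheme.Hom.resLE_comp_ι]
  rw [← h3]
  exact h2

/-- the structure map `Γ(S, V) → Γ(f⁻¹V, O)` of `f⁻¹V` over `Spec Γ(S, V)` -/
theorem toGlobal_hRes (a : Γ(S, V)) :
    Coh.toGlobal (hRes f hV) a = pullFun f V a := by
  letI := overRes f hV
  have h1 := ringA_compat f hV (⊤ : (f ⁻¹ᵁ V : Scheme.{u}).Opens) a
  have h2 : ringA Γ(S, V) (⊤ : (f ⁻¹ᵁ V : Scheme.{u}).Opens) a = Coh.toGlobal (hRes f hV) a := by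
    unfold ringA
    have : (homOfLE (le_top : (⊤ : (f ⁻¹ᵁ V : Scheme.{u}).Opens) ≤ ⊤)).op = 𝟙 _ := Subsingleton.elim _ _
    rw [this, CategoryTheory.Functor.map_id]
    rfl
  rw [← h2, h1]
  rfl

end Sq

section MapHEquiv
variable {Z : Scheme.{u}}

/-- the map on cohomology induced by an isomorphism of modules -/
noncomputable def mapHEquiv {M N : Z.Modules} (e : M ≅ N) (p : ℕ) : Coh.HH Z M p ≃+ Coh.HH Z N p where
  toFun := CohPull.mapH e.hom p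
  invFun := CohPull.mapH e.inv p
  left_inv x := by
    rw [mapH_comp, e.hom_inv_id, mapH_id]
  right_inv x := by
    rw [mapH_comp, e.inv_hom_id, mapH_id]
  map_add' x y := map_add _ x y

end MapHEquiv

section Main
variable {X S X' S' : Scheme.{u}} (f : X ⟶ S) (g : S' ⟶ S) (g' : X' ⟶ X) (f' : X' ⟶ S')
  (h : IsPullback g' f' f g) (F : X.Modules) [Coh.IsQCoh F]
  {V : S.Opens} {V' : S'.Opens} (hV : IsAffineOpen V) (hV' : IsAffineOpen V') (hle : V' ≤ g ⁻¹ᵁ V)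
  {ι : Type u} [Finite ι] (U : ι → (f ⁻¹ᵁ V : Scheme.{u}).Opens) (hcov : ⨆ i, U i = ⊤)
  (hU : ∀ s : Finset ι, s.Nonempty → IsAffineOpen (⨅ i ∈ s, U i))

open Groth.Agent.Lib.Helper16.TensorCmp Groth.Agent.Lib.Helper21.TFunI in
include h hcov hU hV' in
/-- **Čech description of the pullback on cohomology over affine opens of the bases** -/
theorem exists_equiv_tM_pullOn (hWW : f' ⁻¹ᵁ V' ≤ g' ⁻¹ᵁ (f ⁻¹ᵁ V)) (p : ℕ) :
    letI := overRes f hV
    letI : Algebra Γ(S, V) Γ(S', V') := (g.appLE V V' hle).hom.toAlgebra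
    ∃ (Λ : ↑((CohIII.TFun (CA Γ(S, V) (F.restrict (f ⁻¹ᵁ V).ι) U) p).obj
          (ModuleCat.of Γ(S, V) Γ(S', V'))) ≃+
        Coh.HHon X' ((Scheme.Modules.pullback g').obj F) (f' ⁻¹ᵁ V') p)
      (h' : Coh.HHon X F (f ⁻¹ᵁ V) p ≃+
        ↑((CohIII.TFun (CA Γ(S, V) (F.restrict (f ⁻¹ᵁ V).ι) U) p).obj
          (ModuleCat.of Γ(S, V) Γ(S, V)))),
      (∀ (a : Γ(S, V)) (x : Coh.HHon X F (f ⁻¹ᵁ V) p), h' (pullFun f V a • x) = a • h' x) ∧
      ∀ (x : Coh.HHon X F (f ⁻¹ᵁ V) p) (b : Γ(S', V')),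
        Λ (tM (CohIII.TFun (CA Γ(S, V) (F.restrict (f ⁻¹ᵁ V).ι) U) p)
            (ModuleCat.of Γ(S, V) Γ(S', V')) (h' x ⊗ₜ[Γ(S, V)] b)) =
          pullFun f' V' b • CohPull.pullOn g' (f ⁻¹ᵁ V) (f' ⁻¹ᵁ V') hWW F p x := by
  letI := overRes f hV
  letI := overRes f' hV'
  letI : Algebra Γ(S, V) Γ(S', V') := (g.appLE V V' hle).hom.toAlgebra
  haveI : Coh.IsQCoh (F.restrict (f ⁻¹ᵁ V).ι) :=
    Scheme.Modules.isQuasicoherent_restrictFunctor (f ⁻¹ᵁ V).ι F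
  have hsq : IsPullback (g'.resLE (f ⁻¹ᵁ V) (f' ⁻¹ᵁ V') hWW)
      ((f' ⁻¹ᵁ V' : Scheme.{u}) ↘ Spec (CommRingCat.of Γ(S', V')))
      ((f ⁻¹ᵁ V : Scheme.{u}) ↘ Spec (CommRingCat.of Γ(S, V)))
      (Spec.map (CommRingCat.ofHom (algebraMap Γ(S, V) Γ(S', V')))) :=
    isPullback_resLE_hRes f g g' f' h hV hV' hle hWW
  obtain ⟨Λ₀, h'₀, hΛ₀⟩ := exists_equiv_tM Γ(S, V) Γ(S', V')
    (g'.resLE (f ⁻¹ᵁ V) (f' ⁻¹ᵁ V') hWW) hsq (F.restrict (f ⁻¹ᵁ V).ι) U hcov hU p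
  refine ⟨Λ₀.trans (mapHEquiv (CohPull.pullOnIso g' (f ⁻¹ᵁ V) (f' ⁻¹ᵁ V') hWW F) p),
    h'₀.toAddEquiv, fun a x => ?_, fun x b => ?_⟩
  · have := h'₀.map_smul a x
    refine Eq.trans ?_ this
    have e : pullFun f V a • x = a • x := by
      change pullFun f V a • x = Coh.toGlobal (hRes f hV) a • x
      rw [toGlobal_hRes]
    exact congrArg h'₀ e
  · change CohPull.mapH (CohPull.pullOnIso g' (f ⁻¹ᵁ V) (f' ⁻¹ᵁ V') hWW F).hom p (Λ₀ _) = _
    have e := hΛ₀ x b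
    refine (congrArg (CohPull.mapH (CohPull.pullOnIso g' (f ⁻¹ᵁ V) (f' ⁻¹ᵁ V') hWW F).hom p) e).trans ?_
    change CohPull.mapH _ p (Coh.toGlobal (hRes f' hV') b • _) = _
    rw [mapH_smul, toGlobal_hRes]
    rfl

end Main

section Cover
variable {X S : Scheme.{u}} (f : X ⟶ S) [QuasiCompact f] [IsSeparated f]
  {V : S.Opens} (hV : IsAffineOpen V)

include hV in
/-- a finite affine cover with affine intersections of `f⁻¹V`, for `f` quasi-compact separated and `V` affine -/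
theorem exists_cover_preimage :
    ∃ (ι : Type u) (_ : Finite ι) (U : ι → (f ⁻¹ᵁ V : Scheme.{u}).Opens), (⨆ i, U i = ⊤) ∧
      (∀ i, IsAffineOpen (U i)) ∧
      ∀ s : Finset ι, s.Nonempty → IsAffineOpen (⨅ i ∈ s, U i) := by
  letI := overRes f hV
  haveI : IsSeparated ((f ⁻¹ᵁ V : Scheme.{u}) ↘ Spec (CommRingCat.of Γ(S, V))) := by
    change IsSeparated ((f ∣_ V) ≫ hV.isoSpec.hom)
    infer_instance
  haveI : CompactSpace (f ⁻¹ᵁ V : Scheme.{u}) := by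
    have hc : IsCompact ((f ⁻¹ᵁ V : X.Opens) : Set X) :=
      QuasiCompact.isCompact_preimage (f := f) _ V.2 hV.isCompact
    exact isCompact_iff_compactSpace.mp hc
  exact Groth.Agent.Lib.Helper21.MumD.exists_cover Γ(S, V) (f ⁻¹ᵁ V : Scheme.{u})

end Cover

end Groth.Agent.Lib.Helper21.GBC9
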