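import Mathlib
import Groth.Prelude.Def_CohCmp
import Groth.Agent.Lib.Helper21GBC9
import Groth.Agent.Lib.Helper21GBC7
import Groth.Agent.Lib.Helper2QCoh
import Groth.Agent.S0030

/-!
# General base change, part 10: the comparison maps are bijective over affine opens (helper21)
-/

set_option autoImplicit false
set_option linter.style.haveILetI false
universe u
open CategoryTheory CategoryTheory.Limits AlgebraicGeometry Opposite TopologicalSpace TensorProduct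

namespace Groth.Agent.Lib.Helper21.GBC10

open Groth.Agent.Lib.Helper21.GBC2 Groth.Agent.Lib.Helper21.GBC3 Groth.Agent.Lib.Helper21.GBC4
  Groth.Agent.Lib.Helper21.GBC5 Groth.Agent.Lib.Helper21.GBC6 Groth.Agent.Lib.Helper21.GBC7
  Groth.Agent.Lib.Helper21.GBC8 Groth.Agent.Lib.Helper21.GBC9
open Groth.Agent.Lib.Helper17.StalkBC Groth.Agent.Lib.Helper21.CechMod

section Loc
open Groth.Agent.Helper13FlatMV

variable {A A' : Type u} [CommRing A] [CommRing A'] [Algebra A A'] (a : A)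
  [IsLocalization.Away a A']
  {M M' : Type u} [AddCommGroup M] [Module A M] [AddCommGroup M'] [Module A' M']

/-- if `A' ⊗_A M → M'` is bijective for the localization `A' = A_a`, then `M'` is the localization of `M` -/
theorem loc_of_kap_bijective (u : M →+ M')
    (hu : ∀ (r : A) (m : M), u (r • m) = algebraMap A A' r • u m)
    (hb : Function.Bijective (kap u hu)) :
    (∀ x, u x = 0 → ∃ n : ℕ, a ^ n • x = 0) ∧
      ∀ y : M', ∃ (n : ℕ) (x : M), u x = (algebraMap A A' a) ^ n • y := by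
  haveI : IsLocalization (Submonoid.powers a) A' := ‹IsLocalization.Away a A'›
  have hk : ∀ x, u x = kap u hu ((1 : A') ⊗ₜ[A] x) := fun x => by rw [kap_tmul, one_smul]
  constructor
  · intro x hx
    have h1 : kap u hu ((1 : A') ⊗ₜ[A] x) = 0 := (hk x).symm.trans hx
    have h2 : (1 : A') ⊗ₜ[A] x = 0 := hb.1 (h1.trans (map_zero _).symm)
    have h3 : TensorProduct.mk A A' M 1 x = 0 := h2
    obtain ⟨⟨_, n, rfl⟩, hs⟩ :=
      (IsLocalizedModule.eq_zero_iff (Submonoid.powers a) (TensorProduct.mk A A' M 1)).1 h3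
    exact ⟨n, hs⟩
  · intro y
    obtain ⟨w, rfl⟩ := hb.2 y
    obtain ⟨⟨x, ⟨_, n, rfl⟩⟩, hx⟩ :=
      IsLocalizedModule.surj (Submonoid.powers a) (TensorProduct.mk A A' M 1) w
    refine ⟨n, x, ?_⟩
    have h1 : (a ^ n) • w = (1 : A') ⊗ₜ[A] x := hx
    rw [hk, ← h1, ← map_pow, ← map_smul, algebraMap_smul]

end Loc

section Basic
variable {Y : Scheme.{u}} {V : Y.Opens} (a : Γ(Y, V))

lemma basicOpen_le_id : Y.basicOpen a ≤ (𝟙 Y) ⁻¹ᵁ V := by
  rw [Scheme.Hom.id_preimage]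
  exact Y.basicOpen_le a

lemma id_appLE_basicOpen :
    (𝟙 Y : Y ⟶ Y).appLE V (Y.basicOpen a) (basicOpen_le_id a) =
      Y.presheaf.map (homOfLE (Y.basicOpen_le a)).op := by
  simp only [Scheme.Hom.appLE, Scheme.Hom.id_app]
  exact Category.id_comp _

lemma isLocalization_id_appLE (hV : IsAffineOpen V) :
    letI : Algebra Γ(Y, V) Γ(Y, Y.basicOpen a) :=
      ((𝟙 Y : Y ⟶ Y).appLE V (Y.basicOpen a) (basicOpen_le_id a)).hom.toAlgebra
    IsLocalization.Away a Γ(Y, Y.basicOpen a) := by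
  have key : ∀ σ : Γ(Y, V) ⟶ Γ(Y, Y.basicOpen a),
      σ = Y.presheaf.map (homOfLE (Y.basicOpen_le a)).op →
      @IsLocalization.Away Γ(Y, V) _ a Γ(Y, Y.basicOpen a) _ σ.hom.toAlgebra := by
    rintro σ rfl
    exact hV.isLocalization_basicOpen a
  exact key _ (id_appLE_basicOpen a)

end Basic

section LocCoh
open Groth.Agent.Helper13FlatMV Groth.Agent.Lib.Helper16.TensorCmp Groth.Agent.Lib.Helper21.TFunI
  Groth.Agent.Lib.Helper21.GBCAlg

variable {X Y : Scheme.{u}} (f : X ⟶ Y) [QuasiCompact f] [IsSeparated f] (F : X.Modules)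
  [Coh.IsQCoh F] {V : Y.Opens} (hV : IsAffineOpen V) (a : Γ(Y, V)) (p : ℕ)

include hV in
/-- **cohomology of the preimage of a basic open is the localization** -/
theorem resLE_basicOpen :
    (∀ x : Coh.HHon X F (f ⁻¹ᵁ V) p,
      CohPull.resLE F (f.preimage_mono (Y.basicOpen_le a)) p x = 0 →
        ∃ n : ℕ, pullFun f V (a ^ n) • x = 0) ∧
    (∀ y : Coh.HHon X F (f ⁻¹ᵁ (Y.basicOpen a)) p,
      ∃ (n : ℕ) (x : Coh.HHon X F (f ⁻¹ᵁ V) p),
        CohPull.resLE F (f.preimage_mono (Y.basicOpen_le a)) p x =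
          pullFun f (Y.basicOpen a)
            ((Y.presheaf.map (homOfLE (Y.basicOpen_le a)).op).hom a ^ n) • y) := by
  obtain ⟨ι, hfin, U, hcov, -, hU⟩ := exists_cover_preimage f hV
  have hV' : IsAffineOpen (Y.basicOpen a) := hV.basicOpen a
  have hsq : IsPullback (𝟙 X) f f (𝟙 Y) := IsPullback.of_id_fst
  have hWW : f ⁻¹ᵁ (Y.basicOpen a) ≤ (𝟙 X) ⁻¹ᵁ (f ⁻¹ᵁ V) := by
    rw [Scheme.Hom.id_preimage]
    exact f.preimage_mono (Y.basicOpen_le a)
  obtain ⟨Λ, h', hh', hΛ⟩ := exists_equiv_tM_pullOn f (𝟙 Y) (𝟙 X) f hsq F hV hV'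
    (basicOpen_le_id a) U hcov hU hWW p
  letI := overRes f hV
  letI : Algebra Γ(Y, V) Γ(Y, Y.basicOpen a) :=
    ((𝟙 Y : Y ⟶ Y).appLE V (Y.basicOpen a) (basicOpen_le_id a)).hom.toAlgebra
  haveI : IsLocalization.Away a Γ(Y, Y.basicOpen a) := isLocalization_id_appLE a hV
  haveI : Module.Flat Γ(Y, V) Γ(Y, Y.basicOpen a) :=
    IsLocalization.flat Γ(Y, Y.basicOpen a) (Submonoid.powers a)
  have hbij := tM_bijective_of_flat (CA Γ(Y, V) (F.restrict (f ⁻¹ᵁ V).ι) U)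
    ((ComplexShape.up ℕ).prev p) p (p + 1) rfl (by simp) Γ(Y, Y.basicOpen a)
  letI mA : Module Γ(Y, V) (Coh.HHon X F (f ⁻¹ᵁ V) p) := Module.compHom _ (pullFun f V)
  letI mG : Module Γ(Y, Y.basicOpen a)
      (Coh.HHon X ((Scheme.Modules.pullback (𝟙 X)).obj F) (f ⁻¹ᵁ (Y.basicOpen a)) p) :=
    Module.compHom _ (pullFun f (Y.basicOpen a))
  letI mF : Module Γ(Y, Y.basicOpen a) (Coh.HHon X F (f ⁻¹ᵁ (Y.basicOpen a)) p) :=
    Module.compHom _ (pullFun f (Y.basicOpen a))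
  let h'L : Coh.HHon X F (f ⁻¹ᵁ V) p ≃ₗ[Γ(Y, V)] _ :=
    { h' with map_smul' := fun r x => hh' r x }
  let u₀ := CohPull.pullOn (𝟙 X) (f ⁻¹ᵁ V) (f ⁻¹ᵁ (Y.basicOpen a)) hWW F p
  have hΛ' : ∀ (x : Coh.HHon X F (f ⁻¹ᵁ V) p) (b : Γ(Y, Y.basicOpen a)),
      Λ (tM (CohIII.TFun (CA Γ(Y, V) (F.restrict (f ⁻¹ᵁ V).ι) U) p)
        (ModuleCat.of Γ(Y, V) Γ(Y, Y.basicOpen a)) (h'L x ⊗ₜ[Γ(Y, V)] b)) = b • u₀ x :=
    fun x b => hΛ x b
  have hu₀ : ∀ (r : Γ(Y, V)) (x : Coh.HHon X F (f ⁻¹ᵁ V) p),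
      u₀ (r • x) = algebraMap Γ(Y, V) Γ(Y, Y.basicOpen a) r • u₀ x := by
    intro r x
    have h1 := hΛ' (r • x) 1
    have h2 := hΛ' x (algebraMap Γ(Y, V) Γ(Y, Y.basicOpen a) r)
    rw [one_smul] at h1
    rw [← h1, ← h2, LinearEquiv.map_smul, TensorProduct.smul_tmul, Algebra.smul_def, mul_one]
  have hk₀ : Function.Bijective (kap u₀ hu₀) :=
    (tM_iff_kap Γ(Y, Y.basicOpen a) (CohIII.TFun (CA Γ(Y, V) (F.restrict (f ⁻¹ᵁ V).ι) U) p)
      u₀ hu₀ Λ h'L hΛ').1.1 hbij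
  -- pass to `resLE`
  let e := (Scheme.Modules.restrictFunctor (f ⁻¹ᵁ (Y.basicOpen a)).ι).mapIso
    ((Scheme.Modules.pullbackId X).app F)
  let e' : Coh.HHon X ((Scheme.Modules.pullback (𝟙 X)).obj F) (f ⁻¹ᵁ (Y.basicOpen a)) p ≃ₗ[Γ(Y, Y.basicOpen a)]
      Coh.HHon X F (f ⁻¹ᵁ (Y.basicOpen a)) p :=
    { mapHEquiv e p with
      map_smul' := fun r x => mapH_smul e.hom p (pullFun f (Y.basicOpen a) r) x }
  let u := CohPull.resLE F (f.preimage_mono (Y.basicOpen_le a)) p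
  have hue : ∀ x, e' (u₀ x) = u x := fun x => rfl
  have hu : ∀ (r : Γ(Y, V)) (x : Coh.HHon X F (f ⁻¹ᵁ V) p),
      u (r • x) = algebraMap Γ(Y, V) Γ(Y, Y.basicOpen a) r • u x := by
    intro r x
    rw [← hue, ← hue, hu₀, LinearEquiv.map_smul]
  have hk : Function.Bijective (kap u hu) :=
    (kap_iff_of_equiv u₀ hu₀ u hu (LinearEquiv.refl _ _) e' hue).1.1 hk₀
  obtain ⟨l1, l2⟩ := loc_of_kap_bijective a u hu hk
  refine ⟨fun x hx => l1 x hx, fun y => ?_⟩
  obtain ⟨n, x, hx⟩ := l2 y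
  refine ⟨n, x, hx.trans ?_⟩
  have e1 : algebraMap Γ(Y, V) Γ(Y, Y.basicOpen a) a =
      (Y.presheaf.map (homOfLE (Y.basicOpen_le a)).op).hom a :=
    congrArg (fun σ : Γ(Y, V) ⟶ Γ(Y, Y.basicOpen a) => σ.hom a) (id_appLE_basicOpen a)
  rw [e1]
  rfl

end LocCoh

section Unit
variable {Y : Scheme.{u}} {V : Y.Opens}

/-- an ideal of functions on an affine open which locally contains powers of non-vanishing functions is the unit ideal -/
theorem ideal_eq_top (hV : IsAffineOpen V) (J : Ideal Γ(Y, V))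
    (h : ∀ y ∈ V, ∃ a : Γ(Y, V), y ∈ Y.basicOpen a ∧ ∃ n : ℕ, a ^ n ∈ J) : J = ⊤ := by
  have h1 : Ideal.span (J.radical : Set Γ(Y, V)) = ⊤ := by
    rw [← hV.self_le_iSup_basicOpen_iff]
    intro y hy
    obtain ⟨a, hya, n, hn⟩ := h y hy
    exact Opens.mem_iSup.2 ⟨⟨a, n, hn⟩, hya⟩
  rw [Ideal.span_eq] at h1
  exact Ideal.radical_eq_top.1 h1

end Unit

section T3
variable {X Y : Scheme.{u}} (f : X ⟶ Y) [QuasiCompact f] [IsSeparated f]
  [HasInjectiveResolutions X.Modules]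
  {Δ : RDer.DerivedLES (Scheme.Modules.pushforward f)} (E : CohCmp.SectCmp f Δ)
  (F : X.Modules) [Coh.IsQCoh F] {V : Y.Opens} (hV : IsAffineOpen V) (p : ℕ)

include hV in
/-- **the comparison maps are injective over affine opens** -/
theorem ε_injective : Function.Injective (E.ε V F p) := by
  rw [injective_iff_map_eq_zero]
  intro x hx
  letI mA : Module Γ(Y, V) (Coh.HHon X F (f ⁻¹ᵁ V) p) := Module.compHom _ (pullFun f V)
  have hJ : Ideal.torsionOf Γ(Y, V) (Coh.HHon X F (f ⁻¹ᵁ V) p) x = ⊤ := by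
    refine ideal_eq_top hV _ (fun y hy => ?_)
    obtain ⟨W, hWV, hyW, hW⟩ := ε_locally_injective f E p F V x hx y hy
    obtain ⟨a, haW, hya⟩ := hV.exists_basicOpen_le (V := W) ⟨y, hyW⟩ hy
    refine ⟨a, hya, ?_⟩
    have h1 : CohPull.resLE F (f.preimage_mono (Y.basicOpen_le a)) p x = 0 := by
      rw [← resLE_trans F (f.preimage_mono hWV) (f.preimage_mono haW) p x, hW, map_zero]
    obtain ⟨n, hn⟩ := (resLE_basicOpen f F hV a p).1 x h1
    exact ⟨n, (Ideal.mem_torsionOf_iff _ _).2 hn⟩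
  have h1 : (1 : Γ(Y, V)) ∈ Ideal.torsionOf Γ(Y, V) (Coh.HHon X F (f ⁻¹ᵁ V) p) x := by
    rw [hJ]
    trivial
  have h2 := (Ideal.mem_torsionOf_iff _ _).1 h1
  rwa [one_smul] at h2

include hV in
/-- **the comparison maps are surjective over affine opens** -/
theorem ε_surjective : Function.Surjective (E.ε V F p) := by
  intro t
  haveI : Coh.IsQCoh ((Coh.Rpush f p).obj F) := Groth.Agent.S0030.result f F p
  letI mA : Module Γ(Y, V) (Coh.HHon X F (f ⁻¹ᵁ V) p) := Module.compHom _ (pullFun f V)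
  let εL : Coh.HHon X F (f ⁻¹ᵁ V) p →ₗ[Γ(Y, V)] ((Coh.Rpush f p).obj F).presheaf.obj (op V) :=
    { toFun := E.ε V F p
      map_add' := fun x y => map_add _ x y
      map_smul' := fun a x => ε_smul f E V a F p x }
  have hJ : (LinearMap.range εL).colon {t} = ⊤ := by
    refine ideal_eq_top hV _ (fun y hy => ?_)
    obtain ⟨W, hWV, hyW, x', hx'⟩ := Groth.Agent.S16954.result f E F p V t y hy
    obtain ⟨a, haW, hya⟩ := hV.exists_basicOpen_le (V := W) ⟨y, hyW⟩ hy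
    refine ⟨a, hya, ?_⟩
    have h1 : E.ε (Y.basicOpen a) F p (CohPull.resLE F (f.preimage_mono haW) p x') =
        ((Coh.Rpush f p).obj F).presheaf.map (homOfLE (Y.basicOpen_le a)).op t := by
      rw [← ε_res f E haW F p x', hx']
      exact map_map_apply ((Coh.Rpush f p).obj F) (homOfLE haW) (homOfLE hWV) t
    obtain ⟨n, x, hx⟩ := (resLE_basicOpen f F hV a p).2
      (CohPull.resLE F (f.preimage_mono haW) p x')
    have h2 : ((Coh.Rpush f p).obj F).presheaf.map (homOfLE (Y.basicOpen_le a)).op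
        (E.ε V F p x - a ^ n • t) = 0 := by
      rw [map_sub, ε_res f E (Y.basicOpen_le a) F p x, hx, ε_smul, h1, sub_eq_zero,
        Scheme.Modules.map_smul, map_pow]
    obtain ⟨m, hm⟩ := Groth.Agent.Lib.Helper2.QCoh.exists_pow_smul_eq_zero hV
      ((Coh.Rpush f p).obj F) a _ h2
    refine ⟨m + n, ?_⟩
    rw [Submodule.mem_colon_singleton]
    refine ⟨(a ^ m) • x, ?_⟩
    rw [smul_sub, sub_eq_zero, smul_smul, ← pow_add] at hm
    rw [LinearMap.map_smul]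
    exact hm
  have h1 : (1 : Γ(Y, V)) ∈ (LinearMap.range εL).colon {t} := by
    rw [hJ]
    trivial
  rw [Submodule.mem_colon_singleton, one_smul] at h1
  exact h1

include hV in
/-- **T3**: the comparison maps are bijective over affine opens, for a quasi-compact separated
morphism and a quasi-coherent module. -/
theorem ε_bijective : Function.Bijective (E.ε V F p) :=
  ⟨ε_injective f E F hV p, ε_surjective f E F hV p⟩

end T3

end Groth.Agent.Lib.Helper21.GBC10
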