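import Mathlib
import Groth.Prelude.Def_CohCmp
import Groth.Agent.Lib.Helper21GBC10
import Groth.Agent.Lib.Helper21BC0Geo

/-!
# General base change, part 12: the base change maps over affine opens (helper21)
-/

set_option autoImplicit false
set_option linter.style.haveILetI false
universe u
open CategoryTheory CategoryTheory.Limits AlgebraicGeometry Opposite TopologicalSpace TensorProduct

namespace Groth.Agent.Lib.Helper21.GBC12

open Groth.Agent.Lib.Helper21.GBC2 Groth.Agent.Lib.Helper21.GBC3 Groth.Agent.Lib.Helper21.GBC4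
  Groth.Agent.Lib.Helper21.GBC5 Groth.Agent.Lib.Helper21.GBC6 Groth.Agent.Lib.Helper21.GBC7
  Groth.Agent.Lib.Helper21.GBC8 Groth.Agent.Lib.Helper21.GBC9 Groth.Agent.Lib.Helper21.GBC10
open Groth.Agent.Helper13PullbackUnit Groth.Agent.Helper13FlatMV

section Adj
variable {S S' : Scheme.{u}} (g : S' ⟶ S) {M : S.Modules} {N : S'.Modules}
  (φ : M ⟶ (Scheme.Modules.pushforward g).obj N)

/-- the transpose of `φ : M ⟶ g_* N` on the canonical sections of `g^* M` -/
theorem transpose_unitSec {V : S.Opens} {V' : S'.Opens} (hle : V' ≤ g ⁻¹ᵁ V) (s : Γ(M, V)) :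
    ((((Scheme.Modules.pullbackPushforwardAdjunction g).homEquiv M N).symm φ).app V').hom
        (unitSec g M hle s) =
      N.presheaf.map (homOfLE hle).op ((φ.app V).hom s) := by
  set β := ((Scheme.Modules.pullbackPushforwardAdjunction g).homEquiv M N).symm φ with hβ
  have h1 : (Scheme.Modules.pullbackPushforwardAdjunction g).unit.app M ≫
      (Scheme.Modules.pushforward g).map β = φ := by
    have e := (Scheme.Modules.pullbackPushforwardAdjunction g).homEquiv_unit (X := M) (Y := N) (f := β)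
    refine e.symm.trans ?_
    rw [hβ, Equiv.apply_symm_apply]
  rw [unitSec_apply]
  have h2 := app_map β (homOfLE hle)
    ((((Scheme.Modules.pullbackPushforwardAdjunction g).unit.app M).app V).hom s)
  refine h2.trans ?_
  congr 1
  exact congrArg (fun ψ : M ⟶ (Scheme.Modules.pushforward g).obj N => (ψ.app V).hom s) h1

end Adj

section Sec
variable {S S' : Scheme.{u}} (g : S' ⟶ S) {M : S.Modules} [M.IsQuasicoherent] {N : S'.Modules}
  (φ : M ⟶ (Scheme.Modules.pushforward g).obj N)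
  {V : S.Opens} {V' : S'.Opens} (hV : IsAffineOpen V) (hV' : IsAffineOpen V') (hle : V' ≤ g ⁻¹ᵁ V)

/-- the map `Γ(V, M) → Γ(V', N)` induced by `φ : M ⟶ g_* N` -/
noncomputable def uφ : Γ(M, V) →+ Γ(N, V') :=
  (N.presheaf.map (homOfLE hle).op).hom.comp (φ.app V).hom

omit [M.IsQuasicoherent] in
lemma uφ_apply (s : Γ(M, V)) :
    uφ g φ hle s = N.presheaf.map (homOfLE hle).op ((φ.app V).hom s) := rfl

omit [M.IsQuasicoherent] in
lemma uφ_smul (r : Γ(S, V)) (s : Γ(M, V)) :
    letI : Algebra Γ(S, V) Γ(S', V') := (g.appLE V V' hle).hom.toAlgebra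
    uφ g φ hle (r • s) = algebraMap Γ(S, V) Γ(S', V') r • uφ g φ hle s := by
  letI : Algebra Γ(S, V) Γ(S', V') := (g.appLE V V' hle).hom.toAlgebra
  rw [uφ_apply, uφ_apply, Scheme.Modules.Hom.app_smul, pushforward_smul]
  exact Scheme.Modules.map_smul N (homOfLE hle) ((g.app V).hom r) _

include hV hV' in
/-- **the transpose of `φ` over affine opens**: `β.app V'` is bijective (surjective) iff
`Γ(S',V') ⊗ Γ(V, M) → Γ(V', N)` is -/
theorem transpose_app_iff :
    letI : Algebra Γ(S, V) Γ(S', V') := (g.appLE V V' hle).hom.toAlgebra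
    (Function.Bijective
        ((((Scheme.Modules.pullbackPushforwardAdjunction g).homEquiv M N).symm φ).app V').hom ↔
      Function.Bijective (kap (uφ g φ hle) (uφ_smul g φ hle))) ∧
    (Function.Surjective
        ((((Scheme.Modules.pullbackPushforwardAdjunction g).homEquiv M N).symm φ).app V').hom ↔
      Function.Surjective (kap (uφ g φ hle) (uφ_smul g φ hle))) := by
  letI : Algebra Γ(S, V) Γ(S', V') := (g.appLE V V' hle).hom.toAlgebra
  set β := ((Scheme.Modules.pullbackPushforwardAdjunction g).homEquiv M N).symm φ with hβ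
  have hφ₀ : ∀ (r : Γ(S, V)) (m : Γ(M, V)),
      unitSec g M hle (r • m) = algebraMap Γ(S, V) Γ(S', V') r • unitSec g M hle m :=
    fun r m => unitSec_smul g M hle r m
  have hk : Function.Bijective (kap (unitSec g M hle) hφ₀) := by
    refine kap_bijective_of_existsUnique _ hφ₀ ?_
    intro N₀ _ _ l hl
    exact existsUnique_lift g M hV hV' hle N₀ l hl
  let βl : Γ((Scheme.Modules.pullback g).obj M, V') →ₗ[Γ(S', V')] Γ(N, V') :=
    { toFun := (β.app V').hom
      map_add' := fun x y => map_add _ x y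
      map_smul' := fun r x => β.app_smul r x }
  have hc : ∀ x, βl (kap (unitSec g M hle) hφ₀ x) = kap (uφ g φ hle) (uφ_smul g φ hle) x := by
    intro x
    have := kap_nat (unitSec g M hle) hφ₀ (uφ g φ hle) (uφ_smul g φ hle) LinearMap.id βl
      (fun m => transpose_unitSec g φ hle m) x
    rw [this, LinearMap.lTensor_id, LinearMap.id_apply]
  have hcf : (βl : _ → _) ∘ (kap (unitSec g M hle) hφ₀) = kap (uφ g φ hle) (uφ_smul g φ hle) :=
    funext hc
  constructor
  · rw [← hcf]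
    exact ⟨fun hb => Function.Bijective.comp hb hk,
      fun hb => (Function.Bijective.of_comp_iff _ hk).1 hb⟩
  · rw [← hcf]
    exact ⟨fun hs => Function.Surjective.comp hs hk.2,
      fun hs => Function.Surjective.of_comp hs⟩

end Sec

section Main
variable {X S X' S' : Scheme.{u}} (f : X ⟶ S) (g : S' ⟶ S) (g' : X' ⟶ X) (f' : X' ⟶ S')
  (h : IsPullback g' f' f g) [QuasiCompact f] [IsSeparated f]
  [HasInjectiveResolutions X.Modules] [HasInjectiveResolutions X'.Modules]
  {Δ : RDer.DerivedLES (Scheme.Modules.pushforward f)}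
  {Δ' : RDer.DerivedLES (Scheme.Modules.pushforward f')}
  (E : CohCmp.SectCmp f Δ) (E' : CohCmp.SectCmp f' Δ') (B : CohCmp.GenBC f g f' g' h.w E E')
  (F : X.Modules) [Coh.IsQCoh F] (p : ℕ)
  {V : S.Opens} {V' : S'.Opens} (hV : IsAffineOpen V) (hV' : IsAffineOpen V') (hle : V' ≤ g ⁻¹ᵁ V)

omit [QuasiCompact f] [IsSeparated f] [Coh.IsQCoh F] in
/-- the adjoint base change map on the classes `ε x`, granted the compatibility of `pullOn` with
restriction on `X'` -/
theorem uφ_ε (hWW : f' ⁻¹ᵁ V' ≤ g' ⁻¹ᵁ (f ⁻¹ᵁ V))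
    (hW2 : ∀ x : Coh.HHon X F (f ⁻¹ᵁ V) p,
      CohPull.resLE ((Scheme.Modules.pullback g').obj F) (f'.preimage_mono hle) p
        (CohPull.pullOn g' (f ⁻¹ᵁ V) (f' ⁻¹ᵁ (g ⁻¹ᵁ V)) (CohCmp.sqLE f g f' g' h.w V) F p x) =
      CohPull.pullOn g' (f ⁻¹ᵁ V) (f' ⁻¹ᵁ V') hWW F p x)
    (x : Coh.HHon X F (f ⁻¹ᵁ V) p) :
    uφ g (B.φ p F) hle (E.ε V F p x) =
      E'.ε V' ((Scheme.Modules.pullback g').obj F) p
        (CohPull.pullOn g' (f ⁻¹ᵁ V) (f' ⁻¹ᵁ V') hWW F p x) := by
  rw [uφ_apply, ← hW2 x, ← ε_res f' E' hle]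
  congr 1
  exact B.compat V F p x

open Groth.Agent.Lib.Helper17.StalkBC Groth.Agent.Lib.Helper21.CechMod
  Groth.Agent.Lib.Helper16.TensorCmp Groth.Agent.Lib.Helper21.TFunI Groth.Agent.Lib.Helper21.GBCAlg in
include hV hV' in
/-- **the base change map over affine opens against the Čech complex**: `(B.bc p F).app V'` is
bijective (surjective) iff the comparison map `tM` of the functor `M ↦ H^p(C(U, F|f⁻¹V) ⊗ M)` at the
algebra `Γ(S', V')` is. -/
theorem bc_app_iff_tM {ι : Type u} [Finite ι] (U : ι → (f ⁻¹ᵁ V : Scheme.{u}).Opens)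
    (hcov : ⨆ i, U i = ⊤) (hU : ∀ s : Finset ι, s.Nonempty → IsAffineOpen (⨅ i ∈ s, U i))
    (hWW : f' ⁻¹ᵁ V' ≤ g' ⁻¹ᵁ (f ⁻¹ᵁ V))
    (hW2 : ∀ x : Coh.HHon X F (f ⁻¹ᵁ V) p,
      CohPull.resLE ((Scheme.Modules.pullback g').obj F) (f'.preimage_mono hle) p
        (CohPull.pullOn g' (f ⁻¹ᵁ V) (f' ⁻¹ᵁ (g ⁻¹ᵁ V)) (CohCmp.sqLE f g f' g' h.w V) F p x) =
      CohPull.pullOn g' (f ⁻¹ᵁ V) (f' ⁻¹ᵁ V') hWW F p x) :
    letI := overRes f hV
    letI : Algebra Γ(S, V) Γ(S', V') := (g.appLE V V' hle).hom.toAlgebra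
    (Function.Bijective ((B.bc p F).app V').hom ↔
      Function.Bijective (tM (CohIII.TFun (CA Γ(S, V) (F.restrict (f ⁻¹ᵁ V).ι) U) p)
        (ModuleCat.of Γ(S, V) Γ(S', V')))) ∧
    (Function.Surjective ((B.bc p F).app V').hom ↔
      Function.Surjective (tM (CohIII.TFun (CA Γ(S, V) (F.restrict (f ⁻¹ᵁ V).ι) U) p)
        (ModuleCat.of Γ(S, V) Γ(S', V')))) := by
  letI := overRes f hV
  letI : Algebra Γ(S, V) Γ(S', V') := (g.appLE V V' hle).hom.toAlgebra
  haveI : QuasiCompact f' := MorphismProperty.of_isPullback h (inferInstance : QuasiCompact f)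
  haveI : IsSeparated f' := MorphismProperty.of_isPullback h (inferInstance : IsSeparated f)
  haveI : Coh.IsQCoh ((Scheme.Modules.pullback g').obj F) :=
    Groth.Agent.Lib.Helper2.PullbackSec.isQuasicoherent_pullback g' F
  haveI : ((Coh.Rpush f p).obj F).IsQuasicoherent := Groth.Agent.S0030.result f F p
  obtain ⟨Λ, h', hh', hΛ⟩ := exists_equiv_tM_pullOn f g g' f' h F hV hV' hle U hcov hU hWW p
  -- the module structure on cohomology and the linear comparison isomorphisms
  letI mA : Module Γ(S, V) (Coh.HHon X F (f ⁻¹ᵁ V) p) := Module.compHom _ (pullFun f V)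
  let εL : Coh.HHon X F (f ⁻¹ᵁ V) p ≃ₗ[Γ(S, V)] Γ((Coh.Rpush f p).obj F, V) :=
    LinearEquiv.ofBijective
      { toFun := E.ε V F p
        map_add' := fun x y => map_add _ x y
        map_smul' := fun a x => ε_smul f E V a F p x } (ε_bijective f E F hV p)
  let h'L : Coh.HHon X F (f ⁻¹ᵁ V) p ≃ₗ[Γ(S, V)]
      ↑((CohIII.TFun (CA Γ(S, V) (F.restrict (f ⁻¹ᵁ V).ι) U) p).obj (ModuleCat.of Γ(S, V) Γ(S, V))) :=
    { h' with map_smul' := fun r x => hh' r x }
  let ε' : Coh.HHon X' ((Scheme.Modules.pullback g').obj F) (f' ⁻¹ᵁ V') p ≃+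
      Γ((Coh.Rpush f' p).obj ((Scheme.Modules.pullback g').obj F), V') :=
    AddEquiv.ofBijective (E'.ε V' ((Scheme.Modules.pullback g').obj F) p)
      (ε_bijective f' E' ((Scheme.Modules.pullback g').obj F) hV' p)
  have hΛ₂ : ∀ (s : Γ((Coh.Rpush f p).obj F, V)) (b : Γ(S', V')),
      (Λ.trans ε') (tM (CohIII.TFun (CA Γ(S, V) (F.restrict (f ⁻¹ᵁ V).ι) U) p)
        (ModuleCat.of Γ(S, V) Γ(S', V')) ((εL.symm.trans h'L) s ⊗ₜ[Γ(S, V)] b)) =
        b • uφ g (B.φ p F) hle s := by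
    intro s b
    obtain ⟨x, rfl⟩ := εL.surjective s
    have e1 : (εL.symm.trans h'L) (εL x) = h' x := by
      rw [LinearEquiv.trans_apply, LinearEquiv.symm_apply_apply]
      rfl
    rw [e1]
    change E'.ε V' ((Scheme.Modules.pullback g').obj F) p (Λ _) = _
    rw [hΛ x b, ε_smul f' E' V' b]
    congr 1
    exact (uφ_ε f g g' f' h E E' B F p hle hWW hW2 x).symm
  have k1 := tM_iff_kap Γ(S', V') (CohIII.TFun (CA Γ(S, V) (F.restrict (f ⁻¹ᵁ V).ι) U) p)
    (uφ g (B.φ p F) hle) (uφ_smul g (B.φ p F) hle) (Λ.trans ε') (εL.symm.trans h'L) hΛ₂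
  have k2 := transpose_app_iff g (B.φ p F) hV hV' hle
  exact ⟨k2.1.trans k1.1.symm, k2.2.trans k1.2.symm⟩

end Main

section Refl
open Groth.Agent.Lib.Helper21.GBC1
variable {X : Scheme.{u}}

/-- restriction of classes to the same open is the identity -/
theorem resLE_refl (F : X.Modules) (U : X.Opens) (p : ℕ) (x : Coh.HHon X F U p) :
    CohPull.resLE F (le_refl U) p x = x := by
  refine family_unique U
    (fun F p => Coh.HHon X F U p)
    (fun S hS p => CohCmp.extδ (Groth.Agent.Lib.Helper23.SectCmpLib.toAbOn_shortExact U S hS) p)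
    (fun F p x => CohPull.resLE F (le_refl U) p x)
    (fun F p x => x)
    ?_ ?_ ?_ p F x
  · intro S hS hA p x
    exact resLE_extδ (le_refl U) S hA _ p x
  · intro S hS hA p x
    rfl
  · intro F x
    obtain ⟨s, rfl⟩ := (CohPull.sectH0 F U).surjective x
    rw [resLE_sectH0]
    congr 1
    have e : (homOfLE (le_refl U)).op = 𝟙 _ := Subsingleton.elim _ _
    rw [e, CategoryTheory.Functor.map_id]
    rfl

/-- the compatibility of `pullOn` with restriction, for equal opens -/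
theorem resLE_pullOn_of_eq {X' : Scheme.{u}} (g : X' ⟶ X) (F : X.Modules) (U : X.Opens)
    {U' U'' : X'.Opens} (h' : U' ≤ g ⁻¹ᵁ U) (e : U'' = U') (p : ℕ) (x : Coh.HHon X F U p) :
    CohPull.resLE ((Scheme.Modules.pullback g).obj F) (le_of_eq e) p
        (CohPull.pullOn g U U' h' F p x) =
      CohPull.pullOn g U U'' ((le_of_eq e).trans h') F p x := by
  subst e
  exact resLE_refl _ _ p _

end Refl

end Groth.Agent.Lib.Helper21.GBC12
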