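import Mathlib
import Groth.Agent.Lib.Helper21BC0Cx

/-!
# General base change, part 13: the universal Mumford complex after base change, in every degree
(helper21)

* `eqv`: `(A ⊗_R N) ⊗_A M' ≃ M' ⊗_R N`, naturally in `N`;
* `univ_quasiIsoAt`: a universally quasi-isomorphic map stays universally quasi-isomorphic after
  extension of scalars;
* `main_natural_chain_bcT`: Mumford's complex `P` of `C`, with `T^p(C ⊗ A) ≅ T_{-p}(P ⊗ A)` as
  functors on `A`-modules for every `R`-algebra `A`.
-/
set_option autoImplicit false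
set_option linter.style.haveILetI false
universe u
open CategoryTheory CategoryTheory.Limits MonoidalCategory TensorProduct
attribute [local instance] HasDerivedCategory.standard

namespace Groth.Agent.Lib.Helper21.GBC13

open DerivedCategory Pretriangulated Groth.Agent.Lib.Helper1.Tor Groth.Agent.Lib.Helper21.MumB
  Groth.Agent.Lib.Helper21.MumC Groth.Agent.Lib.Helper21.TFunE Groth.Agent.Lib.Helper21.TFunF
  Groth.Agent.Lib.Helper21.FibB Groth.Agent.Lib.Helper21.ExtMap Groth.Agent.Lib.Helper1.LocalCx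
  Groth.Agent.Lib.Helper1.LDer

section ladder
variable {X₁ X₂ X₃ Y₁ Y₂ Y₃ : Type*} [AddCommGroup X₁] [AddCommGroup X₂] [AddCommGroup X₃]
  [AddCommGroup Y₁] [AddCommGroup Y₂] [AddCommGroup Y₃]

/-- exactness is invariant under a ladder of additive equivalences -/
lemma exact_iff_of_ladder (e₁ : X₁ ≃+ Y₁) (e₂ : X₂ ≃+ Y₂) (e₃ : X₃ ≃+ Y₃)
    (f₁ : X₁ → X₂) (f₂ : X₂ → X₃) (g₁ : Y₁ → Y₂) (g₂ : Y₂ → Y₃)
    (c₁ : ∀ x, e₂ (f₁ x) = g₁ (e₁ x)) (c₂ : ∀ x, e₃ (f₂ x) = g₂ (e₂ x)) :
    Function.Exact f₁ f₂ ↔ Function.Exact g₁ g₂ := by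
  constructor
  · intro h y
    constructor
    · intro hy
      have h1 : f₂ (e₂.symm y) = 0 := by
        apply e₃.injective
        rw [c₂, AddEquiv.apply_symm_apply, hy, map_zero]
      obtain ⟨x, hx⟩ := (h _).1 h1
      refine ⟨e₁ x, ?_⟩
      rw [← c₁, hx, AddEquiv.apply_symm_apply]
    · rintro ⟨x, rfl⟩
      obtain ⟨x', rfl⟩ := e₁.surjective x
      rw [← c₁, ← c₂]
      have : f₂ (f₁ x') = 0 := (h _).2 ⟨x', rfl⟩
      rw [this, map_zero]
  · intro h y
    constructor
    · intro hy
      have h1 : g₂ (e₂ y) = 0 := by rw [← c₂, hy, map_zero]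
      obtain ⟨x, hx⟩ := (h _).1 h1
      refine ⟨e₁.symm x, ?_⟩
      apply e₂.injective
      rw [c₁, AddEquiv.apply_symm_apply, hx]
    · rintro ⟨x, rfl⟩
      apply e₃.injective
      rw [c₂, c₁, map_zero]
      exact (h _).2 ⟨_, rfl⟩

end ladder

section eqv
variable {R : Type u} [CommRing R] (A : Type u) [CommRing A] [Algebra R A]
  (M' : Type u) [AddCommGroup M'] [Module A M'] [Module R M'] [IsScalarTower R A M']

/-- `(A ⊗_R N) ⊗_A M' ≃ M' ⊗_R N` -/
noncomputable def eqv (N : ModuleCat.{u} R) :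
    (((ModuleCat.extendScalars.{u, u, u} (algebraMap R A)).obj N : ModuleCat.{u} A) ⊗[A] M') ≃ₗ[A]
      M' ⊗[R] N :=
  (LinearEquiv.rTensor M' (Groth.Agent.S2380.bridge R A N)) ≪≫ₗ
    (TensorProduct.comm A (A ⊗[R] N) M') ≪≫ₗ
    (TensorProduct.AlgebraTensorModule.cancelBaseChange R A A M' N)

lemma eqv_tmul (N : ModuleCat.{u} R)
    (x : ((ModuleCat.extendScalars.{u, u, u} (algebraMap R A)).obj N : ModuleCat.{u} A)) (m : M') :
    eqv A M' N (x ⊗ₜ[A] m) =
      TensorProduct.AlgebraTensorModule.cancelBaseChange R A A M' N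
        (m ⊗ₜ[A] Groth.Agent.S2380.bridge R A N x) := rfl

lemma cancel_natural {N N' : ModuleCat.{u} R} (g : N ⟶ N') (m : M') (y : A ⊗[R] N) :
    TensorProduct.AlgebraTensorModule.cancelBaseChange R A A M' N'
        (m ⊗ₜ[A] (g.hom.baseChange A y)) =
      g.hom.lTensor M'
        (TensorProduct.AlgebraTensorModule.cancelBaseChange R A A M' N (m ⊗ₜ[A] y)) := by
  induction y using TensorProduct.induction_on with
  | zero => simp
  | tmul a n =>
    rw [LinearMap.baseChange_tmul, TensorProduct.AlgebraTensorModule.cancelBaseChange_tmul,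
      TensorProduct.AlgebraTensorModule.cancelBaseChange_tmul, LinearMap.lTensor_tmul]
  | add a b ha hb =>
    rw [map_add, TensorProduct.tmul_add, map_add, ha, hb, TensorProduct.tmul_add, map_add, map_add]

/-- naturality of `eqv` -/
lemma eqv_natural {N N' : ModuleCat.{u} R} (g : N ⟶ N')
    (z : ((ModuleCat.extendScalars.{u, u, u} (algebraMap R A)).obj N : ModuleCat.{u} A) ⊗[A] M') :
    eqv A M' N' (((ModuleCat.extendScalars.{u, u, u} (algebraMap R A)).map g).hom.rTensor M' z) =
      g.hom.lTensor M' (eqv A M' N z) := by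
  induction z using TensorProduct.induction_on with
  | zero => simp
  | tmul x m =>
    rw [LinearMap.rTensor_tmul, eqv_tmul, eqv_tmul, Groth.Agent.S2380.bridge_naturality]
    exact cancel_natural A M' g m _
  | add a b ha hb => rw [map_add, map_add, ha, hb, map_add, map_add]

end eqv

section univ
variable {R : Type u} [CommRing R] (A : Type u) [CommRing A] [Algebra R A]

/-- exactness of `(E ⊗_R A) ⊗_A M'` in terms of `M' ⊗_R E` -/
lemma exactAt_tensor_bc_iff (M' : ModuleCat.{u} A) (E : DRing.Cx R) (j : ℤ) :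
    (((tensorRight M').mapHomologicalComplex (ComplexShape.up ℤ)).obj
      (((ModuleCat.extendScalars.{u, u, u} (algebraMap R A)).mapHomologicalComplex
        (ComplexShape.up ℤ)).obj E)).ExactAt j ↔
      ((TC ((ModuleCat.restrictScalars.{u} (algebraMap R A)).obj M')).obj E).ExactAt j := by
  rw [exactAt_TC_iff _ E (j - 1) j (j + 1) (by lia) rfl,
    exactAt_iff_fexact (R := A) _ (j - 1) j (j + 1) (by lia) rfl]
  letI : Module R M' := Module.compHom M' (algebraMap R A)
  haveI : IsScalarTower R A M' := ⟨fun r a m => by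
    change (r • a) • m = algebraMap R A r • (a • m)
    rw [Algebra.smul_def, mul_smul]⟩
  exact exact_iff_of_ladder (eqv A M' (E.X (j - 1))).toAddEquiv (eqv A M' (E.X j)).toAddEquiv
    (eqv A M' (E.X (j + 1))).toAddEquiv _ _ _ _
    (fun x => eqv_natural A M' (E.d (j - 1) j) x) (fun x => eqv_natural A M' (E.d j (j + 1)) x)

/-- **a universally quasi-isomorphic map stays universally quasi-isomorphic after extension of
scalars** -/
theorem univ_quasiIsoAt {L K : DRing.Cx R} (ψ : L ⟶ K)
    (hψ : ∀ M : ModuleCat.{u} R, IsIso (Q.map ((TC M).map ψ)))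
    (M' : ModuleCat.{u} A) (j : ℤ) :
    QuasiIsoAt (((tensorRight M').mapHomologicalComplex (ComplexShape.up ℤ)).map
      (((ModuleCat.extendScalars.{u, u, u} (algebraMap R A)).mapHomologicalComplex
        (ComplexShape.up ℤ)).map ψ)) j := by
  let G := ModuleCat.extendScalars.{u, u, u} (algebraMap R A)
  let MB : ModuleCat.{u} R := (ModuleCat.restrictScalars.{u} (algebraMap R A)).obj M'
  have h1 := hψ MB
  have hT := DerivedCategory.mappingCone_triangle_distinguished ((TC MB).map ψ)
  have hz : IsZero (Q.obj (CochainComplex.mappingCone ((TC MB).map ψ))) :=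
    (Triangle.isZero₃_iff_isIso₁ _ hT).2 h1
  have hex : ∀ j : ℤ, (CochainComplex.mappingCone ((TC MB).map ψ)).ExactAt j :=
    Groth.Agent.Lib.Helper1.Tor.exactAt_of_isZero_Q _ hz
  have e := CochainComplex.mappingCone.mapHomologicalComplexIso ψ (T MB)
  have hex2 : ∀ j : ℤ, ((TC MB).obj (CochainComplex.mappingCone ψ)).ExactAt j :=
    fun j => (hex j).of_iso e.symm
  have hex3 : ∀ j : ℤ, (((tensorRight M').mapHomologicalComplex (ComplexShape.up ℤ)).obj
      ((G.mapHomologicalComplex (ComplexShape.up ℤ)).obj (CochainComplex.mappingCone ψ))).ExactAt j :=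
    fun j => (exactAt_tensor_bc_iff A M' _ j).2 (hex2 j)
  have e' := CochainComplex.mappingCone.mapHomologicalComplexIso ψ G
  have e'' := CochainComplex.mappingCone.mapHomologicalComplexIso
    ((G.mapHomologicalComplex (ComplexShape.up ℤ)).map ψ) (tensorRight M')
  have hex4 : ∀ j : ℤ, (CochainComplex.mappingCone
      (((tensorRight M').mapHomologicalComplex (ComplexShape.up ℤ)).map
        ((G.mapHomologicalComplex (ComplexShape.up ℤ)).map ψ))).ExactAt j :=
    fun j => (hex3 j).of_iso
      ((((tensorRight M').mapHomologicalComplex (ComplexShape.up ℤ)).mapIso e') ≪≫ e'')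
  have hz4 := Groth.Agent.Lib.Helper1.Tor.isZero_Q_of_exactAt _ hex4
  have hT' := DerivedCategory.mappingCone_triangle_distinguished
    (((tensorRight M').mapHomologicalComplex (ComplexShape.up ℤ)).map
      ((G.mapHomologicalComplex (ComplexShape.up ℤ)).map ψ))
  have h5 := (Triangle.isZero₃_iff_isIso₁ _ hT').1 hz4
  have h6 : QuasiIso (((tensorRight M').mapHomologicalComplex (ComplexShape.up ℤ)).map
      ((G.mapHomologicalComplex (ComplexShape.up ℤ)).map ψ)) :=
    (DerivedCategory.isIso_Q_map_iff_quasiIso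
      (φ := ((tensorRight M').mapHomologicalComplex (ComplexShape.up ℤ)).map
        ((G.mapHomologicalComplex (ComplexShape.up ℤ)).map ψ))).1 h5
  exact h6.quasiIsoAt j

end univ

section main
variable {R : Type u} [CommRing R] (C : CochainComplex (ModuleCat.{u} R) ℕ)

/-- restriction to chain complexes commutes with extension of scalars -/
noncomputable def toChainBcIso (A : Type u) [CommRing A] [Algebra R A] (L : DRing.Cx R) :
    toChain (((ModuleCat.extendScalars.{u, u, u} (algebraMap R A)).mapHomologicalComplex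
      (ComplexShape.up ℤ)).obj L) ≅ CohIII.bcCx (algebraMap R A) (toChain L) :=
  HomologicalComplex.Hom.isoOfComponents (fun _ => Iso.refl _) (by
    intro i j _
    exact (Category.id_comp _).trans (Category.comp_id _).symm)

/-- **Mumford's lemma**, natural in the module and compatible with base change, in every degree:
for every `R`-algebra `A` the functors `T^p(C ⊗ A)` and `T_{-p}(P ⊗ A)` on `A`-modules are
isomorphic. -/
theorem main_natural_chain_bcT [IsNoetherianRing R] (hflat : ∀ n, Module.Flat R (C.X n))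
    (hfin : ∀ p, Module.Finite R (C.homology p))
    (N : ℕ) (hN : ∀ (M : ModuleCat.{u} R) (p : ℕ), N ≤ p → (TL M C).ExactAt p) :
    ∃ P : ChainComplex (ModuleCat.{u} R) ℤ,
      (∀ i, Module.Finite R (P.X i) ∧ Module.Projective R (P.X i)) ∧
      (∀ i : ℤ, 0 < i ∨ i < -(N : ℤ) → IsZero (P.X i)) ∧
      (∀ p : ℕ, Nonempty (CohIII.TFun C p ≅ CohIII.TFun P (-(p : ℤ)))) ∧
      (∀ (B : Type u) [CommRing B] [Algebra R B] (p : ℕ),
        Nonempty ((CohIII.bcCx (algebraMap R B) C).homology p ≅
          (CohIII.bcCx (algebraMap R B) P).homology (-(p : ℤ)))) ∧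
      ∀ (A : Type u) [CommRing A] [Algebra R A] (p : ℕ),
        Nonempty (CohIII.TFun (CohIII.bcCx (algebraMap R A) C) p ≅
          CohIII.TFun (CohIII.bcCx (algebraMap R A) P) (-(p : ℤ))) := by
  have hb : ∀ p : ℕ, (N : ℤ) < (p : ℤ) → C.ExactAt p := fun p hp => by
    have h := hN (ModuleCat.of R R) p (by exact_mod_cast hp.le)
    have e1 : TL (ModuleCat.of R R) C ≅
        ((𝟭 (ModuleCat.{u} R)).mapHomologicalComplex (ComplexShape.up ℕ)).obj C :=
      (NatIso.mapHomologicalComplex (MonoidalCategory.leftUnitorNatIso (ModuleCat.{u} R))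
        (ComplexShape.up ℕ)).app C
    have e2 : ((𝟭 (ModuleCat.{u} R)).mapHomologicalComplex (ComplexShape.up ℕ)).obj C ≅ C :=
      HomologicalComplex.Hom.isoOfComponents (fun i => Iso.refl _) (by
        intro i j _
        exact (Category.id_comp _).trans (Category.comp_id _).symm)
    exact h.of_iso (e1 ≪≫ e2)
  obtain ⟨L, ψ, hL, hLf, hψ⟩ := exists_perfect_univ (CZ C) (termwiseFlat_CZ C hflat)
    (finite_homology_CZ C hfin) ((N : ℤ) - 1)
    (fun M j hj => by
      obtain ⟨n, rfl⟩ := Int.eq_ofNat_of_zero_le (show 0 ≤ j by lia)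
      exact (exactAt_TC_CZ_iff C M n).2 (hN M n (by lia)))
    0 (N : ℤ)
    (fun j hj => by
      by_cases h0 : 0 ≤ j
      · obtain ⟨n, rfl⟩ := Int.eq_ofNat_of_zero_le h0
        exact (exactAt_CZ_iff C n).2 (hb n hj)
      · exact exactAt_CZ_neg C j (by lia))
    (fun m _ j hj => by
      by_cases h0 : 0 ≤ j
      · obtain ⟨n, rfl⟩ := Int.eq_ofNat_of_zero_le h0
        exact absurd hj (by lia)
      · exact exactAt_TC_CZ_neg C _ j (by lia))
  refine ⟨toChain L, fun i => hLf (-i), fun i hi => hL (-i) (by lia), fun p => ?_,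
    fun B _ _ p => ?_, fun A _ _ p => ?_⟩
  · have hq : ∀ M : ModuleCat.{u} R,
        QuasiIsoAt (((tensorRight M).mapHomologicalComplex (ComplexShape.up ℤ)).map ψ) (p : ℤ) := by
      intro M
      have := hψ M
      have hq : QuasiIso ((Groth.Agent.Lib.Helper1.Tor.TC M).map ψ) :=
        (DerivedCategory.isIso_Q_map_iff_quasiIso
          (φ := (Groth.Agent.Lib.Helper1.Tor.TC M).map ψ)).1 this
      exact quasiIsoAt_tensorRight ψ M (p : ℤ) (hq.quasiIsoAt _)
    exact ⟨(TFunExtendIso eN C (rfl : eN.f p = (p : ℤ))).symm ≪≫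
      (TFunIsoOfQuasiIsoAt ψ (p : ℤ) hq).symm ≪≫ (TFunToChainIso L (p : ℤ)).symm⟩
  · let G := ModuleCat.extendScalars.{u, u, u} (algebraMap R B)
    have hq := quasiIso_bc ψ hψ B
    have hq' : QuasiIsoAt ((G.mapHomologicalComplex (ComplexShape.up ℤ)).map ψ) (p : ℤ) :=
      hq.quasiIsoAt _
    have e1 : ((G.mapHomologicalComplex (ComplexShape.up ℤ)).obj (CZ C)).homology (p : ℤ) ≅
        ((G.mapHomologicalComplex (ComplexShape.up ℕ)).obj C).homology p :=
      (HomologicalComplex.homologyFunctor _ _ (p : ℤ)).mapIso (mapExtendIso eN G C) ≪≫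
        ((G.mapHomologicalComplex (ComplexShape.up ℕ)).obj C).extendHomologyIso eN
          (rfl : eN.f p = (p : ℤ))
    have e2 : ((G.mapHomologicalComplex (ComplexShape.up ℤ)).obj L).homology (p : ℤ) ≅
        ((G.mapHomologicalComplex (ComplexShape.up ℤ)).obj (CZ C)).homology (p : ℤ) :=
      isoOfQuasiIsoAt ((G.mapHomologicalComplex (ComplexShape.up ℤ)).map ψ) (p : ℤ)
    have e3 : (CohIII.bcCx (algebraMap R B) (toChain L)).homology (-(p : ℤ)) ≅
        ((G.mapHomologicalComplex (ComplexShape.up ℤ)).obj L).homology (p : ℤ) :=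
      (restrictionHomologyNatIso (A := B) ComplexShape.embeddingDownIntUpInt
        (-(p : ℤ) + 1) (-(p : ℤ)) (-(p : ℤ) - 1) (by simp) (by simp)
        (by simp [ComplexShape.embeddingDownIntUpInt]; ring)
        (by simp [ComplexShape.embeddingDownIntUpInt]; ring)).app
          ((G.mapHomologicalComplex (ComplexShape.up ℤ)).obj L) ≪≫
      eqToIso (by simp [ComplexShape.embeddingDownIntUpInt])
    exact ⟨e1.symm ≪≫ e2.symm ≪≫ e3.symm⟩
  · let G := ModuleCat.extendScalars.{u, u, u} (algebraMap R A)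
    have hq : ∀ M' : ModuleCat.{u} A,
        QuasiIsoAt (((tensorRight M').mapHomologicalComplex (ComplexShape.up ℤ)).map
          ((G.mapHomologicalComplex (ComplexShape.up ℤ)).map ψ)) (p : ℤ) :=
      fun M' => univ_quasiIsoAt A ψ hψ M' (p : ℤ)
    exact ⟨(TFunExtendIso eN ((G.mapHomologicalComplex (ComplexShape.up ℕ)).obj C)
        (rfl : eN.f p = (p : ℤ))).symm ≪≫
      (TFunIsoOfIso (mapExtendIso eN G C) (p : ℤ)).symm ≪≫
      (TFunIsoOfQuasiIsoAt ((G.mapHomologicalComplex (ComplexShape.up ℤ)).map ψ) (p : ℤ) hq).symm ≪≫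
      (TFunToChainIso ((G.mapHomologicalComplex (ComplexShape.up ℤ)).obj L) (p : ℤ)).symm ≪≫
      TFunIsoOfIso (toChainBcIso A L) (-(p : ℤ))⟩

end main

end Groth.Agent.Lib.Helper21.GBC13
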