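import Groth.Agent.Lib.Helper21GBC13
import Groth.Agent.Lib.Helper21BC0MainC

/-!
# General base change, part 14: the local universal complex in every degree (helper21)

* `exists_univ_complexT`: the universal Mumford complex `P` over a Noetherian ring `A`, together with a
  finite affine cover `U` such that `T^p(C(U, F) ⊗ A') ≅ T_{-p}(P ⊗ A')` for every `A`-algebra `A'`;
* `Model.exists_complexT`, `exists_local_complexT`: the same over an affine open of the base of a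
  proper morphism of finite presentation.
-/

set_option autoImplicit false
set_option linter.style.haveILetI false
universe u
open CategoryTheory CategoryTheory.Limits AlgebraicGeometry MonoidalCategory Opposite TensorProduct

namespace Groth.Agent.Lib.Helper21.GBC14

open Groth.Agent.Lib.Helper16.CechLow Groth.Agent.Lib.Helper21.CechMod
  Groth.Agent.Lib.Helper21.CechBC Groth.Agent.Lib.Helper21.MumC Groth.Agent.Lib.Helper21.MumD
  Groth.Agent.Lib.Helper21.TFunG Groth.Agent.Lib.Helper21.FibA Groth.Agent.Lib.Helper21.FibB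
  Groth.Agent.Lib.Helper21.FibC Groth.Agent.Lib.Helper21.GBC13 Groth.Agent.Lib.Helper21.TFunE

section univ
variable (A : Type u) [CommRing A] {X : Scheme.{u}} [X.Over (Spec (CommRingCat.of A))]
  (F : X.Modules)

/-- **The universal Mumford complex** over a Noetherian ring, together with a finite affine cover
`U` of `X` such that after every base change `A → A'` the functors `T^p` of `C(U, F) ⊗ A'` and
`T_{-p}` of `P ⊗ A'` are isomorphic. -/
theorem exists_univ_complexT [IsNoetherianRing A] [IsProper (X ↘ Spec (CommRingCat.of A))]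
    (hF : Coh.IsCoh F) (hfl : FlatMod.IsFlatOver (X ↘ Spec (CommRingCat.of A)) F) :
    ∃ (ι : Type u) (_ : Finite ι) (U : ι → X.Opens), (⨆ i, U i = ⊤) ∧
      (∀ s : Finset ι, s.Nonempty → IsAffineOpen (⨅ i ∈ s, U i)) ∧
    ∃ P : ChainComplex (ModuleCat.{u} A) ℤ,
      (∀ i, Module.Finite A (P.X i) ∧ Module.Projective A (P.X i)) ∧
      (∃ N : ℕ, ∀ i : ℤ, 0 < i ∨ i < -(N : ℤ) → IsZero (P.X i)) ∧
      (∀ (p : ℕ) (y : ↑(Spec (CommRingCat.of A))),
        CohIII.fiberRank (X ↘ Spec (CommRingCat.of A)) F p y = CohIII.dRank P (-(p : ℤ)) y) ∧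
      (∀ (B : Type u) [CommRing B] [Algebra A B] (X' : Scheme.{u})
        [X'.Over (Spec (CommRingCat.of B))] (g' : X' ⟶ X)
        (_ : IsPullback g' (X' ↘ Spec (CommRingCat.of B)) (X ↘ Spec (CommRingCat.of A))
          (Spec.map (CommRingCat.ofHom (algebraMap A B)))) (p : ℕ),
        Nonempty (Coh.HH X' ((Scheme.Modules.pullback g').obj F) p ≃ₗ[B]
          ↑((CohIII.bcCx (algebraMap A B) P).homology (-(p : ℤ))))) ∧
      ∀ (A' : Type u) [CommRing A'] [Algebra A A'] (p : ℕ),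
        Nonempty (CohIII.TFun (CohIII.bcCx (algebraMap A A') (CA A F U)) p ≅
          CohIII.TFun (CohIII.bcCx (algebraMap A A') P) (-(p : ℤ))) := by
  haveI : F.IsQuasicoherent := hF.1
  haveI : CompactSpace X :=
    QuasiCompact.compactSpace_of_compactSpace (X ↘ Spec (CommRingCat.of A))
  obtain ⟨ι, hfin, U, hcov, hU1, hU⟩ := exists_cover A X
  have hflat : ∀ n, Module.Flat A ((CA A F U).X n) :=
    fun n => flat_CX A F U hfl (isAffineOpen_Ux U hU) n
  have hfinH : ∀ p, Module.Finite A ((CA A F U).homology p) := fun p => by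
    obtain ⟨e⟩ := nonempty_linearEquiv_homology A F U hcov hU p
    have := Groth.Agent.S0002.result A X F hF p
    exact Module.Finite.equiv e
  have hN : ∀ (M : ModuleCat.{u} A) (p : ℕ), Nat.card ι ≤ p → (TL M (CA A F U)).ExactAt p :=
    fun M p hp => exactAt_TL_of_le A F U hcov hU hU1 M p hp
  obtain ⟨P, hP, hPb, hiso, hbc, hT⟩ :=
    main_natural_chain_bcT (CA A F U) hflat hfinH (Nat.card ι) hN
  refine ⟨ι, hfin, U, hcov, hU, P, hP, ⟨Nat.card ι, hPb⟩, fun p y => ?_,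
    fun B _ _ X' _ g' h p => ?_, hT⟩
  · exact fiberRank_eq A F y U hcov hU P p (hbc y.asIdeal.ResidueField p)
  · obtain ⟨e1⟩ := nonempty_linearEquiv_homology_bc A B g' h F U hcov hU p
    obtain ⟨e2⟩ := hbc B p
    exact ⟨e1.trans e2.toLinearEquiv⟩

end univ

section model
open Groth.Agent.Lib.Helper21.NNBC Groth.Agent.Lib.Helper21.TFunB
  Groth.Agent.Lib.Helper21.Semicont Groth.Agent.Lib.Helper21.TBridge
  Groth.Agent.Lib.Helper17.StalkBC Groth.Agent.Lib.Helper21.BC0Geo Groth.Agent.Lib.Helper6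
  Groth.Agent.Lib.Helper21.BC0Main

variable {X S : Scheme.{u}} {f : X ⟶ S} {F : X.Modules} {U : S.Opens} {hU : IsAffineOpen U}

/-- **Lemma H in every degree**: the universal complex of a model computes the cohomology of every
base change, and the functors `T^p` of the Čech complex of `F` over `f⁻¹U` are those of `P ⊗ Γ(S,U)`. -/
theorem Model.exists_complexT [QuasiCompact f] [QuasiSeparated f] [F.IsQuasicoherent]
    (M : Model f F hU) :
    ∃ P : ChainComplex (ModuleCat.{u} M.A₀) ℤ,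
      (∀ i, Module.Finite M.A₀ (P.X i) ∧ Module.Projective M.A₀ (P.X i)) ∧
      (∃ N : ℕ, ∀ i : ℤ, 0 < i ∨ i < -(N : ℤ) → IsZero (P.X i)) ∧
      (∀ (B : CommRingCat.{u}) (ψ : Γ(S, U) ⟶ B) (X' : Scheme.{u}) (f' : X' ⟶ Spec B)
        (g' : X' ⟶ X) (_ : IsPullback g' f' f (Spec.map ψ ≫ hU.fromSpec)),
        (∀ (q : Spec B) (p : ℕ),
          CohIII.dRank P (-(p : ℤ)) (Spec.map (M.φ ≫ ψ) q) =
            PerfAux.betti f F ((Spec.map ψ ≫ hU.fromSpec) q) p) ∧
        ∀ p : ℕ,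
          letI : X'.Over (Spec (CommRingCat.of B)) := ⟨f'⟩
          Nonempty (Coh.HH X' ((Scheme.Modules.pullback g').obj F) p ≃ₗ[B]
            ↑((CohIII.bcCx (M.φ ≫ ψ).hom P).homology (-(p : ℤ))))) ∧
      ∃ (ι : Type u) (_ : Finite ι) (V : ι → (f ⁻¹ᵁ U : Scheme.{u}).Opens), (⨆ i, V i = ⊤) ∧
        (∀ s : Finset ι, s.Nonempty → IsAffineOpen (⨅ i ∈ s, V i)) ∧
        letI := overRes f hU
        ∀ p : ℕ, Nonempty
          (CohIII.TFun (CA Γ(S, U) ((Scheme.Modules.restrictFunctor (f ⁻¹ᵁ U).ι).obj F) V) p ≅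
            CohIII.TFun (CohIII.bcCx M.φ.hom P) (-(p : ℤ))) := by
  haveI := M.noeth
  haveI := M.proper
  haveI : M.F₀.IsQuasicoherent := M.coh.1
  letI : M.X₀.Over (Spec (CommRingCat.of M.A₀)) := ⟨M.f₀⟩
  haveI : IsProper (M.X₀ ↘ Spec (CommRingCat.of M.A₀)) := M.proper
  obtain ⟨ι, hfin, U₀, hcov₀, hU₀, P, hP, hN, hrk, huniv, hT⟩ :=
    exists_univ_complexT M.A₀ M.F₀ M.coh M.flat
  refine ⟨P, hP, hN, fun B ψ X' f' g' hsq => ?_, ?_⟩
  · obtain ⟨g₂, h1, hleft⟩ := exists_lift_hRes B ψ f' g' hsq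
    have hsq3 : IsPullback (g₂ ≫ M.q₀) f' M.f₀ (Spec.map (M.φ ≫ ψ)) := by
      rw [Spec.map_comp]
      exact hleft.paste_horiz M.sq
    let e : (Scheme.Modules.pullback g').obj F ≅ (Scheme.Modules.pullback (g₂ ≫ M.q₀)).obj M.F₀ :=
      (Scheme.Modules.pullbackCongr h1.symm).app F ≪≫
        ((Scheme.Modules.pullbackComp g₂ (f ⁻¹ᵁ U).ι).app F).symm ≪≫
        (Scheme.Modules.pullback g₂).mapIso M.iso ≪≫
        (Scheme.Modules.pullbackComp g₂ M.q₀).app M.F₀
    refine ⟨fun q p => ?_, fun p => ?_⟩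
    · have r1 := hrk p (Spec.map (M.φ ≫ ψ) q)
      have r2 := betti_baseChange M.f₀ (Spec.map (M.φ ≫ ψ)) (g₂ ≫ M.q₀) f' hsq3 M.F₀ q p
      have r3 := betti_congr_iso f' e q p
      have r4 := betti_baseChange f (Spec.map ψ ≫ hU.fromSpec) g' f' hsq F q p
      rw [← r4, r3, r2]
      exact r1.symm
    · letI : X'.Over (Spec (CommRingCat.of B)) := ⟨f'⟩
      letI : Algebra M.A₀ B := (M.φ ≫ ψ).hom.toAlgebra
      obtain ⟨e1⟩ := huniv B X' (g₂ ≫ M.q₀) hsq3 p
      exact ⟨(Groth.Agent.Lib.Helper17.StalkBC.hhEquiv B e p).trans e1⟩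
  · letI := overRes f hU
    letI : Algebra M.A₀ Γ(S, U) := M.φ.hom.toAlgebra
    have hsq : IsPullback M.q₀ ((f ⁻¹ᵁ U : Scheme.{u}) ↘ Spec (CommRingCat.of Γ(S, U)))
        (M.X₀ ↘ Spec (CommRingCat.of M.A₀))
        (Spec.map (CommRingCat.ofHom (algebraMap M.A₀ Γ(S, U)))) := M.sq
    let V : ι → (f ⁻¹ᵁ U : Scheme.{u}).Opens := Up M.q₀ U₀
    have hcovV : ⨆ i, V i = ⊤ := by
      change ⨆ i, M.q₀ ⁻¹ᵁ U₀ i = ⊤
      rw [← Scheme.Hom.preimage_iSup, hcov₀]
      rfl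
    have hV : ∀ s : Finset ι, s.Nonempty → IsAffineOpen (⨅ i ∈ s, V i) := by
      intro s hs
      have := preimage_biInf M.q₀ U₀ s
      rw [this]
      exact isAffineOpen_preimage M.A₀ Γ(S, U) M.q₀ hsq _ (hU₀ s hs)
    refine ⟨ι, hfin, V, hcovV, hV, fun p => ?_⟩
    let Θ : CA Γ(S, U) ((Scheme.Modules.restrictFunctor (f ⁻¹ᵁ U).ι).obj F) V ≅
        CA Γ(S, U) (Fp M.q₀ M.F₀) V :=
      (CAF Γ(S, U) V).mapIso
        ((Scheme.Modules.restrictFunctorIsoPullback (f ⁻¹ᵁ U).ι).app F ≪≫ M.iso)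
    obtain ⟨e⟩ := hT Γ(S, U) p
    exact ⟨TFunIsoOfIso Θ p ≪≫
      (TFunIsoOfIso (ΦB M.A₀ Γ(S, U) M.q₀ hsq M.F₀ U₀ (isAffineOpen_Ux U₀ hU₀)) p).symm ≪≫ e⟩

end model

end Groth.Agent.Lib.Helper21.GBC14
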