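import Groth.Agent.Lib.Helper21GBC12
import Groth.Agent.Lib.Helper21GBC14
import Groth.Agent.Lib.Helper21GBCAlg
import Groth.Agent.Lib.Helper21TFunC

/-!
# General base change, part 15: the base change maps against the local universal complex (helper21)
-/

set_option autoImplicit false
set_option linter.style.haveILetI false
universe u
open CategoryTheory CategoryTheory.Limits AlgebraicGeometry Opposite TopologicalSpace TensorProduct

namespace Groth.Agent.Lib.Helper21.GBC15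

open Groth.Agent.Lib.Helper16.TensorCmp Groth.Agent.Lib.Helper21.TFunI
  Groth.Agent.Lib.Helper21.TFunC Groth.Agent.Lib.Helper21.BC0Alg

section transfer
variable {A : Type u} [CommRing A] (T T' : ModuleCat.{u} A ⥤ ModuleCat.{u} A)
  [T.Additive] [T.Linear A] [T'.Additive] [T'.Linear A]

/-- the comparison maps of isomorphic functors are simultaneously bijective (surjective) -/
theorem tM_iff_of_natIso (Φ : T ≅ T') (M : ModuleCat.{u} A) :
    (Function.Bijective (tM T M) ↔ Function.Bijective (tM T' M)) ∧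
      (Function.Surjective (tM T M) ↔ Function.Surjective (tM T' M)) := by
  let a : T.obj M ≃ₗ[A] T'.obj M := (Φ.app M).toLinearEquiv
  let b : (T.obj (ModuleCat.of A A) ⊗[A] M) ≃ₗ[A] (T'.obj (ModuleCat.of A A) ⊗[A] M) :=
    LinearEquiv.rTensor M (Φ.app (ModuleCat.of A A)).toLinearEquiv
  have hc : ∀ z, a (tM T M z) = tM T' M (b z) := fun z => tM_natTrans T T' Φ.hom M z
  have e1 : (tM T' M : _ → _) = a ∘ (tM T M) ∘ b.symm := by
    funext z
    change _ = a (tM T M (b.symm z))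
    rw [hc, LinearEquiv.apply_symm_apply]
  have e2 : (tM T M : _ → _) = a.symm ∘ (tM T' M) ∘ b := by
    funext z
    change _ = a.symm (tM T' M (b z))
    rw [← hc, LinearEquiv.symm_apply_apply]
  refine ⟨⟨fun hh => ?_, fun hh => ?_⟩, ⟨fun hh => ?_, fun hh => ?_⟩⟩
  · rw [e1]
    exact a.bijective.comp (hh.comp b.symm.bijective)
  · rw [e2]
    exact a.symm.bijective.comp (hh.comp b.bijective)
  · rw [e1]
    exact a.surjective.comp (hh.comp b.symm.surjective)
  · rw [e2]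
    exact a.symm.surjective.comp (hh.comp b.surjective)

end transfer

section main
open Groth.Agent.Lib.Helper17.StalkBC Groth.Agent.Lib.Helper21.CechMod
  Groth.Agent.Lib.Helper21.NNBC Groth.Agent.Lib.Helper21.AlgBC Groth.Agent.Lib.Helper21.BC0Main
  Groth.Agent.Lib.Helper21.GBC12 Groth.Agent.Lib.Helper21.GBC14 Groth.Agent.Lib.Helper21.GBCAlg

variable {X S : Scheme.{u}} (f : X ⟶ S) [IsProper f] [LocallyOfFinitePresentation f]
  [HasInjectiveResolutions X.Modules]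
  (F : X.Modules) (hF : CohB1.IsFP F) (hflat : FlatMod.IsFlatOver f F)

include hF hflat in
/-- **the local universal complex over an affine open `V` of the base, controlling the base change
maps in every degree** -/
theorem exists_local_complexT {V : S.Opens} (hV : IsAffineOpen V) :
    ∃ (A₀ : CommRingCat.{u}) (_ : IsNoetherianRing A₀) (φ : A₀ ⟶ Γ(S, V))
      (P : ChainComplex (ModuleCat.{u} A₀) ℤ),
      (∀ i, Module.Finite A₀ (P.X i) ∧ Module.Projective A₀ (P.X i)) ∧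
      (∃ N : ℕ, ∀ i : ℤ, 0 < i ∨ i < -(N : ℤ) → IsZero (P.X i)) ∧
      (∀ (q : Spec Γ(S, V)) (p : ℕ),
        CohIII.dRank P (-(p : ℤ)) (Spec.map φ q) = PerfAux.betti f F (hV.fromSpec q) p) ∧
      (∀ p : ℕ, Nonempty (Γ((Coh.Rpush f p).obj F, V) ≃ₗ[Γ(S, V)]
        ↑((CohIII.bcCx φ.hom P).homology (-(p : ℤ))))) ∧
      (∀ {W : S.Opens} (_ : IsAffineOpen W) (hle : W ≤ V) (p : ℕ),
        Nonempty (Γ((Coh.Rpush f p).obj F, W) ≃ₗ[Γ(S, W)]
          ↑((CohIII.bcCx (φ ≫ S.presheaf.map (homOfLE hle).op).hom P).homology (-(p : ℤ))))) ∧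
      ∀ {S' X' : Scheme.{u}} (g : S' ⟶ S) (g' : X' ⟶ X) (f' : X' ⟶ S')
        (h : IsPullback g' f' f g) [HasInjectiveResolutions X'.Modules]
        {Δ : RDer.DerivedLES (Scheme.Modules.pushforward f)}
        {Δ' : RDer.DerivedLES (Scheme.Modules.pushforward f')}
        (E : CohCmp.SectCmp f Δ) (E' : CohCmp.SectCmp f' Δ') (B : CohCmp.GenBC f g f' g' h.w E E')
        (p : ℕ) {V' : S'.Opens} (_ : IsAffineOpen V') (hle : V' ≤ g ⁻¹ᵁ V)
        (hWW : f' ⁻¹ᵁ V' ≤ g' ⁻¹ᵁ (f ⁻¹ᵁ V))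
        (_ : ∀ x : Coh.HHon X F (f ⁻¹ᵁ V) p,
          CohPull.resLE ((Scheme.Modules.pullback g').obj F) (f'.preimage_mono hle) p
            (CohPull.pullOn g' (f ⁻¹ᵁ V) (f' ⁻¹ᵁ (g ⁻¹ᵁ V)) (CohCmp.sqLE f g f' g' h.w V) F p x) =
          CohPull.pullOn g' (f ⁻¹ᵁ V) (f' ⁻¹ᵁ V') hWW F p x),
        letI : Algebra Γ(S, V) Γ(S', V') := (g.appLE V V' hle).hom.toAlgebra
        (Function.Bijective ((B.bc p F).app V').hom ↔
          Function.Bijective (tM (CohIII.TFun (CohIII.bcCx φ.hom P) (-(p : ℤ)))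
            (ModuleCat.of Γ(S, V) Γ(S', V')))) ∧
        (Function.Surjective ((B.bc p F).app V').hom ↔
          Function.Surjective (tM (CohIII.TFun (CohIII.bcCx φ.hom P) (-(p : ℤ)))
            (ModuleCat.of Γ(S, V) Γ(S', V')))) := by
  haveI hq : F.IsQuasicoherent := Groth.Agent.Helper18Strict.isQCoh_of_isFP F hF
  haveI : Coh.IsQCoh F := hq
  obtain ⟨M⟩ := nonempty_model f F hF hflat hV
  obtain ⟨P, hP, hN, huniv, ι, hfin, U, hcov, hU, hT⟩ := Model.exists_complexT M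
  have e0 : Spec.map (𝟙 Γ(S, V)) ≫ hV.fromSpec = hV.fromSpec := by
    rw [Spec.map_id]
    exact Category.id_comp _
  have hsq : IsPullback (f ⁻¹ᵁ V).ι (hRes f hV) f (Spec.map (𝟙 Γ(S, V)) ≫ hV.fromSpec) := by
    have key : ∀ t : Spec Γ(S, V) ⟶ S, hV.fromSpec = t →
        IsPullback (f ⁻¹ᵁ V).ι (hRes f hV) f t := by
      rintro t rfl
      exact isPullback_hRes f hV
    exact key _ e0.symm
  obtain ⟨hrk, hH⟩ := huniv Γ(S, V) (𝟙 _) _ (hRes f hV) (f ⁻¹ᵁ V).ι hsq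
  refine ⟨M.A₀, M.noeth, M.φ, P, hP, hN, fun q p => ?_, fun p => ?_, fun {W} hW hle p => ?_, ?_⟩
  · have h1 := hrk q p
    have h2 : (Spec.map (𝟙 Γ(S, V)) ≫ hV.fromSpec) q = hV.fromSpec q := by rw [e0]
    have h3 : M.φ ≫ 𝟙 Γ(S, V) = M.φ := Category.comp_id _
    rw [h2, h3] at h1
    exact h1
  · letI := overRes f hV
    obtain ⟨e1⟩ := nonempty_sections_linearEquiv f F hV p
    obtain ⟨e2⟩ := hH p
    let e3 := hhEquiv Γ(S, V) ((Scheme.Modules.restrictFunctorIsoPullback (f ⁻¹ᵁ V).ι).app F) p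
    have key : ∀ (σ : M.A₀ ⟶ Γ(S, V)), σ = M.φ →
        Nonempty (Γ((Coh.Rpush f p).obj F, V) ≃ₗ[Γ(S, V)]
          ↑((CohIII.bcCx σ.hom P).homology (-(p : ℤ)))) →
        Nonempty (Γ((Coh.Rpush f p).obj F, V) ≃ₗ[Γ(S, V)]
          ↑((CohIII.bcCx M.φ.hom P).homology (-(p : ℤ)))) := by
      rintro σ rfl h
      exact h
    exact key (M.φ ≫ 𝟙 _) (Category.comp_id _) ⟨e1.trans (e3.trans e2)⟩
  · have e0' : Spec.map (S.presheaf.map (homOfLE hle).op) ≫ hV.fromSpec = hW.fromSpec :=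
      hV.map_fromSpec hW (homOfLE hle).op
    have hsq' : IsPullback (f ⁻¹ᵁ W).ι (hRes f hW) f
        (Spec.map (S.presheaf.map (homOfLE hle).op) ≫ hV.fromSpec) := by
      have key : ∀ t : Spec Γ(S, W) ⟶ S, hW.fromSpec = t →
          IsPullback (f ⁻¹ᵁ W).ι (hRes f hW) f t := by
        rintro t rfl
        exact isPullback_hRes f hW
      exact key _ e0'.symm
    obtain ⟨-, hH'⟩ :=
      huniv Γ(S, W) (S.presheaf.map (homOfLE hle).op) _ (hRes f hW) (f ⁻¹ᵁ W).ι hsq'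
    letI := overRes f hW
    obtain ⟨e1⟩ := nonempty_sections_linearEquiv f F hW p
    obtain ⟨e2⟩ := hH' p
    let e3 := hhEquiv Γ(S, W) ((Scheme.Modules.restrictFunctorIsoPullback (f ⁻¹ᵁ W).ι).app F) p
    exact ⟨e1.trans (e3.trans e2)⟩
  · intro S' X' g g' f' h _ Δ Δ' E E' B p V' hV' hle hWW hW2
    letI := overRes f hV
    letI : Algebra Γ(S, V) Γ(S', V') := (g.appLE V V' hle).hom.toAlgebra
    haveI := hfin
    obtain ⟨Φ⟩ := hT p
    have k1 := bc_app_iff_tM f g g' f' h E E' B F p hV hV' hle U hcov hU hWW hW2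
    have k2 := tM_iff_of_natIso _ _ Φ (ModuleCat.of Γ(S, V) Γ(S', V'))
    exact ⟨k1.1.trans k2.1, k1.2.trans k2.2⟩

end main

end Groth.Agent.Lib.Helper21.GBC15
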