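import Groth.Agent.Lib.Helper21GBC15
import Groth.Agent.Lib.Helper21BC0Nhd

/-!
# General base change, part 16: kernel conditions and free loci of cokernels in every degree
(helper21)
-/

set_option autoImplicit false
set_option linter.style.haveILetI false
universe u
open CategoryTheory CategoryTheory.Limits AlgebraicGeometry Opposite TopologicalSpace TensorProduct

namespace Groth.Agent.Lib.Helper21.GBC16

open Groth.Agent.Lib.Helper21.BC0Alg Groth.Agent.Lib.Helper21.BC0Cx Groth.Agent.Lib.Helper21.BC0Free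
  Groth.Agent.Lib.Helper21.AlgBC Groth.Agent.Lib.Helper21.BC0Loc Groth.Agent.Lib.Helper3

section alg
variable {A : Type u} [CommRing A] (B : Type u) [CommRing B] [Algebra A B]
  (Q : ChainComplex (ModuleCat.{u} A) ℤ)

/-- the cokernel of a differential between finite modules with projective target is finitely
presented -/
theorem finitePresentation_opcycles' (j k : ℤ) (hj : (ComplexShape.down ℤ).prev k = j)
    [Module.Finite A (Q.X j)] [Module.Finite A (Q.X k)] [Module.Projective A (Q.X k)] :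
    Module.FinitePresentation A (Q.opcycles k) := by
  obtain ⟨hex, hsurj⟩ := exact_d_pOpcycles Q j k hj
  haveI := Module.finitePresentation_of_projective A (Q.X k)
  refine Module.finitePresentation_of_surjective (Q.pOpcycles k).hom hsurj ?_
  rw [hex.linearMap_ker_eq, LinearMap.range_eq_map]
  exact Module.Finite.fg_top.map _

/-- **the kernel condition over a flat localisation inside the free locus of the cokernel**, in
every degree -/
theorem kerBC_of_flat_of_freeLocus' (j k : ℤ) (hj : (ComplexShape.down ℤ).prev k = j)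
    [Module.Flat A B] [Module.Finite A (Q.X j)]
    [Module.Finite A (Q.X k)] [Module.Projective A (Q.X k)]
    (h : ∀ x : PrimeSpectrum B,
      PrimeSpectrum.comap (algebraMap A B) x ∈ Module.freeLocus A (Q.opcycles k))
    (B' : Type u) [CommRing B'] [Algebra B B'] [Algebra A B'] [IsScalarTower A B B'] :
    KerBC B' (Q.d j k).hom := by
  obtain ⟨hex, hsurj⟩ := exact_d_pOpcycles Q j k hj
  haveI : Module.FinitePresentation A (Q.opcycles k) := finitePresentation_opcycles' Q j k hj
  haveI := projective_baseChange_of_freeLocus B (Q.opcycles k) h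
  have hA : KerBC B (Q.d j k).hom := kerBC_of_flat B _
  refine ((kerBC_tower B B' (Q.d j k).hom hA).2).1 ?_
  have hsurj' : Function.Surjective ((Q.pOpcycles k).hom.baseChange B) := by
    intro y
    obtain ⟨z, hz⟩ := LinearMap.lTensor_surjective B hsurj y
    exact ⟨z, by rw [← hz]; exact congrFun (LinearMap.baseChange_eq_ltensor (A := B) _) z⟩
  have hex' : Function.Exact ((Q.d j k).hom.baseChange B)
      ((Q.pOpcycles k).hom.baseChange B) := by
    have h0 := lTensor_exact B hex hsurj
    intro y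
    have := h0 y
    constructor
    · intro hy
      obtain ⟨z, hz⟩ := this.1 (by
        rw [← hy]
        exact (congrFun (LinearMap.baseChange_eq_ltensor (A := B) _) y).symm)
      exact ⟨z, by rw [← hz]; exact congrFun (LinearMap.baseChange_eq_ltensor (A := B) _) z⟩
    · rintro ⟨z, rfl⟩
      have h1 := this.2 ⟨z, rfl⟩
      rw [← h1]
      rw [LinearMap.baseChange_eq_ltensor, LinearMap.baseChange_eq_ltensor]
  obtain ⟨r, hr⟩ := exists_genInv ((Q.d j k).hom.baseChange B)
    ((Q.pOpcycles k).hom.baseChange B) hsurj' hex'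
  exact kerBC_of_genInv _ r hr

/-- basic opens inside the free locus -/
theorem exists_basicOpen_le_freeLocus (W : Type u) [AddCommGroup W] [Module A W]
    [Module.FinitePresentation A W] (q : PrimeSpectrum A) (hq : q ∈ Module.freeLocus A W) :
    ∃ a : A, q ∈ PrimeSpectrum.basicOpen a ∧
      (PrimeSpectrum.basicOpen a : Set (PrimeSpectrum A)) ⊆ Module.freeLocus A W := by
  obtain ⟨_, ⟨_, ⟨a, rfl⟩, rfl⟩, hqa, hsub⟩ :=
    PrimeSpectrum.isBasis_basic_opens.exists_subset_of_mem_open hq
      (Module.isOpen_freeLocus (R := A) (M := W))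
  exact ⟨a, hqa, hsub⟩

/-- the primes of a localisation away from `a` lie in the basic open of `a` -/
theorem comap_mem_of_away (a : A) [IsLocalization.Away a B] (T : Set (PrimeSpectrum A))
    (ha : (PrimeSpectrum.basicOpen a : Set (PrimeSpectrum A)) ⊆ T) (x : PrimeSpectrum B) :
    PrimeSpectrum.comap (algebraMap A B) x ∈ T := by
  apply ha
  rw [← PrimeSpectrum.localization_away_comap_range B a]
  exact ⟨x, rfl⟩

end alg

section field
variable {A : Type u} [CommRing A] (K : Type u) [Field K] [Algebra A K]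
  (Q : ChainComplex (ModuleCat.{u} A) ℤ)

/-- **the kernel condition at a point of the free locus of the cokernel** -/
theorem kerBC_of_mem_freeLocus (j k : ℤ) (hj : (ComplexShape.down ℤ).prev k = j)
    [Module.Finite A (Q.X j)] [Module.Finite A (Q.X k)] [Module.Projective A (Q.X k)]
    (x : PrimeSpectrum K)
    (hx : PrimeSpectrum.comap (algebraMap A K) x ∈ Module.freeLocus A (Q.opcycles k)) :
    KerBC K (Q.d j k).hom := by
  haveI : Module.FinitePresentation A (Q.opcycles k) := finitePresentation_opcycles' Q j k hj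
  obtain ⟨a, hqa, ha⟩ := exists_basicOpen_le_freeLocus (Q.opcycles k) _ hx
  have hu : IsUnit (algebraMap A K a) := by
    rw [isUnit_iff_ne_zero]
    intro h0
    apply hqa
    rw [PrimeSpectrum.comap_asIdeal, Ideal.mem_comap, h0]
    exact Ideal.zero_mem _
  let B := Localization.Away a
  letI : Algebra B K := (IsLocalization.Away.lift (S := B) a hu).toAlgebra
  haveI : IsScalarTower A B K := IsScalarTower.of_algebraMap_eq (fun r => by
    change algebraMap A K r = IsLocalization.Away.lift (S := B) a hu (algebraMap A B r)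
    rw [IsLocalization.Away.lift_eq])
  haveI : Module.Flat A B := IsLocalization.flat B (Submonoid.powers a)
  exact kerBC_of_flat_of_freeLocus' B Q j k hj
    (comap_mem_of_away B a _ ha) K

/-- at a field-valued point, the kernel condition `KerSurj` holds iff the cokernel is free there -/
theorem kerSurj_iff_mem_freeLocus (j k : ℤ) (hj : (ComplexShape.down ℤ).prev k = j)
    [Module.Finite A (Q.X j)] [Module.Finite A (Q.X k)] [Module.Projective A (Q.X k)]
    (x : PrimeSpectrum K) :
    KerSurj K (Q.d j k).hom ↔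
      PrimeSpectrum.comap (algebraMap A K) x ∈ Module.freeLocus A (Q.opcycles k) := by
  obtain ⟨hex, hsurj⟩ := exact_d_pOpcycles Q j k hj
  exact ⟨fun h => mem_freeLocus_of_kerSurj (Q.d j k).hom (Q.pOpcycles k).hom hex hsurj h x,
    fun h => (kerBC_of_mem_freeLocus K Q j k hj x h).2⟩

end field

section spec
variable (R : CommRingCat.{u}) {M N : (Spec R).Modules} (ψ : M ⟶ N)

/-- on the spectrum of a ring, a map of quasi-coherent modules is an epimorphism iff it is
surjective on global sections -/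
theorem epi_iff_surjective_app_top [M.IsQuasicoherent] [N.IsQuasicoherent] :
    Epi ψ ↔ Function.Surjective (ψ.app ⊤).hom := by
  rw [Groth.Agent.Lib.Helper26.ModSec.spec_epi_iff R ψ, ModuleCat.epi_iff_surjective]
  rfl

end spec

section geo
open Groth.Agent.Lib.Helper16.TensorCmp Groth.Agent.Lib.Helper21.GBCAlg
  Groth.Agent.Lib.Helper21.BC0Epi Groth.Agent.Lib.Helper21.GBC12

variable {X S X' S' : Scheme.{u}} (f : X ⟶ S) (g : S' ⟶ S) (g' : X' ⟶ X) (f' : X' ⟶ S')
  (h : IsPullback g' f' f g)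

/-- the preimages for `V' = ⊤` -/
theorem preimage_top_eq {V : S.Opens} (hle : (⊤ : S'.Opens) ≤ g ⁻¹ᵁ V) :
    f' ⁻¹ᵁ (⊤ : S'.Opens) = f' ⁻¹ᵁ (g ⁻¹ᵁ V) := by
  rw [top_le_iff.1 hle]

include h in
theorem hWW_top {V : S.Opens} (hle : (⊤ : S'.Opens) ≤ g ⁻¹ᵁ V) :
    f' ⁻¹ᵁ (⊤ : S'.Opens) ≤ g' ⁻¹ᵁ (f ⁻¹ᵁ V) :=
  (le_of_eq (preimage_top_eq g f' hle)).trans (CohCmp.sqLE f g f' g' h.w V)

/-- the compatibility of `pullOn` with restriction when `V' = ⊤` -/
theorem hW2_top (F : X.Modules) {V : S.Opens} (hle : (⊤ : S'.Opens) ≤ g ⁻¹ᵁ V) (p : ℕ)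
    (x : Coh.HHon X F (f ⁻¹ᵁ V) p) :
    CohPull.resLE ((Scheme.Modules.pullback g').obj F) (f'.preimage_mono hle) p
        (CohPull.pullOn g' (f ⁻¹ᵁ V) (f' ⁻¹ᵁ (g ⁻¹ᵁ V)) (CohCmp.sqLE f g f' g' h.w V) F p x) =
      CohPull.pullOn g' (f ⁻¹ᵁ V) (f' ⁻¹ᵁ ⊤) (hWW_top f g g' f' h hle) F p x :=
  resLE_pullOn_of_eq g' F (f ⁻¹ᵁ V) (CohCmp.sqLE f g f' g' h.w V) (preimage_top_eq g f' hle) p x

end geo

section fieldgeo
open Groth.Agent.Lib.Helper16.TensorCmp Groth.Agent.Lib.Helper21.GBCAlg
  Groth.Agent.Lib.Helper21.BC0Epi Groth.Agent.Lib.Helper21.GBC12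

variable {X S X' : Scheme.{u}} (f : X ⟶ S) [QuasiCompact f] [QuasiSeparated f]
  [HasInjectiveResolutions X.Modules] (F : X.Modules) [Coh.IsQCoh F]
  {K : Type u} [Field K] (g : Spec (CommRingCat.of K) ⟶ S) (g' : X' ⟶ X)
  (f' : X' ⟶ Spec (CommRingCat.of K)) (h : IsPullback g' f' f g)
  [HasInjectiveResolutions X'.Modules]
  {Δ : RDer.DerivedLES (Scheme.Modules.pushforward f)}
  {Δ' : RDer.DerivedLES (Scheme.Modules.pushforward f')}
  (E : CohCmp.SectCmp f Δ) (E' : CohCmp.SectCmp f' Δ') (B : CohCmp.GenBC f g f' g' h.w E E')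
  (p : ℕ)

include h in
/-- over the spectrum of a field, the base change map is an epimorphism iff it is surjective on global
sections -/
theorem epi_bc_iff_surjective :
    Epi (B.bc p F) ↔ Function.Surjective ((B.bc p F).app ⊤).hom := by
  haveI : QuasiCompact f' := MorphismProperty.of_isPullback (P := @QuasiCompact) h inferInstance
  haveI : QuasiSeparated f' :=
    MorphismProperty.of_isPullback (P := @QuasiSeparated) h inferInstance
  haveI : ((Coh.Rpush f p).obj F).IsQuasicoherent := Groth.Agent.S0030.result f F p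
  haveI : ((Scheme.Modules.pullback g).obj ((Coh.Rpush f p).obj F)).IsQuasicoherent :=
    Groth.Agent.Lib.Helper2.PullbackSec.isQuasicoherent_pullback _ _
  haveI : Coh.IsQCoh ((Scheme.Modules.pullback g').obj F) :=
    Groth.Agent.Lib.Helper2.PullbackSec.isQuasicoherent_pullback _ _
  haveI : ((Coh.Rpush f' p).obj ((Scheme.Modules.pullback g').obj F)).IsQuasicoherent :=
    Groth.Agent.S0030.result f' _ p
  exact epi_iff_surjective_app_top (CommRingCat.of K) (B.bc p F)

include h in
/-- **an epimorphic base change map to the spectrum of a field is equivalent to freeness of the cokernel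
of the corresponding differential at the image point** -/
theorem epi_bc_iff_mem_freeLocus {V : S.Opens} (hV : IsAffineOpen V)
    (hle : (⊤ : (Spec (CommRingCat.of K)).Opens) ≤ g ⁻¹ᵁ V)
    (Q : ChainComplex (ModuleCat.{u} Γ(S, V)) ℤ) [Module.Finite Γ(S, V) (Q.X (-(p : ℤ)))]
    [Module.Finite Γ(S, V) (Q.X (-(p : ℤ) - 1))] [Module.Projective Γ(S, V) (Q.X (-(p : ℤ) - 1))]
    (hK : letI : Algebra Γ(S, V) Γ(Spec (CommRingCat.of K), ⊤) := (g.appLE V ⊤ hle).hom.toAlgebra
      Function.Surjective ((B.bc p F).app ⊤).hom ↔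
        Function.Surjective (tM (CohIII.TFun Q (-(p : ℤ)))
          (ModuleCat.of Γ(S, V) Γ(Spec (CommRingCat.of K), ⊤))))
    (x : Spec (CommRingCat.of K)) (q : PrimeSpectrum Γ(S, V)) (hq : hV.fromSpec q = g x) :
    Epi (B.bc p F) ↔ q ∈ Module.freeLocus Γ(S, V) (Q.opcycles (-(p : ℤ) - 1)) := by
  letI alg0 : Algebra Γ(S, V) Γ(Spec (CommRingCat.of K), ⊤) := (g.appLE V ⊤ hle).hom.toAlgebra
  let ρ : Γ(S, V) →+* K := (g.appLE V ⊤ hle ≫ (Scheme.ΓSpecIso (CommRingCat.of K)).hom).hom
  letI : Algebra Γ(S, V) K := ρ.toAlgebra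
  let e : Γ(Spec (CommRingCat.of K), ⊤) ≃ₐ[Γ(S, V)] K :=
    AlgEquiv.ofRingEquiv (f := (Scheme.ΓSpecIso (CommRingCat.of K)).commRingCatIsoToRingEquiv)
      (fun a => rfl)
  have hqx : q = PrimeSpectrum.comap (algebraMap Γ(S, V) K) x := by
    apply hV.fromSpec.isOpenEmbedding.injective
    rw [hq]
    have e1 := specMap_appLE_fromSpec g hV hle
    exact (congrArg (fun t : Spec (CommRingCat.of K) ⟶ S => t x) e1).symm
  have hj : (ComplexShape.down ℤ).prev (-(p : ℤ) - 1) = -(p : ℤ) := by simp
  have hi : (ComplexShape.down ℤ).prev (-(p : ℤ)) = -(p : ℤ) + 1 := by simp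
  have hk : (ComplexShape.down ℤ).next (-(p : ℤ)) = -(p : ℤ) - 1 := by simp
  rw [epi_bc_iff_surjective f F g g' f' h E E' B p, hK,
    tM_surjective_iff Q (-(p : ℤ) + 1) (-(p : ℤ)) (-(p : ℤ) - 1) hi hk
      Γ(Spec (CommRingCat.of K), ⊤), hqx,
    ← kerSurj_iff_mem_freeLocus K Q (-(p : ℤ)) (-(p : ℤ) - 1) hj x]
  exact ⟨fun h1 => kerSurj_of_algEquiv e _ h1, fun h1 => kerSurj_of_algEquiv e.symm _ h1⟩

end fieldgeo

end Groth.Agent.Lib.Helper21.GBC16
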