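import Groth.Agent.Lib.Helper21GBC16

/-!
# General base change, part 17: fibre squares and the local universal complex (helper21)
-/

set_option autoImplicit false
set_option linter.style.haveILetI false
universe u
open CategoryTheory CategoryTheory.Limits AlgebraicGeometry Opposite TopologicalSpace TensorProduct

namespace Groth.Agent.Lib.Helper21.GBC17

open Groth.Agent.Lib.Helper21.BC0Alg Groth.Agent.Lib.Helper21.BC0Cx Groth.Agent.Lib.Helper21.BC0Free
  Groth.Agent.Lib.Helper21.AlgBC Groth.Agent.Lib.Helper21.BC0Loc Groth.Agent.Lib.Helper3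
  Groth.Agent.Lib.Helper16.TensorCmp Groth.Agent.Lib.Helper21.GBCAlg
  Groth.Agent.Lib.Helper21.BC0Epi Groth.Agent.Lib.Helper21.GBC12 Groth.Agent.Lib.Helper21.GBC15
  Groth.Agent.Lib.Helper21.GBC16 Groth.Agent.Lib.Helper21.NNBC

variable {X S : Scheme.{u}} (f : X ⟶ S) [IsProper f] [LocallyOfFinitePresentation f]
  [HasInjectiveResolutions X.Modules]
  (F : X.Modules) (hF : CohB1.IsFP F) (hflat : FlatMod.IsFlatOver f F)

/-- the points of an affine open, as primes -/
theorem fromSpec_mem {V : S.Opens} (hV : IsAffineOpen V) (x : Spec Γ(S, V)) :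
    hV.fromSpec x ∈ V := by
  have := Set.mem_range_self (f := hV.fromSpec) x
  rw [hV.range_fromSpec] at this
  exact this

theorem exists_fromSpec_eq {V : S.Opens} (hV : IsAffineOpen V) (s : S) (hs : s ∈ V) :
    ∃ q : Spec Γ(S, V), hV.fromSpec q = s := by
  have : s ∈ Set.range hV.fromSpec := by
    rw [hV.range_fromSpec]
    exact hs
  exact this

theorem top_le_preimage {V : S.Opens} (s : S) (hs : s ∈ V) :
    (⊤ : (Spec (S.residueField s)).Opens) ≤ (S.fromSpecResidueField s) ⁻¹ᵁ V := by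
  intro x _
  change S.fromSpecResidueField s x ∈ V
  rw [Scheme.fromSpecResidueField_apply]
  exact hs

omit [LocallyOfFinitePresentation f] in
/-- **the fibre square at a point of an affine open**: the base change map in degree `p` is an
epimorphism iff the cokernel of the differential `Q_{-p} → Q_{-p-1}` is free at the point -/
theorem fibre_epi_iff_mem_freeLocus [Coh.IsQCoh F] (s : S)
    [HasInjectiveResolutions (f.fiber s).Modules]
    {V : S.Opens} (hV : IsAffineOpen V) (hs : s ∈ V)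
    {Δ : RDer.DerivedLES (Scheme.Modules.pushforward f)}
    {Δs : RDer.DerivedLES (Scheme.Modules.pushforward (f.fiberToSpecResidueField s))}
    (E : CohCmp.SectCmp f Δ) (Es : CohCmp.SectCmp (f.fiberToSpecResidueField s) Δs)
    (Bs : CohCmp.GenBC f (S.fromSpecResidueField s) (f.fiberToSpecResidueField s) (f.fiberι s)
      (f.fiber_fac s) E Es) (p : ℕ)
    (Q : ChainComplex (ModuleCat.{u} Γ(S, V)) ℤ) [Module.Finite Γ(S, V) (Q.X (-(p : ℤ)))]
    [Module.Finite Γ(S, V) (Q.X (-(p : ℤ) - 1))] [Module.Projective Γ(S, V) (Q.X (-(p : ℤ) - 1))]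
    (hK : letI : Algebra Γ(S, V) Γ(Spec (S.residueField s), ⊤) :=
        ((S.fromSpecResidueField s).appLE V ⊤ (top_le_preimage s hs)).hom.toAlgebra
      Function.Surjective ((Bs.bc p F).app ⊤).hom ↔
        Function.Surjective (tM (CohIII.TFun Q (-(p : ℤ)))
          (ModuleCat.of Γ(S, V) Γ(Spec (S.residueField s), ⊤))))
    (q : PrimeSpectrum Γ(S, V)) (hq : hV.fromSpec q = s) :
    Epi (Bs.bc p F) ↔ q ∈ Module.freeLocus Γ(S, V) (Q.opcycles (-(p : ℤ) - 1)) :=
  epi_bc_iff_mem_freeLocus f F (S.fromSpecResidueField s) (f.fiberι s)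
    (f.fiberToSpecResidueField s) (IsPullback.of_hasPullback f (S.fromSpecResidueField s)) E Es Bs p
    hV (top_le_preimage s hs) Q hK default q
    (hq.trans (Scheme.fromSpecResidueField_apply s default).symm)

section data

include hF hflat in
/-- **the local universal complex over an affine open, with the fibre criterion**: the base change
map of the fibre square at a point `s = 𝔮` of `V` in degree `p` is an epimorphism iff the cokernel of
`Q_{-p} → Q_{-p-1}` is free at `𝔮`. -/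
theorem exists_local_complexF {V : S.Opens} (hV : IsAffineOpen V) :
    ∃ (A₀ : CommRingCat.{u}) (_ : IsNoetherianRing A₀) (φ : A₀ ⟶ Γ(S, V))
      (P : ChainComplex (ModuleCat.{u} A₀) ℤ),
      (∀ i, Module.Finite A₀ (P.X i) ∧ Module.Projective A₀ (P.X i)) ∧
      (∃ N : ℕ, ∀ i : ℤ, 0 < i ∨ i < -(N : ℤ) → IsZero (P.X i)) ∧
      (∀ (q : Spec Γ(S, V)) (p : ℕ),
        CohIII.dRank P (-(p : ℤ)) (Spec.map φ q) = PerfAux.betti f F (hV.fromSpec q) p) ∧
      (∀ p : ℕ, Nonempty (Γ((Coh.Rpush f p).obj F, V) ≃ₗ[Γ(S, V)]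
        ↑((CohIII.bcCx φ.hom P).homology (-(p : ℤ))))) ∧
      (∀ {W : S.Opens} (_ : IsAffineOpen W) (hle : W ≤ V) (p : ℕ),
        Nonempty (Γ((Coh.Rpush f p).obj F, W) ≃ₗ[Γ(S, W)]
          ↑((CohIII.bcCx (φ ≫ S.presheaf.map (homOfLE hle).op).hom P).homology (-(p : ℤ))))) ∧
      (∀ (s : S) [HasInjectiveResolutions (f.fiber s).Modules]
        {Δ : RDer.DerivedLES (Scheme.Modules.pushforward f)}
        {Δs : RDer.DerivedLES (Scheme.Modules.pushforward (f.fiberToSpecResidueField s))}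
        (E : CohCmp.SectCmp f Δ) (Es : CohCmp.SectCmp (f.fiberToSpecResidueField s) Δs)
        (Bs : CohCmp.GenBC f (S.fromSpecResidueField s) (f.fiberToSpecResidueField s) (f.fiberι s)
          (f.fiber_fac s) E Es) (p : ℕ) (q : PrimeSpectrum Γ(S, V)), hV.fromSpec q = s →
        (Epi (Bs.bc p F) ↔
          q ∈ Module.freeLocus Γ(S, V) ((CohIII.bcCx φ.hom P).opcycles (-(p : ℤ) - 1)))) ∧
      ∀ {S' X' : Scheme.{u}} (g : S' ⟶ S) (g' : X' ⟶ X) (f' : X' ⟶ S')
        (h : IsPullback g' f' f g) [HasInjectiveResolutions X'.Modules]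
        {Δ : RDer.DerivedLES (Scheme.Modules.pushforward f)}
        {Δ' : RDer.DerivedLES (Scheme.Modules.pushforward f')}
        (E : CohCmp.SectCmp f Δ) (E' : CohCmp.SectCmp f' Δ') (B : CohCmp.GenBC f g f' g' h.w E E')
        (p : ℕ) {V' : S'.Opens} (_ : IsAffineOpen V') (hle : V' ≤ g ⁻¹ᵁ V)
        (hWW : f' ⁻¹ᵁ V' ≤ g' ⁻¹ᵁ (f ⁻¹ᵁ V))
        (_ : ∀ x : Coh.HHon X F (f ⁻¹ᵁ V) p,
          CohPull.resLE ((Scheme.Modules.pullback g').obj F) (f'.preimage_mono hle) p
            (CohPull.pullOn g' (f ⁻¹ᵁ V) (f' ⁻¹ᵁ (g ⁻¹ᵁ V)) (CohCmp.sqLE f g f' g' h.w V) F p x) =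
          CohPull.pullOn g' (f ⁻¹ᵁ V) (f' ⁻¹ᵁ V') hWW F p x),
        letI : Algebra Γ(S, V) Γ(S', V') := (g.appLE V V' hle).hom.toAlgebra
        (Function.Bijective ((B.bc p F).app V').hom ↔
          Function.Bijective (tM (CohIII.TFun (CohIII.bcCx φ.hom P) (-(p : ℤ)))
            (ModuleCat.of Γ(S, V) Γ(S', V')))) ∧
        (Function.Surjective ((B.bc p F).app V').hom ↔
          Function.Surjective (tM (CohIII.TFun (CohIII.bcCx φ.hom P) (-(p : ℤ)))
            (ModuleCat.of Γ(S, V) Γ(S', V')))) := by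
  haveI hq : F.IsQuasicoherent := Groth.Agent.Helper18Strict.isQCoh_of_isFP F hF
  haveI : Coh.IsQCoh F := hq
  obtain ⟨A₀, hA₀, φ, P, hP, hN, hrk, hH, hHW, hK⟩ := exists_local_complexT f F hF hflat hV
  refine ⟨A₀, hA₀, φ, P, hP, hN, hrk, hH, fun {W} hW hle p => hHW hW hle p, ?_, hK⟩
  intro s _ Δ Δs E Es Bs p q hqs
  letI : Algebra A₀ Γ(S, V) := φ.hom.toAlgebra
  haveI : ∀ i, Module.Finite Γ(S, V) ((CohIII.bcCx (algebraMap A₀ Γ(S, V)) P).X i) := fun i => by
    haveI := (hP i).1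
    exact finite_bcCx_X P Γ(S, V) i
  haveI : ∀ i, Module.Projective Γ(S, V) ((CohIII.bcCx (algebraMap A₀ Γ(S, V)) P).X i) :=
    fun i => by
      haveI := (hP i).2
      exact projective_bcCx_X P Γ(S, V) i
  have hsV : s ∈ V := hqs ▸ fromSpec_mem hV q
  have hle := top_le_preimage (V := V) s hsV
  have k := hK (S.fromSpecResidueField s) (f.fiberι s) (f.fiberToSpecResidueField s)
    (IsPullback.of_hasPullback f (S.fromSpecResidueField s)) E Es Bs p
    (isAffineOpen_top _) hle
    (hWW_top f (S.fromSpecResidueField s) (f.fiberι s) (f.fiberToSpecResidueField s)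
      (IsPullback.of_hasPullback f (S.fromSpecResidueField s)) hle)
    (hW2_top f (S.fromSpecResidueField s) (f.fiberι s) (f.fiberToSpecResidueField s)
      (IsPullback.of_hasPullback f (S.fromSpecResidueField s)) F hle p)
  exact fibre_epi_iff_mem_freeLocus f F s hV hsV E Es Bs p
    (CohIII.bcCx (algebraMap A₀ Γ(S, V)) P) k.2 q hqs

end data

end Groth.Agent.Lib.Helper21.GBC17
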