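import Groth.Agent.Lib.Helper21GBC17

/-!
# General base change, part 18: finite local freeness of `R^{q+1} f_* F` (helper21)
-/

set_option autoImplicit false
set_option linter.style.haveILetI false
universe u
open CategoryTheory CategoryTheory.Limits AlgebraicGeometry Opposite TopologicalSpace TensorProduct

namespace Groth.Agent.Lib.Helper21.GBC18

open Groth.Agent.Lib.Helper21.BC0Alg Groth.Agent.Lib.Helper21.BC0Cx Groth.Agent.Lib.Helper21.BC0Free
  Groth.Agent.Lib.Helper21.AlgBC Groth.Agent.Lib.Helper21.BC0Loc Groth.Agent.Lib.Helper3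
  Groth.Agent.Lib.Helper21.BC0Epi Groth.Agent.Lib.Helper21.GBC16 Groth.Agent.Lib.Helper21.GBC17
  Groth.Agent.Lib.Helper21.NNBC

variable {X S : Scheme.{u}} (f : X ⟶ S) [IsProper f] [LocallyOfFinitePresentation f]
  [HasInjectiveResolutions X.Modules]
  (F : X.Modules) (hF : CohB1.IsFP F) (hflat : FlatMod.IsFlatOver f F)
  [∀ s : S, HasInjectiveResolutions (f.fiber s).Modules]
  {Δ : RDer.DerivedLES (Scheme.Modules.pushforward f)} (E : CohCmp.SectCmp f Δ)
  (Δs : ∀ s : S, RDer.DerivedLES (Scheme.Modules.pushforward (f.fiberToSpecResidueField s)))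
  (Es : ∀ s : S, CohCmp.SectCmp (f.fiberToSpecResidueField s) (Δs s))
  (Bs : ∀ s : S, CohCmp.GenBC f (S.fromSpecResidueField s) (f.fiberToSpecResidueField s)
    (f.fiberι s) (f.fiber_fac s) E (Es s))

include hF hflat in
/-- if the degree-`q` base change maps of the fibre squares over the affine open `V` are epimorphisms
and `H^{q+2}` of the fibres over `V` vanishes, the sections of `R^{q+1} f_* F` over `V` are a finite
projective module -/
theorem finite_projective_sections_succ {V : S.Opens} (hV : IsAffineOpen V) (q : ℕ)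
    (hepi : ∀ y ∈ V, Epi ((Bs y).bc q F)) (h2 : ∀ s ∈ V, PerfAux.betti f F s (q + 2) = 0) :
    Module.Finite Γ(S, V) Γ((Coh.Rpush f (q + 1)).obj F, V) ∧
      Module.Projective Γ(S, V) Γ((Coh.Rpush f (q + 1)).obj F, V) := by
  obtain ⟨A₀, hA₀, φ, P, hP, hN, hrk, hH, -, hfib, -⟩ := exists_local_complexF f F hF hflat hV
  letI : Algebra A₀ Γ(S, V) := φ.hom.toAlgebra
  let Q := CohIII.bcCx (algebraMap A₀ Γ(S, V)) P
  haveI : ∀ i, Module.Finite Γ(S, V) (Q.X i) := fun i => by
    haveI := (hP i).1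
    exact finite_bcCx_X P Γ(S, V) i
  haveI : ∀ i, Module.Projective Γ(S, V) (Q.X i) := fun i => by
    haveI := (hP i).2
    exact projective_bcCx_X P Γ(S, V) i
  haveI : Module.FinitePresentation Γ(S, V) (Q.opcycles (-(q : ℤ) - 1)) :=
    finitePresentation_opcycles' Q (-(q : ℤ)) (-(q : ℤ) - 1) (by simp)
  have huniv : Module.freeLocus Γ(S, V) (Q.opcycles (-(q : ℤ) - 1)) = Set.univ := by
    rw [Set.eq_univ_iff_forall]
    intro x
    exact (hfib (hV.fromSpec x) E (Es _) (Bs _) q x rfl).1 (hepi _ (fromSpec_mem hV x))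
  have hW : Module.Projective Γ(S, V) (Q.opcycles (-(q : ℤ) - 1)) :=
    Module.freeLocus_eq_univ_iff.mp huniv
  have hv := vanishing_bc P hP Γ(S, V) (-((q + 2 : ℕ) : ℤ)) (fun x => by
    have h1 := hrk x (q + 2)
    rw [h2 _ (fromSpec_mem hV x)] at h1
    exact h1)
  obtain ⟨-, -, ⟨-, hW2p⟩⟩ := hv
  have e1 : -(q : ℤ) - 1 = -((q + 1 : ℕ) : ℤ) := by push_cast; ring
  have e2 : -((q + 2 : ℕ) : ℤ) = -((q + 1 : ℕ) : ℤ) - 1 := by push_cast; ring
  rw [e1] at hW
  rw [e2] at hW2p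
  haveI : Module.Projective Γ(S, V) (Q.opcycles (-((q + 1 : ℕ) : ℤ) - 1)) := hW2p
  haveI : Module.Projective Γ(S, V) (Q.opcycles (-((q + 1 : ℕ) : ℤ))) := hW
  obtain ⟨-, hsurj⟩ := exact_d_pOpcycles Q (-((q + 1 : ℕ) : ℤ) + 1) (-((q + 1 : ℕ) : ℤ)) (by simp)
  haveI : Module.Finite Γ(S, V) (Q.opcycles (-((q + 1 : ℕ) : ℤ))) :=
    Module.Finite.of_surjective (Q.pOpcycles (-((q + 1 : ℕ) : ℤ))).hom hsurj
  obtain ⟨hf, hp⟩ := finite_projective_homology Q (-((q + 1 : ℕ) : ℤ))
  obtain ⟨e⟩ := hH (q + 1)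
  haveI := hf
  haveI := hp
  exact ⟨Module.Finite.equiv e.symm, Module.Projective.of_equiv e.symm⟩

include hF hflat in
/-- **`R^{q+1} f_* F` is finite locally free** when `H^{q+2}` of the fibres vanishes and the
degree-`q` base change maps of the fibre squares are epimorphisms. -/
theorem isFinLocFree_Rsucc (q : ℕ) (hepi : ∀ y : S, Epi ((Bs y).bc q F))
    (h2 : ∀ s : S, PerfAux.betti f F s (q + 2) = 0) :
    FlatMod.IsFinLocFree ((Coh.Rpush f (q + 1)).obj F) := by
  haveI hq : F.IsQuasicoherent := Groth.Agent.Helper18Strict.isQCoh_of_isFP F hF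
  haveI : Coh.IsQCoh F := hq
  haveI : ((Coh.Rpush f (q + 1)).obj F).IsQuasicoherent := Groth.Agent.S0030.result f F (q + 1)
  refine Groth.Agent.Lib.Helper1.SPL.isFinLocFree_of_local _ (fun y => ?_)
  refine ⟨_, (⊤ : S.Opens).ι, inferInstance, ?_, ?_⟩
  · rw [Scheme.Opens.opensRange_ι]
    trivial
  · exact isFinLocFree_restrict_of_affine _ ⊤ (fun V hV _ =>
      finite_projective_sections_succ f F hF hflat E Δs Es Bs hV q (fun y _ => hepi y)
        (fun s _ => h2 s))

end Groth.Agent.Lib.Helper21.GBC18
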