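import Groth.Agent.Lib.Helper21GBC16

/-!
# General base change, part 19: cokernels and homology over a localisation (helper21)
-/

set_option autoImplicit false
set_option linter.style.haveILetI false
universe u
open CategoryTheory CategoryTheory.Limits TensorProduct

namespace Groth.Agent.Lib.Helper21.GBC19

open Groth.Agent.Lib.Helper21.BC0Alg Groth.Agent.Lib.Helper21.BC0Cx Groth.Agent.Lib.Helper21.BC0Free
  Groth.Agent.Lib.Helper21.AlgBC Groth.Agent.Lib.Helper21.BC0Loc Groth.Agent.Lib.Helper3
  Groth.Agent.Lib.Helper21.GBC16

section L1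
variable {A : Type u} [CommRing A] (B : Type u) [CommRing B] [Algebra A B]

/-- if `B ⊗ W` is projective over a localisation `B = A_a`, then `W` is free at the primes of `D(a)` -/
theorem mem_freeLocus_of_projective_away (a : A) [IsLocalization.Away a B]
    (W : Type u) [AddCommGroup W] [Module A W] [Module.Finite A W]
    (h : Module.Projective B (B ⊗[A] W)) (x : PrimeSpectrum B) :
    PrimeSpectrum.comap (algebraMap A B) x ∈ Module.freeLocus A W := by
  let L := Localization.AtPrime x.asIdeal
  haveI : IsScalarTower A B L := inferInstance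
  haveI : IsLocalization.AtPrime L (PrimeSpectrum.comap (algebraMap A B) x).asIdeal :=
    IsLocalization.isLocalization_isLocalization_atPrime_isLocalization (Submonoid.powers a) L
      x.asIdeal
  rw [Module.mem_freeLocus_iff_tensor _ L]
  let e : L ⊗[B] (B ⊗[A] W) ≃ₗ[L] L ⊗[A] W :=
    TensorProduct.AlgebraTensorModule.cancelBaseChange A B L L W
  haveI : Module.Free L (L ⊗[B] (B ⊗[A] W)) := Module.free_of_flat_of_isLocalRing
  exact Module.Free.of_equiv e

end L1

section L2
variable {R : Type*} [CommRing R] {K M N L : Type*} [AddCommGroup K] [AddCommGroup M]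
  [AddCommGroup N] [AddCommGroup L] [Module R K] [Module R M] [Module R N] [Module R L]

/-- in an exact sequence `0 → K → M → N → L → 0` with `K`, `N`, `L` projective (`N` finite), `M` is
projective -/
theorem projective_of_fourTerm' (f : K →ₗ[R] M) (g : M →ₗ[R] N) (h : N →ₗ[R] L)
    (hf : Function.Injective f) (hfg : Function.Exact f g) (hgh : Function.Exact g h)
    (hh : Function.Surjective h) [Module.Projective R K] [Module.Finite R N]
    [Module.Projective R N] [Module.Projective R L] :
    Module.Projective R M := by
  obtain ⟨h1, h2⟩ := finite_projective_ker_of_surjective h hh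
  haveI := h2
  let g' : M →ₗ[R] LinearMap.ker h :=
    LinearMap.codRestrict (LinearMap.ker h) g (fun m => by
      rw [LinearMap.mem_ker]
      exact hgh.apply_apply_eq_zero m)
  have hg' : Function.Surjective g' := by
    rintro ⟨n, hn⟩
    obtain ⟨m, rfl⟩ := (hgh n).1 hn
    exact ⟨m, rfl⟩
  obtain ⟨σ, hσ⟩ := Module.projective_lifting_property g' LinearMap.id hg'
  -- `m - σ (g' m)` lies in the image of `f`
  have hmem : ∀ m : M, ∃ k : K, f k = m - σ (g' m) := by
    intro m
    have h0 : g (m - σ (g' m)) = 0 := by
      have e1 : g' (σ (g' m)) = g' m := LinearMap.congr_fun hσ (g' m)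
      have e2 : g (σ (g' m)) = g m := congrArg Subtype.val e1
      rw [map_sub, e2, sub_self]
    exact (hfg _).1 h0
  -- the retraction `M → K`
  let fe : K ≃ₗ[R] LinearMap.range f := LinearEquiv.ofInjective f hf
  let ρ : M →ₗ[R] K :=
    fe.symm.toLinearMap ∘ₗ
      LinearMap.codRestrict (LinearMap.range f) (LinearMap.id - σ ∘ₗ g') (fun m => by
        obtain ⟨k, hk⟩ := hmem m
        exact ⟨k, hk⟩)
  have hρ : ∀ m : M, f (ρ m) = m - σ (g' m) := by
    intro m
    have : (fe (ρ m) : M) = m - σ (g' m) := by
      change (fe (fe.symm _) : M) = _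
      rw [LinearEquiv.apply_symm_apply]
      rfl
    exact this
  let i : M →ₗ[R] K × LinearMap.ker h := LinearMap.prod ρ g'
  let s : K × LinearMap.ker h →ₗ[R] M := LinearMap.coprod f σ
  have hsi : s ∘ₗ i = LinearMap.id := by
    ext m
    change f (ρ m) + σ (g' m) = m
    rw [hρ]
    abel
  exact Module.Projective.of_split i s hsi

end L2

section cx
variable {B : Type u} [CommRing B] (Q : ChainComplex (ModuleCat.{u} B) ℤ)

/-- if the homology and the next cokernel are projective, so is the cokernel -/
theorem projective_opcycles_of_homology (p : ℤ) [Module.Finite B (Q.X (p - 1))]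
    [Module.Projective B (Q.X (p - 1))] [Module.Projective B (Q.opcycles (p - 1))]
    [Module.Projective B (Q.homology p)] : Module.Projective B (Q.opcycles p) :=
  projective_of_fourTerm' (Q.homologyι p).hom (Q.fromOpcycles p (p - 1)).hom
    (Q.pOpcycles (p - 1)).hom ((ModuleCat.mono_iff_injective _).mp inferInstance)
    (exact_homologyι_fromOpcycles Q p (p - 1) (by simp))
    (exact_fromOpcycles_pOpcycles Q p (p - 1) (by simp))
    ((ModuleCat.epi_iff_surjective _).mp inferInstance)

end cx

section T4
variable {A : Type u} [CommRing A] (B : Type u) [CommRing B] [Algebra A B] (a : A)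
  [IsLocalization.Away a B] (Q : ChainComplex (ModuleCat.{u} A) ℤ)
  (hfin : ∀ i, Module.Finite A (Q.X i)) (hproj : ∀ i, Module.Projective A (Q.X i))

include hfin hproj in
/-- over a basic open inside the free loci of two consecutive cokernels the homology is finite
projective -/
theorem finite_projective_homology_of_freeLocus (p : ℤ)
    (h1 : (PrimeSpectrum.basicOpen a : Set (PrimeSpectrum A)) ⊆
      Module.freeLocus A (Q.opcycles p))
    (h2 : (PrimeSpectrum.basicOpen a : Set (PrimeSpectrum A)) ⊆
      Module.freeLocus A (Q.opcycles (p - 1))) :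
    Module.Finite B ((CohIII.bcCx (algebraMap A B) Q).homology p) ∧
      Module.Projective B ((CohIII.bcCx (algebraMap A B) Q).homology p) := by
  let K := CohIII.bcCx (algebraMap A B) Q
  haveI : ∀ i, Module.Finite B (K.X i) := fun i => by
    haveI := hfin i
    exact finite_bcCx_X Q B i
  haveI : ∀ i, Module.Projective B (K.X i) := fun i => by
    haveI := hproj i
    exact projective_bcCx_X Q B i
  haveI := hfin
  haveI := hproj
  haveI : Module.FinitePresentation A (Q.opcycles p) :=
    finitePresentation_opcycles' Q (p + 1) p (by simp)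
  haveI : Module.FinitePresentation A (Q.opcycles (p - 1)) :=
    finitePresentation_opcycles' Q p (p - 1) (by simp)
  haveI : Module.Projective B (K.opcycles p) :=
    projective_opcycles_of_freeLocus B Q p (comap_mem_of_away B a _ h1)
  haveI : Module.Projective B (K.opcycles (p - 1)) :=
    projective_opcycles_of_freeLocus B Q (p - 1) (comap_mem_of_away B a _ h2)
  obtain ⟨-, hsurj⟩ := exact_d_pOpcycles K (p + 1) p (by simp)
  haveI : Module.Finite B (K.opcycles p) :=
    Module.Finite.of_surjective (K.pOpcycles p).hom hsurj
  exact finite_projective_homology K p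

include hfin hproj in
/-- conversely, if the homology over the basic open is projective and the next cokernel is free
there, so is the cokernel -/
theorem basicOpen_le_freeLocus_of_projective_homology (p : ℤ)
    (h2 : (PrimeSpectrum.basicOpen a : Set (PrimeSpectrum A)) ⊆
      Module.freeLocus A (Q.opcycles (p - 1)))
    (hH : Module.Projective B ((CohIII.bcCx (algebraMap A B) Q).homology p)) :
    (PrimeSpectrum.basicOpen a : Set (PrimeSpectrum A)) ⊆ Module.freeLocus A (Q.opcycles p) := by
  let K := CohIII.bcCx (algebraMap A B) Q
  haveI : ∀ i, Module.Finite B (K.X i) := fun i => by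
    haveI := hfin i
    exact finite_bcCx_X Q B i
  haveI : ∀ i, Module.Projective B (K.X i) := fun i => by
    haveI := hproj i
    exact projective_bcCx_X Q B i
  haveI := hfin
  haveI := hproj
  haveI : Module.FinitePresentation A (Q.opcycles (p - 1)) :=
    finitePresentation_opcycles' Q p (p - 1) (by simp)
  haveI : Module.Projective B (K.opcycles (p - 1)) :=
    projective_opcycles_of_freeLocus B Q (p - 1) (comap_mem_of_away B a _ h2)
  haveI : Module.Projective B (K.homology p) := hH
  have hW : Module.Projective B (K.opcycles p) := projective_opcycles_of_homology K p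
  let e : K.opcycles p ≃ₗ[B] B ⊗[A] (Q.opcycles p) :=
    (bcOpcyclesIso B Q p).toLinearEquiv.trans (Groth.Agent.S2380.bridge A B (Q.opcycles p))
  have hW' : Module.Projective B (B ⊗[A] (Q.opcycles p)) := Module.Projective.of_equiv e
  obtain ⟨-, hsurj⟩ := exact_d_pOpcycles Q (p + 1) p (by simp)
  haveI : Module.Finite A (Q.opcycles p) :=
    Module.Finite.of_surjective (Q.pOpcycles p).hom hsurj
  intro q hq
  rw [← PrimeSpectrum.localization_away_comap_range B a] at hq
  obtain ⟨x, rfl⟩ := hq
  exact mem_freeLocus_of_projective_away B a (Q.opcycles p) hW' x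

end T4

end Groth.Agent.Lib.Helper21.GBC19
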