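import Groth.Agent.Lib.Helper21GBC17
import Groth.Agent.Lib.Helper21GBC19
import Groth.Agent.Lib.Helper17PuncAnn1

/-!
# General base change, part 20: the local data over an affine open of the base (helper21)
-/

set_option autoImplicit false
set_option linter.style.haveILetI false
set_option linter.unusedSectionVars false
universe u
open CategoryTheory CategoryTheory.Limits AlgebraicGeometry Opposite TopologicalSpace TensorProduct

namespace Groth.Agent.Lib.Helper21.GBC20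

open Groth.Agent.Lib.Helper21.BC0Alg Groth.Agent.Lib.Helper21.BC0Cx Groth.Agent.Lib.Helper21.BC0Free
  Groth.Agent.Lib.Helper21.AlgBC Groth.Agent.Lib.Helper21.BC0Loc Groth.Agent.Lib.Helper3
  Groth.Agent.Lib.Helper16.TensorCmp Groth.Agent.Lib.Helper21.GBC16 Groth.Agent.Lib.Helper21.GBC17
  Groth.Agent.Lib.Helper21.GBC19 Groth.Agent.Lib.Helper21.NNBC

variable {X S : Scheme.{u}} (f : X ⟶ S) [IsProper f] [LocallyOfFinitePresentation f]
  [HasInjectiveResolutions X.Modules] (F : X.Modules)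

/-- the sections of the higher direct images over the affine opens inside `V` are computed by the
complex -/
def HHW {V : S.Opens} (_ : IsAffineOpen V) {A₀ : CommRingCat.{u}} (φ : A₀ ⟶ Γ(S, V))
    (P : ChainComplex (ModuleCat.{u} A₀) ℤ) : Prop :=
  ∀ {W : S.Opens} (_ : IsAffineOpen W) (hle : W ≤ V) (p : ℕ),
    Nonempty (Γ((Coh.Rpush f p).obj F, W) ≃ₗ[Γ(S, W)]
      ↑((CohIII.bcCx (φ ≫ S.presheaf.map (homOfLE hle).op).hom P).homology (-(p : ℤ))))

/-- the fibre criterion -/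
def HFib {V : S.Opens} (hV : IsAffineOpen V) {A₀ : CommRingCat.{u}} (φ : A₀ ⟶ Γ(S, V))
    (P : ChainComplex (ModuleCat.{u} A₀) ℤ) : Prop :=
  ∀ (s : S) [HasInjectiveResolutions (f.fiber s).Modules]
    {Δ : RDer.DerivedLES (Scheme.Modules.pushforward f)}
    {Δs : RDer.DerivedLES (Scheme.Modules.pushforward (f.fiberToSpecResidueField s))}
    (E : CohCmp.SectCmp f Δ) (Es : CohCmp.SectCmp (f.fiberToSpecResidueField s) Δs)
    (Bs : CohCmp.GenBC f (S.fromSpecResidueField s) (f.fiberToSpecResidueField s) (f.fiberι s)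
      (f.fiber_fac s) E Es) (p : ℕ) (q : PrimeSpectrum Γ(S, V)), hV.fromSpec q = s →
    (Epi (Bs.bc p F) ↔
      q ∈ Module.freeLocus Γ(S, V) ((CohIII.bcCx φ.hom P).opcycles (-(p : ℤ) - 1)))

/-- the base change maps over affine opens against the complex -/
def HK {V : S.Opens} (_ : IsAffineOpen V) {A₀ : CommRingCat.{u}} (φ : A₀ ⟶ Γ(S, V))
    (P : ChainComplex (ModuleCat.{u} A₀) ℤ) : Prop :=
  ∀ {S' X' : Scheme.{u}} (g : S' ⟶ S) (g' : X' ⟶ X) (f' : X' ⟶ S')
    (h : IsPullback g' f' f g) [HasInjectiveResolutions X'.Modules]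
    {Δ : RDer.DerivedLES (Scheme.Modules.pushforward f)}
    {Δ' : RDer.DerivedLES (Scheme.Modules.pushforward f')}
    (E : CohCmp.SectCmp f Δ) (E' : CohCmp.SectCmp f' Δ') (B : CohCmp.GenBC f g f' g' h.w E E')
    (p : ℕ) {V' : S'.Opens} (_ : IsAffineOpen V') (hle : V' ≤ g ⁻¹ᵁ V)
    (hWW : f' ⁻¹ᵁ V' ≤ g' ⁻¹ᵁ (f ⁻¹ᵁ V))
    (_ : ∀ x : Coh.HHon X F (f ⁻¹ᵁ V) p,
      CohPull.resLE ((Scheme.Modules.pullback g').obj F) (f'.preimage_mono hle) p
        (CohPull.pullOn g' (f ⁻¹ᵁ V) (f' ⁻¹ᵁ (g ⁻¹ᵁ V)) (CohCmp.sqLE f g f' g' h.w V) F p x) =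
      CohPull.pullOn g' (f ⁻¹ᵁ V) (f' ⁻¹ᵁ V') hWW F p x),
    letI : Algebra Γ(S, V) Γ(S', V') := (g.appLE V V' hle).hom.toAlgebra
    (Function.Bijective ((B.bc p F).app V').hom ↔
      Function.Bijective (tM (CohIII.TFun (CohIII.bcCx φ.hom P) (-(p : ℤ)))
        (ModuleCat.of Γ(S, V) Γ(S', V')))) ∧
    (Function.Surjective ((B.bc p F).app V').hom ↔
      Function.Surjective (tM (CohIII.TFun (CohIII.bcCx φ.hom P) (-(p : ℤ)))
        (ModuleCat.of Γ(S, V) Γ(S', V'))))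

/-- the local universal complex over an affine open `V` of the base, with all its properties -/
structure LocalData {V : S.Opens} (hV : IsAffineOpen V) where
  A₀ : CommRingCat.{u}
  noeth : IsNoetherianRing A₀
  φ : A₀ ⟶ Γ(S, V)
  P : ChainComplex (ModuleCat.{u} A₀) ℤ
  hP : ∀ i, Module.Finite A₀ (P.X i) ∧ Module.Projective A₀ (P.X i)
  N : ℕ
  hN : ∀ i : ℤ, 0 < i ∨ i < -(N : ℤ) → IsZero (P.X i)
  hrk : ∀ (q : Spec Γ(S, V)) (p : ℕ),
    CohIII.dRank P (-(p : ℤ)) (Spec.map φ q) = PerfAux.betti f F (hV.fromSpec q) p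
  hH : ∀ p : ℕ, Nonempty (Γ((Coh.Rpush f p).obj F, V) ≃ₗ[Γ(S, V)]
    ↑((CohIII.bcCx φ.hom P).homology (-(p : ℤ))))
  hHW : HHW f F hV φ P
  hfib : HFib f F hV φ P
  hK : HK f F hV φ P

/-- the local data exist -/
theorem nonempty_localData (hF : CohB1.IsFP F) (hflat : FlatMod.IsFlatOver f F) {V : S.Opens}
    (hV : IsAffineOpen V) : Nonempty (LocalData f F hV) := by
  obtain ⟨A₀, hA₀, φ, P, hP, ⟨N, hN⟩, hrk, hH, hHW, hfib, hK⟩ :=
    exists_local_complexF f F hF hflat hV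
  exact ⟨⟨A₀, hA₀, φ, P, hP, N, hN, hrk, hH, @hHW, @hfib, @hK⟩⟩

namespace LocalData
variable {f F} {V : S.Opens} {hV : IsAffineOpen V} (D : LocalData f F hV)

/-- the complex over `Γ(S, V)` -/
noncomputable abbrev Q : ChainComplex (ModuleCat.{u} Γ(S, V)) ℤ := CohIII.bcCx D.φ.hom D.P

theorem finite_Q (i : ℤ) : Module.Finite Γ(S, V) (D.Q.X i) := by
  letI : Algebra D.A₀ Γ(S, V) := D.φ.hom.toAlgebra
  haveI := (D.hP i).1
  exact finite_bcCx_X D.P Γ(S, V) i

theorem projective_Q (i : ℤ) : Module.Projective Γ(S, V) (D.Q.X i) := by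
  letI : Algebra D.A₀ Γ(S, V) := D.φ.hom.toAlgebra
  haveI := (D.hP i).2
  exact projective_bcCx_X D.P Γ(S, V) i

theorem isZero_Q (i : ℤ) (hi : 0 < i ∨ i < -(D.N : ℤ)) : IsZero (D.Q.X i) :=
  Functor.map_isZero (ModuleCat.extendScalars D.φ.hom) (D.hN i hi)

theorem finitePresentation_opcycles (k : ℤ) :
    Module.FinitePresentation Γ(S, V) (D.Q.opcycles k) := by
  haveI := D.finite_Q (k + 1)
  haveI := D.finite_Q k
  haveI := D.projective_Q k
  exact finitePresentation_opcycles' D.Q (k + 1) k (by simp)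

/-- beyond the length of the complex the cokernels vanish, hence are free everywhere -/
theorem freeLocus_opcycles_eq_univ (k : ℤ) (hk : k < -(D.N : ℤ)) :
    Module.freeLocus Γ(S, V) (D.Q.opcycles k) = Set.univ := by
  have hz : IsZero (D.Q.X k) := D.isZero_Q k (Or.inr hk)
  haveI : Subsingleton (D.Q.X k) := ModuleCat.subsingleton_of_isZero hz
  obtain ⟨-, hsurj⟩ := exact_d_pOpcycles D.Q (k + 1) k (by simp)
  haveI : Subsingleton (D.Q.opcycles k) := hsurj.subsingleton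
  haveI : Module.Finite Γ(S, V) (D.Q.opcycles k) := Module.Finite.of_surjective _ hsurj
  exact Module.freeLocus_eq_univ

/-- the sections of the higher direct images over a basic open of `V` -/
theorem homologyEquiv_basicOpen (a : Γ(S, V)) (p : ℕ) :
    Nonempty (Γ((Coh.Rpush f p).obj F, S.basicOpen a) ≃ₗ[Γ(S, S.basicOpen a)]
      ↑((CohIII.bcCx (algebraMap Γ(S, V) Γ(S, S.basicOpen a)) D.Q).homology (-(p : ℤ)))) := by
  letI : Algebra D.A₀ Γ(S, V) := D.φ.hom.toAlgebra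
  obtain ⟨e⟩ := D.hHW (hV.basicOpen a) (S.basicOpen_le a) p
  let Θ := bcCxComp (algebraMap D.A₀ Γ(S, V)) (algebraMap Γ(S, V) Γ(S, S.basicOpen a)) D.P
  let eΘ := ((HomologicalComplex.homologyFunctor (ModuleCat.{u} Γ(S, S.basicOpen a))
    (ComplexShape.down ℤ) (-(p : ℤ))).mapIso Θ).toLinearEquiv
  exact ⟨e.trans eΘ⟩

theorem neg_sub_one (n : ℕ) : -(n : ℤ) - 1 = -((n + 1 : ℕ) : ℤ) := by push_cast; ring

theorem freeLocus_opcycles_congr {A : Type u} [CommRing A] (K : ChainComplex (ModuleCat.{u} A) ℤ)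
    {k k' : ℤ} (h : k = k') :
    Module.freeLocus A (K.opcycles k) = Module.freeLocus A (K.opcycles k') := by
  subst h
  rfl

/-- the fibre criterion, with the cokernel indexed by its cohomological degree -/
theorem hfib' (s : S) [HasInjectiveResolutions (f.fiber s).Modules]
    {Δ : RDer.DerivedLES (Scheme.Modules.pushforward f)}
    {Δs : RDer.DerivedLES (Scheme.Modules.pushforward (f.fiberToSpecResidueField s))}
    (E : CohCmp.SectCmp f Δ) (Es : CohCmp.SectCmp (f.fiberToSpecResidueField s) Δs)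
    (Bs : CohCmp.GenBC f (S.fromSpecResidueField s) (f.fiberToSpecResidueField s) (f.fiberι s)
      (f.fiber_fac s) E Es) (p : ℕ) (q : PrimeSpectrum Γ(S, V)) (hq : hV.fromSpec q = s) :
    Epi (Bs.bc p F) ↔
      q ∈ Module.freeLocus Γ(S, V) (D.Q.opcycles (-((p + 1 : ℕ) : ℤ))) := by
  rw [← freeLocus_opcycles_congr D.Q (neg_sub_one p)]
  exact D.hfib s E Es Bs p q hq

/-- membership of a point of `V` in a basic open -/
theorem mem_basicOpen_iff (a : Γ(S, V)) (q : PrimeSpectrum Γ(S, V)) :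
    q ∈ PrimeSpectrum.basicOpen a ↔ hV.fromSpec q ∈ S.basicOpen a := by
  rw [← hV.fromSpec_preimage_basicOpen a]
  rfl

/-- over a basic open inside the free loci of `W^n` and `W^{n+1}` the sections of `R^n f_* F` are
finite projective -/
theorem finite_projective_sections_basicOpen (a : Γ(S, V)) (n : ℕ)
    (h1 : (PrimeSpectrum.basicOpen a : Set (PrimeSpectrum Γ(S, V))) ⊆
      Module.freeLocus Γ(S, V) (D.Q.opcycles (-(n : ℤ))))
    (h2 : (PrimeSpectrum.basicOpen a : Set (PrimeSpectrum Γ(S, V))) ⊆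
      Module.freeLocus Γ(S, V) (D.Q.opcycles (-(n : ℤ) - 1))) :
    Module.Finite Γ(S, S.basicOpen a) Γ((Coh.Rpush f n).obj F, S.basicOpen a) ∧
      Module.Projective Γ(S, S.basicOpen a) Γ((Coh.Rpush f n).obj F, S.basicOpen a) := by
  haveI : IsLocalization.Away a Γ(S, S.basicOpen a) := hV.isLocalization_basicOpen a
  obtain ⟨hf, hp⟩ := finite_projective_homology_of_freeLocus Γ(S, S.basicOpen a) a D.Q
    D.finite_Q D.projective_Q (-(n : ℤ)) h1 h2
  obtain ⟨e⟩ := D.homologyEquiv_basicOpen a n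
  haveI := hf
  haveI := hp
  exact ⟨Module.Finite.equiv e.symm, Module.Projective.of_equiv e.symm⟩

/-- conversely, if the sections of `R^n f_* F` over a basic open inside the free locus of `W^{n+1}` are
projective, the basic open lies in the free locus of `W^n` -/
theorem basicOpen_le_freeLocus (a : Γ(S, V)) (n : ℕ)
    (h2 : (PrimeSpectrum.basicOpen a : Set (PrimeSpectrum Γ(S, V))) ⊆
      Module.freeLocus Γ(S, V) (D.Q.opcycles (-(n : ℤ) - 1)))
    (hH : Module.Projective Γ(S, S.basicOpen a) Γ((Coh.Rpush f n).obj F, S.basicOpen a)) :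
    (PrimeSpectrum.basicOpen a : Set (PrimeSpectrum Γ(S, V))) ⊆
      Module.freeLocus Γ(S, V) (D.Q.opcycles (-(n : ℤ))) := by
  haveI : IsLocalization.Away a Γ(S, S.basicOpen a) := hV.isLocalization_basicOpen a
  obtain ⟨e⟩ := D.homologyEquiv_basicOpen a n
  exact basicOpen_le_freeLocus_of_projective_homology Γ(S, S.basicOpen a) a D.Q
    D.finite_Q D.projective_Q (-(n : ℤ)) h2 (Module.Projective.of_equiv e)

end LocalData

section sheaf
variable {S : Scheme.{u}}

attribute [local instance] RingHomInvPair.of_ringEquiv in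
/-- sections over an affine open of a module whose restriction to the open is finite locally free -/
theorem sections_of_isFinLocFree_restrict (M : S.Modules) (D : S.Opens)
    (hD : IsAffineOpen D) (h : FlatMod.IsFinLocFree (M.restrict D.ι)) :
    Module.Finite Γ(S, D) Γ(M, D) ∧ Module.Projective Γ(S, D) Γ(M, D) := by
  haveI : IsAffine (D : Scheme.{u}) := hD
  have h1 := Groth.Agent.Lib.Helper17.PuncAnn.projective_sections_of_isFinLocFree _ h
    (isAffineOpen_top (D : Scheme.{u}))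
  have h2 := Groth.Agent.Lib.Helper17.PuncAnn.finitePresentation_sections_of_isFinLocFree _ h
    (isAffineOpen_top (D : Scheme.{u}))
  have key : ∀ D' : S.Opens, D' = D → Module.Projective Γ(S, D') Γ(M, D') →
      Module.Finite Γ(S, D') Γ(M, D') →
      Module.Finite Γ(S, D) Γ(M, D) ∧ Module.Projective Γ(S, D) Γ(M, D) := by
    rintro D' rfl hp hf
    exact ⟨hf, hp⟩
  let e₁ : Γ((D : Scheme.{u}), ⊤) ≃+* Γ(S, D.ι ''ᵁ ⊤) :=
    (D.ι.appIso ⊤).symm.commRingCatIsoToRingEquiv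
  let e₂ : Γ(M.restrict D.ι, ⊤) ≃ₛₗ[(e₁ : Γ((D : Scheme.{u}), ⊤) →+* Γ(S, D.ι ''ᵁ ⊤))]
      Γ(M, D.ι ''ᵁ ⊤) :=
    { toFun := fun m => m
      invFun := fun m => m
      map_add' := fun _ _ => rfl
      map_smul' := fun _ _ => rfl
      left_inv := fun _ => rfl
      right_inv := fun _ => rfl }
  haveI := h1
  haveI : Module.Finite Γ((D : Scheme.{u}), ⊤) Γ(M.restrict D.ι, ⊤) := inferInstance
  have h1' : Module.Projective Γ(S, D.ι ''ᵁ ⊤) Γ(M, D.ι ''ᵁ ⊤) := Module.Projective.of_equiv e₂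
  have h2' : Module.Finite Γ(S, D.ι ''ᵁ ⊤) Γ(M, D.ι ''ᵁ ⊤) :=
    Module.Finite.of_surjective e₂.toLinearMap e₂.surjective
  exact key (D.ι ''ᵁ ⊤) (by simp) h1' h2'

end sheaf

namespace LocalData
variable {f F} {V : S.Opens} {hV : IsAffineOpen V} (D : LocalData f F hV)

/-- **if `R^n f_* F` is finite locally free near the point `q` and `W^{n+1}` is free at `q`, then `W^n`
is free at `q`** -/
theorem mem_freeLocus_of_isFinLocFree (n : ℕ) (q : PrimeSpectrum Γ(S, V)) (U : S.Opens)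
    (hqU : hV.fromSpec q ∈ U)
    (hU : FlatMod.IsFinLocFree (((Coh.Rpush f n).obj F).restrict U.ι))
    (h2 : q ∈ Module.freeLocus Γ(S, V) (D.Q.opcycles (-(n : ℤ) - 1))) :
    q ∈ Module.freeLocus Γ(S, V) (D.Q.opcycles (-(n : ℤ))) := by
  haveI := D.finitePresentation_opcycles (-(n : ℤ) - 1)
  obtain ⟨a₁, hq1, ha₁⟩ := exists_basicOpen_le_freeLocus _ q h2
  obtain ⟨a₂, ha₂U, hq2⟩ := hV.exists_basicOpen_le (V := U) ⟨hV.fromSpec q, hqU⟩
    (fromSpec_mem hV q)
  have hqa : q ∈ PrimeSpectrum.basicOpen (a₁ * a₂) := by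
    rw [PrimeSpectrum.basicOpen_mul]
    exact ⟨hq1, (mem_basicOpen_iff (hV := hV) a₂ q).2 hq2⟩
  have hsub1 : (PrimeSpectrum.basicOpen (a₁ * a₂) : Set (PrimeSpectrum Γ(S, V))) ⊆
      PrimeSpectrum.basicOpen a₁ := PrimeSpectrum.basicOpen_mul_le_left a₁ a₂
  have hleU : S.basicOpen (a₁ * a₂) ≤ U := by
    rw [Scheme.basicOpen_mul]
    exact inf_le_right.trans ha₂U
  have hlf := Groth.Agent.Lib.Helper1.SPL.isFinLocFree_restrict_of_le _ hleU hU
  obtain ⟨-, hp⟩ := sections_of_isFinLocFree_restrict _ (S.basicOpen (a₁ * a₂))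
    (hV.basicOpen (a₁ * a₂)) hlf
  exact D.basicOpen_le_freeLocus (a₁ * a₂) n (hsub1.trans ha₁) hp hqa

/-- **if `W^n` and `W^{n+1}` are free at `q`, then `R^n f_* F` is finite locally free on a basic open
neighbourhood of `q` contained in both free loci** -/
theorem exists_basicOpen_isFinLocFree [Coh.IsQCoh F] (n : ℕ) (q : PrimeSpectrum Γ(S, V))
    (h1 : q ∈ Module.freeLocus Γ(S, V) (D.Q.opcycles (-(n : ℤ))))
    (h2 : q ∈ Module.freeLocus Γ(S, V) (D.Q.opcycles (-(n : ℤ) - 1))) :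
    ∃ a : Γ(S, V), q ∈ PrimeSpectrum.basicOpen a ∧
      (PrimeSpectrum.basicOpen a : Set (PrimeSpectrum Γ(S, V))) ⊆
        Module.freeLocus Γ(S, V) (D.Q.opcycles (-(n : ℤ))) ∧
      (PrimeSpectrum.basicOpen a : Set (PrimeSpectrum Γ(S, V))) ⊆
        Module.freeLocus Γ(S, V) (D.Q.opcycles (-(n : ℤ) - 1)) ∧
      FlatMod.IsFinLocFree (((Coh.Rpush f n).obj F).restrict (S.basicOpen a).ι) := by
  haveI := D.finitePresentation_opcycles (-(n : ℤ))
  haveI := D.finitePresentation_opcycles (-(n : ℤ) - 1)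
  obtain ⟨a₁, hq1, ha₁⟩ := exists_basicOpen_le_freeLocus _ q h1
  obtain ⟨a₂, hq2, ha₂⟩ := exists_basicOpen_le_freeLocus _ q h2
  have hqa : q ∈ PrimeSpectrum.basicOpen (a₁ * a₂) := by
    rw [PrimeSpectrum.basicOpen_mul]
    exact ⟨hq1, hq2⟩
  have hsub1 : (PrimeSpectrum.basicOpen (a₁ * a₂) : Set (PrimeSpectrum Γ(S, V))) ⊆
      PrimeSpectrum.basicOpen a₁ := PrimeSpectrum.basicOpen_mul_le_left a₁ a₂
  have hsub2 : (PrimeSpectrum.basicOpen (a₁ * a₂) : Set (PrimeSpectrum Γ(S, V))) ⊆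
      PrimeSpectrum.basicOpen a₂ := PrimeSpectrum.basicOpen_mul_le_right a₁ a₂
  refine ⟨a₁ * a₂, hqa, hsub1.trans ha₁, hsub2.trans ha₂, ?_⟩
  haveI : ((Coh.Rpush f n).obj F).IsQuasicoherent := Groth.Agent.S0030.result f F n
  refine Groth.Agent.Lib.Helper21.BC0Nhd.isFinLocFree_restrict_of_affine' _ _ (fun y hy => ?_)
  exact ⟨S.basicOpen (a₁ * a₂), hV.basicOpen (a₁ * a₂), hy, le_rfl,
    D.finite_projective_sections_basicOpen (a₁ * a₂) n (hsub1.trans ha₁) (hsub2.trans ha₂)⟩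

end LocalData

end Groth.Agent.Lib.Helper21.GBC20
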