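import Groth.Agent.Lib.Helper21GBC20

/-!
# General base change, part 21: surjectivity of the fibre base change maps in high degrees and finite
local freeness of the higher direct images (helper21)
-/

set_option autoImplicit false
set_option linter.style.haveILetI false
set_option linter.unusedSectionVars false
universe u
open CategoryTheory CategoryTheory.Limits AlgebraicGeometry Opposite TopologicalSpace TensorProduct

namespace Groth.Agent.Lib.Helper21.GBC21

open Groth.Agent.Lib.Helper21.BC0Alg Groth.Agent.Lib.Helper21.BC0Cx Groth.Agent.Lib.Helper21.BC0Free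
  Groth.Agent.Lib.Helper21.AlgBC Groth.Agent.Lib.Helper21.BC0Loc Groth.Agent.Lib.Helper3
  Groth.Agent.Lib.Helper21.GBC16 Groth.Agent.Lib.Helper21.GBC17
  Groth.Agent.Lib.Helper21.GBC19 Groth.Agent.Lib.Helper21.GBC20 Groth.Agent.Lib.Helper21.NNBC

variable {X S : Scheme.{u}} {f : X ⟶ S} [IsProper f] [LocallyOfFinitePresentation f]
  [HasInjectiveResolutions X.Modules] {F : X.Modules}

section LD
variable {V : S.Opens} {hV : IsAffineOpen V} (D : LocalData f F hV)

/-- if `W^n` and `W^{n+1}` are free everywhere, the sections of `R^n f_* F` over `V` are finite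
projective -/
theorem _root_.Groth.Agent.Lib.Helper21.GBC20.LocalData.finite_projective_sections (n : ℕ)
    (h1 : Module.freeLocus Γ(S, V) (D.Q.opcycles (-(n : ℤ))) = Set.univ)
    (h2 : Module.freeLocus Γ(S, V) (D.Q.opcycles (-(n : ℤ) - 1)) = Set.univ) :
    Module.Finite Γ(S, V) Γ((Coh.Rpush f n).obj F, V) ∧
      Module.Projective Γ(S, V) Γ((Coh.Rpush f n).obj F, V) := by
  haveI := D.finitePresentation_opcycles (-(n : ℤ))
  haveI := D.finitePresentation_opcycles (-(n : ℤ) - 1)
  haveI : Module.Projective Γ(S, V) (D.Q.opcycles (-(n : ℤ))) :=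
    Module.freeLocus_eq_univ_iff.mp h1
  haveI : Module.Projective Γ(S, V) (D.Q.opcycles (-(n : ℤ) - 1)) :=
    Module.freeLocus_eq_univ_iff.mp h2
  haveI := D.finite_Q (-(n : ℤ) - 1)
  haveI := D.projective_Q (-(n : ℤ) - 1)
  haveI : Module.Finite Γ(S, V) (D.Q.opcycles (-(n : ℤ))) := inferInstance
  obtain ⟨hf, hp⟩ := finite_projective_homology D.Q (-(n : ℤ))
  obtain ⟨e⟩ := D.hH n
  haveI := hf
  haveI := hp
  exact ⟨Module.Finite.equiv e.symm, Module.Projective.of_equiv e.symm⟩

end LD

section main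
variable (f F) (hF : CohB1.IsFP F) (hflat : FlatMod.IsFlatOver f F)
  [∀ s : S, HasInjectiveResolutions (f.fiber s).Modules]
  {Δ : RDer.DerivedLES (Scheme.Modules.pushforward f)} (E : CohCmp.SectCmp f Δ)
  (Δs : ∀ s : S, RDer.DerivedLES (Scheme.Modules.pushforward (f.fiberToSpecResidueField s)))
  (Es : ∀ s : S, CohCmp.SectCmp (f.fiberToSpecResidueField s) (Δs s))
  (Bs : ∀ s : S, CohCmp.GenBC f (S.fromSpecResidueField s) (f.fiberToSpecResidueField s)
    (f.fiberι s) (f.fiber_fac s) E (Es s))

include hF hflat in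
/-- if the fibre base change maps in degrees `n - 1` and `n` are epimorphisms at all points, `R^n f_* F`
is finite locally free -/
theorem isFinLocFree_of_epi (n : ℕ) (h1 : ∀ s : S, Epi ((Bs s).bc n F))
    (h0 : ∀ s : S, Epi ((Bs s).bc (n + 1) F)) :
    FlatMod.IsFinLocFree ((Coh.Rpush f (n + 1)).obj F) := by
  haveI hq : F.IsQuasicoherent := Groth.Agent.Helper18Strict.isQCoh_of_isFP F hF
  haveI : Coh.IsQCoh F := hq
  haveI : ((Coh.Rpush f (n + 1)).obj F).IsQuasicoherent := Groth.Agent.S0030.result f F (n + 1)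
  refine Groth.Agent.Lib.Helper1.SPL.isFinLocFree_of_local _ (fun y => ?_)
  refine ⟨_, (⊤ : S.Opens).ι, inferInstance, ?_, ?_⟩
  · rw [Scheme.Opens.opensRange_ι]
    trivial
  · refine isFinLocFree_restrict_of_affine _ ⊤ (fun V hV _ => ?_)
    obtain ⟨D⟩ := nonempty_localData f F hF hflat hV
    refine D.finite_projective_sections (n + 1) ?_ ?_
    · rw [Set.eq_univ_iff_forall]
      intro q
      exact (D.hfib' (hV.fromSpec q) E (Es _) (Bs _) n q rfl).1 (h1 _)
    · rw [Set.eq_univ_iff_forall]
      intro q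
      exact (D.hfib (hV.fromSpec q) E (Es _) (Bs _) (n + 1) q rfl).1 (h0 _)

include hF hflat in
/-- **surjectivity of the fibre base change maps in degrees `≥ m` is equivalent to finite local
freeness of `R^i f_* F` for `i > m`** -/
theorem forall_epi_iff_forall_isFinLocFree (m : ℕ) :
    (∀ (s : S) (i : ℕ), m ≤ i → Epi ((Bs s).bc i F)) ↔
      ∀ i : ℕ, m < i → FlatMod.IsFinLocFree ((Coh.Rpush f i).obj F) := by
  haveI hq : F.IsQuasicoherent := Groth.Agent.Helper18Strict.isQCoh_of_isFP F hF
  haveI : Coh.IsQCoh F := hq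
  constructor
  · intro h i hi
    obtain ⟨n, rfl⟩ : ∃ n, i = n + 1 := ⟨i - 1, by omega⟩
    exact isFinLocFree_of_epi f F hF hflat E Δs Es Bs n (fun s => h s n (by omega))
      (fun s => h s (n + 1) (by omega))
  · intro h s
    obtain ⟨V, hV, hsV, -⟩ := exists_isAffineOpen_mem_and_subset (x := s) (U := ⊤) trivial
    obtain ⟨D⟩ := nonempty_localData f F hF hflat hV
    obtain ⟨q, hq⟩ := exists_fromSpec_eq hV s hsV
    have key : ∀ (k i : ℕ), m ≤ i → D.N ≤ i + k →
        q ∈ Module.freeLocus Γ(S, V) (D.Q.opcycles (-(i : ℤ) - 1)) := by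
      intro k
      induction k with
      | zero =>
        intro i _ hi
        rw [D.freeLocus_opcycles_eq_univ (-(i : ℤ) - 1) (by omega)]
        trivial
      | succ k ih =>
        intro i hmi hi
        by_cases hN : D.N ≤ i
        · rw [D.freeLocus_opcycles_eq_univ (-(i : ℤ) - 1) (by omega)]
          trivial
        · have h2 := ih (i + 1) (by omega) (by omega)
          have hlf : FlatMod.IsFinLocFree (((Coh.Rpush f (i + 1)).obj F).restrict (⊤ : S.Opens).ι) :=
            Groth.Agent.Lib.Helper1.SPL.isFinLocFree_restrict _ _ (h (i + 1) (by omega))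
          have h3 := D.mem_freeLocus_of_isFinLocFree (i + 1) q ⊤ trivial hlf h2
          rw [LocalData.freeLocus_opcycles_congr D.Q (LocalData.neg_sub_one i)]
          exact h3
    intro i hi
    exact (D.hfib s E (Es s) (Bs s) i q hq).2 (key D.N i hi (by omega))

end main

end Groth.Agent.Lib.Helper21.GBC21
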