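import Groth.Agent.Lib.Helper21GBC21

/-!
# General base change, part 22: local constancy of the fibre dimension (helper21)
-/

set_option autoImplicit false
set_option linter.style.haveILetI false
set_option linter.unusedSectionVars false
universe u
open CategoryTheory CategoryTheory.Limits AlgebraicGeometry Opposite TopologicalSpace TensorProduct

namespace Groth.Agent.Lib.Helper21.GBC22

open Groth.Agent.Lib.Helper21.BC0Alg Groth.Agent.Lib.Helper21.BC0Cx Groth.Agent.Lib.Helper21.BC0Free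
  Groth.Agent.Lib.Helper21.AlgBC Groth.Agent.Lib.Helper21.BC0Loc Groth.Agent.Lib.Helper3
  Groth.Agent.Lib.Helper21.GBC16 Groth.Agent.Lib.Helper21.GBC17
  Groth.Agent.Lib.Helper21.GBC19 Groth.Agent.Lib.Helper21.GBC20 Groth.Agent.Lib.Helper21.NNBC

variable {X S : Scheme.{u}} {f : X ⟶ S} [IsProper f] [LocallyOfFinitePresentation f]
  [HasInjectiveResolutions X.Modules] {F : X.Modules}
  {V : S.Opens} {hV : IsAffineOpen V} (D : LocalData f F hV)

/-- the fibre dimension at the points of a basic open, in terms of the complex over the basic open -/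
theorem fiberRank_fromSpec_basicOpen (a : Γ(S, V)) (n : ℕ) (x : PrimeSpectrum Γ(S, S.basicOpen a)) :
    CohIII.fiberRank f F n ((hV.basicOpen a).fromSpec x) =
      CohIII.dRank (CohIII.bcCx (algebraMap Γ(S, V) Γ(S, S.basicOpen a)) D.Q) (-(n : ℤ)) x := by
  letI : Algebra D.A₀ Γ(S, V) := D.φ.hom.toAlgebra
  have hflatQ : ∀ i, Module.Flat Γ(S, V) (D.Q.X i) := fun i => by
    haveI := D.projective_Q i
    infer_instance
  have hflatP : ∀ i, Module.Flat D.A₀ (D.P.X i) := fun i => by
    haveI := (D.hP i).2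
    infer_instance
  rw [Groth.Agent.S2440.result D.Q hflatQ (-(n : ℤ)) x]
  have h2 := Groth.Agent.S2440.result (A' := Γ(S, V)) D.P hflatP (-(n : ℤ))
    (PrimeSpectrum.comap (algebraMap Γ(S, V) Γ(S, S.basicOpen a)) x)
  have h3 := D.hrk (PrimeSpectrum.comap (algebraMap Γ(S, V) Γ(S, S.basicOpen a)) x) n
  have h4 : hV.fromSpec (PrimeSpectrum.comap (algebraMap Γ(S, V) Γ(S, S.basicOpen a)) x) =
      (hV.basicOpen a).fromSpec x := by
    have e0 := hV.map_fromSpec (hV.basicOpen a) (homOfLE (S.basicOpen_le a)).op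
    exact congrArg (fun t : Spec Γ(S, S.basicOpen a) ⟶ S => t x) e0
  rw [← h4]
  exact (h2.trans h3).symm

/-- **over a basic open inside the free loci of `W^n` and `W^{n+1}` the dimension of `H^n` of the fibres
is locally constant** -/
theorem isLocallyConstant_fiberRank (a : Γ(S, V)) (n : ℕ)
    (h1 : (PrimeSpectrum.basicOpen a : Set (PrimeSpectrum Γ(S, V))) ⊆
      Module.freeLocus Γ(S, V) (D.Q.opcycles (-(n : ℤ))))
    (h2 : (PrimeSpectrum.basicOpen a : Set (PrimeSpectrum Γ(S, V))) ⊆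
      Module.freeLocus Γ(S, V) (D.Q.opcycles (-(n : ℤ) - 1))) :
    IsLocallyConstant (fun v : S.basicOpen a => CohIII.fiberRank f F n v.1) := by
  haveI : IsLocalization.Away a Γ(S, S.basicOpen a) := hV.isLocalization_basicOpen a
  let K := CohIII.bcCx (algebraMap Γ(S, V) Γ(S, S.basicOpen a)) D.Q
  haveI : ∀ i, Module.Finite Γ(S, S.basicOpen a) (K.X i) := fun i => by
    haveI := D.finite_Q i
    exact finite_bcCx_X D.Q Γ(S, S.basicOpen a) i
  haveI : ∀ i, Module.Projective Γ(S, S.basicOpen a) (K.X i) := fun i => by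
    haveI := D.projective_Q i
    exact projective_bcCx_X D.Q Γ(S, S.basicOpen a) i
  haveI := D.finitePresentation_opcycles (-(n : ℤ) - 1)
  haveI : Module.Projective Γ(S, S.basicOpen a) (K.opcycles (-(n : ℤ) - 1)) :=
    projective_opcycles_of_freeLocus Γ(S, S.basicOpen a) D.Q (-(n : ℤ) - 1)
      (comap_mem_of_away Γ(S, S.basicOpen a) a _ h2)
  obtain ⟨hHf, hHp⟩ := finite_projective_homology_of_freeLocus Γ(S, S.basicOpen a) a D.Q
    D.finite_Q D.projective_Q (-(n : ℤ)) h1 h2
  haveI := hHf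
  haveI := hHp
  have key1 : ∀ x : PrimeSpectrum Γ(S, S.basicOpen a),
      CohIII.dRank K (-(n : ℤ)) x = Module.rankAtStalk (K.homology (-(n : ℤ))) x := by
    intro x
    rw [Module.rankAtStalk_eq x]
    haveI : Module.Flat Γ(S, S.basicOpen a) (K.X (-(n : ℤ) - 1)) := inferInstance
    haveI : Module.Flat Γ(S, S.basicOpen a) (K.opcycles (-(n : ℤ) - 1)) := inferInstance
    obtain ⟨e⟩ := nonempty_bcHomologyEquiv x.asIdeal.ResidueField K (-(n : ℤ)) (-(n : ℤ) - 1)
      (by simp)
    exact LinearEquiv.finrank_eq e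
  haveI : Module.FinitePresentation Γ(S, S.basicOpen a) (K.homology (-(n : ℤ))) :=
    Module.finitePresentation_of_projective _ _
  have hlc : IsLocallyConstant
      (fun x : PrimeSpectrum Γ(S, S.basicOpen a) => Module.rankAtStalk (K.homology (-(n : ℤ))) x) :=
    Module.isLocallyConstant_rankAtStalk
  rw [IsLocallyConstant.iff_exists_open]
  intro v
  have hv : v.1 ∈ Set.range (hV.basicOpen a).fromSpec := by
    rw [(hV.basicOpen a).range_fromSpec]
    exact v.2
  obtain ⟨x, hx⟩ := hv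
  obtain ⟨O, hO, hxO, hconst⟩ := (IsLocallyConstant.iff_exists_open _).1 hlc x
  have hopen : IsOpen ((hV.basicOpen a).fromSpec '' O) :=
    (hV.basicOpen a).fromSpec.isOpenEmbedding.isOpenMap O hO
  refine ⟨Subtype.val ⁻¹' ((hV.basicOpen a).fromSpec '' O), hopen.preimage continuous_subtype_val,
    ⟨x, hxO, hx⟩, ?_⟩
  rintro w ⟨x', hx'O, hx'⟩
  rw [← hx', ← hx, fiberRank_fromSpec_basicOpen D a n x', fiberRank_fromSpec_basicOpen D a n x,
    key1, key1]
  exact hconst x' hx'O

section main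
variable (f F) (hF : CohB1.IsFP F) (hflat : FlatMod.IsFlatOver f F) (s : S)
  [HasInjectiveResolutions (f.fiber s).Modules]
  {Δ : RDer.DerivedLES (Scheme.Modules.pushforward f)}
  {Δs : RDer.DerivedLES (Scheme.Modules.pushforward (f.fiberToSpecResidueField s))}
  (E : CohCmp.SectCmp f Δ) (Es : CohCmp.SectCmp (f.fiberToSpecResidueField s) Δs)
  (Bs : CohCmp.GenBC f (S.fromSpecResidueField s) (f.fiberToSpecResidueField s) (f.fiberι s)
    (f.fiber_fac s) E Es)

include hF hflat in
/-- **if the fibre base change map in degree `i + 1` at `s` is an epimorphism, the one in degree `i` is an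
epimorphism iff `R^{i+1} f_* F` is finite locally free near `s`; the fibre dimension in degree `i + 1`
is then locally constant near `s`** -/
theorem epi_iff_exists_nhd_isFinLocFree (i : ℕ) (hs : Epi (Bs.bc (i + 1) F)) :
    (Epi (Bs.bc i F) ↔
      ∃ V : S.Opens, s ∈ V ∧
        FlatMod.IsFinLocFree (((Coh.Rpush f (i + 1)).obj F).restrict V.ι)) ∧
    (Epi (Bs.bc i F) →
      ∃ V : S.Opens, s ∈ V ∧
        FlatMod.IsFinLocFree (((Coh.Rpush f (i + 1)).obj F).restrict V.ι) ∧
        IsLocallyConstant (fun v : V => CohIII.fiberRank f F (i + 1) v.1)) := by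
  haveI hq : F.IsQuasicoherent := Groth.Agent.Helper18Strict.isQCoh_of_isFP F hF
  haveI : Coh.IsQCoh F := hq
  obtain ⟨V₀, hV₀, hsV, -⟩ := exists_isAffineOpen_mem_and_subset (x := s) (U := ⊤) trivial
  obtain ⟨D⟩ := nonempty_localData f F hF hflat hV₀
  obtain ⟨q, hq⟩ := exists_fromSpec_eq hV₀ s hsV
  have h2 : q ∈ Module.freeLocus Γ(S, V₀) (D.Q.opcycles (-((i + 1 : ℕ) : ℤ) - 1)) :=
    (D.hfib s E Es Bs (i + 1) q hq).1 hs
  have hfwd : Epi (Bs.bc i F) →
      ∃ V : S.Opens, s ∈ V ∧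
        FlatMod.IsFinLocFree (((Coh.Rpush f (i + 1)).obj F).restrict V.ι) ∧
        IsLocallyConstant (fun v : V => CohIII.fiberRank f F (i + 1) v.1) := by
    intro h
    have h1 := (D.hfib' s E Es Bs i q hq).1 h
    obtain ⟨a, hqa, ha1, ha2, hlf⟩ := D.exists_basicOpen_isFinLocFree (i + 1) q h1 h2
    refine ⟨S.basicOpen a, ?_, hlf, isLocallyConstant_fiberRank D a (i + 1) ha1 ha2⟩
    rw [← hq]
    exact (LocalData.mem_basicOpen_iff (hV := hV₀) a q).1 hqa
  refine ⟨⟨fun h => ?_, ?_⟩, hfwd⟩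
  · obtain ⟨V, hsV', hlf, -⟩ := hfwd h
    exact ⟨V, hsV', hlf⟩
  · rintro ⟨U, hsU, hU⟩
    have h1 := D.mem_freeLocus_of_isFinLocFree (i + 1) q U (hq ▸ hsU) hU h2
    exact (D.hfib' s E Es Bs i q hq).2 h1

end main

end Groth.Agent.Lib.Helper21.GBC22
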