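import Groth.Agent.Lib.Helper16ExtCompare

/-!
# Naturality toolkit for `Ext` along exact functors (helper9)

* `family_unique`: two families `Ext^n(A, F) → Ext^n(B, R F)` compatible with the connecting classes
  of short exact sequences and agreeing in degree `0` agree in all degrees (universal δ-functor argument).
* `mapExactFunctor_mapExactFunctor`: functoriality of `Ext.mapExactFunctor` in the functor.
* `mapExactFunctor_natTrans`: naturality of `Ext.mapExactFunctor` with respect to natural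
  transformations of exact functors.
* `cmp_cmp`, `cmp_natTrans`, `cmp_precomp`, `cmp_postcomp` for helper16's comparison maps `cmp`.
-/

set_option autoImplicit false

universe w w' w'' v v' v'' u u' u''

open CategoryTheory CategoryTheory.Limits Abelian
open Groth.Agent.Lib.Helper16.ExtCompare

namespace Groth.Agent.Lib.Helper9.ExtNat

section

variable {𝒞 : Type u} [Category.{v} 𝒞] [Abelian 𝒞] [HasExt.{w} 𝒞]
variable {𝒟 : Type u'} [Category.{v'} 𝒟] [Abelian 𝒟] [HasExt.{w'} 𝒟]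

attribute [local instance] Ext.subsingleton_of_injective in
/-- uniqueness of δ-compatible families out of `Ext^*(A, -)` -/
theorem family_unique [EnoughInjectives 𝒞] (R : 𝒞 ⥤ 𝒟) [R.Additive] [PreservesFiniteLimits R]
    [PreservesFiniteColimits R] {A : 𝒞} {B : 𝒟}
    (τ τ' : ∀ (F : 𝒞) (n : ℕ), Ext.{w} A F n → Ext.{w'} B (R.obj F) n)
    (hτ : ∀ (S : ShortComplex 𝒞) (hS : S.ShortExact) (n : ℕ) (x : Ext.{w} A S.X₃ n),
      τ S.X₁ (n + 1) (x.comp hS.extClass rfl) =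
        (τ S.X₃ n x).comp (hS.map_of_exact R).extClass rfl)
    (hτ' : ∀ (S : ShortComplex 𝒞) (hS : S.ShortExact) (n : ℕ) (x : Ext.{w} A S.X₃ n),
      τ' S.X₁ (n + 1) (x.comp hS.extClass rfl) =
        (τ' S.X₃ n x).comp (hS.map_of_exact R).extClass rfl)
    (h0 : ∀ (F : 𝒞) (x : Ext.{w} A F 0), τ F 0 x = τ' F 0 x) (n : ℕ) :
    ∀ (F : 𝒞) (x : Ext.{w} A F n), τ F n x = τ' F n x := by
  induction n with
  | zero => exact h0
  | succ n hn =>
    intro F x
    let I : InjectivePresentation F := Classical.arbitrary _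
    let S := ShortComplex.mk _ _ (cokernel.condition I.f)
    haveI : Injective S.X₂ := I.injective
    have hS : S.ShortExact := { exact := ShortComplex.exact_cokernel I.f }
    obtain ⟨y, rfl⟩ := Ext.covariant_sequence_exact₁ A hS (x : Ext.{w} A S.X₁ (n + 1))
      (by subsingleton) rfl
    rw [hτ S hS n y, hτ' S hS n y, hn S.X₃ y]

end

section

variable {𝒟 : Type u'} [Category.{v'} 𝒟] [Abelian 𝒟] [HasExt.{w'} 𝒟]
variable {ℰ : Type u''} [Category.{v''} ℰ] [Abelian ℰ] [HasExt.{w''} ℰ]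
variable (R' : 𝒟 ⥤ ℰ) [R'.Additive] [PreservesFiniteLimits R'] [PreservesFiniteColimits R']

lemma mapExactFunctor_comp_extClass {B : 𝒟} {T : ShortComplex 𝒟} (hT : T.ShortExact) {n : ℕ}
    (a : Ext.{w'} B T.X₃ n) :
    ((a.comp hT.extClass rfl : Ext.{w'} B T.X₁ (n + 1)).mapExactFunctor R' : Ext.{w''} _ _ (n + 1)) =
      (a.mapExactFunctor R' : Ext.{w''} _ _ n).comp (hT.map_of_exact R').extClass rfl := by
  rw [Ext.mapExactFunctor_comp, Ext.mapExactFunctor_extClass]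
  rfl

end

section Functoriality

variable {𝒞 : Type u} [Category.{v} 𝒞] [Abelian 𝒞] [EnoughInjectives 𝒞] [HasExt.{w} 𝒞]
variable {𝒟 : Type u'} [Category.{v'} 𝒟] [Abelian 𝒟] [HasExt.{w'} 𝒟]
variable {ℰ : Type u''} [Category.{v''} ℰ] [Abelian ℰ] [HasExt.{w''} ℰ]
variable (R : 𝒞 ⥤ 𝒟) [R.Additive] [PreservesFiniteLimits R] [PreservesFiniteColimits R]
variable (R' : 𝒟 ⥤ ℰ) [R'.Additive] [PreservesFiniteLimits R'] [PreservesFiniteColimits R']

/-- `Ext.mapExactFunctor` is compatible with composition of exact functors -/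
theorem mapExactFunctor_mapExactFunctor {A F : 𝒞} {n : ℕ} (x : Ext.{w} A F n) :
    ((x.mapExactFunctor R : Ext.{w'} _ _ n).mapExactFunctor R' : Ext.{w''} _ _ n) =
      (x.mapExactFunctor (R ⋙ R') : Ext.{w''} _ _ n) := by
  refine family_unique (R ⋙ R') (A := A) (B := R'.obj (R.obj A))
    (fun F n x => ((x.mapExactFunctor R : Ext.{w'} _ _ n).mapExactFunctor R' : Ext.{w''} _ _ n))
    (fun F n x => (x.mapExactFunctor (R ⋙ R') : Ext.{w''} _ _ n)) ?_ ?_ ?_ n F x
  · intro S hS n x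
    have h1 := mapExactFunctor_comp_extClass R hS x
    have h2 := mapExactFunctor_comp_extClass R' (hS.map_of_exact R)
      (x.mapExactFunctor R : Ext.{w'} _ _ n)
    exact (congrArg (fun t : Ext.{w'} _ _ (n + 1) => (t.mapExactFunctor R' : Ext.{w''} _ _ (n + 1)))
      h1).trans h2
  · intro S hS n x
    exact mapExactFunctor_comp_extClass (R ⋙ R') hS x
  · intro F x
    obtain ⟨φ, rfl⟩ := (Ext.mk₀_bijective A F).2 x
    rw [Ext.mapExactFunctor_mk₀, Ext.mapExactFunctor_mk₀, Ext.mapExactFunctor_mk₀]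
    rfl

variable {R}
variable {R₂ : 𝒞 ⥤ 𝒟} [R₂.Additive] [PreservesFiniteLimits R₂] [PreservesFiniteColimits R₂]

/-- `Ext.mapExactFunctor` is natural in the exact functor -/
theorem mapExactFunctor_natTrans (e : R ⟶ R₂) {A F : 𝒞} {n : ℕ} (x : Ext.{w} A F n) :
    (x.mapExactFunctor R : Ext.{w'} _ _ n).comp (Ext.mk₀ (e.app F)) (add_zero n) =
      (Ext.mk₀ (e.app A)).comp (x.mapExactFunctor R₂ : Ext.{w'} _ _ n) (zero_add n) := by
  refine family_unique R₂ (A := A) (B := R.obj A)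
    (fun F n x => (x.mapExactFunctor R : Ext.{w'} _ _ n).comp (Ext.mk₀ (e.app F)) (add_zero n))
    (fun F n x => (Ext.mk₀ (e.app A)).comp (x.mapExactFunctor R₂ : Ext.{w'} _ _ n) (zero_add n))
    ?_ ?_ ?_ n F x
  · intro S hS n x
    have a := mapExactFunctor_comp_extClass R hS x
    have nat := ShortComplex.ShortExact.extClass_naturality (hS.map_of_exact R)
      (hS.map_of_exact R₂) (S.mapNatTrans e)
    let xR : Ext.{w'} (R.obj A) (S.map R).X₃ n := x.mapExactFunctor R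
    calc ((x.comp hS.extClass rfl).mapExactFunctor R : Ext.{w'} _ _ (n + 1)).comp
          (Ext.mk₀ (e.app S.X₁)) (add_zero (n + 1))
        = (xR.comp (hS.map_of_exact R).extClass rfl : Ext.{w'} _ _ (n + 1)).comp
            (Ext.mk₀ (S.mapNatTrans e).τ₁) (add_zero (n + 1)) :=
          congrArg (fun t : Ext.{w'} (R.obj A) (S.map R).X₁ (n + 1) =>
            t.comp (Ext.mk₀ (S.mapNatTrans e).τ₁) (add_zero (n + 1))) a
      _ = xR.comp ((hS.map_of_exact R).extClass.comp (Ext.mk₀ (S.mapNatTrans e).τ₁)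
            (add_zero 1)) rfl := Ext.comp_assoc_of_third_deg_zero _ _ _ _
      _ = xR.comp ((Ext.mk₀ (S.mapNatTrans e).τ₃).comp (hS.map_of_exact R₂).extClass
            (zero_add 1)) rfl := congrArg (fun t => xR.comp t rfl) nat
      _ = (xR.comp (Ext.mk₀ (S.mapNatTrans e).τ₃) (add_zero n)).comp
            (hS.map_of_exact R₂).extClass rfl :=
          (Ext.comp_assoc_of_second_deg_zero _ _ _ _).symm
  · intro S hS n x
    rw [Ext.mapExactFunctor_comp, Ext.mapExactFunctor_extClass]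
    exact (Ext.comp_assoc _ _ _ _ _ (by omega)).symm
  · intro F x
    obtain ⟨φ, rfl⟩ := (Ext.mk₀_bijective A F).2 x
    rw [Ext.mapExactFunctor_mk₀, Ext.mapExactFunctor_mk₀, Ext.mk₀_comp_mk₀, Ext.mk₀_comp_mk₀,
      e.naturality]

end Functoriality

section Cmp

variable {𝒞 : Type u} [Category.{v} 𝒞] [Abelian 𝒞] [EnoughInjectives 𝒞] [HasExt.{w} 𝒞]
variable {𝒟 : Type u'} [Category.{v'} 𝒟] [Abelian 𝒟] [HasExt.{w'} 𝒟]
variable {ℰ : Type u''} [Category.{v''} ℰ] [Abelian ℰ] [HasExt.{w''} ℰ]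
variable (R : 𝒞 ⥤ 𝒟) [R.Additive] [PreservesFiniteLimits R] [PreservesFiniteColimits R]
variable (R' : 𝒟 ⥤ ℰ) [R'.Additive] [PreservesFiniteLimits R'] [PreservesFiniteColimits R']

lemma cmp_precomp {A A' : 𝒞} {B : 𝒟} (w : B ⟶ R.obj A') (a : A' ⟶ A) (F : 𝒞) (n : ℕ)
    (x : Ext.{w} A F n) :
    cmp R (w ≫ R.map a) F n x = cmp R w F n ((Ext.mk₀ a).comp x (zero_add n)) := by
  rw [cmp_apply, cmp_apply, Ext.mapExactFunctor_comp, Ext.mapExactFunctor_mk₀,
    Ext.mk₀_comp_mk₀_assoc]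

lemma cmp_postcomp {A : 𝒞} {B : 𝒟} (w : B ⟶ R.obj A) {F F' : 𝒞} (φ : F ⟶ F') (n : ℕ)
    (x : Ext.{w} A F n) :
    cmp R w F' n (x.comp (Ext.mk₀ φ) (add_zero n)) =
      (cmp R w F n x).comp (Ext.mk₀ (R.map φ)) (add_zero n) := by
  rw [cmp_apply, cmp_apply, Ext.mapExactFunctor_comp, Ext.mapExactFunctor_mk₀]
  exact (Ext.comp_assoc _ _ _ _ _ (by omega)).symm

lemma cmp_cmp [EnoughInjectives 𝒟] {A : 𝒞} {B : 𝒟} {B' : ℰ} (w : B ⟶ R.obj A) (w' : B' ⟶ R'.obj B) (F : 𝒞) (n : ℕ)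
    (x : Ext.{w} A F n) :
    cmp R' w' (R.obj F) n (cmp R w F n x) =
      cmp (R ⋙ R') (w' ≫ R'.map w : B' ⟶ (R ⋙ R').obj A) F n x := by
  rw [cmp_apply, cmp_apply, cmp_apply, Ext.mapExactFunctor_comp, Ext.mapExactFunctor_mk₀,
    mapExactFunctor_mapExactFunctor R R' x, Ext.mk₀_comp_mk₀_assoc]

variable {R}
variable {R₂ : 𝒞 ⥤ 𝒟} [R₂.Additive] [PreservesFiniteLimits R₂] [PreservesFiniteColimits R₂]

lemma cmp_natTrans (e : R ⟶ R₂) {A : 𝒞} {B : 𝒟} (w : B ⟶ R.obj A) (F : 𝒞) (n : ℕ)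
    (x : Ext.{w} A F n) :
    (cmp R w F n x).comp (Ext.mk₀ (e.app F)) (add_zero n) =
      cmp R₂ (w ≫ e.app A) F n x := by
  rw [cmp_apply, cmp_apply, Ext.comp_assoc_of_third_deg_zero, mapExactFunctor_natTrans,
    Ext.mk₀_comp_mk₀_assoc]

end Cmp

end Groth.Agent.Lib.Helper9.ExtNat
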