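import Mathlib
import Groth.Prelude.Def_CohPull
import Groth.Agent.Lib.Helper9ExtNat
import Groth.Agent.Lib.Helper21GBC2

/-!
# General base change, part 23: the pullback on cohomology of abelian sheaves is compatible with
composition of continuous maps; the maps `P f a` attached to `a : M ⟶ f_* N` (helper21)
-/

set_option autoImplicit false
universe u
open CategoryTheory CategoryTheory.Limits Opposite TopologicalSpace Abelian

namespace Groth.Agent.Lib.Helper21.GBC23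
open CohPull Groth.Agent.Lib.Helper21.GBC2

section Top
variable {W X Y : TopCat.{u}}

/-- the composite adjunction -/
noncomputable def adjComp (g : W ⟶ X) (f : X ⟶ Y) : inv f ⋙ inv g ⊣ CohTop.push (g ≫ f) :=
  (invPushAdj f).comp (invPushAdj g)

lemma adjComp_unit_app (g : W ⟶ X) (f : X ⟶ Y) (M : CohTop.Ab Y) :
    (adjComp g f).unit.app M =
      (invPushAdj f).unit.app M ≫ (CohTop.push f).map ((invPushAdj g).unit.app ((inv f).obj M)) :=
  Adjunction.comp_unit_app _ _ _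

/-- `g⁻¹ f⁻¹ ≅ (f g)⁻¹` -/
noncomputable def invComp (g : W ⟶ X) (f : X ⟶ Y) : inv f ⋙ inv g ≅ inv (g ≫ f) :=
  (adjComp g f).leftAdjointUniq (invPushAdj (g ≫ f))

lemma unit_invComp (g : W ⟶ X) (f : X ⟶ Y) (M : CohTop.Ab Y) :
    (adjComp g f).unit.app M ≫ (CohTop.push (g ≫ f)).map ((invComp g f).hom.app M) =
      (invPushAdj (g ≫ f)).unit.app M :=
  Adjunction.unit_leftAdjointUniq_hom_app (adjComp g f) (invPushAdj (g ≫ f)) M

/-- the hom-equivalence of `adjZ` in terms of the section `1` -/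
lemma adjZ_homEquiv (Z : TopCat.{u}) {G : CohTop.Ab Z} (φ : CohTop.const Z (ULift.{u} ℤ) ⟶ G) :
    (adjZ Z).homEquiv _ _ φ = oneSec Z ≫ φ.hom.app (op ⊤) := by
  rw [oneSec]
  have := (adjZ Z).homEquiv_naturality_right (𝟙 (CohTop.const Z (ULift.{u} ℤ))) φ
  rw [Category.id_comp] at this
  exact this

lemma oneSec_oneTo (f : X ⟶ Y) :
    oneSec X ≫ (oneTo f).hom.app (op ⊤) =
      oneSec Y ≫ ((invPushAdj f).unit.app (CohTop.const Y (ULift.{u} ℤ))).hom.app (op ⊤) := by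
  have h := adjZ_homEquiv X (oneTo f)
  rw [oneTo, Equiv.apply_symm_apply] at h
  exact h.symm

/-- sections over `⊤` of the unit of the composite adjunction -/
lemma adjComp_unit_top (g : W ⟶ X) (f : X ⟶ Y) (M : CohTop.Ab Y) :
    ((adjComp g f).unit.app M).hom.app (op ⊤) =
      ((invPushAdj f).unit.app M).hom.app (op ⊤) ≫
        ((invPushAdj g).unit.app ((inv f).obj M)).hom.app (op ⊤) := by
  rw [adjComp_unit_app]
  rfl

lemma diag_aux {C : Type*} [Category C] {A0 GW GX GY GWg GWgf GWc GXf : C}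
    (sW : A0 ⟶ GW) (sX : A0 ⟶ GX) (sY : A0 ⟶ GY) (tg : GW ⟶ GWg) (m : GWg ⟶ GWgf) (c : GWgf ⟶ GWc)
    (ug : GX ⟶ GWg) (tf : GX ⟶ GXf) (ug' : GXf ⟶ GWgf) (uf : GY ⟶ GXf) (ugf : GY ⟶ GWc)
    (uc : GY ⟶ GWgf)
    (e1 : sW ≫ tg = sX ≫ ug) (e2 : tf ≫ ug' = ug ≫ m) (e3 : sX ≫ tf = sY ≫ uf)
    (e4 : uc = uf ≫ ug') (e5 : uc ≫ c = ugf) :
    sW ≫ ((tg ≫ m) ≫ c) = sY ≫ ugf := by
  rw [← e5, e4]
  simp only [Category.assoc]
  rw [reassoc_of% e1, ← reassoc_of% e2, reassoc_of% e3]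

/-- compatibility of `oneTo` with composition -/
theorem oneTo_comp (g : W ⟶ X) (f : X ⟶ Y) :
    (oneTo g ≫ (inv g).map (oneTo f)) ≫ (invComp g f).hom.app (CohTop.const Y (ULift.{u} ℤ)) =
      oneTo (g ≫ f) := by
  apply ((adjZ W).homEquiv _ _).injective
  rw [adjZ_homEquiv, adjZ_homEquiv, oneSec_oneTo (g ≫ f)]
  have h1 := congrArg (fun t => t.hom.app (op ⊤)) (unit_invComp g f (CohTop.const Y (ULift.{u} ℤ)))
  have h2 := congrArg (fun t => t.hom.app (op ⊤)) ((invPushAdj g).unit.naturality (oneTo f))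
  have h3 := adjComp_unit_top g f (CohTop.const Y (ULift.{u} ℤ))
  exact diag_aux (oneSec W) (oneSec X) (oneSec Y) _ _ _ _ _ _ _ _ _
    (oneSec_oneTo g) h2 (oneSec_oneTo f) h3 h1

open Groth.Agent.Lib.Helper16.ExtCompare Groth.Agent.Lib.Helper9.ExtNat in
/-- **`pullAb` is compatible with composition** -/
theorem pullAb_comp (g : W ⟶ X) (f : X ⟶ Y) (M : CohTop.Ab Y) (p : ℕ) (x : Sheaf.H M p) :
    Sheaf.H.map ((invComp g f).hom.app M) p (pullAb g ((inv f).obj M) p (pullAb f M p x)) =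
      pullAb (g ≫ f) M p x := by
  rw [Sheaf.H.map_apply]
  change (cmp (inv g) (oneTo g) _ p (cmp (inv f) (oneTo f) M p x)).comp (Ext.mk₀ _) (add_zero p) =
    cmp (inv (g ≫ f)) (oneTo (g ≫ f)) M p x
  rw [cmp_cmp, cmp_natTrans (invComp g f).hom, oneTo_comp]

end Top

section Abstract
variable {C D E : Type*} [Category C] [Category D] [Category E]

lemma symm_comp_adj {F : C ⥤ D} {G : D ⥤ C} {H : D ⥤ E} {I : E ⥤ D} (adj₁ : F ⊣ G) (adj₂ : H ⊣ I)
    {M : C} {N : D} {L : E} (a : M ⟶ G.obj N) (b : N ⟶ I.obj L) :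
    ((adj₁.comp adj₂).homEquiv M L).symm (a ≫ G.map b) =
      H.map ((adj₁.homEquiv M N).symm a) ≫ (adj₂.homEquiv N L).symm b := by
  rw [Equiv.symm_apply_eq, Adjunction.comp_homEquiv]
  change _ = adj₁.homEquiv _ _ (adj₂.homEquiv _ _ _)
  rw [Adjunction.homEquiv_naturality_left, Equiv.apply_symm_apply,
    Adjunction.homEquiv_naturality_right, Equiv.apply_symm_apply]

lemma uniq_symm {F F' : C ⥤ D} {G : D ⥤ C} (adj1 : F ⊣ G) (adj2 : F' ⊣ G) {M : C} {L : D}
    (h : M ⟶ G.obj L) :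
    (adj1.leftAdjointUniq adj2).hom.app M ≫ (adj2.homEquiv M L).symm h =
      (adj1.homEquiv M L).symm h := by
  rw [Equiv.eq_symm_apply, Adjunction.homEquiv_unit,
    Functor.map_comp, Adjunction.unit_leftAdjointUniq_hom_app_assoc, ← Adjunction.homEquiv_unit,
    Equiv.apply_symm_apply]

end Abstract

section P
variable {W X Y : TopCat.{u}}

/-- the map on cohomology attached to a continuous map `f` and a morphism `a : M ⟶ f_* N` -/
noncomputable def P (f : X ⟶ Y) {M : CohTop.Ab Y} {N : CohTop.Ab X} (a : M ⟶ (CohTop.push f).obj N)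
    (p : ℕ) : Sheaf.H M p →+ Sheaf.H N p :=
  (Sheaf.H.map (((invPushAdj f).homEquiv _ _).symm a) p).comp (pullAb f M p)

lemma P_apply (f : X ⟶ Y) {M : CohTop.Ab Y} {N : CohTop.Ab X} (a : M ⟶ (CohTop.push f).obj N)
    (p : ℕ) (x : Sheaf.H M p) :
    P f a p x = Sheaf.H.map (((invPushAdj f).homEquiv _ _).symm a) p (pullAb f M p x) := rfl

lemma map_P (f : X ⟶ Y) {M : CohTop.Ab Y} {N N' : CohTop.Ab X} (a : M ⟶ (CohTop.push f).obj N)
    (φ : N ⟶ N') (p : ℕ) (x : Sheaf.H M p) :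
    Sheaf.H.map φ p (P f a p x) = P f (a ≫ (CohTop.push f).map φ) p x := by
  rw [P_apply, P_apply, ← Sheaf.H.map_comp_apply, Adjunction.homEquiv_naturality_right_symm]

lemma P_map (f : X ⟶ Y) {M' M : CohTop.Ab Y} {N : CohTop.Ab X} (a : M ⟶ (CohTop.push f).obj N)
    (ψ : M' ⟶ M) (p : ℕ) (x : Sheaf.H M' p) :
    P f a p (Sheaf.H.map ψ p x) = P f (ψ ≫ a) p x := by
  rw [P_apply, P_apply, pullAb_natural, ← Sheaf.H.map_comp_apply,
    Adjunction.homEquiv_naturality_left_symm]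

theorem P_P (g : W ⟶ X) (f : X ⟶ Y) {M : CohTop.Ab Y} {N : CohTop.Ab X} {L : CohTop.Ab W}
    (a : M ⟶ (CohTop.push f).obj N) (b : N ⟶ (CohTop.push g).obj L) (p : ℕ) (x : Sheaf.H M p) :
    P g b p (P f a p x) =
      P (g ≫ f) (a ≫ (CohTop.push f).map b : M ⟶ (CohTop.push (g ≫ f)).obj L) p x := by
  have key : (invComp g f).hom.app M ≫
      ((invPushAdj (g ≫ f)).homEquiv M L).symm (a ≫ (CohTop.push f).map b) =
      (inv g).map (((invPushAdj f).homEquiv _ _).symm a) ≫ ((invPushAdj g).homEquiv _ _).symm b :=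
    (uniq_symm (adjComp g f) (invPushAdj (g ≫ f)) _).trans
      (symm_comp_adj (invPushAdj f) (invPushAdj g) a b)
  rw [P_apply, P_apply, P_apply, pullAb_natural, ← Sheaf.H.map_comp_apply, ← pullAb_comp,
    ← Sheaf.H.map_comp_apply, key]

/-- congruence of `P` in the continuous map -/
theorem P_congr {f f' : X ⟶ Y} (e : f = f') {M : CohTop.Ab Y} {N : CohTop.Ab X}
    (a : M ⟶ (CohTop.push f).obj N) (a' : M ⟶ (CohTop.push f').obj N)
    (h : ∀ (V : Opens Y) (s : M.obj.obj (op V)),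
      a'.hom.app (op V) s =
        N.obj.map (eqToHom (by rw [e]) : (Opens.map f').obj V ⟶ (Opens.map f).obj V).op
          (a.hom.app (op V) s))
    (p : ℕ) (x : Sheaf.H M p) : P f a p x = P f' a' p x := by
  subst e
  have : a = a' := by
    apply Sheaf.hom_ext
    ext V s
    have h1 := h V.unop s
    refine Eq.trans ?_ h1.symm
    have h2 : (eqToHom (rfl : (Opens.map f).obj V.unop = (Opens.map f).obj V.unop)).op = 𝟙 _ := rfl
    rw [h2, N.obj.map_id]
    rfl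
  rw [this]

end P
end Groth.Agent.Lib.Helper21.GBC23
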