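import Mathlib
import Groth.Prelude.Def_CohCmp
import Groth.Agent.Lib.Helper21GBC3
import Groth.Agent.Lib.Helper21GBC23

/-!
# General base change, part 24: the pullback maps `pullOn`, `resLE` on cohomology over opens as maps
`P f a`, and the section formulas for the underlying maps of modules (helper21)
-/

set_option autoImplicit false
universe u
open CategoryTheory AlgebraicGeometry Opposite TopologicalSpace
open AlgebraicGeometry.Scheme.Modules

namespace Groth.Agent.Lib.Helper21.GBC24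
open CohPull Groth.Agent.Lib.Helper21.GBC2 Groth.Agent.Lib.Helper21.GBC3 Groth.Agent.Lib.Helper21.GBC23

section A
variable {X Y : Scheme.{u}} (g : X ⟶ Y) (U : Y.Opens) (U' : X.Opens) (h : U' ≤ g ⁻¹ᵁ U)
  (F : Y.Modules)

/-- the `g|`-map `F|_U → (g|)_* ((g^*F)|_{U'})` -/
noncomputable def αmap :
    F.restrict U.ι ⟶
      (pushforward (g.resLE U U' h)).obj (((pullback g).obj F).restrict U'.ι) :=
  (pullbackPushforwardAdjunction (g.resLE U U' h)).unit.app (F.restrict U.ι) ≫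
    (pushforward (g.resLE U U' h)).map (CohPull.pullOnIso g U U' h F).hom

lemma pullMod_eq_P (g : X ⟶ Y) (M : Y.Modules) (p : ℕ) (x : Coh.HH Y M p) :
    pullMod g M p x =
      P g.base ((toAbF Y).map ((pullbackPushforwardAdjunction g).unit.app M)) p x := rfl

lemma toAbF_pushforward_map {X Y : Scheme.{u}} (k : X ⟶ Y) {A B : X.Modules} (φ : A ⟶ B) :
    (toAbF Y).map ((pushforward k).map φ) = (CohTop.push k.base).map ((toAbF X).map φ) := rfl

lemma pullOn_eq_P (p : ℕ) (x : Coh.HHon Y F U p) :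
    pullOn g U U' h F p x =
      P (g.resLE U U' h).base ((toAbF (↑U : Scheme.{u})).map (αmap g U U' h F)) p x := by
  rw [pullOn_apply, pullMod_eq_P]
  change Sheaf.H.map _ p (P _ _ p x) = _
  rw [map_P]
  rfl

lemma αle {W : Y.Opens} {V : (↑U : Scheme.{u}).Opens} (hV : U.ι ''ᵁ V ≤ W) :
    U'.ι ''ᵁ ((g.resLE U U' h) ⁻¹ᵁ V) ≤ g ⁻¹ᵁ W := by
  rintro _ ⟨y, hy, rfl⟩
  have e : g (U'.ι y) = U.ι (g.resLE U U' h y) := by
    have := congrArg (fun t : (↑U' : Scheme.{u}) ⟶ Y => t y) (Scheme.Hom.resLE_comp_ι g h)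
    exact this.symm
  change g (U'.ι y) ∈ W
  rw [e]
  exact hV ⟨_, hy, rfl⟩

lemma le_preimage_of_image_le {W : Y.Opens} {V : (↑U : Scheme.{u}).Opens} (hV : U.ι ''ᵁ V ≤ W) :
    V ≤ U.ι ⁻¹ᵁ W := fun x hx => hV ⟨x, hx, rfl⟩

/-- **sections formula for `αmap`**: it is the unit of `g^* ⊣ g_*` followed by restriction -/
theorem αmap_sec (W : Y.Opens) (s : F.presheaf.obj (op W)) (V : (↑U : Scheme.{u}).Opens)
    (hV : U.ι ''ᵁ V ≤ W) :
    (αmap g U U' h F).app V (F.presheaf.map (homOfLE hV).op s) =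
      ((pullback g).obj F).presheaf.map (homOfLE (αle g U U' h hV)).op
        (((pullbackPushforwardAdjunction g).unit.app F).app W s) := by
  have hs := sec_pullOnIso g U U' h F W s
  rw [pushforwardCongr_hom_app_app] at hs
  let i : V ⟶ U.ι ⁻¹ᵁ W := homOfLE (le_preimage_of_image_le U hV)
  have h1 := app_map (αmap g U U' h F) i (F.presheaf.map (homOfLE (U.ι.image_preimage_le W)).op s)
  have h2 : (F.restrict U.ι).presheaf.map i.op
      (F.presheaf.map (homOfLE (U.ι.image_preimage_le W)).op s) =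
      F.presheaf.map (homOfLE hV).op s := by
    change F.presheaf.map (U.ι.opensFunctor.map i).op _ = _
    rw [map_map_apply]
    congr 1
  rw [h2] at h1
  refine h1.trans ?_
  change (((pullback g).obj F).restrict U'.ι).presheaf.map
    ((Opens.map (g.resLE U U' h).base).map i).op ((αmap g U U' h F).app (U.ι ⁻¹ᵁ W) _) = _
  have hle : (g.resLE U U' h) ⁻¹ᵁ V ≤ (U'.ι ≫ g) ⁻¹ᵁ W := by
    intro x hx
    exact αle g U U' h hV ⟨x, hx, rfl⟩
  have h3 := map_map_apply (((pullback g).obj F).restrict U'.ι) (homOfLE hle)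
    (eqToHom (by rw [Scheme.Hom.resLE_comp_ι g h]) :
      (U'.ι ≫ g) ⁻¹ᵁ W ⟶ (g.resLE U U' h ≫ U.ι) ⁻¹ᵁ W)
    ((αmap g U U' h F).app (U.ι ⁻¹ᵁ W) (F.presheaf.map (homOfLE (U.ι.image_preimage_le W)).op s))
  have h4 : (homOfLE hle ≫ (eqToHom (by rw [Scheme.Hom.resLE_comp_ι g h]) :
      (U'.ι ≫ g) ⁻¹ᵁ W ⟶ (g.resLE U U' h ≫ U.ι) ⁻¹ᵁ W)) =
      (Opens.map (g.resLE U U' h).base).map i := Subsingleton.elim _ _
  rw [h4] at h3
  refine h3.symm.trans ?_
  refine (congrArg _ hs).trans ?_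
  change ((pullback g).obj F).presheaf.map (U'.ι.opensFunctor.map (homOfLE hle)).op _ = _
  refine (map_map_apply ((pullback g).obj F) (V₂ := U'.ι ''ᵁ (U'.ι ⁻¹ᵁ (g ⁻¹ᵁ W)))
    ((Scheme.Hom.opensFunctor U'.ι).map (homOfLE hle))
    (homOfLE (U'.ι.image_preimage_le (g ⁻¹ᵁ W))) _).trans ?_
  congr 1

end A

section B
variable {X : Scheme.{u}} (G : X.Modules) {U' U'' : X.Opens} (h'' : U'' ≤ U')

include h'' in
lemma id_le : U'' ≤ (𝟙 X) ⁻¹ᵁ U' := by rwa [Scheme.Hom.id_preimage]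

/-- the restriction map `G|_{U'} → j_* (G|_{U''})` -/
noncomputable def βmap :
    G.restrict U'.ι ⟶
      (pushforward (Scheme.Hom.resLE (𝟙 X) U' U'' (id_le h''))).obj (G.restrict U''.ι) :=
  αmap (𝟙 X) U' U'' (id_le h'') G ≫
    (pushforward (Scheme.Hom.resLE (𝟙 X) U' U'' (id_le h''))).map
      ((restrictFunctor U''.ι).map ((pullbackId X).hom.app G))

lemma resLE_eq_P (p : ℕ) (x : Coh.HHon X G U' p) :
    resLE G h'' p x =
      P (Scheme.Hom.resLE (𝟙 X) U' U'' (id_le h'')).base ((toAbF (↑U' : Scheme.{u})).map (βmap G h'')) p x := by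
  rw [resLE_apply, pullOn_eq_P]
  change Sheaf.H.map _ p (P _ _ p x) = _
  rw [map_P]
  rfl

lemma βle {W : X.Opens} {V : (↑U' : Scheme.{u}).Opens} (hV : U'.ι ''ᵁ V ≤ W) :
    U''.ι ''ᵁ ((Scheme.Hom.resLE (𝟙 X) U' U'' (id_le h'')) ⁻¹ᵁ V) ≤ W := by
  have := αle (𝟙 X) U' U'' (id_le h'') hV
  rwa [Scheme.Hom.id_preimage] at this

/-- **sections formula for `βmap`**: it is restriction of sections -/
theorem βmap_sec (W : X.Opens) (t : G.presheaf.obj (op W)) (V : (↑U' : Scheme.{u}).Opens)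
    (hV : U'.ι ''ᵁ V ≤ W) :
    (βmap G h'').app V (G.presheaf.map (homOfLE hV).op t) =
      G.presheaf.map (homOfLE (βle h'' hV)).op t := by
  have h1 := αmap_sec (𝟙 X) U' U'' (id_le h'') G W t V hV
  change ((pullbackId X).hom.app G).app (U''.ι ''ᵁ ((Scheme.Hom.resLE (𝟙 X) U' U'' (id_le h'')) ⁻¹ᵁ V))
    ((αmap (𝟙 X) U' U'' (id_le h'') G).app V (G.presheaf.map (homOfLE hV).op t)) = _
  rw [h1, app_map ((pullbackId X).hom.app G)]
  have h2 := congrArg (fun φ => (φ.app W) t) (unit_pullbackId G)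
  have h3 : ((pullbackId X).hom.app G).app ((𝟙 X) ⁻¹ᵁ W)
      (((pullbackPushforwardAdjunction (𝟙 X)).unit.app G).app W t) = t := h2
  rw [h3]
  rfl

end B

end Groth.Agent.Lib.Helper21.GBC24
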