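import Mathlib
import Groth.Prelude.Def_CohCmp
import Groth.Agent.Lib.Helper21GBC24

/-!
# General base change, part 25: the pullback on cohomology over opens is compatible with restriction
of classes on the source (helper21)
-/

set_option autoImplicit false
universe u
open CategoryTheory AlgebraicGeometry Opposite TopologicalSpace
open AlgebraicGeometry.Scheme.Modules

namespace Groth.Agent.Lib.Helper21.GBC25
open CohPull Groth.Agent.Lib.Helper21.GBC2 Groth.Agent.Lib.Helper21.GBC3 Groth.Agent.Lib.Helper21.GBC23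
  Groth.Agent.Lib.Helper21.GBC24

section W2
variable {X Y : Scheme.{u}} (g : X ⟶ Y) (F : Y.Modules) (U : Y.Opens) {U' U'' : X.Opens}
  (h : U' ≤ g ⁻¹ᵁ U) (h'' : U'' ≤ U')

lemma resLE_id_comp :
    Scheme.Hom.resLE (𝟙 X) U' U'' (id_le h'') ≫ g.resLE U U' h = g.resLE U U'' (h''.trans h) := by
  rw [← cancel_mono U.ι, Category.assoc, Scheme.Hom.resLE_comp_ι, Scheme.Hom.resLE_comp_ι_assoc,
    Scheme.Hom.resLE_comp_ι, Category.id_comp]

lemma base_eq : (Scheme.Hom.resLE (𝟙 X) U' U'' (id_le h'')).base ≫ (g.resLE U U' h).base =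
      (g.resLE U U'' (h''.trans h)).base := by
  rw [← resLE_id_comp g U h h'']
  rfl

lemma restrict_map_apply {Z X : Scheme.{u}} (j : Z ⟶ X) [IsOpenImmersion j] (G : X.Modules)
    {A B : Z.Opens} (i : A ⟶ B) (x : G.presheaf.obj (op (j ''ᵁ B))) :
    (G.restrict j).presheaf.map i.op x = G.presheaf.map (j.opensFunctor.map i).op x := rfl

lemma preimage_eq (V : (↑U : Scheme.{u}).Opens) :
    (g.resLE U U'' (h''.trans h)) ⁻¹ᵁ V =
      (Scheme.Hom.resLE (𝟙 X) U' U'' (id_le h'')) ⁻¹ᵁ ((g.resLE U U' h) ⁻¹ᵁ V) := by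
  rw [← resLE_id_comp g U h h'']
  rfl

/-- the sections identity behind `resLE_pullOn` -/
theorem sec_identity (V : (↑U : Scheme.{u}).Opens) (s : F.presheaf.obj (op (U.ι ''ᵁ V))) :
    (αmap g U U'' (h''.trans h) F).app V s =
    (((pullback g).obj F).restrict U''.ι).presheaf.map
      (eqToHom (preimage_eq g U h h'' V)).op
      ((βmap ((pullback g).obj F) h'').app ((g.resLE U U' h) ⁻¹ᵁ V)
        ((αmap g U U' h F).app V s)) := by
  have hs : s = F.presheaf.map (homOfLE (le_refl (U.ι ''ᵁ V))).op s := by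
    have : (homOfLE (le_refl (U.ι ''ᵁ V))).op = 𝟙 _ := Subsingleton.elim _ _
    rw [this, F.presheaf.map_id]
    rfl
  have h1 := αmap_sec g U U'' (h''.trans h) F (U.ι ''ᵁ V) s V (le_refl _)
  have h2 := αmap_sec g U U' h F (U.ι ''ᵁ V) s V (le_refl _)
  rw [← hs] at h1 h2
  rw [h1, h2, βmap_sec]
  refine Eq.trans ?_ (restrict_map_apply U''.ι ((pullback g).obj F)
    (eqToHom (preimage_eq g U h h'' V)) _).symm
  rw [map_map_apply]
  congr 1

/-- **the pullback on cohomology over opens is compatible with restriction on the source** -/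
theorem resLE_pullOn (p : ℕ) (x : Coh.HHon Y F U p) :
    resLE ((pullback g).obj F) h'' p (pullOn g U U' h F p x) =
      pullOn g U U'' (h''.trans h) F p x := by
  have e1 := pullOn_eq_P g U U' h F p x
  have e2 := pullOn_eq_P g U U'' (h''.trans h) F p x
  have e3 := resLE_eq_P ((pullback g).obj F) h'' p (pullOn g U U' h F p x)
  refine e3.trans (Eq.trans ?_ e2.symm)
  rw [e1, P_P]
  refine P_congr (base_eq g U h h'') _ _ ?_ p x
  intro V s
  exact sec_identity g F U h h'' V s

end W2

end Groth.Agent.Lib.Helper21.GBC25
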