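import Groth.Agent.Lib.Helper21GBC21
import Groth.Agent.Lib.Helper21GBC25

/-!
# General base change, part 26: the base change maps over affine opens against the local complex,
unconditionally (helper21)
-/

set_option autoImplicit false
set_option linter.style.haveILetI false
set_option linter.unusedSectionVars false
universe u
open CategoryTheory CategoryTheory.Limits AlgebraicGeometry Opposite TopologicalSpace TensorProduct

namespace Groth.Agent.Lib.Helper21.GBC26

open Groth.Agent.Lib.Helper21.BC0Alg Groth.Agent.Lib.Helper21.BC0Cx Groth.Agent.Lib.Helper21.BC0Free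
  Groth.Agent.Lib.Helper21.AlgBC Groth.Agent.Lib.Helper21.BC0Loc Groth.Agent.Lib.Helper3
  Groth.Agent.Lib.Helper16.TensorCmp Groth.Agent.Lib.Helper21.GBC16 Groth.Agent.Lib.Helper21.GBC17
  Groth.Agent.Lib.Helper21.GBC19 Groth.Agent.Lib.Helper21.GBC20 Groth.Agent.Lib.Helper21.NNBC
  Groth.Agent.Lib.Helper21.GBCAlg

variable {X S : Scheme.{u}} {f : X ⟶ S} [IsProper f] [LocallyOfFinitePresentation f]
  [HasInjectiveResolutions X.Modules] {F : X.Modules}

section LD
variable {V : S.Opens} {hV : IsAffineOpen V} (D : LocalData f F hV)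

/-- the base change maps over affine opens against the complex, unconditionally -/
theorem _root_.Groth.Agent.Lib.Helper21.GBC20.LocalData.hK'
    {S' X' : Scheme.{u}} (g : S' ⟶ S) (g' : X' ⟶ X) (f' : X' ⟶ S')
    (h : IsPullback g' f' f g) [HasInjectiveResolutions X'.Modules]
    {Δ : RDer.DerivedLES (Scheme.Modules.pushforward f)}
    {Δ' : RDer.DerivedLES (Scheme.Modules.pushforward f')}
    (E : CohCmp.SectCmp f Δ) (E' : CohCmp.SectCmp f' Δ') (B : CohCmp.GenBC f g f' g' h.w E E')
    (p : ℕ) {V' : S'.Opens} (hV' : IsAffineOpen V') (hle : V' ≤ g ⁻¹ᵁ V) :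
    letI : Algebra Γ(S, V) Γ(S', V') := (g.appLE V V' hle).hom.toAlgebra
    (Function.Bijective ((B.bc p F).app V').hom ↔
      Function.Bijective (tM (CohIII.TFun D.Q (-(p : ℤ)))
        (ModuleCat.of Γ(S, V) Γ(S', V')))) ∧
    (Function.Surjective ((B.bc p F).app V').hom ↔
      Function.Surjective (tM (CohIII.TFun D.Q (-(p : ℤ)))
        (ModuleCat.of Γ(S, V) Γ(S', V')))) :=
  D.hK g g' f' h E E' B p hV' hle
    ((f'.preimage_mono hle).trans (CohCmp.sqLE f g f' g' h.w V))
    (fun x => Groth.Agent.Lib.Helper21.GBC25.resLE_pullOn g' F (f ⁻¹ᵁ V)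
      (CohCmp.sqLE f g f' g' h.w V) (f'.preimage_mono hle) p x)

end LD

end Groth.Agent.Lib.Helper21.GBC26
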