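import Groth.Agent.Lib.Helper21GBC26
import Groth.Agent.Lib.Helper13AffBC

/-!
# General base change, part 27: over a basic open inside the free locus of the next cokernel, the
formation of the higher direct image commutes with arbitrary base change (helper21)
-/

set_option autoImplicit false
set_option linter.style.haveILetI false
set_option linter.unusedSectionVars false
universe u
open CategoryTheory CategoryTheory.Limits AlgebraicGeometry Opposite TopologicalSpace TensorProduct

namespace Groth.Agent.Lib.Helper21.GBC27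

open Groth.Agent.Lib.Helper21.BC0Alg Groth.Agent.Lib.Helper21.BC0Cx Groth.Agent.Lib.Helper21.BC0Free
  Groth.Agent.Lib.Helper21.AlgBC Groth.Agent.Lib.Helper21.BC0Loc Groth.Agent.Lib.Helper3
  Groth.Agent.Lib.Helper16.TensorCmp Groth.Agent.Lib.Helper21.GBC16 Groth.Agent.Lib.Helper21.GBC17
  Groth.Agent.Lib.Helper21.GBC19 Groth.Agent.Lib.Helper21.GBC20 Groth.Agent.Lib.Helper21.NNBC
  Groth.Agent.Lib.Helper21.GBCAlg

variable {X S : Scheme.{u}} {f : X ⟶ S} [IsProper f] [LocallyOfFinitePresentation f]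
  [HasInjectiveResolutions X.Modules] {F : X.Modules}

section LD
variable {V : S.Opens} {hV : IsAffineOpen V} (D : LocalData f F hV)

/-- over a basic open inside the free locus of `W^{i+1}` the formation of `R^i f_* F` commutes with
base change -/
theorem _root_.Groth.Agent.Lib.Helper21.GBC20.LocalData.isIso_bc_of_basicOpen_le (i : ℕ)
    (a : Γ(S, V))
    (ha : (PrimeSpectrum.basicOpen a : Set (PrimeSpectrum Γ(S, V))) ⊆
      Module.freeLocus Γ(S, V) (D.Q.opcycles (-(i : ℤ) - 1)))
    {S' X' : Scheme.{u}} (g : S' ⟶ S) (g' : X' ⟶ X) (f' : X' ⟶ S')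
    (h : IsPullback g' f' f g) [HasInjectiveResolutions X'.Modules]
    {Δ : RDer.DerivedLES (Scheme.Modules.pushforward f)}
    {Δ' : RDer.DerivedLES (Scheme.Modules.pushforward f')}
    (E : CohCmp.SectCmp f Δ) (E' : CohCmp.SectCmp f' Δ') (B : CohCmp.GenBC f g f' g' h.w E E')
    (hg : ∀ z : S', g z ∈ S.basicOpen a) : IsIso (B.bc i F) := by
  let ι : Type u := {U' : S'.Opens // IsAffineOpen U'}
  refine Groth.Agent.Helper13AffBC.isIso_of_bijective_on_basis _ (fun i : ι => i.1) ?_ ?_
  · rw [Opens.isBasis_iff_nbhd]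
    intro W' z hzW
    obtain ⟨U', hU', hzU', hU'W⟩ := exists_isAffineOpen_mem_and_subset (x := z) (U := W') hzW
    exact ⟨U', ⟨⟨U', hU'⟩, rfl⟩, hzU', hU'W⟩
  · rintro ⟨U', hU'⟩
    have hle' : U' ≤ g ⁻¹ᵁ (S.basicOpen a) := fun z _ => hg z
    have hle : U' ≤ g ⁻¹ᵁ V := hle'.trans (g.preimage_mono (S.basicOpen_le a))
    letI : Algebra Γ(S, V) Γ(S', U') := (g.appLE V U' hle).hom.toAlgebra
    letI : Algebra Γ(S, S.basicOpen a) Γ(S', U') := (g.appLE (S.basicOpen a) U' hle').hom.toAlgebra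
    haveI : IsScalarTower Γ(S, V) Γ(S, S.basicOpen a) Γ(S', U') :=
      IsScalarTower.of_algebraMap_eq (fun x => by
        have := Scheme.Hom.map_appLE g hle' (homOfLE (S.basicOpen_le a)).op
        exact (ConcreteCategory.congr_hom this x).symm)
    haveI : IsLocalization.Away a Γ(S, S.basicOpen a) := hV.isLocalization_basicOpen a
    haveI : Module.Flat Γ(S, V) Γ(S, S.basicOpen a) :=
      IsLocalization.flat Γ(S, S.basicOpen a) (Submonoid.powers a)
    haveI := D.finite_Q (-(i : ℤ))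
    haveI := D.finite_Q (-(i : ℤ) - 1)
    haveI := D.projective_Q (-(i : ℤ) - 1)
    have hker : KerBC Γ(S', U') (D.Q.d (-(i : ℤ)) (-(i : ℤ) - 1)).hom :=
      kerBC_of_flat_of_freeLocus' Γ(S, S.basicOpen a) D.Q (-(i : ℤ)) (-(i : ℤ) - 1) (by simp)
        (comap_mem_of_away Γ(S, S.basicOpen a) a _ ha) Γ(S', U')
    have hb := tM_bijective_of_kerBC D.Q (-(i : ℤ) + 1) (-(i : ℤ)) (-(i : ℤ) - 1) (by simp)
      (by simp) Γ(S', U') hker
    exact (D.hK' g g' f' h E E' B i hU' hle).1.2 hb

end LD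

end Groth.Agent.Lib.Helper21.GBC27
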