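import Groth.Agent.Lib.Helper21GBC27

/-!
# General base change, part 28: surjectivity of the fibre base change map at a point and base
change over a neighbourhood (helper21)
-/

set_option autoImplicit false
set_option linter.style.haveILetI false
set_option linter.unusedSectionVars false
universe u
open CategoryTheory CategoryTheory.Limits AlgebraicGeometry Opposite TopologicalSpace TensorProduct

namespace Groth.Agent.Lib.Helper21.GBC28

open Groth.Agent.Lib.Helper21.GBC16 Groth.Agent.Lib.Helper21.GBC17
  Groth.Agent.Lib.Helper21.GBC19 Groth.Agent.Lib.Helper21.GBC20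

/-- **surjectivity of the fibre base change map in degree `i` at `s` is equivalent to the formation of
`R^i f_* F` commuting with arbitrary base change over a neighbourhood of `s`** -/
theorem epi_iff_exists_nhd_isIso
    {X S : Scheme.{u}} (f : X ⟶ S) [IsProper f] [LocallyOfFinitePresentation f] (s : S)
    [HasInjectiveResolutions X.Modules] [HasInjectiveResolutions (f.fiber s).Modules]
    (F : X.Modules) [Coh.IsQCoh F] (hfp : CohB1.IsFP F) (hfl : FlatMod.IsFlatOver f F) (i : ℕ)
    {Δ : RDer.DerivedLES (Scheme.Modules.pushforward f)}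
    {Δs : RDer.DerivedLES (Scheme.Modules.pushforward (f.fiberToSpecResidueField s))}
    (E : CohCmp.SectCmp f Δ) (Es : CohCmp.SectCmp (f.fiberToSpecResidueField s) Δs)
    (Bs : CohCmp.GenBC f (S.fromSpecResidueField s) (f.fiberToSpecResidueField s) (f.fiberι s)
      (f.fiber_fac s) E Es) :
    Epi (Bs.bc i F) ↔
      ∃ U : S.Opens, s ∈ U ∧
        ∀ ⦃X' S' : Scheme.{u}⦄ (g' : X' ⟶ X) (f' : X' ⟶ S') (g : S' ⟶ S) (h : IsPullback g' f' f g)
        [HasInjectiveResolutions X'.Modules] (Δ' : RDer.DerivedLES (Scheme.Modules.pushforward f'))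
        (E' : CohCmp.SectCmp f' Δ')
        (B : CohCmp.GenBC f g f' g' h.w E E'), (∀ z : S', g z ∈ U) → IsIso (B.bc i F) := by
  constructor
  · intro hepi
    obtain ⟨V, hV, hsV, -⟩ := exists_isAffineOpen_mem_and_subset (x := s) (U := ⊤) trivial
    obtain ⟨D⟩ := nonempty_localData f F hfp hfl hV
    obtain ⟨q, hq⟩ := exists_fromSpec_eq hV s hsV
    have hmem := (D.hfib s E Es Bs i q hq).1 hepi
    haveI := D.finitePresentation_opcycles (-(i : ℤ) - 1)
    obtain ⟨a, hqa, ha⟩ := exists_basicOpen_le_freeLocus (D.Q.opcycles (-(i : ℤ) - 1)) q hmem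
    refine ⟨S.basicOpen a, ?_, ?_⟩
    · rw [← hq]
      exact (LocalData.mem_basicOpen_iff a q).1 hqa
    · intro X' S' g' f' g h _ Δ' E' B hg
      exact D.isIso_bc_of_basicOpen_le i a ha g g' f' h E E' B hg
  · rintro ⟨U, hsU, hU⟩
    haveI := hU (f.fiberι s) (f.fiberToSpecResidueField s) (S.fromSpecResidueField s)
      (IsPullback.of_hasPullback f (S.fromSpecResidueField s)) Δs Es Bs (fun z => by
        rw [Scheme.fromSpecResidueField_apply]
        exact hsU)
    infer_instance

end Groth.Agent.Lib.Helper21.GBC28
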