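import Groth.Agent.Lib.Helper21GBC27
import Groth.Agent.Lib.Helper21BC0MainD

/-!
# General base change, part 29: base change over an open where the cohomology of the fibres vanishes
in one degree (helper21)
-/

set_option autoImplicit false
set_option linter.style.haveILetI false
set_option linter.unusedSectionVars false
universe u
open CategoryTheory CategoryTheory.Limits AlgebraicGeometry Opposite TopologicalSpace TensorProduct

namespace Groth.Agent.Lib.Helper21.GBC29

open Groth.Agent.Lib.Helper21.BC0Alg Groth.Agent.Lib.Helper21.BC0Cx Groth.Agent.Lib.Helper21.BC0Free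
  Groth.Agent.Lib.Helper21.AlgBC Groth.Agent.Lib.Helper21.BC0Loc Groth.Agent.Lib.Helper3
  Groth.Agent.Lib.Helper16.TensorCmp Groth.Agent.Lib.Helper21.GBC16 Groth.Agent.Lib.Helper21.GBC17
  Groth.Agent.Lib.Helper21.GBC19 Groth.Agent.Lib.Helper21.GBC20 Groth.Agent.Lib.Helper21.NNBC
  Groth.Agent.Lib.Helper21.GBCAlg

variable {X S : Scheme.{u}} {f : X ⟶ S} [IsProper f] [LocallyOfFinitePresentation f]
  [HasInjectiveResolutions X.Modules] {F : X.Modules}

section LD
variable {V : S.Opens} {hV : IsAffineOpen V} (D : LocalData f F hV)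

/-- if `H^p` of the fibres over `V` vanishes, the cokernels `W^p` and `W^{p+1}` are projective -/
theorem _root_.Groth.Agent.Lib.Helper21.GBC20.LocalData.projective_opcycles_of_betti (p : ℕ)
    (h : ∀ s ∈ V, PerfAux.betti f F s p = 0) :
    Module.Projective Γ(S, V) (D.Q.opcycles (-(p : ℤ) - 1)) ∧
      Module.Projective Γ(S, V) (D.Q.opcycles (-(p : ℤ))) := by
  letI : Algebra D.A₀ Γ(S, V) := D.φ.hom.toAlgebra
  haveI := D.noeth
  obtain ⟨-, ⟨-, h1⟩, ⟨-, h2⟩⟩ := vanishing_bc D.P D.hP Γ(S, V) (-(p : ℤ)) (fun x => by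
    have := D.hrk x p
    refine Eq.trans ?_ (this.trans (h _ (fromSpec_mem hV x)))
    rfl)
  exact ⟨h1, h2⟩

/-- if `W^{i+1}` is projective, the base change map in degree `i` is bijective on sections over every
affine open mapping into `V` -/
theorem _root_.Groth.Agent.Lib.Helper21.GBC20.LocalData.bijective_bc_app (i : ℕ)
    (hproj : Module.Projective Γ(S, V) (D.Q.opcycles (-(i : ℤ) - 1)))
    {S' X' : Scheme.{u}} (g : S' ⟶ S) (g' : X' ⟶ X) (f' : X' ⟶ S')
    (h : IsPullback g' f' f g) [HasInjectiveResolutions X'.Modules]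
    {Δ : RDer.DerivedLES (Scheme.Modules.pushforward f)}
    {Δ' : RDer.DerivedLES (Scheme.Modules.pushforward f')}
    (E : CohCmp.SectCmp f Δ) (E' : CohCmp.SectCmp f' Δ') (B : CohCmp.GenBC f g f' g' h.w E E')
    {U' : S'.Opens} (hU' : IsAffineOpen U') (hle : U' ≤ g ⁻¹ᵁ V) :
    Function.Bijective ((B.bc i F).app U').hom := by
  letI : Algebra Γ(S, V) Γ(S', U') := (g.appLE V U' hle).hom.toAlgebra
  haveI := D.finite_Q (-(i : ℤ))
  haveI := D.finite_Q (-(i : ℤ) - 1)
  haveI := D.projective_Q (-(i : ℤ) - 1)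
  haveI := D.finitePresentation_opcycles (-(i : ℤ) - 1)
  have huniv : Module.freeLocus Γ(S, V) (D.Q.opcycles (-(i : ℤ) - 1)) = Set.univ :=
    Module.freeLocus_eq_univ_iff.mpr hproj
  have hker : KerBC Γ(S', U') (D.Q.d (-(i : ℤ)) (-(i : ℤ) - 1)).hom :=
    kerBC_of_flat_of_freeLocus' Γ(S, V) D.Q (-(i : ℤ)) (-(i : ℤ) - 1) (by simp)
      (fun x => by rw [huniv]; trivial) Γ(S', U')
  have hb := tM_bijective_of_kerBC D.Q (-(i : ℤ) + 1) (-(i : ℤ)) (-(i : ℤ) - 1) (by simp)
    (by simp) Γ(S', U') hker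
  exact (D.hK' g g' f' h E E' B i hU' hle).1.2 hb

end LD

theorem projective_opcycles_congr {A : Type u} [CommRing A] (K : ChainComplex (ModuleCat.{u} A) ℤ)
    {k k' : ℤ} (e : k = k') (h : Module.Projective A (K.opcycles k)) :
    Module.Projective A (K.opcycles k') := by
  subst e
  exact h

section main
variable (f F) (hF : CohB1.IsFP F) (hflat : FlatMod.IsFlatOver f F)

include hF hflat in
/-- **base change over an open where the cokernel `W^{i+1}` is projective on all affine opens** -/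
theorem isIso_bc_of_forall_projective (i : ℕ) (U : S.Opens)
    (hU : ∀ {V : S.Opens} (hV : IsAffineOpen V), V ≤ U → ∀ D : LocalData f F hV,
      Module.Projective Γ(S, V) (D.Q.opcycles (-(i : ℤ) - 1)))
    {S' X' : Scheme.{u}} (g : S' ⟶ S) (g' : X' ⟶ X) (f' : X' ⟶ S')
    (h : IsPullback g' f' f g) [HasInjectiveResolutions X'.Modules]
    {Δ : RDer.DerivedLES (Scheme.Modules.pushforward f)}
    {Δ' : RDer.DerivedLES (Scheme.Modules.pushforward f')}
    (E : CohCmp.SectCmp f Δ) (E' : CohCmp.SectCmp f' Δ') (B : CohCmp.GenBC f g f' g' h.w E E')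
    (hg : ∀ z : S', g z ∈ U) : IsIso (B.bc i F) := by
  let ι : Type u :=
    {U' : S'.Opens // IsAffineOpen U' ∧ ∃ V : S.Opens, IsAffineOpen V ∧ V ≤ U ∧ U' ≤ g ⁻¹ᵁ V}
  refine Groth.Agent.Helper13AffBC.isIso_of_bijective_on_basis _ (fun i : ι => i.1) ?_ ?_
  · rw [Opens.isBasis_iff_nbhd]
    intro W' z hzW
    obtain ⟨V, hV, hzV, hVU⟩ := exists_isAffineOpen_mem_and_subset (x := g z) (U := U) (hg z)
    obtain ⟨U', hU', hzU', hU'W⟩ := exists_isAffineOpen_mem_and_subset (x := z)
      (U := W' ⊓ g ⁻¹ᵁ V) ⟨hzW, hzV⟩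
    exact ⟨U', ⟨⟨U', hU', V, hV, hVU, hU'W.trans inf_le_right⟩, rfl⟩, hzU', hU'W.trans inf_le_left⟩
  · rintro ⟨U', hU', V, hV, hVU, hle⟩
    obtain ⟨D⟩ := nonempty_localData f F hF hflat hV
    exact D.bijective_bc_app i (hU hV hVU D) g g' f' h E E' B hU' hle

include hF hflat in
/-- **base change in degrees `p` and `p - 1` over an open where `H^p` of the fibres vanishes** -/
theorem isIso_bc_of_betti (p : ℕ) (U : S.Opens) (hU : ∀ s ∈ U, PerfAux.betti f F s p = 0)
    {S' X' : Scheme.{u}} (g : S' ⟶ S) (g' : X' ⟶ X) (f' : X' ⟶ S')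
    (h : IsPullback g' f' f g) [HasInjectiveResolutions X'.Modules]
    {Δ : RDer.DerivedLES (Scheme.Modules.pushforward f)}
    {Δ' : RDer.DerivedLES (Scheme.Modules.pushforward f')}
    (E : CohCmp.SectCmp f Δ) (E' : CohCmp.SectCmp f' Δ') (B : CohCmp.GenBC f g f' g' h.w E E')
    (hg : ∀ z : S', g z ∈ U) :
    IsIso (B.bc p F) ∧ ∀ j : ℕ, j + 1 = p → IsIso (B.bc j F) := by
  refine ⟨?_, ?_⟩
  · refine isIso_bc_of_forall_projective f F hF hflat p U (fun {V} hV hVU D => ?_) g g' f' h E E' B hg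
    exact (D.projective_opcycles_of_betti p (fun s hs => hU s (hVU hs))).1
  · rintro j rfl
    refine isIso_bc_of_forall_projective f F hF hflat j U (fun {V} hV hVU D => ?_) g g' f' h E E' B hg
    refine projective_opcycles_congr D.Q ?_
      (D.projective_opcycles_of_betti (j + 1) (fun s hs => hU s (hVU hs))).2
    push_cast
    ring

end main

end Groth.Agent.Lib.Helper21.GBC29
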