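import Mathlib
import Groth.Prelude
import Groth.Agent.S0458

set_option autoImplicit false
set_option linter.style.haveILetI false
universe u
open CategoryTheory CategoryTheory.Limits AlgebraicGeometry TopologicalSpace Opposite

namespace Groth.Agent.Lib.Helper2.TopCohB

variable {X Y : Scheme.{u}} (f : X ⟶ Y) [IsProper f]

instance noetherianSpace_fiber (y : Y) : NoetherianSpace ↥(f.fiber y) := by
  haveI : IsProper (f.fiberToSpecResidueField y) :=
    inferInstanceAs (IsProper (pullback.snd f (Y.fromSpecResidueField y)))
  haveI : IsLocallyNoetherian (f.fiber y) :=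
    LocallyOfFiniteType.isLocallyNoetherian (f.fiberToSpecResidueField y)
  haveI : CompactSpace ↥(f.fiber y) :=
    QuasiCompact.compactSpace_of_compactSpace (f.fiberToSpecResidueField y)
  haveI : IsNoetherian (f.fiber y) := {}
  infer_instance

/-- Grothendieck vanishing on a fibre -/
theorem subsingleton_fiberH_of_dim_lt (F : X.Modules) (y : Y) (d : ℕ)
    (hd : topologicalKrullDim ↥(f.fiber y) ≤ d) (p : ℕ) (hp : d < p) :
    Subsingleton (CohIII.fiberH f F y p) :=
  Groth.Agent.S0458.result (X := (f.fiber y).carrier) d hd (Coh.toAb (CohIII.fiberMod f F y)) p hp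

theorem fiberRank_eq_zero_of_dim_lt (F : X.Modules) (y : Y) (d : ℕ)
    (hd : topologicalKrullDim ↥(f.fiber y) ≤ d) (p : ℕ) (hp : d < p) :
    CohIII.fiberRank f F p y = 0 := by
  haveI := subsingleton_fiberH_of_dim_lt f F y d hd p hp
  exact Module.finrank_zero_of_subsingleton

end Groth.Agent.Lib.Helper2.TopCohB
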