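import Groth.Agent.Lib.Helper21GBC29
import Groth.Agent.Lib.Helper2TopCohB

/-!
# General base change, part 30: vanishing loci of the cohomology of the fibres and base change
(helper21)
-/

set_option autoImplicit false
set_option linter.style.haveILetI false
set_option linter.unusedSectionVars false
universe u
open CategoryTheory CategoryTheory.Limits AlgebraicGeometry Opposite TopologicalSpace TensorProduct

namespace Groth.Agent.Lib.Helper21.GBC30

open Groth.Agent.Lib.Helper21.GBC20 Groth.Agent.Lib.Helper21.NNBC Groth.Agent.Lib.Helper21.GBC29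
  Groth.Agent.Lib.Helper21.BC0Main

variable {X S : Scheme.{u}} (f : X ⟶ S) [IsProper f] [LocallyOfFinitePresentation f]
  [HasInjectiveResolutions X.Modules] (F : X.Modules)
  (hfp : CohB1.IsFP F) (hfl : FlatMod.IsFlatOver f F)
  {Δ : RDer.DerivedLES (Scheme.Modules.pushforward f)} (E : CohCmp.SectCmp f Δ)

include hfp hfl in
/-- the locus where `H^i` of the fibres vanishes -/
theorem vanishing_locus (i : ℕ) :
    ∃ U : S.Opens, (∀ s : S, s ∈ U ↔ Subsingleton (CohIII.fiberH f F s i)) ∧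
      Limits.IsZero (((Coh.Rpush f i).obj F).restrict U.ι) ∧
      ∀ ⦃X' S' : Scheme.{u}⦄ (g' : X' ⟶ X) (f' : X' ⟶ S') (g : S' ⟶ S) (h : IsPullback g' f' f g)
        [HasInjectiveResolutions X'.Modules] (Δ' : RDer.DerivedLES (Scheme.Modules.pushforward f'))
        (E' : CohCmp.SectCmp f' Δ')
        (B : CohCmp.GenBC f g f' g' h.w E E'), (∀ z : S', g z ∈ U) →
          IsIso (B.bc i F) ∧ ∀ j : ℕ, j + 1 = i → IsIso (B.bc j F) := by
  refine ⟨⟨{s | PerfAux.betti f F s i = 0}, isOpen_betti_eq_zero f F hfp hfl i⟩, fun s => ?_, ?_, ?_⟩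
  · exact (subsingleton_fiberH_iff f F hfp s i).symm
  · exact isZero_restrict_Rpush f F hfp hfl i _ (fun s hs => hs)
  · intro X' S' g' f' g h _ Δ' E' B hg
    exact isIso_bc_of_betti f F hfp hfl i _ (fun s hs => hs) g g' f' h E E' B hg

include hfp hfl in
/-- vanishing of `H^{i+1}` and `H^{i-1}` of the fibre at a point -/
theorem nhd_of_vanishing (s : S) (i : ℕ)
    (hup : Subsingleton (CohIII.fiberH f F s (i + 1)))
    (hdown : ∀ j : ℕ, j + 1 = i → Subsingleton (CohIII.fiberH f F s j)) :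
    ∃ U : S.Opens, s ∈ U ∧
      Limits.IsZero (((Coh.Rpush f (i + 1)).obj F).restrict U.ι) ∧
      (∀ j : ℕ, j + 1 = i → Limits.IsZero (((Coh.Rpush f j).obj F).restrict U.ι)) ∧
      FlatMod.IsFinLocFree (((Coh.Rpush f i).obj F).restrict U.ι) ∧
      ∀ ⦃X' S' : Scheme.{u}⦄ (g' : X' ⟶ X) (f' : X' ⟶ S') (g : S' ⟶ S) (h : IsPullback g' f' f g)
        [HasInjectiveResolutions X'.Modules] (Δ' : RDer.DerivedLES (Scheme.Modules.pushforward f'))
        (E' : CohCmp.SectCmp f' Δ')
        (B : CohCmp.GenBC f g f' g' h.w E E'), (∀ z : S', g z ∈ U) →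
          IsIso (B.bc (i + 1) F) ∧ IsIso (B.bc i F) ∧
            ∀ j : ℕ, (j + 1 = i ∨ j + 2 = i) → IsIso (B.bc j F) := by
  have hs1 : PerfAux.betti f F s (i + 1) = 0 := (subsingleton_fiberH_iff f F hfp s (i + 1)).1 hup
  rcases i with _ | k
  · let U : S.Opens := ⟨{s | PerfAux.betti f F s 1 = 0}, isOpen_betti_eq_zero f F hfp hfl 1⟩
    refine ⟨U, hs1, ?_, ?_, ?_, ?_⟩
    · exact isZero_restrict_Rpush f F hfp hfl 1 U (fun s hs => hs)
    · intro j hj
      omega
    · exact isFinLocFree_restrict_Rpush f F hfp hfl 0 U (fun s hs => hs) (Or.inl rfl)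
    · intro X' S' g' f' g h _ Δ' E' B hg
      obtain ⟨h1, h2⟩ := isIso_bc_of_betti f F hfp hfl 1 U (fun s hs => hs) g g' f' h E E' B hg
      refine ⟨h1, h2 0 rfl, ?_⟩
      intro j hj
      omega
  · have hs2 : PerfAux.betti f F s k = 0 :=
      (subsingleton_fiberH_iff f F hfp s k).1 (hdown k rfl)
    let U : S.Opens := ⟨{s | PerfAux.betti f F s (k + 1 + 1) = 0} ∩ {s | PerfAux.betti f F s k = 0},
      (isOpen_betti_eq_zero f F hfp hfl (k + 1 + 1)).inter (isOpen_betti_eq_zero f F hfp hfl k)⟩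
    refine ⟨U, ⟨hs1, hs2⟩, ?_, ?_, ?_, ?_⟩
    · exact isZero_restrict_Rpush f F hfp hfl (k + 1 + 1) U (fun s hs => hs.1)
    · intro j hj
      obtain rfl : j = k := by omega
      exact isZero_restrict_Rpush f F hfp hfl j U (fun s hs => hs.2)
    · exact isFinLocFree_restrict_Rpush f F hfp hfl (k + 1) U (fun s hs => hs.1)
        (Or.inr (fun s hs => hs.2))
    · intro X' S' g' f' g h _ Δ' E' B hg
      obtain ⟨h1, h2⟩ := isIso_bc_of_betti f F hfp hfl (k + 1 + 1) U (fun s hs => hs.1)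
        g g' f' h E E' B hg
      obtain ⟨h3, h4⟩ := isIso_bc_of_betti f F hfp hfl k U (fun s hs => hs.2)
        g g' f' h E E' B hg
      refine ⟨h1, h2 (k + 1) rfl, ?_⟩
      rintro j (hj | hj)
      · obtain rfl : j = k := by omega
        exact h3
      · exact h4 j (by omega)

include hfp hfl in
/-- fibres of dimension at most `d` -/
theorem of_fibre_dim (d : ℕ) (hd : ∀ s : S, topologicalKrullDim (f.fiber s) ≤ d) :
    (∀ i : ℕ, d < i → Limits.IsZero ((Coh.Rpush f i).obj F)) ∧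
      ∀ i : ℕ, d ≤ i → ∀ ⦃X' S' : Scheme.{u}⦄ (g' : X' ⟶ X) (f' : X' ⟶ S') (g : S' ⟶ S)
        (h : IsPullback g' f' f g)
        [HasInjectiveResolutions X'.Modules] (Δ' : RDer.DerivedLES (Scheme.Modules.pushforward f'))
        (E' : CohCmp.SectCmp f' Δ')
        (B : CohCmp.GenBC f g f' g' h.w E E'), IsIso (B.bc i F) := by
  have hb : ∀ (s : S) (i : ℕ), d < i → PerfAux.betti f F s i = 0 := fun s i hi =>
    (subsingleton_fiberH_iff f F hfp s i).1
      (Groth.Agent.Lib.Helper2.TopCohB.subsingleton_fiberH_of_dim_lt f F s d (hd s) i hi)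
  refine ⟨fun i hi => isZero_Rpush_of_fibres f F hfp hfl i (fun s => hb s i hi), ?_⟩
  intro i hi X' S' g' f' g h _ Δ' E' B
  exact (isIso_bc_of_betti f F hfp hfl (i + 1) ⊤ (fun s _ => hb s (i + 1) (by omega))
    g g' f' h E E' B (fun z => trivial)).2 i rfl

end Groth.Agent.Lib.Helper21.GBC30
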