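import Mathlib
import Groth.Agent.Lib.Helper10RedProjU

/-!
# General base change, part 31: locally constant fibre ranks over reduced rings, projective target
(helper21)
-/

set_option autoImplicit false
set_option linter.style.haveILetI false
universe u v
open TensorProduct Module

namespace Groth.Agent.Lib.Helper21.GBC31

open Groth.Agent.Lib.Helper10

/-- If `dim ker(δ_p)` is locally constant (`F` finite projective, `M` finite), then the fibre ranks of
`M` and of `coker δ` are locally constant. -/
theorem isLocallyConstant_fibre_ranks' (A : Type u) [CommRing A] (M : Type v) (F : Type v)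
    [AddCommGroup M] [Module A M] [Module.Finite A M] [AddCommGroup F] [Module A F]
    [Module.Finite A F] [Module.Projective A F] (δ : M →ₗ[A] F)
    (h : IsLocallyConstant (fun x : PrimeSpectrum A =>
      finrank x.asIdeal.ResidueField (LinearMap.ker (δ.baseChange x.asIdeal.ResidueField)))) :
    IsLocallyConstant (fun p : PrimeSpectrum A =>
      finrank p.asIdeal.ResidueField (p.asIdeal.ResidueField ⊗[A] M)) ∧
    IsLocallyConstant (fun p : PrimeSpectrum A =>
      finrank p.asIdeal.ResidueField (p.asIdeal.ResidueField ⊗[A] (F ⧸ LinearMap.range δ))) := by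
  haveI : Module.FinitePresentation A F := Module.finitePresentation_of_projective A F
  have hF : IsLocallyConstant (fun p : PrimeSpectrum A =>
      finrank p.asIdeal.ResidueField (p.asIdeal.ResidueField ⊗[A] F)) := by
    have := Module.isLocallyConstant_rankAtStalk (R := A) (M := F)
    convert this using 2 with p
    exact (Module.rankAtStalk_eq p).symm
  have key : ∀ y : PrimeSpectrum A, ∀ᶠ y' in nhds y,
      finrank y'.asIdeal.ResidueField (y'.asIdeal.ResidueField ⊗[A] M) =
        finrank y.asIdeal.ResidueField (y.asIdeal.ResidueField ⊗[A] M) ∧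
      finrank y'.asIdeal.ResidueField (y'.asIdeal.ResidueField ⊗[A] (F ⧸ LinearMap.range δ)) =
        finrank y.asIdeal.ResidueField (y.asIdeal.ResidueField ⊗[A] (F ⧸ LinearMap.range δ)) := by
    intro y
    haveI : Nontrivial A := y.nontrivial
    obtain ⟨U₁, hU₁o, hyU₁, hU₁⟩ := FibreRank.exists_isOpen_finrank_le (B := A) M y
    obtain ⟨U₂, hU₂o, hyU₂, hU₂⟩ :=
      FibreRank.exists_isOpen_finrank_le (B := A) (F ⧸ LinearMap.range δ) y
    filter_upwards [hU₁o.mem_nhds hyU₁, hU₂o.mem_nhds hyU₂, h.eventually_eq y, hF.eventually_eq y]
      with y' h1 h2 h3 h4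
    have hm := hU₁ y' h1
    have hc := hU₂ y' h2
    have ha : finrank y'.asIdeal.ResidueField
        (LinearMap.ker (δ.baseChange y'.asIdeal.ResidueField)) =
      finrank y.asIdeal.ResidueField
        (LinearMap.ker (δ.baseChange y.asIdeal.ResidueField)) := h3
    have hf : finrank y'.asIdeal.ResidueField (y'.asIdeal.ResidueField ⊗[A] F) =
      finrank y.asIdeal.ResidueField (y.asIdeal.ResidueField ⊗[A] F) := h4
    have hrn := LinearMap.finrank_range_add_finrank_ker (δ.baseChange y.asIdeal.ResidueField)
    have hrn' := LinearMap.finrank_range_add_finrank_ker (δ.baseChange y'.asIdeal.ResidueField)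
    have hic := FibreRank.finrank_range_baseChange_add δ y.asIdeal.ResidueField
    have hic' := FibreRank.finrank_range_baseChange_add δ y'.asIdeal.ResidueField
    rw [hf] at hic'
    rw [ha] at hrn'
    generalize finrank y.asIdeal.ResidueField (y.asIdeal.ResidueField ⊗[A] F) = ff at hic hic'
    generalize finrank y.asIdeal.ResidueField
      (LinearMap.ker (δ.baseChange y.asIdeal.ResidueField)) = a at hrn hrn'
    generalize finrank y.asIdeal.ResidueField
      (LinearMap.range (δ.baseChange y.asIdeal.ResidueField)) = i at hrn hic
    generalize finrank y'.asIdeal.ResidueField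
      (LinearMap.range (δ.baseChange y'.asIdeal.ResidueField)) = i' at hrn' hic'
    generalize finrank y.asIdeal.ResidueField (y.asIdeal.ResidueField ⊗[A] M) = m at hrn hm ⊢
    generalize finrank y'.asIdeal.ResidueField (y'.asIdeal.ResidueField ⊗[A] M) = m' at hrn' hm ⊢
    generalize finrank y.asIdeal.ResidueField
      (y.asIdeal.ResidueField ⊗[A] (F ⧸ LinearMap.range δ)) = c at hic hc ⊢
    generalize finrank y'.asIdeal.ResidueField
      (y'.asIdeal.ResidueField ⊗[A] (F ⧸ LinearMap.range δ)) = c' at hic' hc ⊢
    omega
  constructor
  · rw [IsLocallyConstant.iff_eventually_eq]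
    intro y
    exact (key y).mono fun y' hy' => hy'.1
  · rw [IsLocallyConstant.iff_eventually_eq]
    intro y
    exact (key y).mono fun y' hy' => hy'.2

/-- over a reduced ring: locally constant `dim ker(δ_p)` gives projectivity of `M` and `coker δ` -/
theorem projective_of_isLocallyConstant_ker (A : Type u) [CommRing A] [IsReduced A] (M : Type v)
    (F : Type v) [AddCommGroup M] [Module A M] [Module.Finite A M] [AddCommGroup F] [Module A F]
    [Module.Finite A F] [Module.Projective A F] (δ : M →ₗ[A] F)
    (h : IsLocallyConstant (fun x : PrimeSpectrum A =>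
      finrank x.asIdeal.ResidueField (LinearMap.ker (δ.baseChange x.asIdeal.ResidueField)))) :
    Module.Projective A M ∧ Module.Projective A (F ⧸ LinearMap.range δ) := by
  obtain ⟨hm, hc⟩ := isLocallyConstant_fibre_ranks' A M F δ h
  exact ⟨RedProjU.projective_of_isLocallyConstant hm, RedProjU.projective_of_isLocallyConstant hc⟩

end Groth.Agent.Lib.Helper21.GBC31
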