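import Mathlib
import Groth.Prelude.Def_ega3
import Groth.Agent.Lib.Helper3FlatCxBT
import Groth.Agent.Lib.Helper21GBC31

/-!
# General base change, part 32: over a reduced ring, a locally constant rank function of a complex of
finite projective modules makes the two adjacent cokernels projective (helper21)
-/

set_option autoImplicit false
universe u

namespace Groth.Agent.Lib.Helper21.GBC32

open CategoryTheory CategoryTheory.Limits MonoidalCategory TensorProduct Groth.Agent.S2380
  Groth.Agent.Lib.Helper3

section
variable {A : Type u} [CommRing A] {ι : Type} {c : ComplexShape ι}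
variable (B : Type u) [CommRing B] [Algebra A B] (P : HomologicalComplex (ModuleCat.{u} A) c)
  (p q : ι) (hrel : c.Rel p q)

include hrel in
/-- the homology of a base change as the kernel of the base change of `W_p → P_q` -/
theorem nonempty_homology_equiv_ker :
    Nonempty ((CohIII.bcCx (algebraMap A B) P).homology p ≃ₗ[B]
      LinearMap.ker ((P.fromOpcycles p q).hom.baseChange B)) := by
  let K := CohIII.bcCx (algebraMap A B) P
  let ψ := (P.fromOpcycles p q).hom.baseChange B
  let E : K.opcycles p ≃ₗ[B] B ⊗[A] (P.opcycles p) :=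
    (bcOpcyclesIso B P p).toLinearEquiv ≪≫ₗ bridge A B (P.opcycles p)
  have hE : ∀ w, ψ (E w) = bridge A B (P.X q) ((K.fromOpcycles p q).hom w) := by
    intro w
    rw [← bcOpcyclesIso_hom_fromOpcycles_apply B P p q w]
    exact (bridge_naturality A B (P.fromOpcycles p q) _).symm
  have hKinj : Function.Injective (K.homologyι p).hom :=
    (ModuleCat.mono_iff_injective _).mp inferInstance
  have hKex : Function.Exact (K.homologyι p).hom (K.fromOpcycles p q).hom :=
    exact_homologyι_fromOpcycles K p q (c.next_eq' hrel)
  have hmap : (LinearMap.ker (K.fromOpcycles p q).hom).map E.toLinearMap = LinearMap.ker ψ := by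
    ext z
    constructor
    · rintro ⟨w, hw, rfl⟩
      show ψ (E w) = 0
      have h0 : (K.fromOpcycles p q).hom w = 0 := LinearMap.mem_ker.mp hw
      exact (hE w).trans ((congrArg (bridge A B (P.X q)) h0).trans
        (map_zero (bridge A B (P.X q))))
    · intro hz
      refine ⟨E.symm z, ?_, E.apply_symm_apply z⟩
      show (K.fromOpcycles p q).hom (E.symm z) = 0
      apply (bridge A B (P.X q)).injective
      refine (hE (E.symm z)).symm.trans ?_
      rw [E.apply_symm_apply]
      exact (LinearMap.mem_ker.mp hz).trans (map_zero (bridge A B (P.X q))).symm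
  exact ⟨(LinearEquiv.ofInjective (K.homologyι p).hom hKinj) ≪≫ₗ
    LinearEquiv.ofEq _ _ (LinearMap.exact_iff.mp hKex).symm ≪≫ₗ
    (E.submoduleMap _) ≪≫ₗ LinearEquiv.ofEq _ _ hmap⟩

end

section
variable {A : Type u} [CommRing A] (Q : ChainComplex (ModuleCat.{u} A) ℤ)

/-- the rank function as the dimension of the kernel of the base change of `W_j → Q_{j-1}` -/
theorem dRank_eq_finrank_ker (j : ℤ) (x : PrimeSpectrum A) :
    CohIII.dRank Q j x =
      Module.finrank x.asIdeal.ResidueField
        (LinearMap.ker ((Q.fromOpcycles j (j - 1)).hom.baseChange x.asIdeal.ResidueField)) := by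
  obtain ⟨e⟩ := nonempty_homology_equiv_ker x.asIdeal.ResidueField Q j (j - 1) (by simp)
  exact LinearEquiv.finrank_eq e

/-- the cokernel of `W_j → Q_{j-1}` is `W_{j-1}` -/
theorem nonempty_quotient_equiv_opcycles (j : ℤ) :
    Nonempty ((Q.X (j - 1) ⧸ LinearMap.range (Q.fromOpcycles j (j - 1)).hom) ≃ₗ[A]
      Q.opcycles (j - 1)) := by
  have hex := exact_fromOpcycles_pOpcycles Q j (j - 1) (by simp)
  have hsurj : Function.Surjective (Q.pOpcycles (j - 1)).hom :=
    (ModuleCat.epi_iff_surjective _).mp inferInstance
  have hk : LinearMap.ker (Q.pOpcycles (j - 1)).hom = LinearMap.range (Q.fromOpcycles j (j - 1)).hom :=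
    LinearMap.exact_iff.mp hex
  exact ⟨(Submodule.quotEquivOfEq _ _ hk.symm).trans
    ((Q.pOpcycles (j - 1)).hom.quotKerEquivOfSurjective hsurj)⟩

/-- **over a reduced ring, if the rank function `d_j` is locally constant, the cokernels `W_j` and
`W_{j-1}` are projective** -/
theorem projective_opcycles_of_isLocallyConstant_dRank [IsReduced A] (j : ℤ)
    [Module.Finite A (Q.X j)] [Module.Finite A (Q.X (j - 1))] [Module.Projective A (Q.X (j - 1))]
    (hlc : IsLocallyConstant (fun x : PrimeSpectrum A => CohIII.dRank Q j x)) :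
    Module.Projective A (Q.opcycles j) ∧ Module.Projective A (Q.opcycles (j - 1)) := by
  haveI : Module.Finite A (Q.opcycles j) :=
    Module.Finite.of_surjective (Q.pOpcycles j).hom
      ((ModuleCat.epi_iff_surjective _).mp inferInstance)
  have h : IsLocallyConstant (fun x : PrimeSpectrum A =>
      Module.finrank x.asIdeal.ResidueField
        (LinearMap.ker ((Q.fromOpcycles j (j - 1)).hom.baseChange x.asIdeal.ResidueField))) := by
    convert hlc using 2 with x
    exact (dRank_eq_finrank_ker Q j x).symm
  obtain ⟨h1, h2⟩ := Groth.Agent.Lib.Helper21.GBC31.projective_of_isLocallyConstant_ker A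
    (Q.opcycles j) (Q.X (j - 1)) (Q.fromOpcycles j (j - 1)).hom h
  obtain ⟨e⟩ := nonempty_quotient_equiv_opcycles Q j
  exact ⟨h1, Module.Projective.of_equiv e⟩

end

end Groth.Agent.Lib.Helper21.GBC32
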