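import Groth.Agent.Lib.Helper21GBC29
import Groth.Agent.Lib.Helper21GBC32

/-!
# General base change, part 33: reduced base and locally constant fibre dimension (helper21)
-/

set_option autoImplicit false
set_option linter.style.haveILetI false
set_option linter.unusedSectionVars false
universe u
open CategoryTheory CategoryTheory.Limits AlgebraicGeometry Opposite TopologicalSpace TensorProduct

namespace Groth.Agent.Lib.Helper21.GBC33

open Groth.Agent.Lib.Helper21.GBC16 Groth.Agent.Lib.Helper21.GBC17
  Groth.Agent.Lib.Helper21.GBC19 Groth.Agent.Lib.Helper21.GBC20 Groth.Agent.Lib.Helper21.NNBC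
  Groth.Agent.Lib.Helper21.GBC29 Groth.Agent.Lib.Helper21.AlgBC

variable {X S : Scheme.{u}} {f : X ⟶ S} [IsProper f] [LocallyOfFinitePresentation f]
  [HasInjectiveResolutions X.Modules] {F : X.Modules}

section LD
variable {V : S.Opens} {hV : IsAffineOpen V} (D : LocalData f F hV)

/-- the fibre dimension at the points of `V`, in terms of the complex -/
theorem _root_.Groth.Agent.Lib.Helper21.GBC20.LocalData.fiberRank_fromSpec (n : ℕ)
    (x : PrimeSpectrum Γ(S, V)) :
    CohIII.fiberRank f F n (hV.fromSpec x) = CohIII.dRank D.Q (-(n : ℤ)) x := by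
  letI : Algebra D.A₀ Γ(S, V) := D.φ.hom.toAlgebra
  have hflatP : ∀ i, Module.Flat D.A₀ (D.P.X i) := fun i => by
    haveI := (D.hP i).2
    infer_instance
  have h2 := Groth.Agent.S2440.result (A' := Γ(S, V)) D.P hflatP (-(n : ℤ)) x
  have h3 := D.hrk x n
  exact (h2.trans h3).symm

/-- over a reduced base, if the fibre dimension in degree `i` is locally constant, `W^i` and `W^{i+1}`
are projective -/
theorem _root_.Groth.Agent.Lib.Helper21.GBC20.LocalData.projective_opcycles_of_isLocallyConstant
    [IsReduced S] (i : ℕ) (hlc : IsLocallyConstant (CohIII.fiberRank f F i)) :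
    Module.Projective Γ(S, V) (D.Q.opcycles (-(i : ℤ))) ∧
      Module.Projective Γ(S, V) (D.Q.opcycles (-(i : ℤ) - 1)) := by
  haveI := D.finite_Q (-(i : ℤ))
  haveI := D.finite_Q (-(i : ℤ) - 1)
  haveI := D.projective_Q (-(i : ℤ) - 1)
  refine Groth.Agent.Lib.Helper21.GBC32.projective_opcycles_of_isLocallyConstant_dRank D.Q (-(i : ℤ)) ?_
  have h := hlc.comp_continuous hV.fromSpec.continuous
  have e : (fun x : PrimeSpectrum Γ(S, V) => CohIII.dRank D.Q (-(i : ℤ)) x) =
      CohIII.fiberRank f F i ∘ (fun x => hV.fromSpec x) := by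
    funext x
    exact (D.fiberRank_fromSpec i x).symm
  rw [e]
  exact h

end LD

section main
variable (f F) (hF : CohB1.IsFP F) (hflat : FlatMod.IsFlatOver f F)

include hF hflat in
/-- **reduced base, locally constant fibre dimension in degree `i`** -/
theorem of_isLocallyConstant_fiberRank [IsReduced S] (i : ℕ)
    (hlc : IsLocallyConstant (CohIII.fiberRank f F i))
    {Δ : RDer.DerivedLES (Scheme.Modules.pushforward f)} (E : CohCmp.SectCmp f Δ) :
    FlatMod.IsFinLocFree ((Coh.Rpush f i).obj F) ∧
      ∀ ⦃X' S' : Scheme.{u}⦄ (g' : X' ⟶ X) (f' : X' ⟶ S') (g : S' ⟶ S) (h : IsPullback g' f' f g)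
        [HasInjectiveResolutions X'.Modules] (Δ' : RDer.DerivedLES (Scheme.Modules.pushforward f'))
        (E' : CohCmp.SectCmp f' Δ')
        (B : CohCmp.GenBC f g f' g' h.w E E'),
          IsIso (B.bc i F) ∧ ∀ j : ℕ, j + 1 = i → IsIso (B.bc j F) := by
  haveI hq : F.IsQuasicoherent := Groth.Agent.Helper18Strict.isQCoh_of_isFP F hF
  haveI : Coh.IsQCoh F := hq
  haveI : ((Coh.Rpush f i).obj F).IsQuasicoherent := Groth.Agent.S0030.result f F i
  refine ⟨?_, ?_⟩
  · refine Groth.Agent.Lib.Helper1.SPL.isFinLocFree_of_local _ (fun y => ?_)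
    refine ⟨_, (⊤ : S.Opens).ι, inferInstance, ?_, ?_⟩
    · rw [Scheme.Opens.opensRange_ι]
      trivial
    · refine isFinLocFree_restrict_of_affine _ ⊤ (fun V hV _ => ?_)
      obtain ⟨D⟩ := nonempty_localData f F hF hflat hV
      obtain ⟨h1, h2⟩ := D.projective_opcycles_of_isLocallyConstant i hlc
      haveI := D.finitePresentation_opcycles (-(i : ℤ))
      haveI := D.finitePresentation_opcycles (-(i : ℤ) - 1)
      exact D.finite_projective_sections i (Module.freeLocus_eq_univ_iff.mpr h1)
        (Module.freeLocus_eq_univ_iff.mpr h2)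
  · intro X' S' g' f' g h _ Δ' E' B
    refine ⟨?_, ?_⟩
    · refine isIso_bc_of_forall_projective f F hF hflat i ⊤ (fun {V} hV _ D => ?_)
        g g' f' h E E' B (fun z => trivial)
      exact (D.projective_opcycles_of_isLocallyConstant i hlc).2
    · rintro j rfl
      refine isIso_bc_of_forall_projective f F hF hflat j ⊤ (fun {V} hV _ D => ?_)
        g g' f' h E E' B (fun z => trivial)
      refine projective_opcycles_congr D.Q ?_
        (D.projective_opcycles_of_isLocallyConstant (j + 1) hlc).1
      push_cast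
      ring

end main

end Groth.Agent.Lib.Helper21.GBC33
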