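import Mathlib
import Groth.Prelude.Def_ega3
import Groth.Agent.Lib.Helper21BC0Alg
import Groth.Agent.Lib.Helper21BC0Free
import Groth.Agent.Lib.Helper3FlatCx

/-!
# General base change, part 34: kernels commute with a cocartesian base change when the target and
the cokernel are flat over the base ring (helper21)

For a cocartesian square of rings `R → A`, `R → R'`, `A' = A ⊗[R] R'`, an `A`-linear map
`d : M₀ → M₁` whose target and cokernel are flat over `R` satisfies `KerBC A' d`.
-/

set_option autoImplicit false
set_option linter.style.haveILetI false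
set_option linter.unusedSectionVars false
universe u
open TensorProduct

namespace Groth.Agent.Lib.Helper21.GBC34

open Groth.Agent.Lib.Helper21.BC0Alg Groth.Agent.Lib.Helper3

section Push
variable (R R' A A' : Type u) [CommRing R] [CommRing A] [CommRing R'] [CommRing A']
  [Algebra R A] [Algebra R R'] [Algebra A A'] [Algebra R' A'] [Algebra R A']
  [IsScalarTower R A A'] [IsScalarTower R R' A'] [Algebra.IsPushout R R' A A']

/-- `R' ⊗[R] M ≃ A' ⊗[A] M` for an `A`-module `M`, when `A' = A ⊗[R] R'` -/
noncomputable def θ (M : Type u) [AddCommGroup M] [Module R M] [Module A M] [IsScalarTower R A M] :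
    R' ⊗[R] M ≃ₗ[R'] A' ⊗[A] M :=
  (Algebra.IsPushout.cancelBaseChange R R' A A' M).symm

variable {M N : Type u} [AddCommGroup M] [Module R M] [Module A M] [IsScalarTower R A M]
  [AddCommGroup N] [Module R N] [Module A N] [IsScalarTower R A N]

lemma θ_tmul (s : R') (m : M) : θ R R' A A' M (s ⊗ₜ m) = algebraMap R' A' s ⊗ₜ m :=
  Algebra.IsPushout.cancelBaseChange_symm_tmul R R' A A' M s m

lemma θ_nat (φ : M →ₗ[A] N) (x : R' ⊗[R] M) :
    θ R R' A A' N ((φ.restrictScalars R).lTensor R' x) = φ.lTensor A' (θ R R' A A' M x) := by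
  induction x with
  | zero => simp
  | add x y hx hy => simp only [map_add, hx, hy]
  | tmul s m =>
    rw [LinearMap.lTensor_tmul, θ_tmul, θ_tmul, LinearMap.lTensor_tmul]
    rfl

end Push

section Main

/-- **kernels commute with a cocartesian base change** `A → A' = A ⊗[R] R'` for an `A`-linear map
whose target and cokernel are flat over `R`. -/
theorem kerBC_of_isPushout (R R' A A' : Type u) [CommRing R] [CommRing A] [CommRing R'] [CommRing A']
    [Algebra R A] [Algebra R R'] [Algebra A A'] [Algebra R' A'] [Algebra R A']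
    [IsScalarTower R A A'] [IsScalarTower R R' A'] [Algebra.IsPushout R R' A A']
    {M₀ M₁ Q : Type u} [AddCommGroup M₀] [Module R M₀] [Module A M₀] [IsScalarTower R A M₀]
    [AddCommGroup M₁] [Module R M₁] [Module A M₁] [IsScalarTower R A M₁]
    [AddCommGroup Q] [Module R Q] [Module A Q] [IsScalarTower R A Q]
    (d : M₀ →ₗ[A] M₁) (π : M₁ →ₗ[A] Q) (hπ : Function.Surjective π)
    (hex : Function.Exact d π) [Module.Flat R M₁] [Module.Flat R Q] : KerBC A' d := by
  -- the `R`-linear pieces
  let I : Submodule A M₁ := LinearMap.range d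
  let dbar : M₀ →ₗ[R] I := d.rangeRestrict.restrictScalars R
  let ιI : I →ₗ[R] M₁ := I.subtype.restrictScalars R
  let πR : M₁ →ₗ[R] Q := π.restrictScalars R
  let j : LinearMap.ker d →ₗ[R] M₀ := (LinearMap.ker d).subtype.restrictScalars R
  have hdbar : Function.Surjective dbar := d.surjective_rangeRestrict
  have hιI : Function.Injective ιI := Subtype.val_injective
  have hj : Function.Injective j := Subtype.val_injective
  have hex1 : Function.Exact ιI πR := by
    intro x
    rw [show πR x = π x from rfl, hex x]
    constructor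
    · rintro ⟨y, rfl⟩
      exact ⟨⟨d y, y, rfl⟩, rfl⟩
    · rintro ⟨⟨_, y, rfl⟩, rfl⟩
      exact ⟨y, rfl⟩
  have hex2 : Function.Exact j dbar := by
    intro x
    constructor
    · intro hx
      have hx' : d x = 0 := congrArg Subtype.val hx
      exact ⟨⟨x, hx'⟩, rfl⟩
    · rintro ⟨⟨y, hy⟩, rfl⟩
      exact Subtype.ext hy
  haveI hI : Module.Flat R I := flat_of_exact_of_flat_mid_right ιI πR hιI hπ hex1
  have hjT : Function.Injective (j.lTensor R') :=
    LinearMap.lTensor_injective_of_exact_of_flat dbar hdbar j hj hex2 R'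
  have hιT : Function.Injective (ιI.lTensor R') :=
    LinearMap.lTensor_injective_of_exact_of_flat πR hπ ιI hιI hex1 R'
  have hcomp : (d.restrictScalars R) = ιI ∘ₗ dbar := rfl
  constructor
  · -- injectivity
    have h1 : ∀ x, (LinearMap.ker d).subtype.lTensor A' (θ R R' A A' (LinearMap.ker d) x) =
        θ R R' A A' M₀ (j.lTensor R' x) := fun x =>
      (θ_nat R R' A A' (LinearMap.ker d).subtype x).symm
    intro s s' hss
    obtain ⟨x, rfl⟩ := (θ R R' A A' (LinearMap.ker d)).surjective s
    obtain ⟨x', rfl⟩ := (θ R R' A A' (LinearMap.ker d)).surjective s'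
    rw [h1, h1] at hss
    rw [hjT ((θ R R' A A' M₀).injective hss)]
  · -- surjectivity
    intro t ht
    obtain ⟨t₀, rfl⟩ := (θ R R' A A' M₀).surjective t
    have h2 : (d.restrictScalars R).lTensor R' t₀ = 0 := by
      apply (θ R R' A A' M₁).injective
      rw [θ_nat, ht, map_zero]
    rw [hcomp, LinearMap.lTensor_comp, LinearMap.comp_apply] at h2
    have h3 : dbar.lTensor R' t₀ = 0 := hιT (h2.trans (map_zero _).symm)
    obtain ⟨s₀, hs₀⟩ := (lTensor_exact R' hex2 hdbar t₀).mp h3
    refine ⟨θ R R' A A' (LinearMap.ker d) s₀, ?_⟩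
    rw [← hs₀]
    exact (θ_nat R R' A A' (LinearMap.ker d).subtype s₀).symm

end Main

section FlatR
variable (R : Type u) [CommRing R] (A : Type u) [CommRing A] [Algebra R A]

/-- restriction of scalars to `R` of an `A`-module -/
@[reducible] def modR (M : Type u) [AddCommGroup M] [Module A M] : Module R M :=
  Module.compHom M (algebraMap R A)

lemma isScalarTower_modR (M : Type u) [AddCommGroup M] [Module A M] :
    letI := modR R A M
    IsScalarTower R A M := by
  letI := modR R A M
  refine ⟨fun r a m => ?_⟩
  change (r • a) • m = algebraMap R A r • (a • m)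
  rw [Algebra.smul_def, mul_smul]

/-- flatness over `R` of an `A`-module -/
def FlatR (M : Type u) [AddCommGroup M] [Module A M] : Prop :=
  @Module.Flat R M _ _ (modR R A M)

variable {R A}

lemma flatR_of_linearEquiv {M N : Type u} [AddCommGroup M] [Module A M] [AddCommGroup N]
    [Module A N] (e : M ≃ₗ[A] N) (h : FlatR R A M) : FlatR R A N := by
  letI := modR R A M
  letI := modR R A N
  haveI := isScalarTower_modR R A M
  haveI := isScalarTower_modR R A N
  haveI : Module.Flat R M := h
  exact Module.Flat.of_linearEquiv (e.restrictScalars R).symm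

/-- a universally injective submodule of a flat module is flat -/
theorem flat_of_rTensor_injective {X Y : Type u} [AddCommGroup X] [AddCommGroup Y] [Module R X]
    [Module R Y] [Module.Flat R Y] (i : X →ₗ[R] Y)
    (h : ∀ (P : Type u) [AddCommGroup P] [Module R P], Function.Injective (i.rTensor P)) :
    Module.Flat R X := by
  rw [Module.Flat.iff_lTensor_preserves_injective_linearMap'.{u, u, u}]
  intro N N' _ _ _ _ φ hφ
  have h1 : Function.Injective ((φ.lTensor Y) ∘ₗ (i.rTensor N)) :=
    (Module.Flat.lTensor_preserves_injective_linearMap φ hφ).comp (h N)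
  rw [LinearMap.lTensor_comp_rTensor, ← LinearMap.rTensor_comp_lTensor] at h1
  exact Function.Injective.of_comp h1

/-- mixed version: an `A`-linear map into an `R`-flat module which stays injective after tensoring
(over `A`) with all `A ⊗[R] P` has `R`-flat source -/
theorem flatR_of_rTensor_injective {X Y : Type u} [AddCommGroup X] [AddCommGroup Y] [Module A X]
    [Module A Y] (hY : FlatR R A Y) (i : X →ₗ[A] Y)
    (h : ∀ (P : Type u) [AddCommGroup P] [Module R P],
      Function.Injective (i.rTensor (A ⊗[R] P))) : FlatR R A X := by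
  letI := modR R A X
  letI := modR R A Y
  haveI := isScalarTower_modR R A X
  haveI := isScalarTower_modR R A Y
  haveI : Module.Flat R Y := hY
  refine flat_of_rTensor_injective (i.restrictScalars R) (fun P _ _ => ?_)
  let σ := fun (Z : Type u) [AddCommGroup Z] [Module A Z] [Module R Z] [IsScalarTower R A Z] =>
    (TensorProduct.AlgebraTensorModule.cancelBaseChange R A A Z P).symm
  have hσ : ∀ x : X ⊗[R] P, σ Y ((i.restrictScalars R).rTensor P x) =
      i.rTensor (A ⊗[R] P) (σ X x) := by
    intro x
    induction x with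
    | zero => simp
    | add x y hx hy => simp only [map_add, hx, hy]
    | tmul m n =>
      simp only [σ, LinearMap.rTensor_tmul,
        TensorProduct.AlgebraTensorModule.cancelBaseChange_symm_tmul]
      rfl
  rw [injective_iff_map_eq_zero]
  intro x hx
  have h1 : i.rTensor (A ⊗[R] P) (σ X x) = 0 := by
    rw [← hσ, hx, map_zero]
  have h2 : σ X x = 0 := h P (h1.trans (map_zero _).symm)
  exact (σ X).injective (h2.trans (map_zero _).symm)

end FlatR

section Cx
open CategoryTheory CategoryTheory.Limits MonoidalCategory
variable {R : Type u} [CommRing R] {A : Type u} [CommRing A] [Algebra R A]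
  {ι : Type} {c : ComplexShape ι} (K : HomologicalComplex (ModuleCat.{u} A) c)

/-- if `K ⊗ M` is exact at `p` for all `M` and `K_{p+1}` is `R`-flat, then the cokernel of the
differential into `K_p` is `R`-flat -/
theorem flatR_opcycles_of_isZero (p q : ι) (hq : c.next p = q) (hX : FlatR R A (K.X q))
    (hz : ∀ M : ModuleCat.{u} A, IsZero ((CohIII.TFun K p).obj M)) :
    FlatR R A (K.opcycles p) := by
  subst hq
  refine flatR_of_rTensor_injective hX (K.fromOpcycles p (c.next p)).hom (fun P _ _ => ?_)
  rw [injective_iff_map_eq_zero]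
  intro x hx
  obtain ⟨t, rfl⟩ := exists_jT_eq K p (ModuleCat.of A (A ⊗[R] P)) x hx
  haveI : Subsingleton ((CohIII.TFun K p).obj (ModuleCat.of A (A ⊗[R] P))) :=
    ModuleCat.subsingleton_of_isZero (hz (ModuleCat.of A (A ⊗[R] P)))
  have ht : t = 0 := Subsingleton.elim (α := ((CohIII.TFun K p).obj (ModuleCat.of A (A ⊗[R] P)))) t 0
  rw [ht, map_zero]

/-- the descending step -/
theorem flatR_opcycles_step (p q : ι) (hrel : c.Rel p q) (hX : FlatR R A (K.X q))
    (hQ : FlatR R A (K.opcycles q)) (hH : FlatR R A (K.homology p)) :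
    FlatR R A (K.opcycles p) := by
  letI := modR R A (K.X q)
  letI := modR R A (K.opcycles q)
  letI := modR R A (K.opcycles p)
  letI := modR R A (K.homology p)
  haveI := isScalarTower_modR R A (K.X q)
  haveI := isScalarTower_modR R A (K.opcycles q)
  haveI := isScalarTower_modR R A (K.opcycles p)
  haveI := isScalarTower_modR R A (K.homology p)
  haveI : Module.Flat R (K.X q) := hX
  haveI : Module.Flat R (K.opcycles q) := hQ
  have hι : Function.Injective (K.homologyι p).hom :=
    (ModuleCat.mono_iff_injective (K.homologyι p)).mp inferInstance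
  have hπ : Function.Surjective (K.pOpcycles q).hom :=
    (ModuleCat.epi_iff_surjective (K.pOpcycles q)).mp inferInstance
  exact (flat_four ((K.homologyι p).hom.restrictScalars R)
    ((K.fromOpcycles p q).hom.restrictScalars R) ((K.pOpcycles q).hom.restrictScalars R)
    hι hπ
    (exact_homologyι_fromOpcycles K p q (c.next_eq' hrel))
    (exact_fromOpcycles_pOpcycles K p q (c.prev_eq' hrel))).mpr hH

end Cx

section Nat
open CategoryTheory CategoryTheory.Limits MonoidalCategory
variable {R : Type u} [CommRing R] {A : Type u} [CommRing A] [Algebra R A]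
  (K : CochainComplex (ModuleCat.{u} A) ℕ)

/-- **flatness of all cokernels** of a cochain complex of `A`-modules with `R`-flat terms and `R`-flat
cohomology which is universally exact in high degrees -/
theorem flatR_opcycles (hX : ∀ n, FlatR R A (K.X n)) (hH : ∀ n, FlatR R A (K.homology n)) (N : ℕ)
    (hz : ∀ (M : ModuleCat.{u} A) (p : ℕ), N ≤ p → IsZero ((CohIII.TFun K p).obj M)) :
    ∀ n, FlatR R A (K.opcycles n) := by
  have key : ∀ m n : ℕ, N ≤ n + m → FlatR R A (K.opcycles n) := by
    intro m
    induction m with
    | zero =>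
      intro n hn
      exact flatR_opcycles_of_isZero K n (n + 1) (by simp) (hX (n + 1))
        (fun M => hz M n (by omega))
    | succ m ih =>
      intro n hn
      exact flatR_opcycles_step K n (n + 1) (by simp) (hX (n + 1)) (ih (n + 1) (by omega)) (hH n)
  exact fun n => key N n (by omega)

end Nat

section Final
open CategoryTheory CategoryTheory.Limits MonoidalCategory

/-- **the kernels of the differentials commute with a cocartesian base change** `A → A ⊗[R] R'`, for
a cochain complex of `A`-modules with `R`-flat terms and `R`-flat cohomology which is universally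
exact in high degrees -/
theorem kerBC_of_flatR (R R' A A' : Type u) [CommRing R] [CommRing A] [CommRing R'] [CommRing A']
    [Algebra R A] [Algebra R R'] [Algebra A A'] [Algebra R' A'] [Algebra R A']
    [IsScalarTower R A A'] [IsScalarTower R R' A'] [Algebra.IsPushout R R' A A']
    (K : CochainComplex (ModuleCat.{u} A) ℕ)
    (hX : ∀ n, FlatR R A (K.X n)) (hH : ∀ n, FlatR R A (K.homology n)) (N : ℕ)
    (hz : ∀ (M : ModuleCat.{u} A) (p : ℕ), N ≤ p → IsZero ((CohIII.TFun K p).obj M)) (n : ℕ) :
    KerBC A' (K.d n (n + 1)).hom := by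
  have hQ := flatR_opcycles K hX hH N hz (n + 1)
  letI := modR R A (K.X n)
  letI := modR R A (K.X (n + 1))
  letI := modR R A (K.opcycles (n + 1))
  haveI := isScalarTower_modR R A (K.X n)
  haveI := isScalarTower_modR R A (K.X (n + 1))
  haveI := isScalarTower_modR R A (K.opcycles (n + 1))
  haveI : Module.Flat R (K.X (n + 1)) := hX (n + 1)
  haveI : Module.Flat R (K.opcycles (n + 1)) := hQ
  have hS : (ShortComplex.mk (K.d n (n + 1)) (K.pOpcycles (n + 1))
      (K.d_pOpcycles n (n + 1))).Exact :=
    ShortComplex.exact_of_g_is_cokernel _ (K.opcyclesIsCokernel n (n + 1) (by simp))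
  have hπ : Function.Surjective (K.pOpcycles (n + 1)).hom :=
    (ModuleCat.epi_iff_surjective (K.pOpcycles (n + 1))).mp inferInstance
  exact kerBC_of_isPushout R R' A A' (K.d n (n + 1)).hom (K.pOpcycles (n + 1)).hom hπ
    ((ShortComplex.ShortExact.moduleCat_exact_iff_function_exact _).1 hS)

/-- the kernel condition passes to a flat algebra over the algebra -/
theorem kerBC_of_flat_tower {A : Type u} [CommRing A] (A' A'' : Type u) [CommRing A'] [CommRing A'']
    [Algebra A A'] [Algebra A' A''] [Algebra A A''] [IsScalarTower A A' A''] [Module.Flat A' A'']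
    {M₀ M₁ : Type u} [AddCommGroup M₀] [Module A M₀] [AddCommGroup M₁] [Module A M₁]
    (d : M₀ →ₗ[A] M₁) (h : KerBC A' d) : KerBC A'' d :=
  ((Groth.Agent.Lib.Helper21.BC0Free.kerBC_tower A' A'' d h).2).1
    (Groth.Agent.Lib.Helper21.BC0Free.kerBC_of_flat A'' (d.baseChange A'))

end Final

end Groth.Agent.Lib.Helper21.GBC34
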