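import Groth.Agent.Lib.Helper21GBC34
import Groth.Agent.Lib.Helper21GBC12
import Groth.Agent.Lib.Helper21GBC25
import Groth.Agent.Lib.Helper2FlatOver

/-!
# General base change, part 35: flatness over a second base of the Čech complex (helper21)

For `f : X ⟶ Y` over `S` (`a = f ≫ b`), `F` flat over `S`, affine opens `W ⊆ S`, `V ⊆ b⁻¹W`: the
terms of the Čech complex of `F|f⁻¹V` (a complex of `Γ(Y,V)`-modules) are flat over `Γ(S,W)`.
-/

set_option autoImplicit false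
set_option linter.style.haveILetI false
set_option linter.unusedSectionVars false
universe u
open CategoryTheory CategoryTheory.Limits AlgebraicGeometry Opposite TopologicalSpace TensorProduct

namespace Groth.Agent.Lib.Helper21.GBC35

open Groth.Agent.Lib.Helper21.GBC34 Groth.Agent.Lib.Helper17.StalkBC Groth.Agent.Lib.Helper21.CechMod
  Groth.Agent.Lib.Helper21.BC0Main Groth.Agent.Lib.Helper21.CechBC Groth.Agent.Lib.Helper16.CechLow

section Terms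
variable {X Y S : Scheme.{u}} (a : X ⟶ S) (b : Y ⟶ S) (f : X ⟶ Y) (hf : f ≫ b = a)
  (F : X.Modules) [F.IsQuasicoherent] (hF : FlatMod.IsFlatOver a F)
  {W : S.Opens} (hW : IsAffineOpen W) {V : Y.Opens} (hV : IsAffineOpen V) (hVW : V ≤ b ⁻¹ᵁ W)

include hf hF hW in
/-- sections of `F|f⁻¹V` over an affine open are flat over `Γ(S, W)` -/
theorem flatR_SecA (T : (f ⁻¹ᵁ V : Scheme.{u}).Opens) (hT : IsAffineOpen T) :
    letI := overRes f hV
    letI : Algebra Γ(S, W) Γ(Y, V) := (b.appLE W V hVW).hom.toAlgebra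
    FlatR Γ(S, W) Γ(Y, V)
      (SecA Γ(Y, V) ((Scheme.Modules.restrictFunctor (f ⁻¹ᵁ V).ι).obj F) T) := by
  letI := overRes f hV
  letI : Algebra Γ(S, W) Γ(Y, V) := (b.appLE W V hVW).hom.toAlgebra
  have hT' : IsAffineOpen ((f ⁻¹ᵁ V).ι ''ᵁ T) := hT.image_of_isOpenImmersion (f ⁻¹ᵁ V).ι
  have e1 : (f ⁻¹ᵁ V).ι ''ᵁ T ≤ f ⁻¹ᵁ V := (f ⁻¹ᵁ V).ι_image_le T
  have e : (f ⁻¹ᵁ V).ι ''ᵁ T ≤ a ⁻¹ᵁ W := by
    rw [← hf, Scheme.Hom.comp_preimage]
    exact e1.trans (f.preimage_mono hVW)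
  have h0 := Groth.Agent.Lib.Helper2.FlatOver.flat_sections_of_isFlatOverAt a F hT' hW e
    (fun x _ => hF x)
  letI m1 : Module Γ(S, W) Γ(F, (f ⁻¹ᵁ V).ι ''ᵁ T) :=
    Module.compHom Γ(F, (f ⁻¹ᵁ V).ι ''ᵁ T) (a.appLE W ((f ⁻¹ᵁ V).ι ''ᵁ T) e).hom
  letI m2 : Module Γ(S, W) (SecA Γ(Y, V) ((Scheme.Modules.restrictFunctor (f ⁻¹ᵁ V).ι).obj F) T) :=
    modR Γ(S, W) Γ(Y, V) _
  haveI : Module.Flat Γ(S, W) Γ(F, (f ⁻¹ᵁ V).ι ''ᵁ T) := h0
  have hcomp : a.appLE W ((f ⁻¹ᵁ V).ι ''ᵁ T) e =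
      b.appLE W V hVW ≫ f.appLE V ((f ⁻¹ᵁ V).ι ''ᵁ T) e1 := by
    rw [Scheme.Hom.appLE_comp_appLE]
    subst hf
    rfl
  let eqv : Γ(F, (f ⁻¹ᵁ V).ι ''ᵁ T) ≃ₗ[Γ(S, W)]
      SecA Γ(Y, V) ((Scheme.Modules.restrictFunctor (f ⁻¹ᵁ V).ι).obj F) T :=
    { toFun := fun m => m
      invFun := fun m => m
      left_inv := fun _ => rfl
      right_inv := fun _ => rfl
      map_add' := fun _ _ => rfl
      map_smul' := fun r m => by
        change ((a.appLE W ((f ⁻¹ᵁ V).ι ''ᵁ T) e).hom r • m : Γ(F, (f ⁻¹ᵁ V).ι ''ᵁ T)) =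
          ((ringA Γ(Y, V) T ((b.appLE W V hVW).hom r) : Γ((f ⁻¹ᵁ V : Scheme.{u}), T)) •
            (show Γ((Scheme.Modules.restrictFunctor (f ⁻¹ᵁ V).ι).obj F, T) from m))
        rw [smul_restrict, ringA_compat f hV T, hcomp]
        rfl }
  exact Module.Flat.of_linearEquiv eqv.symm

include hf hF hW in
/-- the terms of the Čech complex of `F|f⁻¹V` are flat over `Γ(S, W)` -/
theorem flatR_CA_X {ι : Type u} [Finite ι] (U : ι → (f ⁻¹ᵁ V : Scheme.{u}).Opens)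
    (hU : ∀ s : Finset ι, s.Nonempty → IsAffineOpen (⨅ i ∈ s, U i)) (n : ℕ) :
    letI := overRes f hV
    letI : Algebra Γ(S, W) Γ(Y, V) := (b.appLE W V hVW).hom.toAlgebra
    FlatR Γ(S, W) Γ(Y, V)
      ((CA Γ(Y, V) ((Scheme.Modules.restrictFunctor (f ⁻¹ᵁ V).ι).obj F) U).X n) := by
  classical
  letI := overRes f hV
  letI : Algebra Γ(S, W) Γ(Y, V) := (b.appLE W V hVW).hom.toAlgebra
  letI : Fintype (Fin (n + 1) → ι) := Fintype.ofFinite _
  letI mx : ∀ x : Fin (n + 1) → ι, Module Γ(S, W)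
      (SecA Γ(Y, V) ((Scheme.Modules.restrictFunctor (f ⁻¹ᵁ V).ι).obj F) (Ux U x)) :=
    fun x => modR Γ(S, W) Γ(Y, V) _
  haveI : ∀ x : Fin (n + 1) → ι, Module.Flat Γ(S, W)
      (SecA Γ(Y, V) ((Scheme.Modules.restrictFunctor (f ⁻¹ᵁ V).ι).obj F) (Ux U x)) :=
    fun x => flatR_SecA a b f hf F hF hW hV hVW (Ux U x) (isAffineOpen_Ux U hU n x)
  have key : Module.Flat Γ(S, W) (∀ x : Fin (n + 1) → ι,
      SecA Γ(Y, V) ((Scheme.Modules.restrictFunctor (f ⁻¹ᵁ V).ι).obj F) (Ux U x)) :=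
    Module.Flat.of_linearEquiv
      (DFinsupp.linearEquivFunOnFintype (R := Γ(S, W))
        (M := fun x : Fin (n + 1) → ι =>
          SecA Γ(Y, V) ((Scheme.Modules.restrictFunctor (f ⁻¹ᵁ V).ι).obj F) (Ux U x))).symm
  exact key

end Terms

section Homology
variable {X Y S : Scheme.{u}} (b : Y ⟶ S) (f : X ⟶ Y) [QuasiCompact f] [IsSeparated f]
  [HasInjectiveResolutions X.Modules]
  (F : X.Modules) [Coh.IsQCoh F]
  {W : S.Opens} (hW : IsAffineOpen W) {V : Y.Opens} (hV : IsAffineOpen V) (hVW : V ≤ b ⁻¹ᵁ W)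

include hW in
/-- the cohomology of the Čech complex of `F|f⁻¹V` is flat over `Γ(S, W)` if `R^n f_* F` is flat
over `S` -/
theorem flatR_CA_homology (n : ℕ) (hR : FlatMod.IsFlatOver b ((Coh.Rpush f n).obj F))
    {ι : Type u} [Finite ι] (U : ι → (f ⁻¹ᵁ V : Scheme.{u}).Opens) (hcov : ⨆ i, U i = ⊤)
    (hU : ∀ s : Finset ι, s.Nonempty → IsAffineOpen (⨅ i ∈ s, U i)) :
    letI := overRes f hV
    letI : Algebra Γ(S, W) Γ(Y, V) := (b.appLE W V hVW).hom.toAlgebra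
    FlatR Γ(S, W) Γ(Y, V)
      ((CA Γ(Y, V) ((Scheme.Modules.restrictFunctor (f ⁻¹ᵁ V).ι).obj F) U).homology n) := by
  letI := overRes f hV
  letI : Algebra Γ(S, W) Γ(Y, V) := (b.appLE W V hVW).hom.toAlgebra
  haveI : ((Coh.Rpush f n).obj F).IsQuasicoherent := Groth.Agent.S0030.result f F n
  haveI : Coh.IsQCoh ((Scheme.Modules.restrictFunctor (f ⁻¹ᵁ V).ι).obj F) :=
    Scheme.Modules.isQuasicoherent_restrictFunctor (f ⁻¹ᵁ V).ι F
  obtain ⟨e1⟩ := nonempty_sections_linearEquiv f F hV n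
  obtain ⟨e2⟩ := nonempty_linearEquiv_homology Γ(Y, V)
    ((Scheme.Modules.restrictFunctor (f ⁻¹ᵁ V).ι).obj F) U hcov hU n
  have h0 := Groth.Agent.Lib.Helper2.FlatOver.flat_sections_of_isFlatOverAt b
    ((Coh.Rpush f n).obj F) hV hW hVW (fun x _ => hR x)
  have h1 : FlatR Γ(S, W) Γ(Y, V) Γ((Coh.Rpush f n).obj F, V) := h0
  exact flatR_of_linearEquiv (e1.trans e2) h1

end Homology

section Univ
open Groth.Agent.Lib.Helper21.MumC Groth.Agent.Lib.Helper21.MumD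
variable {X Y : Scheme.{u}} (f : X ⟶ Y) [QuasiCompact f] [IsSeparated f]
  (F : X.Modules) [Coh.IsQCoh F] {V : Y.Opens} (hV : IsAffineOpen V)

/-- universal exactness of the Čech complex of `F|f⁻¹V` above the number of affines -/
theorem isZero_TFun_CA {ι : Type u} [Finite ι] (U : ι → (f ⁻¹ᵁ V : Scheme.{u}).Opens)
    (hcov : ⨆ i, U i = ⊤) (hU1 : ∀ i, IsAffineOpen (U i))
    (hU : ∀ s : Finset ι, s.Nonempty → IsAffineOpen (⨅ i ∈ s, U i))
    (M : ModuleCat.{u} Γ(Y, V)) (p : ℕ) (hp : Nat.card ι ≤ p) :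
    letI := overRes f hV
    IsZero ((CohIII.TFun
      (CA Γ(Y, V) ((Scheme.Modules.restrictFunctor (f ⁻¹ᵁ V).ι).obj F) U) p).obj M) := by
  letI := overRes f hV
  haveI : IsSeparated ((f ⁻¹ᵁ V : Scheme.{u}) ↘ Spec (CommRingCat.of Γ(Y, V))) := by
    change IsSeparated ((f ∣_ V) ≫ hV.isoSpec.hom)
    infer_instance
  haveI : Coh.IsQCoh ((Scheme.Modules.restrictFunctor (f ⁻¹ᵁ V).ι).obj F) :=
    Scheme.Modules.isQuasicoherent_restrictFunctor (f ⁻¹ᵁ V).ι F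
  have hex := exactAt_TL_of_le Γ(Y, V) ((Scheme.Modules.restrictFunctor (f ⁻¹ᵁ V).ι).obj F) U hcov hU
    hU1 M p hp
  have e1 : TL M (CA Γ(Y, V) ((Scheme.Modules.restrictFunctor (f ⁻¹ᵁ V).ι).obj F) U) ≅
      CohIII.tensorObj (CA Γ(Y, V) ((Scheme.Modules.restrictFunctor (f ⁻¹ᵁ V).ι).obj F) U) M :=
    (NatIso.mapHomologicalComplex (BraidedCategory.tensorLeftIsoTensorRight M) _).app _
  exact (hex.of_iso e1).isZero_homology

end Univ

section Wrap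
open Groth.Agent.Lib.Helper16.TensorCmp
variable {X S X' S' : Scheme.{u}} (f : X ⟶ S) (g : S' ⟶ S) (g' : X' ⟶ X) (f' : X' ⟶ S')
  (h : IsPullback g' f' f g) [QuasiCompact f] [IsSeparated f]
  [HasInjectiveResolutions X.Modules] [HasInjectiveResolutions X'.Modules]
  {Δ : RDer.DerivedLES (Scheme.Modules.pushforward f)}
  {Δ' : RDer.DerivedLES (Scheme.Modules.pushforward f')}
  (E : CohCmp.SectCmp f Δ) (E' : CohCmp.SectCmp f' Δ') (B : CohCmp.GenBC f g f' g' h.w E E')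
  (F : X.Modules) [Coh.IsQCoh F] (p : ℕ)
  {V : S.Opens} {V' : S'.Opens} (hV : IsAffineOpen V) (hV' : IsAffineOpen V') (hle : V' ≤ g ⁻¹ᵁ V)

include hV' in
/-- `bc_app_iff_tM` without side conditions -/
theorem bc_app_iff_tM' {ι : Type u} [Finite ι] (U : ι → (f ⁻¹ᵁ V : Scheme.{u}).Opens)
    (hcov : ⨆ i, U i = ⊤) (hU : ∀ s : Finset ι, s.Nonempty → IsAffineOpen (⨅ i ∈ s, U i)) :
    letI := overRes f hV
    letI : Algebra Γ(S, V) Γ(S', V') := (g.appLE V V' hle).hom.toAlgebra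
    (Function.Bijective ((B.bc p F).app V').hom ↔
      Function.Bijective (tM (CohIII.TFun (CA Γ(S, V) (F.restrict (f ⁻¹ᵁ V).ι) U) p)
        (ModuleCat.of Γ(S, V) Γ(S', V')))) ∧
    (Function.Surjective ((B.bc p F).app V').hom ↔
      Function.Surjective (tM (CohIII.TFun (CA Γ(S, V) (F.restrict (f ⁻¹ᵁ V).ι) U) p)
        (ModuleCat.of Γ(S, V) Γ(S', V')))) :=
  Groth.Agent.Lib.Helper21.GBC12.bc_app_iff_tM f g g' f' h E E' B F p hV hV' hle U hcov hU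
    ((f'.preimage_mono hle).trans (CohCmp.sqLE f g f' g' h.w V))
    (fun x => Groth.Agent.Lib.Helper21.GBC25.resLE_pullOn g' F (f ⁻¹ᵁ V)
      (CohCmp.sqLE f g f' g' h.w V) (f'.preimage_mono hle) p x)

end Wrap

end Groth.Agent.Lib.Helper21.GBC35
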