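import Groth.Agent.Lib.Helper21GBC35
import Groth.Agent.Lib.Helper21GBCAlg
import Groth.Agent.Lib.Helper4SchDomD
import Groth.Agent.Lib.Helper13AffBC

/-!
# General base change, part 36: base change for a module flat over a second base whose higher direct
images are flat over that base (helper21)
-/

set_option autoImplicit false
set_option linter.style.haveILetI false
set_option linter.unusedSectionVars false
universe u
open CategoryTheory CategoryTheory.Limits AlgebraicGeometry Opposite TopologicalSpace TensorProduct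

namespace Groth.Agent.Lib.Helper21.GBC36

open Groth.Agent.Lib.Helper21.GBC34 Groth.Agent.Lib.Helper21.GBC35
  Groth.Agent.Lib.Helper17.StalkBC Groth.Agent.Lib.Helper21.CechMod
  Groth.Agent.Lib.Helper21.BC0Alg Groth.Agent.Lib.Helper21.GBCAlg Groth.Agent.Lib.Helper21.GBC9
  Groth.Agent.Lib.Helper16.TensorCmp

/-- restriction between affine opens is flat -/
lemma flat_restrict {T : Scheme.{u}} {V' V'' : T.Opens} (hV' : IsAffineOpen V')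
    (hV'' : IsAffineOpen V'') (e : V'' ≤ V') : (T.presheaf.map (homOfLE e).op).hom.Flat := by
  have e' : V'' ≤ (𝟙 T) ⁻¹ᵁ V' := e
  have h := Scheme.Hom.flat_appLE (𝟙 T) hV' hV'' e'
  have h2 : Scheme.Hom.appLE (𝟙 T) V' V'' e' = T.presheaf.map (homOfLE e).op := by
    simp [Scheme.Hom.appLE]
    rfl
  rwa [h2] at h

section Box
variable {Y S Y' S' : Scheme.{u}} {b : Y ⟶ S} {g : S' ⟶ S} {gY : Y' ⟶ Y} {b' : Y' ⟶ S'}
  (hY : IsPullback gY b' b g)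
  {W : S.Opens} (hW : IsAffineOpen W) {V : Y.Opens} (hV : IsAffineOpen V) (hVW : V ≤ b ⁻¹ᵁ W)
  {W' : S'.Opens} (hW' : IsAffineOpen W') (hW'W : W' ≤ g ⁻¹ᵁ W)

include hY hW hV hW' in
/-- sections over a box form a pushout of rings -/
theorem isPushout_box :
    IsPushout (g.appLE W W' hW'W) (b.appLE W V hVW)
      (b'.appLE W' (gY ⁻¹ᵁ V ⊓ b' ⁻¹ᵁ W') inf_le_right)
      (gY.appLE V (gY ⁻¹ᵁ V ⊓ b' ⁻¹ᵁ W') inf_le_left) :=
  ((isIso_pushoutSection_iff hY hW'W hVW rfl).mp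
    (isIso_pushoutSection_of_isAffineOpen hY hW'W hVW rfl hW hW' hV)).flip

end Box

section Main
variable {X Y S X' Y' S' : Scheme.{u}} (a : X ⟶ S) (b : Y ⟶ S) (f : X ⟶ Y) (hf : f ≫ b = a)
  [IsSeparated f] [QuasiCompact f]
  (g : S' ⟶ S) (gY : Y' ⟶ Y) (b' : Y' ⟶ S') (hY : IsPullback gY b' b g)
  (gX : X' ⟶ X) (f' : X' ⟶ Y') (hX : IsPullback gX f' f gY)
  [HasInjectiveResolutions X.Modules] [HasInjectiveResolutions X'.Modules]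
  (F : X.Modules) [Coh.IsQCoh F] (hF : FlatMod.IsFlatOver a F)
  (hR : ∀ n : ℕ, FlatMod.IsFlatOver b ((Coh.Rpush f n).obj F))
  {Δ : RDer.DerivedLES (Scheme.Modules.pushforward f)}
  {Δ' : RDer.DerivedLES (Scheme.Modules.pushforward f')}
  (E : CohCmp.SectCmp f Δ) (E' : CohCmp.SectCmp f' Δ') (B : CohCmp.GenBC f gY f' gX hX.w E E')
  (n : ℕ)

include hf hY hF hR in
/-- the base change map is bijective over every affine open contained in a box -/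
theorem bijective_bc_app_of_box
    {W : S.Opens} (hW : IsAffineOpen W) {V : Y.Opens} (hV : IsAffineOpen V) (hVW : V ≤ b ⁻¹ᵁ W)
    {W' : S'.Opens} (hW' : IsAffineOpen W') (hW'W : W' ≤ g ⁻¹ᵁ W)
    {V'' : Y'.Opens} (hV'' : IsAffineOpen V'') (hle : V'' ≤ gY ⁻¹ᵁ V ⊓ b' ⁻¹ᵁ W') :
    Function.Bijective ((B.bc n F).app V'').hom := by
  have hV' : IsAffineOpen (gY ⁻¹ᵁ V ⊓ b' ⁻¹ᵁ W') :=
    Groth.Agent.Lib.Helper4.SchDom.isAffineOpen_box hY hW'W hVW hW hW' hV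
  have hleV : V'' ≤ gY ⁻¹ᵁ V := hle.trans inf_le_left
  letI := overRes f hV
  letI iRA : Algebra Γ(S, W) Γ(Y, V) := (b.appLE W V hVW).hom.toAlgebra
  letI iRR' : Algebra Γ(S, W) Γ(S', W') := (g.appLE W W' hW'W).hom.toAlgebra
  letI iAA' : Algebra Γ(Y, V) Γ(Y', gY ⁻¹ᵁ V ⊓ b' ⁻¹ᵁ W') :=
    (gY.appLE V (gY ⁻¹ᵁ V ⊓ b' ⁻¹ᵁ W') inf_le_left).hom.toAlgebra
  letI iR'A' : Algebra Γ(S', W') Γ(Y', gY ⁻¹ᵁ V ⊓ b' ⁻¹ᵁ W') :=
    (b'.appLE W' (gY ⁻¹ᵁ V ⊓ b' ⁻¹ᵁ W') inf_le_right).hom.toAlgebra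
  letI iRA' : Algebra Γ(S, W) Γ(Y', gY ⁻¹ᵁ V ⊓ b' ⁻¹ᵁ W') :=
    (b.appLE W V hVW ≫ gY.appLE V (gY ⁻¹ᵁ V ⊓ b' ⁻¹ᵁ W') inf_le_left).hom.toAlgebra
  haveI t1 : IsScalarTower Γ(S, W) Γ(Y, V) Γ(Y', gY ⁻¹ᵁ V ⊓ b' ⁻¹ᵁ W') :=
    IsScalarTower.of_algebraMap_eq (fun x => rfl)
  have hpo := isPushout_box hY hW hV hVW hW' hW'W
  haveI t2 : IsScalarTower Γ(S, W) Γ(S', W') Γ(Y', gY ⁻¹ᵁ V ⊓ b' ⁻¹ᵁ W') :=
    IsScalarTower.of_algebraMap_eq (fun x => (ConcreteCategory.congr_hom hpo.w x).symm)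
  haveI po : Algebra.IsPushout Γ(S, W) Γ(S', W') Γ(Y, V) Γ(Y', gY ⁻¹ᵁ V ⊓ b' ⁻¹ᵁ W') :=
    CommRingCat.isPushout_iff_isPushout.mp hpo
  letI iA'A'' : Algebra Γ(Y', gY ⁻¹ᵁ V ⊓ b' ⁻¹ᵁ W') Γ(Y', V'') :=
    (Y'.presheaf.map (homOfLE hle).op).hom.toAlgebra
  letI iAA'' : Algebra Γ(Y, V) Γ(Y', V'') := (gY.appLE V V'' hleV).hom.toAlgebra
  haveI t3 : IsScalarTower Γ(Y, V) Γ(Y', gY ⁻¹ᵁ V ⊓ b' ⁻¹ᵁ W') Γ(Y', V'') :=
    IsScalarTower.of_algebraMap_eq (fun x => by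
      have := Scheme.Hom.appLE_map gY (U := V) (V := gY ⁻¹ᵁ V ⊓ b' ⁻¹ᵁ W') inf_le_left
        (homOfLE hle).op
      exact (ConcreteCategory.congr_hom this x).symm)
  haveI fl : Module.Flat Γ(Y', gY ⁻¹ᵁ V ⊓ b' ⁻¹ᵁ W') Γ(Y', V'') := flat_restrict hV' hV'' hle
  obtain ⟨ι, hfin, U, hcov, hU1, hU⟩ := exists_cover_preimage f hV
  haveI := hfin
  have hker : KerBC Γ(Y', gY ⁻¹ᵁ V ⊓ b' ⁻¹ᵁ W')
      ((CA Γ(Y, V) (F.restrict (f ⁻¹ᵁ V).ι) U).d n (n + 1)).hom :=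
    kerBC_of_flatR Γ(S, W) Γ(S', W') Γ(Y, V) Γ(Y', gY ⁻¹ᵁ V ⊓ b' ⁻¹ᵁ W')
      (CA Γ(Y, V) (F.restrict (f ⁻¹ᵁ V).ι) U)
      (fun m => flatR_CA_X a b f hf F hF hW hV hVW U hU m)
      (fun m => flatR_CA_homology b f F hW hV hVW m (hR m) U hcov hU) (Nat.card ι)
      (fun M p hp => isZero_TFun_CA f F hV U hcov hU1 hU M p hp) n
  have hker'' : KerBC Γ(Y', V'') ((CA Γ(Y, V) (F.restrict (f ⁻¹ᵁ V).ι) U).d n (n + 1)).hom :=
    kerBC_of_flat_tower Γ(Y', gY ⁻¹ᵁ V ⊓ b' ⁻¹ᵁ W') Γ(Y', V'') _ hker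
  have hb := tM_bijective_of_kerBC (CA Γ(Y, V) (F.restrict (f ⁻¹ᵁ V).ι) U)
    ((ComplexShape.up ℕ).prev n) n (n + 1) rfl (by simp) Γ(Y', V'') hker''
  exact ((bc_app_iff_tM' f gY gX f' hX E E' B F n hV hV'' hleV U hcov hU).1).2 hb

end Main

section Final
variable {X Y S X' Y' S' : Scheme.{u}} (a : X ⟶ S) (b : Y ⟶ S) (f : X ⟶ Y) (hf : f ≫ b = a)
  [IsSeparated f] [QuasiCompact f]
  (g : S' ⟶ S) (gY : Y' ⟶ Y) (b' : Y' ⟶ S') (hY : IsPullback gY b' b g)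
  (gX : X' ⟶ X) (f' : X' ⟶ Y') (hX : IsPullback gX f' f gY)
  [HasInjectiveResolutions X.Modules] [HasInjectiveResolutions X'.Modules]
  (F : X.Modules) [Coh.IsQCoh F] (hF : FlatMod.IsFlatOver a F)
  (hR : ∀ n : ℕ, FlatMod.IsFlatOver b ((Coh.Rpush f n).obj F))
  {Δ : RDer.DerivedLES (Scheme.Modules.pushforward f)}
  {Δ' : RDer.DerivedLES (Scheme.Modules.pushforward f')}
  (E : CohCmp.SectCmp f Δ) (E' : CohCmp.SectCmp f' Δ') (B : CohCmp.GenBC f gY f' gX hX.w E E')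
  (n : ℕ)

include hf hY hF hR in
/-- **base change for a module flat over `S` whose higher direct images are flat over `S`** -/
theorem isIso_bc_of_flat_of_Rpush_flat : IsIso (B.bc n F) := by
  let ι : Type u := {V'' : Y'.Opens // IsAffineOpen V'' ∧ ∃ (W : S.Opens) (V : Y.Opens)
    (W' : S'.Opens), IsAffineOpen W ∧ IsAffineOpen V ∧ IsAffineOpen W' ∧ V ≤ b ⁻¹ᵁ W ∧
      W' ≤ g ⁻¹ᵁ W ∧ V'' ≤ gY ⁻¹ᵁ V ⊓ b' ⁻¹ᵁ W'}
  refine Groth.Agent.Helper13AffBC.isIso_of_bijective_on_basis _ (fun i : ι => i.1) ?_ ?_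
  · rw [Opens.isBasis_iff_nbhd]
    intro O y hyO
    obtain ⟨W, hW, hyW, -⟩ := exists_isAffineOpen_mem_and_subset (x := b (gY y)) (U := ⊤) trivial
    obtain ⟨V, hV, hyV, hVW⟩ := exists_isAffineOpen_mem_and_subset (x := gY y)
      (U := b ⁻¹ᵁ W) hyW
    have hyW' : g (b' y) ∈ W := by
      have e : g (b' y) = b (gY y) := by
        have := congrArg (fun t : Y' ⟶ S => t y) hY.w
        exact this.symm
      rw [e]
      exact hyW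
    obtain ⟨W', hW', hyW'', hW'W⟩ := exists_isAffineOpen_mem_and_subset (x := b' y)
      (U := g ⁻¹ᵁ W) hyW'
    obtain ⟨V'', hV'', hyV'', hV''O⟩ := exists_isAffineOpen_mem_and_subset (x := y)
      (U := O ⊓ (gY ⁻¹ᵁ V ⊓ b' ⁻¹ᵁ W')) ⟨hyO, hyV, hyW''⟩
    exact ⟨V'', ⟨⟨V'', hV'', W, V, W', hW, hV, hW', hVW, hW'W, hV''O.trans inf_le_right⟩, rfl⟩,
      hyV'', hV''O.trans inf_le_left⟩
  · rintro ⟨V'', hV'', W, V, W', hW, hV, hW', hVW, hW'W, hle⟩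
    exact bijective_bc_app_of_box a b f hf g gY b' hY gX f' hX F hF hR E E' B n hW hV hVW hW' hW'W
      hV'' hle

end Final

end Groth.Agent.Lib.Helper21.GBC36
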