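import Mathlib
import Groth.Prelude.Def_CohCmp
import Groth.Agent.Lib.Helper21GBC25

/-!
# General base change, part 37: the pullback on cohomology over opens is compatible with composition
of morphisms (helper21)
-/

set_option autoImplicit false
universe u
open CategoryTheory AlgebraicGeometry Opposite TopologicalSpace
open AlgebraicGeometry.Scheme.Modules

namespace Groth.Agent.Lib.Helper21.GBC37
open CohPull Groth.Agent.Lib.Helper21.GBC2 Groth.Agent.Lib.Helper21.GBC3 Groth.Agent.Lib.Helper21.GBC23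
  Groth.Agent.Lib.Helper21.GBC24 Groth.Agent.Lib.Helper21.GBC25

section Comp
variable {X Y Z : Scheme.{u}} (f : X ⟶ Y) (g : Y ⟶ Z) (L : Z.Modules)
  (UZ : Z.Opens) {UY : Y.Opens} {UX : X.Opens} (hY : UY ≤ g ⁻¹ᵁ UZ) (hX : UX ≤ f ⁻¹ᵁ UY)

include hY hX in
lemma le_comp : UX ≤ (f ≫ g) ⁻¹ᵁ UZ := hX.trans (f.preimage_mono hY)

lemma resLE_comp :
    f.resLE UY UX hX ≫ g.resLE UZ UY hY = (f ≫ g).resLE UZ UX (le_comp f g UZ hY hX) :=
  Scheme.Hom.resLE_comp_resLE f hX g hY

lemma base_eq_comp : (f.resLE UY UX hX).base ≫ (g.resLE UZ UY hY).base =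
    ((f ≫ g).resLE UZ UX (le_comp f g UZ hY hX)).base := by
  rw [← resLE_comp f g UZ hY hX]
  rfl

lemma preimage_eq_comp (V : (↑UZ : Scheme.{u}).Opens) :
    ((f ≫ g).resLE UZ UX (le_comp f g UZ hY hX)) ⁻¹ᵁ V =
      (f.resLE UY UX hX) ⁻¹ᵁ ((g.resLE UZ UY hY) ⁻¹ᵁ V) := by
  rw [← resLE_comp f g UZ hY hX]
  rfl

/-- the unit of the composite on sections -/
lemma unit_comp_sec (W : Z.Opens) (s : L.presheaf.obj (op W)) :
    ((pullbackComp f g).hom.app L).app ((f ≫ g) ⁻¹ᵁ W)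
      (((pullbackPushforwardAdjunction f).unit.app ((pullback g).obj L)).app (g ⁻¹ᵁ W)
        (((pullbackPushforwardAdjunction g).unit.app L).app W s)) =
      ((pullbackPushforwardAdjunction (f ≫ g)).unit.app L).app W s :=
  congrArg (fun φ => (φ.app W) s) (unit_pullbackComp f g L)

/-- the sections identity behind `pullOn_comp` -/
theorem sec_identity_comp (V : (↑UZ : Scheme.{u}).Opens) (s : L.presheaf.obj (op (UZ.ι ''ᵁ V))) :
    (αmap (f ≫ g) UZ UX (le_comp f g UZ hY hX) L).app V s =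
    (((pullback (f ≫ g)).obj L).restrict UX.ι).presheaf.map
      (eqToHom (preimage_eq_comp f g UZ hY hX V)).op
      (((restrictFunctor UX.ι).map ((pullbackComp f g).hom.app L)).app
        ((f.resLE UY UX hX) ⁻¹ᵁ ((g.resLE UZ UY hY) ⁻¹ᵁ V))
        ((αmap f UY UX hX ((pullback g).obj L)).app ((g.resLE UZ UY hY) ⁻¹ᵁ V)
          ((αmap g UZ UY hY L).app V s))) := by
  have hs : s = L.presheaf.map (homOfLE (le_refl (UZ.ι ''ᵁ V))).op s := by
    have : (homOfLE (le_refl (UZ.ι ''ᵁ V))).op = 𝟙 _ := Subsingleton.elim _ _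
    rw [this, L.presheaf.map_id]
    rfl
  have h1 := αmap_sec (f ≫ g) UZ UX (le_comp f g UZ hY hX) L (UZ.ι ''ᵁ V) s V (le_refl _)
  have h2 := αmap_sec g UZ UY hY L (UZ.ι ''ᵁ V) s V (le_refl _)
  rw [← hs] at h1 h2
  have h3 := αmap_sec f UY UX hX ((pullback g).obj L) (g ⁻¹ᵁ (UZ.ι ''ᵁ V))
    (((pullbackPushforwardAdjunction g).unit.app L).app (UZ.ι ''ᵁ V) s)
    ((g.resLE UZ UY hY) ⁻¹ᵁ V) (αle g UZ UY hY (le_refl _))
  rw [h1, h2, h3]
  have h4 := app_map ((pullbackComp f g).hom.app L)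
    (homOfLE (αle f UY UX hX (αle g UZ UY hY (le_refl (UZ.ι ''ᵁ V)))))
    (((pullbackPushforwardAdjunction f).unit.app ((pullback g).obj L)).app (g ⁻¹ᵁ (UZ.ι ''ᵁ V))
      (((pullbackPushforwardAdjunction g).unit.app L).app (UZ.ι ''ᵁ V) s))
  have h5 := unit_comp_sec f g L (UZ.ι ''ᵁ V) s
  have h6 := h4.trans (congrArg _ h5)
  refine Eq.trans ?_ (congrArg (fun z => (((pullback (f ≫ g)).obj L).restrict UX.ι).presheaf.map
      (eqToHom (preimage_eq_comp f g UZ hY hX V)).op z) h6.symm)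
  refine Eq.trans ?_ (restrict_map_apply UX.ι ((pullback (f ≫ g)).obj L)
    (eqToHom (preimage_eq_comp f g UZ hY hX V)) _).symm
  rw [map_map_apply]
  congr 1

/-- **the pullback on cohomology over opens is compatible with composition** -/
theorem pullOn_comp (p : ℕ) (x : Coh.HHon Z L UZ p) :
    mapH ((restrictFunctor UX.ι).map ((pullbackComp f g).hom.app L)) p
        (pullOn f UY UX hX ((pullback g).obj L) p (pullOn g UZ UY hY L p x)) =
      pullOn (f ≫ g) UZ UX (le_comp f g UZ hY hX) L p x := by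
  have e1 := pullOn_eq_P g UZ UY hY L p x
  have e2 := pullOn_eq_P (f ≫ g) UZ UX (le_comp f g UZ hY hX) L p x
  have e3 := pullOn_eq_P f UY UX hX ((pullback g).obj L) p (pullOn g UZ UY hY L p x)
  refine Eq.trans ?_ e2.symm
  rw [e3, e1, P_P]
  change Sheaf.H.map _ p (P _ _ p x) = _
  rw [map_P]
  refine P_congr (base_eq_comp f g UZ hY hX) _ _ ?_ p x
  intro V s
  exact sec_identity_comp f g L UZ hY hX V s

end Comp

end Groth.Agent.Lib.Helper21.GBC37
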