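import Mathlib
import Groth.Prelude.Def_CohCmp
import Groth.Agent.Lib.Helper21GBC37
import Groth.Agent.Lib.Helper6QCohQcqs
import Groth.Agent.S16954

/-!
# General base change, part 38: transitivity of the base change maps (helper21)
-/

set_option autoImplicit false
universe u
open CategoryTheory AlgebraicGeometry Opposite TopologicalSpace
open AlgebraicGeometry.Scheme.Modules

namespace Groth.Agent.Lib.Helper21.GBC38
open CohPull Groth.Agent.Lib.Helper21.GBC2 Groth.Agent.Lib.Helper21.GBC3 Groth.Agent.Lib.Helper21.GBC23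
  Groth.Agent.Lib.Helper21.GBC24 Groth.Agent.Lib.Helper21.GBC25 Groth.Agent.Lib.Helper21.GBC37

section Conj
variable {C D : Type*} [Category C] [Category D] {L₁ L₂ : C ⥤ D} {R₁ R₂ : D ⥤ C}
  (adj₁ : L₁ ⊣ R₁) (adj₂ : L₂ ⊣ R₂)

/-- transposes under conjugate natural transformations -/
lemma homEquiv_conj (α : L₂ ⟶ L₁) {M : C} {N : D} (k : L₁.obj M ⟶ N) :
    adj₂.homEquiv M N (α.app M ≫ k) =
      adj₁.homEquiv M N k ≫ (conjugateEquiv adj₁ adj₂ α).app N := by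
  rw [Adjunction.homEquiv_unit, Adjunction.homEquiv_unit, Functor.map_comp, ← Category.assoc,
    ← unit_conjugateEquiv adj₁ adj₂ α M, Category.assoc, Category.assoc]
  congr 1
  exact ((conjugateEquiv adj₁ adj₂ α).naturality k).symm

end Conj

section Adj
variable {U V W : Scheme.{u}} (φ : U ⟶ V) (ψ : V ⟶ W)

/-- the transpose under the adjunction of the composite, in terms of the composite adjunction -/
lemma pullbackComp_symm (M : W.Modules) (N : U.Modules)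
    (h : M ⟶ (pushforward (φ ≫ ψ)).obj N) :
    (pullbackComp φ ψ).hom.app M ≫ ((pullbackPushforwardAdjunction (φ ≫ ψ)).homEquiv M N).symm h =
      (((pullbackPushforwardAdjunction ψ).comp (pullbackPushforwardAdjunction φ)).homEquiv M N).symm
        (h ≫ (pushforwardComp φ ψ).inv.app N) := by
  rw [Equiv.eq_symm_apply]
  have h1 := homEquiv_conj
    ((pullbackPushforwardAdjunction ψ).comp (pullbackPushforwardAdjunction φ))
    (pullbackPushforwardAdjunction (φ ≫ ψ)) (pullbackComp φ ψ).inv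
    ((pullbackComp φ ψ).hom.app M ≫
      ((pullbackPushforwardAdjunction (φ ≫ ψ)).homEquiv M N).symm h)
  rw [conjugateEquiv_pullbackComp_inv, Iso.inv_hom_id_app_assoc, Equiv.apply_symm_apply] at h1
  refine Eq.trans ?_ (congrArg (fun t => t ≫ (pushforwardComp φ ψ).inv.app N) h1.symm)
  rw [Category.assoc, Iso.hom_inv_id_app]
  exact (Category.comp_id _).symm

end Adj

section Ext
variable {X Y : Scheme.{u}} (f : X ⟶ Y) [HasInjectiveResolutions X.Modules]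
  {Δ : RDer.DerivedLES (pushforward f)} (E : CohCmp.SectCmp f Δ) (F : X.Modules) (p : ℕ)

/-- two morphisms out of `R^p f_* F` which agree on the classes `ε(x)` are equal -/
theorem hom_ext_ε {T : Y.Modules} (α α' : (Coh.Rpush f p).obj F ⟶ T)
    (h : ∀ (V : Y.Opens) (x : Coh.HHon X F (f ⁻¹ᵁ V) p),
      α.app V (E.ε V F p x) = α'.app V (E.ε V F p x)) : α = α' := by
  apply Scheme.Modules.hom_ext
  intro V
  ext t
  choose Wf hWV hyW xf hxf using fun y : V => Groth.Agent.S16954.result f E F p V t y.1 y.2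
  refine (Groth.Agent.Lib.Helper6.modSheaf T).eq_of_locally_eq' Wf V (fun y => homOfLE (hWV y))
    (fun y hy => Opens.mem_iSup.2 ⟨⟨y, hy⟩, hyW ⟨y, hy⟩⟩) _ _ (fun y => ?_)
  have h1 := app_map α (homOfLE (hWV y)) t
  have h2 := app_map α' (homOfLE (hWV y)) t
  rw [← hxf y] at h1 h2
  exact h1.symm.trans ((h (Wf y) (xf y)).trans h2)

end Ext

section Trans
variable {X Y Z U V W : Scheme.{u}} (f : X ⟶ Y) (g : Y ⟶ Z) (ξ : X ⟶ U) (η : Y ⟶ V) (ζ : Z ⟶ W)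
  (φ : U ⟶ V) (ψ : V ⟶ W) (w₁ : f ≫ η = ξ ≫ φ) (w₂ : g ≫ ζ = η ≫ ψ)
  (hw : (f ≫ g) ≫ ζ = ξ ≫ (φ ≫ ψ))
  [HasInjectiveResolutions X.Modules] [HasInjectiveResolutions Y.Modules]
  [HasInjectiveResolutions Z.Modules]
  (L : Z.Modules) (p : ℕ)
  {Δζ : RDer.DerivedLES (pushforward ζ)} {Δη : RDer.DerivedLES (pushforward η)}
  {Δξ : RDer.DerivedLES (pushforward ξ)}
  (Eζ : CohCmp.SectCmp ζ Δζ) (Eη : CohCmp.SectCmp η Δη) (Eξ : CohCmp.SectCmp ξ Δξ)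
  (B₂ : CohCmp.GenBC ζ ψ η g w₂ Eζ Eη) (B₁ : CohCmp.GenBC η φ ξ f w₁ Eη Eξ)
  (B : CohCmp.GenBC ζ (φ ≫ ψ) ξ (f ≫ g) hw Eζ Eξ)

/-- transitivity of the base change maps in adjoint form, on the classes `ε(x)` -/
theorem φ_trans_sec (W₀ : W.Opens) (x : Coh.HHon Z L (ζ ⁻¹ᵁ W₀) p) :
    (B.φ p L).app W₀ (Eζ.ε W₀ L p x) =
      ((Coh.Rpush ξ p).map ((pullbackComp f g).hom.app L)).app (φ ⁻¹ᵁ (ψ ⁻¹ᵁ W₀))
        ((B₁.φ p ((pullback g).obj L)).app (ψ ⁻¹ᵁ W₀) ((B₂.φ p L).app W₀ (Eζ.ε W₀ L p x))) := by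
  rw [B.compat W₀ L p x, B₂.compat W₀ L p x, B₁.compat (ψ ⁻¹ᵁ W₀) ((pullback g).obj L) p]
  have hn := Eξ.natural (φ ⁻¹ᵁ (ψ ⁻¹ᵁ W₀)) ((pullbackComp f g).hom.app L) p
    (pullOn f (η ⁻¹ᵁ (ψ ⁻¹ᵁ W₀)) (ξ ⁻¹ᵁ (φ ⁻¹ᵁ (ψ ⁻¹ᵁ W₀)))
      (CohCmp.sqLE η φ ξ f w₁ (ψ ⁻¹ᵁ W₀)) ((pullback g).obj L) p
      (pullOn g (ζ ⁻¹ᵁ W₀) (η ⁻¹ᵁ (ψ ⁻¹ᵁ W₀)) (CohCmp.sqLE ζ ψ η g w₂ W₀) L p x))
  refine Eq.trans ?_ hn
  exact congrArg (Eξ.ε (φ ⁻¹ᵁ (ψ ⁻¹ᵁ W₀)) ((pullback (f ≫ g)).obj L) p)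
    (pullOn_comp f g L (ζ ⁻¹ᵁ W₀) (CohCmp.sqLE ζ ψ η g w₂ W₀)
      (CohCmp.sqLE η φ ξ f w₁ (ψ ⁻¹ᵁ W₀)) p x).symm

/-- **transitivity of the base change maps** -/
theorem bc_trans :
    (pullbackComp φ ψ).hom.app ((Coh.Rpush ζ p).obj L) ≫ B.bc p L =
      (pullback φ).map (B₂.bc p L) ≫ B₁.bc p ((pullback g).obj L) ≫
        (Coh.Rpush ξ p).map ((pullbackComp f g).hom.app L) := by
  have hL := pullbackComp_symm φ ψ ((Coh.Rpush ζ p).obj L)
    ((Coh.Rpush ξ p).obj ((pullback (f ≫ g)).obj L)) (B.φ p L)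
  have hR := symm_comp_adj (pullbackPushforwardAdjunction ψ) (pullbackPushforwardAdjunction φ)
    (B₂.φ p L) (B₁.φ p ((pullback g).obj L) ≫
      (pushforward φ).map ((Coh.Rpush ξ p).map ((pullbackComp f g).hom.app L)))
  rw [Adjunction.homEquiv_naturality_right_symm] at hR
  have key : B.φ p L ≫ (pushforwardComp φ ψ).inv.app
        ((Coh.Rpush ξ p).obj ((pullback (f ≫ g)).obj L)) =
      B₂.φ p L ≫ (pushforward ψ).map (B₁.φ p ((pullback g).obj L) ≫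
        (pushforward φ).map ((Coh.Rpush ξ p).map ((pullbackComp f g).hom.app L))) := by
    refine hom_ext_ε ζ Eζ L p _ _ (fun W₀ x => ?_)
    exact φ_trans_sec f g ξ η ζ φ ψ w₁ w₂ hw L p Eζ Eη Eξ B₂ B₁ B W₀ x
  refine hL.trans ?_
  rw [key]
  exact hR

end Trans

end Groth.Agent.Lib.Helper21.GBC38
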