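import Mathlib
import Groth.Prelude.Def_CohPull
import Groth.Agent.Lib.Helper17FBC3
import Groth.Agent.Lib.Helper21GBC23
import Groth.Agent.Lib.Helper21GBCAlg
import Groth.Agent.Lib.Helper21GBC10

/-!
# General base change, part 39: flat base change for `CohPull.pullMod` / `CohPull.pullOn` for
quasi-compact quasi-separated morphisms (bridging helper17's `FBC`), the localization property of
cohomology over preimages of basic opens, and bijectivity of the comparison maps over affine opens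
for quasi-compact quasi-separated morphisms (helper21)
-/

set_option autoImplicit false
set_option linter.style.haveILetI false
universe u
open CategoryTheory CategoryTheory.Limits AlgebraicGeometry Opposite TopologicalSpace Abelian TensorProduct

namespace Groth.Agent.Lib.Helper21.GBC39
open CohPull Groth.Agent.Lib.Helper21.GBC23 Groth.Agent.Lib.Helper17.LerayTop
  Groth.Agent.Lib.Helper21.PushAcyc

section OneTo
variable {X Y : TopCat.{u}} (f : X ⟶ Y)

theorem oneTo_eq_inv : oneTo f = (pullZcIso f).inv := by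
  apply ((adjZ X).homEquiv _ _).injective
  rw [adjZ_homEquiv, oneSec_oneTo]
  have h1 : (pullZcIso f).inv = (Adjunction.leftAdjointUniq (constantSheafAdj (Opens.grothendieckTopology X) AddCommGrpCat.{u} isTerminalTop)
    (((constantSheafAdj (Opens.grothendieckTopology Y) AddCommGrpCat.{u} isTerminalTop).comp
      (adjP (Opens.grothendieckTopology X) (Opens.grothendieckTopology Y) (Opens.map f))).ofNatIsoRight
        (pushSectionsIso f))).hom.app (AddCommGrpCat.of (ULift.{u} ℤ)) := rfl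
  rw [h1]
  have h2 := Adjunction.homEquiv_leftAdjointUniq_hom_app (constantSheafAdj (Opens.grothendieckTopology X) AddCommGrpCat.{u} isTerminalTop)
    (((constantSheafAdj (Opens.grothendieckTopology Y) AddCommGrpCat.{u} isTerminalTop).comp
      (adjP (Opens.grothendieckTopology X) (Opens.grothendieckTopology Y) (Opens.map f))).ofNatIsoRight
        (pushSectionsIso f)) (AddCommGrpCat.of (ULift.{u} ℤ))
  refine Eq.trans ?_ h2.symm
  rw [oneSec, Adjunction.homEquiv_unit]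
  simp only [Adjunction.ofNatIsoRight]
  rw [NatTrans.comp_app, Adjunction.comp_unit_app, CategoryTheory.Functor.map_id]
  refine (congrArg (fun t => t ≫ ((invPushAdj f).unit.app (CohTop.const Y (ULift.{u} ℤ))).hom.app (op ⊤))
    (Category.comp_id ((adjZ Y).unit.app (AddCommGrpCat.of (ULift.{u} ℤ))))).trans ?_
  exact (Category.comp_id ((adjZ Y).unit.app (AddCommGrpCat.of (ULift.{u} ℤ)) ≫
    ((invPushAdj f).unit.app (CohTop.const Y (ULift.{u} ℤ))).hom.app (op ⊤))).symm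

instance isIso_oneTo : IsIso (oneTo f) := by
  rw [oneTo_eq_inv]
  infer_instance

end OneTo

section Bridge
open Groth.Agent.Lib.Helper17.ExtAct Groth.Agent.Lib.Helper17.FBC Groth.Agent.Lib.Helper17.FBC3
  Groth.Agent.Lib.Helper23.AffVanish Groth.Agent.Helper13FlatMV Groth.Agent.Lib.Helper21.GBCAlg

variable {A B : Type u} [CommRing A] [CommRing B] [Algebra A B]
  {X X' : Scheme.{u}} (f : X ⟶ Spec (CommRingCat.of A)) (f' : X' ⟶ Spec (CommRingCat.of B)) (g' : X' ⟶ X)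
  (hw : g' ≫ f = f' ≫ Spec.map (CommRingCat.ofHom (algebraMap A B)))
  (M : X.Modules) (n : ℕ)

theorem pullMod_eq (x : Coh.HH X M n) :
    pullMod g' M n x =
      pre' (cmp f f' g' M hw) (oneTo g'.base) n (phi (cmp f f' g' M hw) (Zc (TopCat.of X)) n x) := by
  change Sheaf.H.map (theta g' M) n (pullAb g'.base (Coh.toAb M) n x) = _
  rw [Sheaf.H.map_apply]
  change ((Ext.mk₀ (oneTo g'.base)).comp (Ext.mapExactFunctor (inv g'.base) x) (zero_add n)).comp
      (Ext.mk₀ (theta g' M)) (add_zero n) =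
    (Ext.mk₀ (oneTo g'.base)).comp ((Ext.mapExactFunctor (pullF g') x).comp
      (Ext.mk₀ (kappa g' M)) (add_zero n)) (zero_add n)
  rw [Ext.comp_assoc_of_third_deg_zero]
  rfl

include hw in
/-- `pullMod` is semilinear over the base rings -/
theorem pullMod_smul (r : A) (m : Coh.HH X M n) :
    pullMod g' M n (Coh.toGlobal f r • m) =
      Coh.toGlobal f' (algebraMap A B r) • pullMod g' M n m := by
  rw [pullMod_eq f f' g' hw, pullMod_eq f f' g' hw]
  have h1 := (phi (cmp f f' g' M hw) (Zc (TopCat.of X)) n).map_smul r m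
  have h2 := (pre' (cmp f f' g' M hw) (oneTo g'.base) n).map_smul (algebraMap A B r)
    (phi (cmp f f' g' M hw) (Zc (TopCat.of X)) n m)
  exact (congrArg (pre' (cmp f f' g' M hw) (oneTo g'.base) n) h1).trans h2

variable [Module.Flat A B] [CompactSpace X] [QuasiSeparatedSpace X] [M.IsQuasicoherent]

/-- **flat base change for `pullMod`**: for a quasi-compact quasi-separated scheme over `Spec A`, a flat
`A`-algebra `B` and the base change `X' = X ×_A B`, the pullback on cohomology induces a bijection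
`B ⊗_A H^n(X, M) → H^n(X', g'^* M)` for quasi-coherent `M` -/
theorem kap_pullMod_bijective
    (h : IsPullback g' f' f (Spec.map (CommRingCat.ofHom (algebraMap A B)))) :
    letI : Module A (Coh.HH X M n) := Module.compHom _ (Coh.toGlobal f)
    letI : Module B (Coh.HH X' ((Scheme.Modules.pullback g').obj M) n) :=
      Module.compHom _ (Coh.toGlobal f')
    ∀ hu : ∀ (r : A) (m : Coh.HH X M n),
      pullMod g' M n (r • m) = algebraMap A B r • pullMod g' M n m,
      Function.Bijective (kap (pullMod g' M n) hu) := by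
  letI mA : Module A (Coh.HH X M n) := Module.compHom _ (Coh.toGlobal f)
  letI mB : Module B (Coh.HH X' ((Scheme.Modules.pullback g').obj M) n) :=
    Module.compHom _ (Coh.toGlobal f')
  intro hu
  set c := cmp f f' g' M h.w with hc
  have hgood : Function.Bijective (beta c (Zc (TopCat.of X)) n) :=
    good_Zc g' c (fun U hU => good_ZU h M hU) n
  let u₂ : EE c.α (Zc (TopCat.of X)) n →+ EB c ((pullF g').obj (Zc (TopCat.of X))) n :=
    (phi c (Zc (TopCat.of X)) n).toAddMonoidHom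
  have hu₂ : ∀ (r : A) (m : EE c.α (Zc (TopCat.of X)) n),
      u₂ (r • m) = algebraMap A B r • u₂ m := fun r m => (phi c (Zc (TopCat.of X)) n).map_smul r m
  have hk₂ : Function.Bijective (kap u₂ hu₂) := by
    have hz : ∀ z, kap u₂ hu₂ z = beta c (Zc (TopCat.of X)) n z := by
      intro z
      induction z using TensorProduct.induction_on with
      | zero => rw [map_zero, map_zero]
      | tmul b x => rw [kap_tmul, beta_tmul]; rfl
      | add x y hx hy => rw [map_add, map_add, hx, hy]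
    have : (kap u₂ hu₂ : _ → _) = beta c (Zc (TopCat.of X)) n := funext hz
    rw [this]
    exact hgood
  let e : Coh.HH X M n ≃ₗ[A] EE c.α (Zc (TopCat.of X)) n :=
    { toFun := fun x => x
      invFun := fun x => x
      left_inv := fun _ => rfl
      right_inv := fun _ => rfl
      map_add' := fun _ _ => rfl
      map_smul' := fun _ _ => rfl }
  let e₀ : Coh.HH X' ((Scheme.Modules.pullback g').obj M) n ≃ₗ[B] EE c.α' (Zc (TopCat.of X')) n :=
    { toFun := fun x => x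
      invFun := fun x => x
      left_inv := fun _ => rfl
      right_inv := fun _ => rfl
      map_add' := fun _ _ => rfl
      map_smul' := fun _ _ => rfl }
  let e' : Coh.HH X' ((Scheme.Modules.pullback g').obj M) n ≃ₗ[B]
      EB c ((pullF g').obj (Zc (TopCat.of X))) n :=
    e₀.trans (preEquiv c.α' (asIso (oneTo g'.base)) n).symm
  have he : ∀ m, e' (pullMod g' M n m) = u₂ (e m) := by
    intro m
    rw [pullMod_eq f f' g' h.w M n m]
    exact (preEquiv c.α' (asIso (oneTo g'.base)) n).symm_apply_apply _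
  exact (kap_iff_of_equiv (pullMod g' M n) hu u₂ hu₂ e e' he).1.2 hk₂

/-- variant of `kap_pullMod_bijective` with the module structures given by arbitrary ring maps
equal to the canonical ones -/
theorem kap_pullMod_bijective'
    (h : IsPullback g' f' f (Spec.map (CommRingCat.ofHom (algebraMap A B))))
    (ρ : A →+* Coh.Γtop X) (ρ' : B →+* Coh.Γtop X')
    (hρ : ∀ a, Coh.toGlobal f a = ρ a) (hρ' : ∀ b, Coh.toGlobal f' b = ρ' b) :
    letI : Module A (Coh.HH X M n) := Module.compHom _ ρ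
    letI : Module B (Coh.HH X' ((Scheme.Modules.pullback g').obj M) n) := Module.compHom _ ρ'
    ∀ hu : ∀ (r : A) (m : Coh.HH X M n),
      pullMod g' M n (r • m) = algebraMap A B r • pullMod g' M n m,
      Function.Bijective (kap (pullMod g' M n) hu) := by
  obtain rfl : Coh.toGlobal f = ρ := RingHom.ext hρ
  obtain rfl : Coh.toGlobal f' = ρ' := RingHom.ext hρ'
  exact kap_pullMod_bijective f f' g' M n h

end Bridge

section PullOn
open Groth.Agent.Helper13FlatMV Groth.Agent.Lib.Helper21.GBCAlg Groth.Agent.Lib.Helper21.GBC5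
  Groth.Agent.Lib.Helper21.GBC9 Groth.Agent.Lib.Helper17.StalkBC Groth.Agent.Lib.Helper21.GBC2
  Groth.Agent.Lib.Helper21.GBC3 Groth.Agent.Lib.Helper21.GBC8
open AlgebraicGeometry.Scheme.Modules

variable {X S X' S' : Scheme.{u}} (f : X ⟶ S) (g : S' ⟶ S) (g' : X' ⟶ X) (f' : X' ⟶ S')
  (h : IsPullback g' f' f g) [QuasiCompact f] [QuasiSeparated f] (F : X.Modules) [Coh.IsQCoh F]
  {V : S.Opens} {V' : S'.Opens} (hV : IsAffineOpen V) (hV' : IsAffineOpen V') (hle : V' ≤ g ⁻¹ᵁ V)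

omit [QuasiSeparated f] in
include hV in
theorem compactSpace_preimage : CompactSpace (f ⁻¹ᵁ V : Scheme.{u}) := by
  have hc : IsCompact ((f ⁻¹ᵁ V : X.Opens) : Set X) :=
    QuasiCompact.isCompact_preimage (f := f) _ V.2 hV.isCompact
  exact isCompact_iff_compactSpace.mp hc

omit [QuasiCompact f] in
include hV in
theorem quasiSeparatedSpace_preimage : QuasiSeparatedSpace (f ⁻¹ᵁ V : Scheme.{u}) := by
  haveI : IsAffine (V : Scheme.{u}) := hV
  exact quasiSeparatedSpace_of_quasiSeparated (f ∣_ V)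

omit [QuasiCompact f] [QuasiSeparated f] [Coh.IsQCoh F] in
include h hV hV' in
/-- `pullOn` over affine opens of the bases is semilinear -/
theorem pullOn_smul (hWW : f' ⁻¹ᵁ V' ≤ g' ⁻¹ᵁ (f ⁻¹ᵁ V)) (p : ℕ) (r : Γ(S, V))
    (m : Coh.HHon X F (f ⁻¹ᵁ V) p) :
    CohPull.pullOn g' (f ⁻¹ᵁ V) (f' ⁻¹ᵁ V') hWW F p (pullFun f V r • m) =
      pullFun f' V' ((g.appLE V V' hle).hom r) •
        CohPull.pullOn g' (f ⁻¹ᵁ V) (f' ⁻¹ᵁ V') hWW F p m := by
  letI : Algebra Γ(S, V) Γ(S', V') := (g.appLE V V' hle).hom.toAlgebra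
  have hsq : IsPullback (g'.resLE (f ⁻¹ᵁ V) (f' ⁻¹ᵁ V') hWW) (hRes f' hV') (hRes f hV)
      (Spec.map (CommRingCat.ofHom (algebraMap Γ(S, V) Γ(S', V')))) :=
    isPullback_resLE_hRes f g g' f' h hV hV' hle hWW
  have h1 := pullMod_smul (hRes f hV) (hRes f' hV') (g'.resLE (f ⁻¹ᵁ V) (f' ⁻¹ᵁ V') hWW) hsq.w
    (F.restrict (f ⁻¹ᵁ V).ι) p r m
  rw [toGlobal_hRes, toGlobal_hRes] at h1
  change CohPull.mapH (CohPull.pullOnIso g' (f ⁻¹ᵁ V) (f' ⁻¹ᵁ V') hWW F).hom p
    (CohPull.pullMod (g'.resLE (f ⁻¹ᵁ V) (f' ⁻¹ᵁ V') hWW) (F.restrict (f ⁻¹ᵁ V).ι) p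
      (pullFun f V r • m)) = _
  rw [h1, mapH_smul]
  rfl

include h hV hV' in
/-- **flat base change for `pullOn`, quasi-compact quasi-separated case** -/
theorem kap_pullOn_bijective (hWW : f' ⁻¹ᵁ V' ≤ g' ⁻¹ᵁ (f ⁻¹ᵁ V)) (p : ℕ) :
    letI : Algebra Γ(S, V) Γ(S', V') := (g.appLE V V' hle).hom.toAlgebra
    letI : Module Γ(S, V) (Coh.HHon X F (f ⁻¹ᵁ V) p) := Module.compHom _ (pullFun f V)
    letI : Module Γ(S', V') (Coh.HHon X' ((Scheme.Modules.pullback g').obj F) (f' ⁻¹ᵁ V') p) :=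
      Module.compHom _ (pullFun f' V')
    Module.Flat Γ(S, V) Γ(S', V') →
    ∀ hu : ∀ (r : Γ(S, V)) (m : Coh.HHon X F (f ⁻¹ᵁ V) p),
      CohPull.pullOn g' (f ⁻¹ᵁ V) (f' ⁻¹ᵁ V') hWW F p (r • m) =
        algebraMap Γ(S, V) Γ(S', V') r • CohPull.pullOn g' (f ⁻¹ᵁ V) (f' ⁻¹ᵁ V') hWW F p m,
      Function.Bijective (kap (CohPull.pullOn g' (f ⁻¹ᵁ V) (f' ⁻¹ᵁ V') hWW F p) hu) := by
  letI : Algebra Γ(S, V) Γ(S', V') := (g.appLE V V' hle).hom.toAlgebra
  letI mA : Module Γ(S, V) (Coh.HHon X F (f ⁻¹ᵁ V) p) := Module.compHom _ (pullFun f V)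
  letI mB : Module Γ(S', V') (Coh.HHon X' ((Scheme.Modules.pullback g').obj F) (f' ⁻¹ᵁ V') p) :=
    Module.compHom _ (pullFun f' V')
  intro hflat hu
  haveI := compactSpace_preimage f hV
  haveI := quasiSeparatedSpace_preimage f hV
  haveI : Coh.IsQCoh (F.restrict (f ⁻¹ᵁ V).ι) :=
    Scheme.Modules.isQuasicoherent_restrictFunctor (f ⁻¹ᵁ V).ι F
  have hsq : IsPullback (g'.resLE (f ⁻¹ᵁ V) (f' ⁻¹ᵁ V') hWW) (hRes f' hV') (hRes f hV)
      (Spec.map (CommRingCat.ofHom (algebraMap Γ(S, V) Γ(S', V')))) :=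
    isPullback_resLE_hRes f g g' f' h hV hV' hle hWW
  letI mB' : Module Γ(S', V') (Coh.HH (f' ⁻¹ᵁ V' : Scheme.{u})
      ((Scheme.Modules.pullback (g'.resLE (f ⁻¹ᵁ V) (f' ⁻¹ᵁ V') hWW)).obj (F.restrict (f ⁻¹ᵁ V).ι)) p) :=
    Module.compHom _ (pullFun f' V')
  have hu₀ : ∀ (r : Γ(S, V)) (m : Coh.HHon X F (f ⁻¹ᵁ V) p),
      CohPull.pullMod (g'.resLE (f ⁻¹ᵁ V) (f' ⁻¹ᵁ V') hWW) (F.restrict (f ⁻¹ᵁ V).ι) p (r • m) =
        algebraMap Γ(S, V) Γ(S', V') r •
          CohPull.pullMod (g'.resLE (f ⁻¹ᵁ V) (f' ⁻¹ᵁ V') hWW) (F.restrict (f ⁻¹ᵁ V).ι) p m := by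
    intro r m
    have := pullMod_smul (hRes f hV) (hRes f' hV') (g'.resLE (f ⁻¹ᵁ V) (f' ⁻¹ᵁ V') hWW) hsq.w
      (F.restrict (f ⁻¹ᵁ V).ι) p r m
    rw [toGlobal_hRes, toGlobal_hRes] at this
    exact this
  have hk₀ := kap_pullMod_bijective' (hRes f hV) (hRes f' hV')
    (g'.resLE (f ⁻¹ᵁ V) (f' ⁻¹ᵁ V') hWW) (F.restrict (f ⁻¹ᵁ V).ι) p hsq
    (pullFun f V) (pullFun f' V') (toGlobal_hRes f hV) (toGlobal_hRes f' hV') hu₀
  let e' : Coh.HH (f' ⁻¹ᵁ V' : Scheme.{u})
      ((Scheme.Modules.pullback (g'.resLE (f ⁻¹ᵁ V) (f' ⁻¹ᵁ V') hWW)).obj (F.restrict (f ⁻¹ᵁ V).ι)) p ≃ₗ[Γ(S', V')]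
      Coh.HHon X' ((Scheme.Modules.pullback g').obj F) (f' ⁻¹ᵁ V') p :=
    { mapHEquiv (CohPull.pullOnIso g' (f ⁻¹ᵁ V) (f' ⁻¹ᵁ V') hWW F) p with
      map_smul' := fun r x => mapH_smul _ p (pullFun f' V' r) x }
  exact (kap_iff_of_equiv _ hu₀ _ hu (LinearEquiv.refl _ _) e' (fun m => rfl)).1.1 hk₀

end PullOn

section LocCoh
open Groth.Agent.Helper13FlatMV Groth.Agent.Lib.Helper21.GBCAlg Groth.Agent.Lib.Helper21.GBC5
  Groth.Agent.Lib.Helper21.GBC9 Groth.Agent.Lib.Helper17.StalkBC Groth.Agent.Lib.Helper21.GBC2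
  Groth.Agent.Lib.Helper21.GBC3 Groth.Agent.Lib.Helper21.GBC8 Groth.Agent.Lib.Helper21.GBC10

variable {X Y : Scheme.{u}} (f : X ⟶ Y) [QuasiCompact f] [QuasiSeparated f] (F : X.Modules)
  [Coh.IsQCoh F] {V : Y.Opens} (hV : IsAffineOpen V) (a : Γ(Y, V)) (p : ℕ)

include hV in
/-- **cohomology of the preimage of a basic open is the localization** (quasi-separated case) -/
theorem resLE_basicOpen_qcqs :
    (∀ x : Coh.HHon X F (f ⁻¹ᵁ V) p,
      CohPull.resLE F (f.preimage_mono (Y.basicOpen_le a)) p x = 0 →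
        ∃ n : ℕ, pullFun f V (a ^ n) • x = 0) ∧
    (∀ y : Coh.HHon X F (f ⁻¹ᵁ (Y.basicOpen a)) p,
      ∃ (n : ℕ) (x : Coh.HHon X F (f ⁻¹ᵁ V) p),
        CohPull.resLE F (f.preimage_mono (Y.basicOpen_le a)) p x =
          pullFun f (Y.basicOpen a)
            ((Y.presheaf.map (homOfLE (Y.basicOpen_le a)).op).hom a ^ n) • y) := by
  have hV' : IsAffineOpen (Y.basicOpen a) := hV.basicOpen a
  have hsq : IsPullback (𝟙 X) f f (𝟙 Y) := IsPullback.of_id_fst
  have hWW : f ⁻¹ᵁ (Y.basicOpen a) ≤ (𝟙 X) ⁻¹ᵁ (f ⁻¹ᵁ V) := by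
    rw [Scheme.Hom.id_preimage]
    exact f.preimage_mono (Y.basicOpen_le a)
  letI : Algebra Γ(Y, V) Γ(Y, Y.basicOpen a) :=
    ((𝟙 Y : Y ⟶ Y).appLE V (Y.basicOpen a) (basicOpen_le_id a)).hom.toAlgebra
  haveI : IsLocalization.Away a Γ(Y, Y.basicOpen a) := isLocalization_id_appLE a hV
  haveI : Module.Flat Γ(Y, V) Γ(Y, Y.basicOpen a) :=
    IsLocalization.flat Γ(Y, Y.basicOpen a) (Submonoid.powers a)
  letI mA : Module Γ(Y, V) (Coh.HHon X F (f ⁻¹ᵁ V) p) := Module.compHom _ (pullFun f V)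
  letI mG : Module Γ(Y, Y.basicOpen a)
      (Coh.HHon X ((Scheme.Modules.pullback (𝟙 X)).obj F) (f ⁻¹ᵁ (Y.basicOpen a)) p) :=
    Module.compHom _ (pullFun f (Y.basicOpen a))
  letI mF : Module Γ(Y, Y.basicOpen a) (Coh.HHon X F (f ⁻¹ᵁ (Y.basicOpen a)) p) :=
    Module.compHom _ (pullFun f (Y.basicOpen a))
  let u₀ := CohPull.pullOn (𝟙 X) (f ⁻¹ᵁ V) (f ⁻¹ᵁ (Y.basicOpen a)) hWW F p
  have hu₀ : ∀ (r : Γ(Y, V)) (x : Coh.HHon X F (f ⁻¹ᵁ V) p),
      u₀ (r • x) = algebraMap Γ(Y, V) Γ(Y, Y.basicOpen a) r • u₀ x :=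
    fun r x => pullOn_smul f (𝟙 Y) (𝟙 X) f hsq F hV hV' (basicOpen_le_id a) hWW p r x
  have hk₀ : Function.Bijective (kap u₀ hu₀) :=
    kap_pullOn_bijective f (𝟙 Y) (𝟙 X) f hsq F hV hV' (basicOpen_le_id a) hWW p inferInstance hu₀
  -- pass to `resLE`
  let e := (Scheme.Modules.restrictFunctor (f ⁻¹ᵁ (Y.basicOpen a)).ι).mapIso
    ((Scheme.Modules.pullbackId X).app F)
  let e' : Coh.HHon X ((Scheme.Modules.pullback (𝟙 X)).obj F) (f ⁻¹ᵁ (Y.basicOpen a)) p ≃ₗ[Γ(Y, Y.basicOpen a)]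
      Coh.HHon X F (f ⁻¹ᵁ (Y.basicOpen a)) p :=
    { mapHEquiv e p with
      map_smul' := fun r x => mapH_smul e.hom p (pullFun f (Y.basicOpen a) r) x }
  let u := CohPull.resLE F (f.preimage_mono (Y.basicOpen_le a)) p
  have hue : ∀ x, e' (u₀ x) = u x := fun x => rfl
  have hu : ∀ (r : Γ(Y, V)) (x : Coh.HHon X F (f ⁻¹ᵁ V) p),
      u (r • x) = algebraMap Γ(Y, V) Γ(Y, Y.basicOpen a) r • u x := by
    intro r x
    rw [← hue, ← hue, hu₀, LinearEquiv.map_smul]
  have hk : Function.Bijective (kap u hu) :=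
    (kap_iff_of_equiv u₀ hu₀ u hu (LinearEquiv.refl _ _) e' hue).1.1 hk₀
  obtain ⟨l1, l2⟩ := loc_of_kap_bijective a u hu hk
  refine ⟨fun x hx => l1 x hx, fun y => ?_⟩
  obtain ⟨n, x, hx⟩ := l2 y
  refine ⟨n, x, hx.trans ?_⟩
  have e1 : algebraMap Γ(Y, V) Γ(Y, Y.basicOpen a) a =
      (Y.presheaf.map (homOfLE (Y.basicOpen_le a)).op).hom a :=
    congrArg (fun σ : Γ(Y, V) ⟶ Γ(Y, Y.basicOpen a) => σ.hom a) (id_appLE_basicOpen a)
  rw [e1]
  rfl

end LocCoh

section T3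
open Groth.Agent.Lib.Helper21.GBC2 Groth.Agent.Lib.Helper21.GBC3 Groth.Agent.Lib.Helper21.GBC4
  Groth.Agent.Lib.Helper21.GBC5 Groth.Agent.Lib.Helper21.GBC6 Groth.Agent.Lib.Helper21.GBC7
  Groth.Agent.Lib.Helper21.GBC8 Groth.Agent.Lib.Helper21.GBC9 Groth.Agent.Lib.Helper21.GBC10
variable {X Y : Scheme.{u}} (f : X ⟶ Y) [QuasiCompact f] [QuasiSeparated f]
  [HasInjectiveResolutions X.Modules]
  {Δ : RDer.DerivedLES (Scheme.Modules.pushforward f)} (E : CohCmp.SectCmp f Δ)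
  (F : X.Modules) [Coh.IsQCoh F] {V : Y.Opens} (hV : IsAffineOpen V) (p : ℕ)

include hV in
/-- **the comparison maps are injective over affine opens** -/
theorem ε_injective_qcqs : Function.Injective (E.ε V F p) := by
  rw [injective_iff_map_eq_zero]
  intro x hx
  letI mA : Module Γ(Y, V) (Coh.HHon X F (f ⁻¹ᵁ V) p) := Module.compHom _ (pullFun f V)
  have hJ : Ideal.torsionOf Γ(Y, V) (Coh.HHon X F (f ⁻¹ᵁ V) p) x = ⊤ := by
    refine ideal_eq_top hV _ (fun y hy => ?_)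
    obtain ⟨W, hWV, hyW, hW⟩ := ε_locally_injective f E p F V x hx y hy
    obtain ⟨a, haW, hya⟩ := hV.exists_basicOpen_le (V := W) ⟨y, hyW⟩ hy
    refine ⟨a, hya, ?_⟩
    have h1 : CohPull.resLE F (f.preimage_mono (Y.basicOpen_le a)) p x = 0 := by
      rw [← resLE_trans F (f.preimage_mono hWV) (f.preimage_mono haW) p x, hW, map_zero]
    obtain ⟨n, hn⟩ := (resLE_basicOpen_qcqs f F hV a p).1 x h1
    exact ⟨n, (Ideal.mem_torsionOf_iff _ _).2 hn⟩
  have h1 : (1 : Γ(Y, V)) ∈ Ideal.torsionOf Γ(Y, V) (Coh.HHon X F (f ⁻¹ᵁ V) p) x := by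
    rw [hJ]
    trivial
  have h2 := (Ideal.mem_torsionOf_iff _ _).1 h1
  rwa [one_smul] at h2

include hV in
/-- **the comparison maps are surjective over affine opens** -/
theorem ε_surjective_qcqs : Function.Surjective (E.ε V F p) := by
  intro t
  haveI : Coh.IsQCoh ((Coh.Rpush f p).obj F) := Groth.Agent.S0030.result f F p
  letI mA : Module Γ(Y, V) (Coh.HHon X F (f ⁻¹ᵁ V) p) := Module.compHom _ (pullFun f V)
  let εL : Coh.HHon X F (f ⁻¹ᵁ V) p →ₗ[Γ(Y, V)] ((Coh.Rpush f p).obj F).presheaf.obj (op V) :=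
    { toFun := E.ε V F p
      map_add' := fun x y => map_add _ x y
      map_smul' := fun a x => ε_smul f E V a F p x }
  have hJ : (LinearMap.range εL).colon {t} = ⊤ := by
    refine ideal_eq_top hV _ (fun y hy => ?_)
    obtain ⟨W, hWV, hyW, x', hx'⟩ := Groth.Agent.S16954.result f E F p V t y hy
    obtain ⟨a, haW, hya⟩ := hV.exists_basicOpen_le (V := W) ⟨y, hyW⟩ hy
    refine ⟨a, hya, ?_⟩
    have h1 : E.ε (Y.basicOpen a) F p (CohPull.resLE F (f.preimage_mono haW) p x') =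
        ((Coh.Rpush f p).obj F).presheaf.map (homOfLE (Y.basicOpen_le a)).op t := by
      rw [← ε_res f E haW F p x', hx']
      exact map_map_apply ((Coh.Rpush f p).obj F) (homOfLE haW) (homOfLE hWV) t
    obtain ⟨n, x, hx⟩ := (resLE_basicOpen_qcqs f F hV a p).2
      (CohPull.resLE F (f.preimage_mono haW) p x')
    have h2 : ((Coh.Rpush f p).obj F).presheaf.map (homOfLE (Y.basicOpen_le a)).op
        (E.ε V F p x - a ^ n • t) = 0 := by
      rw [map_sub, ε_res f E (Y.basicOpen_le a) F p x, hx, ε_smul, h1, sub_eq_zero,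
        Scheme.Modules.map_smul, map_pow]
    obtain ⟨m, hm⟩ := Groth.Agent.Lib.Helper2.QCoh.exists_pow_smul_eq_zero hV
      ((Coh.Rpush f p).obj F) a _ h2
    refine ⟨m + n, ?_⟩
    rw [Submodule.mem_colon_singleton]
    refine ⟨(a ^ m) • x, ?_⟩
    rw [smul_sub, sub_eq_zero, smul_smul, ← pow_add] at hm
    rw [LinearMap.map_smul]
    exact hm
  have h1 : (1 : Γ(Y, V)) ∈ (LinearMap.range εL).colon {t} := by
    rw [hJ]
    trivial
  rw [Submodule.mem_colon_singleton, one_smul] at h1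
  exact h1

include hV in
/-- **T3**: the comparison maps are bijective over affine opens, for a quasi-compact quasi-separated
morphism and a quasi-coherent module. -/
theorem ε_bijective_qcqs : Function.Bijective (E.ε V F p) :=
  ⟨ε_injective_qcqs f E F hV p, ε_surjective_qcqs f E F hV p⟩

end T3

end Groth.Agent.Lib.Helper21.GBC39
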