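import Groth.Agent.Lib.Helper21BC0MainB
import Groth.Agent.Lib.Helper21GBC9

/-!
# General base change, part 40: models with a chosen universal complex, and base change of models
(helper21)
-/

set_option autoImplicit false
set_option linter.style.haveILetI false
universe u
open CategoryTheory CategoryTheory.Limits AlgebraicGeometry TensorProduct Opposite

namespace Groth.Agent.Lib.Helper21.GBC40

open Groth.Agent.Lib.Helper17.StalkBC Groth.Agent.Lib.Helper21.CechMod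
  Groth.Agent.Helper13QcqsBC Groth.Agent.Lib.Helper16.CechLow Groth.Agent.Lib.Helper21.CechBC
  Groth.Agent.Lib.Helper21.BC0Alg Groth.Agent.Lib.Helper21.BC0Geo Groth.Agent.Lib.Helper6
  Groth.Agent.Lib.Helper21.NNBC Groth.Agent.Lib.Helper21.BC0Univ Groth.Agent.Lib.Helper21.TFunB
  Groth.Agent.Lib.Helper21.Semicont Groth.Agent.Lib.Helper21.TBridge Groth.Agent.Lib.Helper21.BC0Main

section Univ
variable (A : Type u) [CommRing A] {X : Scheme.{u}} [X.Over (Spec (CommRingCat.of A))]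
  (F : X.Modules)

/-- the properties of a universal Mumford complex, together with an adapted finite affine cover -/
def IsUnivCx (P : ChainComplex (ModuleCat.{u} A) ℤ) : Prop :=
  ∃ (ι : Type u) (_ : Finite ι) (U : ι → X.Opens), (⨆ i, U i = ⊤) ∧
    (∀ s : Finset ι, s.Nonempty → IsAffineOpen (⨅ i ∈ s, U i)) ∧
    (∀ i, Module.Finite A (P.X i) ∧ Module.Projective A (P.X i)) ∧
    (∃ N : ℕ, ∀ i : ℤ, 0 < i ∨ i < -(N : ℤ) → IsZero (P.X i)) ∧
    (∀ (p : ℕ) (y : ↑(Spec (CommRingCat.of A))),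
      CohIII.fiberRank (X ↘ Spec (CommRingCat.of A)) F p y = CohIII.dRank P (-(p : ℤ)) y) ∧
    (∀ (B : Type u) [CommRing B] [Algebra A B] (X' : Scheme.{u})
      [X'.Over (Spec (CommRingCat.of B))] (g' : X' ⟶ X)
      (_ : IsPullback g' (X' ↘ Spec (CommRingCat.of B)) (X ↘ Spec (CommRingCat.of A))
        (Spec.map (CommRingCat.ofHom (algebraMap A B)))) (p : ℕ),
      Nonempty (Coh.HH X' ((Scheme.Modules.pullback g').obj F) p ≃ₗ[B]
        ↑((CohIII.bcCx (algebraMap A B) P).homology (-(p : ℤ))))) ∧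
    ∀ (A' : Type u) [CommRing A'] [Algebra A A'] (B : Type u) [CommRing B] [Algebra A' B],
      (KerSurj B ((CohIII.bcCx (algebraMap A A') (CA A F U)).d 0 1).hom ↔
          KerSurj B ((CohIII.bcCx (algebraMap A A') P).d 0 (-1)).hom) ∧
        (KerBC B ((CohIII.bcCx (algebraMap A A') (CA A F U)).d 0 1).hom ↔
          KerBC B ((CohIII.bcCx (algebraMap A A') P).d 0 (-1)).hom)

theorem exists_isUnivCx [IsNoetherianRing A] [IsProper (X ↘ Spec (CommRingCat.of A))]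
    (hF : Coh.IsCoh F) (hfl : FlatMod.IsFlatOver (X ↘ Spec (CommRingCat.of A)) F) :
    ∃ P : ChainComplex (ModuleCat.{u} A) ℤ, IsUnivCx A F P := by
  obtain ⟨ι, hfin, U, hcov, hU, P, hP, hN, hrk, huniv, hker⟩ := exists_univ_complex0 A F hF hfl
  exact ⟨P, ι, hfin, U, hcov, hU, hP, hN, hrk, huniv, hker⟩

end Univ

section Cx
variable {X S : Scheme.{u}} {f : X ⟶ S} {F : X.Modules} {U : S.Opens} {hU : IsAffineOpen U}

/-- the chosen universal complex of a model; it only depends on the Noetherian part of the model -/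
noncomputable def _root_.Groth.Agent.Lib.Helper21.NNBC.Model.cx (M : Model f F hU) :
    ChainComplex (ModuleCat.{u} M.A₀) ℤ :=
  Classical.choose (@exists_isUnivCx M.A₀ _ M.X₀ ⟨M.f₀⟩ M.F₀ M.noeth M.proper M.coh M.flat)

theorem _root_.Groth.Agent.Lib.Helper21.NNBC.Model.cx_spec (M : Model f F hU) :
    @IsUnivCx M.A₀ _ M.X₀ ⟨M.f₀⟩ M.F₀ M.cx :=
  Classical.choose_spec (@exists_isUnivCx M.A₀ _ M.X₀ ⟨M.f₀⟩ M.F₀ M.noeth M.proper M.coh M.flat)

/-- **Lemma H with the kernel condition, for the chosen complex** -/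
theorem _root_.Groth.Agent.Lib.Helper21.NNBC.Model.cx_complex0 [QuasiCompact f] [QuasiSeparated f]
    [F.IsQuasicoherent] (M : Model f F hU) :
    let P := M.cx
    (∀ i, Module.Finite M.A₀ (P.X i) ∧ Module.Projective M.A₀ (P.X i)) ∧
    (∃ N : ℕ, ∀ i : ℤ, 0 < i ∨ i < -(N : ℤ) → IsZero (P.X i)) ∧
    (∀ (B : CommRingCat.{u}) (ψ : Γ(S, U) ⟶ B) (X' : Scheme.{u}) (f' : X' ⟶ Spec B)
      (g' : X' ⟶ X) (_ : IsPullback g' f' f (Spec.map ψ ≫ hU.fromSpec)),
      (∀ (q : Spec B) (p : ℕ),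
        CohIII.dRank P (-(p : ℤ)) (Spec.map (M.φ ≫ ψ) q) =
          PerfAux.betti f F ((Spec.map ψ ≫ hU.fromSpec) q) p) ∧
      ∀ p : ℕ,
        letI : X'.Over (Spec (CommRingCat.of B)) := ⟨f'⟩
        Nonempty (Coh.HH X' ((Scheme.Modules.pullback g').obj F) p ≃ₗ[B]
          ↑((CohIII.bcCx (M.φ ≫ ψ).hom P).homology (-(p : ℤ))))) ∧
    ∀ {S' X' : Scheme.{u}} (g : S' ⟶ S) (g' : X' ⟶ X) (f' : X' ⟶ S')
      (h : IsPullback g' f' f g) {U' : S'.Opens} (_ : IsAffineOpen U') (hle : U' ≤ g ⁻¹ᵁ U),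
      letI : Algebra Γ(S, U) Γ(S', U') := (g.appLE U U' hle).hom.toAlgebra
      (KerBC Γ(S', U') ((CohIII.bcCx M.φ.hom P).d 0 (-1)).hom →
          KBij f g g' f' h F hle (f ⁻¹ᵁ U) le_rfl) ∧
        (KSurj f g g' f' h F hle (f ⁻¹ᵁ U) le_rfl ↔
          KerSurj Γ(S', U') ((CohIII.bcCx M.φ.hom P).d 0 (-1)).hom) := by
  haveI := M.noeth
  haveI := M.proper
  haveI : M.F₀.IsQuasicoherent := M.coh.1
  letI : M.X₀.Over (Spec (CommRingCat.of M.A₀)) := ⟨M.f₀⟩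
  haveI : IsProper (M.X₀ ↘ Spec (CommRingCat.of M.A₀)) := M.proper
  intro P
  obtain ⟨ι, hfin, U₀, hcov₀, hU₀, hP, hN, hrk, huniv, hker⟩ := M.cx_spec
  refine ⟨hP, hN, fun B ψ X' f' g' hsq => ?_, fun {S' X'} g g' f' h {U'} hU' hle => ?_⟩
  · obtain ⟨g₂, h1, hleft⟩ := exists_lift_hRes B ψ f' g' hsq
    have hsq3 : IsPullback (g₂ ≫ M.q₀) f' M.f₀ (Spec.map (M.φ ≫ ψ)) := by
      rw [Spec.map_comp]
      exact hleft.paste_horiz M.sq
    let e : (Scheme.Modules.pullback g').obj F ≅ (Scheme.Modules.pullback (g₂ ≫ M.q₀)).obj M.F₀ :=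
      (Scheme.Modules.pullbackCongr h1.symm).app F ≪≫
        ((Scheme.Modules.pullbackComp g₂ (f ⁻¹ᵁ U).ι).app F).symm ≪≫
        (Scheme.Modules.pullback g₂).mapIso M.iso ≪≫
        (Scheme.Modules.pullbackComp g₂ M.q₀).app M.F₀
    refine ⟨fun q p => ?_, fun p => ?_⟩
    · have r1 := hrk p (Spec.map (M.φ ≫ ψ) q)
      have r2 := betti_baseChange M.f₀ (Spec.map (M.φ ≫ ψ)) (g₂ ≫ M.q₀) f' hsq3 M.F₀ q p
      have r3 := betti_congr_iso f' e q p
      have r4 := betti_baseChange f (Spec.map ψ ≫ hU.fromSpec) g' f' hsq F q p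
      rw [← r4, r3, r2]
      exact r1.symm
    · letI : X'.Over (Spec (CommRingCat.of B)) := ⟨f'⟩
      letI : Algebra M.A₀ B := (M.φ ≫ ψ).hom.toAlgebra
      obtain ⟨e1⟩ := huniv B X' (g₂ ≫ M.q₀) hsq3 p
      exact ⟨(Groth.Agent.Lib.Helper17.StalkBC.hhEquiv B e p).trans e1⟩
  · letI := overRes f hU
    letI : Algebra Γ(S, U) Γ(S', U') := (g.appLE U U' hle).hom.toAlgebra
    letI : Algebra M.A₀ Γ(S, U) := M.φ.hom.toAlgebra
    have hsq : IsPullback M.q₀ ((f ⁻¹ᵁ U : Scheme.{u}) ↘ Spec (CommRingCat.of Γ(S, U)))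
        (M.X₀ ↘ Spec (CommRingCat.of M.A₀))
        (Spec.map (CommRingCat.ofHom (algebraMap M.A₀ Γ(S, U)))) := M.sq
    have k1 := hker Γ(S, U) Γ(S', U')
    have k2 := kerBC_iff_cech_bc M.A₀ M.F₀ Γ(S, U) M.q₀ hsq U₀ hU₀ Γ(S', U')
    let V : ι → (f ⁻¹ᵁ U : Scheme.{u}).Opens := Up M.q₀ U₀
    have hcovV : ⨆ i, V i = ⊤ := by
      change ⨆ i, M.q₀ ⁻¹ᵁ U₀ i = ⊤
      rw [← Scheme.Hom.preimage_iSup, hcov₀]
      rfl
    have hV : ∀ s : Finset ι, s.Nonempty → IsAffineOpen (⨅ i ∈ s, V i) := by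
      intro s hs
      have := preimage_biInf M.q₀ U₀ s
      rw [this]
      exact isAffineOpen_preimage M.A₀ Γ(S, U) M.q₀ hsq _ (hU₀ s hs)
    have k4 := K_of_cover f g g' f' h F hle hU V hU' hcovV hV
    let Θ : CA Γ(S, U) ((Scheme.Modules.restrictFunctor (f ⁻¹ᵁ U).ι).obj F) V ≅
        CA Γ(S, U) (Fp M.q₀ M.F₀) V :=
      (CAF Γ(S, U) V).mapIso
        ((Scheme.Modules.restrictFunctorIsoPullback (f ⁻¹ᵁ U).ι).app F ≪≫ M.iso)
    have k3 := kerBC_iff_of_iso Γ(S', U') Θ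
    rw [CA_d, CA_d] at k3
    exact ⟨fun hk => k4.1 (k3.2.2 (k2.2.1 (k1.2.2 hk))),
      k4.2.trans (k3.1.trans (k2.1.symm.trans k1.1))⟩


/-- **base change of a model**: a model of `(f, F)` over `U` induces a model of the base change
`(f', g'^* F)` over any affine open `U' ≤ g⁻¹ U`, with the same Noetherian part. -/
noncomputable def _root_.Groth.Agent.Lib.Helper21.NNBC.Model.ofSquare (M : Model f F hU)
    {S' X' : Scheme.{u}} (g : S' ⟶ S) (g' : X' ⟶ X) (f' : X' ⟶ S') (h : IsPullback g' f' f g)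
    {U' : S'.Opens} (hU' : IsAffineOpen U') (hle : U' ≤ g ⁻¹ᵁ U) :
    Model f' ((Scheme.Modules.pullback g').obj F) hU' :=
  have hWW : f' ⁻¹ᵁ U' ≤ g' ⁻¹ᵁ (f ⁻¹ᵁ U) := by
    intro x hx
    change f (g' x) ∈ U
    have e : f (g' x) = g (f' x) := by
      have := congrArg (fun t : X' ⟶ S => t x) h.w
      exact this
    rw [e]
    exact hle hx
  { A₀ := M.A₀
    noeth := M.noeth
    φ := M.φ ≫ g.appLE U U' hle
    X₀ := M.X₀
    f₀ := M.f₀
    proper := M.proper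
    F₀ := M.F₀
    coh := M.coh
    flat := M.flat
    q₀ := g'.resLE (f ⁻¹ᵁ U) (f' ⁻¹ᵁ U') hWW ≫ M.q₀
    sq := by
      rw [Spec.map_comp]
      exact (Groth.Agent.Lib.Helper21.GBC9.isPullback_resLE_hRes f g g' f' h hU hU' hle
        hWW).paste_horiz M.sq
    iso :=
      (Scheme.Modules.pullbackComp (f' ⁻¹ᵁ U').ι g').app F ≪≫
        (Scheme.Modules.pullbackCongr
          (Scheme.Hom.resLE_comp_ι g' hWW).symm).app F ≪≫
        ((Scheme.Modules.pullbackComp (g'.resLE (f ⁻¹ᵁ U) (f' ⁻¹ᵁ U') hWW)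
          (f ⁻¹ᵁ U).ι).app F).symm ≪≫
        (Scheme.Modules.pullback (g'.resLE (f ⁻¹ᵁ U) (f' ⁻¹ᵁ U') hWW)).mapIso M.iso ≪≫
        (Scheme.Modules.pullbackComp (g'.resLE (f ⁻¹ᵁ U) (f' ⁻¹ᵁ U') hWW) M.q₀).app M.F₀ }

theorem _root_.Groth.Agent.Lib.Helper21.NNBC.Model.ofSquare_cx (M : Model f F hU)
    {S' X' : Scheme.{u}} (g : S' ⟶ S) (g' : X' ⟶ X) (f' : X' ⟶ S') (h : IsPullback g' f' f g)
    {U' : S'.Opens} (hU' : IsAffineOpen U') (hle : U' ≤ g ⁻¹ᵁ U) :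
    (M.ofSquare g g' f' h hU' hle).cx = M.cx := rfl

theorem _root_.Groth.Agent.Lib.Helper21.NNBC.Model.ofSquare_φ (M : Model f F hU)
    {S' X' : Scheme.{u}} (g : S' ⟶ S) (g' : X' ⟶ X) (f' : X' ⟶ S') (h : IsPullback g' f' f g)
    {U' : S'.Opens} (hU' : IsAffineOpen U') (hle : U' ≤ g ⁻¹ᵁ U) :
    (M.ofSquare g g' f' h hU' hle).φ = M.φ ≫ g.appLE U U' hle := rfl


/-- an isomorphism of modules induces linear equivalences on sections -/
noncomputable def isoSections {Y : Scheme.{u}} {M N : Y.Modules} (e : M ≅ N) (V : Y.Opens) :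
    Γ(M, V) ≃ₗ[Γ(Y, V)] Γ(N, V) where
  toFun := fun m => (e.hom.app V) m
  invFun := fun m => (e.inv.app V) m
  map_add' := fun a b => map_add (e.hom.app V).hom a b
  map_smul' := fun a m => Scheme.Modules.Hom.app_smul e.hom a m
  left_inv := fun m => by
    change ((e.hom.app V) ≫ (e.inv.app V)) m = m
    rw [← Scheme.Modules.Hom.comp_app, e.hom_inv_id]
    rfl
  right_inv := fun m => by
    change ((e.inv.app V) ≫ (e.hom.app V)) m = m
    rw [← Scheme.Modules.Hom.comp_app, e.inv_hom_id]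
    rfl

local instance (X : Scheme.{u}) : EnoughInjectives X.Modules :=
  Groth.Agent.Lib.Helper17.QCPush.enoughInjectives X

/-- **the sections of `f_* F` over `U` are the degree-`0` homology of the chosen complex** -/
theorem _root_.Groth.Agent.Lib.Helper21.NNBC.Model.cx_sections [QuasiCompact f] [QuasiSeparated f]
    [F.IsQuasicoherent] (M : Model f F hU) :
    Nonempty (Γ((Scheme.Modules.pushforward f).obj F, U) ≃ₗ[Γ(S, U)]
      ↑((CohIII.bcCx M.φ.hom M.cx).homology 0)) := by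
  haveI : Coh.IsQCoh F := ‹F.IsQuasicoherent›
  obtain ⟨-, -, huniv, -⟩ := M.cx_complex0
  have hsq : IsPullback (f ⁻¹ᵁ U).ι (hRes f hU) f (Spec.map (𝟙 Γ(S, U)) ≫ hU.fromSpec) := by
    have e : Spec.map (𝟙 Γ(S, U)) ≫ hU.fromSpec = hU.fromSpec := by
      rw [Spec.map_id]
      exact Category.id_comp _
    rw [e]
    exact isPullback_hRes f hU
  obtain ⟨-, hH⟩ := huniv Γ(S, U) (𝟙 _) _ (hRes f hU) (f ⁻¹ᵁ U).ι hsq
  letI := overRes f hU
  obtain ⟨e1⟩ := nonempty_sections_linearEquiv f F hU 0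
  obtain ⟨e2⟩ := hH 0
  let e3 := hhEquiv Γ(S, U) ((Scheme.Modules.restrictFunctorIsoPullback (f ⁻¹ᵁ U).ι).app F) 0
  let e0 := isoSections
    ((Functor.rightDerivedZeroIsoSelf (Scheme.Modules.pushforward f)).app F).symm U
  have e4 := e0.trans (e1.trans (e3.trans e2))
  have e00 : (-((0 : ℕ) : ℤ)) = 0 := by norm_num
  rw [e00, Category.comp_id] at e4
  exact ⟨e4⟩


end Cx

end Groth.Agent.Lib.Helper21.GBC40
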