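import Mathlib
import Groth.Agent.Lib.Helper26FittStrat
import Groth.Agent.Lib.Helper18Fitt11
import Groth.Agent.Lib.Helper18Fitt20
import Groth.Agent.Lib.Helper18Fitt8
import Groth.Agent.Lib.Helper21BC0Cx

/-!
# General base change, part 41: the algebra of the rank stratification (helper21)

For a linear map `d : Q₀ → Q₁` of finite projective modules over a ring `A` and `r : ℕ` we produce
finitely generated ideals `I`, `J` of `A` such that, for an `A`-algebra `B`, the cokernel of `B ⊗ d`
is projective of rank `rank Q₁ - rank Q₀ + r` (so that `ker (B ⊗ d)` is projective of rank `r` and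
commutes with every base change) if and only if `I B = 0` and `J B = B`.
-/

set_option autoImplicit false
set_option linter.style.haveILetI false
universe u
open TensorProduct

namespace Groth.Agent.Lib.Helper21.GBC41

section AC
variable {B : Type u} [CommRing B] {M₀ M₁ : Type u} [AddCommGroup M₀] [Module B M₀]
  [AddCommGroup M₁] [Module B M₁]

/-- the cokernel of `d` is projective and `rank coker d + rank M₀ = rank M₁ + r` -/
def AC (r : ℕ) (d : M₀ →ₗ[B] M₁) : Prop :=
  Module.Projective B (M₁ ⧸ LinearMap.range d) ∧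
    ∀ q : PrimeSpectrum B, Module.rankAtStalk (M₁ ⧸ LinearMap.range d) q + Module.rankAtStalk M₀ q =
      Module.rankAtStalk M₁ q + r

/-- the cokernel computed by any exact sequence -/
noncomputable def cokerEquiv {W : Type u} [AddCommGroup W] [Module B W] (d : M₀ →ₗ[B] M₁)
    (g : M₁ →ₗ[B] W) (hex : Function.Exact d g) (hg : Function.Surjective g) :
    (M₁ ⧸ LinearMap.range d) ≃ₗ[B] W :=
  (Submodule.quotEquivOfEq _ _ hex.linearMap_ker_eq.symm).trans (g.quotKerEquivOfSurjective hg)

theorem ac_iff_of_exact {W : Type u} [AddCommGroup W] [Module B W] (r : ℕ) (d : M₀ →ₗ[B] M₁)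
    (g : M₁ →ₗ[B] W) (hex : Function.Exact d g) (hg : Function.Surjective g) :
    AC r d ↔ (Module.Projective B W ∧
      ∀ q : PrimeSpectrum B, Module.rankAtStalk W q + Module.rankAtStalk M₀ q =
        Module.rankAtStalk M₁ q + r) := by
  let e := cokerEquiv d g hex hg
  have hr : Module.rankAtStalk (R := B) (M₁ ⧸ LinearMap.range d) = Module.rankAtStalk W :=
    Module.rankAtStalk_eq_of_equiv e
  unfold AC
  rw [hr]
  constructor
  · rintro ⟨h1, h2⟩
    exact ⟨Module.Projective.of_equiv e, h2⟩
  · rintro ⟨h1, h2⟩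
    exact ⟨Module.Projective.of_equiv e.symm, h2⟩

/-- invariance under isomorphisms of arrows -/
theorem ac_congr {N₀ N₁ : Type u} [AddCommGroup N₀] [Module B N₀] [AddCommGroup N₁] [Module B N₁]
    (r : ℕ) (d : M₀ →ₗ[B] M₁) (d' : N₀ →ₗ[B] N₁) (e₀ : M₀ ≃ₗ[B] N₀) (e₁ : M₁ ≃ₗ[B] N₁)
    (h : ∀ m, e₁ (d m) = d' (e₀ m)) : AC r d ↔ AC r d' := by
  have hex : Function.Exact d ((LinearMap.range d').mkQ ∘ₗ e₁.toLinearMap) := by
    intro y
    simp only [LinearMap.coe_comp, LinearEquiv.coe_coe, Function.comp_apply, Submodule.mkQ_apply,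
      Submodule.Quotient.mk_eq_zero, LinearMap.mem_range, Set.mem_range]
    constructor
    · rintro ⟨x, hx⟩
      refine ⟨e₀.symm x, ?_⟩
      apply e₁.injective
      rw [h, LinearEquiv.apply_symm_apply, hx]
    · rintro ⟨x, rfl⟩
      exact ⟨e₀ x, (h x).symm⟩
  have hg : Function.Surjective ((LinearMap.range d').mkQ ∘ₗ e₁.toLinearMap) :=
    (Submodule.mkQ_surjective _).comp e₁.surjective
  rw [ac_iff_of_exact r d _ hex hg]
  unfold AC
  rw [Module.rankAtStalk_eq_of_equiv e₀, Module.rankAtStalk_eq_of_equiv e₁]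

end AC

section Split
variable {R : Type u} [CommRing R] {M N P : Type u} [AddCommGroup M] [Module R M]
  [AddCommGroup N] [Module R N] [AddCommGroup P] [Module R P]

theorem nonempty_equiv_prod_of_projective (f : M →ₗ[R] N) (g : N →ₗ[R] P)
    (hex : Function.Exact f g) (hf : Function.Injective f) (hg : Function.Surjective g)
    [Module.Projective R P] : Nonempty (N ≃ₗ[R] M × P) := by
  obtain ⟨l, hl⟩ := Module.projective_lifting_property g LinearMap.id hg
  exact ⟨(hex.splitSurjectiveEquiv hf ⟨l, hl⟩).1⟩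

theorem projective_of_prod_left (e : N ≃ₗ[R] M × P) [Module.Projective R N] :
    Module.Projective R M :=
  Module.Projective.of_split (R := R) (M := N) (P := M)
    (e.symm.toLinearMap ∘ₗ LinearMap.inl R M P)
    (LinearMap.fst R M P ∘ₗ e.toLinearMap) (by
      apply LinearMap.ext
      intro m
      simp)

theorem finite_of_prod_left (e : N ≃ₗ[R] M × P) [Module.Finite R N] : Module.Finite R M :=
  Module.Finite.of_surjective (LinearMap.fst R M P ∘ₗ e.toLinearMap)
    (fun m => ⟨e.symm (m, 0), by simp⟩)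

end Split

section RK
variable {B : Type u} [CommRing B] {M₀ M₁ : Type u} [AddCommGroup M₀] [Module B M₀]
  [AddCommGroup M₁] [Module B M₁]

/-- **if the cokernel is projective, so is the kernel, and the ranks add up** -/
theorem ker_of_projective_coker [Module.Finite B M₀] [Module.Projective B M₀] [Module.Finite B M₁]
    [Module.Projective B M₁] (d : M₀ →ₗ[B] M₁)
    [Module.Projective B (M₁ ⧸ LinearMap.range d)] :
    Module.Finite B (LinearMap.ker d) ∧ Module.Projective B (LinearMap.ker d) ∧
      ∀ q : PrimeSpectrum B, Module.rankAtStalk (LinearMap.ker d) q + Module.rankAtStalk M₁ q =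
        Module.rankAtStalk M₀ q + Module.rankAtStalk (M₁ ⧸ LinearMap.range d) q := by
  obtain ⟨e1⟩ := nonempty_equiv_prod_of_projective (LinearMap.range d).subtype
    (LinearMap.range d).mkQ (LinearMap.exact_subtype_mkQ _) (Submodule.subtype_injective _)
    (Submodule.mkQ_surjective _)
  haveI : Module.Projective B (LinearMap.range d) := projective_of_prod_left e1
  haveI : Module.Finite B (LinearMap.range d) := finite_of_prod_left e1
  have hex2 : Function.Exact (LinearMap.ker d).subtype d.rangeRestrict := by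
    intro x
    constructor
    · intro hx
      have hx' : d x = 0 := congrArg Subtype.val hx
      exact ⟨⟨x, hx'⟩, rfl⟩
    · rintro ⟨y, rfl⟩
      apply Subtype.ext
      exact y.2
  obtain ⟨e2⟩ := nonempty_equiv_prod_of_projective (LinearMap.ker d).subtype d.rangeRestrict
    hex2 (Submodule.subtype_injective _) d.surjective_rangeRestrict
  haveI : Module.Projective B (LinearMap.ker d) := projective_of_prod_left e2
  haveI : Module.Finite B (LinearMap.ker d) := finite_of_prod_left e2
  haveI : Module.Finite B (M₁ ⧸ LinearMap.range d) := inferInstance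
  refine ⟨inferInstance, inferInstance, fun q => ?_⟩
  have r1 := congrFun (Module.rankAtStalk_eq_of_equiv e1) q
  have r2 := congrFun (Module.rankAtStalk_eq_of_equiv e2) q
  rw [Module.rankAtStalk_prod] at r1 r2
  simp only [Pi.add_apply] at r1 r2
  omega

end RK

section Field
variable {K : Type u} [Field K] {V₀ V₁ : Type u} [AddCommGroup V₀] [Module K V₀]
  [AddCommGroup V₁] [Module K V₁] [Module.Finite K V₀] [Module.Finite K V₁]

theorem finrank_coker_add (d : V₀ →ₗ[K] V₁) :
    Module.finrank K (V₁ ⧸ LinearMap.range d) + Module.finrank K V₀ =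
      Module.finrank K V₁ + Module.finrank K (LinearMap.ker d) := by
  have h1 := Submodule.finrank_quotient_add_finrank (LinearMap.range d)
  have h2 := LinearMap.finrank_range_add_finrank_ker d
  omega

end Field

section Complement
variable (A : Type u) [CommRing A] (Q : Type u) [AddCommGroup Q] [Module A Q] [Module.Finite A Q]
  [Module.Projective A Q]

theorem exists_complement :
    ∃ (m : ℕ) (K : Submodule A (Fin m → A)), Module.Finite A K ∧ Module.Projective A K ∧
      Nonempty ((Fin m → A) ≃ₗ[A] K × Q) := by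
  obtain ⟨m, f, g, hf, -, -⟩ := Module.Finite.exists_comp_eq_id_of_projective A Q
  obtain ⟨e⟩ := nonempty_equiv_prod_of_projective (LinearMap.ker f).subtype f
    (LinearMap.exact_subtype_ker_map f) (Submodule.subtype_injective _) hf
  exact ⟨m, LinearMap.ker f, finite_of_prod_left e, projective_of_prod_left e, ⟨e⟩⟩

end Complement

section Main
variable (A : Type u) [CommRing A] {Q₀ Q₁ : Type u} [AddCommGroup Q₀] [Module A Q₀]
  [AddCommGroup Q₁] [Module A Q₁] [Module.Finite A Q₀] [Module.Projective A Q₀]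
  [Module.Finite A Q₁] [Module.Projective A Q₁] (d : Q₀ →ₗ[A] Q₁)

omit [Module.Finite A Q₀] [Module.Projective A Q₀] [Module.Finite A Q₁]
  [Module.Projective A Q₁] in
theorem exact_baseChange (B : Type u) [CommRing B] [Algebra A B] :
    Function.Exact (d.baseChange B) ((LinearMap.range d).mkQ.baseChange B) ∧
      Function.Surjective ((LinearMap.range d).mkQ.baseChange B) := by
  constructor
  · have h := lTensor_exact B (LinearMap.exact_map_mkQ_range d) (Submodule.mkQ_surjective _)
    intro y
    rw [LinearMap.baseChange_eq_ltensor, LinearMap.baseChange_eq_ltensor]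
    exact h y
  · rw [LinearMap.baseChange_eq_ltensor]
    exact LinearMap.lTensor_surjective B (Submodule.mkQ_surjective _)

theorem rank_complement {m : ℕ} (K : Submodule A (Fin m → A)) [Module.Finite A K]
    [Module.Projective A K] (eK : (Fin m → A) ≃ₗ[A] K × Q₁) (B : Type u) [CommRing B]
    [Algebra A B] (q : PrimeSpectrum B) :
    Module.rankAtStalk (B ⊗[A] K) q + Module.rankAtStalk (B ⊗[A] Q₁) q = m := by
  haveI : Nontrivial A := by
    have hp := (q.comap (algebraMap A B)).isPrime
    exact ⟨⟨0, 1, fun h => hp.ne_top (by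
      rw [Ideal.eq_top_iff_one, ← h]
      exact Ideal.zero_mem _)⟩⟩
  rw [Module.rankAtStalk_baseChange, Module.rankAtStalk_baseChange]
  have h1 := congrFun (Module.rankAtStalk_eq_of_equiv eK) (q.comap (algebraMap A B))
  rw [Module.rankAtStalk_prod, Module.rankAtStalk_eq_finrank_of_free] at h1
  simp only [Pi.add_apply, Module.finrank_fin_fun] at h1
  have h2 : ((m : PrimeSpectrum A → ℕ)) (q.comap (algebraMap A B)) = m := rfl
  omega

/-- the auxiliary module whose Fitting ideals cut out the stratum -/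
abbrev EMod {m : ℕ} (K : Submodule A (Fin m → A)) : Type u :=
  (Q₁ ⧸ LinearMap.range d) × (Q₀ × K)

theorem ac_baseChange_iff (r : ℕ) {m : ℕ} (K : Submodule A (Fin m → A)) [Module.Finite A K]
    [Module.Projective A K] (eK : (Fin m → A) ≃ₗ[A] K × Q₁) (B : Type u) [CommRing B]
    [Algebra A B] :
    AC r (d.baseChange B) ↔
      (Module.Projective B (B ⊗[A] EMod A d K) ∧
        ∀ q : PrimeSpectrum B, Module.rankAtStalk (B ⊗[A] EMod A d K) q = m + r) := by
  obtain ⟨hex, hsurj⟩ := exact_baseChange A d B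
  rw [ac_iff_of_exact r _ _ hex hsurj]
  let e1 : B ⊗[A] EMod A d K ≃ₗ[B] (B ⊗[A] (Q₁ ⧸ LinearMap.range d)) × (B ⊗[A] (Q₀ × K)) :=
    TensorProduct.prodRight A B B _ _
  let e2 : B ⊗[A] (Q₀ × K) ≃ₗ[B] (B ⊗[A] Q₀) × (B ⊗[A] K) := TensorProduct.prodRight A B B _ _
  have hrk2 : ∀ q : PrimeSpectrum B, Module.rankAtStalk (B ⊗[A] (Q₀ × K)) q =
      Module.rankAtStalk (B ⊗[A] Q₀) q + Module.rankAtStalk (B ⊗[A] K) q := by
    intro q
    have h := congrFun (Module.rankAtStalk_eq_of_equiv e2) q
    rw [Module.rankAtStalk_prod] at h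
    exact h
  constructor
  · rintro ⟨hp, hr⟩
    haveI := hp
    refine ⟨Module.Projective.of_equiv e1.symm, fun q => ?_⟩
    have h := congrFun (Module.rankAtStalk_eq_of_equiv e1) q
    rw [Module.rankAtStalk_prod] at h
    simp only [Pi.add_apply] at h
    have h3 := rank_complement A K eK B q
    have h4 := hrk2 q
    have h5 := hr q
    omega
  · rintro ⟨hp, hr⟩
    haveI := hp
    haveI : Module.Projective B (B ⊗[A] (Q₁ ⧸ LinearMap.range d)) :=
      projective_of_prod_left e1
    refine ⟨inferInstance, fun q => ?_⟩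
    have h := congrFun (Module.rankAtStalk_eq_of_equiv e1) q
    rw [Module.rankAtStalk_prod] at h
    simp only [Pi.add_apply] at h
    have h3 := rank_complement A K eK B q
    have h4 := hrk2 q
    have h5 := hr q
    omega

theorem finrank_EMod_field {m : ℕ} (K : Submodule A (Fin m → A)) [Module.Finite A K]
    [Module.Projective A K] (eK : (Fin m → A) ≃ₗ[A] K × Q₁) (L : Type u) [Field L]
    [Algebra A L] :
    Module.finrank L (L ⊗[A] EMod A d K) =
      m + Module.finrank L (LinearMap.ker (d.baseChange L)) := by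
  obtain ⟨hex, hsurj⟩ := exact_baseChange A d L
  let e1 : L ⊗[A] EMod A d K ≃ₗ[L] (L ⊗[A] (Q₁ ⧸ LinearMap.range d)) × (L ⊗[A] (Q₀ × K)) :=
    TensorProduct.prodRight A L L _ _
  let e2 : L ⊗[A] (Q₀ × K) ≃ₗ[L] (L ⊗[A] Q₀) × (L ⊗[A] K) := TensorProduct.prodRight A L L _ _
  let e3 := cokerEquiv (d.baseChange L) _ hex hsurj
  have h1 := e1.finrank_eq
  have h2 := e2.finrank_eq
  have h3 := e3.finrank_eq
  rw [Module.finrank_prod] at h1 h2
  have h4 := finrank_coker_add (d.baseChange L)
  have h5 := rank_complement A K eK L (⊥ : PrimeSpectrum L)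
  rw [Module.rankAtStalk_eq_finrank_of_free, Module.rankAtStalk_eq_finrank_of_free] at h5
  have h6 : ((Module.finrank L (L ⊗[A] K) : PrimeSpectrum L → ℕ)) ⊥ =
      Module.finrank L (L ⊗[A] K) := rfl
  have h7 : ((Module.finrank L (L ⊗[A] Q₁) : PrimeSpectrum L → ℕ)) ⊥ =
      Module.finrank L (L ⊗[A] Q₁) := rfl
  omega

/-- **the ideals cutting out the rank stratum** -/
theorem exists_ideals (r : ℕ) :
    ∃ I J : Ideal A, I.FG ∧ J.FG ∧
      (∀ (B : Type u) [CommRing B] [Algebra A B],
        AC r (d.baseChange B) ↔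
          (I.map (algebraMap A B) = ⊥ ∧ J.map (algebraMap A B) = ⊤)) ∧
      ∀ (L : Type u) [Field L] [Algebra A L],
        (J.map (algebraMap A L) = ⊤ ↔ Module.finrank L (LinearMap.ker (d.baseChange L)) ≤ r) ∧
          (I.map (algebraMap A L) = ⊥ ↔
            r ≤ Module.finrank L (LinearMap.ker (d.baseChange L))) := by
  obtain ⟨m, K, hKf, hKp, ⟨eK⟩⟩ := exists_complement A Q₁
  haveI := hKf
  haveI := hKp
  haveI : Module.FinitePresentation A Q₁ := Module.finitePresentation_of_projective A Q₁
  haveI : Module.FinitePresentation A Q₀ := Module.finitePresentation_of_projective A Q₀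
  haveI : Module.FinitePresentation A K := Module.finitePresentation_of_projective A K
  haveI : Module.FinitePresentation A (Q₁ ⧸ LinearMap.range d) := by
    refine Module.finitePresentation_of_surjective (LinearMap.range d).mkQ
      (Submodule.mkQ_surjective _) ?_
    rw [Submodule.ker_mkQ, LinearMap.range_eq_map]
    exact Module.Finite.fg_top.map d
  haveI : Module.FinitePresentation A (EMod A d K) := inferInstance
  set n := m + r with hn
  set J : Ideal A := Fitt.ideal A (EMod A d K) n with hJ
  set I : Ideal A := if n = 0 then ⊥ else Fitt.ideal A (EMod A d K) (n - 1) with hI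
  have hmono : ∀ k k' : ℕ, k ≤ k' → Fitt.ideal A (EMod A d K) k ≤ Fitt.ideal A (EMod A d K) k' :=
    fun k k' h => Groth.Agent.Helper18Fitt.fitt_mono h
  -- the condition `∀ k < n, Fitt_k B = ⊥` in terms of `I`
  have hIiff : ∀ (B : Type u) [CommRing B] [Algebra A B],
      (∀ k, k < n → (Fitt.ideal A (EMod A d K) k).map (algebraMap A B) = ⊥) ↔
        I.map (algebraMap A B) = ⊥ := by
    intro B _ _
    constructor
    · intro h
      rw [hI]
      split_ifs with h0
      · exact Ideal.map_bot
      · exact h (n - 1) (by omega)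
    · intro h k hk
      have h0 : n ≠ 0 := by omega
      rw [hI, if_neg h0] at h
      rw [← le_bot_iff, ← h]
      exact Ideal.map_mono (hmono k (n - 1) (by omega))
  refine ⟨I, J, ?_, ?_, fun B _ _ => ?_, fun L _ _ => ⟨?_, ?_⟩⟩
  · rw [hI]
    split_ifs
    · exact Submodule.fg_bot
    · exact Groth.Agent.Helper18Fitt.fitt_fg_of_fp inferInstance _
  · exact Groth.Agent.Helper18Fitt.fitt_fg_of_fp inferInstance _
  · rw [ac_baseChange_iff A d r K eK B,
      Groth.Agent.Lib.Helper26.FittStrat.projective_rank_iff_fitt (B ⊗[A] EMod A d K) n, ← hIiff B]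
    simp only [Groth.Agent.Helper18Fitt.fitt_baseChange]
    rw [hJ]
  · rw [hJ, ← Groth.Agent.Helper18Fitt.fitt_baseChange (R' := L)]
    have h1 := Groth.Agent.Helper18Fitt.fitt_field (K := L) (V := L ⊗[A] EMod A d K) n
    rw [finrank_EMod_field A d K eK L] at h1
    rcases Ideal.eq_bot_or_top (Fitt.ideal L (L ⊗[A] EMod A d K) n) with h | h
    · rw [h]
      constructor
      · intro h'
        exact absurd h'.symm top_ne_bot
      · intro h'
        exact absurd h (h1.2 (by omega))
    · rw [h]
      constructor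
      · intro _
        have := h1.1 (by rw [h]; exact top_ne_bot)
        omega
      · intro _
        rfl
  · rw [← hIiff L]
    constructor
    · intro h
      by_contra hlt
      push Not at hlt
      have h0 : Module.finrank L (LinearMap.ker (d.baseChange L)) + m < n := by omega
      have h2 := h (Module.finrank L (LinearMap.ker (d.baseChange L)) + m) h0
      rw [← Groth.Agent.Helper18Fitt.fitt_baseChange (R' := L)] at h2
      have h1 := Groth.Agent.Helper18Fitt.fitt_field (K := L) (V := L ⊗[A] EMod A d K)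
        (Module.finrank L (LinearMap.ker (d.baseChange L)) + m)
      rw [finrank_EMod_field A d K eK L] at h1
      exact h1.2 (by omega) h2
    · intro h k hk
      rw [← Groth.Agent.Helper18Fitt.fitt_baseChange (R' := L)]
      have h1 := Groth.Agent.Helper18Fitt.fitt_field (K := L) (V := L ⊗[A] EMod A d K) k
      rw [finrank_EMod_field A d K eK L] at h1
      by_contra hne
      have := h1.1 hne
      omega

end Main

section Cx
open CategoryTheory Groth.Agent.Lib.Helper21.BC0Cx

section homology
variable {B : Type u} [CommRing B] (K : ChainComplex (ModuleCat.{u} B) ℤ)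

/-- if `K_1 = 0`, `H_0 K` is the kernel of `K_0 → K_{-1}` -/
theorem nonempty_homology_zero_equiv_ker (hz : Limits.IsZero (K.X 1)) :
    Nonempty (↑(K.homology 0) ≃ₗ[B] LinearMap.ker (K.d 0 (-1)).hom) := by
  have hd : K.d 1 0 = 0 := hz.eq_of_src _ _
  haveI := K.isIso_homologyπ 1 0 (by simp) hd
  let e1 : K.cycles 0 ≅ K.homology 0 := asIso (K.homologyπ 0)
  let φ : ↑(K.cycles 0) →ₗ[B] LinearMap.ker (K.d 0 (-1)).hom :=
    LinearMap.codRestrict _ (K.iCycles 0).hom (fun w => by
      rw [LinearMap.mem_ker]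
      exact d_iCycles_apply K 0 (-1) w)
  have hφ : Function.Bijective φ := by
    constructor
    · intro a b hab
      apply iCycles_injective K 0
      exact congrArg Subtype.val hab
    · rintro ⟨z, hz'⟩
      obtain ⟨w, hw⟩ := exists_cycle K 0 (-1) (by simp) z hz'
      exact ⟨w, Subtype.ext hw⟩
  exact ⟨e1.symm.toLinearEquiv.trans (LinearEquiv.ofBijective φ hφ)⟩

end homology

section kercongr
variable {B : Type u} [CommRing B] {M₀ M₁ N₀ N₁ : Type u} [AddCommGroup M₀] [Module B M₀]
  [AddCommGroup M₁] [Module B M₁] [AddCommGroup N₀] [Module B N₀] [AddCommGroup N₁] [Module B N₁]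

/-- isomorphic arrows have isomorphic kernels -/
noncomputable def kerEquiv (d : M₀ →ₗ[B] M₁) (d' : N₀ →ₗ[B] N₁) (e₀ : M₀ ≃ₗ[B] N₀)
    (e₁ : M₁ ≃ₗ[B] N₁) (h : ∀ m, e₁ (d m) = d' (e₀ m)) :
    LinearMap.ker d ≃ₗ[B] LinearMap.ker d' :=
  LinearEquiv.ofBijective
    (LinearMap.codRestrict _ (e₀.toLinearMap ∘ₗ (LinearMap.ker d).subtype) (fun m => by
      rw [LinearMap.mem_ker]
      change d' (e₀ m.1) = 0
      rw [← h, LinearMap.mem_ker.1 m.2, map_zero]))
    ⟨fun a b hab => by
      apply Subtype.ext
      apply e₀.injective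
      exact congrArg Subtype.val hab,
    fun z => by
      refine ⟨⟨e₀.symm z.1, ?_⟩, ?_⟩
      · rw [LinearMap.mem_ker]
        apply e₁.injective
        rw [h, LinearEquiv.apply_symm_apply, LinearMap.mem_ker.1 z.2, map_zero]
      · apply Subtype.ext
        exact e₀.apply_symm_apply z.1⟩

end kercongr

variable {A₀ : Type u} [CommRing A₀] (P : ChainComplex (ModuleCat.{u} A₀) ℤ)

theorem ac_bcCx_iff (r : ℕ) (B : Type u) [CommRing B] [Algebra A₀ B] :
    AC r ((CohIII.bcCx (algebraMap A₀ B) P).d 0 (-1)).hom ↔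
      AC r ((P.d 0 (-1)).hom.baseChange B) :=
  ac_congr r _ _ (Groth.Agent.S2380.bridge A₀ B (P.X 0)) (Groth.Agent.S2380.bridge A₀ B (P.X (-1)))
    (fun m => Groth.Agent.S2380.bridge_naturality A₀ B (P.d 0 (-1)) m)

theorem dRank_zero_eq (hz : Limits.IsZero (P.X 1)) (y : PrimeSpectrum A₀) :
    CohIII.dRank P 0 y = Module.finrank y.asIdeal.ResidueField
      (LinearMap.ker ((P.d 0 (-1)).hom.baseChange y.asIdeal.ResidueField)) := by
  unfold CohIII.dRank
  have hzK : Limits.IsZero ((CohIII.bcCx (algebraMap A₀ y.asIdeal.ResidueField) P).X 1) :=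
    Functor.map_isZero (ModuleCat.extendScalars (algebraMap A₀ y.asIdeal.ResidueField)) hz
  obtain ⟨e⟩ := nonempty_homology_zero_equiv_ker _ hzK
  rw [e.finrank_eq]
  exact (kerEquiv _ _ (Groth.Agent.S2380.bridge A₀ _ (P.X 0))
    (Groth.Agent.S2380.bridge A₀ _ (P.X (-1)))
    (fun m => Groth.Agent.S2380.bridge_naturality A₀ _ (P.d 0 (-1)) m)).finrank_eq

/-- **the ideals cutting out the rank stratum of a complex** -/
theorem exists_ideals_cx [Module.Finite A₀ (P.X 0)] [Module.Projective A₀ (P.X 0)]
    [Module.Finite A₀ (P.X (-1))] [Module.Projective A₀ (P.X (-1))]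
    (hz : Limits.IsZero (P.X 1)) (r : ℕ) :
    ∃ I J : Ideal A₀, I.FG ∧ J.FG ∧
      (∀ (B : Type u) [CommRing B] (ρ : A₀ →+* B),
        AC r ((CohIII.bcCx ρ P).d 0 (-1)).hom ↔ (I.map ρ = ⊥ ∧ J.map ρ = ⊤)) ∧
      ∀ y : PrimeSpectrum A₀, (¬ J ≤ y.asIdeal ↔ CohIII.dRank P 0 y ≤ r) ∧
        (I ≤ y.asIdeal ↔ r ≤ CohIII.dRank P 0 y) := by
  obtain ⟨I, J, hI, hJ, hB, hL⟩ := exists_ideals A₀ (P.d 0 (-1)).hom r
  refine ⟨I, J, hI, hJ, fun B _ ρ => ?_, fun y => ?_⟩
  · letI : Algebra A₀ B := ρ.toAlgebra
    exact (ac_bcCx_iff P r B).trans (hB B)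
  · obtain ⟨h1, h2⟩ := hL y.asIdeal.ResidueField
    rw [dRank_zero_eq P hz y, ← h1, ← h2]
    have hker : RingHom.ker (algebraMap A₀ y.asIdeal.ResidueField) = y.asIdeal :=
      Ideal.ker_algebraMap_residueField _
    have hle : ∀ T : Ideal A₀, T ≤ y.asIdeal ↔
        T.map (algebraMap A₀ y.asIdeal.ResidueField) = ⊥ := by
      intro T
      rw [Ideal.map_eq_bot_iff_le_ker, hker]
    constructor
    · rw [hle J]
      constructor
      · intro h
        rcases Ideal.eq_bot_or_top (J.map (algebraMap A₀ y.asIdeal.ResidueField)) with h' | h'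
        · exact absurd h' h
        · exact h'
      · intro h h'
        rw [h] at h'
        exact top_ne_bot h'
    · exact hle I

end Cx

end Groth.Agent.Lib.Helper21.GBC41
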