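import Groth.Agent.Lib.Helper26ModRank
import Groth.Agent.Lib.Helper21GBC20

/-!
# General base change, part 42: finite locally free modules of rank `r` and their sections
(helper21)
-/

set_option autoImplicit false
set_option linter.style.haveILetI false
universe u
open TensorProduct
open CategoryTheory AlgebraicGeometry Limits TopologicalSpace
open Groth.Agent.Lib.Helper20.PullbackAff Groth.Agent.Lib.Helper20.Thickening
  Groth.Agent.Lib.Helper20.LocFree

namespace Groth.Agent.Lib.Helper21.GBC42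

section RT
variable {X : Scheme.{u}} (M : X.Modules) [M.IsQuasicoherent] {V D : X.Opens}
  (hV : IsAffineOpen V) (hD : IsAffineOpen D) (hle : D ≤ (𝟙 X) ⁻¹ᵁ V)

/-- the rank of the sections over a smaller affine open -/
theorem rankAtStalk_ΓUF_of_le [Module.Finite Γ(X, V) ((ΓUF hV).obj M)]
    [Module.Flat Γ(X, V) ((ΓUF hV).obj M)] (q' : PrimeSpectrum Γ(X, D)) :
    Module.rankAtStalk (R := Γ(X, D)) ((ΓUF hD).obj M) q' =
      Module.rankAtStalk (R := Γ(X, V)) ((ΓUF hV).obj M)
        (PrimeSpectrum.comap (Scheme.Hom.appLE (𝟙 X) V D hle).hom q') := by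
  letI : Algebra Γ(X, V) Γ(X, D) := (Scheme.Hom.appLE (𝟙 X) V D hle).hom.toAlgebra
  let e : (ΓUF hD).obj ((Scheme.Modules.pullback (𝟙 X)).obj M) ≃ₗ[Γ(X, D)]
      (Γ(X, D) ⊗[Γ(X, V)] ((ΓUF hV).obj M)) :=
    (ΓUFPullbackIso (𝟙 X) hV hD hle M).toLinearEquiv
  let e' : (ΓUF hD).obj ((Scheme.Modules.pullback (𝟙 X)).obj M) ≃ₗ[Γ(X, D)] (ΓUF hD).obj M :=
    ((ΓUF hD).mapIso ((Scheme.Modules.pullbackId X).app M)).toLinearEquiv
  have h1 := congrFun (Module.rankAtStalk_eq_of_equiv (e'.symm.trans e)) q'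
  rw [h1, Module.rankAtStalk_baseChange]
  rfl

include hle in
/-- the point of `Spec Γ(X, V)` below a point of `Spec Γ(X, D)` -/
theorem fromSpec_comap (q' : PrimeSpectrum Γ(X, D)) :
    hV.fromSpec (PrimeSpectrum.comap (Scheme.Hom.appLE (𝟙 X) V D hle).hom q') =
      hD.fromSpec q' := by
  have h := IsAffineOpen.SpecMap_appLE_fromSpec (𝟙 X) hV hD hle
  rw [Category.comp_id] at h
  have h2 := congrArg (fun t : Spec Γ(X, D) ⟶ X => t q') h
  exact h2

end RT

section LocC
variable {X : Scheme.{u}} (M : X.Modules) (r : ℕ)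

/-- the local condition: the sections over an affine open are finite projective of rank `r` -/
def LocC {V : X.Opens} (_ : IsAffineOpen V) : Prop :=
  Module.Finite Γ(X, V) Γ(M, V) ∧ Module.Projective Γ(X, V) Γ(M, V) ∧
    ∀ q : PrimeSpectrum Γ(X, V), Module.rankAtStalk (R := Γ(X, V)) Γ(M, V) q = r

end LocC

section SH
variable {X : Scheme.{u}} (M : X.Modules) [M.IsQuasicoherent] (r : ℕ)

/-- a basis indexed by `Fin m` determines the rank at every prime -/
theorem rankAtStalk_of_basis {R : Type u} [CommRing R] {N : Type u} [AddCommGroup N] [Module R N]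
    {m : ℕ} (b : Module.Basis (Fin m) R N) (q : PrimeSpectrum R) :
    Module.rankAtStalk N q = m := by
  haveI : Nontrivial R := by
    have hp := q.isPrime
    exact ⟨⟨0, 1, fun h => hp.ne_top (by
      rw [Ideal.eq_top_iff_one, ← h]
      exact Ideal.zero_mem _)⟩⟩
  haveI : Module.Free R N := Module.Free.of_basis b
  rw [Module.rankAtStalk_eq_finrank_of_free]
  have := Module.finrank_eq_card_basis b
  rw [Fintype.card_fin] at this
  exact this

/-- **sections of a finite locally free module of rank `r` over an affine open** -/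
theorem locC_of_isFinLocFreeOfRank (h : FlatMod.IsFinLocFreeOfRank r M) {V : X.Opens}
    (hV : IsAffineOpen V) : LocC M r hV := by
  have hflf : FlatMod.IsFinLocFree M := fun x => by
    obtain ⟨W, hx, e⟩ := h x
    exact ⟨W, r, hx, e⟩
  obtain ⟨hfin, hproj⟩ := Groth.Agent.Lib.Helper21.GBC20.sections_of_isFinLocFree_restrict M V hV
    (Groth.Agent.Lib.Helper1.SPL.isFinLocFree_restrict V.ι M hflf)
  refine ⟨hfin, hproj, fun q => ?_⟩
  let eV := ΓUEquiv hV M
  haveI : Module.Finite Γ(X, V) ((ΓUF hV).obj M) := Module.Finite.equiv eV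
  haveI : Module.Projective Γ(X, V) ((ΓUF hV).obj M) := Module.Projective.of_equiv eV
  rw [congrFun (Module.rankAtStalk_eq_of_equiv eV) q]
  -- the point and a small affine neighbourhood on which `M` is free
  have hxV : hV.fromSpec q ∈ V := by
    have h0 : hV.fromSpec q ∈ Set.range hV.fromSpec := ⟨q, rfl⟩
    rw [hV.range_fromSpec] at h0
    exact h0
  obtain ⟨W, hxW, ⟨e⟩⟩ := h (hV.fromSpec q)
  obtain ⟨D, hD, hxD, hDle⟩ := exists_isAffineOpen_mem_and_subset (x := hV.fromSpec q)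
    (U := V ⊓ W) ⟨hxV, hxW⟩
  obtain ⟨b⟩ := Groth.Agent.Lib.Helper26.ModRank.nonempty_basis_of_restrict_iso M e hD
    (hDle.trans inf_le_right)
  have hle : D ≤ (𝟙 X) ⁻¹ᵁ V := hDle.trans inf_le_left
  let q' : PrimeSpectrum Γ(X, D) := hD.primeIdealOf ⟨hV.fromSpec q, hxD⟩
  have h1 := rankAtStalk_ΓUF_of_le M hV hD hle q'
  have h2 := fromSpec_comap hV hD hle q'
  have h3 : hD.fromSpec q' = hV.fromSpec q := hD.fromSpec_primeIdealOf ⟨hV.fromSpec q, hxD⟩
  have h4 : PrimeSpectrum.comap (Scheme.Hom.appLE (𝟙 X) V D hle).hom q' = q :=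
    hV.fromSpec.isOpenEmbedding.injective (h2.trans h3)
  rw [h4] at h1
  rw [← h1]
  exact rankAtStalk_of_basis b q'

/-- **a quasi-coherent module whose sections over the members of an affine cover are finite
projective of rank `r` is finite locally free of rank `r`** -/
theorem isFinLocFreeOfRank_of_locC
    (h : ∀ x : X, ∃ (V : X.Opens) (hV : IsAffineOpen V), x ∈ V ∧ LocC M r hV) :
    FlatMod.IsFinLocFreeOfRank r M := by
  intro x
  obtain ⟨V, hV, hxV, hfin, hproj, hrk⟩ := h x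
  let eV := ΓUEquiv hV M
  haveI : Module.Finite Γ(X, V) ((ΓUF hV).obj M) := Module.Finite.equiv eV
  haveI : Module.Projective Γ(X, V) ((ΓUF hV).obj M) := Module.Projective.of_equiv eV
  haveI : Module.FinitePresentation Γ(X, V) ((ΓUF hV).obj M) :=
    Module.finitePresentation_of_projective _ _
  obtain ⟨D₀, m, hxD₀, hD₀V, ⟨e⟩⟩ := exists_restrict_iso_freeMod M hV x hxV
  obtain ⟨D, hD, hxD, hDle⟩ := exists_isAffineOpen_mem_and_subset (x := x) (U := D₀) hxD₀
  obtain ⟨b⟩ := Groth.Agent.Lib.Helper26.ModRank.nonempty_basis_of_restrict_iso M e hD hDle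
  have hle : D ≤ (𝟙 X) ⁻¹ᵁ V := hDle.trans hD₀V
  let q' : PrimeSpectrum Γ(X, D) := hD.primeIdealOf ⟨x, hxD⟩
  have h1 := rankAtStalk_ΓUF_of_le M hV hD hle q'
  rw [rankAtStalk_of_basis b q', ← congrFun (Module.rankAtStalk_eq_of_equiv eV) _, hrk] at h1
  subst h1
  exact ⟨D₀, hxD₀, ⟨e⟩⟩

end SH

end Groth.Agent.Lib.Helper21.GBC42
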