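import Groth.Agent.Lib.Helper21GBC40
import Groth.Agent.Lib.Helper21GBC41
import Groth.Agent.Lib.Helper21GBC42
import Groth.Agent.Lib.Helper21BC0Nhd

/-!
# General base change, part 43: the local criterion (helper21)

For a model `M` of `(f, F)` over an affine open `U` of the base, with chosen complex `P = M.cx`:
`f_* F` has sections over `U` which are finite projective of rank `r` and all the degree-`0` base change
maps over affine opens mapping into `U` are bijective if and only if the cokernel of the first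
differential of `P ⊗ Γ(S, U)` is projective of the appropriate rank.
-/

set_option autoImplicit false
set_option linter.style.haveILetI false
universe u
open CategoryTheory CategoryTheory.Limits AlgebraicGeometry TensorProduct Opposite TopologicalSpace

namespace Groth.Agent.Lib.Helper21.GBC43

open Groth.Agent.Lib.Helper17.StalkBC Groth.Agent.Helper13QcqsBC Groth.Agent.Helper13AffBC
  Groth.Agent.Lib.Helper21.BC0Alg Groth.Agent.Lib.Helper21.BC0Geo Groth.Agent.Lib.Helper21.BC0Cx
  Groth.Agent.Lib.Helper21.BC0Free Groth.Agent.Lib.Helper21.BC0Main Groth.Agent.Lib.Helper21.AlgBC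
  Groth.Agent.Lib.Helper21.NNBC Groth.Agent.Lib.Helper21.BC0Epi Groth.Agent.Lib.Helper21.BC0Loc
  Groth.Agent.Lib.Helper21.GBC40 Groth.Agent.Lib.Helper21.GBC41 Groth.Agent.Lib.Helper21.GBC42

section pure
variable {S : Scheme.{u}} {K : Type u} [Field K] (g : Spec (CommRingCat.of K) ⟶ S)

/-- the kernel condition at the spectrum of a field forces the cokernel of the first differential to be
free at the image point -/
theorem exists_mem_freeLocus_of_kerSurj {U : S.Opens} (hU : IsAffineOpen U)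
    (hle : (⊤ : (Spec (CommRingCat.of K)).Opens) ≤ g ⁻¹ᵁ U)
    (Q : ChainComplex (ModuleCat.{u} Γ(S, U)) ℤ) [Module.Finite Γ(S, U) (Q.X 0)]
    [Module.Finite Γ(S, U) (Q.X (-1))] [Module.Projective Γ(S, U) (Q.X (-1))]
    (h1 : letI : Algebra Γ(S, U) Γ(Spec (CommRingCat.of K), ⊤) := (g.appLE U ⊤ hle).hom.toAlgebra
      KerSurj Γ(Spec (CommRingCat.of K), ⊤) (Q.d 0 (-1)).hom)
    (x : Spec (CommRingCat.of K)) :
    ∃ q : PrimeSpectrum Γ(S, U), hU.fromSpec q = g x ∧
      q ∈ Module.freeLocus Γ(S, U) (Q.opcycles (-1)) := by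
  letI alg0 : Algebra Γ(S, U) Γ(Spec (CommRingCat.of K), ⊤) := (g.appLE U ⊤ hle).hom.toAlgebra
  let ρ : Γ(S, U) →+* K := (g.appLE U ⊤ hle ≫ (Scheme.ΓSpecIso (CommRingCat.of K)).hom).hom
  letI : Algebra Γ(S, U) K := ρ.toAlgebra
  let e : Γ(Spec (CommRingCat.of K), ⊤) ≃ₐ[Γ(S, U)] K :=
    AlgEquiv.ofRingEquiv (f := (Scheme.ΓSpecIso (CommRingCat.of K)).commRingCatIsoToRingEquiv)
      (fun a => rfl)
  have h2 : KerSurj K (Q.d 0 (-1)).hom := kerSurj_of_algEquiv e _ h1
  obtain ⟨hex, hsurj⟩ := exact_d_pOpcycles Q 0 (-1) (by simp)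
  have h3 := mem_freeLocus_of_kerSurj (Q.d 0 (-1)).hom (Q.pOpcycles (-1)).hom hex hsurj h2 x
  refine ⟨PrimeSpectrum.comap (algebraMap Γ(S, U) K) x, ?_, h3⟩
  have e1 := specMap_appLE_fromSpec g hU hle
  exact congrArg (fun t : Spec (CommRingCat.of K) ⟶ S => t x) e1

end pure

section clt
variable {X S : Scheme.{u}} {f : X ⟶ S} {F : X.Modules} {U : S.Opens} {hU : IsAffineOpen U}

/-- all the degree-`0` base change maps over affine opens mapping into `U` are bijective -/
def BCU (f : X ⟶ S) (F : X.Modules) (U : S.Opens) : Prop :=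
  ∀ {S' X' : Scheme.{u}} (g : S' ⟶ S) (g' : X' ⟶ X) (f' : X' ⟶ S') (h : IsPullback g' f' f g)
    {U' : S'.Opens} (_ : IsAffineOpen U') (_ : U' ≤ g ⁻¹ᵁ U),
    Function.Bijective ((bcMap f g g' f' h F).app U')

variable [QuasiCompact f] [QuasiSeparated f] [F.IsQuasicoherent] (M : Model f F hU)

/-- the base change of the chosen complex to `Γ(S, U)` -/
noncomputable abbrev QA : ChainComplex (ModuleCat.{u} Γ(S, U)) ℤ := CohIII.bcCx M.φ.hom M.cx

theorem finite_QA (i : ℤ) : Module.Finite Γ(S, U) ((QA M).X i) := by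
  letI : Algebra M.A₀ Γ(S, U) := M.φ.hom.toAlgebra
  obtain ⟨hP, -⟩ := M.cx_complex0
  haveI := (hP i).1
  exact finite_bcCx_X M.cx Γ(S, U) i

theorem projective_QA (i : ℤ) : Module.Projective Γ(S, U) ((QA M).X i) := by
  letI : Algebra M.A₀ Γ(S, U) := M.φ.hom.toAlgebra
  obtain ⟨hP, -⟩ := M.cx_complex0
  haveI := (hP i).2
  exact projective_bcCx_X M.cx Γ(S, U) i

theorem isZero_cx_one : IsZero (M.cx.X 1) := by
  obtain ⟨-, ⟨N, hN⟩, -⟩ := M.cx_complex0
  exact hN 1 (Or.inl one_pos)

theorem isZero_QA_one : IsZero ((QA M).X 1) :=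
  Functor.map_isZero (ModuleCat.extendScalars M.φ.hom) (isZero_cx_one M)

/-- the sections of `f_* F` over `U` are the kernel of the first differential -/
theorem nonempty_sections_equiv_ker :
    Nonempty (Γ((Scheme.Modules.pushforward f).obj F, U) ≃ₗ[Γ(S, U)]
      LinearMap.ker ((QA M).d 0 (-1)).hom) := by
  obtain ⟨e1⟩ := M.cx_sections
  obtain ⟨e2⟩ := nonempty_homology_zero_equiv_ker (QA M) (isZero_QA_one M)
  exact ⟨e1.trans e2⟩

/-- **the local criterion** -/
theorem clt (r : ℕ) :
    (LocC ((Scheme.Modules.pushforward f).obj F) r hU ∧ BCU f F U) ↔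
      AC r ((QA M).d 0 (-1)).hom := by
  haveI : ((Scheme.Modules.pushforward f).obj F).IsQuasicoherent :=
    Groth.Agent.Lib.Helper23.QCohLocal.isQuasicoherent_pushforward f F
  haveI := finite_QA M 0
  haveI := finite_QA M (-1)
  haveI := projective_QA M 0
  haveI := projective_QA M (-1)
  obtain ⟨hex, hsurj⟩ := exact_d_pOpcycles (QA M) 0 (-1) (by simp)
  obtain ⟨e⟩ := nonempty_sections_equiv_ker M
  obtain ⟨-, -, -, hK⟩ := M.cx_complex0
  constructor
  · rintro ⟨⟨hfin, hproj, hrk⟩, hbc⟩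
    haveI : Module.FinitePresentation Γ(S, U) ((QA M).opcycles (-1)) :=
      finitePresentation_opcycles (QA M) 0 (-1) (by simp)
    have hfree : ∀ q : PrimeSpectrum Γ(S, U),
        q ∈ Module.freeLocus Γ(S, U) ((QA M).opcycles (-1)) := by
      intro q
      let g : Spec (CommRingCat.of q.asIdeal.ResidueField) ⟶ S :=
        Spec.map (CommRingCat.ofHom (algebraMap Γ(S, U) q.asIdeal.ResidueField)) ≫ hU.fromSpec
      have hgx : ∀ x : Spec (CommRingCat.of q.asIdeal.ResidueField), g x = hU.fromSpec q := by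
        intro x
        change hU.fromSpec (PrimeSpectrum.comap (algebraMap Γ(S, U) q.asIdeal.ResidueField) x) = _
        congr 1
        have hx : x = (⊥ : PrimeSpectrum q.asIdeal.ResidueField) := Subsingleton.elim _ _
        rw [hx]
        apply PrimeSpectrum.ext
        change Ideal.comap (algebraMap Γ(S, U) q.asIdeal.ResidueField) ⊥ = q.asIdeal
        rw [← RingHom.ker_eq_comap_bot]
        exact Ideal.ker_algebraMap_residueField _
      have hle : (⊤ : (Spec (CommRingCat.of q.asIdeal.ResidueField)).Opens) ≤ g ⁻¹ᵁ U := by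
        intro x _
        change g x ∈ U
        rw [hgx x]
        have h0 : hU.fromSpec q ∈ Set.range hU.fromSpec := ⟨q, rfl⟩
        rw [hU.range_fromSpec] at h0
        exact h0
      have hsq := IsPullback.of_hasPullback f g
      have hb := hbc g (pullback.fst f g) (pullback.snd f g) hsq (isAffineOpen_top _) hle
      have hks := (hK g _ _ hsq (isAffineOpen_top _) hle).2.1
        ((bcMap_app_iff f g _ _ hsq F hle hU (isAffineOpen_top _)).2.1 hb.2)
      obtain ⟨q', hq'1, hq'2⟩ := exists_mem_freeLocus_of_kerSurj g hU hle (QA M) hks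
        (⊥ : PrimeSpectrum q.asIdeal.ResidueField)
      have hqq : q' = q :=
        hU.fromSpec.isOpenEmbedding.injective (hq'1.trans (hgx _))
      rw [← hqq]
      exact hq'2
    have hWp : Module.Projective Γ(S, U) ((QA M).opcycles (-1)) := by
      rw [← Module.freeLocus_eq_univ_iff]
      exact Set.eq_univ_of_forall hfree
    haveI := hWp
    let eW := cokerEquiv ((QA M).d 0 (-1)).hom ((QA M).pOpcycles (-1)).hom hex hsurj
    haveI : Module.Projective Γ(S, U)
        (((QA M).X (-1)) ⧸ LinearMap.range ((QA M).d 0 (-1)).hom) :=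
      Module.Projective.of_equiv eW.symm
    obtain ⟨hkf, hkp, hkr⟩ := ker_of_projective_coker ((QA M).d 0 (-1)).hom
    refine ⟨inferInstance, fun q => ?_⟩
    have h1 := hkr q
    have h2 := hrk q
    rw [congrFun (Module.rankAtStalk_eq_of_equiv e) q] at h2
    omega
  · intro hac
    haveI : Module.Projective Γ(S, U)
        (((QA M).X (-1)) ⧸ LinearMap.range ((QA M).d 0 (-1)).hom) := hac.1
    obtain ⟨hWp, -⟩ := (ac_iff_of_exact r _ _ hex hsurj).1 hac
    haveI := hWp
    obtain ⟨hkf, hkp, hkr⟩ := ker_of_projective_coker ((QA M).d 0 (-1)).hom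
    haveI := hkf
    haveI := hkp
    refine ⟨⟨Module.Finite.equiv e.symm, Module.Projective.of_equiv e.symm, fun q => ?_⟩, ?_⟩
    · rw [congrFun (Module.rankAtStalk_eq_of_equiv e) q]
      have h1 := hkr q
      have h2 := hac.2 q
      omega
    · intro S' X' g g' f' h U' hU' hle
      letI : Algebra Γ(S, U) Γ(S', U') := (g.appLE U U' hle).hom.toAlgebra
      have hker : KerBC Γ(S', U') ((QA M).d 0 (-1)).hom :=
        kerBC_of_projective_opcycles (QA M) Γ(S', U')
      exact (bcMap_app_iff f g g' f' h F hle hU hU').1.2 ((hK g g' f' h hU' hle).1 hker)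

/-- the fibre dimension in degree `0` at the points of `U`, in terms of the chosen complex -/
theorem fiberRank_fromSpec (q : PrimeSpectrum Γ(S, U)) :
    CohIII.fiberRank f F 0 (hU.fromSpec q) =
      CohIII.dRank M.cx 0 (PrimeSpectrum.comap M.φ.hom q) := by
  obtain ⟨-, -, huniv, -⟩ := M.cx_complex0
  have hsq : IsPullback (f ⁻¹ᵁ U).ι (hRes f hU) f (Spec.map (𝟙 Γ(S, U)) ≫ hU.fromSpec) := by
    have e : Spec.map (𝟙 Γ(S, U)) ≫ hU.fromSpec = hU.fromSpec := by
      rw [Spec.map_id]
      exact Category.id_comp _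
    rw [e]
    exact isPullback_hRes f hU
  obtain ⟨hrk, -⟩ := huniv Γ(S, U) (𝟙 _) _ (hRes f hU) (f ⁻¹ᵁ U).ι hsq
  have h := hrk q 0
  have e00 : (-((0 : ℕ) : ℤ)) = 0 := by norm_num
  rw [e00, Category.comp_id] at h
  have e1 : (Spec.map (𝟙 Γ(S, U)) ≫ hU.fromSpec) q = hU.fromSpec q := by
    rw [Spec.map_id]
    rfl
  rw [e1] at h
  exact h.symm

end clt

section package
variable {X S : Scheme.{u}} (f : X ⟶ S) [IsProper f] [LocallyOfFinitePresentation f]
  (F : X.Modules) (hF : CohB1.IsFP F) (hflat : FlatMod.IsFlatOver f F) (r : ℕ)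

/-- the local condition on a base change `(f', G)` over an affine open `V` of the new base -/
def CondV {T X' : Scheme.{u}} (f' : X' ⟶ T) (G : X'.Modules) (r : ℕ) {V : T.Opens}
    (hV : IsAffineOpen V) : Prop :=
  LocC ((Scheme.Modules.pushforward f').obj G) r hV ∧ BCU f' G V

include hF hflat in
/-- **the local package**: over an affine open `U` of the base there are finitely generated ideals
`I`, `J` of `Γ(S, U)` controlling the local condition for every base change. -/
theorem exists_local_ideals {U : S.Opens} (hU : IsAffineOpen U) :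
    ∃ I J : Ideal Γ(S, U), I.FG ∧ J.FG ∧
      (∀ {T X' : Scheme.{u}} (g : T ⟶ S) (g' : X' ⟶ X) (f' : X' ⟶ T) (_ : IsPullback g' f' f g)
        {V : T.Opens} (hV : IsAffineOpen V) (hle : V ≤ g ⁻¹ᵁ U),
        CondV f' ((Scheme.Modules.pullback g').obj F) r hV ↔
          (I.map (g.appLE U V hle).hom = ⊥ ∧ J.map (g.appLE U V hle).hom = ⊤)) ∧
      ∀ q : PrimeSpectrum Γ(S, U),
        (¬ J ≤ q.asIdeal ↔ CohIII.fiberRank f F 0 (hU.fromSpec q) ≤ r) ∧
          (I ≤ q.asIdeal ↔ r ≤ CohIII.fiberRank f F 0 (hU.fromSpec q)) := by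
  haveI hq : F.IsQuasicoherent := Groth.Agent.Helper18Strict.isQCoh_of_isFP F hF
  obtain ⟨M⟩ := nonempty_model f F hF hflat hU
  obtain ⟨hP, -⟩ := M.cx_complex0
  haveI := (hP 0).1
  haveI := (hP 0).2
  haveI := (hP (-1)).1
  haveI := (hP (-1)).2
  obtain ⟨I₀, J₀, hI₀, hJ₀, hB, hy⟩ := exists_ideals_cx M.cx (isZero_cx_one M) r
  refine ⟨I₀.map M.φ.hom, J₀.map M.φ.hom, hI₀.map _, hJ₀.map _, ?_, fun q => ?_⟩
  · intro T X' g g' f' h V hV hle
    haveI : QuasiCompact f' := MorphismProperty.of_isPullback (P := @QuasiCompact) h inferInstance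
    haveI : QuasiSeparated f' :=
      MorphismProperty.of_isPullback (P := @QuasiSeparated) h inferInstance
    haveI : ((Scheme.Modules.pullback g').obj F).IsQuasicoherent :=
      Groth.Agent.Lib.Helper2.PullbackSec.isQuasicoherent_pullback _ _
    have h1 := clt (M.ofSquare g g' f' h hV hle) r
    have h2 := hB Γ(T, V) (M.φ ≫ g.appLE U V hle).hom
    rw [Ideal.map_map, Ideal.map_map]
    exact h1.trans h2
  · have h1 := fiberRank_fromSpec M q
    obtain ⟨h2, h3⟩ := hy (PrimeSpectrum.comap M.φ.hom q)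
    rw [h1, ← h2, ← h3, Ideal.map_le_iff_le_comap, Ideal.map_le_iff_le_comap]
    exact ⟨Iff.rfl, Iff.rfl⟩

end package

end Groth.Agent.Lib.Helper21.GBC43
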