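import Groth.Agent.Lib.Helper21GBC43
import Groth.Agent.Lib.Helper18PP3

/-!
# General base change, part 44: the universal locally closed subscheme over which `f_* F` is locally
free of rank `r` and commutes with base change (helper21)
-/

set_option autoImplicit false
set_option linter.style.haveILetI false
universe u
open CategoryTheory CategoryTheory.Limits AlgebraicGeometry TensorProduct Opposite TopologicalSpace

namespace Groth.Agent.Lib.Helper21.GBC44

open Groth.Agent.Helper13AffBC Groth.Agent.Lib.Helper21.GBC42 Groth.Agent.Lib.Helper21.GBC43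

section loc
variable {T X' : Scheme.{u}} (f' : X' ⟶ T) (G : X'.Modules) (r : ℕ)

/-- the condition of the statement: the direct image is finite locally free of rank `r` and commutes
with every base change -/
def GCond : Prop :=
  FlatMod.IsFinLocFreeOfRank r ((Scheme.Modules.pushforward f').obj G) ∧
    ∀ ⦃X'' T' : Scheme.{u}⦄ (v' : X'' ⟶ X') (f'' : X'' ⟶ T') (u' : T' ⟶ T)
      (h : IsPullback v' f'' f' u'), IsIso (CohBC.bc0 f' u' f'' v' h.w G)

variable [QuasiCompact f'] [QuasiSeparated f'] [G.IsQuasicoherent]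

/-- the global condition implies the local condition on every affine open -/
theorem condV_of_gCond (h : GCond f' G r) {V : T.Opens} (hV : IsAffineOpen V) :
    CondV f' G r hV := by
  haveI : ((Scheme.Modules.pushforward f').obj G).IsQuasicoherent :=
    Groth.Agent.Lib.Helper23.QCohLocal.isQuasicoherent_pushforward f' G
  refine ⟨locC_of_isFinLocFreeOfRank _ r h.1 hV, ?_⟩
  intro T' X'' g₂ g₂' f'' h₂ V' hV' hle
  haveI : IsIso (bcMap f' g₂ g₂' f'' h₂ G) := h.2 g₂' f'' g₂ h₂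
  exact ConcreteCategory.bijective_of_isIso ((bcMap f' g₂ g₂' f'' h₂ G).app V')

/-- the global condition follows from the local condition on an affine cover -/
theorem gCond_of_condV
    (hP : ∀ t : T, ∃ (V : T.Opens) (hV : IsAffineOpen V), t ∈ V ∧ CondV f' G r hV) :
    GCond f' G r := by
  haveI : ((Scheme.Modules.pushforward f').obj G).IsQuasicoherent :=
    Groth.Agent.Lib.Helper23.QCohLocal.isQuasicoherent_pushforward f' G
  constructor
  · refine isFinLocFreeOfRank_of_locC _ r (fun t => ?_)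
    obtain ⟨V, hV, htV, hc⟩ := hP t
    exact ⟨V, hV, htV, hc.1⟩
  · intro X'' T' v' f'' u' h
    change IsIso (bcMap f' u' v' f'' h G)
    let ι : Type u := {V' : T'.Opens // IsAffineOpen V' ∧
      ∃ (V : T.Opens) (hV : IsAffineOpen V), CondV f' G r hV ∧ V' ≤ u' ⁻¹ᵁ V}
    refine isIso_of_bijective_on_basis _ (fun i : ι => i.1) ?_ ?_
    · rw [Opens.isBasis_iff_nbhd]
      intro W' y hyW
      obtain ⟨V, hV, hyV, hc⟩ := hP (u' y)
      obtain ⟨V', hV', hyV', hV'W⟩ := exists_isAffineOpen_mem_and_subset (x := y)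
        (U := W' ⊓ u' ⁻¹ᵁ V) ⟨hyW, hyV⟩
      exact ⟨V', ⟨⟨V', hV', V, hV, hc, hV'W.trans inf_le_right⟩, rfl⟩, hyV',
        hV'W.trans inf_le_left⟩
    · rintro ⟨V', hV', V, hV, hc, hle⟩
      exact hc.2 u' v' f'' h hV' hle

end loc

section ideals
variable {X S : Scheme.{u}} (f : X ⟶ S) (F : X.Modules) (r : ℕ)

/-- the local package over an affine open of the base -/
structure LocalIdeals {U : S.Opens} (hU : IsAffineOpen U) where
  I : Ideal Γ(S, U)
  J : Ideal Γ(S, U)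
  hI : I.FG
  hJ : J.FG
  lt : ∀ {T X' : Scheme.{u}} (g : T ⟶ S) (g' : X' ⟶ X) (f' : X' ⟶ T) (_ : IsPullback g' f' f g)
    {V : T.Opens} (hV : IsAffineOpen V) (hle : V ≤ g ⁻¹ᵁ U),
    CondV f' ((Scheme.Modules.pullback g').obj F) r hV ↔
      (I.map (g.appLE U V hle).hom = ⊥ ∧ J.map (g.appLE U V hle).hom = ⊤)
  pt : ∀ q : PrimeSpectrum Γ(S, U),
    (¬ J ≤ q.asIdeal ↔ CohIII.fiberRank f F 0 (hU.fromSpec q) ≤ r) ∧
      (I ≤ q.asIdeal ↔ r ≤ CohIII.fiberRank f F 0 (hU.fromSpec q))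

theorem nonempty_localIdeals [IsProper f] [LocallyOfFinitePresentation f] (hF : CohB1.IsFP F)
    (hflat : FlatMod.IsFlatOver f F) {U : S.Opens} (hU : IsAffineOpen U) :
    Nonempty (LocalIdeals f F r hU) := by
  obtain ⟨I, J, hI, hJ, hlt, hpt⟩ := exists_local_ideals f F hF hflat r hU
  exact ⟨⟨I, J, hI, hJ, hlt, hpt⟩⟩

variable {f F r}

section ring
variable {U : S.Opens} {hU : IsAffineOpen U} (L : LocalIdeals f F r hU)

/-- ideals mapped along an isomorphism -/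
theorem map_iso_eq_bot_top {A B C : CommRingCat.{u}} (a : A ⟶ B) (e : B ≅ C) (K : Ideal A) :
    (K.map (a ≫ e.hom).hom = ⊥ ↔ K.map a.hom = ⊥) ∧
      (K.map (a ≫ e.hom).hom = ⊤ ↔ K.map a.hom = ⊤) := by
  have hbij : Function.Bijective e.hom.hom := ConcreteCategory.bijective_of_isIso e.hom
  have hm : K.map (a ≫ e.hom).hom = (K.map a.hom).map e.hom.hom := by
    rw [CommRingCat.hom_comp, Ideal.map_map]
  rw [hm]
  constructor
  · exact Ideal.map_eq_bot_iff_of_injective hbij.1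
  · constructor
    · intro h
      have h2 := Ideal.comap_map_of_bijective e.hom.hom hbij (I := K.map a.hom)
      rw [h, Ideal.comap_top] at h2
      exact h2.symm
    · intro h
      rw [h]
      exact Ideal.map_top _

/-- **the local criterion in terms of ring maps** -/
theorem LocalIdeals.ring_lt {B : CommRingCat.{u}} (ψ : Γ(S, U) ⟶ B) {X' : Scheme.{u}}
    (g' : X' ⟶ X) (f' : X' ⟶ Spec B) (h : IsPullback g' f' f (Spec.map ψ ≫ hU.fromSpec)) :
    CondV f' ((Scheme.Modules.pullback g').obj F) r (isAffineOpen_top (Spec B)) ↔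
      (L.I.map ψ.hom = ⊥ ∧ L.J.map ψ.hom = ⊤) := by
  have hle : (⊤ : (Spec B).Opens) ≤ (Spec.map ψ ≫ hU.fromSpec) ⁻¹ᵁ U := by
    intro x _
    change hU.fromSpec (Spec.map ψ x) ∈ U
    have h0 : hU.fromSpec (Spec.map ψ x) ∈ Set.range hU.fromSpec := ⟨_, rfl⟩
    rw [hU.range_fromSpec] at h0
    exact h0
  rw [L.lt _ g' f' h (isAffineOpen_top _) hle]
  have e1 := Groth.Agent.Lib.Helper21.BC0Epi.specMap_appLE_fromSpec (Spec.map ψ ≫ hU.fromSpec)
    hU hle
  have e2 : Spec.map ((Spec.map ψ ≫ hU.fromSpec).appLE U ⊤ hle ≫ (Scheme.ΓSpecIso B).hom) =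
      Spec.map ψ := by
    rw [← cancel_mono hU.fromSpec]
    exact e1
  have e3 : (Spec.map ψ ≫ hU.fromSpec).appLE U ⊤ hle ≫ (Scheme.ΓSpecIso B).hom = ψ :=
    Spec.map_injective e2
  obtain ⟨k1, k2⟩ := map_iso_eq_bot_top ((Spec.map ψ ≫ hU.fromSpec).appLE U ⊤ hle)
    (Scheme.ΓSpecIso B) L.I
  obtain ⟨k3, k4⟩ := map_iso_eq_bot_top ((Spec.map ψ ≫ hU.fromSpec).appLE U ⊤ hle)
    (Scheme.ΓSpecIso B) L.J
  rw [e3] at k1 k2 k3 k4
  rw [k1, k4]

/-- if all the fibres over `U` have `h^0 ≤ r`, the second ideal is the unit ideal -/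
theorem LocalIdeals.J_eq_top (h : ∀ s ∈ U, CohIII.fiberRank f F 0 s ≤ r) : L.J = ⊤ := by
  by_contra hne
  obtain ⟨m, hm, hle⟩ := Ideal.exists_le_maximal _ hne
  have hq := (L.pt ⟨m, hm.isPrime⟩).1
  have hmem : hU.fromSpec ⟨m, hm.isPrime⟩ ∈ U := by
    have h0 : hU.fromSpec ⟨m, hm.isPrime⟩ ∈ Set.range hU.fromSpec := ⟨_, rfl⟩
    rw [hU.range_fromSpec] at h0
    exact h0
  exact (hq.2 (h _ hmem)) hle

end ring

section family
variable (D : ∀ U : S.affineOpens, LocalIdeals f F r U.2)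

/-- transfer of the conditions between two affine opens of the base -/
theorem tr {U U' : S.affineOpens} (i : U'.1 ⟶ U.1) {B : CommRingCat.{u}}
    (ψ' : Γ(S, U'.1) ⟶ B) :
    ((D U).I.map (S.presheaf.map i.op ≫ ψ').hom = ⊥ ∧
        (D U).J.map (S.presheaf.map i.op ≫ ψ').hom = ⊤) ↔
      ((D U').I.map ψ'.hom = ⊥ ∧ (D U').J.map ψ'.hom = ⊤) := by
  have e : Spec.map (S.presheaf.map i.op ≫ ψ') ≫ U.2.fromSpec =
      Spec.map ψ' ≫ U'.2.fromSpec := by
    rw [Spec.map_comp, Category.assoc, U.2.map_fromSpec U'.2 i.op]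
  have hsq := IsPullback.of_hasPullback f (Spec.map ψ' ≫ U'.2.fromSpec)
  have h1 := (D U').ring_lt ψ' _ _ hsq
  have hsq' : IsPullback (pullback.fst f (Spec.map ψ' ≫ U'.2.fromSpec))
      (pullback.snd f (Spec.map ψ' ≫ U'.2.fromSpec)) f
      (Spec.map (S.presheaf.map i.op ≫ ψ') ≫ U.2.fromSpec) := by
    rw [e]
    exact hsq
  have h2 := (D U).ring_lt (S.presheaf.map i.op ≫ ψ') _ _ hsq'
  exact h2.symm.trans h1

/-- the first ideal restricts into the first ideal of a smaller affine open with `h^0 ≤ r` -/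
theorem map_I_le {U U' : S.affineOpens} (i : U'.1 ⟶ U.1)
    (h' : ∀ s ∈ U'.1, CohIII.fiberRank f F 0 s ≤ r) :
    (D U).I.map (S.presheaf.map i.op).hom ≤ (D U').I := by
  have h1 := (tr D i (CommRingCat.ofHom (Ideal.Quotient.mk (D U').I))).2
    ⟨by rw [CommRingCat.hom_ofHom]; exact Ideal.map_quotient_self _,
      by rw [(D U').J_eq_top h']; exact Ideal.map_top _⟩
  have h2 := h1.1
  rw [CommRingCat.hom_comp, ← Ideal.map_map, CommRingCat.hom_ofHom,
    Ideal.map_eq_bot_iff_le_ker, Ideal.mk_ker] at h2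
  exact h2

/-- **compatibility of the first ideals** on the locus `h^0 ≤ r` -/
theorem map_I_eq {U U' : S.affineOpens} (i : U'.1 ⟶ U.1)
    (h : ∀ s ∈ U.1, CohIII.fiberRank f F 0 s ≤ r) :
    (D U).I.map (S.presheaf.map i.op).hom = (D U').I := by
  have h' : ∀ s ∈ U'.1, CohIII.fiberRank f F 0 s ≤ r := fun s hs => h s (i.le hs)
  refine le_antisymm (map_I_le D i h') ?_
  have h1 := (tr D i (CommRingCat.ofHom
    (Ideal.Quotient.mk ((D U).I.map (S.presheaf.map i.op).hom)))).1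
    ⟨by
      rw [CommRingCat.hom_comp, ← Ideal.map_map, CommRingCat.hom_ofHom]
      exact Ideal.map_quotient_self _,
     by rw [(D U).J_eq_top h]; exact Ideal.map_top _⟩
  have h2 := h1.1
  rw [CommRingCat.hom_ofHom, Ideal.map_eq_bot_iff_le_ker, Ideal.mk_ker] at h2
  exact h2

include D in
/-- the locus `h^0 ≤ r` is open -/
theorem isOpen_fiberRank_le : IsOpen {s : S | CohIII.fiberRank f F 0 s ≤ r} := by
  rw [isOpen_iff_forall_mem_open]
  intro s hs
  obtain ⟨U, hU, hsU, -⟩ := exists_isAffineOpen_mem_and_subset (x := s) (U := ⊤) trivial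
  let O : (Spec Γ(S, U)).Opens :=
    ⟨(PrimeSpectrum.zeroLocus ((D ⟨U, hU⟩).J : Set Γ(S, U)))ᶜ,
      (PrimeSpectrum.isClosed_zeroLocus _).isOpen_compl⟩
  refine ⟨hU.fromSpec ''ᵁ O, ?_, (hU.fromSpec ''ᵁ O).isOpen, ?_⟩
  · rintro _ ⟨q, hq, rfl⟩
    exact ((D ⟨U, hU⟩).pt q).1.1 (fun hle => hq ((PrimeSpectrum.mem_zeroLocus _ _).2 hle))
  · refine ⟨hU.primeIdealOf ⟨s, hsU⟩, ?_, hU.fromSpec_primeIdealOf ⟨s, hsU⟩⟩
    intro hmem
    have h1 := (PrimeSpectrum.mem_zeroLocus _ _).1 hmem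
    have h2 := ((D ⟨U, hU⟩).pt (hU.primeIdealOf ⟨s, hsU⟩)).1.2 (by
      rw [hU.fromSpec_primeIdealOf]
      exact hs)
    exact h2 h1

/-- the open locus `h^0 ≤ r` -/
def Sr : S.Opens := ⟨{s : S | CohIII.fiberRank f F 0 s ≤ r}, isOpen_fiberRank_le D⟩

theorem mem_Sr (s : S) : s ∈ Sr D ↔ CohIII.fiberRank f F 0 s ≤ r := Iff.rfl

/-- the ideal sheaf on the open locus `h^0 ≤ r` cutting out the locus `h^0 = r` -/
noncomputable def Kr : (Sr D : Scheme.{u}).IdealSheafData where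
  ideal W := (D ⟨(Sr D).ι ''ᵁ W.1, W.2.image_of_isOpenImmersion (Sr D).ι⟩).I
  map_ideal_basicOpen W a :=
    map_I_eq D (U := ⟨(Sr D).ι ''ᵁ W.1, W.2.image_of_isOpenImmersion (Sr D).ι⟩)
      (U' := ⟨(Sr D).ι ''ᵁ ((Sr D : Scheme.{u}).basicOpen a),
        ((Sr D : Scheme.{u}).affineBasicOpen a).2.image_of_isOpenImmersion (Sr D).ι⟩)
      ((Sr D).ι.opensFunctor.map (homOfLE ((Sr D : Scheme.{u}).basicOpen_le a)))
      (fun s hs => (Sr D).ι_image_le W.1 hs)

/-- the locally closed subscheme `h^0 = r` with its universal scheme structure -/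
noncomputable abbrev Zr : Scheme.{u} := (Kr D).subscheme

/-- its immersion into the base -/
noncomputable abbrev ιr : Zr D ⟶ S := (Kr D).subschemeι ≫ (Sr D).ι

theorem exists_factor_iff {T : Scheme.{u}} (u : T ⟶ S) :
    (∃ u' : T ⟶ Zr D, u' ≫ ιr D = u) ↔
      ∃ u₁ : T ⟶ (Sr D : Scheme.{u}), u₁ ≫ (Sr D).ι = u ∧ Kr D ≤ u₁.ker := by
  constructor
  · rintro ⟨u', rfl⟩
    refine ⟨u' ≫ (Kr D).subschemeι, by rw [Category.assoc], ?_⟩
    have h := Scheme.Hom.le_ker_comp u' (Kr D).subschemeι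
    rwa [Scheme.IdealSheafData.ker_subschemeι] at h
  · rintro ⟨u₁, rfl, hK⟩
    refine ⟨IsClosedImmersion.lift (Kr D).subschemeι u₁ (by
      rw [Scheme.IdealSheafData.ker_subschemeι]
      exact hK), ?_⟩
    rw [← Category.assoc, IsClosedImmersion.lift_fac]

end family

section appLE
variable {S T : Scheme.{u}}

/-- `appLE` of a morphism into an open subscheme followed by the inclusion -/
theorem appLE_comp_ι (O : S.Opens) (u₁ : T ⟶ (O : Scheme.{u})) (W : (O : Scheme.{u}).Opens)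
    (V : T.Opens) (hle' : V ≤ u₁ ⁻¹ᵁ W) (hle : V ≤ (u₁ ≫ O.ι) ⁻¹ᵁ (O.ι ''ᵁ W)) :
    (u₁ ≫ O.ι).appLE (O.ι ''ᵁ W) V hle = u₁.appLE W V hle' := by
  have e1 : W ≤ O.ι ⁻¹ᵁ (O.ι ''ᵁ W) := by
    intro x hx
    exact ⟨x, hx, rfl⟩
  have h := Scheme.Hom.appLE_comp_appLE u₁ O.ι (O.ι ''ᵁ W) W V e1 hle'
  rw [Scheme.Opens.ι_appLE] at h
  have h2 : S.presheaf.map (homOfLE (le_refl (O.ι ''ᵁ W))).op = 𝟙 _ := by
    have : (homOfLE (le_refl (O.ι ''ᵁ W))).op = 𝟙 (op (O.ι ''ᵁ W)) := Subsingleton.elim _ _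
    rw [this, CategoryTheory.Functor.map_id]
  rw [h2] at h
  exact h.symm.trans (Category.id_comp _)

/-- a family of ideals lies in the kernel of a morphism if it does so on affine opens of the
source -/
theorem le_ker_of_appLE {Y : Scheme.{u}} (K : Y.IdealSheafData) (u₁ : T ⟶ Y)
    (h : ∀ (W : Y.affineOpens) (V : T.Opens) (_ : IsAffineOpen V) (hle : V ≤ u₁ ⁻¹ᵁ W.1),
      K.ideal W ≤ RingHom.ker (u₁.appLE W.1 V hle).hom) : K ≤ u₁.ker := by
  unfold Scheme.Hom.ker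
  rw [Scheme.IdealSheafData.le_ofIdeals_iff]
  intro W a ha
  rw [RingHom.mem_ker]
  let ι : Type u := {V : T.affineOpens // V.1 ≤ u₁ ⁻¹ᵁ W.1}
  refine T.sheaf.eq_of_locally_eq' (fun i : ι => i.1.1) (u₁ ⁻¹ᵁ W.1) (fun i => homOfLE i.2) ?_
    _ _ (fun i => ?_)
  · intro t ht
    obtain ⟨V, hV, htV, hVW⟩ := exists_isAffineOpen_mem_and_subset (x := t) (U := u₁ ⁻¹ᵁ W.1) ht
    exact Opens.mem_iSup.2 ⟨⟨⟨V, hV⟩, hVW⟩, htV⟩
  · have h1 := h W i.1.1 i.1.2 i.2 ha
    rw [RingHom.mem_ker] at h1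
    refine Eq.trans ?_ (map_zero (T.presheaf.map (homOfLE i.2).op).hom).symm
    exact h1

theorem ker_le_appLE {Y : Scheme.{u}} (u₁ : T ⟶ Y) (W : Y.affineOpens) (V : T.Opens)
    (hle : V ≤ u₁ ⁻¹ᵁ W.1) : u₁.ker.ideal W ≤ RingHom.ker (u₁.appLE W.1 V hle).hom := by
  intro a ha
  have h1 := Scheme.Hom.ideal_ker_le u₁ W ha
  rw [RingHom.mem_ker] at h1 ⊢
  change (u₁.app W.1 ≫ T.presheaf.map (homOfLE hle).op).hom a = 0
  rw [CommRingCat.hom_comp, RingHom.comp_apply, h1, map_zero]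

end appLE

section main
variable (D : ∀ U : S.affineOpens, LocalIdeals f F r U.2)

/-- the image of a point under `u`, as a prime of the ring of an affine open of the base -/
theorem fromSpec_comap_appLE {T : Scheme.{u}} (u : T ⟶ S) {U : S.Opens} (hU : IsAffineOpen U)
    {V : T.Opens} (hV : IsAffineOpen V) (hle : V ≤ u ⁻¹ᵁ U) (p : PrimeSpectrum Γ(T, V)) :
    hU.fromSpec (PrimeSpectrum.comap (u.appLE U V hle).hom p) = u (hV.fromSpec p) := by
  have h := IsAffineOpen.SpecMap_appLE_fromSpec u hU hV hle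
  exact congrArg (fun t : Spec Γ(T, V) ⟶ S => t p) h

/-- **the universal property** -/
theorem exists_factor_iff_gCond [IsProper f] [F.IsQuasicoherent] {T X' : Scheme.{u}} (u : T ⟶ S)
    (g' : X' ⟶ X) (f' : X' ⟶ T) (h : IsPullback g' f' f u) :
    (∃ u' : T ⟶ Zr D, u' ≫ ιr D = u) ↔
      GCond f' ((Scheme.Modules.pullback g').obj F) r := by
  haveI : QuasiCompact f' := MorphismProperty.of_isPullback (P := @QuasiCompact) h inferInstance
  haveI : QuasiSeparated f' :=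
    MorphismProperty.of_isPullback (P := @QuasiSeparated) h inferInstance
  haveI : ((Scheme.Modules.pullback g').obj F).IsQuasicoherent :=
    Groth.Agent.Lib.Helper2.PullbackSec.isQuasicoherent_pullback _ _
  rw [exists_factor_iff]
  constructor
  · rintro ⟨u₁, rfl, hK⟩
    refine gCond_of_condV f' _ r (fun t => ?_)
    obtain ⟨W, hW, hxW, -⟩ := exists_isAffineOpen_mem_and_subset (x := u₁ t) (U := ⊤) trivial
    obtain ⟨V, hV, htV, hVW⟩ := exists_isAffineOpen_mem_and_subset (x := t) (U := u₁ ⁻¹ᵁ W) hxW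
    refine ⟨V, hV, htV, ?_⟩
    have hle : V ≤ (u₁ ≫ (Sr D).ι) ⁻¹ᵁ ((Sr D).ι ''ᵁ W) := by
      intro x hx
      exact ⟨u₁ x, hVW hx, rfl⟩
    refine ((D ⟨(Sr D).ι ''ᵁ W, hW.image_of_isOpenImmersion (Sr D).ι⟩).lt (u₁ ≫ (Sr D).ι) g' f' h
      hV hle).2 ⟨?_, ?_⟩
    · rw [Ideal.map_eq_bot_iff_le_ker, appLE_comp_ι (Sr D) u₁ W V hVW hle]
      exact (hK ⟨W, hW⟩).trans (ker_le_appLE u₁ ⟨W, hW⟩ V hVW)
    · rw [(D ⟨(Sr D).ι ''ᵁ W, hW.image_of_isOpenImmersion (Sr D).ι⟩).J_eq_top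
        (fun s hs => (Sr D).ι_image_le W hs)]
      exact Ideal.map_top _
  · intro hg
    have hc : ∀ (U : S.affineOpens) (V : T.Opens) (hV : IsAffineOpen V) (hle : V ≤ u ⁻¹ᵁ U.1),
        (D U).I.map (u.appLE U.1 V hle).hom = ⊥ ∧ (D U).J.map (u.appLE U.1 V hle).hom = ⊤ :=
      fun U V hV hle => ((D U).lt u g' f' h hV hle).1 (condV_of_gCond f' _ r hg hV)
    have hrange : ∀ t : T, u t ∈ Sr D := by
      intro t
      obtain ⟨U, hU, htU, -⟩ := exists_isAffineOpen_mem_and_subset (x := u t) (U := ⊤) trivial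
      obtain ⟨V, hV, htV, hVU⟩ := exists_isAffineOpen_mem_and_subset (x := t) (U := u ⁻¹ᵁ U) htU
      have hJ := (hc ⟨U, hU⟩ V hV hVU).2
      let p := hV.primeIdealOf ⟨t, htV⟩
      have hp : hV.fromSpec p = t := hV.fromSpec_primeIdealOf ⟨t, htV⟩
      have hq := fromSpec_comap_appLE u hU hV hVU p
      rw [hp] at hq
      rw [mem_Sr, ← hq]
      refine ((D ⟨U, hU⟩).pt _).1.1 (fun hle => ?_)
      have h2 : (D ⟨U, hU⟩).J.map (u.appLE U V hVU).hom ≤ p.asIdeal :=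
        Ideal.map_le_iff_le_comap.2 hle
      rw [hJ] at h2
      exact p.isPrime.ne_top (top_le_iff.1 h2)
    have hr : Set.range u ⊆ Set.range (Sr D).ι := by
      rw [Scheme.Opens.range_ι]
      rintro _ ⟨t, rfl⟩
      exact hrange t
    refine ⟨IsOpenImmersion.lift (Sr D).ι u hr, IsOpenImmersion.lift_fac _ _ _, ?_⟩
    have hfac : IsOpenImmersion.lift (Sr D).ι u hr ≫ (Sr D).ι = u :=
      IsOpenImmersion.lift_fac _ _ _
    refine le_ker_of_appLE _ _ (fun W V hV hle' => ?_)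
    have hle : V ≤ (IsOpenImmersion.lift (Sr D).ι u hr ≫ (Sr D).ι) ⁻¹ᵁ ((Sr D).ι ''ᵁ W.1) := by
      intro x hx
      exact ⟨IsOpenImmersion.lift (Sr D).ι u hr x, hle' hx, rfl⟩
    rw [← appLE_comp_ι (Sr D) _ W.1 V hle' hle, ← Ideal.map_eq_bot_iff_le_ker]
    have key : ∀ (v : T ⟶ S) (hv : v = u) (hle₂ : V ≤ v ⁻¹ᵁ ((Sr D).ι ''ᵁ W.1)),
        Ideal.map (v.appLE ((Sr D).ι ''ᵁ W.1) V hle₂).hom ((Kr D).ideal W) = ⊥ := by
      rintro v rfl hle₂
      exact (hc ⟨(Sr D).ι ''ᵁ W.1, W.2.image_of_isOpenImmersion (Sr D).ι⟩ V hV hle₂).1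
    exact key _ hfac hle

/-- the points of the support of the ideal sheaf -/
theorem mem_support_Kr_iff (x : (Sr D : Scheme.{u})) :
    x ∈ (Kr D).support ↔ r ≤ CohIII.fiberRank f F 0 x.1 := by
  obtain ⟨W, hW, hxW, -⟩ := exists_isAffineOpen_mem_and_subset (x := x) (U := ⊤) trivial
  have hU : IsAffineOpen ((Sr D).ι ''ᵁ W) := hW.image_of_isOpenImmersion (Sr D).ι
  have hxU : x.1 ∈ (Sr D).ι ''ᵁ W := ⟨x, hxW, rfl⟩
  rw [Scheme.IdealSheafData.mem_support_iff_of_mem (U := ⟨W, hW⟩) hxW, Scheme.mem_zeroLocus_iff]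
  have pt := ((D ⟨(Sr D).ι ''ᵁ W, hU⟩).pt (hU.primeIdealOf ⟨x.1, hxU⟩)).2
  rw [hU.fromSpec_primeIdealOf] at pt
  rw [← pt]
  constructor
  · intro h a ha
    by_contra hna
    have h1 : x.1 ∈ S.basicOpen a :=
      (Groth.Agent.Lib.Helper2.mem_basicOpen_iff_notMem_primeIdealOf hU x.1 hxU a).2 hna
    exact h a ha (Scheme.Opens.mem_basicOpen_toScheme.2 h1)
  · intro h a ha hmem
    have h1 : x.1 ∈ S.basicOpen a := Scheme.Opens.mem_basicOpen_toScheme.1 hmem
    exact (Groth.Agent.Lib.Helper2.mem_basicOpen_iff_notMem_primeIdealOf hU x.1 hxU a).1 h1 (h ha)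

/-- **the image of the immersion is the locus `h^0 = r`** -/
theorem range_ιr : Set.range (ιr D) = {s : S | CohIII.fiberRank f F 0 s = r} := by
  ext s
  constructor
  · rintro ⟨z, rfl⟩
    have hx : (Kr D).subschemeι z ∈ (Kr D).support := by
      rw [← SetLike.mem_coe, ← Scheme.IdealSheafData.range_subschemeι]
      exact ⟨z, rfl⟩
    have hs : ((Kr D).subschemeι z).1 ∈ Sr D := ((Kr D).subschemeι z).2
    change CohIII.fiberRank f F 0 ((Kr D).subschemeι z).1 = r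
    exact le_antisymm hs ((mem_support_Kr_iff D _).1 hx)
  · intro hs
    have hsr : s ∈ Sr D := le_of_eq hs
    have hx : (⟨s, hsr⟩ : (Sr D : Scheme.{u})) ∈ (Kr D).support :=
      (mem_support_Kr_iff D ⟨s, hsr⟩).2 (ge_of_eq hs)
    have hx' : (⟨s, hsr⟩ : (Sr D : Scheme.{u})) ∈ ((Kr D).support : Set (Sr D : Scheme.{u})) := hx
    rw [← Scheme.IdealSheafData.range_subschemeι] at hx'
    obtain ⟨z, hz⟩ := hx'
    refine ⟨z, ?_⟩
    change ((Kr D).subschemeι z).1 = s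
    rw [hz]

/-- the open locus `h^0 ≤ r` is retrocompact -/
theorem quasiCompact_Sr_ι : QuasiCompact (Sr D).ι := by
  rw [quasiCompact_iff_forall_isAffineOpen]
  intro U hU
  rw [(Sr D).ι.isOpenEmbedding.isInducing.isCompact_iff]
  have himg : (Sr D).ι '' ((Sr D).ι ⁻¹ᵁ U : Set (Sr D : Scheme.{u})) =
      hU.fromSpec '' (PrimeSpectrum.zeroLocus ((D ⟨U, hU⟩).J : Set Γ(S, U)))ᶜ := by
    ext s
    constructor
    · rintro ⟨x, hx, rfl⟩
      have hxU : x.1 ∈ U := hx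
      refine ⟨hU.primeIdealOf ⟨x.1, hxU⟩, ?_, hU.fromSpec_primeIdealOf ⟨x.1, hxU⟩⟩
      intro hmem
      have h1 := (PrimeSpectrum.mem_zeroLocus _ _).1 hmem
      have h2 := ((D ⟨U, hU⟩).pt (hU.primeIdealOf ⟨x.1, hxU⟩)).1.2 (by
        rw [hU.fromSpec_primeIdealOf]
        exact x.2)
      exact h2 h1
    · rintro ⟨q, hq, rfl⟩
      have h1 : CohIII.fiberRank f F 0 (hU.fromSpec q) ≤ r :=
        ((D ⟨U, hU⟩).pt q).1.1 (fun hle => hq ((PrimeSpectrum.mem_zeroLocus _ _).2 hle))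
      have h2 : hU.fromSpec q ∈ U := by
        have h0 : hU.fromSpec q ∈ Set.range hU.fromSpec := ⟨q, rfl⟩
        rw [hU.range_fromSpec] at h0
        exact h0
      exact ⟨⟨hU.fromSpec q, h1⟩, h2, rfl⟩
  rw [himg]
  have hc : IsCompact ((PrimeSpectrum.zeroLocus ((D ⟨U, hU⟩).J : Set Γ(S, U)))ᶜ) :=
    (PrimeSpectrum.isCompact_isOpen_iff_ideal.2 ⟨(D ⟨U, hU⟩).J, (D ⟨U, hU⟩).hJ, rfl⟩).1
  exact hc.image hU.fromSpec.continuous

theorem lfp_ιr : LocallyOfFinitePresentation (ιr D) := by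
  haveI : LocallyOfFinitePresentation (Kr D).subschemeι :=
    Groth.Agent.Helper18PP.lfp_subschemeι (Kr D) (fun W => (D _).hI)
  infer_instance

theorem quasiCompact_ιr : QuasiCompact (ιr D) := by
  haveI := quasiCompact_Sr_ι D
  infer_instance

end main

section final
variable (f F r)

/-- **the universal locally closed subscheme over which `f_* F` is locally free of rank `r` and
commutes with base change** -/
theorem exists_immersion [IsProper f] [LocallyOfFinitePresentation f] (hF : CohB1.IsFP F)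
    (hflat : FlatMod.IsFlatOver f F) :
    ∃ (Z : Scheme.{u}) (ι : Z ⟶ S), IsImmersion ι ∧ LocallyOfFinitePresentation ι ∧
      QuasiCompact ι ∧
      (∀ (T : Scheme.{u}) (u : T ⟶ S), (∃ u' : T ⟶ Z, u' ≫ ι = u) ↔
        GCond (pullback.snd f u) ((Scheme.Modules.pullback (pullback.fst f u)).obj F) r) ∧
      Set.range ι = {s : S | CohIII.fiberRank f F 0 s = r} := by
  haveI hq : F.IsQuasicoherent := Groth.Agent.Helper18Strict.isQCoh_of_isFP F hF
  have D : ∀ U : S.affineOpens, LocalIdeals f F r U.2 := fun U =>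
    Classical.choice (nonempty_localIdeals f F r hF hflat U.2)
  refine ⟨Zr D, ιr D, inferInstance, lfp_ιr D, quasiCompact_ιr D, fun T u => ?_, range_ιr D⟩
  exact exists_factor_iff_gCond D u (pullback.fst f u) (pullback.snd f u)
    (IsPullback.of_hasPullback f u)

end final

end ideals

end Groth.Agent.Lib.Helper21.GBC44
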