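import Groth.Agent.Lib.Helper21GBC44
import Groth.Agent.Lib.Helper1Sky9
import Groth.Agent.Lib.Helper2LocFree

/-!
# General base change, part 45: the universal immersion for arbitrary cartesian squares, and the
invertible case (helper21)
-/

set_option autoImplicit false
set_option linter.style.haveILetI false
universe u
open CategoryTheory CategoryTheory.Limits AlgebraicGeometry TopologicalSpace

namespace Groth.Agent.Lib.Helper21.GBC45

open Groth.Agent.Lib.Helper21.GBC44

section general
variable {X S : Scheme.{u}} (f : X ⟶ S) (F : X.Modules) (r : ℕ)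

/-- the universal locally closed subscheme, with the universal property stated for arbitrary
cartesian squares -/
theorem exists_immersion' [IsProper f] [LocallyOfFinitePresentation f] (hF : CohB1.IsFP F)
    (hflat : FlatMod.IsFlatOver f F) :
    ∃ (Z : Scheme.{u}) (ι : Z ⟶ S), IsImmersion ι ∧ LocallyOfFinitePresentation ι ∧
      QuasiCompact ι ∧
      (∀ (T : Scheme.{u}) (u : T ⟶ S) (X' : Scheme.{u}) (f' : X' ⟶ T) (g' : X' ⟶ X)
        (_ : IsPullback g' f' f u), (∃ u' : T ⟶ Z, u' ≫ ι = u) ↔
          GCond f' ((Scheme.Modules.pullback g').obj F) r) ∧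
      Set.range ι = {s : S | CohIII.fiberRank f F 0 s = r} := by
  haveI hq : F.IsQuasicoherent := Groth.Agent.Helper18Strict.isQCoh_of_isFP F hF
  have D : ∀ U : S.affineOpens, LocalIdeals f F r U.2 := fun U =>
    Classical.choice (nonempty_localIdeals f F r hF hflat U.2)
  exact ⟨Zr D, ιr D, inferInstance, lfp_ιr D, quasiCompact_ιr D,
    fun T u X' f' g' h => exists_factor_iff_gCond D u g' f' h, range_ιr D⟩

end general

section invertible
variable {X S : Scheme.{u}}

theorem isInvertible_iff_rank_one (L : X.Modules) :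
    PicF.IsInvertible L ↔ FlatMod.IsFinLocFreeOfRank 1 L := by
  constructor
  · intro h x
    obtain ⟨U, hxU, ⟨ε⟩⟩ := h x
    exact ⟨U, hxU, ⟨ε ≪≫ (Limits.coproductUniqueIso
      (fun _ : Fin 1 => Coh.structureModule (↑U : Scheme.{u}))).symm⟩⟩
  · intro h x
    obtain ⟨U, hxU, ⟨ε⟩⟩ := h x
    exact ⟨U, hxU, ⟨ε ≪≫ Limits.coproductUniqueIso
      (fun _ : Fin 1 => Coh.structureModule (↑U : Scheme.{u}))⟩⟩

/-- a flat module on the source of a flat morphism is flat over the base -/
theorem isFlatOver_of_isFlat (f : X ⟶ S) [Flat f] (M : X.Modules) (h : FlatMod.IsFlat M) :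
    FlatMod.IsFlatOver f M := by
  intro x
  letI := FlatMod.moduleStalkOver f M x
  change Module.Flat (S.presheaf.stalk (f.base x)) (M.presheaf.stalk x)
  have hfl := Flat.stalkMap f x
  algebraize [(f.stalkMap x).hom]
  haveI : IsScalarTower (S.presheaf.stalk (f.base x)) (X.presheaf.stalk x)
      (M.presheaf.stalk x) := ⟨fun a b m => by
    change ((f.stalkMap x).hom a * b) • m = (f.stalkMap x).hom a • (b • m)
    rw [mul_smul]⟩
  haveI : Module.Flat (X.presheaf.stalk x) (M.presheaf.stalk x) := h x
  exact Module.Flat.trans _ (X.presheaf.stalk x) _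

end invertible

end Groth.Agent.Lib.Helper21.GBC45
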