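import Mathlib

/-!
# Flatness of a module exhausted by eventually flat stages; the homogeneous localization `A_(f)` (helper21)
-/

set_option autoImplicit false
universe u v w

namespace Groth.Agent.Lib.Helper21.GBC46

/-- A module which is the "union" of stages `N k` (through linear maps `θ k : N k → M`, with transition maps
compatible with the `θ`'s, jointly surjective, and such that an element dying in `M` dies at a later stage) is flat as soon
as the stages are eventually flat. -/
theorem flat_of_stages {R : Type u} {M : Type v} [CommRing R] [AddCommGroup M] [Module R M]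
    (N : ℕ → Type w) [∀ k, AddCommGroup (N k)] [∀ k, Module R (N k)]
    (θ : ∀ k, N k →ₗ[R] M)
    (τ : ∀ k k', k ≤ k' → (N k →ₗ[R] N k'))
    (hτ : ∀ k k' (h : k ≤ k') (a : N k), θ k' (τ k k' h a) = θ k a)
    (hsurj : ∀ x : M, ∃ k, ∃ a : N k, θ k a = x)
    (hker : ∀ k (a : N k), θ k a = 0 → ∃ k', ∃ h : k ≤ k', τ k k' h a = 0)
    (k₀ : ℕ) (hflat : ∀ k, k₀ ≤ k → Module.Flat R (N k)) : Module.Flat R M := by
  apply Module.Flat.of_forall_isTrivialRelation
  intro l f x hfx
  choose kk aa haa using hsurj
  let K : ℕ := k₀ + Finset.univ.sup (fun i => kk (x i))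
  have hK : ∀ i, kk (x i) ≤ K := fun i =>
    le_trans (Finset.le_sup (f := fun i => kk (x i)) (Finset.mem_univ i)) (Nat.le_add_left _ _)
  let b : Fin l → N K := fun i => τ _ K (hK i) (aa (x i))
  have hb : ∀ i, θ K (b i) = x i := fun i => (hτ _ _ _ _).trans (haa _)
  have h0 : θ K (∑ i, f i • b i) = 0 := by
    rw [map_sum]
    simp only [map_smul, hb]
    exact hfx
  obtain ⟨K', hKK', hz⟩ := hker K _ h0
  have := hflat K' (le_trans (Nat.le_add_right _ _) hKK')
  have h1 : ∑ i, f i • (τ K K' hKK' (b i)) = 0 := by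
    rw [← hz, map_sum]
    simp only [map_smul]
  obtain ⟨k, a, y, hxy, hfa⟩ := Module.Flat.isTrivialRelation_of_sum_smul_eq_zero h1
  refine ⟨k, a, fun j => θ K' (y j), fun i => ?_, hfa⟩
  rw [← hb i, ← hτ K K' hKK' (b i),
    show τ K K' hKK' (b i) = ∑ j, a i j • y j from hxy i, map_sum]
  simp only [map_smul]

section graded

variable {R A σ : Type u} [CommRing R] [CommRing A] [Algebra R A] [SetLike σ A] [AddSubgroupClass σ A]
  (𝒜 : ℕ → σ) [GradedRing 𝒜] (h0 : ∀ r : R, algebraMap R A r ∈ 𝒜 0)

include h0 in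
/-- the `R`-span of a graded piece is the graded piece. -/
theorem mem_of_mem_span {e : ℕ} {a : A} (ha : a ∈ Submodule.span R (𝒜 e : Set A)) : a ∈ 𝒜 e := by
  induction ha using Submodule.span_induction with
  | mem x hx => exact hx
  | zero => exact zero_mem _
  | add x y _ _ hx hy => exact add_mem hx hy
  | smul r x _ hx =>
    rw [Algebra.smul_def]
    have := SetLike.mul_mem_graded (h0 r) hx
    rwa [zero_add] at this

/-- multiplication by a homogeneous element, on spans of graded pieces. -/
noncomputable def mulSpan {c : A} {i e e' : ℕ} (hc : c ∈ 𝒜 i) (he : i + e = e') :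
    ↥(Submodule.span R (𝒜 e : Set A)) →ₗ[R] ↥(Submodule.span R (𝒜 e' : Set A)) :=
  (LinearMap.mulLeft R c).restrict (p := Submodule.span R (𝒜 e : Set A))
    (q := Submodule.span R (𝒜 e' : Set A)) (by
      intro x hx
      induction hx using Submodule.span_induction with
      | mem x hx => exact Submodule.subset_span (he ▸ SetLike.mul_mem_graded hc hx)
      | zero => simp
      | add x y _ _ hx hy => rw [map_add]; exact add_mem hx hy
      | smul r x _ hx => rw [map_smul]; exact Submodule.smul_mem _ _ hx)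

@[simp] theorem mulSpan_coe {c : A} {i e e' : ℕ} (hc : c ∈ 𝒜 i) (he : i + e = e')
    (a : ↥(Submodule.span R (𝒜 e : Set A))) : ((mulSpan 𝒜 hc he a : _) : A) = c * a.1 := rfl

variable {f : A} {d : ℕ} (hf : f ∈ 𝒜 d)

/-- `a ↦ a / f^k`, as a linear map on the span of `𝒜 (k d)`. -/
noncomputable def awayStage (ρ : R →+* HomogeneousLocalization.Away 𝒜 f)
    (hρ : ∀ r, (ρ r).val = Localization.mk (algebraMap R A r) 1) (k : ℕ) :
    letI := ρ.toAlgebra
    ↥(Submodule.span R (𝒜 (k • d) : Set A)) →ₗ[R] HomogeneousLocalization.Away 𝒜 f :=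
  letI := ρ.toAlgebra
  { toFun := fun a => HomogeneousLocalization.Away.mk 𝒜 hf k a.1 (mem_of_mem_span 𝒜 h0 a.2)
    map_add' := by
      intro a b
      apply HomogeneousLocalization.val_injective
      rw [HomogeneousLocalization.val_add, HomogeneousLocalization.Away.val_mk,
        HomogeneousLocalization.Away.val_mk, HomogeneousLocalization.Away.val_mk,
        Localization.add_mk_self]
      rfl
    map_smul' := by
      intro r a
      apply HomogeneousLocalization.val_injective
      change (HomogeneousLocalization.Away.mk 𝒜 hf k (r • a).1 _).val =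
        (ρ r * HomogeneousLocalization.Away.mk 𝒜 hf k a.1 _).val
      rw [HomogeneousLocalization.val_mul, hρ, HomogeneousLocalization.Away.val_mk,
        HomogeneousLocalization.Away.val_mk, Localization.mk_mul, one_mul]
      congr 1
      exact Algebra.smul_def r a.1 }

theorem awayStage_val (ρ : R →+* HomogeneousLocalization.Away 𝒜 f)
    (hρ : ∀ r, (ρ r).val = Localization.mk (algebraMap R A r) 1) (k : ℕ)
    (a : ↥(Submodule.span R (𝒜 (k • d) : Set A))) :
    (awayStage 𝒜 h0 hf ρ hρ k a).val =
      Localization.mk a.1 (⟨f ^ k, ⟨k, rfl⟩⟩ : Submonoid.powers f) := rfl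

include h0 hf in
/-- **`A_(f)` is flat over `R`** when the graded pieces of `A` are eventually flat over `R`. -/
theorem flat_away (d₀ : ℕ) (hflat : ∀ e, d₀ ≤ e → Module.Flat R ↥(Submodule.span R (𝒜 e : Set A)))
    (hd : 0 < d) (ρ : R →+* HomogeneousLocalization.Away 𝒜 f)
    (hρ : ∀ r, (ρ r).val = Localization.mk (algebraMap R A r) 1) : ρ.Flat := by
  letI := ρ.toAlgebra
  change Module.Flat R (HomogeneousLocalization.Away 𝒜 f)
  have hfp : ∀ j : ℕ, f ^ j ∈ 𝒜 (j • d) := fun j => SetLike.pow_mem_graded j hf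
  refine flat_of_stages (R := R) (fun k => ↥(Submodule.span R (𝒜 (k • d) : Set A)))
    (awayStage 𝒜 h0 hf ρ hρ)
    (fun k k' h => mulSpan 𝒜 (hfp (k' - k)) (by
      rw [← add_smul, Nat.sub_add_cancel h])) ?_ ?_ ?_ d₀ ?_
  · intro k k' h a
    apply HomogeneousLocalization.val_injective
    rw [awayStage_val, awayStage_val, Localization.mk_eq_mk_iff, Localization.r_iff_exists]
    refine ⟨1, ?_⟩
    simp only [mulSpan_coe, OneMemClass.coe_one, one_mul]
    rw [← mul_assoc, ← pow_add, Nat.add_sub_cancel' h]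
  · intro x
    obtain ⟨k, a, ha, rfl⟩ := HomogeneousLocalization.Away.mk_surjective 𝒜 hf x
    exact ⟨k, ⟨a, Submodule.subset_span ha⟩, rfl⟩
  · intro k a ha
    have h1 := congrArg HomogeneousLocalization.val ha
    rw [awayStage_val, HomogeneousLocalization.val_zero, Localization.mk_eq_mk'_apply,
      IsLocalization.mk'_eq_zero_iff] at h1
    obtain ⟨⟨_, N, rfl⟩, hm⟩ := h1
    refine ⟨k + N, Nat.le_add_right _ _, ?_⟩
    apply Subtype.ext
    rw [mulSpan_coe]
    have : k + N - k = N := Nat.add_sub_cancel_left k N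
    rw [this]
    exact hm
  · intro k hk
    exact hflat _ (le_trans hk (Nat.le_mul_of_pos_right k hd))

end graded

end Groth.Agent.Lib.Helper21.GBC46
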