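import Groth.Agent.Lib.Helper21GBC46
import Groth.Agent.Lib.Helper2TwistGen2
import Groth.Agent.Lib.Helper2GrModQCoh

/-!
# Sections of `O(n)` over `D₊(f)` are flat over the base when the graded pieces are eventually flat (helper21)
-/

set_option autoImplicit false
universe u

open CategoryTheory CategoryTheory.Limits AlgebraicGeometry TopologicalSpace Opposite

namespace Groth.Agent.Lib.Helper21.GBC47

open Groth.Agent.Lib.Helper2GrModSect Groth.Agent.Lib.Helper21.GBC46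

variable {R A σ : Type u} [CommRing R] [CommRing A] [Algebra R A] [SetLike σ A] [AddSubgroupClass σ A]
  (𝒜 : ℕ → σ) [GradedRing 𝒜] (h0 : ∀ r : R, algebraMap R A r ∈ 𝒜 0)
  {f : A} {d : ℕ} (hf : f ∈ 𝒜 d) (hd : 0 < d) (n : ℤ)

/-- the offset `|n| d + n ≥ 0`. -/
def c₀ (d : ℕ) (n : ℤ) : ℕ := ((n.natAbs * d : ℕ) + n).toNat

theorem c₀_cast {d : ℕ} (hd : 0 < d) (n : ℤ) : ((c₀ d n : ℕ) : ℤ) = (n.natAbs * d : ℕ) + n := by
  unfold c₀
  apply Int.toNat_of_nonneg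
  have h1 : n.natAbs ≤ n.natAbs * d := Nat.le_mul_of_pos_right _ hd
  generalize n.natAbs * d = T at h1
  omega

/-- the degree of the numerators at stage `k`. -/
def deg (d : ℕ) (n : ℤ) (k : ℕ) : ℕ := k * d + c₀ d n

theorem deg_cast {d : ℕ} (hd : 0 < d) (n : ℤ) (k : ℕ) :
    ((deg d n k : ℕ) : ℤ) = (((k + n.natAbs) • d : ℕ) : ℤ) + n := by
  unfold deg
  rw [Nat.cast_add, c₀_cast hd, smul_eq_mul]
  push_cast
  ring

include hf in
theorem pow_mem' (j : ℕ) : f ^ j ∈ 𝒜 (j • d) := SetLike.pow_mem_graded j hf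

theorem secVal_add (W : (Proj 𝒜).Opens) (s s' : Γ(GrMod.tilde 𝒜 𝒜 n, W))
    (y : ProjectiveSpectrum 𝒜) (hy : y ∈ W) :
    secVal 𝒜 𝒜 n W (s + s') y hy = secVal 𝒜 𝒜 n W s y hy + secVal 𝒜 𝒜 n W s' y hy := rfl

variable (D : (Proj 𝒜).Opens) (hDf : ∀ y : D, f ∉ y.1.asHomogeneousIdeal)

include hDf in
theorem pow_not_mem' (j : ℕ) (y : D) : f ^ j ∉ y.1.asHomogeneousIdeal :=
  fun h => hDf y (y.1.isPrime.mem_of_pow_mem j h)

variable (ψ : R →+* Γ(Proj 𝒜, D))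
  (hψ : ∀ (r : R) (y : ProjectiveSpectrum 𝒜) (hy : y ∈ D),
    (funVal 𝒜 D (ψ r) y hy).val = algebraMap A (GrTwist.Loc 𝒜 y) (algebraMap R A r))

/-- `a ↦ a / f^(k+|n|)`, as a linear map from the span of the graded piece to the sections over `D`. -/
noncomputable def stage (k : ℕ) :
    letI : Module R Γ(GrMod.tilde 𝒜 𝒜 n, D) := Module.compHom _ ψ
    ↥(Submodule.span R (𝒜 (deg d n k) : Set A)) →ₗ[R] Γ(GrMod.tilde 𝒜 𝒜 n, D) :=
  letI : Module R Γ(GrMod.tilde 𝒜 𝒜 n, D) := Module.compHom _ ψ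
  { toFun := fun a => fracSec 𝒜 n D (mem_of_mem_span 𝒜 h0 a.2) (pow_mem' 𝒜 hf (k + n.natAbs))
      (deg_cast hd n k) (pow_not_mem' 𝒜 D hDf (k + n.natAbs))
    map_add' := by
      intro a b
      apply sec_ext
      intro y hy
      rw [secVal_add, secVal_fracSec, secVal_fracSec, secVal_fracSec, Localization.add_mk_self]
      rfl
    map_smul' := by
      intro r a
      apply sec_ext
      intro y hy
      change secVal 𝒜 𝒜 n D (fracSec 𝒜 n D _ _ _ _) y hy = secVal 𝒜 𝒜 n D (ψ r • fracSec 𝒜 n D _ _ _ _) y hy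
      rw [secVal_smul', hψ, secVal_fracSec, secVal_fracSec, ← Localization.mk_one_eq_algebraMap,
        Localization.mk_mul, one_mul]
      congr 1
      exact Algebra.smul_def r a.1 }

theorem secVal_stage (k : ℕ) (a : ↥(Submodule.span R (𝒜 (deg d n k) : Set A)))
    (y : ProjectiveSpectrum 𝒜) (hy : y ∈ D) :
    secVal 𝒜 𝒜 n D (stage 𝒜 h0 hf hd n D hDf ψ hψ k a) y hy =
      (Localization.mk a.1 (⟨f ^ (k + n.natAbs), pow_not_mem' 𝒜 D hDf _ ⟨y, hy⟩⟩ :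
        y.asHomogeneousIdeal.toIdeal.primeCompl) : GrTwist.Loc 𝒜 y) := rfl

theorem deg_add {k k' : ℕ} (h : k ≤ k') : (k' - k) • d + deg d n k = deg d n k' := by
  unfold deg
  rw [smul_eq_mul, ← add_assoc, ← Nat.add_mul, Nat.sub_add_cancel h]

include hd in
theorem le_deg (k : ℕ) : k ≤ deg d n k := by
  unfold deg
  exact le_trans (Nat.le_mul_of_pos_right k hd) (Nat.le_add_right _ _)

include h0 hf hd in
/-- **sections of `O(n)` over `D₊(f)` are flat over `R`** when the graded pieces of `A` are eventually flat. -/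
theorem flat_twist_sections (d₀ : ℕ)
    (hflat : ∀ e, d₀ ≤ e → Module.Flat R ↥(Submodule.span R (𝒜 e : Set A)))
    (ψ : R →+* Γ(Proj 𝒜, Proj.basicOpen 𝒜 f))
    (hψ : ∀ (r : R) (y : ProjectiveSpectrum 𝒜) (hy : y ∈ Proj.basicOpen 𝒜 f),
      (funVal 𝒜 (Proj.basicOpen 𝒜 f) (ψ r) y hy).val =
        algebraMap A (GrTwist.Loc 𝒜 y) (algebraMap R A r)) :
    @Module.Flat R Γ(GrMod.tilde 𝒜 𝒜 n, Proj.basicOpen 𝒜 f) _ _ (Module.compHom _ ψ) := by
  letI : Module R Γ(GrMod.tilde 𝒜 𝒜 n, Proj.basicOpen 𝒜 f) := Module.compHom _ ψ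
  have hDf : ∀ y : (Proj.basicOpen 𝒜 f : (Proj 𝒜).Opens), f ∉ y.1.asHomogeneousIdeal :=
    fun y => (ProjectiveSpectrum.mem_basicOpen 𝒜 f y.1).mp y.2
  refine flat_of_stages (R := R) (fun k => ↥(Submodule.span R (𝒜 (deg d n k) : Set A)))
    (stage 𝒜 h0 hf hd n _ hDf ψ hψ)
    (fun k k' h => mulSpan 𝒜 (pow_mem' 𝒜 hf (k' - k)) (deg_add n h)) ?_ ?_ ?_ d₀ ?_
  · intro k k' h a
    apply sec_ext
    intro y hy
    rw [secVal_stage, secVal_stage, Localization.mk_eq_mk_iff, Localization.r_iff_exists]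
    refine ⟨1, ?_⟩
    simp only [mulSpan_coe, OneMemClass.coe_one, one_mul]
    rw [← mul_assoc, ← pow_add]
    congr 2
    omega
  · intro x
    obtain ⟨k, i, m, hi, hval⟩ := exists_global (toSect 𝒜 𝒜 n _ x) hd hf
    have hdeg : n.natAbs • d + i = deg d n k := by
      have h1 : ((n.natAbs • d + i : ℕ) : ℤ) = ((deg d n k : ℕ) : ℤ) := by
        unfold deg
        rw [Nat.cast_add, Nat.cast_add, hi, c₀_cast hd, smul_eq_mul]
        push_cast
        ring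
      exact_mod_cast h1
    have ha : f ^ n.natAbs * m.1 ∈ 𝒜 (deg d n k) :=
      hdeg ▸ SetLike.mul_mem_graded (pow_mem' 𝒜 hf n.natAbs) m.2
    refine ⟨k, ⟨f ^ n.natAbs * m.1, Submodule.subset_span ha⟩, ?_⟩
    apply sec_ext
    intro y hy
    rw [secVal_stage]
    refine Eq.trans ?_ (hval ⟨y, hy⟩).symm
    change (LocalizedModule.mk (f ^ n.natAbs * m.1) _ : GrMod.LocMod 𝒜 (M := A) y) = _
    rw [LocalizedModule.mk_eq]
    refine ⟨1, ?_⟩
    rw [one_smul, one_smul]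
    change f ^ k * (f ^ n.natAbs * m.1) = f ^ (k + n.natAbs) * m.1
    rw [← mul_assoc, ← pow_add]
  · intro k a ha
    have hz : ∀ (y : ProjectiveSpectrum 𝒜), f ∉ y.asHomogeneousIdeal →
        ∃ u : A, u ∉ y.asHomogeneousIdeal ∧ u • a.1 = 0 := by
      intro y hy
      have hyD : y ∈ Proj.basicOpen 𝒜 f := (ProjectiveSpectrum.mem_basicOpen 𝒜 f y).mpr hy
      have h1 : secVal 𝒜 𝒜 n _ (stage 𝒜 h0 hf hd n _ hDf ψ hψ k a) y hyD = 0 := by
        rw [ha]; rfl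
      rw [secVal_stage, Localization.mk_eq_mk'_apply, IsLocalization.mk'_eq_zero_iff] at h1
      obtain ⟨u, hu⟩ := h1
      exact ⟨u.1, u.2, hu⟩
    obtain ⟨N, hN⟩ := exists_pow_smul_eq_zero 𝒜 𝒜 hd hf (mem_of_mem_span 𝒜 h0 a.2) hz
    refine ⟨k + N, Nat.le_add_right _ _, ?_⟩
    apply Subtype.ext
    rw [mulSpan_coe]
    have : k + N - k = N := Nat.add_sub_cancel_left k N
    rw [this]
    exact hN N le_rfl
  · intro k hk
    exact hflat _ (le_trans hk (le_deg hd n k))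

end Groth.Agent.Lib.Helper21.GBC47
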