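import Groth.Agent.Lib.Helper21GBC47
import Groth.Agent.Lib.Helper2RelTwistGen
import Groth.Agent.Lib.Helper18BaseFun
import Groth.Agent.Lib.Helper2FlatOver

/-!
# A relative Proj with eventually flat graded pieces is flat, and so are its twisting sheaves (helper21)
-/

set_option autoImplicit false
universe u

open CategoryTheory CategoryTheory.Limits AlgebraicGeometry TopologicalSpace Opposite
open scoped HomogeneousIdeal

namespace Groth.Agent.Lib.Helper21.GBC48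

open RelProj Groth.Agent.Lib.Helper2GrModSect Groth.Agent.Lib.Helper21.GBC46
  Groth.Agent.Lib.Helper21.GBC47 Groth.Agent.Lib.Helper2.Push

variable {S P : Scheme.{u}} (𝒜 : RelProj.QCGrAlg S)

/-- the graded pieces of `𝒜` are eventually flat over the base. -/
def EvFlat : Prop :=
  ∃ d₀ : ℕ, ∀ d : ℕ, d₀ ≤ d → ∀ (U : S.Opens) (hU : IsAffineOpen U),
      letI := (𝒜.str.app (op U)).hom.toAlgebra
      Module.Flat Γ(S, U) ↥(Submodule.span Γ(S, U) (𝒜.deg U hU d : Set (𝒜.presheaf.obj (op U))))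

variable (p : P ⟶ S)
  (chart : ∀ (U : S.Opens) (hU : IsAffineOpen U), (((p ⁻¹ᵁ U : P.Opens) : Scheme.{u}) ≅ Proj (𝒜.deg U hU)))

theorem restrict_eq (hP : RelProj.IsRelProj 𝒜 p chart) (U : S.Opens) (hU : IsAffineOpen U) :
    p ∣_ U = (chart U hU).hom ≫ Proj.toSpecZero (𝒜.deg U hU) ≫ Spec.map (𝒜.strZero U hU) ≫
      hU.isoSpec.inv := by
  rw [← cancel_mono U.ι, morphismRestrict_ι, ← hP.chart_over U hU]
  simp only [Category.assoc, IsAffineOpen.isoSpec_inv_ι]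

theorem flat_toSpec (h : EvFlat 𝒜) (U : S.Opens) (hU : IsAffineOpen U) :
    Flat (Proj.toSpecZero (𝒜.deg U hU) ≫ Spec.map (𝒜.strZero U hU)) := by
  obtain ⟨d₀, hd₀⟩ := h
  apply IsZariskiLocalAtSource.of_openCover (P := @Flat)
    (Proj.affineOpenCover (𝒜.deg U hU)).openCover
  intro i
  change Flat (Proj.awayι (𝒜.deg U hU) i.2.1 i.2.2 i.1.2 ≫ Proj.toSpecZero _ ≫ Spec.map _)
  rw [Proj.awayι_toSpecZero_assoc, ← Spec.map_comp, Flat.SpecMap_iff]
  letI := (𝒜.str.app (op U)).hom.toAlgebra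
  exact flat_away (𝒜.deg U hU) (fun r => 𝒜.str_mem U hU r) i.2.2 d₀ (fun e he => hd₀ e he U hU)
    i.1.2 _ (fun r => rfl)

theorem flat_relProj (h : EvFlat 𝒜) (hP : RelProj.IsRelProj 𝒜 p chart) : Flat p := by
  rw [IsZariskiLocalAtTarget.iff_of_iSup_eq_top (P := @Flat)
    (fun i : S.affineOpens => (i : S.Opens)) (iSup_affineOpens_eq_top S)]
  rintro ⟨U, hU⟩
  change Flat (p ∣_ U)
  rw [restrict_eq 𝒜 p chart hP U hU]
  haveI := flat_toSpec 𝒜 h U hU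
  rw [← Category.assoc (Proj.toSpecZero (𝒜.deg U hU))]
  infer_instance

section alg

variable {R A σ : Type u} [CommRing R] [CommRing A] [Algebra R A] [SetLike σ A] [AddSubgroupClass σ A]
  (𝒜' : ℕ → σ) [GradedRing 𝒜'] (h0 : ∀ r : R, algebraMap R A r ∈ 𝒜' 0)
  {f : A} {d : ℕ} (hf : f ∈ 𝒜' d) (hd : 0 < d) (n : ℤ)

include h0 hf hd in
theorem flat_twist_sections' (d₀ : ℕ)
    (hflat : ∀ e, d₀ ≤ e → Module.Flat R ↥(Submodule.span R (𝒜' e : Set A)))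
    (D : (Proj 𝒜').Opens) (hD : D = Proj.basicOpen 𝒜' f)
    (ψ : R →+* Γ(Proj 𝒜', D))
    (hψ : ∀ (r : R) (y : ProjectiveSpectrum 𝒜') (hy : y ∈ D),
      (funVal 𝒜' D (ψ r) y hy).val = algebraMap A (GrTwist.Loc 𝒜' y) (algebraMap R A r)) :
    @Module.Flat R Γ(GrMod.tilde 𝒜' 𝒜' n, D) _ _ (Module.compHom _ ψ) := by
  subst hD
  exact flat_twist_sections 𝒜' h0 hf hd n d₀ hflat ψ hψ

end alg

theorem isFlatOver_twist (h : EvFlat 𝒜) (hP : RelProj.IsRelProj 𝒜 p chart) (n : ℤ) (L : P.Modules)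
    (lam : ∀ (U : S.Opens) (hU : IsAffineOpen U),
      L ⟶ (Scheme.Modules.pushforward (RelProj.emb p chart U hU)).obj (GrTwist.twist (𝒜.deg U hU) n))
    (hL : RelProj.IsRelTwist 𝒜 p chart n L lam) : FlatMod.IsFlatOver p L := by
  obtain ⟨d₀, hd₀⟩ := h
  have hT : ∀ (U : S.Opens) (hU : IsAffineOpen U),
      (GrTwist.twist (𝒜.deg U hU) n).IsQuasicoherent := by
    intro U hU
    have h0 : GrMod.tilde (𝒜.deg U hU) (𝒜.deg U hU) n = GrTwist.twist (𝒜.deg U hU) n := rfl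
    rw [← h0]
    exact isQuasicoherent_tilde (𝒜.deg U hU) (𝒜.deg U hU) n
  haveI : L.IsQuasicoherent :=
    Groth.Agent.Lib.Helper2.RelTildeQCoh.isQuasicoherent_of_relCharts p chart L
      (fun U hU => GrTwist.twist (𝒜.deg U hU) n) hT lam hL.bijective
  intro x
  obtain ⟨U, hU, hxU⟩ : ∃ U : S.Opens, IsAffineOpen U ∧ p.base x ∈ U := by
    obtain ⟨W, hW⟩ := (S.isBasis_affineOpens).exists_subset_of_mem_open
      (Set.mem_univ (p.base x)) isOpen_univ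
    obtain ⟨⟨V, hV, rfl⟩, hxV, -⟩ := hW
    exact ⟨V, hV, hxV⟩
  obtain ⟨y, rfl⟩ : ∃ y, (RelProj.emb p chart U hU).base y = x :=
    Groth.Agent.Lib.Helper2.RelTildeQCoh.le_opensRange_emb p chart U hU hxU
  obtain ⟨d, f, hd, hf, hfy⟩ := exists_homogeneous_pos_not_mem (𝒜.deg U hU) y
  set j := RelProj.emb p chart U hU with hj
  let W : P.Opens := j ''ᵁ (Proj.basicOpen (𝒜.deg U hU) f)
  have hWaff : IsAffineOpen W :=
    (Proj.isAffineOpen_basicOpen (𝒜.deg U hU) f hf hd).image_of_isOpenImmersion j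
  have hWU : W ≤ p ⁻¹ᵁ U := (j.image_le_opensRange _).trans
    (Groth.Agent.Lib.Helper2.RelTwistGen.opensRange_emb_le p chart U hU)
  have hpre : j ⁻¹ᵁ W = Proj.basicOpen (𝒜.deg U hU) f := j.preimage_image_eq _
  have hxW : j.base y ∈ W := ⟨y, (ProjectiveSpectrum.mem_basicOpen _ f y).mpr hfy, rfl⟩
  refine Groth.Agent.Lib.Helper2.FlatOver.isFlatOverAt_of_flat_sections p L hWaff hU hWU ?_ _ hxW
  -- the sections over `W`
  letI := (𝒜.str.app (op U)).hom.toAlgebra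
  let ψ₀ : Γ(S, U) →+* Γ(Proj (𝒜.deg U hU), j ⁻¹ᵁ W) := (j.app W).hom.comp (p.appLE U W hWU).hom
  have hψ : ∀ (r : Γ(S, U)) (y : ProjectiveSpectrum (𝒜.deg U hU)) (hy : y ∈ j ⁻¹ᵁ W),
      (funVal (𝒜.deg U hU) (j ⁻¹ᵁ W) (ψ₀ r) y hy).val =
        algebraMap (𝒜.presheaf.obj (op U)) (GrTwist.Loc (𝒜.deg U hU) y)
          (algebraMap Γ(S, U) (𝒜.presheaf.obj (op U)) r) := by
    intro r y hy
    have hy' : y ∈ j ⁻¹ᵁ (p ⁻¹ᵁ U) := j.preimage_mono hWU hy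
    have e1 : ψ₀ r = (Proj (𝒜.deg U hU)).presheaf.map (homOfLE (j.preimage_mono hWU)).op
        (j.app (p ⁻¹ᵁ U) (p.app U r)) := by
      change j.app W (p.appLE U W hWU r) = _
      rw [Scheme.Hom.appLE]
      have := congr($(j.naturality (homOfLE hWU).op) (p.app U r))
      exact this
    rw [e1, funVal_map]
    exact Groth.Agent.Helper18BaseFun.funVal_emb_app hP U hU r y hy'
  have hflatT := flat_twist_sections' (𝒜.deg U hU) (fun r => 𝒜.str_mem U hU r) hf hd n d₀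
    (fun e he => hd₀ e he U hU) (j ⁻¹ᵁ W) hpre ψ₀ hψ
  letI m1 : Module Γ(S, U) Γ(L, W) := Module.compHom Γ(L, W) (p.appLE U W hWU).hom
  letI m2 : Module Γ(S, U) Γ(GrMod.tilde (𝒜.deg U hU) (𝒜.deg U hU) n, j ⁻¹ᵁ W) :=
    Module.compHom _ ψ₀
  haveI : Module.Flat Γ(S, U) Γ(GrMod.tilde (𝒜.deg U hU) (𝒜.deg U hU) n, j ⁻¹ᵁ W) := hflatT
  let e : Γ(L, W) ≃ₗ[Γ(S, U)] Γ(GrMod.tilde (𝒜.deg U hU) (𝒜.deg U hU) n, j ⁻¹ᵁ W) :=
    { AddEquiv.ofBijective ((lam U hU).app W).hom (hL.bijective U hU W hWU) with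
      map_smul' := fun r s => by
        change (lam U hU).app W ((p.appLE U W hWU r) • s) =
          ((j.app W (p.appLE U W hWU r)) • (show Γ(GrTwist.twist (𝒜.deg U hU) n, j ⁻¹ᵁ W) from
            (lam U hU).app W s) : Γ(GrTwist.twist (𝒜.deg U hU) n, j ⁻¹ᵁ W))
        rw [Scheme.Modules.Hom.app_smul, pushforward_smul] }
  exact Module.Flat.of_linearEquiv e

end Groth.Agent.Lib.Helper21.GBC48
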