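import Mathlib
import Groth.Agent.S11918
import Groth.Agent.Lib.Helper23SS5

/-!
# Helper21: the Grothendieck spectral sequence with pluggable targets

`R^p S (R^q T A) ⇒ R^{p+q}(S ∘ T) A`, where the `E_2`-terms and the abutment are given only up to
(non-canonical) isomorphisms.
-/

set_option autoImplicit false
universe v u
open CategoryTheory CategoryTheory.Limits

namespace Groth.Agent.Lib.Helper21.GSS

open Groth.Agent.Lib.Helper23SS3 Groth.Agent.Lib.Helper23SS5 Groth.Agent.S12229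
  Groth.Agent.Lib.Helper23Acyclic Groth.Agent.Lib.Helper23Leray Groth.Agent.Lib.Helper23Bridge
  Groth.Agent.S11918

theorem gss_general {C C' C'' : Type u} [Category.{v} C] [Category.{v} C'] [Category.{v} C'']
    [Abelian C] [Abelian C'] [Abelian C''] [HasInjectiveResolutions C] [HasInjectiveResolutions C']
    (T : C ⥤ C') [T.Additive] (S : C' ⥤ C'') [S.Additive] [PreservesFiniteLimits S]
    (hT : ∀ Q : C, Injective Q → ∀ q : ℕ, 0 < q → IsZero ((S.rightDerived q).obj (T.obj Q))) (A : C)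
    (H : ℤ → C'') (hH : ∀ n : ℕ, Nonempty (((T ⋙ S).rightDerived n).obj A ≅ H n))
    (hH' : ∀ n : ℤ, n < 0 → IsZero (H n))
    (E2 : ℤ → ℤ → C'')
    (hE2 : ∀ p q : ℕ, Nonempty ((S.rightDerived p).obj ((T.rightDerived q).obj A) ≅ E2 p q))
    (hE2' : ∀ p q : ℤ, ¬ (0 ≤ p ∧ 0 ≤ q) → IsZero (E2 p q)) :
    ∃ (E : E₂CohomologicalSpectralSequence C'') (a : SpSeq.Abutment E H),
      (∀ n, a.IsFinite n) ∧ SpSeq.IsBounded E ∧
      ∀ p q : ℤ, Nonempty ((E.page 2 le_rfl).X (p, q) ≅ E2 p q) := by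
  have : EnoughInjectives C := enoughInjectives_of_hasInjectiveResolutions C
  have : EnoughInjectives C' := enoughInjectives_of_hasInjectiveResolutions C'
  have : HasDerivedCategory.{max u v} C := HasDerivedCategory.standard C
  have : HasDerivedCategory.{max u v} C' := HasDerivedCategory.standard C'
  have : HasDerivedCategory.{max u v} C'' := HasDerivedCategory.standard C''
  let I : InjectiveResolution A := injectiveResolution A
  let TI : CochainComplex C' ℤ := (T.mapHomologicalComplex (ComplexShape.up ℤ)).obj I.cochainComplex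
  have hTI : TI.IsStrictlyGE 0 := by dsimp [TI]; infer_instance
  let K : CochainComplex.Plus C' := ⟨TI, 0, hTI⟩
  let Y := DerivedCategory.Plus.Q.obj K
  have hY : Y.IsGE 0 := by
    rw [← DerivedCategory.Plus.isGE_ι_obj_iff]
    show (DerivedCategory.Q.obj TI).IsGE 0
    infer_instance
  have hK : IsIso (τ S K) := leray S K (fun m => (acyclic_iff S _).2 (hT _ (by
    show Injective (I.cochainComplex.X m); infer_instance)))
  have e : ∀ n : ℤ, Nonempty ((DerivedCategory.homologyFunctor C'' n).obj ((G S).obj Y) ≅ H n) := by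
    intro n
    obtain ⟨e₁⟩ := homology_G_Q S K hK n
    by_cases h : 0 ≤ n
    · obtain ⟨e₂⟩ := homology_map_cochainComplex (T ⋙ S) I n.toNat n (Int.toNat_of_nonneg h)
      obtain ⟨e₃⟩ := hH n.toNat
      exact ⟨e₁ ≪≫ e₂ ≪≫ e₃ ≪≫ eqToIso (by rw [Int.toNat_of_nonneg h])⟩
    · exact ⟨e₁ ≪≫ (isZero_homology_map_cochainComplex (T ⋙ S) I n (by lia)).isoZero ≪≫
        (hH' n (by lia)).isoZero.symm⟩
  obtain ⟨E, a, ha, hE, hpq⟩ := exists_spectralSequence S Y _ (fun n => (e n).some)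
  refine ⟨E, a, ha, hE, fun p q => ?_⟩
  by_cases h : 0 ≤ p ∧ 0 ≤ q
  · obtain ⟨e₁⟩ := (hpq p q).1 p.toNat (Int.toNat_of_nonneg h.1)
    obtain ⟨e₂⟩ := homology_map_cochainComplex T I q.toNat q (Int.toNat_of_nonneg h.2)
    obtain ⟨e₃⟩ := hE2 p.toNat q.toNat
    exact ⟨e₁ ≪≫ (S.rightDerived p.toNat).mapIso
      ((DerivedCategory.homologyFunctorFactors C' q).app TI ≪≫ e₂) ≪≫ e₃ ≪≫
        eqToIso (by rw [Int.toNat_of_nonneg h.1, Int.toNat_of_nonneg h.2])⟩
  · exact ⟨((hpq p q).2 h).isoZero ≪≫ (hE2' p q h).isoZero.symm⟩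

end Groth.Agent.Lib.Helper21.GSS
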