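import Mathlib

/-!
# Galois categories: uniqueness of fibre functors (helper21)

`exists_iso_of_preservesFiniteLimits`: on a Galois category with fibre functor `F`, a functor `F'` to
finite sets preserving finite limits, binary coproducts and with nonempty values on non-initial
objects is isomorphic to `F`.
-/

set_option autoImplicit false
universe u v w

open CategoryTheory PreGaloisCategory Limits

namespace Groth.Agent.Lib.Helper21.Gal

section Fiber

variable {C : Type u} [Category.{v} C] [HasFiniteLimits C]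
  (G : C ⥤ FintypeCat.{w}) [PreservesFiniteLimits G]

/-- fibre of a binary product -/
noncomputable def prodEquiv (X Y : C) : G.obj (X ⨯ Y) ≃ G.obj X × G.obj Y :=
  (PreservesLimitPair.iso (G ⋙ FintypeCat.incl) X Y ≪≫
    Types.binaryProductIso (G.obj X) (G.obj Y)).toEquiv

lemma prodEquiv_symm_fst {X Y : C} (x : G.obj X) (y : G.obj Y) :
    G.map prod.fst ((prodEquiv G X Y).symm (x, y)) = x := by
  simp only [prodEquiv]
  change ((Types.binaryProductIso _ _).inv ≫ _ ≫ (G ⋙ FintypeCat.incl).map prod.fst) _ = _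
  erw [PreservesLimitPair.iso_inv_fst, Types.binaryProductIso_inv_comp_fst]
  rfl

lemma prodEquiv_symm_snd {X Y : C} (x : G.obj X) (y : G.obj Y) :
    G.map prod.snd ((prodEquiv G X Y).symm (x, y)) = y := by
  simp only [prodEquiv]
  change ((Types.binaryProductIso _ _).inv ≫ _ ≫ (G ⋙ FintypeCat.incl).map prod.snd) _ = _
  erw [PreservesLimitPair.iso_inv_snd, Types.binaryProductIso_inv_comp_snd]
  rfl

lemma prodEquiv_apply {X Y : C} (z : G.obj (X ⨯ Y)) :
    prodEquiv G X Y z = (G.map prod.fst z, G.map prod.snd z) := by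
  obtain ⟨⟨x, y⟩, rfl⟩ := (prodEquiv G X Y).symm.surjective z
  rw [Equiv.apply_symm_apply, prodEquiv_symm_fst, prodEquiv_symm_snd]

lemma prod_ext {X Y : C} {z z' : G.obj (X ⨯ Y)} (h1 : G.map prod.fst z = G.map prod.fst z')
    (h2 : G.map prod.snd z = G.map prod.snd z') : z = z' := by
  apply (prodEquiv G X Y).injective
  rw [prodEquiv_apply, prodEquiv_apply, h1, h2]

/-- fibre of an equalizer -/
noncomputable def eqEquiv {X Y : C} (f g : X ⟶ Y) :
    G.obj (equalizer f g) ≃ { x : G.obj X // G.map f x = G.map g x } :=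
  (PreservesEqualizer.iso (G ⋙ FintypeCat.incl) f g ≪≫
    Types.equalizerIso (G.map f).hom (G.map g).hom).toEquiv

lemma eqEquiv_symm_ι {X Y : C} {f g : X ⟶ Y} (x : G.obj X) (h : G.map f x = G.map g x) :
    G.map (equalizer.ι f g) ((eqEquiv G f g).symm ⟨x, h⟩) = x := by
  simp only [eqEquiv, Functor.comp_map]
  change ((Types.equalizerIso _ _).inv ≫ _ ≫ (G ⋙ FintypeCat.incl).map (equalizer.ι f g)) _ = _
  erw [PreservesEqualizer.iso_inv_ι, Types.equalizerIso_inv_comp_ι]
  rfl

end Fiber

section Unique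

variable {C : Type u} [Category.{v} C] [GaloisCategory C]
  (F : C ⥤ FintypeCat.{w}) [FiberFunctor F]

/-- pointed Galois objects are cofiltered (any universe for the fibre functor) -/
lemma isCofilteredOrEmpty_pointed : IsCofilteredOrEmpty (PointedGaloisObject F) where
  cone_objs := fun ⟨A, a, _⟩ ⟨B, b, _⟩ ↦ by
    obtain ⟨Z, f, z, hgal, hfz⟩ := exists_hom_from_galois_of_fiber F (A ⨯ B)
      <| (fiberBinaryProductEquiv F A B).symm (a, b)
    refine ⟨⟨Z, z, hgal⟩, ⟨f ≫ prod.fst, ?_⟩, ⟨f ≫ prod.snd, ?_⟩, trivial⟩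
    · simp only [F.map_comp, hfz, FintypeCat.comp_apply, fiberBinaryProductEquiv_symm_fst_apply]
    · simp only [F.map_comp, hfz, FintypeCat.comp_apply, fiberBinaryProductEquiv_symm_snd_apply]
  cone_maps := fun ⟨A, a, _⟩ ⟨B, b, _⟩ ⟨f, hf⟩ ⟨g, hg⟩ ↦ by
    obtain ⟨Z, h, z, hgal, hhz⟩ := exists_hom_from_galois_of_fiber F A a
    refine ⟨⟨Z, z, hgal⟩, ⟨h, hhz⟩, PointedGaloisObject.hom_ext ?_⟩
    apply evaluation_injective_of_isConnected F Z B z
    simp [hhz, hf, hg]

variable (F' : C ⥤ FintypeCat.{w})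

/-- a compatible system of points of `F'` on the pointed Galois objects of `F` -/
structure CompatPts where
  pt : ∀ A : PointedGaloisObject F, F'.obj A.obj
  compat : ∀ {A B : PointedGaloisObject F} (f : A ⟶ B), F'.map f.val (pt A) = pt B

lemma nonempty_compatPts (h : ∀ A : C, IsGalois A → Nonempty (F'.obj A)) :
    Nonempty (CompatPts F F') := by
  haveI := isCofilteredOrEmpty_pointed F
  let D : PointedGaloisObject F ⥤ Type w := PointedGaloisObject.incl F ⋙ F' ⋙ FintypeCat.incl
  haveI : ∀ j, Finite (D.obj j) := fun j => inferInstanceAs (Finite (F'.obj j.obj))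
  haveI : ∀ j, Nonempty (D.obj j) := fun j => h j.obj j.isGalois
  obtain ⟨s, hs⟩ := nonempty_sections_of_finite_cofiltered_system D
  exact ⟨⟨s, fun f => hs f⟩⟩

variable {F F'}

lemma exists_eta (P : CompatPts F F') (X : C) (x : F.obj X) :
    ∃ y : F'.obj X, ∀ (A : PointedGaloisObject F) (f : A.obj ⟶ X), F.map f A.pt = x →
      F'.map f (P.pt A) = y := by
  haveI := isCofilteredOrEmpty_pointed F
  obtain ⟨A₀, f₀, a₀, hgal, h₀⟩ := exists_hom_from_galois_of_fiber F X x
  refine ⟨F'.map f₀ (P.pt ⟨A₀, a₀, hgal⟩), fun A f hf => ?_⟩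
  obtain ⟨Z, p, q, -⟩ := IsCofilteredOrEmpty.cone_objs (⟨A₀, a₀, hgal⟩ : PointedGaloisObject F) A
  have hpq : p.val ≫ f₀ = q.val ≫ f := by
    apply evaluation_injective_of_isConnected F Z.obj X Z.pt
    change F.map (p.val ≫ f₀) Z.pt = F.map (q.val ≫ f) Z.pt
    rw [F.map_comp, F.map_comp, FintypeCat.comp_apply, FintypeCat.comp_apply, p.comp, q.comp, h₀, hf]
  rw [← P.compat q, ← P.compat p, ← FintypeCat.comp_apply, ← FintypeCat.comp_apply,
    ← F'.map_comp, ← F'.map_comp, hpq]

/-- the comparison map `F X → F' X` -/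
noncomputable def etaFun (P : CompatPts F F') (X : C) (x : F.obj X) : F'.obj X :=
  (exists_eta P X x).choose

lemma etaFun_spec (P : CompatPts F F') {X : C} (x : F.obj X) (A : PointedGaloisObject F)
    (f : A.obj ⟶ X) (hf : F.map f A.pt = x) : etaFun P X x = F'.map f (P.pt A) :=
  ((exists_eta P X x).choose_spec A f hf).symm

/-- the comparison natural transformation -/
noncomputable def eta (P : CompatPts F F') : F ⟶ F' where
  app X := FintypeCat.homMk (etaFun P X)
  naturality X Y g := by
    ext x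
    obtain ⟨A₀, f₀, a₀, hgal, h₀⟩ := exists_hom_from_galois_of_fiber F X x
    change etaFun P Y (F.map g x) = F'.map g (etaFun P X x)
    rw [etaFun_spec P x ⟨A₀, a₀, hgal⟩ f₀ h₀,
      etaFun_spec P (F.map g x) ⟨A₀, a₀, hgal⟩ (f₀ ≫ g) (by
        rw [F.map_comp, FintypeCat.comp_apply, h₀]),
      F'.map_comp, FintypeCat.comp_apply]

lemma eta_app_apply (P : CompatPts F F') (X : C) (x : F.obj X) :
    (eta P).app X x = etaFun P X x := rfl

section Bij

variable [PreservesFiniteLimits F'] [PreservesColimitsOfShape (Discrete WalkingPair) F']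

omit [GaloisCategory C] in
/-- a functor to finite sets preserving binary coproducts sends initial objects to the empty set -/
lemma isEmpty_obj_of_isInitial [HasBinaryCoproducts C] {X : C} (hX : IsInitial X) :
    IsEmpty (F'.obj X) := by
  refine ⟨fun x => ?_⟩
  have hc : IsColimit (BinaryCofan.mk (F'.map (coprod.inl : X ⟶ X ⨿ X)) (F'.map coprod.inr)) :=
    (isColimitMapCoconeBinaryCofanEquiv F' _ _) (isColimitOfPreserves F' (coprodIsCoprod X X))
  let T : FintypeCat.{w} := FintypeCat.of (ULift.{w} Bool)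
  let a : F'.obj X ⟶ T := FintypeCat.homMk (fun _ => ULift.up true)
  let b : F'.obj X ⟶ T := FintypeCat.homMk (fun _ => ULift.up false)
  have h1 : F'.map (coprod.inl : X ⟶ X ⨿ X) ≫ hc.desc (BinaryCofan.mk a b) = a :=
    hc.fac (BinaryCofan.mk a b) ⟨WalkingPair.left⟩
  have h2 : F'.map (coprod.inr : X ⟶ X ⨿ X) ≫ hc.desc (BinaryCofan.mk a b) = b :=
    hc.fac (BinaryCofan.mk a b) ⟨WalkingPair.right⟩
  have h3 : (coprod.inl : X ⟶ X ⨿ X) = coprod.inr := hX.hom_ext _ _
  generalize hc.desc (BinaryCofan.mk a b) = t at h1 h2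
  change F'.map (coprod.inl : X ⟶ X ⨿ X) ≫ (t : F'.obj (X ⨿ X) ⟶ T) = a at h1
  change F'.map (coprod.inr : X ⟶ X ⨿ X) ≫ (t : F'.obj (X ⨿ X) ⟶ T) = b at h2
  rw [h3, h2] at h1
  have := ConcreteCategory.congr_hom h1 x
  exact Bool.false_ne_true (congrArg ULift.down this)

omit [GaloisCategory C] in
lemma preservesInitial [HasBinaryCoproducts C] [HasInitial C] :
    PreservesColimitsOfShape (Discrete PEmpty.{1}) F' := by
  haveI : IsEmpty (F'.obj (⊥_ C)) := isEmpty_obj_of_isInitial initialIsInitial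
  haveI : IsEmpty (⊥_ FintypeCat.{w} : FintypeCat.{w}) :=
    (Concrete.initial_iff_empty_of_preserves_of_reflects (⊥_ FintypeCat.{w})).mp ⟨initialIsInitial⟩
  haveI := preservesInitial_of_iso F'
    (FintypeCat.equivEquivIso (Equiv.equivOfIsEmpty (⊥_ FintypeCat.{w} : FintypeCat.{w}) (F'.obj (⊥_ C))))
  exact preservesColimitsOfShape_pempty_of_preservesInitial F'

variable (F) in
/-- for a Galois object `A` representing the fibre of `X`, `A ⨯ X` is a coproduct of copies of `A` -/
lemma isIso_sigmaDesc_graph (A X : C) [IsGalois A] (a : F.obj A)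
    (hbij : Function.Bijective (fun f : A ⟶ X => F.map f a)) :
    IsIso (Sigma.desc (fun f : A ⟶ X => prod.lift (𝟙 A) f)) := by
  letI : Fintype (A ⟶ X) := Fintype.ofFinite _
  set D := Sigma.desc (fun f : A ⟶ X => prod.lift (𝟙 A) f) with hD
  have hι : ∀ f : A ⟶ X, Sigma.ι (fun _ : A ⟶ X => A) f ≫ D = prod.lift (𝟙 A) f :=
    fun f => Sigma.ι_desc _ _
  have hc : IsColimit (F.mapCocone (colimit.cocone (Discrete.functor (fun _ : A ⟶ X => A)))) :=
    isColimitOfPreserves F (colimit.isColimit _)
  have key : ∀ (f : A ⟶ X) (b : F.obj A),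
      F.map prod.fst (F.map D (F.map (Sigma.ι (fun _ : A ⟶ X => A) f) b)) = b ∧
      F.map prod.snd (F.map D (F.map (Sigma.ι (fun _ : A ⟶ X => A) f) b)) = F.map f b := by
    intro f b
    have e1 : F.map D (F.map (Sigma.ι (fun _ : A ⟶ X => A) f) b) = F.map (prod.lift (𝟙 A) f) b := by
      rw [← hι f, F.map_comp, FintypeCat.comp_apply]
    rw [e1]
    constructor
    · rw [← FintypeCat.comp_apply, ← F.map_comp, prod.lift_fst, F.map_id]; rfl
    · rw [← FintypeCat.comp_apply, ← F.map_comp, prod.lift_snd]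
  have hbijD : Function.Bijective (F.map D) := by
    constructor
    · intro w₁ w₂ hw
      obtain ⟨⟨f⟩, b, rfl⟩ := Concrete.isColimit_exists_rep _ hc w₁
      obtain ⟨⟨g⟩, c, rfl⟩ := Concrete.isColimit_exists_rep _ hc w₂
      change F.map D (F.map (Sigma.ι (fun _ : A ⟶ X => A) f) b) =
        F.map D (F.map (Sigma.ι (fun _ : A ⟶ X => A) g) c) at hw
      have hb : b = c := by
        have := congrArg (F.map prod.fst) hw
        rwa [(key f b).1, (key g c).1] at this
      subst hb
      have hfg : f = g := by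
        apply evaluation_injective_of_isConnected F A X b
        have := congrArg (F.map prod.snd) hw
        rwa [(key f b).2, (key g b).2] at this
      subst hfg; rfl
    · intro z
      obtain ⟨φ, hφ⟩ := MulAction.exists_smul_eq (Aut A) a (F.map prod.fst z)
      have hφ' : F.map φ.hom a = F.map prod.fst z := hφ
      obtain ⟨g, hg⟩ := hbij.surjective (F.map prod.snd z)
      have hg' : F.map g a = F.map prod.snd z := hg
      refine ⟨F.map (Sigma.ι (fun _ : A ⟶ X => A) (φ.inv ≫ g)) (F.map prod.fst z), ?_⟩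
      apply prod_ext F
      · exact (key _ _).1
      · rw [(key _ _).2, ← hφ', ← FintypeCat.comp_apply, ← F.map_comp, Iso.hom_inv_id_assoc, hg']
  haveI : IsIso (F.map D) := (ConcreteCategory.isIso_iff_bijective _).mpr hbijD
  exact isIso_of_reflects_iso D F

lemma etaFun_injective (P : CompatPts F F') (X : C) : Function.Injective (etaFun P X) := by
  intro x y hxy
  obtain ⟨A, a, hgal, hbij⟩ := exists_galois_representative F X
  obtain ⟨f, hf⟩ := hbij.surjective x
  obtain ⟨g, hg⟩ := hbij.surjective y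
  have hf' : F.map f a = x := hf
  have hg' : F.map g a = y := hg
  rw [etaFun_spec P _ ⟨A, a, hgal⟩ f hf', etaFun_spec P _ ⟨A, a, hgal⟩ g hg'] at hxy
  have : IsIso (equalizer.ι f g) := by
    apply IsConnected.noTrivialComponent _ (equalizer.ι f g)
    intro hi
    exact (isEmpty_obj_of_isInitial (F' := F') hi).false ((eqEquiv F' f g).symm ⟨_, hxy⟩)
  have hfg : f = g := eq_of_epi_equalizer
  rw [← hf', ← hg', hfg]

lemma etaFun_surjective (P : CompatPts F F') (X : C) : Function.Surjective (etaFun P X) := by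
  intro y'
  obtain ⟨A, a, hgal, hbij⟩ := exists_galois_representative F X
  haveI := hgal
  let a' := P.pt ⟨A, a, hgal⟩
  let z' : F'.obj (A ⨯ X) := (prodEquiv F' A X).symm (a', y')
  haveI hiso := isIso_sigmaDesc_graph F A X a hbij
  letI : Fintype (A ⟶ X) := Fintype.ofFinite _
  haveI := preservesInitial (F' := F')
  haveI : PreservesColimitsOfShape (Discrete (A ⟶ X)) F' :=
    PreservesFiniteCoproducts.of_preserves_binary_and_initial F' (A ⟶ X)
  let D := Sigma.desc (fun f : A ⟶ X => prod.lift (𝟙 A) f)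
  let w := F'.map (inv D) z'
  have hc : IsColimit (F'.mapCocone (colimit.cocone (Discrete.functor (fun _ : A ⟶ X => A)))) :=
    isColimitOfPreserves F' (colimit.isColimit _)
  obtain ⟨⟨f⟩, b', hb'⟩ := Concrete.isColimit_exists_rep _ hc w
  have hb : F'.map (Sigma.ι (fun _ : A ⟶ X => A) f) b' = w := hb'
  have hz : F'.map (prod.lift (𝟙 A) f) b' = z' := by
    have : Sigma.ι (fun _ : A ⟶ X => A) f ≫ D = prod.lift (𝟙 A) f := Sigma.ι_desc _ _
    rw [← this, F'.map_comp, FintypeCat.comp_apply, hb]
    show F'.map D (F'.map (inv D) z') = z'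
    rw [← FintypeCat.comp_apply, ← F'.map_comp, IsIso.inv_hom_id, F'.map_id]; rfl
  have h1 : b' = a' := by
    have := congrArg (F'.map prod.fst) hz
    rw [← FintypeCat.comp_apply, ← F'.map_comp, prod.lift_fst, F'.map_id, prodEquiv_symm_fst] at this
    exact this
  have h2 : F'.map f b' = y' := by
    have := congrArg (F'.map prod.snd) hz
    rw [← FintypeCat.comp_apply, ← F'.map_comp, prod.lift_snd, prodEquiv_symm_snd] at this
    exact this
  refine ⟨F.map f a, ?_⟩
  rw [etaFun_spec P _ ⟨A, a, hgal⟩ f rfl, ← h2, h1]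

variable (F F') in
/-- **Uniqueness of fibre functors**: a functor to finite sets preserving finite limits and binary
coproducts, with nonempty values on non-initial objects, is isomorphic to the fibre functor. -/
theorem exists_iso_of_preservesFiniteLimits
    (h : ∀ X : C, IsEmpty (F'.obj X) → Nonempty (IsInitial X)) : Nonempty (F' ≅ F) := by
  obtain ⟨P⟩ := nonempty_compatPts F F' (fun A hA => by
    by_contra hne
    rw [not_nonempty_iff] at hne
    obtain ⟨hi⟩ := h A hne
    exact hA.toIsConnected.notInitial hi)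
  haveI : ∀ X, IsIso ((eta P).app X) := fun X =>
    (ConcreteCategory.isIso_iff_bijective _).mpr ⟨etaFun_injective P X, etaFun_surjective P X⟩
  haveI : IsIso (eta P) := NatIso.isIso_of_isIso_app _
  exact ⟨(asIso (eta P)).symm⟩

end Bij

end Unique

end Groth.Agent.Lib.Helper21.Gal
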