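import Mathlib
import Groth.Agent.Lib.Helper21Gal

/-!
# Galois categories: morphisms from equivariant maps, objects from finite continuous sets (helper21)
-/

set_option autoImplicit false
universe u v w

open CategoryTheory PreGaloisCategory Limits

namespace Groth.Agent.Lib.Helper21.Gal

section Single

variable {C : Type u} [Category.{v} C] [GaloisCategory C]
  (F : C ⥤ FintypeCat.{w}) [FiberFunctor F]

/-- equivariant maps of fibres come from morphisms -/
lemma exists_hom_of_equivariant {X Y : C} (φ : F.obj X → F.obj Y)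
    (hφ : ∀ (σ : Aut F) (x : F.obj X), φ (σ • x) = σ • φ x) :
    ∃ f : X ⟶ Y, ∀ x, F.map f x = φ x := by
  let g : (functorToAction F).obj X ⟶ (functorToAction F).obj Y :=
    { hom := FintypeCat.homMk φ
      comm := fun σ => by
        ext x
        exact hφ σ x }
  obtain ⟨f, hf⟩ := (functorToAction F).map_surjective g
  refine ⟨f, fun x => ?_⟩
  have : ((functorToAction F).map f).hom = g.hom := by rw [hf]
  rw [functorToAction_map] at this
  rw [this]
  rfl

/-- equivariant bijections of fibres come from isomorphisms -/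
lemma exists_iso_of_equivariant {X Y : C} (φ : F.obj X ≃ F.obj Y)
    (hφ : ∀ (σ : Aut F) (x : F.obj X), φ (σ • x) = σ • φ x) :
    ∃ f : X ≅ Y, ∀ x, F.map f.hom x = φ x := by
  obtain ⟨f, hf⟩ := exists_hom_of_equivariant F φ hφ
  haveI : IsIso (F.map f) := by
    rw [ConcreteCategory.isIso_iff_bijective]
    have : (F.map f : F.obj X → F.obj Y) = φ := funext hf
    rw [this]
    exact φ.bijective
  haveI : IsIso f := isIso_of_reflects_iso f F
  exact ⟨asIso f, hf⟩

lemma subsingleton_fiber_terminal : Subsingleton (F.obj (⊤_ C)) := by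
  have hT : IsTerminal (F.obj (⊤_ C)) := IsTerminal.isTerminalObj F (⊤_ C) terminalIsTerminal
  refine ⟨fun a b => ?_⟩
  let fa : FintypeCat.of PUnit.{w + 1} ⟶ F.obj (⊤_ C) := FintypeCat.homMk (fun _ => a)
  let fb : FintypeCat.of PUnit.{w + 1} ⟶ F.obj (⊤_ C) := FintypeCat.homMk (fun _ => b)
  exact ConcreteCategory.congr_hom (hT.hom_ext fa fb) PUnit.unit

lemma nonempty_fiber_terminal : Nonempty (F.obj (⊤_ C)) := by
  have hT : IsTerminal (F.obj (⊤_ C)) := IsTerminal.isTerminalObj F (⊤_ C) terminalIsTerminal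
  exact ⟨(hT.from (FintypeCat.of PUnit.{w + 1})) PUnit.unit⟩

/-- fixed points of the fibre are sections from the terminal object -/
lemma exists_section_of_fixed {Y : C} (y : F.obj Y) (hy : ∀ σ : Aut F, σ • y = y) :
    ∃ s : ⊤_ C ⟶ Y, ∀ t, F.map s t = y :=
  exists_hom_of_equivariant F (fun _ => y) (fun σ _ => (hy σ).symm)

lemma fixed_of_section {Y : C} (s : ⊤_ C ⟶ Y) (t : F.obj (⊤_ C)) (σ : Aut F) :
    σ • F.map s t = F.map s t := by
  haveI := subsingleton_fiber_terminal F
  rw [mulAction_naturality]
  congr 1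
  exact Subsingleton.elim _ _

/-- morphisms out of connected objects from inclusions of stabilizers -/
lemma exists_hom_of_stabilizer_le {X Y : C} [IsConnected X] (x : F.obj X) (y : F.obj Y)
    (h : MulAction.stabilizer (Aut F) x ≤ MulAction.stabilizer (Aut F) y) :
    ∃ f : X ⟶ Y, F.map f x = y := by
  have hex : ∀ x' : F.obj X, ∃ σ : Aut F, σ • x = x' := fun x' => MulAction.exists_smul_eq _ x x'
  choose τ hτ using hex
  have key : ∀ (σ : Aut F), σ • y = τ (σ • x) • y := by
    intro σ
    have h1 : (τ (σ • x))⁻¹ * σ ∈ MulAction.stabilizer (Aut F) x := by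
      rw [MulAction.mem_stabilizer_iff, mul_smul, inv_smul_eq_iff]
      exact (hτ (σ • x)).symm
    have h2 := h h1
    rw [MulAction.mem_stabilizer_iff, mul_smul, inv_smul_eq_iff] at h2
    exact h2
  obtain ⟨f, hf⟩ := exists_hom_of_equivariant F (X := X) (Y := Y) (fun x' => τ x' • y) (by
    intro σ x'
    change τ (σ • x') • y = σ • τ x' • y
    rw [← mul_smul, key (σ * τ x'), mul_smul, hτ x'])
  refine ⟨f, ?_⟩
  rw [hf x]
  change τ x • y = y
  have := key 1
  rw [one_smul, one_smul] at this
  exact this.symm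

/-- an automorphism of the fibre functor acting trivially on connected objects is trivial -/
lemma eq_one_of_forall_connected (σ : Aut F)
    (h : ∀ (X : C) [IsConnected X] (x : F.obj X), σ • x = x) : σ = 1 := by
  apply Iso.ext
  ext X x
  obtain ⟨Y, i, y, hy, hc, -⟩ := fiber_in_connected_component F X x
  change σ • x = x
  rw [← hy, mulAction_naturality, h Y y]

open scoped FintypeCatDiscrete in
lemma exists_obj_of_fintypeCat_action (S : FintypeCat.{w}) [MulAction (Aut F) S]
    (hS : ∀ s : S, IsOpen (MulAction.stabilizer (Aut F) s : Set (Aut F))) :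
    ∃ (X : C) (e : F.obj X ≃ S), ∀ (σ : Aut F) (x : F.obj X), e (σ • x) = σ • e x := by
  let X₀ : Action FintypeCat.{w} (Aut F) := Action.FintypeCat.ofMulAction (Aut F) S
  have hcont' : ContinuousSMul (Aut F) S := by
    rw [continuousSMul_iff_stabilizer_isOpen]
    exact hS
  have hcont : X₀.IsContinuous := by
    constructor
    exact hcont'.continuous_smul
  let Y : ContAction FintypeCat.{w} (Aut F) := ⟨X₀, hcont⟩
  let A := (functorToContAction F).objPreimage Y
  let i : (functorToContAction F).obj A ≅ Y := (functorToContAction F).objObjPreimageIso Y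
  let j : (functorToAction F).obj A ≅ X₀ := (ObjectProperty.ι _).mapIso i
  let k : F.obj A ≅ S := (Action.forget _ _).mapIso j
  refine ⟨A, FintypeCat.equivEquivIso.symm k, fun σ x => ?_⟩
  change j.hom.hom (σ • x) = σ • j.hom.hom x
  exact ConcreteCategory.congr_hom (j.hom.comm σ) x

/-- every finite set with a continuous action of `Aut F` is the fibre of an object -/
lemma exists_obj_of_action (T : Type*) [Finite T] [MulAction (Aut F) T]
    (hT : ∀ t : T, IsOpen (MulAction.stabilizer (Aut F) t : Set (Aut F))) :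
    ∃ (X : C) (e : F.obj X ≃ T), ∀ (σ : Aut F) (x : F.obj X), e (σ • x) = σ • e x := by
  let n := Nat.card T
  let e₀ : T ≃ Fin n := Finite.equivFin T
  let S : FintypeCat.{w} := FintypeCat.of (ULift.{w} (Fin n))
  let e' : S ≃ T := Equiv.ulift.trans e₀.symm
  letI : MulAction (Aut F) S := e'.mulAction (Aut F)
  have hsmul : ∀ (σ : Aut F) (s : S), e' (σ • s) = σ • e' s := fun σ s => by
    change e' (e'.symm (σ • e' s)) = _
    simp
  obtain ⟨X, e, he⟩ := exists_obj_of_fintypeCat_action F S (fun s => by
    have : (MulAction.stabilizer (Aut F) s : Set (Aut F)) =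
        (MulAction.stabilizer (Aut F) (e' s) : Set (Aut F)) := by
      ext σ
      simp only [SetLike.mem_coe, MulAction.mem_stabilizer_iff]
      rw [← e'.apply_eq_iff_eq, hsmul]
    rw [this]
    exact hT _)
  exact ⟨X, e.trans e', fun σ x => by
    change e' (e (σ • x)) = σ • e' (e x)
    rw [he, hsmul]⟩

/-- objects with nonempty fibre on which `Aut F` acts transitively are connected -/
lemma isConnected_of_isPretransitive (X : C) [Nonempty (F.obj X)]
    [MulAction.IsPretransitive (Aut F) (F.obj X)] : IsConnected X where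
  notInitial := fun hi => not_initial_of_inhabited F (Classical.arbitrary (F.obj X)) hi
  noTrivialComponent Y i _ hY := by
    obtain ⟨y⟩ := (not_initial_iff_fiber_nonempty F Y).mp hY
    have hinj : Function.Injective (F.map i) :=
      ConcreteCategory.injective_of_mono_of_preservesPullback (F.map i)
    have hsurj : Function.Surjective (F.map i) := by
      intro x
      obtain ⟨σ, hσ⟩ := MulAction.exists_smul_eq (Aut F) (F.map i y) x
      exact ⟨σ • y, by rw [← mulAction_naturality, hσ]⟩
    haveI : IsIso (F.map i) := (ConcreteCategory.isIso_iff_bijective _).mpr ⟨hinj, hsurj⟩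
    exact isIso_of_reflects_iso i F

lemma isConnected_iff_isPretransitive (X : C) :
    IsConnected X ↔ Nonempty (F.obj X) ∧ MulAction.IsPretransitive (Aut F) (F.obj X) :=
  ⟨fun _ => ⟨inferInstance, inferInstance⟩, fun ⟨h1, h2⟩ => isConnected_of_isPretransitive F X⟩

/-- every open subgroup of `Aut F` is the stabilizer of a point of a connected object -/
lemma exists_pointed_of_openSubgroup (U : Subgroup (Aut F)) (hU : IsOpen (U : Set (Aut F))) :
    ∃ (X : C) (x : F.obj X), IsConnected X ∧ MulAction.stabilizer (Aut F) x = U := by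
  haveI : Finite (Aut F ⧸ U) := U.quotient_finite_of_isOpen hU
  obtain ⟨N, hN⟩ := ProfiniteGrp.exist_openNormalSubgroup_sub_open_nhds_of_one hU (one_mem U)
  obtain ⟨X, e, he⟩ := exists_obj_of_action F (Aut F ⧸ U) (fun t => by
    induction t using QuotientGroup.induction_on with
    | H g =>
      refine Subgroup.isOpen_mono (H₁ := N.toSubgroup) ?_ N.isOpen
      intro n hn
      rw [MulAction.mem_stabilizer_iff]
      change ((n * g : Aut F) : Aut F ⧸ U) = g
      rw [QuotientGroup.eq]
      apply hN
      have : (n * g)⁻¹ * g = g⁻¹ * n⁻¹ * g := by group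
      rw [this]
      have h1 : n⁻¹ ∈ N.toSubgroup := inv_mem hn
      have := N.isNormal'.conj_mem n⁻¹ h1 g⁻¹
      rw [inv_inv] at this
      exact this)
  have hstab : MulAction.stabilizer (Aut F) (e.symm ((1 : Aut F) : Aut F ⧸ U)) = U := by
    ext σ
    rw [MulAction.mem_stabilizer_iff, ← e.apply_eq_iff_eq, he, Equiv.apply_symm_apply]
    change ((σ * 1 : Aut F) : Aut F ⧸ U) = ((1 : Aut F) : Aut F ⧸ U) ↔ _
    rw [QuotientGroup.eq]
    simp
  haveI : Nonempty (F.obj X) := ⟨e.symm ((1 : Aut F) : Aut F ⧸ U)⟩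
  haveI : MulAction.IsPretransitive (Aut F) (F.obj X) := by
    refine ⟨fun x y => ?_⟩
    obtain ⟨σ, hσ⟩ := MulAction.exists_smul_eq (Aut F) (e x) (e y)
    refine ⟨σ, ?_⟩
    apply e.injective
    rw [he, hσ]
  exact ⟨X, _, isConnected_of_isPretransitive F X, hstab⟩

end Single

section Profinite

variable {G : Type*} [Group G] [TopologicalSpace G] [IsTopologicalGroup G] [CompactSpace G]
  [TotallyDisconnectedSpace G]

lemma exists_openSubgroup_of_notMem (K : Subgroup G) (hK : IsClosed (K : Set G)) (g : G)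
    (hg : g ∉ K) : ∃ U : Subgroup G, IsOpen (U : Set G) ∧ K ≤ U ∧ g ∉ U := by
  let K' : ClosedSubgroup G := ⟨K, hK⟩
  have h := ProfiniteGrp.closedSubgroup_eq_sInf_open K'
  by_contra hcon
  push Not at hcon
  apply hg
  have : g ∈ (K' : Subgroup G) := by
    rw [h]
    exact Subgroup.mem_sInf.mpr (fun N hN => hcon N hN.1 hN.2)
  exact this

lemma exists_openNormalSubgroup_of_notMem (K : Subgroup G) [K.Normal] (hK : IsClosed (K : Set G))
    (g : G) (hg : g ∉ K) :
    ∃ U : Subgroup G, IsOpen (U : Set G) ∧ U.Normal ∧ K ≤ U ∧ g ∉ U := by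
  let V : Set G := {x | x⁻¹ * g ∉ K}
  have hV : IsOpen V := by
    have : Continuous (fun x : G => x⁻¹ * g) := by fun_prop
    exact hK.isOpen_compl.preimage this
  have h1 : (1 : G) ∈ V := by
    change (1 : G)⁻¹ * g ∉ K
    simpa using hg
  obtain ⟨N, hN⟩ := ProfiniteGrp.exist_openNormalSubgroup_sub_open_nhds_of_one hV h1
  haveI : N.toSubgroup.Normal := N.isNormal'
  refine ⟨N.toSubgroup ⊔ K, Subgroup.isOpen_mono le_sup_left N.isOpen, inferInstance, le_sup_right, ?_⟩
  intro hmem
  obtain ⟨y, hy, z, hz, hyz⟩ := Subgroup.mem_sup_of_normal_left.mp hmem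
  have : y⁻¹ * g ∉ K := hN hy
  apply this
  rw [← hyz]
  simpa using hz

end Profinite

end Groth.Agent.Lib.Helper21.Gal
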