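import Mathlib
import Groth.Prelude.Def_Pi1X
import Groth.Agent.Lib.Helper21Gal2
import Groth.Agent.S1189

/-!
# Exact functors between Galois categories and the induced map of fundamental groups (helper21)
-/

set_option autoImplicit false
universe u v w

open CategoryTheory PreGaloisCategory Limits

namespace Groth.Agent.Lib.Helper21.Gal

section Rel

variable {C C' : Type u} [Category.{v} C] [Category.{v} C'] [GaloisCategory C] [GaloisCategory C']
  (H : C ⥤ C') [PreservesFiniteLimits H] [PreservesFiniteColimits H]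
  (F' : C' ⥤ FintypeCat.{w}) [FiberFunctor F'] [FiberFunctor (H ⋙ F')]

omit [GaloisCategory C] [GaloisCategory C'] [PreservesFiniteLimits H] [PreservesFiniteColimits H]
  [FiberFunctor F'] [FiberFunctor (H ⋙ F')] in
lemma autWhisker_smul (σ' : Aut F') {X : C} (x : (H ⋙ F').obj X) :
    Pi1X.autWhisker H F' σ' • x = (σ' • (show F'.obj (H.obj X) from x) : F'.obj (H.obj X)) := rfl

omit [GaloisCategory C] [GaloisCategory C'] [PreservesFiniteLimits H] [PreservesFiniteColimits H]
  [FiberFunctor F'] [FiberFunctor (H ⋙ F')] in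
lemma continuous_autWhisker : Continuous (Pi1X.autWhisker H F') := by
  rw [Topology.IsInducing.continuous_iff (autEmbedding_isClosedEmbedding _).isInducing,
    continuous_pi_iff]
  intro X
  change Continuous (fun σ' => autEmbedding F' σ' (H.obj X))
  exact (continuous_apply (H.obj X)).comp (autEmbedding_isClosedEmbedding F').continuous

omit [GaloisCategory C] [GaloisCategory C'] [PreservesFiniteLimits H] [PreservesFiniteColimits H]
  [FiberFunctor F'] [FiberFunctor (H ⋙ F')] in
lemma isClosed_range_autWhisker :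
    IsClosed ((Pi1X.autWhisker H F').range : Set (Aut (H ⋙ F'))) := by
  rw [MonoidHom.coe_range]
  exact (isCompact_range (continuous_autWhisker H F')).isClosed

include F' in
omit [PreservesFiniteLimits H] [PreservesFiniteColimits H] in
lemma faithful_of_fiberFunctor : H.Faithful := Functor.Faithful.of_comp H F'

omit [PreservesFiniteLimits H] [PreservesFiniteColimits H] in
lemma full_of_surjective (hs : Function.Surjective (Pi1X.autWhisker H F')) : H.Full := by
  constructor
  intro X Y g
  obtain ⟨f, hf⟩ := exists_hom_of_equivariant (H ⋙ F') (X := X) (Y := Y)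
    (fun x => F'.map g x) (by
      intro σ x
      obtain ⟨σ', rfl⟩ := hs σ
      exact (mulAction_naturality F' σ' g x).symm)
  refine ⟨f, ?_⟩
  apply F'.map_injective
  ext x
  exact hf x

/-- `H` full implies the map of fundamental groups is surjective -/
lemma surjective_of_full [H.Full] : Function.Surjective (Pi1X.autWhisker H F') := by
  intro σ
  by_contra hσ
  have hσ' : σ ∉ (Pi1X.autWhisker H F').range := hσ
  obtain ⟨U, hU, hKU, hσU⟩ := exists_openSubgroup_of_notMem _ (isClosed_range_autWhisker H F') σ hσ'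
  obtain ⟨X, x, hX, hstab⟩ := exists_pointed_of_openSubgroup (H ⋙ F') U hU
  -- `x` is fixed by `Aut F'`
  obtain ⟨s, hs⟩ := exists_section_of_fixed F' (Y := H.obj X) x (fun σ' => by
    have : Pi1X.autWhisker H F' σ' ∈ MulAction.stabilizer (Aut (H ⋙ F')) x := by
      rw [hstab]
      exact hKU ⟨σ', rfl⟩
    exact this)
  let s' : H.obj (⊤_ C) ⟶ H.obj X := (PreservesTerminal.iso H).hom ≫ s
  obtain ⟨f, hf⟩ := H.map_surjective s'
  obtain ⟨t₀⟩ := nonempty_fiber_terminal (H ⋙ F')
  have hfix := fixed_of_section (H ⋙ F') f t₀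
  -- the fixed point equals `x` by transitivity
  have hx : (H ⋙ F').map f t₀ = x := by
    obtain ⟨τ, hτ⟩ := MulAction.exists_smul_eq (Aut (H ⋙ F')) ((H ⋙ F').map f t₀) x
    rw [← hτ, hfix τ]
  apply hσU
  rw [← hstab, MulAction.mem_stabilizer_iff, ← hx]
  exact hfix σ

/-- S5146 -/
lemma range_le_stabilizer_iff (X : C) (a : (H ⋙ F').obj X) :
    (Pi1X.autWhisker H F').range ≤ MulAction.stabilizer (Aut (H ⋙ F')) a ↔
      ∃ s : ⊤_ C' ⟶ H.obj X, ∀ t : F'.obj (⊤_ C'), F'.map s t = a := by
  constructor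
  · intro h
    exact exists_section_of_fixed F' (Y := H.obj X) a (fun σ' => h ⟨σ', rfl⟩)
  · rintro ⟨s, hs⟩ _ ⟨σ', rfl⟩
    rw [MulAction.mem_stabilizer_iff]
    obtain ⟨t⟩ := nonempty_fiber_terminal F'
    have := fixed_of_section F' s t σ'
    rw [hs t] at this
    exact this

/-- the action of `Aut F'` on the fibre of `Y` is trivial -/
def TrivialOn (Y : C') : Prop := ∀ (σ' : Aut F') (y : F'.obj Y), σ' • y = y

omit [GaloisCategory C] in
lemma trivialOn_iff (Y : C') :
    TrivialOn F' Y ↔ ∃ n : ℕ, Nonempty (Y ≅ ∐ fun _ : Fin n => ⊤_ C') := by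
  constructor
  · intro h
    exact Groth.Agent.S1189.exists_iso_coprod_terminal_of_trivial F' Y h
  · rintro ⟨n, ⟨φ⟩⟩ σ' y
    have hinj : Function.Injective (F'.map φ.hom) :=
      ConcreteCategory.injective_of_mono_of_preservesPullback (F'.map φ.hom)
    apply hinj
    rw [← mulAction_naturality]
    change σ'.hom.app _ (F'.map φ.hom y) = _
    rw [Groth.Agent.S1189.app_coprod_terminal F' σ' n]
    rfl

/-- S5147 -/
lemma normalClosure_le_stabilizer_iff (X : C) [IsConnected X] (a : (H ⋙ F').obj X) :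
    Subgroup.normalClosure ((Pi1X.autWhisker H F').range : Set (Aut (H ⋙ F'))) ≤
        MulAction.stabilizer (Aut (H ⋙ F')) a ↔
      ∃ n : ℕ, Nonempty (H.obj X ≅ ∐ fun _ : Fin n => ⊤_ C') := by
  rw [← trivialOn_iff F']
  constructor
  · intro h σ' y
    obtain ⟨g, hg⟩ := MulAction.exists_smul_eq (Aut (H ⋙ F')) a (show (H ⋙ F').obj X from y)
    have hmem : g⁻¹ * Pi1X.autWhisker H F' σ' * g ∈
        Subgroup.normalClosure ((Pi1X.autWhisker H F').range : Set (Aut (H ⋙ F'))) := by
      have h1 : Pi1X.autWhisker H F' σ' ∈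
          Subgroup.normalClosure ((Pi1X.autWhisker H F').range : Set (Aut (H ⋙ F'))) :=
        Subgroup.subset_normalClosure ⟨σ', rfl⟩
      have := Subgroup.normalClosure_normal.conj_mem _ h1 g⁻¹
      rwa [inv_inv] at this
    have h2 := h hmem
    rw [MulAction.mem_stabilizer_iff, mul_smul, mul_smul, inv_smul_eq_iff, hg] at h2
    exact h2
  · intro h
    rw [Subgroup.normalClosure, Subgroup.closure_le]
    intro k hk
    obtain ⟨_, ⟨σ', rfl⟩, hconj⟩ := Group.mem_conjugatesOfSet_iff.mp hk
    obtain ⟨g, rfl⟩ := isConj_iff.mp hconj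
    rw [SetLike.mem_coe, MulAction.mem_stabilizer_iff, mul_smul, mul_smul]
    have := h σ' (show F'.obj (H.obj X) from (g⁻¹ • a : (H ⋙ F').obj X))
    rw [autWhisker_smul, this, smul_inv_smul]

/-- S5148, the easy direction -/
lemma ker_le_stabilizer_of_exists {X' : C'} [IsConnected X'] (a' : F'.obj X')
    (h : ∃ (X : C) (Y' : C') (i : Y' ⟶ H.obj X) (_ : Y' ⟶ X'), Mono i ∧ IsConnected Y') :
    (Pi1X.autWhisker H F').ker ≤ MulAction.stabilizer (Aut F') a' := by
  obtain ⟨X, Y', i, q, hi, hY'⟩ := h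
  intro σ' hσ'
  rw [MonoidHom.mem_ker] at hσ'
  rw [MulAction.mem_stabilizer_iff]
  have h1 : ∀ x : F'.obj (H.obj X), σ' • x = x := by
    intro x
    have := autWhisker_smul H F' σ' (X := X) x
    rw [hσ', one_smul] at this
    exact this.symm
  have hinj : Function.Injective (F'.map i) :=
    ConcreteCategory.injective_of_mono_of_preservesPullback (F'.map i)
  have h2 : ∀ y : F'.obj Y', σ' • y = y := by
    intro y
    apply hinj
    rw [← mulAction_naturality, h1]
  obtain ⟨y, hy⟩ := surjective_of_nonempty_fiber_of_isConnected F' q a'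
  rw [← hy, mulAction_naturality, h2]

/-- S5148, the hard direction -/
lemma exists_of_ker_le_stabilizer {X' : C'} (a' : F'.obj X')
    (h : (Pi1X.autWhisker H F').ker ≤ MulAction.stabilizer (Aut F') a') :
    ∃ (X : C) (Y' : C') (i : Y' ⟶ H.obj X) (q : Y' ⟶ X'),
      Mono i ∧ IsConnected Y' ∧ ∃ y' : F'.obj Y', F'.map q y' = a' := by
  let U' : Set (Aut F') := MulAction.stabilizer (Aut F') a'
  have hU' : IsOpen U' := stabilizer_isOpen (Aut F') a'
  let T : Set (Aut F') := U'ᶜ
  have hT : IsCompact T := hU'.isClosed_compl.isCompact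
  have hhT : IsClosed (Pi1X.autWhisker H F' '' T) :=
    (hT.image (continuous_autWhisker H F')).isClosed
  have h1 : (1 : Aut (H ⋙ F')) ∈ (Pi1X.autWhisker H F' '' T)ᶜ := by
    rintro ⟨t, ht, ht1⟩
    exact ht (h (MonoidHom.mem_ker.mpr ht1))
  obtain ⟨A, -, hA⟩ := (nhds_one_has_basis_stabilizers (H ⋙ F')).mem_iff.mp
    (hhT.isOpen_compl.mem_nhds h1)
  obtain ⟨Y', i, y', hy', hc, hm⟩ := fiber_in_connected_component F' (H.obj A.obj) A.pt
  haveI := hc
  obtain ⟨q, hq⟩ := exists_hom_of_stabilizer_le F' y' a' (by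
    intro σ' hσ'
    rw [MulAction.mem_stabilizer_iff] at hσ'
    by_contra hn
    have h2 : Pi1X.autWhisker H F' σ' ∈ MulAction.stabilizer (Aut (H ⋙ F')) A.pt := by
      rw [MulAction.mem_stabilizer_iff, autWhisker_smul]
      have h3 : σ' • F'.map i y' = F'.map i y' := by rw [mulAction_naturality, hσ']
      rw [hy'] at h3
      exact h3
    exact hA h2 ⟨σ', hn, rfl⟩)
  exact ⟨A.obj, Y', i, q, hm, hc, y', hq⟩

/-- S5148 -/
lemma ker_le_stabilizer_iff {X' : C'} [IsConnected X'] (a' : F'.obj X') :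
    (Pi1X.autWhisker H F').ker ≤ MulAction.stabilizer (Aut F') a' ↔
      ∃ (X : C) (Y' : C') (i : Y' ⟶ H.obj X) (_ : Y' ⟶ X'), Mono i ∧ IsConnected Y' := by
  constructor
  · intro h
    obtain ⟨X, Y', i, q, hm, hc, -⟩ := exists_of_ker_le_stabilizer H F' a' h
    exact ⟨X, Y', i, q, hm, hc⟩
  · exact ker_le_stabilizer_of_exists H F' a'

/-- S1188 -/
lemma injective_iff :
    Function.Injective (Pi1X.autWhisker H F') ↔
      ∀ X' : C', IsConnected X' →
        ∃ (X : C) (Y' : C') (p : Y' ⟶ X') (q : Y' ⟶ H.obj X), Epi p ∧ Mono q := by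
  constructor
  · intro hinj X' hX'
    obtain ⟨a'⟩ := nonempty_fiber_of_isConnected F' X'
    obtain ⟨X, Y', i, q, hm, hc, y', -⟩ := exists_of_ker_le_stabilizer H F' a' (by
      rw [(MonoidHom.ker_eq_bot_iff _).mpr hinj]
      exact bot_le)
    haveI := hc
    haveI : Nonempty (F'.obj Y') := ⟨y'⟩
    exact ⟨X, Y', q, i, epi_of_nonempty_of_isConnected F' q, hm⟩
  · intro h
    rw [injective_iff_map_eq_one]
    intro σ' hσ'
    apply eq_one_of_forall_connected F'
    intro X' hX' x'
    obtain ⟨X, Y', p, q, hp, hq⟩ := h X' hX'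
    have h1 : ∀ x : F'.obj (H.obj X), σ' • x = x := by
      intro x
      have := autWhisker_smul H F' σ' (X := X) x
      rw [hσ', one_smul] at this
      exact this.symm
    have hinj : Function.Injective (F'.map q) :=
      ConcreteCategory.injective_of_mono_of_preservesPullback (F'.map q)
    have h2 : ∀ y : F'.obj Y', σ' • y = y := by
      intro y
      apply hinj
      rw [← mulAction_naturality, h1]
    obtain ⟨y, hy⟩ := surjective_on_fiber_of_epi F' p x'
    rw [← hy, mulAction_naturality, h2]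

end Rel

end Groth.Agent.Lib.Helper21.Gal
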