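import Mathlib
import Groth.Prelude.Def_Pi1X
import Groth.Agent.Lib.Helper21Gal3

/-!
# Exact sequences of fundamental groups of Galois categories (helper21)
-/

set_option autoImplicit false
universe u v w

open CategoryTheory PreGaloisCategory Limits

namespace Groth.Agent.Lib.Helper21.Gal

section Comp

variable {C C' : Type u} [Category.{v} C] [Category.{v} C'] [GaloisCategory C] [GaloisCategory C']
  (H : C ⥤ C') [PreservesFiniteLimits H] [PreservesFiniteColimits H]
  (F' : C' ⥤ FintypeCat.{w}) [FiberFunctor F']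

/-- an exact functor into a Galois category composed with a fibre functor is a fibre functor -/
noncomputable def fiberFunctorComp (F : C ⥤ FintypeCat.{w}) [FiberFunctor F] :
    FiberFunctor (H ⋙ F') where
  preservesQuotientsByFiniteGroups G _ _ := by
    haveI : PreservesColimitsOfShape (SingleObj G) H := by
      choose G' hg hf he using Finite.exists_type_univ_nonempty_mulEquiv.{v, 0} G
      haveI : PreservesColimitsOfShape (SingleObj G') H := inferInstance
      exact Limits.preservesColimitsOfShape_of_equiv he.some.toSingleObjEquiv.symm H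
    infer_instance
  reflectsIsos := by
    haveI : PreservesFiniteLimits (H ⋙ F') := inferInstance
    haveI : PreservesColimitsOfShape (Discrete WalkingPair) (H ⋙ F') := inferInstance
    haveI : Functor.PreservesEpimorphisms (H ⋙ F') := inferInstance
    obtain ⟨e⟩ : Nonempty (H ⋙ F' ≅ F) := by
      refine exists_iso_of_preservesFiniteLimits F (H ⋙ F') (fun X hX => ?_)
      by_contra hni
      have hni' : IsInitial X → False := fun hi => hni ⟨hi⟩
      have hne : Nonempty (F.obj X) := (not_initial_iff_fiber_nonempty F X).mp hni'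
      obtain ⟨A, f, hgal⟩ := exists_hom_from_galois_of_fiber_nonempty F X hne
      haveI := hgal
      obtain ⟨a⟩ := nonempty_fiber_of_isConnected F A
      have hsurj : Function.Surjective (F.map (terminal.from A)) := by
        intro t
        haveI := subsingleton_fiber_terminal F
        exact ⟨a, Subsingleton.elim _ _⟩
      haveI : Epi (F.map (terminal.from A)) := ConcreteCategory.epi_of_surjective _ hsurj
      haveI : Epi (terminal.from A) := F.epi_of_epi_map inferInstance
      haveI : Epi ((H ⋙ F').map (terminal.from A)) := inferInstance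
      have hsurj' : Function.Surjective ((H ⋙ F').map (terminal.from A)) :=
        ConcreteCategory.surjective_of_epi_of_preservesPushout _
      have hT' : IsTerminal ((H ⋙ F').obj (⊤_ C)) :=
        IsTerminal.isTerminalObj (H ⋙ F') (⊤_ C) terminalIsTerminal
      let t' : (H ⋙ F').obj (⊤_ C) := (hT'.from (FintypeCat.of PUnit.{w + 1})) PUnit.unit
      obtain ⟨a', -⟩ := hsurj' t'
      exact hX.false ((H ⋙ F').map f a')
    constructor
    intro X Y f hf
    haveI : IsIso (F.map f) := (NatIso.isIso_map_iff e f).mp hf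
    exact isIso_of_reflects_iso f F

omit [PreservesFiniteLimits H] [PreservesFiniteColimits H] in
lemma surjective_iff_preservesConnected [FiberFunctor (H ⋙ F')] :
    Function.Surjective (Pi1X.autWhisker H F') ↔
      ∀ X : C, IsConnected X → IsConnected (H.obj X) := by
  constructor
  · intro hs X hX
    haveI : Nonempty (F'.obj (H.obj X)) := nonempty_fiber_of_isConnected (H ⋙ F') X
    haveI : MulAction.IsPretransitive (Aut F') (F'.obj (H.obj X)) := by
      refine ⟨fun x y => ?_⟩
      obtain ⟨σ, hσ⟩ := MulAction.exists_smul_eq (Aut (H ⋙ F'))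
        (show (H ⋙ F').obj X from x) (show (H ⋙ F').obj X from y)
      obtain ⟨σ', rfl⟩ := hs σ
      exact ⟨σ', hσ⟩
    exact isConnected_of_isPretransitive F' (H.obj X)
  · intro hc σ
    by_contra hσ
    have hσ' : σ ∉ (Pi1X.autWhisker H F').range := hσ
    obtain ⟨U, hU, hKU, hσU⟩ :=
      exists_openSubgroup_of_notMem _ (isClosed_range_autWhisker H F') σ hσ'
    obtain ⟨X, x, hX, hstab⟩ := exists_pointed_of_openSubgroup (H ⋙ F') U hU
    haveI := hc X hX
    apply hσU
    rw [← hstab, MulAction.mem_stabilizer_iff]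
    obtain ⟨σ', hσ'⟩ := MulAction.exists_smul_eq (Aut F') (show F'.obj (H.obj X) from x)
      (show F'.obj (H.obj X) from (σ • x : (H ⋙ F').obj X))
    have h1 : Pi1X.autWhisker H F' σ' ∈ MulAction.stabilizer (Aut (H ⋙ F')) x := by
      rw [hstab]
      exact hKU ⟨σ', rfl⟩
    rw [MulAction.mem_stabilizer_iff, autWhisker_smul] at h1
    exact hσ'.symm.trans h1

/-- S0267 -/
theorem fullyFaithful_iff_preservesConnected :
    (H.Full ∧ H.Faithful) ↔ ∀ X : C, IsConnected X → IsConnected (H.obj X) := by
  let F₀ := GaloisCategory.getFiberFunctor C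
  let F₁ := GaloisCategory.getFiberFunctor C'
  letI : FiberFunctor (H ⋙ F₁) := fiberFunctorComp H F₁ F₀
  rw [← surjective_iff_preservesConnected H F₁]
  constructor
  · rintro ⟨hfull, -⟩
    exact surjective_of_full H F₁
  · intro hs
    exact ⟨full_of_surjective H F₁ hs, faithful_of_fiberFunctor H F₁⟩

/-- wrapper used to put a second action on a fibre -/
structure FibWrap (T : Type*) where
  down : T

def FibWrap.equiv (T : Type*) : FibWrap T ≃ T where
  toFun := FibWrap.down
  invFun := FibWrap.mk
  left_inv _ := rfl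
  right_inv _ := rfl

instance (T : Type*) [Finite T] : Finite (FibWrap T) := Finite.of_equiv T (FibWrap.equiv T).symm

/-- if the kernel of `π₁(C') → π₁(C)` acts trivially on the fibre of `X'` and the map is surjective,
then `X'` is in the essential image of `H` -/
lemma exists_obj_iso_of_ker_trivial [FiberFunctor (H ⋙ F')]
    (hs : Function.Surjective (Pi1X.autWhisker H F')) (X' : C')
    (hker : ∀ σ' ∈ (Pi1X.autWhisker H F').ker, ∀ x : F'.obj X', σ' • x = x) :
    ∃ X : C, Nonempty (H.obj X ≅ X') := by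
  let h := Pi1X.autWhisker H F'
  let lift : Aut (H ⋙ F') → Aut F' := Function.surjInv hs
  have hlift : ∀ σ, h (lift σ) = σ := Function.surjInv_eq hs
  have hact : ∀ (σ' : Aut F') (t : F'.obj X'), lift (h σ') • t = σ' • t := by
    intro σ' t
    have hk : σ'⁻¹ * lift (h σ') ∈ h.ker := by
      rw [MonoidHom.mem_ker, map_mul, hlift, map_inv, inv_mul_cancel]
    have := hker _ hk t
    rw [mul_smul, inv_smul_eq_iff] at this
    exact this
  letI : MulAction (Aut (H ⋙ F')) (FibWrap (F'.obj X')) :=
    { smul := fun σ w => ⟨lift σ • w.down⟩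
      one_smul := fun w => by
        change FibWrap.mk (lift 1 • w.down) = w
        have := hact 1 w.down
        rw [map_one, one_smul] at this
        rw [this]
      mul_smul := fun σ₁ σ₂ w => by
        change FibWrap.mk (lift (σ₁ * σ₂) • w.down) = FibWrap.mk (lift σ₁ • lift σ₂ • w.down)
        have := hact (lift σ₁ * lift σ₂) w.down
        rw [map_mul, hlift, hlift, mul_smul] at this
        rw [this] }
  have hsm : ∀ (σ : Aut (H ⋙ F')) (w : FibWrap (F'.obj X')), (σ • w).down = lift σ • w.down :=
    fun _ _ => rfl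
  have hopen : ∀ w : FibWrap (F'.obj X'),
      IsOpen (MulAction.stabilizer (Aut (H ⋙ F')) w : Set (Aut (H ⋙ F'))) := by
    intro w
    have hset : (MulAction.stabilizer (Aut (H ⋙ F')) w : Set (Aut (H ⋙ F'))) =
        h '' (MulAction.stabilizer (Aut F') w.down : Set (Aut F')) := by
      ext σ
      simp only [SetLike.mem_coe, MulAction.mem_stabilizer_iff, Set.mem_image]
      constructor
      · intro hσ
        refine ⟨lift σ, ?_, hlift σ⟩
        have := congrArg FibWrap.down hσ
        rwa [hsm] at this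
      · rintro ⟨σ', hσ', rfl⟩
        have : (h σ' • w).down = w.down := by rw [hsm, hact, hσ']
        cases w
        exact congrArg FibWrap.mk this
    have hclosed : IsClosed (MulAction.stabilizer (Aut (H ⋙ F')) w : Set (Aut (H ⋙ F'))) := by
      rw [hset]
      exact ((Subgroup.isClosed_of_isOpen _ (stabilizer_isOpen (Aut F') w.down)).isCompact.image
        (continuous_autWhisker H F')).isClosed
    haveI : (MulAction.stabilizer (Aut (H ⋙ F')) w).FiniteIndex := by
      constructor
      rw [MulAction.index_stabilizer]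
      have hfin : (MulAction.orbit (Aut (H ⋙ F')) w).Finite := Set.toFinite _
      rw [Ne, Set.ncard_eq_zero hfin]
      exact (MulAction.nonempty_orbit w).ne_empty
    exact Subgroup.isOpen_of_isClosed_of_finiteIndex _ hclosed
  obtain ⟨X, e, he⟩ := exists_obj_of_action (H ⋙ F') (FibWrap (F'.obj X')) hopen
  let ψ : F'.obj (H.obj X) ≃ F'.obj X' := e.trans (FibWrap.equiv _)
  obtain ⟨φ, -⟩ := exists_iso_of_equivariant F' (X := H.obj X) (Y := X') ψ (by
    intro σ' x
    change (e (show (H ⋙ F').obj X from (σ' • x))).down = σ' • (e x).down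
    have h1 : (show (H ⋙ F').obj X from (σ' • x)) = h σ' • (show (H ⋙ F').obj X from x) := rfl
    rw [h1, he, hsm, hact])
  exact ⟨X, ⟨φ⟩⟩

end Comp

section Three

variable {C C' C'' : Type u} [Category.{v} C] [Category.{v} C'] [Category.{v} C'']
  [GaloisCategory C] [GaloisCategory C'] [GaloisCategory C'']
  (H : C ⥤ C') [PreservesFiniteLimits H] [PreservesFiniteColimits H]
  (H' : C' ⥤ C'') [PreservesFiniteLimits H'] [PreservesFiniteColimits H']
  (F'' : C'' ⥤ FintypeCat.{w}) [FiberFunctor F''] [FiberFunctor (H' ⋙ F'')]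
  [FiberFunctor (H ⋙ (H' ⋙ F''))]

/-- S5149 -/
lemma ker_le_range_iff :
    (Pi1X.autWhisker H (H' ⋙ F'')).ker ≤ (Pi1X.autWhisker H' F'').range ↔
      ∀ (X' : C') (a' : (H' ⋙ F'').obj X'), IsConnected X' →
        (∃ s : ⊤_ C'' ⟶ H'.obj X', ∀ t : F''.obj (⊤_ C''), F''.map s t = a') →
          ∃ (X : C) (Y' : C') (i : Y' ⟶ H.obj X) (_ : Y' ⟶ X'), Mono i ∧ IsConnected Y' := by
  constructor
  · intro h X' a' hX' hs
    haveI := hX'
    have h1 : (Pi1X.autWhisker H' F'').range ≤ MulAction.stabilizer (Aut (H' ⋙ F'')) a' :=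
      (range_le_stabilizer_iff H' F'' X' a').mpr hs
    exact (ker_le_stabilizer_iff H (H' ⋙ F'') a').mp (h.trans h1)
  · intro h σ' hσ'
    by_contra hn
    obtain ⟨U', hU', hKU', hσU'⟩ :=
      exists_openSubgroup_of_notMem _ (isClosed_range_autWhisker H' F'') σ' hn
    obtain ⟨X', a', hX', hstab⟩ := exists_pointed_of_openSubgroup (H' ⋙ F'') U' hU'
    haveI := hX'
    have hs := (range_le_stabilizer_iff H' F'' X' a').mp (hstab ▸ hKU')
    have := (ker_le_stabilizer_iff H (H' ⋙ F'') a').mpr (h X' a' hX' hs)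
    apply hσU'
    rw [← hstab]
    exact this hσ'

omit [GaloisCategory C] [PreservesFiniteLimits H] [PreservesFiniteColimits H]
  [PreservesFiniteLimits H'] [PreservesFiniteColimits H'] [FiberFunctor (H ⋙ (H' ⋙ F''))] in
/-- triviality of the `Aut F''`-action on `H' X'` in terms of the action of `Aut (H' ⋙ F'')` -/
lemma trivialOn_obj_iff (X' : C') :
    TrivialOn F'' (H'.obj X') ↔
      ∀ (σ'' : Aut F'') (x : (H' ⋙ F'').obj X'), Pi1X.autWhisker H' F'' σ'' • x = x :=
  Iff.rfl

omit [GaloisCategory C] [PreservesFiniteLimits H] [PreservesFiniteColimits H]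
  [FiberFunctor (H ⋙ (H' ⋙ F''))] [GaloisCategory C'] [GaloisCategory C''] [FiberFunctor F'']
  [PreservesFiniteLimits H'] [PreservesFiniteColimits H'] [FiberFunctor (H' ⋙ F'')] in
lemma isClosed_ker_autWhisker :
    IsClosed ((Pi1X.autWhisker H (H' ⋙ F'')).ker : Set (Aut (H' ⋙ F''))) := by
  rw [MonoidHom.coe_ker]
  exact isClosed_singleton.preimage (continuous_autWhisker H (H' ⋙ F''))

/-- S1190 -/
theorem exact_iff :
    (Function.Surjective (Pi1X.autWhisker H (H' ⋙ F'')) ∧
      (∀ σ : Aut F'', Pi1X.autWhisker H (H' ⋙ F'') (Pi1X.autWhisker H' F'' σ) = 1) ∧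
      (Pi1X.autWhisker H (H' ⋙ F'')).ker =
        (Subgroup.normalClosure (Set.range (Pi1X.autWhisker H' F''))).topologicalClosure) ↔
    ((H.Full ∧ H.Faithful) ∧
      ∀ X' : C', (∃ X : C, Nonempty (H.obj X ≅ X')) ↔
        ∃ n : ℕ, Nonempty (H'.obj X' ≅ ∐ fun _ : Fin n => ⊤_ C'')) := by
  constructor
  · rintro ⟨hs, htriv, hker⟩
    refine ⟨⟨full_of_surjective H (H' ⋙ F'') hs, faithful_of_fiberFunctor H (H' ⋙ F'')⟩,
      fun X' => ⟨?_, ?_⟩⟩
    · rintro ⟨X, ⟨φ⟩⟩
      obtain ⟨n, ⟨ψ⟩⟩ := (Groth.Agent.S1189.result H H' F'').mp htriv X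
      exact ⟨n, ⟨(H'.mapIso φ).symm ≪≫ ψ⟩⟩
    · intro hX'
      have htr : TrivialOn F'' (H'.obj X') := (trivialOn_iff F'' (H'.obj X')).mpr hX'
      rw [trivialOn_obj_iff] at htr
      apply exists_obj_iso_of_ker_trivial H (H' ⋙ F'') hs X'
      -- the kernel of the action on the fibre of `X'`
      let N' : Subgroup (Aut (H' ⋙ F'')) :=
        (MulAction.toPermHom (Aut (H' ⋙ F'')) ((H' ⋙ F'').obj X')).ker
      have hN'mem : ∀ σ' : Aut (H' ⋙ F''),
          σ' ∈ N' ↔ ∀ x : (H' ⋙ F'').obj X', σ' • x = x := by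
        intro σ'
        rw [MonoidHom.mem_ker, Equiv.ext_iff]
        rfl
      have hN'closed : IsClosed (N' : Set (Aut (H' ⋙ F''))) := by
        have : (N' : Set (Aut (H' ⋙ F''))) = ⋂ x : (H' ⋙ F'').obj X',
            (MulAction.stabilizer (Aut (H' ⋙ F'')) x : Set (Aut (H' ⋙ F''))) := by
          ext σ'
          rw [SetLike.mem_coe, hN'mem, Set.mem_iInter]
          rfl
        rw [this]
        exact isClosed_iInter (fun x =>
          Subgroup.isClosed_of_isOpen _ (stabilizer_isOpen (Aut (H' ⋙ F'')) x))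
      have h1 : Set.range (Pi1X.autWhisker H' F'') ⊆ N' := by
        rintro _ ⟨σ'', rfl⟩
        exact (hN'mem _).mpr (htr σ'')
      have h2 : (Pi1X.autWhisker H (H' ⋙ F'')).ker ≤ N' := by
        rw [hker]
        exact Subgroup.topologicalClosure_minimal _ (Subgroup.normalClosure_le_normal h1) hN'closed
      intro σ' hσ' x
      exact (hN'mem σ').mp (h2 hσ') x
  · rintro ⟨⟨hfull, hfaith⟩, hess⟩
    have hs : Function.Surjective (Pi1X.autWhisker H (H' ⋙ F'')) :=
      surjective_of_full H (H' ⋙ F'')
    have htriv : ∀ σ : Aut F'',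
        Pi1X.autWhisker H (H' ⋙ F'') (Pi1X.autWhisker H' F'' σ) = 1 :=
      (Groth.Agent.S1189.result H H' F'').mpr
        (fun X => (hess (H.obj X)).mp ⟨X, ⟨Iso.refl _⟩⟩)
    refine ⟨hs, htriv, le_antisymm ?_ ?_⟩
    · intro σ' hσ'
      by_contra hn
      set N := (Subgroup.normalClosure
        (Set.range (Pi1X.autWhisker H' F''))).topologicalClosure with hN
      haveI : N.Normal := Subgroup.is_normal_topologicalClosure _
      obtain ⟨U', hU', hU'n, hNU', hσU'⟩ := exists_openNormalSubgroup_of_notMem N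
        (Subgroup.isClosed_topologicalClosure _) σ' hn
      obtain ⟨X', a', hX', hstab⟩ := exists_pointed_of_openSubgroup (H' ⋙ F'') U' hU'
      haveI := hX'
      have htr : TrivialOn F'' (H'.obj X') := by
        rw [trivialOn_obj_iff]
        intro σ'' x
        obtain ⟨g, hg⟩ := MulAction.exists_smul_eq (Aut (H' ⋙ F'')) a' x
        have hmem : g⁻¹ * Pi1X.autWhisker H' F'' σ'' * g ∈ U' := by
          have h1 : Pi1X.autWhisker H' F'' σ'' ∈ U' :=
            hNU' (Subgroup.le_topologicalClosure _ (Subgroup.subset_normalClosure ⟨σ'', rfl⟩))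
          have := hU'n.conj_mem _ h1 g⁻¹
          rwa [inv_inv] at this
        rw [← hstab, MulAction.mem_stabilizer_iff, mul_smul, mul_smul, inv_smul_eq_iff, hg] at hmem
        exact hmem
      obtain ⟨X, ⟨φ⟩⟩ := (hess X').mpr ((trivialOn_iff F'' (H'.obj X')).mp htr)
      apply hσU'
      rw [← hstab, MulAction.mem_stabilizer_iff]
      rw [MonoidHom.mem_ker] at hσ'
      have hsurj : Function.Surjective ((H' ⋙ F'').map φ.hom) :=
        ((ConcreteCategory.isIso_iff_bijective ((H' ⋙ F'').map φ.hom)).mp inferInstance).2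
      obtain ⟨x, rfl⟩ := hsurj a'
      rw [mulAction_naturality]
      congr 1
      have := autWhisker_smul H (H' ⋙ F'') σ' (X := X) x
      rw [hσ', one_smul] at this
      exact this.symm
    · refine Subgroup.topologicalClosure_minimal _ (Subgroup.normalClosure_le_normal ?_)
        (isClosed_ker_autWhisker H H' F'')
      rintro _ ⟨σ'', rfl⟩
      exact MonoidHom.mem_ker.mpr (htriv σ'')

end Three

end Groth.Agent.Lib.Helper21.Gal
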