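import Mathlib
import Groth.Agent.Lib.Helper21TorsB

/-!
# The torsor of a Čech cocycle for a cover of the terminal sheaf by subobjects (helper21)
-/

set_option autoImplicit false
universe v u
open CategoryTheory CategoryTheory.Limits Opposite

namespace Groth.Agent.Lib.Helper21.TorsG
open Groth.Agent.Lib.Helper21.TorsA Groth.Agent.Lib.Helper21.TorsB

variable {C : Type u} [Category.{v} C] {J : GrothendieckTopology C}

/-- a Čech 1-cocycle with values in `G` for a cover of the terminal sheaf by subobjects `W i` -/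
structure CechData (G : Sheaf J AddCommGrpCat.{max u v}) where
  /-- the index type -/
  ι : Type max u v
  /-- the members of the cover, as sieves on the terminal presheaf -/
  W : ι → C → Prop
  W_of_hom : ∀ {i : ι} {Z Z' : C} (_ : Z' ⟶ Z), W i Z → W i Z'
  cover : ∀ V : C, ∃ S ∈ J V, ∀ ⦃Z : C⦄ (f : Z ⟶ V), S f → ∃ i, W i Z
  /-- the cocycle -/
  g : ∀ (i j : ι) (Z : C), W i Z → W j Z → G.obj.obj (op Z)
  g_res : ∀ (i j : ι) {Z Z' : C} (k : Z' ⟶ Z) (hi : W i Z) (hj : W j Z),
    res J G k (g i j Z hi hj) = g i j Z' (W_of_hom k hi) (W_of_hom k hj)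
  g_coc : ∀ (i j l : ι) (Z : C) (hi : W i Z) (hj : W j Z) (hl : W l Z),
    g i j Z hi hj + g j l Z hj hl = g i l Z hi hl

variable {G : Sheaf J AddCommGrpCat.{max u v}} (D : CechData G)

namespace CechData

/-- the sieve of arrows from members of the cover -/
def coverSieve (V : C) : Sieve V where
  arrows Z _ := ∃ i, D.W i Z
  downward_closed := by
    rintro Z Z' f ⟨i, hi⟩ k
    exact ⟨i, D.W_of_hom k hi⟩

lemma coverSieve_mem (V : C) : D.coverSieve V ∈ J V := by
  obtain ⟨S, hS, H⟩ := D.cover V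
  exact J.superset_covering (fun Z f hf => H f hf) hS

lemma g_self (i : ι D) (Z : C) (hi : D.W i Z) : D.g i i Z hi hi = 0 := by
  have := D.g_coc i i i Z hi hi hi
  exact add_left_cancel (a := D.g i i Z hi hi) (by rw [this, add_zero])

/-- sections of the torsor over `V` -/
def Sec (V : C) : Type max u v :=
  {a : ∀ (i : D.ι) (Z : C) (_ : Z ⟶ V), D.W i Z → G.obj.obj (op Z) //
    (∀ (i : D.ι) (Z Z' : C) (h : Z ⟶ V) (k : Z' ⟶ Z) (hi : D.W i Z),
      res J G k (a i Z h hi) = a i Z' (k ≫ h) (D.W_of_hom k hi)) ∧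
    (∀ (i j : D.ι) (Z : C) (h : Z ⟶ V) (hi : D.W i Z) (hj : D.W j Z),
      a i Z h hi = D.g i j Z hi hj + a j Z h hj)}

variable {D}

lemma Sec.ext {V : C} {a b : D.Sec V} (h : ∀ i Z f hi, a.1 i Z f hi = b.1 i Z f hi) : a = b := by
  apply Subtype.ext
  funext i Z f hi
  exact h i Z f hi

lemma Sec.nat {V : C} (a : D.Sec V) (i : D.ι) {Z Z' : C} (h : Z ⟶ V) (k : Z' ⟶ Z) (hi : D.W i Z) :
    res J G k (a.1 i Z h hi) = a.1 i Z' (k ≫ h) (D.W_of_hom k hi) := a.2.1 i Z Z' h k hi

lemma Sec.coc {V : C} (a : D.Sec V) (i j : D.ι) {Z : C} (h : Z ⟶ V) (hi : D.W i Z) (hj : D.W j Z) :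
    a.1 i Z h hi = D.g i j Z hi hj + a.1 j Z h hj := a.2.2 i j Z h hi hj

lemma Sec.congr {V : C} (a : D.Sec V) (i : D.ι) {Z : C} {h h' : Z ⟶ V} (e : h = h') (hi hi' : D.W i Z) :
    a.1 i Z h hi = a.1 i Z h' hi' := by
  subst e
  rfl

variable (D)

/-- restriction of sections -/
def secRes {V V' : C} (f : V' ⟶ V) (a : D.Sec V) : D.Sec V' :=
  ⟨fun i Z h hi => a.1 i Z (h ≫ f) hi, by
    refine ⟨fun i Z Z' h k hi => ?_, fun i j Z h hi hj => a.coc i j _ hi hj⟩
    rw [a.nat i (h ≫ f) k hi]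
    exact a.congr i (Category.assoc _ _ _).symm _ _⟩

@[simp] lemma secRes_val {V V' : C} (f : V' ⟶ V) (a : D.Sec V) (i : D.ι) (Z : C) (h : Z ⟶ V')
    (hi : D.W i Z) : (D.secRes f a).1 i Z h hi = a.1 i Z (h ≫ f) hi := rfl

/-- the presheaf of sections -/
def PPre : Cᵒᵖ ⥤ Type max u v where
  obj V := D.Sec V.unop
  map f := ↾(D.secRes f.unop)
  map_id V := by
    ext a
    apply Sec.ext
    intro i Z f hi
    exact a.congr i (Category.comp_id _) _ _
  map_comp f g := by
    ext a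
    apply Sec.ext
    intro i Z h hi
    exact a.congr i (Category.assoc _ _ _).symm _ _

lemma PPre_map {V V' : C} (f : V' ⟶ V) (a : D.Sec V) : (D.PPre).map f.op a = D.secRes f a := rfl

section sheaf
variable {V : C} (S : Sieve V)
  (x : Presieve.FamilyOfElements D.PPre S.arrows)

/-- the value of a family at an arrow of the sieve -/
def fval (i : D.ι) {Z : C} (f : Z ⟶ V) (hf : S f) (hi : D.W i Z) : G.obj.obj (op Z) :=
  (x f hf : D.Sec Z).1 i Z (𝟙 Z) hi

lemma fval_congr (i : D.ι) {Z : C} {f f' : Z ⟶ V} (e : f = f') (hf : S f) (hf' : S f')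
    (hi hi' : D.W i Z) : fval D S x i f hf hi = fval D S x i f' hf' hi' := by
  subst e
  rfl

variable (hx : x.SieveCompatible)

include hx in
lemma fval_res (i : D.ι) {Z Z' : C} (f : Z ⟶ V) (hf : S f) (k : Z' ⟶ Z) (hi : D.W i Z) :
    res J G k (fval D S x i f hf hi) =
      fval D S x i (k ≫ f) (S.downward_closed hf k) (D.W_of_hom k hi) := by
  unfold fval
  rw [Sec.nat]
  have h1 : x (k ≫ f) (S.downward_closed hf k) = D.secRes k (x f hf) := hx f k hf
  rw [h1, secRes_val]
  exact Sec.congr _ i (by simp) _ _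

include hx in
lemma val_eq_fval (i : D.ι) {V' Z : C} (f : V' ⟶ V) (hf : S f) (h : Z ⟶ V') (hi : D.W i Z) :
    (x f hf : D.Sec V').1 i Z h hi = fval D S x i (h ≫ f) (S.downward_closed hf h) hi := by
  unfold fval
  have h1 : x (h ≫ f) (S.downward_closed hf h) = D.secRes h (x f hf) := hx f h hf
  rw [h1, secRes_val]
  exact Sec.congr _ i (by simp) _ _

variable (hS : S ∈ J V)

include hx hS in
lemma exists_glued (i : D.ι) {Z : C} (h : Z ⟶ V) (hi : D.W i Z) :
    ∃ t : G.obj.obj (op Z), ∀ ⦃Z' : C⦄ (k : Z' ⟶ Z) (hk : S (k ≫ h)),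
      res J G k t = fval D S x i (k ≫ h) hk (D.W_of_hom k hi) := by
  obtain ⟨t, ht⟩ := exists_glue G (S.pullback h) (J.pullback_stable h hS)
    (fun Z' k hk => fval D S x i (k ≫ h) hk (D.W_of_hom k hi))
    (fun Z' Z'' k hk m => by
      rw [fval_res D S x hx]
      exact fval_congr D S x i (Category.assoc _ _ _).symm _ _ _ _)
  exact ⟨t, fun Z' k hk => ht k hk⟩

/-- the glued values -/
noncomputable def glued (i : D.ι) {Z : C} (h : Z ⟶ V) (hi : D.W i Z) : G.obj.obj (op Z) :=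
  (exists_glued D S x hx hS i h hi).choose

lemma res_glued (i : D.ι) {Z : C} (h : Z ⟶ V) (hi : D.W i Z) {Z' : C} (k : Z' ⟶ Z)
    (hk : S (k ≫ h)) :
    res J G k (glued D S x hx hS i h hi) = fval D S x i (k ≫ h) hk (D.W_of_hom k hi) :=
  (exists_glued D S x hx hS i h hi).choose_spec k hk

lemma glued_unique (i : D.ι) {Z : C} (h : Z ⟶ V) (hi : D.W i Z) (t : G.obj.obj (op Z))
    (ht : ∀ ⦃Z' : C⦄ (k : Z' ⟶ Z) (hk : S (k ≫ h)),
      res J G k t = fval D S x i (k ≫ h) hk (D.W_of_hom k hi)) :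
    t = glued D S x hx hS i h hi := by
  apply ext_of_cover G (S.pullback h) (J.pullback_stable h hS)
  intro Z' k hk
  rw [ht k hk, res_glued D S x hx hS i h hi k hk]

/-- the amalgamation -/
noncomputable def amalg : D.Sec V :=
  ⟨fun i Z h hi => glued D S x hx hS i h hi, by
    refine ⟨fun i Z Z' h k hi => ?_, fun i j Z h hi hj => ?_⟩
    · apply glued_unique
      intro Z'' m hm
      rw [← res_comp, res_glued D S x hx hS i h hi (m ≫ k) (by rw [Category.assoc]; exact hm)]
      exact fval_congr D S x i (Category.assoc _ _ _) _ _ _ _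
    · apply ext_of_cover G (S.pullback h) (J.pullback_stable h hS)
      intro Z' k hk
      rw [map_add, res_glued D S x hx hS i h hi k hk, res_glued D S x hx hS j h hj k hk, D.g_res]
      exact Sec.coc _ i j _ _ _⟩

lemma amalg_val (i : D.ι) {Z : C} (h : Z ⟶ V) (hi : D.W i Z) :
    (amalg D S x hx hS).1 i Z h hi = glued D S x hx hS i h hi := rfl

end sheaf

theorem isSheaf_PPre : Presheaf.IsSheaf J D.PPre := by
  rw [isSheaf_iff_isSheaf_of_type]
  intro V S hS x hx
  rw [Presieve.compatible_iff_sieveCompatible] at hx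
  refine ⟨amalg D S x hx hS, ?_, ?_⟩
  · intro V' f hf
    change D.secRes f (amalg D S x hx hS) = x f hf
    apply Sec.ext
    intro i Z h hi
    rw [secRes_val, amalg_val]
    symm
    apply glued_unique
    intro Z' k hk
    rw [Sec.nat, val_eq_fval D S x hx]
    exact fval_congr D S x i (Category.assoc _ _ _) _ _ _ _
  · intro b hb
    apply Sec.ext
    intro i Z h hi
    rw [amalg_val]
    apply glued_unique
    intro Z' k hk
    rw [Sec.nat]
    have h1 : D.secRes (k ≫ h) b = x (k ≫ h) hk := hb (k ≫ h) hk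
    unfold fval
    rw [← h1, secRes_val]
    exact Sec.congr _ i (by simp) _ _

/-- the action of `G` on sections -/
def vaddSec {V : C} (γ : G.obj.obj (op V)) (a : D.Sec V) : D.Sec V :=
  ⟨fun i Z h hi => res J G h γ + a.1 i Z h hi, by
    refine ⟨fun i Z Z' h k hi => ?_, fun i j Z h hi hj => ?_⟩
    · change res J G k (res J G h γ + a.1 i Z h hi) = res J G (k ≫ h) γ + a.1 i Z' (k ≫ h) _
      rw [map_add, ← res_comp, Sec.nat]
    · change res J G h γ + a.1 i Z h hi = D.g i j Z hi hj + (res J G h γ + a.1 j Z h hj)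
      rw [Sec.coc a i j h hi hj]
      abel⟩

@[simp] lemma vaddSec_val {V : C} (γ : G.obj.obj (op V)) (a : D.Sec V) (i : D.ι) (Z : C) (h : Z ⟶ V)
    (hi : D.W i Z) : (D.vaddSec γ a).1 i Z h hi = res J G h γ + a.1 i Z h hi := rfl

/-- the torsor of a Čech cocycle -/
noncomputable def torsor : GTorsor G where
  P := ⟨D.PPre, D.isSheaf_PPre⟩
  vadd {U} γ a := D.vaddSec (V := U.unop) γ a
  zero_vadd {U} p := by
    apply Sec.ext
    intro i Z h hi
    change res J G h 0 + (p : D.Sec U.unop).1 i Z h hi = _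
    rw [map_zero, zero_add]
  add_vadd {U} γ δ p := by
    apply Sec.ext
    intro i Z h hi
    change res J G h (γ + δ) + (p : D.Sec U.unop).1 i Z h hi =
      res J G h γ + (res J G h δ + (p : D.Sec U.unop).1 i Z h hi)
    rw [map_add, add_assoc]
  map_vadd {U V} f γ p := by
    apply Sec.ext
    intro i Z h hi
    change res J G (h ≫ f.unop) γ + (p : D.Sec U.unop).1 i Z (h ≫ f.unop) hi =
      res J G h ((G.obj.map f).hom γ) + (p : D.Sec U.unop).1 i Z (h ≫ f.unop) hi
    congr 1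
    exact res_comp G h f.unop γ
  free_transitive {U} a b := by
    let a' : D.Sec U.unop := a
    let b' : D.Sec U.unop := b
    have hindep : ∀ (i j : D.ι) {Z : C} (h : Z ⟶ U.unop) (hi : D.W i Z) (hj : D.W j Z),
        b'.1 i Z h hi - a'.1 i Z h hi = b'.1 j Z h hj - a'.1 j Z h hj := by
      intro i j Z h hi hj
      rw [Sec.coc b' i j h hi hj, Sec.coc a' i j h hi hj]
      abel
    obtain ⟨γ, hγ⟩ := exists_glue G (D.coverSieve U.unop) (D.coverSieve_mem U.unop)
      (fun Z f hf => b'.1 hf.choose Z f hf.choose_spec - a'.1 hf.choose Z f hf.choose_spec)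
      (fun Z Z' f hf k => by
        rw [map_sub, Sec.nat, Sec.nat]
        exact hindep _ _ _ _ _)
    have hγ' : ∀ (i : D.ι) {Z : C} (h : Z ⟶ U.unop) (hi : D.W i Z),
        res J G h γ = b'.1 i Z h hi - a'.1 i Z h hi := by
      intro i Z h hi
      rw [hγ h ⟨i, hi⟩]
      exact hindep _ _ _ _ _
    refine ⟨γ, ?_, ?_⟩
    · apply Sec.ext
      intro i Z h hi
      change res J G h γ + a'.1 i Z h hi = b'.1 i Z h hi
      rw [hγ' i h hi, sub_add_cancel]
    · intro γ' hγ''
      apply ext_of_cover G (D.coverSieve U.unop) (D.coverSieve_mem U.unop)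
      rintro Z f ⟨i, hi⟩
      rw [hγ' i f hi]
      have h1 := congrArg (fun c : D.Sec U.unop => c.1 i Z f hi) hγ''
      change res J G f γ' + a'.1 i Z f hi = b'.1 i Z f hi at h1
      rw [← h1, add_sub_cancel_right]
  locally_nonempty U := by
    refine ⟨D.coverSieve U, D.coverSieve_mem U, ?_⟩
    rintro Z₀ f ⟨i₀, hi₀⟩
    exact ⟨⟨fun j Z h hj => D.g j i₀ Z hj (D.W_of_hom h hi₀),
      fun j Z Z' h k hj => D.g_res _ _ _ _ _,
      fun i j Z h hi hj => (D.g_coc i j i₀ Z hi hj _).symm⟩⟩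

/-- a global section of the torsor of a cocycle trivialises the cocycle -/
theorem exists_coboundary (h : D.torsor.HasSection) :
    ∃ b : ∀ (i : D.ι) (Z : C), D.W i Z → G.obj.obj (op Z),
      (∀ (i : D.ι) {Z Z' : C} (k : Z' ⟶ Z) (hi : D.W i Z),
        res J G k (b i Z hi) = b i Z' (D.W_of_hom k hi)) ∧
      ∀ (i j : D.ι) (Z : C) (hi : D.W i Z) (hj : D.W j Z),
        b i Z hi = D.g i j Z hi hj + b j Z hj := by
  obtain ⟨t, ht⟩ := h
  let t' : ∀ V : C, D.Sec V := t
  refine ⟨fun i Z hi => (t' Z).1 i Z (𝟙 Z) hi, ?_, ?_⟩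
  · intro i Z Z' k hi
    change res J G k ((t' Z).1 i Z (𝟙 Z) hi) = (t' Z').1 i Z' (𝟙 Z') _
    rw [Sec.nat]
    have h1 : D.secRes k (t' Z) = t' Z' := ht k
    rw [← h1, secRes_val]
    exact Sec.congr _ i (by simp) _ _
  · intro i j Z hi hj
    exact Sec.coc _ i j _ _ _

end CechData

end Groth.Agent.Lib.Helper21.TorsG
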