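import Mathlib
import Groth.Agent.Lib.Helper21TorsG
import Groth.Agent.Lib.Helper21EtOpen
import Groth.Agent.Lib.Helper23SecTw6
import Groth.Agent.Lib.Helper23PB
import Groth.Agent.Lib.Helper20UFDPic

set_option autoImplicit false
universe u
open CategoryTheory CategoryTheory.Limits AlgebraicGeometry Opposite

namespace Groth.Agent.Lib.Helper21.H90B1
open Groth.Agent.Lib.Helper21.TorsA Groth.Agent.Lib.Helper21.TorsB
open Groth.Agent.Lib.Helper21.TorsG Groth.Agent.Lib.Helper21.EtOpen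
open Groth.Agent.Lib.Helper6 Groth.Agent.Lib.Helper23.SecTw Groth.Agent.Lib.Helper23.GenLocus
open Groth.Agent.Lib.Helper23.PB Groth.Agent.Lib.Helper20.UFDPic

variable {X : Scheme.{u}}

theorem exists_gen (L : X.Modules) (hL : PicF.IsInvertible L) (x : X) :
    ∃ (W : X.Opens) (e : Γ(L, W)), x ∈ W ∧ IsGen L W e := by
  obtain ⟨U, hxU, ⟨ε⟩⟩ := hL x
  exact ⟨U.ι ''ᵁ ⊤, frameE L U ε ⊤, ⟨⟨x, hxU⟩, trivial, rfl⟩, isGen_frameE L U ε ⊤⟩

/-- transition units between two generators -/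
theorem exists_unit_transition {L : X.Modules} {W₁ W₂ : X.Opens} {e₁ : Γ(L, W₁)} {e₂ : Γ(L, W₂)}
    (h₁ : IsGen L W₁ e₁) (h₂ : IsGen L W₂ e₂) :
    ∃ η : (Γ(X, W₁ ⊓ W₂))ˣ, res L inf_le_left e₁ = (η : Γ(X, W₁ ⊓ W₂)) • res L inf_le_right e₂ := by
  have ha := h₂.mono (inf_le_right : W₁ ⊓ W₂ ≤ W₂)
  have hb := h₁.mono (inf_le_left : W₁ ⊓ W₂ ≤ W₁)
  have hu := isUnit_coef_of_isGen ha hb
  refine ⟨hu.unit, ?_⟩
  have h1 := coef_spec ha le_rfl (res L inf_le_left e₁)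
  rw [res_self] at h1
  exact h1.symm

lemma resu_apply {U U' : X.Opens} (hU : U ≤ U') (a : Additive (Γ(X, U'))ˣ) :
    ((resu hU a).toMul : Γ(X, U)) = resf hU (a.toMul : Γ(X, U')) := rfl

/-- the cocycle condition for transition units of generators -/
theorem transition_cocycle {L : X.Modules} {W₁ W₂ W₃ : X.Opens} {e₁ : Γ(L, W₁)} {e₂ : Γ(L, W₂)}
    {e₃ : Γ(L, W₃)} (h₃ : IsGen L W₃ e₃)
    (η₁₂ : (Γ(X, W₁ ⊓ W₂))ˣ) (η₂₃ : (Γ(X, W₂ ⊓ W₃))ˣ) (η₁₃ : (Γ(X, W₁ ⊓ W₃))ˣ)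
    (h₁₂ : res L inf_le_left e₁ = (η₁₂ : Γ(X, W₁ ⊓ W₂)) • res L inf_le_right e₂)
    (h₂₃ : res L inf_le_left e₂ = (η₂₃ : Γ(X, W₂ ⊓ W₃)) • res L inf_le_right e₃)
    (h₁₃ : res L inf_le_left e₁ = (η₁₃ : Γ(X, W₁ ⊓ W₃)) • res L inf_le_right e₃) :
    resu (inf_le_left : W₁ ⊓ W₂ ⊓ W₃ ≤ W₁ ⊓ W₂) (Additive.ofMul η₁₂) +
    resu (le_inf (inf_le_left.trans inf_le_right) inf_le_right : W₁ ⊓ W₂ ⊓ W₃ ≤ W₂ ⊓ W₃)
      (Additive.ofMul η₂₃) =
    resu (le_inf (inf_le_left.trans inf_le_left) inf_le_right : W₁ ⊓ W₂ ⊓ W₃ ≤ W₁ ⊓ W₃)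
      (Additive.ofMul η₁₃) := by
  set T := W₁ ⊓ W₂ ⊓ W₃ with hT
  have l12 : T ≤ W₁ ⊓ W₂ := inf_le_left
  have l23 : T ≤ W₂ ⊓ W₃ := le_inf (inf_le_left.trans inf_le_right) inf_le_right
  have l13 : T ≤ W₁ ⊓ W₃ := le_inf (inf_le_left.trans inf_le_left) inf_le_right
  have l1 : T ≤ W₁ := inf_le_left.trans inf_le_left
  have l2 : T ≤ W₂ := inf_le_left.trans inf_le_right
  have l3 : T ≤ W₃ := inf_le_right
  have a12 : res L l1 e₁ = resf l12 (η₁₂ : Γ(X, W₁ ⊓ W₂)) • res L l2 e₂ := by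
    have := congrArg (res L l12) h₁₂
    rwa [res_res, res_smul, res_res] at this
  have a23 : res L l2 e₂ = resf l23 (η₂₃ : Γ(X, W₂ ⊓ W₃)) • res L l3 e₃ := by
    have := congrArg (res L l23) h₂₃
    rwa [res_res, res_smul, res_res] at this
  have a13 : res L l1 e₁ = resf l13 (η₁₃ : Γ(X, W₁ ⊓ W₃)) • res L l3 e₃ := by
    have := congrArg (res L l13) h₁₃
    rwa [res_res, res_smul, res_res] at this
  have key : resf l12 (η₁₂ : Γ(X, W₁ ⊓ W₂)) * resf l23 (η₂₃ : Γ(X, W₂ ⊓ W₃)) =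
      resf l13 (η₁₃ : Γ(X, W₁ ⊓ W₃)) := by
    apply (h₃ T l3).1
    change (resf l12 (η₁₂ : Γ(X, W₁ ⊓ W₂)) * resf l23 (η₂₃ : Γ(X, W₂ ⊓ W₃))) • res L l3 e₃ =
      resf l13 (η₁₃ : Γ(X, W₁ ⊓ W₃)) • res L l3 e₃
    rw [mul_smul, ← a23, ← a12, a13]
  apply Additive.toMul.injective
  apply Units.ext
  exact key

section cech
variable {ι : Type u} (W : ι → X.Opens) (hcov : ∀ x : X, ∃ i, x ∈ W i)
  (η : ∀ i j, Additive (Γ(X, W i ⊓ W j))ˣ)
  (hcoc : ∀ i j l, resu (inf_le_left : W i ⊓ W j ⊓ W l ≤ W i ⊓ W j) (η i j) +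
    resu (le_inf (inf_le_left.trans inf_le_right) inf_le_right : W i ⊓ W j ⊓ W l ≤ W j ⊓ W l) (η j l) =
    resu (le_inf (inf_le_left.trans inf_le_left) inf_le_right : W i ⊓ W j ⊓ W l ≤ W i ⊓ W l) (η i l))

/-- the Čech data on the small étale site of a cocycle of units on an open cover -/
noncomputable def cechOfUnits : CechData (EtCoh.Gm X) where
  ι := ULift.{u+1} ι
  W i Z := Lands Z (W i.down)
  W_of_hom k h := h.of_hom k
  cover V := ⟨landSieve W V, landSieve_mem W hcov V, fun Z f ⟨i, hi⟩ => ⟨⟨i⟩, hi⟩⟩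
  g i j Z hi hj := gmU Z (W i.down ⊓ W j.down) (hi.inf hj) (η i.down j.down)
  g_res i j Z Z' k hi hj := res_gmU k _ _ _
  g_coc i j l Z hi hj hl := by
    have hT : Lands Z (W i.down ⊓ W j.down ⊓ W l.down) := (hi.inf hj).inf hl
    rw [← gmU_resu Z (inf_le_left : W i.down ⊓ W j.down ⊓ W l.down ≤ W i.down ⊓ W j.down) hT,
      ← gmU_resu Z (le_inf (inf_le_left.trans inf_le_right) inf_le_right :
        W i.down ⊓ W j.down ⊓ W l.down ≤ W j.down ⊓ W l.down) hT,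
      ← gmU_resu Z (le_inf (inf_le_left.trans inf_le_left) inf_le_right :
        W i.down ⊓ W j.down ⊓ W l.down ≤ W i.down ⊓ W l.down) hT, ← map_add, hcoc]

/-- a section of the torsor trivialises the cocycle of units -/
theorem exists_units_of_hasSection (h : (cechOfUnits W hcov η hcoc).torsor.HasSection) :
    ∃ β : ∀ i, Additive (Γ(X, W i))ˣ, ∀ i j,
      resu (inf_le_left : W i ⊓ W j ≤ W i) (β i) = η i j + resu (inf_le_right : W i ⊓ W j ≤ W j) (β j) := by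
  obtain ⟨b, hb1, hb2⟩ := (cechOfUnits W hcov η hcoc).exists_coboundary h
  have hβ : ∀ i : ι, ∃ β : Additive (Γ(X, W i))ˣ,
      gmU (opObj (W i)) (W i) (lands_opObj _) β = b ⟨i⟩ (opObj (W i)) (lands_opObj _) :=
    fun i => (gmU_opObj_bijective (W i)).2 _
  choose β hβ using hβ
  refine ⟨β, fun i j => ?_⟩
  apply (gmU_opObj_bijective (W i ⊓ W j)).1
  have hi : Lands (opObj (W i ⊓ W j)) (W i) := (lands_opObj _).mono inf_le_left
  have hj : Lands (opObj (W i ⊓ W j)) (W j) := (lands_opObj _).mono inf_le_right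
  have key : ∀ (l : ι) (hl : Lands (opObj (W i ⊓ W j)) (W l)),
      gmU (opObj (W i ⊓ W j)) (W l) hl (β l) = b ⟨l⟩ (opObj (W i ⊓ W j)) hl := by
    intro l hl
    have h1 := res_gmU (liftO hl) (W l) (lands_opObj _) (β l)
    rw [hβ l] at h1
    have h2 := hb1 ⟨l⟩ (liftO hl) (lands_opObj (W l))
    exact h1.symm.trans h2
  rw [map_add, gmU_resu, gmU_resu, key i hi, key j hj]
  exact hb2 ⟨i⟩ ⟨j⟩ _ hi hj

end cech

/-- if every `G_m`-torsor on the small étale site has a section then invertible modules are trivial -/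
theorem trivial_of_hasSection (L : X.Modules) (hL : PicF.IsInvertible L)
    (H : ∀ T : GTorsor (EtCoh.Gm X), T.HasSection) : Nonempty (L ≅ Coh.structureModule X) := by
  choose W e hxW hgen using exists_gen L hL
  choose η hη using fun x y => exists_unit_transition (hgen x) (hgen y)
  have hcoc := fun x y z =>
    transition_cocycle (hgen z) (η x y) (η y z) (η x z) (hη x y) (hη y z) (hη x z)
  obtain ⟨β, hβ⟩ := exists_units_of_hasSection W (fun x => ⟨x, hxW x⟩)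
    (fun x y => Additive.ofMul (η x y)) hcoc (H _)
  have hb : ∀ x, IsGen (Coh.structureModule X) (W x) (toS (W x) ((β x).toMul : Γ(X, W x))) := by
    intro x
    have h1 : toS (W x) ((β x).toMul : Γ(X, W x)) = ((β x).toMul : Γ(X, W x)) • toS (W x) 1 := by
      rw [smul_toS, mul_one]
    rw [h1]
    exact isGen_unit_smul (isGen_one (W x)) _ (Units.isUnit _)
  obtain ⟨Φ, -⟩ := exists_iso_of_frames L (Coh.structureModule X) W (fun x => ⟨x, hxW x⟩) e
    (fun x => toS (W x) ((β x).toMul : Γ(X, W x))) hgen hb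
    (fun x y => cocycle_of_transition (hgen y) (η x y) (hη x y) (by
      have h1 := congrArg (fun a : Additive (Γ(X, W x ⊓ W y))ˣ => (a.toMul : Γ(X, W x ⊓ W y))) (hβ x y)
      simp only [toMul_add, toMul_ofMul, Units.val_mul, resu_apply] at h1
      have e1 : res (Coh.structureModule X) (inf_le_left : W x ⊓ W y ≤ W x)
          (toS (W x) ((β x).toMul : Γ(X, W x))) =
          toS (W x ⊓ W y) (resf inf_le_left ((β x).toMul : Γ(X, W x))) := rfl
      have e2 : res (Coh.structureModule X) (inf_le_right : W x ⊓ W y ≤ W y)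
          (toS (W y) ((β y).toMul : Γ(X, W y))) =
          toS (W x ⊓ W y) (resf inf_le_right ((β y).toMul : Γ(X, W y))) := rfl
      rw [e1, e2, smul_toS, h1]))
  exact ⟨Φ⟩

end Groth.Agent.Lib.Helper21.H90B1
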