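import Mathlib
import Groth.Agent.Lib.Helper21TorsB
import Groth.Agent.Lib.Helper21EtOpen
import Groth.Agent.Lib.Helper23SecTw6
import Groth.Agent.Lib.Helper23PB
import Groth.Agent.S10963

set_option autoImplicit false
universe u
open CategoryTheory CategoryTheory.Limits AlgebraicGeometry Opposite

namespace Groth.Agent.Lib.Helper21.H90B3
open Groth.Agent.Lib.Helper21.TorsA Groth.Agent.Lib.Helper21.TorsB
open Groth.Agent.Lib.Helper21.EtOpen
open Groth.Agent.Lib.Helper6 Groth.Agent.Lib.Helper23.SecTw Groth.Agent.Lib.Helper23.GenLocus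
open Groth.Agent.Lib.Helper23.PB

variable {X : Scheme.{u}}

section glue
variable (P : Sheaf X.smallEtaleTopology (Type (u+1))) {ι : Type*} (U : ι → X.Opens)
  (hcov : ∀ x : X, ∃ i, x ∈ U i)
  (q : ∀ i, P.obj.obj (op (opObj (U i))))
  (hq : ∀ i j, P.obj.map (liftO ((lands_opObj (U i ⊓ U j)).mono inf_le_left)).op (q i) =
    P.obj.map (liftO ((lands_opObj (U i ⊓ U j)).mono inf_le_right)).op (q j))

lemma map_congr_opObj {Z : X.Etale} {W : X.Opens} (a b : Z ⟶ opObj W) (t : P.obj.obj (op (opObj W))) :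
    P.obj.map a.op t = P.obj.map b.op t := by
  rw [hom_opObj_ext a b]

include hq in
lemma compat_of_lands {Z : X.Etale} (i j : ι) (hi : Lands Z (U i)) (hj : Lands Z (U j)) :
    P.obj.map (liftO hi).op (q i) = P.obj.map (liftO hj).op (q j) := by
  have e1 : liftO hi = liftO (hi.inf hj) ≫ liftO ((lands_opObj (U i ⊓ U j)).mono inf_le_left) :=
    hom_opObj_ext _ _
  have e2 : liftO hj = liftO (hi.inf hj) ≫ liftO ((lands_opObj (U i ⊓ U j)).mono inf_le_right) :=
    hom_opObj_ext _ _
  rw [e1, e2, map_comp_type, map_comp_type, hq]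

include hcov hq in
/-- sections over the members of an open cover of `X` agreeing on overlaps glue to a global
section of a sheaf on the small étale site -/
theorem exists_global_of_compatible :
    ∃ t : ∀ V : X.Etale, P.obj.obj (op V), (∀ ⦃V W : X.Etale⦄ (f : W ⟶ V), P.obj.map f.op (t V) = t W) := by
  obtain ⟨t, -, ht⟩ := exists_global_of_local_unique_type P
    (fun V => {t | ∀ (i : ι) ⦃Z : X.Etale⦄ (f : Z ⟶ V) (h : Lands Z (U i)),
      P.obj.map f.op t = P.obj.map (liftO h).op (q i)})
    (fun V W g t ht i Z f h => by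
      rw [← map_comp_type]
      exact ht i (f ≫ g) h)
    (fun V t S hS ht i Z f h => by
      apply ext_of_cover_type P (S.pullback f) (X.smallEtaleTopology.pullback_stable f hS)
      intro Z' k hk
      have h1 := ht (k ≫ f) hk i (𝟙 Z') (h.of_hom k)
      rw [map_id_type] at h1
      rw [← map_comp_type, h1, ← map_comp_type]
      exact map_congr_opObj P _ _ _)
    (fun V t t' ht ht' => by
      apply ext_of_cover_type P (landSieve U V) (landSieve_mem U hcov V)
      rintro Z f ⟨i, hi⟩
      rw [ht i f hi, ht' i f hi])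
    (fun V => ⟨landSieve U V, landSieve_mem U hcov V, by
      rintro Z f ⟨i, hi⟩
      refine ⟨P.obj.map (liftO hi).op (q i), fun j Z' f' hj => ?_⟩
      rw [← map_comp_type, ← compat_of_lands P U q hq i j (hi.of_hom f') hj]
      exact map_congr_opObj P _ _ _⟩)
  exact ⟨t, ht⟩

end glue

section tors
variable (T : GTorsor (EtCoh.Gm X)) {ι : Type u} (U : ι → X.Opens)
  (p : ∀ i, T.P.obj.obj (op (opObj (U i))))

/-- the transition unit of two local sections of a `G_m`-torsor -/
theorem exists_transition (i j : ι) : ∃ η : Additive (Γ(X, U i ⊓ U j))ˣ,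
    T.vadd (gmU (opObj (U i ⊓ U j)) (U i ⊓ U j) (lands_opObj _) η)
      (T.P.obj.map (liftO ((lands_opObj (U i ⊓ U j)).mono inf_le_right)).op (p j)) =
    T.P.obj.map (liftO ((lands_opObj (U i ⊓ U j)).mono inf_le_left)).op (p i) := by
  obtain ⟨η, hη⟩ := (gmU_opObj_bijective (U i ⊓ U j)).2
    (T.diff (T.P.obj.map (liftO ((lands_opObj (U i ⊓ U j)).mono inf_le_left)).op (p i))
      (T.P.obj.map (liftO ((lands_opObj (U i ⊓ U j)).mono inf_le_right)).op (p j)))
  exact ⟨η, by rw [hη]; exact T.diff_vadd _ _⟩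

variable (η : ∀ i j, Additive (Γ(X, U i ⊓ U j))ˣ)
  (hη : ∀ i j, T.vadd (gmU (opObj (U i ⊓ U j)) (U i ⊓ U j) (lands_opObj _) (η i j))
      (T.P.obj.map (liftO ((lands_opObj (U i ⊓ U j)).mono inf_le_right)).op (p j)) =
    T.P.obj.map (liftO ((lands_opObj (U i ⊓ U j)).mono inf_le_left)).op (p i))

include hη in
lemma transition_of_lands {Z : X.Etale} (i j : ι) (hi : Lands Z (U i)) (hj : Lands Z (U j)) :
    T.vadd (gmU Z (U i ⊓ U j) (hi.inf hj) (η i j)) (T.P.obj.map (liftO hj).op (p j)) =
      T.P.obj.map (liftO hi).op (p i) := by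
  have h1 := congrArg (T.P.obj.map (liftO (hi.inf hj)).op) (hη i j)
  rw [T.map_vadd, ← map_comp_type, ← map_comp_type] at h1
  have h2 : (EtCoh.Gm X).obj.map (liftO (hi.inf hj)).op
      (gmU (opObj (U i ⊓ U j)) (U i ⊓ U j) (lands_opObj _) (η i j)) =
      gmU Z (U i ⊓ U j) (hi.inf hj) (η i j) := res_gmU _ _ _ _
  rw [h2] at h1
  rw [map_congr_opObj T.P (liftO hj) _ (p j), map_congr_opObj T.P (liftO hi) _ (p i)]
  exact h1


include hη in
/-- the transition units of local sections satisfy the cocycle condition -/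
theorem transition_cocycle (i j k : ι) :
    resu (inf_le_inf_right (U k) inf_le_left : U i ⊓ U j ⊓ U k ≤ U i ⊓ U k) (η i k) =
      resu (inf_le_left : U i ⊓ U j ⊓ U k ≤ U i ⊓ U j) (η i j) +
      resu (inf_le_inf_right (U k) inf_le_right : U i ⊓ U j ⊓ U k ≤ U j ⊓ U k) (η j k) := by
  apply (gmU_opObj_bijective (U i ⊓ U j ⊓ U k)).1
  have hi : Lands (opObj (U i ⊓ U j ⊓ U k)) (U i) :=
    (lands_opObj _).mono (inf_le_left.trans inf_le_left)
  have hj : Lands (opObj (U i ⊓ U j ⊓ U k)) (U j) :=
    (lands_opObj _).mono (inf_le_left.trans inf_le_right)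
  have hk : Lands (opObj (U i ⊓ U j ⊓ U k)) (U k) := (lands_opObj _).mono inf_le_right
  rw [map_add, gmU_resu, gmU_resu, gmU_resu]
  apply T.vadd_left_cancel (p := T.P.obj.map (liftO hk).op (p k))
  rw [T.add_vadd, transition_of_lands T U p η hη j k hj hk, transition_of_lands T U p η hη i j hi hj,
    transition_of_lands T U p η hη i k hi hk]

end tors


/-- a global generator gives units relating it to local generators -/
theorem exists_units_of_global_gen (L : X.Modules) {ι : Type*} (U : ι → X.Opens)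
    (s : ∀ i, Γ(L, U i)) (hs : ∀ i, IsGen L (U i) (s i))
    (η : ∀ i j, (Γ(X, U i ⊓ U j))ˣ)
    (hη : ∀ i j, res L inf_le_left (s i) = (η i j : Γ(X, U i ⊓ U j)) • res L inf_le_right (s j))
    (ε : Γ(L, ⊤)) (hε : IsGen L ⊤ ε) :
    ∃ c : ∀ i, (Γ(X, U i))ˣ, ∀ i j,
      resf inf_le_left (c i : Γ(X, U i)) * (η i j : Γ(X, U i ⊓ U j)) =
        resf inf_le_right (c j : Γ(X, U j)) := by
  have hu : ∀ i, IsUnit (coef (hs i) le_rfl (res L le_top ε)) :=
    fun i => isUnit_coef_of_isGen (hs i) (hε.mono le_top)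
  have hc : ∀ i, (coef (hs i) le_rfl (res L le_top ε)) • s i = res L le_top ε := by
    intro i
    have := coef_spec (hs i) le_rfl (res L le_top ε)
    rwa [res_self] at this
  refine ⟨fun i => (hu i).unit, fun i j => ?_⟩
  apply (hs j (U i ⊓ U j) inf_le_right).1
  change (resf inf_le_left ((hu i).unit : Γ(X, U i)) * (η i j : Γ(X, U i ⊓ U j))) • res L inf_le_right (s j) =
    resf inf_le_right ((hu j).unit : Γ(X, U j)) • res L inf_le_right (s j)
  rw [mul_smul, ← hη i j, ← res_smul, ← res_smul, IsUnit.unit_spec, IsUnit.unit_spec, hc i, hc j,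
    res_res, res_res]

/-- a `G_m`-torsor on the small étale site with Zariski-local sections has a section as soon as
all invertible modules are trivial -/
theorem hasSection_of_local (T : GTorsor (EtCoh.Gm X))
    (hloc : ∀ x : X, ∃ U : X.Opens, x ∈ U ∧ Nonempty (T.P.obj.obj (op (opObj U))))
    (Htriv : ∀ L : X.Modules, PicF.IsInvertible L → Nonempty (L ≅ Coh.structureModule X)) :
    T.HasSection := by
  choose U hxU hp using hloc
  have p : ∀ x, T.P.obj.obj (op (opObj (U x))) := fun x => (hp x).some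
  choose η hη using fun x y => exists_transition T U p x y
  have hcoc := transition_cocycle T U p η hη
  have hUtop : iSup U = ⊤ := by
    rw [eq_top_iff]
    intro x _
    exact TopologicalSpace.Opens.mem_iSup.2 ⟨x, hxU x⟩
  obtain ⟨L, s, hLinv, hbij, htrans⟩ := Groth.Agent.S10963.result X U hUtop
    (fun x y => (η x y).toMul) (fun i j k => by
      have := congrArg (fun a : Additive (Γ(X, U i ⊓ U j ⊓ U k))ˣ =>
        (a.toMul : Γ(X, U i ⊓ U j ⊓ U k))) (hcoc i j k)
      exact this)
  have hs : ∀ x, IsGen L (U x) (s x) := fun x V h => hbij x V h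
  obtain ⟨Φ⟩ := Htriv L hLinv
  have hε := isGen_of_iso Φ.symm (isGen_one ⊤)
  obtain ⟨c, hc⟩ := exists_units_of_global_gen L U s hs (fun x y => (η x y).toMul) htrans _ hε
  obtain ⟨t, ht⟩ := exists_global_of_compatible T.P U (fun x => ⟨x, hxU x⟩)
    (fun x => T.vadd (gmU (opObj (U x)) (U x) (lands_opObj _) (Additive.ofMul (c x))) (p x))
    (fun x y => by
      have hx : Lands (opObj (U x ⊓ U y)) (U x) := (lands_opObj _).mono inf_le_left
      have hy : Lands (opObj (U x ⊓ U y)) (U y) := (lands_opObj _).mono inf_le_right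
      rw [T.map_vadd, T.map_vadd]
      have h1 : (EtCoh.Gm X).obj.map (liftO hx).op
          (gmU (opObj (U x)) (U x) (lands_opObj _) (Additive.ofMul (c x))) =
          gmU (opObj (U x ⊓ U y)) (U x) hx (Additive.ofMul (c x)) := res_gmU _ _ _ _
      have h2 : (EtCoh.Gm X).obj.map (liftO hy).op
          (gmU (opObj (U y)) (U y) (lands_opObj _) (Additive.ofMul (c y))) =
          gmU (opObj (U x ⊓ U y)) (U y) hy (Additive.ofMul (c y)) := res_gmU _ _ _ _
      rw [h1, h2, ← hη x y, ← T.add_vadd]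
      congr 1
      rw [← gmU_resu _ (inf_le_left : U x ⊓ U y ≤ U x) (lands_opObj _),
        ← gmU_resu _ (inf_le_right : U x ⊓ U y ≤ U y) (lands_opObj _), ← map_add]
      congr 1
      apply Additive.toMul.injective
      apply Units.ext
      exact hc x y)
  exact ⟨t, ht⟩

end Groth.Agent.Lib.Helper21.H90B3
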