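import Groth.Agent.S0651
import Groth.Prelude.Def_EtCore
import Groth.Prelude.Def_EtShriek2

/-!
# Sections of pullbacks of abelian sheaves on small étale sites (helper9)

A dictionary between maps out of the constant sheaf `ℤ` and global sections, and the effect of the
Prelude's `EtCore.pullConst`, `EtCore.pullComp` on them.
-/

set_option autoImplicit false

universe u

open CategoryTheory CategoryTheory.Limits AlgebraicGeometry Opposite

namespace Groth.Agent.Lib.Helper9.EtPull

/-- the group `ℤ`, lifted -/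
abbrev ZZ : AddCommGrpCat.{u + 1} := AddCommGrpCat.of (ULift.{u + 1} ℤ)

lemma ZZ_hom_ext {M : AddCommGrpCat.{u + 1}} {f g : ZZ.{u} ⟶ M}
    (h : f.hom ⟨1⟩ = g.hom ⟨1⟩) : f = g := by
  apply AddCommGrpCat.hom_ext
  ext ⟨n⟩
  have : (⟨n⟩ : ULift.{u + 1} ℤ) = n • (⟨1⟩ : ULift.{u + 1} ℤ) := by
    apply ULift.ext
    simp
  rw [this, map_zsmul, map_zsmul, h]

lemma map_op_comp4 {C : Type*} [Category C] {A : Type*} [Category A] (G : Cᵒᵖ ⥤ A)
    {P0 P1 P2 P3 P4 : C} (a : P0 ⟶ P1) (b : P1 ⟶ P2) (c : P2 ⟶ P3) (d : P3 ⟶ P4) :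
    G.map (a ≫ b ≫ c ≫ d).op = G.map d.op ≫ G.map c.op ≫ G.map b.op ≫ G.map a.op := by
  simp

section Sec

variable {X : Scheme.{u}}

/-- the global section corresponding to a map out of the constant sheaf `ℤ` -/
noncomputable def sec (G : EtCoh.Ab X) (ψ : EtCoh.const X ℤ ⟶ G) :
    ((EtCore.gsec X).obj G : AddCommGrpCat.{u + 1}) :=
  ((EtCore.constAdj X).homEquiv ZZ.{u} G ψ).hom ⟨1⟩

lemma sec_comp {G G' : EtCoh.Ab X} (ψ : EtCoh.const X ℤ ⟶ G) (φ : G ⟶ G') :
    sec G' (ψ ≫ φ) = ((EtCore.gsec X).map φ).hom (sec G ψ) := by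
  unfold sec
  rw [Adjunction.homEquiv_naturality_right]
  rfl

lemma sec_injective (G : EtCoh.Ab X) : Function.Injective (sec G) := by
  intro ψ ψ' h
  apply ((EtCore.constAdj X).homEquiv ZZ.{u} G).injective
  exact ZZ_hom_ext h

lemma sec_surjective (G : EtCoh.Ab X) : Function.Surjective (sec G) := by
  intro s
  refine ⟨((EtCore.constAdj X).homEquiv ZZ.{u} G).symm
    (AddCommGrpCat.ofHom ((zmultiplesHom _ s).comp
      (AddEquiv.ulift.toAddMonoidHom : ULift.{u + 1} ℤ →+ ℤ))), ?_⟩
  unfold sec
  rw [Equiv.apply_symm_apply]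
  simp
  exact one_zsmul s

end Sec

section PullSec

variable {T X : Scheme.{u}} (f : T ⟶ X)

/-- pullback of global sections along a morphism of schemes -/
noncomputable def pullSec (G : EtCoh.Ab X) :
    (EtCore.gsec X).obj G ⟶ (EtCore.gsec T).obj ((EtCoh.pull f).obj G) :=
  (EtCore.gsec X).map ((EtCoh.pullPushAdj f).unit.app G) ≫
    (EtCore.pushGsecIso f).hom.app ((EtCoh.pull f).obj G)

/-- the adjunction used in the Prelude to define `pullConstIso` -/
noncomputable abbrev adj1 :
    constantSheaf X.smallEtaleTopology AddCommGrpCat.{u + 1} ⋙ EtCoh.pull f ⊣ EtCore.gsec T :=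
  ((EtCore.constAdj X).comp (EtCoh.pullPushAdj f)).ofNatIsoRight (EtCore.pushGsecIso f)

lemma unit_pullConst_inv (M : AddCommGrpCat.{u + 1}) :
    (EtCore.constAdj T).unit.app M ≫ (EtCore.gsec T).map ((EtCore.pullConstIso f).inv.app M) =
      (adj1 f).unit.app M :=
  Adjunction.unit_leftAdjointUniq_hom_app (EtCore.constAdj T) (adj1 f) M

lemma adj1_unit_app (M : AddCommGrpCat.{u + 1}) :
    (adj1 f).unit.app M = (EtCore.constAdj X).unit.app M ≫
      pullSec f ((constantSheaf X.smallEtaleTopology AddCommGrpCat.{u + 1}).obj M) := by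
  simp [adj1, pullSec, Adjunction.comp_unit_app]

/-- in degree zero, `Hpull` is pullback of sections -/
lemma sec_pullConst_inv_comp (G : EtCoh.Ab X) (ψ : EtCoh.const X ℤ ⟶ G) :
    sec ((EtCoh.pull f).obj G) ((EtCore.pullConst f ℤ).inv ≫ (EtCoh.pull f).map ψ) =
      (pullSec f G).hom (sec G ψ) := by
  unfold sec
  have h1 : (EtCore.constAdj T).homEquiv ZZ.{u} ((EtCoh.pull f).obj G)
      ((EtCore.pullConst f ℤ).inv ≫ (EtCoh.pull f).map ψ) =
      (EtCore.constAdj X).homEquiv ZZ.{u} G ψ ≫ pullSec f G := by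
    rw [Adjunction.homEquiv_unit, Adjunction.homEquiv_unit, Functor.map_comp,
      ← Category.assoc]
    erw [unit_pullConst_inv f ZZ.{u}]
    rw [adj1_unit_app, Category.assoc, Category.assoc]
    congr 1
    unfold pullSec
    rw [Category.assoc, ← (EtCore.pushGsecIso f).hom.naturality ((EtCoh.pull f).map ψ)]
    rw [← Category.assoc, ← Category.assoc]
    congr 1
    rw [← Functor.map_comp, Functor.comp_map, ← Functor.map_comp]
    congr 1
    exact ((EtCoh.pullPushAdj f).unit.naturality ψ).symm
  rw [h1]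
  rfl

end PullSec

section Rho

open Groth.Agent.S0651

variable {T X : Scheme.{u}} (j : T ⟶ X) [AlgebraicGeometry.Etale j] [EtShriek.JCont j]

/-- for étale `j`, inverse image is restriction -/
noncomputable def rho : EtCoh.pull j ≅ EtShriek.restrAlong j :=
  Adjunction.leftAdjointUniq (EtCoh.pullPushAdj j) (restrPushAdj j)

lemma unit_rho (G : EtCoh.Ab X) :
    (EtCoh.pullPushAdj j).unit.app G ≫ (EtCoh.push j).map ((rho j).hom.app G) =
      (restrPushAdj j).unit.app G :=
  Adjunction.unit_leftAdjointUniq_hom_app _ _ G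

/-- the object of the small étale site of `X` given by an étale `j : T ⟶ X` -/
noncomputable abbrev obj : X.Etale := (EtShriek.compEtale j).obj (EtCoh.top T)

/-- pullback of sections along an étale `j`, read through `rho`, is restriction of sections -/
lemma pullSec_rho (G : EtCoh.Ab X) :
    pullSec j G ≫ (EtCore.gsec T).map ((rho j).hom.app G) =
      G.obj.map ((EtCore.topIsTerminal X).from (obj j)).op := by
  unfold pullSec
  rw [Category.assoc, ← (EtCore.pushGsecIso j).hom.naturality ((rho j).hom.app G),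
    ← Category.assoc, Functor.comp_map, ← Functor.map_comp, unit_rho]
  have h1 : (EtCore.gsec X).map ((restrPushAdj j).unit.app G) =
      G.obj.map ((compBcAdj j).counit.app (EtCoh.top X)).op := by
    simp [restrPushAdj]
  have h2 : (EtCore.pushGsecIso j).hom.app ((EtShriek.restrAlong j).obj G) =
      G.obj.map ((EtShriek.compEtale j).map (EtCore.bcTopIso j).inv).op := rfl
  rw [h1, h2]
  refine (G.obj.map_comp _ _).symm.trans ?_
  congr 1
  rw [← op_comp]
  congr 1
  exact (EtCore.topIsTerminal X).hom_ext _ _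

lemma restrPushAdj_unit_app_hom_app (G : EtCoh.Ab X) (P : X.Etale) :
    ((restrPushAdj j).unit.app G).hom.app (op P) =
      G.obj.map ((compBcAdj j).counit.app P).op := by
  simp [restrPushAdj]

end Rho

section Comp

open Groth.Agent.S0651

variable {T' T X : Scheme.{u}} (i : T' ⟶ T) (j : T ⟶ X)
  [hi : AlgebraicGeometry.Etale i] [hj : AlgebraicGeometry.Etale j]
  [EtShriek.JCont i] [EtShriek.JCont j] [EtShriek.JCont (i ≫ j)]

set_option backward.isDefEq.respectTransparency.types false in
/-- composition of the functors `V ↦ (V → T → X)` -/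
noncomputable def compIso :
    EtShriek.compEtale i ⋙ EtShriek.compEtale j ≅ EtShriek.compEtale (i ≫ j) :=
  (MorphismProperty.Over.mapComp (P := EtCoh.etaleMP.{u}) ⊤ hi hj).symm

/-- restriction along a composite -/
noncomputable def can :
    EtShriek.restrAlong j ⋙ EtShriek.restrAlong i ≅ EtShriek.restrAlong (i ≫ j) :=
  Functor.sheafPushforwardContinuousComp' (F := EtShriek.compEtale i) (G := EtShriek.compEtale j)
    (FG := EtShriek.compEtale (i ≫ j)) (compIso i j)
    AddCommGrpCat.{u + 1} T'.smallEtaleTopology T.smallEtaleTopology X.smallEtaleTopology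

lemma can_hom_app_hom_app (G : EtCoh.Ab X) (Q : T'.Etale) :
    ((can i j).hom.app G).hom.app (op Q) = G.obj.map ((compIso i j).inv.app Q).op := by
  simp [can]

lemma pushComp_hom_app_hom_app (H : EtCoh.Ab T') (P : X.Etale) :
    ((EtCoh.pushComp j i).hom.app H).hom.app (op P) =
      H.obj.map ((MorphismProperty.Over.pullbackComp (P := EtCoh.etaleMP.{u}) (Q := ⊤) i j).hom.app
        P).op := by
  simp [EtCoh.pushComp]
  rfl

set_option backward.isDefEq.respectTransparency.types false in
omit [EtShriek.JCont i] [EtShriek.JCont j] [EtShriek.JCont (i ≫ j)] in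
lemma counit_comp (P : X.Etale) :
    (EtShriek.compEtale (i ≫ j)).map
        ((MorphismProperty.Over.pullbackComp (P := EtCoh.etaleMP.{u}) (Q := ⊤) i j).hom.app P) ≫
      (compIso i j).inv.app ((EtCoh.bc i).obj ((EtCoh.bc j).obj P)) ≫
      (EtShriek.compEtale j).map ((compBcAdj i).counit.app ((EtCoh.bc j).obj P)) ≫
      (compBcAdj j).counit.app P = (compBcAdj (i ≫ j)).counit.app P := by
  apply MorphismProperty.Over.Hom.ext
  change ((MorphismProperty.Over.pullbackComp (P := EtCoh.etaleMP.{u}) (Q := ⊤) i j).hom.app P).left ≫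
    ((compIso i j).inv.app ((EtCoh.bc i).obj ((EtCoh.bc j).obj P))).left ≫
    ((compBcAdj i).counit.app ((EtCoh.bc j).obj P)).left ≫
    ((compBcAdj j).counit.app P).left = ((compBcAdj (i ≫ j)).counit.app P).left
  have h1 : ((compIso i j).inv.app ((EtCoh.bc i).obj ((EtCoh.bc j).obj P))).left = 𝟙 _ := by
    simp [compIso]
  erw [h1, Category.id_comp]
  exact MorphismProperty.Over.pullbackComp_left_fst_fst (P := EtCoh.etaleMP.{u}) (Q := ⊤) i j P

lemma unit_comp (G : EtCoh.Ab X) :
    (restrPushAdj j).unit.app G ≫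
      (EtCoh.push j).map ((restrPushAdj i).unit.app ((EtShriek.restrAlong j).obj G)) ≫
      (EtCoh.push j).map ((EtCoh.push i).map ((can i j).hom.app G)) ≫
      (EtCoh.pushComp j i).hom.app ((EtShriek.restrAlong (i ≫ j)).obj G) =
    (restrPushAdj (i ≫ j)).unit.app G := by
  apply Sheaf.hom_ext
  apply NatTrans.ext
  funext P
  induction P using Opposite.rec with | _ P => ?_
  have ha := restrPushAdj_unit_app_hom_app j G P
  have hb : ((EtCoh.push j).map
      ((restrPushAdj i).unit.app ((EtShriek.restrAlong j).obj G))).hom.app (op P) =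
      G.obj.map ((EtShriek.compEtale j).map
        ((compBcAdj i).counit.app ((EtCoh.bc j).obj P))).op := by
    change ((restrPushAdj i).unit.app ((EtShriek.restrAlong j).obj G)).hom.app
      (op ((EtCoh.bc j).obj P)) = _
    rw [restrPushAdj_unit_app_hom_app]
    rfl
  have hc : ((EtCoh.push j).map ((EtCoh.push i).map ((can i j).hom.app G))).hom.app (op P) =
      G.obj.map ((compIso i j).inv.app ((EtCoh.bc i).obj ((EtCoh.bc j).obj P))).op :=
    can_hom_app_hom_app i j G _
  have hd : ((EtCoh.pushComp j i).hom.app ((EtShriek.restrAlong (i ≫ j)).obj G)).hom.app (op P) =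
      G.obj.map ((EtShriek.compEtale (i ≫ j)).map
        ((MorphismProperty.Over.pullbackComp (P := EtCoh.etaleMP.{u}) (Q := ⊤) i j).hom.app
          P)).op := by
    rw [pushComp_hom_app_hom_app]
    rfl
  have hR : ((restrPushAdj (i ≫ j)).unit.app G).hom.app (op P) =
      G.obj.map ((compBcAdj j).counit.app P).op ≫
        G.obj.map ((EtShriek.compEtale j).map
          ((compBcAdj i).counit.app ((EtCoh.bc j).obj P))).op ≫
        G.obj.map ((compIso i j).inv.app ((EtCoh.bc i).obj ((EtCoh.bc j).obj P))).op ≫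
        G.obj.map ((EtShriek.compEtale (i ≫ j)).map
          ((MorphismProperty.Over.pullbackComp (P := EtCoh.etaleMP.{u}) (Q := ⊤) i j).hom.app
            P)).op := by
    rw [restrPushAdj_unit_app_hom_app]
    exact (congrArg (fun m => G.obj.map m.op) (counit_comp i j P).symm).trans
      (map_op_comp4 G.obj _ _ _ _)
  refine Eq.trans ?_ hR.symm
  change ((restrPushAdj j).unit.app G).hom.app (op P) ≫
    ((EtCoh.push j).map
      ((restrPushAdj i).unit.app ((EtShriek.restrAlong j).obj G))).hom.app (op P) ≫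
    ((EtCoh.push j).map ((EtCoh.push i).map ((can i j).hom.app G))).hom.app (op P) ≫
    ((EtCoh.pushComp j i).hom.app ((EtShriek.restrAlong (i ≫ j)).obj G)).hom.app (op P) = _
  rw [ha, hb, hc, hd]
  rfl

/-- the adjunction used in the Prelude to define `pullComp` -/
noncomputable abbrev adjB : EtCoh.pull j ⋙ EtCoh.pull i ⊣ EtCoh.push (i ≫ j) :=
  ((EtCoh.pullPushAdj j).comp (EtCoh.pullPushAdj i)).ofNatIsoRight (EtCoh.pushComp j i)

omit hi hj [EtShriek.JCont i] [EtShriek.JCont j] [EtShriek.JCont (i ≫ j)] in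
lemma adjB_unit_app (G : EtCoh.Ab X) :
    (adjB i j).unit.app G = (EtCoh.pullPushAdj j).unit.app G ≫
      (EtCoh.push j).map ((EtCoh.pullPushAdj i).unit.app ((EtCoh.pull j).obj G)) ≫
      (EtCoh.pushComp j i).hom.app ((EtCoh.pull i).obj ((EtCoh.pull j).obj G)) := by
  simp [adjB, Adjunction.comp_unit_app]

/-- the candidate comparison `pull j ⋙ pull i ⟶ restrAlong (i ≫ j)` -/
noncomputable def tau (G : EtCoh.Ab X) :
    (EtCoh.pull i).obj ((EtCoh.pull j).obj G) ⟶ (EtShriek.restrAlong (i ≫ j)).obj G :=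
  (rho i).hom.app ((EtCoh.pull j).obj G) ≫ (EtShriek.restrAlong i).map ((rho j).hom.app G) ≫
    (can i j).hom.app G

lemma adjB_unit_tau (G : EtCoh.Ab X) :
    (adjB i j).unit.app G ≫ (EtCoh.push (i ≫ j)).map (tau i j G) =
      (restrPushAdj (i ≫ j)).unit.app G := by
  rw [adjB_unit_app, ← unit_comp i j G, ← unit_rho j G]
  simp only [Category.assoc]
  congr 1
  have nat1 := (EtCoh.pushComp j i).hom.naturality (tau i j G)
  rw [← nat1, Functor.comp_map]
  rw [← (EtCoh.push j).map_comp_assoc, ← (EtCoh.push j).map_comp_assoc,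
    ← (EtCoh.push j).map_comp_assoc]
  congr 2
  unfold tau
  rw [Functor.map_comp, Functor.map_comp, ← Category.assoc, unit_rho i,
    ← Category.assoc]
  congr 1
  exact ((restrPushAdj i).unit.naturality ((rho j).hom.app G)).symm

/-- the Prelude's `pullComp` corresponds to the canonical identification of restrictions -/
theorem pullComp_inv_rho (G : EtCoh.Ab X) :
    (EtCore.pullComp i j).inv.app G ≫ (rho (i ≫ j)).hom.app G = tau i j G := by
  have h1 : (EtCore.pullComp i j).inv.app G ≫ (rho (i ≫ j)).hom.app G =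
      (Adjunction.leftAdjointUniq (adjB i j) (restrPushAdj (i ≫ j))).hom.app G :=
    Adjunction.leftAdjointUniq_trans_app (adjB i j) (EtCoh.pullPushAdj (i ≫ j))
      (restrPushAdj (i ≫ j)) G
  rw [h1]
  apply ((adjB i j).homEquiv _ _).injective
  rw [Adjunction.homEquiv_leftAdjointUniq_hom_app, Adjunction.homEquiv_unit, adjB_unit_tau]

end Comp

section Gam

variable {T X : Scheme.{u}} (j : T ⟶ X) [AlgebraicGeometry.Etale j] [EtShriek.JCont j]

/-- maps `ℤ_T ⟶ j⁻¹ G` are sections of `G` over `T → X` -/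
noncomputable def gam (G : EtCoh.Ab X) (ψ : EtCoh.const T ℤ ⟶ (EtCoh.pull j).obj G) :
    (G.obj.obj (op (obj j)) : AddCommGrpCat.{u + 1}) :=
  ((EtCore.gsec T).map ((rho j).hom.app G)).hom (sec _ ψ)

lemma gam_bijective (G : EtCoh.Ab X) : Function.Bijective (gam j G) := by
  have h1 : Function.Bijective (sec ((EtCoh.pull j).obj G)) := ⟨sec_injective _, sec_surjective _⟩
  have h2 : Function.Bijective ((EtCore.gsec T).map ((rho j).hom.app G)).hom := by
    have : IsIso ((EtCore.gsec T).map ((rho j).hom.app G)) := inferInstance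
    exact ConcreteCategory.bijective_of_isIso _
  exact h2.comp h1

lemma gam_comp {G G' : EtCoh.Ab X} (φ : G ⟶ G') (ψ : EtCoh.const T ℤ ⟶ (EtCoh.pull j).obj G) :
    gam j G' (ψ ≫ (EtCoh.pull j).map φ) = (φ.hom.app (op (obj j))).hom (gam j G ψ) := by
  unfold gam
  rw [sec_comp]
  have nat := (rho j).hom.naturality φ
  have h := congrArg (fun m => ((EtCore.gsec T).map m).hom (sec _ ψ)) nat
  simp only [Functor.map_comp, AddCommGrpCat.hom_comp, AddMonoidHom.coe_comp,
    Function.comp_apply] at h
  exact h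

/-- degree zero of `Hpull` is restriction of sections -/
lemma gam_Hpull (G : EtCoh.Ab X) (ψ : EtCoh.const X ℤ ⟶ G) :
    gam j G ((EtCore.pullConst j ℤ).inv ≫ (EtCoh.pull j).map ψ) =
      (G.obj.map ((EtCore.topIsTerminal X).from (obj j)).op).hom (sec G ψ) := by
  unfold gam
  rw [sec_pullConst_inv_comp, ← pullSec_rho]
  rfl

end Gam

section GamVia

variable {T' T X : Scheme.{u}} (i : T' ⟶ T) (j : T ⟶ X) (j' : T' ⟶ X) (w : i ≫ j = j')
  [AlgebraicGeometry.Etale i] [AlgebraicGeometry.Etale j] [AlgebraicGeometry.Etale j']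
  [EtShriek.JCont i] [EtShriek.JCont j] [EtShriek.JCont j']

set_option backward.isDefEq.respectTransparency.types false in
include w in
/-- the morphism `(T' → X) ⟶ (T → X)` of the small étale site of `X` induced by `i` -/
noncomputable def rr : obj j' ⟶ obj j :=
  MorphismProperty.Over.homMk i (by
    change i ≫ (𝟙 T ≫ j) = 𝟙 T' ≫ j'
    rw [Category.id_comp, Category.id_comp, w])

/-- degree zero of `HpullVia` is restriction of sections -/
lemma gam_HpullVia (G : EtCoh.Ab X) (ψ : EtCoh.const T ℤ ⟶ (EtCoh.pull j).obj G) :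
    gam j' G ((EtCore.pullConst i ℤ).inv ≫ (EtCoh.pull i).map ψ ≫
        ((EtCore.pullComp i j).symm ≪≫ EtCore.pullCongr w).hom.app G) =
      (G.obj.map (rr i j j' w).op).hom (gam j G ψ) := by
  subst w
  have e1 : ((EtCore.pullComp i j).symm ≪≫ EtCore.pullCongr rfl).hom.app G =
      (EtCore.pullComp i j).inv.app G := by
    simp [EtCore.pullCongr]
  rw [e1]
  unfold gam
  rw [← Category.assoc, sec_comp, sec_pullConst_inv_comp]
  -- now use `pullComp_inv_rho`
  have h4 := pullComp_inv_rho i j G
  have key : ((EtCore.gsec T').map ((rho (i ≫ j)).hom.app G)).hom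
      (((EtCore.gsec T').map ((EtCore.pullComp i j).inv.app G)).hom
        ((pullSec i ((EtCoh.pull j).obj G)).hom (sec ((EtCoh.pull j).obj G) ψ))) =
      ((EtCore.gsec T').map (tau i j G)).hom
        ((pullSec i ((EtCoh.pull j).obj G)).hom (sec ((EtCoh.pull j).obj G) ψ)) := by
    rw [← h4, Functor.map_comp]
    rfl
  refine key.trans ?_
  unfold tau
  rw [Functor.map_comp, Functor.map_comp]
  have h2 := pullSec_rho i ((EtCoh.pull j).obj G)
  have h2' := congrArg (fun m => m.hom (sec ((EtCoh.pull j).obj G) ψ)) h2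
  simp only [AddCommGrpCat.hom_comp, AddMonoidHom.coe_comp, Function.comp_apply] at h2' ⊢
  rw [h2']
  have hrr : (compIso i j).inv.app (EtCoh.top T') ≫
      (EtShriek.compEtale j).map ((EtCore.topIsTerminal T).from (obj i)) =
      rr i j (i ≫ j) rfl := by
    apply MorphismProperty.Over.Hom.ext
    change ((compIso i j).inv.app (EtCoh.top T')).left ≫
      ((EtCore.topIsTerminal T).from (obj i)).left = i
    have h1 : ((compIso i j).inv.app (EtCoh.top T')).left = 𝟙 _ := by simp [compIso]
    have h3 : ((EtCore.topIsTerminal T).from (obj i)).left = i := by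
      have := MorphismProperty.Over.w ((EtCore.topIsTerminal T).from (obj i))
      exact (Category.comp_id _).symm.trans (this.trans (Category.id_comp _))
    erw [h1, Category.id_comp]
    exact h3
  have hmor : ((EtCoh.pull j).obj G).obj.map ((EtCore.topIsTerminal T).from (obj i)).op ≫
      (EtCore.gsec T').map ((EtShriek.restrAlong i).map ((rho j).hom.app G)) ≫
      (EtCore.gsec T').map ((can i j).hom.app G) =
      (EtCore.gsec T).map ((rho j).hom.app G) ≫ G.obj.map (rr i j (i ≫ j) rfl).op := by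
    have nat := ((rho j).hom.app G).hom.naturality ((EtCore.topIsTerminal T).from (obj i)).op
    have hc := can_hom_app_hom_app i j G (EtCoh.top T')
    rw [← hrr, op_comp, G.obj.map_comp, ← Category.assoc]
    refine Eq.trans ?_ ((congrArg (fun m => m ≫ ((can i j).hom.app G).hom.app (op (EtCoh.top T')))
      nat).trans ?_)
    · rfl
    · rw [hc]
      rfl
  exact congrArg (fun m => m.hom (sec ((EtCoh.pull j).obj G) ψ)) hmor

end GamVia

end Groth.Agent.Lib.Helper9.EtPull
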