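import Groth.Prelude.Def_EtShriek2

/-!
# `EtShriek.JCont j` holds for every étale `j` (helper9)
-/

set_option autoImplicit false
universe u
open CategoryTheory CategoryTheory.Limits AlgebraicGeometry Opposite

namespace Groth.Agent.Lib.Helper9.JContAll

variable {U X : Scheme.{u}}

set_option backward.isDefEq.respectTransparency.types false in
theorem compatiblePreserving_compEtale (j : U ⟶ X) [hj : Etale j] :
    CompatiblePreserving X.smallEtaleTopology (EtShriek.compEtale j) := by
  constructor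
  intro ℱ Z T x hx Y₁ Y₂ W f₁ f₂ g₁ g₂ hg₁ hg₂ he
  have e1 : f₁.left ≫ Y₁.hom ≫ j = W.hom := MorphismProperty.Over.w f₁
  have e2 : f₂.left ≫ Y₂.hom ≫ j = W.hom := MorphismProperty.Over.w f₂
  have hW : EtCoh.etaleMP ((f₁.left ≫ Y₁.hom) ≫ j) := by
    rw [Category.assoc, e1]; exact W.prop
  let V' : U.Etale := MorphismProperty.Over.mk ⊤ (f₁.left ≫ Y₁.hom)
      (EtCoh.etaleMP.of_postcomp (W' := EtCoh.etaleMP) (f₁.left ≫ Y₁.hom) j hj hW)
  let e : (EtShriek.compEtale j).obj V' ≅ W :=
    MorphismProperty.Over.isoMk (Iso.refl _)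
      ((Category.id_comp W.hom).trans (e1.symm.trans (Category.assoc _ _ _).symm))
  have hl : f₁.left ≫ g₁.left = f₂.left ≫ g₂.left := congrArg (fun m => m.left) he
  have hcomm : f₂.left ≫ Y₂.hom = f₁.left ≫ Y₁.hom := by
    have w1 : g₁.left ≫ Z.hom = Y₁.hom := MorphismProperty.Over.w g₁
    have w2 : g₂.left ≫ Z.hom = Y₂.hom := MorphismProperty.Over.w g₂
    rw [← w1, ← w2]
    exact ((Category.assoc _ _ _).symm.trans (congrArg (fun m => m ≫ Z.hom) hl.symm)).trans
      (Category.assoc _ _ _)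
  let f₁' : V' ⟶ Y₁ := MorphismProperty.Over.homMk f₁.left rfl
  let f₂' : V' ⟶ Y₂ := MorphismProperty.Over.homMk f₂.left hcomm
  have hc : f₁' ≫ g₁ = f₂' ≫ g₂ := MorphismProperty.Over.Hom.ext hl
  have h := hx f₁' f₂' hg₁ hg₂ hc
  have k1 : (EtShriek.compEtale j).map f₁' = e.hom ≫ f₁ :=
    MorphismProperty.Over.Hom.ext (Category.id_comp _).symm
  have k2 : (EtShriek.compEtale j).map f₂' = e.hom ≫ f₂ :=
    MorphismProperty.Over.Hom.ext (Category.id_comp _).symm
  apply (ℱ.obj.mapIso e.op).toEquiv.injective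
  change ℱ.obj.map e.hom.op (ℱ.obj.map f₁.op _) = ℱ.obj.map e.hom.op (ℱ.obj.map f₂.op _)
  rw [← Functor.map_comp_apply, ← Functor.map_comp_apply, ← op_comp, ← op_comp,
    ← k1, ← k2]
  exact h

/-- composition with an étale morphism is a continuous functor of small étale sites -/
theorem jCont (j : U ⟶ X) [hj : Etale j] : EtShriek.JCont j :=
  Functor.isContinuous_of_coverPreserving (compatiblePreserving_compEtale j)
    (EtShriek.coverPreserving_compEtale j)

end Groth.Agent.Lib.Helper9.JContAll
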