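import Mathlib

import Groth.Agent.Lib.Helper21TorsF
import Groth.Agent.Lib.Helper21H90Main
import Groth.Agent.Lib.Helper9EtPull
import Groth.Agent.Lib.Helper9JContAll

set_option autoImplicit false
universe u
open CategoryTheory CategoryTheory.Limits AlgebraicGeometry Opposite

namespace Groth.Agent.Lib.Helper21.H90Pull
open Groth.Agent.Lib.Helper21.TorsA Groth.Agent.Lib.Helper21.TorsB
open Groth.Agent.Lib.Helper21.EtOpen
open Groth.Agent.Lib.Helper9.EtPull

variable {X : Scheme.{u}}

/-- helper9's section attached to the identity of `ℤ` is the section `1` -/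
lemma sec_id : sec (EtCoh.const X ℤ) (𝟙 _) = one X.smallEtaleTopology (EtCoh.top X) := by
  have h : (EtCore.constAdj X).homEquiv ZZ.{u} (EtCoh.const X ℤ) (𝟙 _) =
      ((toSheafify X.smallEtaleTopology (Kp (ULift.{u + 1, 0} ℤ))).app (op (EtCoh.top X)) :
        ZZ.{u} ⟶ (EtCore.gsec X).obj (EtCoh.const X ℤ)) := by
    refine (Adjunction.homEquiv_unit _ _ _ _).trans ?_
    refine (congrArg (fun m => (EtCore.constAdj X).unit.app ZZ.{u} ≫ m)
      (CategoryTheory.Functor.map_id (EtCore.gsec X) _)).trans ?_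
    refine (Category.comp_id _).trans ?_
    refine (Adjunction.comp_unit_app _ _ _).trans ?_
    exact Category.id_comp _
  exact ConcreteCategory.congr_hom h ⟨1⟩


section pull
variable {T : Scheme.{u}} (j : T ⟶ X) [AlgebraicGeometry.Etale j] [EtShriek.JCont j]

lemma gam_pullConst_inv :
    gam j (EtCoh.const X ℤ) (EtCore.pullConst j ℤ).inv = one X.smallEtaleTopology (obj j) := by
  have h := gam_Hpull j (EtCoh.const X ℤ) (𝟙 _)
  rw [CategoryTheory.Functor.map_id, Category.comp_id, sec_id] at h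
  rw [h]
  exact res_one _

/-- the pullback along an étale `j : T ⟶ X` of the class of an extension of `ℤ` vanishes as soon
as the section `1` lifts over `T → X` -/
theorem hpull_extClass_eq_zero [PreservesFiniteLimits (EtCoh.pull j)]
    {G E : EtCoh.Ab X} (i : G ⟶ E) (π : E ⟶ EtCoh.const X ℤ) (w : i ≫ π = 0)
    (hS : (ShortComplex.mk i π w).ShortExact)
    (e : E.obj.obj (op (obj j)))
    (he : (π.hom.app (op (obj j))).hom e = one X.smallEtaleTopology (obj j)) :
    EtCore.Hpull j G 1 hS.extClass = 0 := by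
  obtain ⟨ψ, hψ⟩ := (gam_bijective j E).2 e
  have key : ψ ≫ (EtCoh.pull j).map π = (EtCore.pullConst j ℤ).inv := by
    apply (gam_bijective j _).1
    rw [gam_comp, hψ, he, gam_pullConst_inv]
  change (Abelian.Ext.mk₀ (EtCore.pullConst j ℤ).inv).comp
    (hS.extClass.mapExactFunctor (EtCoh.pull j)) (zero_add 1) = 0
  rw [Abelian.Ext.mapExactFunctor_extClass, ← key, ← Abelian.Ext.mk₀_comp_mk₀_assoc]
  have h0 : (Abelian.Ext.mk₀ ((EtCoh.pull j).map π)).comp
      (hS.map_of_exact (EtCoh.pull j)).extClass (zero_add 1) = 0 :=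
    (hS.map_of_exact (EtCoh.pull j)).comp_extClass
  exact (congrArg (fun z => (Abelian.Ext.mk₀ ψ).comp z (zero_add 1)) h0).trans
    (Abelian.Ext.comp_zero _ _ _ _ _)

end pull


/-- classes in `H¹(X_et, G_m)` vanish Zariski-locally -/
theorem hpull_eq_zero_locally (c : EtCoh.H X (EtCoh.Gm X) 1) (x : X) :
    ∃ U : X.Opens, x ∈ U ∧ ∀ [PreservesFiniteLimits (EtCoh.pull U.ι)],
      EtCore.Hpull U.ι (EtCoh.Gm X) 1 c = 0 := by
  obtain ⟨E, i, π, w, hS, rfl⟩ := Groth.Agent.Lib.Helper21.Ext1.exists_extClass c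
  obtain ⟨U, hxU, ⟨t⟩⟩ := Groth.Agent.Lib.Helper21.H90Main.exists_zariski_local_section
    (Groth.Agent.Lib.Helper21.TorsC.ofExt i π w hS) x
  refine ⟨U, hxU, ?_⟩
  intro _
  haveI := Groth.Agent.Lib.Helper9.JContAll.jCont U.ι
  let θ : obj U.ι ⟶ opObj U := MorphismProperty.Over.homMk (𝟙 _) rfl
  let t' : {t : E.obj.obj (op (opObj U)) //
      (π.hom.app (op (opObj U))).hom t = one X.smallEtaleTopology (opObj U)} := t
  refine hpull_extClass_eq_zero U.ι i π w hS ((E.obj.map θ.op).hom t'.1) ?_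
  have h1 := res_map π θ t'.1
  rw [← h1, t'.2]
  exact res_one θ

end Groth.Agent.Lib.Helper21.H90Pull
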