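import Mathlib
import Groth.Agent.Lib.Helper16LocCohShift

/-!
# Local cohomology sheaves vanish as soon as cohomology with supports vanishes on a basis (helper21)
-/

set_option autoImplicit false
set_option linter.style.haveILetI false
set_option linter.unusedSectionVars false
universe u
open CategoryTheory CategoryTheory.Limits TopologicalSpace Opposite
open LocCohZ

namespace Groth.Agent.Lib.Helper21.HZB

open Groth.Agent.Lib.Helper16.LocCohShift Groth.Agent.Lib.Helper16.SectSupp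
  Groth.Agent.Lib.Helper16.ClosedEmb

variable {X : TopCat.{u}} (U : Opens X) (F : CohTop.Ab X) (B : Set (Opens X))

/-- degree `k+1`: vanishing of `H^{k+1}_{Z ∩ V}(V, F)` on a basis forces `ℋ^{k+1}_Z(F) = 0`. -/
theorem isZero_HZsh_succ_of_basis (hB : Opens.IsBasis B) (k : ℕ)
    (h : ∀ V ∈ B, Subsingleton (LocCohZ.HZ F (k + 1) (inf_le_left : V ⊓ U ≤ V))) :
    IsZero ((LocCohZ.HZsh U (k + 1)).obj F) := by
  rw [HZsh_succ_iff, locSurj_iff]
  intro V t x hx
  obtain ⟨W, hWB, hxW, hWV⟩ := (Opens.isBasis_iff_nbhd.1 hB) hx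
  have hs : Function.Surjective (((LocCohZ.sectSuppF U).map ((DD F).g k)).hom.app (op W)) :=
    (secSurj_iff U _ W).2 ((homSurj_iff U _ W).1 ((HZ_succ_iff U F k W).1 (h W hWB)))
  obtain ⟨s, hs⟩ := hs (((LocCohZ.sectSuppF U).obj ((DD F).Z (k + 1))).obj.map (homOfLE hWV).op t)
  exact ⟨W, hWV, ⟨s, hs⟩, hxW⟩

/-- a section of a sheaf vanishing on all members of a basis contained in its domain is zero. -/
theorem eq_zero_of_basis (hB : Opens.IsBasis B) (G : CohTop.Ab X) (V : Opens X)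
    (s : G.obj.obj (op V))
    (h : ∀ W ∈ B, ∀ hWV : W ≤ V, G.obj.map (homOfLE hWV).op s = 0) : s = 0 := by
  let ι := {W : Opens X // W ∈ B ∧ W ≤ V}
  let Wf : ι → Opens X := fun W => W.1
  have hcov : V ≤ iSup Wf := by
    intro x hx
    obtain ⟨W, hWB, hxW, hWV⟩ := (Opens.isBasis_iff_nbhd.1 hB) hx
    exact Opens.mem_iSup.2 ⟨⟨W, hWB, hWV⟩, hxW⟩
  refine TopCat.Sheaf.eq_of_locally_eq' (⟨G.obj, G.property⟩ : TopCat.Sheaf AddCommGrpCat X) Wf V
    (fun W => homOfLE W.2.2) hcov s 0 ?_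
  intro W
  rw [map_zero]
  exact h W.1 W.2.1 W.2.2

/-- degree `0`. -/
theorem isZero_HZsh_zero_of_basis (hB : Opens.IsBasis B)
    (h : ∀ V ∈ B, Subsingleton (LocCohZ.HZ F 0 (inf_le_left : V ⊓ U ≤ V))) :
    IsZero ((LocCohZ.HZsh U 0).obj F) := by
  rw [HZsh_zero_iff]
  intro V
  rw [(LocCohZ.sect0Equiv F (inf_le_left : V ⊓ U ≤ V)).toEquiv.subsingleton_congr]
  have h0 : ∀ c : LocCohZ.sectZ F (inf_le_left : V ⊓ U ≤ V), c = 0 := by
    intro c
    apply Subtype.ext
    refine eq_zero_of_basis B hB F V c.1 ?_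
    intro W hWB hWV
    haveI := h W hWB
    have hmem : F.obj.map (homOfLE hWV).op c.1 ∈ LocCohZ.sectZ F (inf_le_left : W ⊓ U ≤ W) := by
      rw [AddMonoidHom.mem_ker]
      have hc : (F.obj.map (homOfLE (inf_le_left : V ⊓ U ≤ V)).op).hom c.1 = 0 := c.2
      have hle : W ⊓ U ≤ V ⊓ U := inf_le_inf_right U hWV
      have e1 : (F.obj.map (homOfLE (inf_le_left : W ⊓ U ≤ W)).op).hom
          ((F.obj.map (homOfLE hWV).op).hom c.1) =
          (F.obj.map (homOfLE hle).op).hom ((F.obj.map (homOfLE (inf_le_left : V ⊓ U ≤ V)).op).hom c.1) := by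
        rw [← ConcreteCategory.comp_apply, ← ConcreteCategory.comp_apply, ← F.obj.map_comp,
          ← F.obj.map_comp]
        rfl
      exact e1.trans (by rw [hc, map_zero])
    haveI : Subsingleton (LocCohZ.sectZ F (inf_le_left : W ⊓ U ≤ W)) :=
      (LocCohZ.sect0Equiv F (inf_le_left : W ⊓ U ≤ W)).symm.toEquiv.subsingleton
    exact congrArg Subtype.val (Subsingleton.elim
      (⟨_, hmem⟩ : LocCohZ.sectZ F (inf_le_left : W ⊓ U ≤ W)) 0)
  exact ⟨fun a b => (h0 a).trans (h0 b).symm⟩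

/-- **Basis version of S6022 (`⇐`).** -/
theorem isZero_HZsh_of_basis (hB : Opens.IsBasis B) (i : ℕ)
    (h : ∀ V ∈ B, Subsingleton (LocCohZ.HZ F i (inf_le_left : V ⊓ U ≤ V))) :
    IsZero ((LocCohZ.HZsh U i).obj F) := by
  cases i with
  | zero => exact isZero_HZsh_zero_of_basis U F B hB h
  | succ k => exact isZero_HZsh_succ_of_basis U F B hB k h

end Groth.Agent.Lib.Helper21.HZB
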