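import Mathlib
import Groth.Prelude.Def_LocCohZ
import Groth.Agent.Lib.Helper23AffVanish1
import Groth.Agent.Lib.Helper21KG1

/-!
# Cohomology with supports via the long exact sequence of `Ext` (helper21)
-/

set_option autoImplicit false

namespace Groth.Agent.Lib.Helper21.LCZ

open CategoryTheory CategoryTheory.Limits Opposite TopologicalSpace Abelian
open Groth.Agent.Lib.Helper23.AffVanish Groth.Agent.Lib.Helper21.KG

universe u

section General

variable {C : Type*} [Category C] [Abelian C] [HasExt.{u} C] {S : ShortComplex C}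
  (hS : S.ShortExact) (Y : C)

/-- the connecting map. -/
noncomputable abbrev dl (n₀ n₁ : ℕ) (h : 1 + n₀ = n₁) : Ext.{u} S.X₁ Y n₀ →+ Ext.{u} S.X₃ Y n₁ :=
  hS.extClass.precomp Y h

theorem dl_bijective (n₀ n₁ : ℕ) (h : 1 + n₀ = n₁) (h0 : ∀ x : Ext.{u} S.X₂ Y n₀, x = 0)
    (h1 : ∀ x : Ext.{u} S.X₂ Y n₁, x = 0) : Function.Bijective (dl hS Y n₀ n₁ h) := by
  constructor
  · rw [injective_iff_map_eq_zero]
    intro x hx
    obtain ⟨x₂, rfl⟩ := Ext.contravariant_sequence_exact₁ hS Y x h hx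
    rw [h0 x₂, Ext.comp_zero]
  · intro y
    exact Ext.contravariant_sequence_exact₃ hS Y y (h1 _) h

theorem dl_surjective (n₀ n₁ : ℕ) (h : 1 + n₀ = n₁)
    (h1 : ∀ x : Ext.{u} S.X₂ Y n₁, x = 0) : Function.Surjective (dl hS Y n₀ n₁ h) := by
  intro y
  exact Ext.contravariant_sequence_exact₃ hS Y y (h1 _) h

theorem dl_eq_zero_iff (n₀ n₁ : ℕ) (h : 1 + n₀ = n₁) (x : Ext.{u} S.X₁ Y n₀) :
    dl hS Y n₀ n₁ h x = 0 ↔ ∃ x₂ : Ext.{u} S.X₂ Y n₀, (Ext.mk₀ S.f).comp x₂ (zero_add n₀) = x := by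
  constructor
  · intro hx
    exact Ext.contravariant_sequence_exact₁ hS Y x h hx
  · rintro ⟨x₂, rfl⟩
    exact hS.extClass_comp_assoc x₂ (h := h)

end General


section Space

variable {X : TopCat.{u}} (F : CohTop.Ab X) (U : Opens X)

/-- `H^{j+2}_Z(X, F) ≃ H^{j+1}(U, F)` when `F` has no cohomology on `X` in degrees `j+1`, `j+2`. -/
theorem nonempty_HZc_succ_succ_equiv (j : ℕ) (h0 : Subsingleton (HE F (j + 1) ⊤))
    (h1 : Subsingleton (HE F (j + 2) ⊤)) :
    Nonempty (LocCohZ.HZc F (j + 2) U ≃+ HE F (j + 1) U) :=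
  ⟨(AddEquiv.ofBijective (dl (LocCohZ.zqSeq_shortExact (le_top : U ≤ ⊤)) F (j + 1) (j + 2) (by omega))
    (dl_bijective (LocCohZ.zqSeq_shortExact (le_top : U ≤ ⊤)) F (j + 1) (j + 2) (by omega)
      (fun x => Subsingleton.elim (h := h0) x 0) (fun x => Subsingleton.elim (h := h1) x 0))).symm⟩

/-- `H^1_Z(X, F)` is the cokernel of the restriction `F(X) → F(U)` when `H^1(X, F) = 0`. -/
theorem nonempty_HZc_one_equiv (h1 : Subsingleton (HE F 1 ⊤)) :
    Nonempty (LocCohZ.HZc F 1 U ≃+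
      F.obj.obj (op U) ⧸ (F.obj.map (homOfLE (le_top : U ≤ ⊤)).op).hom.range) := by
  have hS := LocCohZ.zqSeq_shortExact (le_top : U ≤ ⊤)
  have k₁ : KMI (H := LocCohZ.HZc F 1 U) (resE F 0 (le_top : U ≤ ⊤))
      (0 : HE F 0 U →+ PUnit.{1}) :=
    { π := (dl hS F 0 1 rfl).comp (AddSubgroup.subtype _)
      surj := by
        intro y
        obtain ⟨x, hx⟩ := dl_surjective hS F 0 1 rfl
          (fun x => Subsingleton.elim (h := h1) x 0) y
        exact ⟨⟨x, by simp⟩, hx⟩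
      ker := fun y => by
        change dl hS F 0 1 rfl y.1 = 0 ↔ _
        rw [dl_eq_zero_iff]
        rfl }
  have k₂ := KMI.ofCoker (C := PUnit.{1}) (F.obj.map (homOfLE (le_top : U ≤ ⊤)).op).hom
  exact k₁.nonempty_equiv_of_maps k₂ (h0Equiv F ⊤).toAddMonoidHom (h0Equiv F U)
    (AddMonoidHom.id _) (h0Equiv F ⊤).surjective Function.injective_id
    (fun x => h0Equiv_res F le_top x) (fun y => rfl)

end Space

end Groth.Agent.Lib.Helper21.LCZ
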