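import Groth.Agent.Lib.Helper21AC5
import Groth.Agent.Lib.Helper21KG2

/-!
# Change of rings for the augmented Čech complex (helper21)

For a ring isomorphism `φ : A ≃+* A'` and a `φ`-semilinear isomorphism `ψ : N ≃+ N'`, the augmented Čech
complexes of `N` with respect to `f` and of `N'` with respect to `φ ∘ f` have isomorphic cohomology groups.
-/

set_option autoImplicit false

namespace Groth.Agent.Lib.Helper21.RC

open CategoryTheory Groth.Agent.Lib.Helper21.AC Groth.Agent.Lib.Helper21.KG

universe u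

section Semi

variable {A A' : Type u} [CommRing A] [CommRing A'] (φ : A →+* A')
  {N N' : Type u} [AddCommGroup N] [Module A N] [AddCommGroup N'] [Module A' N']
  (ψ : N →+ N') (hψ : ∀ (a : A) (n : N), ψ (a • n) = φ a • ψ n)
  (S : Submonoid A) (S' : Submonoid A') (hS : ∀ s ∈ S, φ s ∈ S')

include hψ in
/-- the semilinear map between localisations, as a function. -/
noncomputable def locSemiFun (y : LocalizedModule S N) : LocalizedModule S' N' :=
  y.liftOn (fun p => LocalizedModule.mk (ψ p.1) ⟨φ p.2, hS _ p.2.2⟩) (by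
    rintro ⟨m, s⟩ ⟨m', s'⟩ ⟨v, hv⟩
    refine LocalizedModule.mk_eq.mpr ⟨⟨φ v, hS _ v.2⟩, ?_⟩
    change φ v • φ s' • ψ m = φ v • φ s • ψ m'
    have hv' : (v : A) • (s' : A) • m = (v : A) • (s : A) • m' := hv
    rw [← hψ, ← hψ, ← hψ, ← hψ, hv'])

lemma locSemiFun_mk (m : N) (s : S) :
    locSemiFun φ ψ hψ S S' hS (LocalizedModule.mk m s) =
      LocalizedModule.mk (ψ m) ⟨φ s, hS _ s.2⟩ :=
  LocalizedModule.liftOn_mk _ m s

/-- the semilinear map between localisations. -/
noncomputable def locSemi : LocalizedModule S N →+ LocalizedModule S' N' where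
  toFun := locSemiFun φ ψ hψ S S' hS
  map_zero' := by
    rw [← LocalizedModule.zero_mk (1 : S), locSemiFun_mk, map_zero, LocalizedModule.zero_mk]
  map_add' y y' := by
    induction y using LocalizedModule.induction_on with
    | h m s =>
    induction y' using LocalizedModule.induction_on with
    | h m' s' =>
    rw [LocalizedModule.mk_add_mk, locSemiFun_mk, locSemiFun_mk, locSemiFun_mk,
      LocalizedModule.mk_add_mk]
    congr 1
    · change ψ ((s' : A) • m + (s : A) • m') = φ s' • ψ m + φ s • ψ m'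
      rw [map_add, hψ, hψ]
    · apply Subtype.ext
      change φ ((s : A) * (s' : A)) = φ s * φ s'
      rw [map_mul]

lemma locSemi_mk (m : N) (s : S) :
    locSemi φ ψ hψ S S' hS (LocalizedModule.mk m s) =
      LocalizedModule.mk (ψ m) ⟨φ s, hS _ s.2⟩ :=
  locSemiFun_mk φ ψ hψ S S' hS m s

end Semi


section LocLe

variable {A : Type u} [CommRing A] {S S' : Submonoid A}

lemma locLe_mk' (h : S ≤ S') (N : Type u) [AddCommGroup N] [Module A N] (m : N) (s : S) :
    locLe h N (LocalizedModule.mk m s) = LocalizedModule.mk m (⟨(s : A), h s.2⟩ : S') := by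
  have hu := le_unitSub_loc (le_refl S') N (h s.2)
  rw [mem_unitSub, Module.End.isUnit_iff] at hu
  apply hu.1
  change (s : A) • locLe h N (LocalizedModule.mk m s) =
    (s : A) • LocalizedModule.mk m (⟨(s : A), h s.2⟩ : S')
  rw [← map_smul, LocalizedModule.smul'_mk, LocalizedModule.smul'_mk]
  have e1 : LocalizedModule.mk ((s : A) • m) s = LocalizedModule.mk m (1 : S) :=
    LocalizedModule.mk_cancel s m
  have e2 : LocalizedModule.mk ((s : A) • m) (⟨(s : A), h s.2⟩ : S') =
      LocalizedModule.mk m (1 : S') :=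
    LocalizedModule.mk_cancel (⟨(s : A), h s.2⟩ : S') m
  rw [e1, e2, locLe_mk]

end LocLe

section Compat

variable {A A' : Type u} [CommRing A] [CommRing A'] (φ : A →+* A')
  {N N' : Type u} [AddCommGroup N] [Module A N] [AddCommGroup N'] [Module A' N']
  (ψ : N →+ N') (hψ : ∀ (a : A) (n : N), ψ (a • n) = φ a • ψ n)

lemma locSemi_locLe {S T : Submonoid A} {S' T' : Submonoid A'} (hS : ∀ s ∈ S, φ s ∈ S')
    (hT : ∀ s ∈ T, φ s ∈ T') (h : S ≤ T) (h' : S' ≤ T') (y : LocalizedModule S N) :
    locSemi φ ψ hψ T T' hT (locLe h N y) = locLe h' N' (locSemi φ ψ hψ S S' hS y) := by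
  induction y using LocalizedModule.induction_on with
  | h m s =>
  rw [locLe_mk', locSemi_mk, locSemi_mk, locLe_mk']

end Compat

section Iso

variable {A A' : Type u} [CommRing A] [CommRing A'] (φ : A ≃+* A')
  {N N' : Type u} [AddCommGroup N] [Module A N] [AddCommGroup N'] [Module A' N']
  (ψ : N ≃+ N') (hψ : ∀ (a : A) (n : N), ψ (a • n) = φ a • ψ n)

include hψ in
lemma hψ_symm (a' : A') (n' : N') : ψ.symm (a' • n') = φ.symm a' • ψ.symm n' := by
  apply ψ.injective
  rw [hψ, AddEquiv.apply_symm_apply, RingEquiv.apply_symm_apply, AddEquiv.apply_symm_apply]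

/-- the semilinear isomorphism between localisations. -/
noncomputable def locSemiEquiv (S : Submonoid A) (S' : Submonoid A') (hS : ∀ s ∈ S, φ s ∈ S')
    (hS' : ∀ s' ∈ S', φ.symm s' ∈ S) : LocalizedModule S N ≃+ LocalizedModule S' N' where
  toFun := locSemi (φ : A →+* A') (ψ : N →+ N') hψ S S' hS
  invFun := locSemi (φ.symm : A' →+* A) (ψ.symm : N' →+ N) (hψ_symm φ ψ hψ) S' S hS'
  left_inv y := by
    induction y using LocalizedModule.induction_on with
    | h m s =>
    rw [locSemi_mk, locSemi_mk]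
    congr 1
    · exact ψ.symm_apply_apply m
    · apply Subtype.ext
      exact φ.symm_apply_apply s
  right_inv y := by
    induction y using LocalizedModule.induction_on with
    | h m s =>
    rw [locSemi_mk, locSemi_mk]
    congr 1
    · exact ψ.apply_symm_apply m
    · apply Subtype.ext
      exact φ.apply_symm_apply s
  map_add' := map_add _

lemma locSemiEquiv_apply (S : Submonoid A) (S' : Submonoid A') (hS : ∀ s ∈ S, φ s ∈ S')
    (hS' : ∀ s' ∈ S', φ.symm s' ∈ S) (y : LocalizedModule S N) :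
    locSemiEquiv φ ψ hψ S S' hS hS' y = locSemi (φ : A →+* A') (ψ : N →+ N') hψ S S' hS y := rfl

end Iso


section Complex

variable {A A' : Type u} [CommRing A] [CommRing A'] (φ : A ≃+* A')
  {N N' : Type u} [AddCommGroup N] [Module A N] [AddCommGroup N'] [Module A' N']
  (ψ : N ≃+ N') (hψ : ∀ (a : A) (n : N), ψ (a • n) = φ a • ψ n)
  {I : Type u} (f : I → A) (f' : I → A') (hf : ∀ i, f' i = φ (f i))

include hf in
lemma map_Sub {n : ℕ} (x : Fin n → I) : ∀ s ∈ Sub f x, φ s ∈ Sub f' x := by
  intro s hs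
  induction hs using Submonoid.closure_induction with
  | mem s hs =>
    obtain ⟨k, rfl⟩ := hs
    rw [Function.comp_apply, ← hf]
    exact mem_Sub f' x k
  | one => rw [map_one]; exact one_mem _
  | mul a b _ _ ha hb => rw [map_mul]; exact mul_mem ha hb

include hf in
lemma map_symm_Sub {n : ℕ} (x : Fin n → I) : ∀ s' ∈ Sub f' x, φ.symm s' ∈ Sub f x := by
  intro s hs
  induction hs using Submonoid.closure_induction with
  | mem s hs =>
    obtain ⟨k, rfl⟩ := hs
    rw [Function.comp_apply, hf, RingEquiv.symm_apply_apply]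
    exact mem_Sub f x k
  | one => rw [map_one]; exact one_mem _
  | mul a b _ _ ha hb => rw [map_mul]; exact mul_mem ha hb

/-- the comparison of the terms of the augmented Čech complexes. -/
noncomputable def αC (n : ℕ) : CXt f N n ≃+ CXt f' N' n where
  toFun c x := locSemiEquiv φ ψ hψ (Sub f x) (Sub f' x) (map_Sub φ f f' hf x)
    (map_symm_Sub φ f f' hf x) (c x)
  invFun c x := (locSemiEquiv φ ψ hψ (Sub f x) (Sub f' x) (map_Sub φ f f' hf x)
    (map_symm_Sub φ f f' hf x)).symm (c x)
  left_inv c := by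
    funext x
    exact AddEquiv.symm_apply_apply _ _
  right_inv c := by
    funext x
    exact AddEquiv.apply_symm_apply _ _
  map_add' c c' := by
    funext x
    exact map_add _ _ _

lemma αC_apply (n : ℕ) (c : CXt f N n) (x : Fin n → I) :
    αC φ ψ hψ f f' hf n c x = locSemi (φ : A →+* A') (ψ : N →+ N') hψ (Sub f x) (Sub f' x)
      (map_Sub φ f f' hf x) (c x) := rfl

lemma αC_δ (n : ℕ) (k : Fin (n + 1)) (c : CXt f N n) :
    αC φ ψ hψ f f' hf (n + 1) (δ f N n k c) = δ f' N' n k (αC φ ψ hψ f f' hf n c) := by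
  funext x
  rw [αC_apply, δ_apply, δ_apply, αC_apply]
  exact locSemi_locLe (φ : A →+* A') (ψ : N →+ N') hψ _ _ _ _ _

lemma αC_dC (n : ℕ) (c : CXt f N n) :
    αC φ ψ hψ f f' hf (n + 1) ((dC f N n).hom c) = (dC f' N' n).hom (αC φ ψ hψ f f' hf n c) := by
  rw [dC_apply, dC_apply, map_sum]
  refine Finset.sum_congr rfl (fun k _ => ?_)
  rw [map_zsmul, αC_δ]

lemma αC_d (i j : ℕ) (c : CXt f N i) :
    αC φ ψ hψ f f' hf j (((cechAug f N).d i j).hom c) =
      ((cechAug f' N').d i j).hom (αC φ ψ hψ f f' hf i c) := by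
  by_cases hij : i + 1 = j
  · subst hij
    have h1 := congrArg (fun t => t.hom c) (cechAug_d f N i)
    have h2 := congrArg (fun t => t.hom (αC φ ψ hψ f f' hf i c)) (cechAug_d f' N' i)
    exact (congrArg _ h1).trans ((αC_dC φ ψ hψ f f' hf i c).trans h2.symm)
  · have h1 : (cechAug f N).d i j = 0 := HomologicalComplex.shape _ _ _ hij
    have h2 : (cechAug f' N').d i j = 0 := HomologicalComplex.shape _ _ _ hij
    rw [h1, h2]
    exact map_zero _

include φ ψ hψ hf in
/-- **Change of rings for the cohomology of the augmented Čech complex.** -/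
theorem nonempty_homology_equiv (n : ℕ) :
    Nonempty ((cechAug f N).homology n ≃+ (cechAug f' N').homology n) := by
  have key : ∀ i j k : ℕ, (ComplexShape.up ℕ).prev j = i → (ComplexShape.up ℕ).next j = k →
      Nonempty ((cechAug f N).homology j ≃+ (cechAug f' N').homology j) := by
    intro i j k hi hk
    have k₁ := KMI.ofComplexModuleCat (cechAug f N) i j k hi hk
    have k₂ := KMI.ofComplexModuleCat (cechAug f' N') i j k hi hk
    exact k₁.nonempty_equiv_of_maps k₂ (αC φ ψ hψ f f' hf i).toAddMonoidHom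
      (αC φ ψ hψ f f' hf j) (αC φ ψ hψ f f' hf k).toAddMonoidHom
      (αC φ ψ hψ f f' hf i).surjective (αC φ ψ hψ f f' hf k).injective
      (fun c => αC_d φ ψ hψ f f' hf i j c) (fun c => αC_d φ ψ hψ f f' hf j k c)
  exact key _ n _ rfl rfl

end Complex

end Groth.Agent.Lib.Helper21.RC
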