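import Mathlib
import Groth.Agent.Lib.Helper21LCZ1
import Groth.Agent.Lib.Helper21RC1
import Groth.Agent.Lib.Helper21KG6
import Groth.Agent.Lib.Helper23AffVanish6
import Groth.Agent.Lib.Helper21KCD
import Groth.Agent.S0464

/-!
# Local cohomology of `M~` on `Spec A` (helper21): the ring-theoretic data
-/

set_option autoImplicit false

namespace Groth.Agent.Lib.Helper21.LCZ

open CategoryTheory CategoryTheory.Limits Opposite TopologicalSpace AlgebraicGeometry
open Groth.Agent.Lib.Helper21.KG Groth.Agent.Lib.Helper21.AC Groth.Agent.Lib.Helper23.AffVanish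
open Groth.Agent.Lib.Helper16.CechLow

universe u

variable (A : Type u) [CommRing A] (M : Type u) [AddCommGroup M] [Module A M]

/-- `Spec A`. -/
noncomputable abbrev XA : Scheme.{u} := Spec (CommRingCat.of A)

/-- `M~`. -/
noncomputable abbrev FA : (XA A).Modules := tilde (R := CommRingCat.of A) (ModuleCat.of A M)

/-- `A ≃ Γ(Spec A, O)`. -/
noncomputable def φA : A ≃+* Γ(XA A, ⊤) :=
  (Scheme.ΓSpecIso (CommRingCat.of A)).symm.commRingCatIsoToRingEquiv

lemma φA_apply (a : A) : φA A a = (Scheme.ΓSpecIso (CommRingCat.of A)).inv a := rfl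

lemma basicOpen_φA (a : A) : (XA A).basicOpen (φA A a) = PrimeSpectrum.basicOpen a :=
  basicOpen_eq_of_affine (R := CommRingCat.of A) a

/-- `M ≃ Γ(Spec A, M~)`. -/
noncomputable def ψA : M ≃+ M0 (FA A M) :=
  haveI : IsIso (tilde.toOpen (R := CommRingCat.of A) (ModuleCat.of A M) ⊤) :=
    tilde.isIso_toOpen_top (R := CommRingCat.of A) (M := ModuleCat.of A M)
  (asIso (tilde.toOpen (R := CommRingCat.of A) (ModuleCat.of A M) ⊤)).toLinearEquiv.toAddEquiv

lemma map_leTop (R : CommRingCat.{u}) (c : (Spec R).presheaf.obj (op ⊤)) :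
    ((Spec R).presheaf.map (⊤ : (Spec R).Opens).leTop.op).hom c = c := by
  have h : (⊤ : (Spec R).Opens).leTop = 𝟙 _ := Subsingleton.elim _ _
  rw [h, op_id, CategoryTheory.Functor.map_id]
  rfl

lemma ψA_smul (a : A) (m : M) : ψA A M (a • m) = φA A a • ψA A M m := by
  have h := (tilde.toOpen (R := CommRingCat.of A) (ModuleCat.of A M) ⊤).hom.map_smul a m
  refine h.trans ?_
  show ((Spec (CommRingCat.of A)).presheaf.map
    (⊤ : (Spec (CommRingCat.of A)).Opens).leTop.op).hom
      ((Scheme.ΓSpecIso (CommRingCat.of A)).inv.hom a) • ψA A M m = _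
  rw [map_leTop]
  rfl


variable {A}

/-- the family attached to a list. -/
def fI (fs : List A) : ULift.{u} (Fin fs.length) → A := fun i => fs.get i.down

lemma fI_mem (fs : List A) (i : ULift.{u} (Fin fs.length)) : fI fs i ∈ fs := List.get_mem fs i.down

lemma exists_fI_eq (fs : List A) (g : A) (hg : g ∈ fs) : ∃ i, fI fs i = g := by
  obtain ⟨k, hk⟩ := List.get_of_mem hg
  exact ⟨⟨k⟩, hk⟩

/-- the family of global functions on `Spec A` attached to a list. -/
noncomputable def fI' (fs : List A) : ULift.{u} (Fin fs.length) → Γ(XA A, ⊤) :=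
  fun i => φA A (fI fs i)

lemma mem_zeroLocus_span_list (fs : List A) (q : PrimeSpectrum A) :
    q ∈ PrimeSpectrum.zeroLocus (R := A) ((Ideal.span {a | a ∈ fs} : Ideal A) : Set A) ↔
      ∀ a ∈ fs, a ∈ q.asIdeal := by
  rw [PrimeSpectrum.zeroLocus_span, PrimeSpectrum.mem_zeroLocus]
  rfl

lemma puncturedOpen_eq (fs : List A) :
    LocCoh.puncturedOpen A (Ideal.span {a | a ∈ fs}) = ⨆ i, (XA A).basicOpen (fI' fs i) := by
  apply le_antisymm
  · intro p hp
    have hp' : ¬ ∀ a ∈ fs, a ∈ (show PrimeSpectrum A from p).asIdeal :=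
      fun h => hp ((mem_zeroLocus_span_list fs p).2 h)
    obtain ⟨a, ha, hap⟩ : ∃ a, a ∈ fs ∧ a ∉ (show PrimeSpectrum A from p).asIdeal := by
      by_contra hcon
      apply hp'
      intro a ha
      by_contra h
      exact hcon ⟨a, ha, h⟩
    obtain ⟨i, rfl⟩ := exists_fI_eq fs a ha
    refine Opens.mem_iSup.2 ⟨i, ?_⟩
    change p ∈ (XA A).basicOpen (φA A (fI fs i))
    rw [basicOpen_φA]
    exact hap
  · refine iSup_le (fun i => ?_)
    intro p hp
    change p ∈ (XA A).basicOpen (φA A (fI fs i)) at hp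
    rw [basicOpen_φA] at hp
    intro hmem
    exact hp ((mem_zeroLocus_span_list fs p).1 hmem _ (fI_mem fs i))


section Main

variable (fs : List A) (M : Type u) [AddCommGroup M] [Module A M]

lemma subsingleton_HE_top (q : ℕ) : Subsingleton (HE (ab (FA A M)) (q + 1) ⊤) := by
  have h1 := subsingleton_HE_basicOpen (FA A M) q (1 : Γ(XA A, ⊤))
  have e : (XA A).basicOpen (1 : Γ(XA A, ⊤)) = ⊤ := (XA A).basicOpen_of_isUnit isUnit_one
  rw [e] at h1
  exact h1

/-- the local cohomology of `M~` with supports in `V(fs)` is the cohomology of the augmented Čech complex. -/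
theorem nonempty_HZM_equiv (i : ℕ) :
    Nonempty (LocCohZ.HZM (XA A) (FA A M) i (LocCoh.puncturedOpen A (Ideal.span {a | a ∈ fs})) ≃+
      (cechAug (fI' fs) (M0 (FA A M))).homology i) := by
  rw [puncturedOpen_eq]
  set U : (XA A).Opens := ⨆ i, (XA A).basicOpen (fI' fs i) with hUdef
  let G := geoDataX (FA A M) (fI' fs)
  have hWU : ∀ x : Fin 1 → ULift.{u} (Fin fs.length), G.W x ≤ U := by
    intro x
    rw [eq_x1 x, W_x1]
    exact le_iSup (fun i => (XA A).basicOpen (fI' fs i)) (x 0)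
  have hcov : U ≤ ⨆ i, G.W (x1 i) := by
    refine iSup_le (fun i => ?_)
    refine le_iSup_of_le i ?_
    rw [W_x1]
  match i with
  | 0 =>
    obtain ⟨e⟩ := nonempty_ker_equiv G U hWU hcov
    exact ⟨(LocCohZ.sect0Equiv (Coh.toAb (FA A M)) (le_top : U ≤ ⊤)).trans e⟩
  | 1 =>
    obtain ⟨e1⟩ := nonempty_HZc_one_equiv (ab (FA A M)) U (subsingleton_HE_top M 0)
    obtain ⟨e2⟩ := nonempty_coker_equiv G U hWU hcov
    exact ⟨e1.trans e2⟩
  | j + 2 =>
    obtain ⟨e1⟩ := nonempty_HZc_succ_succ_equiv (ab (FA A M)) U j (subsingleton_HE_top M j)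
      (subsingleton_HE_top M (j + 1))
    have hacyc : ∀ (p : ℕ) (a : Fin (p + 1) → ULift.{u} (Fin fs.length)) (q : ℕ),
        Subsingleton (CohTop.HU (ab (FA A M)) (q + 1)
          (iInf fun k => (XA A).basicOpen (fI' fs (a k)))) := by
      intro p a q
      rw [← basicOpen_prod]
      exact subsingleton_HE_basicOpen (FA A M) q _
    obtain ⟨e2⟩ := Groth.Agent.S0464.result (ab (FA A M))
      (fun i => (XA A).basicOpen (fI' fs i)) hacyc (j + 1)
    obtain ⟨e3⟩ := G.locData.nonempty_homology_equiv j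
    exact ⟨e1.trans (e2.symm.trans e3)⟩

/-- **The colimit of the Koszul cohomologies is the local cohomology of `M~`.** -/
theorem nonempty_koszulHLim_equiv (i : ℕ) :
    Nonempty (CohIII.koszulHLim fs (ModuleCat.of A M) i ≃+
      LocCohZ.HZM (XA A) (FA A M) i (LocCoh.puncturedOpen A (Ideal.span {a | a ∈ fs}))) := by
  obtain ⟨e1⟩ := nonempty_HZM_equiv fs M i
  obtain ⟨e2⟩ := Groth.Agent.Lib.Helper21.RC.nonempty_homology_equiv (φA A) (ψA A M) (ψA_smul A M)
    (fI fs) (fI' fs) (fun _ => rfl) i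
  obtain ⟨e3⟩ := Groth.Agent.Lib.Helper21.KCD.nonempty_cechAug_homology_equiv (fI fs)
    (ModuleCat.of A M) fs (fI_mem fs) (exists_fI_eq fs) i
  exact ⟨e3.symm.toAddEquiv.trans (e2.trans e1.symm)⟩

end Main

end Groth.Agent.Lib.Helper21.LCZ
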