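import Mathlib
import Groth.Agent.Lib.Helper21LCZ2
import Groth.Agent.S5173

/-!
# Local cohomology of a quasi-coherent module on an abstract affine scheme (helper21)
-/

set_option autoImplicit false

namespace Groth.Agent.Lib.Helper21.HZB

open CategoryTheory CategoryTheory.Limits Opposite TopologicalSpace AlgebraicGeometry
open Groth.Agent.Lib.Helper21.KG Groth.Agent.Lib.Helper21.AC Groth.Agent.Lib.Helper23.AffVanish
open Groth.Agent.Lib.Helper16.CechLow Groth.Agent.Lib.Helper21.LCZ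

universe u

variable {X : Scheme.{u}} [IsAffine X] (F : X.Modules) [F.IsQuasicoherent]

lemma subsingleton_HE_top' (q : ℕ) : Subsingleton (HE (ab F) (q + 1) ⊤) := by
  have h1 := subsingleton_HE_basicOpen F q (1 : Γ(X, ⊤))
  have e : X.basicOpen (1 : Γ(X, ⊤)) = ⊤ := X.basicOpen_of_isUnit isUnit_one
  rw [e] at h1
  exact h1

/-- the local cohomology of a quasi-coherent module on an affine scheme, with supports in `V(fs)`, is the
cohomology of the augmented Čech complex. -/
theorem nonempty_HZM_equiv_cechAug (fs : List Γ(X, ⊤)) (i : ℕ) :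
    Nonempty (LocCohZ.HZM X F i (⨆ j, X.basicOpen (fI fs j)) ≃+
      (cechAug (fI fs) (M0 F)).homology i) := by
  set U : X.Opens := ⨆ j, X.basicOpen (fI fs j) with hUdef
  let G := geoDataX F (fI fs)
  have hWU : ∀ x : Fin 1 → ULift.{u} (Fin fs.length), G.W x ≤ U := by
    intro x
    rw [eq_x1 x, W_x1]
    exact le_iSup (fun i => X.basicOpen (fI fs i)) (x 0)
  have hcov : U ≤ ⨆ i, G.W (x1 i) := by
    refine iSup_le (fun i => ?_)
    refine le_iSup_of_le i ?_
    rw [W_x1]
  match i with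
  | 0 =>
    obtain ⟨e⟩ := nonempty_ker_equiv G U hWU hcov
    exact ⟨(LocCohZ.sect0Equiv (Coh.toAb F) (le_top : U ≤ ⊤)).trans e⟩
  | 1 =>
    obtain ⟨e1⟩ := nonempty_HZc_one_equiv (ab F) U (subsingleton_HE_top' F 0)
    obtain ⟨e2⟩ := nonempty_coker_equiv G U hWU hcov
    exact ⟨e1.trans e2⟩
  | j + 2 =>
    obtain ⟨e1⟩ := nonempty_HZc_succ_succ_equiv (ab F) U j (subsingleton_HE_top' F j)
      (subsingleton_HE_top' F (j + 1))
    have hacyc : ∀ (p : ℕ) (a : Fin (p + 1) → ULift.{u} (Fin fs.length)) (q : ℕ),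
        Subsingleton (CohTop.HU (ab F) (q + 1)
          (iInf fun k => X.basicOpen (fI fs (a k)))) := by
      intro p a q
      rw [← basicOpen_prod]
      exact subsingleton_HE_basicOpen F q _
    obtain ⟨e2⟩ := Groth.Agent.S0464.result (ab F)
      (fun i => X.basicOpen (fI fs i)) hacyc (j + 1)
    obtain ⟨e3⟩ := G.locData.nonempty_homology_equiv j
    exact ⟨e1.trans (e2.symm.trans e3)⟩

/-- … and hence the colimit of the Koszul cohomologies. -/
theorem nonempty_HZM_equiv_koszulHLim (fs : List Γ(X, ⊤)) (i : ℕ) :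
    Nonempty (LocCohZ.HZM X F i (⨆ j, X.basicOpen (fI fs j)) ≃+
      CohIII.koszulHLim fs (M0 F) i) := by
  obtain ⟨e1⟩ := nonempty_HZM_equiv_cechAug F fs i
  obtain ⟨e3⟩ := Groth.Agent.Lib.Helper21.KCD.nonempty_cechAug_homology_equiv (fI fs)
    (M0 F) fs (fI_mem fs) (exists_fI_eq fs) i
  exact ⟨e1.trans e3.toAddEquiv⟩

/-- … and hence the local cohomology module `H^i_I(Γ(X, F))`, for a Noetherian ring of global functions. -/
theorem nonempty_HZM_equiv_H [IsNoetherianRing Γ(X, ⊤)] (fs : List Γ(X, ⊤)) (i : ℕ) :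
    Nonempty (LocCohZ.HZM X F i (⨆ j, X.basicOpen (fI fs j)) ≃+
      LocCoh.H (Ideal.span {a | a ∈ fs}) i (F.val.obj (op ⊤))) := by
  obtain ⟨e1⟩ := nonempty_HZM_equiv_koszulHLim F fs i
  obtain ⟨e2⟩ := Groth.Agent.S5173.result Γ(X, ⊤) fs (F.val.obj (op ⊤)) i
  exact ⟨e1.trans e2.symm.toAddEquiv⟩

end Groth.Agent.Lib.Helper21.HZB
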