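import Mathlib
import Groth.Agent.Lib.Helper8LCDepth
import Groth.Agent.Lib.Helper8LCAdd
import Groth.Agent.Lib.Helper28Depth
import Groth.Agent.S5152

/-!
# Local cohomology vanishes below `n` iff the `I`-depth is at least `n` (helper21)
-/

set_option autoImplicit false
universe u

namespace Groth.Agent.Lib.Helper21.HZB

open Groth.Agent.Lib.Helper8.LC Groth.Agent.Lib.Helper28

variable {A : Type u} [CommRing A] [IsNoetherianRing A] (I : Ideal A)
  (N : Type u) [AddCommGroup N] [Module A N] [Module.Finite A N]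

/-- if `IN = N` for a finite module then all local cohomology with supports in `V(I)` vanishes. -/
theorem H_eq_zero_of_smul_top_eq_top (h : I • (⊤ : Submodule A N) = ⊤) (i : ℕ)
    (y : LocCoh.H I i N) : y = 0 := by
  obtain ⟨r, hr, hrN⟩ := Submodule.exists_sub_one_mem_and_smul_eq_zero_of_fg_of_le_smul I
    (⊤ : Submodule A N) Module.Finite.fg_top (le_of_eq h.symm)
  have h1 : r • y = 0 :=
    smul_H_eq_zero_of_smul_eq_zero I i r N (fun m => hrN m trivial) y
  obtain ⟨k, hk⟩ := isPowerTorsion_H I i (ModuleCat.of A N) y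
  have h2 : (1 - r) ^ k • y = 0 := by
    apply hk
    apply Ideal.pow_mem_pow
    have : 1 - r = -(r - 1) := by ring
    rw [this]
    exact I.neg_mem hr
  obtain ⟨q, hq⟩ : (1 - r) - 1 ∣ (1 - r) ^ k - 1 ^ k := sub_dvd_pow_sub_pow (1 - r) 1 k
  have h3 : (1 : A) = (1 - r) ^ k + r * q := by
    have : (1 - r) ^ k - 1 ^ k = (1 - r - 1) * q := hq
    rw [one_pow] at this
    have h4 : (1 - r) ^ k = 1 + (1 - r - 1) * q := by rw [← this]; ring
    rw [h4]; ring
  calc y = (1 : A) • y := (one_smul A y).symm
    _ = ((1 - r) ^ k + r * q) • y := by rw [← h3]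
    _ = (1 - r) ^ k • y + q • (r • y) := by rw [add_smul, mul_comm, mul_smul]
    _ = 0 := by rw [h2, h1, smul_zero, add_zero]

/-- **Local cohomology and depth.** -/
theorem forall_subsingleton_H_iff (n : ℕ) :
    (∀ i : ℕ, i < n → Subsingleton (LocCoh.H I i N)) ↔ (n : ℕ∞) ≤ LocCoh.idealDepth I N := by
  by_cases h : I • (⊤ : Submodule A N) = ⊤
  · rw [idealDepth_eq_top_of_smul_top_eq_top I N h]
    refine ⟨fun _ => le_top, fun _ i _ => ?_⟩
    exact ⟨fun a b => (H_eq_zero_of_smul_top_eq_top I N h i a).trans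
      (H_eq_zero_of_smul_top_eq_top I N h i b).symm⟩
  · constructor
    · intro hv
      obtain ⟨d, hd⟩ := ENat.ne_top_iff_exists.mp (idealDepth_ne_top (I := I) (M := N) h)
      rw [← hd]
      by_contra hlt
      have hdn : d < n := by
        by_contra h'
        exact hlt (by exact_mod_cast Nat.le_of_not_lt h')
      obtain ⟨y, hy⟩ := H_ne_zero_of_depth_eq I d N h hd.symm
      haveI := hv d hdn
      exact hy (Subsingleton.elim _ _)
    · intro hle i hi
      exact ⟨fun a b => (H_eq_zero_of_lt_depth I n N h hle i hi a).trans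
        (H_eq_zero_of_lt_depth I n N h hle i hi b).symm⟩

/-- … in terms of the depths of the localisations at the primes containing `I`. -/
theorem forall_subsingleton_H_iff_depth (n : ℕ) :
    (∀ i : ℕ, i < n → Subsingleton (LocCoh.H I i N)) ↔
      ∀ p : PrimeSpectrum A, I ≤ p.asIdeal →
        (n : ℕ∞) ≤ LocCoh.depth (Localization.AtPrime p.asIdeal)
          (LocalizedModule p.asIdeal.primeCompl N) := by
  rw [forall_subsingleton_H_iff, Groth.Agent.S5152.result A I N]
  simp only [le_iInf_iff]

end Groth.Agent.Lib.Helper21.HZB
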