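import Mathlib
import Groth.Agent.Lib.Helper21HZB2
import Groth.Agent.Lib.Helper21HZB3
import Groth.Agent.Lib.Helper4DimFormulaAW
import Groth.Agent.Lib.Helper5FBC
import Groth.Agent.Lib.Helper23FinType2
import Groth.Agent.Lib.Helper2FlatOver

/-!
# Local cohomology with supports on an affine open of a locally Noetherian scheme, and depth (helper21)
-/

set_option autoImplicit false
set_option linter.style.haveILetI false

namespace Groth.Agent.Lib.Helper21.HZB

open CategoryTheory CategoryTheory.Limits Opposite TopologicalSpace AlgebraicGeometry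
open Groth.Agent.Lib.Helper21.KG Groth.Agent.Lib.Helper21.LCZ

universe u

section Affine

variable {X : Scheme.{u}} [IsAffine X]

/-- every open of a Noetherian affine scheme is a finite union of basic opens. -/
theorem exists_list_basicOpen [IsNoetherianRing Γ(X, ⊤)] (U : X.Opens) :
    ∃ fs : List Γ(X, ⊤), U = ⨆ j, X.basicOpen (fI fs j) := by
  haveI : NoetherianSpace X := noetherianSpace_of_isAffine
  have hc : IsCompact (U : Set X) := NoetherianSpace.isCompact _
  obtain ⟨s, hs, hsU⟩ := (Opens.IsBasis.isCompact_open_iff_eq_finite_iUnion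
    (X.basicOpen : Γ(X, ⊤) → X.Opens) (isBasis_basicOpen X)
    (fun f => ((isAffineOpen_top X).basicOpen f).isCompact) (U : Set X)).1 ⟨hc, U.isOpen⟩
  refine ⟨hs.toFinset.toList, ?_⟩
  ext x
  constructor
  · intro hx
    have hx' : x ∈ (U : Set X) := hx
    rw [hsU] at hx'
    obtain ⟨f, hf, hxf⟩ := Set.mem_iUnion₂.1 hx'
    have hfl : f ∈ hs.toFinset.toList := by
      rw [Finset.mem_toList, Set.Finite.mem_toFinset]
      exact hf
    obtain ⟨j, hj⟩ := exists_fI_eq _ f hfl
    refine Opens.mem_iSup.2 ⟨j, ?_⟩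
    rw [hj]
    exact hxf
  · intro hx
    obtain ⟨j, hj⟩ := Opens.mem_iSup.1 hx
    have hfl := fI_mem hs.toFinset.toList j
    rw [Finset.mem_toList, Set.Finite.mem_toFinset] at hfl
    change x ∈ (U : Set X)
    rw [hsU]
    exact Set.mem_iUnion₂.2 ⟨_, hfl, hj⟩

end Affine

section Local

variable (X : Scheme.{u}) [IsLocallyNoetherian X] (M : X.Modules) [M.IsQuasicoherent]
  [SheafOfModules.IsFiniteType (R := X.ringCatSheaf) M] (V : X.Opens) (hV : IsAffineOpen V)

include hV in
lemma isAffineOpen_image_top : IsAffineOpen (V.ι ''ᵁ ⊤) := by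
  rw [Scheme.Opens.ι_image_top]
  exact hV

lemma smul_restrict_eq (r : Γ((V : Scheme.{u}), ⊤)) (m : (M.restrict V.ι).val.obj (op ⊤)) :
    (r • m : (M.restrict V.ι).val.obj (op ⊤)) =
      ((show Γ(X, V.ι ''ᵁ ⊤) from r) • (show Γ(M, V.ι ''ᵁ ⊤) from m) : Γ(M, V.ι ''ᵁ ⊤)) := by
  have h := Scheme.Modules.smul_restrictAppIso_hom_apply V.ι M ⊤ r m
  have h2 : (V.ι.appIso ⊤).inv r = r := by
    rw [Scheme.Opens.ι_appIso]
    rfl
  rw [h2] at h
  exact h

end Local

end Groth.Agent.Lib.Helper21.HZB
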