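import Mathlib
import Groth.Agent.Lib.Helper21HZB4
import Groth.Agent.Lib.Helper23FinTypeLocal

set_option autoImplicit false
set_option linter.style.haveILetI false

namespace Groth.Agent.Lib.Helper21.HZB

open CategoryTheory CategoryTheory.Limits Opposite TopologicalSpace AlgebraicGeometry
open Groth.Agent.Lib.Helper21.KG Groth.Agent.Lib.Helper21.LCZ
open Groth.Agent.Lib.Helper5.GenDepth

universe u

variable (X : Scheme.{u}) [IsLocallyNoetherian X] (M : X.Modules) [M.IsQuasicoherent]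
  [SheafOfModules.IsFiniteType (R := X.ringCatSheaf) M] (V : X.Opens) (hV : IsAffineOpen V)

include hV in
/-- the depth of the stalk at a point of the affine open `V`, in terms of the sections of the restriction. -/
theorem depth_stalk_eq (x : X) (hx : x ∈ V.ι ''ᵁ ⊤) (p : PrimeSpectrum Γ((V : Scheme.{u}), ⊤))
    (hp : p = (isAffineOpen_image_top X V hV).primeIdealOf ⟨x, hx⟩) :
    LocCoh.depth (X.presheaf.stalk x) (M.presheaf.stalk x) =
      LocCoh.depth (Localization.AtPrime p.asIdeal)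
        (LocalizedModule p.asIdeal.primeCompl ((M.restrict V.ι).val.obj (op ⊤))) := by
  haveI : IsAffine (V : Scheme.{u}) := hV
  have hU₀ := isAffineOpen_image_top X V hV
  haveI inst1 : IsNoetherianRing Γ(X, V.ι ''ᵁ ⊤) := IsLocallyNoetherian.component_noetherian ⟨_, hU₀⟩
  haveI inst2 : IsNoetherianRing Γ((V : Scheme.{u}), ⊤) :=
    IsLocallyNoetherian.component_noetherian ⟨⊤, isAffineOpen_top _⟩
  haveI : Module.Finite Γ(X, V.ι ''ᵁ ⊤) Γ(M, V.ι ''ᵁ ⊤) :=
    Groth.Agent.Lib.Helper23.FinType.finite_of_isFiniteType M hU₀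
  haveI := Groth.Agent.Lib.Helper23.FinType.isFiniteType_restrict V.ι M
  haveI hfin' : Module.Finite Γ((V : Scheme.{u}), ⊤) ((M.restrict V.ι).val.obj (op ⊤)) :=
    Groth.Agent.Lib.Helper23.FinType.finite_of_isFiniteType (M.restrict V.ι) (isAffineOpen_top _)
  have h1 := (Groth.Agent.Lib.Helper4.DimFormula.stalk_vs_localization hU₀ M x hx).2.1
  rw [h1]
  let σ : Γ((V : Scheme.{u}), ⊤) ≃+* Γ(X, V.ι ''ᵁ ⊤) := RingEquiv.refl _
  let g : ((M.restrict V.ι).val.obj (op ⊤)) ≃+ Γ(M, V.ι ''ᵁ ⊤) := AddEquiv.refl _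
  have h2 := (Groth.Agent.Lib.Helper5.FBC.semilinear_transport σ g
    (fun b n => smul_restrict_eq X M V b n)
    (hU₀.primeIdealOf ⟨x, hx⟩).asIdeal p.asIdeal (by rw [hp]; rfl)).1
  exact h2.symm

lemma exists_primeIdealOf_eq {Y : Scheme.{u}} {W : Y.Opens} (hW : IsAffineOpen W)
    (p : PrimeSpectrum Γ(Y, W)) : ∃ (x : Y) (hx : x ∈ W), hW.primeIdealOf ⟨x, hx⟩ = p := by
  have hmem : hW.fromSpec p ∈ W := by
    have h : hW.fromSpec p ∈ Set.range hW.fromSpec := ⟨p, rfl⟩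
    rw [hW.range_fromSpec] at h
    exact h
  refine ⟨hW.fromSpec p, hmem, ?_⟩
  apply hW.fromSpec.isOpenEmbedding.injective
  exact hW.fromSpec_primeIdealOf ⟨_, hmem⟩

include hV in
/-- membership in `U` of a point of `V`, in terms of a finite family of equations of `V ∖ U` in `V`. -/
lemma mem_iff_exists_notMem (U : X.Opens) (fs : List Γ((V : Scheme.{u}), ⊤))
    (hfs : V.ι ⁻¹ᵁ U = ⨆ j, (V : Scheme.{u}).basicOpen (fI fs j)) (x : X) (hx : x ∈ V.ι ''ᵁ ⊤) :
    x ∈ U ↔ ∃ a ∈ fs, (show Γ(X, V.ι ''ᵁ ⊤) from a) ∉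
      ((isAffineOpen_image_top X V hV).primeIdealOf ⟨x, hx⟩).asIdeal := by
  have hxV : x ∈ V := by
    rw [Scheme.Opens.ι_image_top] at hx
    exact hx
  have h1 : x ∈ U ↔ (⟨x, hxV⟩ : (V : Scheme.{u})) ∈ V.ι ⁻¹ᵁ U := Iff.rfl
  rw [h1, hfs]
  constructor
  · intro h
    obtain ⟨j, hj⟩ := Opens.mem_iSup.1 h
    refine ⟨fI fs j, fI_mem fs j, ?_⟩
    rw [← Groth.Agent.Lib.Helper2.mem_basicOpen_iff_notMem_primeIdealOf
      (isAffineOpen_image_top X V hV) x hx]
    exact (Scheme.Opens.mem_basicOpen_toScheme (U := V) (V := ⊤) (r := fI fs j)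
      (x := ⟨x, hxV⟩)).1 hj
  · rintro ⟨a, ha, hap⟩
    obtain ⟨j, rfl⟩ := exists_fI_eq fs a ha
    refine Opens.mem_iSup.2 ⟨j, ?_⟩
    rw [← Groth.Agent.Lib.Helper2.mem_basicOpen_iff_notMem_primeIdealOf
      (isAffineOpen_image_top X V hV) x hx] at hap
    exact (Scheme.Opens.mem_basicOpen_toScheme (U := V) (V := ⊤) (r := fI fs j)
      (x := ⟨x, hxV⟩)).2 hap

include hV in
/-- **Local cohomology with supports on an affine open and depth.** -/
theorem affine_local_iff (U : X.Opens) (n : ℕ) :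
    (∀ i : ℕ, i < n →
        Subsingleton (LocCohZ.HZM (V : Scheme.{u}) (M.restrict V.ι) i (V.ι ⁻¹ᵁ U))) ↔
      ∀ x : X, x ∈ V → x ∉ U →
        (n : ℕ∞) ≤ LocCoh.depth (X.presheaf.stalk x) (M.presheaf.stalk x) := by
  haveI : IsAffine (V : Scheme.{u}) := hV
  have hU₀ := isAffineOpen_image_top X V hV
  haveI inst2 : IsNoetherianRing Γ((V : Scheme.{u}), ⊤) :=
    IsLocallyNoetherian.component_noetherian ⟨⊤, isAffineOpen_top _⟩
  haveI := Groth.Agent.Lib.Helper23.FinType.isFiniteType_restrict V.ι M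
  haveI hfin' : Module.Finite Γ((V : Scheme.{u}), ⊤) ((M.restrict V.ι).val.obj (op ⊤)) :=
    Groth.Agent.Lib.Helper23.FinType.finite_of_isFiniteType (M.restrict V.ι) (isAffineOpen_top _)
  obtain ⟨fs, hfs⟩ := exists_list_basicOpen (X := (V : Scheme.{u})) (V.ι ⁻¹ᵁ U)
  have hE : ∀ i : ℕ, Subsingleton (LocCohZ.HZM (V : Scheme.{u}) (M.restrict V.ι) i (V.ι ⁻¹ᵁ U)) ↔
      Subsingleton (LocCoh.H (Ideal.span {a | a ∈ fs}) i ((M.restrict V.ι).val.obj (op ⊤))) := by
    intro i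
    rw [hfs]
    obtain ⟨e⟩ := nonempty_HZM_equiv_H (M.restrict V.ι) fs i
    exact e.toEquiv.subsingleton_congr
  have hC := forall_subsingleton_H_iff_depth (Ideal.span {a | a ∈ fs})
    ((M.restrict V.ι).val.obj (op ⊤)) n
  have hV₀ : V.ι ''ᵁ ⊤ = V := Scheme.Opens.ι_image_top V
  constructor
  · intro h x hxV hxU
    have hx : x ∈ V.ι ''ᵁ ⊤ := by rw [hV₀]; exact hxV
    have h' := hC.1 (fun i hi => (hE i).1 (h i hi))
    rw [depth_stalk_eq X M V hV x hx (hU₀.primeIdealOf ⟨x, hx⟩) rfl]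
    apply h'
    rw [Ideal.span_le]
    intro a ha
    by_contra hcon
    exact hxU ((mem_iff_exists_notMem X V hV U fs hfs x hx).2 ⟨a, ha, hcon⟩)
  · intro h i hi
    rw [hE i]
    refine hC.2 ?_ i hi
    intro p hp
    obtain ⟨x, hx, hxp⟩ := exists_primeIdealOf_eq hU₀ p
    have hxV : x ∈ V := by rw [← hV₀]; exact hx
    have hxU : x ∉ U := by
      intro hxU
      obtain ⟨a, ha, hap⟩ := (mem_iff_exists_notMem X V hV U fs hfs x hx).1 hxU
      apply hap
      rw [hxp]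
      exact hp (Ideal.subset_span ha)
    rw [← depth_stalk_eq X M V hV x hx p hxp.symm]
    exact h x hxV hxU

end Groth.Agent.Lib.Helper21.HZB
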