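import Mathlib
import Groth.Agent.Lib.Helper21HZB1
import Groth.Agent.Lib.Helper21HZB5
import Groth.Agent.S6026

/-!
# Cohomology with supports on an affine open of a scheme: excision bridge (helper21)
-/

set_option autoImplicit false
set_option linter.style.haveILetI false

namespace Groth.Agent.Lib.Helper21.HZB

open CategoryTheory CategoryTheory.Limits Opposite TopologicalSpace AlgebraicGeometry

universe u

variable (X : Scheme.{u}) (M : X.Modules) (U V : X.Opens)

lemma map_incl_inf :
    (Opens.map (CohCx.incl (X := X.carrier) V)).obj (V ⊓ U) = V.ι ⁻¹ᵁ U := by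
  ext x
  constructor
  · intro h; exact h.2
  · intro h; exact ⟨x.2, h⟩

/-- excision: cohomology of `M` over `V` with supports in `V ∖ U`, computed on `X`, is the cohomology with
supports of the restriction of `M` to the open subscheme `V`. -/
theorem nonempty_HZ_equiv_HZM (i : ℕ) :
    Nonempty (LocCohZ.HZ (X := X.carrier) (Coh.toAb M) i (inf_le_left : V ⊓ U ≤ V) ≃+
      LocCohZ.HZM (V : Scheme.{u}) (M.restrict V.ι) i (V.ι ⁻¹ᵁ U)) := by
  obtain ⟨e, -⟩ := Groth.Agent.S6026.result (X := X.carrier) (inf_le_left : V ⊓ U ≤ V) i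
  have e1 := e (Coh.toAb M)
  rw [map_incl_inf] at e1
  exact ⟨e1⟩

end Groth.Agent.Lib.Helper21.HZB
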