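import Mathlib
import Groth.Agent.Lib.Helper21HZB5
import Groth.Agent.Lib.Helper8CdDim

/-!
# Vanishing of local cohomology above the dimensions of the local rings along the support (helper21)
-/

set_option autoImplicit false
set_option linter.style.haveILetI false

namespace Groth.Agent.Lib.Helper21.HZB

open CategoryTheory CategoryTheory.Limits Opposite TopologicalSpace AlgebraicGeometry
open Groth.Agent.Lib.Helper21.KG Groth.Agent.Lib.Helper21.LCZ

universe u

section Alg

variable {A : Type u} [CommRing A] [IsNoetherianRing A] (I : Ideal A)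
  (N : Type u) [AddCommGroup N] [Module A N]

/-- `H^i_I(N) = 0` as soon as `i` exceeds the heights of all primes containing `I`. -/
theorem H_subsingleton_of_height_lt (i : ℕ)
    (h : ∀ p : PrimeSpectrum A, I ≤ p.asIdeal → (p.asIdeal.height : WithBot ℕ∞) < (i : WithBot ℕ∞)) :
    Subsingleton (LocCoh.H I i N) := by
  refine Module.subsingleton_of_localization_maximal (R := A) (M := LocCoh.H I i N)
    (fun P _ => LocalizedModule P.primeCompl (LocCoh.H I i N))
    (fun P _ => LocalizedModule.mkLinearMap P.primeCompl (LocCoh.H I i N)) ?_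
  intro P hP
  haveI : P.IsPrime := hP.isPrime
  have e1 := (LocalizedModule.equivTensorProduct P.primeCompl (LocCoh.H I i N))
  obtain ⟨e2⟩ := Groth.Agent.S11617.result A (Localization.AtPrime P) I N i
  have h3 : Subsingleton (LocCoh.H (Ideal.map (algebraMap A (Localization.AtPrime P)) I) i
      (TensorProduct A (Localization.AtPrime P) N)) := by
    by_cases hIP : I ≤ P
    · have hdim : ringKrullDim (Localization.AtPrime P) < ((i : ℕ) : WithBot ℕ∞) := by
        rw [IsLocalization.AtPrime.ringKrullDim_eq_height P (Localization.AtPrime P)]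
        exact h ⟨P, inferInstance⟩ hIP
      exact ⟨fun y y' => (Groth.Agent.Lib.Helper8.CdDim.Q_all i _ hdim _ _ y).trans
        (Groth.Agent.Lib.Helper8.CdDim.Q_all i _ hdim _ _ y').symm⟩
    · have htop : Ideal.map (algebraMap A (Localization.AtPrime P)) I = ⊤ := by
        obtain ⟨a, haI, haP⟩ := Set.not_subset.1 hIP
        apply Ideal.eq_top_of_isUnit_mem _ (Ideal.mem_map_of_mem _ haI)
        exact IsLocalization.map_units (Localization.AtPrime P) (⟨a, haP⟩ : P.primeCompl)
      rw [htop]
      exact ⟨fun y y' => (Groth.Agent.Lib.Helper8.CdDim.H_top_eq_zero i _ y).trans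
        (Groth.Agent.Lib.Helper8.CdDim.H_top_eq_zero i _ y').symm⟩
  exact (e1.trans e2).toEquiv.subsingleton

end Alg

section Geom

variable (X : Scheme.{u}) [IsLocallyNoetherian X] (G : X.Modules) [G.IsQuasicoherent]
  (V : X.Opens) (hV : IsAffineOpen V)

theorem ringKrullDim_stalk_eq_height {W : X.Opens} (hW : IsAffineOpen W) (x : X) (hxW : x ∈ W) :
    ringKrullDim (X.presheaf.stalk x) = (hW.primeIdealOf ⟨x, hxW⟩).asIdeal.height := by
  letI : Algebra Γ(X, W) (X.presheaf.stalk x) :=
    TopCat.Presheaf.algebra_section_stalk X.presheaf (⟨x, hxW⟩ : W)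
  haveI : IsLocalization.AtPrime (X.presheaf.stalk x) (hW.primeIdealOf ⟨x, hxW⟩).asIdeal :=
    hW.isLocalization_stalk ⟨x, hxW⟩
  exact IsLocalization.AtPrime.ringKrullDim_eq_height _ _

include hV in
/-- on an affine open `V`, `H^i_{V ∖ U}(V, G) = 0` when `i` exceeds the dimensions of the local rings at the
points of `V ∖ U`. -/
theorem subsingleton_HZM_of_dim_lt (U : X.Opens) (i : ℕ)
    (h : ∀ x : X, x ∈ V → x ∉ U → ringKrullDim (X.presheaf.stalk x) < (i : WithBot ℕ∞)) :
    Subsingleton (LocCohZ.HZM (V : Scheme.{u}) (G.restrict V.ι) i (V.ι ⁻¹ᵁ U)) := by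
  haveI : IsAffine (V : Scheme.{u}) := hV
  have hU₀ := isAffineOpen_image_top X V hV
  haveI inst2 : IsNoetherianRing Γ((V : Scheme.{u}), ⊤) :=
    IsLocallyNoetherian.component_noetherian ⟨⊤, isAffineOpen_top _⟩
  obtain ⟨fs, hfs⟩ := exists_list_basicOpen (X := (V : Scheme.{u})) (V.ι ⁻¹ᵁ U)
  have hV₀ : V.ι ''ᵁ ⊤ = V := Scheme.Opens.ι_image_top V
  obtain ⟨e⟩ := nonempty_HZM_equiv_H (G.restrict V.ι) fs i
  rw [hfs, e.toEquiv.subsingleton_congr]
  apply H_subsingleton_of_height_lt
  intro p hp
  obtain ⟨x, hx, hxp⟩ := exists_primeIdealOf_eq hU₀ p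
  have hxV : x ∈ V := by rw [← hV₀]; exact hx
  have hxU : x ∉ U := by
    intro hxU
    obtain ⟨a, ha, hap⟩ := (mem_iff_exists_notMem X V hV U fs hfs x hx).1 hxU
    apply hap
    rw [hxp]
    exact hp (Ideal.subset_span ha)
  have h1 := h x hxV hxU
  rw [ringKrullDim_stalk_eq_height X hU₀ x hx, hxp] at h1
  exact h1

end Geom

end Groth.Agent.Lib.Helper21.HZB
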