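import Mathlib
import Groth.Agent.Lib.Helper16LocCohShift

/-!
# Global sections of the first non-vanishing local cohomology sheaf (helper21)

If `ℋ^i_Z(F) = 0` for `i < d` then `Γ(X, ℋ^d_Z(F)) ≃ H^d_Z(X, F)`.
-/

set_option autoImplicit false
set_option linter.style.haveILetI false
set_option linter.unusedSectionVars false
universe u
open CategoryTheory CategoryTheory.Limits TopologicalSpace Opposite
open LocCohZ

namespace Groth.Agent.Lib.Helper21.HZB

open Groth.Agent.Lib.Helper16.LocCohShift Groth.Agent.Lib.Helper16.SectSupp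
  Groth.Agent.Lib.Helper16.ClosedEmb Groth.Agent.Lib.Helper16.DimShift
  Groth.Agent.Lib.Helper16.Flasque Groth.Agent.Lib.Helper23LocSS

variable {X : TopCat.{u}} (U : Opens X)

/-- sections of isomorphic sheaves. -/
noncomputable def sectionsEquiv {G G' : CohTop.Ab X} (e : G ≅ G') (V : Opens X) :
    G.obj.obj (op V) ≃+ G'.obj.obj (op V) where
  toFun t := e.hom.hom.app (op V) t
  invFun t := e.inv.hom.app (op V) t
  left_inv t := congrArg (fun m : G ⟶ G => m.hom.app (op V) t) e.hom_inv_id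
  right_inv t := congrArg (fun m : G' ⟶ G' => m.hom.app (op V) t) e.inv_hom_id
  map_add' a b := map_add _ a b

/-- global sections of `Γ_Z G`, as global sections of `G` vanishing on `U`. -/
noncomputable def sectTopHom (G : CohTop.Ab X) :
    ((LocCohZ.sectSuppF U).obj G).obj.obj (op ⊤) →+ LocCohZ.sectZ G (le_top : U ≤ ⊤) where
  toFun t := ⟨(ιΓ U G).hom.app (op ⊤) t, by
    rw [AddMonoidHom.mem_ker]
    have h1 := (exists_sectSupp_iff U G ⊤ _).1 ⟨t, rfl⟩
    have h2 := map_map_apply G (homOfLE (inf_le_left : (⊤ : Opens X) ⊓ U ≤ ⊤))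
      (homOfLE (le_inf le_top le_rfl : U ≤ ⊤ ⊓ U)) (homOfLE (le_top : U ≤ ⊤))
      ((ιΓ U G).hom.app (op ⊤) t)
    refine h2.symm.trans ?_
    rw [h1, map_zero]⟩
  map_zero' := by
    apply Subtype.ext
    exact map_zero _
  map_add' := fun a b => by
    apply Subtype.ext
    exact map_add _ a b

lemma sectTopHom_bijective (G : CohTop.Ab X) : Function.Bijective (sectTopHom U G) := by
  refine ⟨fun a b hab => ιΓ_injective U G ⊤ (congrArg Subtype.val hab), fun s => ?_⟩
  have hs : (G.obj.map (homOfLE (le_top : U ≤ ⊤)).op).hom s.1 = 0 := s.2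
  have h2 := map_map_apply G (homOfLE (le_top : U ≤ ⊤))
    (homOfLE (inf_le_right : (⊤ : Opens X) ⊓ U ≤ U))
    (homOfLE (inf_le_left : (⊤ : Opens X) ⊓ U ≤ ⊤)) s.1
  have h3 : G.obj.map (homOfLE (inf_le_left : (⊤ : Opens X) ⊓ U ≤ ⊤)).op s.1 = 0 := by
    refine h2.symm.trans ?_
    have hs' : G.obj.map (homOfLE (le_top : U ≤ ⊤)).op s.1 = 0 := hs
    rw [hs', map_zero]
  obtain ⟨t, ht⟩ := (exists_sectSupp_iff U G ⊤ s.1).2 h3
  exact ⟨t, Subtype.ext ht⟩

/-- global sections of `Γ_Z G` are the global sections of `G` vanishing on `U`. -/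
noncomputable def sectTopEquiv (G : CohTop.Ab X) :
    ((LocCohZ.sectSuppF U).obj G).obj.obj (op ⊤) ≃+ LocCohZ.sectZ G (le_top : U ≤ ⊤) :=
  AddEquiv.ofBijective (sectTopHom U G) (sectTopHom_bijective U G)

lemma sectTopEquiv_coe (G : CohTop.Ab X) (t : ((LocCohZ.sectSuppF U).obj G).obj.obj (op ⊤)) :
    ((sectTopEquiv U G t : LocCohZ.sectZ G (le_top : U ≤ ⊤)) : G.obj.obj (op ⊤)) =
      (ιΓ U G).hom.app (op ⊤) t := rfl

/-- maps out of `ℤ_X/ℤ_U` are the global sections of `Γ_Z`. -/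
noncomputable def homTopEquiv (G : CohTop.Ab X) :
    (LocCohZ.zq (le_top : U ≤ ⊤) ⟶ G) ≃+ ((LocCohZ.sectSuppF U).obj G).obj.obj (op ⊤) :=
  (homZqEquiv G (le_top : U ≤ ⊤)).trans (sectTopEquiv U G).symm

lemma homTopEquiv_comp {G G' : CohTop.Ab X} (g : G ⟶ G') (ψ : LocCohZ.zq (le_top : U ≤ ⊤) ⟶ G) :
    homTopEquiv U G' (ψ ≫ g) =
      ((LocCohZ.sectSuppF U).map g).hom.app (op ⊤) (homTopEquiv U G ψ) := by
  apply (sectTopEquiv U G').injective
  apply Subtype.ext
  have h1 : sectTopEquiv U G' (homTopEquiv U G' (ψ ≫ g)) = homZqEquiv G' (le_top : U ≤ ⊤) (ψ ≫ g) :=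
    (sectTopEquiv U G').apply_symm_apply _
  rw [h1, homZqEquiv_comp, sectTopEquiv_coe]
  have h2 : sectTopEquiv U G (homTopEquiv U G ψ) = homZqEquiv G (le_top : U ≤ ⊤) ψ :=
    (sectTopEquiv U G).apply_symm_apply _
  rw [← h2, sectTopEquiv_coe]
  exact (congrArg (fun m => m.hom.app (op ⊤) (homTopEquiv U G ψ)) (ιΓ_nat U g)).symm

end Groth.Agent.Lib.Helper21.HZB

namespace Groth.Agent.Lib.Helper21.HZB

open Groth.Agent.Lib.Helper16.LocCohShift Groth.Agent.Lib.Helper16.SectSupp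
  Groth.Agent.Lib.Helper16.ClosedEmb Groth.Agent.Lib.Helper16.DimShift
  Groth.Agent.Lib.Helper16.Flasque Groth.Agent.Lib.Helper23LocSS

variable {X : TopCat.{u}} (U : Opens X) (F : CohTop.Ab X)

/-- degree `0`. -/
theorem nonempty_sections_HZsh_zero_equiv :
    Nonempty (((LocCohZ.HZsh U 0).obj F).obj.obj (op ⊤) ≃+ LocCohZ.HZc F 0 U) := by
  haveI := sectSuppF_preservesFiniteLimits U
  let e := (LocCohZ.sectSuppF U).rightDerivedZeroIsoSelf.app F
  exact ⟨(sectionsEquiv e ⊤).trans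
    ((sectTopEquiv U F).trans (LocCohZ.sect0Equiv F (le_top : U ≤ ⊤)).symm)⟩

attribute [local instance] Abelian.Ext.subsingleton_of_injective in
/-- degree `k + 1`, when the lower local cohomology sheaves vanish. -/
theorem nonempty_sections_HZsh_succ_equiv (k : ℕ)
    (h : ∀ i : ℕ, i < k + 1 → IsZero ((LocCohZ.HZsh U i).obj F)) :
    Nonempty (((LocCohZ.HZsh U (k + 1)).obj F).obj.obj (op ⊤) ≃+ LocCohZ.HZc F (k + 1) U) := by
  haveI := sectSuppF_preservesFiniteLimits U
  set φ := (LocCohZ.sectSuppF U).map ((DD F).g k) with hφ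
  let e0 : (LocCohZ.HZsh U (k + 1)).obj F ≅ cokernel φ :=
    rightDerivedSuccIso (LocCohZ.sectSuppF U) (injectiveResolution F) k
  haveI hflZ : TopCat.Sheaf.IsFlasque ((LocCohZ.sectSuppF U).obj ((DD F).Z k)) :=
    flasque_Z U F (k + 1) h k (Nat.lt_succ_self k)
  haveI hflJ : TopCat.Sheaf.IsFlasque ((LocCohZ.sectSuppF U).obj ((DD F).J k)) :=
    isFlasque_sectSupp_J U F k
  haveI hmono : Mono ((DD F).f k) := ((DD F).hS k).mono_f
  haveI hmono' : Mono ((LocCohZ.sectSuppF U).map ((DD F).f k)) :=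
    inferInstanceAs (Mono ((LocCohZ.sectSuppF U).map ((DD F).f k)))
  -- the exact sequence `Γ_Z Z^k → Γ_Z J^k → Γ_Z Z^{k+1}`
  have hex : (SΓ U F k).Exact :=
    ((DD F).hS k).exact.map_of_mono_of_preservesKernel (LocCohZ.sectSuppF U)
      ((DD F).hS k).mono_f inferInstance
  haveI : Mono (SΓ U F k).f := hmono'
  have hker := hex.fIsKernel
  -- first short exact sequence: `0 → Γ_Z Z^k → Γ_Z J^k → im φ → 0`
  have w1 : (LocCohZ.sectSuppF U).map ((DD F).f k) ≫ Abelian.factorThruImage φ = 0 := by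
    apply (cancel_mono (Abelian.image.ι φ)).1
    rw [Category.assoc, Abelian.image.fac, zero_comp]
    exact (SΓ U F k).zero
  let S1 : ShortComplex (CohTop.Ab X) :=
    ShortComplex.mk ((LocCohZ.sectSuppF U).map ((DD F).f k)) (Abelian.factorThruImage φ) w1
  have hS1 : S1.ShortExact :=
    { exact := ShortComplex.exact_of_f_is_kernel S1
        (isKernelOfComp (f := Abelian.factorThruImage φ) (Abelian.image.ι φ) φ hker w1
          (Abelian.image.fac φ))
      mono_f := hmono'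
      epi_g := inferInstanceAs (Epi (Abelian.factorThruImage φ)) }
  haveI : TopCat.Sheaf.IsFlasque S1.X₁ := hflZ
  haveI : TopCat.Sheaf.IsFlasque S1.X₂ := hflJ
  haveI hflI : TopCat.Sheaf.IsFlasque (Abelian.image φ) :=
    TopCat.Sheaf.IsFlasque.of_shortExact_of_isFlasque₁₂ hS1
  -- second short exact sequence: `0 → im φ → Γ_Z Z^{k+1} → coker φ → 0`
  let S2 : ShortComplex (CohTop.Ab X) :=
    ShortComplex.mk (Abelian.image.ι φ) (cokernel.π φ) (kernel.condition _)
  have hS2 : S2.ShortExact :=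
    { exact := ShortComplex.exact_of_f_is_kernel S2 (kernelIsKernel (cokernel.π φ))
      mono_f := inferInstanceAs (Mono (Abelian.image.ι φ))
      epi_g := inferInstanceAs (Epi (cokernel.π φ)) }
  haveI : TopCat.Sheaf.IsFlasque S2.X₁ := hflI
  -- sections
  have hsurj1 : Function.Surjective ((Abelian.factorThruImage φ).hom.app (op ⊤)) := by
    have h1 : Epi (S1.g.1.app (op ⊤)) := TopCat.Sheaf.IsFlasque.epi_of_shortExact hS1
    rwa [AddCommGrpCat.epi_iff_surjective] at h1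
  have hsurj2 : Function.Surjective ((cokernel.π φ).hom.app (op ⊤)) := by
    have h1 : Epi (S2.g.1.app (op ⊤)) := TopCat.Sheaf.IsFlasque.epi_of_shortExact hS2
    rwa [AddCommGrpCat.epi_iff_surjective] at h1
  let πT : ((LocCohZ.sectSuppF U).obj ((DD F).Z (k + 1))).obj.obj (op ⊤) →+
      (cokernel φ).obj.obj (op ⊤) := ((cokernel.π φ).hom.app (op ⊤)).hom
  let φT : ((LocCohZ.sectSuppF U).obj ((DD F).J k)).obj.obj (op ⊤) →+
      ((LocCohZ.sectSuppF U).obj ((DD F).Z (k + 1))).obj.obj (op ⊤) := (φ.hom.app (op ⊤)).hom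
  have hkerπ : πT.ker = φT.range := by
    ext t
    rw [AddMonoidHom.mem_ker, AddMonoidHom.mem_range]
    constructor
    · intro ht
      obtain ⟨b, hb⟩ := exists_of_isKernel S2 hS2 ⊤ t ht
      obtain ⟨a, ha⟩ := hsurj1 b
      refine ⟨a, ?_⟩
      rw [← hb, ← ha]
      exact congrArg (fun m => m.hom.app (op ⊤) a) (Abelian.image.fac φ).symm
    · rintro ⟨a, rfl⟩
      exact congrArg (fun m => m.hom.app (op ⊤) a) (cokernel.condition φ)
  -- the Ext side
  set A := LocCohZ.zq (le_top : U ≤ ⊤) with hA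
  obtain ⟨eExt⟩ := ds.{u} A k (DD F) (fun j q => by
    haveI : Injective ((DD F).J j) := (injectiveResolution F).injective j
    infer_instance)
  -- compare the two quotients
  have hmap : (Preadditive.rightComp A ((DD F).g k)).range.map
      (homTopEquiv U ((DD F).Z (k + 1))).toAddMonoidHom = φT.range := by
    ext t
    rw [AddSubgroup.mem_map, AddMonoidHom.mem_range]
    constructor
    · rintro ⟨ψ', ⟨ψ, rfl⟩, rfl⟩
      refine ⟨homTopEquiv U ((DD F).J k) ψ, ?_⟩
      exact (homTopEquiv_comp U ((DD F).g k) ψ).symm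
    · rintro ⟨a, rfl⟩
      refine ⟨(homTopEquiv U ((DD F).J k)).symm a ≫ (DD F).g k, ⟨_, rfl⟩, ?_⟩
      have := homTopEquiv_comp U ((DD F).g k) ((homTopEquiv U ((DD F).J k)).symm a)
      rw [AddEquiv.apply_symm_apply] at this
      exact this
  let eQ : (DD F).Q A k ≃+ (_ ⧸ φT.range) :=
    QuotientAddGroup.congr _ _ (homTopEquiv U ((DD F).Z (k + 1))) hmap
  let eC : (_ ⧸ πT.ker) ≃+ (cokernel φ).obj.obj (op ⊤) :=
    QuotientAddGroup.quotientKerEquivOfSurjective πT hsurj2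
  exact ⟨(sectionsEquiv e0 ⊤).trans (eC.symm.trans
    ((QuotientAddGroup.quotientAddEquivOfEq hkerπ).trans (eQ.symm.trans eExt.symm)))⟩

/-- **Global sections of the first non-vanishing local cohomology sheaf.** -/
theorem nonempty_sections_HZsh_equiv (d : ℕ)
    (h : ∀ i : ℕ, i < d → IsZero ((LocCohZ.HZsh U i).obj F)) :
    Nonempty (((LocCohZ.HZsh U d).obj F).obj.obj (op ⊤) ≃+ LocCohZ.HZc F d U) := by
  cases d with
  | zero => exact nonempty_sections_HZsh_zero_equiv U F
  | succ k => exact nonempty_sections_HZsh_succ_equiv U F k h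

end Groth.Agent.Lib.Helper21.HZB
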