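import Mathlib
import Groth.Agent.S14305

/-!
# Averaging continuous multi-variable 2-cocycles over a compact abelian group (helper21)

* `measurable_of_continuous_pi` : continuous real functions on `G^k` (`G` compact Hausdorff, no
  countability assumption) are measurable for the product σ-algebra (Stone–Weierstrass).
* `integrable_of_continuous_pi`, `continuous_integral_param`.
* `integral_sum_translate` : `∫ h (a + ∑_{i∈J} u_i) d(μ^{⊗(k+1)}) = ∫ h dμ` for `J` nonempty.
* `exists_dev` : a continuous function on `G^{m+1}` which is a 2-cocycle in every pair of variables is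
  the `(m+1)`-st deviation of a continuous function.
* `eq_of_dev` : the primitive is given by the averaging formula.
-/

set_option autoImplicit false
universe u
open MeasureTheory

namespace Groth.Agent.Lib.Helper21.HaarAvg

section Meas
variable {G : Type u} [TopologicalSpace G] [CompactSpace G] [T2Space G]
  [MeasurableSpace G] [BorelSpace G]

/-- (M) continuous real functions on a finite power of a compact Hausdorff space are measurable
for the product σ-algebra (Stone–Weierstrass). -/
theorem measurable_of_continuous_pi {k : ℕ} (F : (Fin k → G) → ℝ) (hF : Continuous F) :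
    Measurable F := by
  classical
  let S : Set C(Fin k → G, ℝ) :=
    {f | ∃ (i : Fin k) (h : C(G, ℝ)), f = h.comp (ContinuousMap.eval i)}
  let A : Subalgebra ℝ C(Fin k → G, ℝ) := Algebra.adjoin ℝ S
  have hsep : A.SeparatesPoints := by
    intro x y hxy
    obtain ⟨i, hi⟩ := Function.ne_iff.1 hxy
    obtain ⟨h, h0, h1, -⟩ := exists_continuous_zero_one_of_isClosed
      (isClosed_singleton (x := x i)) (isClosed_singleton (x := y i)) (by simpa using hi)
    refine ⟨_, ⟨h.comp (ContinuousMap.eval i), Algebra.subset_adjoin ⟨i, h, rfl⟩, rfl⟩, ?_⟩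
    have e0 : h (x i) = 0 := h0 (Set.mem_singleton _)
    have e1 : h (y i) = 1 := h1 (Set.mem_singleton _)
    simp [e0, e1]
  have hA : A.topologicalClosure = ⊤ :=
    ContinuousMap.subalgebra_topologicalClosure_eq_top_of_separatesPoints A hsep
  have hmeasA : ∀ f ∈ A, Measurable f := by
    intro f hf
    induction hf using Algebra.adjoin_induction with
    | mem f hf =>
      obtain ⟨i, h, rfl⟩ := hf
      exact h.continuous.measurable.comp (measurable_pi_apply i)
    | algebraMap r => exact measurable_const
    | add f g _ _ hf hg => exact hf.add hg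
    | mul f g _ _ hf hg => exact hf.mul hg
  have hmem : (⟨F, hF⟩ : C(Fin k → G, ℝ)) ∈ closure (A : Set C(Fin k → G, ℝ)) := by
    have : (⟨F, hF⟩ : C(Fin k → G, ℝ)) ∈ A.topologicalClosure := by rw [hA]; trivial
    exact this
  obtain ⟨u, hu, hlim⟩ := mem_closure_iff_seq_limit.1 hmem
  refine measurable_of_tendsto_metrizable (f := fun n => (u n : (Fin k → G) → ℝ))
    (fun n => hmeasA (u n) (hu n)) (tendsto_pi_nhds.2 fun x => ?_)
  exact (((ContinuousEvalConst.continuous_eval_const (F := C(Fin k → G, ℝ)) x)).tendsto _).comp hlim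

theorem exists_bound_of_continuous {X : Type*} [TopologicalSpace X] [CompactSpace X]
    (F : X → ℝ) (hF : Continuous F) : ∃ C, ∀ x, ‖F x‖ ≤ C := by
  obtain ⟨C, hC⟩ := isCompact_univ.exists_bound_of_continuousOn hF.continuousOn
  exact ⟨C, fun x => hC x (Set.mem_univ x)⟩

/-- (I) continuous functions on `G^k` are integrable for a product of probability measures. -/
theorem integrable_of_continuous_pi (μ : Measure G) [IsProbabilityMeasure μ] {k : ℕ}
    (F : (Fin k → G) → ℝ) (hF : Continuous F) :
    Integrable F (Measure.pi (fun _ : Fin k => μ)) := by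
  obtain ⟨C, hC⟩ := exists_bound_of_continuous F hF
  exact Integrable.of_bound (measurable_of_continuous_pi F hF).aestronglyMeasurable C
    (Filter.Eventually.of_forall hC)

theorem integrable_of_continuous (μ : Measure G) [IsFiniteMeasure μ]
    (F : G → ℝ) (hF : Continuous F) : Integrable F μ := by
  obtain ⟨C, hC⟩ := exists_bound_of_continuous F hF
  exact Integrable.of_bound hF.measurable.aestronglyMeasurable C (Filter.Eventually.of_forall hC)

/-- (F3) parametric integrals over a compact space are continuous in the parameter. -/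
theorem continuous_integral_param (μ : Measure G) [IsFiniteMeasure μ]
    {X : Type*} [TopologicalSpace X] (F : X × G → ℝ) (hF : Continuous F) :
    Continuous (fun x => ∫ c, F (x, c) ∂μ) := by
  let Fc : C(X × G, ℝ) := ⟨F, hF⟩
  have h1 : Continuous (fun f : C(G, ℝ) => ∫ c, f c ∂μ) := by
    have h2 : (fun f : C(G, ℝ) => ∫ c, f c ∂μ) =
        fun f : C(G, ℝ) => ∫ c, (ContinuousMap.toLp (E := ℝ) 1 μ ℝ f) c ∂μ := by
      funext f
      exact integral_congr_ae (ContinuousMap.coeFn_toLp (E := ℝ) (p := 1) μ (𝕜 := ℝ) f).symm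
    rw [h2]
    exact (MeasureTheory.continuous_integral (μ := μ) (G := ℝ)).comp
      (ContinuousMap.toLp (E := ℝ) 1 μ ℝ).continuous
  exact h1.comp Fc.curry.continuous

end Meas

section Grp
variable {G : Type u} [AddCommGroup G] [TopologicalSpace G] [IsTopologicalAddGroup G]
  [CompactSpace G] [T2Space G] [MeasurableSpace G] [BorelSpace G]

/-- (T) integrating `h (a + ∑_{i∈J} u_i)` over `G^{k+1}` gives `∫ h` as soon as `J` is nonempty. -/
theorem integral_sum_translate (μ : Measure G) [μ.IsAddHaarMeasure] [IsProbabilityMeasure μ]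
    {k : ℕ} (h : G → ℝ) (hh : Continuous h) (J : Finset (Fin (k + 1))) (j : Fin (k + 1))
    (hj : j ∈ J) (a : G) :
    ∫ u, h (a + ∑ i ∈ J, u i) ∂(Measure.pi (fun _ : Fin (k + 1) => μ)) = ∫ g, h g ∂μ := by
  classical
  let e := MeasurableEquiv.piFinSuccAbove (fun _ : Fin (k + 1) => G) j
  have he : MeasurePreserving e (Measure.pi fun _ : Fin (k + 1) => μ)
      (μ.prod (Measure.pi fun _ : Fin k => μ)) :=
    measurePreserving_piFinSuccAbove (fun _ : Fin (k + 1) => μ) j
  let F : (Fin (k + 1) → G) → ℝ := fun u => h (a + ∑ i ∈ J, u i)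
  have hFc : Continuous F :=
    hh.comp (continuous_const.add (continuous_finset_sum _ fun i _ => continuous_apply i))
  have hFm : Measurable F := measurable_of_continuous_pi F hFc
  have h1 : ∫ u, F u ∂(Measure.pi fun _ : Fin (k + 1) => μ) =
      ∫ p, F (e.symm p) ∂(μ.prod (Measure.pi fun _ : Fin k => μ)) := by
    rw [← he.integral_comp' (g := fun p => F (e.symm p))]
    simp
  have hint : Integrable (fun p => F (e.symm p)) (μ.prod (Measure.pi fun _ : Fin k => μ)) := by
    obtain ⟨C, hC⟩ := exists_bound_of_continuous F hFc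
    exact Integrable.of_bound (hFm.comp e.symm.measurable).aestronglyMeasurable C
      (Filter.Eventually.of_forall fun p => hC _)
  have h2 : ∀ v : Fin k → G, ∫ b, F (e.symm (b, v)) ∂μ = ∫ g, h g ∂μ := by
    intro v
    have h3 : ∀ b : G, F (e.symm (b, v)) =
        h (b + (a + ∑ i ∈ J.erase j, (j.insertNth (0 : G) v : Fin (k + 1) → G) i)) := by
      intro b
      have : e.symm (b, v) = j.insertNth b v := rfl
      simp only [F, this]
      rw [← Finset.add_sum_erase J _ hj, Fin.insertNth_apply_same]
      have : ∑ i ∈ J.erase j, (j.insertNth b v : Fin (k + 1) → G) i =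
          ∑ i ∈ J.erase j, (j.insertNth (0 : G) v : Fin (k + 1) → G) i := by
        refine Finset.sum_congr rfl fun i hi => ?_
        obtain ⟨l, rfl⟩ := Fin.exists_succAbove_eq (Finset.ne_of_mem_erase hi)
        rw [Fin.insertNth_apply_succAbove, Fin.insertNth_apply_succAbove]
      rw [this]
      congr 1
      abel
    simp_rw [h3]
    exact integral_add_right_eq_self (μ := μ) (fun g => h g) _
  show ∫ u, F u ∂(Measure.pi fun _ : Fin (k + 1) => μ) = _
  rw [h1, integral_prod_symm _ hint]
  simp_rw [h2]
  simp

/-- `ψ` is a 2-cocycle in every pair of variables. -/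
def IsCocycle {n : ℕ} (ψ : (Fin n → G) → ℝ) : Prop :=
  ∀ (i j : Fin n), i ≠ j → ∀ (x : Fin n → G) (a b c : G),
    ψ (Function.update (Function.update x i (a + b)) j c) +
        ψ (Function.update (Function.update x i a) j b) =
      ψ (Function.update (Function.update x i a) j (b + c)) +
        ψ (Function.update (Function.update x i b) j c)

theorem continuous_cons_comp {n : ℕ} (ψ : (Fin (n + 1) → G) → ℝ) (hψc : Continuous ψ) :
    Continuous (fun p : (Fin n → G) × G => ψ (Fin.cons p.2 p.1)) := by
  refine hψc.comp ?_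
  exact Continuous.finCons (A := fun _ => G) continuous_snd continuous_fst

theorem continuous_cons_left {n : ℕ} (ψ : (Fin (n + 1) → G) → ℝ) (hψc : Continuous ψ)
    (y : Fin n → G) : Continuous (fun t : G => ψ (Fin.cons t y)) := by
  refine hψc.comp ?_
  exact Continuous.finCons (A := fun _ => G) continuous_id continuous_const

theorem exists_dev_zero (ψ : (Fin 1 → G) → ℝ) (hψc : Continuous ψ) :
    ∃ φ : G → ℝ, Continuous φ ∧ ∀ x, ψ x = Groth.Agent.S14305.Dev φ 1 x := by
  classical
  refine ⟨fun g => ψ (fun _ => g), hψc.comp (continuous_pi fun _ => continuous_id), fun x => ?_⟩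
  have h1 : ((Finset.univ : Finset (Fin 1)).powerset.erase ∅) = {{0}} := by decide
  unfold Groth.Agent.S14305.Dev
  rw [h1, Finset.sum_singleton]
  simp only [Finset.card_singleton, Finset.sum_singleton]
  have : x = fun _ => x 0 := by
    funext i
    rw [Subsingleton.elim i 0]
  rw [← this]
  norm_num

/-- Step 1: existence of a continuous primitive, by averaging one variable at a time. -/
theorem exists_dev (μ : Measure G) [μ.IsAddHaarMeasure] [IsProbabilityMeasure μ] (m : ℕ) :
    ∀ (ψ : (Fin (m + 1) → G) → ℝ), Continuous ψ → IsCocycle ψ →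
      ∃ φ : G → ℝ, Continuous φ ∧ ∀ x, ψ x = Groth.Agent.S14305.Dev φ (m + 1) x := by
  classical
  induction m with
  | zero =>
    intro ψ hψc _
    exact exists_dev_zero ψ hψc
  | succ m ih =>
    intro ψ hψc hψ
    -- the averaged function
    let Ψ : (Fin (m + 1) → G) → ℝ := fun y => ∫ t, ψ (Fin.cons t y) ∂μ
    have hΨc : Continuous Ψ :=
      continuous_integral_param μ (fun p : (Fin (m + 1) → G) × G => ψ (Fin.cons p.2 p.1))
        (continuous_cons_comp ψ hψc)
    have hint : ∀ y : Fin (m + 1) → G, Integrable (fun t : G => ψ (Fin.cons t y)) μ :=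
      fun y => integrable_of_continuous μ _ (continuous_cons_left ψ hψc y)
    have hΨ : IsCocycle Ψ := by
      intro i j hij x a b c
      have key : ∀ t : G,
          ψ (Fin.cons t (Function.update (Function.update x i (a + b)) j c)) +
              ψ (Fin.cons t (Function.update (Function.update x i a) j b)) =
            ψ (Fin.cons t (Function.update (Function.update x i a) j (b + c))) +
              ψ (Fin.cons t (Function.update (Function.update x i b) j c)) := by
        intro t
        have := hψ i.succ j.succ (fun h => hij (Fin.succ_injective _ h)) (Fin.cons t x) a b c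
        simpa only [← Fin.cons_update] using this
      have := integral_congr_ae (μ := μ) (Filter.Eventually.of_forall key)
      rw [integral_add (hint _) (hint _), integral_add (hint _) (hint _)] at this
      exact this
    have hdev : ∀ (j : Fin (m + 1)) (y : Fin (m + 1) → G) (a b : G),
        ψ (Fin.cons b (Function.update y j a)) =
          Ψ (Function.update y j a) + Ψ (Function.update y j b) - Ψ (Function.update y j (a + b)) := by
      intro j y a b
      have key : ∀ t : G,
          ψ (Fin.cons t (Function.update y j (a + b))) + ψ (Fin.cons b (Function.update y j a)) =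
            ψ (Fin.cons (b + t) (Function.update y j a)) + ψ (Fin.cons t (Function.update y j b)) := by
        intro t
        have := hψ j.succ 0 (Fin.succ_ne_zero j) (Fin.cons 0 y) a b t
        simpa only [← Fin.cons_update, Fin.update_cons_zero] using this
      have := integral_congr_ae (μ := μ) (Filter.Eventually.of_forall key)
      rw [integral_add (hint _) (integrable_const _), integral_add _ (hint _)] at this
      · rw [integral_add_left_eq_self (μ := μ) (fun t => ψ (Fin.cons t (Function.update y j a))) b]
          at this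
        simp only [integral_const, probReal_univ, one_smul] at this
        show _ = (∫ t, ψ (Fin.cons t (Function.update y j a)) ∂μ) +
          (∫ t, ψ (Fin.cons t (Function.update y j b)) ∂μ) -
          (∫ t, ψ (Fin.cons t (Function.update y j (a + b))) ∂μ)
        linarith
      · exact (hint (Function.update y j a)).comp_add_left b
    obtain ⟨φ, hφc, hφ⟩ := ih (fun y => - Ψ y) hΨc.neg (by
      intro i j hij x a b c
      have := hΨ i j hij x a b c
      simp only
      linarith)
    refine ⟨φ, hφc, fun x => ?_⟩
    have hx : x = Fin.cons (x 0) (Function.update (Fin.tail x) 0 (Fin.tail x 0)) := by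
      rw [Function.update_eq_self, Fin.cons_self_tail]
    rw [hx, Groth.Agent.S14305.main, hdev, ← hφ, ← hφ, ← hφ]
    ring

theorem Dev_real (φ : G → ℝ) (n : ℕ) (x : Fin n → G) :
    Groth.Agent.S14305.Dev φ n x =
      ∑ I ∈ ((Finset.univ : Finset (Fin n)).powerset.erase ∅),
        (-1 : ℝ) ^ (n + I.card) * φ (∑ i ∈ I, x i) := by
  unfold Groth.Agent.S14305.Dev
  refine Finset.sum_congr rfl fun I _ => ?_
  rw [zsmul_eq_mul]
  push_cast
  rfl

theorem sum_cons_split {k : ℕ} (I : Finset (Fin (k + 2))) (g : G) (u : Fin (k + 1) → G) :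
    ∑ i ∈ I, (Fin.cons g u : Fin (k + 2) → G) i =
      (if (0 : Fin (k + 2)) ∈ I then g else 0) +
        ∑ j ∈ (Finset.univ : Finset (Fin (k + 1))).filter (fun j => j.succ ∈ I), u j := by
  classical
  have h1 : ∑ i ∈ I, (Fin.cons g u : Fin (k + 2) → G) i =
      ∑ i : Fin (k + 2), if i ∈ I then (Fin.cons g u : Fin (k + 2) → G) i else 0 := by
    rw [Finset.sum_ite_mem, Finset.univ_inter]
  rw [h1, Fin.sum_univ_succ, Finset.sum_filter]
  simp only [Fin.cons_zero, Fin.cons_succ]

/-- Step 2: the primitive is given by the averaging formula (hence is unique). -/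
theorem eq_of_dev (μ : Measure G) [μ.IsAddHaarMeasure] [IsProbabilityMeasure μ] (k : ℕ)
    (ψ : (Fin (k + 2) → G) → ℝ) (φ : G → ℝ) (hφc : Continuous φ)
    (hφ : ∀ x, ψ x = Groth.Agent.S14305.Dev φ (k + 2) x) (g : G) :
    φ g = (-1 : ℝ) ^ (k + 1) * ∫ u, ψ (Fin.cons g u) ∂(Measure.pi fun _ : Fin (k + 1) => μ) := by
  classical
  set ν := Measure.pi fun _ : Fin (k + 1) => μ with hν
  set c : ℝ := ∫ t, φ t ∂μ with hc
  set P := ((Finset.univ : Finset (Fin (k + 2))).powerset.erase ∅) with hP
  have hcont : ∀ I : Finset (Fin (k + 2)),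
      Continuous (fun u : Fin (k + 1) → G => φ (∑ i ∈ I, (Fin.cons g u : Fin (k + 2) → G) i)) := by
    intro I
    refine hφc.comp (continuous_finset_sum _ fun i _ => ?_)
    exact (continuous_apply i).comp
      (Continuous.finCons (A := fun _ => G) continuous_const continuous_id)
  have hT : ∀ I ∈ P, ∫ u, φ (∑ i ∈ I, (Fin.cons g u : Fin (k + 2) → G) i) ∂ν =
      c + (if I = {0} then φ g - c else 0) := by
    intro I hI
    by_cases h0 : I = {0}
    · subst h0
      simp [hν]
    · rw [if_neg h0, add_zero]
      have hne : I.Nonempty := Finset.nonempty_iff_ne_empty.2 (Finset.ne_of_mem_erase hI)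
      have hex : ∃ j : Fin (k + 1), j.succ ∈ I := by
        by_contra hcon
        push Not at hcon
        apply h0
        rw [Finset.eq_singleton_iff_unique_mem]
        have hall : ∀ i ∈ I, i = 0 := by
          intro i hi
          by_contra hi0
          obtain ⟨j, rfl⟩ := Fin.exists_succ_eq.2 hi0
          exact hcon j hi
        obtain ⟨i, hi⟩ := hne
        exact ⟨hall i hi ▸ hi, hall⟩
      obtain ⟨j, hj⟩ := hex
      simp_rw [sum_cons_split]
      exact integral_sum_translate μ φ hφc _ j (by simp [hj]) _
  have hψ : ∀ u : Fin (k + 1) → G, ψ (Fin.cons g u) =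
      ∑ I ∈ P, (-1 : ℝ) ^ (k + 2 + I.card) *
        φ (∑ i ∈ I, (Fin.cons g u : Fin (k + 2) → G) i) := by
    intro u
    rw [hφ, Dev_real]
  simp_rw [hψ]
  rw [integral_finsetSum]
  swap
  · intro I _
    exact (integrable_of_continuous_pi μ _ (hcont I)).const_mul _
  simp_rw [integral_const_mul]
  rw [Finset.sum_congr rfl fun I hI => by rw [hT I hI]]
  simp_rw [mul_add, Finset.sum_add_distrib, mul_ite, mul_zero]
  have h0P : ({0} : Finset (Fin (k + 2))) ∈ P := by
    simp [hP]
  rw [Finset.sum_ite_eq' P {0}, if_pos h0P, ← Finset.sum_mul]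
  have hsum : ∑ I ∈ P, (-1 : ℝ) ^ (k + 2 + I.card) = - (-1 : ℝ) ^ k := by
    rw [hP, Finset.sum_erase_eq_sub (Finset.empty_mem_powerset _)]
    have h2 := Finset.sum_powerset_neg_one_pow_card_of_nonempty
      (x := (Finset.univ : Finset (Fin (k + 2)))) Finset.univ_nonempty
    have h3 := congrArg (Int.cast : ℤ → ℝ) h2
    push_cast at h3
    simp_rw [pow_add]
    rw [← Finset.mul_sum, h3]
    simp
  rw [hsum]
  have hε : (-1 : ℝ) ^ k * (-1 : ℝ) ^ k = 1 := by
    rw [← mul_pow]; simp
  simp only [Finset.card_singleton]
  have e1 : (-1 : ℝ) ^ (k + 2 + 1) = - (-1 : ℝ) ^ k := by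
    rw [pow_add, pow_add]; norm_num
  have e2 : (-1 : ℝ) ^ (k + 1) = - (-1 : ℝ) ^ k := by
    rw [pow_add]; norm_num
  rw [e1, e2]
  linear_combination (- φ g) * hε

end Grp

end Groth.Agent.Lib.Helper21.HaarAvg
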