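import Mathlib

/-!
# Incidence combinatorics for arrangements of curves with constant pairwise intersection number
-/

set_option autoImplicit false
universe u v

namespace Groth.Agent.Lib.Helper21Harb

variable {P : Type u} {ι : Type v} [Fintype ι] (inc : P → ι → Prop)

theorem two_le_card_iff (p : P) :
    2 ≤ Nat.card {j : ι // inc p j} ↔ ∃ i j : ι, i ≠ j ∧ inc p i ∧ inc p j := by
  classical
  rw [Nat.card_eq_fintype_card]
  change 1 < _ ↔ _
  rw [Fintype.one_lt_card_iff]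
  constructor
  · rintro ⟨⟨a, ha⟩, ⟨b, hb⟩, hab⟩
    exact ⟨a, b, fun h => hab (Subtype.ext h), ha, hb⟩
  · rintro ⟨i, j, hij, hi, hj⟩
    exact ⟨⟨i, hi⟩, ⟨j, hj⟩, fun h => hij (congrArg Subtype.val h)⟩

theorem mult_subset :
    {p : P | 2 ≤ Nat.card {j : ι // inc p j}} ⊆
      ⋃ x : {x : ι × ι // x.1 ≠ x.2}, {p : P | inc p x.1.1 ∧ inc p x.1.2} := by
  intro p hp
  obtain ⟨i, j, hij, hi, hj⟩ := (two_le_card_iff inc p).mp hp
  exact Set.mem_iUnion.mpr ⟨⟨(i, j), hij⟩, hi, hj⟩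

theorem finite_mult (hfin : ∀ i j : ι, i ≠ j → {p : P | inc p i ∧ inc p j}.Finite) :
    {p : P | 2 ≤ Nat.card {j : ι // inc p j}}.Finite := by
  classical
  refine Set.Finite.subset ?_ (mult_subset inc)
  exact Set.finite_iUnion (fun x => hfin x.1.1 x.1.2 x.2)

/-- If no point lies on all curves and any two curves meet in exactly `h ≥ 1` points, then
every curve `C_i` carries a multiple point which is not on a given other curve `C_j`. -/
theorem exists_mult_not_on (h : ℕ) (hh : 0 < h)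
    (hfin : ∀ i j : ι, i ≠ j → {p : P | inc p i ∧ inc p j}.Finite)
    (hcount : ∀ i j : ι, i ≠ j → {p : P | inc p i ∧ inc p j}.ncard = h)
    (hnone : ∀ p : P, ∃ i : ι, ¬ inc p i) (i j : ι) (hij : i ≠ j) :
    ∃ q : P, inc q i ∧ 2 ≤ Nat.card {k : ι // inc q k} ∧ ¬ inc q j := by
  classical
  by_contra hcon
  push Not at hcon
  -- all intersections C_i ∩ C_k equal C_i ∩ C_j
  have heq : ∀ k, k ≠ i → {p : P | inc p i ∧ inc p k} = {p : P | inc p i ∧ inc p j} := by
    intro k hk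
    apply Set.eq_of_subset_of_ncard_le _ _ (hfin i j hij)
    · rintro p ⟨hpi, hpk⟩
      exact ⟨hpi, hcon p hpi ((two_le_card_iff inc p).mpr ⟨i, k, hk.symm, hpi, hpk⟩)⟩
    · rw [hcount i j hij, hcount i k hk.symm]
  have hne : {p : P | inc p i ∧ inc p j}.Nonempty := by
    rw [← Set.ncard_pos (hfin i j hij), hcount i j hij]
    exact hh
  obtain ⟨p, hpi, hpj⟩ := hne
  obtain ⟨k, hk⟩ := hnone p
  have hki : k ≠ i := fun h => hk (h ▸ hpi)
  have : p ∈ {p : P | inc p i ∧ inc p k} := by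
    rw [heq k hki]
    exact ⟨hpi, hpj⟩
  exact hk this.2

end Groth.Agent.Lib.Helper21Harb
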