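import Groth.Agent.Lib.Helper9QC
import Groth.Prelude.Def_ToposFin2

/-!
# Algebraic and locally coherent topoi (SGA 4 VI §2), morphisms of topoi (§3)
-/

namespace Groth.Agent.Lib.Helper9

open CategoryTheory Limits Opposite ToposFin

universe u w w'

variable {C : Type u} [SmallCategory C] {J : GrothendieckTopology C}

lemma isGenerating_iff (S : Set (Sh J)) : IsGenerating S ↔ CoveredBy (J := J) (· ∈ S) := by
  refine forall_congr' fun X => exists_congr fun ι => exists_congr fun F => exists_congr fun π => ?_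
  exact and_congr Iff.rfl ⟨fun h Z a b hab => h Z a b hab, fun h Z a b hab => h a b hab⟩

/-- Quasi-separatedness can be tested on a generating family of quasi-compact objects. -/
lemma isQS_of_generators {P : Sh J → Prop} (hE : CoveredBy P) (hP : ∀ K, P K → IsQC K)
    {Y : Sh J}
    (h : ∀ (K L : Sh J) (s : K ⟶ Y) (s' : L ⟶ Y), P K → P L → IsQC (pullback s s')) :
    IsQS Y := by
  intro A B a b hA hB
  obtain ⟨κ, _, A', π, hπ, hA'⟩ := exists_finite_cover hE hA
  obtain ⟨κ', _, B', π', hπ', hB'⟩ := exists_finite_cover hE hB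
  exact isQC_of_finite_jEpi _ (JEpi.pullback_map a b π π' hπ hπ')
    fun p => h _ _ _ _ (hA' p.1) (hB' p.2)

/-- In a locally coherent topos (generating set of quasi-compact objects stable under fibre
products), the members of the generating set are coherent. -/
lemma isCoherent_of_mem {S : Set (Sh J)} (hqc : ∀ K ∈ S, IsQC K) (hgen : IsGenerating S)
    (hpb : ClosedUnderPullbacks S) {K : Sh J} (hK : K ∈ S) : IsCoherent K := by
  refine ⟨hqc K hK, isQS_of_generators ((isGenerating_iff S).1 hgen) hqc ?_⟩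
  intro G G' s s' hG hG'
  obtain ⟨P, p, q, hP, hpq⟩ := hpb s s' hG hG' hK
  exact IsQC.of_iso (hqc P hP) hpq.isoPullback

/-- In an algebraic topos, an object with a jointly monic pair of maps into members of the
generating set is quasi-separated. -/
lemma isQS_of_jointly_mono {S : Set (Sh J)} (hqc : ∀ K ∈ S, IsQC K) (hgen : IsGenerating S)
    (hpb : ClosedUnderPullbacks S) (heq : ClosedUnderEqualizers S) {T K L : Sh J} (hK : K ∈ S)
    (hL : L ∈ S) (p : T ⟶ K) (q : T ⟶ L)
    (hpq : ∀ {W : Sh J} (x y : W ⟶ T), x ≫ p = y ≫ p → x ≫ q = y ≫ q → x = y) : IsQS T := by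
  refine isQS_of_generators ((isGenerating_iff S).1 hgen) hqc ?_
  intro G G' s s' hG hG'
  obtain ⟨R, r1, r2, hR, hr⟩ := hpb (s ≫ p) (s' ≫ p) hG hG' hK
  obtain ⟨E, e, w, hE, ⟨he⟩⟩ := heq (r1 ≫ s ≫ q) (r2 ≫ s' ≫ q) hR hL
  have hcomm : (e ≫ r1) ≫ s = (e ≫ r2) ≫ s' := by
    apply hpq
    · simp only [Category.assoc]
      exact congrArg (fun t => e ≫ t) hr.w
    · simpa only [Category.assoc] using w
  have hpb' : IsPullback (e ≫ r1) (e ≫ r2) s s' := by
    refine ⟨⟨hcomm⟩, ⟨PullbackCone.IsLimit.mk _ (fun c => ?_) ?_ ?_ ?_⟩⟩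
    · refine Fork.IsLimit.lift he (hr.lift c.fst c.snd ?_) ?_
      · rw [← Category.assoc, c.condition, Category.assoc]
      · rw [hr.lift_fst_assoc, hr.lift_snd_assoc, ← Category.assoc, c.condition, Category.assoc]
    · intro c
      rw [← Category.assoc]
      erw [Fork.IsLimit.lift_ι he]
      exact hr.lift_fst _ _ _
    · intro c
      rw [← Category.assoc]
      erw [Fork.IsLimit.lift_ι he]
      exact hr.lift_snd _ _ _
    · intro c m h1 h2
      apply Fork.IsLimit.hom_ext he
      erw [Fork.IsLimit.lift_ι he]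
      apply hr.hom_ext
      · refine Eq.trans ?_ (hr.lift_fst _ _ _).symm
        simpa only [Category.assoc, Fork.ι_ofι] using h1
      · refine Eq.trans ?_ (hr.lift_snd _ _ _).symm
        simpa only [Category.assoc, Fork.ι_ofι] using h2
  exact IsQC.of_iso (hqc E hE) hpb'.isoPullback

/-- In an algebraic topos every morphism with quasi-separated source is quasi-separated. -/
lemma isQSHom_of_isQS_of_isAlgebraic (hE : IsAlgebraic J) {X Y : Sh J} (f : X ⟶ Y)
    (hX : IsQS X) : IsQSHom f := by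
  obtain ⟨S, hqc, hgen, hpb, heq⟩ := hE
  have hS := (isGenerating_iff S).1 hgen
  obtain ⟨ι, G, π, hG, hπ⟩ := hS X
  refine isQSHom_of_cover_of_isQS (hS.mono hqc) f π hπ (fun i => hqc _ (hG i)) (fun i j => ?_) hX
  refine isQS_of_jointly_mono hqc hgen hpb heq (hG i) (hG j) (pullback.fst _ _) (pullback.snd _ _) ?_
  intro W x y h1 h2
  exact pullback.hom_ext h1 h2

lemma IsAlgebraic.coveredBy_isQC (hE : IsAlgebraic J) : CoveredBy (J := J) IsQC := by
  obtain ⟨S, hqc, hgen, -, -⟩ := hE
  exact ((isGenerating_iff S).1 hgen).mono hqc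

/-- In a locally coherent topos every morphism from a quasi-separated object to a member of
the generating set is quasi-separated. -/
lemma isQSHom_of_isQS_of_mem {S : Set (Sh J)} (hqc : ∀ K ∈ S, IsQC K) (hgen : IsGenerating S)
    (hpb : ClosedUnderPullbacks S) {X K : Sh J} (φ : X ⟶ K) (hK : K ∈ S) (hX : IsQS X) :
    IsQSHom φ := by
  have hS := (isGenerating_iff S).1 hgen
  obtain ⟨ι, G, π, hG, hπ⟩ := hS X
  refine isQSHom_of_cover_of_isQS (hS.mono hqc) φ π hπ (fun i => hqc _ (hG i)) (fun i j => ?_) hX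
  obtain ⟨P, p, q, hP, hpq⟩ := hpb (π i ≫ φ) (π j ≫ φ) (hG i) (hG j) hK
  exact IsQS.of_iso (isCoherent_of_mem hqc hgen hpb hP).2 hpq.isoPullback

/-- `X ×_Y Y ≅ X`: a quasi-compact morphism to a quasi-compact object has quasi-compact
source. -/
lemma isQC_of_isQCHom {X Y : Sh J} (f : X ⟶ Y) (hf : IsQCHom f) (hY : IsQC Y) : IsQC X :=
  IsQCHom.isQC_of_isPullback hf (IsPullback.of_horiz_isIso ⟨by simp⟩ : IsPullback (𝟙 X) f f (𝟙 Y)) hY

/-- The source of a quasi-separated morphism to a quasi-separated object is quasi-separated. -/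
lemma isQS_of_isQSHom {A B : Sh J} (φ : A ⟶ B) (hφ : IsQSHom φ) (hB : IsQS B) : IsQS A := by
  intro P Q a b hP hQ
  exact IsQCHom.isQC_of_isPullback hφ (pullback_map_diagonal_isPullback a b φ)
    (hB P Q (a ≫ φ) (b ≫ φ) hP hQ)

/-! ### Morphisms of topoi -/

section Morphisms

variable {D : Type u} [SmallCategory D] {K : GrothendieckTopology D}

lemma JEpi.map_leftAdjoint {E E' : Type*} [Category* E] [Category* E'] {F : E ⥤ E'} {R : E' ⥤ E}
    (adj : F ⊣ R) {X : E} {ι : Type w} {G : ι → E} {π : ∀ i, G i ⟶ X} (hπ : JEpi π) :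
    JEpi (fun i => F.map (π i)) := by
  intro Z a b hab
  apply (adj.homEquiv X Z).injective
  refine hπ _ _ fun i => ?_
  rw [← adj.homEquiv_naturality_left, ← adj.homEquiv_naturality_left, hab i]

variable (F : Sh K ⥤ Sh J) (R : Sh J ⥤ Sh K) (adj : F ⊣ R)

include adj in
/-- An inverse image functor preserves quasi-compact objects as soon as it does so on a
generating family. -/
lemma isQC_map_of_generators {P : Sh K → Prop} (hP : CoveredBy P)
    (h : ∀ X, P X → IsQC (F.obj X)) {X : Sh K} (hX : IsQC X) : IsQC (F.obj X) := by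
  obtain ⟨κ, _, A', π, hπ, hA'⟩ := exists_finite_cover hP hX
  exact isQC_of_finite_jEpi (fun k => F.map (π k)) (hπ.map_leftAdjoint adj) fun k => h _ (hA' k)

include adj in
/-- An inverse image functor preserves quasi-separated objects as soon as it sends a generating
family of coherent objects to coherent objects. -/
lemma isQS_map_of_generators [PreservesFiniteLimits F] (hE' : CoveredBy (J := J) IsQC)
    {P : Sh K → Prop} (hP : CoveredBy P) (hcoh : ∀ X, P X → IsCoherent X)
    (h : ∀ X, P X → IsCoherent (F.obj X)) {X : Sh K} (hX : IsQS X) : IsQS (F.obj X) := by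
  have hFqc : ∀ X : Sh K, IsQC X → IsQC (F.obj X) := fun X hX =>
    isQC_map_of_generators F R adj hP (fun X hX => (h X hX).1) hX
  obtain ⟨ι, G, π, hG, hπ⟩ := hP X
  refine isQS_of_jEpi_isQCHom hE' (fun i => F.map (π i)) (hπ.map_leftAdjoint adj)
    (fun i => (h _ (hG i)).2) fun i => ?_
  exact isQCHom_of_jEpi_isPullback hE' (F.map (π i)) (fun j => F.map (π j))
    (hπ.map_leftAdjoint adj) (fun j => F.map (pullback.fst (π i) (π j)))
    (fun j => F.map (pullback.snd (π i) (π j)))
    (fun j => (IsPullback.of_hasPullback (π i) (π j)).map F)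
    (fun j => isQCHom_of_isQC_of_isQS _
      (hFqc _ (hX _ _ (π i) (π j) (hcoh _ (hG i)).1 (hcoh _ (hG j)).1)) (h _ (hG j)).2)

include adj in
/-- A coherent morphism of locally coherent topoi preserves quasi-compact morphisms. -/
lemma isQCHom_map [PreservesFiniteLimits F] (hE' : CoveredBy (J := J) IsQC)
    {P : Sh K → Prop} (hP : CoveredBy P) (hcoh : ∀ X, P X → IsCoherent X)
    (hFqc : ∀ X : Sh K, IsQC X → IsQC (F.obj X)) (hFqs : ∀ X : Sh K, IsQS X → IsQS (F.obj X))
    {X Y : Sh K} (v : X ⟶ Y) (hv : IsQCHom v) : IsQCHom (F.map v) := by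
  obtain ⟨ι, G, π, hG, hπ⟩ := hP Y
  exact isQCHom_of_jEpi_isPullback hE' (F.map v) (fun i => F.map (π i))
    (hπ.map_leftAdjoint adj) (fun i => F.map (pullback.fst v (π i)))
    (fun i => F.map (pullback.snd v (π i)))
    (fun i => (IsPullback.of_hasPullback v (π i)).map F)
    (fun i => isQCHom_of_isQC_of_isQS _ (hFqc _ (hv _ (π i) (hcoh _ (hG i)).1))
      (hFqs _ (hcoh _ (hG i)).2))

end Morphisms

end Groth.Agent.Lib.Helper9
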