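import Mathlib
import Groth.Agent.Lib.Helper9QC2

/-!
# Čech nerves and classes of objects in a sheaf topos (helper9)

* `wpZeroIso`, `wpSuccIso`: the wide pullback of `n + 2` copies of `g : X ⟶ B` is the pullback of the
  wide pullback of `n + 1` copies with `g`.
* `nerve_mem`: a class of objects closed under isomorphisms and under `- ×_B X` contains all terms
  of the Čech nerve of `g`.
* coherent objects of an algebraic topos are stable under fibre products over quasi-separated
  objects, and epimorphisms onto quasi-compact objects are refined by coherent objects.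
-/

set_option autoImplicit false
universe v u
open CategoryTheory CategoryTheory.Limits Opposite Simplicial

namespace Groth.Agent.Lib.Helper9.TFNerve

section WP

variable {E : Type*} [Category E] [HasPullbacks E] {X B : E} (g : X ⟶ B)
  [∀ n : ℕ, HasWidePullback B (fun _ : Fin (n + 1) => X) (fun _ => g)]

/-- `N_0 ≅ X` -/
noncomputable def wpZeroIso : widePullback B (fun _ : Fin (0 + 1) => X) (fun _ => g) ≅ X where
  hom := WidePullback.π (fun _ : Fin (0 + 1) => g) 0
  inv := WidePullback.lift g (fun _ => 𝟙 X) (fun _ => Category.id_comp _)
  hom_inv_id := by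
    apply WidePullback.hom_ext
    · intro j
      obtain rfl : j = 0 := Fin.ext (by have := j.2; omega)
      simp only [Category.assoc, WidePullback.lift_π, Category.comp_id, Category.id_comp]
    · simp only [Category.assoc, WidePullback.lift_base, WidePullback.π_arrow, Category.id_comp]
  inv_hom_id := by simp only [WidePullback.lift_π]

/-- `N_{n+1} ≅ N_n ×_B X` -/
noncomputable def wpSuccIso (n : ℕ) :
    widePullback B (fun _ : Fin (n + 1 + 1) => X) (fun _ => g) ≅
      pullback (WidePullback.base (fun _ : Fin (n + 1) => g)) g where
  hom := pullback.lift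
    (WidePullback.lift (WidePullback.base (fun _ : Fin (n + 1 + 1) => g))
      (fun j => WidePullback.π (fun _ : Fin (n + 1 + 1) => g) j.castSucc)
      (fun j => WidePullback.π_arrow _ _))
    (WidePullback.π (fun _ : Fin (n + 1 + 1) => g) (Fin.last _))
    (by simp only [WidePullback.lift_base, WidePullback.π_arrow])
  inv := WidePullback.lift (pullback.fst _ _ ≫ WidePullback.base (fun _ : Fin (n + 1) => g))
    (fun j => Fin.lastCases (pullback.snd _ _)
      (fun i => pullback.fst _ _ ≫ WidePullback.π (fun _ : Fin (n + 1) => g) i) j)
    (fun j => by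
      refine Fin.lastCases ?_ (fun i => ?_) j
      · simp only [Fin.lastCases_last, pullback.condition]
      · simp only [Fin.lastCases_castSucc, Category.assoc, WidePullback.π_arrow])
  hom_inv_id := by
    apply WidePullback.hom_ext
    · intro j
      refine Fin.lastCases ?_ (fun i => ?_) j
      · simp only [Category.assoc, WidePullback.lift_π, Category.id_comp, Fin.lastCases_last,
          pullback.lift_snd]
      · simp only [Category.assoc, WidePullback.lift_π, Category.id_comp, Fin.lastCases_castSucc,
          pullback.lift_fst_assoc]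
    · simp only [Category.assoc, WidePullback.lift_base, pullback.lift_fst_assoc,
        Category.id_comp]
  inv_hom_id := by
    apply pullback.hom_ext
    · apply WidePullback.hom_ext
      · intro j
        simp only [Category.assoc, pullback.lift_fst, Category.id_comp, WidePullback.lift_π,
          Fin.lastCases_castSucc]
      · simp only [Category.assoc, pullback.lift_fst, Category.id_comp, WidePullback.lift_base]
    · simp only [Category.assoc, pullback.lift_snd, WidePullback.lift_π, Fin.lastCases_last,
        Category.id_comp]

/-- a class of objects closed under isomorphisms and under `- ×_B X` contains all terms of the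
Čech nerve of `g`. -/
theorem nerve_mem (P : E → Prop) (hiso : ∀ {Y Z : E}, (Y ≅ Z) → P Y → P Z) (hX : P X)
    (hpb : ∀ {Y : E} (a : Y ⟶ B), P Y → P (pullback a g)) (n : ℕ) :
    P (widePullback B (fun _ : Fin (n + 1) => X) (fun _ => g)) := by
  induction n with
  | zero => exact hiso (wpZeroIso g).symm hX
  | succ n ih => exact hiso (wpSuccIso g n).symm (hpb _ ih)

end WP

section Topos

open ToposFin Groth.Agent.Lib.Helper9

variable {C : Type u} [SmallCategory C] {J : GrothendieckTopology C}

instance (n : ℕ) {K' K : Sh J} (f : K' ⟶ K) :
    HasWidePullback K (fun _ : Fin (n + 1) => K') (fun _ => f) := inferInstance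

theorem cechNerve_mem (P : Sh J → Prop) (hiso : ∀ {Y Z : Sh J}, (Y ≅ Z) → P Y → P Z)
    {K' K : Sh J} (f : K' ⟶ K) (hK' : P K')
    (hpb : ∀ {Y : Sh J} (a : Y ⟶ K), P Y → P (pullback a f)) (n : ℕ) :
    P ((Arrow.mk f).cechNerve.obj (op ⦋n⦌)) :=
  nerve_mem f P hiso hK' hpb n

lemma IsCoherent.of_iso {X Y : Sh J} (hX : IsCoherent X) (e : X ≅ Y) : IsCoherent Y :=
  ⟨IsQC.of_iso hX.1 e, IsQS.of_iso hX.2 e⟩

/-- fibre products of coherent objects over a quasi-separated object, in an algebraic topos -/
theorem isCoherent_pullback (hE : IsAlgebraic J) {X Y Z : Sh J} (a : X ⟶ Z) (b : Y ⟶ Z)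
    (hX : IsCoherent X) (hY : IsCoherent Y) (hZ : IsQS Z) : IsCoherent (pullback a b) := by
  refine ⟨hZ _ _ a b hX.1 hY.1, ?_⟩
  have hb : IsQSHom b := isQSHom_of_isQS_of_isAlgebraic hE b hY.2
  have hfst : IsQSHom (pullback.fst a b) := by
    rw [isQSHom_iff] at hb ⊢
    exact MorphismProperty.of_isPullback (IsPullback.of_hasPullback a b).flip hb
  exact isQS_of_isQSHom _ hfst hX.2

/-- the members of the generating set of an algebraic topos are coherent -/
theorem IsAlgebraic.coveredBy_isCoherent (hE : IsAlgebraic J) :
    CoveredBy (J := J) IsCoherent := by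
  obtain ⟨S, hqc, hgen, hpb, -⟩ := hE
  exact ((isGenerating_iff S).1 hgen).mono (fun K hK => isCoherent_of_mem hqc hgen hpb hK)

end Topos

end Groth.Agent.Lib.Helper9.TFNerve
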