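import Mathlib
import Groth.Agent.S12106
import Groth.Agent.Lib.Helper9TFNerve

/-!
# A relative Cartan criterion in a sheaf topos (helper9)

Adaptation of helper16's proof of S12106 to two classes of objects `BB ⊆ CC` of the topos:
`BB` the class of "bases", `CC` the class of "covers".  If an abelian sheaf `F` is Čech-acyclic for all
epimorphisms `K' ⟶ K` with `K ∈ BB`, `K' ∈ CC`, then `Ext^{p+1}(ℤ[K], F) = 0` for `K ∈ BB`.
-/

set_option autoImplicit false
set_option linter.unusedSectionVars false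
set_option linter.style.haveILetI false
universe u
open CategoryTheory CategoryTheory.Limits Opposite Simplicial AlgebraicTopology Abelian

namespace Groth.Agent.Lib.Helper9.TFCartan

open Groth.Agent.Lib.Helper16.CoAcyc Groth.Agent.S6161 Groth.Agent.S6151 Groth.Agent.S12106
open Groth.Agent.Lib.Helper9

variable {C : Type u} [SmallCategory C] (J : GrothendieckTopology C)

/-- the data of the two classes -/
structure CovData (BB CC : Sheaf J (Type u) → Prop) : Prop where
  nerve : ∀ {K' K : Sheaf J (Type u)} (f : K' ⟶ K), BB K → CC K' →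
    ∀ n : ℕ, CC ((Arrow.mk f).cechNerve.obj (op ⦋n⦌))
  refine : ∀ {K P : Sheaf J (Type u)} (g : P ⟶ K), BB K → Epi g →
    ∃ (K' : Sheaf J (Type u)) (h : K' ⟶ P), CC K' ∧ Epi (h ≫ g)

variable (BB CC : Sheaf J (Type u) → Prop)

/-- Čech acyclicity for the epimorphisms of the two classes -/
def PPrel (G : Sheaf J AddCommGrpCat.{u}) : Prop :=
  ∀ (K' K : Sheaf J (Type u)) (f : K' ⟶ K), Epi f → BB K → CC K' → CechAcyc J f G

/-- sections of `X₃` over `X` lift to `X₂` -/
def Lifts (S : ShortComplex (Sheaf J AddCommGrpCat.{u})) (X : Sheaf J (Type u)) : Prop :=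
  ∀ s : (Φ J).obj X ⟶ S.X₃, ∃ r : (Φ J).obj X ⟶ S.X₂, r ≫ S.g = s

variable {BB CC}

theorem stepA_rel (D : CovData J BB CC) {S : ShortComplex (Sheaf J AddCommGrpCat.{u})}
    (hS : S.ShortExact) (hF : PPrel J BB CC S.X₁) (K : Sheaf J (Type u)) (hK : BB K) :
    Lifts J S K := by
  intro s
  haveI : Epi S.g := hS.epi_g
  let s' : K ⟶ (Uf J).obj S.X₃ := (adj J).homEquiv K S.X₃ s
  haveI : Epi ((Uf J).map S.g) := (Uf J).map_epi S.g
  haveI : Epi (pullback.fst s' ((Uf J).map S.g)) :=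
    epi_of_isPullback_sheaf J (IsPullback.of_hasPullback s' ((Uf J).map S.g))
  obtain ⟨K', h, hK', hf⟩ := D.refine (pullback.fst s' ((Uf J).map S.g)) hK inferInstance
  let f : K' ⟶ K := h ≫ pullback.fst s' ((Uf J).map S.g)
  haveI : Epi f := hf
  let t' : K' ⟶ (Uf J).obj S.X₂ := h ≫ pullback.snd s' ((Uf J).map S.g)
  have ht' : t' ≫ (Uf J).map S.g = f ≫ s' := by
    rw [Category.assoc, Category.assoc, pullback.condition]
  let t : (Φ J).obj K' ⟶ S.X₂ := ((adj J).homEquiv K' S.X₂).symm t'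
  have htg : t ≫ S.g = (Φ J).map f ≫ s := by
    apply ((adj J).homEquiv K' S.X₃).injective
    rw [Adjunction.homEquiv_naturality_right, Adjunction.homEquiv_naturality_left,
      Equiv.apply_symm_apply]
    exact ht'
  let π₀ : (Arrow.mk f).cechNerve.obj (op ⦋0⦌) ⟶ K' :=
    WidePullback.π (fun _ : Fin (0 + 1) => (Arrow.mk f).hom) 0
  have hπ₀ : π₀ ≫ f = bsn J f 0 := WidePullback.π_arrow _ _
  let t₀ : A J f 1 ⟶ S.X₂ := (Φ J).map π₀ ≫ t
  have ht₀ : t₀ ≫ S.g = dA J f 0 ≫ s := by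
    show ((Φ J).map π₀ ≫ t) ≫ S.g = (Φ J).map (bsn J f 0) ≫ s
    rw [Category.assoc, htg, ← Category.assoc, ← Functor.map_comp, hπ₀]
  exact stepA1 J hS f (hF K' K f inferInstance hK hK') s t₀ ht₀

theorem stepB_rel (D : CovData J BB CC) {S : ShortComplex (Sheaf J AddCommGrpCat.{u})}
    (hS : S.ShortExact) [Injective S.X₂] (hF : PPrel J BB CC S.X₁)
    (hlift : ∀ X, CC X → Lifts J S X) : PPrel J BB CC S.X₃ := by
  intro K' K f hf hK hK' n γ hγ
  haveI := hf
  haveI := hS.mono_f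
  obtain ⟨β, hβ⟩ : ∃ β : A J f (n + 2) ⟶ S.X₂, β ≫ S.g = γ :=
    hlift _ (D.nerve f hK hK' (n + 1)) γ
  have h1 : (dA J f (n + 2) ≫ β) ≫ S.g = 0 := by rw [Category.assoc, hβ, hγ]
  let α : A J f (n + 3) ⟶ S.X₁ := hS.fIsKernel.lift (KernelFork.ofι _ h1)
  have hα : α ≫ S.f = dA J f (n + 2) ≫ β :=
    hS.fIsKernel.fac (KernelFork.ofι _ h1) WalkingParallelPair.zero
  have hα0 : dA J f (n + 3) ≫ α = 0 := by
    rw [← cancel_mono S.f, Category.assoc, hα, ← Category.assoc, hdA, zero_comp, zero_comp]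
  obtain ⟨α₁, hα₁⟩ := hF K' K f hf hK hK' (n + 1) α hα0
  have h2 : dA J f (n + 2) ≫ (β - α₁ ≫ S.f) = 0 := by
    rw [Preadditive.comp_sub, ← Category.assoc, hα₁, hα, sub_self]
  obtain ⟨β'', hβ''⟩ := cechAcyc_of_injective J f S.X₂ n (β - α₁ ≫ S.f) h2
  refine ⟨β'' ≫ S.g, ?_⟩
  rw [← Category.assoc, hβ'', Preadditive.sub_comp, Category.assoc, S.zero, comp_zero, sub_zero, hβ]

/-- **Relative Cartan criterion.** -/
theorem ext_eq_zero_of_PPrel (D : CovData J BB CC)
    (htrans : ∀ (S : ShortComplex (Sheaf J AddCommGrpCat.{u})), S.ShortExact →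
      (∀ K, BB K → Lifts J S K) → ∀ X, CC X → Lifts J S X) :
    ∀ (p : ℕ) (F : Sheaf J AddCommGrpCat.{u}), PPrel J BB CC F → ∀ (K : Sheaf J (Type u)), BB K →
      ∀ (x : Ext.{u} ((Φ J).obj K) F (p + 1)), x = 0 := by
  intro p
  induction p with
  | zero =>
    intro F hF K hK x
    let S : ShortComplex (Sheaf J AddCommGrpCat.{u}) :=
      ShortComplex.mk (Injective.ι F) (cokernel.π (Injective.ι F)) (cokernel.condition _)
    have hS : S.ShortExact := ShortComplex.ShortExact.mk (ShortComplex.exact_cokernel _)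
    haveI : Injective S.X₂ := inferInstanceAs (Injective (Injective.under F))
    obtain ⟨x₃, hx₃⟩ := Ext.covariant_sequence_exact₁ _ hS x (Ext.eq_zero_of_injective _) (n₀ := 0) rfl
    obtain ⟨φ, rfl⟩ := (Ext.mk₀_bijective _ _).2 x₃
    obtain ⟨r, hr⟩ := stepA_rel J D hS hF K hK φ
    rw [← hx₃, ← hr, ← Ext.mk₀_comp_mk₀, Ext.comp_assoc_of_second_deg_zero, hS.comp_extClass,
      Ext.comp_zero]
  | succ p ih =>
    intro F hF K hK x
    let S : ShortComplex (Sheaf J AddCommGrpCat.{u}) :=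
      ShortComplex.mk (Injective.ι F) (cokernel.π (Injective.ι F)) (cokernel.condition _)
    have hS : S.ShortExact := ShortComplex.ShortExact.mk (ShortComplex.exact_cokernel _)
    haveI : Injective S.X₂ := inferInstanceAs (Injective (Injective.under F))
    obtain ⟨x₃, hx₃⟩ := Ext.covariant_sequence_exact₁ _ hS x (Ext.eq_zero_of_injective _)
      (n₀ := p + 1) rfl
    have hlift : ∀ X, CC X → Lifts J S X :=
      htrans S hS (fun K hK => stepA_rel J D hS hF K hK)
    rw [← hx₃, ih S.X₃ (stepB_rel J D hS hF hlift) K hK x₃, Ext.zero_comp]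

/-- Čech acyclicity from vanishing of higher Ext on the terms of the nerve. -/
theorem cechAcyc_of_coAcyc {K' K : Sheaf J (Type u)} (f : K' ⟶ K) [Epi f]
    (F : Sheaf J AddCommGrpCat.{u})
    (h0 : ∀ (p : ℕ) (x : Ext.{u} ((Φ J).obj K) F (p + 1)), x = 0)
    (hn : ∀ (n p : ℕ) (x : Ext.{u} ((Φ J).obj ((Arrow.mk f).cechNerve.obj (op ⦋n⦌))) F (p + 1)),
      x = 0) : CechAcyc J f F := by
  intro n φ hφ
  have hA : ∀ m, CoAcyc.{u} F (A J f m) := fun m =>
    match m with
    | 0 => fun p x => h0 p x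
    | m + 1 => fun p x => hn m p x
  exact exists_factor (A J f) (dA J f) (hdA J f) (hexA J f) hA (n + 1) φ hφ

end Groth.Agent.Lib.Helper9.TFCartan
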