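import Groth.Agent.Lib.Helper6TF15

set_option autoImplicit false

namespace Groth.Agent.Lib.Helper6.TF

open CategoryTheory Limits Opposite ToposFin

universe u w w'

variable {C : Type u} [SmallCategory C] {J : GrothendieckTopology C}

/-- Descent of a morphism along an epimorphism. -/
lemma exists_desc_of_epi {A B T : Sh J} (q : A ⟶ B) [Epi q] (f : A ⟶ T)
    (h : ∀ (U : C) (x y : Sec A U), ap q x = ap q y → ap f x = ap f y) :
    ∃ d : B ⟶ T, q ≫ d = f := by
  let r := regularEpiOfEpi q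
  have hw : r.left ≫ f = r.right ≫ f := by
    apply hom_ext_sec
    intro U x
    exact h U (ap r.left x) (ap r.right x) (by
      have := congrArg (fun t => ap t x) r.w
      exact this)
  exact ⟨(r.desc' f hw).1, (r.desc' f hw).2⟩

/-- Descent of a compatible family of morphisms along a jointly epimorphic family. -/
lemma exists_desc_of_jepi {X Z : Sh J} {κ : Type u} {G : κ → Sh J} (π : ∀ k, G k ⟶ X)
    (hπ : JEpi π) (g : ∀ k, G k ⟶ Z)
    (h : ∀ (k l : κ) (U : C) (x : Sec (G k) U) (y : Sec (G l) U),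
      ap (π k) x = ap (π l) y → ap (g k) x = ap (g l) y) :
    ∃ f : X ⟶ Z, ∀ k, π k ≫ f = g k := by
  have : Epi (Sigma.desc π) := (jepi_iff_epi_desc π).1 hπ
  have hι : JEpi (Sigma.ι G) :=
    jepi_cofan_inj (c := Cofan.mk (∐ G) (Sigma.ι G)) (coproductIsCoproduct G)
  obtain ⟨d, hd⟩ := exists_desc_of_epi (Sigma.desc π) (Sigma.desc g) (by
    intro U x y hxy
    apply sec_ext Z (J.intersection_covering (hι U x) (hι U y))
    rintro V f ⟨⟨k, x', hx'⟩, ⟨l, y', hy'⟩⟩
    rw [← ap_res, ← ap_res, ← hx', ← hy', ← ap_comp, ← ap_comp, Sigma.ι_desc, Sigma.ι_desc]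
    apply h
    have e1 : ap (π k) x' = ap (Sigma.desc π) (ap (Sigma.ι G k) x') := by
      rw [← ap_comp, Sigma.ι_desc]
    have e2 : ap (π l) y' = ap (Sigma.desc π) (ap (Sigma.ι G l) y') := by
      rw [← ap_comp, Sigma.ι_desc]
    rw [e1, e2, hx', hy', ap_res, ap_res, hxy])
  refine ⟨d, fun k => ?_⟩
  rw [← Sigma.ι_desc π k, Category.assoc, hd, Sigma.ι_desc]

section Filtered

variable {I : Type u} [SmallCategory I] [IsFiltered I] (D : I ⥤ Sh J)

lemma exists_upper_bound {κ : Type w} [Finite κ] (i : κ → I) :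
    ∃ (i₀ : I), ∀ k, Nonempty (i k ⟶ i₀) := by
  classical
  have := Fintype.ofFinite κ
  obtain ⟨i₀, h⟩ := IsFiltered.sup_objs_exists (Finset.univ.image i)
  exact ⟨i₀, fun k => h (Finset.mem_image_of_mem i (Finset.mem_univ k))⟩

lemma exists_common_eq {κ : Type w} [Finite κ] {i₀ : I}
    (P : κ → ∀ (j : I), (i₀ ⟶ j) → Prop)
    (hP : ∀ k (j : I) (h : i₀ ⟶ j), P k j h → ∀ (j' : I) (h' : j ⟶ j'), P k j' (h ≫ h'))
    (hex : ∀ k, ∃ (j : I) (h : i₀ ⟶ j), P k j h) :
    ∃ (j : I) (h : i₀ ⟶ j), ∀ k, P k j h := by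
  classical
  have := Fintype.ofFinite κ
  choose jk hk hPk using hex
  obtain ⟨j₀, k₀, h⟩ := exists_common_bound (i := i₀)
    (Finset.univ.image (fun k => (⟨jk k, hk k⟩ : Σ j : I, (i₀ ⟶ j))))
  refine ⟨j₀, k₀, fun k => ?_⟩
  obtain ⟨u, hu⟩ := h ⟨jk k, hk k⟩ (Finset.mem_image_of_mem _ (Finset.mem_univ k))
  rw [← hu]
  exact hP k _ _ (hPk k) _ u

/-- S3060: surjectivity. -/
lemma exists_factor_of_isCoherent {P : Sh J → Prop} (hgen : Gen P) (hP : ∀ K, P K → IsQC K)
    {X : Sh J} (hX : IsCoherent X) (f : X ⟶ colimit D) :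
    ∃ (i : I) (a : X ⟶ D.obj i), a ≫ colimit.ι D i = f := by
  -- pull back the canonical cover of the colimit
  have hcov : JEpi (fun i => pullback.snd (colimit.ι D i) f) :=
    (jepi_colimit_ι D).pullback f (fun i => pullback.fst (colimit.ι D i) f) _
      (fun i => IsPullback.of_hasPullback _ _)
  obtain ⟨κ, hκ, G, π, i, φ, hG, hπ, hφ⟩ := IsQC.exists_finite_refinement hgen hX.1 _ hcov
  -- maps to the stages
  let g : ∀ k, G k ⟶ D.obj (i k) := fun k => φ k ≫ pullback.fst (colimit.ι D (i k)) f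
  have hg : ∀ k, g k ≫ colimit.ι D (i k) = π k ≫ f := fun k => by
    rw [← hφ k, Category.assoc, Category.assoc, pullback.condition]
  -- a common stage
  obtain ⟨i₀, hi₀⟩ := exists_upper_bound i
  let v : ∀ k, i k ⟶ i₀ := fun k => (hi₀ k).some
  obtain ⟨g', hg'⟩ : ∃ g' : ∀ k, G k ⟶ D.obj i₀, ∀ k, g' k ≫ colimit.ι D i₀ = π k ≫ f :=
    ⟨fun k => g k ≫ D.map (v k), fun k => by rw [Category.assoc, colimit.w, hg]⟩
  -- equalize on the overlaps
  have hR : ∀ p : κ × κ, IsQC (pullback (π p.1) (π p.2)) := fun p =>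
    hX.2 _ _ _ _ (hP _ (hG p.1)) (hP _ (hG p.2))
  obtain ⟨j, h, hj⟩ := exists_common_eq (κ := κ × κ) (i₀ := i₀)
    (fun p j h => pullback.fst (π p.1) (π p.2) ≫ g' p.1 ≫ D.map h =
      pullback.snd (π p.1) (π p.2) ≫ g' p.2 ≫ D.map h)
    (by
      intro p j h hp j' h'
      rw [D.map_comp, ← Category.assoc (g' p.1), ← Category.assoc (g' p.2),
        ← Category.assoc (pullback.fst _ _), ← Category.assoc (pullback.snd _ _), hp])
    (by
      intro p
      obtain ⟨j, h, hh⟩ := IsQC.eq_of_colimit_ι_eq D (hR p)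
        (pullback.fst (π p.1) (π p.2) ≫ g' p.1) (pullback.snd (π p.1) (π p.2) ≫ g' p.2) (by
          rw [Category.assoc, Category.assoc, hg', hg', ← Category.assoc, ← Category.assoc,
            pullback.condition])
      exact ⟨j, h, by simpa only [Category.assoc] using hh⟩)
  -- descend
  obtain ⟨fj, hfj⟩ := exists_desc_of_jepi π hπ (fun k => g' k ≫ D.map h) (by
    intro k l U x y hxy
    obtain ⟨z, hz1, hz2⟩ := pullback_sec_ex (π k) (π l) x y hxy
    have := congrArg (fun t => ap t z) (hj (k, l))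
    simp only [ap_comp] at this
    rw [hz1, hz2] at this
    simpa only [ap_comp] using this)
  refine ⟨j, fj, hπ.jsep _ _ _ (fun k => ?_)⟩
  rw [← Category.assoc, hfj k, Category.assoc, colimit.w, hg']

/-- S3060. -/
lemma isFP_of_isCoherent {P : Sh J → Prop} (hgen : Gen P) (hP : ∀ K, P K → IsQC K)
    {X : Sh J} (hX : IsCoherent X) :
    Function.Bijective (colimit.post D (coyoneda.obj (op X))) := by
  refine ⟨(isQC_iff_post_injective X).1 hX.1 I D, ?_⟩
  rw [post_surjective_iff]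
  exact exists_factor_of_isCoherent D hgen hP hX

end Filtered

end Groth.Agent.Lib.Helper6.TF
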