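import Mathlib
import Groth.Agent.S3060
import Groth.Agent.Lib.Helper16FiltColim
import Groth.Agent.Lib.Helper16FunctInj
import Groth.Agent.Lib.Helper9TFCartan

/-!
# Cohomology with respect to objects of a sheaf topos and filtered colimits (helper9)

`H^q(K, -) = Ext^q(ℤ[K], -)` commutes with filtered colimits of abelian sheaves for `K` in a class of
objects `BB` of the topos satisfying the hypotheses `ColimData` (SGA 4 VI 5.1-5.2, in the form of the
Stacks project: relative Cartan criterion + dimension shifting with functorial injective embeddings).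
-/

set_option autoImplicit false
set_option linter.unusedSectionVars false
set_option linter.style.haveILetI false
universe u
open CategoryTheory CategoryTheory.Limits Opposite Simplicial AlgebraicTopology Abelian

namespace Groth.Agent.Lib.Helper9.TFColim

open Groth.Agent.Lib.Helper16.CoAcyc Groth.Agent.S6161 Groth.Agent.S6151 Groth.Agent.S12106
open Groth.Agent.Lib.Helper9 Groth.Agent.Lib.Helper9.TFCartan Groth.Agent.Lib.Helper9.TFNerve
open Groth.Agent.Lib.Helper16.FiltColim Groth.Agent.Lib.Helper16.FunctInj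

variable {C : Type u} [SmallCategory C] (J : GrothendieckTopology C)

section UfColim

variable {Λ : Type u} [SmallCategory Λ] [IsFiltered Λ]

/-- the forgetful functor from abelian sheaves to sheaves of sets preserves filtered colimits -/
instance preservesColimitsOfShape_Uf : PreservesColimitsOfShape Λ (Uf J) := by
  constructor
  intro F
  let Q : Λ ⥤ (Cᵒᵖ ⥤ AddCommGrpCat.{u}) := F ⋙ sheafToPresheaf J AddCommGrpCat.{u}
  let LA := presheafToSheaf J AddCommGrpCat.{u}
  let LT := presheafToSheaf J (Type u)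
  let W := (Functor.whiskeringRight Cᵒᵖ AddCommGrpCat.{u} (Type u)).obj (forget AddCommGrpCat.{u})
  let α : W ⋙ LT ≅ LA ⋙ Uf J :=
    sheafComposeNatIso J (forget AddCommGrpCat.{u}) (sheafificationAdjunction J _)
      (sheafificationAdjunction J _)
  have e : Q ⋙ LA ≅ F :=
    Functor.associator _ _ _ ≪≫ Functor.isoWhiskerLeft F (sheafificationNatIso J AddCommGrpCat.{u}).symm ≪≫
      F.rightUnitor
  haveI : PreservesColimitsOfShape Λ (forget AddCommGrpCat.{u}) :=
    PreservesFilteredColimitsOfSize.preserves_filtered_colimits Λ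
  haveI : PreservesColimitsOfSize.{u, u} LT := (sheafificationAdjunction J _).leftAdjoint_preservesColimits
  haveI : PreservesColimitsOfSize.{u, u} LA := (sheafificationAdjunction J _).leftAdjoint_preservesColimits
  have : PreservesColimit (Q ⋙ LA) (Uf J) := by
    apply preservesColimit_of_preserves_colimit_cocone (isColimitOfPreserves LA (colimit.isColimit Q))
    have h1 : IsColimit ((W ⋙ LT).mapCocone (colimit.cocone Q)) :=
      isColimitOfPreserves (W ⋙ LT) (colimit.isColimit Q)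
    exact (IsColimit.mapCoconeEquiv α h1)
  exact preservesColimit_of_iso_diagram (Uf J) e

end UfColim

section Good

variable {Λ : Type u} [SmallCategory Λ]

variable {J}

/-- elementwise "filtered colimit" condition on Hom sets in the topos -/
structure GoodHomE (X : Sheaf J (Type u)) {D : Λ ⥤ Sheaf J (Type u)} (c : Cocone D) : Prop where
  surj : ∀ φ : X ⟶ c.pt, ∃ (i : Λ) (φi : X ⟶ D.obj i), φi ≫ c.ι.app i = φ
  inj : ∀ (i : Λ) (a b : X ⟶ D.obj i), a ≫ c.ι.app i = b ≫ c.ι.app i →
    ∃ (j : Λ) (h : i ⟶ j), a ≫ D.map h = b ≫ D.map h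

/-- elementwise "filtered colimit" condition on Hom groups -/
structure GoodHom {𝒜 : Type*} [Category 𝒜] [Preadditive 𝒜] (X : 𝒜) {D : Λ ⥤ 𝒜} (c : Cocone D) :
    Prop where
  surj : ∀ φ : X ⟶ c.pt, ∃ (i : Λ) (φi : X ⟶ D.obj i), φi ≫ c.ι.app i = φ
  inj : ∀ (i : Λ) (φi : X ⟶ D.obj i), φi ≫ c.ι.app i = 0 →
    ∃ (j : Λ) (h : i ⟶ j), φi ≫ D.map h = 0

theorem goodHomE_of_isCoherent [IsFiltered Λ] (hE : ToposFin.HasQCGenerators J)
    {X : Sheaf J (Type u)} (hX : ToposFin.IsCoherent X) {D : Λ ⥤ Sheaf J (Type u)} (c : Cocone D)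
    (hc : IsColimit c) : GoodHomE X c := by
  have hb := Groth.Agent.S3060.result hE X hX Λ D
  let e : c.pt ≅ colimit D := hc.coconePointUniqueUpToIso (colimit.isColimit D)
  have he : ∀ i, c.ι.app i ≫ e.hom = colimit.ι D i := fun i =>
    hc.comp_coconePointUniqueUpToIso_hom (colimit.isColimit D) i
  constructor
  · intro φ
    obtain ⟨i, a, ha⟩ := (Groth.Agent.Lib.Helper6.TF.post_surjective_iff D X).1 hb.2 (φ ≫ e.hom)
    refine ⟨i, a, ?_⟩
    rw [← cancel_mono e.hom, Category.assoc, he, ha]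
  · intro i a b hab
    refine (Groth.Agent.Lib.Helper6.TF.post_injective_iff D X).1 hb.1 i a b ?_
    rw [← he, ← Category.assoc, ← Category.assoc, hab]

theorem goodHom_Φ (X : Sheaf J (Type u)) {D : Λ ⥤ Sheaf J AddCommGrpCat.{u}} (c : Cocone D)
    (h : GoodHomE X ((Uf J).mapCocone c)) : GoodHom ((Φ J).obj X) c := by
  constructor
  · intro φ
    obtain ⟨i, a, ha⟩ := h.surj ((adj J).homEquiv X c.pt φ)
    refine ⟨i, ((adj J).homEquiv X (D.obj i)).symm a, ?_⟩
    apply ((adj J).homEquiv X c.pt).injective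
    rw [Adjunction.homEquiv_naturality_right, Equiv.apply_symm_apply]
    exact ha
  · intro i φi hφi
    have h1 : (adj J).homEquiv X (D.obj i) φi ≫ (Uf J).map (c.ι.app i) =
        (adj J).homEquiv X (D.obj i) 0 ≫ (Uf J).map (c.ι.app i) := by
      rw [← Adjunction.homEquiv_naturality_right, ← Adjunction.homEquiv_naturality_right, hφi,
        zero_comp]
    obtain ⟨j, a, ha⟩ := h.inj i _ _ h1
    refine ⟨j, a, ?_⟩
    apply ((adj J).homEquiv X (D.obj j)).injective
    have h2 : (adj J).homEquiv X (D.obj i) φi ≫ (Uf J).map (D.map a) =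
        (adj J).homEquiv X (D.obj i) 0 ≫ (Uf J).map (D.map a) := ha
    rw [← Adjunction.homEquiv_naturality_right, ← Adjunction.homEquiv_naturality_right,
      zero_comp] at h2
    exact h2

theorem goodExt_zero_of_goodHom {𝒜 : Type (u + 1)} [Category.{u} 𝒜] [Abelian 𝒜] [HasExt.{u} 𝒜]
    (X : 𝒜) {D : Λ ⥤ 𝒜} (c : Cocone D) (h : GoodHom X c) : GoodExt.{u} X 0 c := by
  constructor
  · intro x
    obtain ⟨φ, rfl⟩ := (Ext.mk₀_bijective _ _).2 x
    obtain ⟨i, φi, hφi⟩ := h.surj φ
    refine ⟨i, Ext.mk₀ φi, ?_⟩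
    rw [push_apply, Ext.mk₀_comp_mk₀, hφi]
  · intro i y hy
    obtain ⟨φi, rfl⟩ := (Ext.mk₀_bijective _ _).2 y
    rw [push_apply, Ext.mk₀_comp_mk₀] at hy
    have h0 : φi ≫ c.ι.app i = 0 := by
      apply (Ext.mk₀_bijective _ _).1
      rw [hy, Ext.mk₀_zero]
    obtain ⟨j, a, ha⟩ := h.inj i φi h0
    refine ⟨j, a, ?_⟩
    rw [push_apply, Ext.mk₀_comp_mk₀, ha, Ext.mk₀_zero]

end Good

section CechColim

variable {Λ : Type u} [SmallCategory Λ]

theorem cechAcyc_colimit {K' K : Sheaf J (Type u)} (f : K' ⟶ K)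
    (D : Λ ⥤ Sheaf J AddCommGrpCat.{u}) (c : Cocone D) (hgood : ∀ n, GoodHom (A J f n) c)
    (hD : ∀ i, CechAcyc J f (D.obj i)) : CechAcyc J f c.pt := by
  intro n φ hφ
  obtain ⟨i, φi, hφi⟩ := (hgood (n + 2)).surj φ
  have h0 : (dA J f (n + 2) ≫ φi) ≫ c.ι.app i = 0 := by rw [Category.assoc, hφi, hφ]
  obtain ⟨j, a, ha⟩ := (hgood (n + 3)).inj i _ h0
  obtain ⟨ψ, hψ⟩ := hD j n (φi ≫ D.map a) (by rw [← Category.assoc]; exact ha)
  refine ⟨ψ ≫ c.ι.app j, ?_⟩
  rw [← Category.assoc, hψ, Category.assoc, c.w, hφi]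

end CechColim

section Main

variable (BB CC : Sheaf J (Type u) → Prop)

/-- hypotheses on the two classes -/
structure ColimData : Prop extends CovData J BB CC where
  le : ∀ X, BB X → CC X
  trans : ∀ (S : ShortComplex (Sheaf J AddCommGrpCat.{u})), S.ShortExact →
    (∀ K, BB K → Lifts J S K) → ∀ X, CC X → Lifts J S X
  good : ∀ X, CC X → ∀ (Λ : Type u) [SmallCategory Λ] [IsFiltered Λ]
    (D : Λ ⥤ Sheaf J AddCommGrpCat.{u}) (c : Cocone D), IsColimit c → GoodHom ((Φ J).obj X) c

variable {BB CC}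

theorem goodHom_A (H : ColimData J BB CC) {K' K : Sheaf J (Type u)} (f : K' ⟶ K) (hK : BB K)
    (hK' : CC K') {Λ : Type u} [SmallCategory Λ] [IsFiltered Λ]
    (D : Λ ⥤ Sheaf J AddCommGrpCat.{u}) (c : Cocone D) (hc : IsColimit c) (n : ℕ) :
    GoodHom (A J f n) c :=
  match n with
  | 0 => H.good K (H.le K hK) Λ D c hc
  | n + 1 => H.good _ (H.nerve f hK hK' n) Λ D c hc

theorem PPrel_colimit (H : ColimData J BB CC) {Λ : Type u} [SmallCategory Λ] [IsFiltered Λ]
    (D : Λ ⥤ Sheaf J AddCommGrpCat.{u}) (c : Cocone D) (hc : IsColimit c)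
    (hD : ∀ i, PPrel J BB CC (D.obj i)) : PPrel J BB CC c.pt := by
  intro K' K f hf hK hK'
  exact cechAcyc_colimit J f D c (goodHom_A J H f hK hK' D c hc) (fun i => hD i K' K f hf hK hK')

theorem PPrel_of_injective (I : Sheaf J AddCommGrpCat.{u}) [Injective I] : PPrel J BB CC I := by
  intro K' K f hf _ _
  haveI := hf
  exact cechAcyc_of_injective J f I

theorem goodExt_main (H : ColimData J BB CC) (p : ℕ) : ∀ (K : Sheaf J (Type u)), BB K →
    ∀ (Λ : Type u) [SmallCategory Λ] [IsFiltered Λ] (F : Λ ⥤ Sheaf J AddCommGrpCat.{u}),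
      GoodExt.{u} ((Φ J).obj K) p (colimit.cocone F) := by
  induction p with
  | zero =>
    intro K hK Λ _ _ F
    exact goodExt_zero_of_goodHom _ _ (H.good K (H.le K hK) Λ F _ (colimit.isColimit F))
  | succ p ih =>
    intro K hK Λ _ _ F
    have hM' : ∀ x : Ext.{u} ((Φ J).obj K) (colimit (sc.{u} F).X₂) (p + 1), x = 0 := by
      intro x
      refine ext_eq_zero_of_PPrel J H.toCovData H.trans p _ ?_ K hK x
      exact PPrel_colimit J H (sc.{u} F).X₂ (colimit.cocone _) (colimit.isColimit _)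
        (fun i => PPrel_of_injective J _)
    exact goodExt_succ ((Φ J).obj K) p (sc.{u} F).f (sc.{u} F).g _
      (fun i => sc_shortExact_eval.{u} F i)
      (colimit.cocone F) (colimit.cocone (sc.{u} F).X₂) (colimit.cocone (sc.{u} F).X₃)
      (colimMap (sc.{u} F).f) (colimMap (sc.{u} F).g) _ (sc_shortExact_colim.{u} F)
      (fun i => ι_colimMap _ i) (fun i => ι_colimMap _ i)
      (fun i x => Ext.eq_zero_of_injective x) hM'
      (ih K hK Λ (sc.{u} F).X₂) (ih K hK Λ (sc.{u} F).X₃)

/-- `Ext^q(ℤ[K], -)` preserves filtered colimits for `K` in the class `BB`. -/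
theorem preservesColimitsOfShape_ext (H : ColimData J BB CC) (K : Sheaf J (Type u)) (hK : BB K)
    (Λ : Type u) [SmallCategory Λ] [IsFiltered Λ] (q : ℕ) :
    PreservesColimitsOfShape Λ ((extFunctor.{u} q).obj (op ((Φ J).obj K))) := by
  constructor
  intro F
  have hg := goodExt_main J H q K hK Λ F
  refine preservesColimit_of_preserves_colimit_cocone (colimit.isColimit F) (isColimitOfGood ?_)
  constructor
  · intro x
    obtain ⟨i, y, hy⟩ := hg.surj x
    exact ⟨i, y, hy⟩
  · intro i y hy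
    exact hg.inj i y hy

/-- filtered colimits of `BB`-acyclic sheaves are `BB`-acyclic -/
theorem ext_colimit_eq_zero (H : ColimData J BB CC) {Λ : Type u} [SmallCategory Λ] [IsFiltered Λ]
    (D : Λ ⥤ Sheaf J AddCommGrpCat.{u}) (c : Cocone D) (hc : IsColimit c)
    (hD : ∀ i, PPrel J BB CC (D.obj i)) (K : Sheaf J (Type u)) (hK : BB K) (p : ℕ)
    (x : Ext.{u} ((Φ J).obj K) c.pt (p + 1)) : x = 0 :=
  ext_eq_zero_of_PPrel J H.toCovData H.trans p _ (PPrel_colimit J H D c hc hD) K hK x

end Main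

end Groth.Agent.Lib.Helper9.TFColim
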