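import Mathlib
import Groth.Prelude.Def_ModSite
import Groth.Agent.Lib.Helper21SheafHomFP
import Groth.Agent.Lib.Helper21RetractFreeSite
import Groth.Agent.Lib.Helper9TFColim
import Groth.Agent.S7575
import Groth.Agent.S0484

/-!
# Helper21: `Hom(G, -) ≅ Γ(T, ℋom(G, -))`; `Hom(G, -)` commutes with directed colimits on suitable
ringed spaces for `G` of finite presentation
-/

set_option autoImplicit false
universe u
open CategoryTheory CategoryTheory.Limits Opposite

namespace Groth.Agent.Lib.Helper21.HomColim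

open Groth.Agent.Lib.Helper21.ModTensor3 Groth.Agent.Lib.Helper21.ModTensor5
  Groth.Agent.Lib.Helper21.ModTensor7

attribute [local instance] Groth.Agent.Lib.Helper21.ExtShDelta.hasSheafHom

noncomputable section

variable {C : Type u} [SmallCategory C] {J : GrothendieckTopology C} (O : Sheaf J CommRingCat.{u})
  {T : C} (hT : IsTerminal T)

/-- sections at `T`, as a functor to types. -/
def ΓT (T : C) : ModSite.Mod O ⥤ Type u :=
  SheafOfModules.toSheaf (ModSite.ringSh O) ⋙ Groth.Agent.S12106.Uf J ⋙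
    sheafToPresheaf J (Type u) ⋙ (evaluation Cᵒᵖ (Type u)).obj (op T)

/-- `Hom(G, F) ≃ ℋom(G, F)(T)`. -/
def homSecEquiv (G F : ModSite.Mod O) :
    (G ⟶ F) ≃ ((ModSite.sheafHom G).obj F).val.obj (op T) where
  toFun f := RetractFreeSite.unitEquiv (ModSite.ringSh O) hT _
    ((ModSite.sheafHomAdj G).homEquiv (ModSite.unit O) F (((tLUnitIso O).app G).hom ≫ f))
  invFun s := ((tLUnitIso O).app G).inv ≫
    ((ModSite.sheafHomAdj G).homEquiv (ModSite.unit O) F).symm
      ((RetractFreeSite.unitEquiv (ModSite.ringSh O) hT _).symm s)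
  left_inv f := by
    dsimp only
    rw [AddEquiv.symm_apply_apply, Equiv.symm_apply_apply, Iso.inv_hom_id_assoc]
  right_inv s := by
    dsimp only
    rw [Iso.hom_inv_id_assoc, Equiv.apply_symm_apply, AddEquiv.apply_symm_apply]

theorem homSecEquiv_naturality (G : ModSite.Mod O) {F F' : ModSite.Mod O} (ψ : F ⟶ F')
    (f : G ⟶ F) :
    homSecEquiv O hT G F' (f ≫ ψ) =
      ((ModSite.sheafHom G).map ψ).val.app (op T) (homSecEquiv O hT G F f) := by
  unfold homSecEquiv
  dsimp only [Equiv.coe_fn_mk]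
  rw [← Category.assoc, Adjunction.homEquiv_naturality_right]
  rfl

/-- `Hom(G, -) ≅ Γ(T, ℋom(G, -))`. -/
def coyonedaIso (G : ModSite.Mod O) :
    coyoneda.obj (op G) ≅ ModSite.sheafHom G ⋙ ΓT O T :=
  NatIso.ofComponents (fun F => (homSecEquiv O hT G F).toIso) (by
    intro F F' ψ
    ext f
    exact homSecEquiv_naturality O hT G ψ f)

include hT in
theorem preservesColimit_coyoneda_of (G : ModSite.Mod O) {Λ : Type u} [SmallCategory Λ]
    [IsFiltered Λ] (D : Λ ⥤ ModSite.Mod O) [PreservesColimit D (ModSite.sheafHom G)]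
    (hev : PreservesColimit
      (((D ⋙ ModSite.sheafHom G) ⋙ SheafOfModules.toSheaf (ModSite.ringSh O)) ⋙
        Groth.Agent.S12106.Uf J)
      (sheafToPresheaf J (Type u) ⋙ (evaluation Cᵒᵖ (Type u)).obj (op T))) :
    PreservesColimit D (coyoneda.obj (op G)) := by
  haveI := hev
  haveI : PreservesColimit (D ⋙ ModSite.sheafHom G)
      (SheafOfModules.toSheaf (ModSite.ringSh O)) :=
    (Groth.Agent.S0484.preservesColimitsOfShape_toSheaf J (ModSite.ringSh O) Λ).preservesColimit
  haveI : PreservesColimit ((D ⋙ ModSite.sheafHom G) ⋙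
      SheafOfModules.toSheaf (ModSite.ringSh O)) (Groth.Agent.S12106.Uf J) :=
    (Groth.Agent.Lib.Helper9.TFColim.preservesColimitsOfShape_Uf J (Λ := Λ)).preservesColimit
  haveI : PreservesColimit D (ModSite.sheafHom G ⋙ ΓT O T) := by
    unfold ΓT
    infer_instance
  exact preservesColimit_of_natIso D (coyonedaIso O hT G).symm

end

section top

open TopologicalSpace

variable {X : TopCat.{u}}

theorem preservesColimit_ev_top
    (hX : ∀ (ι : Type u) (V : ι → Opens X), iSup V = ⊤ →
      ∃ (J : Type u) (_ : Finite J) (U : J → Opens X), iSup U = ⊤ ∧ (∀ j, ∃ i, U j ≤ V i) ∧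
        ∀ j j', IsCompact ((U j ⊓ U j' : Opens X) : Set X))
    {I : Type u} [Preorder I] [Nonempty I] [IsDirected I (· ≤ ·)]
    (E : I ⥤ TopCat.Sheaf (Type u) X) :
    PreservesColimit E (sheafToPresheaf (Opens.grothendieckTopology X) (Type u) ⋙
      (evaluation (Opens X)ᵒᵖ (Type u)).obj (op ⊤)) := by
  haveI : HasColimit E :=
    ⟨⟨⟨Groth.Agent.S7575.c' E, Groth.Agent.S7575.hc' E⟩⟩⟩
  apply preservesColimit_of_preserves_colimit_cocone (colimit.isColimit E)
  have h := Groth.Agent.S7575.result E (colimit.cocone E) (colimit.isColimit E) ⊤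
  have h4 := h.2.2.2 (by
    intro 𝒱 h𝒱
    have h1 : iSup (fun v : 𝒱 => (v.1 : Opens X)) = ⊤ := by
      rw [← h𝒱, iSup_subtype']
    obtain ⟨Jf, hfin, U, hU, href, hcomp⟩ := hX 𝒱 (fun v => v.1) h1
    haveI := hfin
    let e : Jf ≃ Fin (Nat.card Jf) := Finite.equivFin Jf
    refine ⟨Nat.card Jf, fun j => U (e.symm j), ?_, ?_, ?_⟩
    · intro j
      obtain ⟨i, hi⟩ := href (e.symm j)
      exact ⟨i.1, i.2, hi⟩
    · rw [← hU]
      exact e.symm.iSup_comp (g := U)
    · intro j j'
      exact hcomp _ _)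
  have hiso : IsIso ((colimit.isColimit (E ⋙ sheafToPresheaf (Opens.grothendieckTopology X) (Type u) ⋙
      (evaluation (Opens X)ᵒᵖ (Type u)).obj (op ⊤))).desc
      ((sheafToPresheaf (Opens.grothendieckTopology X) (Type u) ⋙
        (evaluation (Opens X)ᵒᵖ (Type u)).obj (op ⊤)).mapCocone (colimit.cocone E))) :=
    (isIso_iff_bijective _).2 h4
  exact @IsColimit.ofPointIso _ _ _ _ _ _ _ (colimit.isColimit _) hiso

end top

end Groth.Agent.Lib.Helper21.HomColim
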