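import Mathlib
import Groth.Agent.Lib.Helper1PC15
import Groth.Agent.Lib.Helper3FlatCxBT
import Groth.Agent.Lib.Helper3FlatCxRank
set_option backward.isDefEq.respectTransparency.types false

/-!
# Rank of the stalks of a locally free module; `dRank` of a complex with free homology (helper21)

* `finrank_stalk_of_restrict_iso_freeMod`: if `M|_U ≅ O_U^n` then `M_x` has rank `n` for `x ∈ U`.
* `flat_opcycles_of_flat_homology`: a bounded below chain complex of flat modules all of whose
  homology modules are flat has flat `opcycles`.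
* `dRank_eq_finrank_homology`: for such a complex with free homology, the fibre dimension
  `dRank P p x` equals the rank of `H_p(P)` at every point.
-/

set_option autoImplicit false
set_option linter.style.haveILetI false
universe u
open CategoryTheory CategoryTheory.Limits AlgebraicGeometry

namespace Groth.Agent.Lib.Helper21.LCA

open Groth.Agent.Lib.Helper1.Sky Groth.Agent.Lib.Helper1.CI Groth.Agent.Lib.Helper1.StalkTensor
open Groth.Agent.Lib.Helper1.FLF Groth.Agent.Lib.Helper1.SPL

section Stalk

variable {X : Scheme.{u}}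

lemma finrank_of_iso {R : Type u} [CommRing R] {M N : ModuleCat.{u} R} (e : M ≅ N) :
    Module.finrank R M = Module.finrank R N :=
  LinearEquiv.finrank_eq e.toLinearEquiv

open Groth.Agent.Lib.Helper23.UnitStalk in
/-- the stalk of a free module of rank `n` has rank `n` -/
lemma finrank_stalk_freeMod (U : Scheme.{u}) (n : ℕ) (y : U) :
    Module.finrank (Groth.Agent.Lib.Helper1.Sky.Ox y) ((stalkFun y).obj (FlatMod.freeMod U n)) = n := by
  let Z₀ : ModuleCat.{u} (Groth.Agent.Lib.Helper1.Sky.Ox y) := (stalkFun y).obj (Coh.structureModule U)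
  have e3 : Groth.Agent.Lib.Helper1.Sky.Ox y ≃ₗ[Groth.Agent.Lib.Helper1.Sky.Ox y] Z₀ := unitStalkEquiv y
  haveI : Module.Free (Groth.Agent.Lib.Helper1.Sky.Ox y) Z₀ := Module.Free.of_equiv e3
  haveI : Module.Finite (Groth.Agent.Lib.Helper1.Sky.Ox y) Z₀ := Module.Finite.equiv e3
  have h1 : Module.finrank (Groth.Agent.Lib.Helper1.Sky.Ox y) Z₀ = 1 := by
    rw [← LinearEquiv.finrank_eq e3]
    exact Module.finrank_self _
  let e1 : (stalkFun y).obj (FlatMod.freeMod U n) ≅ ∐ (fun _ : Fin n => Z₀) :=
    PreservesCoproduct.iso (stalkFun y) (fun _ : Fin n => Coh.structureModule U)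
  let e2 := ModuleCat.coprodIsoDirectSum (fun _ : Fin n => Z₀)
  rw [finrank_of_iso (e1 ≪≫ e2)]
  have h2 : Module.finrank (Groth.Agent.Lib.Helper1.Sky.Ox y) (DirectSum (Fin n) (fun _ => Z₀)) =
      ∑ _i : Fin n, Module.finrank (Groth.Agent.Lib.Helper1.Sky.Ox y) Z₀ :=
    Module.finrank_directSum (Groth.Agent.Lib.Helper1.Sky.Ox y) (fun _ : Fin n => (Z₀ : Type u))
  have h3 : Module.finrank (Groth.Agent.Lib.Helper1.Sky.Ox y) ((ModuleCat.of (Groth.Agent.Lib.Helper1.Sky.Ox y) (DirectSum (Fin n) (fun _ => Z₀)) :
      ModuleCat.{u} (Groth.Agent.Lib.Helper1.Sky.Ox y))) = ∑ _i : Fin n, Module.finrank (Groth.Agent.Lib.Helper1.Sky.Ox y) Z₀ := h2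
  rw [h3, h1]
  simp

/-- finrank is invariant under extension of scalars along a bijective ring homomorphism -/
lemma finrank_extendScalars {A B : Type u} [CommRing A] [CommRing B] [Nontrivial A] [Nontrivial B]
    (σ : A →+* B) (M : ModuleCat.{u} A) [Module.Free A M] :
    Module.finrank B ((ModuleCat.extendScalars.{u, u, u} σ).obj M) = Module.finrank A M := by
  letI : Algebra A B := σ.toAlgebra
  show Module.finrank B (TensorProduct A B M) = Module.finrank A M
  exact Module.finrank_baseChange

/-- if the restriction of `M` along an open immersion is free of rank `n`, the stalks of `M` at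
the points of the image have rank `n` -/
theorem finrank_stalk_of_restrict_iso_freeMod' (M : X.Modules) {U : Scheme.{u}} (j : U ⟶ X)
    [IsOpenImmersion j] (n : ℕ) (e : M.restrict j ≅ FlatMod.freeMod U n) (y : U) :
    Module.finrank (X.presheaf.stalk (j y)) (M.presheaf.stalk (j y)) = n := by
  have h := finrank_stalk_freeMod U n y
  obtain ⟨hfree, -⟩ := free_finite_stalk_of_restrict_iso_freeMod M j n e y
  let ε : (stalkFun y).obj (FlatMod.freeMod U n) ≅
      (ModuleCat.extendScalars.{u, u, u} (j.stalkMap y).hom).obj ((stalkFun (j y)).obj M) :=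
    (stalkFun y).mapIso e.symm ≪≫
      (stalkFun y).mapIso ((Scheme.Modules.restrictFunctorIsoPullback j).app M) ≪≫
      (stalkPullbackIso j y).app M
  have h2 := finrank_of_iso ε
  rw [h] at h2
  haveI : Module.Free (Groth.Agent.Lib.Helper1.Sky.Ox (j y)) ((stalkFun (j y)).obj M) := hfree
  have h3 := finrank_extendScalars (j.stalkMap y).hom ((stalkFun (j y)).obj M)
  rw [← h2] at h3
  exact h3.symm

theorem finrank_stalk_of_restrict_iso_freeMod (M : X.Modules) (U : X.Opens) (n : ℕ)
    (e : M.restrict U.ι ≅ FlatMod.freeMod (↑U) n) (x : X) (hx : x ∈ U) :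
    Module.finrank (X.presheaf.stalk x) (M.presheaf.stalk x) = n :=
  finrank_stalk_of_restrict_iso_freeMod' M U.ι n e ⟨x, hx⟩

theorem free_stalk_of_restrict_iso_freeMod (M : X.Modules) (U : X.Opens) (n : ℕ)
    (e : M.restrict U.ι ≅ FlatMod.freeMod (↑U) n) (x : X) (hx : x ∈ U) :
    Module.Free (X.presheaf.stalk x) (M.presheaf.stalk x) :=
  (free_finite_stalk_of_restrict_iso_freeMod M U.ι n e ⟨x, hx⟩).1

end Stalk

section Alg

open Groth.Agent.Lib.Helper3

variable {A : Type u} [CommRing A]

/-- a bounded below chain complex of flat modules with flat homology has flat `opcycles` -/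
theorem flat_opcycles_of_flat_homology (P : ChainComplex (ModuleCat.{u} A) ℤ)
    (hP : ∀ i, Module.Flat A (P.X i)) (b : ℤ) (hb : ∀ i : ℤ, i < b → IsZero (P.X i))
    (hH : ∀ i, Module.Flat A (P.homology i)) : ∀ q : ℤ, Module.Flat A (P.opcycles q) := by
  have hlow : ∀ q : ℤ, q < b → Module.Flat A (P.opcycles q) := by
    intro q hq
    have hz : IsZero (P.opcycles q) := by
      rw [IsZero.iff_id_eq_zero, ← cancel_epi (P.pOpcycles q)]
      have : P.pOpcycles q = 0 := (hb q hq).eq_of_src _ _
      rw [this, zero_comp, zero_comp]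
    haveI : Subsingleton (P.opcycles q) := ModuleCat.subsingleton_of_isZero hz
    infer_instance
  have hstep : ∀ q : ℤ, Module.Flat A (P.opcycles q) → Module.Flat A (P.opcycles (q + 1)) := by
    intro q hq
    haveI := hq
    haveI := hP q
    exact (flat_opcycles_iff_flat_homology P (q + 1) q (by simp)).mpr (hH (q + 1))
  intro q
  by_cases hq : q < b
  · exact hlow q hq
  · have hle : b - 1 ≤ q := by omega
    exact Int.le_induction (m := b - 1) (hlow _ (by omega)) (fun n _ h => hstep n h) q hle

/-- for a bounded below complex of flat modules with free homology, the fibre dimension is the rank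
of the homology -/
theorem dRank_eq_finrank_homology [Nontrivial A] (P : ChainComplex (ModuleCat.{u} A) ℤ)
    (hP : ∀ i, Module.Flat A (P.X i)) (b : ℤ) (hb : ∀ i : ℤ, i < b → IsZero (P.X i))
    (hH : ∀ i, Module.Free A (P.homology i)) (p : ℤ) (x : PrimeSpectrum A) :
    CohIII.dRank P p x = Module.finrank A (P.homology p) := by
  have hfl := flat_opcycles_of_flat_homology P hP b hb (fun i => by
    haveI := hH i
    infer_instance)
  haveI := hP (p - 1)
  haveI := hfl (p - 1)
  haveI := hH p
  rw [dRank_eq_fd_homology P p x]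
  exact fd_of_free _ x

end Alg

end Groth.Agent.Lib.Helper21.LCA
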