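import Mathlib
import Groth.Prelude.Def_ega3

/-!
# Transport of exactness properties along `G ≅ T ⋙ forget₂` (helper21)
-/
set_option autoImplicit false
universe u
open CategoryTheory CategoryTheory.Limits

namespace Groth.Agent.Lib.Helper21.TFunH

variable {A : Type u} [CommRing A] {G : ModuleCat.{u} A ⥤ AddCommGrpCat.{u}}
  {T : ModuleCat.{u} A ⥤ ModuleCat.{u} A}
  (e : G ≅ T ⋙ forget₂ (ModuleCat.{u} A) AddCommGrpCat.{u})

include e in
lemma map_comm {M N : ModuleCat.{u} A} (g : M ⟶ N) (x : G.obj M) :
    (e.hom.app N).hom ((G.map g).hom x) = (T.map g).hom ((e.hom.app M).hom x) := by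
  have h := e.hom.naturality g
  have h2 := congrArg (fun k => k.hom x) h
  exact h2

include e in
lemma surjective_iff {M N : ModuleCat.{u} A} (g : M ⟶ N) :
    Function.Surjective (G.map g).hom ↔ Function.Surjective (T.map g).hom := by
  have hinvN : ∀ y, (e.hom.app N).hom ((e.inv.app N).hom y) = y := fun y => by
    have := congrArg (fun k => k.hom y) (e.inv_hom_id_app N)
    exact this
  have hinvM : ∀ y, (e.hom.app M).hom ((e.inv.app M).hom y) = y := fun y => by
    have := congrArg (fun k => k.hom y) (e.inv_hom_id_app M)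
    exact this
  have hinvN' : ∀ y, (e.inv.app N).hom ((e.hom.app N).hom y) = y := fun y => by
    have := congrArg (fun k => k.hom y) (e.hom_inv_id_app N)
    exact this
  constructor
  · intro h y
    obtain ⟨x, hx⟩ := h ((e.inv.app N).hom y)
    refine ⟨(e.hom.app M).hom x, ?_⟩
    rw [← map_comm e g x, hx, hinvN]
  · intro h y
    obtain ⟨x, hx⟩ := h ((e.hom.app N).hom y)
    refine ⟨(e.inv.app M).hom x, ?_⟩
    apply_fun (e.hom.app N).hom using (by
      intro a b hab
      rw [← hinvN' a, ← hinvN' b, hab])
    rw [map_comm e g, hinvM, hx]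

include e in
lemma injective_iff {M N : ModuleCat.{u} A} (g : M ⟶ N) :
    Function.Injective (G.map g).hom ↔ Function.Injective (T.map g).hom := by
  have hinvM : ∀ y, (e.hom.app M).hom ((e.inv.app M).hom y) = y := fun y => by
    have := congrArg (fun k => k.hom y) (e.inv_hom_id_app M)
    exact this
  have hinvM' : ∀ y, (e.inv.app M).hom ((e.hom.app M).hom y) = y := fun y => by
    have := congrArg (fun k => k.hom y) (e.hom_inv_id_app M)
    exact this
  have hinvN' : ∀ y, (e.inv.app N).hom ((e.hom.app N).hom y) = y := fun y => by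
    have := congrArg (fun k => k.hom y) (e.hom_inv_id_app N)
    exact this
  constructor
  · intro h a b hab
    have h1 : (G.map g).hom ((e.inv.app M).hom a) = (G.map g).hom ((e.inv.app M).hom b) := by
      rw [← hinvN' ((G.map g).hom ((e.inv.app M).hom a)),
        ← hinvN' ((G.map g).hom ((e.inv.app M).hom b)), map_comm e g, map_comm e g, hinvM, hinvM,
        hab]
    have h2 := h h1
    rw [← hinvM a, ← hinvM b, h2]
  · intro h a b hab
    have h1 : (T.map g).hom ((e.hom.app M).hom a) = (T.map g).hom ((e.hom.app M).hom b) := by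
      rw [← map_comm e g, ← map_comm e g, hab]
    have h2 := h h1
    rw [← hinvM' a, ← hinvM' b, h2]

include e in
lemma preservesEpimorphisms_iff :
    G.PreservesEpimorphisms ↔ T.PreservesEpimorphisms := by
  constructor
  · intro h
    refine ⟨fun {M N} g hg => ?_⟩
    rw [ModuleCat.epi_iff_surjective, ← surjective_iff e g, ← AddCommGrpCat.epi_iff_surjective]
    exact h.preserves g
  · intro h
    refine ⟨fun {M N} g hg => ?_⟩
    rw [AddCommGrpCat.epi_iff_surjective]
    exact (surjective_iff e g).2 ((ModuleCat.epi_iff_surjective _).1 (h.preserves g))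

include e in
lemma preservesMonomorphisms_iff :
    G.PreservesMonomorphisms ↔ T.PreservesMonomorphisms := by
  constructor
  · intro h
    refine ⟨fun {M N} g hg => ?_⟩
    rw [ModuleCat.mono_iff_injective, ← injective_iff e g, ← AddCommGrpCat.mono_iff_injective]
    exact h.preserves g
  · intro h
    refine ⟨fun {M N} g hg => ?_⟩
    rw [AddCommGrpCat.mono_iff_injective]
    exact (injective_iff e g).2 ((ModuleCat.mono_iff_injective _).1 (h.preserves g))

end Groth.Agent.Lib.Helper21.TFunH
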