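import Groth.Prelude.Def_ega3
import Groth.Agent.Lib.Helper21Dual12
import Groth.Agent.Lib.Helper21Dual9
import Groth.Agent.Lib.Helper21ModTensor7
import Groth.Agent.Lib.Helper21UnitHom
import Groth.Agent.Lib.Helper21LCA
import Groth.Agent.Lib.Helper26TensStalk
import Groth.Agent.Lib.Helper26TensFlat
import Groth.Agent.Lib.Helper27LocFF
import Groth.Agent.Lib.Helper4CurveChi
import Groth.Agent.S2436

/-!
# Helper21: `Hom(E, f^*(M~) ⊗ F)` for `E` finite locally free is corepresentable

`Hom(E, Y) ≃+ Γ(X, Y ⊗ E^∨)` naturally in `Y` (duality adjunction `- ⊗ E ⊣ - ⊗ E^∨`), so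
`M ↦ Hom(E, f^*(M~) ⊗ F)` is `M ↦ Γ(X, f^*(M~) ⊗ (F ⊗ E^∨))`, corepresentable by S2436.
Also: kernels of natural transformations between corepresentable abelian-group valued functors
are corepresentable, and two subfunctors with the same image are isomorphic.
-/

set_option autoImplicit false
universe u
open Coherent CategoryTheory CategoryTheory.Limits AlgebraicGeometry Opposite TensorProduct
open Groth.Agent.Lib.Helper21.ModTensor3 Groth.Agent.Lib.Helper21.Dual
  Groth.Agent.Lib.Helper21.ModTensor6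
  Groth.Agent.Lib.Helper21.ModTensor7 Groth.Agent.Lib.Helper21.UnitHom

namespace Groth.Agent.Lib.Helper21.HomLF

section Gen

/-- precomposition with an isomorphism, additively -/
noncomputable def precompAddEquiv {𝒞 : Type*} [Category 𝒞] [Preadditive 𝒞] {E E' : 𝒞} (e : E' ≅ E)
    (Y : 𝒞) : (E ⟶ Y) ≃+ (E' ⟶ Y) where
  toFun f := e.hom ≫ f
  invFun g := e.inv ≫ g
  left_inv f := by simp
  right_inv g := by simp
  map_add' f g := Preadditive.comp_add _ _ _ _ _ _

end Gen

section Img

variable {C : Type*} [Category C]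

/-- two subfunctors (to abelian groups) with the same image are isomorphic -/
theorem nonempty_iso_of_same_image (S S' T : C ⥤ AddCommGrpCat.{u}) (α : S ⟶ T) (β : S' ⟶ T)
    (hα : ∀ M, Function.Injective (α.app M).hom) (hβ : ∀ M, Function.Injective (β.app M).hom)
    (h : ∀ (M : C) (t : T.obj M), (∃ x, (α.app M).hom x = t) ↔ ∃ y, (β.app M).hom y = t) :
    Nonempty (S ≅ S') := by
  have hr : ∀ M, (α.app M).hom.range = (β.app M).hom.range := by
    intro M
    ext t
    exact h M t
  let e : ∀ M, S.obj M ≃+ S'.obj M := fun M =>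
    (AddMonoidHom.ofInjective (hα M)).trans
      ((AddEquiv.addSubgroupCongr (hr M)).trans (AddMonoidHom.ofInjective (hβ M)).symm)
  have he : ∀ M (x : S.obj M), (β.app M).hom (e M x) = (α.app M).hom x := by
    intro M x
    have h1 := (AddMonoidHom.ofInjective (hβ M)).apply_symm_apply
      ((AddEquiv.addSubgroupCongr (hr M)) (AddMonoidHom.ofInjective (hα M) x))
    exact congrArg Subtype.val h1
  refine ⟨NatIso.ofComponents (fun M => (e M).toAddCommGrpIso) ?_⟩
  intro M M' g
  ext x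
  apply hβ M'
  change (β.app M').hom (e M' ((S.map g).hom x)) = (β.app M').hom ((S'.map g).hom (e M x))
  rw [he]
  have h1 := congrArg (fun k => k.hom x) (α.naturality g)
  have h2 := congrArg (fun k => k.hom (e M x)) (β.naturality g)
  change (α.app M').hom ((S.map g).hom x) = (T.map g).hom ((α.app M).hom x) at h1
  change (β.app M').hom ((S'.map g).hom (e M x)) = (T.map g).hom ((β.app M).hom (e M x)) at h2
  rw [h1, h2, he]

end Img

section Ker

variable {A : Type u} [CommRing A]

/-- `Hom_A(Q, -)` as a functor to abelian groups -/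
noncomputable abbrev LA (Q : ModuleCat.{u} A) : ModuleCat.{u} A ⥤ AddCommGrpCat.{u} :=
  (linearCoyoneda A (ModuleCat.{u} A)).obj (op Q) ⋙ forget₂ (ModuleCat.{u} A) AddCommGrpCat.{u}

/-- kernels of natural transformations between corepresentable functors are corepresentable
(abelian-group valued version) -/
theorem kernel_corep_ab (S S' : ModuleCat.{u} A ⥤ AddCommGrpCat.{u})
    (Q Q' : ModuleCat.{u} A) (φ : S ≅ LA Q) (φ' : S' ≅ LA Q') (hQ : Module.Finite A Q)
    (η : S ⟶ S') :
    ∃ (R : ModuleCat.{u} A) (ι : LA R ⟶ S),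
      Module.Finite A R ∧ (∀ M : ModuleCat.{u} A, Function.Injective (ι.app M).hom) ∧
        ∀ (M : ModuleCat.{u} A) (x : S.obj M), (η.app M).hom x = 0 ↔ ∃ y, (ι.app M).hom y = x := by
  -- the transported natural transformation
  let η' : LA Q ⟶ LA Q' := φ.inv ≫ η ≫ φ'.hom
  let u : Q' ⟶ Q := (η'.app Q).hom (𝟙 Q)
  have hη' : ∀ (M : ModuleCat.{u} A) (g : Q ⟶ M), (η'.app M).hom g = u ≫ g := by
    intro M g
    have h := η'.naturality g
    have h2 := congrArg (fun k => k.hom (𝟙 Q)) h
    have h3 : (η'.app M).hom (𝟙 Q ≫ g) = (η'.app Q).hom (𝟙 Q) ≫ g := h2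
    rw [Category.id_comp] at h3
    exact h3
  let R : ModuleCat.{u} A := ModuleCat.of A (Q ⧸ LinearMap.range u.hom)
  let π : Q ⟶ R := ModuleCat.ofHom (LinearMap.range u.hom).mkQ
  have hπs : Function.Surjective π.hom := Submodule.mkQ_surjective _
  have : Epi π := (ModuleCat.epi_iff_surjective π).2 hπs
  have huπ : u ≫ π = 0 := by
    ext x
    change (LinearMap.range u.hom).mkQ (u.hom x) = 0
    rw [Submodule.mkQ_apply, Submodule.Quotient.mk_eq_zero]
    exact ⟨x, rfl⟩
  have hfac : ∀ (M : ModuleCat.{u} A) (g : Q ⟶ M), u ≫ g = 0 → ∃ y : R ⟶ M, π ≫ y = g := by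
    intro M g hg
    refine ⟨ModuleCat.ofHom ((LinearMap.range u.hom).liftQ g.hom ?_), ?_⟩
    · rintro _ ⟨x, rfl⟩
      have := congrArg (fun k => k.hom x) hg
      exact this
    · ext x
      rfl
  let ι' : LA R ⟶ LA Q :=
    Functor.whiskerRight ((linearCoyoneda A (ModuleCat.{u} A)).map π.op) _
  have hφ : ∀ (M : ModuleCat.{u} A) (x : S.obj M), (φ.inv.app M).hom ((φ.hom.app M).hom x) = x := by
    intro M x
    have := congrArg (fun k => k.hom x) (φ.hom_inv_id_app M)
    exact this
  have hφ2 : ∀ (M : ModuleCat.{u} A) (g : Q ⟶ M), (φ.hom.app M).hom ((φ.inv.app M).hom g) = g := by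
    intro M g
    have := congrArg (fun k => k.hom g) (φ.inv_hom_id_app M)
    exact this
  have hφ' : ∀ (M : ModuleCat.{u} A) (x : S'.obj M),
      (φ'.inv.app M).hom ((φ'.hom.app M).hom x) = x := by
    intro M x
    have := congrArg (fun k => k.hom x) (φ'.hom_inv_id_app M)
    exact this
  have hηx : ∀ (M : ModuleCat.{u} A) (x : S.obj M),
      (η'.app M).hom ((φ.hom.app M).hom x) = (φ'.hom.app M).hom ((η.app M).hom x) := by
    intro M x
    change (φ'.hom.app M).hom ((η.app M).hom ((φ.inv.app M).hom ((φ.hom.app M).hom x))) = _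
    rw [hφ]
  refine ⟨R, ι' ≫ φ.inv, ?_, ?_, ?_⟩
  · exact Module.Finite.of_surjective (LinearMap.range u.hom).mkQ hπs
  · intro M y y' h
    have h1 : (φ.inv.app M).hom (π ≫ y) = (φ.inv.app M).hom (π ≫ y') := h
    have h2 := congrArg (fun z => (φ.hom.app M).hom z) h1
    simp only [hφ2] at h2
    exact (cancel_epi π).1 h2
  · intro M x
    constructor
    · intro hx
      have h1 : u ≫ (φ.hom.app M).hom x = 0 := by
        rw [← hη', hηx, hx, map_zero]
        rfl
      obtain ⟨y, hy⟩ := hfac M _ h1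
      refine ⟨y, ?_⟩
      change (φ.inv.app M).hom (π ≫ y) = x
      rw [hy, hφ]
    · rintro ⟨y, rfl⟩
      have h1 : (φ'.hom.app M).hom ((η.app M).hom ((φ.inv.app M).hom (π ≫ y))) = 0 := by
        rw [← hηx, hφ2, hη', ← Category.assoc, huπ, zero_comp]
        rfl
      have h2 := congrArg (fun z => (φ'.inv.app M).hom z) h1
      simp only [hφ', map_zero] at h2
      exact h2

end Ker

section Site

variable {C : Type u} [SmallCategory C] {J : GrothendieckTopology C} {O : Sheaf J CommRingCat.{u}}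
  {T : C} (hT : IsTerminal T)

/-- `Hom(E, Y) ≃+ Γ(Y ⊗ E^∨)` for `E` locally finite free -/
noncomputable def homΓ (E : ModSite.Mod O) (hE : IsLocFF E) (Y : ModSite.Mod O) :
    (E ⟶ Y) ≃+ ((tR O (dual E)).obj Y).val.obj (op T) :=
  (precompAddEquiv ((tLUnitIso O).app E) Y).trans
    (((dualAdj E hE).homAddEquiv (ModSite.unit O) Y).trans (unitHomAddEquiv hT _))

theorem homΓ_naturality (E : ModSite.Mod O) (hE : IsLocFF E) {Y Y' : ModSite.Mod O} (g : Y ⟶ Y')
    (f : E ⟶ Y) :
    homΓ hT E hE Y' (f ≫ g) = ((tR O (dual E)).map g).val.app (op T) (homΓ hT E hE Y f) := by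
  change unitHomAddEquiv hT _ ((dualAdj E hE).homEquiv (ModSite.unit O) Y'
    (((tLUnitIso O).app E).hom ≫ f ≫ g)) = _
  rw [← Category.assoc, Adjunction.homEquiv_naturality_right]
  rfl

end Site

section Flat

variable {X S : Scheme.{u}}

theorem isCoh_tensorMod_isFinLocFree (F E : X.Modules) (hF : Coh.IsCoh F)
    (hE : FlatMod.IsFinLocFree E) : Coh.IsCoh (CohB1.tensorMod F E) := by
  have hEfp := Groth.Agent.Lib.Helper2.LocFree.isFP_of_isFinLocFree E hE
  have : E.IsQuasicoherent := Groth.Agent.Helper18Strict.isQCoh_of_isFP E hEfp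
  have : SheafOfModules.IsFiniteType (R := X.ringCatSheaf) E :=
    Groth.Agent.Helper18Strict.isFT_of_isFP E hEfp
  have : F.IsQuasicoherent := hF.1
  have : SheafOfModules.IsFiniteType (R := X.ringCatSheaf) F := hF.2
  exact ⟨Groth.Agent.Lib.Helper23.TensorQCoh.isQuasicoherent_tensorMod F E,
    Groth.Agent.Lib.Helper23.TensorQCoh.isFiniteType_tensorMod F E⟩

theorem isFlatOver_tensorMod_isFinLocFree (f : X ⟶ S) (F E : X.Modules)
    (hfl : FlatMod.IsFlatOver f F) (hE : FlatMod.IsFinLocFree E) :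
    FlatMod.IsFlatOver f (CohB1.tensorMod F E) := by
  intro x
  obtain ⟨U, n, hxU, ⟨e⟩⟩ := hE x
  have hfree : Module.Free (X.presheaf.stalk x) (E.presheaf.stalk x) :=
    Groth.Agent.Lib.Helper21.LCA.free_stalk_of_restrict_iso_freeMod E U n e x hxU
  letI aCB : Algebra (S.presheaf.stalk (f x)) (X.presheaf.stalk x) := (f.stalkMap x).hom.toAlgebra
  letI mF := FlatMod.moduleStalkOver f F x
  letI mE := FlatMod.moduleStalkOver f E x
  letI mT := FlatMod.moduleStalkOver f (CohB1.tensorMod F E) x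
  have : IsScalarTower (S.presheaf.stalk (f x)) (X.presheaf.stalk x) (F.presheaf.stalk x) :=
    IsScalarTower.of_algebraMap_smul (fun _ _ => rfl)
  have : IsScalarTower (S.presheaf.stalk (f x)) (X.presheaf.stalk x) (E.presheaf.stalk x) :=
    IsScalarTower.of_algebraMap_smul (fun _ _ => rfl)
  have : IsScalarTower (S.presheaf.stalk (f x)) (X.presheaf.stalk x)
      ((CohB1.tensorMod F E).presheaf.stalk x) :=
    IsScalarTower.of_algebraMap_smul (fun _ _ => rfl)
  have : Module.Flat (S.presheaf.stalk (f x)) (F.presheaf.stalk x) := hfl x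
  have key : Module.Flat (S.presheaf.stalk (f x))
      ((E.presheaf.stalk x : Type u) ⊗[(X.presheaf.stalk x : Type u)]
        (F.presheaf.stalk x : Type u)) := Groth.Agent.Lib.Helper26.TensFlat.flat_tensor
  let e1 := (Groth.Agent.Lib.Helper26.TensStalk.tensorStalk F E x).trans
    (TensorProduct.comm (X.presheaf.stalk x : Type u) (F.presheaf.stalk x : Type u)
      (E.presheaf.stalk x : Type u))
  have goal : Module.Flat (S.presheaf.stalk (f x)) ((CohB1.tensorMod F E).presheaf.stalk x) :=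
    Module.Flat.of_linearEquiv (e1.restrictScalars (S.presheaf.stalk (f x)))
  exact goal

end Flat

section Sch

variable (A : Type u) [CommRing A] {X : Scheme.{u}} [X.Over (Spec (CommRingCat.of A))]

/-- `Hom(E, -) ≅ Γ(X, - ⊗ E^∨)` as functors to abelian groups -/
noncomputable def coyonedaIso (E : X.Modules) (hE : FlatMod.IsFinLocFree E) :
    preadditiveCoyoneda.obj (op E) ≅
      tR X.sheaf (dual (O := X.sheaf) E) ⋙ CohIII.globalSectionsA A ⋙
        forget₂ (ModuleCat.{u} A) AddCommGrpCat.{u} :=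
  NatIso.ofComponents
    (fun Y => AddEquiv.toAddCommGrpIso
      (homΓ (O := X.sheaf) Limits.isTerminalTop E (isLocFF_of_isFinLocFree E hE) Y))
    (by
      intro Y Y' g
      ext f
      exact homΓ_naturality (O := X.sheaf) Limits.isTerminalTop E _ g f)

/-- `(f^*(M~) ⊗ F) ⊗ D ≅ f^*(M~) ⊗ (F ⊗ D)`, naturally in `M` -/
noncomputable def tensorADualIso (F D : X.Modules) :
    CohIII.tensorAFunctor A F ⋙ tR X.sheaf D ≅ CohIII.tensorAFunctor A (CohB1.tensorMod F D) :=
  Functor.isoWhiskerLeft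
    (tilde.functor (CommRingCat.of A) ⋙ Scheme.Modules.pullback (X ↘ Spec (CommRingCat.of A)))
    (tRTensorIso X.sheaf F D)

/-- `M ↦ Hom(E, f^*(M~) ⊗ F)` is corepresentable for `E` finite locally free -/
theorem exists_corep_hom [IsNoetherianRing A] (X : Scheme.{u}) [X.Over (Spec (CommRingCat.of A))]
    [IsProper (X ↘ Spec (CommRingCat.of A))]
    (F : X.Modules) (hF : Coh.IsCoh F) (hfl : FlatMod.IsFlatOver (X ↘ Spec (CommRingCat.of A)) F)
    (E : X.Modules) (hE : FlatMod.IsFinLocFree E) :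
    ∃ Q : ModuleCat.{u} A, Module.Finite A Q ∧
      Nonempty (CohIII.tensorAFunctor A F ⋙ preadditiveCoyoneda.obj (op E) ≅ LA Q) := by
  have hD : FlatMod.IsFinLocFree (dual (O := X.sheaf) E) :=
    Groth.Agent.Lib.Helper27LocFF.isFinLocFree_dual E hE
  have hcoh : Coh.IsCoh (CohB1.tensorMod F (dual (O := X.sheaf) E)) :=
    isCoh_tensorMod_isFinLocFree F _ hF hD
  have hflat : FlatMod.IsFlatOver (X ↘ Spec (CommRingCat.of A))
      (CohB1.tensorMod F (dual (O := X.sheaf) E)) :=
    isFlatOver_tensorMod_isFinLocFree _ F _ hfl hD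
  obtain ⟨Q, hQ, ⟨φ⟩⟩ := Groth.Agent.S2436.exists_corep A X _ hcoh hflat
  refine ⟨Q, hQ, ⟨?_⟩⟩
  let i1 : CohIII.tensorAFunctor A F ⋙ preadditiveCoyoneda.obj (op E) ≅
      (CohIII.tensorAFunctor A F ⋙ tR X.sheaf (dual (O := X.sheaf) E)) ⋙
        CohIII.globalSectionsA A ⋙ forget₂ (ModuleCat.{u} A) AddCommGrpCat.{u} :=
    Functor.isoWhiskerLeft (CohIII.tensorAFunctor A F) (coyonedaIso A E hE)
  let i2 : (CohIII.tensorAFunctor A F ⋙ tR X.sheaf (dual (O := X.sheaf) E)) ⋙
        CohIII.globalSectionsA A ⋙ forget₂ (ModuleCat.{u} A) AddCommGrpCat.{u} ≅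
      (CohIII.tensorAFunctor A (CohB1.tensorMod F (dual (O := X.sheaf) E)) ⋙
        CohIII.globalSectionsA A) ⋙ forget₂ (ModuleCat.{u} A) AddCommGrpCat.{u} :=
    Functor.isoWhiskerRight (tensorADualIso A F (dual (O := X.sheaf) E))
      (CohIII.globalSectionsA A ⋙ forget₂ (ModuleCat.{u} A) AddCommGrpCat.{u})
  exact i1 ≪≫ i2 ≪≫ Functor.isoWhiskerRight φ _

end Sch

end Groth.Agent.Lib.Helper21.HomLF
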