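import Mathlib
import Groth.Prelude.Def_ModSite
import Groth.Agent.Lib.Helper21HomTensor2

open CategoryTheory MonoidalCategory Opposite Limits

universe u

namespace Groth.Agent.Lib.Helper21.HomTensor

open Groth.Agent.Lib.Helper21.ModTensor Groth.Agent.Lib.Helper21.ModTensor2
  Groth.Agent.Lib.Helper21.ModTensor3 Groth.Agent.Lib.Helper21.ModTensor4
  Groth.Agent.Lib.Helper21.ModTensor5
  Groth.Agent.Lib.Helper21.ModTensor6 Groth.Agent.Lib.Helper21.ModRestr
  Groth.Agent.Lib.Helper21.LocFact Groth.Agent.Lib.Helper21.SheafHomFP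
  Groth.Agent.Lib.Helper21.DerLES2 Groth.Agent.Lib.Helper21.Dual
  Groth.Agent.Lib.Helper21.RestrExact

attribute [local instance] Groth.Agent.Lib.Helper21.ExtShDelta.hasSheafHom

variable {C : Type u} [SmallCategory C] {J : GrothendieckTopology C} (O : Sheaf J CommRingCat.{u})
  (U : C)

/-- presheaf-level restriction iso for triple tensors. -/
noncomputable def τ₀ (P Q R : PM O) :
    (resP O U).obj ((P ⊗ Q) ⊗ R) ≅
      (((resP O U).obj P ⊗ (resP O U).obj Q) ⊗ (resP O U).obj R : PM (O.over U)) :=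
  resTensorIso O U (P ⊗ Q) R ≪≫ whiskerRightIso (resTensorIso O U P Q) ((resP O U).obj R)

theorem τ₀_inv (P Q R : PM O) :
    (τ₀ O U P Q R).inv = ((resTensorIso O U P Q).inv ▷ (resP O U).obj R) ≫
      (resTensorIso O U (P ⊗ Q) R).inv := rfl

theorem τ₀_s₀ (P Q R : PM O) :
    (τ₀ O U P Q R).inv ≫ (resP O U).map (s₀ O P Q R).hom =
      (s₀ (O.over U) ((resP O U).obj P) ((resP O U).obj Q) ((resP O U).obj R)).hom ≫
        (τ₀ O U P R Q).inv := by
  ext A : 1
  apply ModuleCat.MonoidalCategory.tensor_ext₃'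
  intro p q r
  rfl

/-- sheaf-level restriction iso `(a((P ⊗ Q) ⊗ R))|_U ≅ a((P| ⊗ Q|) ⊗ R|)`. -/
noncomputable def ρ₀ (P Q R : PM O) :
    (ModSite.restr O U).obj ((shf O).obj ((P ⊗ Q) ⊗ R)) ≅
      (shf (O.over U)).obj
        (((resP O U).obj P ⊗ (resP O U).obj Q) ⊗ (resP O U).obj R : PM (O.over U)) :=
  (shfResIso O U ((P ⊗ Q) ⊗ R)).symm ≪≫ (shf (O.over U)).mapIso (τ₀ O U P Q R)

/-- (S): the swap commutes with `ρ₀`. -/
theorem ρ₀_s₀ (P Q R : PM O) :
    (ρ₀ O U P Q R).inv ≫ (ModSite.restr O U).map ((shf O).map (s₀ O P Q R).hom) =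
      (shf (O.over U)).map
        (s₀ (O.over U) ((resP O U).obj P) ((resP O U).obj Q) ((resP O U).obj R)).hom ≫
        (ρ₀ O U P R Q).inv := by
  have h1 := shfResIso_nat O U (s₀ O P Q R).hom
  have h2 := τ₀_s₀ O U P Q R
  have h3 : (shf (O.over U)).map (τ₀ O U P Q R).inv ≫
      (shf (O.over U)).map ((resP O U).map (s₀ O P Q R).hom) =
      (shf (O.over U)).map
        (s₀ (O.over U) ((resP O U).obj P) ((resP O U).obj Q) ((resP O U).obj R)).hom ≫
        (shf (O.over U)).map (τ₀ O U P R Q).inv := by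
    rw [← Functor.map_comp, ← Functor.map_comp, h2]
  calc (ρ₀ O U P Q R).inv ≫ (ModSite.restr O U).map ((shf O).map (s₀ O P Q R).hom)
      = (shf (O.over U)).map (τ₀ O U P Q R).inv ≫ ((shfResIso O U ((P ⊗ Q) ⊗ R)).hom ≫
          (ModSite.restr O U).map ((shf O).map (s₀ O P Q R).hom)) := Category.assoc _ _ _
    _ = (shf (O.over U)).map (τ₀ O U P Q R).inv ≫
          ((shf (O.over U)).map ((resP O U).map (s₀ O P Q R).hom) ≫
            (shfResIso O U ((P ⊗ R) ⊗ Q)).hom) :=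
        congrArg ((shf (O.over U)).map (τ₀ O U P Q R).inv ≫ ·) h1.symm
    _ = ((shf (O.over U)).map (τ₀ O U P Q R).inv ≫
          (shf (O.over U)).map ((resP O U).map (s₀ O P Q R).hom)) ≫
            (shfResIso O U ((P ⊗ R) ⊗ Q)).hom := (Category.assoc _ _ _).symm
    _ = ((shf (O.over U)).map
        (s₀ (O.over U) ((resP O U).obj P) ((resP O U).obj Q) ((resP O U).obj R)).hom ≫
        (shf (O.over U)).map (τ₀ O U P R Q).inv) ≫ (shfResIso O U ((P ⊗ R) ⊗ Q)).hom :=
        congrArg (· ≫ (shfResIso O U ((P ⊗ R) ⊗ Q)).hom) h3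
    _ = _ := Category.assoc _ _ _

/-- restriction iso `(a(a(P ⊗ Q) ⊗ R))|_U ≅ a(a(P| ⊗ Q|) ⊗ R|)`. -/
noncomputable def ν₀ (P Q R : PM O) :
    (ModSite.restr O U).obj ((shf O).obj (aa O (P ⊗ Q) ⊗ R)) ≅
      (shf (O.over U)).obj
        (aa (O.over U) ((resP O U).obj P ⊗ (resP O U).obj Q) ⊗ (resP O U).obj R :
          PM (O.over U)) :=
  μP O U (aa O (P ⊗ Q)) R ≪≫
    (shf (O.over U)).mapIso
      (whiskerRightIso ((fgt (O.over U)).mapIso (μP O U P Q)) ((resP O U).obj R))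

theorem ν₀_hom (P Q R : PM O) :
    (ν₀ O U P Q R).hom = (μP O U (aa O (P ⊗ Q)) R).hom ≫
      (shf (O.over U)).map ((fgt (O.over U)).map (μP O U P Q).hom ▷ (resP O U).obj R) := rfl

theorem ν₀_inv (P Q R : PM O) :
    (ν₀ O U P Q R).inv =
      (shf (O.over U)).map ((fgt (O.over U)).map (μP O U P Q).inv ▷ (resP O U).obj R) ≫
        (μP O U (aa O (P ⊗ Q)) R).inv := rfl

/-- (E): `ν₀` is compatible with the `eta`-whiskers. -/
theorem eta_ν₀ (P Q R : PM O) :
    (shf (O.over U)).map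
        (eta (O.over U) ((resP O U).obj P ⊗ (resP O U).obj Q : PM (O.over U)) ▷
          (resP O U).obj R) ≫ (ν₀ O U P Q R).inv =
      (ρ₀ O U P Q R).inv ≫ (ModSite.restr O U).map ((shf O).map (eta O (P ⊗ Q) ▷ R)) := by
  set P' := (resP O U).obj P with hP'
  set Q' := (resP O U).obj Q with hQ'
  set R' := (resP O U).obj R with hR'
  set X := aa O (P ⊗ Q) with hX
  have hab : (shf (O.over U)).map (eta (O.over U) (P' ⊗ Q' : PM (O.over U)) ▷ R') ≫
      (shf (O.over U)).map ((fgt (O.over U)).map (μP O U P Q).inv ▷ R') =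
      (shf (O.over U)).map
        (((resTensorIso O U P Q).inv ≫ (resP O U).map (eta O (P ⊗ Q))) ▷ R') := by
    rw [← Functor.map_comp, ← comp_whiskerRight]
    exact (shf (O.over U)).congr_map (congrArg (· ▷ R') (μP_inv_eta O U P Q))
  have step1 : (((resTensorIso O U P Q).inv ≫ (resP O U).map (eta O (P ⊗ Q))) ▷ R') ≫
      (resTensorIso O U X R).inv =
      ((resTensorIso O U P Q).inv ▷ R') ≫ (resTensorIso O U (P ⊗ Q) R).inv ≫
        (resP O U).map (eta O (P ⊗ Q) ▷ R) := by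
    rw [comp_whiskerRight, Category.assoc]
    exact congrArg (((resTensorIso O U P Q).inv ▷ R') ≫ ·)
      (resTensorIso_inv_nat_left O U (eta O (P ⊗ Q)) R)
  have step2 := shfResIso_nat O U (eta O (P ⊗ Q) ▷ R)
  have hμ : (μP O U X R).inv = (shf (O.over U)).map (resTensorIso O U X R).inv ≫
      (shfResIso O U (X ⊗ R)).hom := rfl
  rw [ν₀_inv, hμ]
  calc (shf (O.over U)).map (eta (O.over U) (P' ⊗ Q' : PM (O.over U)) ▷ R') ≫
        (shf (O.over U)).map ((fgt (O.over U)).map (μP O U P Q).inv ▷ R') ≫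
        (shf (O.over U)).map (resTensorIso O U X R).inv ≫ (shfResIso O U (X ⊗ R)).hom
      = ((shf (O.over U)).map (eta (O.over U) (P' ⊗ Q' : PM (O.over U)) ▷ R') ≫
        (shf (O.over U)).map ((fgt (O.over U)).map (μP O U P Q).inv ▷ R')) ≫
        (shf (O.over U)).map (resTensorIso O U X R).inv ≫ (shfResIso O U (X ⊗ R)).hom :=
        (Category.assoc _ _ _).symm
    _ = (shf (O.over U)).map
        (((resTensorIso O U P Q).inv ≫ (resP O U).map (eta O (P ⊗ Q))) ▷ R') ≫
        (shf (O.over U)).map (resTensorIso O U X R).inv ≫ (shfResIso O U (X ⊗ R)).hom :=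
        congrArg (· ≫ (shf (O.over U)).map (resTensorIso O U X R).inv ≫
          (shfResIso O U (X ⊗ R)).hom) hab
    _ = (shf (O.over U)).map ((((resTensorIso O U P Q).inv ≫
            (resP O U).map (eta O (P ⊗ Q))) ▷ R') ≫ (resTensorIso O U X R).inv) ≫
          (shfResIso O U (X ⊗ R)).hom := by
        rw [Functor.map_comp, Category.assoc]
    _ = (shf (O.over U)).map (((resTensorIso O U P Q).inv ▷ R') ≫
          (resTensorIso O U (P ⊗ Q) R).inv ≫ (resP O U).map (eta O (P ⊗ Q) ▷ R)) ≫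
          (shfResIso O U (X ⊗ R)).hom := by rw [step1]
    _ = (shf (O.over U)).map (((resTensorIso O U P Q).inv ▷ R') ≫
          (resTensorIso O U (P ⊗ Q) R).inv) ≫
          ((shf (O.over U)).map ((resP O U).map (eta O (P ⊗ Q) ▷ R)) ≫
          (shfResIso O U (X ⊗ R)).hom) := by
        rw [← Category.assoc ((resTensorIso O U P Q).inv ▷ R'), Functor.map_comp,
          Category.assoc]
    _ = (shf (O.over U)).map (((resTensorIso O U P Q).inv ▷ R') ≫
          (resTensorIso O U (P ⊗ Q) R).inv) ≫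
          ((shfResIso O U ((P ⊗ Q) ⊗ R)).hom ≫
            (ModSite.restr O U).map ((shf O).map (eta O (P ⊗ Q) ▷ R))) := by rw [step2]
    _ = _ := (Category.assoc _ _ _).symm

end Groth.Agent.Lib.Helper21.HomTensor
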