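import Mathlib
import Groth.Prelude.Def_ModSite
import Groth.Agent.Lib.Helper21HomTensor3

open CategoryTheory MonoidalCategory Opposite Limits

universe u

namespace Groth.Agent.Lib.Helper21.HomTensor

open Groth.Agent.Lib.Helper21.ModTensor Groth.Agent.Lib.Helper21.ModTensor2
  Groth.Agent.Lib.Helper21.ModTensor3 Groth.Agent.Lib.Helper21.ModTensor4
  Groth.Agent.Lib.Helper21.ModTensor5
  Groth.Agent.Lib.Helper21.ModTensor6 Groth.Agent.Lib.Helper21.ModRestr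
  Groth.Agent.Lib.Helper21.LocFact Groth.Agent.Lib.Helper21.SheafHomFP
  Groth.Agent.Lib.Helper21.DerLES2 Groth.Agent.Lib.Helper21.Dual
  Groth.Agent.Lib.Helper21.RestrExact

attribute [local instance] Groth.Agent.Lib.Helper21.ExtShDelta.hasSheafHom

variable {C : Type u} [SmallCategory C] {J : GrothendieckTopology C} (O : Sheaf J CommRingCat.{u})
  (U : C)

/-- (SR): the swap commutes with restriction. -/
theorem sw_restr (A H F : ModSite.Mod O) :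
    (ν₀ O U ((fgt O).obj A) ((fgt O).obj H) ((fgt O).obj F)).inv ≫
        (ModSite.restr O U).map (sw A H F).hom =
      (sw (O := O.over U) ((ModSite.restr O U).obj A) ((ModSite.restr O U).obj H)
        ((ModSite.restr O U).obj F)).hom ≫
        (ν₀ O U ((fgt O).obj A) ((fgt O).obj F) ((fgt O).obj H)).inv := by
  set A₀ := (fgt O).obj A with hA₀
  set H₀ := (fgt O).obj H with hH₀
  set F₀ := (fgt O).obj F with hF₀
  set A₀' := (resP O U).obj A₀ with hA₀'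
  set H₀' := (resP O U).obj H₀ with hH₀'
  set F₀' := (resP O U).obj F₀ with hF₀'
  let e₁ := (shf O).map (eta O (A₀ ⊗ H₀) ▷ F₀)
  let e₂ := (shf O).map (eta O (A₀ ⊗ F₀) ▷ H₀)
  let e₁' := (shf (O.over U)).map (eta (O.over U) (A₀' ⊗ H₀' : PM (O.over U)) ▷ F₀')
  let e₂' := (shf (O.over U)).map (eta (O.over U) (A₀' ⊗ F₀' : PM (O.over U)) ▷ H₀')
  haveI : IsIso e₁' := isIso_shf_map_eta_whiskerRight _ _
  have h1 : e₁ ≫ (sw A H F).hom = (shf O).map (s₀ O A₀ H₀ F₀).hom ≫ e₂ := swP_hom O A₀ H₀ F₀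
  have h1' : e₁' ≫ (swP (O.over U) A₀' H₀' F₀').hom =
      (shf (O.over U)).map (s₀ (O.over U) A₀' H₀' F₀').hom ≫ e₂' :=
    swP_hom (O.over U) A₀' H₀' F₀'
  have h2 : e₁' ≫ (ν₀ O U A₀ H₀ F₀).inv = (ρ₀ O U A₀ H₀ F₀).inv ≫ (ModSite.restr O U).map e₁ :=
    eta_ν₀ O U A₀ H₀ F₀
  have h3 : e₂' ≫ (ν₀ O U A₀ F₀ H₀).inv = (ρ₀ O U A₀ F₀ H₀).inv ≫ (ModSite.restr O U).map e₂ :=
    eta_ν₀ O U A₀ F₀ H₀
  have h4 := ρ₀_s₀ O U A₀ H₀ F₀
  have h5 : (ModSite.restr O U).map e₁ ≫ (ModSite.restr O U).map (sw A H F).hom =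
      (ModSite.restr O U).map ((shf O).map (s₀ O A₀ H₀ F₀).hom) ≫
        (ModSite.restr O U).map e₂ := by
    rw [← Functor.map_comp, ← Functor.map_comp]
    exact congrArg (ModSite.restr O U).map h1
  refine (cancel_epi e₁').1 ?_
  show e₁' ≫ (ν₀ O U A₀ H₀ F₀).inv ≫ (ModSite.restr O U).map (sw A H F).hom =
    e₁' ≫ (swP (O.over U) A₀' H₀' F₀').hom ≫ (ν₀ O U A₀ F₀ H₀).inv
  calc e₁' ≫ (ν₀ O U A₀ H₀ F₀).inv ≫ (ModSite.restr O U).map (sw A H F).hom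
      = (e₁' ≫ (ν₀ O U A₀ H₀ F₀).inv) ≫ (ModSite.restr O U).map (sw A H F).hom :=
        (Category.assoc _ _ _).symm
    _ = ((ρ₀ O U A₀ H₀ F₀).inv ≫ (ModSite.restr O U).map e₁) ≫
          (ModSite.restr O U).map (sw A H F).hom :=
        congrArg (· ≫ (ModSite.restr O U).map (sw A H F).hom) h2
    _ = (ρ₀ O U A₀ H₀ F₀).inv ≫ ((ModSite.restr O U).map e₁ ≫
          (ModSite.restr O U).map (sw A H F).hom) := Category.assoc _ _ _
    _ = (ρ₀ O U A₀ H₀ F₀).inv ≫ ((ModSite.restr O U).map ((shf O).map (s₀ O A₀ H₀ F₀).hom) ≫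
        (ModSite.restr O U).map e₂) := congrArg ((ρ₀ O U A₀ H₀ F₀).inv ≫ ·) h5
    _ = ((ρ₀ O U A₀ H₀ F₀).inv ≫ (ModSite.restr O U).map ((shf O).map (s₀ O A₀ H₀ F₀).hom)) ≫
        (ModSite.restr O U).map e₂ := (Category.assoc _ _ _).symm
    _ = ((shf (O.over U)).map (s₀ (O.over U) A₀' H₀' F₀').hom ≫ (ρ₀ O U A₀ F₀ H₀).inv) ≫
        (ModSite.restr O U).map e₂ := congrArg (· ≫ (ModSite.restr O U).map e₂) h4
    _ = (shf (O.over U)).map (s₀ (O.over U) A₀' H₀' F₀').hom ≫ ((ρ₀ O U A₀ F₀ H₀).inv ≫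
        (ModSite.restr O U).map e₂) := Category.assoc _ _ _
    _ = (shf (O.over U)).map (s₀ (O.over U) A₀' H₀' F₀').hom ≫ (e₂' ≫
        (ν₀ O U A₀ F₀ H₀).inv) :=
        congrArg ((shf (O.over U)).map (s₀ (O.over U) A₀' H₀' F₀').hom ≫ ·) h3.symm
    _ = ((shf (O.over U)).map (s₀ (O.over U) A₀' H₀' F₀').hom ≫ e₂') ≫
        (ν₀ O U A₀ F₀ H₀).inv := (Category.assoc _ _ _).symm
    _ = (e₁' ≫ (swP (O.over U) A₀' H₀' F₀').hom) ≫ (ν₀ O U A₀ F₀ H₀).inv :=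
        congrArg (· ≫ (ν₀ O U A₀ F₀ H₀).inv) h1'.symm
    _ = _ := Category.assoc _ _ _

end Groth.Agent.Lib.Helper21.HomTensor
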