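import Mathlib
import Groth.Prelude.Def_ModSite
import Groth.Agent.Lib.Helper21HomTensor4

open CategoryTheory MonoidalCategory Opposite Limits

universe u

namespace Groth.Agent.Lib.Helper21.HomTensor

open Groth.Agent.Lib.Helper21.ModTensor Groth.Agent.Lib.Helper21.ModTensor2
  Groth.Agent.Lib.Helper21.ModTensor3 Groth.Agent.Lib.Helper21.ModTensor4
  Groth.Agent.Lib.Helper21.ModTensor5
  Groth.Agent.Lib.Helper21.ModTensor6 Groth.Agent.Lib.Helper21.ModRestr
  Groth.Agent.Lib.Helper21.LocFact Groth.Agent.Lib.Helper21.SheafHomFP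
  Groth.Agent.Lib.Helper21.DerLES2 Groth.Agent.Lib.Helper21.Dual
  Groth.Agent.Lib.Helper21.RestrExact

attribute [local instance] Groth.Agent.Lib.Helper21.ExtShDelta.hasSheafHom

theorem aux_cancel {D : Type*} [Category D] {X₁ X₂ X₃ X₄ X₅ X₆ : D} (a : X₂ ⟶ X₁) (a' : X₁ ⟶ X₂)
    (m : X₂ ⟶ X₃) (s : X₃ ⟶ X₄) (n : X₄ ⟶ X₅) (n' : X₅ ⟶ X₄) (s' : X₁ ⟶ X₆) (b : X₆ ⟶ X₅)
    (ha : a ≫ a' = 𝟙 _) (hn : n' ≫ n = 𝟙 _) (h : (a' ≫ m) ≫ s = s' ≫ (b ≫ n')) :
    m ≫ s ≫ n = a ≫ s' ≫ b := by
  have h' := congrArg (fun t => a ≫ t ≫ n) h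
  simp only [Category.assoc] at h'
  rw [← Category.assoc a a', ha, Category.id_comp, hn, Category.comp_id] at h'
  exact h'

theorem aux_main {D : Type*} [Category D] {Y₁ Y₂ Y₃ Y₄ Y₅ Y₆ Y₇ Y₈ Y₉ Y₁₀ : D}
    (m1 : Y₁ ⟶ Y₂) (k : Y₂ ⟶ Y₃) (s : Y₂ ⟶ Y₄) (t : Y₄ ⟶ Y₃) (g : Y₃ ⟶ Y₅)
    (m2 : Y₄ ⟶ Y₆) (r : Y₆ ⟶ Y₅) (p : Y₁ ⟶ Y₇) (s' : Y₇ ⟶ Y₈) (q : Y₈ ⟶ Y₆)
    (bb : Y₇ ⟶ Y₉) (s'' : Y₉ ⟶ Y₁₀) (c' : Y₁₀ ⟶ Y₅) (b' : Y₈ ⟶ Y₁₀)
    (ha : k = s ≫ t) (hb : t ≫ g = m2 ≫ r) (hc : m1 ≫ s ≫ m2 = p ≫ s' ≫ q)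
    (hd : bb ≫ s'' = s' ≫ b') (he : b' ≫ c' = q ≫ r) :
    (m1 ≫ k) ≫ g = p ≫ bb ≫ s'' ≫ c' := by
  subst ha
  calc (m1 ≫ s ≫ t) ≫ g = m1 ≫ s ≫ (t ≫ g) := by simp only [Category.assoc]
    _ = (m1 ≫ s ≫ m2) ≫ r := by rw [hb]; simp only [Category.assoc]
    _ = p ≫ s' ≫ (q ≫ r) := by rw [hc]; simp only [Category.assoc]
    _ = p ≫ (s' ≫ b') ≫ c' := by rw [← he]; simp only [Category.assoc]
    _ = p ≫ bb ≫ s'' ≫ c' := by rw [← hd]; simp only [Category.assoc]

variable {C : Type u} [SmallCategory C] {J : GrothendieckTopology C} (O : Sheaf J CommRingCat.{u})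
  (U : C)


/-- `μP` with normalised type: `(A ⊗ H)|_U ≅ A|_U ⊗ H|_U`. -/
noncomputable def μT (A H : ModSite.Mod O) :
    (ModSite.restr O U).obj ((tR O H).obj A) ≅
      (tR (O.over U) ((ModSite.restr O U).obj H)).obj ((ModSite.restr O U).obj A) :=
  μP O U ((fgt O).obj A) ((fgt O).obj H)

/-- the base change map for `sheafHom`, with a normalised type. -/
noncomputable def bR (F G : ModSite.Mod O) :
    (ModSite.restr O U).obj ((ModSite.sheafHom F).obj G) ⟶
      (ModSite.sheafHom ((ModSite.restr O U).obj F)).obj ((ModSite.restr O U).obj G) :=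
  (restrSheafHomIso O U F).hom.app G

instance (F G : ModSite.Mod O) : IsIso (bR O U F G) := by
  unfold bR; infer_instance

theorem μT_nat {A A' : ModSite.Mod O} (a : A ⟶ A') (H : ModSite.Mod O) :
    (ModSite.restr O U).map ((tR O H).map a) ≫ (μT O U A' H).hom =
      (μT O U A H).hom ≫ (tR (O.over U) ((ModSite.restr O U).obj H)).map
        ((ModSite.restr O U).map a) := by
  have h := μP_nat O U ((fgt O).map a) (𝟙 ((fgt O).obj H))
  rw [(resP O U).map_id, tensorHom_id, tensorHom_id] at h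
  exact h

theorem adjunct_bR_comp (E A G : ModSite.Mod O) (φ : A ⟶ (ModSite.sheafHom E).obj G) :
    ((ModSite.sheafHomAdj ((ModSite.restr O U).obj E)).homEquiv _ _).symm
        ((ModSite.restr O U).map φ ≫ bR O U E G) =
      (μT O U A E).inv ≫
        (ModSite.restr O U).map (((ModSite.sheafHomAdj E).homEquiv _ _).symm φ) :=
  adjunct_restr_comp O U E A G φ

theorem adjunct_bR (E G : ModSite.Mod O) :
    (tR (O.over U) ((ModSite.restr O U).obj E)).map (bR O U E G) ≫
      (ModSite.sheafHomAdj ((ModSite.restr O U).obj E)).counit.app ((ModSite.restr O U).obj G) =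
      (μT O U ((ModSite.sheafHom E).obj G) E).inv ≫
        (ModSite.restr O U).map ((ModSite.sheafHomAdj E).counit.app G) :=
  (Adjunction.homEquiv_counit _ _ _ _).symm.trans (adjunct_restrSheafHomIso O U E G)

/-- (SR'): the swap commutes with restriction, in terms of `μT`. -/
theorem sw_restr' (A H F : ModSite.Mod O) :
    (μT O U ((tR O H).obj A) F).inv ≫ (ModSite.restr O U).map (sw A H F).hom ≫
        (μT O U ((tR O F).obj A) H).hom =
      (tR (O.over U) ((ModSite.restr O U).obj F)).map (μT O U A H).hom ≫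
        (sw (O := O.over U) ((ModSite.restr O U).obj A) ((ModSite.restr O U).obj H)
          ((ModSite.restr O U).obj F)).hom ≫
        (tR (O.over U) ((ModSite.restr O U).obj H)).map (μT O U A F).inv := by
  have hsw := sw_restr O U A H F
  have e3 : (tR (O.over U) ((ModSite.restr O U).obj F)).map (μT O U A H).hom ≫
      (tR (O.over U) ((ModSite.restr O U).obj F)).map (μT O U A H).inv = 𝟙 _ := by
    rw [← Functor.map_comp, Iso.hom_inv_id]
    exact (tR (O.over U) ((ModSite.restr O U).obj F)).map_id _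
  exact aux_cancel _ _ _ _ _ _ _ _ e3 (Iso.inv_hom_id _) hsw

/-- (‡): `kap` commutes with restriction. -/
theorem kap_restr (F H G : ModSite.Mod O) :
    (ModSite.restr O U).map (kap F H G) ≫ bR O U F ((tR O H).obj G) ≫
        (ModSite.sheafHom ((ModSite.restr O U).obj F)).map (μT O U G H).hom =
      (μT O U ((ModSite.sheafHom F).obj G) H).hom ≫
        (tR (O.over U) ((ModSite.restr O U).obj H)).map (bR O U F G) ≫
        kap (O := O.over U) ((ModSite.restr O U).obj F) ((ModSite.restr O U).obj H)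
          ((ModSite.restr O U).obj G) := by
  apply ((ModSite.sheafHomAdj ((ModSite.restr O U).obj F)).homEquiv _ _).symm.injective
  -- left side
  have hK : ((ModSite.sheafHomAdj ((ModSite.restr O U).obj F)).homEquiv _ _).symm
      ((ModSite.restr O U).map (kap F H G) ≫ bR O U F ((tR O H).obj G)) =
      (μT O U ((tR O H).obj ((ModSite.sheafHom F).obj G)) F).inv ≫
        (ModSite.restr O U).map (kflat F H G) :=
    (adjunct_bR_comp O U F ((tR O H).obj ((ModSite.sheafHom F).obj G)) ((tR O H).obj G)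
      (kap F H G)).trans
      (congrArg (fun t => (μT O U ((tR O H).obj ((ModSite.sheafHom F).obj G)) F).inv ≫
        (ModSite.restr O U).map t) (Equiv.symm_apply_apply _ _))
  have eL : ((ModSite.sheafHomAdj ((ModSite.restr O U).obj F)).homEquiv _ _).symm
      ((ModSite.restr O U).map (kap F H G) ≫ bR O U F ((tR O H).obj G) ≫
        (ModSite.sheafHom ((ModSite.restr O U).obj F)).map (μT O U G H).hom) =
      ((μT O U ((tR O H).obj ((ModSite.sheafHom F).obj G)) F).inv ≫
        (ModSite.restr O U).map (kflat F H G)) ≫ (μT O U G H).hom :=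
    (congrArg ((ModSite.sheafHomAdj ((ModSite.restr O U).obj F)).homEquiv _ _).symm
      (Category.assoc _ _ _).symm).trans
      (((ModSite.sheafHomAdj ((ModSite.restr O U).obj F)).homEquiv_naturality_right_symm _ _).trans
        (congrArg (· ≫ (μT O U G H).hom) hK))
  -- right side
  have eR : ((ModSite.sheafHomAdj ((ModSite.restr O U).obj F)).homEquiv _ _).symm
      ((μT O U ((ModSite.sheafHom F).obj G) H).hom ≫
        (tR (O.over U) ((ModSite.restr O U).obj H)).map (bR O U F G) ≫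
        kap (O := O.over U) ((ModSite.restr O U).obj F) ((ModSite.restr O U).obj H)
          ((ModSite.restr O U).obj G)) =
      (tR (O.over U) ((ModSite.restr O U).obj F)).map
          (μT O U ((ModSite.sheafHom F).obj G) H).hom ≫
        (tR (O.over U) ((ModSite.restr O U).obj F)).map
          ((tR (O.over U) ((ModSite.restr O U).obj H)).map (bR O U F G)) ≫
        (sw (O := O.over U) ((ModSite.sheafHom ((ModSite.restr O U).obj F)).obj
            ((ModSite.restr O U).obj G)) ((ModSite.restr O U).obj H)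
          ((ModSite.restr O U).obj F)).hom ≫
        (tR (O.over U) ((ModSite.restr O U).obj H)).map
          ((ModSite.sheafHomAdj ((ModSite.restr O U).obj F)).counit.app
            ((ModSite.restr O U).obj G)) :=
    ((ModSite.sheafHomAdj ((ModSite.restr O U).obj F)).homEquiv_naturality_left_symm _ _).trans
      (congrArg ((tR (O.over U) ((ModSite.restr O U).obj F)).map
          (μT O U ((ModSite.sheafHom F).obj G) H).hom ≫ ·)
        (((ModSite.sheafHomAdj ((ModSite.restr O U).obj F)).homEquiv_naturality_left_symm _ _).trans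
          (congrArg ((tR (O.over U) ((ModSite.restr O U).obj F)).map
            ((tR (O.over U) ((ModSite.restr O U).obj H)).map (bR O U F G)) ≫ ·)
              (Equiv.symm_apply_apply _ _))))
  refine eL.trans (Eq.trans ?_ eR.symm)
  -- the five hypotheses
  have ha : (ModSite.restr O U).map (kflat F H G) =
      (ModSite.restr O U).map (sw ((ModSite.sheafHom F).obj G) H F).hom ≫
        (ModSite.restr O U).map ((tR O H).map ((ModSite.sheafHomAdj F).counit.app G)) :=
    (ModSite.restr O U).map_comp _ _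
  have hb := μT_nat O U ((ModSite.sheafHomAdj F).counit.app G) H
  have hc := sw_restr' O U ((ModSite.sheafHom F).obj G) H F
  have hd := sw_nat₁ (O := O.over U) (bR O U F G)
    ((ModSite.restr O U).obj H) ((ModSite.restr O U).obj F)
  have hK0 := adjunct_bR O U F G
  have he : (tR (O.over U) ((ModSite.restr O U).obj H)).map
        ((tR (O.over U) ((ModSite.restr O U).obj F)).map (bR O U F G)) ≫
      (tR (O.over U) ((ModSite.restr O U).obj H)).map
        ((ModSite.sheafHomAdj ((ModSite.restr O U).obj F)).counit.app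
          ((ModSite.restr O U).obj G)) =
      (tR (O.over U) ((ModSite.restr O U).obj H)).map
        (μT O U ((ModSite.sheafHom F).obj G) F).inv ≫
      (tR (O.over U) ((ModSite.restr O U).obj H)).map
          ((ModSite.restr O U).map ((ModSite.sheafHomAdj F).counit.app G)) := by
    rw [← Functor.map_comp, ← Functor.map_comp]
    exact congrArg (tR (O.over U) ((ModSite.restr O U).obj H)).map hK0
  exact aux_main _ _ _ _ _ _ _ _ _ _ _ _ _ _ ha hb hc hd he

end Groth.Agent.Lib.Helper21.HomTensor
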