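import Mathlib
import Groth.Prelude.Def_ModSite
import Groth.Agent.Lib.Helper21HomTensor5
import Groth.Agent.Lib.Helper21ModLocalIso

open CategoryTheory MonoidalCategory Opposite Limits

universe u

namespace Groth.Agent.Lib.Helper21.HomTensor

open Groth.Agent.Lib.Helper21.ModTensor Groth.Agent.Lib.Helper21.ModTensor2
  Groth.Agent.Lib.Helper21.ModTensor3 Groth.Agent.Lib.Helper21.ModTensor4
  Groth.Agent.Lib.Helper21.ModTensor5
  Groth.Agent.Lib.Helper21.ModTensor6 Groth.Agent.Lib.Helper21.ModRestr
  Groth.Agent.Lib.Helper21.LocFact Groth.Agent.Lib.Helper21.SheafHomFP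
  Groth.Agent.Lib.Helper21.DerLES2 Groth.Agent.Lib.Helper21.Dual
  Groth.Agent.Lib.Helper21.RestrExact

attribute [local instance] Groth.Agent.Lib.Helper21.ExtShDelta.hasSheafHom

variable {C : Type u} [SmallCategory C] {J : GrothendieckTopology C} (O : Sheaf J CommRingCat.{u})

/-- `kap` is an isomorphism if it is so locally. -/
theorem isIso_kap_of_isIso_restr {I : Type*} (X : I → C) (hX : J.CoversTop X)
    (F H G : ModSite.Mod O)
    (h : ∀ i, IsIso (kap (O := O.over (X i)) ((ModSite.restr O (X i)).obj F)
      ((ModSite.restr O (X i)).obj H) ((ModSite.restr O (X i)).obj G))) : IsIso (kap F H G) := by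
  apply Groth.Agent.Lib.Helper21.ModLocalIso.isIso_of_isIso_restr O X hX
  intro i
  have h1 := kap_restr O (X i) F H G
  haveI := h i
  haveI : IsIso ((ModSite.sheafHom ((ModSite.restr O (X i)).obj F)).map (μT O (X i) G H).hom) :=
    Functor.map_isIso _ _
  haveI : IsIso ((tR (O.over (X i)) ((ModSite.restr O (X i)).obj H)).map (bR O (X i) F G)) :=
    Functor.map_isIso _ _
  haveI : IsIso ((ModSite.restr O (X i)).map (kap F H G) ≫ (bR O (X i) F ((tR O H).obj G) ≫
        (ModSite.sheafHom ((ModSite.restr O (X i)).obj F)).map (μT O (X i) G H).hom)) := by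
    rw [h1]; infer_instance
  exact IsIso.of_isIso_comp_right _ (bR O (X i) F ((tR O H).obj G) ≫
        (ModSite.sheafHom ((ModSite.restr O (X i)).obj F)).map (μT O (X i) G H).hom)

theorem isIso_kap_of_presentation {M : ModSite.Mod O}
    (P : SheafOfModules.Presentation M) (hP : P.IsFinite) (H G : ModSite.Mod O)
    (hH : ModSite.IsFlat H) : IsIso (kap M H G) := by
  haveI : Finite P.generators.I := SheafOfModules.GeneratingSections.IsFiniteType.finite
  haveI : Finite P.relations.I := SheafOfModules.GeneratingSections.IsFiniteType.finite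
  letI := Fintype.ofFinite P.generators.I
  letI := Fintype.ofFinite P.relations.I
  haveI := isIso_kap_of_ff (ffFree (R := ModSite.ringSh O) P.generators.I) H G
  haveI := isIso_kap_of_ff (ffFree (R := ModSite.ringSh O) P.relations.I) H G
  exact isIso_kap_of_cokernel _ _ _ P.isColimit H G hH

/-- **the canonical map `Hom(F, G) ⊗ H ⟶ Hom(F, G ⊗ H)` is an isomorphism for `F` finitely
presented and `H` flat.** -/
theorem isIso_kap_of_isFinitePresentation (F H G : ModSite.Mod O)
    [SheafOfModules.IsFinitePresentation (R := ModSite.ringSh O) F] (hH : ModSite.IsFlat H) :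
    IsIso (kap F H G) := by
  obtain ⟨σ, hσ⟩ := SheafOfModules.IsFinitePresentation.exists_quasicoherentData
    (R := ModSite.ringSh O) F
  apply isIso_kap_of_isIso_restr O σ.X σ.coversTop
  intro i
  exact isIso_kap_of_presentation (O.over (σ.X i)) (σ.presentation i)
    (hσ.isFinite_presentation i) _ _
    (Groth.Agent.Lib.Helper21.ExtZeroS.isFlat_restr O (σ.X i) H hH)

end Groth.Agent.Lib.Helper21.HomTensor
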