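import Mathlib
import Groth.Agent.Lib.Helper21Disk
import Groth.Agent.Lib.Helper1Groth

/-!
# Functorial "injective hulls" of complexes (Stacks 079P), helper21
-/

set_option autoImplicit false
universe v u
open CategoryTheory Limits

namespace Groth.Agent.Lib.Helper21.InjHull

open Groth.Agent.Lib.Helper21.Disk

section General

variable {𝓐 : Type*} [Category 𝓐] [Abelian 𝓐]

/-- If `u : M ⟶ J` is a mono with cokernel `Q` and `π : E ⟶ Q` any morphism, then
`0 ⟶ M ⟶ J ×_Q E ⟶ E ⟶ 0` is short exact. -/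
lemma shortExact_pullback {M J E : 𝓐} (u : M ⟶ J) [Mono u] (π : E ⟶ cokernel u) :
    (ShortComplex.mk (pullback.lift u 0 (by rw [cokernel.condition, zero_comp]) :
        M ⟶ pullback (cokernel.π u) π)
      (pullback.snd _ _) (pullback.lift_snd _ _ _)).ShortExact := by
  have hm : Mono (pullback.lift u 0 (by rw [cokernel.condition, zero_comp]) :
      M ⟶ pullback (cokernel.π u) π) :=
    mono_of_mono_fac (pullback.lift_fst _ _ _)
  refine ShortComplex.ShortExact.mk' (ShortComplex.exact_of_f_is_kernel _ ?_) hm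
    (Abelian.epi_pullback_of_epi_f _ _)
  refine KernelFork.IsLimit.ofι' _ _ (fun {T} k hk => ?_)
  dsimp at k hk
  have h1 : (k ≫ pullback.fst _ _) ≫ cokernel.π u = 0 := by
    rw [Category.assoc, pullback.condition, reassoc_of% hk, zero_comp]
  refine ⟨Abelian.monoLift u _ h1, ?_⟩
  dsimp
  apply pullback.hom_ext
  · rw [Category.assoc, pullback.lift_fst, Abelian.monoLift_comp]
  · rw [Category.assoc, pullback.lift_snd, comp_zero, hk]

end General

section Acyclic

variable {C : Type u} [Category.{v} C] [Abelian C]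

/-- In a short exact sequence of cochain complexes with acyclic third term, the first map is a
quasi-isomorphism. -/
lemma quasiIso_f_of_acyclic {S : ShortComplex (CochainComplex C ℤ)} (hS : S.ShortExact)
    (h₃ : S.X₃.Acyclic) : QuasiIso S.f := by
  rw [quasiIso_iff]
  intro j
  rw [quasiIsoAt_iff_isIso_homologyMap]
  have hz : ∀ i, IsZero (S.X₃.homology i) := fun i =>
    (HomologicalComplex.exactAt_iff_isZero_homology _ _).1 (h₃ i)
  have h1 : Mono (HomologicalComplex.homologyMap S.f j) :=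
    (hS.homology_exact₁ (j - 1) j (by simp)).mono_g ((hz _).eq_of_src _ _)
  have h2 : Epi (HomologicalComplex.homologyMap S.f j) :=
    (hS.homology_exact₂ j).epi_f ((hz _).eq_of_tgt _ _)
  exact isIso_of_mono_of_epi _

end Acyclic

section Construction

variable {A : Type u} [Category.{v} A] [Abelian A] (J₀ : A ⥤ A) (j₀ : 𝟭 A ⟶ J₀)

/-- `M ↦ D(J₀(M^•))` -/
noncomputable def Jf : CochainComplex A ℤ ⥤ CochainComplex A ℤ where
  obj M := diskObj (fun n => J₀.obj (M.X n))
  map f := diskMap (fun n => J₀.map (f.f n))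
  map_id M := by
    simp only [HomologicalComplex.id_f, CategoryTheory.Functor.map_id]
    exact diskMap_id _
  map_comp f g := by
    simp only [HomologicalComplex.comp_f, CategoryTheory.Functor.map_comp]
    exact diskMap_comp _ _

/-- `Q ↦ D(Q^{•-1})` -/
noncomputable def Ef : CochainComplex A ℤ ⥤ CochainComplex A ℤ where
  obj Q := diskObj (fun n => Q.X (n - 1))
  map f := diskMap (fun n => f.f (n - 1))
  map_id M := by
    simp only [HomologicalComplex.id_f]
    exact diskMap_id _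
  map_comp f g := by
    simp only [HomologicalComplex.comp_f]
    exact diskMap_comp _ _

/-- the natural embedding `M ⟶ D(J₀(M^•))` -/
noncomputable def uNat : 𝟭 (CochainComplex A ℤ) ⟶ Jf J₀ where
  app M := toDisk (fun n => j₀.app (M.X n))
  naturality M M' f := by
    apply HomologicalComplex.hom_ext
    intro n
    dsimp [Jf]
    ext
    · simpa using (j₀.naturality (f.f n))
    · simp
      have := j₀.naturality (f.f (n + 1))
      dsimp at this
      rw [this]

/-- the natural map `D(Q^{•-1}) ⟶ Q` -/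
noncomputable def piNat : Ef (A := A) ⟶ 𝟭 (CochainComplex A ℤ) where
  app Q := fromDisk Q
  naturality Q Q' f := by
    apply HomologicalComplex.hom_ext
    intro n
    dsimp [Ef]
    ext
    · simp
    · simp [HomologicalComplex.XIsoOfEq_hom_naturality]

variable (hj₀ : ∀ X : A, Mono (j₀.app X))

include hj₀ in
lemma mono_uNat_app (M : CochainComplex A ℤ) : Mono ((uNat J₀ j₀).app M) := by
  apply HomologicalComplex.mono_of_mono_f
  intro n
  have := hj₀ (M.X n)
  exact mono_of_mono_fac (biprod.lift_fst (j₀.app (M.X n)) (M.d n (n + 1) ≫ j₀.app (M.X (n + 1))))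

include hj₀ in
lemma mono_uNat : Mono (uNat J₀ j₀) := by
  have := mono_uNat_app J₀ j₀ hj₀
  exact NatTrans.mono_of_mono_app _

/-- the quotient functor `M ↦ D(J₀(M^•)) / M` -/
noncomputable abbrev Qf : CochainComplex A ℤ ⥤ CochainComplex A ℤ := cokernel (uNat J₀ j₀)

/-- the projection `D(Q^{•-1}) ⟶ Q`, as a natural transformation of functors of `M` -/
noncomputable abbrev piQ : Qf J₀ j₀ ⋙ Ef ⟶ Qf J₀ j₀ :=
  Functor.whiskerLeft (Qf J₀ j₀) piNat ≫ (Qf J₀ j₀).rightUnitor.hom

/-- the functor `N` -/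
noncomputable abbrev Nf : CochainComplex A ℤ ⥤ CochainComplex A ℤ :=
  pullback (cokernel.π (uNat J₀ j₀)) (piQ J₀ j₀)

/-- the natural transformation `j : 𝟭 ⟶ N` -/
noncomputable abbrev jNat : 𝟭 (CochainComplex A ℤ) ⟶ Nf J₀ j₀ :=
  pullback.lift (uNat J₀ j₀) 0 (by rw [cokernel.condition, zero_comp])

include hj₀ in
lemma shortExact_functor :
    (ShortComplex.mk (jNat J₀ j₀) (pullback.snd _ _) (pullback.lift_snd _ _ _)).ShortExact := by
  have := mono_uNat J₀ j₀ hj₀
  exact shortExact_pullback (uNat J₀ j₀) (piQ J₀ j₀)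

include hj₀ in
lemma shortExact_app (M : CochainComplex A ℤ) :
    (ShortComplex.mk ((jNat J₀ j₀).app M)
      ((pullback.snd (cokernel.π (uNat J₀ j₀)) (piQ J₀ j₀)).app M)
      (by rw [← NatTrans.comp_app, pullback.lift_snd]; rfl)).ShortExact :=
  (shortExact_functor J₀ j₀ hj₀).map_of_exact
    ((evaluation (CochainComplex A ℤ) (CochainComplex A ℤ)).obj M)

include hj₀ in
lemma quasiIso_jNat_app (M : CochainComplex A ℤ) : QuasiIso ((jNat J₀ j₀).app M) :=
  quasiIso_f_of_acyclic (shortExact_app J₀ j₀ hj₀ M) (diskObj_acyclic _)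

include hj₀ in
lemma mono_jNat_app_f (M : CochainComplex A ℤ) (n : ℤ) : Mono (((jNat J₀ j₀).app M).f n) := by
  have : Mono ((jNat J₀ j₀).app M) := (shortExact_app J₀ j₀ hj₀ M).mono_f
  infer_instance

lemma exists_injective_factor (hinj : ∀ X : A, Injective (J₀.obj X))
    (M : CochainComplex A ℤ) (n : ℤ) :
    ∃ (I : A) (_ : Injective I) (a : M.X n ⟶ I) (b : I ⟶ ((Nf J₀ j₀).obj M).X n),
      Mono b ∧ a ≫ b = ((jNat J₀ j₀).app M).f n := by
  have sq₀ := IsPullback.of_hasPullback (cokernel.π (uNat J₀ j₀)) (piQ J₀ j₀)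
  have sq₁ := sq₀.map ((evaluation (CochainComplex A ℤ) (CochainComplex A ℤ)).obj M)
  have sq : IsPullback
      (((pullback.fst (cokernel.π (uNat J₀ j₀)) (piQ J₀ j₀)).app M).f n)
      (((pullback.snd (cokernel.π (uNat J₀ j₀)) (piQ J₀ j₀)).app M).f n)
      (((cokernel.π (uNat J₀ j₀)).app M).f n) (((piQ J₀ j₀).app M).f n) :=
    sq₁.map (HomologicalComplex.eval A (ComplexShape.up ℤ) n)
  let b₁ : J₀.obj (M.X n) ⟶ ((Jf J₀).obj M).X n :=
    (biprod.lift (𝟙 _) (J₀.map (M.d n (n + 1))) :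
      J₀.obj (M.X n) ⟶ J₀.obj (M.X n) ⊞ J₀.obj (M.X (n + 1)))
  have hb₁ : Mono b₁ := mono_of_mono_fac (biprod.lift_fst (𝟙 (J₀.obj (M.X n)))
    (J₀.map (M.d n (n + 1))))
  let σ := fromDiskSection ((Qf J₀ j₀).obj M) n
  have hσ : σ ≫ ((piQ J₀ j₀).app M).f n = 𝟙 _ := by
    have : ((piQ J₀ j₀).app M).f n = (fromDisk ((Qf J₀ j₀).obj M)).f n := by
      dsimp [piQ, piNat]
      erw [Category.comp_id]
    rw [this]
    exact fromDiskSection_comp _ _
  let b₂ : J₀.obj (M.X n) ⟶ ((Qf J₀ j₀ ⋙ Ef).obj M).X n :=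
    b₁ ≫ ((cokernel.π (uNat J₀ j₀)).app M).f n ≫ σ
  have hb : b₁ ≫ ((cokernel.π (uNat J₀ j₀)).app M).f n = b₂ ≫ ((piQ J₀ j₀).app M).f n := by
    simp only [b₂, Category.assoc]
    erw [hσ]
    rw [Category.comp_id]
  refine ⟨J₀.obj (M.X n), hinj _, j₀.app (M.X n), sq.lift b₁ b₂ hb, ?_, ?_⟩
  · have h0 := sq.lift_fst b₁ b₂ hb
    rw [← h0] at hb₁
    exact mono_of_mono _ (((pullback.fst (cokernel.π (uNat J₀ j₀)) (piQ J₀ j₀)).app M).f n)
  · have h1 : j₀.app (M.X n) ≫ b₁ = ((uNat J₀ j₀).app M).f n := by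
      change j₀.app (M.X n) ≫ (biprod.lift (𝟙 _) (J₀.map (M.d n (n + 1))) :
        J₀.obj (M.X n) ⟶ J₀.obj (M.X n) ⊞ J₀.obj (M.X (n + 1))) =
          biprod.lift (j₀.app (M.X n)) (M.d n (n + 1) ≫ j₀.app (M.X (n + 1)))
      ext
      · simp
      · simp
        have := j₀.naturality (M.d n (n + 1))
        dsimp at this
        rw [this]
    apply sq.hom_ext
    · rw [Category.assoc, sq.lift_fst, h1, ← HomologicalComplex.comp_f, ← NatTrans.comp_app,
        pullback.lift_fst]
    · rw [Category.assoc, sq.lift_snd, ← HomologicalComplex.comp_f, ← NatTrans.comp_app,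
        pullback.lift_snd]
      simp only [b₂]
      rw [reassoc_of% h1, ← HomologicalComplex.comp_f_assoc, ← NatTrans.comp_app,
        cokernel.condition]
      simp

end Construction

end Groth.Agent.Lib.Helper21.InjHull
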