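import Mathlib

/-!
# Helper21 InvF1: the inverse image of sheaves of sets along a continuous functor

`P ⊣ Q` is the adjunction (inverse image, direct image) on sheaves of sets for a continuous
functor `fn : D ⥤ C`.  We give
* `eta X V x` : the unit on sections;
* `hom_ext_eta` : morphisms out of `P X` are determined on the `eta x`;
* `gtp` : every section of `P X` is locally of the form `(eta x)|_g`;
* `functorPushforward_mem` : a continuous functor sends covering sieves to covering sieves.
-/

set_option autoImplicit false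
universe u
open CategoryTheory CategoryTheory.Limits Opposite

namespace Groth.Agent.Lib.Helper21.InvF

noncomputable section

variable {C D : Type u} [SmallCategory C] [SmallCategory D] (J : GrothendieckTopology C)
  (K : GrothendieckTopology D) (fn : D ⥤ C) [fn.IsContinuous K J]

/-- direct image of sheaves of sets. -/
abbrev Q : Sheaf J (Type u) ⥤ Sheaf K (Type u) := fn.sheafPushforwardContinuous (Type u) K J

/-- inverse image of sheaves of sets. -/
abbrev P : Sheaf K (Type u) ⥤ Sheaf J (Type u) := fn.sheafPullback (Type u) K J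

/-- the adjunction. -/
abbrev adjPQ : P J K fn ⊣ Q J K fn := fn.sheafAdjunctionContinuous (Type u) K J

variable {J K fn}

/-- restriction of a section of a sheaf of sets. -/
def rs {E : Type u} [SmallCategory E] {L : GrothendieckTopology E} (Y : Sheaf L (Type u))
    {U U' : E} (h : U' ⟶ U) (a : Y.obj.obj (op U)) : Y.obj.obj (op U') := Y.obj.map h.op a

theorem rs_id {E : Type u} [SmallCategory E] {L : GrothendieckTopology E} (Y : Sheaf L (Type u))
    {U : E} (a : Y.obj.obj (op U)) : rs Y (𝟙 U) a = a := by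
  change Y.obj.map (𝟙 (op U)) a = a
  rw [Y.obj.map_id]
  rfl

theorem rs_comp {E : Type u} [SmallCategory E] {L : GrothendieckTopology E} (Y : Sheaf L (Type u))
    {U U' U'' : E} (h : U' ⟶ U) (h' : U'' ⟶ U') (a : Y.obj.obj (op U)) :
    rs Y (h' ≫ h) a = rs Y h' (rs Y h a) := by
  change Y.obj.map (h.op ≫ h'.op) a = _
  rw [Y.obj.map_comp]
  rfl

/-- application of a morphism of sheaves of sets to a section. -/
def ap {E : Type u} [SmallCategory E] {L : GrothendieckTopology E} {Y Y' : Sheaf L (Type u)}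
    (φ : Y ⟶ Y') {U : E} (a : Y.obj.obj (op U)) : Y'.obj.obj (op U) := φ.hom.app (op U) a

theorem ap_rs {E : Type u} [SmallCategory E] {L : GrothendieckTopology E} {Y Y' : Sheaf L (Type u)}
    (φ : Y ⟶ Y') {U U' : E} (h : U' ⟶ U) (a : Y.obj.obj (op U)) :
    ap φ (rs Y h a) = rs Y' h (ap φ a) :=
  ConcreteCategory.congr_hom (φ.hom.naturality h.op) a

theorem ap_comp {E : Type u} [SmallCategory E] {L : GrothendieckTopology E}
    {Y Y' Y'' : Sheaf L (Type u)} (φ : Y ⟶ Y') (ψ : Y' ⟶ Y'') {U : E} (a : Y.obj.obj (op U)) :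
    ap (φ ≫ ψ) a = ap ψ (ap φ a) := rfl

theorem ap_id {E : Type u} [SmallCategory E] {L : GrothendieckTopology E}
    (Y : Sheaf L (Type u)) {U : E} (a : Y.obj.obj (op U)) : ap (𝟙 Y) a = a := rfl

theorem hom_ext_ap {E : Type u} [SmallCategory E] {L : GrothendieckTopology E}
    {Y Y' : Sheaf L (Type u)} (φ ψ : Y ⟶ Y')
    (h : ∀ (U : E) (a : Y.obj.obj (op U)), ap φ a = ap ψ a) : φ = ψ := by
  apply Sheaf.hom_ext
  ext U a
  exact h U.unop a

/-- separatedness, in `rs` form. -/
theorem eq_of_locally {E : Type u} [SmallCategory E] {L : GrothendieckTopology E}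
    (Y : Sheaf L (Type u)) {U : E} (a b : Y.obj.obj (op U)) (S : Sieve U) (hS : S ∈ L U)
    (h : ∀ ⦃U' : E⦄ (g : U' ⟶ U), S g → rs Y g a = rs Y g b) : a = b := by
  have hsh : Presieve.IsSheaf L Y.obj := (isSheaf_iff_isSheaf_of_type _ _).1 Y.property
  exact (hsh S hS).isSeparatedFor.ext (fun U' g hg => h g hg)

variable (J K fn) in
/-- the unit on sections. -/
def eta (X : Sheaf K (Type u)) (V : D) (x : X.obj.obj (op V)) :
    ((P J K fn).obj X).obj.obj (op (fn.obj V)) :=
  ((adjPQ J K fn).unit.app X).hom.app (op V) x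

theorem eta_nat {X X' : Sheaf K (Type u)} (φ : X ⟶ X') (V : D) (x : X.obj.obj (op V)) :
    ap ((P J K fn).map φ) (eta J K fn X V x) = eta J K fn X' V (ap φ x) := by
  have h := (adjPQ J K fn).unit.naturality φ
  have h1 := congrArg (fun t => (t.hom.app (op V)) x) h
  exact h1.symm

theorem eta_rs (X : Sheaf K (Type u)) {V V' : D} (k : V' ⟶ V) (x : X.obj.obj (op V)) :
    rs ((P J K fn).obj X) (fn.map k) (eta J K fn X V x) = eta J K fn X V' (rs X k x) := by
  have h := ((adjPQ J K fn).unit.app X).hom.naturality k.op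
  exact (ConcreteCategory.congr_hom h x).symm

/-- the adjunct of `ψ`, evaluated, is `ψ (eta x)`. -/
theorem homEquiv_ap {X : Sheaf K (Type u)} {Y : Sheaf J (Type u)} (ψ : (P J K fn).obj X ⟶ Y)
    (V : D) (x : X.obj.obj (op V)) :
    (((adjPQ J K fn).homEquiv X Y ψ).hom.app (op V)) x = ap ψ (eta J K fn X V x) := by
  rw [Adjunction.homEquiv_unit]
  rfl

theorem hom_ext_eta {X : Sheaf K (Type u)} {Y : Sheaf J (Type u)}
    (ψ ψ' : (P J K fn).obj X ⟶ Y)
    (h : ∀ (V : D) (x : X.obj.obj (op V)), ap ψ (eta J K fn X V x) = ap ψ' (eta J K fn X V x)) :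
    ψ = ψ' := by
  apply ((adjPQ J K fn).homEquiv X Y).injective
  apply Sheaf.hom_ext
  ext V x
  have h1 := homEquiv_ap ψ V.unop x
  have h2 := homEquiv_ap ψ' V.unop x
  exact h1.trans ((h V.unop x).trans h2.symm)

/-- the morphism `P X ⟶ Y` with prescribed values on the `eta x`. -/
def lift {X : Sheaf K (Type u)} {Y : Sheaf J (Type u)} (ψ : X ⟶ (Q J K fn).obj Y) :
    (P J K fn).obj X ⟶ Y := ((adjPQ J K fn).homEquiv X Y).symm ψ

theorem lift_eta {X : Sheaf K (Type u)} {Y : Sheaf J (Type u)} (ψ : X ⟶ (Q J K fn).obj Y)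
    (V : D) (x : X.obj.obj (op V)) :
    ap (lift ψ) (eta J K fn X V x) = (ψ.hom.app (op V)) x := by
  have h := homEquiv_ap (lift ψ) V x
  rw [← h]
  unfold lift
  rw [Equiv.apply_symm_apply]


/-! ### generation by the unit -/

/-- sections of the form `(eta x)|_g`. -/
def G₀ (X : Sheaf K (Type u)) : Subfunctor ((P J K fn).obj X).obj where
  obj U := {a | ∃ (V : D) (g : U.unop ⟶ fn.obj V) (x : X.obj.obj (op V)),
    a = rs ((P J K fn).obj X) g (eta J K fn X V x)}
  map := by
    rintro U U' i a ⟨V, g, x, rfl⟩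
    exact ⟨V, i.unop ≫ g, x, (rs_comp ((P J K fn).obj X) g i.unop _).symm⟩

/-- the subsheaf of sections locally of the form `(eta x)|_g`. -/
def Gsh (X : Sheaf K (Type u)) : Sheaf J (Type u) :=
  ⟨((G₀ (J := J) (fn := fn) X).sheafify J).toFunctor, (isSheaf_iff_isSheaf_of_type _ _).2
    (Subfunctor.sheafify_isSheaf _ ((isSheaf_iff_isSheaf_of_type _ _).1
      ((P J K fn).obj X).property))⟩

/-- the inclusion. -/
def Gι (X : Sheaf K (Type u)) : Gsh (J := J) (fn := fn) X ⟶ (P J K fn).obj X :=
  ⟨Subfunctor.ι _⟩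

/-- the unit factors through the subsheaf. -/
def Gψ (X : Sheaf K (Type u)) : X ⟶ (Q J K fn).obj (Gsh (J := J) (fn := fn) X) :=
  ⟨{ app := fun V => ↾(fun x => ⟨eta J K fn X V.unop x,
        Subfunctor.le_sheafify J _ _ ⟨V.unop, 𝟙 _, x, (rs_id _ _).symm⟩⟩)
     naturality := fun V V' k => by
       ext x
       apply Subtype.ext
       exact (eta_rs (J := J) (fn := fn) X k.unop x).symm }⟩

theorem Gφ_ι (X : Sheaf K (Type u)) :
    lift (Gψ (J := J) (fn := fn) X) ≫ Gι X = 𝟙 _ := by
  apply hom_ext_eta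
  intro V x
  rw [ap_comp, lift_eta, ap_id]
  rfl

/-- **generation**: every section of `P X` is locally of the form `(eta x)|_g`. -/
theorem gtp (X : Sheaf K (Type u)) (U : C) (a : ((P J K fn).obj X).obj.obj (op U)) :
    ∃ S ∈ J U, ∀ ⦃U' : C⦄ (h : U' ⟶ U), S h →
      ∃ (V : D) (g : U' ⟶ fn.obj V) (x : X.obj.obj (op V)),
        rs ((P J K fn).obj X) h a = rs ((P J K fn).obj X) g (eta J K fn X V x) := by
  let b := ap (lift (Gψ (J := J) (fn := fn) X)) a
  have hb : ap (Gι X) b = a := by
    have h := congrArg (fun t => ap t a) (Gφ_ι (J := J) (fn := fn) X)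
    exact h
  have hb' : b.val = a := hb
  refine ⟨_, b.property, ?_⟩
  intro U' h hh
  rw [← hb']
  exact hh

/-! ### continuous functors preserve covering sieves -/

/-- the sheaf of closed sieves. -/
def Ωsh (J : GrothendieckTopology C) : Sheaf J (Type u) :=
  ⟨(Functor.closedSieves J).toFunctor, (isSheaf_iff_isSheaf_of_type _ _).2 (classifier_isSheaf J)⟩

variable (J K fn) in
theorem functorPushforward_mem {V : D} (S : Sieve V) (hS : S ∈ K V) :
    Sieve.functorPushforward fn S ∈ J (fn.obj V) := by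
  rw [← J.close_eq_top_iff_mem]
  let QΩ := (Q J K fn).obj (Ωsh J)
  let s₁ : QΩ.obj.obj (op V) := ⟨J.close (Sieve.functorPushforward fn S), J.close_isClosed _⟩
  let s₂ : QΩ.obj.obj (op V) := ⟨(⊤ : Sieve (fn.obj V)), by
    change J.IsClosed (⊤ : Sieve (fn.obj V))
    rw [J.isClosed_iff_close_eq_self, J.close_eq_top_iff_mem]
    exact J.top_mem _⟩
  have h12 : s₁ = s₂ := by
    apply eq_of_locally QΩ s₁ s₂ S hS
    intro V' k hk
    apply Subtype.ext
    have e1 : (rs QΩ k s₁).val = (J.close (Sieve.functorPushforward fn S)).pullback (fn.map k) :=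
      rfl
    have e2 : (rs QΩ k s₂).val = (⊤ : Sieve (fn.obj V)).pullback (fn.map k) := rfl
    rw [e1, e2]
    have key : (J.close (Sieve.functorPushforward fn S)).pullback (fn.map k) =
        (⊤ : Sieve (fn.obj V)).pullback (fn.map k) := by
      rw [Sieve.pullback_top, ← J.pullback_close, J.close_eq_top_iff_mem]
      have h1 : (Sieve.functorPushforward fn S).pullback (fn.map k) = ⊤ := by
        rw [← Sieve.mem_iff_pullback_eq_top]
        exact Sieve.image_mem_functorPushforward fn S hk
      rw [h1]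
      exact J.top_mem _
    exact key
  have h3 : s₁.val = s₂.val := congrArg Subtype.val h12
  exact h3

/-- pulled-back covering: for `g : U ⟶ fn V` and a covering sieve `S` of `V`, the arrows
`h : U' ⟶ U` such that `h ≫ g` factors through `fn k` with `k ∈ S` form a covering sieve. -/
theorem pullback_functorPushforward_mem {V : D} (S : Sieve V) (hS : S ∈ K V) {U : C}
    (g : U ⟶ fn.obj V) : (Sieve.functorPushforward fn S).pullback g ∈ J U :=
  J.pullback_stable g (functorPushforward_mem J K fn S hS)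

theorem exists_of_mem_pullback_functorPushforward {V : D} (S : Sieve V) {U U' : C}
    (g : U ⟶ fn.obj V) (h : U' ⟶ U) (hh : ((Sieve.functorPushforward fn S).pullback g) h) :
    ∃ (V' : D) (k : V' ⟶ V) (g' : U' ⟶ fn.obj V'), S k ∧ h ≫ g = g' ≫ fn.map k := by
  obtain ⟨V', k, g', hk, e⟩ := hh
  exact ⟨V', k, g', hk, e⟩

end

end Groth.Agent.Lib.Helper21.InvF
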