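import Mathlib
import Groth.Agent.Lib.Helper21InvF1

/-!
# Helper21 InvF2: sections of the inverse image of a finite limit

For a finite limit cone `c` over `F : I ⥤ Sheaf K (Type u)`:
* sections of `c.pt` are the compatible families of sections of the `F i` (`exU_sec`);
* sections of `P c.pt` are the compatible families of sections of the `P (F i)` (`exU_secP`)
  (this uses exactness of `P`);
* `gtp_lim` : a compatible family of sections of the `P (F i)` is locally of the form
  `((eta (x i))|_g)_i` for a compatible family `x`.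
Specialisations: finite products of two sheaves (`Xp`, `mkX`, `mkPX`), terms (`termB`, `evP`),
equalizers (`eqSh`).
-/

set_option autoImplicit false
universe u
open CategoryTheory CategoryTheory.Limits Opposite

namespace Groth.Agent.Lib.Helper21.InvF

noncomputable section

variable {C D : Type u} [SmallCategory C] [SmallCategory D] {J : GrothendieckTopology C}
  {K : GrothendieckTopology D} {fn : D ⥤ C} [fn.IsContinuous K J]

section general

variable {I : Type} [SmallCategory I] {F : I ⥤ Sheaf K (Type u)} (c : Cone F) (hc : IsLimit c)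

include hc in
/-- sections of a limit of sheaves of sets. -/
theorem exU_sec (V : D) (x : ∀ i, (F.obj i).obj.obj (op V))
    (hx : ∀ {i j : I} (φ : i ⟶ j), ap (F.map φ) (x i) = x j) :
    ∃! l : c.pt.obj.obj (op V), ∀ i, ap (c.π.app i) l = x i := by
  let G : Sheaf K (Type u) ⥤ Type u := (sheafSections K (Type u)).obj (op V)
  haveI : PreservesLimit F G :=
    inferInstanceAs (PreservesLimit F (sheafToPresheaf K (Type u) ⋙ (evaluation _ _).obj (op V)))
  have hG : IsLimit (G.mapCone c) := isLimitOfPreserves G hc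
  exact (Types.isLimit_iff (G.mapCone c)).1 ⟨hG⟩ x (fun φ => hx φ)

variable [FinCategory I] [PreservesFiniteLimits (P J K fn)]

include hc in
/-- sections of the inverse image of a finite limit of sheaves of sets. -/
theorem exU_secP (U : C) (a : ∀ i, ((P J K fn).obj (F.obj i)).obj.obj (op U))
    (ha : ∀ {i j : I} (φ : i ⟶ j), ap ((P J K fn).map (F.map φ)) (a i) = a j) :
    ∃! t : ((P J K fn).obj c.pt).obj.obj (op U), ∀ i, ap ((P J K fn).map (c.π.app i)) t = a i := by
  let G : Sheaf K (Type u) ⥤ Type u := P J K fn ⋙ (sheafSections J (Type u)).obj (op U)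
  haveI : PreservesLimit (F ⋙ P J K fn) ((sheafSections J (Type u)).obj (op U)) :=
    inferInstanceAs (PreservesLimit (F ⋙ P J K fn)
      (sheafToPresheaf J (Type u) ⋙ (evaluation _ _).obj (op U)))
  haveI : PreservesLimit F G := inferInstanceAs (PreservesLimit F
    (P J K fn ⋙ (sheafSections J (Type u)).obj (op U)))
  have hG : IsLimit (G.mapCone c) := isLimitOfPreserves G hc
  exact (Types.isLimit_iff (G.mapCone c)).1 ⟨hG⟩ a (fun φ => ha φ)

include hc in
/-- a compatible family of sections of the `P (F i)` is locally induced by a compatible family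
of sections of the `F i`. -/
theorem gtp_lim (U : C) (a : ∀ i, ((P J K fn).obj (F.obj i)).obj.obj (op U))
    (ha : ∀ {i j : I} (φ : i ⟶ j), ap ((P J K fn).map (F.map φ)) (a i) = a j) :
    ∃ S ∈ J U, ∀ ⦃U' : C⦄ (h : U' ⟶ U), S h →
      ∃ (V : D) (g : U' ⟶ fn.obj V) (x : ∀ i, (F.obj i).obj.obj (op V)),
        (∀ {i j : I} (φ : i ⟶ j), ap (F.map φ) (x i) = x j) ∧
        ∀ i, rs ((P J K fn).obj (F.obj i)) h (a i) =
          rs ((P J K fn).obj (F.obj i)) g (eta J K fn (F.obj i) V (x i)) := by
  obtain ⟨t, ht, -⟩ := exU_secP (J := J) (fn := fn) c hc U a ha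
  obtain ⟨S, hS, hS'⟩ := gtp (J := J) (fn := fn) c.pt U t
  refine ⟨S, hS, ?_⟩
  intro U' h hh
  obtain ⟨V, g, l, hl⟩ := hS' h hh
  refine ⟨V, g, fun i => ap (c.π.app i) l, ?_, ?_⟩
  · intro i j φ
    rw [← ap_comp, c.w φ]
  · intro i
    have e1 : ap ((P J K fn).map (c.π.app i)) (rs ((P J K fn).obj c.pt) h t) =
        rs ((P J K fn).obj (F.obj i)) h (a i) :=
      (ap_rs ((P J K fn).map (c.π.app i)) h t).trans (congrArg _ (ht i))
    have e2 : ap ((P J K fn).map (c.π.app i))
        (rs ((P J K fn).obj c.pt) g (eta J K fn c.pt V l)) =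
        rs ((P J K fn).obj (F.obj i)) g (eta J K fn (F.obj i) V (ap (c.π.app i) l)) :=
      (ap_rs ((P J K fn).map (c.π.app i)) g _).trans (congrArg _ (eta_nat (c.π.app i) V l))
    rw [← e1, hl]
    exact e2

end general


/-! ### finite products -/

section fan

variable {α : Type} (f : α → Sheaf K (Type u))

theorem disc_compat {G : Sheaf K (Type u) ⥤ Sheaf J (Type u)} {U : C}
    (a : ∀ s : Discrete α, (G.obj ((Discrete.functor f).obj s)).obj.obj (op U))
    {i j : Discrete α} (φ : i ⟶ j) :
    ap (G.map ((Discrete.functor f).map φ)) (a i) = a j := by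
  obtain ⟨i⟩ := i
  obtain ⟨j⟩ := j
  have h : i = j := Discrete.eq_of_hom φ
  subst h
  have h2 : φ = 𝟙 _ := Subsingleton.elim _ _
  subst h2
  rw [CategoryTheory.Functor.map_id, CategoryTheory.Functor.map_id]
  rfl

theorem disc_compat' {V : D}
    (a : ∀ s : Discrete α, ((Discrete.functor f).obj s).obj.obj (op V))
    {i j : Discrete α} (φ : i ⟶ j) :
    ap ((Discrete.functor f).map φ) (a i) = a j := by
  obtain ⟨i⟩ := i
  obtain ⟨j⟩ := j
  have h : i = j := Discrete.eq_of_hom φ
  subst h
  have h2 : φ = 𝟙 _ := Subsingleton.elim _ _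
  subst h2
  rw [CategoryTheory.Functor.map_id]
  rfl

/-- sections of a product. -/
theorem exU_sec_fan (V : D) (x : ∀ s, (f s).obj.obj (op V)) :
    ∃! l : (∏ᶜ f).obj.obj (op V), ∀ s, ap (Pi.π f s) l = x s := by
  obtain ⟨l, hl, hu⟩ := exU_sec (limit.cone (Discrete.functor f)) (limit.isLimit _) V
    (fun s => x s.as) (fun φ => disc_compat' f (fun s => x s.as) φ)
  exact ⟨l, fun s => hl ⟨s⟩, fun l' hl' => hu l' (fun s => hl' s.as)⟩

variable [Fintype α] [PreservesFiniteLimits (P J K fn)]

/-- sections of the inverse image of a finite product. -/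
theorem exU_secP_fan (U : C) (a : ∀ s, ((P J K fn).obj (f s)).obj.obj (op U)) :
    ∃! t : ((P J K fn).obj (∏ᶜ f)).obj.obj (op U), ∀ s, ap ((P J K fn).map (Pi.π f s)) t = a s := by
  obtain ⟨l, hl, hu⟩ := exU_secP (J := J) (fn := fn) (limit.cone (Discrete.functor f))
    (limit.isLimit _) U (fun s => a s.as)
    (fun φ => disc_compat (G := P J K fn) f (fun s => a s.as) φ)
  exact ⟨l, fun s => hl ⟨s⟩, fun l' hl' => hu l' (fun s => hl' s.as)⟩

theorem gtp_fan (U : C) (a : ∀ s, ((P J K fn).obj (f s)).obj.obj (op U)) :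
    ∃ S ∈ J U, ∀ ⦃U' : C⦄ (h : U' ⟶ U), S h →
      ∃ (V : D) (g : U' ⟶ fn.obj V) (x : ∀ s, (f s).obj.obj (op V)),
        ∀ s, rs ((P J K fn).obj (f s)) h (a s) =
          rs ((P J K fn).obj (f s)) g (eta J K fn (f s) V (x s)) := by
  obtain ⟨S, hS, hS'⟩ := gtp_lim (J := J) (fn := fn) (limit.cone (Discrete.functor f))
    (limit.isLimit _) U (fun s => a s.as)
    (fun φ => disc_compat (G := P J K fn) f (fun s => a s.as) φ)
  refine ⟨S, hS, fun U' h hh => ?_⟩
  obtain ⟨V, g, x, -, hx⟩ := hS' h hh
  exact ⟨V, g, fun s => x ⟨s⟩, fun s => hx ⟨s⟩⟩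

end fan

/-! ### equalizers -/

section eq

variable {X Z : Sheaf K (Type u)} (s t : X ⟶ Z) [PreservesFiniteLimits (P J K fn)]

theorem gtp_eq (U : C) (c : ((P J K fn).obj X).obj.obj (op U))
    (hc : ap ((P J K fn).map s) c = ap ((P J K fn).map t) c) :
    ∃ S ∈ J U, ∀ ⦃U' : C⦄ (h : U' ⟶ U), S h →
      ∃ (V : D) (g : U' ⟶ fn.obj V) (x : X.obj.obj (op V)), ap s x = ap t x ∧
        rs ((P J K fn).obj X) h c = rs ((P J K fn).obj X) g (eta J K fn X V x) := by
  let a : ∀ i : WalkingParallelPair, ((P J K fn).obj ((parallelPair s t).obj i)).obj.obj (op U) :=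
    fun i => match i with
      | .zero => c
      | .one => ap ((P J K fn).map s) c
  have ha : ∀ {i j : WalkingParallelPair} (φ : i ⟶ j),
      ap ((P J K fn).map ((parallelPair s t).map φ)) (a i) = a j := by
    intro i j φ
    match i, j, φ with
    | _, _, .left => rfl
    | _, _, .right => exact hc.symm
    | _, _, .id i =>
      change ap ((P J K fn).map ((parallelPair s t).map (𝟙 i))) (a i) = a i
      rw [CategoryTheory.Functor.map_id, CategoryTheory.Functor.map_id]
      rfl
  obtain ⟨S, hS, hS'⟩ := gtp_lim (J := J) (fn := fn) (limit.cone (parallelPair s t))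
    (limit.isLimit _) U a ha
  refine ⟨S, hS, fun U' h hh => ?_⟩
  obtain ⟨V, g, x, hx, hx'⟩ := hS' h hh
  refine ⟨V, g, x .zero, ?_, hx' .zero⟩
  have h1 : ap s (x .zero) = x .one := hx WalkingParallelPairHom.left
  have h2 : ap t (x .zero) = x .one := hx WalkingParallelPairHom.right
  rw [h1, h2]

end eq

end

end Groth.Agent.Lib.Helper21.InvF
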