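import Mathlib
import Groth.Agent.Lib.Helper21InvF2

/-!
# Helper21 InvF3: tuples of sections of inverse images

For sheaves of sets `A`, `B` on `D` and finite types `ι`, `κ`:
`Xp A B ι κ = A^ι × B^κ`, with sections `mkX α ζ`; sections of `P (Xp A B ι κ)` are `mkPX a z`
for tuples `a : ι → (P A)(U)`, `z : κ → (P B)(U)`.  A *term* `τ : Xp A B ι κ ⟶ Z` acts on tuples
of sections of the inverse images by `evP τ a z`; this is compatible with restriction (`evP_rs`)
and with the unit (`evP_eta`).  `gtp_tup` : tuples are locally induced from `D`.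
-/

set_option autoImplicit false
universe u
open CategoryTheory CategoryTheory.Limits Opposite

namespace Groth.Agent.Lib.Helper21.InvF

noncomputable section

variable {C D : Type u} [SmallCategory C] [SmallCategory D] {J : GrothendieckTopology C}
  {K : GrothendieckTopology D} {fn : D ⥤ C} [fn.IsContinuous K J]

section tuples

variable (A B : Sheaf K (Type u)) (ι κ : Type)

/-- the family `A, …, A, B, …, B`. -/
def fam : ι ⊕ κ → Sheaf K (Type u) := Sum.elim (fun _ => A) (fun _ => B)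

/-- the product sheaf `A^ι × B^κ`. -/
def Xp : Sheaf K (Type u) := ∏ᶜ (fam A B ι κ)

/-- projections to `A`. -/
def pA (i : ι) : Xp A B ι κ ⟶ A := Pi.π (fam A B ι κ) (Sum.inl i)

/-- projections to `B`. -/
def pB (j : κ) : Xp A B ι κ ⟶ B := Pi.π (fam A B ι κ) (Sum.inr j)

variable {A B ι κ}

/-- a pair of tuples as a dependent family. -/
def famSec {V : D} (α : ι → A.obj.obj (op V)) (ζ : κ → B.obj.obj (op V)) :
    ∀ s, (fam A B ι κ s).obj.obj (op V)
  | .inl i => α i
  | .inr j => ζ j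

/-- the section of `A^ι × B^κ` with given components. -/
def mkX {V : D} (α : ι → A.obj.obj (op V)) (ζ : κ → B.obj.obj (op V)) :
    (Xp A B ι κ).obj.obj (op V) :=
  (exU_sec_fan (fam A B ι κ) V (famSec α ζ)).choose

theorem pA_mkX {V : D} (α : ι → A.obj.obj (op V)) (ζ : κ → B.obj.obj (op V)) (i : ι) :
    ap (pA A B ι κ i) (mkX α ζ) = α i :=
  (exU_sec_fan (fam A B ι κ) V (famSec α ζ)).choose_spec.1 (.inl i)

theorem pB_mkX {V : D} (α : ι → A.obj.obj (op V)) (ζ : κ → B.obj.obj (op V)) (j : κ) :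
    ap (pB A B ι κ j) (mkX α ζ) = ζ j :=
  (exU_sec_fan (fam A B ι κ) V (famSec α ζ)).choose_spec.1 (.inr j)

theorem Xp_ext {V : D} (l l' : (Xp A B ι κ).obj.obj (op V))
    (hA : ∀ i, ap (pA A B ι κ i) l = ap (pA A B ι κ i) l')
    (hB : ∀ j, ap (pB A B ι κ j) l = ap (pB A B ι κ j) l') : l = l' := by
  obtain ⟨l₀, -, hu⟩ := exU_sec_fan (fam A B ι κ) V
    (famSec (fun i => ap (pA A B ι κ i) l') (fun j => ap (pB A B ι κ j) l'))
  have h1 : l = l₀ := hu l (fun s => by
    cases s with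
    | inl i => exact hA i
    | inr j => exact hB j)
  have h2 : l' = l₀ := hu l' (fun s => by
    cases s with
    | inl i => rfl
    | inr j => rfl)
  rw [h1, h2]

theorem mkX_proj {V : D} (l : (Xp A B ι κ).obj.obj (op V)) :
    mkX (fun i => ap (pA A B ι κ i) l) (fun j => ap (pB A B ι κ j) l) = l :=
  Xp_ext _ _ (fun i => pA_mkX _ _ i) (fun j => pB_mkX _ _ j)

theorem rs_mkX {V V' : D} (k : V' ⟶ V) (α : ι → A.obj.obj (op V)) (ζ : κ → B.obj.obj (op V)) :
    rs (Xp A B ι κ) k (mkX α ζ) = mkX (fun i => rs A k (α i)) (fun j => rs B k (ζ j)) := by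
  apply Xp_ext
  · intro i
    rw [pA_mkX, ap_rs, pA_mkX]
  · intro j
    rw [pB_mkX, ap_rs, pB_mkX]

variable [Fintype ι] [Fintype κ] [PreservesFiniteLimits (P J K fn)]

/-- a pair of tuples upstairs as a dependent family. -/
def famSecP {U : C} (a : ι → ((P J K fn).obj A).obj.obj (op U))
    (z : κ → ((P J K fn).obj B).obj.obj (op U)) :
    ∀ s, ((P J K fn).obj (fam A B ι κ s)).obj.obj (op U)
  | .inl i => a i
  | .inr j => z j

/-- the section of `P (A^ι × B^κ)` with given components. -/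
def mkPX {U : C} (a : ι → ((P J K fn).obj A).obj.obj (op U))
    (z : κ → ((P J K fn).obj B).obj.obj (op U)) :
    ((P J K fn).obj (Xp A B ι κ)).obj.obj (op U) :=
  (exU_secP_fan (J := J) (fn := fn) (fam A B ι κ) U (famSecP a z)).choose

theorem pA_mkPX {U : C} (a : ι → ((P J K fn).obj A).obj.obj (op U))
    (z : κ → ((P J K fn).obj B).obj.obj (op U)) (i : ι) :
    ap ((P J K fn).map (pA A B ι κ i)) (mkPX a z) = a i :=
  (exU_secP_fan (J := J) (fn := fn) (fam A B ι κ) U (famSecP a z)).choose_spec.1 (.inl i)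

theorem pB_mkPX {U : C} (a : ι → ((P J K fn).obj A).obj.obj (op U))
    (z : κ → ((P J K fn).obj B).obj.obj (op U)) (j : κ) :
    ap ((P J K fn).map (pB A B ι κ j)) (mkPX a z) = z j :=
  (exU_secP_fan (J := J) (fn := fn) (fam A B ι κ) U (famSecP a z)).choose_spec.1 (.inr j)

theorem PXp_ext {U : C} (t t' : ((P J K fn).obj (Xp A B ι κ)).obj.obj (op U))
    (hA : ∀ i, ap ((P J K fn).map (pA A B ι κ i)) t = ap ((P J K fn).map (pA A B ι κ i)) t')
    (hB : ∀ j, ap ((P J K fn).map (pB A B ι κ j)) t = ap ((P J K fn).map (pB A B ι κ j)) t') :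
    t = t' := by
  obtain ⟨l₀, -, hu⟩ := exU_secP_fan (J := J) (fn := fn) (fam A B ι κ) U
    (famSecP (fun i => ap ((P J K fn).map (pA A B ι κ i)) t')
      (fun j => ap ((P J K fn).map (pB A B ι κ j)) t'))
  have h1 : t = l₀ := hu t (fun s => by
    cases s with
    | inl i => exact hA i
    | inr j => exact hB j)
  have h2 : t' = l₀ := hu t' (fun s => by
    cases s with
    | inl i => rfl
    | inr j => rfl)
  rw [h1, h2]

theorem rs_mkPX {U U' : C} (h : U' ⟶ U) (a : ι → ((P J K fn).obj A).obj.obj (op U))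
    (z : κ → ((P J K fn).obj B).obj.obj (op U)) :
    rs ((P J K fn).obj (Xp A B ι κ)) h (mkPX a z) =
      mkPX (fun i => rs ((P J K fn).obj A) h (a i)) (fun j => rs ((P J K fn).obj B) h (z j)) := by
  apply PXp_ext
  · intro i
    rw [pA_mkPX, ap_rs, pA_mkPX]
  · intro j
    rw [pB_mkPX, ap_rs, pB_mkPX]

theorem eta_mkX {V : D} (α : ι → A.obj.obj (op V)) (ζ : κ → B.obj.obj (op V)) :
    eta J K fn (Xp A B ι κ) V (mkX α ζ) =
      mkPX (fun i => eta J K fn A V (α i)) (fun j => eta J K fn B V (ζ j)) := by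
  apply PXp_ext
  · intro i
    rw [pA_mkPX, eta_nat, pA_mkX]
  · intro j
    rw [pB_mkPX, eta_nat, pB_mkX]

/-- a tuple of sections upstairs is locally induced from downstairs. -/
theorem gtp_tup (U : C) (a : ι → ((P J K fn).obj A).obj.obj (op U))
    (z : κ → ((P J K fn).obj B).obj.obj (op U)) :
    ∃ S ∈ J U, ∀ ⦃U' : C⦄ (h : U' ⟶ U), S h →
      ∃ (V : D) (g : U' ⟶ fn.obj V) (α : ι → A.obj.obj (op V)) (ζ : κ → B.obj.obj (op V)),
        (∀ i, rs ((P J K fn).obj A) h (a i) = rs ((P J K fn).obj A) g (eta J K fn A V (α i))) ∧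
        (∀ j, rs ((P J K fn).obj B) h (z j) = rs ((P J K fn).obj B) g (eta J K fn B V (ζ j))) := by
  obtain ⟨S, hS, hS'⟩ := gtp_fan (J := J) (fn := fn) (fam A B ι κ) U (famSecP a z)
  refine ⟨S, hS, fun U' h hh => ?_⟩
  obtain ⟨V, g, x, hx⟩ := hS' h hh
  exact ⟨V, g, fun i => x (.inl i), fun j => x (.inr j), fun i => hx (.inl i),
    fun j => hx (.inr j)⟩

/-! ### terms -/

variable {Z : Sheaf K (Type u)}

omit [Fintype ι] [Fintype κ] [PreservesFiniteLimits (P J K fn)] [fn.IsContinuous K J] in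
/-- a term, from its values on tuples. -/
def term (f : ∀ V : D, (ι → A.obj.obj (op V)) → (κ → B.obj.obj (op V)) → Z.obj.obj (op V))
    (hf : ∀ {V V' : D} (k : V' ⟶ V) (α : ι → A.obj.obj (op V)) (ζ : κ → B.obj.obj (op V)),
      rs Z k (f V α ζ) = f V' (fun i => rs A k (α i)) (fun j => rs B k (ζ j))) :
    Xp A B ι κ ⟶ Z :=
  ⟨{ app := fun V => ↾(fun l => f V.unop (fun i => ap (pA A B ι κ i) l)
        (fun j => ap (pB A B ι κ j) l))
     naturality := fun V V' k => by
       ext l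
       have h1 := hf k.unop (fun i => ap (pA A B ι κ i) l) (fun j => ap (pB A B ι κ j) l)
       have h2 : (fun i => rs A k.unop (ap (pA A B ι κ i) l)) =
           fun i => ap (pA A B ι κ i) (rs (Xp A B ι κ) k.unop l) :=
         funext fun i => (ap_rs _ _ _).symm
       have h3 : (fun j => rs B k.unop (ap (pB A B ι κ j) l)) =
           fun j => ap (pB A B ι κ j) (rs (Xp A B ι κ) k.unop l) :=
         funext fun j => (ap_rs _ _ _).symm
       rw [h2, h3] at h1
       exact h1.symm }⟩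

omit [Fintype ι] [Fintype κ] [PreservesFiniteLimits (P J K fn)] [fn.IsContinuous K J] in
theorem ap_term (f : ∀ V : D, (ι → A.obj.obj (op V)) → (κ → B.obj.obj (op V)) → Z.obj.obj (op V))
    (hf : ∀ {V V' : D} (k : V' ⟶ V) (α : ι → A.obj.obj (op V)) (ζ : κ → B.obj.obj (op V)),
      rs Z k (f V α ζ) = f V' (fun i => rs A k (α i)) (fun j => rs B k (ζ j)))
    {V : D} (α : ι → A.obj.obj (op V)) (ζ : κ → B.obj.obj (op V)) :
    ap (term f hf) (mkX α ζ) = f V α ζ := by
  change f V (fun i => ap (pA A B ι κ i) (mkX α ζ)) (fun j => ap (pB A B ι κ j) (mkX α ζ)) = _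
  have h2 : (fun i => ap (pA A B ι κ i) (mkX α ζ)) = α := funext fun i => pA_mkX α ζ i
  have h3 : (fun j => ap (pB A B ι κ j) (mkX α ζ)) = ζ := funext fun j => pB_mkX α ζ j
  rw [h2, h3]

/-- the action of a term on tuples of sections upstairs. -/
def evP (τ : Xp A B ι κ ⟶ Z) {U : C} (a : ι → ((P J K fn).obj A).obj.obj (op U))
    (z : κ → ((P J K fn).obj B).obj.obj (op U)) : ((P J K fn).obj Z).obj.obj (op U) :=
  ap ((P J K fn).map τ) (mkPX a z)

theorem evP_rs (τ : Xp A B ι κ ⟶ Z) {U U' : C} (h : U' ⟶ U)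
    (a : ι → ((P J K fn).obj A).obj.obj (op U)) (z : κ → ((P J K fn).obj B).obj.obj (op U)) :
    rs ((P J K fn).obj Z) h (evP τ a z) =
      evP τ (fun i => rs ((P J K fn).obj A) h (a i)) (fun j => rs ((P J K fn).obj B) h (z j)) := by
  unfold evP
  rw [← ap_rs, rs_mkPX]

theorem evP_eta (τ : Xp A B ι κ ⟶ Z) {V : D} (α : ι → A.obj.obj (op V))
    (ζ : κ → B.obj.obj (op V)) :
    evP τ (fun i => eta J K fn A V (α i)) (fun j => eta J K fn B V (ζ j)) =
      eta J K fn Z V (ap τ (mkX α ζ)) := by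
  unfold evP
  rw [← eta_mkX, eta_nat]

theorem evP_term_eta
    (f : ∀ V : D, (ι → A.obj.obj (op V)) → (κ → B.obj.obj (op V)) → Z.obj.obj (op V))
    (hf : ∀ {V V' : D} (k : V' ⟶ V) (α : ι → A.obj.obj (op V)) (ζ : κ → B.obj.obj (op V)),
      rs Z k (f V α ζ) = f V' (fun i => rs A k (α i)) (fun j => rs B k (ζ j)))
    {V : D} (α : ι → A.obj.obj (op V)) (ζ : κ → B.obj.obj (op V)) :
    evP (term f hf) (fun i => eta J K fn A V (α i)) (fun j => eta J K fn B V (ζ j)) =
      eta J K fn Z V (f V α ζ) := by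
  rw [evP_eta, ap_term]

end tuples

end

end Groth.Agent.Lib.Helper21.InvF
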