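import Mathlib
import Groth.Prelude.Def_ModSite
import Groth.Agent.Lib.Helper21InvF3
import Groth.Agent.Lib.Helper21EqCrit4

/-!
# Helper21 InvF4: the ring `f⁻¹O (U)` and the module `f⁻¹F (U)`, sectionwise

For a continuous functor `fn : D ⥤ C` with exact inverse image of sheaves of sets `P`, a sheaf of
commutative rings `O` on `D` and an `O`-module `F`: the sets of sections `RU U = (P (OS O))(U)`
carry commutative ring structures and `MU U = (P (FS F))(U)` module structures over them, such that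
restrictions and the units `etaO`, `etaF` are homomorphisms.
-/

set_option autoImplicit false
universe u
open CategoryTheory CategoryTheory.Limits Opposite

namespace Groth.Agent.Lib.Helper21.InvF

open Groth.Agent.Lib.Helper21.EqCrit

noncomputable section

variable {C D : Type u} [SmallCategory C] [SmallCategory D] (J : GrothendieckTopology C)
  (K : GrothendieckTopology D) (fn : D ⥤ C) [fn.IsContinuous K J]
  (O : Sheaf K CommRingCat.{u}) (F : ModSite.Mod O)

/-- the underlying sheaf of sets of a sheaf of rings. -/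
abbrev OS : Sheaf K (Type u) :=
  ⟨O.obj ⋙ forget CommRingCat.{u},
    (Presheaf.isSheaf_iff_isSheaf_forget K O.obj (forget CommRingCat.{u})).1 O.property⟩

/-- the underlying sheaf of sets of a sheaf of modules. -/
abbrev FS : Sheaf K (Type u) :=
  ⟨F.val.presheaf ⋙ forget AddCommGrpCat.{u},
    (Presheaf.isSheaf_iff_isSheaf_forget K F.val.presheaf (forget AddCommGrpCat.{u})).1 F.isSheaf⟩

/-- sections of `f⁻¹O`. -/
abbrev RU (U : C) : Type u := ((P J K fn).obj (OS K O)).obj.obj (op U)

/-- sections of `f⁻¹F`. -/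
abbrev MU (U : C) : Type u := ((P J K fn).obj (FS K O F)).obj.obj (op U)

variable {K O}

theorem rs_OS {V V' : D} (k : V' ⟶ V) (r : O.obj.obj (op V)) :
    rs (OS K O) k r = resO O k r := rfl

theorem rs_FS {V V' : D} (k : V' ⟶ V) (y : F.val.obj (op V)) :
    rs (FS K O F) k y = res O F k y := rfl


theorem resO_add' {V V' : D} (k : V' ⟶ V) (x y : O.obj.obj (op V)) :
    resO O k (x + y) = resO O k x + resO O k y := map_add (O.obj.map k.op).hom x y

theorem resO_neg' {V V' : D} (k : V' ⟶ V) (x : O.obj.obj (op V)) :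
    resO O k (-x) = - resO O k x := map_neg (O.obj.map k.op).hom x

theorem resO_one' {V V' : D} (k : V' ⟶ V) : resO O k (1 : O.obj.obj (op V)) = 1 :=
  map_one (O.obj.map k.op).hom

theorem res_add' {V V' : D} (k : V' ⟶ V) (x y : F.val.obj (op V)) :
    res O F k (x + y) = res O F k x + res O F k y := map_add (F.val.map k.op).hom x y

theorem res_neg' {V V' : D} (k : V' ⟶ V) (x : F.val.obj (op V)) :
    res O F k (-x) = - res O F k x := map_neg (F.val.map k.op).hom x

/-! ### vectors -/

theorem comp_vec0 {α β : Type*} (f : α → β) : (fun j : Fin 0 => f ((![] : Fin 0 → α) j)) = ![] :=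
  Subsingleton.elim _ _

theorem comp_vec1 {α β : Type*} (f : α → β) (a : α) : (fun j : Fin 1 => f (![a] j)) = ![f a] := by
  funext i; fin_cases i; rfl

theorem comp_vec2 {α β : Type*} (f : α → β) (a b : α) :
    (fun j : Fin 2 => f (![a, b] j)) = ![f a, f b] := by
  funext i; fin_cases i <;> rfl

theorem comp_vec3 {α β : Type*} (f : α → β) (a b c : α) :
    (fun j : Fin 3 => f (![a, b, c] j)) = ![f a, f b, f c] := by
  funext i; fin_cases i <;> rfl

variable [PreservesFiniteLimits (P J K fn)]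

/-! ### the ring structure on `RU U` -/

section ring

/-- ring terms. -/
def tR {ι : Type} (f : ∀ V : D, (ι → O.obj.obj (op V)) → O.obj.obj (op V))
    (hf : ∀ {V V' : D} (k : V' ⟶ V) (α : ι → O.obj.obj (op V)),
      resO O k (f V α) = f V' (fun i => resO O k (α i))) :
    Xp (OS K O) (OS K O) ι (Fin 0) ⟶ OS K O :=
  term (A := OS K O) (B := OS K O) (Z := OS K O) (fun V α _ => f V α)
    (fun k α _ => hf k α)

variable {J fn}

/-- the action of a ring term upstairs. -/
def evR {ι : Type} [Fintype ι] (f : ∀ V : D, (ι → O.obj.obj (op V)) → O.obj.obj (op V))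
    (hf : ∀ {V V' : D} (k : V' ⟶ V) (α : ι → O.obj.obj (op V)),
      resO O k (f V α) = f V' (fun i => resO O k (α i)))
    {U : C} (a : ι → RU J K fn O U) : RU J K fn O U :=
  evP (tR f hf) a ![]

theorem evR_rs {ι : Type} [Fintype ι] (f : ∀ V : D, (ι → O.obj.obj (op V)) → O.obj.obj (op V))
    (hf : ∀ {V V' : D} (k : V' ⟶ V) (α : ι → O.obj.obj (op V)),
      resO O k (f V α) = f V' (fun i => resO O k (α i)))
    {U U' : C} (h : U' ⟶ U) (a : ι → RU J K fn O U) :
    rs ((P J K fn).obj (OS K O)) h (evR f hf a) =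
      evR f hf (fun i => rs ((P J K fn).obj (OS K O)) h (a i)) := by
  unfold evR
  rw [evP_rs, comp_vec0]

theorem evR_eta {ι : Type} [Fintype ι] (f : ∀ V : D, (ι → O.obj.obj (op V)) → O.obj.obj (op V))
    (hf : ∀ {V V' : D} (k : V' ⟶ V) (α : ι → O.obj.obj (op V)),
      resO O k (f V α) = f V' (fun i => resO O k (α i)))
    {V : D} (α : ι → O.obj.obj (op V)) :
    evR f hf (fun i => eta J K fn (OS K O) V (α i)) = eta J K fn (OS K O) V (f V α) := by
  unfold evR
  have h := evP_term_eta (J := J) (fn := fn) (A := OS K O) (B := OS K O) (Z := OS K O)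
    (fun V α (_ : Fin 0 → O.obj.obj (op V)) => f V α) (fun k α _ => hf k α) α ![]
  rw [comp_vec0] at h
  exact h


/-- the generic element `(eta x)|_g` of `RU U'`. -/
def geR {U' : C} {V : D} (g : U' ⟶ fn.obj V) (x : O.obj.obj (op V)) : RU J K fn O U' :=
  rs ((P J K fn).obj (OS K O)) g (eta J K fn (OS K O) V x)

/-- locality principle for tuples of sections of `f⁻¹O`. -/
theorem locR {ι : Type} [Fintype ι] {U : C} (a : ι → RU J K fn O U) (Y : Sheaf J (Type u))
    (e₁ e₂ : Y.obj.obj (op U))
    (H : ∀ ⦃U' : C⦄ (h : U' ⟶ U) (V : D) (g : U' ⟶ fn.obj V) (α : ι → O.obj.obj (op V)),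
      (∀ i, rs ((P J K fn).obj (OS K O)) h (a i) = geR g (α i)) → rs Y h e₁ = rs Y h e₂) :
    e₁ = e₂ := by
  obtain ⟨S, hS, hS'⟩ := gtp_tup (J := J) (fn := fn) (A := OS K O) (B := OS K O)
    (ι := ι) (κ := Fin 0) U a ![]
  apply eq_of_locally Y e₁ e₂ S hS
  intro U' h hh
  obtain ⟨V, g, α, -, hα, -⟩ := hS' h hh
  exact H h V g α hα

/-- zero. -/
def zeroR (U : C) : RU J K fn O U :=
  evR (ι := Fin 0) (fun V _ => (0 : O.obj.obj (op V))) (fun k _ => resO_zero O k) ![]

/-- one. -/
def oneR (U : C) : RU J K fn O U :=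
  evR (ι := Fin 0) (fun V _ => (1 : O.obj.obj (op V))) (fun k _ => resO_one' k) ![]

/-- addition. -/
def addR {U : C} (a b : RU J K fn O U) : RU J K fn O U :=
  evR (ι := Fin 2) (fun V α => α 0 + α 1) (fun k α => resO_add' k (α 0) (α 1)) ![a, b]

/-- negation. -/
def negR {U : C} (a : RU J K fn O U) : RU J K fn O U :=
  evR (ι := Fin 1) (fun V α => - α 0) (fun k α => resO_neg' k (α 0)) ![a]

/-- multiplication. -/
def mulR {U : C} (a b : RU J K fn O U) : RU J K fn O U :=
  evR (ι := Fin 2) (fun V α => α 0 * α 1) (fun k α => resO_mul O k (α 0) (α 1)) ![a, b]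

theorem rs_zeroR {U U' : C} (h : U' ⟶ U) :
    rs ((P J K fn).obj (OS K O)) h (zeroR (J := J) (fn := fn) (O := O) U) = zeroR U' := by
  have h1 := evR_rs (J := J) (fn := fn) (ι := Fin 0) (fun V _ => (0 : O.obj.obj (op V)))
    (fun k _ => resO_zero O k) h ![]
  rw [comp_vec0] at h1
  exact h1

theorem rs_oneR {U U' : C} (h : U' ⟶ U) :
    rs ((P J K fn).obj (OS K O)) h (oneR (J := J) (fn := fn) (O := O) U) = oneR U' := by
  have h1 := evR_rs (J := J) (fn := fn) (ι := Fin 0) (fun V _ => (1 : O.obj.obj (op V)))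
    (fun k _ => resO_one' k) h ![]
  rw [comp_vec0] at h1
  exact h1

theorem rs_addR {U U' : C} (h : U' ⟶ U) (a b : RU J K fn O U) :
    rs ((P J K fn).obj (OS K O)) h (addR a b) =
      addR (rs ((P J K fn).obj (OS K O)) h a) (rs ((P J K fn).obj (OS K O)) h b) := by
  have h1 := evR_rs (J := J) (fn := fn) (ι := Fin 2) (fun V α => α 0 + α 1)
    (fun k α => resO_add' k (α 0) (α 1)) h ![a, b]
  rw [comp_vec2] at h1
  exact h1

theorem rs_negR {U U' : C} (h : U' ⟶ U) (a : RU J K fn O U) :
    rs ((P J K fn).obj (OS K O)) h (negR a) = negR (rs ((P J K fn).obj (OS K O)) h a) := by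
  have h1 := evR_rs (J := J) (fn := fn) (ι := Fin 1) (fun V α => - α 0)
    (fun k α => resO_neg' k (α 0)) h ![a]
  rw [comp_vec1] at h1
  exact h1

theorem rs_mulR {U U' : C} (h : U' ⟶ U) (a b : RU J K fn O U) :
    rs ((P J K fn).obj (OS K O)) h (mulR a b) =
      mulR (rs ((P J K fn).obj (OS K O)) h a) (rs ((P J K fn).obj (OS K O)) h b) := by
  have h1 := evR_rs (J := J) (fn := fn) (ι := Fin 2) (fun V α => α 0 * α 1)
    (fun k α => resO_mul O k (α 0) (α 1)) h ![a, b]
  rw [comp_vec2] at h1
  exact h1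

theorem zeroR_eta (V : D) :
    zeroR (J := J) (fn := fn) (O := O) (fn.obj V) = eta J K fn (OS K O) V (0 : O.obj.obj (op V)) := by
  unfold zeroR
  have h := evR_eta (J := J) (fn := fn) (ι := Fin 0) (fun V _ => (0 : O.obj.obj (op V)))
    (fun k _ => resO_zero O k) (V := V) ![]
  rw [comp_vec0] at h
  exact h

theorem oneR_eta (V : D) :
    oneR (J := J) (fn := fn) (O := O) (fn.obj V) = eta J K fn (OS K O) V (1 : O.obj.obj (op V)) := by
  unfold oneR
  have h := evR_eta (J := J) (fn := fn) (ι := Fin 0) (fun V _ => (1 : O.obj.obj (op V)))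
    (fun k _ => resO_one' k) (V := V) ![]
  rw [comp_vec0] at h
  exact h

theorem addR_eta {V : D} (x y : O.obj.obj (op V)) :
    addR (eta J K fn (OS K O) V x) (eta J K fn (OS K O) V y) = eta J K fn (OS K O) V (x + y) := by
  unfold addR
  have h := evR_eta (J := J) (fn := fn) (ι := Fin 2) (fun V α => α 0 + α 1)
    (fun k α => resO_add' k (α 0) (α 1)) (V := V) ![x, y]
  rw [comp_vec2] at h
  exact h

theorem negR_eta {V : D} (x : O.obj.obj (op V)) :
    negR (eta J K fn (OS K O) V x) = eta J K fn (OS K O) V (-x) := by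
  unfold negR
  have h := evR_eta (J := J) (fn := fn) (ι := Fin 1) (fun V α => - α 0)
    (fun k α => resO_neg' k (α 0)) (V := V) ![x]
  rw [comp_vec1] at h
  exact h

theorem mulR_eta {V : D} (x y : O.obj.obj (op V)) :
    mulR (eta J K fn (OS K O) V x) (eta J K fn (OS K O) V y) = eta J K fn (OS K O) V (x * y) := by
  unfold mulR
  have h := evR_eta (J := J) (fn := fn) (ι := Fin 2) (fun V α => α 0 * α 1)
    (fun k α => resO_mul O k (α 0) (α 1)) (V := V) ![x, y]
  rw [comp_vec2] at h
  exact h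

theorem zeroR_ge {U' : C} {V : D} (g : U' ⟶ fn.obj V) :
    zeroR (J := J) (fn := fn) (O := O) U' = geR g 0 := by
  unfold geR
  rw [← zeroR_eta, rs_zeroR]

theorem oneR_ge {U' : C} {V : D} (g : U' ⟶ fn.obj V) :
    oneR (J := J) (fn := fn) (O := O) U' = geR g 1 := by
  unfold geR
  rw [← oneR_eta, rs_oneR]

theorem addR_ge {U' : C} {V : D} (g : U' ⟶ fn.obj V) (x y : O.obj.obj (op V)) :
    addR (geR (J := J) g x) (geR g y) = geR g (x + y) := by
  unfold geR
  rw [← rs_addR, addR_eta]

theorem negR_ge {U' : C} {V : D} (g : U' ⟶ fn.obj V) (x : O.obj.obj (op V)) :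
    negR (geR (J := J) g x) = geR g (-x) := by
  unfold geR
  rw [← rs_negR, negR_eta]

theorem mulR_ge {U' : C} {V : D} (g : U' ⟶ fn.obj V) (x y : O.obj.obj (op V)) :
    mulR (geR (J := J) g x) (geR g y) = geR g (x * y) := by
  unfold geR
  rw [← rs_mulR, mulR_eta]


/-! #### the axioms -/

theorem addR_assoc {U : C} (a b c : RU J K fn O U) : addR (addR a b) c = addR a (addR b c) := by
  apply locR (J := J) (fn := fn) ![a, b, c] ((P J K fn).obj (OS K O))
  intro U' h V g α hα
  have ha : rs _ h a = geR g (α 0) := hα 0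
  have hb : rs _ h b = geR g (α 1) := hα 1
  have hc : rs _ h c = geR g (α 2) := hα 2
  simp only [rs_addR, ha, hb, hc, addR_ge]
  rw [add_assoc]

theorem zero_addR {U : C} (a : RU J K fn O U) : addR (zeroR U) a = a := by
  apply locR (J := J) (fn := fn) ![a] ((P J K fn).obj (OS K O))
  intro U' h V g α hα
  have ha : rs _ h a = geR g (α 0) := hα 0
  simp only [rs_addR, rs_zeroR, ha]
  rw [zeroR_ge g, addR_ge, zero_add]

theorem addR_comm {U : C} (a b : RU J K fn O U) : addR a b = addR b a := by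
  apply locR (J := J) (fn := fn) ![a, b] ((P J K fn).obj (OS K O))
  intro U' h V g α hα
  have ha : rs _ h a = geR g (α 0) := hα 0
  have hb : rs _ h b = geR g (α 1) := hα 1
  simp only [rs_addR, ha, hb, addR_ge]
  rw [add_comm]

theorem addR_zero {U : C} (a : RU J K fn O U) : addR a (zeroR U) = a := by
  rw [addR_comm, zero_addR]

theorem negR_addR_cancel {U : C} (a : RU J K fn O U) : addR (negR a) a = zeroR U := by
  apply locR (J := J) (fn := fn) ![a] ((P J K fn).obj (OS K O))
  intro U' h V g α hα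
  have ha : rs _ h a = geR g (α 0) := hα 0
  simp only [rs_addR, rs_negR, rs_zeroR, ha, negR_ge, addR_ge]
  rw [zeroR_ge g, neg_add_cancel]

theorem mulR_assoc {U : C} (a b c : RU J K fn O U) : mulR (mulR a b) c = mulR a (mulR b c) := by
  apply locR (J := J) (fn := fn) ![a, b, c] ((P J K fn).obj (OS K O))
  intro U' h V g α hα
  have ha : rs _ h a = geR g (α 0) := hα 0
  have hb : rs _ h b = geR g (α 1) := hα 1
  have hc : rs _ h c = geR g (α 2) := hα 2
  simp only [rs_mulR, ha, hb, hc, mulR_ge]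
  rw [mul_assoc]

theorem mulR_comm {U : C} (a b : RU J K fn O U) : mulR a b = mulR b a := by
  apply locR (J := J) (fn := fn) ![a, b] ((P J K fn).obj (OS K O))
  intro U' h V g α hα
  have ha : rs _ h a = geR g (α 0) := hα 0
  have hb : rs _ h b = geR g (α 1) := hα 1
  simp only [rs_mulR, ha, hb, mulR_ge]
  rw [mul_comm]

theorem one_mulR {U : C} (a : RU J K fn O U) : mulR (oneR U) a = a := by
  apply locR (J := J) (fn := fn) ![a] ((P J K fn).obj (OS K O))
  intro U' h V g α hα
  have ha : rs _ h a = geR g (α 0) := hα 0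
  simp only [rs_mulR, rs_oneR, ha]
  rw [oneR_ge g, mulR_ge, one_mul]

theorem mulR_one {U : C} (a : RU J K fn O U) : mulR a (oneR U) = a := by
  rw [mulR_comm, one_mulR]

theorem zero_mulR {U : C} (a : RU J K fn O U) : mulR (zeroR U) a = zeroR U := by
  apply locR (J := J) (fn := fn) ![a] ((P J K fn).obj (OS K O))
  intro U' h V g α hα
  have ha : rs _ h a = geR g (α 0) := hα 0
  simp only [rs_mulR, rs_zeroR, ha]
  rw [zeroR_ge g, mulR_ge, zero_mul]

theorem mulR_zero {U : C} (a : RU J K fn O U) : mulR a (zeroR U) = zeroR U := by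
  rw [mulR_comm, zero_mulR]

theorem mulR_addR {U : C} (a b c : RU J K fn O U) :
    mulR a (addR b c) = addR (mulR a b) (mulR a c) := by
  apply locR (J := J) (fn := fn) ![a, b, c] ((P J K fn).obj (OS K O))
  intro U' h V g α hα
  have ha : rs _ h a = geR g (α 0) := hα 0
  have hb : rs _ h b = geR g (α 1) := hα 1
  have hc : rs _ h c = geR g (α 2) := hα 2
  simp only [rs_mulR, rs_addR, ha, hb, hc, mulR_ge, addR_ge]
  rw [mul_add]

theorem addR_mulR {U : C} (a b c : RU J K fn O U) :
    mulR (addR a b) c = addR (mulR a c) (mulR b c) := by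
  rw [mulR_comm, mulR_addR, mulR_comm c a, mulR_comm c b]

instance instAddRU (U : C) : Add (RU J K fn O U) := ⟨addR⟩
instance instMulRU (U : C) : Mul (RU J K fn O U) := ⟨mulR⟩
instance instNegRU (U : C) : Neg (RU J K fn O U) := ⟨negR⟩
instance instZeroRU (U : C) : Zero (RU J K fn O U) := ⟨zeroR U⟩
instance instOneRU (U : C) : One (RU J K fn O U) := ⟨oneR U⟩

instance instCommRingRU (U : C) : CommRing (RU J K fn O U) :=
  CommRing.ofMinimalAxioms addR_assoc zero_addR negR_addR_cancel mulR_assoc mulR_comm one_mulR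
    mulR_addR

theorem add_def {U : C} (a b : RU J K fn O U) : a + b = addR a b := rfl
theorem mul_def {U : C} (a b : RU J K fn O U) : a * b = mulR a b := rfl
theorem neg_def {U : C} (a : RU J K fn O U) : -a = negR a := rfl
theorem zero_def (U : C) : (0 : RU J K fn O U) = zeroR U := rfl
theorem one_def (U : C) : (1 : RU J K fn O U) = oneR U := rfl


/-- restriction, as a ring homomorphism. -/
def rsR {U U' : C} (h : U' ⟶ U) : RU J K fn O U →+* RU J K fn O U' where
  toFun := rs ((P J K fn).obj (OS K O)) h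
  map_one' := rs_oneR h
  map_mul' := rs_mulR h
  map_zero' := rs_zeroR h
  map_add' := rs_addR h

theorem rsR_apply {U U' : C} (h : U' ⟶ U) (a : RU J K fn O U) :
    rsR h a = rs ((P J K fn).obj (OS K O)) h a := rfl

variable (J fn) in
/-- the unit, as a ring homomorphism. -/
def etaO (V : D) : O.obj.obj (op V) →+* RU J K fn O (fn.obj V) where
  toFun := eta J K fn (OS K O) V
  map_one' := (oneR_eta V).symm
  map_mul' := fun x y => (mulR_eta x y).symm
  map_zero' := (zeroR_eta V).symm
  map_add' := fun x y => (addR_eta x y).symm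

theorem etaO_apply (V : D) (x : O.obj.obj (op V)) : etaO J fn V x = eta J K fn (OS K O) V x := rfl

theorem geR_eq {U' : C} {V : D} (g : U' ⟶ fn.obj V) (x : O.obj.obj (op V)) :
    geR (J := J) g x = rsR g (etaO J fn V x) := rfl

theorem rsR_id {U : C} (a : RU J K fn O U) : rsR (𝟙 U) a = a := rs_id _ a

theorem rsR_comp {U U' U'' : C} (h : U' ⟶ U) (h' : U'' ⟶ U') (a : RU J K fn O U) :
    rsR (h' ≫ h) a = rsR h' (rsR h a) := rs_comp _ h h' a

theorem etaO_res {V V' : D} (k : V' ⟶ V) (x : O.obj.obj (op V)) :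
    rsR (fn.map k) (etaO J fn V x) = etaO J fn V' (resO O k x) :=
  eta_rs (OS K O) k x

end ring

end

end Groth.Agent.Lib.Helper21.InvF
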