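import Mathlib
import Groth.Prelude.Def_ModSite
import Groth.Agent.Lib.Helper21InvF4

/-!
# Helper21 InvF5: the module structure on `MU U = (f⁻¹F)(U)` over `RU U = (f⁻¹O)(U)`
-/

set_option autoImplicit false
universe u
open CategoryTheory CategoryTheory.Limits Opposite

namespace Groth.Agent.Lib.Helper21.InvF

open Groth.Agent.Lib.Helper21.EqCrit

noncomputable section

variable {C D : Type u} [SmallCategory C] [SmallCategory D] {J : GrothendieckTopology C}
  {K : GrothendieckTopology D} {fn : D ⥤ C} [fn.IsContinuous K J]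
  {O : Sheaf K CommRingCat.{u}} (F : ModSite.Mod O) [PreservesFiniteLimits (P J K fn)]

/-- the action of a module term upstairs. -/
def evM {ι κ : Type} [Fintype ι] [Fintype κ]
    (f : ∀ V : D, (ι → O.obj.obj (op V)) → (κ → F.val.obj (op V)) → F.val.obj (op V))
    (hf : ∀ {V V' : D} (k : V' ⟶ V) (α : ι → O.obj.obj (op V)) (ζ : κ → F.val.obj (op V)),
      res O F k (f V α ζ) = f V' (fun i => resO O k (α i)) (fun j => res O F k (ζ j)))
    {U : C} (a : ι → RU J K fn O U) (z : κ → MU J K fn O F U) : MU J K fn O F U :=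
  evP (term (A := OS K O) (B := FS K O F) (Z := FS K O F) f hf) a z

theorem evM_rs {ι κ : Type} [Fintype ι] [Fintype κ]
    (f : ∀ V : D, (ι → O.obj.obj (op V)) → (κ → F.val.obj (op V)) → F.val.obj (op V))
    (hf : ∀ {V V' : D} (k : V' ⟶ V) (α : ι → O.obj.obj (op V)) (ζ : κ → F.val.obj (op V)),
      res O F k (f V α ζ) = f V' (fun i => resO O k (α i)) (fun j => res O F k (ζ j)))
    {U U' : C} (h : U' ⟶ U) (a : ι → RU J K fn O U) (z : κ → MU J K fn O F U) :
    rs ((P J K fn).obj (FS K O F)) h (evM F f hf a z) =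
      evM F f hf (fun i => rs ((P J K fn).obj (OS K O)) h (a i))
        (fun j => rs ((P J K fn).obj (FS K O F)) h (z j)) := by
  unfold evM
  exact evP_rs _ h a z

theorem evM_eta {ι κ : Type} [Fintype ι] [Fintype κ]
    (f : ∀ V : D, (ι → O.obj.obj (op V)) → (κ → F.val.obj (op V)) → F.val.obj (op V))
    (hf : ∀ {V V' : D} (k : V' ⟶ V) (α : ι → O.obj.obj (op V)) (ζ : κ → F.val.obj (op V)),
      res O F k (f V α ζ) = f V' (fun i => resO O k (α i)) (fun j => res O F k (ζ j)))
    {V : D} (α : ι → O.obj.obj (op V)) (ζ : κ → F.val.obj (op V)) :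
    evM F f hf (fun i => eta J K fn (OS K O) V (α i)) (fun j => eta J K fn (FS K O F) V (ζ j)) =
      eta J K fn (FS K O F) V (f V α ζ) := by
  unfold evM
  exact evP_term_eta (J := J) (fn := fn) (A := OS K O) (B := FS K O F) (Z := FS K O F) f hf α ζ

/-- the generic element `(eta y)|_g` of `MU U'`. -/
def geM {U' : C} {V : D} (g : U' ⟶ fn.obj V) (y : F.val.obj (op V)) : MU J K fn O F U' :=
  rs ((P J K fn).obj (FS K O F)) g (eta J K fn (FS K O F) V y)

/-- locality principle for tuples of sections of `f⁻¹O` and `f⁻¹F`. -/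
theorem locM {ι κ : Type} [Fintype ι] [Fintype κ] {U : C} (a : ι → RU J K fn O U)
    (z : κ → MU J K fn O F U) (Y : Sheaf J (Type u)) (e₁ e₂ : Y.obj.obj (op U))
    (H : ∀ ⦃U' : C⦄ (h : U' ⟶ U) (V : D) (g : U' ⟶ fn.obj V) (α : ι → O.obj.obj (op V))
      (ζ : κ → F.val.obj (op V)),
      (∀ i, rs ((P J K fn).obj (OS K O)) h (a i) = geR g (α i)) →
      (∀ j, rs ((P J K fn).obj (FS K O F)) h (z j) = geM F g (ζ j)) →
      rs Y h e₁ = rs Y h e₂) : e₁ = e₂ := by
  obtain ⟨S, hS, hS'⟩ := gtp_tup (J := J) (fn := fn) (A := OS K O) (B := FS K O F) U a z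
  apply eq_of_locally Y e₁ e₂ S hS
  intro U' h hh
  obtain ⟨V, g, α, ζ, hα, hζ⟩ := hS' h hh
  exact H h V g α ζ hα hζ

/-- zero. -/
def zeroM (U : C) : MU J K fn O F U :=
  evM F (ι := Fin 0) (κ := Fin 0) (fun V _ _ => (0 : F.val.obj (op V)))
    (fun k _ _ => res_zero O F k) ![] ![]

/-- addition. -/
def addM {U : C} (z w : MU J K fn O F U) : MU J K fn O F U :=
  evM F (ι := Fin 0) (κ := Fin 2) (fun V _ ζ => ζ 0 + ζ 1)
    (fun k _ ζ => res_add' F k (ζ 0) (ζ 1)) ![] ![z, w]

/-- negation. -/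
def negM {U : C} (z : MU J K fn O F U) : MU J K fn O F U :=
  evM F (ι := Fin 0) (κ := Fin 1) (fun V _ ζ => - ζ 0)
    (fun k _ ζ => res_neg' F k (ζ 0)) ![] ![z]

/-- scalar multiplication. -/
def smulM {U : C} (r : RU J K fn O U) (z : MU J K fn O F U) : MU J K fn O F U :=
  evM F (ι := Fin 1) (κ := Fin 1) (fun V α ζ => α 0 • ζ 0)
    (fun k α ζ => res_smul O F k (α 0) (ζ 0)) ![r] ![z]

theorem rs_zeroM {U U' : C} (h : U' ⟶ U) :
    rs ((P J K fn).obj (FS K O F)) h (zeroM (J := J) (fn := fn) F U) = zeroM F U' := by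
  have h1 := evM_rs (J := J) (fn := fn) F (ι := Fin 0) (κ := Fin 0)
    (fun V _ _ => (0 : F.val.obj (op V))) (fun k _ _ => res_zero O F k) h ![] ![]
  rw [comp_vec0, comp_vec0] at h1
  exact h1

theorem rs_addM {U U' : C} (h : U' ⟶ U) (z w : MU J K fn O F U) :
    rs ((P J K fn).obj (FS K O F)) h (addM F z w) =
      addM F (rs ((P J K fn).obj (FS K O F)) h z) (rs ((P J K fn).obj (FS K O F)) h w) := by
  have h1 := evM_rs (J := J) (fn := fn) F (ι := Fin 0) (κ := Fin 2) (fun V _ ζ => ζ 0 + ζ 1)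
    (fun k _ ζ => res_add' F k (ζ 0) (ζ 1)) h ![] ![z, w]
  rw [comp_vec0, comp_vec2] at h1
  exact h1

theorem rs_negM {U U' : C} (h : U' ⟶ U) (z : MU J K fn O F U) :
    rs ((P J K fn).obj (FS K O F)) h (negM F z) =
      negM F (rs ((P J K fn).obj (FS K O F)) h z) := by
  have h1 := evM_rs (J := J) (fn := fn) F (ι := Fin 0) (κ := Fin 1) (fun V _ ζ => - ζ 0)
    (fun k _ ζ => res_neg' F k (ζ 0)) h ![] ![z]
  rw [comp_vec0, comp_vec1] at h1
  exact h1

theorem rs_smulM {U U' : C} (h : U' ⟶ U) (r : RU J K fn O U) (z : MU J K fn O F U) :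
    rs ((P J K fn).obj (FS K O F)) h (smulM F r z) =
      smulM F (rs ((P J K fn).obj (OS K O)) h r) (rs ((P J K fn).obj (FS K O F)) h z) := by
  have h1 := evM_rs (J := J) (fn := fn) F (ι := Fin 1) (κ := Fin 1) (fun V α ζ => α 0 • ζ 0)
    (fun k α ζ => res_smul O F k (α 0) (ζ 0)) h ![r] ![z]
  rw [comp_vec1, comp_vec1] at h1
  exact h1

theorem zeroM_eta (V : D) :
    zeroM (J := J) (fn := fn) F (fn.obj V) = eta J K fn (FS K O F) V (0 : F.val.obj (op V)) := by
  have h := evM_eta (J := J) (fn := fn) F (ι := Fin 0) (κ := Fin 0)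
    (fun V _ _ => (0 : F.val.obj (op V))) (fun k _ _ => res_zero O F k) (V := V) ![] ![]
  rw [comp_vec0, comp_vec0] at h
  exact h

theorem addM_eta {V : D} (x y : F.val.obj (op V)) :
    addM F (eta J K fn (FS K O F) V x) (eta J K fn (FS K O F) V y) =
      eta J K fn (FS K O F) V (x + y) := by
  have h := evM_eta (J := J) (fn := fn) F (ι := Fin 0) (κ := Fin 2) (fun V _ ζ => ζ 0 + ζ 1)
    (fun k _ ζ => res_add' F k (ζ 0) (ζ 1)) (V := V) ![] ![x, y]
  rw [comp_vec0, comp_vec2] at h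
  exact h

theorem negM_eta {V : D} (x : F.val.obj (op V)) :
    negM F (eta J K fn (FS K O F) V x) = eta J K fn (FS K O F) V (-x) := by
  have h := evM_eta (J := J) (fn := fn) F (ι := Fin 0) (κ := Fin 1) (fun V _ ζ => - ζ 0)
    (fun k _ ζ => res_neg' F k (ζ 0)) (V := V) ![] ![x]
  rw [comp_vec0, comp_vec1] at h
  exact h

theorem smulM_eta {V : D} (r : O.obj.obj (op V)) (x : F.val.obj (op V)) :
    smulM F (eta J K fn (OS K O) V r) (eta J K fn (FS K O F) V x) =
      eta J K fn (FS K O F) V (r • x) := by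
  have h := evM_eta (J := J) (fn := fn) F (ι := Fin 1) (κ := Fin 1) (fun V α ζ => α 0 • ζ 0)
    (fun k α ζ => res_smul O F k (α 0) (ζ 0)) (V := V) ![r] ![x]
  rw [comp_vec1, comp_vec1] at h
  exact h

theorem zeroM_ge {U' : C} {V : D} (g : U' ⟶ fn.obj V) :
    zeroM (J := J) (fn := fn) F U' = geM F g 0 := by
  unfold geM
  rw [← zeroM_eta, rs_zeroM]

theorem addM_ge {U' : C} {V : D} (g : U' ⟶ fn.obj V) (x y : F.val.obj (op V)) :
    addM F (geM (J := J) F g x) (geM F g y) = geM F g (x + y) := by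
  unfold geM
  rw [← rs_addM, addM_eta]

theorem negM_ge {U' : C} {V : D} (g : U' ⟶ fn.obj V) (x : F.val.obj (op V)) :
    negM F (geM (J := J) F g x) = geM F g (-x) := by
  unfold geM
  rw [← rs_negM, negM_eta]

theorem smulM_ge {U' : C} {V : D} (g : U' ⟶ fn.obj V) (r : O.obj.obj (op V))
    (x : F.val.obj (op V)) :
    smulM F (geR (J := J) g r) (geM F g x) = geM F g (r • x) := by
  unfold geM geR
  rw [← rs_smulM, smulM_eta]


/-! ### the axioms -/

theorem addM_assoc {U : C} (a b c : MU J K fn O F U) :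
    addM F (addM F a b) c = addM F a (addM F b c) := by
  apply locM (J := J) (fn := fn) F ![] ![a, b, c] ((P J K fn).obj (FS K O F))
  intro U' h V g α ζ _ hζ
  have ha : rs _ h a = geM F g (ζ 0) := hζ 0
  have hb : rs _ h b = geM F g (ζ 1) := hζ 1
  have hc : rs _ h c = geM F g (ζ 2) := hζ 2
  simp only [rs_addM, ha, hb, hc, addM_ge]
  rw [add_assoc]

theorem zero_addM {U : C} (a : MU J K fn O F U) : addM F (zeroM F U) a = a := by
  apply locM (J := J) (fn := fn) F ![] ![a] ((P J K fn).obj (FS K O F))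
  intro U' h V g α ζ _ hζ
  have ha : rs _ h a = geM F g (ζ 0) := hζ 0
  simp only [rs_addM, rs_zeroM, ha]
  rw [zeroM_ge F g, addM_ge, zero_add]

theorem addM_comm {U : C} (a b : MU J K fn O F U) : addM F a b = addM F b a := by
  apply locM (J := J) (fn := fn) F ![] ![a, b] ((P J K fn).obj (FS K O F))
  intro U' h V g α ζ _ hζ
  have ha : rs _ h a = geM F g (ζ 0) := hζ 0
  have hb : rs _ h b = geM F g (ζ 1) := hζ 1
  simp only [rs_addM, ha, hb, addM_ge]
  rw [add_comm]

theorem negM_addM_cancel {U : C} (a : MU J K fn O F U) : addM F (negM F a) a = zeroM F U := by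
  apply locM (J := J) (fn := fn) F ![] ![a] ((P J K fn).obj (FS K O F))
  intro U' h V g α ζ _ hζ
  have ha : rs _ h a = geM F g (ζ 0) := hζ 0
  simp only [rs_addM, rs_negM, rs_zeroM, ha, negM_ge, addM_ge]
  rw [zeroM_ge F g, neg_add_cancel]

theorem smulM_addM {U : C} (r : RU J K fn O U) (a b : MU J K fn O F U) :
    smulM F r (addM F a b) = addM F (smulM F r a) (smulM F r b) := by
  apply locM (J := J) (fn := fn) F ![r] ![a, b] ((P J K fn).obj (FS K O F))
  intro U' h V g α ζ hα hζ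
  have hr : rs _ h r = geR g (α 0) := hα 0
  have ha : rs _ h a = geM F g (ζ 0) := hζ 0
  have hb : rs _ h b = geM F g (ζ 1) := hζ 1
  simp only [rs_smulM, rs_addM, hr, ha, hb, addM_ge, smulM_ge]
  rw [smul_add]

theorem addR_smulM {U : C} (r s : RU J K fn O U) (a : MU J K fn O F U) :
    smulM F (addR r s) a = addM F (smulM F r a) (smulM F s a) := by
  apply locM (J := J) (fn := fn) F ![r, s] ![a] ((P J K fn).obj (FS K O F))
  intro U' h V g α ζ hα hζ
  have hr : rs _ h r = geR g (α 0) := hα 0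
  have hs : rs _ h s = geR g (α 1) := hα 1
  have ha : rs _ h a = geM F g (ζ 0) := hζ 0
  simp only [rs_smulM, rs_addM, rs_addR, hr, hs, ha, addR_ge, addM_ge, smulM_ge]
  rw [add_smul]

theorem mulR_smulM {U : C} (r s : RU J K fn O U) (a : MU J K fn O F U) :
    smulM F (mulR r s) a = smulM F r (smulM F s a) := by
  apply locM (J := J) (fn := fn) F ![r, s] ![a] ((P J K fn).obj (FS K O F))
  intro U' h V g α ζ hα hζ
  have hr : rs _ h r = geR g (α 0) := hα 0
  have hs : rs _ h s = geR g (α 1) := hα 1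
  have ha : rs _ h a = geM F g (ζ 0) := hζ 0
  simp only [rs_smulM, rs_mulR, hr, hs, ha, mulR_ge, smulM_ge]
  rw [mul_smul]

theorem oneR_smulM {U : C} (a : MU J K fn O F U) : smulM F (oneR U) a = a := by
  apply locM (J := J) (fn := fn) F ![] ![a] ((P J K fn).obj (FS K O F))
  intro U' h V g α ζ _ hζ
  have ha : rs _ h a = geM F g (ζ 0) := hζ 0
  simp only [rs_smulM, rs_oneR, ha]
  rw [oneR_ge g, smulM_ge, one_smul]

instance instAddMU (U : C) : Add (MU J K fn O F U) := ⟨addM F⟩
instance instNegMU (U : C) : Neg (MU J K fn O F U) := ⟨negM F⟩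
instance instZeroMU (U : C) : Zero (MU J K fn O F U) := ⟨zeroM F U⟩
instance instSMulMU (U : C) : SMul (RU J K fn O U) (MU J K fn O F U) := ⟨smulM F⟩

instance instAddCommGroupMU (U : C) : AddCommGroup (MU J K fn O F U) :=
  { AddGroup.ofLeftAxioms (addM_assoc F) (zero_addM F) (negM_addM_cancel F) with
    add_comm := addM_comm F }

instance instModuleMU (U : C) : Module (RU J K fn O U) (MU J K fn O F U) :=
  Module.ofMinimalAxioms (smulM_addM F) (addR_smulM F) (mulR_smulM F) (oneR_smulM F)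

theorem addM_def {U : C} (a b : MU J K fn O F U) : a + b = addM F a b := rfl
theorem negM_def {U : C} (a : MU J K fn O F U) : -a = negM F a := rfl
theorem zeroM_def (U : C) : (0 : MU J K fn O F U) = zeroM F U := rfl
theorem smulM_def {U : C} (r : RU J K fn O U) (a : MU J K fn O F U) : r • a = smulM F r a := rfl

/-- restriction, as an additive map. -/
def rsM {U U' : C} (h : U' ⟶ U) : MU J K fn O F U →+ MU J K fn O F U' where
  toFun := rs ((P J K fn).obj (FS K O F)) h
  map_zero' := rs_zeroM F h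
  map_add' := rs_addM F h

theorem rsM_apply {U U' : C} (h : U' ⟶ U) (a : MU J K fn O F U) :
    rsM F h a = rs ((P J K fn).obj (FS K O F)) h a := rfl

theorem rsM_smul {U U' : C} (h : U' ⟶ U) (r : RU J K fn O U) (a : MU J K fn O F U) :
    rsM F h (r • a) = rsR h r • rsM F h a := rs_smulM F h r a

theorem rsM_id {U : C} (a : MU J K fn O F U) : rsM F (𝟙 U) a = a := rs_id _ a

theorem rsM_comp {U U' U'' : C} (h : U' ⟶ U) (h' : U'' ⟶ U') (a : MU J K fn O F U) :
    rsM F (h' ≫ h) a = rsM F h' (rsM F h a) := rs_comp _ h h' a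

variable (J fn) in
/-- the unit, as an additive map. -/
def etaF (V : D) : F.val.obj (op V) →+ MU J K fn O F (fn.obj V) where
  toFun := eta J K fn (FS K O F) V
  map_zero' := (zeroM_eta F V).symm
  map_add' := fun x y => (addM_eta F x y).symm

theorem etaF_apply (V : D) (x : F.val.obj (op V)) :
    etaF J fn F V x = eta J K fn (FS K O F) V x := rfl

theorem etaF_smul (V : D) (r : O.obj.obj (op V)) (x : F.val.obj (op V)) :
    etaF J fn F V (r • x) = etaO J fn V r • etaF J fn F V x := (smulM_eta F r x).symm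

theorem etaF_res {V V' : D} (k : V' ⟶ V) (x : F.val.obj (op V)) :
    rsM F (fn.map k) (etaF J fn F V x) = etaF J fn F V' (res O F k x) :=
  eta_rs (FS K O F) k x

theorem geM_eq {U' : C} {V : D} (g : U' ⟶ fn.obj V) (x : F.val.obj (op V)) :
    geM (J := J) F g x = rsM F g (etaF J fn F V x) := rfl

/-- tuples of sections of `f⁻¹O` and `f⁻¹F` are locally induced from downstairs. -/
theorem gtpM {ι κ : Type} [Fintype ι] [Fintype κ] {U : C} (a : ι → RU J K fn O U)
    (z : κ → MU J K fn O F U) :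
    ∃ S ∈ J U, ∀ ⦃U' : C⦄ (h : U' ⟶ U), S h →
      ∃ (V : D) (g : U' ⟶ fn.obj V) (α : ι → O.obj.obj (op V)) (ζ : κ → F.val.obj (op V)),
        (∀ i, rsR h (a i) = rsR g (etaO J fn V (α i))) ∧
        (∀ j, rsM F h (z j) = rsM F g (etaF J fn F V (ζ j))) :=
  gtp_tup (J := J) (fn := fn) (A := OS K O) (B := FS K O F) U a z

end

end Groth.Agent.Lib.Helper21.InvF
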