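import Mathlib
import Groth.Prelude.Def_ModSite
import Groth.Agent.Lib.Helper21InvF5
import Groth.Agent.Lib.Helper21EqCrit4

/-!
# Helper21 InvF6: the equational criterion transfers to `f⁻¹F` over `f⁻¹O`

`crit_MU` : if `F` is a flat `O`-module on `D`, then every finite system of relations among sections
of `f⁻¹F` with coefficients in `f⁻¹O` is locally trivial.
-/

set_option autoImplicit false
universe u
open CategoryTheory CategoryTheory.Limits Opposite

namespace Groth.Agent.Lib.Helper21.InvF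

open Groth.Agent.Lib.Helper21.EqCrit

noncomputable section

variable {C D : Type u} [SmallCategory C] [SmallCategory D] {J : GrothendieckTopology C}
  {K : GrothendieckTopology D} {fn : D ⥤ C} [fn.IsContinuous K J]
  {O : Sheaf K CommRingCat.{u}} (F : ModSite.Mod O) [PreservesFiniteLimits (P J K fn)]

section rel

variable (q N : ℕ)

/-- the sheaf of pairs (matrix, vector). -/
abbrev Xrel : Sheaf K (Type u) := Xp (OS K O) (FS K O F) (Fin q × Fin N) (Fin N)

/-- the sheaf of `q`-tuples of sections of `F`. -/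
abbrev Zrel : Sheaf K (Type u) := Xp (OS K O) (FS K O F) (Fin 0) (Fin q)

/-- the `r`-th relation, on sections. -/
def relF (r : Fin q) (V : D) (E : Fin q × Fin N → O.obj.obj (op V))
    (ω : Fin N → F.val.obj (op V)) : F.val.obj (op V) := ∑ i, E (r, i) • ω i

theorem relF_nat (r : Fin q) {V V' : D} (k : V' ⟶ V) (E : Fin q × Fin N → O.obj.obj (op V))
    (ω : Fin N → F.val.obj (op V)) :
    res O F k (relF F q N r V E ω) =
      relF F q N r V' (fun p => resO O k (E p)) (fun j => res O F k (ω j)) := by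
  unfold relF
  rw [res_sum]
  exact Finset.sum_congr rfl fun i _ => res_smul O F k _ _

/-- the `r`-th relation. -/
def relTerm (r : Fin q) : Xrel F q N ⟶ FS K O F :=
  term (A := OS K O) (B := FS K O F) (Z := FS K O F) (relF F q N r)
    (fun k E ω => relF_nat F q N r k E ω)

/-- the zero term. -/
def zeroTerm : Xrel F q N ⟶ FS K O F :=
  term (A := OS K O) (B := FS K O F) (Z := FS K O F)
    (fun V _ _ => (0 : F.val.obj (op V))) (fun k _ _ => res_zero O F k)

/-- all relations. -/
def sRel : Xrel F q N ⟶ Zrel F q :=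
  Pi.lift (fun s => match s with
    | .inl i => i.elim0
    | .inr r => relTerm F q N r)

/-- zero. -/
def tRel : Xrel F q N ⟶ Zrel F q :=
  Pi.lift (fun s => match s with
    | .inl i => i.elim0
    | .inr _ => zeroTerm F q N)

theorem sRel_pB (r : Fin q) : sRel F q N ≫ pB (OS K O) (FS K O F) (Fin 0) (Fin q) r = relTerm F q N r := by
  unfold sRel pB
  exact Pi.lift_π _ (Sum.inr r)

theorem tRel_pB (r : Fin q) : tRel F q N ≫ pB (OS K O) (FS K O F) (Fin 0) (Fin q) r = zeroTerm F q N := by
  unfold tRel pB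
  exact Pi.lift_π _ (Sum.inr r)


variable {q N}

theorem ap_relTerm (r : Fin q) {V : D} (E : Fin q × Fin N → O.obj.obj (op V))
    (ω : Fin N → F.val.obj (op V)) :
    ap (relTerm F q N r) (mkX (A := OS K O) (B := FS K O F) E ω) = (∑ i, E (r, i) • ω i : F.val.obj (op V)) := by
  exact ap_term (A := OS K O) (B := FS K O F) (Z := FS K O F) (relF F q N r)
    (fun k E ω => relF_nat F q N r k E ω) E ω

theorem ap_zeroTerm {V : D} (E : Fin q × Fin N → O.obj.obj (op V))
    (ω : Fin N → F.val.obj (op V)) :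
    ap (zeroTerm F q N) (mkX (A := OS K O) (B := FS K O F) E ω) = (0 : F.val.obj (op V)) := by
  exact ap_term (A := OS K O) (B := FS K O F) (Z := FS K O F)
    (fun V _ _ => (0 : F.val.obj (op V))) (fun k _ _ => res_zero O F k) E ω

theorem evP_relTerm (r : Fin q) {U : C} (e' : Fin q × Fin N → RU J K fn O U)
    (w : Fin N → MU J K fn O F U) :
    evP (relTerm F q N r) e' w = ∑ i, e' (r, i) • w i := by
  apply locM (J := J) (fn := fn) F e' w ((P J K fn).obj (FS K O F))
  intro U' h V g E ω hE hω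
  rw [evP_rs]
  have h1 : (fun p => rs ((P J K fn).obj (OS K O)) h (e' p)) =
      fun p => rs ((P J K fn).obj (OS K O)) g (eta J K fn (OS K O) V (E p)) := funext hE
  have h2 : (fun j => rs ((P J K fn).obj (FS K O F)) h (w j)) =
      fun j => rs ((P J K fn).obj (FS K O F)) g (eta J K fn (FS K O F) V (ω j)) := funext hω
  rw [h1, h2, ← evP_rs]
  have h5 := evP_eta (J := J) (fn := fn) (relTerm F q N r) E ω
  rw [ap_relTerm] at h5
  rw [h5]
  change rsM F g (etaF J fn F V (∑ i, E (r, i) • ω i)) = rsM F h (∑ i, e' (r, i) • w i)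
  rw [map_sum, map_sum, map_sum]
  refine Finset.sum_congr rfl fun i _ => ?_
  rw [etaF_smul, rsM_smul, rsM_smul]
  have h3 : rsR h (e' (r, i)) = rsR g (etaO J fn V (E (r, i))) := hE (r, i)
  have h4 : rsM F h (w i) = rsM F g (etaF J fn F V (ω i)) := hω i
  rw [h3, h4]

theorem evP_zeroTerm {U : C} (e' : Fin q × Fin N → RU J K fn O U)
    (w : Fin N → MU J K fn O F U) :
    evP (zeroTerm F q N) e' w = 0 := by
  apply locM (J := J) (fn := fn) F e' w ((P J K fn).obj (FS K O F))
  intro U' h V g E ω hE hω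
  rw [evP_rs]
  have h1 : (fun p => rs ((P J K fn).obj (OS K O)) h (e' p)) =
      fun p => rs ((P J K fn).obj (OS K O)) g (eta J K fn (OS K O) V (E p)) := funext hE
  have h2 : (fun j => rs ((P J K fn).obj (FS K O F)) h (w j)) =
      fun j => rs ((P J K fn).obj (FS K O F)) g (eta J K fn (FS K O F) V (ω j)) := funext hω
  rw [h1, h2, ← evP_rs]
  have h5 := evP_eta (J := J) (fn := fn) (zeroTerm F q N) E ω
  rw [ap_zeroTerm] at h5
  rw [h5]
  change rsM F g (etaF J fn F V 0) = rsM F h 0
  rw [map_zero, map_zero, map_zero]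


omit [fn.IsContinuous K J] [PreservesFiniteLimits (P J K fn)] in
/-- `eq_crit` with the ring of sections written as `O.obj.obj`. -/
theorem eq_crit' (hF : ModSite.IsFlat F) (V : D) {m n : ℕ} (f : Fin m → Fin n → O.obj.obj (op V))
    (s : Fin n → F.val.obj (op V)) (hrel : ∀ i, ∑ j, f i j • s j = 0) :
    ∃ S ∈ K V, ∀ ⦃V' : D⦄ (k : V' ⟶ V), S k →
      ∃ (l : ℕ) (t : Fin l → F.val.obj (op V')) (a : Fin n → Fin l → O.obj.obj (op V')),
        (∀ j, res O F k (s j) = ∑ k', a j k' • t k') ∧
        (∀ i k', ∑ j, a j k' * resO O k (f i j) = 0) :=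
  eq_crit O F hF V f s hrel

/-- **the equational criterion transfers**: if `F` is flat over `O`, every finite system of
relations among sections of `f⁻¹F` with coefficients in `f⁻¹O` is locally trivial. -/
theorem crit_MU (hF : ModSite.IsFlat F) {U : C} (e : Fin q → Fin N → RU J K fn O U)
    (w : Fin N → MU J K fn O F U) (hrel : ∀ r, ∑ i, e r i • w i = 0) :
    ∃ S ∈ J U, ∀ ⦃U' : C⦄ (h : U' ⟶ U), S h →
      ∃ (l : ℕ) (v : Fin l → MU J K fn O F U') (Dm : Fin N → Fin l → RU J K fn O U'),
        (∀ i, rsM F h (w i) = ∑ k, Dm i k • v k) ∧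
        (∀ r k, ∑ i, Dm i k * rsR h (e r i) = 0) := by
  let e' : Fin q × Fin N → RU J K fn O U := fun p => e p.1 p.2
  let c := mkPX (J := J) (fn := fn) (A := OS K O) (B := FS K O F) e' w
  have hc : ap ((P J K fn).map (sRel F q N)) c = ap ((P J K fn).map (tRel F q N)) c := by
    apply PXp_ext
    · intro i; exact i.elim0
    · intro r
      rw [← ap_comp, ← ap_comp, ← Functor.map_comp, ← Functor.map_comp, sRel_pB, tRel_pB]
      exact (evP_relTerm F r e' w).trans ((hrel r).trans (evP_zeroTerm F e' w).symm)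
  obtain ⟨S, hS, hS'⟩ := gtp_eq (J := J) (fn := fn) (sRel F q N) (tRel F q N) U c hc
  have H : ∀ ⦃U' : C⦄ (h : U' ⟶ U), S h → ∃ T ∈ J U', ∀ ⦃U'' : C⦄ (h' : U'' ⟶ U'), T h' →
      ∃ (l : ℕ) (v : Fin l → MU J K fn O F U'') (Dm : Fin N → Fin l → RU J K fn O U''),
        (∀ i, rsM F (h' ≫ h) (w i) = ∑ k, Dm i k • v k) ∧
        (∀ r k, ∑ i, Dm i k * rsR (h' ≫ h) (e r i) = 0) := by
    intro U' h hh
    obtain ⟨V, g, x, hx, hcx⟩ := hS' h hh
    let E : Fin q × Fin N → O.obj.obj (op V) :=
      fun p => ap (pA (OS K O) (FS K O F) (Fin q × Fin N) (Fin N) p) x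
    let ω : Fin N → F.val.obj (op V) :=
      fun j => ap (pB (OS K O) (FS K O F) (Fin q × Fin N) (Fin N) j) x
    have hx' : mkX (A := OS K O) (B := FS K O F) E ω = x := mkX_proj x
    have hrelV : ∀ r, ∑ i, E (r, i) • ω i = 0 := by
      intro r
      have h1 := congrArg (ap (pB (OS K O) (FS K O F) (Fin 0) (Fin q) r)) hx
      rw [← ap_comp, ← ap_comp, sRel_pB, tRel_pB, ← hx', ap_relTerm, ap_zeroTerm] at h1
      exact h1
    have hE : ∀ p, rsR h (e' p) = rsR g (etaO J fn V (E p)) := by
      intro p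
      have h1 := congrArg
        (ap ((P J K fn).map (pA (OS K O) (FS K O F) (Fin q × Fin N) (Fin N) p))) hcx
      rw [ap_rs, ap_rs, pA_mkPX, eta_nat] at h1
      exact h1
    have hω : ∀ j, rsM F h (w j) = rsM F g (etaF J fn F V (ω j)) := by
      intro j
      have h1 := congrArg
        (ap ((P J K fn).map (pB (OS K O) (FS K O F) (Fin q × Fin N) (Fin N) j))) hcx
      rw [ap_rs, ap_rs, pB_mkPX, eta_nat] at h1
      exact h1
    obtain ⟨SV, hSV, HV⟩ := eq_crit' F hF V (fun r i => E (r, i)) ω hrelV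
    refine ⟨(Sieve.functorPushforward fn SV).pullback g,
      pullback_functorPushforward_mem SV hSV g, ?_⟩
    intro U'' h' hh'
    obtain ⟨V', k, g', hk, e1⟩ := exists_of_mem_pullback_functorPushforward SV g h' hh'
    obtain ⟨l, t, a, ha1, ha2⟩ := HV k hk
    refine ⟨l, fun k' => rsM F g' (etaF J fn F V' (t k')),
      fun j k' => rsR g' (etaO J fn V' (a j k')), ?_, ?_⟩
    · intro i
      rw [rsM_comp, hω i, ← rsM_comp, e1, rsM_comp, etaF_res]
      have h2 : res O F k (ω i) = ∑ k', a i k' • t k' := ha1 i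
      rw [h2, map_sum, map_sum]
      refine Finset.sum_congr rfl fun k' _ => ?_
      rw [etaF_smul, rsM_smul]
    · intro r k'
      have h3 : ∀ i, rsR (h' ≫ h) (e r i) = rsR g' (etaO J fn V' (resO O k (E (r, i)))) := by
        intro i
        rw [rsR_comp]
        have h4 : rsR h (e r i) = rsR g (etaO J fn V (E (r, i))) := hE (r, i)
        rw [h4, ← rsR_comp, e1, rsR_comp, etaO_res]
      have h5 : ∑ i, rsR g' (etaO J fn V' (a i k')) * rsR (h' ≫ h) (e r i) =
          rsR g' (etaO J fn V' (∑ i, a i k' * resO O k (E (r, i)))) := by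
        rw [map_sum, map_sum]
        refine Finset.sum_congr rfl fun i _ => ?_
        rw [h3 i, map_mul, map_mul]
      rw [h5]
      have h6 : ∑ i, a i k' * resO O k (E (r, i)) = 0 := ha2 r k'
      rw [h6, map_zero, map_zero]
  choose T hT HT using H
  refine ⟨Sieve.bind S (fun U' h hh => T h hh), J.bind_covering hS (fun U' h hh => hT h hh), ?_⟩
  rintro U'' _ ⟨U', h', h, hh, hh', rfl⟩
  exact HT h hh h' hh'

end rel

end

end Groth.Agent.Lib.Helper21.InvF
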