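import Mathlib
import Groth.Prelude.Def_ModSite
import Groth.Agent.Lib.Helper21InvF6

/-!
# Helper21 InvF7: the comparison maps `ι : f⁻¹O_D ⟶ O_C` and `λ : f⁻¹F ⟶ f^*F`

For a morphism of ringed sites `f : (C, O_C) → (D, O_D)` and an `O_D`-module `F`:
* `iotaU U : RU U →+* O_C(U)`, the ring map adjoint to `f.sharp`;
* `lamU U : MU U →+ (f^*F)(U)`, the additive map adjoint to the unit `F ⟶ f_* f^* F`, semilinear
  along `iotaU`.
-/

set_option autoImplicit false
universe u
open CategoryTheory CategoryTheory.Limits Opposite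

namespace Groth.Agent.Lib.Helper21.InvF

open Groth.Agent.Lib.Helper21.EqCrit

noncomputable section

variable {C D : Type u} [SmallCategory C] [SmallCategory D] {J : GrothendieckTopology C}
  {K : GrothendieckTopology D} {O_C : Sheaf J CommRingCat.{u}} {O_D : Sheaf K CommRingCat.{u}}
  (f : ModSite.RMor O_C O_D) (F : ModSite.Mod O_D)

/-- the structure map on sections, as a ring homomorphism. -/
def shp (V : D) : O_D.obj.obj (op V) →+* O_C.obj.obj (op (f.fn.obj V)) :=
  (f.sharp.hom.app (op V)).hom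

theorem shp_res {V V' : D} (k : V' ⟶ V) (r : O_D.obj.obj (op V)) :
    resO O_C (f.fn.map k) (shp f V r) = shp f V' (resO O_D k r) :=
  (ConcreteCategory.congr_hom (f.sharp.hom.naturality k.op) r).symm

/-- the unit `F ⟶ f_* f^* F` on sections. -/
def un (V : D) (y : F.val.obj (op V)) : (f.pull.obj F).val.obj (op (f.fn.obj V)) :=
  ((f.adj.unit.app F).val.app (op V)).hom y

theorem un_add (V : D) (y y' : F.val.obj (op V)) : un f F V (y + y') = un f F V y + un f F V y' :=
  map_add ((f.adj.unit.app F).val.app (op V)).hom y y'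

theorem un_zero (V : D) : un f F V 0 = 0 :=
  map_zero ((f.adj.unit.app F).val.app (op V)).hom

theorem un_smul (V : D) (r : O_D.obj.obj (op V)) (y : F.val.obj (op V)) :
    un f F V (r • y) = shp f V r • un f F V y :=
  map_smul ((f.adj.unit.app F).val.app (op V)).hom r y

theorem un_res {V V' : D} (k : V' ⟶ V) (y : F.val.obj (op V)) :
    res O_C (f.pull.obj F) (f.fn.map k) (un f F V y) = un f F V' (res O_D F k y) :=
  (PresheafOfModules.naturality_apply (f.adj.unit.app F).val k.op y).symm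


/-! ### `ι` -/

/-- the structure map as a map of sheaves of sets `O_D ⟶ f_* O_C`. -/
def iotaψ : OS K O_D ⟶ (Q J K f.fn).obj (OS J O_C) :=
  ⟨{ app := fun V => ↾(fun r => shp f V.unop r)
     naturality := fun V V' k => by
       ext r
       exact (shp_res f k.unop r).symm }⟩

/-- `ι : f⁻¹O_D ⟶ O_C` as a map of sheaves of sets. -/
def iotaS : (P J K f.fn).obj (OS K O_D) ⟶ OS J O_C := lift (iotaψ f)

theorem iotaS_eta (V : D) (r : O_D.obj.obj (op V)) :
    ap (iotaS f) (eta J K f.fn (OS K O_D) V r) = shp f V r :=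
  lift_eta (iotaψ f) V r

theorem iotaS_ge {U' : C} {V : D} (g : U' ⟶ f.fn.obj V) (r : O_D.obj.obj (op V)) :
    ap (iotaS f) (geR (J := J) g r) = resO O_C g (shp f V r) := by
  unfold geR
  rw [ap_rs, iotaS_eta]
  rfl

theorem iotaS_rs {U U' : C} (h : U' ⟶ U) (a : RU J K f.fn O_D U) :
    resO O_C h (ap (iotaS f) a) = ap (iotaS f) (rs ((P J K f.fn).obj (OS K O_D)) h a) :=
  (ap_rs (iotaS f) h a).symm

theorem iotaS_add {U : C} (a b : RU J K f.fn O_D U) :
    ap (iotaS f) (addR a b) = (ap (iotaS f) a + ap (iotaS f) b : O_C.obj.obj (op U)) := by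
  apply locR (J := J) (fn := f.fn) ![a, b] (OS J O_C)
  intro U' h V g α hα
  have ha : rs _ h a = geR g (α 0) := hα 0
  have hb : rs _ h b = geR g (α 1) := hα 1
  change resO O_C h (ap (iotaS f) (addR a b)) = resO O_C h (ap (iotaS f) a + ap (iotaS f) b)
  rw [resO_add', iotaS_rs, iotaS_rs, iotaS_rs, rs_addR, ha, hb, addR_ge, iotaS_ge, iotaS_ge,
    iotaS_ge, map_add, resO_add']

theorem iotaS_mul {U : C} (a b : RU J K f.fn O_D U) :
    ap (iotaS f) (mulR a b) = (ap (iotaS f) a * ap (iotaS f) b : O_C.obj.obj (op U)) := by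
  apply locR (J := J) (fn := f.fn) ![a, b] (OS J O_C)
  intro U' h V g α hα
  have ha : rs _ h a = geR g (α 0) := hα 0
  have hb : rs _ h b = geR g (α 1) := hα 1
  change resO O_C h (ap (iotaS f) (mulR a b)) = resO O_C h (ap (iotaS f) a * ap (iotaS f) b)
  rw [resO_mul, iotaS_rs, iotaS_rs, iotaS_rs, rs_mulR, ha, hb, mulR_ge, iotaS_ge, iotaS_ge,
    iotaS_ge, map_mul, resO_mul]

theorem iotaS_zero (U : C) :
    ap (iotaS f) (zeroR (J := J) (fn := f.fn) (O := O_D) U) = (0 : O_C.obj.obj (op U)) := by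
  apply locR (J := J) (fn := f.fn) (O := O_D) ![] (OS J O_C)
  intro U' h V g α _
  change resO O_C h (ap (iotaS f) (zeroR U)) = resO O_C h 0
  rw [iotaS_rs, rs_zeroR, zeroR_ge g, iotaS_ge, map_zero, resO_zero, resO_zero]

theorem iotaS_one (U : C) :
    ap (iotaS f) (oneR (J := J) (fn := f.fn) (O := O_D) U) = (1 : O_C.obj.obj (op U)) := by
  apply locR (J := J) (fn := f.fn) (O := O_D) ![] (OS J O_C)
  intro U' h V g α _
  change resO O_C h (ap (iotaS f) (oneR U)) = resO O_C h 1
  rw [iotaS_rs, rs_oneR, oneR_ge g, iotaS_ge, map_one, resO_one', resO_one']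

/-- `ι`, as a ring homomorphism on sections. -/
def iotaU (U : C) : RU J K f.fn O_D U →+* O_C.obj.obj (op U) where
  toFun := fun a => ap (iotaS f) a
  map_one' := iotaS_one f U
  map_mul' := iotaS_mul f
  map_zero' := iotaS_zero f U
  map_add' := iotaS_add f

theorem iotaU_res {U U' : C} (h : U' ⟶ U) (a : RU J K f.fn O_D U) :
    resO O_C h (iotaU f U a) = iotaU f U' (rsR h a) := iotaS_rs f h a

theorem iotaU_etaO (V : D) (r : O_D.obj.obj (op V)) :
    iotaU f (f.fn.obj V) (etaO J f.fn V r) = shp f V r := iotaS_eta f V r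


/-! ### `λ` -/

/-- the unit as a map of sheaves of sets `F ⟶ f_* f^* F`. -/
def lamψ : FS K O_D F ⟶ (Q J K f.fn).obj (FS J O_C (f.pull.obj F)) :=
  ⟨{ app := fun V => ↾(fun y => un f F V.unop y)
     naturality := fun V V' k => by
       ext y
       exact (un_res f F k.unop y).symm }⟩

/-- `λ : f⁻¹F ⟶ f^*F` as a map of sheaves of sets. -/
def lamS : (P J K f.fn).obj (FS K O_D F) ⟶ FS J O_C (f.pull.obj F) := lift (lamψ f F)

theorem lamS_eta (V : D) (y : F.val.obj (op V)) :
    ap (lamS f F) (eta J K f.fn (FS K O_D F) V y) = un f F V y :=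
  lift_eta (lamψ f F) V y

/-- `λ` on sections, with values typed as sections of the module `f^*F`. -/
def lamF {U : C} (z : MU J K f.fn O_D F U) : (f.pull.obj F).val.obj (op U) := ap (lamS f F) z

/-- `ι` on sections, with values typed as sections of `O_C`. -/
def iotaF {U : C} (a : RU J K f.fn O_D U) : O_C.obj.obj (op U) := ap (iotaS f) a

theorem iotaF_ge {U' : C} {V : D} (g : U' ⟶ f.fn.obj V) (r : O_D.obj.obj (op V)) :
    iotaF f (geR (J := J) g r) = resO O_C g (shp f V r) := iotaS_ge f g r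

theorem iotaF_rs {U U' : C} (h : U' ⟶ U) (a : RU J K f.fn O_D U) :
    resO O_C h (iotaF f a) = iotaF f (rs ((P J K f.fn).obj (OS K O_D)) h a) := iotaS_rs f h a

theorem lamF_ge {U' : C} {V : D} (g : U' ⟶ f.fn.obj V) (y : F.val.obj (op V)) :
    lamF f F (geM (J := J) F g y) = res O_C (f.pull.obj F) g (un f F V y) := by
  unfold lamF geM
  rw [ap_rs, lamS_eta]
  rfl

theorem lamF_rs {U U' : C} (h : U' ⟶ U) (z : MU J K f.fn O_D F U) :
    res O_C (f.pull.obj F) h (lamF f F z) =
      lamF f F (rs ((P J K f.fn).obj (FS K O_D F)) h z) :=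
  (ap_rs (lamS f F) h z).symm

theorem lamF_add {U : C} (z w : MU J K f.fn O_D F U) :
    lamF f F (addM F z w) = lamF f F z + lamF f F w := by
  apply locM (J := J) (fn := f.fn) F ![] ![z, w] (FS J O_C (f.pull.obj F))
  intro U' h V g α ζ _ hζ
  have hz : rs _ h z = geM F g (ζ 0) := hζ 0
  have hw : rs _ h w = geM F g (ζ 1) := hζ 1
  change res O_C (f.pull.obj F) h (lamF f F (addM F z w)) =
    res O_C (f.pull.obj F) h (lamF f F z + lamF f F w)
  rw [res_add', lamF_rs, lamF_rs, lamF_rs, rs_addM, hz, hw, addM_ge, lamF_ge, lamF_ge,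
    lamF_ge, un_add, res_add']

theorem lamF_zero (U : C) :
    lamF f F (zeroM (J := J) (fn := f.fn) F U) = 0 := by
  apply locM (J := J) (fn := f.fn) F ![] ![] (FS J O_C (f.pull.obj F))
  intro U' h V g α ζ _ _
  change res O_C (f.pull.obj F) h (lamF f F (zeroM F U)) = res O_C (f.pull.obj F) h 0
  rw [lamF_rs, rs_zeroM, zeroM_ge F g, lamF_ge, un_zero, res_zero, res_zero]

theorem lamF_smul {U : C} (r : RU J K f.fn O_D U) (z : MU J K f.fn O_D F U) :
    lamF f F (smulM F r z) = iotaF f r • lamF f F z := by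
  apply locM (J := J) (fn := f.fn) F ![r] ![z] (FS J O_C (f.pull.obj F))
  intro U' h V g α ζ hα hζ
  have hr : rs _ h r = geR g (α 0) := hα 0
  have hz : rs _ h z = geM F g (ζ 0) := hζ 0
  change res O_C (f.pull.obj F) h (lamF f F (smulM F r z)) =
    res O_C (f.pull.obj F) h (iotaF f r • lamF f F z)
  rw [res_smul, lamF_rs, lamF_rs, iotaF_rs, rs_smulM, hr, hz, smulM_ge, lamF_ge, lamF_ge,
    iotaF_ge, un_smul, res_smul]

/-- `λ`, as an additive map on sections. -/
def lamU (U : C) : MU J K f.fn O_D F U →+ (f.pull.obj F).val.obj (op U) where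
  toFun := fun z => lamF f F z
  map_zero' := lamF_zero f F U
  map_add' := lamF_add f F

theorem lamU_smul {U : C} (r : RU J K f.fn O_D U) (z : MU J K f.fn O_D F U) :
    lamU f F U (r • z) = iotaU f U r • lamU f F U z := lamF_smul f F r z

theorem lamU_res {U U' : C} (h : U' ⟶ U) (z : MU J K f.fn O_D F U) :
    res O_C (f.pull.obj F) h (lamU f F U z) = lamU f F U' (rsM F h z) := lamF_rs f F h z

theorem lamU_etaF (V : D) (y : F.val.obj (op V)) :
    lamU f F (f.fn.obj V) (etaF J f.fn F V y) = un f F V y := lamS_eta f F V y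

end

end Groth.Agent.Lib.Helper21.InvF
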