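import Mathlib
import Groth.Prelude.Def_ModSite
import Groth.Agent.Lib.Helper21InvF7
import Groth.Agent.Lib.Helper21ModTensor2

/-!
# Helper21 InvF8: the presheaf `U ↦ O_C(U) ⊗_{f⁻¹O_D(U)} f⁻¹F(U)` and its sheafification
-/

set_option autoImplicit false
universe u
open CategoryTheory CategoryTheory.Limits Opposite TensorProduct

namespace Groth.Agent.Lib.Helper21.InvF

open Groth.Agent.Lib.Helper21.EqCrit Groth.Agent.Lib.Helper21.ModTensor2

noncomputable section

variable {C D : Type u} [SmallCategory C] [SmallCategory D] {J : GrothendieckTopology C}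
  {K : GrothendieckTopology D} {O_C : Sheaf J CommRingCat.{u}} {O_D : Sheaf K CommRingCat.{u}}
  (f : ModSite.RMor O_C O_D) (F : ModSite.Mod O_D)

/-- `O_C(U)` as an algebra over `f⁻¹O_D(U)`. -/
@[reducible] def algRU (U : C) : Algebra (RU J K f.fn O_D U) (O_C.obj.obj (op U)) :=
  (iotaU f U).toAlgebra

attribute [local instance] algRU

theorem algRU_smul (U : C) (r : RU J K f.fn O_D U) (c : O_C.obj.obj (op U)) :
    r • c = iotaU f U r * c := rfl

/-- sections of the presheaf tensor product. -/
abbrev TU (U : C) : Type u :=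
  (O_C.obj.obj (op U)) ⊗[RU J K f.fn O_D U] (MU J K f.fn O_D F U)

/-- restriction of the presheaf tensor product. -/
def TUres {U U' : C} (h : U' ⟶ U) : TU f F U →+ TU f F U' :=
  TensorProduct.liftAddHom
    { toFun := fun c =>
        { toFun := fun z => (resO O_C h c) ⊗ₜ[RU J K f.fn O_D U'] (rsM F h z)
          map_zero' := by rw [map_zero, tmul_zero]
          map_add' := fun z w => by rw [map_add, tmul_add] }
      map_zero' := by
        ext z
        change (resO O_C h 0) ⊗ₜ[RU J K f.fn O_D U'] (rsM F h z) = 0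
        rw [resO_zero, zero_tmul]
      map_add' := fun c c' => by
        ext z
        change (resO O_C h (c + c')) ⊗ₜ[RU J K f.fn O_D U'] (rsM F h z) =
          (resO O_C h c) ⊗ₜ[RU J K f.fn O_D U'] (rsM F h z) +
          (resO O_C h c') ⊗ₜ[RU J K f.fn O_D U'] (rsM F h z)
        rw [resO_add', add_tmul] }
    (by
      intro r c z
      change (resO O_C h (r • c)) ⊗ₜ[RU J K f.fn O_D U'] (rsM F h z) =
        (resO O_C h c) ⊗ₜ[RU J K f.fn O_D U'] (rsM F h (r • z))
      rw [algRU_smul, resO_mul, iotaU_res, rsM_smul, ← algRU_smul, smul_tmul])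

theorem TUres_tmul {U U' : C} (h : U' ⟶ U) (c : O_C.obj.obj (op U))
    (z : MU J K f.fn O_D F U) :
    TUres f F h (c ⊗ₜ z) = (resO O_C h c) ⊗ₜ[RU J K f.fn O_D U'] (rsM F h z) := rfl


theorem resO_id' {U : C} (c : O_C.obj.obj (op U)) : resO O_C (𝟙 U) c = c := by
  unfold resO
  rw [op_id, O_C.obj.map_id]
  rfl

theorem TUres_id {U : C} (t : TU f F U) : TUres f F (𝟙 U) t = t := by
  induction t using TensorProduct.induction_on with
  | zero => exact map_zero _
  | tmul c z => rw [TUres_tmul, resO_id', rsM_id]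
  | add a b ha hb => rw [map_add, ha, hb]

theorem TUres_comp {U U' U'' : C} (h : U' ⟶ U) (h' : U'' ⟶ U') (t : TU f F U) :
    TUres f F (h' ≫ h) t = TUres f F h' (TUres f F h t) := by
  induction t using TensorProduct.induction_on with
  | zero => rw [map_zero, map_zero, map_zero]
  | tmul c z => rw [TUres_tmul, TUres_tmul, TUres_tmul, resO_comp, rsM_comp]
  | add a b ha hb => rw [map_add, map_add, map_add, ha, hb]

theorem TUres_smul {U U' : C} (h : U' ⟶ U) (r : O_C.obj.obj (op U)) (t : TU f F U) :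
    TUres f F h (r • t) = resO O_C h r • TUres f F h t := by
  induction t using TensorProduct.induction_on with
  | zero => rw [smul_zero, map_zero, smul_zero]
  | tmul c z =>
    rw [TensorProduct.smul_tmul', TUres_tmul, TUres_tmul, TensorProduct.smul_tmul', smul_eq_mul,
      smul_eq_mul, resO_mul]
  | add a b ha hb => rw [smul_add, map_add, map_add, smul_add, ha, hb]

/-- the underlying presheaf of abelian groups. -/
def Tpre : Cᵒᵖ ⥤ AddCommGrpCat.{u} where
  obj W := AddCommGrpCat.of (TU f F W.unop)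
  map a := AddCommGrpCat.ofHom (TUres f F a.unop)
  map_id W := by
    ext t
    exact TUres_id f F t
  map_comp a b := by
    ext t
    exact TUres_comp f F a.unop b.unop t

instance instModuleTpre (X : Cᵒᵖ) :
    Module ((O_C.obj ⋙ forget₂ CommRingCat.{u} RingCat.{u}).obj X) ((Tpre f F).obj X) :=
  inferInstanceAs (Module (O_C.obj.obj (op X.unop)) (TU f F X.unop))

/-- the presheaf of `O_C`-modules `U ↦ O_C(U) ⊗ f⁻¹F(U)`. -/
def TpreM : PM O_C :=
  PresheafOfModules.ofPresheaf (Tpre f F) (fun X Y a r t => TUres_smul f F a.unop r t)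

/-- the sheaf of `O_C`-modules `O_C ⊗_{f⁻¹O_D} f⁻¹F`. -/
def Tsh : ModSite.Mod O_C := (shf O_C).obj (TpreM f F)

/-- the canonical map from the presheaf tensor product to its sheafification, on sections. -/
def toT (U : C) : TU f F U →ₗ[O_C.obj.obj (op U)] (Tsh f F).val.obj (op U) :=
  ((ModTensor2.eta O_C (TpreM f F)).app (op U)).hom

theorem toT_res {U U' : C} (h : U' ⟶ U) (t : TU f F U) :
    res O_C (Tsh f F) h (toT f F U t) = toT f F U' (TUres f F h t) :=
  (PresheafOfModules.naturality_apply (ModTensor2.eta O_C (TpreM f F)) h.op t).symm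


/-- local surjectivity of `toT`. -/
theorem toT_locally_surjective {U : C} (σ : (Tsh f F).val.obj (op U)) :
    ∃ S ∈ J U, ∀ ⦃U' : C⦄ (h : U' ⟶ U), S h →
      ∃ t : TU f F U', toT f F U' t = res O_C (Tsh f F) h σ := by
  haveI : Presheaf.IsLocallySurjective J
      ((PresheafOfModules.toPresheaf _).map (ModTensor2.eta O_C (TpreM f F))) :=
    ((J.W_iff_isLocallyBijective _).1 (W_eta (TpreM f F))).2
  refine ⟨_, Presheaf.imageSieve_mem J
    ((PresheafOfModules.toPresheaf _).map (ModTensor2.eta O_C (TpreM f F))) (U := op U) σ, ?_⟩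
  intro U' h hh
  obtain ⟨t, ht⟩ := hh
  exact ⟨t, ht⟩

/-- local injectivity of `toT`. -/
theorem toT_locally_injective {U : C} (t : TU f F U) (ht : toT f F U t = 0) :
    ∃ S ∈ J U, ∀ ⦃U' : C⦄ (h : U' ⟶ U), S h → TUres f F h t = 0 := by
  haveI : Presheaf.IsLocallyInjective J
      ((PresheafOfModules.toPresheaf _).map (ModTensor2.eta O_C (TpreM f F))) :=
    ((J.W_iff_isLocallyBijective _).1 (W_eta (TpreM f F))).1
  have h := Presheaf.equalizerSieve_mem J
    ((PresheafOfModules.toPresheaf _).map (ModTensor2.eta O_C (TpreM f F))) (X := op U) t 0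
    (ht.trans (map_zero (toT f F U)).symm)
  refine ⟨_, h, fun U' g hg => ?_⟩
  exact hg.trans (map_zero (TUres f F g))

/-- every element of the tensor product is a finite sum of pure tensors. -/
theorem exists_fin_sum_tmul {U : C} (t : TU f F U) :
    ∃ (l : ℕ) (c : Fin l → O_C.obj.obj (op U)) (z : Fin l → MU J K f.fn O_D F U),
      t = ∑ k, (c k) ⊗ₜ[RU J K f.fn O_D U] (z k) := by
  induction t using TensorProduct.induction_on with
  | zero => exact ⟨0, Fin.elim0, Fin.elim0, (Fin.sum_univ_zero _).symm⟩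
  | tmul c z => exact ⟨1, fun _ => c, fun _ => z, by simp⟩
  | add a b ha hb =>
    obtain ⟨l₁, c₁, z₁, rfl⟩ := ha
    obtain ⟨l₂, c₂, z₂, rfl⟩ := hb
    refine ⟨l₁ + l₂, Fin.append c₁ c₂, Fin.append z₁ z₂, ?_⟩
    rw [Fin.sum_univ_add]
    simp only [Fin.append_left, Fin.append_right]

end

end Groth.Agent.Lib.Helper21.InvF
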