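import Mathlib
import Groth.Prelude.Def_ModSite
import Groth.Agent.Lib.Helper21InvF8
import Groth.Agent.Lib.Helper21HomU5

/-!
# Helper21 InvF9: the comparison maps `κ : f^*F ⟶ O_C ⊗ f⁻¹F` and `μ : O_C ⊗ f⁻¹F ⟶ f^*F`
-/

set_option autoImplicit false
universe u
open CategoryTheory CategoryTheory.Limits Opposite TensorProduct

namespace Groth.Agent.Lib.Helper21.InvF

open Groth.Agent.Lib.Helper21.EqCrit Groth.Agent.Lib.Helper21.ModTensor2
open Groth.Agent.Lib.Helper21.HomU (pIn pOut phiApp pIn_smul pIn_rs pOut_map)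

noncomputable section

variable {C D : Type u} [SmallCategory C] [SmallCategory D] {J : GrothendieckTopology C}
  {K : GrothendieckTopology D} {O_C : Sheaf J CommRingCat.{u}} {O_D : Sheaf K CommRingCat.{u}}
  (f : ModSite.RMor O_C O_D) (F : ModSite.Mod O_D)

attribute [local instance] algRU

theorem phiApp_eq (V : D) (r : O_D.obj.obj (op V)) : phiApp f.sharpR V r = shp f V r := rfl

/-- `y ↦ 1 ⊗ η(y)`, as a section of the sheafified tensor product. -/
def nuF (V : D) (y : F.val.obj (op V)) : (Tsh f F).val.obj (op (f.fn.obj V)) :=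
  toT f F (f.fn.obj V) ((1 : O_C.obj.obj (op (f.fn.obj V))) ⊗ₜ (etaF J f.fn F V y))

theorem nuF_add (V : D) (y y' : F.val.obj (op V)) : nuF f F V (y + y') = nuF f F V y + nuF f F V y' := by
  unfold nuF
  rw [map_add, tmul_add, map_add]

theorem nuF_zero (V : D) : nuF f F V 0 = 0 := by
  unfold nuF
  rw [map_zero, tmul_zero, map_zero]

theorem nuF_smul (V : D) (r : O_D.obj.obj (op V)) (y : F.val.obj (op V)) :
    nuF f F V (r • y) = shp f V r • nuF f F V y := by
  unfold nuF
  rw [etaF_smul, ← smul_tmul, algRU_smul, iotaU_etaO, mul_one, ← map_smul,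
    TensorProduct.smul_tmul', smul_eq_mul, mul_one]

theorem nuF_res {V V' : D} (k : V' ⟶ V) (y : F.val.obj (op V)) :
    res O_C (Tsh f F) (f.fn.map k) (nuF f F V y) = nuF f F V' (res O_D F k y) := by
  unfold nuF
  rw [toT_res, TUres_tmul, resO_one', etaF_res]


/-- `ν : F ⟶ f_* (O_C ⊗ f⁻¹F)`. -/
def nuHom : F ⟶ f.push.obj (Tsh f F) where
  val := PresheafOfModules.homMk (M₁ := F.val) (M₂ := (f.push.obj (Tsh f F)).val)
    { app := fun V => AddCommGrpCat.ofHom
        { toFun := fun y => pIn f.sharpR (Tsh f F) V.unop (nuF f F V.unop y)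
          map_zero' := by
            rw [nuF_zero]
            rfl
          map_add' := fun y y' => by
            rw [nuF_add]
            rfl }
      naturality := fun V V' k => by
        ext y
        change pIn f.sharpR (Tsh f F) V'.unop (nuF f F V'.unop (res O_D F k.unop y)) =
          Groth.Agent.Lib.Helper21.HomU.rs (f.push.obj (Tsh f F)) k.unop
            (pIn f.sharpR (Tsh f F) V.unop (nuF f F V.unop y))
        rw [← nuF_res, ← pIn_rs]
        rfl }
    (fun V r y => by
      have h := nuF_smul f F V.unop r y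
      change pIn f.sharpR (Tsh f F) V.unop (nuF f F V.unop (r • y)) =
        r • pIn f.sharpR (Tsh f F) V.unop (nuF f F V.unop y)
      exact (congrArg (pIn f.sharpR (Tsh f F) V.unop) h).trans
        (pIn_smul f.sharpR (Tsh f F) V.unop r _))

theorem nuHom_app (V : D) (y : F.val.obj (op V)) :
    pOut f.sharpR (Tsh f F) V (((nuHom f F).val.app (op V)).hom y) = nuF f F V y := rfl

/-- `κ : f^*F ⟶ O_C ⊗ f⁻¹F`. -/
def kapHom : f.pull.obj F ⟶ Tsh f F := (f.adj.homEquiv F (Tsh f F)).symm (nuHom f F)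

theorem kapHom_un (V : D) (y : F.val.obj (op V)) :
    ((kapHom f F).val.app (op (f.fn.obj V))).hom (un f F V y) = nuF f F V y := by
  have h1 : f.adj.homEquiv F (Tsh f F) (kapHom f F) = nuHom f F := by
    unfold kapHom
    rw [Equiv.apply_symm_apply]
  rw [Adjunction.homEquiv_unit] at h1
  have h2 := congrArg (fun t => pOut f.sharpR (Tsh f F) V ((t.val.app (op V)).hom y)) h1
  exact h2


/-- `κ` on sections. -/
def kapU (U : C) : (f.pull.obj F).val.obj (op U) →ₗ[O_C.obj.obj (op U)] (Tsh f F).val.obj (op U) :=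
  ((kapHom f F).val.app (op U)).hom

theorem kapU_res {U U' : C} (h : U' ⟶ U) (x : (f.pull.obj F).val.obj (op U)) :
    res O_C (Tsh f F) h (kapU f F U x) = kapU f F U' (res O_C (f.pull.obj F) h x) :=
  res_nat O_C (kapHom f F) h x

theorem kapU_un (V : D) (y : F.val.obj (op V)) :
    kapU f F (f.fn.obj V) (un f F V y) = nuF f F V y := kapHom_un f F V y

/-- `κ (λ z) = 1 ⊗ z`. -/
theorem kapU_lam {U : C} (z : MU J K f.fn O_D F U) :
    kapU f F U (lamU f F U z) = toT f F U ((1 : O_C.obj.obj (op U)) ⊗ₜ z) := by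
  apply locM (J := J) (fn := f.fn) F ![] ![z] (FS J O_C (Tsh f F))
  intro U' h V g α ζ _ hζ
  have hz : rsM F h z = rsM F g (etaF J f.fn F V (ζ 0)) := hζ 0
  change res O_C (Tsh f F) h (kapU f F U (lamU f F U z)) =
    res O_C (Tsh f F) h (toT f F U ((1 : O_C.obj.obj (op U)) ⊗ₜ z))
  rw [kapU_res, lamU_res, hz, ← lamU_res, lamU_etaF, ← kapU_res, kapU_un, toT_res, TUres_tmul,
    resO_one', hz]
  unfold nuF
  rw [toT_res, TUres_tmul, resO_one']


/-! ### `μ` -/

/-- `c ⊗ z ↦ c • λ z`, additive. -/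
def muAdd (U : C) : TU f F U →+ (f.pull.obj F).val.obj (op U) :=
  TensorProduct.liftAddHom
    { toFun := fun c =>
        { toFun := fun z => c • lamU f F U z
          map_zero' := by rw [map_zero, smul_zero]
          map_add' := fun z w => by rw [map_add, smul_add] }
      map_zero' := by
        ext z
        exact zero_smul _ _
      map_add' := fun c c' => by
        ext z
        exact add_smul _ _ _ }
    (by
      intro r c z
      change (r • c) • lamU f F U z = c • lamU f F U (r • z)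
      rw [lamU_smul, algRU_smul, mul_comm, mul_smul])

theorem muAdd_tmul (U : C) (c : O_C.obj.obj (op U)) (z : MU J K f.fn O_D F U) :
    muAdd f F U (c ⊗ₜ z) = c • lamU f F U z := rfl

theorem muAdd_smul (U : C) (r : O_C.obj.obj (op U)) (t : TU f F U) :
    muAdd f F U (r • t) = r • muAdd f F U t := by
  induction t using TensorProduct.induction_on with
  | zero => rw [smul_zero, map_zero, smul_zero]
  | tmul c z => rw [TensorProduct.smul_tmul', muAdd_tmul, muAdd_tmul, smul_eq_mul, mul_smul]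
  | add a b ha hb => rw [smul_add, map_add, map_add, smul_add, ha, hb]

theorem muAdd_res {U U' : C} (h : U' ⟶ U) (t : TU f F U) :
    res O_C (f.pull.obj F) h (muAdd f F U t) = muAdd f F U' (TUres f F h t) := by
  induction t using TensorProduct.induction_on with
  | zero => rw [map_zero, map_zero, res_zero, map_zero]
  | tmul c z => rw [muAdd_tmul, TUres_tmul, muAdd_tmul, res_smul, lamU_res]
  | add a b ha hb => rw [map_add, map_add, res_add', ha, hb, map_add]

/-- `μ` on the presheaf tensor product. -/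
def muPre : TpreM f F ⟶ (fgt O_C).obj (f.pull.obj F) :=
  PresheafOfModules.homMk (M₁ := TpreM f F) (M₂ := (f.pull.obj F).val)
    { app := fun W => AddCommGrpCat.ofHom (muAdd f F W.unop)
      naturality := fun W W' k => by
        ext t
        exact (muAdd_res f F k.unop t).symm }
    (fun W r t => muAdd_smul f F W.unop r t)

/-- `μ : O_C ⊗ f⁻¹F ⟶ f^*F`. -/
def muHom : Tsh f F ⟶ f.pull.obj F :=
  ((ModTensor2.adj O_C).homEquiv (TpreM f F) (f.pull.obj F)).symm (muPre f F)

/-- `μ` on sections. -/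
def muU (U : C) : (Tsh f F).val.obj (op U) →ₗ[O_C.obj.obj (op U)] (f.pull.obj F).val.obj (op U) :=
  ((muHom f F).val.app (op U)).hom

theorem muU_toT (U : C) (t : TU f F U) : muU f F U (toT f F U t) = muAdd f F U t := by
  have h1 : (ModTensor2.adj O_C).homEquiv (TpreM f F) (f.pull.obj F) (muHom f F) = muPre f F := by
    unfold muHom
    rw [Equiv.apply_symm_apply]
  rw [Adjunction.homEquiv_unit] at h1
  have h2 := congrArg (fun φ => (φ.app (op U)).hom t) h1
  exact h2

theorem muU_res {U U' : C} (h : U' ⟶ U) (x : (Tsh f F).val.obj (op U)) :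
    res O_C (f.pull.obj F) h (muU f F U x) = muU f F U' (res O_C (Tsh f F) h x) :=
  res_nat O_C (muHom f F) h x


theorem muU_kapU_un (V : D) (y : F.val.obj (op V)) :
    muU f F (f.fn.obj V) (kapU f F (f.fn.obj V) (un f F V y)) = un f F V y := by
  rw [kapU_un]
  unfold nuF
  rw [muU_toT, muAdd_tmul, one_smul, lamU_etaF]

/-- `μ ∘ κ = id`. -/
theorem kap_mu : kapHom f F ≫ muHom f F = 𝟙 (f.pull.obj F) := by
  apply (f.adj.homEquiv F (f.pull.obj F)).injective
  rw [Adjunction.homEquiv_unit, Adjunction.homEquiv_unit]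
  apply SheafOfModules.hom_ext
  apply PresheafOfModules.hom_ext
  intro V
  apply ModuleCat.hom_ext
  apply LinearMap.ext
  intro y
  have h := muU_kapU_un f F V.unop y
  have h2 : un f F V.unop y = ((𝟙 (f.pull.obj F) : f.pull.obj F ⟶ f.pull.obj F).val.app
      (op (f.fn.obj V.unop))).hom (un f F V.unop y) := rfl
  rw [h2] at h
  exact h

theorem muU_kapU {U : C} (x : (f.pull.obj F).val.obj (op U)) :
    muU f F U (kapU f F U x) = x := by
  have h := congrArg (fun φ => (φ.val.app (op U)).hom x) (kap_mu f F)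
  exact h

/-- **generation**: every section of `f^*F` is locally of the form `Σ c_k • λ(z_k)`. -/
theorem exists_sum_lam {U : C} (x : (f.pull.obj F).val.obj (op U)) :
    ∃ S ∈ J U, ∀ ⦃U' : C⦄ (h : U' ⟶ U), S h →
      ∃ (l : ℕ) (c : Fin l → O_C.obj.obj (op U')) (z : Fin l → MU J K f.fn O_D F U'),
        res O_C (f.pull.obj F) h x = ∑ k, c k • lamU f F U' (z k) := by
  obtain ⟨S, hS, hS'⟩ := toT_locally_surjective f F (kapU f F U x)
  refine ⟨S, hS, fun U' h hh => ?_⟩
  obtain ⟨t, ht⟩ := hS' h hh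
  obtain ⟨l, c, z, rfl⟩ := exists_fin_sum_tmul f F t
  refine ⟨l, c, z, ?_⟩
  have h1 : res O_C (f.pull.obj F) h x = muU f F U' (res O_C (Tsh f F) h (kapU f F U x)) := by
    rw [← muU_res, muU_kapU]
  rw [h1, ← ht, muU_toT, map_sum]
  rfl

/-- **relations**: if `Σ b_k • λ(z_k) = 0` in `f^*F`, then locally `Σ b_k ⊗ z_k = 0` in
`O_C(U) ⊗ f⁻¹F(U)`. -/
theorem tmul_eq_zero_of_lam {U : C} {l : ℕ} (b : Fin l → O_C.obj.obj (op U))
    (z : Fin l → MU J K f.fn O_D F U) (h0 : ∑ k, b k • lamU f F U (z k) = 0) :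
    ∃ S ∈ J U, ∀ ⦃U' : C⦄ (h : U' ⟶ U), S h →
      ∑ k, (resO O_C h (b k)) ⊗ₜ[RU J K f.fn O_D U'] (rsM F h (z k)) = 0 := by
  have h1 : toT f F U (∑ k, (b k) ⊗ₜ[RU J K f.fn O_D U] (z k)) = 0 := by
    have h2 := congrArg (kapU f F U) h0
    rw [map_zero, map_sum] at h2
    rw [map_sum, ← h2]
    refine Finset.sum_congr rfl fun k _ => ?_
    rw [map_smul, kapU_lam, ← map_smul, TensorProduct.smul_tmul', smul_eq_mul, mul_one]
  obtain ⟨S, hS, hS'⟩ := toT_locally_injective f F _ h1
  refine ⟨S, hS, fun U' h hh => ?_⟩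
  have h3 := hS' h hh
  rw [map_sum] at h3
  exact h3

end

end Groth.Agent.Lib.Helper21.InvF
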