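import Mathlib
import Groth.Prelude.Def_ModSite
import Groth.Agent.Lib.Helper21InvF9
import Groth.Agent.Lib.Helper21EqCrit5

/-!
# Helper21 InvF10: the inverse image of a flat module is flat
-/

set_option autoImplicit false
universe u
open CategoryTheory CategoryTheory.Limits Opposite TensorProduct

namespace Groth.Agent.Lib.Helper21.InvF

open Groth.Agent.Lib.Helper21.EqCrit

/-- the algebra behind base change of the equational criterion. -/
theorem sum_mul_eq_zero_of_trivial {R S R' S' : Type*} [CommRing R] [CommRing S] [CommRing R']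
    [CommRing S'] (ι : R →+* S) (ι' : R' →+* S') (ρ : R →+* R') (σ : S →+* S')
    (hcomm : ∀ r, σ (ι r) = ι' (ρ r)) {l p q l' : ℕ} (b : Fin l → S) (y : Fin q → S)
    (a : Fin (l + p) → Fin q → R) (Dm : Fin (l + p) → Fin l' → R')
    (h1 : ∀ i, Fin.append b (fun _ : Fin p => (0 : S)) i = ∑ r, ι (a i r) * y r)
    (h2 : ∀ r m, ∑ i, Dm i m * ρ (a i r) = 0) (m : Fin l') :
    ∑ k : Fin l, ι' (Dm (Fin.castAdd p k) m) * σ (b k) = 0 := by
  have e1 : ∑ k : Fin l, ι' (Dm (Fin.castAdd p k) m) * σ (b k) =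
      ∑ i : Fin (l + p), ι' (Dm i m) * σ (Fin.append b (fun _ : Fin p => (0 : S)) i) := by
    rw [Fin.sum_univ_add]
    simp only [Fin.append_left, Fin.append_right, map_zero, mul_zero, Finset.sum_const_zero,
      add_zero]
  rw [e1]
  have e2 : ∀ i : Fin (l + p), ι' (Dm i m) * σ (Fin.append b (fun _ : Fin p => (0 : S)) i) =
      ∑ r, σ (y r) * ι' (Dm i m * ρ (a i r)) := by
    intro i
    rw [h1 i, map_sum, Finset.mul_sum]
    refine Finset.sum_congr rfl fun r _ => ?_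
    rw [map_mul, hcomm, map_mul]
    ring
  rw [Finset.sum_congr rfl (fun i _ => e2 i), Finset.sum_comm]
  refine Finset.sum_eq_zero fun r _ => ?_
  rw [← Finset.mul_sum, ← map_sum, h2 r m, map_zero, mul_zero]

noncomputable section

variable {C D : Type u} [SmallCategory C] [SmallCategory D] {J : GrothendieckTopology C}
  {K : GrothendieckTopology D} {O_C : Sheaf J CommRingCat.{u}} {O_D : Sheaf K CommRingCat.{u}}
  (f : ModSite.RMor O_C O_D) (F : ModSite.Mod O_D)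

attribute [local instance] algRU

omit [SmallCategory D] in
/-- a property which holds locally on a cover holds on a cover. -/
theorem exists_cover_of_bind {U : C} (Pr : ∀ ⦃V : C⦄, (V ⟶ U) → Prop) (S₁ : Sieve U)
    (hS₁ : S₁ ∈ J U)
    (H : ∀ ⦃U₁ : C⦄ (h₁ : U₁ ⟶ U), S₁ h₁ → ∃ S₂ ∈ J U₁, ∀ ⦃U₂ : C⦄ (h₂ : U₂ ⟶ U₁), S₂ h₂ →
      Pr (h₂ ≫ h₁)) :
    ∃ S ∈ J U, ∀ ⦃V : C⦄ (g : V ⟶ U), S g → Pr g := by
  choose T hT HT using H
  refine ⟨Sieve.bind S₁ (fun U₁ h₁ hh₁ => T h₁ hh₁),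
    J.bind_covering hS₁ (fun U₁ h₁ hh₁ => hT h₁ hh₁), ?_⟩
  rintro V _ ⟨U₁, h₂, h₁, hh₁, hh₂, rfl⟩
  exact HT h₁ hh₁ h₂ hh₂

/-- uniform local generation of finitely many sections of `f^*F`. -/
theorem exists_sum_lam_fin {U : C} : ∀ (n : ℕ) (x : Fin n → (f.pull.obj F).val.obj (op U)),
    ∃ S ∈ J U, ∀ ⦃U' : C⦄ (h : U' ⟶ U), S h →
      ∃ (l : ℕ) (c : Fin n → Fin l → O_C.obj.obj (op U')) (z : Fin l → MU J K f.fn O_D F U'),
        ∀ j, res O_C (f.pull.obj F) h (x j) = ∑ k, c j k • lamU f F U' (z k)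
  | 0, _ => ⟨⊤, J.top_mem U, fun U' h _ => ⟨0, fun j => j.elim0, Fin.elim0, fun j => j.elim0⟩⟩
  | n + 1, x => by
    obtain ⟨S₁, hS₁, H₁⟩ := exists_sum_lam_fin n (fun j => x j.castSucc)
    obtain ⟨S₂, hS₂, H₂⟩ := exists_sum_lam f F (x (Fin.last n))
    refine ⟨S₁ ⊓ S₂, J.intersection_covering hS₁ hS₂, ?_⟩
    intro U' h hh
    obtain ⟨l₁, c₁, z₁, h₁⟩ := H₁ h hh.1
    obtain ⟨l₂, c₂, z₂, h₂⟩ := H₂ h hh.2
    refine ⟨l₁ + l₂, Fin.lastCases (Fin.append (fun _ => 0) c₂)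
      (fun j => Fin.append (c₁ j) (fun _ => 0)), Fin.append z₁ z₂, ?_⟩
    intro j
    refine Fin.lastCases ?_ (fun j => ?_) j
    · rw [h₂, Fin.sum_univ_add]
      simp only [Fin.lastCases_last, Fin.append_left, Fin.append_right, zero_smul,
        Finset.sum_const_zero, zero_add]
    · rw [h₁ j, Fin.sum_univ_add]
      simp only [Fin.lastCases_castSucc, Fin.append_left, Fin.append_right, zero_smul,
        Finset.sum_const_zero, add_zero]


/-- the property to be proved locally. -/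
def PrCrit {U : C} {n : ℕ} (a₀ : Fin 1 → Fin n → O_C.obj.obj (op U))
    (x : Fin n → (f.pull.obj F).val.obj (op U)) ⦃V : C⦄ (g : V ⟶ U) : Prop :=
  ∃ (l : ℕ) (t : Fin l → (f.pull.obj F).val.obj (op V)) (a : Fin n → Fin l → O_C.obj.obj (op V)),
    (∀ j, res O_C (f.pull.obj F) g (x j) = ∑ k, a j k • t k) ∧
    (∀ i k, ∑ j, a j k * resO O_C g (a₀ i j) = 0)

/-- **the inverse image of a flat module satisfies the equational criterion**. -/
theorem critM_one_pull (hF : ModSite.IsFlat F) : CritM O_C (f.pull.obj F) 1 := by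
  rw [critM_iff]
  intro U n a₀ x hrel
  change ∃ S ∈ J U, ∀ ⦃V : C⦄ (g : V ⟶ U), S g → PrCrit f F a₀ x g
  obtain ⟨S₁, hS₁, H₁⟩ := exists_sum_lam_fin f F n x
  apply exists_cover_of_bind (PrCrit f F a₀ x) S₁ hS₁
  intro U₁ h₁ hh₁
  obtain ⟨l, c, z, hx⟩ := H₁ h₁ hh₁
  let b : Fin l → O_C.obj.obj (op U₁) := fun k => ∑ j, resO O_C h₁ (a₀ 0 j) * c j k
  have hb : ∑ k, b k • lamU f F U₁ (z k) = 0 := by
    have h0 := congrArg (res O_C (f.pull.obj F) h₁) (hrel 0)
    rw [res_zero, res_sum] at h0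
    rw [← h0]
    have e1 : ∀ k, b k • lamU f F U₁ (z k) =
        ∑ j, resO O_C h₁ (a₀ 0 j) • (c j k • lamU f F U₁ (z k)) := by
      intro k
      rw [Finset.sum_smul]
      refine Finset.sum_congr rfl fun j _ => ?_
      rw [mul_smul]
    rw [Finset.sum_congr rfl (fun k _ => e1 k), Finset.sum_comm]
    refine Finset.sum_congr rfl fun j _ => ?_
    rw [res_smul, hx j, Finset.smul_sum]
  obtain ⟨S₂, hS₂, H₂⟩ := tmul_eq_zero_of_lam f F b z hb
  apply exists_cover_of_bind (fun V g => PrCrit f F a₀ x (g ≫ h₁)) S₂ hS₂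
  intro U₂ h₂ hh₂
  have h20 := H₂ h₂ hh₂
  obtain ⟨p, q, z', y, a, hi, hii⟩ := exists_trivial_of_sum_tmul_eq_zero
    (A := RU J K f.fn O_D U₂) (fun k => resO O_C h₂ (b k)) (fun k => rsM F h₂ (z k)) h20
  obtain ⟨S₃, hS₃, H₃⟩ := crit_MU F hF (fun r i => a i r)
    (Fin.append (fun k => rsM F h₂ (z k)) z') hii
  refine ⟨S₃, hS₃, ?_⟩
  intro U₃ h₃ hh₃
  obtain ⟨l', v, Dm, hv, hD⟩ := H₃ h₃ hh₃
  refine ⟨l', fun m => lamU f F U₃ (v m), fun j m => ∑ k : Fin l,
    resO O_C (h₃ ≫ h₂) (c j k) * iotaU f U₃ (Dm (Fin.castAdd p k) m), ?_, ?_⟩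
  · intro j
    rw [res_comp, hx j, res_sum]
    have e2 : ∀ k : Fin l, res O_C (f.pull.obj F) (h₃ ≫ h₂) (c j k • lamU f F U₁ (z k)) =
        ∑ m, (resO O_C (h₃ ≫ h₂) (c j k) * iotaU f U₃ (Dm (Fin.castAdd p k) m)) •
          lamU f F U₃ (v m) := by
      intro k
      rw [res_smul, lamU_res, rsM_comp]
      have e3 : rsM F h₃ (rsM F h₂ (z k)) = ∑ m, Dm (Fin.castAdd p k) m • v m := by
        have := hv (Fin.castAdd p k)
        rw [Fin.append_left] at this
        exact this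
      rw [e3, map_sum, Finset.smul_sum]
      refine Finset.sum_congr rfl fun m _ => ?_
      rw [lamU_smul, mul_smul]
    rw [Finset.sum_congr rfl (fun k _ => e2 k), Finset.sum_comm]
    refine Finset.sum_congr rfl fun m _ => ?_
    rw [Finset.sum_smul]
  · intro i m
    have hi0 : i = 0 := Subsingleton.elim _ _
    subst hi0
    have key := sum_mul_eq_zero_of_trivial (iotaU f U₂) (iotaU f U₃) (rsR h₃)
      (O_C.obj.map h₃.op).hom (fun r => iotaU_res f h₃ r) (fun k => resO O_C h₂ (b k)) y a Dm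
      hi (fun r m => hD r m) m
    rw [← key]
    have e4 : ∀ k : Fin l, (O_C.obj.map h₃.op).hom (resO O_C h₂ (b k)) =
        ∑ j, resO O_C (h₃ ≫ h₂) (c j k) * resO O_C ((h₃ ≫ h₂) ≫ h₁) (a₀ 0 j) := by
      intro k
      change resO O_C h₃ (resO O_C h₂ (b k)) = _
      rw [← resO_comp, resO_sum]
      refine Finset.sum_congr rfl fun j _ => ?_
      rw [resO_mul, ← resO_comp, mul_comm]
    have e5 : ∀ j, (∑ k : Fin l, resO O_C (h₃ ≫ h₂) (c j k) *
        iotaU f U₃ (Dm (Fin.castAdd p k) m)) * resO O_C ((h₃ ≫ h₂) ≫ h₁) (a₀ 0 j) =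
        ∑ k : Fin l, iotaU f U₃ (Dm (Fin.castAdd p k) m) *
          (resO O_C (h₃ ≫ h₂) (c j k) * resO O_C ((h₃ ≫ h₂) ≫ h₁) (a₀ 0 j)) := by
      intro j
      rw [Finset.sum_mul]
      refine Finset.sum_congr rfl fun k _ => ?_
      ring
    rw [Finset.sum_congr rfl (fun j _ => e5 j), Finset.sum_comm]
    refine Finset.sum_congr rfl fun k _ => ?_
    rw [e4 k, Finset.mul_sum]

/-- **the inverse image of a flat module is flat**. -/
theorem isFlat_pull (hF : ModSite.IsFlat F) : ModSite.IsFlat (f.pull.obj F) :=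
  isFlat_of_critM_one O_C (f.pull.obj F) (critM_one_pull f F hF)

end

end Groth.Agent.Lib.Helper21.InvF
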