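import Mathlib
import Groth.Prelude.Def_ModSite
import Groth.Prelude.Def_ModSite2
import Groth.Agent.Lib.Helper21InvF7

/-!
# Helper21 InvF11: the sheaf of rings `f⁻¹O` and its universal property

For a continuous functor `fn : D ⥤ C` with exact inverse image of sheaves of sets and a sheaf of
commutative rings `O` on `D`:
* `RSh fn O : Sheaf J CommRingCat`, with sections the rings `RU U`;
* `etaRhom : O ⟶ fn_* (RSh fn O)`, the unit;
* `liftR ψ : RSh fn O ⟶ A` for `ψ : O ⟶ fn_* A`, with `liftR_eta`, and uniqueness `RSh_hom_ext`;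
* `invIso : (fn.sheafPullback CommRingCat K J).obj O ≅ RSh fn O`.
-/

set_option autoImplicit false
universe u
open CategoryTheory CategoryTheory.Limits Opposite

namespace Groth.Agent.Lib.Helper21.InvF

open Groth.Agent.Lib.Helper21.EqCrit

noncomputable section

variable {C D : Type u} [SmallCategory C] [SmallCategory D] {J : GrothendieckTopology C}
  {K : GrothendieckTopology D} (fn : D ⥤ C) [fn.IsContinuous K J]
  [PreservesFiniteLimits (P J K fn)] (O : Sheaf K CommRingCat.{u})

/-- the presheaf of rings `U ↦ RU U`. -/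
def RPre : Cᵒᵖ ⥤ CommRingCat.{u} where
  obj U := CommRingCat.of (RU J K fn O U.unop)
  map h := CommRingCat.ofHom (rsR h.unop)
  map_id U := by
    ext a
    exact rsR_id a
  map_comp h h' := by
    ext a
    exact rsR_comp h.unop h'.unop a

/-- the underlying presheaf of sets of `RPre` is the inverse image of sets. -/
def RPreForgetIso : RPre (J := J) (K := K) fn O ⋙ forget CommRingCat.{u} ≅
    ((P J K fn).obj (OS K O)).obj :=
  NatIso.ofComponents (fun U => Iso.refl _) (by
    intro U U' h
    ext a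
    rfl)

/-- the sheaf of rings `f⁻¹O`. -/
def RSh : Sheaf J CommRingCat.{u} :=
  ⟨RPre fn O, (Presheaf.isSheaf_iff_isSheaf_forget J (RPre fn O) (forget CommRingCat.{u})).2
    ((Presheaf.isSheaf_of_iso_iff (RPreForgetIso fn O)).2 ((P J K fn).obj (OS K O)).property)⟩

theorem RSh_map_apply {U U' : C} (h : U' ⟶ U) (a : RU J K fn O U) :
    ((RSh fn O).obj.map h.op).hom a = rsR h a := rfl

/-- the unit `O ⟶ fn_* f⁻¹O` as a morphism of sheaves of rings. -/
def etaRhom : O ⟶ (fn.sheafPushforwardContinuous CommRingCat.{u} K J).obj (RSh fn O) :=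
  ⟨{ app := fun V => CommRingCat.ofHom (etaO J fn V.unop)
     naturality := fun V V' k => by
       ext x
       exact (etaO_res (J := J) (fn := fn) k.unop x).symm }⟩

theorem etaRhom_apply (V : D) (x : O.obj.obj (op V)) :
    ((etaRhom (J := J) fn O).hom.app (op V)).hom x = etaO J fn V x := rfl

section lift

variable {fn O}
variable {A : Sheaf J CommRingCat.{u}}
  (ψ : O ⟶ (fn.sheafPushforwardContinuous CommRingCat.{u} K J).obj A)

/-- `ψ` on sections, as a ring homomorphism. -/
def psU (V : D) : O.obj.obj (op V) →+* A.obj.obj (op (fn.obj V)) := (ψ.hom.app (op V)).hom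

theorem psU_res {V V' : D} (k : V' ⟶ V) (r : O.obj.obj (op V)) :
    resO A (fn.map k) (psU ψ V r) = psU ψ V' (resO O k r) :=
  (ConcreteCategory.congr_hom (ψ.hom.naturality k.op) r).symm

/-- `ψ` as a map of sheaves of sets. -/
def psS : OS K O ⟶ (Q J K fn).obj (OS J A) :=
  ⟨{ app := fun V => ↾(fun r => psU ψ V.unop r)
     naturality := fun V V' k => by
       ext r
       exact (psU_res ψ k.unop r).symm }⟩

/-- the adjoint of `ψ` as a map of sheaves of sets. -/
def liftS : (P J K fn).obj (OS K O) ⟶ OS J A := lift (psS ψ)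

theorem liftS_eta (V : D) (r : O.obj.obj (op V)) :
    ap (liftS ψ) (eta J K fn (OS K O) V r) = psU ψ V r :=
  lift_eta (psS ψ) V r

theorem liftS_ge {U' : C} {V : D} (g : U' ⟶ fn.obj V) (r : O.obj.obj (op V)) :
    ap (liftS ψ) (geR (J := J) g r) = resO A g (psU ψ V r) := by
  unfold geR
  rw [ap_rs, liftS_eta]
  rfl

theorem liftS_rs {U U' : C} (h : U' ⟶ U) (a : RU J K fn O U) :
    resO A h (ap (liftS ψ) a) = ap (liftS ψ) (rs ((P J K fn).obj (OS K O)) h a) :=
  (ap_rs (liftS ψ) h a).symm

theorem liftS_add {U : C} (a b : RU J K fn O U) :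
    ap (liftS ψ) (addR a b) = (ap (liftS ψ) a + ap (liftS ψ) b : A.obj.obj (op U)) := by
  apply locR (J := J) (fn := fn) ![a, b] (OS J A)
  intro U' h V g α hα
  have ha : rs _ h a = geR g (α 0) := hα 0
  have hb : rs _ h b = geR g (α 1) := hα 1
  change resO A h (ap (liftS ψ) (addR a b)) = resO A h (ap (liftS ψ) a + ap (liftS ψ) b)
  rw [resO_add', liftS_rs, liftS_rs, liftS_rs, rs_addR, ha, hb, addR_ge, liftS_ge, liftS_ge,
    liftS_ge, map_add, resO_add']

theorem liftS_mul {U : C} (a b : RU J K fn O U) :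
    ap (liftS ψ) (mulR a b) = (ap (liftS ψ) a * ap (liftS ψ) b : A.obj.obj (op U)) := by
  apply locR (J := J) (fn := fn) ![a, b] (OS J A)
  intro U' h V g α hα
  have ha : rs _ h a = geR g (α 0) := hα 0
  have hb : rs _ h b = geR g (α 1) := hα 1
  change resO A h (ap (liftS ψ) (mulR a b)) = resO A h (ap (liftS ψ) a * ap (liftS ψ) b)
  rw [resO_mul, liftS_rs, liftS_rs, liftS_rs, rs_mulR, ha, hb, mulR_ge, liftS_ge, liftS_ge,
    liftS_ge, map_mul, resO_mul]

theorem liftS_zero (U : C) :
    ap (liftS ψ) (zeroR (J := J) (fn := fn) (O := O) U) = (0 : A.obj.obj (op U)) := by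
  apply locR (J := J) (fn := fn) (O := O) ![] (OS J A)
  intro U' h V g α _
  change resO A h (ap (liftS ψ) (zeroR U)) = resO A h 0
  rw [liftS_rs, rs_zeroR, zeroR_ge g, liftS_ge, map_zero, resO_zero, resO_zero]

theorem liftS_one (U : C) :
    ap (liftS ψ) (oneR (J := J) (fn := fn) (O := O) U) = (1 : A.obj.obj (op U)) := by
  apply locR (J := J) (fn := fn) (O := O) ![] (OS J A)
  intro U' h V g α _
  change resO A h (ap (liftS ψ) (oneR U)) = resO A h 1
  rw [liftS_rs, rs_oneR, oneR_ge g, liftS_ge, map_one, resO_one', resO_one']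

/-- the adjoint of `ψ`, as a ring homomorphism on sections. -/
def liftU (U : C) : RU J K fn O U →+* A.obj.obj (op U) where
  toFun := fun a => ap (liftS ψ) a
  map_one' := liftS_one ψ U
  map_mul' := liftS_mul ψ
  map_zero' := liftS_zero ψ U
  map_add' := liftS_add ψ

theorem liftU_res {U U' : C} (h : U' ⟶ U) (a : RU J K fn O U) :
    resO A h (liftU ψ U a) = liftU ψ U' (rsR h a) := liftS_rs ψ h a

theorem liftU_etaO (V : D) (r : O.obj.obj (op V)) :
    liftU ψ (fn.obj V) (etaO J fn V r) = psU ψ V r := liftS_eta ψ V r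

/-- the adjoint of `ψ`, as a morphism of sheaves of rings. -/
def liftR : RSh fn O ⟶ A :=
  ⟨{ app := fun U => CommRingCat.ofHom (liftU ψ U.unop)
     naturality := fun U U' h => by
       ext a
       exact (liftU_res ψ h.unop a).symm }⟩

theorem liftR_apply (U : C) (a : RU J K fn O U) :
    ((liftR ψ).hom.app (op U)).hom a = liftU ψ U a := rfl

theorem liftR_eta (V : D) (r : O.obj.obj (op V)) :
    ((liftR ψ).hom.app (op (fn.obj V))).hom (etaO J fn V r) = (ψ.hom.app (op V)).hom r :=
  liftU_etaO ψ V r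

/-- a morphism out of `RSh`, as a map of sheaves of sets. -/
def toS (φ : RSh fn O ⟶ A) : (P J K fn).obj (OS K O) ⟶ OS J A :=
  ⟨{ app := fun U => ↾(fun a => (φ.hom.app U).hom a)
     naturality := fun U U' h => by
       ext a
       exact ConcreteCategory.congr_hom (φ.hom.naturality h) a }⟩

/-- **uniqueness**: morphisms out of `f⁻¹O` are determined on the image of the unit. -/
theorem RSh_hom_ext (φ φ' : RSh fn O ⟶ A)
    (h : ∀ (V : D) (r : O.obj.obj (op V)),
      (φ.hom.app (op (fn.obj V))).hom (etaO J fn V r) =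
        (φ'.hom.app (op (fn.obj V))).hom (etaO J fn V r)) : φ = φ' := by
  have h1 : toS φ = toS φ' := hom_ext_eta _ _ (fun V r => h V r)
  apply Sheaf.hom_ext
  ext U a
  have h2 := congrArg (fun t => ap t a) h1
  exact h2

end lift

section iso

/-- the adjunction on sheaves of commutative rings. -/
abbrev adjR : fn.sheafPullback CommRingCat.{u} K J ⊣ fn.sheafPushforwardContinuous CommRingCat.{u} K J :=
  fn.sheafAdjunctionContinuous CommRingCat.{u} K J

/-- Mathlib's inverse image of a sheaf of commutative rings. -/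
abbrev invR : Sheaf J CommRingCat.{u} := (fn.sheafPullback CommRingCat.{u} K J).obj O

/-- the comparison `fn⁻¹O ⟶ RSh`. -/
def alpha : invR (J := J) fn O ⟶ RSh fn O :=
  ((adjR (J := J) (K := K) fn).homEquiv O (RSh fn O)).symm (etaRhom fn O)

/-- the comparison `RSh ⟶ fn⁻¹O`. -/
def beta : RSh fn O ⟶ invR (J := J) fn O := liftR ((adjR (J := J) (K := K) fn).unit.app O)

theorem alpha_unit (V : D) (r : O.obj.obj (op V)) :
    ((alpha (J := J) fn O).hom.app (op (fn.obj V))).hom
      ((((adjR (J := J) (K := K) fn).unit.app O).hom.app (op V)).hom r) = etaO J fn V r := by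
  have h : (adjR (J := J) (K := K) fn).homEquiv O (RSh fn O) (alpha fn O) = etaRhom fn O := by
    unfold alpha
    rw [Equiv.apply_symm_apply]
  rw [Adjunction.homEquiv_unit] at h
  have h1 := congrArg (fun t => (t.hom.app (op V)).hom r) h
  exact h1

theorem beta_eta (V : D) (r : O.obj.obj (op V)) :
    ((beta (J := J) fn O).hom.app (op (fn.obj V))).hom (etaO J fn V r) =
      (((adjR (J := J) (K := K) fn).unit.app O).hom.app (op V)).hom r :=
  liftR_eta _ V r

theorem beta_alpha : beta (J := J) fn O ≫ alpha fn O = 𝟙 _ := by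
  apply RSh_hom_ext
  intro V r
  change ((alpha (J := J) fn O).hom.app (op (fn.obj V))).hom
    (((beta (J := J) fn O).hom.app (op (fn.obj V))).hom (etaO J fn V r)) = etaO J fn V r
  rw [beta_eta, alpha_unit]

theorem alpha_beta : alpha (J := J) fn O ≫ beta fn O = 𝟙 _ := by
  apply ((adjR (J := J) (K := K) fn).homEquiv O (invR fn O)).injective
  rw [Adjunction.homEquiv_unit, Adjunction.homEquiv_unit]
  apply Sheaf.hom_ext
  ext V r
  change ((beta (J := J) fn O).hom.app (op (fn.obj V.unop))).hom
    (((alpha (J := J) fn O).hom.app (op (fn.obj V.unop))).hom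
      ((((adjR (J := J) (K := K) fn).unit.app O).hom.app V).hom r)) =
    ((𝟙 (invR (J := J) fn O) : _ ⟶ _).hom.app (op (fn.obj V.unop))).hom
      ((((adjR (J := J) (K := K) fn).unit.app O).hom.app V).hom r)
  rw [alpha_unit, beta_eta]
  rfl

/-- **Mathlib's inverse image of a sheaf of rings is the explicit one.** -/
def invIso : invR (J := J) fn O ≅ RSh fn O where
  hom := alpha fn O
  inv := beta fn O
  hom_inv_id := alpha_beta fn O
  inv_hom_id := beta_alpha fn O

end iso

section rmor

variable {O_C : Sheaf J CommRingCat.{u}} {O_D : Sheaf K CommRingCat.{u}}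
  (f : ModSite.RMor O_C O_D)

/-- `ι : f⁻¹O_D ⟶ O_C` as a morphism of sheaves of rings. -/
def iotaR : RSh f.fn O_D ⟶ O_C := liftR f.sharp

theorem iotaR_apply (U : C) (a : RU J K f.fn O_D U) :
    ((iotaR f).hom.app (op U)).hom a = iotaU f U a := rfl

/-- Mathlib's `f⁻¹O_D ⟶ O_C` is the explicit one. -/
theorem alpha_iotaR : alpha f.fn O_D ≫ iotaR f = f.invSharp := by
  unfold ModSite.RMor.invSharp
  apply ((adjR (J := J) (K := K) f.fn).homEquiv O_D O_C).injective
  rw [Equiv.apply_symm_apply, Adjunction.homEquiv_unit]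
  apply Sheaf.hom_ext
  ext V r
  change ((iotaR f).hom.app (op (f.fn.obj V.unop))).hom
    (((alpha (J := J) f.fn O_D).hom.app (op (f.fn.obj V.unop))).hom
      ((((adjR (J := J) (K := K) f.fn).unit.app O_D).hom.app V).hom r)) = _
  rw [alpha_unit]
  exact liftR_eta f.sharp V.unop r

theorem invSharp_apply (U : C) (b : f.invRing.obj.obj (op U)) :
    (f.invSharp.hom.app (op U)).hom b =
      iotaU f U (((alpha (J := J) f.fn O_D).hom.app (op U)).hom b) := by
  rw [← alpha_iotaR]
  rfl

theorem iotaU_eq_invSharp (U : C) (a : RU J K f.fn O_D U) :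
    iotaU f U a = (f.invSharp.hom.app (op U)).hom (((beta (J := J) f.fn O_D).hom.app (op U)).hom a) := by
  rw [invSharp_apply]
  have h := congrArg (fun t => (t.hom.app (op U)).hom a) (beta_alpha (J := J) f.fn O_D)
  have h' : ((alpha (J := J) f.fn O_D).hom.app (op U)).hom
      (((beta (J := J) f.fn O_D).hom.app (op U)).hom a) = a := h
  rw [h']

end rmor

end

end Groth.Agent.Lib.Helper21.InvF
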