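import Mathlib
import Groth.Prelude.Def_ModSite
import Groth.Prelude.Def_ModSite2
import Groth.Agent.Lib.Helper21InvF11
import Groth.Agent.Lib.Helper21InvF10

/-!
# Helper21 InvF12: `f⁻¹O` is a local ring object if `O` is
-/

set_option autoImplicit false
universe u
open CategoryTheory CategoryTheory.Limits Opposite

namespace Groth.Agent.Lib.Helper21.InvF

open Groth.Agent.Lib.Helper21.EqCrit

noncomputable section

variable {C D : Type u} [SmallCategory C] [SmallCategory D] {J : GrothendieckTopology C}
  {K : GrothendieckTopology D}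

/-- local ringedness is invariant under isomorphism. -/
theorem isLocallyRinged_of_iso {O O' : Sheaf J CommRingCat.{u}} (e : O ≅ O')
    (h : ModSite.IsLocallyRinged J O) : ModSite.IsLocallyRinged J O' := by
  refine ⟨fun U f' => ?_, fun U h01 => ?_⟩
  · obtain ⟨S, hS, hS'⟩ := h.1 U ((e.inv.hom.app (op U)).hom f')
    refine ⟨S, hS, fun V g hg => ?_⟩
    have hnat : ∀ x : O.obj.obj (op U), (e.hom.hom.app (op V)).hom ((O.obj.map g.op).hom x) =
        (O'.obj.map g.op).hom ((e.hom.hom.app (op U)).hom x) := fun x =>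
      ConcreteCategory.congr_hom (e.hom.hom.naturality g.op) x
    have hinv : (e.hom.hom.app (op U)).hom ((e.inv.hom.app (op U)).hom f') = f' := by
      have := congrArg (fun t => (t.hom.app (op U)).hom f') e.inv_hom_id
      exact this
    rcases hS' g hg with h1 | h1
    · left
      have h2 := h1.map (e.hom.hom.app (op V)).hom
      rw [hnat, hinv] at h2
      exact h2
    · right
      have h2 := h1.map (e.hom.hom.app (op V)).hom
      rw [hnat, map_sub, map_one, hinv] at h2
      exact h2
  · apply h.2 U
    have h2 := congrArg (e.inv.hom.app (op U)).hom h01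
    rw [map_zero, map_one] at h2
    exact h2

variable (fn : D ⥤ C) [fn.IsContinuous K J] [PreservesFiniteLimits (P J K fn)]
  (O : Sheaf K CommRingCat.{u})

/-- the constant map `0` of sheaves of sets. -/
def constZero : OS K O ⟶ OS K O :=
  ⟨{ app := fun V => ↾(fun _ => (0 : O.obj.obj V))
     naturality := fun V V' k => by
       ext r
       exact (map_zero (O.obj.map k).hom).symm }⟩

/-- the constant map `1` of sheaves of sets. -/
def constOne : OS K O ⟶ OS K O :=
  ⟨{ app := fun V => ↾(fun _ => (1 : O.obj.obj V))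
     naturality := fun V V' k => by
       ext r
       exact (map_one (O.obj.map k).hom).symm }⟩

theorem P_constZero {U : C} (a : RU J K fn O U) :
    ap ((P J K fn).map (constZero O)) a = (0 : RU J K fn O U) := by
  apply locR (J := J) (fn := fn) ![a] ((P J K fn).obj (OS K O))
  intro U' h V g α hα
  have ha : rs _ h a = geR g (α 0) := hα 0
  rw [← ap_rs, ha]
  unfold geR
  rw [ap_rs, eta_nat]
  change _ = rs _ h (zeroR U)
  rw [rs_zeroR, zeroR_ge g]
  rfl

theorem P_constOne {U : C} (a : RU J K fn O U) :
    ap ((P J K fn).map (constOne O)) a = (1 : RU J K fn O U) := by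
  apply locR (J := J) (fn := fn) ![a] ((P J K fn).obj (OS K O))
  intro U' h V g α hα
  have ha : rs _ h a = geR g (α 0) := hα 0
  rw [← ap_rs, ha]
  unfold geR
  rw [ap_rs, eta_nat]
  change _ = rs _ h (oneR U)
  rw [rs_oneR, oneR_ge g]
  rfl

/-- **`f⁻¹O` is a local ring object if `O` is.** -/
theorem isLocallyRinged_RSh (hD : ModSite.IsLocallyRinged K O) :
    ModSite.IsLocallyRinged J (RSh fn O) := by
  refine ⟨fun U r => ?_, fun U h01 => ?_⟩
  · obtain ⟨S₁, hS₁, H₁⟩ := gtp (J := J) (fn := fn) (OS K O) U r
    refine exists_cover_of_bind (J := J) (fun V g =>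
      IsUnit (((RSh fn O).obj.map g.op).hom r) ∨ IsUnit (((RSh fn O).obj.map g.op).hom (1 - r)))
      S₁ hS₁ ?_
    intro U₁ h₁ hh₁
    obtain ⟨V, g, (x : O.obj.obj (op V)), hx⟩ := H₁ h₁ hh₁
    obtain ⟨S', hS', HS'⟩ := hD.1 V x
    refine ⟨_, pullback_functorPushforward_mem (J := J) (fn := fn) S' hS' g, ?_⟩
    intro U₂ h₂ hh₂
    obtain ⟨V', k, g', hk, e⟩ := exists_of_mem_pullback_functorPushforward S' g h₂ hh₂
    have key : ((RSh fn O).obj.map (h₂ ≫ h₁).op).hom r = rsR g' (etaO J fn V' (resO O k x)) := by
      change rs _ (h₂ ≫ h₁) r = _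
      rw [rs_comp, hx, ← rs_comp, e, rs_comp, eta_rs]
      rfl
    rcases HS' k hk with h1 | h1
    · left
      rw [key]
      exact (h1.map (etaO J fn V')).map (rsR g')
    · right
      rw [map_sub, map_one, key]
      have h2 := (h1.map (etaO J fn V')).map (rsR (J := J) g')
      have e2 : (O.obj.map k.op).hom (1 - x) = 1 - resO O k x := by
        rw [map_sub, map_one]
        rfl
      rw [e2, map_sub, map_sub, map_one, map_one] at h2
      exact h2
  · have h01' : (0 : RU J K fn O U) = 1 := h01
    have hc : ap ((P J K fn).map (constZero O)) (0 : RU J K fn O U) =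
        ap ((P J K fn).map (constOne O)) (0 : RU J K fn O U) := by
      rw [P_constZero, P_constOne, h01']
    obtain ⟨S, hS, HS⟩ := gtp_eq (J := J) (fn := fn) (constZero O) (constOne O) U _ hc
    apply J.transitive hS
    intro U' h hh
    obtain ⟨V, g, x, hx, -⟩ := HS h hh
    have h0 : (0 : O.obj.obj (op V)) = 1 := hx
    have hbot : (⊥ : Sieve V) ∈ K V := hD.2 V h0
    have h3 := pullback_functorPushforward_mem (J := J) (fn := fn) ⊥ hbot g
    refine J.superset_covering ?_ h3
    intro U'' h'' hh''
    obtain ⟨V', k, g', hk, -⟩ := exists_of_mem_pullback_functorPushforward ⊥ g h'' hh''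
    exact hk.elim

end

end Groth.Agent.Lib.Helper21.InvF
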