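import Mathlib
import Groth.Prelude.Def_ModSite
import Groth.Agent.Lib.Helper21InvF10
import Groth.Agent.Lib.Helper4ModEpi

/-!
# Helper21 InvF13: functoriality and exactness of `f⁻¹` on modules, sectionwise

For `φ : F ⟶ G` in `Mod O`: the `RU U`-linear maps `PmU φ U : MU F U → MU G U`, compatible with
restriction and units; injective if `φ` is mono, locally surjective if `φ` is epi, and
locally exact on short exact sequences.  Naturality of `lamU`.
-/

set_option autoImplicit false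
universe u
open CategoryTheory CategoryTheory.Limits Opposite

namespace Groth.Agent.Lib.Helper21.InvF

open Groth.Agent.Lib.Helper21.EqCrit

noncomputable section

section general

variable {E : Type u} [SmallCategory E] {L : GrothendieckTopology E} {R : Sheaf L CommRingCat.{u}}
  {F G : ModSite.Mod R} (φ : F ⟶ G)

/-- a morphism of modules on sections, as a plain function. -/
def phF (V : E) (y : F.val.obj (op V)) : G.val.obj (op V) := (φ.val.app (op V)).hom y

theorem phF_add (V : E) (y y' : F.val.obj (op V)) : phF φ V (y + y') = phF φ V y + phF φ V y' :=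
  map_add (φ.val.app (op V)).hom y y'

theorem phF_zero (V : E) : phF φ V 0 = 0 := map_zero (φ.val.app (op V)).hom

theorem phF_smul (V : E) (r : R.obj.obj (op V)) (y : F.val.obj (op V)) :
    phF φ V (r • y) = r • phF φ V y := map_smul (φ.val.app (op V)).hom r y

theorem phF_res {V V' : E} (k : V' ⟶ V) (y : F.val.obj (op V)) :
    res R G k (phF φ V y) = phF φ V' (res R F k y) :=
  (PresheafOfModules.naturality_apply φ.val k.op y).symm

/-- the underlying map of sheaves of sets. -/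
def FSmap : FS L R F ⟶ FS L R G :=
  ⟨{ app := fun V => ↾(fun y => phF φ V.unop y)
     naturality := fun V V' k => by
       ext y
       exact (phF_res φ k.unop y).symm }⟩

theorem ap_FSmap (V : E) (y : F.val.obj (op V)) : ap (FSmap φ) y = phF φ V y := rfl

theorem FSmap_mono [Mono φ] : Mono (FSmap φ) := by
  haveI : ∀ V, Mono ((FSmap φ).hom.app V) := fun V => by
    rw [mono_iff_injective]
    exact injective_app_of_mono R φ V
  haveI : Mono (FSmap φ).hom := NatTrans.mono_of_mono_app _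
  exact Sheaf.Hom.mono_of_presheaf_mono _ _ _

end general

variable {C D : Type u} [SmallCategory C] [SmallCategory D] {J : GrothendieckTopology C}
  {K : GrothendieckTopology D} {fn : D ⥤ C} [fn.IsContinuous K J]
  {O : Sheaf K CommRingCat.{u}} [PreservesFiniteLimits (P J K fn)]
  {F G H : ModSite.Mod O} (φ : F ⟶ G)

/-- `f⁻¹φ` as a map of sheaves of sets. -/
def PmS : (P J K fn).obj (FS K O F) ⟶ (P J K fn).obj (FS K O G) := (P J K fn).map (FSmap φ)

theorem PmS_eta (V : D) (y : F.val.obj (op V)) :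
    ap (PmS (J := J) (fn := fn) φ) (eta J K fn (FS K O F) V y) =
      eta J K fn (FS K O G) V (phF φ V y) :=
  eta_nat (FSmap φ) V y

theorem PmS_ge {U' : C} {V : D} (g : U' ⟶ fn.obj V) (y : F.val.obj (op V)) :
    ap (PmS φ) (geM (J := J) F g y) = geM G g (phF φ V y) := by
  unfold geM
  rw [ap_rs, PmS_eta]

theorem PmS_rs {U U' : C} (h : U' ⟶ U) (z : MU J K fn O F U) :
    rs ((P J K fn).obj (FS K O G)) h (ap (PmS φ) z) =
      ap (PmS φ) (rs ((P J K fn).obj (FS K O F)) h z) :=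
  (ap_rs (PmS φ) h z).symm

theorem PmS_add {U : C} (z w : MU J K fn O F U) :
    ap (PmS φ) (addM F z w) = addM G (ap (PmS φ) z) (ap (PmS φ) w) := by
  apply locM (J := J) (fn := fn) F ![] ![z, w] ((P J K fn).obj (FS K O G))
  intro U' h V g α ζ _ hζ
  have hz : rs _ h z = geM F g (ζ 0) := hζ 0
  have hw : rs _ h w = geM F g (ζ 1) := hζ 1
  rw [PmS_rs, rs_addM, hz, hw, addM_ge, PmS_ge, rs_addM, PmS_rs, PmS_rs, hz, hw, PmS_ge, PmS_ge,
    addM_ge, phF_add]

theorem PmS_zero (U : C) :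
    ap (PmS φ) (zeroM (J := J) (fn := fn) F U) = zeroM G U := by
  apply locM (J := J) (fn := fn) F ![] ![] ((P J K fn).obj (FS K O G))
  intro U' h V g α ζ _ _
  rw [PmS_rs, rs_zeroM, zeroM_ge F g, PmS_ge, rs_zeroM, zeroM_ge G g, phF_zero]

theorem PmS_smul {U : C} (r : RU J K fn O U) (z : MU J K fn O F U) :
    ap (PmS φ) (smulM F r z) = smulM G r (ap (PmS φ) z) := by
  apply locM (J := J) (fn := fn) F ![r] ![z] ((P J K fn).obj (FS K O G))
  intro U' h V g α ζ hα hζ
  have hr : rs _ h r = geR g (α 0) := hα 0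
  have hz : rs _ h z = geM F g (ζ 0) := hζ 0
  rw [PmS_rs, rs_smulM, hr, hz, smulM_ge, PmS_ge, rs_smulM, PmS_rs, hr, hz, PmS_ge, smulM_ge,
    phF_smul]

/-- `f⁻¹φ` on sections, as a linear map. -/
def PmU (U : C) : MU J K fn O F U →ₗ[RU J K fn O U] MU J K fn O G U where
  toFun := fun z => ap (PmS φ) z
  map_add' := PmS_add φ
  map_smul' := PmS_smul φ

theorem PmU_res {U U' : C} (h : U' ⟶ U) (z : MU J K fn O F U) :
    rsM G h (PmU φ U z) = PmU φ U' (rsM F h z) := PmS_rs φ h z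

theorem PmU_etaF (V : D) (y : F.val.obj (op V)) :
    PmU φ (fn.obj V) (etaF J fn F V y) = etaF J fn G V (phF φ V y) := PmS_eta φ V y

theorem PmU_ge {U' : C} {V : D} (g : U' ⟶ fn.obj V) (y : F.val.obj (op V)) :
    PmU φ U' (geM (J := J) F g y) = geM G g (phF φ V y) := PmS_ge φ g y

/-- `f⁻¹` of the zero map is zero. -/
theorem PmU_zero_map {U : C} (z : MU J K fn O F U) : PmU (0 : F ⟶ G) U z = 0 := by
  apply locM (J := J) (fn := fn) F ![] ![z] ((P J K fn).obj (FS K O G))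
  intro U' h V g α ζ _ hζ
  have hz : rs _ h z = geM F g (ζ 0) := hζ 0
  change rs _ h (ap (PmS (0 : F ⟶ G)) z) = rs _ h (zeroM G U)
  rw [PmS_rs, hz, PmS_ge, rs_zeroM, zeroM_ge G g]
  rfl

/-- `f⁻¹` preserves monomorphisms. -/
theorem PmU_injective [Mono φ] (U : C) : Function.Injective (PmU (J := J) (fn := fn) φ U) := by
  haveI := FSmap_mono φ
  haveI : Mono (PmS (J := J) (fn := fn) φ) := by
    unfold PmS
    infer_instance
  haveI : Mono ((sheafToPresheaf J (Type u)).map (PmS (J := J) (fn := fn) φ)) := inferInstance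
  have h2 : Mono (((sheafToPresheaf J (Type u)).map (PmS (J := J) (fn := fn) φ)).app (op U)) :=
    (NatTrans.mono_iff_mono_app _).1 inferInstance (op U)
  exact (mono_iff_injective _).1 h2

/-- `f⁻¹` preserves epimorphisms: local surjectivity on sections. -/
theorem PmU_locally_surjective [Epi φ] {U : C} (w : MU J K fn O G U) :
    ∃ S ∈ J U, ∀ ⦃U' : C⦄ (h : U' ⟶ U), S h →
      ∃ z : MU J K fn O F U', PmU φ U' z = rsM G h w := by
  obtain ⟨S₁, hS₁, H₁⟩ := gtp (J := J) (fn := fn) (FS K O G) U w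
  refine exists_cover_of_bind (J := J) (fun U' h =>
    ∃ z : MU J K fn O F U', PmU φ U' z = rsM G h w) S₁ hS₁ ?_
  intro U₁ h₁ hh₁
  obtain ⟨V, g, (y : G.val.obj (op V)), hy⟩ := H₁ h₁ hh₁
  haveI := Groth.Agent.Lib.Helper4.ModEpi.isLocallySurjective_of_epi φ
  have hS' := Presheaf.imageSieve_mem K ((PresheafOfModules.toPresheaf _).map φ.val) y
  refine ⟨_, pullback_functorPushforward_mem (J := J) (fn := fn) _ hS' g, ?_⟩
  intro U₂ h₂ hh₂
  obtain ⟨V', k, g', ⟨(y' : F.val.obj (op V')), hy'⟩, e⟩ :=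
    exists_of_mem_pullback_functorPushforward _ g h₂ hh₂
  refine ⟨geM F g' y', ?_⟩
  have hy'' : phF φ V' y' = res O G k y := hy'
  rw [PmU_ge, hy'', rsM_comp]
  change _ = rs _ h₂ (rs _ h₁ w)
  rw [hy, ← rs_comp, e, rs_comp, eta_rs]
  rfl

/-- kernels of sheaves of modules are computed sectionwise. -/
theorem exists_of_g_eq_zero {E : Type u} [SmallCategory E] {L : GrothendieckTopology E}
    {R : Sheaf L CommRingCat.{u}} (S : ShortComplex (ModSite.Mod R)) (hS : S.ShortExact) (V : E)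
    (y : S.X₂.val.obj (op V)) (hy : phF S.g V y = 0) :
    ∃ w : S.X₁.val.obj (op V), phF S.f V w = y := by
  let Φ := SheafOfModules.forget (ModSite.ringSh R) ⋙ PresheafOfModules.evaluation _ (op V)
  have hex : (S.map Φ).Exact :=
    hS.exact.map_of_mono_of_preservesKernel Φ hS.mono_f inferInstance
  exact (ShortComplex.moduleCat_exact_iff _).1 hex y hy

theorem phF_comp {E : Type u} [SmallCategory E] {L : GrothendieckTopology E}
    {R : Sheaf L CommRingCat.{u}} {F G H : ModSite.Mod R} (φ : F ⟶ G) (ψ : G ⟶ H) (V : E)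
    (y : F.val.obj (op V)) : phF (φ ≫ ψ) V y = phF ψ V (phF φ V y) := rfl

theorem PmU_comp (ψ : G ⟶ H) {U : C} (z : MU J K fn O F U) :
    PmU (φ ≫ ψ) U z = PmU ψ U (PmU φ U z) := by
  apply locM (J := J) (fn := fn) F ![] ![z] ((P J K fn).obj (FS K O H))
  intro U' h V g α ζ _ hζ
  have hz : rs _ h z = geM F g (ζ 0) := hζ 0
  change rsM H h (PmU (φ ≫ ψ) U z) = rsM H h (PmU ψ U (PmU φ U z))
  rw [PmU_res, PmU_res, PmU_res]
  change PmU (φ ≫ ψ) U' (rs _ h z) = PmU ψ U' (PmU φ U' (rs _ h z))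
  rw [hz, PmU_ge, PmU_ge, PmU_ge, phF_comp]

/-- `f⁻¹` is exact in the middle, locally on sections. -/
theorem PmU_locally_exact (S : ShortComplex (ModSite.Mod O)) (hS : S.ShortExact) {U : C}
    (z : MU J K fn O S.X₂ U) (hz : PmU S.g U z = 0) :
    ∃ T ∈ J U, ∀ ⦃U' : C⦄ (h : U' ⟶ U), T h →
      ∃ w : MU J K fn O S.X₁ U', PmU S.f U' w = rsM S.X₂ h z := by
  have hc : ap ((P J K fn).map (FSmap S.g)) z = ap ((P J K fn).map (FSmap (0 : S.X₂ ⟶ S.X₃))) z :=
    hz.trans (PmU_zero_map (J := J) (fn := fn) (F := S.X₂) (G := S.X₃) z).symm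
  obtain ⟨T, hT, HT⟩ := gtp_eq (J := J) (fn := fn) (FSmap S.g) (FSmap (0 : S.X₂ ⟶ S.X₃)) U z hc
  refine ⟨T, hT, fun U' h hh => ?_⟩
  obtain ⟨V, g, (y : S.X₂.val.obj (op V)), hy, hzy⟩ := HT h hh
  have hy' : phF S.g V y = 0 := hy
  obtain ⟨w, hw⟩ := exists_of_g_eq_zero S hS V y hy'
  refine ⟨geM S.X₁ g w, ?_⟩
  rw [PmU_ge, hw]
  exact hzy.symm

omit [SmallCategory D] in
/-- finitely many local properties hold on a common cover. -/
theorem exists_cover_fin {U : C} : ∀ (n : ℕ) (Pr : Fin n → ∀ ⦃V : C⦄, (V ⟶ U) → Prop)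
    (_ : ∀ j, ∃ S ∈ J U, ∀ ⦃V : C⦄ (g : V ⟶ U), S g → Pr j g),
    ∃ S ∈ J U, ∀ ⦃V : C⦄ (g : V ⟶ U), S g → ∀ j, Pr j g
  | 0, _, _ => ⟨⊤, J.top_mem U, fun V g _ j => j.elim0⟩
  | n + 1, Pr, H => by
    obtain ⟨S₁, hS₁, H₁⟩ := exists_cover_fin n (fun j => Pr j.castSucc) (fun j => H j.castSucc)
    obtain ⟨S₂, hS₂, H₂⟩ := H (Fin.last n)
    refine ⟨S₁ ⊓ S₂, J.intersection_covering hS₁ hS₂, fun V g hg j => ?_⟩
    refine Fin.lastCases ?_ (fun j => ?_) j
    · exact H₂ g hg.2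
    · exact H₁ g hg.1 j

theorem PmU_locally_surjective_fin [Epi φ] {U : C} {n : ℕ} (w : Fin n → MU J K fn O G U) :
    ∃ S ∈ J U, ∀ ⦃U' : C⦄ (h : U' ⟶ U), S h →
      ∃ z : Fin n → MU J K fn O F U', ∀ j, PmU φ U' (z j) = rsM G h (w j) := by
  obtain ⟨S, hS, HS⟩ := exists_cover_fin (J := J) n
    (fun j U' h => ∃ z : MU J K fn O F U', PmU φ U' z = rsM G h (w j))
    (fun j => PmU_locally_surjective φ (w j))
  refine ⟨S, hS, fun U' h hh => ?_⟩
  choose z hz using HS h hh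
  exact ⟨z, hz⟩

theorem PmU_locally_exact_fin (S : ShortComplex (ModSite.Mod O)) (hS : S.ShortExact) {U : C}
    {n : ℕ} (z : Fin n → MU J K fn O S.X₂ U) (hz : ∀ j, PmU S.g U (z j) = 0) :
    ∃ T ∈ J U, ∀ ⦃U' : C⦄ (h : U' ⟶ U), T h →
      ∃ w : Fin n → MU J K fn O S.X₁ U', ∀ j, PmU S.f U' (w j) = rsM S.X₂ h (z j) := by
  obtain ⟨T, hT, HT⟩ := exists_cover_fin (J := J) n
    (fun j U' h => ∃ w : MU J K fn O S.X₁ U', PmU S.f U' w = rsM S.X₂ h (z j))
    (fun j => PmU_locally_exact S hS (z j) (hz j))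
  refine ⟨T, hT, fun U' h hh => ?_⟩
  choose w hw using HT h hh
  exact ⟨w, hw⟩

section nat

variable {O_C : Sheaf J CommRingCat.{u}} {O_D : Sheaf K CommRingCat.{u}}
  (f : ModSite.RMor O_C O_D) {F' G' : ModSite.Mod O_D} (φ' : F' ⟶ G')

theorem un_nat (V : D) (y : F'.val.obj (op V)) :
    phF (f.pull.map φ') (f.fn.obj V) (un f F' V y) = un f G' V (phF φ' V y) := by
  have h := f.adj.unit.naturality φ'
  have h1 := congrArg (fun t => (t.val.app (op V)).hom y) h
  exact h1.symm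

/-- **naturality of `λ : f⁻¹F ⟶ f^*F`**. -/
theorem lamU_nat {U : C} (z : MU J K f.fn O_D F' U) :
    phF (f.pull.map φ') U (lamU f F' U z) = lamU f G' U (PmU φ' U z) := by
  have h : lamS f F' ≫ FSmap (f.pull.map φ') = PmS φ' ≫ lamS f G' := by
    apply hom_ext_eta
    intro V y
    rw [ap_comp, ap_comp, lamS_eta, PmS_eta, lamS_eta]
    exact un_nat f φ' V y
  have h1 := congrArg (fun t => ap t z) h
  exact h1

end nat

end

end Groth.Agent.Lib.Helper21.InvF
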