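import Mathlib
import Groth.Prelude.Def_ModSite
import Groth.Prelude.Def_ModSite2
import Groth.Agent.Lib.Helper21InvF11
import Groth.Agent.Lib.Helper21InvF13
import Groth.Agent.Lib.Helper21EqCrit5
import Groth.Agent.Lib.Helper21FlatCalc

/-!
# Helper21 InvF14: a flat morphism of ringed sites has exact module inverse image

If `O_C` is flat over `f⁻¹O_D` (`ModSite.IsFlat f.baseMod`) then `f^*` preserves monomorphisms,
hence finite limits.
-/

set_option autoImplicit false
universe u
open CategoryTheory CategoryTheory.Limits Opposite TensorProduct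

namespace Groth.Agent.Lib.Helper21.InvF

open Groth.Agent.Lib.Helper21.EqCrit

/-- the algebra behind "flat ⊗ (mono) is mono". -/
theorem sum_smul_lam_eq_zero_A {R S Z W L : Type*} [CommRing R] [CommRing S] [AddCommGroup Z]
    [Module R Z] [AddCommGroup W] [Module R W] [AddCommGroup L] [Module S L]
    (ι : R →+* S) (Φ : Z →ₗ[R] W) (hΦ : Function.Injective Φ) (lam : Z →+ L)
    (hlam : ∀ (r : R) (z : Z), lam (r • z) = ι r • lam z)
    {n m q : ℕ} (zz : Fin n → Z) (cc : Fin n → S) (b : Fin n → Fin m → R) (t : Fin m → S)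
    (a : Fin n → Fin q → R) (y : Fin q → W)
    (h1 : ∀ i, cc i = ∑ k, ι (b i k) * t k)
    (h2 : ∀ r k, ∑ i, b i k * a i r = 0)
    (h3 : ∀ i, Φ (zz i) = ∑ r, a i r • y r) :
    ∑ i, cc i • lam (zz i) = 0 := by
  have key : ∀ k, ∑ i, b i k • zz i = 0 := by
    intro k
    apply hΦ
    rw [map_sum, map_zero]
    have e : ∀ i, Φ (b i k • zz i) = ∑ r, (b i k * a i r) • y r := by
      intro i
      rw [map_smul, h3, Finset.smul_sum]
      refine Finset.sum_congr rfl fun r _ => ?_
      rw [smul_smul]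
    rw [Finset.sum_congr rfl (fun i _ => e i), Finset.sum_comm]
    refine Finset.sum_eq_zero fun r _ => ?_
    rw [← Finset.sum_smul, h2, zero_smul]
  have e1 : ∀ i, cc i • lam (zz i) = ∑ k, t k • lam (b i k • zz i) := by
    intro i
    rw [h1, Finset.sum_smul]
    refine Finset.sum_congr rfl fun k _ => ?_
    rw [hlam, smul_smul, mul_comm]
  rw [Finset.sum_congr rfl (fun i _ => e1 i), Finset.sum_comm]
  refine Finset.sum_eq_zero fun k _ => ?_
  rw [← Finset.smul_sum, ← map_sum, key, map_zero, smul_zero]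

noncomputable section

variable {C D : Type u} [SmallCategory C] [SmallCategory D] {J : GrothendieckTopology C}
  {K : GrothendieckTopology D} {O_C : Sheaf J CommRingCat.{u}} {O_D : Sheaf K CommRingCat.{u}}
  (f : ModSite.RMor O_C O_D)

/-- `α : f.invRing ⟶ RSh` on sections. -/
def alU (U : C) : f.invRing.obj.obj (op U) →+* RU J K f.fn O_D U :=
  ((alpha (J := J) f.fn O_D).hom.app (op U)).hom

/-- `β : RSh ⟶ f.invRing` on sections. -/
def beU (U : C) : RU J K f.fn O_D U →+* f.invRing.obj.obj (op U) :=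
  ((beta (J := J) f.fn O_D).hom.app (op U)).hom

theorem alU_beU (U : C) (a : RU J K f.fn O_D U) : alU f U (beU f U a) = a := by
  have h := congrArg (fun t => (t.hom.app (op U)).hom a) (beta_alpha (J := J) f.fn O_D)
  exact h

theorem beU_res {U U' : C} (h : U' ⟶ U) (a : RU J K f.fn O_D U) :
    (f.invRing.obj.map h.op).hom (beU f U a) = beU f U' (rsR h a) :=
  (ConcreteCategory.congr_hom ((beta (J := J) f.fn O_D).hom.naturality h.op) a).symm

theorem iotaU_alU (U : C) (b : f.invRing.obj.obj (op U)) :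
    iotaU f U (alU f U b) = (f.invSharp.hom.app (op U)).hom b := (invSharp_apply f U b).symm

theorem invSharp_beU (U : C) (a : RU J K f.fn O_D U) :
    (f.invSharp.hom.app (op U)).hom (beU f U a) = iotaU f U a := (iotaU_eq_invSharp f U a).symm

/-- **the equational criterion for `O_C` over `f⁻¹O_D`**, from flatness of `f.baseMod`. -/
theorem critO (hf : ModSite.IsFlat f.baseMod) {U : C} {q n : ℕ}
    (a : Fin q → Fin n → RU J K f.fn O_D U) (c : Fin n → O_C.obj.obj (op U))
    (hrel : ∀ r, ∑ i, iotaU f U (a r i) * c i = 0) :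
    ∃ S ∈ J U, ∀ ⦃U' : C⦄ (h : U' ⟶ U), S h →
      ∃ (l : ℕ) (t : Fin l → O_C.obj.obj (op U')) (b : Fin n → Fin l → RU J K f.fn O_D U'),
        (∀ i, resO O_C h (c i) = ∑ k, iotaU f U' (b i k) * t k) ∧
        (∀ r k, ∑ i, b i k * rsR h (a r i) = 0) := by
  have hrel' : ∀ r, ∑ i, (show (ModSite.ringSh f.invRing).obj.obj (op U) from beU f U (a r i)) •
      (show f.baseMod.val.obj (op U) from c i) = 0 := by
    intro r
    have h := hrel r
    have e : ∀ i, (show (ModSite.ringSh f.invRing).obj.obj (op U) from beU f U (a r i)) •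
        (show f.baseMod.val.obj (op U) from c i) =
        (show f.baseMod.val.obj (op U) from iotaU f U (a r i) * c i) := by
      intro i
      have := invSharp_beU f U (a r i)
      change ((f.invSharp.hom.app (op U)).hom (beU f U (a r i)) * c i : O_C.obj.obj (op U)) = _
      rw [this]
    rw [Finset.sum_congr rfl (fun i _ => e i)]
    exact h
  obtain ⟨S, hS, HS⟩ := eq_crit f.invRing f.baseMod hf U
    (fun r i => (show (ModSite.ringSh f.invRing).obj.obj (op U) from beU f U (a r i)))
    (fun i => (show f.baseMod.val.obj (op U) from c i)) hrel'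
  refine ⟨S, hS, fun U' h hh => ?_⟩
  obtain ⟨l, t, a', h1, h2⟩ := HS h hh
  refine ⟨l, fun k => (show O_C.obj.obj (op U') from t k),
    fun i k => alU f U' (show f.invRing.obj.obj (op U') from a' i k), ?_, ?_⟩
  · intro i
    have h3 := h1 i
    have e : ∀ k, (a' i k • t k : f.baseMod.val.obj (op U')) =
        (show f.baseMod.val.obj (op U') from
          (iotaU f U' (alU f U' (show f.invRing.obj.obj (op U') from a' i k)) *
            (show O_C.obj.obj (op U') from t k) : O_C.obj.obj (op U'))) := by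
      intro k
      rw [iotaU_alU]
      rfl
    rw [Finset.sum_congr rfl (fun k _ => e k)] at h3
    exact h3
  · intro r k
    have h3 : (∑ i, (show f.invRing.obj.obj (op U') from a' i k) *
        (f.invRing.obj.map h.op).hom (beU f U (a r i)) : f.invRing.obj.obj (op U')) = 0 := h2 r k
    have h4 := congrArg (alU f U') h3
    rw [map_zero, map_sum] at h4
    rw [← h4]
    refine Finset.sum_congr rfl fun i _ => ?_
    rw [map_mul, beU_res, alU_beU]

attribute [local instance] algRU

theorem append_map {α β : Type*} (g : α → β) {l p : ℕ} (x : Fin l → α) (x' : Fin p → α)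
    (i : Fin (l + p)) : g (Fin.append x x' i) = Fin.append (fun k => g (x k)) (fun k => g (x' k)) i := by
  refine Fin.addCases (fun k => ?_) (fun k => ?_) i <;> simp

/-- **a flat morphism of ringed sites has an inverse image preserving monomorphisms**
(sectionwise injectivity). -/
theorem pull_map_injective (hf : ModSite.IsFlat f.baseMod) {F G : ModSite.Mod O_D} (φ : F ⟶ G)
    [Mono φ] (U : C) (x : (f.pull.obj F).val.obj (op U)) (hx : phF (f.pull.map φ) U x = 0) :
    x = 0 := by
  obtain ⟨S₁, hS₁, H₁⟩ := exists_sum_lam f F x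
  apply eq_zero_of_locally O_C (f.pull.obj F) x S₁ hS₁
  intro U₁ h₁ hh₁
  obtain ⟨l, c, z, hxz⟩ := H₁ h₁ hh₁
  -- the image relation
  have h0 : ∑ k, c k • lamU f G U₁ (PmU φ U₁ (z k)) = 0 := by
    have e := congrArg (phF (f.pull.map φ) U₁) hxz
    rw [← phF_res, hx, res_zero] at e
    rw [e]
    change _ = ((f.pull.map φ).val.app (op U₁)).hom _
    rw [map_sum]
    refine Finset.sum_congr rfl fun k _ => ?_
    rw [map_smul]
    congr 1
    exact (lamU_nat f φ (z k)).symm
  obtain ⟨S₂, hS₂, H₂⟩ := tmul_eq_zero_of_lam f G c (fun k => PmU φ U₁ (z k)) h0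
  apply eq_zero_of_locally O_C (f.pull.obj F) _ S₂ hS₂
  intro U₂ h₂ hh₂
  have h2 := H₂ h₂ hh₂
  -- flip the tensor
  have h2' : ∑ k, (rsM G h₂ (PmU φ U₁ (z k))) ⊗ₜ[RU J K f.fn O_D U₂] (resO O_C h₂ (c k)) = 0 := by
    have e := congrArg (TensorProduct.comm (RU J K f.fn O_D U₂) (O_C.obj.obj (op U₂))
      (MU J K f.fn O_D G U₂)) h2
    rw [map_zero, map_sum] at e
    exact e
  obtain ⟨p, q, c'', y, a, A1, A2⟩ := exists_trivial_of_sum_tmul_eq_zero
    (fun k => rsM G h₂ (PmU φ U₁ (z k))) (fun k => resO O_C h₂ (c k)) h2'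
  -- apply the criterion for `O_C`
  have hrel : ∀ r, ∑ i, iotaU f U₂ (a i r) *
      Fin.append (fun k => resO O_C h₂ (c k)) c'' i = 0 := by
    intro r
    have e := A2 r
    simp only [algRU_smul] at e
    exact e
  obtain ⟨S₃, hS₃, H₃⟩ := critO f hf (fun r i => a i r)
    (Fin.append (fun k => resO O_C h₂ (c k)) c'') hrel
  apply eq_zero_of_locally O_C (f.pull.obj F) _ S₃ hS₃
  intro U₃ h₃ hh₃
  obtain ⟨m, t, b, B1, B2⟩ := H₃ h₃ hh₃
  -- the data at level `U₃`
  let zz : Fin (l + p) → MU J K f.fn O_D F U₃ :=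
    fun i => rsM F h₃ (Fin.append (fun k => rsM F h₂ (z k)) (fun _ : Fin p => 0) i)
  let cc : Fin (l + p) → O_C.obj.obj (op U₃) :=
    fun i => resO O_C h₃ (Fin.append (fun k => resO O_C h₂ (c k)) c'' i)
  have key := sum_smul_lam_eq_zero_A (iotaU f U₃) (PmU φ U₃) (PmU_injective φ U₃)
    (lamU f F U₃) (fun r z => lamU_smul f F r z) zz cc b t
    (fun i r => rsR h₃ (a i r)) (fun r => rsM G h₃ (y r)) B1 B2 (by
      intro i
      change PmU φ U₃ (rsM F h₃ _) = _
      rw [← PmU_res, append_map (PmU φ U₂)]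
      have e1 : (fun k => PmU φ U₂ (rsM F h₂ (z k))) = fun k => rsM G h₂ (PmU φ U₁ (z k)) := by
        funext k
        rw [PmU_res]
      have e2 : (fun _ : Fin p => PmU φ U₂ (0 : MU J K f.fn O_D F U₂)) = fun _ => 0 := by
        funext k
        rw [map_zero]
      rw [e1, e2, A1 i, map_sum]
      refine Finset.sum_congr rfl fun r _ => ?_
      rw [rsM_smul])
  -- conclude
  rw [hxz, res_sum, res_sum]
  have e3 : ∑ k, res O_C (f.pull.obj F) h₃ (res O_C (f.pull.obj F) h₂ (c k • lamU f F U₁ (z k))) =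
      ∑ i, cc i • lamU f F U₃ (zz i) := by
    rw [Fin.sum_univ_add]
    have e4 : ∑ k : Fin p, cc (Fin.natAdd l k) • lamU f F U₃ (zz (Fin.natAdd l k)) = 0 := by
      refine Finset.sum_eq_zero fun k _ => ?_
      simp only [zz, Fin.append_right, map_zero, smul_zero]
    rw [e4, add_zero]
    refine Finset.sum_congr rfl fun k _ => ?_
    simp only [zz, cc, Fin.append_left]
    rw [res_smul, res_smul, lamU_res, lamU_res]
  rw [e3]
  exact key

theorem pull_map_mono (hf : ModSite.IsFlat f.baseMod) {F G : ModSite.Mod O_D} (φ : F ⟶ G)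
    [Mono φ] : Mono (f.pull.map φ) := by
  apply mono_of_injective_app O_C
  intro V
  rw [injective_iff_map_eq_zero]
  intro x hx
  exact pull_map_injective f hf φ V.unop x hx

/-- **flat morphisms of ringed sites have exact inverse image**. -/
theorem isFlat_of_isFlat_baseMod (hf : ModSite.IsFlat f.baseMod) : f.IsFlat := by
  unfold ModSite.RMor.IsFlat
  haveI : PreservesColimitsOfSize.{u, u} f.pull := f.adj.leftAdjoint_preservesColimits
  haveI : f.pull.Additive := f.adj.left_adjoint_additive
  exact Groth.Agent.Lib.Helper21.FlatCalc.preservesFiniteLimits_of_mono f.pull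
    (fun {X Y} φ hφ => @pull_map_mono _ _ _ _ _ _ _ _ f hf X Y φ hφ)

end

end Groth.Agent.Lib.Helper21.InvF
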