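import Mathlib
import Groth.Prelude.Def_ModSite
import Groth.Agent.Lib.Helper21InvF13
import Groth.Agent.Lib.Helper21InvF14
import Groth.Agent.Lib.Helper21FlatCalc

/-!
# Helper21 InvF15: the inverse image of a short exact sequence with flat cokernel is short exact
-/

set_option autoImplicit false
universe u
open CategoryTheory CategoryTheory.Limits Opposite TensorProduct

namespace Groth.Agent.Lib.Helper21.InvF

open Groth.Agent.Lib.Helper21.EqCrit

/-- lifting relations along an injection with "flat cokernel": the algebra. -/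
theorem rel_lift_alg {R Z W : Type*} [CommRing R] [AddCommGroup Z] [Module R Z] [AddCommGroup W]
    [Module R W] (Φ : Z →ₗ[R] W) (hΦ : Function.Injective Φ)
    {l p q m : ℕ} (z : Fin l → Z) (a : Fin (l + p) → Fin q → R)
    (t' : Fin p → W) (b : Fin p → Fin m → R) (g' : Fin m → W) (w : Fin p → Z)
    (h2 : ∀ r, ∑ i, a i r • Fin.append (fun k => Φ (z k)) t' i = 0)
    (h3 : ∀ r k, ∑ j, b j k * a (Fin.natAdd l j) r = 0)
    (h4 : ∀ j, Φ (w j) = t' j - ∑ k, b j k • g' k) (r : Fin q) :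
    ∑ i, a i r • Fin.append z w i = 0 := by
  apply hΦ
  rw [map_sum, map_zero]
  have e0 := h2 r
  rw [Fin.sum_univ_add] at e0 ⊢
  simp only [Fin.append_left, Fin.append_right, map_smul] at e0 ⊢
  have e1 : ∑ j : Fin p, a (Fin.natAdd l j) r • Φ (w j) =
      ∑ j : Fin p, a (Fin.natAdd l j) r • t' j -
        ∑ k, (∑ j, b j k * a (Fin.natAdd l j) r) • g' k := by
    have e2 : ∀ j : Fin p, a (Fin.natAdd l j) r • Φ (w j) =
        a (Fin.natAdd l j) r • t' j - ∑ k, (b j k * a (Fin.natAdd l j) r) • g' k := by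
      intro j
      rw [h4, smul_sub, Finset.smul_sum]
      congr 1
      refine Finset.sum_congr rfl fun k _ => ?_
      rw [smul_smul, mul_comm]
    rw [Finset.sum_congr rfl (fun j _ => e2 j), Finset.sum_sub_distrib, Finset.sum_comm]
    congr 1
    refine Finset.sum_congr rfl fun k _ => ?_
    rw [Finset.sum_smul]
  rw [e1]
  have e3 : ∑ k, (∑ j, b j k * a (Fin.natAdd l j) r) • g' k = 0 :=
    Finset.sum_eq_zero fun k _ => by rw [h3, zero_smul]
  rw [e3, sub_zero]
  exact e0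

/-- a trivial relation kills `Σ c_i • λ(z_i)`. -/
theorem sum_smul_lam_eq_zero_B {R S Z L : Type*} [CommRing R] [CommRing S] [AddCommGroup Z]
    [Module R Z] [AddCommGroup L] [Module S L] (ι : R →+* S) (lam : Z →+ L)
    (hlam : ∀ (r : R) (z : Z), lam (r • z) = ι r • lam z)
    {n q : ℕ} (zw : Fin n → Z) (cc : Fin n → S) (yy : Fin q → S) (a : Fin n → Fin q → R)
    (h1 : ∀ i, cc i = ∑ r, ι (a i r) * yy r)
    (h2 : ∀ r, ∑ i, a i r • zw i = 0) :
    ∑ i, cc i • lam (zw i) = 0 := by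
  have e1 : ∀ i, cc i • lam (zw i) = ∑ r, yy r • lam (a i r • zw i) := by
    intro i
    rw [h1, Finset.sum_smul]
    refine Finset.sum_congr rfl fun r _ => ?_
    rw [hlam, smul_smul, mul_comm]
  rw [Finset.sum_congr rfl (fun i _ => e1 i), Finset.sum_comm]
  refine Finset.sum_eq_zero fun r _ => ?_
  rw [← Finset.smul_sum, ← map_sum, h2, map_zero, smul_zero]

noncomputable section

variable {C D : Type u} [SmallCategory C] [SmallCategory D] {J : GrothendieckTopology C}
  {K : GrothendieckTopology D}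

section relLift

variable {fn : D ⥤ C} [fn.IsContinuous K J] {O : Sheaf K CommRingCat.{u}}
  [PreservesFiniteLimits (P J K fn)]

/-- **lifting relations**: for a short exact sequence `0 → X₁ → X₂ → X₃ → 0` of `O`-modules with
`X₃` flat, relations over `f⁻¹O` among `f⁻¹(S.f)(z_k)` and further sections `t'_j` of `f⁻¹X₂` come,
locally, from relations among the `z_k` and sections `w_j` of `f⁻¹X₁`. -/
theorem rel_lift (S : ShortComplex (ModSite.Mod O)) (hS : S.ShortExact) (hH : ModSite.IsFlat S.X₃)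
    {U : C} {l p q : ℕ} (z : Fin l → MU J K fn O S.X₁ U) (t' : Fin p → MU J K fn O S.X₂ U)
    (a : Fin (l + p) → Fin q → RU J K fn O U)
    (hrel : ∀ r, ∑ i, a i r • Fin.append (fun k => PmU S.f U (z k)) t' i = 0) :
    ∃ T ∈ J U, ∀ ⦃U' : C⦄ (h : U' ⟶ U), T h →
      ∃ w : Fin p → MU J K fn O S.X₁ U',
        ∀ r, ∑ i, rsR h (a i r) • Fin.append (fun k => rsM S.X₁ h (z k)) w i = 0 := by
  haveI := hS.epi_g
  haveI := hS.mono_f
  -- relations among the images in `X₃`
  have hgf : ∀ (V : C) (x : MU J K fn O S.X₁ V), PmU S.g V (PmU S.f V x) = 0 := by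
    intro V x
    rw [← PmU_comp, S.zero, PmU_zero_map]
  have hrel3 : ∀ r, ∑ j, a (Fin.natAdd l j) r • PmU S.g U (t' j) = 0 := by
    intro r
    have e := congrArg (PmU S.g U) (hrel r)
    rw [map_zero, map_sum, Fin.sum_univ_add] at e
    simp only [Fin.append_left, Fin.append_right, map_smul, hgf, smul_zero,
      Finset.sum_const_zero, zero_add] at e
    exact e
  obtain ⟨S₃, hS₃, H₃⟩ := crit_MU (J := J) (fn := fn) S.X₃ hH
    (fun r j => a (Fin.natAdd l j) r) (fun j => PmU S.g U (t' j)) hrel3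
  refine exists_cover_of_bind (J := J) (fun U' h => ∃ w : Fin p → MU J K fn O S.X₁ U',
    ∀ r, ∑ i, rsR h (a i r) • Fin.append (fun k => rsM S.X₁ h (z k)) w i = 0) S₃ hS₃ ?_
  intro U₃ h₃ hh₃
  obtain ⟨m, v, Dm, D1, D2⟩ := H₃ h₃ hh₃
  obtain ⟨S₄, hS₄, H₄⟩ := PmU_locally_surjective_fin (J := J) (fn := fn) S.g v
  refine exists_cover_of_bind (J := J) (fun U' h => ∃ w : Fin p → MU J K fn O S.X₁ U',
    ∀ r, ∑ i, rsR (h ≫ h₃) (a i r) •
      Fin.append (fun k => rsM S.X₁ (h ≫ h₃) (z k)) w i = 0) S₄ hS₄ ?_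
  intro U₄ h₄ hh₄
  obtain ⟨g', hg'⟩ := H₄ h₄ hh₄
  -- the differences lie in the kernel
  let u : Fin p → MU J K fn O S.X₂ U₄ :=
    fun j => rsM S.X₂ (h₄ ≫ h₃) (t' j) - ∑ k, rsR h₄ (Dm j k) • g' k
  have hu : ∀ j, PmU S.g U₄ (u j) = 0 := by
    intro j
    simp only [u]
    rw [map_sub, map_sum, ← PmU_res, rsM_comp, D1 j, map_sum, sub_eq_zero]
    refine Finset.sum_congr rfl fun k _ => ?_
    rw [rsM_smul, map_smul, hg']
  obtain ⟨S₅, hS₅, H₅⟩ := PmU_locally_exact_fin (J := J) (fn := fn) S hS u hu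
  refine ⟨S₅, hS₅, fun U₅ h₅ hh₅ => ?_⟩
  obtain ⟨w, hw⟩ := H₅ h₅ hh₅
  refine ⟨w, fun r => ?_⟩
  simp only [Category.assoc]
  refine rel_lift_alg (PmU S.f U₅) (PmU_injective S.f U₅)
    (fun k => rsM S.X₁ (h₅ ≫ h₄ ≫ h₃) (z k)) (fun i r => rsR (h₅ ≫ h₄ ≫ h₃) (a i r))
    (fun j => rsM S.X₂ (h₅ ≫ h₄ ≫ h₃) (t' j)) (fun j k => rsR (h₅ ≫ h₄) (Dm j k))
    (fun k => rsM S.X₂ h₅ (g' k)) w ?_ ?_ ?_ r
  · intro r
    have e := congrArg (rsM S.X₂ (h₅ ≫ h₄ ≫ h₃)) (hrel r)
    rw [map_zero, map_sum] at e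
    rw [← e]
    refine Finset.sum_congr rfl fun i _ => ?_
    rw [rsM_smul, append_map (rsM S.X₂ (h₅ ≫ h₄ ≫ h₃))]
    congr 2
    funext k
    rw [PmU_res]
  · intro r k
    have e := congrArg (rsR (J := J) (h₅ ≫ h₄)) (D2 r k)
    rw [map_zero, map_sum] at e
    rw [← e]
    refine Finset.sum_congr rfl fun j _ => ?_
    rw [map_mul, ← rsR_comp, Category.assoc]
  · intro j
    rw [hw j]
    simp only [u]
    rw [map_sub, map_sum, ← rsM_comp]
    congr 1
    refine Finset.sum_congr rfl fun k _ => ?_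
    rw [rsM_smul, ← rsR_comp]

end relLift

section main

variable {O_C : Sheaf J CommRingCat.{u}} {O_D : Sheaf K CommRingCat.{u}}
  (f : ModSite.RMor O_C O_D)

attribute [local instance] algRU

/-- **inverse image of a mono with flat cokernel is injective on sections**. -/
theorem pull_map_injective_of_flat (S : ShortComplex (ModSite.Mod O_D)) (hS : S.ShortExact)
    (hH : ModSite.IsFlat S.X₃) (U : C) (x : (f.pull.obj S.X₁).val.obj (op U))
    (hx : phF (f.pull.map S.f) U x = 0) : x = 0 := by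
  haveI := hS.mono_f
  obtain ⟨S₁, hS₁, H₁⟩ := exists_sum_lam f S.X₁ x
  apply eq_zero_of_locally O_C (f.pull.obj S.X₁) x S₁ hS₁
  intro U₁ h₁ hh₁
  obtain ⟨l, c, z, hxz⟩ := H₁ h₁ hh₁
  have h0 : ∑ k, c k • lamU f S.X₂ U₁ (PmU S.f U₁ (z k)) = 0 := by
    have e := congrArg (phF (f.pull.map S.f) U₁) hxz
    rw [← phF_res, hx, res_zero] at e
    rw [e]
    change _ = ((f.pull.map S.f).val.app (op U₁)).hom _
    rw [map_sum]
    refine Finset.sum_congr rfl fun k _ => ?_
    rw [map_smul]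
    congr 1
    exact (lamU_nat f S.f (z k)).symm
  obtain ⟨S₂, hS₂, H₂⟩ := tmul_eq_zero_of_lam f S.X₂ c (fun k => PmU S.f U₁ (z k)) h0
  apply eq_zero_of_locally O_C (f.pull.obj S.X₁) _ S₂ hS₂
  intro U₂ h₂ hh₂
  have h2 := H₂ h₂ hh₂
  obtain ⟨p, q, t', yy, a, A1, A2⟩ := exists_trivial_of_sum_tmul_eq_zero
    (fun k => resO O_C h₂ (c k)) (fun k => rsM S.X₂ h₂ (PmU S.f U₁ (z k))) h2
  have hrel : ∀ r, ∑ i, a i r •
      Fin.append (fun k => PmU S.f U₂ (rsM S.X₁ h₂ (z k))) t' i = 0 := by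
    intro r
    have e := A2 r
    have e1 : (fun k => PmU S.f U₂ (rsM S.X₁ h₂ (z k))) =
        fun k => rsM S.X₂ h₂ (PmU S.f U₁ (z k)) := by
      funext k
      rw [PmU_res]
    rw [e1]
    exact e
  obtain ⟨S₃, hS₃, H₃⟩ := rel_lift (J := J) (fn := f.fn) S hS hH
    (fun k => rsM S.X₁ h₂ (z k)) t' a hrel
  apply eq_zero_of_locally O_C (f.pull.obj S.X₁) _ S₃ hS₃
  intro U₃ h₃ hh₃
  obtain ⟨w, hw⟩ := H₃ h₃ hh₃
  have key := sum_smul_lam_eq_zero_B (iotaU f U₃) (lamU f S.X₁ U₃)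
    (fun r z => lamU_smul f S.X₁ r z)
    (Fin.append (fun k => rsM S.X₁ h₃ (rsM S.X₁ h₂ (z k))) w)
    (fun i => resO O_C h₃ (Fin.append (fun k => resO O_C h₂ (c k)) (fun _ : Fin p => 0) i))
    (fun r => resO O_C h₃ (yy r)) (fun i r => rsR h₃ (a i r)) (by
      intro i
      rw [A1 i, resO_sum]
      refine Finset.sum_congr rfl fun r _ => ?_
      rw [algRU_smul, resO_mul, iotaU_res]) hw
  rw [hxz, res_sum, res_sum]
  have e3 : ∑ k, res O_C (f.pull.obj S.X₁) h₃
        (res O_C (f.pull.obj S.X₁) h₂ (c k • lamU f S.X₁ U₁ (z k))) =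
      ∑ i, resO O_C h₃ (Fin.append (fun k => resO O_C h₂ (c k)) (fun _ : Fin p => 0) i) •
        lamU f S.X₁ U₃ (Fin.append (fun k => rsM S.X₁ h₃ (rsM S.X₁ h₂ (z k))) w i) := by
    rw [Fin.sum_univ_add]
    have e4 : ∑ k : Fin p,
        resO O_C h₃ (Fin.append (fun k => resO O_C h₂ (c k)) (fun _ : Fin p => 0)
          (Fin.natAdd l k)) •
        lamU f S.X₁ U₃ (Fin.append (fun k => rsM S.X₁ h₃ (rsM S.X₁ h₂ (z k))) w
          (Fin.natAdd l k)) = 0 := by
      refine Finset.sum_eq_zero fun k _ => ?_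
      simp only [Fin.append_right]
      rw [resO_zero, zero_smul]
    rw [e4, add_zero]
    refine Finset.sum_congr rfl fun k _ => ?_
    simp only [Fin.append_left]
    rw [res_smul, res_smul, lamU_res, lamU_res]
  rw [e3]
  exact key

theorem pull_map_mono_of_flat (S : ShortComplex (ModSite.Mod O_D)) (hS : S.ShortExact)
    (hH : ModSite.IsFlat S.X₃) : Mono (f.pull.map S.f) := by
  apply mono_of_injective_app O_C
  intro V
  rw [injective_iff_map_eq_zero]
  intro x hx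
  exact pull_map_injective_of_flat f S hS hH V.unop x hx

/-- **the inverse image of a short exact sequence with flat cokernel is short exact**. -/
theorem pull_shortExact_of_flat (S : ShortComplex (ModSite.Mod O_D)) (hS : S.ShortExact)
    (hH : ModSite.IsFlat S.X₃) : (S.map f.pull).ShortExact := by
  haveI : PreservesColimitsOfSize.{u, u} f.pull := f.adj.leftAdjoint_preservesColimits
  haveI : f.pull.Additive := f.adj.left_adjoint_additive
  exact Groth.Agent.Lib.Helper21.FlatCalc.shortExact_map_of_mono f.pull S hS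
    (pull_map_mono_of_flat f S hS hH)

end main

end

end Groth.Agent.Lib.Helper21.InvF
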