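import Mathlib
import Groth.Prelude.Def_ModSite
import Groth.Prelude.Def_ModSite2
import Groth.Agent.Lib.Helper21InvF14

/-!
# Helper21 InvF16: exactness of `f^*` from the equational criterion for `O_C` over `f⁻¹O_D`

Same as `isFlat_of_isFlat_baseMod`, with the criterion `CritO f` as hypothesis.
-/

set_option autoImplicit false
universe u
open CategoryTheory CategoryTheory.Limits Opposite TensorProduct

namespace Groth.Agent.Lib.Helper21.InvF

open Groth.Agent.Lib.Helper21.EqCrit

noncomputable section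

variable {C D : Type u} [SmallCategory C] [SmallCategory D] {J : GrothendieckTopology C}
  {K : GrothendieckTopology D} {O_C : Sheaf J CommRingCat.{u}} {O_D : Sheaf K CommRingCat.{u}}
  (f : ModSite.RMor O_C O_D)

/-- the equational criterion for `O_C` over `f⁻¹O_D`. -/
def CritO : Prop :=
  ∀ {U : C} {q n : ℕ} (a : Fin q → Fin n → RU J K f.fn O_D U) (c : Fin n → O_C.obj.obj (op U)),
    (∀ r, ∑ i, iotaU f U (a r i) * c i = 0) →
    ∃ S ∈ J U, ∀ ⦃U' : C⦄ (h : U' ⟶ U), S h →
      ∃ (l : ℕ) (t : Fin l → O_C.obj.obj (op U')) (b : Fin n → Fin l → RU J K f.fn O_D U'),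
        (∀ i, resO O_C h (c i) = ∑ k, iotaU f U' (b i k) * t k) ∧
        (∀ r k, ∑ i, b i k * rsR h (a r i) = 0)

theorem critO_of_isFlat (hf : ModSite.IsFlat f.baseMod) : CritO f :=
  fun a c hrel => critO f hf a c hrel

attribute [local instance] algRU

/-- **a flat morphism of ringed sites has an inverse image preserving monomorphisms**
(sectionwise injectivity). -/
theorem pull_map_injective' (HC : CritO f) {F G : ModSite.Mod O_D} (φ : F ⟶ G)
    [Mono φ] (U : C) (x : (f.pull.obj F).val.obj (op U)) (hx : phF (f.pull.map φ) U x = 0) :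
    x = 0 := by
  obtain ⟨S₁, hS₁, H₁⟩ := exists_sum_lam f F x
  apply eq_zero_of_locally O_C (f.pull.obj F) x S₁ hS₁
  intro U₁ h₁ hh₁
  obtain ⟨l, c, z, hxz⟩ := H₁ h₁ hh₁
  -- the image relation
  have h0 : ∑ k, c k • lamU f G U₁ (PmU φ U₁ (z k)) = 0 := by
    have e := congrArg (phF (f.pull.map φ) U₁) hxz
    rw [← phF_res, hx, res_zero] at e
    rw [e]
    change _ = ((f.pull.map φ).val.app (op U₁)).hom _
    rw [map_sum]
    refine Finset.sum_congr rfl fun k _ => ?_
    rw [map_smul]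
    congr 1
    exact (lamU_nat f φ (z k)).symm
  obtain ⟨S₂, hS₂, H₂⟩ := tmul_eq_zero_of_lam f G c (fun k => PmU φ U₁ (z k)) h0
  apply eq_zero_of_locally O_C (f.pull.obj F) _ S₂ hS₂
  intro U₂ h₂ hh₂
  have h2 := H₂ h₂ hh₂
  -- flip the tensor
  have h2' : ∑ k, (rsM G h₂ (PmU φ U₁ (z k))) ⊗ₜ[RU J K f.fn O_D U₂] (resO O_C h₂ (c k)) = 0 := by
    have e := congrArg (TensorProduct.comm (RU J K f.fn O_D U₂) (O_C.obj.obj (op U₂))
      (MU J K f.fn O_D G U₂)) h2
    rw [map_zero, map_sum] at e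
    exact e
  obtain ⟨p, q, c'', y, a, A1, A2⟩ := exists_trivial_of_sum_tmul_eq_zero
    (fun k => rsM G h₂ (PmU φ U₁ (z k))) (fun k => resO O_C h₂ (c k)) h2'
  -- apply the criterion for `O_C`
  have hrel : ∀ r, ∑ i, iotaU f U₂ (a i r) *
      Fin.append (fun k => resO O_C h₂ (c k)) c'' i = 0 := by
    intro r
    have e := A2 r
    simp only [algRU_smul] at e
    exact e
  obtain ⟨S₃, hS₃, H₃⟩ := HC (fun r i => a i r)
    (Fin.append (fun k => resO O_C h₂ (c k)) c'') hrel
  apply eq_zero_of_locally O_C (f.pull.obj F) _ S₃ hS₃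
  intro U₃ h₃ hh₃
  obtain ⟨m, t, b, B1, B2⟩ := H₃ h₃ hh₃
  -- the data at level `U₃`
  let zz : Fin (l + p) → MU J K f.fn O_D F U₃ :=
    fun i => rsM F h₃ (Fin.append (fun k => rsM F h₂ (z k)) (fun _ : Fin p => 0) i)
  let cc : Fin (l + p) → O_C.obj.obj (op U₃) :=
    fun i => resO O_C h₃ (Fin.append (fun k => resO O_C h₂ (c k)) c'' i)
  have key := sum_smul_lam_eq_zero_A (iotaU f U₃) (PmU φ U₃) (PmU_injective φ U₃)
    (lamU f F U₃) (fun r z => lamU_smul f F r z) zz cc b t
    (fun i r => rsR h₃ (a i r)) (fun r => rsM G h₃ (y r)) B1 B2 (by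
      intro i
      change PmU φ U₃ (rsM F h₃ _) = _
      rw [← PmU_res, append_map (PmU φ U₂)]
      have e1 : (fun k => PmU φ U₂ (rsM F h₂ (z k))) = fun k => rsM G h₂ (PmU φ U₁ (z k)) := by
        funext k
        rw [PmU_res]
      have e2 : (fun _ : Fin p => PmU φ U₂ (0 : MU J K f.fn O_D F U₂)) = fun _ => 0 := by
        funext k
        rw [map_zero]
      rw [e1, e2, A1 i, map_sum]
      refine Finset.sum_congr rfl fun r _ => ?_
      rw [rsM_smul])
  -- conclude
  rw [hxz, res_sum, res_sum]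
  have e3 : ∑ k, res O_C (f.pull.obj F) h₃ (res O_C (f.pull.obj F) h₂ (c k • lamU f F U₁ (z k))) =
      ∑ i, cc i • lamU f F U₃ (zz i) := by
    rw [Fin.sum_univ_add]
    have e4 : ∑ k : Fin p, cc (Fin.natAdd l k) • lamU f F U₃ (zz (Fin.natAdd l k)) = 0 := by
      refine Finset.sum_eq_zero fun k _ => ?_
      simp only [zz, Fin.append_right, map_zero, smul_zero]
    rw [e4, add_zero]
    refine Finset.sum_congr rfl fun k _ => ?_
    simp only [zz, cc, Fin.append_left]
    rw [res_smul, res_smul, lamU_res, lamU_res]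
  rw [e3]
  exact key

theorem pull_map_mono' (HC : CritO f) {F G : ModSite.Mod O_D} (φ : F ⟶ G)
    [Mono φ] : Mono (f.pull.map φ) := by
  apply mono_of_injective_app O_C
  intro V
  rw [injective_iff_map_eq_zero]
  intro x hx
  exact pull_map_injective' f HC φ V.unop x hx

/-- **flat morphisms of ringed sites have exact inverse image**. -/
theorem isFlat_of_critO (HC : CritO f) : f.IsFlat := by
  unfold ModSite.RMor.IsFlat
  haveI : PreservesColimitsOfSize.{u, u} f.pull := f.adj.leftAdjoint_preservesColimits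
  haveI : f.pull.Additive := f.adj.left_adjoint_additive
  exact Groth.Agent.Lib.Helper21.FlatCalc.preservesFiniteLimits_of_mono f.pull
    (fun {X Y} φ hφ => @pull_map_mono' _ _ _ _ _ _ _ _ f HC X Y φ hφ)

end

end Groth.Agent.Lib.Helper21.InvF
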