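import Mathlib
import Groth.Prelude.Def_ModSite
import Groth.Prelude.Def_ModSite2
import Groth.Agent.Lib.Helper21InvF16

/-!
# Helper21 InvF17: flat morphisms of ringed spaces have exact inverse image
-/

set_option autoImplicit false
universe u
open CategoryTheory CategoryTheory.Limits Opposite TopologicalSpace

namespace Groth.Agent.Lib.Helper21.InvF

open Groth.Agent.Lib.Helper21.EqCrit

/-- the matrix equational criterion for a flat ring map. -/
theorem flat_matrix_crit {A B : Type*} [CommRing A] [CommRing B] (ψ : A →+* B) (hψ : ψ.Flat)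
    {q n : ℕ} (α : Fin q → Fin n → A) (γ : Fin n → B)
    (hrel : ∀ r, ∑ i, ψ (α r i) * γ i = 0) :
    ∃ (l : ℕ) (τ : Fin l → B) (β : Fin n → Fin l → A),
      (∀ i, γ i = ∑ k, ψ (β i k) * τ k) ∧ (∀ r k, ∑ i, β i k * α r i = 0) := by
  classical
  letI := ψ.toAlgebra
  haveI : Module.Flat A B := hψ
  let fm : (Fin q →₀ A) →ₗ[A] (Fin n →₀ A) :=
    Finsupp.linearCombination A (fun r => Finsupp.equivFunOnFinite.symm (α r))
  let xm : (Fin n →₀ A) →ₗ[A] B := Finsupp.linearCombination A γ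
  have h0 : xm ∘ₗ fm = 0 := by
    apply Finsupp.lhom_ext'
    intro r
    apply LinearMap.ext_ring
    simp only [fm, xm, LinearMap.coe_comp, Function.comp_apply, Finsupp.lsingle_apply,
      Finsupp.linearCombination_single, one_smul, LinearMap.zero_apply]
    rw [Finsupp.linearCombination_apply, Finsupp.sum_fintype _ _ (by simp)]
    rw [← hrel r]
    refine Finset.sum_congr rfl fun i _ => ?_
    rw [Algebra.smul_def]
    rfl
  obtain ⟨l, am, ym, h1, h2⟩ := Module.Flat.exists_factorization_of_comp_eq_zero_of_free h0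
  refine ⟨l, fun k => ym (Finsupp.single k 1), fun i k => am (Finsupp.single i 1) k, ?_, ?_⟩
  · intro i
    have e1 : γ i = xm (Finsupp.single i 1) := by
      simp only [xm, Finsupp.linearCombination_single, one_smul]
    rw [e1, h1, LinearMap.comp_apply]
    conv_lhs => rw [← Finsupp.sum_single (am (Finsupp.single i 1))]
    rw [Finsupp.sum_fintype _ _ (by simp), map_sum]
    refine Finset.sum_congr rfl fun k _ => ?_
    have e2 : Finsupp.single k (am (Finsupp.single i 1) k) =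
        (am (Finsupp.single i 1) k) • Finsupp.single k (1 : A) := by
      rw [Finsupp.smul_single, smul_eq_mul, mul_one]
    rw [e2, map_smul, Algebra.smul_def]
    rfl
  · intro r k
    have e1 := LinearMap.congr_fun h2 (Finsupp.single r 1)
    simp only [fm, LinearMap.coe_comp, Function.comp_apply, Finsupp.linearCombination_single,
      one_smul, LinearMap.zero_apply] at e1
    have e2 : (Finsupp.equivFunOnFinite.symm (α r) : Fin n →₀ A) =
        ∑ i, α r i • Finsupp.single i (1 : A) := by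
      ext j
      simp [Finsupp.single_apply]
    rw [e2, map_sum] at e1
    have e3 := DFunLike.congr_fun e1 k
    rw [Finsupp.coe_finset_sum, Finset.sum_apply] at e3
    simp only [map_smul, Finsupp.coe_smul, Pi.smul_apply, smul_eq_mul, Finsupp.coe_zero,
      Pi.zero_apply] at e3
    rw [← e3]
    refine Finset.sum_congr rfl fun i _ => ?_
    rw [mul_comm]

section germs

variable {X : TopCat.{u}} (F : X.Presheaf CommRingCat.{u}) (x : X)

/-- finitely many germs have representatives on a common neighbourhood. -/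
theorem exists_common_germ_fin {W₀ : Opens X} (hW₀ : x ∈ W₀) :
    ∀ (n : ℕ) (t : Fin n → F.stalk x),
      ∃ (W : Opens X) (hW : x ∈ W) (_ : W ≤ W₀) (s : Fin n → F.obj (op W)),
        ∀ i, F.germ W x hW (s i) = t i
  | 0, _ => ⟨W₀, hW₀, le_rfl, fun i => i.elim0, fun i => i.elim0⟩
  | n + 1, t => by
    obtain ⟨W₁, hW₁, hle₁, s₁, hs₁⟩ := exists_common_germ_fin hW₀ n (fun i => t i.castSucc)
    obtain ⟨W₂, hle₂, hW₂, s₂, hs₂⟩ := F.exists_le_germ_eq (t (Fin.last n)) hW₁
    refine ⟨W₂, hW₂, hle₂.trans hle₁,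
      Fin.lastCases s₂ (fun i => F.map (homOfLE hle₂).op (s₁ i)), ?_⟩
    intro i
    refine Fin.lastCases ?_ (fun i => ?_) i
    · simp only [Fin.lastCases_last]
      exact hs₂
    · simp only [Fin.lastCases_castSucc]
      rw [TopCat.Presheaf.germ_res_apply]
      exact hs₁ i

theorem exists_common_germ {ι : Type*} [Fintype ι] {W₀ : Opens X} (hW₀ : x ∈ W₀)
    (t : ι → F.stalk x) :
    ∃ (W : Opens X) (hW : x ∈ W) (_ : W ≤ W₀) (s : ι → F.obj (op W)),
      ∀ i, F.germ W x hW (s i) = t i := by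
  obtain ⟨W, hW, hle, s, hs⟩ := exists_common_germ_fin F x hW₀ _
    (fun j => t ((Fintype.equivFin ι).symm j))
  refine ⟨W, hW, hle, fun i => s (Fintype.equivFin ι i), fun i => ?_⟩
  rw [hs, Equiv.symm_apply_apply]

/-- finitely many equalities of germs hold on a common neighbourhood. -/
theorem exists_common_eq_fin {W₀ : Opens X} (hW₀ : x ∈ W₀) :
    ∀ (n : ℕ) (s s' : Fin n → F.obj (op W₀))
      (_ : ∀ i, F.germ W₀ x hW₀ (s i) = F.germ W₀ x hW₀ (s' i)),
      ∃ (W : Opens X) (_ : x ∈ W) (hle : W ≤ W₀),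
        ∀ i, F.map (homOfLE hle).op (s i) = F.map (homOfLE hle).op (s' i)
  | 0, _, _, _ => ⟨W₀, hW₀, le_rfl, fun i => i.elim0⟩
  | n + 1, s, s', h => by
    obtain ⟨W₁, hW₁, hle₁, h₁⟩ := exists_common_eq_fin hW₀ n (fun i => s i.castSucc)
      (fun i => s' i.castSucc) (fun i => h i.castSucc)
    obtain ⟨W₂, hW₂, i₁, i₂, h₂⟩ := F.germ_eq x hW₀ hW₀ _ _ (h (Fin.last n))
    refine ⟨W₁ ⊓ W₂, ⟨hW₁, hW₂⟩, inf_le_left.trans hle₁, ?_⟩
    intro i
    refine Fin.lastCases ?_ (fun i => ?_) i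
    · have e : (homOfLE (inf_le_left.trans hle₁ : W₁ ⊓ W₂ ≤ W₀)).op =
          i₁.op ≫ (homOfLE (inf_le_right : W₁ ⊓ W₂ ≤ W₂)).op := Subsingleton.elim _ _
      have e' : (homOfLE (inf_le_left.trans hle₁ : W₁ ⊓ W₂ ≤ W₀)).op =
          i₂.op ≫ (homOfLE (inf_le_right : W₁ ⊓ W₂ ≤ W₂)).op := Subsingleton.elim _ _
      conv_lhs => rw [e]
      conv_rhs => rw [e']
      rw [F.map_comp, F.map_comp, ConcreteCategory.comp_apply, ConcreteCategory.comp_apply, h₂]
    · have e : (homOfLE (inf_le_left.trans hle₁ : W₁ ⊓ W₂ ≤ W₀)).op =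
          (homOfLE hle₁).op ≫ (homOfLE (inf_le_left : W₁ ⊓ W₂ ≤ W₁)).op := Subsingleton.elim _ _
      rw [e, F.map_comp, ConcreteCategory.comp_apply, ConcreteCategory.comp_apply, h₁ i]

theorem exists_common_eq {ι : Type*} [Fintype ι] {W₀ : Opens X} (hW₀ : x ∈ W₀)
    (s s' : ι → F.obj (op W₀))
    (h : ∀ i, F.germ W₀ x hW₀ (s i) = F.germ W₀ x hW₀ (s' i)) :
    ∃ (W : Opens X) (_ : x ∈ W) (hle : W ≤ W₀),
      ∀ i, F.map (homOfLE hle).op (s i) = F.map (homOfLE hle).op (s' i) := by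
  obtain ⟨W, hW, hle, hs⟩ := exists_common_eq_fin F x hW₀ _
    (fun j => s ((Fintype.equivFin ι).symm j)) (fun j => s' ((Fintype.equivFin ι).symm j))
    (fun j => h _)
  refine ⟨W, hW, hle, fun i => ?_⟩
  have := hs (Fintype.equivFin ι i)
  rw [Equiv.symm_apply_apply] at this
  exact this

end germs

noncomputable section

section general

variable {C D : Type u} [SmallCategory C] [SmallCategory D] {J : GrothendieckTopology C}
  {K : GrothendieckTopology D} {O_C : Sheaf J CommRingCat.{u}} {O_D : Sheaf K CommRingCat.{u}}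
  (f : ModSite.RMor O_C O_D)

/-- the data of the criterion restricts. -/
theorem critO_data_res {U U' U'' : C} (h : U' ⟶ U) (h' : U'' ⟶ U') {q n : ℕ}
    (a : Fin q → Fin n → RU J K f.fn O_D U) (c : Fin n → O_C.obj.obj (op U))
    (H : ∃ (l : ℕ) (t : Fin l → O_C.obj.obj (op U')) (b : Fin n → Fin l → RU J K f.fn O_D U'),
      (∀ i, resO O_C h (c i) = ∑ k, iotaU f U' (b i k) * t k) ∧
      (∀ r k, ∑ i, b i k * rsR h (a r i) = 0)) :
    ∃ (l : ℕ) (t : Fin l → O_C.obj.obj (op U'')) (b : Fin n → Fin l → RU J K f.fn O_D U''),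
      (∀ i, resO O_C (h' ≫ h) (c i) = ∑ k, iotaU f U'' (b i k) * t k) ∧
      (∀ r k, ∑ i, b i k * rsR (h' ≫ h) (a r i) = 0) := by
  obtain ⟨l, t, b, h1, h2⟩ := H
  refine ⟨l, fun k => resO O_C h' (t k), fun i k => rsR h' (b i k), ?_, ?_⟩
  · intro i
    rw [resO_comp, h1, resO_sum]
    refine Finset.sum_congr rfl fun k _ => ?_
    rw [resO_mul, iotaU_res]
  · intro r k
    have e := congrArg (rsR (J := J) h') (h2 r k)
    rw [map_zero, map_sum] at e
    rw [← e]
    refine Finset.sum_congr rfl fun i _ => ?_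
    rw [map_mul, rsR_comp]

theorem geR_comp_map {fn : D ⥤ C} [fn.IsContinuous K J] [PreservesFiniteLimits (P J K fn)]
    {U' : C} {V V' : D} (g' : U' ⟶ fn.obj V') (k : V' ⟶ V) (x : O_D.obj.obj (op V)) :
    geR (J := J) (g' ≫ fn.map k) x = geR g' (resO O_D k x) := by
  unfold geR
  rw [rs_comp, eta_rs]
  rfl

theorem rs_geR {fn : D ⥤ C} [fn.IsContinuous K J] [PreservesFiniteLimits (P J K fn)]
    {U' U'' : C} {V : D} (g : U' ⟶ fn.obj V) (h : U'' ⟶ U') (x : O_D.obj.obj (op V)) :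
    rsR h (geR (J := J) g x) = geR (h ≫ g) x := by
  unfold geR
  exact (rs_comp _ g h _).symm

end general

section top

variable {X Y : TopCat.{u}} (f : X ⟶ Y) (O_X : TopCat.Sheaf CommRingCat.{u} X)
  (O_Y : TopCat.Sheaf CommRingCat.{u} Y)
  (c : O_Y ⟶ ((Opens.map f).sheafPushforwardContinuous CommRingCat.{u}
    (Opens.grothendieckTopology Y) (Opens.grothendieckTopology X)).obj O_X)

/-- the morphism of ringed sites of a morphism of ringed spaces. -/
abbrev FF : ModSite.RMor O_X O_Y := ModSite.RMor.ofFlat (Opens.map f) c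

/-- the stalk map `O_{Y,f(x)} ⟶ O_{X,x}`. -/
def psi (x : X) : O_Y.presheaf.stalk (f x) ⟶ O_X.presheaf.stalk x :=
  (TopCat.Presheaf.stalkFunctor CommRingCat.{u} (f x)).map
      (show O_Y.presheaf ⟶ (TopCat.Presheaf.pushforward CommRingCat.{u} f).obj O_X.presheaf
        from c.hom) ≫
    TopCat.Presheaf.stalkPushforward CommRingCat.{u} f O_X.presheaf x

theorem psi_germ (x : X) (V : Opens Y) (hV : f x ∈ V) (s : O_Y.obj.obj (op V)) :
    (psi f O_X O_Y c x).hom (O_Y.presheaf.germ V (f x) hV s) =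
      O_X.presheaf.germ ((Opens.map f).obj V) x hV ((c.hom.app (op V)).hom s) := by
  unfold psi
  rw [CommRingCat.hom_comp, RingHom.comp_apply]
  have h1 := TopCat.Presheaf.stalkFunctor_map_germ_apply V (f x) hV
    (show O_Y.presheaf ⟶ (TopCat.Presheaf.pushforward CommRingCat.{u} f).obj O_X.presheaf
      from c.hom) s
  exact (congrArg (TopCat.Presheaf.stalkPushforward CommRingCat.{u} f O_X.presheaf x).hom h1).trans
    (TopCat.Presheaf.stalkPushforward_germ_apply CommRingCat.{u} f O_X.presheaf V x hV _)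

/-- **stalkwise flatness gives the equational criterion**. -/
theorem critO_top (hflat : ∀ x : X, (psi f O_X O_Y c x).hom.Flat) :
    CritO (FF f O_X O_Y c) := by
  intro U q n a cc hrel
  let 𝒻 := FF f O_X O_Y c
  let S : Sieve U :=
    { arrows := fun U' h => ∃ (l : ℕ) (t : Fin l → O_X.obj.obj (op U'))
        (b : Fin n → Fin l → RU (Opens.grothendieckTopology X) (Opens.grothendieckTopology Y)
          𝒻.fn O_Y U'),
        (∀ i, resO O_X h (cc i) = ∑ k, iotaU 𝒻 U' (b i k) * t k) ∧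
        (∀ r k, ∑ i, b i k * rsR h (a r i) = 0)
      downward_closed := fun {U' U''} h hh h' => critO_data_res 𝒻 h h' a cc hh }
  refine ⟨S, ?_, fun U' h hh => hh⟩
  rw [Opens.mem_grothendieckTopology]
  intro x hx
  -- step 1: the coefficients come from downstairs near `x`
  obtain ⟨S₁, hS₁, H₁⟩ := gtp_tup (J := Opens.grothendieckTopology X) (fn := 𝒻.fn)
    (A := OS (Opens.grothendieckTopology Y) O_Y) (B := OS (Opens.grothendieckTopology Y) O_Y)
    (ι := Fin q × Fin n) (κ := Fin 0) U (fun p => a p.1 p.2) Fin.elim0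
  obtain ⟨U₁, h₁, hh₁, hxU₁⟩ := ((Opens.mem_grothendieckTopology X).1 hS₁) x hx
  obtain ⟨V, g, (α : Fin q × Fin n → O_Y.obj.obj (op V)), -, hα, -⟩ := H₁ h₁ hh₁
  have hfx : f x ∈ V := g.le hxU₁
  have hα' : ∀ r i, rsR h₁ (a r i) = geR g (α (r, i)) := fun r i => hα (r, i)
  -- step 2: the relation in the stalk
  let αg : Fin q → Fin n → O_Y.presheaf.stalk (f x) :=
    fun r i => O_Y.presheaf.germ V (f x) hfx (α (r, i))
  let γ : Fin n → O_X.presheaf.stalk x :=
    fun i => O_X.presheaf.germ U₁ x hxU₁ (resO O_X h₁ (cc i))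
  have hst : ∀ r, ∑ i, (psi f O_X O_Y c x).hom (αg r i) * γ i = 0 := by
    intro r
    have e := congrArg (fun s => O_X.presheaf.germ U₁ x hxU₁ (resO O_X h₁ s)) (hrel r)
    simp only [resO_sum, resO_mul, resO_zero, map_sum, map_mul, map_zero] at e
    rw [← e]
    refine Finset.sum_congr rfl fun i _ => ?_
    congr 1
    rw [iotaU_res, hα' r i]
    have e1 : iotaU 𝒻 U₁ (geR g (α (r, i))) = resO O_X g (shp 𝒻 V (α (r, i))) :=
      iotaF_ge 𝒻 g (α (r, i))
    rw [e1, psi_germ]
    exact (TopCat.Presheaf.germ_res_apply O_X.presheaf g x hxU₁ _).symm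
  -- step 3: the criterion in the stalk
  obtain ⟨l, τ, β, hγ, hβ⟩ := flat_matrix_crit (psi f O_X O_Y c x).hom (hflat x) αg γ hst
  -- step 4: spreading out
  obtain ⟨V', hV', hleV', β', hβ'⟩ := exists_common_germ O_Y.presheaf (f x) hfx
    (fun p : Fin n × Fin l => β p.1 p.2)
  let sY : Fin q × Fin l → O_Y.obj.obj (op V') :=
    fun p => ∑ i, β' (i, p.2) * resO O_Y (homOfLE hleV') (α (p.1, i))
  have hsY : ∀ p, O_Y.presheaf.germ V' (f x) hV' (sY p) = O_Y.presheaf.germ V' (f x) hV' 0 := by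
    intro p
    simp only [sY]
    rw [map_sum, map_zero, ← hβ p.1 p.2]
    refine Finset.sum_congr rfl fun i _ => ?_
    rw [map_mul, hβ' (i, p.2)]
    congr 1
    exact TopCat.Presheaf.germ_res_apply O_Y.presheaf (homOfLE hleV') (f x) hV' _
  obtain ⟨V'', hV'', hleV'', hsY'⟩ := exists_common_eq O_Y.presheaf (f x) hV' sY (fun _ => 0) hsY
  have hxW₀ : x ∈ U₁ ⊓ (Opens.map f).obj V'' := ⟨hxU₁, hV''⟩
  obtain ⟨W, hW, hleW, τ', hτ'⟩ := exists_common_germ O_X.presheaf x hxW₀ τ
  let β'' : Fin n → Fin l → O_Y.obj.obj (op V'') :=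
    fun i k => resO O_Y (homOfLE hleV'') (β' (i, k))
  let iWU₁ : W ⟶ U₁ := homOfLE (hleW.trans inf_le_left)
  let iWV : W ⟶ 𝒻.fn.obj V'' := homOfLE (hleW.trans inf_le_right)
  let sX : Fin n → O_X.obj.obj (op W) := fun i => resO O_X iWU₁ (resO O_X h₁ (cc i))
  let sX' : Fin n → O_X.obj.obj (op W) :=
    fun i => ∑ k, resO O_X iWV (shp 𝒻 V'' (β'' i k)) * τ' k
  have hsX : ∀ i, O_X.presheaf.germ W x hW (sX i) = O_X.presheaf.germ W x hW (sX' i) := by
    intro i
    simp only [sX, sX']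
    rw [map_sum]
    have e1 : O_X.presheaf.germ W x hW (resO O_X iWU₁ (resO O_X h₁ (cc i))) = γ i :=
      TopCat.Presheaf.germ_res_apply O_X.presheaf iWU₁ x hW _
    rw [e1, hγ i]
    refine Finset.sum_congr rfl fun k _ => ?_
    rw [map_mul, hτ' k]
    congr 1
    have e2 : O_X.presheaf.germ W x hW (resO O_X iWV (shp 𝒻 V'' (β'' i k))) =
        O_X.presheaf.germ ((Opens.map f).obj V'') x hV'' (shp 𝒻 V'' (β'' i k)) :=
      TopCat.Presheaf.germ_res_apply O_X.presheaf iWV x hW _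
    rw [e2]
    have e3 : O_Y.presheaf.germ V'' (f x) hV'' (β'' i k) = β i k := by
      rw [← hβ' (i, k)]
      exact TopCat.Presheaf.germ_res_apply O_Y.presheaf (homOfLE hleV'') (f x) hV'' _
    rw [← e3, psi_germ]
    rfl
  obtain ⟨W', hW', hleW', hsX'⟩ := exists_common_eq O_X.presheaf x hW sX sX' hsX
  -- step 5: the data on `W'`
  let iW'W : W' ⟶ W := homOfLE hleW'
  let hWU : W' ⟶ U := iW'W ≫ iWU₁ ≫ h₁
  let g'' : W' ⟶ 𝒻.fn.obj V'' := iW'W ≫ iWV
  refine ⟨W', hWU, ⟨l, fun k => resO O_X iW'W (τ' k), fun i k => geR g'' (β'' i k), ?_, ?_⟩, hW'⟩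
  · intro i
    have e1 : resO O_X hWU (cc i) = resO O_X iW'W (sX i) := by
      simp only [hWU, sX]
      rw [resO_comp, resO_comp]
    have e2 : resO O_X iW'W (sX i) = resO O_X iW'W (sX' i) := hsX' i
    rw [e1, e2]
    simp only [sX']
    rw [resO_sum]
    refine Finset.sum_congr rfl fun k _ => ?_
    rw [resO_mul]
    congr 1
    have e3 : iotaU 𝒻 W' (geR g'' (β'' i k)) = resO O_X g'' (shp 𝒻 V'' (β'' i k)) :=
      iotaF_ge 𝒻 g'' (β'' i k)
    rw [e3]
    simp only [g'']
    rw [resO_comp]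
  · intro r k
    have e1 : ∀ i, rsR hWU (a r i) = geR g'' (resO O_Y (homOfLE (hleV''.trans hleV')) (α (r, i))) := by
      intro i
      simp only [hWU]
      rw [rsR_comp, rsR_comp, hα' r i, rs_geR, rs_geR, ← geR_comp_map]
      congr 1
    have e2 : ∀ i, geR g'' (β'' i k) * rsR hWU (a r i) =
        rsR g'' (etaO (Opens.grothendieckTopology X) 𝒻.fn V''
          (β'' i k * resO O_Y (homOfLE (hleV''.trans hleV')) (α (r, i)))) := by
      intro i
      rw [e1 i, geR_eq, geR_eq, ← map_mul, ← map_mul]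
    rw [Finset.sum_congr rfl (fun i _ => e2 i), ← map_sum, ← map_sum]
    have e3 : ∑ i, β'' i k * resO O_Y (homOfLE (hleV''.trans hleV')) (α (r, i)) = 0 := by
      have e4 := hsY' (r, k)
      have e5 : O_Y.presheaf.map (homOfLE hleV'').op (0 : O_Y.obj.obj (op V')) = 0 :=
        map_zero (O_Y.obj.map (homOfLE hleV'').op).hom
      rw [e5] at e4
      rw [← e4]
      simp only [sY]
      change _ = resO O_Y (homOfLE hleV'') _
      rw [resO_sum]
      refine Finset.sum_congr rfl fun i _ => ?_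
      rw [resO_mul, ← resO_comp]
      rfl
    rw [e3, map_zero, map_zero]

/-- **a flat morphism of ringed spaces has exact module inverse image**. -/
theorem isFlat_of_stalk_flat (hflat : ∀ x : X, (psi f O_X O_Y c x).hom.Flat) :
    (FF f O_X O_Y c).IsFlat :=
  isFlat_of_critO _ (critO_top f O_X O_Y c hflat)

end top

end

end Groth.Agent.Lib.Helper21.InvF
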