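import Mathlib
import Groth.Prelude.Def_ModSite
import Groth.Prelude.Def_ModSite2
import Groth.Agent.Lib.Helper21InvF16
import Groth.Agent.Lib.Helper21EqCrit5

/-!
# Helper21 InvF18: exactness of `G ↦ f^*G ⊗ F` for `F` flat over `f⁻¹O_D`
-/

set_option autoImplicit false
universe u
open CategoryTheory CategoryTheory.Limits Opposite TensorProduct

namespace Groth.Agent.Lib.Helper21.InvF

open Groth.Agent.Lib.Helper21.EqCrit

/-- the algebra behind `(S ⊗_R Z) ⊗_S M = Z ⊗_R M`. -/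
theorem theta_lemma {R S Z M : Type*} [CommRing R] [CommRing S] [Algebra R S] [AddCommGroup Z]
    [Module R Z] [AddCommGroup M] [Module S M] [Module R M] [IsScalarTower R S M]
    {n m : ℕ} (zz : Fin n → Z) (ss : Fin n → M) (w : Fin m → Z) (d : Fin n → Fin m → S)
    (h1 : ∀ i, (1 : S) ⊗ₜ[R] zz i = ∑ k, d i k ⊗ₜ[R] w k)
    (h2 : ∀ k, ∑ i, d i k • ss i = 0) :
    ∑ i, zz i ⊗ₜ[R] ss i = 0 := by
  let θ : M → (S ⊗[R] Z →ₗ[R] Z ⊗[R] M) := fun s =>
    TensorProduct.lift (LinearMap.mk₂ R (fun (c : S) (z : Z) => z ⊗ₜ[R] (c • s))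
      (fun c c' z => by rw [add_smul, tmul_add])
      (fun r c z => by rw [smul_assoc, tmul_smul])
      (fun c z z' => by rw [add_tmul])
      (fun r c z => by rw [smul_tmul']))
  have hθ : ∀ (s : M) (c : S) (z : Z), θ s (c ⊗ₜ[R] z) = z ⊗ₜ[R] (c • s) := fun s c z => rfl
  have e1 : ∀ i, zz i ⊗ₜ[R] ss i = ∑ k, w k ⊗ₜ[R] (d i k • ss i) := by
    intro i
    have := congrArg (θ (ss i)) (h1 i)
    rw [hθ, one_smul, map_sum] at this
    rw [this]
    refine Finset.sum_congr rfl fun k _ => ?_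
    rw [hθ]
  rw [Finset.sum_congr rfl (fun i _ => e1 i), Finset.sum_comm]
  refine Finset.sum_eq_zero fun k _ => ?_
  rw [← tmul_sum, h2, tmul_zero]

/-- the algebra behind "(mono) ⊗ flat is mono", tensor form. -/
theorem sum_tmul_eq_zero_A {R Z W M : Type*} [CommRing R] [AddCommGroup Z] [Module R Z]
    [AddCommGroup W] [Module R W] [AddCommGroup M] [Module R M]
    (Φ : Z →ₗ[R] W) (hΦ : Function.Injective Φ)
    {n m q : ℕ} (zz : Fin n → Z) (ss : Fin n → M) (b : Fin n → Fin m → R) (t : Fin m → M)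
    (a : Fin n → Fin q → R) (y : Fin q → W)
    (h1 : ∀ i, ss i = ∑ k, b i k • t k)
    (h2 : ∀ r k, ∑ i, b i k * a i r = 0)
    (h3 : ∀ i, Φ (zz i) = ∑ r, a i r • y r) :
    ∑ i, zz i ⊗ₜ[R] ss i = 0 := by
  have key : ∀ k, ∑ i, b i k • zz i = 0 := by
    intro k
    apply hΦ
    rw [map_sum, map_zero]
    have e : ∀ i, Φ (b i k • zz i) = ∑ r, (b i k * a i r) • y r := by
      intro i
      rw [map_smul, h3, Finset.smul_sum]
      refine Finset.sum_congr rfl fun r _ => ?_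
      rw [smul_smul]
    rw [Finset.sum_congr rfl (fun i _ => e i), Finset.sum_comm]
    refine Finset.sum_eq_zero fun r _ => ?_
    rw [← Finset.sum_smul, h2, zero_smul]
  have e1 : ∀ i, zz i ⊗ₜ[R] ss i = ∑ k, (b i k • zz i) ⊗ₜ[R] t k := by
    intro i
    rw [h1, tmul_sum]
    refine Finset.sum_congr rfl fun k _ => ?_
    rw [tmul_smul, smul_tmul']
  rw [Finset.sum_congr rfl (fun i _ => e1 i), Finset.sum_comm]
  refine Finset.sum_eq_zero fun k _ => ?_
  rw [← sum_tmul, key, zero_tmul]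

noncomputable section

variable {C D : Type u} [SmallCategory C] [SmallCategory D] {J : GrothendieckTopology C}
  {K : GrothendieckTopology D} {O_C : Sheaf J CommRingCat.{u}} {O_D : Sheaf K CommRingCat.{u}}
  (f : ModSite.RMor O_C O_D) (F : ModSite.Mod O_C) (G : ModSite.Mod O_D)

attribute [local instance] algRU

/-- sections of an `O_C`-module as a module over `f⁻¹O_D(U)`. -/
@[reducible] def modRF (U : C) : Module (RU J K f.fn O_D U) (F.val.obj (op U)) :=
  Module.compHom _ (iotaU f U)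

attribute [local instance] modRF

theorem modRF_smul (U : C) (r : RU J K f.fn O_D U) (s : F.val.obj (op U)) :
    r • s = iotaU f U r • s := rfl

instance isScalarTower_modRF (U : C) :
    IsScalarTower (RU J K f.fn O_D U) (O_C.obj.obj (op U)) (F.val.obj (op U)) where
  smul_assoc r c s := by
    rw [modRF_smul, algRU_smul, mul_smul]

/-- the equational criterion for an `O_C`-module `F` over `f⁻¹O_D`. -/
def CritF : Prop :=
  ∀ {U : C} {q n : ℕ} (a : Fin q → Fin n → RU J K f.fn O_D U) (s : Fin n → F.val.obj (op U)),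
    (∀ r, ∑ i, iotaU f U (a r i) • s i = 0) →
    ∃ S ∈ J U, ∀ ⦃U' : C⦄ (h : U' ⟶ U), S h →
      ∃ (l : ℕ) (t : Fin l → F.val.obj (op U')) (b : Fin n → Fin l → RU J K f.fn O_D U'),
        (∀ i, res O_C F h (s i) = ∑ k, iotaU f U' (b i k) • t k) ∧
        (∀ r k, ∑ i, b i k * rsR h (a r i) = 0)

/-- sections of the presheaf `f⁻¹G ⊗_{f⁻¹O_D} F`. -/
abbrev T0 (U : C) : Type u :=
  (MU J K f.fn O_D G U) ⊗[RU J K f.fn O_D U] (F.val.obj (op U))

/-- the map `f⁻¹G(U) ⊗ F(U) → f^*G(U) ⊗_{O_C(U)} F(U)`. -/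
def xiAdd (U : C) : T0 f F G U →+ (PT O_C (f.pull.obj G) F).obj (op U) :=
  TensorProduct.liftAddHom
    { toFun := fun z =>
        { toFun := fun s => pt O_C (f.pull.obj G) F U (lamU f G U z) s
          map_zero' := pt_zero_right O_C _ _ _ _
          map_add' := fun s s' => TensorProduct.tmul_add _ _ _ }
      map_zero' := by
        ext s
        change pt O_C (f.pull.obj G) F U (lamU f G U 0) s = 0
        rw [map_zero]
        exact pt_zero_left O_C _ _ _ _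
      map_add' := fun z z' => by
        ext s
        change pt O_C (f.pull.obj G) F U (lamU f G U (z + z')) s = _
        rw [map_add]
        exact TensorProduct.add_tmul _ _ _ }
    (by
      intro r z s
      change pt O_C (f.pull.obj G) F U (lamU f G U (r • z)) s =
        pt O_C (f.pull.obj G) F U (lamU f G U z) (r • s)
      rw [lamU_smul, pt_smul_left, modRF_smul])

theorem xiAdd_tmul (U : C) (z : MU J K f.fn O_D G U) (s : F.val.obj (op U)) :
    xiAdd f F G U (z ⊗ₜ s) = pt O_C (f.pull.obj G) F U (lamU f G U z) s := rfl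

theorem sum_pt_eq_zero_of_tmul {U : C} {l : ℕ} (z : Fin l → MU J K f.fn O_D G U)
    (s : Fin l → F.val.obj (op U)) (h : ∑ k, (z k) ⊗ₜ[RU J K f.fn O_D U] (s k) = 0) :
    ∑ k, pt O_C (f.pull.obj G) F U (lamU f G U (z k)) (s k) = 0 := by
  have e := congrArg (xiAdd f F G U) h
  rw [map_zero, map_sum] at e
  exact e

/-- **relations**: if `Σ λ(z_k) ⊗ s_k = 0` in `f^*G(U) ⊗_{O_C(U)} F(U)` then locally
`Σ z_k ⊗ s_k = 0` in `f⁻¹G ⊗_{f⁻¹O_D} F`. -/
theorem tmul_eq_zero_of_pt {U : C} {l : ℕ} (z : Fin l → MU J K f.fn O_D G U)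
    (s : Fin l → F.val.obj (op U))
    (h0 : ∑ k, pt O_C (f.pull.obj G) F U (lamU f G U (z k)) (s k) = 0) :
    ∃ S ∈ J U, ∀ ⦃U' : C⦄ (h : U' ⟶ U), S h →
      ∑ k, (rsM G h (z k)) ⊗ₜ[RU J K f.fn O_D U'] (res O_C F h (s k)) = 0 := by
  obtain ⟨p, q, s', y, a, A1, A2⟩ := exists_trivial_of_sum_tmul_eq_zero
    (A := O_C.obj.obj (op U)) (fun k => lamU f G U (z k)) s h0
  obtain ⟨S₁, hS₁, H₁⟩ := exists_sum_lam_fin f G q y
  refine exists_cover_of_bind (J := J) (fun U' h =>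
    ∑ k, (rsM G h (z k)) ⊗ₜ[RU J K f.fn O_D U'] (res O_C F h (s k)) = 0) S₁ hS₁ ?_
  intro U₁ h₁ hh₁
  obtain ⟨m, c, w, hy⟩ := H₁ h₁ hh₁
  -- the data at level `U₁`
  let zz : Fin (l + p) → MU J K f.fn O_D G U₁ :=
    fun i => rsM G h₁ (Fin.append z (fun _ : Fin p => 0) i)
  let ss : Fin (l + p) → F.val.obj (op U₁) := fun i => res O_C F h₁ (Fin.append s s' i)
  let d : Fin (l + p) → Fin m → O_C.obj.obj (op U₁) :=
    fun i k => ∑ r, resO O_C h₁ (a i r) * c r k
  have hlam : ∀ i, lamU f G U₁ (zz i) = ∑ k, d i k • lamU f G U₁ (w k) := by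
    intro i
    have e1 : lamU f G U₁ (zz i) =
        res O_C (f.pull.obj G) h₁
          (Fin.append (fun k => lamU f G U (z k)) (fun _ : Fin p => 0) i) := by
      simp only [zz]
      rw [← lamU_res, append_map (lamU f G U)]
      congr 2
      funext k
      rw [map_zero]
    rw [e1, A1 i, res_sum]
    have e2 : ∀ r, res O_C (f.pull.obj G) h₁ (a i r • y r) =
        ∑ k, (resO O_C h₁ (a i r) * c r k) • lamU f G U₁ (w k) := by
      intro r
      rw [res_smul, hy r, Finset.smul_sum]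
      refine Finset.sum_congr rfl fun k _ => ?_
      rw [smul_smul]
    refine (Finset.sum_congr rfl (fun r _ => e2 r)).trans ?_
    rw [Finset.sum_comm]
    refine Finset.sum_congr rfl fun k _ => ?_
    simp only [d]
    rw [Finset.sum_smul]
  have hds : ∀ k, ∑ i, d i k • ss i = 0 := by
    intro k
    have e1 : ∀ i, d i k • ss i = ∑ r, c r k • res O_C F h₁ (a i r • Fin.append s s' i) := by
      intro i
      simp only [d, ss]
      rw [Finset.sum_smul]
      refine Finset.sum_congr rfl fun r _ => ?_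
      rw [res_smul, smul_smul, mul_comm]
    rw [Finset.sum_congr rfl (fun i _ => e1 i), Finset.sum_comm]
    refine Finset.sum_eq_zero fun r _ => ?_
    rw [← Finset.smul_sum, ← res_sum]
    have A2' : res O_C F h₁ (∑ i, a i r • Fin.append s s' i) = 0 :=
      (congrArg (res O_C F h₁) (A2 r)).trans (res_zero O_C F h₁)
    rw [A2', smul_zero]
  -- the relations in `O_C ⊗ f⁻¹G`, on a common cover
  have hrel : ∀ i : Fin (l + p), ∃ S ∈ J U₁, ∀ ⦃U₂ : C⦄ (h₂ : U₂ ⟶ U₁), S h₂ →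
      (1 : O_C.obj.obj (op U₂)) ⊗ₜ[RU J K f.fn O_D U₂] (rsM G h₂ (zz i)) =
        ∑ k, (resO O_C h₂ (d i k)) ⊗ₜ[RU J K f.fn O_D U₂] (rsM G h₂ (w k)) := by
    intro i
    have e0 : ∑ k : Fin (m + 1),
        ((Fin.cons (1 : O_C.obj.obj (op U₁)) (fun k => - d i k) :
          Fin (m + 1) → O_C.obj.obj (op U₁)) k) •
          lamU f G U₁ ((Fin.cons (zz i) w : Fin (m + 1) → MU J K f.fn O_D G U₁) k) = 0 := by
      rw [Fin.sum_univ_succ]
      simp only [Fin.cons_zero, Fin.cons_succ, one_smul, neg_smul, Finset.sum_neg_distrib]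
      rw [hlam i, add_neg_cancel]
    obtain ⟨S, hS, HS⟩ := tmul_eq_zero_of_lam f G _ _ e0
    refine ⟨S, hS, fun U₂ h₂ hh₂ => ?_⟩
    have e1 := HS h₂ hh₂
    rw [Fin.sum_univ_succ] at e1
    simp only [Fin.cons_zero, Fin.cons_succ] at e1
    have e2 : resO O_C h₂ (1 : O_C.obj.obj (op U₁)) = 1 := resO_one' h₂
    rw [e2] at e1
    have e3 : ∀ k, (resO O_C h₂ (- d i k)) ⊗ₜ[RU J K f.fn O_D U₂] (rsM G h₂ (w k)) =
        - ((resO O_C h₂ (d i k)) ⊗ₜ[RU J K f.fn O_D U₂] (rsM G h₂ (w k))) := by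
      intro k
      rw [resO_neg', TensorProduct.neg_tmul]
    rw [Finset.sum_congr rfl (fun k _ => e3 k), Finset.sum_neg_distrib, add_neg_eq_zero] at e1
    exact e1
  obtain ⟨S₂, hS₂, H₂⟩ := exists_cover_fin (J := J) (l + p)
    (fun i U₂ h₂ => (1 : O_C.obj.obj (op U₂)) ⊗ₜ[RU J K f.fn O_D U₂] (rsM G h₂ (zz i)) =
        ∑ k, (resO O_C h₂ (d i k)) ⊗ₜ[RU J K f.fn O_D U₂] (rsM G h₂ (w k))) hrel
  refine ⟨S₂, hS₂, fun U₂ h₂ hh₂ => ?_⟩
  have key := theta_lemma (R := RU J K f.fn O_D U₂) (S := O_C.obj.obj (op U₂))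
    (fun i => rsM G h₂ (zz i)) (fun i => res O_C F h₂ (ss i)) (fun k => rsM G h₂ (w k))
    (fun i k => resO O_C h₂ (d i k)) (H₂ h₂ hh₂) (by
      intro k
      have e := congrArg (res O_C F h₂) (hds k)
      rw [res_zero, res_sum] at e
      rw [← e]
      refine Finset.sum_congr rfl fun i _ => ?_
      rw [res_smul])
  rw [Fin.sum_univ_add] at key
  have e4 : ∑ k : Fin p, (rsM G h₂ (zz (Fin.natAdd l k))) ⊗ₜ[RU J K f.fn O_D U₂]
      (res O_C F h₂ (ss (Fin.natAdd l k))) = 0 := by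
    refine Finset.sum_eq_zero fun k _ => ?_
    simp only [zz, Fin.append_right, map_zero, TensorProduct.zero_tmul]
  rw [e4, add_zero] at key
  rw [← key]
  refine Finset.sum_congr rfl fun k _ => ?_
  simp only [zz, ss, Fin.append_left]
  rw [rsM_comp, res_comp]

/-- the key local vanishing for `G ↦ f^*G ⊗ F`. -/
theorem locally_zero_of_critF (HC : CritF f F) {G G' : ModSite.Mod O_D} (φ : G ⟶ G') [Mono φ]
    {V : C} {m : ℕ} (zz : Fin m → MU J K f.fn O_D G V) (s : Fin m → F.val.obj (op V))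
    (h0 : ∑ j, pt O_C (f.pull.obj G') F V (lamU f G' V (PmU φ V (zz j))) (s j) = 0) :
    ∃ S ∈ J V, ∀ ⦃W : C⦄ (g : W ⟶ V), S g →
      ∑ j, pt O_C (f.pull.obj G) F W (lamU f G W (rsM G g (zz j))) (res O_C F g (s j)) = 0 := by
  obtain ⟨S₁, hS₁, H₁⟩ := tmul_eq_zero_of_pt f F G' (fun j => PmU φ V (zz j)) s h0
  refine exists_cover_of_bind (J := J) (fun W g =>
    ∑ j, pt O_C (f.pull.obj G) F W (lamU f G W (rsM G g (zz j))) (res O_C F g (s j)) = 0)
    S₁ hS₁ ?_
  intro V₁ g₁ hg₁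
  have h1 := H₁ g₁ hg₁
  obtain ⟨p, q, t', y, a, A1, A2⟩ := exists_trivial_of_sum_tmul_eq_zero
    (A := RU J K f.fn O_D V₁) (fun k => rsM G' g₁ (PmU φ V (zz k)))
    (fun k => res O_C F g₁ (s k)) h1
  obtain ⟨S₂, hS₂, H₂⟩ := HC (fun r i => a i r)
    (Fin.append (fun k => res O_C F g₁ (s k)) t') A2
  refine ⟨S₂, hS₂, fun V₂ g₂ hg₂ => ?_⟩
  obtain ⟨l', t'', b, B1, B2⟩ := H₂ g₂ hg₂
  let ζ : Fin (m + p) → MU J K f.fn O_D G V₂ :=
    fun i => rsM G g₂ (Fin.append (fun k => rsM G g₁ (zz k)) (fun _ : Fin p => 0) i)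
  let σ : Fin (m + p) → F.val.obj (op V₂) :=
    fun i => res O_C F g₂ (Fin.append (fun k => res O_C F g₁ (s k)) t' i)
  have h3 : ∀ i, PmU φ V₂ (ζ i) = ∑ r, rsR g₂ (a i r) • rsM G' g₂ (y r) := by
    intro i
    simp only [ζ]
    rw [← PmU_res, append_map (PmU φ V₁)]
    have e1 : (Fin.append (fun k => PmU φ V₁ (rsM G g₁ (zz k)))
        (fun _ : Fin p => PmU φ V₁ (0 : MU J K f.fn O_D G V₁)) i) =
        Fin.append (fun k => rsM G' g₁ (PmU φ V (zz k))) (fun _ : Fin p => 0) i := by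
      congr 2
      · funext k
        rw [PmU_res]
      · funext k
        rw [map_zero]
    rw [e1, A1 i, map_sum]
    refine Finset.sum_congr rfl fun r _ => ?_
    rw [rsM_smul]
  have key := sum_tmul_eq_zero_A (R := RU J K f.fn O_D V₂) (PmU φ V₂) (PmU_injective φ V₂)
    ζ σ b t'' (fun i r => rsR g₂ (a i r)) (fun r => rsM G' g₂ (y r)) B1 B2 h3
  have key2 := sum_pt_eq_zero_of_tmul f F G ζ σ key
  rw [Fin.sum_univ_add] at key2
  have e4 : ∑ k : Fin p, pt O_C (f.pull.obj G) F V₂ (lamU f G V₂ (ζ (Fin.natAdd m k)))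
      (σ (Fin.natAdd m k)) = 0 := by
    refine Finset.sum_eq_zero fun k _ => ?_
    simp only [ζ, Fin.append_right, map_zero]
    exact pt_zero_left O_C _ _ _ _
  rw [e4, add_zero] at key2
  rw [← key2]
  refine Finset.sum_congr rfl fun k _ => ?_
  simp only [ζ, σ, Fin.append_left]
  rw [rsM_comp, res_comp]

section main

open MonoidalCategory
open Groth.Agent.Lib.Helper21.ModTensor Groth.Agent.Lib.Helper21.ModTensor2
  Groth.Agent.Lib.Helper21.ModTensor3 Groth.Agent.Lib.Helper21.ModTensor5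
  Groth.Agent.Lib.Helper21.ModTensor6 Groth.Agent.Lib.Helper21.ModTensor7
  Groth.Agent.Lib.Helper21.FlatCalc

/-- **`G ↦ f^*G ⊗ F` preserves monomorphisms** when `F` satisfies the equational criterion
over `f⁻¹O_D`. -/
theorem mono_pull_tensor (HC : CritF f F) {G G' : ModSite.Mod O_D} (φ : G ⟶ G') [Mono φ] :
    Mono ((ModTensor3.tR O_C F).map (f.pull.map φ)) := by
  apply mono_of_injective_app
  rintro ⟨V⟩
  rw [injective_iff_map_eq_zero]
  intro z hz
  change (ST O_C (f.pull.obj G) F).val.obj (op V) at z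
  refine eq_zero_of_locally O_C (ST O_C (f.pull.obj G) F) z _
    (imageSieve_eta_mem O_C (f.pull.obj G) F V z) ?_
  intro V₁ g₁ hg₁
  obtain ⟨w, hw⟩ := exists_etaV_eq_of_imageSieve O_C (f.pull.obj G) F g₁ z hg₁
  change etaV O_C (f.pull.obj G) F V₁ w = res O_C (ST O_C (f.pull.obj G) F) g₁ z at hw
  rw [← hw]
  obtain ⟨l, x, t, rfl⟩ := exists_fin_sum_pt O_C (f.pull.obj G) F V₁ w
  obtain ⟨S₂, hS₂, H₂⟩ := exists_sum_lam_fin f G l x
  refine eq_zero_of_locally O_C (ST O_C (f.pull.obj G) F) _ S₂ hS₂ ?_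
  intro V₂ g₂ hg₂
  obtain ⟨m, c, zz, hx⟩ := H₂ g₂ hg₂
  rw [etaV_restrict']
  let sj : Fin m → F.val.obj (op V₂) := fun j => ∑ k, c k j • res O_C F g₂ (t k)
  have h7 : ∀ {G₀ : ModSite.Mod O_D} (x₀ : Fin l → (f.pull.obj G₀).val.obj (op V₁))
      (ζ₀ : Fin m → MU J K f.fn O_D G₀ V₂)
      (_ : ∀ j, res O_C (f.pull.obj G₀) g₂ (x₀ j) = ∑ k, c j k • lamU f G₀ V₂ (ζ₀ k)),
      (PT O_C (f.pull.obj G₀) F).map g₂.op (∑ k, pt O_C (f.pull.obj G₀) F V₁ (x₀ k) (t k)) =
      ∑ j, pt O_C (f.pull.obj G₀) F V₂ (lamU f G₀ V₂ (ζ₀ j)) (sj j) := by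
    intro G₀ x₀ ζ₀ hx₀
    rw [map_sum]
    calc ∑ k, ((PT O_C (f.pull.obj G₀) F).map g₂.op).hom (pt O_C (f.pull.obj G₀) F V₁ (x₀ k) (t k))
        = ∑ k, pt O_C (f.pull.obj G₀) F V₂ (res O_C (f.pull.obj G₀) g₂ (x₀ k))
            (res O_C F g₂ (t k)) :=
          Finset.sum_congr rfl fun k _ => PT_map_pt' O_C (f.pull.obj G₀) F g₂ _ _
      _ = ∑ k, ∑ j, pt O_C (f.pull.obj G₀) F V₂ (lamU f G₀ V₂ (ζ₀ j))
            (c k j • res O_C F g₂ (t k)) := by
          refine Finset.sum_congr rfl fun k _ => ?_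
          rw [hx₀ k, pt_sum_left]
          refine Finset.sum_congr rfl fun j _ => ?_
          rw [pt_smul_left]
      _ = _ := by
          rw [Finset.sum_comm]
          refine Finset.sum_congr rfl fun j _ => ?_
          rw [← pt_sum_right]
  rw [h7 x zz hx]
  -- the image in `f^*G' ⊗ F`
  have hx' : ∀ j, res O_C (f.pull.obj G') g₂ (phF (f.pull.map φ) V₁ (x j)) =
      ∑ k, c j k • lamU f G' V₂ (PmU φ V₂ (zz k)) := by
    intro j
    have e1 : res O_C (f.pull.obj G') g₂ (phF (f.pull.map φ) V₁ (x j)) =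
        phF (f.pull.map φ) V₂ (res O_C (f.pull.obj G) g₂ (x j)) :=
      res_nat O_C (f.pull.map φ) g₂ (x j)
    rw [e1, hx j]
    have e2 : phF (f.pull.map φ) V₂ (∑ k, c j k • lamU f G V₂ (zz k)) =
        ∑ k, phF (f.pull.map φ) V₂ (c j k • lamU f G V₂ (zz k)) :=
      map_sum ((f.pull.map φ).val.app (op V₂)).hom _ _
    rw [e2]
    refine Finset.sum_congr rfl fun k _ => ?_
    rw [phF_smul, lamU_nat]
  have h3 : (((fgt O_C).map (f.pull.map φ) ▷ (fgt O_C).obj F).app (op V₁)).hom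
      (∑ k, pt O_C (f.pull.obj G) F V₁ (x k) (t k)) =
      ∑ k, pt O_C (f.pull.obj G') F V₁ (phF (f.pull.map φ) V₁ (x k)) (t k) := by
    rw [map_sum]
    exact Finset.sum_congr rfl fun k _ => whisker_pt O_C F (f.pull.map φ) V₁ _ _
  have h1 : etaV O_C (f.pull.obj G') F V₁
      (∑ k, pt O_C (f.pull.obj G') F V₁ (phF (f.pull.map φ) V₁ (x k)) (t k)) = 0 :=
    calc etaV O_C (f.pull.obj G') F V₁
          (∑ k, pt O_C (f.pull.obj G') F V₁ (phF (f.pull.map φ) V₁ (x k)) (t k))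
        = etaV O_C (f.pull.obj G') F V₁
            ((((fgt O_C).map (f.pull.map φ) ▷ (fgt O_C).obj F).app (op V₁)).hom
            (∑ k, pt O_C (f.pull.obj G) F V₁ (x k) (t k))) := congrArg _ h3.symm
      _ = (((ModTensor3.tR O_C F).map (f.pull.map φ)).val.app (op V₁)).hom
            (etaV O_C (f.pull.obj G) F V₁ (∑ k, pt O_C (f.pull.obj G) F V₁ (x k) (t k))) :=
          (etaV_nat_left O_C F (f.pull.map φ) V₁ _).symm
      _ = (((ModTensor3.tR O_C F).map (f.pull.map φ)).val.app (op V₁)).hom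
            (res O_C (ST O_C (f.pull.obj G) F) g₁ z) := congrArg _ hw
      _ = res O_C (ST O_C (f.pull.obj G') F) g₁
            ((((ModTensor3.tR O_C F).map (f.pull.map φ)).val.app (op V)).hom z) :=
          (tR_map_nat O_C F (f.pull.map φ) g₁ z).symm
      _ = res O_C (ST O_C (f.pull.obj G') F) g₁ 0 := congrArg _ hz
      _ = 0 := res_zero O_C (ST O_C (f.pull.obj G') F) g₁
  have h1' : etaV O_C (f.pull.obj G') F V₂
      (∑ j, pt O_C (f.pull.obj G') F V₂ (lamU f G' V₂ (PmU φ V₂ (zz j))) (sj j)) = 0 := by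
    rw [← h7 (fun k => phF (f.pull.map φ) V₁ (x k)) (fun k => PmU φ V₂ (zz k)) hx',
      ← etaV_restrict', h1]
    exact res_zero O_C (ST O_C (f.pull.obj G') F) g₂
  obtain ⟨S₃, hS₃, H₃⟩ := eta_locally_injective O_C (f.pull.obj G') F V₂ _ h1'
  refine eq_zero_of_locally O_C (ST O_C (f.pull.obj G) F) _ S₃ hS₃ ?_
  intro V₃ g₃ hg₃
  have h4 := H₃ g₃ hg₃
  rw [map_sum] at h4
  have h5 : ∑ j, pt O_C (f.pull.obj G') F V₃ (lamU f G' V₃ (PmU φ V₃ (rsM G g₃ (zz j))))
      (res O_C F g₃ (sj j)) = 0 := by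
    refine Eq.trans ?_ h4
    refine Finset.sum_congr rfl fun j _ => ?_
    rw [← PmU_res, ← lamU_res]
    exact (PT_map_pt' O_C (f.pull.obj G') F g₃ _ _).symm
  obtain ⟨S₄, hS₄, H₄⟩ := locally_zero_of_critF f F HC φ (fun j => rsM G g₃ (zz j))
    (fun j => res O_C F g₃ (sj j)) h5
  refine eq_zero_of_locally O_C (ST O_C (f.pull.obj G) F) _ S₄ hS₄ ?_
  intro V₄ g₄ hg₄
  have h6 := H₄ g₄ hg₄
  rw [etaV_restrict', etaV_restrict']
  have h8a : (PT O_C (f.pull.obj G) F).map g₃.op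
      (∑ j, pt O_C (f.pull.obj G) F V₂ (lamU f G V₂ (zz j)) (sj j)) =
      ∑ j, pt O_C (f.pull.obj G) F V₃ (lamU f G V₃ (rsM G g₃ (zz j)))
        (res O_C F g₃ (sj j)) := by
    rw [map_sum]
    refine Finset.sum_congr rfl fun j _ => ?_
    rw [← lamU_res]
    exact PT_map_pt' O_C (f.pull.obj G) F g₃ _ _
  have h8b : (PT O_C (f.pull.obj G) F).map g₄.op
      (∑ j, pt O_C (f.pull.obj G) F V₃ (lamU f G V₃ (rsM G g₃ (zz j)))
        (res O_C F g₃ (sj j))) =
      ∑ j, pt O_C (f.pull.obj G) F V₄ (lamU f G V₄ (rsM G g₄ (rsM G g₃ (zz j))))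
        (res O_C F g₄ (res O_C F g₃ (sj j))) := by
    rw [map_sum]
    refine Finset.sum_congr rfl fun j _ => ?_
    rw [← lamU_res f G g₄]
    exact PT_map_pt' O_C (f.pull.obj G) F g₄ _ _
  rw [h8a, h8b, h6]
  exact map_zero (etaV O_C (f.pull.obj G) F V₄)

/-- **`G ↦ f^*G ⊗ F` is exact** when `F` satisfies the equational criterion over `f⁻¹O_D`. -/
theorem exact_pull_tensor_of_critF (HC : CritF f F) :
    PreservesFiniteLimits (f.pull ⋙ (ModSite.tensorBi O_C).flip.obj F) ∧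
      PreservesFiniteColimits (f.pull ⋙ (ModSite.tensorBi O_C).flip.obj F) := by
  haveI : PreservesColimitsOfSize.{u, u} f.pull := f.adj.leftAdjoint_preservesColimits
  haveI : f.pull.Additive := f.adj.left_adjoint_additive
  haveI : PreservesFiniteColimits (ModTensor3.tR O_C F) := tR_preservesFiniteColimits O_C F
  haveI : (ModTensor3.tR O_C F).Additive := tR_additive O_C F
  haveI : PreservesFiniteColimits (f.pull ⋙ ModTensor3.tR O_C F) := inferInstance
  haveI : (f.pull ⋙ ModTensor3.tR O_C F).Additive := inferInstance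
  refine ⟨?_, ‹_›⟩
  exact Groth.Agent.Lib.Helper21.FlatCalc.preservesFiniteLimits_of_mono
    (f.pull ⋙ ModTensor3.tR O_C F)
    (fun {X Y} φ hφ => @mono_pull_tensor _ _ _ _ _ _ _ _ f F HC X Y φ hφ)

end main

end

end Groth.Agent.Lib.Helper21.InvF
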