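import Mathlib
import Groth.Prelude.Def_ModSite
import Groth.Prelude.Def_ModSite2
import Groth.Agent.Lib.Helper21InvF17
import Groth.Agent.Lib.Helper21InvF18

/-!
# Helper21 InvF19: modules flat over the base of a morphism of ringed spaces

* `flat_matrix_crit_module`: the matrix equational criterion for a flat module.
* `gm`, `exists_common_gm`, `exists_common_gm_eq`: germs at the point of the site of opens given by
  a point of a topological space; finitely many germs / equalities spread out.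
-/

set_option autoImplicit false
universe u
open CategoryTheory CategoryTheory.Limits Opposite TopologicalSpace

namespace Groth.Agent.Lib.Helper21.InvF

open Groth.Agent.Lib.Helper21.EqCrit

/-- the matrix equational criterion for a flat module. -/
theorem flat_matrix_crit_module {A M : Type*} [CommRing A] [AddCommGroup M] [Module A M]
    [Module.Flat A M]
    {q n : ℕ} (α : Fin q → Fin n → A) (γ : Fin n → M)
    (hrel : ∀ r, ∑ i, α r i • γ i = 0) :
    ∃ (l : ℕ) (τ : Fin l → M) (β : Fin n → Fin l → A),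
      (∀ i, γ i = ∑ k, β i k • τ k) ∧ (∀ r k, ∑ i, β i k * α r i = 0) := by
  classical
  let fm : (Fin q →₀ A) →ₗ[A] (Fin n →₀ A) :=
    Finsupp.linearCombination A (fun r => Finsupp.equivFunOnFinite.symm (α r))
  let xm : (Fin n →₀ A) →ₗ[A] M := Finsupp.linearCombination A γ
  have h0 : xm ∘ₗ fm = 0 := by
    apply Finsupp.lhom_ext'
    intro r
    apply LinearMap.ext_ring
    simp only [fm, xm, LinearMap.coe_comp, Function.comp_apply, Finsupp.lsingle_apply,
      Finsupp.linearCombination_single, one_smul, LinearMap.zero_apply]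
    rw [Finsupp.linearCombination_apply, Finsupp.sum_fintype _ _ (by simp)]
    rw [← hrel r]
    rfl
  obtain ⟨l, am, ym, h1, h2⟩ := Module.Flat.exists_factorization_of_comp_eq_zero_of_free h0
  refine ⟨l, fun k => ym (Finsupp.single k 1), fun i k => am (Finsupp.single i 1) k, ?_, ?_⟩
  · intro i
    have e1 : γ i = xm (Finsupp.single i 1) := by
      simp only [xm, Finsupp.linearCombination_single, one_smul]
    rw [e1, h1, LinearMap.comp_apply]
    conv_lhs => rw [← Finsupp.sum_single (am (Finsupp.single i 1))]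
    rw [Finsupp.sum_fintype _ _ (by simp), map_sum]
    refine Finset.sum_congr rfl fun k _ => ?_
    have e2 : Finsupp.single k (am (Finsupp.single i 1) k) =
        (am (Finsupp.single i 1) k) • Finsupp.single k (1 : A) := by
      rw [Finsupp.smul_single, smul_eq_mul, mul_one]
    rw [e2, map_smul]
  · intro r k
    have e1 := LinearMap.congr_fun h2 (Finsupp.single r 1)
    simp only [fm, LinearMap.coe_comp, Function.comp_apply, Finsupp.linearCombination_single,
      one_smul, LinearMap.zero_apply] at e1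
    have e2 : (Finsupp.equivFunOnFinite.symm (α r) : Fin n →₀ A) =
        ∑ i, α r i • Finsupp.single i (1 : A) := by
      ext j
      simp [Finsupp.single_apply]
    rw [e2, map_sum] at e1
    have e3 := DFunLike.congr_fun e1 k
    rw [Finsupp.coe_finset_sum, Finset.sum_apply] at e3
    simp only [map_smul, Finsupp.coe_smul, Pi.smul_apply, smul_eq_mul, Finsupp.coe_zero,
      Pi.zero_apply] at e3
    rw [← e3]
    refine Finset.sum_congr rfl fun i _ => ?_
    rw [mul_comm]

section ptgerms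

variable {X : Type u} [TopologicalSpace X] (x : X)
  {A : Type (u + 1)} [Category.{u} A] {FC : A → A → Type*} {CC : A → Type u}
  [∀ X Y : A, FunLike (FC X Y) (CC X) (CC Y)] [ConcreteCategory.{u} A FC]
  [HasColimitsOfSize.{u, u} A] [PreservesFilteredColimitsOfSize.{u, u} (forget A)]
  (P : (Opens X)ᵒᵖ ⥤ A)

/-- the element of the fibre of the point `x` given by a neighbourhood. -/
def nb {W : Opens X} (hW : x ∈ W) : (Opens.pointGrothendieckTopology x).fiber.obj W := ⟨⟨hW⟩⟩

/-- the germ at `x` of a section over a neighbourhood. -/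
noncomputable def gm {W : Opens X} (hW : x ∈ W) (s : ToType (P.obj (op W))) :
    ToType ((Opens.pointGrothendieckTopology x).presheafFiber.obj P) :=
  (Opens.pointGrothendieckTopology x).toPresheafFiber W (nb x hW) P s

theorem gm_res {W W' : Opens X} (hW' : x ∈ W') (hle : W' ≤ W) (s : ToType (P.obj (op W))) :
    gm x P hW' (P.map (homOfLE hle).op s) = gm x P (hle hW') s :=
  (Opens.pointGrothendieckTopology x).toPresheafFiber_w_apply (homOfLE hle) (nb x hW') P s

theorem exists_gm (t : ToType ((Opens.pointGrothendieckTopology x).presheafFiber.obj P)) :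
    ∃ (W : Opens X) (hW : x ∈ W) (s : ToType (P.obj (op W))), gm x P hW s = t := by
  obtain ⟨W, w, z, hz⟩ := (Opens.pointGrothendieckTopology x).toPresheafFiber_jointly_surjective t
  exact ⟨W, w.down.down, z, hz⟩

/-- finitely many germs have representatives on a common neighbourhood. -/
theorem exists_common_gm_fin {W₀ : Opens X} (hW₀ : x ∈ W₀) :
    ∀ (n : ℕ) (t : Fin n → ToType ((Opens.pointGrothendieckTopology x).presheafFiber.obj P)),
      ∃ (W : Opens X) (hW : x ∈ W) (_ : W ≤ W₀) (s : Fin n → ToType (P.obj (op W))),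
        ∀ i, gm x P hW (s i) = t i
  | 0, _ => ⟨W₀, hW₀, le_rfl, fun i => i.elim0, fun i => i.elim0⟩
  | n + 1, t => by
    obtain ⟨W₁, hW₁, hle₁, s₁, hs₁⟩ := exists_common_gm_fin hW₀ n (fun i => t i.castSucc)
    obtain ⟨W₂, hW₂, s₂, hs₂⟩ := exists_gm x P (t (Fin.last n))
    refine ⟨W₁ ⊓ W₂, ⟨hW₁, hW₂⟩, inf_le_left.trans hle₁,
      Fin.lastCases (P.map (homOfLE (inf_le_right : W₁ ⊓ W₂ ≤ W₂)).op s₂)
        (fun i => P.map (homOfLE (inf_le_left : W₁ ⊓ W₂ ≤ W₁)).op (s₁ i)), ?_⟩
    intro i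
    refine Fin.lastCases ?_ (fun i => ?_) i
    · simp only [Fin.lastCases_last]
      rw [gm_res]
      exact hs₂
    · simp only [Fin.lastCases_castSucc]
      rw [gm_res]
      exact hs₁ i

theorem exists_common_gm {ι : Type*} [Fintype ι] {W₀ : Opens X} (hW₀ : x ∈ W₀)
    (t : ι → ToType ((Opens.pointGrothendieckTopology x).presheafFiber.obj P)) :
    ∃ (W : Opens X) (hW : x ∈ W) (_ : W ≤ W₀) (s : ι → ToType (P.obj (op W))),
      ∀ i, gm x P hW (s i) = t i := by
  obtain ⟨W, hW, hle, s, hs⟩ := exists_common_gm_fin x P hW₀ _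
    (fun j => t ((Fintype.equivFin ι).symm j))
  refine ⟨W, hW, hle, fun i => s (Fintype.equivFin ι i), fun i => ?_⟩
  rw [hs, Equiv.symm_apply_apply]

theorem exists_gm_eq {W₀ : Opens X} (hW₀ : x ∈ W₀) (s s' : ToType (P.obj (op W₀)))
    (h : gm x P hW₀ s = gm x P hW₀ s') :
    ∃ (W : Opens X) (_ : x ∈ W) (hle : W ≤ W₀),
      P.map (homOfLE hle).op s = P.map (homOfLE hle).op s' := by
  obtain ⟨W, g, w, -, hg⟩ :=
    ((Opens.pointGrothendieckTopology x).toPresheafFiber_eq_iff' W₀ (nb x hW₀) s s').1 h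
  exact ⟨W, w.down.down, g.le, hg⟩

/-- finitely many equalities of germs hold on a common neighbourhood. -/
theorem exists_common_gm_eq_fin {W₀ : Opens X} (hW₀ : x ∈ W₀) :
    ∀ (n : ℕ) (s s' : Fin n → ToType (P.obj (op W₀)))
      (_ : ∀ i, gm x P hW₀ (s i) = gm x P hW₀ (s' i)),
      ∃ (W : Opens X) (_ : x ∈ W) (hle : W ≤ W₀),
        ∀ i, P.map (homOfLE hle).op (s i) = P.map (homOfLE hle).op (s' i)
  | 0, _, _, _ => ⟨W₀, hW₀, le_rfl, fun i => i.elim0⟩
  | n + 1, s, s', h => by
    obtain ⟨W₁, hW₁, hle₁, h₁⟩ := exists_common_gm_eq_fin hW₀ n (fun i => s i.castSucc)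
      (fun i => s' i.castSucc) (fun i => h i.castSucc)
    obtain ⟨W₂, hW₂, hle₂, h₂⟩ := exists_gm_eq x P hW₀ _ _ (h (Fin.last n))
    refine ⟨W₁ ⊓ W₂, ⟨hW₁, hW₂⟩, inf_le_left.trans hle₁, ?_⟩
    intro i
    refine Fin.lastCases ?_ (fun i => ?_) i
    · have e : (homOfLE (inf_le_left.trans hle₁ : W₁ ⊓ W₂ ≤ W₀)).op =
          (homOfLE hle₂).op ≫ (homOfLE (inf_le_right : W₁ ⊓ W₂ ≤ W₂)).op := Subsingleton.elim _ _
      rw [e, P.map_comp, ConcreteCategory.comp_apply, ConcreteCategory.comp_apply, h₂]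
    · have e : (homOfLE (inf_le_left.trans hle₁ : W₁ ⊓ W₂ ≤ W₀)).op =
          (homOfLE hle₁).op ≫ (homOfLE (inf_le_left : W₁ ⊓ W₂ ≤ W₁)).op := Subsingleton.elim _ _
      rw [e, P.map_comp, ConcreteCategory.comp_apply, ConcreteCategory.comp_apply, h₁ i]

theorem exists_common_gm_eq {ι : Type*} [Fintype ι] {W₀ : Opens X} (hW₀ : x ∈ W₀)
    (s s' : ι → ToType (P.obj (op W₀)))
    (h : ∀ i, gm x P hW₀ (s i) = gm x P hW₀ (s' i)) :
    ∃ (W : Opens X) (_ : x ∈ W) (hle : W ≤ W₀),
      ∀ i, P.map (homOfLE hle).op (s i) = P.map (homOfLE hle).op (s' i) := by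
  obtain ⟨W, hW, hle, hs⟩ := exists_common_gm_eq_fin x P hW₀ _
    (fun j => s ((Fintype.equivFin ι).symm j)) (fun j => s' ((Fintype.equivFin ι).symm j))
    (fun j => h _)
  refine ⟨W, hW, hle, fun i => ?_⟩
  have := hs (Fintype.equivFin ι i)
  rw [Equiv.symm_apply_apply] at this
  exact this

end ptgerms

noncomputable section

section general

variable {C D : Type u} [SmallCategory C] [SmallCategory D] {J : GrothendieckTopology C}
  {K : GrothendieckTopology D} {O_C : Sheaf J CommRingCat.{u}} {O_D : Sheaf K CommRingCat.{u}}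
  (f : ModSite.RMor O_C O_D) (F : ModSite.Mod O_C)

/-- the data of the criterion `CritF` restricts. -/
theorem critF_data_res {U U' U'' : C} (h : U' ⟶ U) (h' : U'' ⟶ U') {q n : ℕ}
    (a : Fin q → Fin n → RU J K f.fn O_D U) (s : Fin n → F.val.obj (op U))
    (H : ∃ (l : ℕ) (t : Fin l → F.val.obj (op U')) (b : Fin n → Fin l → RU J K f.fn O_D U'),
      (∀ i, res O_C F h (s i) = ∑ k, iotaU f U' (b i k) • t k) ∧
      (∀ r k, ∑ i, b i k * rsR h (a r i) = 0)) :
    ∃ (l : ℕ) (t : Fin l → F.val.obj (op U'')) (b : Fin n → Fin l → RU J K f.fn O_D U''),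
      (∀ i, res O_C F (h' ≫ h) (s i) = ∑ k, iotaU f U'' (b i k) • t k) ∧
      (∀ r k, ∑ i, b i k * rsR (h' ≫ h) (a r i) = 0) := by
  obtain ⟨l, t, b, h1, h2⟩ := H
  refine ⟨l, fun k => res O_C F h' (t k), fun i k => rsR h' (b i k), ?_, ?_⟩
  · intro i
    rw [res_comp, h1, res_sum]
    refine Finset.sum_congr rfl fun k _ => ?_
    rw [res_smul, iotaU_res]
  · intro r k
    have e := congrArg (rsR (J := J) h') (h2 r k)
    rw [map_zero, map_sum] at e
    rw [← e]
    refine Finset.sum_congr rfl fun i _ => ?_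
    rw [map_mul, rsR_comp]

section stalk

variable (p : GrothendieckTopology.Point.{u} J)

/-- the stalk of `f⁻¹O_D ⟶ O_C` on germs. -/
theorem psi_germRing (W : C) (w : p.fiber.obj W) (b : f.invRing.obj.obj (op W)) :
    ((p.sheafFiber (A := CommRingCat.{u})).map f.invSharp).hom (ModSite.germRing p W w b) =
      ModSite.germRing p W w ((f.invSharp.hom.app (op W)).hom b) :=
  p.toPresheafFiber_naturality_apply f.invSharp.hom W w b

theorem germ_sum (W : C) (w : p.fiber.obj W) {ι : Type*} (t : Finset ι)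
    (s : ι → F.val.obj (op W)) :
    ModSite.germ p F W w (∑ i ∈ t, s i) = ∑ i ∈ t, ModSite.germ p F W w (s i) :=
  map_sum (p.toPresheafFiber W w (ModSite.toAb F).obj).hom s t

theorem germ_zero (W : C) (w : p.fiber.obj W) :
    ModSite.germ p F W w (0 : F.val.obj (op W)) = 0 :=
  map_zero (p.toPresheafFiber W w (ModSite.toAb F).obj).hom

omit [SmallCategory D] in
theorem germRing_sum (O : Sheaf J CommRingCat.{u}) (W : C) (w : p.fiber.obj W) {ι : Type*}
    (t : Finset ι) (s : ι → O.obj.obj (op W)) :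
    ModSite.germRing p W w (∑ i ∈ t, s i) = ∑ i ∈ t, ModSite.germRing p W w (s i) :=
  map_sum (p.toPresheafFiber W w O.obj).hom s t

omit [SmallCategory D] in
theorem germRing_zero (O : Sheaf J CommRingCat.{u}) (W : C) (w : p.fiber.obj W) :
    ModSite.germRing p W w (0 : O.obj.obj (op W)) = 0 :=
  map_zero (p.toPresheafFiber W w O.obj).hom

omit [SmallCategory D] in
theorem germRing_mul (O : Sheaf J CommRingCat.{u}) (W : C) (w : p.fiber.obj W)
    (r r' : O.obj.obj (op W)) :
    ModSite.germRing p W w (r * r') = ModSite.germRing p W w r * ModSite.germRing p W w r' :=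
  map_mul (p.toPresheafFiber W w O.obj).hom r r'

/-- a relation over `f⁻¹O_D` on sections gives a relation in the stalk. -/
theorem stalk_rel (W : C) (w : p.fiber.obj W) {n : ℕ} (a : Fin n → RU J K f.fn O_D W)
    (s : Fin n → F.val.obj (op W)) (hrel : ∑ i, iotaU f W (a i) • s i = 0) :
    letI : Module (ModSite.stalkRing p f.invRing) (ModSite.stalkAb p F) :=
      Module.compHom (ModSite.stalkAb p F)
        ((p.sheafFiber (A := CommRingCat.{u})).map f.invSharp).hom
    ∑ i, ModSite.germRing p W w (beU f W (a i)) • ModSite.germ p F W w (s i) = 0 := by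
  letI : Module (ModSite.stalkRing p f.invRing) (ModSite.stalkAb p F) :=
    Module.compHom (ModSite.stalkAb p F)
      ((p.sheafFiber (A := CommRingCat.{u})).map f.invSharp).hom
  have e : ∀ i, ModSite.germRing p W w (beU f W (a i)) • ModSite.germ p F W w (s i) =
      ModSite.germ p F W w (iotaU f W (a i) • s i) := by
    intro i
    rw [ModSite.germ_smul, ← invSharp_beU, ← psi_germRing]
    rfl
  rw [Finset.sum_congr rfl (fun i _ => e i), ← germ_sum, hrel, germ_zero]

end stalk

end general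

section top

variable {X Y : TopCat.{u}} (f : X ⟶ Y) (O_X : TopCat.Sheaf CommRingCat.{u} X)
  (O_Y : TopCat.Sheaf CommRingCat.{u} Y)
  (c : O_Y ⟶ ((Opens.map f).sheafPushforwardContinuous CommRingCat.{u}
    (Opens.grothendieckTopology Y) (Opens.grothendieckTopology X)).obj O_X)
  (F : ModSite.Mod O_X)

/-- **stalkwise flatness over the base gives the equational criterion `CritF`**. -/
theorem critF_top
    (hF : ∀ x : X, @Module.Flat
      (ModSite.stalkRing (Opens.pointGrothendieckTopology x) (FF f O_X O_Y c).invRing)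
      (ModSite.stalkAb (Opens.pointGrothendieckTopology x) F) _ _
      (Module.compHom (ModSite.stalkAb (Opens.pointGrothendieckTopology x) F)
        (((Opens.pointGrothendieckTopology x).sheafFiber (A := CommRingCat.{u})).map
          (FF f O_X O_Y c).invSharp).hom)) :
    CritF (FF f O_X O_Y c) F := by
  intro U q n a s hrel
  let 𝒻 := FF f O_X O_Y c
  let S : Sieve U :=
    { arrows := fun U' h => ∃ (l : ℕ) (t : Fin l → F.val.obj (op U'))
        (b : Fin n → Fin l → RU (Opens.grothendieckTopology X) (Opens.grothendieckTopology Y)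
          𝒻.fn O_Y U'),
        (∀ i, res O_X F h (s i) = ∑ k, iotaU 𝒻 U' (b i k) • t k) ∧
        (∀ r k, ∑ i, b i k * rsR h (a r i) = 0)
      downward_closed := fun {U' U''} h hh h' => critF_data_res 𝒻 F h h' a s hh }
  refine ⟨S, ?_, fun U' h hh => hh⟩
  rw [Opens.mem_grothendieckTopology]
  intro x hx
  let p := Opens.pointGrothendieckTopology x
  letI : Module (ModSite.stalkRing p 𝒻.invRing) (ModSite.stalkAb p F) :=
    Module.compHom (ModSite.stalkAb p F)
      ((p.sheafFiber (A := CommRingCat.{u})).map 𝒻.invSharp).hom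
  haveI : Module.Flat (ModSite.stalkRing p 𝒻.invRing) (ModSite.stalkAb p F) := hF x
  -- the data in the stalk
  let α : Fin q → Fin n → ModSite.stalkRing p 𝒻.invRing :=
    fun r i => ModSite.germRing p U (nb x hx) (beU 𝒻 U (a r i))
  let γ : Fin n → ModSite.stalkAb p F := fun i => ModSite.germ p F U (nb x hx) (s i)
  have hst : ∀ r, ∑ i, α r i • γ i = 0 :=
    fun r => stalk_rel 𝒻 F p U (nb x hx) (a r) s (hrel r)
  obtain ⟨l, τ, β, hγ, hβ⟩ := flat_matrix_crit_module α γ hst
  -- spreading out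
  obtain ⟨W₁, hW₁, hle₁, (β' : Fin n × Fin l → 𝒻.invRing.obj.obj (op W₁)), hβ'⟩ :=
    exists_common_gm x 𝒻.invRing.obj hx (fun pr : Fin n × Fin l => β pr.1 pr.2)
  obtain ⟨W₂, hW₂, hle₂, (τ' : Fin l → F.val.obj (op W₂)), hτ'⟩ :=
    exists_common_gm x (ModSite.toAb F).obj hW₁ τ
  have hle₂U : W₂ ≤ U := hle₂.trans hle₁
  let β₂ : Fin n → Fin l → 𝒻.invRing.obj.obj (op W₂) :=
    fun i k => (𝒻.invRing.obj.map (homOfLE hle₂).op).hom (β' (i, k))
  let a₂ : Fin q → Fin n → 𝒻.invRing.obj.obj (op W₂) :=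
    fun r i => (𝒻.invRing.obj.map (homOfLE hle₂U).op).hom (beU 𝒻 U (a r i))
  let s₂ : Fin n → F.val.obj (op W₂) := fun i => res O_X F (homOfLE hle₂U) (s i)
  have hβ₂ : ∀ i k, ModSite.germRing p W₂ (nb x hW₂) (β₂ i k) = β i k := by
    intro i k
    exact (gm_res x 𝒻.invRing.obj hW₂ hle₂ (β' (i, k))).trans (hβ' (i, k))
  have ha₂ : ∀ r i, ModSite.germRing p W₂ (nb x hW₂) (a₂ r i) = α r i := by
    intro r i
    exact gm_res x 𝒻.invRing.obj hW₂ hle₂U (beU 𝒻 U (a r i))
  have hs₂ : ∀ i, ModSite.germ p F W₂ (nb x hW₂) (s₂ i) = γ i := by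
    intro i
    exact gm_res x (ModSite.toAb F).obj hW₂ hle₂U (s i)
  have hτ₂ : ∀ k, ModSite.germ p F W₂ (nb x hW₂) (τ' k) = τ k := hτ'
  let sX' : Fin n → F.val.obj (op W₂) :=
    fun i => ∑ k, (𝒻.invSharp.hom.app (op W₂)).hom (β₂ i k) • τ' k
  have E1 : ∀ i, gm x (ModSite.toAb F).obj hW₂ (s₂ i) =
      gm x (ModSite.toAb F).obj hW₂ (sX' i) := by
    intro i
    change ModSite.germ p F W₂ (nb x hW₂) (s₂ i) = ModSite.germ p F W₂ (nb x hW₂) (sX' i)
    rw [hs₂, hγ i]
    simp only [sX']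
    rw [germ_sum]
    refine Finset.sum_congr rfl fun k _ => ?_
    rw [ModSite.germ_smul, ← psi_germRing, hβ₂, hτ₂]
    rfl
  let rY : Fin q × Fin l → 𝒻.invRing.obj.obj (op W₂) :=
    fun pr => ∑ i, β₂ i pr.2 * a₂ pr.1 i
  have E2 : ∀ pr, gm x 𝒻.invRing.obj hW₂ (rY pr) =
      gm x 𝒻.invRing.obj hW₂ (0 : 𝒻.invRing.obj.obj (op W₂)) := by
    intro pr
    change ModSite.germRing p W₂ (nb x hW₂) (rY pr) = ModSite.germRing p W₂ (nb x hW₂) 0
    simp only [rY]
    rw [germRing_sum, germRing_zero, ← hβ pr.1 pr.2]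
    refine Finset.sum_congr rfl fun i _ => ?_
    rw [germRing_mul, hβ₂, ha₂]
  obtain ⟨W₃, hW₃, hle₃, E1'⟩ := exists_common_gm_eq x (ModSite.toAb F).obj hW₂ s₂ sX' E1
  obtain ⟨W₄, hW₄, hle₄, E2'⟩ := exists_common_gm_eq x 𝒻.invRing.obj hW₂ rY (fun _ => 0) E2
  -- the data on `W₃ ⊓ W₄`
  have hWW₂ : W₃ ⊓ W₄ ≤ W₂ := inf_le_left.trans hle₃
  refine ⟨W₃ ⊓ W₄, homOfLE (hWW₂.trans hle₂U), ⟨l, fun k => res O_X F (homOfLE hWW₂) (τ' k),
    fun i k => alU 𝒻 (W₃ ⊓ W₄) ((𝒻.invRing.obj.map (homOfLE hWW₂).op).hom (β₂ i k)), ?_, ?_⟩,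
    ⟨hW₃, hW₄⟩⟩
  · intro i
    have e1 : res O_X F (homOfLE (hWW₂.trans hle₂U)) (s i) =
        res O_X F (homOfLE hWW₂) (s₂ i) := by
      simp only [s₂]
      rw [← res_comp]
      rfl
    have e2 : res O_X F (homOfLE hWW₂) (s₂ i) = res O_X F (homOfLE hWW₂) (sX' i) := by
      have e3 : (homOfLE hWW₂ : W₃ ⊓ W₄ ⟶ W₂) =
          homOfLE (inf_le_left : W₃ ⊓ W₄ ≤ W₃) ≫ homOfLE hle₃ := Subsingleton.elim _ _
      rw [e3, res_comp, res_comp]
      congr 1
      exact E1' i
    rw [e1, e2]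
    simp only [sX']
    rw [res_sum]
    refine Finset.sum_congr rfl fun k _ => ?_
    rw [res_smul, iotaU_alU]
    congr 1
    exact (ConcreteCategory.congr_hom (𝒻.invSharp.hom.naturality (homOfLE hWW₂).op)
      (β₂ i k)).symm
  · intro r k
    have e1 : ∀ i, rsR (homOfLE (hWW₂.trans hle₂U)) (a r i) =
        alU 𝒻 (W₃ ⊓ W₄) ((𝒻.invRing.obj.map (homOfLE hWW₂).op).hom (a₂ r i)) := by
      intro i
      have e0 : (𝒻.invRing.obj.map (homOfLE hWW₂).op).hom (a₂ r i) =
          beU 𝒻 (W₃ ⊓ W₄) (rsR (homOfLE (hWW₂.trans hle₂U)) (a r i)) := by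
        rw [← beU_res]
        simp only [a₂]
        have e : (homOfLE (hWW₂.trans hle₂U)).op =
            (homOfLE hle₂U).op ≫ (homOfLE hWW₂).op := Subsingleton.elim _ _
        rw [e, Functor.map_comp]
        rfl
      rw [e0, alU_beU]
    have e2 : ∑ i, alU 𝒻 (W₃ ⊓ W₄) ((𝒻.invRing.obj.map (homOfLE hWW₂).op).hom (β₂ i k)) *
        rsR (homOfLE (hWW₂.trans hle₂U)) (a r i) =
        alU 𝒻 (W₃ ⊓ W₄) ((𝒻.invRing.obj.map (homOfLE hWW₂).op).hom (rY (r, k))) := by
      simp only [rY]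
      rw [map_sum, map_sum]
      refine Finset.sum_congr rfl fun i _ => ?_
      rw [e1 i, map_mul, map_mul]
    rw [e2]
    have e3 : (𝒻.invRing.obj.map (homOfLE hWW₂).op).hom (rY (r, k)) = 0 := by
      have e4 : (homOfLE hWW₂).op =
          (homOfLE hle₄).op ≫ (homOfLE (inf_le_right : W₃ ⊓ W₄ ≤ W₄)).op :=
        Subsingleton.elim _ _
      rw [e4, Functor.map_comp]
      have e5 : (𝒻.invRing.obj.map (homOfLE hle₄).op).hom (rY (r, k)) =
          (𝒻.invRing.obj.map (homOfLE hle₄).op).hom 0 := E2' (r, k)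
      change (𝒻.invRing.obj.map (homOfLE (inf_le_right : W₃ ⊓ W₄ ≤ W₄)).op).hom
        ((𝒻.invRing.obj.map (homOfLE hle₄).op).hom (rY (r, k))) = 0
      rw [e5, map_zero, map_zero]
    rw [e3, map_zero]

/-- **`G ↦ f^*G ⊗ F` is exact for `F` flat over the base** (ringed spaces). -/
theorem exact_pull_tensor_top
    (hF : ∀ x : X, @Module.Flat
      (ModSite.stalkRing (Opens.pointGrothendieckTopology x) (FF f O_X O_Y c).invRing)
      (ModSite.stalkAb (Opens.pointGrothendieckTopology x) F) _ _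
      (Module.compHom (ModSite.stalkAb (Opens.pointGrothendieckTopology x) F)
        (((Opens.pointGrothendieckTopology x).sheafFiber (A := CommRingCat.{u})).map
          (FF f O_X O_Y c).invSharp).hom)) :
    PreservesFiniteLimits ((FF f O_X O_Y c).pull ⋙ (ModSite.tensorBi O_X).flip.obj F) ∧
      PreservesFiniteColimits ((FF f O_X O_Y c).pull ⋙ (ModSite.tensorBi O_X).flip.obj F) :=
  exact_pull_tensor_of_critF (FF f O_X O_Y c) F (critF_top f O_X O_Y c F hF)

end top

end

end Groth.Agent.Lib.Helper21.InvF
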