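import Groth.Agent.Lib.Helper8KoszLim2
import Groth.Prelude.Def_DerCA

/-!
# The iterated cone of localisation maps as a degreewise colimit of Koszul complexes (helper21)

* `Kinf M fs`: `M[0]` for the empty list, and for `f :: fs` the mapping cone of the termwise localisation map at `f`
  of `Kinf M fs` (the cone version of `DerCA.extCech`, living in degrees `-r, …, 0`).
* `θ M n fs : koszulCx M (fs.map (· ^ n)) ⟶ Kinf M fs`, compatible with `koszulTrans` (`θ_trans`).
* `IsDegColim`: a system of complexes with compatible maps to a complex, which is degreewise a colimit (elementwise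
  formulation), `IsDegColim.cone` (the cone step), `isDegColim_θ`.
-/

set_option autoImplicit false

namespace Groth.Agent.Lib.Helper21.KC

open CategoryTheory CategoryTheory.Limits CochainComplex HomComplex CohIII DerCA
open Groth.Agent.Lib.Helper21 Groth.Agent.Lib.Helper8KoszLim

universe u

variable {A : Type u} [CommRing A]

section Div

variable (f : A)

/-- `f ^ n` as an element of the submonoid of powers of `f`. -/
def powEl (n : ℕ) : Submonoid.powers f := ⟨f ^ n, n, rfl⟩

/-- `x ↦ x / f ^ n`. -/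
noncomputable def divLin (n : ℕ) (N : Type u) [AddCommGroup N] [Module A N] :
    N →ₗ[A] LocalizedModule (Submonoid.powers f) N :=
  (LocalizedModule.divBy (powEl f n)).comp (LocalizedModule.mkLinearMap (Submonoid.powers f) N)

lemma divLin_apply (n : ℕ) (N : Type u) [AddCommGroup N] [Module A N] (x : N) :
    divLin f n N x = LocalizedModule.mk x (powEl f n) := by
  unfold divLin
  rw [LinearMap.comp_apply, LocalizedModule.mkLinearMap_apply, LocalizedModule.divBy_apply,
    LocalizedModule.liftOn_mk, one_mul]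

lemma pow_smul_divLin (n : ℕ) (N : Type u) [AddCommGroup N] [Module A N] (x : N) :
    f ^ n • divLin f n N x = LocalizedModule.mk x 1 := by
  rw [divLin_apply, LocalizedModule.smul'_mk]
  exact LocalizedModule.mk_cancel (powEl f n) x

lemma pow_sub_smul_divLin (n m : ℕ) (h : n ≤ m) (N : Type u) [AddCommGroup N] [Module A N] (x : N) :
    f ^ (m - n) • divLin f m N x = divLin f n N x := by
  rw [divLin_apply, divLin_apply, LocalizedModule.smul'_mk, LocalizedModule.mk_eq]
  refine ⟨1, ?_⟩
  simp only [one_smul, Submonoid.smul_def, powEl, smul_smul]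
  congr 1
  rw [← pow_add]
  congr 1
  omega

lemma map_divLin (n : ℕ) {N N' : Type u} [AddCommGroup N] [Module A N] [AddCommGroup N'] [Module A N']
    (g : N →ₗ[A] N') (x : N) :
    IsLocalizedModule.map (Submonoid.powers f) (LocalizedModule.mkLinearMap (Submonoid.powers f) N)
      (LocalizedModule.mkLinearMap (Submonoid.powers f) N') g (divLin f n N x) = divLin f n N' (g x) := by
  have hinj := IsLocalizedModule.smul_injective (LocalizedModule.mkLinearMap (Submonoid.powers f) N')
    (powEl f n)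
  apply hinj
  simp only [Submonoid.smul_def, powEl]
  rw [← LinearMap.map_smul, pow_smul_divLin, pow_smul_divLin, ← LocalizedModule.mkLinearMap_apply,
    IsLocalizedModule.map_apply, LocalizedModule.mkLinearMap_apply]

/-- the chain map `K ⟶ K_f`, `x ↦ x / f ^ n`. -/
noncomputable def divCx (n : ℕ) (K : DRing.Cx A) : K ⟶ (locCx (Submonoid.powers f)).obj K where
  f i := ModuleCat.ofHom (divLin f n (K.X i))
  comm' i j _ := by
    ext x
    exact map_divLin f n (K.d i j).hom x

lemma divCx_f_apply (n : ℕ) (K : DRing.Cx A) (i : ℤ) (x : K.X i) :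
    ((divCx f n K).f i).hom x = LocalizedModule.mk x (powEl f n) := divLin_apply f n _ x

lemma smul_comp_divCx (n : ℕ) (K : DRing.Cx A) :
    (f ^ n • 𝟙 K) ≫ divCx f n K = locCxUnit (Submonoid.powers f) K := by
  ext i x
  change divLin f n (K.X i) (f ^ n • x) = LocalizedModule.mk x 1
  rw [LinearMap.map_smul, pow_smul_divLin]

lemma pow_sub_smul_divCx (n m : ℕ) (h : n ≤ m) (K : DRing.Cx A) :
    f ^ (m - n) • divCx f m K = divCx f n K := by
  ext i x
  exact pow_sub_smul_divLin f n m h (K.X i) x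

end Div

/-- the iterated cone of localisation maps. -/
noncomputable def Kinf (M : ModuleCat.{u} A) : List A → DRing.Cx A
  | [] => (HomologicalComplex.single (ModuleCat.{u} A) (ComplexShape.up ℤ) 0).obj M
  | f :: fs => mappingCone (locCxUnit (Submonoid.powers f) (Kinf M fs))

lemma Kinf_cons (M : ModuleCat.{u} A) (f : A) (fs : List A) :
    Kinf M (f :: fs) = mappingCone (locCxUnit (Submonoid.powers f) (Kinf M fs)) := rfl

/-- the comparison map from the Koszul complex of the `n`-th powers. -/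
noncomputable def θ (M : ModuleCat.{u} A) (n : ℕ) : ∀ fs : List A, Kp M fs n ⟶ Kinf M fs
  | [] => 𝟙 _
  | f :: fs => mappingCone.map (f ^ n • 𝟙 (Kp M fs n)) (locCxUnit (Submonoid.powers f) (Kinf M fs))
      (θ M n fs) (θ M n fs ≫ divCx f n (Kinf M fs)) (by
        rw [Linear.smul_comp, Category.id_comp, ← smul_comp_divCx f n (Kinf M fs)]
        simp only [Linear.smul_comp, Linear.comp_smul, Category.id_comp])

lemma θ_trans (M : ModuleCat.{u} A) (n m : ℕ) (h : n ≤ m) :
    ∀ fs : List A, koszulTrans M n m h fs ≫ θ M m fs = θ M n fs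
  | [] => by
    show 𝟙 (koszulCx M []) ≫ 𝟙 _ = 𝟙 _
    exact Category.id_comp _
  | f :: fs => by
    have ih := θ_trans M n m h fs
    show mappingCone.map _ _ _ _ _ ≫ mappingCone.map _ _ _ _ _ = mappingCone.map _ _ _ _ _
    rw [← mappingCone.map_comp]
    apply Groth.Agent.Lib.Helper8KoszLim.map_congr
    · exact ih
    · rw [Linear.smul_comp, ← Category.assoc, ih, ← pow_sub_smul_divCx f n m h (Kinf M fs),
        Linear.comp_smul]


section DegColim

variable (S : ℕ → DRing.Cx A) (t : ∀ n m : ℕ, n ≤ m → (S n ⟶ S m)) (T : DRing.Cx A)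
  (θ' : ∀ n, S n ⟶ T)

/-- `(S, t)` is a directed system of complexes, `θ'` a compatible family of maps to `T`, and degreewise `T` is the
colimit (elementwise formulation). -/
structure IsDegColim : Prop where
  t_id : ∀ n, t n n le_rfl = 𝟙 _
  t_comp : ∀ n m k (h₁ : n ≤ m) (h₂ : m ≤ k), t n m h₁ ≫ t m k h₂ = t n k (h₁.trans h₂)
  compat : ∀ n m (h : n ≤ m), t n m h ≫ θ' m = θ' n
  surj : ∀ (q : ℤ) (z : T.X q), ∃ (n : ℕ) (x : (S n).X q), ((θ' n).f q).hom x = z
  inj : ∀ (q : ℤ) (n : ℕ) (x : (S n).X q), ((θ' n).f q).hom x = 0 →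
    ∃ (m : ℕ) (h : n ≤ m), ((t n m h).f q).hom x = 0

variable {S t T θ'}

lemma IsDegColim.t_comp_apply (h : IsDegColim S t T θ') (n m k : ℕ) (h₁ : n ≤ m) (h₂ : m ≤ k) (q : ℤ)
    (x : (S n).X q) :
    ((t m k h₂).f q).hom (((t n m h₁).f q).hom x) = ((t n k (h₁.trans h₂)).f q).hom x := by
  rw [← h.t_comp n m k h₁ h₂]
  rfl

lemma IsDegColim.compat_apply (h : IsDegColim S t T θ') (n m : ℕ) (h₁ : n ≤ m) (q : ℤ)
    (x : (S n).X q) :
    ((θ' m).f q).hom (((t n m h₁).f q).hom x) = ((θ' n).f q).hom x := by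
  rw [← h.compat n m h₁]
  rfl

variable (f : A)

/-- the transition maps of the cone system. -/
noncomputable def coneT (n m : ℕ) (hnm : n ≤ m) :
    mappingCone (f ^ n • 𝟙 (S n)) ⟶ mappingCone (f ^ m • 𝟙 (S m)) :=
  mappingCone.map _ _ (t n m hnm) (f ^ (m - n) • t n m hnm) (by
    simp only [Linear.smul_comp, Linear.comp_smul, Category.id_comp, Category.comp_id, smul_smul,
      ← pow_add, Nat.sub_add_cancel hnm])

/-- the comparison maps of the cone system. -/
noncomputable def coneθ (n : ℕ) :
    mappingCone (f ^ n • 𝟙 (S n)) ⟶ mappingCone (locCxUnit (Submonoid.powers f) T) :=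
  mappingCone.map _ _ (θ' n) (θ' n ≫ divCx f n T) (by
    rw [Linear.smul_comp, Category.id_comp, ← smul_comp_divCx f n T]
    simp only [Linear.smul_comp, Linear.comp_smul, Category.id_comp])

lemma exists_mk {R : Type*} [CommRing R] {P : Submonoid R} {N : Type*} [AddCommGroup N] [Module R N]
    (v : LocalizedModule P N) : ∃ (w : N) (s : P), v = LocalizedModule.mk w s := by
  induction v using LocalizedModule.induction_on with
  | h m s => exact ⟨m, s, rfl⟩

lemma cfst_coneθ (n : ℕ) (q : ℤ) (x : (mappingCone (f ^ n • 𝟙 (S n))).X q) :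
    cfst (locCxUnit (Submonoid.powers f) T) q (((coneθ (θ' := θ') f n).f q).hom x) =
      ((θ' n).f (q + 1)).hom (cfst (f ^ n • 𝟙 (S n)) q x) := by
  unfold coneθ
  rw [cfst_map]

lemma csnd_coneθ (n : ℕ) (q : ℤ) (x : (mappingCone (f ^ n • 𝟙 (S n))).X q) :
    csnd (locCxUnit (Submonoid.powers f) T) q (((coneθ (θ' := θ') f n).f q).hom x) =
      ((divCx f n T).f q).hom (((θ' n).f q).hom (csnd (f ^ n • 𝟙 (S n)) q x)) := by
  unfold coneθ
  rw [csnd_map]
  rfl

lemma cfst_coneT (n m : ℕ) (hnm : n ≤ m) (q : ℤ) (x : (mappingCone (f ^ n • 𝟙 (S n))).X q) :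
    cfst (f ^ m • 𝟙 (S m)) q (((coneT (t := t) f n m hnm).f q).hom x) =
      ((t n m hnm).f (q + 1)).hom (cfst (f ^ n • 𝟙 (S n)) q x) := by
  unfold coneT
  rw [cfst_map]

lemma csnd_coneT (n m : ℕ) (hnm : n ≤ m) (q : ℤ) (x : (mappingCone (f ^ n • 𝟙 (S n))).X q) :
    csnd (f ^ m • 𝟙 (S m)) q (((coneT (t := t) f n m hnm).f q).hom x) =
      f ^ (m - n) • ((t n m hnm).f q).hom (csnd (f ^ n • 𝟙 (S n)) q x) := by
  unfold coneT
  rw [csnd_map]
  rfl

theorem IsDegColim.cone (h : IsDegColim S t T θ') :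
    IsDegColim (fun n => mappingCone (f ^ n • 𝟙 (S n))) (coneT (t := t) f)
      (mappingCone (locCxUnit (Submonoid.powers f) T)) (coneθ (θ' := θ') f) where
  t_id n := by
    unfold coneT
    refine (Groth.Agent.Lib.Helper8KoszLim.map_congr _ _ (h.t_id n)
      (by rw [h.t_id n, Nat.sub_self, pow_zero, one_smul]) _
      (by rw [Category.id_comp, Category.comp_id])).trans (mappingCone.map_id _)
  t_comp n m k h₁ h₂ := by
    unfold coneT
    rw [← mappingCone.map_comp]
    apply Groth.Agent.Lib.Helper8KoszLim.map_congr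
    · exact h.t_comp n m k h₁ h₂
    · rw [Linear.smul_comp, Linear.comp_smul, smul_smul, h.t_comp n m k h₁ h₂, ← pow_add]
      congr 2
      omega
  compat n m hnm := by
    unfold coneT coneθ
    rw [← mappingCone.map_comp]
    apply Groth.Agent.Lib.Helper8KoszLim.map_congr
    · exact h.compat n m hnm
    · rw [Linear.smul_comp, ← Category.assoc, h.compat n m hnm, ← pow_sub_smul_divCx f n m hnm T,
        Linear.comp_smul]
  surj q z := by
    obtain ⟨n1, x1, hx1⟩ := h.surj (q + 1) (cfst (locCxUnit (Submonoid.powers f) T) q z)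
    obtain ⟨w, s, hv⟩ := exists_mk (P := Submonoid.powers f) (N := T.X q)
      (csnd (locCxUnit (Submonoid.powers f) T) q z)
    obtain ⟨k, hk⟩ := s.2
    obtain ⟨n2, y2, hy2⟩ := h.surj q w
    let N := max n1 (max n2 k)
    have h1 : n1 ≤ N := le_max_left _ _
    have h2 : n2 ≤ N := (le_max_left _ _).trans (le_max_right _ _)
    have h3 : k ≤ N := (le_max_right _ _).trans (le_max_right _ _)
    refine ⟨N, cinl (f ^ N • 𝟙 (S N)) q (((t n1 N h1).f (q + 1)).hom x1) +
      cinr (f ^ N • 𝟙 (S N)) q (f ^ (N - k) • ((t n2 N h2).f q).hom y2), ?_⟩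
    apply cone_ext (locCxUnit (Submonoid.powers f) T) q
    · rw [cfst_coneθ, map_add, cfst_cinl, cfst_cinr, add_zero, h.compat_apply, hx1]
    · rw [csnd_coneθ, map_add, csnd_cinl, csnd_cinr, zero_add, hv, divCx_f_apply,
        LinearMap.map_smul, h.compat_apply, hy2]
      refine LocalizedModule.mk_eq.mpr ⟨1, ?_⟩
      simp only [one_smul, Submonoid.smul_def, powEl, smul_smul, ← hk]
      congr 1
      rw [← pow_add]
      congr 1
      omega
  inj q n x hx := by
    have ha : ((θ' n).f (q + 1)).hom (cfst (f ^ n • 𝟙 (S n)) q x) = 0 := by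
      rw [← cfst_coneθ, hx, map_zero]
    have hb : ((divCx f n T).f q).hom (((θ' n).f q).hom (csnd (f ^ n • 𝟙 (S n)) q x)) = 0 := by
      rw [← csnd_coneθ, hx, map_zero]
    rw [divCx_f_apply] at hb
    obtain ⟨⟨c, k, hk⟩, hc⟩ := LocalizedModule.mk_eq.mp
      (hb.trans (LocalizedModule.zero_mk (1 : Submonoid.powers f)).symm)
    simp only [one_smul, smul_zero, Submonoid.smul_def, powEl] at hc
    have hc' : ((θ' n).f q).hom (f ^ k • csnd (f ^ n • 𝟙 (S n)) q x) = 0 := by
      rw [LinearMap.map_smul]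
      have hk' : f ^ k = c := hk
      rw [hk']
      exact hc
    obtain ⟨m1, hm1, e1⟩ := h.inj (q + 1) n _ ha
    obtain ⟨m2, hm2, e2⟩ := h.inj q n _ hc'
    let m := max m1 (m2 + k)
    have l1 : m1 ≤ m := le_max_left _ _
    have l2 : m2 ≤ m := (Nat.le_add_right _ _).trans (le_max_right _ _)
    have l3 : m2 + k ≤ m := le_max_right _ _
    have l0 : n ≤ m := hm1.trans l1
    refine ⟨m, l0, ?_⟩
    apply cone_ext (f ^ m • 𝟙 (S m)) q
    · rw [cfst_coneT, map_zero, ← h.t_comp_apply n m1 m hm1 l1, e1, map_zero]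
    · rw [csnd_coneT, map_zero]
      have e : m - n = (m - n - k) + k := by omega
      rw [e, pow_add, mul_smul, ← LinearMap.map_smul, ← h.t_comp_apply n m2 m hm2 l2, e2, map_zero,
        smul_zero]

end DegColim

/-- the Koszul complexes of the powers have `Kinf` as degreewise colimit. -/
theorem isDegColim_θ (M : ModuleCat.{u} A) :
    ∀ fs : List A, IsDegColim (fun n => Kp M fs n) (fun n m h => koszulTrans M n m h fs)
      (Kinf M fs) (fun n => θ M n fs)
  | [] =>
    { t_id := fun n => rfl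
      t_comp := fun n m k h₁ h₂ => Category.id_comp _
      compat := fun n m h => Category.id_comp _
      surj := fun q z => ⟨0, z, rfl⟩
      inj := fun q n x hx => ⟨n, le_rfl, hx⟩ }
  | f :: fs => (isDegColim_θ M fs).cone f

end Groth.Agent.Lib.Helper21.KC
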