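import Groth.Agent.Lib.Helper21KC1

/-!
# Homology of a degreewise colimit of complexes of modules (helper21)

* `IsDegColim.homologyLift_bijective`: for a system of complexes with degreewise colimit `T`, the homology of `T` is
  the direct limit of the homologies.
* `koszulHLimEquiv`: `CohIII.koszulHLim fs M p ≃ₗ (Kinf M fs).homology (p - r)`.
-/

set_option autoImplicit false

namespace Groth.Agent.Lib.Helper21.KC

open CategoryTheory CategoryTheory.Limits CochainComplex HomComplex CohIII DerCA
open Groth.Agent.Lib.Helper21 Groth.Agent.Lib.Helper8KoszLim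

universe u

variable {A : Type u} [CommRing A]

section HomologyElem

variable (K : DRing.Cx A) (i : ℤ)

lemma exists_cycle (x : K.X i) (hx : (K.d i (i + 1)).hom x = 0) :
    ∃ z : K.cycles i, (K.iCycles i).hom z = x := by
  have h : (ShortComplex.mk (K.iCycles i) (K.d i (i + 1)) (K.iCycles_d i (i + 1))).Exact :=
    ShortComplex.exact_of_f_is_kernel _ (K.cyclesIsKernel i (i + 1) (by simp))
  rw [ShortComplex.moduleCat_exact_iff] at h
  exact h x hx

lemma iCycles_injective : Function.Injective (K.iCycles i).hom :=
  (ModuleCat.mono_iff_injective (K.iCycles i)).1 inferInstance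

lemma homologyπ_surjective : Function.Surjective (K.homologyπ i).hom :=
  (ModuleCat.epi_iff_surjective (K.homologyπ i)).1 inferInstance

lemma exists_of_homologyπ_eq_zero (z : K.cycles i) (hz : (K.homologyπ i).hom z = 0) :
    ∃ w : K.X (i - 1), (K.toCycles (i - 1) i).hom w = z := by
  have h : (ShortComplex.mk (K.toCycles (i - 1) i) (K.homologyπ i)
      (K.toCycles_comp_homologyπ (i - 1) i)).Exact :=
    ShortComplex.exact_of_g_is_cokernel _ (K.homologyIsCokernel (i - 1) i (by simp))
  rw [ShortComplex.moduleCat_exact_iff] at h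
  exact h z hz

lemma iCycles_toCycles (w : K.X (i - 1)) :
    (K.iCycles i).hom ((K.toCycles (i - 1) i).hom w) = (K.d (i - 1) i).hom w :=
  congrArg (fun t => t.hom w) (K.toCycles_i (i - 1) i)

lemma homologyπ_toCycles (w : K.X (i - 1)) :
    (K.homologyπ i).hom ((K.toCycles (i - 1) i).hom w) = 0 :=
  congrArg (fun t => t.hom w) (K.toCycles_comp_homologyπ (i - 1) i)

lemma d_iCycles (z : K.cycles i) : (K.d i (i + 1)).hom ((K.iCycles i).hom z) = 0 :=
  congrArg (fun t => t.hom z) (K.iCycles_d i (i + 1))

variable {K} {L : DRing.Cx A} (φ : K ⟶ L)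

lemma iCycles_cyclesMap (z : K.cycles i) :
    (L.iCycles i).hom ((HomologicalComplex.cyclesMap φ i).hom z) = (φ.f i).hom ((K.iCycles i).hom z) :=
  congrArg (fun t => t.hom z) (HomologicalComplex.cyclesMap_i φ i)

lemma homologyMap_homologyπ (z : K.cycles i) :
    (HomologicalComplex.homologyMap φ i).hom ((K.homologyπ i).hom z) =
      (L.homologyπ i).hom ((HomologicalComplex.cyclesMap φ i).hom z) :=
  congrArg (fun t => t.hom z) (HomologicalComplex.homologyπ_naturality φ i)

lemma f_d (p q : ℤ) (x : K.X p) :
    (φ.f q).hom ((K.d p q).hom x) = (L.d p q).hom ((φ.f p).hom x) :=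
  (congrArg (fun t => t.hom x) (φ.comm p q)).symm

end HomologyElem

section

variable {S : ℕ → DRing.Cx A} {t : ∀ n m : ℕ, n ≤ m → (S n ⟶ S m)} {T : DRing.Cx A}
  {θ' : ∀ n, S n ⟶ T}

lemma IsDegColim.directedSystem (h : IsDegColim S t T θ') (j : ℤ) :
    DirectedSystem (fun n : ℕ => ((S n).homology j : Type u))
      (fun n m hnm => (HomologicalComplex.homologyMap (t n m hnm) j).hom) where
  map_self n x := by
    show (HomologicalComplex.homologyMap (t n n le_rfl) j).hom x = x
    rw [h.t_id, HomologicalComplex.homologyMap_id]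
    rfl
  map_map k m n hnm hmk x := by
    have := congrArg (fun φ => HomologicalComplex.homologyMap φ j) (h.t_comp n m k hnm hmk)
    simp only [HomologicalComplex.homologyMap_comp] at this
    exact LinearMap.congr_fun (congrArg ModuleCat.Hom.hom this) x

/-- the comparison map from the direct limit of the homologies. -/
noncomputable def IsDegColim.homologyLift (h : IsDegColim S t T θ') (j : ℤ) :
    Module.DirectLimit (fun n : ℕ => ((S n).homology j : Type u))
      (fun n m hnm => (HomologicalComplex.homologyMap (t n m hnm) j).hom) →ₗ[A] T.homology j :=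
  Module.DirectLimit.lift A ℕ _ _ (fun n => (HomologicalComplex.homologyMap (θ' n) j).hom)
    (fun n m hnm x => by
      have := congrArg (fun φ => HomologicalComplex.homologyMap φ j) (h.compat n m hnm)
      simp only [HomologicalComplex.homologyMap_comp] at this
      exact LinearMap.congr_fun (congrArg ModuleCat.Hom.hom this) x)

lemma IsDegColim.homologyLift_of (h : IsDegColim S t T θ') (j : ℤ) (n : ℕ) (y : (S n).homology j) :
    h.homologyLift j (Module.DirectLimit.of A ℕ _ _ n y) =
      (HomologicalComplex.homologyMap (θ' n) j).hom y := by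
  unfold IsDegColim.homologyLift
  exact Module.DirectLimit.lift_of _ _ _

theorem IsDegColim.homologyLift_surjective (h : IsDegColim S t T θ') (j : ℤ) :
    Function.Surjective (h.homologyLift j) := by
  intro y
  obtain ⟨z, rfl⟩ := homologyπ_surjective T j y
  obtain ⟨n, xn, hxn⟩ := h.surj j ((T.iCycles j).hom z)
  have e1 : ((θ' n).f (j + 1)).hom (((S n).d j (j + 1)).hom xn) = 0 := by
    rw [f_d, hxn]
    exact d_iCycles T j z
  obtain ⟨m, hnm, hm⟩ := h.inj (j + 1) n _ e1
  rw [f_d] at hm
  obtain ⟨zm, hzm⟩ := exists_cycle (S m) j _ hm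
  refine ⟨Module.DirectLimit.of A ℕ _ _ m (((S m).homologyπ j).hom zm), ?_⟩
  rw [h.homologyLift_of, homologyMap_homologyπ]
  have hz : (HomologicalComplex.cyclesMap (θ' m) j).hom zm = z := by
    apply iCycles_injective T j
    rw [iCycles_cyclesMap, hzm, h.compat_apply, hxn]
  rw [hz]

theorem IsDegColim.homologyLift_injective (h : IsDegColim S t T θ') (j : ℤ) :
    Function.Injective (h.homologyLift j) := by
  haveI := h.directedSystem j
  rw [injective_iff_map_eq_zero]
  intro w hw
  obtain ⟨n, yn, rfl⟩ := Module.DirectLimit.exists_of w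
  rw [h.homologyLift_of] at hw
  obtain ⟨zn, rfl⟩ := homologyπ_surjective (S n) j yn
  rw [homologyMap_homologyπ] at hw
  obtain ⟨u, hu⟩ := exists_of_homologyπ_eq_zero T j _ hw
  have hdu : (T.d (j - 1) j).hom u = ((θ' n).f j).hom (((S n).iCycles j).hom zn) := by
    rw [← iCycles_toCycles, hu, iCycles_cyclesMap]
  obtain ⟨k, uk, huk⟩ := h.surj (j - 1) u
  let l := max n k
  have hnl : n ≤ l := le_max_left _ _
  have hkl : k ≤ l := le_max_right _ _
  set xn := ((S n).iCycles j).hom zn with hxn
  have he : ((θ' l).f j).hom (((t n l hnl).f j).hom xn -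
      ((S l).d (j - 1) j).hom (((t k l hkl).f (j - 1)).hom uk)) = 0 := by
    rw [map_sub, h.compat_apply, f_d, h.compat_apply, huk]
    exact sub_eq_zero.2 hdu.symm
  obtain ⟨m, hlm, hm⟩ := h.inj j l _ he
  rw [map_sub, sub_eq_zero, h.t_comp_apply, f_d, h.t_comp_apply] at hm
  have hzero : (HomologicalComplex.homologyMap (t n m (hnl.trans hlm)) j).hom
      (((S n).homologyπ j).hom zn) = 0 := by
    rw [homologyMap_homologyπ]
    have hz : (HomologicalComplex.cyclesMap (t n m (hnl.trans hlm)) j).hom zn =
        ((S m).toCycles (j - 1) j).hom (((t k m (hkl.trans hlm)).f (j - 1)).hom uk) := by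
      apply iCycles_injective
      rw [iCycles_cyclesMap, iCycles_toCycles]
      exact hm
    rw [hz, homologyπ_toCycles]
  have key := Module.DirectLimit.of_f (R := A) (ι := ℕ)
    (G := fun n : ℕ => ((S n).homology j : Type u))
    (f := fun n m hnm => (HomologicalComplex.homologyMap (t n m hnm) j).hom) (i := n) (j := m)
    (hij := hnl.trans hlm) (x := ((S n).homologyπ j).hom zn)
  refine key.symm.trans ?_
  refine (congrArg (Module.DirectLimit.of A ℕ (fun n : ℕ => ((S n).homology j : Type u))
    (fun n m hnm => (HomologicalComplex.homologyMap (t n m hnm) j).hom) m) hzero).trans ?_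
  exact map_zero _

/-- the homology of a degreewise colimit is the direct limit of the homologies. -/
noncomputable def IsDegColim.homologyEquiv (h : IsDegColim S t T θ') (j : ℤ) :
    Module.DirectLimit (fun n : ℕ => ((S n).homology j : Type u))
      (fun n m hnm => (HomologicalComplex.homologyMap (t n m hnm) j).hom) ≃ₗ[A] T.homology j :=
  LinearEquiv.ofBijective (h.homologyLift j) ⟨h.homologyLift_injective j, h.homologyLift_surjective j⟩

end

/-- the colimit of the Koszul cohomologies of the powers is the cohomology of `Kinf`. -/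
noncomputable def koszulHLimEquiv (fs : List A) (M : ModuleCat.{u} A) (p : ℕ) :
    koszulHLim fs M p ≃ₗ[A] (Kinf M fs).homology ((p : ℤ) - fs.length) :=
  (isDegColim_θ M fs).homologyEquiv ((p : ℤ) - fs.length)

/-- every class of `Kinf` comes from a Koszul complex of powers. -/
lemma exists_koszul_class (fs : List A) (M : ModuleCat.{u} A) (j : ℤ) (y : (Kinf M fs).homology j) :
    ∃ (n : ℕ) (x : (Kp M fs n).homology j), (HomologicalComplex.homologyMap (θ M n fs) j).hom x = y := by
  obtain ⟨w, hw⟩ := (isDegColim_θ M fs).homologyLift_surjective j y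
  haveI := (isDegColim_θ M fs).directedSystem j
  obtain ⟨n, x, rfl⟩ := Module.DirectLimit.exists_of w
  exact ⟨n, x, ((isDegColim_θ M fs).homologyLift_of j n x).symm.trans hw⟩

end Groth.Agent.Lib.Helper21.KC
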