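import Groth.Agent.Lib.Helper21KC2
import Groth.Agent.Lib.Helper21KoszulDepth
import Groth.Agent.S14433

/-!
# Properties of `Kinf` (helper21)

* `pt_homology_Kinf`: the cohomology of `Kinf M fs` is `g`-power torsion for every `g ∈ fs`.
* `isZero_Kinf_X_pos`, `isZero_Kinf_X_neg`: `Kinf M fs` lives in degrees `[-r, 0]`.
* `Kinf_X_induction`: the terms in degrees `≠ -r` are built from localisations at elements of `fs` by biproducts.
* `nonempty_Kinf_X_bot_iso`: the term in degree `-r` is `M`.
-/

set_option autoImplicit false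

namespace Groth.Agent.Lib.Helper21.KC

open CategoryTheory CategoryTheory.Limits CochainComplex HomComplex CohIII DerCA
open Groth.Agent.Lib.Helper21 Groth.Agent.Lib.Helper8KoszLim

universe u

variable {A : Type u} [CommRing A]

/-- elements of the list kill the Koszul cohomology -/
lemma smul_koszul_homology (M : ModuleCat.{u} A) (xs : List A) (a : A) (ha : a ∈ xs) (j : ℤ)
    (x : (koszulCx M xs).homology j) : a • x = 0 := by
  have H : Nonempty (Homotopy (a • 𝟙 (koszulCx M xs)) 0) :=
    Groth.Agent.S14433.result (R := A) M xs a (Ideal.subset_span ha)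
  have h1 := smul_homology_eq_zero M xs a H j
  rw [homologyMap_smul', HomologicalComplex.homologyMap_id] at h1
  have := congrArg (fun t => t.hom x) h1
  exact this

/-- the cohomology of `Kinf M fs` is `g`-power torsion for `g ∈ fs`. -/
theorem pt_homology_Kinf (M : ModuleCat.{u} A) (fs : List A) (g : A) (hg : g ∈ fs) (j : ℤ)
    (y : (Kinf M fs).homology j) : ∃ n : ℕ, g ^ n • y = 0 := by
  obtain ⟨n, x, rfl⟩ := exists_koszul_class fs M j y
  refine ⟨n, ?_⟩
  rw [← LinearMap.map_smul]
  have : g ^ n • x = 0 :=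
    smul_koszul_homology M (fs.map (· ^ n)) (g ^ n) (List.mem_map.2 ⟨g, hg, rfl⟩) j x
  rw [this, map_zero]

lemma isZero_Kinf_X_pos (M : ModuleCat.{u} A) :
    ∀ (fs : List A) (n : ℤ), 0 < n → IsZero ((Kinf M fs).X n)
  | [], n, hn => HomologicalComplex.isZero_single_obj_X (ComplexShape.up ℤ) 0 M n hn.ne'
  | f :: fs, n, hn => by
    show IsZero ((mappingCone (locCxUnit (Submonoid.powers f) (Kinf M fs))).X n)
    rw [mappingCone.isZero_X_iff]
    exact ⟨isZero_Kinf_X_pos M fs (n + 1) (by omega),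
      (locFunctor (Submonoid.powers f)).map_isZero (isZero_Kinf_X_pos M fs n hn)⟩

lemma isZero_Kinf_X_neg (M : ModuleCat.{u} A) :
    ∀ (fs : List A) (n : ℤ), n < -(fs.length : ℤ) → IsZero ((Kinf M fs).X n)
  | [], n, hn => HomologicalComplex.isZero_single_obj_X (ComplexShape.up ℤ) 0 M n (by
      simp at hn; omega)
  | f :: fs, n, hn => by
    show IsZero ((mappingCone (locCxUnit (Submonoid.powers f) (Kinf M fs))).X n)
    rw [mappingCone.isZero_X_iff]
    simp only [List.length_cons, Nat.cast_add, Nat.cast_one] at hn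
    exact ⟨isZero_Kinf_X_neg M fs (n + 1) (by omega),
      (locFunctor (Submonoid.powers f)).map_isZero (isZero_Kinf_X_neg M fs n (by omega))⟩

/-- the terms of the cone. -/
noncomputable def coneXIso {K L : DRing.Cx A} (φ : K ⟶ L) (q : ℤ) :
    (mappingCone φ).X q ≅ K.X (q + 1) ⊞ L.X q :=
  HomologicalComplex.homotopyCofiber.XIsoBiprod φ q (q + 1) rfl

/-- the terms of `Kinf` in degrees `≠ -r` are built from localisations at elements of the list. -/
theorem Kinf_X_induction (P : ModuleCat.{u} A → Prop)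
    (hiso : ∀ X Y : ModuleCat.{u} A, (X ≅ Y) → P X → P Y)
    (hzero : ∀ X : ModuleCat.{u} A, IsZero X → P X)
    (hbiprod : ∀ X Y : ModuleCat.{u} A, P X → P Y → P (X ⊞ Y)) (M : ModuleCat.{u} A) :
    ∀ (fs : List A) (_ : ∀ f ∈ fs, ∀ N : ModuleCat.{u} A,
      P ((locFunctor (Submonoid.powers f)).obj N)) (q : ℤ), q ≠ -(fs.length : ℤ) →
      P ((Kinf M fs).X q)
  | [], _, q, hq => hzero _ (HomologicalComplex.isZero_single_obj_X (ComplexShape.up ℤ) 0 M q (by
      simpa using hq))
  | f :: fs, hloc, q, hq => by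
    refine hiso _ _ (coneXIso (locCxUnit (Submonoid.powers f) (Kinf M fs)) q).symm ?_
    refine hbiprod _ _ ?_ ?_
    · refine Kinf_X_induction P hiso hzero hbiprod M fs
        (fun g hg N => hloc g (List.mem_cons_of_mem _ hg) N) (q + 1) ?_
      simp only [List.length_cons, Nat.cast_add, Nat.cast_one] at hq
      omega
    · exact hloc f List.mem_cons_self _

/-- the term of `Kinf` in degree `-r` is `M`. -/
theorem nonempty_Kinf_X_bot_iso (M : ModuleCat.{u} A) :
    ∀ fs : List A, Nonempty ((Kinf M fs).X (-(fs.length : ℤ)) ≅ M)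
  | [] => ⟨HomologicalComplex.singleObjXSelf (ComplexShape.up ℤ) 0 M⟩
  | f :: fs => by
    obtain ⟨e⟩ := nonempty_Kinf_X_bot_iso M fs
    have hz : IsZero (((locCx (Submonoid.powers f)).obj (Kinf M fs)).X (-((f :: fs).length : ℤ))) :=
      (locFunctor (Submonoid.powers f)).map_isZero (isZero_Kinf_X_neg M fs _ (by
        simp only [List.length_cons, Nat.cast_add, Nat.cast_one]; omega))
    have e1 := coneXIso (locCxUnit (Submonoid.powers f) (Kinf M fs)) (-((f :: fs).length : ℤ))
    have e2 : (Kinf M fs).X (-((f :: fs).length : ℤ) + 1) ≅ (Kinf M fs).X (-(fs.length : ℤ)) :=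
      (Kinf M fs).XIsoOfEq (by simp only [List.length_cons, Nat.cast_add, Nat.cast_one]; omega)
    exact ⟨e1 ≪≫ (isoBiprodZero hz).symm ≪≫ e2 ≪≫ e⟩

end Groth.Agent.Lib.Helper21.KC
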