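import Mathlib

/-!
# Étale extraction of `n`-th roots of units (helper21)
-/

set_option autoImplicit false
universe u
open Polynomial

namespace Groth.Agent.Lib.Helper21.KumAlg

variable {B : Type u} [CommRing B]

/-- the standard étale pair `(T^n - b, 1)` for a unit `b` when `n` is invertible -/
noncomputable def pair (n : ℕ) (hn : 0 < n) (b : Bˣ) (hnB : IsUnit ((n : ℕ) : B)) :
    StandardEtalePair B where
  f := X ^ n - C (b : B)
  monic_f := monic_X_pow_sub_C _ hn.ne'
  g := 1
  cond := by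
    refine ⟨C (↑(hnB.unit * b)⁻¹ : B) * X, - C ((↑(hnB.unit * b)⁻¹ : B) * n), 0, ?_⟩
    have h1 : (n : B) * (b : B) * (↑(hnB.unit * b)⁻¹ : B) = 1 := by
      have := (hnB.unit * b).mul_inv
      simpa using this
    have h2 : (X : B[X]) ^ (n - 1) * X = X ^ n := pow_sub_one_mul hn.ne' _
    simp only [derivative_sub, derivative_X_pow, derivative_C, sub_zero, pow_zero]
    calc C (n : B) * X ^ (n - 1) * (C (↑(hnB.unit * b)⁻¹ : B) * X) +
          (X ^ n - C (b : B)) * -C ((↑(hnB.unit * b)⁻¹ : B) * n)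
        = C ((n : B) * (↑(hnB.unit * b)⁻¹ : B)) * (X ^ (n - 1) * X) -
          X ^ n * C ((↑(hnB.unit * b)⁻¹ : B) * n) + C ((n : B) * (b : B) * (↑(hnB.unit * b)⁻¹ : B)) := by
          simp only [C_mul]
          ring
      _ = 1 := by
          rw [h1, h2, mul_comm (n : B)]
          simp only [C_1, C_mul]
          ring

variable (n : ℕ) (hn : 0 < n) (b : Bˣ) (hnB : IsUnit ((n : ℕ) : B))

lemma X_pow : (pair n hn b hnB).X ^ n = algebraMap B (pair n hn b hnB).Ring (b : B) := by
  have h := (StandardEtalePair.hasMap_X (P := pair n hn b hnB)).1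
  change aeval _ (X ^ n - C (b : B)) = 0 at h
  simpa [sub_eq_zero] using h

lemma isUnit_X : IsUnit (pair n hn b hnB).X := by
  have h : IsUnit ((pair n hn b hnB).X ^ n) := by
    rw [X_pow]
    exact (b.isUnit).map _
  exact (isUnit_pow_iff hn.ne').1 h

/-- every prime of `B` lifts to the root algebra -/
theorem exists_prime (𝔭 : PrimeSpectrum B) :
    ∃ q : PrimeSpectrum (pair n hn b hnB).Ring,
      PrimeSpectrum.comap (algebraMap B (pair n hn b hnB).Ring) q = 𝔭 := by
  let κ := 𝔭.asIdeal.ResidueField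
  let K := AlgebraicClosure κ
  letI : Algebra B K := ((algebraMap κ K).comp (algebraMap B κ)).toAlgebra
  obtain ⟨x, hx⟩ := IsAlgClosed.exists_pow_nat_eq (algebraMap B K (b : B)) hn
  have hmap : (pair n hn b hnB).HasMap x := by
    refine ⟨?_, ?_⟩
    · change aeval x (X ^ n - C (b : B)) = 0
      simp [hx]
    · change IsUnit (aeval x (1 : B[X]))
      simp
  let φ := (pair n hn b hnB).lift x hmap
  refine ⟨⟨RingHom.ker φ.toRingHom, RingHom.ker_isPrime _⟩, ?_⟩
  apply PrimeSpectrum.ext
  change Ideal.comap (algebraMap B _) (RingHom.ker φ.toRingHom) = 𝔭.asIdeal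
  ext y
  rw [Ideal.mem_comap, RingHom.mem_ker]
  have h1 : φ.toRingHom (algebraMap B _ y) = algebraMap B K y := φ.commutes y
  rw [h1]
  change (algebraMap κ K) (algebraMap B κ y) = 0 ↔ _
  rw [map_eq_zero_iff _ (algebraMap κ K).injective, Ideal.algebraMap_residueField_eq_zero]

end Groth.Agent.Lib.Helper21.KumAlg
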