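import Mathlib
import Groth.Agent.Lib.Helper21H90Obj
import Groth.Agent.Lib.Helper21KumAlg
import Groth.Prelude.Def_Dix

/-!
# The Kummer sequence: the `n`-th power map of `G_m` is an epimorphism for `n` invertible (helper21)
-/

set_option autoImplicit false
universe u
open CategoryTheory CategoryTheory.Limits AlgebraicGeometry Opposite TensorProduct

namespace Groth.Agent.Lib.Helper21.KumEpi
open Groth.Agent.Lib.Helper21.EtOpen Groth.Agent.Lib.Helper21.H90Obj Groth.Agent.Lib.Helper21.KumAlg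

/-- an integer invertible on `X` is a unit in the global functions of every `X`-scheme -/
theorem isUnit_natCast {X Y : Scheme.{u}} (g : Y ⟶ X) (n : ℕ) (hX : Dix.InvertibleOn X n) :
    IsUnit ((n : ℕ) : Γ(Y, ⊤)) := by
  apply RingedSpace.isUnit_of_isUnit_germ (X := Y.toRingedSpace)
  intro y' hy
  let y : Y := y'
  have h1 : y ∈ Y.basicOpen ((n : ℕ) : Γ(Y, ⊤)) := by
    rw [← Scheme.evaluation_ne_zero_iff_mem_basicOpen Y (U := ⊤) y (Set.mem_univ _)]
    rw [map_natCast]
    intro h0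
    apply hX (g y)
    have h2 : (g.residueFieldMap y).hom ((n : ℕ) : X.residueField (g y)) = 0 := by
      rw [map_natCast]
      exact h0
    exact (map_eq_zero_iff _ (g.residueFieldMap y).hom.injective).1 h2
  exact (Scheme.mem_basicOpen _ _ _ hy).1 h1

lemma nsmul_hom_app {X : Scheme.{u}} {F G : EtCoh.Ab X} (f : F ⟶ G) (n : ℕ) (Z : X.Etale)
    (t : F.obj.obj (op Z)) : ((n • f).hom.app (op Z)).hom t = n • (f.hom.app (op Z)).hom t := by
  induction n with
  | zero => simp only [zero_smul]; rfl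
  | succ k ih =>
    rw [succ_nsmul, succ_nsmul, Sheaf.Hom.add_app, AddCommGrpCat.hom_add, AddMonoidHom.add_apply, ih]

lemma powMap_app {X : Scheme.{u}} (n : ℕ) (Z : X.Etale) (t : (EtCoh.Gm X).obj.obj (op Z)) :
    ((EtCoh.powMap X n).hom.app (op Z)).hom t = n • t := by
  unfold EtCoh.powMap
  rw [nsmul_hom_app]
  rfl

section chart
variable {X : Scheme.{u}} (U : X.Etale) {B : Type u} [CommRing B]
  (j₀ : Spec (CommRingCat.of B) ⟶ U.left) [IsOpenImmersion j₀]
  (R : Type u) [CommRing R] [Algebra B R] [Algebra.Etale B R]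

/-- the chart morphism `Spec R → Spec B → U` in the small étale site -/
noncomputable def toU : obj (j₀ ≫ U.hom) R ⟶ U :=
  MorphismProperty.Over.homMk (Spec.map (CommRingCat.ofHom (algebraMap B R)) ≫ j₀)
    (by rw [Category.assoc]; rfl)

/-- global functions of `U` as elements of the chart ring -/
noncomputable def toB : Γ(U.left, ⊤) →+* B :=
  (j₀.appTop ≫ (Scheme.ΓSpecIso (CommRingCat.of B)).hom).hom

lemma toU_appTop (a : Γ(U.left, ⊤)) :
    (toU U j₀ R).left.appTop.hom a = gammaEquiv (j₀ ≫ U.hom) R (algebraMap B R (toB U j₀ a)) := by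
  have h1 : (toU U j₀ R).left.appTop =
      j₀.appTop ≫ (Spec.map (CommRingCat.ofHom (algebraMap B R))).appTop :=
    Scheme.Hom.comp_appTop _ _
  have h2 := Scheme.ΓSpecIso_inv_naturality (CommRingCat.ofHom (algebraMap B R))
  have h3 : (Spec.map (CommRingCat.ofHom (algebraMap B R))).appTop =
      (Scheme.ΓSpecIso (CommRingCat.of B)).hom ≫ CommRingCat.ofHom (algebraMap B R) ≫
        (Scheme.ΓSpecIso (CommRingCat.of R)).inv := by
    rw [h2, Iso.hom_inv_id_assoc]
  rw [h1, h3]
  rfl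

end chart

/-- **Kummer**: the `n`-th power map of `G_m` is an epimorphism of étale sheaves when `n` is
invertible on `X`. -/
theorem epi_powMap (X : Scheme.{u}) (n : ℕ) (hn : 0 < n) (hX : Dix.InvertibleOn X n) :
    Epi (EtCoh.powMap X n) := by
  rw [← Sheaf.isLocallySurjective_iff_epi']
  constructor
  intro U s
  rw [mem_smallEtale_iff]
  intro z
  obtain ⟨W, hW, hzW, -⟩ := exists_isAffineOpen_mem_and_subset (X := U.left) (x := z) (U := ⊤) trivial
  let j₀ : Spec (CommRingCat.of Γ(U.left, W)) ⟶ U.left := hW.fromSpec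
  haveI : IsOpenImmersion j₀ := inferInstanceAs (IsOpenImmersion hW.fromSpec)
  obtain ⟨z', hz'⟩ : z ∈ Set.range j₀ := by
    rw [hW.range_fromSpec]
    exact hzW
  let a : (Γ(U.left, ⊤))ˣ := ((gmOf U).symm s).toMul
  let b : (Γ(U.left, W))ˣ := Units.map (toB U j₀).toMonoidHom a
  have hnB : IsUnit ((n : ℕ) : Γ(U.left, W)) := by
    have h := isUnit_natCast (j₀ ≫ U.hom) n hX
    have h' := h.map (Scheme.ΓSpecIso (CommRingCat.of Γ(U.left, W))).hom.hom
    rwa [map_natCast] at h'
  obtain ⟨q, hq⟩ := exists_prime n hn b hnB (z' : PrimeSpectrum Γ(U.left, W))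
  refine ⟨obj (j₀ ≫ U.hom) (pair n hn b hnB).Ring, toU U j₀ (pair n hn b hnB).Ring, q, ?_, ?_⟩
  · refine ⟨unitsTo (j₀ ≫ U.hom) (pair n hn b hnB).Ring
      (Additive.ofMul (isUnit_X n hn b hnB).unit), ?_⟩
    refine (powMap_app n _ _).trans ?_
    have hs : s = gmOf U (Additive.ofMul a) := by
      simp [a]
    rw [hs]
    refine Eq.trans ?_ (res_gmOf (toU U j₀ (pair n hn b hnB).Ring) (Additive.ofMul a)).symm
    rw [← map_nsmul, unitsTo_apply]
    congr 2
    apply Units.ext
    simp only [toMul_nsmul, toMul_ofMul, Units.coe_map, Units.val_pow_eq_pow_val, IsUnit.unit_spec]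
    change gammaEquiv (j₀ ≫ U.hom) _ ((pair n hn b hnB).X ^ n) = (toU U j₀ _).left.appTop.hom (a : Γ(U.left, ⊤))
    rw [toU_appTop, X_pow]
    rfl
  · change (Spec.map (CommRingCat.ofHom (algebraMap Γ(U.left, W) (pair n hn b hnB).Ring)) ≫ j₀) q = z
    rw [← hz', ← hq]
    rfl

end Groth.Agent.Lib.Helper21.KumEpi
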