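import Mathlib
import Groth.Agent.Lib.Helper21KumEpi
import Groth.Agent.Lib.Helper21TorsA

/-!
# Torsion in cohomology: classes killed by an endomorphism with acyclic kernel and cokernel (helper21)
-/

set_option autoImplicit false
universe u v w
open CategoryTheory CategoryTheory.Limits AlgebraicGeometry Opposite

namespace Groth.Agent.Lib.Helper21.KumTors

section ab
variable {B : Type u} [Category.{v} B] [Abelian B] {P Q : B} (t : P ⟶ Q)

/-- `0 → ker t → P → im t → 0` -/
noncomputable def sc1 : ShortComplex B :=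
  ShortComplex.mk (kernel.ι t) (Abelian.factorThruImage t) (by
    rw [← cancel_mono (Abelian.image.ι t), Category.assoc, Abelian.image.fac, kernel.condition, zero_comp])

lemma sc1_shortExact : (sc1 t).ShortExact := by
  let T : ShortComplex B := ShortComplex.mk (kernel.ι t) t (kernel.condition t)
  have hT : T.Exact := ShortComplex.exact_of_f_is_kernel _ (kernelIsKernel t)
  let φ : sc1 t ⟶ T :=
    { τ₁ := 𝟙 _
      τ₂ := 𝟙 _
      τ₃ := Abelian.image.ι t
      comm₁₂ := by simp [sc1, T]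
      comm₂₃ := by simp [sc1, T] }
  haveI : Epi φ.τ₁ := inferInstanceAs (Epi (𝟙 _))
  haveI : IsIso φ.τ₂ := inferInstanceAs (IsIso (𝟙 _))
  haveI : Mono φ.τ₃ := inferInstanceAs (Mono (Abelian.image.ι t))
  exact
    { exact := (ShortComplex.exact_iff_of_epi_of_isIso_of_mono φ).2 hT
      mono_f := inferInstanceAs (Mono (kernel.ι t))
      epi_g := inferInstanceAs (Epi (Abelian.factorThruImage t)) }

/-- `0 → im t → Q → coker t → 0` -/
noncomputable def sc2 : ShortComplex B :=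
  ShortComplex.mk (Abelian.image.ι t) (cokernel.π t) (by
    rw [← cancel_epi (Abelian.factorThruImage t), ← Category.assoc, Abelian.image.fac,
      cokernel.condition, comp_zero])

lemma sc2_shortExact : (sc2 t).ShortExact := by
  let T : ShortComplex B := ShortComplex.mk t (cokernel.π t) (cokernel.condition t)
  have hT : T.Exact := ShortComplex.exact_of_g_is_cokernel _ (cokernelIsCokernel t)
  let φ : T ⟶ sc2 t :=
    { τ₁ := Abelian.factorThruImage t
      τ₂ := 𝟙 _
      τ₃ := 𝟙 _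
      comm₁₂ := by simp [sc2, T]
      comm₂₃ := by simp [sc2, T] }
  haveI : Epi φ.τ₁ := inferInstanceAs (Epi (Abelian.factorThruImage t))
  haveI : IsIso φ.τ₂ := inferInstanceAs (IsIso (𝟙 _))
  haveI : Mono φ.τ₃ := inferInstanceAs (Mono (𝟙 _))
  exact
    { exact := (ShortComplex.exact_iff_of_epi_of_isIso_of_mono φ).1 hT
      mono_f := inferInstanceAs (Mono (Abelian.image.ι t))
      epi_g := inferInstanceAs (Epi (cokernel.π t)) }

open Abelian in
/-- a class killed by `t` vanishes when the cohomology of the kernel (same degree) and of the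
cokernel (one degree lower) vanish -/
theorem eq_zero_of_comp_eq_zero [HasExt.{w} B] {Z : B} {j : ℕ} (ξ : Ext Z P (j + 1))
    (h : ξ.comp (Ext.mk₀ t) (add_zero (j + 1)) = 0)
    (hK : Subsingleton (Ext Z (kernel t) (j + 1))) (hC : Subsingleton (Ext Z (cokernel t) j)) :
    ξ = 0 := by
  have hfac : Ext.mk₀ t = (Ext.mk₀ (Abelian.factorThruImage t)).comp (Ext.mk₀ (Abelian.image.ι t))
      (add_zero 0) := by
    rw [Ext.mk₀_comp_mk₀, Abelian.image.fac]
  rw [hfac, ← Ext.comp_assoc_of_third_deg_zero] at h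
  obtain ⟨x₃, hx₃⟩ := Ext.covariant_sequence_exact₁ Z (sc2_shortExact t)
    (ξ.comp (Ext.mk₀ (Abelian.factorThruImage t)) (add_zero (j + 1))) h rfl
  have hx0 : x₃ = 0 := hC.elim _ _
  rw [hx0, Ext.zero_comp] at hx₃
  obtain ⟨x₁, hx₁⟩ := Ext.covariant_sequence_exact₂ Z (sc1_shortExact t) ξ hx₃.symm
  have hx10 : x₁ = 0 := hK.elim _ _
  rw [← hx₁, hx10, Ext.zero_comp]
  rfl

open Abelian in
/-- a class killed by an epimorphism `t` vanishes when the cohomology of the kernel vanishes -/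
theorem eq_zero_of_comp_eq_zero_of_epi [HasExt.{w} B] [Epi t] {Z : B} {i : ℕ} (ξ : Ext Z P i)
    (h : ξ.comp (Ext.mk₀ t) (add_zero i) = 0)
    (hK : Subsingleton (Ext Z (kernel t) i)) : ξ = 0 := by
  have hSE : (ShortComplex.mk (kernel.ι t) t (kernel.condition t)).ShortExact :=
    { exact := ShortComplex.exact_of_f_is_kernel _ (kernelIsKernel t)
      mono_f := inferInstanceAs (Mono (kernel.ι t))
      epi_g := inferInstanceAs (Epi t) }
  obtain ⟨x₁, hx₁⟩ := Ext.covariant_sequence_exact₂ Z hSE ξ h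
  have hx10 : x₁ = 0 := Subsingleton.elim _ _
  rw [← hx₁, hx10, Ext.zero_comp]

end ab

section tors
open Groth.Agent.Lib.Helper21.KumEpi Groth.Agent.Lib.Helper21.EtOpen Groth.Agent.Lib.Helper21.TorsA
variable {X : Scheme.{u}} (F : EtCoh.Ab X) (N : ℕ)

/-- sections of the kernel of multiplication by `N` are killed by `N` -/
theorem nsmul_kernel (U : X.Etale) (s : (kernel (N • 𝟙 F)).obj.obj (op U)) : N • s = 0 := by
  apply injective_app_of_mono.{u, u+1} (kernel.ι (N • 𝟙 F)) U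
  rw [map_nsmul, map_zero]
  have h1 : (((kernel.ι (N • 𝟙 F)) ≫ (N • 𝟙 F)).hom.app (op U)).hom s = 0 := by
    rw [kernel.condition]
    rfl
  have h2 : (((kernel.ι (N • 𝟙 F)) ≫ (N • 𝟙 F)).hom.app (op U)).hom s =
      ((N • 𝟙 F).hom.app (op U)).hom (((kernel.ι (N • 𝟙 F)).hom.app (op U)).hom s) := rfl
  rw [h2, nsmul_hom_app] at h1
  exact h1

/-- sections of the cokernel of multiplication by `N` are étale-locally killed by `N` -/
theorem nsmul_cokernel (U : X.Etale) (s : (cokernel (N • 𝟙 F)).obj.obj (op U)) (x : U.left) :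
    ∃ (V : X.Etale) (g : V ⟶ U) (v : V.left), g.left v = x ∧
      N • ((cokernel (N • 𝟙 F)).obj.map g.op).hom s = 0 := by
  haveI : Sheaf.IsLocallySurjective (cokernel.π (N • 𝟙 F)) :=
    (Sheaf.isLocallySurjective_iff_epi' (φ := cokernel.π (N • 𝟙 F))).2 inferInstance
  have hmem := Presheaf.imageSieve_mem X.smallEtaleTopology (cokernel.π (N • 𝟙 F)).hom s
  rw [mem_smallEtale_iff] at hmem
  obtain ⟨V, g, v, ⟨t, ht⟩, hv⟩ := hmem x
  refine ⟨V, g, v, hv, ?_⟩
  have ht' : ((cokernel (N • 𝟙 F)).obj.map g.op).hom s =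
      ((cokernel.π (N • 𝟙 F)).hom.app (op V)).hom t := ht.symm
  rw [ht', ← map_nsmul]
  have h1 : (((N • 𝟙 F) ≫ cokernel.π (N • 𝟙 F)).hom.app (op V)).hom t = 0 := by
    rw [cokernel.condition]
    rfl
  have h2 : (((N • 𝟙 F) ≫ cokernel.π (N • 𝟙 F)).hom.app (op V)).hom t =
      ((cokernel.π (N • 𝟙 F)).hom.app (op V)).hom (((N • 𝟙 F).hom.app (op V)).hom t) := rfl
  rw [h2, nsmul_hom_app] at h1
  exact h1

theorem isPrimaryTorsion_kernel (ℓ k : ℕ) : Dix.IsPrimaryTorsion ℓ (kernel ((ℓ ^ k) • 𝟙 F)) := by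
  intro U s x
  refine ⟨U, 𝟙 U, ⟨x, rfl⟩, k, ?_⟩
  exact nsmul_kernel F (ℓ ^ k) U _

theorem isPrimaryTorsion_cokernel (ℓ k : ℕ) : Dix.IsPrimaryTorsion ℓ (cokernel ((ℓ ^ k) • 𝟙 F)) := by
  intro U s x
  obtain ⟨V, g, v, hv, h⟩ := nsmul_cokernel F (ℓ ^ k) U s x
  exact ⟨V, g, ⟨v, hv⟩, k, h⟩

end tors

end Groth.Agent.Lib.Helper21.KumTors
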