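import Mathlib
import Groth.Agent.S2444
import Groth.Agent.S4497
import Groth.Agent.S4490
import Groth.Agent.S2406
import Groth.Agent.Lib.Helper21TFunI

/-!
# Cohomological flatness and lengths over a Noetherian local ring (helper21)

For a chain complex `P` of finite flat modules over a Noetherian local ring `(A, m, k)`:
`T_p` is exact iff `length T_p(A/m^(n+1)) = length T_p(k) * length (A/m^(n+1))` for all large `n`.
-/
set_option autoImplicit false
universe u
open CategoryTheory CategoryTheory.Limits MonoidalCategory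

namespace Groth.Agent.Lib.Helper21.LenB

open Groth.Agent.Lib.Helper3 Groth.Agent.S4492 Groth.Agent.S2444 Groth.Agent.Lib.Helper21.TFunI

variable {A : Type u} [CommRing A] [IsLocalRing A]

/-- `A / m^(n+1)` has finite length -/
lemma isFiniteLength_quot_pow [IsNoetherianRing A] (n : ℕ) :
    IsFiniteLength A (A ⧸ IsLocalRing.maximalIdeal A ^ (n + 1)) := by
  have hmin : IsLocalRing.maximalIdeal A ∈
      (IsLocalRing.maximalIdeal A ^ (n + 1)).minimalPrimes := by
    refine ⟨⟨inferInstance, Ideal.pow_le_self (Nat.succ_ne_zero n)⟩, ?_⟩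
    rintro q ⟨hq, hle⟩ _
    exact hq.le_of_pow_le hle
  haveI : IsArtinianRing (A ⧸ IsLocalRing.maximalIdeal A ^ (n + 1)) :=
    IsLocalRing.quotient_artinian_of_mem_minimalPrimes_of_isLocalRing _ hmin
  rw [isFiniteLength_iff_isNoetherian_isArtinian]
  exact ⟨inferInstance,
    isArtinian_of_surjective_algebraMap
      (Ideal.Quotient.mk_surjective (I := IsLocalRing.maximalIdeal A ^ (n + 1)))⟩

/-- the projection `A/m^(n+1) → A/m` -/
noncomputable abbrev gn (n : ℕ) :
    (A ⧸ IsLocalRing.maximalIdeal A ^ (n + 1)) →ₗ[A] (A ⧸ IsLocalRing.maximalIdeal A) :=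
  (Ideal.Quotient.factorₐ A (Ideal.pow_le_self (I := IsLocalRing.maximalIdeal A)
    (Nat.succ_ne_zero n))).toLinearMap

lemma gn_surjective (n : ℕ) : Function.Surjective (gn (A := A) n) := by
  intro y
  obtain ⟨a, rfl⟩ := Ideal.Quotient.mk_surjective y
  exact ⟨Ideal.Quotient.mk _ a, rfl⟩

/-- the short exact sequence `ker → A/m^(n+1) → A/m` -/
noncomputable def Sn (n : ℕ) : ShortComplex (ModuleCat.{u} A) :=
  ShortComplex.mk (ModuleCat.ofHom (LinearMap.ker (gn (A := A) n)).subtype)
    (ModuleCat.ofHom (gn (A := A) n)) (by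
      ext x
      exact x.2)

lemma Sn_shortExact (n : ℕ) : (Sn (A := A) n).ShortExact := by
  have : Mono (Sn (A := A) n).f :=
    (ModuleCat.mono_iff_injective _).mpr (Submodule.subtype_injective _)
  have : Epi (Sn (A := A) n).g := (ModuleCat.epi_iff_surjective _).mpr (gn_surjective n)
  refine ShortComplex.ShortExact.mk ?_
  rw [ShortComplex.ShortExact.moduleCat_exact_iff_function_exact]
  intro x
  constructor
  · intro hx
    exact ⟨⟨x, hx⟩, rfl⟩
  · rintro ⟨y, rfl⟩
    exact y.2

lemma length_quot_maximalIdeal :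
    Module.length A (A ⧸ IsLocalRing.maximalIdeal A) = 1 := by
  have hs : IsSimpleModule A (A ⧸ IsLocalRing.maximalIdeal A) :=
    isSimpleModule_iff_quot_maximal.mpr ⟨_, inferInstance, ⟨LinearEquiv.refl _ _⟩⟩
  exact Module.length_eq_one _ _

lemma length_quot_pow (n : ℕ) :
    Module.length A (A ⧸ IsLocalRing.maximalIdeal A ^ (n + 1)) =
      Module.length A (LinearMap.ker (gn (A := A) n)) + 1 := by
  rw [Module.length_eq_add_of_exact (LinearMap.ker (gn (A := A) n)).subtype (gn (A := A) n)
    (Submodule.subtype_injective _) (gn_surjective n) (by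
      intro x
      constructor
      · intro hx
        exact ⟨⟨x, hx⟩, rfl⟩
      · rintro ⟨y, rfl⟩
        exact y.2), length_quot_maximalIdeal]

variable (P : ChainComplex (ModuleCat.{u} A) ℤ)

/-- `T_p(k)` has finite length -/
lemma length_T_residue_ne_top [IsNoetherianRing A] (hP : ∀ i, Module.Finite A (P.X i) ∧ Module.Flat A (P.X i)) (p : ℤ) :
    Module.length A (CohIII.T P p (ModuleCat.of A (IsLocalRing.ResidueField A))) ≠ ⊤ := by
  haveI := (hP p).1
  haveI : Module.Finite A (ModuleCat.of A (IsLocalRing.ResidueField A)) :=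
    inferInstanceAs (Module.Finite A (IsLocalRing.ResidueField A))
  haveI hfin : Module.Finite A (CohIII.T P p (ModuleCat.of A (IsLocalRing.ResidueField A))) :=
    finite_T P p _
  -- killed by `m`
  have hkill : ∀ a ∈ IsLocalRing.maximalIdeal A,
      ∀ x : CohIII.T P p (ModuleCat.of A (IsLocalRing.ResidueField A)), a • x = 0 := by
    intro a ha x
    have h0 : (a • 𝟙 (ModuleCat.of A (IsLocalRing.ResidueField A)) :
        ModuleCat.of A (IsLocalRing.ResidueField A) ⟶ _) = 0 := by
      ext y
      change a • y = 0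
      rw [Algebra.smul_def]
      have : algebraMap A (IsLocalRing.ResidueField A) a = 0 :=
        (IsLocalRing.residue_eq_zero_iff a).mpr ha
      rw [this, zero_mul]
    have h1 : (CohIII.TFun P p).map
        (a • 𝟙 (ModuleCat.of A (IsLocalRing.ResidueField A))) = a • 𝟙 _ :=
      TFun_map_smul_id A P p _ a
    rw [h0, Functor.map_zero] at h1
    have h2 := congrArg (fun k => k.hom x) h1
    exact h2.symm
  have hM : Module.IsTorsionBySet A
      (CohIII.T P p (ModuleCat.of A (IsLocalRing.ResidueField A)))
      (IsLocalRing.maximalIdeal A : Set A) := fun x a => hkill a.1 a.2 x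
  letI : Module (A ⧸ IsLocalRing.maximalIdeal A)
      (CohIII.T P p (ModuleCat.of A (IsLocalRing.ResidueField A))) := hM.module
  haveI : IsScalarTower A (A ⧸ IsLocalRing.maximalIdeal A)
      (CohIII.T P p (ModuleCat.of A (IsLocalRing.ResidueField A))) := hM.isScalarTower
  letI : Field (A ⧸ IsLocalRing.maximalIdeal A) := Ideal.Quotient.field _
  haveI : Module.Finite (A ⧸ IsLocalRing.maximalIdeal A)
      (CohIII.T P p (ModuleCat.of A (IsLocalRing.ResidueField A))) :=
    Module.Finite.of_restrictScalars_finite A _ _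
  rw [Module.length_eq_of_surjective (S := A) (R := A ⧸ IsLocalRing.maximalIdeal A)
    Ideal.Quotient.mk_surjective]
  exact Module.length_ne_top

/-- the residue field, as a quotient -/
noncomputable def residueEquiv :
    (A ⧸ IsLocalRing.maximalIdeal A) ≃ₗ[A] IsLocalRing.ResidueField A :=
  LinearEquiv.refl A _

lemma length_T_quot [IsNoetherianRing A] (p : ℤ) :
    Module.length A (CohIII.T P p (ModuleCat.of A (A ⧸ IsLocalRing.maximalIdeal A))) =
      Module.length A (CohIII.T P p (ModuleCat.of A (IsLocalRing.ResidueField A))) :=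
  LinearEquiv.length_eq
    ((CohIII.TFun P p).mapIso (residueEquiv (A := A)).toModuleIso).toLinearEquiv

/-- the key step: the length equality at level `n` forces injectivity and surjectivity -/
lemma inj_surj_of_length_eq [IsNoetherianRing A]
    (hP : ∀ i, Module.Finite A (P.X i) ∧ Module.Flat A (P.X i)) (p : ℤ) (n : ℕ)
    (h : Module.length A (CohIII.T P p
        (ModuleCat.of A (A ⧸ IsLocalRing.maximalIdeal A ^ (n + 1)))) =
      Module.length A (CohIII.T P p (ModuleCat.of A (IsLocalRing.ResidueField A))) *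
        Module.length A (A ⧸ IsLocalRing.maximalIdeal A ^ (n + 1))) :
    Function.Injective ((CohIII.TFun P p).map (Sn (A := A) n).f).hom ∧
      Function.Surjective ((CohIII.TFun P p).map (Sn (A := A) n).g).hom := by
  have hflat : ∀ i, Module.Flat A (P.X i) := fun i => (hP i).2
  have hd := length_T_residue_ne_top P hP p
  have hex := exact_T P hflat p (Sn (A := A) n) (Sn_shortExact n)
  have hle := length_le_add _ _ hex
  have hKfl : IsFiniteLength A (LinearMap.ker (gn (A := A) n)) := by
    have h1 := isFiniteLength_quot_pow (A := A) n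
    rw [isFiniteLength_iff_isNoetherian_isArtinian] at h1 ⊢
    obtain ⟨h2, h3⟩ := h1
    exact ⟨inferInstance, inferInstance⟩
  have hK := length_T_le P hflat p (LinearMap.ker (gn (A := A) n)) hKfl
  have hKne : Module.length A (LinearMap.ker (gn (A := A) n)) ≠ ⊤ :=
    Module.length_ne_top_iff.mpr hKfl
  have h1 : Module.length A (CohIII.T P p (ModuleCat.of A (LinearMap.ker (gn (A := A) n)))) ≠ ⊤ :=
    ne_top_of_le_ne_top (WithTop.mul_ne_top hd hKne) hK
  have h3 : Module.length A (CohIII.T P p (ModuleCat.of A (A ⧸ IsLocalRing.maximalIdeal A))) ≠ ⊤ := by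
    rw [length_T_quot]
    exact hd
  have heq : Module.length A (CohIII.T P p
        (ModuleCat.of A (A ⧸ IsLocalRing.maximalIdeal A ^ (n + 1)))) =
      Module.length A (CohIII.T P p (ModuleCat.of A (LinearMap.ker (gn (A := A) n)))) +
        Module.length A (CohIII.T P p (ModuleCat.of A (A ⧸ IsLocalRing.maximalIdeal A))) := by
    apply le_antisymm hle
    show Module.length A (CohIII.T P p (ModuleCat.of A (LinearMap.ker (gn (A := A) n)))) +
        Module.length A (CohIII.T P p (ModuleCat.of A (A ⧸ IsLocalRing.maximalIdeal A))) ≤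
      Module.length A (CohIII.T P p
        (ModuleCat.of A (A ⧸ IsLocalRing.maximalIdeal A ^ (n + 1))))
    rw [h, length_quot_pow, mul_add, mul_one, length_T_quot]
    gcongr
  exact (length_eq_add_iff _ _ hex h1 h3).mp heq

omit [IsLocalRing A] in
/-- injectivity of `T_p(K) → T_p(M)` gives surjectivity of `T_{p+1}(M) → T_{p+1}(M'')` -/
lemma surjective_succ_of_injective (hflat : ∀ i, Module.Flat A (P.X i)) (p : ℤ)
    (S : ShortComplex (ModuleCat.{u} A)) (hS : S.ShortExact)
    (hinj : Function.Injective ((CohIII.TFun P p).map S.f).hom) :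
    Function.Surjective ((CohIII.TFun P (p + 1)).map S.g).hom := by
  have hT := tensorSC_shortExact P hflat S hS
  have hrel : (ComplexShape.down ℤ).Rel (p + 1) p := by simp
  have e3 := hT.homology_exact₃ (p + 1) p hrel
  have hmono : Mono (HomologicalComplex.homologyMap (tensorSC P S).f p) :=
    (ModuleCat.mono_iff_injective _).mpr hinj
  have hδ : hT.δ (p + 1) p hrel = 0 := by
    rw [← cancel_mono (HomologicalComplex.homologyMap (tensorSC P S).f p), zero_comp]
    exact hT.δ_comp (p + 1) p hrel
  have hepi : Epi (HomologicalComplex.homologyMap (tensorSC P S).g (p + 1)) :=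
    e3.epi_f hδ
  exact (ModuleCat.epi_iff_surjective _).mp hepi

/-- **Main theorem**: over a Noetherian local ring, `T_p` is exact iff the lengths of
`T_p(A/m^(n+1))` are `length T_p(k) * length (A/m^(n+1))` for all large `n`. -/
theorem exact_iff_length [IsNoetherianRing A]
    (hP : ∀ i, Module.Finite A (P.X i) ∧ Module.Flat A (P.X i)) (p : ℤ) :
    ((CohIII.TFun P p).PreservesMonomorphisms ∧ (CohIII.TFun P p).PreservesEpimorphisms) ↔
      ∃ n₀ : ℕ, ∀ n : ℕ, n₀ ≤ n →
        Module.length A (CohIII.T P p
            (ModuleCat.of A (A ⧸ IsLocalRing.maximalIdeal A ^ (n + 1)))) =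
          Module.length A (CohIII.T P p (ModuleCat.of A (IsLocalRing.ResidueField A))) *
            Module.length A (A ⧸ IsLocalRing.maximalIdeal A ^ (n + 1)) := by
  have hflat : ∀ i, Module.Flat A (P.X i) := fun i => (hP i).2
  constructor
  · rintro ⟨hm, he⟩
    exact ⟨0, fun n _ => Groth.Agent.S4497.length_T_eq P hflat p hm he _
      (isFiniteLength_quot_pow n)⟩
  · rintro ⟨n₀, h⟩
    have hepi : (CohIII.TFun P p).PreservesEpimorphisms :=
      (Groth.Agent.S4490.result P hP p).2.mpr
        ⟨n₀, fun n hn => (inj_surj_of_length_eq P hP p n (h n hn)).2⟩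
    have hepi' : (CohIII.TFun P (p + 1)).PreservesEpimorphisms :=
      (Groth.Agent.S4490.result P hP (p + 1)).2.mpr
        ⟨n₀, fun n hn => surjective_succ_of_injective P hflat p (Sn (A := A) n) (Sn_shortExact n)
          (inj_surj_of_length_eq P hP p n (h n hn)).1⟩
    exact ⟨(Groth.Agent.S2406.result P hflat (p + 1) p rfl).mp hepi', hepi⟩

end Groth.Agent.Lib.Helper21.LenB
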