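import Mathlib
import Groth.Agent.Lib.Helper21TorsB

/-!
# The torsor of lifts of a global section along an epimorphism of abelian sheaves (helper21)
-/

set_option autoImplicit false
universe v u w'
open CategoryTheory CategoryTheory.Limits Opposite

namespace Groth.Agent.Lib.Helper21.LiftTors
open Groth.Agent.Lib.Helper21.TorsA Groth.Agent.Lib.Helper21.TorsB

variable {C : Type u} [Category.{v} C] {J : GrothendieckTopology C}
variable [HasSheafify J AddCommGrpCat.{max u v}]
variable {G E F : Sheaf J AddCommGrpCat.{max u v}} (i : G ⟶ E) (π : E ⟶ F)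
variable (q : ∀ V : C, F.obj.obj (op V)) (hq : ∀ ⦃V W : C⦄ (f : W ⟶ V), res J F f (q V) = q W)

/-- the presheaf of lifts of `q` -/
def PPre : Cᵒᵖ ⥤ Type max u v where
  obj V := {t : E.obj.obj V // (π.hom.app V).hom t = q V.unop}
  map {V W} f := ↾fun t => ⟨(E.obj.map f).hom t.1, by
    have h := res_map π f.unop t.1
    have h2 : (π.hom.app W).hom ((E.obj.map f).hom t.1) = res J F f.unop ((π.hom.app V).hom t.1) :=
      h.symm
    rw [h2, t.2]
    exact hq f.unop⟩
  map_id V := by
    ext t
    change (E.obj.map (𝟙 V)).hom t.1 = t.1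
    rw [E.obj.map_id]
    rfl
  map_comp f g := by
    ext t
    change (E.obj.map (f ≫ g)).hom t.1 = (E.obj.map g).hom ((E.obj.map f).hom t.1)
    rw [E.obj.map_comp]
    rfl

lemma PPre_map_val {V W : C} (f : W ⟶ V) (t : (PPre π q hq).obj (op V)) :
    ((PPre π q hq).map f.op t).1 = res J E f t.1 := rfl

theorem isSheaf_PPre : Presheaf.IsSheaf J (PPre π q hq) := by
  rw [isSheaf_iff_isSheaf_of_type]
  intro V S hS x hx
  rw [Presieve.compatible_iff_sieveCompatible] at hx
  obtain ⟨t, ht⟩ := exists_glue E S hS (fun W f hf => (x f hf).1) (fun W W' f hf g => by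
    have := hx f g hf
    rw [this]
    rfl)
  have hπ : (π.hom.app (op V)).hom t = q V := by
    apply ext_of_cover F S hS
    intro W f hf
    rw [res_map, ht f hf, (x f hf).2, hq f]
  refine ⟨⟨t, hπ⟩, fun W f hf => Subtype.ext (ht f hf), fun y hy => Subtype.ext ?_⟩
  apply ext_of_cover E S hS
  intro W f hf
  rw [ht f hf]
  exact congrArg Subtype.val (hy f hf)

variable (w : i ≫ π = 0)

include w in
lemma π_i_apply (V : Cᵒᵖ) (g : G.obj.obj V) : (π.hom.app V).hom ((i.hom.app V).hom g) = 0 :=
  zero_sections (ShortComplex.mk i π w) V.unop g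

variable (hS : (ShortComplex.mk i π w).ShortExact)

/-- the torsor of lifts of a global section of `F` along `E ⟶ F` -/
noncomputable def liftTorsor : GTorsor G where
  P := ⟨PPre π q hq, isSheaf_PPre π q hq⟩
  vadd {U} g t := ⟨(i.hom.app U).hom g + t.1, by
    rw [map_add, π_i_apply i π w, zero_add, t.2]⟩
  zero_vadd {U} p := by
    apply Subtype.ext
    change (i.hom.app U).hom 0 + p.1 = p.1
    rw [map_zero, zero_add]
  add_vadd {U} g h p := by
    apply Subtype.ext
    change (i.hom.app U).hom (g + h) + p.1 = (i.hom.app U).hom g + ((i.hom.app U).hom h + p.1)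
    rw [map_add, add_assoc]
  map_vadd {U V} f g p := by
    apply Subtype.ext
    change (E.obj.map f).hom ((i.hom.app U).hom g + p.1) =
      (i.hom.app V).hom ((G.obj.map f).hom g) + (E.obj.map f).hom p.1
    rw [map_add]
    congr 1
    exact (res_map i f.unop g)
  free_transitive {U} p q' := by
    haveI : Mono i := hS.mono_f
    have h0 : (π.hom.app U).hom (q'.1 - p.1) = 0 := by rw [map_sub, p.2, q'.2, sub_self]
    obtain ⟨g, hg⟩ := exact_sections hS U.unop (q'.1 - p.1) h0
    have hg' : (i.hom.app U).hom g = q'.1 - p.1 := hg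
    refine ⟨g, Subtype.ext ?_, fun g' hg'' => ?_⟩
    · change (i.hom.app U).hom g + p.1 = q'.1
      rw [hg', sub_add_cancel]
    · apply injective_app_of_mono i U.unop
      have h1 : (i.hom.app U).hom g' + p.1 = q'.1 := congrArg Subtype.val hg''
      change (i.hom.app U).hom g' = (i.hom.app U).hom g
      rw [hg', ← h1, add_sub_cancel_right]
  locally_nonempty U := by
    haveI : Epi π := hS.epi_g
    obtain ⟨S, hS', H⟩ := locally_surjective_of_epi π U (q U)
    refine ⟨S, hS', fun V f hf => ?_⟩
    obtain ⟨t, ht⟩ := H f hf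
    rw [hq f] at ht
    exact ⟨⟨t, ht⟩⟩

end Groth.Agent.Lib.Helper21.LiftTors
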