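import Mathlib
import Groth.Agent.Lib.Helper21TFunA

/-!
# `A`-linearity of natural isomorphisms out of `M ↦ H^p(X, f^*(M~) ⊗ F)` (helper21)
-/
set_option autoImplicit false
universe u
open CategoryTheory CategoryTheory.Limits AlgebraicGeometry MonoidalCategory Opposite

namespace Groth.Agent.Lib.Helper21.LinH

open Groth.Agent.Lib.Helper21.TFunA

variable (A : Type u) [CommRing A] {X : Scheme.{u}} [X.Over (Spec (CommRingCat.of A))]

/-- the action of `a : A` on `H^p(X, G)` is induced by multiplication by `a` on `G` -/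
lemma HAb_map_smulMod (G : X.Modules) (p : ℕ) (a : A) (x : Coh.HH X G p) :
    ((CohIII.HAb X p).map (Formal.smulMod A G a)).hom x = a • x := rfl

/-- the components of a natural isomorphism `H^p(X, f^*(-~) ⊗ F) ≅ T` are `A`-linear -/
noncomputable def linearEquivOfNatIso (F : X.Modules) (p : ℕ)
    (T : ModuleCat.{u} A ⥤ ModuleCat.{u} A)
    (hT : ∀ (M : ModuleCat.{u} A) (a : A), T.map (a • 𝟙 M) = a • 𝟙 _)
    (e : CohIII.tensorAFunctor A F ⋙ CohIII.HAb X p ≅
      T ⋙ forget₂ (ModuleCat.{u} A) AddCommGrpCat.{u}) (M : ModuleCat.{u} A) :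
    Coh.HH X ((CohIII.tensorAFunctor A F).obj M) p ≃ₗ[A] T.obj M :=
  { (e.app M).addCommGroupIsoToAddEquiv with
    map_smul' := fun a x => by
      have h := e.hom.naturality (a • 𝟙 M)
      have h2 := congrArg (fun k => k.hom x) h
      have h3 : (e.hom.app M).hom (((CohIII.HAb X p).map ((𝒢 A F).map (a • 𝟙 M))).hom x) =
          (T.map (a • 𝟙 M)).hom ((e.hom.app M).hom x) := h2
      rw [𝒢_map_smul, HAb_map_smulMod, hT] at h3
      exact h3 }

end Groth.Agent.Lib.Helper21.LinH
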