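import Mathlib

/-!
# Localization of an abelian category with calculus of fractions is abelian (helper21)
-/

universe v v' u u'
open CategoryTheory Limits

namespace Groth.Agent.Lib.Helper21.LocAb

section StepA
variable {A : Type u} [Category.{v} A] [Abelian A] (W : MorphismProperty A)
  [W.HasRightCalculusOfFractions]
  {D : Type u'} [Category.{v'} D] [Preadditive D] (L : A ⥤ D) [L.Additive] [L.IsLocalization W]

/-- every morphism `L X' ⟶ L Y` is `inv (L s) ≫ L h`. -/
lemma exists_rightFraction' {X Y : A} (g : L.obj X ⟶ L.obj Y) :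
    ∃ (X' : A) (s : X' ⟶ X) (h : X' ⟶ Y) (_ : IsIso (L.map s)), W s ∧ L.map s ≫ g = L.map h := by
  obtain ⟨φ, rfl⟩ := Localization.exists_rightFraction L W g
  exact ⟨φ.X', φ.s, φ.f, Localization.inverts L W _ φ.hs, φ.hs, φ.map_s_comp_map L _⟩

lemma map_eq_zero_iff {X Y : A} (h : X ⟶ Y) :
    L.map h = 0 ↔ ∃ (X' : A) (t : X' ⟶ X) (_ : W t), t ≫ h = 0 := by
  rw [← L.map_zero, MorphismProperty.map_eq_iff_precomp L W]
  simp only [comp_zero]

include W

lemma mono_map_of_mono {K X : A} (ι : K ⟶ X) [Mono ι] : Mono (L.map ι) := by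
  have := Localization.essSurj L W
  apply Preadditive.mono_of_cancel_zero
  intro Z m hm
  let e := L.objObjPreimageIso Z
  suffices h0 : e.hom ≫ m = 0 by
    rwa [← cancel_epi e.hom, comp_zero]
  obtain ⟨X', s, h, hs, -, hsh⟩ := exists_rightFraction' W L (e.hom ≫ m)
  have h1 : L.map (h ≫ ι) = 0 := by
    rw [L.map_comp, ← hsh, Category.assoc, Category.assoc, hm, comp_zero, comp_zero]
  obtain ⟨X'', t, ht, hth⟩ := (map_eq_zero_iff W L _).1 h1
  have hti : IsIso (L.map t) := Localization.inverts L W _ ht
  rw [← Category.assoc] at hth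
  have h2 : t ≫ h = 0 := by rw [← cancel_mono ι, hth, zero_comp]
  have h3 : L.map h = 0 := by
    rw [← cancel_epi (L.map t), ← L.map_comp, h2, L.map_zero, comp_zero]
  rw [← cancel_epi (L.map s), hsh, h3, comp_zero]

lemma exists_kernel_lift {X Y : A} (f : X ⟶ Y) {Z : D} (g : Z ⟶ L.obj X)
    (hg : g ≫ L.map f = 0) :
    ∃ l : Z ⟶ L.obj (kernel f), l ≫ L.map (kernel.ι f) = g := by
  have := Localization.essSurj L W
  let e := L.objObjPreimageIso Z
  obtain ⟨X', s, h, hs, -, hsh⟩ := exists_rightFraction' W L (e.hom ≫ g)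
  have h1 : L.map (h ≫ f) = 0 := by
    rw [L.map_comp, ← hsh, Category.assoc, Category.assoc, hg, comp_zero, comp_zero]
  obtain ⟨X'', t, ht, hth⟩ := (map_eq_zero_iff W L _).1 h1
  have hti : IsIso (L.map t) := Localization.inverts L W _ ht
  rw [← Category.assoc] at hth
  refine ⟨e.inv ≫ inv (L.map s) ≫ inv (L.map t) ≫ L.map (kernel.lift f (t ≫ h) hth), ?_⟩
  rw [Category.assoc, Category.assoc, Category.assoc, ← L.map_comp, kernel.lift_ι, L.map_comp,
    IsIso.inv_hom_id_assoc, ← hsh, IsIso.inv_hom_id_assoc, Iso.inv_hom_id_assoc]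

/-- `L` preserves kernels. -/
noncomputable def isLimitMapKernel {X Y : A} (f : X ⟶ Y) :
    IsLimit (KernelFork.ofι (L.map (kernel.ι f))
      (by rw [← L.map_comp, kernel.condition, L.map_zero]) : Fork (L.map f) 0) := by
  haveI := mono_map_of_mono W L (kernel.ι f)
  exact KernelFork.IsLimit.ofι _ _
    (fun g hg => (exists_kernel_lift W L f g hg).choose)
    (fun g hg => (exists_kernel_lift W L f g hg).choose_spec)
    (fun g hg m hm => by
      rw [← cancel_mono (L.map (kernel.ι f)), hm, (exists_kernel_lift W L f g hg).choose_spec])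

lemma preservesKernel {X Y : A} (f : X ⟶ Y) : PreservesLimit (parallelPair f 0) L :=
  preservesLimit_of_preserves_limit_cone (kernelIsKernel f)
    ((isLimitMapConeForkEquiv' L (kernel.condition f)).symm (isLimitMapKernel W L f))

theorem preservesFiniteLimits : PreservesFiniteLimits L := by
  have : HasZeroObject D := L.hasZeroObject_of_additive
  haveI : ∀ {X Y : A} (f : X ⟶ Y), PreservesLimit (parallelPair f 0) L :=
    fun f => preservesKernel W L f
  exact Functor.preservesFiniteLimits_of_preservesKernels L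

end StepA

section StepA'
variable {A : Type u} [Category.{v} A] [Abelian A] (W : MorphismProperty A)
  [W.HasLeftCalculusOfFractions]
  {D : Type u'} [Category.{v'} D] [Preadditive D] (L : A ⥤ D) [L.Additive] [L.IsLocalization W]

include W in
theorem preservesFiniteColimits : PreservesFiniteColimits L := by
  haveI : PreservesFiniteLimits L.op := preservesFiniteLimits W.op L.op
  exact preservesFiniteColimits_of_op L

end StepA'

section StepB
variable {A : Type u} [Category.{v} A] [Abelian A] (W : MorphismProperty A)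
  [W.HasLeftCalculusOfFractions] [W.HasRightCalculusOfFractions]
  {D : Type u'} [Category.{v'} D] [Preadditive D] (L : A ⥤ D) [L.Additive] [L.IsLocalization W]

include W L

lemma hasKernel_of {Z Z' : D} (g : Z ⟶ Z') : HasKernel g := by
  have := Localization.essSurj L W
  let e := L.objObjPreimageIso Z
  let e' := L.objObjPreimageIso Z'
  obtain ⟨X', s, h, hs, -, hsh⟩ := exists_rightFraction' W L (e.hom ≫ g ≫ e'.inv)
  haveI : HasKernel (L.map h) := ⟨⟨⟨_, isLimitMapKernel W L h⟩⟩⟩
  have hg : g = (e.inv ≫ inv (L.map s)) ≫ L.map h ≫ e'.hom := by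
    rw [← hsh]; simp
  rw [hg]
  infer_instance

lemma hasKernels : HasKernels D := ⟨fun g => hasKernel_of W L g⟩

lemma hasBinaryProducts : HasBinaryProducts D := by
  have := Localization.essSurj L W
  haveI := preservesFiniteLimits W L
  haveI : ∀ {Z Z' : D}, HasLimit (pair Z Z') := by
    intro Z Z'
    let e := L.objObjPreimageIso Z
    let e' := L.objObjPreimageIso Z'
    haveI : HasLimit (pair (L.objPreimage Z) (L.objPreimage Z') ⋙ L) := inferInstance
    exact hasLimit_of_iso (show pair (L.objPreimage Z) (L.objPreimage Z') ⋙ L ≅ pair Z Z' from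
      (pairComp _ _ L) ≪≫ mapPairIso e e')
  exact hasBinaryProducts_of_hasLimit_pair D

lemma hasFiniteProducts : HasFiniteProducts D := by
  haveI : HasZeroObject D := L.hasZeroObject_of_additive
  haveI := hasBinaryProducts W L
  exact hasFiniteProducts_of_has_binary_and_terminal

lemma normalMono_of_mono {Z Z' : D} (m : Z ⟶ Z') [Mono m] : Nonempty (NormalMono m) := by
  have := Localization.essSurj L W
  haveI := preservesFiniteLimits W L
  haveI := preservesFiniteColimits W L
  let e := L.objObjPreimageIso Z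
  let e' := L.objObjPreimageIso Z'
  obtain ⟨X', s, h, hs, -, hsh⟩ := exists_rightFraction' W L (e.hom ≫ m ≫ e'.inv)
  have hm : m = (e.inv ≫ inv (L.map s)) ≫ L.map h ≫ e'.hom := by
    rw [← hsh]; simp
  -- image factorization of `h`
  let p := Abelian.factorThruImage h
  let c := cokernel.π h
  have hpj : p ≫ kernel.ι c = h := Abelian.image.fac h
  have hLh : Mono (L.map h) := by
    rw [← hsh]
    infer_instance
  have hLp : Mono (L.map p) := by
    have : Mono (L.map p ≫ L.map (kernel.ι c)) := by rw [← L.map_comp, hpj]; exact hLh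
    exact mono_of_mono (L.map p) (L.map (kernel.ι c))
  have hk0 : L.map (kernel.ι p) = 0 := by
    rw [← cancel_mono (L.map p), ← L.map_comp, kernel.condition, L.map_zero, zero_comp]
  have hpiso : IsIso (L.map p) := by
    have hcok := isColimitCoforkMapOfIsColimit' L (kernel.condition p)
      (Abelian.epiIsCokernelOfKernel (KernelFork.ofι (kernel.ι p) (kernel.condition p))
        (kernelIsKernel p))
    exact CokernelCofork.IsColimit.isIso_π _ hcok hk0
  have hker := isLimitMapKernel W L c
  have hw : m ≫ e'.inv ≫ L.map c = 0 := by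
    rw [hm]
    simp only [Category.assoc, Iso.hom_inv_id_assoc]
    rw [← L.map_comp, cokernel.condition, L.map_zero, comp_zero, comp_zero]
  refine ⟨{ Z := L.obj (cokernel h), g := e'.inv ≫ L.map c, w := hw, isLimit := ?_ }⟩
  refine KernelFork.IsLimit.ofι' _ _ (fun {T} t ht => ?_)
  have ht' : (t ≫ e'.inv) ≫ L.map c = 0 := by rw [Category.assoc]; exact ht
  let l₀ := KernelFork.IsLimit.lift' hker (t ≫ e'.inv) ht'
  refine ⟨l₀.1 ≫ inv (L.map p) ≫ L.map s ≫ e.hom, ?_⟩
  have hl₀ : l₀.1 ≫ L.map (kernel.ι c) = t ≫ e'.inv := l₀.2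
  rw [hm]
  simp only [Category.assoc, Iso.hom_inv_id_assoc, IsIso.hom_inv_id_assoc]
  have hLpj : L.map p ≫ L.map (kernel.ι c) = L.map h := by rw [← L.map_comp, hpj]
  rw [← hLpj, Category.assoc, IsIso.inv_hom_id_assoc, ← Category.assoc, hl₀, Category.assoc,
    Iso.inv_hom_id, Category.comp_id]

lemma isNormalMonoCategory : IsNormalMonoCategory D :=
  ⟨fun m _ => normalMono_of_mono W L m⟩

end StepB

section Final
variable {A : Type u} [Category.{v} A] [Abelian A] (W : MorphismProperty A)
  [W.HasLeftCalculusOfFractions] [W.HasRightCalculusOfFractions]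
  {D : Type u'} [Category.{v'} D] (L : A ⥤ D) [L.IsLocalization W]

include W in
theorem main : Nonempty (Abelian D) ∧ PreservesFiniteLimits L ∧ PreservesFiniteColimits L := by
  letI : Preadditive D := Localization.preadditive L W
  haveI : L.Additive := Localization.functor_additive L W
  refine ⟨⟨?_⟩, preservesFiniteLimits W L, preservesFiniteColimits W L⟩
  haveI := hasFiniteProducts W L
  haveI := hasKernels W L
  haveI : HasCokernels D := ⟨fun f => by
    haveI := hasKernel_of W.op L.op f.op
    exact ⟨⟨⟨_, KernelFork.IsLimit.ofιUnop (kernel.ι f.op) (kernel.condition f.op)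
      (kernelIsKernel f.op)⟩⟩⟩⟩
  haveI := isNormalMonoCategory W L
  haveI : IsNormalEpiCategory D := ⟨fun {X Y} f _ => by
    obtain ⟨m⟩ := normalMono_of_mono W.op L.op f.op
    exact ⟨{ W := m.Z.unop
             g := m.g.unop
             w := congrArg Quiver.Hom.unop m.w
             isColimit := KernelFork.IsLimit.ofιUnop f.op m.w m.isLimit }⟩⟩
  exact { }

end Final

end Groth.Agent.Lib.Helper21.LocAb
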