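import Mathlib
import Groth.Prelude.Def_ModSite
import Groth.Agent.Lib.Helper21LocFact2

/-!
# Helper21: a map from a finitely presented module to a flat module factors locally through a
finite free module
-/

set_option autoImplicit false
universe u
open CategoryTheory CategoryTheory.Limits Opposite

namespace Groth.Agent.Lib.Helper21.LocFact

open Groth.Agent.Lib.Helper21.EqCrit

variable {C : Type u} [SmallCategory C] {J : GrothendieckTopology C} (O : Sheaf J CommRingCat.{u})

theorem exists_sieve_fact {F H : ModSite.Mod O} (hH : ModSite.IsFlat H) (φ : F ⟶ H) (X : C)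
    (P : SheafOfModules.Presentation ((ModSite.restr O X).obj F)) (hP : P.IsFinite) :
    ∃ S ∈ J X, ∀ ⦃V : C⦄ (g : V ⟶ X), S g →
      ∃ (n : ℕ) (a : (ModSite.restr O V).obj F ⟶ SheafOfModules.free (ULift.{u} (Fin n)))
        (b : SheafOfModules.free (ULift.{u} (Fin n)) ⟶ (ModSite.restr O V).obj H),
        a ≫ b = (ModSite.restr O V).map φ := by
  haveI : Finite P.generators.I := SheafOfModules.GeneratingSections.IsFiniteType.finite
  haveI : Finite P.relations.I := SheafOfModules.GeneratingSections.IsFiniteType.finite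
  letI : Fintype P.generators.I := Fintype.ofFinite _
  letI : Fintype P.relations.I := Fintype.ofFinite _
  let ff₀ := ffFree (ModSite.ringSh (O.over X)) P.generators.I
  let ff₁ := ffFree (ModSite.ringSh (O.over X)) P.relations.I
  let rel : SheafOfModules.free P.relations.I ⟶ SheafOfModules.free P.generators.I :=
    (SheafOfModules.freeHomEquiv _).symm P.relations.s ≫ kernel.ι _
  let π : SheafOfModules.free P.generators.I ⟶ (ModSite.restr O X).obj F := P.generators.π
  have w : rel ≫ π = 0 := by simp [rel, π]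
  have hc : IsColimit (CokernelCofork.ofπ π w) := P.isColimit
  let e₀ : P.generators.I ≃ Fin (Fintype.card P.generators.I) := Fintype.equivFin _
  let e₁ : P.relations.I ≃ Fin (Fintype.card P.relations.I) := Fintype.equivFin _
  let f : Fin (Fintype.card P.relations.I) → Fin (Fintype.card P.generators.I) →
      (ModSite.ringSh O).obj.obj (op X) :=
    fun i j => Amat O ff₁ ff₀ rel (e₁.symm i) (e₀.symm j)
  let s : Fin (Fintype.card P.generators.I) → H.val.obj (op X) :=
    fun j => sH O φ ff₀ π (e₀.symm j)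
  have hrel : ∀ i, ∑ j, f i j • s j = 0 := by
    intro i
    have h := sum_Amat_sH O φ ff₁ ff₀ rel π w (e₁.symm i)
    rw [← e₀.symm.sum_comp] at h
    exact h
  obtain ⟨S, hS, HS⟩ := eq_crit O H hH X f s hrel
  refine ⟨S, hS, ?_⟩
  intro V g hg
  obtain ⟨l, t, a, h1, h2⟩ := HS g hg
  have h1' : ∀ j, H.val.map g.op (sH O φ ff₀ π j) = ∑ k, a (e₀ j) k • t k := by
    intro j
    have h := h1 (e₀ j)
    simp only [s, Equiv.symm_apply_apply] at h
    exact h
  have h2' : ∀ r k, ∑ j, a (e₀ j) k *
      ((ModSite.ringSh O).obj.map g.op).hom (Amat O ff₁ ff₀ rel r j) = 0 := by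
    intro r k
    have h := h2 (e₁ r) k
    simp only [f, Equiv.symm_apply_apply] at h
    rw [← e₀.sum_comp] at h
    simp only [Equiv.symm_apply_apply] at h
    exact h
  obtain ⟨a', b, hab⟩ := exists_fact O g φ ff₁ ff₀ rel π w hc l t (fun j k => a (e₀ j) k) h1' h2'
  exact ⟨l, a', b, hab⟩

theorem exists_local_factorisation (F H : ModSite.Mod O)
    [SheafOfModules.IsFinitePresentation (R := ModSite.ringSh O) F] (hH : ModSite.IsFlat H)
    (φ : F ⟶ H) (X : C) :
    ∃ (ι : Type u) (Y : ι → C) (g : ∀ i, Y i ⟶ X), Sieve.ofArrows Y g ∈ J X ∧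
      ∀ i, ∃ (n : ℕ) (a : (ModSite.restr O (Y i)).obj F ⟶ SheafOfModules.free (ULift.{u} (Fin n)))
        (b : SheafOfModules.free (ULift.{u} (Fin n)) ⟶ (ModSite.restr O (Y i)).obj H),
        a ≫ b = (ModSite.restr O (Y i)).map φ := by
  obtain ⟨σ, hσ⟩ := SheafOfModules.IsFinitePresentation.exists_quasicoherentData
    (R := ModSite.ringSh O) F
  let P : C → Prop := fun Z => ∃ (n : ℕ)
    (a : (ModSite.restr O Z).obj F ⟶ SheafOfModules.free (ULift.{u} (Fin n)))
    (b : SheafOfModules.free (ULift.{u} (Fin n)) ⟶ (ModSite.restr O Z).obj H),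
    a ≫ b = (ModSite.restr O Z).map φ
  let ι : Type u := {p : Σ Z : C, (Z ⟶ X) // P p.1}
  refine ⟨ι, fun p => p.1.1, fun p => p.1.2, ?_, fun p => p.2⟩
  have h0 := σ.coversTop X
  apply J.transitive h0
  intro Y f hf
  obtain ⟨i, ⟨p⟩⟩ := hf
  obtain ⟨S, hS, HS⟩ := exists_sieve_fact O hH φ (σ.X i) (σ.presentation i)
    (hσ.isFinite_presentation i)
  apply J.superset_covering _ (J.pullback_stable p hS)
  intro Z q hq
  have hP : P Z := HS (q ≫ p) hq
  exact Sieve.ofArrows_mk (fun p : ι => p.1.1) (fun p : ι => p.1.2) ⟨⟨Z, q ≫ f⟩, hP⟩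

end Groth.Agent.Lib.Helper21.LocFact
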