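import Mathlib
import Groth.Prelude.Def_ModSite
import Groth.Prelude.Def_AlgSpPerf
import Groth.Agent.Lib.Helper21RestrExact

/-!
# Local lifting on ringed sites via iterated localisation (helper21)

`Φ`/`ε`/`resHom` (restriction of morphisms `M|_W ⟶ N|_W` along `W' ⟶ W`, via Mathlib's `SheafOfModules.overMap`
and `overFunctorMap`), `exists_local_lift_of_exact`, `secOf` (maps out of the unit ↔ sections),
`exists_local_lift_unit`, `exists_local_lift_summand` (maps from a global direct summand of a finite free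
module lift locally along exact sequences).
-/

set_option autoImplicit false
set_option linter.style.haveILetI false
universe u
open CategoryTheory CategoryTheory.Limits Opposite

namespace Groth.Agent.Lib.Helper21.LocLift

noncomputable section

variable {C : Type u} [SmallCategory C] {J : GrothendieckTopology C} (O : Sheaf J CommRingCat.{u})

/-- transition functor between localisations -/
abbrev Φ {W W' : C} (g : W' ⟶ W) : ModSite.Mod (O.over W) ⥤ ModSite.Mod (O.over W') :=
  SheafOfModules.overMap (ModSite.ringSh O) g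

/-- restricting to `W` then to `W'` is restricting to `W'` -/
def ε {W W' : C} (g : W' ⟶ W) : ModSite.restr O W ⋙ Φ O g ≅ ModSite.restr O W' :=
  SheafOfModules.overFunctorMap (ModSite.ringSh O) g

/-- restriction of morphisms between restricted modules -/
def resHom {W W' : C} (g : W' ⟶ W) {M N : ModSite.Mod O}
    (h : (ModSite.restr O W).obj M ⟶ (ModSite.restr O W).obj N) :
    (ModSite.restr O W').obj M ⟶ (ModSite.restr O W').obj N :=
  (ε O g).inv.app M ≫ (Φ O g).map h ≫ (ε O g).hom.app N

lemma resHom_map {W W' : C} (g : W' ⟶ W) {M N : ModSite.Mod O} (x : M ⟶ N) :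
    resHom O g ((ModSite.restr O W).map x) = (ModSite.restr O W').map x := by
  unfold resHom
  have := (ε O g).hom.naturality x
  rw [Functor.comp_map] at this
  rw [this, ← Category.assoc, Iso.inv_hom_id_app, Category.id_comp]

lemma resHom_comp {W W' : C} (g : W' ⟶ W) {M N P : ModSite.Mod O}
    (h : (ModSite.restr O W).obj M ⟶ (ModSite.restr O W).obj N)
    (h' : (ModSite.restr O W).obj N ⟶ (ModSite.restr O W).obj P) :
    resHom O g (h ≫ h') = resHom O g h ≫ resHom O g h' := by
  unfold resHom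
  simp only [Functor.map_comp, Category.assoc, Iso.hom_inv_id_app_assoc]

instance Φ_additive {W W' : C} (g : W' ⟶ W) : (Φ O g).Additive where
  map_add {M N f f'} := by
    apply SheafOfModules.hom_ext
    rfl

lemma resHom_add {W W' : C} (g : W' ⟶ W) {M N : ModSite.Mod O}
    (h h' : (ModSite.restr O W).obj M ⟶ (ModSite.restr O W).obj N) :
    resHom O g (h + h') = resHom O g h + resHom O g h' := by
  unfold resHom
  rw [Functor.map_add, Preadditive.add_comp, Preadditive.comp_add]

lemma resHom_zero {W W' : C} (g : W' ⟶ W) {M N : ModSite.Mod O} :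
    resHom O g (0 : (ModSite.restr O W).obj M ⟶ (ModSite.restr O W).obj N) = 0 := by
  unfold resHom
  rw [Functor.map_zero, zero_comp, comp_zero]


/-- evaluation of modules at an object -/
abbrev evW (W : C) : ModSite.Mod O ⥤ ModuleCat ((ModSite.ringSh O).obj.obj (op W)) :=
  SheafOfModules.forget _ ⋙ PresheafOfModules.evaluation _ (op W)

/-- sections killed by `g` lift locally along `f` for an exact short complex of modules -/
theorem exists_local_lift_of_exact (S : ShortComplex (ModSite.Mod O)) (hS : S.Exact) (W : C)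
    (q : S.X₂.val.obj (op W)) (hq : S.g.val.app (op W) q = 0) :
    ∃ T ∈ J W, ∀ ⦃W' : C⦄ (g' : W' ⟶ W), T g' →
      ∃ p' : S.X₁.val.obj (op W'), S.f.val.app (op W') p' = S.X₂.val.map g'.op q := by
  have hepi : Epi (kernel.lift S.g S.f S.zero) := S.exact_iff_epi_kernel_lift.1 hS
  -- the section `q` comes from the kernel
  let S' : ShortComplex (ModSite.Mod O) := ShortComplex.mk (kernel.ι S.g) S.g (kernel.condition _)
  have hS' : S'.Exact := ShortComplex.exact_of_f_is_kernel _ (kernelIsKernel S.g)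
  haveI : Mono S'.f := inferInstanceAs (Mono (kernel.ι S.g))
  have h1 : (S'.map (evW O W)).Exact :=
    hS'.map_of_mono_of_preservesKernel (evW O W) inferInstance inferInstance
  rw [ShortComplex.moduleCat_exact_iff] at h1
  obtain ⟨z, hz⟩ := h1 q hq
  have hloc := Groth.Agent.Lib.Helper4.ModEpi.isLocallySurjective_of_epi
    (kernel.lift S.g S.f S.zero)
  refine ⟨_, hloc.imageSieve_mem z, ?_⟩
  intro W' g' hg'
  obtain ⟨p', hp'⟩ := hg'
  refine ⟨p', ?_⟩
  have h2 : (kernel.lift S.g S.f S.zero ≫ kernel.ι S.g).val.app (op W') p' =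
      S.f.val.app (op W') p' := by rw [kernel.lift_ι]
  rw [← h2]
  have h3 : (kernel.ι S.g).val.app (op W') ((kernel S.g).val.map g'.op z) =
      S.X₂.val.map g'.op ((kernel.ι S.g).val.app (op W) z) :=
    PresheafOfModules.naturality_apply (kernel.ι S.g).val g'.op z
  have hz' : (kernel.ι S.g).val.app (op W) z = q := hz
  rw [hz'] at h3
  rw [← h3]
  exact congrArg ((kernel.ι S.g).val.app (op W')) hp'

/-- the terminal object of `Over W` -/
abbrev tW (W : C) : (Over W)ᵒᵖ := op (Over.mk (𝟙 W))

/-- the unit module over `W` -/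
abbrev unitW (W : C) : ModSite.Mod (O.over W) := SheafOfModules.unit ((ModSite.ringSh O).over W)

/-- the section over `W` corresponding to a map out of the unit -/
def secOf {W : C} {Q : ModSite.Mod O} (ψ : unitW O W ⟶ (ModSite.restr O W).obj Q) :
    Q.val.obj (op W) :=
  ψ.val.app (tW W) (1 : ((ModSite.ringSh O).over W).obj.obj (tW W))

lemma app_one_eq {W : C} {Q : ModSite.Mod O} (ψ : unitW O W ⟶ (ModSite.restr O W).obj Q)
    (Y : Over W) :
    ψ.val.app (op Y) (1 : ((ModSite.ringSh O).over W).obj.obj (op Y)) =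
      Q.val.map Y.hom.op (secOf O ψ) := by
  have h := PresheafOfModules.naturality_apply ψ.val
    (Over.homMk Y.hom : Y ⟶ Over.mk (𝟙 W)).op (1 : ((ModSite.ringSh O).over W).obj.obj (tW W))
  have h1 : (unitW O W).val.map (Over.homMk Y.hom : Y ⟶ Over.mk (𝟙 W)).op
      (1 : ((ModSite.ringSh O).over W).obj.obj (tW W)) =
      (1 : ((ModSite.ringSh O).over W).obj.obj (op Y)) :=
    PresheafOfModules.unit_map_one (R := ((ModSite.ringSh O).over W).obj) _
  exact (congrArg (ψ.val.app (op Y)) h1).symm.trans h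

lemma secOf_injective {W : C} {Q : ModSite.Mod O}
    (ψ ψ' : unitW O W ⟶ (ModSite.restr O W).obj Q) (h : secOf O ψ = secOf O ψ') : ψ = ψ' := by
  apply (SheafOfModules.unitHomEquiv _).injective
  apply PresheafOfModules.sections_ext
  intro Y
  obtain ⟨Y⟩ := Y
  change ψ.val.app (op Y) (1 : ((ModSite.ringSh O).over W).obj.obj (op Y)) =
    ψ'.val.app (op Y) (1 : ((ModSite.ringSh O).over W).obj.obj (op Y))
  rw [app_one_eq, app_one_eq, h]

lemma exists_secOf_eq {W : C} {Q : ModSite.Mod O} (q : Q.val.obj (op W)) :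
    ∃ ψ : unitW O W ⟶ (ModSite.restr O W).obj Q, secOf O ψ = q := by
  let s : ((ModSite.restr O W).obj Q).sections :=
    PresheafOfModules.sectionsMk (fun Y => Q.val.map Y.unop.hom.op q) (fun Y Y' f => by
      change Q.val.map f.unop.left.op (Q.val.map Y.unop.hom.op q) = Q.val.map Y'.unop.hom.op q
      rw [← PresheafOfModules.map_comp_apply, ← op_comp, Over.w])
  refine ⟨(SheafOfModules.unitHomEquiv _).symm s, ?_⟩
  have h1 : (SheafOfModules.unitHomEquiv _) ((SheafOfModules.unitHomEquiv _).symm s) = s :=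
    Equiv.apply_symm_apply _ _
  have h2 := congrArg (fun t => t.val (tW W)) h1
  refine h2.trans ?_
  change Q.val.map (𝟙 W).op q = q
  rw [op_id, Q.val.map_id]
  rfl

lemma secOf_comp_map {W : C} {Q Q' : ModSite.Mod O} (ψ : unitW O W ⟶ (ModSite.restr O W).obj Q)
    (x : Q ⟶ Q') : secOf O (ψ ≫ (ModSite.restr O W).map x) = x.val.app (op W) (secOf O ψ) := rfl

lemma secOf_resHom {W W' : C} (g' : W' ⟶ W) {Q : ModSite.Mod O}
    (ψ : (ModSite.restr O W).obj (ModSite.unit O) ⟶ (ModSite.restr O W).obj Q) :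
    secOf O (resHom O g' ψ : unitW O W' ⟶ (ModSite.restr O W').obj Q) =
      Q.val.map g'.op (secOf O (ψ : unitW O W ⟶ (ModSite.restr O W).obj Q)) := by
  have h := app_one_eq O (ψ : unitW O W ⟶ (ModSite.restr O W).obj Q)
    ((Over.map g').obj (Over.mk (𝟙 W')))
  have h2 : ((Over.map g').obj (Over.mk (𝟙 W'))).hom = g' := by simp
  rw [h2] at h
  exact h

lemma secOf_zero {W : C} {Q : ModSite.Mod O} :
    secOf O (0 : unitW O W ⟶ (ModSite.restr O W).obj Q) = 0 := rfl

/-- maps out of the restricted unit lift locally along exact sequences -/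
theorem exists_local_lift_unit (S : ShortComplex (ModSite.Mod O)) (hS : S.Exact) (W : C)
    (ψ : (ModSite.restr O W).obj (ModSite.unit O) ⟶ (ModSite.restr O W).obj S.X₂)
    (hψ : ψ ≫ (ModSite.restr O W).map S.g = 0) :
    ∃ T ∈ J W, ∀ ⦃W' : C⦄ (g' : W' ⟶ W), T g' →
      ∃ l : (ModSite.restr O W').obj (ModSite.unit O) ⟶ (ModSite.restr O W').obj S.X₁,
        l ≫ (ModSite.restr O W').map S.f = resHom O g' ψ := by
  have hq : S.g.val.app (op W) (secOf O (ψ : unitW O W ⟶ (ModSite.restr O W).obj S.X₂)) = 0 := by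
    refine (secOf_comp_map O (ψ : unitW O W ⟶ (ModSite.restr O W).obj S.X₂) S.g).symm.trans ?_
    have h0 : ((ψ : unitW O W ⟶ (ModSite.restr O W).obj S.X₂) ≫ (ModSite.restr O W).map S.g) = 0 := hψ
    exact (congrArg (secOf O) h0).trans rfl
  obtain ⟨T, hT, hT'⟩ := exists_local_lift_of_exact O S hS W _ hq
  refine ⟨T, hT, fun W' g' hg' => ?_⟩
  obtain ⟨p', hp'⟩ := hT' g' hg'
  obtain ⟨l, hl⟩ := exists_secOf_eq O (W := W') (Q := S.X₁) p'
  refine ⟨l, ?_⟩
  apply secOf_injective O (W := W') (Q := S.X₂)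
  refine (secOf_comp_map O l S.f).trans ?_
  rw [hl, hp']
  exact (secOf_resHom O g' ψ).symm

/-- finite intersections of covering sieves are covering -/
lemma exists_common_sieve {W : C} : ∀ (n : ℕ) (T : Fin n → Sieve W), (∀ i, T i ∈ J W) →
    ∃ T' ∈ J W, ∀ ⦃W' : C⦄ (g' : W' ⟶ W), T' g' → ∀ i, T i g'
  | 0, _, _ => ⟨⊤, J.top_mem W, fun _ _ _ i => Fin.elim0 i⟩
  | n + 1, T, hT => by
    obtain ⟨T', hT', h⟩ := exists_common_sieve n (fun i => T i.succ) (fun i => hT i.succ)
    refine ⟨T 0 ⊓ T', J.intersection_covering (hT 0) hT', fun W' g' hg' i => ?_⟩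
    rw [Sieve.inter_apply] at hg'
    refine Fin.cases hg'.1 (fun k => h g' hg'.2 k) i

/-- maps from the restriction of a global direct summand of a finite free module lift locally along exact
sequences -/
theorem exists_local_lift_summand (M : ModSite.Mod O)
    (hM : DCoh.IsFinFreeSummandMod (ModSite.ringSh O) M)
    (S : ShortComplex (ModSite.Mod O)) (hS : S.Exact) (W : C)
    (ψ : (ModSite.restr O W).obj M ⟶ (ModSite.restr O W).obj S.X₂)
    (hψ : ψ ≫ (ModSite.restr O W).map S.g = 0) :
    ∃ T ∈ J W, ∀ ⦃W' : C⦄ (g' : W' ⟶ W), T g' →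
      ∃ l : (ModSite.restr O W').obj M ⟶ (ModSite.restr O W').obj S.X₁,
        l ≫ (ModSite.restr O W').map S.f = resHom O g' ψ := by
  obtain ⟨n, i, p, hip⟩ := hM
  let I := ULift.{u} (Fin n)
  let ι : I → (ModSite.unit O ⟶ SheafOfModules.free (R := ModSite.ringSh O) I) :=
    fun k => SheafOfModules.ιFree k
  let ψk : ∀ k : I, (ModSite.restr O W).obj (ModSite.unit O) ⟶ (ModSite.restr O W).obj S.X₂ :=
    fun k => (ModSite.restr O W).map (ι k ≫ p) ≫ ψ
  have hψk : ∀ k, ψk k ≫ (ModSite.restr O W).map S.g = 0 := by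
    intro k
    change ((ModSite.restr O W).map (ι k ≫ p) ≫ ψ) ≫ _ = 0
    rw [Category.assoc, hψ, comp_zero]
  choose T hT hT' using fun k => exists_local_lift_unit O S hS W (ψk k) (hψk k)
  obtain ⟨T₀, hT₀, hT₀'⟩ := exists_common_sieve (J := J) n (fun k => T ⟨k⟩) (fun k => hT ⟨k⟩)
  refine ⟨T₀, hT₀, fun W' g' hg' => ?_⟩
  have hg'k : ∀ k : I, T k g' := fun k => hT₀' g' hg' k.down
  choose l hl using fun k => hT' k g' (hg'k k)
  -- assemble
  have hc : IsColimit ((ModSite.restr O W').mapCocone
      (SheafOfModules.freeCofan (R := ModSite.ringSh O) I)) :=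
    isColimitOfPreserves (ModSite.restr O W') (SheafOfModules.isColimitFreeCofan I)
  let c : Cocone (Discrete.functor (fun _ : I => ModSite.unit O) ⋙ ModSite.restr O W') :=
    { pt := (ModSite.restr O W').obj S.X₁
      ι := Discrete.natTrans (fun k => l k.as) }
  refine ⟨(ModSite.restr O W').map i ≫ hc.desc c, ?_⟩
  have h1 : resHom O g' ψ = (ModSite.restr O W').map i ≫ (ModSite.restr O W').map p ≫
      resHom O g' ψ := by
    rw [← Category.assoc, ← CategoryTheory.Functor.map_comp, hip, CategoryTheory.Functor.map_id, Category.id_comp]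
  rw [h1, Category.assoc]
  congr 1
  apply hc.hom_ext
  intro k
  obtain ⟨k⟩ := k
  have hfac := hc.fac c ⟨k⟩
  change (ModSite.restr O W').map (ι k) ≫ hc.desc c ≫ (ModSite.restr O W').map S.f =
    (ModSite.restr O W').map (ι k) ≫ (ModSite.restr O W').map p ≫ resHom O g' ψ
  have hfac' : (ModSite.restr O W').map (ι k) ≫ hc.desc c = l k := hfac
  rw [← Category.assoc, hfac', hl k]
  change resHom O g' ((ModSite.restr O W).map (ι k ≫ p) ≫ ψ) = _
  rw [resHom_comp, resHom_map, CategoryTheory.Functor.map_comp, Category.assoc]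

end

end Groth.Agent.Lib.Helper21.LocLift
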