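import Mathlib
import Groth.Agent.Lib.Helper21LocLift1

/-!
# Local lifting up to homotopy out of a strictly perfect complex (helper21)

* `homotopyOfFamily`, `exists_partial`, `exists_local_nullHomotopy`: a map from a strictly perfect
  complex `E` (zero below `a`) into a complex exact in degrees `≥ a` is locally null-homotopic.
* `exactAt_mappingCone`: exactness of a mapping cone from epi/mono on cohomology.
* `exists_lift_of_homotopy`: from a null-homotopy of `a ≫ inr f` (after an additive functor) to a lift.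
* `locally_lift`: the local lifting statement.
-/

set_option autoImplicit false
set_option linter.style.haveILetI false
universe v u
open CategoryTheory CategoryTheory.Limits Opposite

namespace Groth.Agent.Lib.Helper21.LocLift

/-- a null-homotopy from a family of maps -/
def homotopyOfFamily {A : Type u} [Category.{v} A] [Preadditive A] {K L : CochainComplex A ℤ}
    (φ : K ⟶ L) (h : ∀ i j : ℤ, K.X i ⟶ L.X j)
    (hh : ∀ j j' j'' : ℤ, j + 1 = j' → j'' + 1 = j →
      φ.f j = K.d j j' ≫ h j' j + h j j'' ≫ L.d j'' j) : Homotopy φ 0 where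
  hom i j := if j + 1 = i then h i j else 0
  zero i j hij := if_neg hij
  comm i := by
    rw [dNext_eq _ (show (ComplexShape.up ℤ).Rel i (i + 1) from rfl),
      prevD_eq _ (show (ComplexShape.up ℤ).Rel (i - 1) i from by simp)]
    rw [if_pos rfl, if_pos (by omega), HomologicalComplex.zero_f, add_zero]
    exact hh i (i + 1) (i - 1) rfl (by omega)


section Cone
variable {A : Type u} [Category.{v} A] [Abelian A]

omit [Abelian A] in
lemma epi_conj {X Y X' Y' : A} (a : X' ≅ X) (b : Y ≅ Y') (x : X ⟶ Y) [Epi x] :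
    Epi (a.hom ≫ x ≫ b.hom) := inferInstance

omit [Abelian A] in
lemma mono_conj {X Y X' Y' : A} (a : X' ≅ X) (b : Y ≅ Y') (x : X ⟶ Y) [Mono x] :
    Mono (a.hom ≫ x ≫ b.hom) := inferInstance

open HomotopyCategory in
/-- the mapping cone of `f` is exact in degree `n` if `H^n(f)` is epi and `H^{n+1}(f)` is mono -/
lemma exactAt_mappingCone {G F : CochainComplex A ℤ} (f : G ⟶ F) (n : ℤ)
    (h1 : Epi (HomologicalComplex.homologyMap f n))
    (h2 : Mono (HomologicalComplex.homologyMap f (n + 1))) :
    (CochainComplex.mappingCone f).ExactAt n := by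
  let Hf := HomotopyCategory.homologyFunctor A (ComplexShape.up ℤ) 0
  let T := CochainComplex.mappingCone.triangleh f
  have hT : T ∈ distTriang (HomotopyCategory A (ComplexShape.up ℤ)) :=
    HomotopyCategory.mappingCone_triangleh_distinguished f
  have e := fun m : ℤ => HomotopyCategory.homologyFunctorFactors A (ComplexShape.up ℤ) m
  have hmap : ∀ m : ℤ, (Hf.shift m).map T.mor₁ =
      ((e m).app G).hom ≫ (HomologicalComplex.homologyFunctor A (ComplexShape.up ℤ) m).map f ≫
        ((e m).app F).symm.hom := by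
    intro m
    have h0 := (e m).hom.naturality f
    have h3 : (Hf.shift m).map T.mor₁ =
        (HomotopyCategory.quotient A (ComplexShape.up ℤ) ⋙
          HomotopyCategory.homologyFunctor A (ComplexShape.up ℤ) m).map f := rfl
    rw [h3]
    refine ((Category.comp_id _).symm.trans ?_)
    rw [← Iso.hom_inv_id_app (e m) F, ← Category.assoc, h0, Category.assoc]
    rfl
  have hepi : Epi ((Hf.shift n).map T.mor₁) := by
    rw [hmap]
    haveI : Epi ((HomologicalComplex.homologyFunctor A (ComplexShape.up ℤ) n).map f) := h1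
    exact epi_conj _ _ _
  have hmono : Mono ((Hf.shift (n + 1)).map T.mor₁) := by
    rw [hmap]
    haveI : Mono ((HomologicalComplex.homologyFunctor A (ComplexShape.up ℤ) (n + 1)).map f) := h2
    exact mono_conj _ _ _
  have z1 := (Hf.homologySequence_epi_shift_map_mor₁_iff T hT n).1 hepi
  have z2 := (Hf.homologySequence_mono_shift_map_mor₁_iff T hT n (n + 1) rfl).1 hmono
  have hz : IsZero ((Hf.shift n).obj T.obj₃) :=
    (Hf.homologySequence_exact₃ T hT n (n + 1) rfl).isZero_X₂ z1 z2
  rw [HomologicalComplex.exactAt_iff_isZero_homology]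
  exact IsZero.of_iso hz ((e n).app (CochainComplex.mappingCone f)).symm

end Cone

section Lift
variable {A : Type u} [Category.{v} A] [Preadditive A] [HasBinaryBiproducts A] [HasZeroObject A]
  {B : Type u} [Category.{v} B] [Preadditive B] [HasBinaryBiproducts B] [HasZeroObject B]

/-- if `a ≫ inr f` is null-homotopic then `a` lifts through `f` up to homotopy -/
lemma exists_lift_of_comp_inr {E G F : CochainComplex B ℤ} (f : G ⟶ F) (a : E ⟶ F)
    (h : Homotopy (a ≫ CochainComplex.mappingCone.inr f) 0) :
    ∃ β : E ⟶ G, Nonempty (Homotopy (β ≫ f) a) := by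
  let T := CochainComplex.mappingCone.triangleh f
  have hT : T ∈ distTriang (HomotopyCategory B (ComplexShape.up ℤ)) :=
    HomotopyCategory.mappingCone_triangleh_distinguished f
  have h0 : (HomotopyCategory.quotient B (ComplexShape.up ℤ)).map a ≫ T.mor₂ = 0 := by
    change (HomotopyCategory.quotient B (ComplexShape.up ℤ)).map a ≫
      (HomotopyCategory.quotient B (ComplexShape.up ℤ)).map (CochainComplex.mappingCone.inr f) = 0
    rw [← CategoryTheory.Functor.map_comp, HomotopyCategory.eq_of_homotopy _ _ h,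
      CategoryTheory.Functor.map_zero]
  obtain ⟨g, hg⟩ := Pretriangulated.Triangle.coyoneda_exact₂ T hT _ h0
  obtain ⟨β, rfl⟩ := (HomotopyCategory.quotient B (ComplexShape.up ℤ)).map_surjective g
  refine ⟨β, ⟨HomotopyCategory.homotopyOfEq _ _ ?_⟩⟩
  rw [CategoryTheory.Functor.map_comp]
  exact hg.symm

/-- the same after applying an additive functor -/
lemma exists_lift_of_homotopy (H : A ⥤ B) [H.Additive] {E G F : CochainComplex A ℤ}
    (f : G ⟶ F) (a : E ⟶ F)
    (h : Homotopy ((H.mapHomologicalComplex (ComplexShape.up ℤ)).map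
      (a ≫ CochainComplex.mappingCone.inr f)) 0) :
    ∃ β : (H.mapHomologicalComplex (ComplexShape.up ℤ)).obj E ⟶
        (H.mapHomologicalComplex (ComplexShape.up ℤ)).obj G,
      Nonempty (Homotopy (β ≫ (H.mapHomologicalComplex (ComplexShape.up ℤ)).map f)
        ((H.mapHomologicalComplex (ComplexShape.up ℤ)).map a)) := by
  apply exists_lift_of_comp_inr
  rw [← CochainComplex.mappingCone.map_inr f H, ← Category.assoc,
    ← CategoryTheory.Functor.map_comp]
  exact (h.compRight _).trans (Homotopy.ofEq zero_comp)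

end Lift

noncomputable section


variable {C : Type u} [SmallCategory C] {J : GrothendieckTopology C} (O : Sheaf J CommRingCat.{u})
  (E Cx : CochainComplex (ModSite.Mod O) ℤ) (φ : E ⟶ Cx)

/-- partial null-homotopy data over `W`, valid in degrees `≥ k` -/
def PartialH (W : C) (k : ℤ)
    (h : ∀ i j : ℤ, (ModSite.restr O W).obj (E.X i) ⟶ (ModSite.restr O W).obj (Cx.X j)) : Prop :=
  ∀ j j' j'' : ℤ, k ≤ j → j + 1 = j' → j'' + 1 = j →
    (ModSite.restr O W).map (φ.f j) =
      (ModSite.restr O W).map (E.d j j') ≫ h j' j + h j j'' ≫ (ModSite.restr O W).map (Cx.d j'' j)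

lemma resHom_sub {W W' : C} (g : W' ⟶ W) {M N : ModSite.Mod O}
    (h h' : (ModSite.restr O W).obj M ⟶ (ModSite.restr O W).obj N) :
    resHom O g (h - h') = resHom O g h - resHom O g h' := by
  unfold resHom
  rw [Functor.map_sub, Preadditive.sub_comp, Preadditive.comp_sub]

lemma eq_of_isZero_src (W : C) {M N : ModSite.Mod O} (hM : IsZero M)
    (x y : (ModSite.restr O W).obj M ⟶ (ModSite.restr O W).obj N) : x = y :=
  ((ModSite.restr O W).map_isZero hM).eq_of_src x y

theorem exists_partial (hsum : ∀ i, DCoh.IsFinFreeSummandMod (ModSite.ringSh O) (E.X i))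
    (a b : ℤ) (hb : ∀ i, b < i → IsZero (E.X i)) (ha : ∀ i, i < a → IsZero (E.X i))
    (hC : ∀ j, a ≤ j →
      (ShortComplex.mk (Cx.d (j - 1) j) (Cx.d j (j + 1)) (Cx.d_comp_d _ _ _)).Exact) :
    ∀ (m : ℕ) (V : C), ∃ R ∈ J V, ∀ ⦃W : C⦄ (g : W ⟶ V), R g →
      ∃ h, PartialH O E Cx φ W (b + 1 - m) h := by
  intro m
  induction m with
  | zero =>
    intro V
    refine ⟨⊤, J.top_mem V, fun W g _ => ⟨fun _ _ => 0, ?_⟩⟩
    intro j j' j'' hj _ _
    exact eq_of_isZero_src O W (hb j (by omega)) _ _
  | succ m ih =>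
    intro V
    obtain ⟨R, hR, hdata⟩ := ih V
    set k : ℤ := b + 1 - ((m + 1 : ℕ) : ℤ) with hk
    have hk1 : b + 1 - (m : ℤ) = k + 1 := by rw [hk]; push_cast; ring
    rw [hk1] at hdata
    by_cases hz : IsZero (E.X k)
    · refine ⟨R, hR, fun W g hg => ?_⟩
      obtain ⟨h, hh⟩ := hdata g hg
      refine ⟨h, ?_⟩
      intro j j' j'' hj hj' hj''
      by_cases hjk : j = k
      · subst hjk
        exact eq_of_isZero_src O W hz _ _
      · exact hh j j' j'' (by omega) hj' hj''
    · have hak : a ≤ k := by
        by_contra hlt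
        exact hz (ha k (by omega))
      choose h hh using hdata
      let S : ShortComplex (ModSite.Mod O) :=
        ShortComplex.mk (Cx.d (k - 1) k) (Cx.d k (k + 1)) (Cx.d_comp_d _ _ _)
      have hS : S.Exact := hC k hak
      let ψ : ∀ ⦃W : C⦄ (g : W ⟶ V) (hg : R g),
          (ModSite.restr O W).obj (E.X k) ⟶ (ModSite.restr O W).obj (Cx.X k) :=
        fun W g hg => (ModSite.restr O W).map (φ.f k) -
          (ModSite.restr O W).map (E.d k (k + 1)) ≫ h g hg (k + 1) k
      have hψ : ∀ ⦃W : C⦄ (g : W ⟶ V) (hg : R g),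
          ψ g hg ≫ (ModSite.restr O W).map (Cx.d k (k + 1)) = 0 := by
        intro W g hg
        have e1 := hh g hg (k + 1) (k + 1 + 1) k le_rfl rfl rfl
        change ((ModSite.restr O W).map (φ.f k) -
          (ModSite.restr O W).map (E.d k (k + 1)) ≫ h g hg (k + 1) k) ≫ _ = 0
        rw [Preadditive.sub_comp, ← CategoryTheory.Functor.map_comp, φ.comm,
          CategoryTheory.Functor.map_comp, e1, Preadditive.comp_add, ← Category.assoc,
          ← CategoryTheory.Functor.map_comp, E.d_comp_d, CategoryTheory.Functor.map_zero, zero_comp,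
          zero_add, Category.assoc, sub_self]
      choose T hT hl using fun (W : C) (g : W ⟶ V) (hg : R g) =>
        exists_local_lift_summand O (E.X k) (hsum k) S hS W (ψ g hg) (hψ g hg)
      refine ⟨Sieve.bind R (fun W g hg => T W g hg), J.bind_covering hR (fun W g hg => hT W g hg), ?_⟩
      intro W' f hf
      obtain ⟨W, g', g, hg, hg', rfl⟩ := hf
      obtain ⟨l, hl'⟩ := hl W g hg g' hg'
      let h' : ∀ i j : ℤ, (ModSite.restr O W').obj (E.X i) ⟶ (ModSite.restr O W').obj (Cx.X j) :=
        fun i j => if hij : i = k ∧ j = k - 1 then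
          eqToHom (by rw [hij.1]) ≫ l ≫ eqToHom (by rw [hij.2])
        else resHom O g' (h g hg i j)
      have h'_special : h' k (k - 1) = l := by
        change (if hij : k = k ∧ k - 1 = k - 1 then
          eqToHom (by rw [hij.1]) ≫ l ≫ eqToHom (by rw [hij.2])
        else resHom O g' (h g hg k (k - 1))) = l
        rw [dif_pos ⟨rfl, rfl⟩]
        simp
      have h'_other : ∀ i j : ℤ, i ≠ k → h' i j = resHom O g' (h g hg i j) := by
        intro i j hi
        change (if hij : i = k ∧ j = k - 1 then
          eqToHom (by rw [hij.1]) ≫ l ≫ eqToHom (by rw [hij.2])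
        else resHom O g' (h g hg i j)) = _
        rw [dif_neg (fun hij => hi hij.1)]
      refine ⟨h', ?_⟩
      intro j j' j'' hj hj' hj''
      by_cases hjk : j = k
      · subst hjk
        obtain rfl : j'' = k - 1 := by omega
        obtain rfl : j' = k + 1 := by omega
        rw [h'_special, h'_other (k + 1) k (by omega), hl']
        change _ = _ + resHom O g' ((ModSite.restr O W).map (φ.f k) -
          (ModSite.restr O W).map (E.d k (k + 1)) ≫ h g hg (k + 1) k)
        rw [resHom_sub, resHom_map, resHom_comp, resHom_map]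
        abel
      · have e1 := hh g hg j j' j'' (by omega) hj' hj''
        rw [h'_other j' j (by omega), h'_other j j'' hjk]
        have e2 := congrArg (resHom O g') e1
        rw [resHom_add, resHom_comp, resHom_comp, resHom_map, resHom_map, resHom_map] at e2
        exact e2


open Groth.Agent.Lib.Helper21.RestrExact in
/-- a map from a strictly perfect complex (zero below `a`) to a complex exact in degrees `≥ a`
is locally null-homotopic -/
theorem exists_local_nullHomotopy (hE : DCoh.IsStrictlyPerfectMod (ModSite.ringSh O) E) (a : ℤ)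
    (ha : ∀ i, i < a → IsZero (E.X i)) (hC : ∀ j, a ≤ j → Cx.ExactAt j) (V : C) :
    ∃ R ∈ J V, ∀ ⦃W : C⦄ (g : W ⟶ V), R g →
      Nonempty (Homotopy
        (((ModSite.restr O W).mapHomologicalComplex (ComplexShape.up ℤ)).map φ) 0) := by
  obtain ⟨⟨a', b, hab⟩, hsum⟩ := hE
  have hb : ∀ i, b < i → IsZero (E.X i) := fun i hi => hab i (Or.inr hi)
  have hC' : ∀ j, a ≤ j →
      (ShortComplex.mk (Cx.d (j - 1) j) (Cx.d j (j + 1)) (Cx.d_comp_d _ _ _)).Exact := by
    intro j hj
    exact (HomologicalComplex.exactAt_iff' Cx (j - 1) j (j + 1) (by simp) (by simp)).1 (hC j hj)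
  obtain ⟨R, hR, hdata⟩ := exists_partial O E Cx φ hsum a b hb ha hC' (b + 1 - a).toNat V
  refine ⟨R, hR, fun W g hg => ?_⟩
  obtain ⟨h, hh⟩ := hdata g hg
  refine ⟨homotopyOfFamily _ h ?_⟩
  intro j j' j'' hj' hj''
  by_cases hj : b + 1 - ((b + 1 - a).toNat : ℤ) ≤ j
  · exact hh j j' j'' hj hj' hj''
  · have hja : j < a := by
      have := Int.self_le_toNat (b + 1 - a)
      omega
    exact eq_of_isZero_src O W (ha j hja) _ _

open Groth.Agent.Lib.Helper21.RestrExact in
/-- local lifting up to homotopy out of a strictly perfect complex -/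
theorem locally_lift (F G : CochainComplex (ModSite.Mod O) ℤ) (α : E ⟶ F) (f : G ⟶ F)
    (hE : DCoh.IsStrictlyPerfectMod (ModSite.ringSh O) E) (a : ℤ)
    (hEa : ∀ j : ℤ, j < a → IsZero (E.X j))
    (hiso : ∀ j : ℤ, a < j → IsIso (HomologicalComplex.homologyMap f j))
    (hepi : Epi (HomologicalComplex.homologyMap f a)) (V : C) :
    ∃ R ∈ J V, ∀ ⦃W : C⦄ (g : W ⟶ V), R g →
      ∃ β : ((ModSite.restr O W).mapHomologicalComplex (ComplexShape.up ℤ)).obj E ⟶
          ((ModSite.restr O W).mapHomologicalComplex (ComplexShape.up ℤ)).obj G,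
        Nonempty (Homotopy (β ≫ ((ModSite.restr O W).mapHomologicalComplex (ComplexShape.up ℤ)).map f)
          (((ModSite.restr O W).mapHomologicalComplex (ComplexShape.up ℤ)).map α)) := by
  have hC : ∀ j, a ≤ j → (CochainComplex.mappingCone f).ExactAt j := by
    intro j hj
    apply exactAt_mappingCone
    · rcases hj.eq_or_lt with rfl | hlt
      · exact hepi
      · haveI := hiso j hlt
        infer_instance
    · haveI := hiso (j + 1) (by omega)
      infer_instance
  obtain ⟨R, hR, hdata⟩ := exists_local_nullHomotopy O E (CochainComplex.mappingCone f)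
    (α ≫ CochainComplex.mappingCone.inr f) hE a hEa hC V
  refine ⟨R, hR, fun W g hg => ?_⟩
  obtain ⟨h⟩ := hdata g hg
  exact exists_lift_of_homotopy (ModSite.restr O W) f α h

end

end Groth.Agent.Lib.Helper21.LocLift
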