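import Mathlib
import Groth.Agent.Lib.Helper21LocTensor

/-!
# Exchange property at a prime and freeness of the localized cokernel (helper21)

For `δ : M → F` over a Noetherian ring, `F` finite projective, `M` finite, and a prime `p` with residue field `κ`:
`(ker δ) ⊗ κ → M ⊗ κ → F ⊗ κ` exact  ⇔  exact and left map injective  ⇔  `(F / im δ)_p` free.
-/

set_option autoImplicit false
universe u v

namespace Groth.Agent.Lib.Helper21.LocTensor
open TensorProduct

variable {A : Type u} [CommRing A] [IsNoetherianRing A]
  {M : Type v} {F : Type v} [AddCommGroup M] [Module A M] [Module.Finite A M]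
  [AddCommGroup F] [Module A F] [Module.Finite A F] [Module.Projective A F]
  (δ : M →ₗ[A] F) (p : Ideal A) [p.IsPrime]

lemma exact_ker_rangeRestrict : Function.Exact (LinearMap.ker δ).subtype δ.rangeRestrict := by
  rw [LinearMap.exact_iff, LinearMap.ker_rangeRestrict, Submodule.range_subtype]

lemma lTensor_factor (κ : Type*) [CommRing κ] [Algebra A κ] (z : κ ⊗[A] M) :
    δ.lTensor κ z = (LinearMap.range δ).subtype.lTensor κ (δ.rangeRestrict.lTensor κ z) := by
  rw [← LinearMap.comp_apply, ← LinearMap.lTensor_comp]
  rfl

/-- exactness at the residue field gives injectivity of `(im δ) ⊗ κ → F ⊗ κ` -/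
lemma injective_of_exact (κ : Type*) [CommRing κ] [Algebra A κ]
    (h : Function.Exact (LinearMap.lTensor κ (LinearMap.ker δ).subtype) (LinearMap.lTensor κ δ)) :
    Function.Injective ((LinearMap.range δ).subtype.lTensor κ) := by
  have hex := lTensor_exact κ (exact_ker_rangeRestrict δ) δ.surjective_rangeRestrict
  have hsurj := LinearMap.lTensor_surjective κ δ.surjective_rangeRestrict
  rw [injective_iff_map_eq_zero]
  intro y hy
  obtain ⟨x, rfl⟩ := hsurj y
  rw [← lTensor_factor] at hy
  obtain ⟨w, rfl⟩ := (h x).1 hy
  exact (hex _).2 ⟨w, rfl⟩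

/-- injectivity of `(im δ) ⊗ κ → F ⊗ κ` gives exactness at the residue field -/
lemma exact_of_injective (κ : Type*) [CommRing κ] [Algebra A κ]
    (h : Function.Injective ((LinearMap.range δ).subtype.lTensor κ)) :
    Function.Exact (LinearMap.lTensor κ (LinearMap.ker δ).subtype) (LinearMap.lTensor κ δ) := by
  have hex := lTensor_exact κ (exact_ker_rangeRestrict δ) δ.surjective_rangeRestrict
  intro y
  rw [lTensor_factor, ← hex y]
  constructor
  · intro hy
    exact h (by rw [hy, map_zero])
  · intro hy
    rw [hy, map_zero]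

lemma map_exact' {N₁ N₂ N₃ : Type v} [AddCommGroup N₁] [Module A N₁] [AddCommGroup N₂] [Module A N₂]
    [AddCommGroup N₃] [Module A N₃] (S : Submonoid A) (f : N₁ →ₗ[A] N₂) (g : N₂ →ₗ[A] N₃)
    (h : Function.Exact f g) :
    Function.Exact (LocalizedModule.map S f) (LocalizedModule.map S g) :=
  LocalizedModule.map_exact S f g h

/-- `(F / im δ)_p` is free as soon as `(im δ) ⊗ κ(p) → F ⊗ κ(p)` is injective -/
lemma free_coker_of_injective
    (h : Function.Injective ((LinearMap.range δ).subtype.lTensor p.ResidueField)) :
    Module.Free (Localization.AtPrime p)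
      (LocalizedModule p.primeCompl (F ⧸ LinearMap.range δ)) := by
  haveI : Module.Free (Localization.AtPrime p) (LocalizedModule p.primeCompl F) :=
    Module.free_of_flat_of_isLocalRing
  have h' := (injective_iff p.primeCompl p.ResidueField (LinearMap.range δ).subtype).2 h
  exact Module.free_of_lTensor_residueField_injective
    (LocalizedModule.map p.primeCompl (LinearMap.range δ).subtype)
    (LocalizedModule.map p.primeCompl (LinearMap.range δ).mkQ)
    (LocalizedModule.map_surjective _ _ (Submodule.mkQ_surjective _))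
    (map_exact' _ _ _ (LinearMap.exact_subtype_mkQ _)) h'

/-- if `(F / im δ)_p` is free, then `(im δ)_p` is free and both `(im δ) ⊗ κ → F ⊗ κ` and
`(ker δ) ⊗ κ → M ⊗ κ` are injective -/
lemma of_free_coker (h : Module.Free (Localization.AtPrime p)
      (LocalizedModule p.primeCompl (F ⧸ LinearMap.range δ))) :
    Module.Free (Localization.AtPrime p) (LocalizedModule p.primeCompl (LinearMap.range δ)) ∧
    Function.Injective ((LinearMap.range δ).subtype.lTensor p.ResidueField) ∧
    Function.Injective ((LinearMap.ker δ).subtype.lTensor p.ResidueField) := by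
  -- the localized sequence `0 → I_p → F_p → C_p → 0` splits
  have hex1 := map_exact' p.primeCompl _ _ (LinearMap.exact_subtype_mkQ (LinearMap.range δ))
  have hinj1 := LocalizedModule.map_injective p.primeCompl (LinearMap.range δ).subtype
    Subtype.val_injective
  have hsurj1 := LocalizedModule.map_surjective p.primeCompl (LinearMap.range δ).mkQ
    (Submodule.mkQ_surjective _)
  obtain ⟨r, hr⟩ := ((Function.Exact.split_tfae hex1 hinj1 hsurj1).out 0 1).mp
    (Module.projective_lifting_property _ _ hsurj1)
  haveI : Module.Projective (Localization.AtPrime p)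
      (LocalizedModule p.primeCompl (LinearMap.range δ)) :=
    Module.Projective.of_split _ _ hr
  have hfree : Module.Free (Localization.AtPrime p)
      (LocalizedModule p.primeCompl (LinearMap.range δ)) := Module.free_of_flat_of_isLocalRing
  -- the localized sequence `0 → K_p → M_p → I_p → 0` splits
  have hex2 := map_exact' p.primeCompl _ _ (exact_ker_rangeRestrict δ)
  have hinj2 := LocalizedModule.map_injective p.primeCompl (LinearMap.ker δ).subtype
    Subtype.val_injective
  have hsurj2 := LocalizedModule.map_surjective p.primeCompl δ.rangeRestrict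
    δ.surjective_rangeRestrict
  obtain ⟨s, hs⟩ := ((Function.Exact.split_tfae hex2 hinj2 hsurj2).out 0 1).mp
    (Module.projective_lifting_property _ _ hsurj2)
  refine ⟨hfree, ?_, ?_⟩
  · rw [← injective_iff p.primeCompl p.ResidueField]
    apply Function.LeftInverse.injective (g := r.lTensor p.ResidueField)
    intro z
    rw [← LinearMap.comp_apply, ← LinearMap.lTensor_comp, hr, LinearMap.lTensor_id]
    rfl
  · rw [← injective_iff p.primeCompl p.ResidueField]
    apply Function.LeftInverse.injective (g := s.lTensor p.ResidueField)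
    intro z
    rw [← LinearMap.comp_apply, ← LinearMap.lTensor_comp, hs, LinearMap.lTensor_id]
    rfl

end Groth.Agent.Lib.Helper21.LocTensor


namespace Groth.Agent.Lib.Helper21.LocTensor
open TensorProduct

section coker
variable {A : Type u} [CommRing A] [IsNoetherianRing A]
  {N₀ N₁ N₂ : Type v} [AddCommGroup N₀] [Module A N₀] [AddCommGroup N₁] [Module A N₁]
  [Module.Finite A N₁] [AddCommGroup N₂] [Module A N₂] [Module.Finite A N₂] [Module.Projective A N₂]

/-- change of the coefficient module along a linear equivalence -/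
lemma lTensor_exact_iff_of_equiv {k κ : Type*} [AddCommGroup k] [Module A k] [AddCommGroup κ]
    [Module A κ] (e : k ≃ₗ[A] κ) {M₁ M₂ M₃ : Type*} [AddCommGroup M₁] [Module A M₁]
    [AddCommGroup M₂] [Module A M₂] [AddCommGroup M₃] [Module A M₃]
    (f : M₁ →ₗ[A] M₂) (g : M₂ →ₗ[A] M₃) :
    Function.Exact (f.lTensor κ) (g.lTensor κ) ↔ Function.Exact (f.lTensor k) (g.lTensor k) :=
  Function.Exact.iff_of_ladder_linearEquiv (e₁ := LinearEquiv.rTensor M₁ e)
    (e₂ := LinearEquiv.rTensor M₂ e) (e₃ := LinearEquiv.rTensor M₃ e)
    (by ext; simp) (by ext; simp)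

/-- the residue field of a maximal ideal is the quotient -/
noncomputable def quotEquivResidueField (m : Ideal A) [m.IsMaximal] :
    (A ⧸ m) ≃ₗ[A] m.ResidueField :=
  LinearEquiv.ofBijective (IsScalarTower.toAlgHom A (A ⧸ m) m.ResidueField).toLinearMap
    m.bijective_algebraMap_quotient_residueField

/-- **Projectivity of a cokernel from exactness modulo all maximal ideals.** -/
theorem projective_coker (δ₀ : N₀ →ₗ[A] N₁) (δ : N₁ →ₗ[A] N₂) (hex : Function.Exact δ₀ δ)
    (hk : ∀ (m : Ideal A) [m.IsMaximal],
      Function.Exact (δ₀.rTensor (A ⧸ m)) (δ.rTensor (A ⧸ m))) :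
    Module.Projective A (N₂ ⧸ LinearMap.range δ) := by
  haveI : Module.FinitePresentation A (N₂ ⧸ LinearMap.range δ) :=
    Module.finitePresentation_of_finite A _
  apply Module.projective_of_localization_maximal
  intro m hm
  haveI := hm
  -- exactness with the kernel in place of `N₀`
  have h1 : Function.Exact (LinearMap.lTensor m.ResidueField (LinearMap.ker δ).subtype)
      (LinearMap.lTensor m.ResidueField δ) := by
    rw [lTensor_exact_iff_of_equiv (quotEquivResidueField m)]
    have h2 := (LinearMap.rTensor_exact_iff_lTensor_exact (A ⧸ m)).1 (hk m)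
    -- `δ₀` factors through the kernel, surjectively
    have hle : ∀ x, δ₀ x ∈ LinearMap.ker δ := fun x => (hex (δ₀ x)).2 ⟨x, rfl⟩
    have hfac : δ₀ = (LinearMap.ker δ).subtype ∘ₗ (δ₀.codRestrict (LinearMap.ker δ) hle) := by
      ext x; rfl
    have hsurj : Function.Surjective (δ₀.codRestrict (LinearMap.ker δ) hle) := by
      rintro ⟨y, hy⟩
      obtain ⟨x, rfl⟩ := (hex y).1 hy
      exact ⟨x, rfl⟩
    have hsurj' := LinearMap.lTensor_surjective (A ⧸ m) hsurj
    intro y
    rw [h2 y]
    constructor
    · rintro ⟨x, rfl⟩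
      refine ⟨(δ₀.codRestrict (LinearMap.ker δ) hle).lTensor (A ⧸ m) x, ?_⟩
      rw [← LinearMap.comp_apply, ← LinearMap.lTensor_comp, ← hfac]
    · rintro ⟨x, rfl⟩
      obtain ⟨w, rfl⟩ := hsurj' x
      refine ⟨w, ?_⟩
      rw [← LinearMap.comp_apply, ← LinearMap.lTensor_comp, ← hfac]
  haveI := free_coker_of_injective δ m (injective_of_exact δ _ h1)
  infer_instance

end coker

end Groth.Agent.Lib.Helper21.LocTensor
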