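import Mathlib
import Groth.Prelude.Def_ModSite
import Groth.Prelude.Def_ModSite2
import Groth.Agent.Lib.Helper21ModSp8
import Groth.Agent.Lib.Helper21ModTensor5

/-!
# Filtered colimits of modules and stalks; finite type colimits
(helper21; for the ModSite row S6834)

* `toSheaf_preservesColimitsOfShape`, `exists_rep_stalk`, `exists_common_stage`,
  `exists_local_lift_of_germ_mem_range`, `epi_of_epi_restr`, `exists_nhd_epi_of_isColimit`.
-/

set_option autoImplicit false
universe u v
open CategoryTheory CategoryTheory.Limits Opposite TopologicalSpace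

namespace Groth.Agent.Lib.Helper21.ModSp

open Groth.Agent.Lib.Helper21.LocFact Groth.Agent.Lib.Helper21.EqCrit
  Groth.Agent.Lib.Helper21.StalkFlat

noncomputable section

section colim

variable {C : Type u} [SmallCategory C] {J : GrothendieckTopology C} (O : Sheaf J CommRingCat.{u})

/-- the forgetful functor to abelian sheaves preserves colimits. -/
instance toSheaf_preservesColimitsOfShape (K : Type u) [SmallCategory K] :
    PreservesColimitsOfShape K (SheafOfModules.toSheaf.{u} (ModSite.ringSh O)) := by
  haveI h1 : PreservesColimitsOfShape K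
      (PresheafOfModules.toPresheaf.{u} (ModSite.ringSh O).obj) := inferInstance
  haveI h2 : PreservesColimitsOfShape K (presheafToSheaf J AddCommGrpCat.{u}) :=
    (sheafificationAdjunction J AddCommGrpCat.{u}).leftAdjoint_preservesColimits.preservesColimitsOfShape
  haveI : PreservesColimitsOfShape K
      (PresheafOfModules.toPresheaf.{u} (ModSite.ringSh O).obj ⋙
        presheafToSheaf J AddCommGrpCat.{u}) := comp_preservesColimitsOfShape _ _
  haveI : PreservesColimitsOfShape K
      (Groth.Agent.Lib.Helper21.ModTensor2.shf O ⋙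
        SheafOfModules.toSheaf.{u} (ModSite.ringSh O)) :=
    @preservesColimitsOfShape_of_natIso _ _ _ _ K _ _ _
      (PresheafOfModules.sheafificationCompToSheaf (𝟙 (ModSite.ringSh O).obj)).symm this
  exact Groth.Agent.Lib.Helper21.ModTensor3.preservesColimitsOfShape_of_shf_comp O K _

variable {O}
variable (p : GrothendieckTopology.Point.{u} J)

/-- every element of the stalk of a filtered colimit comes from a stage. -/
theorem exists_rep_stalk {K : Type u} [SmallCategory K] [IsFiltered K] (D : K ⥤ ModSite.Mod O)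
    (c : Cocone D) (hc : IsColimit c) (z : ModSite.stalkAb p c.pt) :
    ∃ (k : K) (y : ModSite.stalkAb p (D.obj k)), (ModSite.stalkMap p (c.ι.app k)).hom y = z := by
  have hG := isColimitOfPreserves (SheafOfModules.toSheaf.{u} (ModSite.ringSh O) ⋙
    p.sheafFiber (A := AddCommGrpCat.{u})) hc
  obtain ⟨k, y, hy⟩ := Concrete.isColimit_exists_rep _ hG z
  exact ⟨k, y, hy⟩

/-- finitely many sections of the target whose germs are in the range of the stalk map lift
locally. -/
theorem exists_local_lift_of_germ_mem_range {G F : ModSite.Mod O} (φ : G ⟶ F) {U₀ : C}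
    (x₀ : p.fiber.obj U₀) {I : Type*} [Finite I] (s : I → F.val.obj (op U₀))
    (hs : ∀ i, ∃ τ, (ModSite.stalkMap p φ).hom τ = ModSite.germ p F U₀ x₀ (s i)) :
    ∃ (Y : C) (g : Y ⟶ U₀) (y : p.fiber.obj Y), p.fiber.map g y = x₀ ∧
      ∃ t : I → G.val.obj (op Y), ∀ i, φ.val.app (op Y) (t i) = F.val.map g.op (s i) := by
  choose τ hτ using hs
  obtain ⟨W, w, g₀, hw, t, ht⟩ := exists_common_sections p G U₀ x₀ τ
  have h1 : ∀ i, ModSite.germ p F W w (φ.val.app (op W) (t i)) =
      ModSite.germ p F W w (F.val.map g₀.op (s i)) := by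
    intro i
    rw [← stalkMap_germ, ht, hτ, germ_w, hw]
  obtain ⟨Y, g, y, hy, hg⟩ := exists_refine_sections p F W w _ _ h1
  refine ⟨Y, g ≫ g₀, y, ?_, fun i => G.val.map g.op (t i), fun i => ?_⟩
  · rw [Functor.map_comp, ConcreteCategory.comp_apply, hy, hw]
  · have hnat : φ.val.app (op Y) (G.val.map g.op (t i)) =
        F.val.map g.op (φ.val.app (op W) (t i)) :=
      PresheafOfModules.naturality_apply φ.val g.op (t i)
    rw [hnat, hg i, op_comp]
    exact (PresheafOfModules.map_comp_apply F.val g₀.op g.op (s i)).symm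

/-- in a directed colimit, finitely many germs come from a common stage. -/
theorem exists_common_stage {K : Type u} [Preorder K] [Nonempty K] [IsDirected K (· ≤ ·)]
    (D : K ⥤ ModSite.Mod O) (c : Cocone D) (hc : IsColimit c) {I : Type*} [Finite I]
    (z : I → ModSite.stalkAb p c.pt) :
    ∃ k : K, ∀ i, ∃ y : ModSite.stalkAb p (D.obj k),
      (ModSite.stalkMap p (c.ι.app k)).hom y = z i := by
  choose k y hy using fun i => exists_rep_stalk p D c hc (z i)
  obtain ⟨k₀, hk₀⟩ := Finite.exists_le k
  refine ⟨k₀, fun i => ⟨(ModSite.stalkMap p (D.map (homOfLE (hk₀ i)))).hom (y i), ?_⟩⟩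
  rw [← stalkMap_comp_apply, c.w, hy]

end colim

section localEpi

variable {C : Type u} [SmallCategory C] {J : GrothendieckTopology C} (O : Sheaf J CommRingCat.{u})

open Groth.Agent.Lib.Helper21.RestrExact in
/-- being an epimorphism is local. -/
theorem epi_of_epi_restr {I : Type*} (Y : I → C) (hY : J.CoversTop Y) {A B : ModSite.Mod O}
    (φ : A ⟶ B) (h : ∀ i, Epi ((ModSite.restr O (Y i)).map φ)) : Epi φ := by
  have hz : IsZero (cokernel φ) := by
    refine Groth.Agent.Lib.Helper21.ModLocalIso.isZero_of_isZero_restr O Y hY _ fun i => ?_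
    haveI := h i
    have e : (ModSite.restr O (Y i)).obj (cokernel φ) ≅
        cokernel ((ModSite.restr O (Y i)).map φ) :=
      PreservesCokernel.iso (ModSite.restr O (Y i)) φ
    exact (isZero_cokernel_of_epi _).of_iso e
  exact Preadditive.epi_of_isZero_cokernel φ hz

end localEpi

section space

variable {X : TopCat.{u}} {O : TopCat.Sheaf CommRingCat.{u} X}

/-- a finite type directed colimit is locally generated by a stage. -/
theorem exists_nhd_epi_of_isColimit {K : Type u} [Preorder K] [Nonempty K]
    [IsDirected K (· ≤ ·)] (D : K ⥤ ModSite.Mod O) (c : Cocone D) (hc : IsColimit c)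
    [SheafOfModules.IsFiniteType (R := ModSite.ringSh O) c.pt] (x : X) :
    ∃ (k : K) (V : Opens X), x ∈ V ∧ Epi ((ModSite.restr O V).map (c.ι.app k)) := by
  obtain ⟨U₀, hx₀, I, hI, π, hπ⟩ := (isFiniteType_iff_nhds O c.pt).mp inferInstance x
  obtain ⟨k, hk⟩ := exists_common_stage (Opens.pointGrothendieckTopology x) D c hc
    (fun i => ModSite.germ (Opens.pointGrothendieckTopology x) c.pt U₀ ⟨⟨hx₀⟩⟩ (secV π i))
  obtain ⟨Y, g, y, hy, t, ht⟩ := exists_local_lift_of_germ_mem_range
    (Opens.pointGrothendieckTopology x) (c.ι.app k) (U₀ := U₀) ⟨⟨hx₀⟩⟩ (secV π) hk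
  refine ⟨k, Y, y.down.down, ?_⟩
  have hfac : homV t ≫ (ModSite.restr O Y).map (c.ι.app k) = resFr g π := by
    apply secV_ext
    intro i
    rw [secV_comp_map, secV_homV, secV_resFr]
    exact ht i
  haveI : Epi (resFr g π) := inferInstance
  haveI : Epi (homV t ≫ (ModSite.restr O Y).map (c.ι.app k)) := by rw [hfac]; infer_instance
  exact epi_of_epi (homV t) _

end space
end

end Groth.Agent.Lib.Helper21.ModSp
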