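import Mathlib
import Groth.Prelude.Def_ModSite
import Groth.Prelude.Def_ModSite2
import Groth.Agent.Lib.Helper21ModSp8

/-!
# Rank of free modules on slices of a ringed site
(helper21; for the ModSite row S6858)

* `le_of_retract_free`, `card_le_of_retract_free`, `card_eq_of_free_iso` : if `O(V) ≠ 0`, then
  `O_V^(I) ≅ O_V^(I')` implies `ENat.card I = ENat.card I'`.
-/

set_option autoImplicit false
universe u v
open CategoryTheory CategoryTheory.Limits Opposite TopologicalSpace

namespace Groth.Agent.Lib.Helper21.ModSp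

open Groth.Agent.Lib.Helper21.LocFact Groth.Agent.Lib.Helper21.EqCrit
  Groth.Agent.Lib.Helper21.StalkFlat

noncomputable section

section rank

variable {C : Type u} [SmallCategory C] [HasBinaryProducts C] [HasPullbacks C]
  {J : GrothendieckTopology C} {O : Sheaf J CommRingCat.{u}}

/-- `O_V^m` is a retract of `O_V^n` only if `m ≤ n` (when `O(V) ≠ 0`). -/
theorem le_of_retract_free {V : C} (hnt : Nontrivial (O.obj.obj (op V))) {m n : ℕ}
    (a : FrI (O.over V) (ULift.{u} (Fin m)) ⟶ FrI (O.over V) (ULift.{u} (Fin n)))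
    (b : FrI (O.over V) (ULift.{u} (Fin n)) ⟶ FrI (O.over V) (ULift.{u} (Fin m)))
    (h : a ≫ b = 𝟙 _) : m ≤ n := by
  letI : CommRing ((ModSite.ringSh (O.over V)).obj.obj (op (Over.mk (𝟙 V)))) :=
    { (inferInstance : Ring ((ModSite.ringSh (O.over V)).obj.obj (op (Over.mk (𝟙 V))))) with
      mul_comm := fun a b => mul_comm (G := O.obj.obj (op V)) a b }
  haveI : Nontrivial ((ModSite.ringSh (O.over V)).obj.obj (op (Over.mk (𝟙 V)))) := hnt
  have hG : (RS.G (ModSite.ringSh (O.over V)) (Over.mk (𝟙 V))).map a ≫
      (RS.G (ModSite.ringSh (O.over V)) (Over.mk (𝟙 V))).map b = 𝟙 _ := by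
    rw [← Functor.map_comp, h, CategoryTheory.Functor.map_id]
  have hinj : Function.Injective
      ((RS.G (ModSite.ringSh (O.over V)) (Over.mk (𝟙 V))).map a).hom := by
    intro z z' hz
    have h1 := congrArg (fun f => f.hom z) hG
    have h2 := congrArg (fun f => f.hom z') hG
    have h3 := congrArg ((RS.G (ModSite.ringSh (O.over V)) (Over.mk (𝟙 V))).map b).hom hz
    exact h1.symm.trans (h3.trans h2)
  have h4 := card_le_of_injective ((ModSite.ringSh (O.over V)).obj.obj (op (Over.mk (𝟙 V))))
    ((RetractFreeSite.lam (ModSite.ringSh (O.over V)) (hTX V) n).toLinearMap ∘ₗ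
      ((RS.G (ModSite.ringSh (O.over V)) (Over.mk (𝟙 V))).map a).hom ∘ₗ
      (RetractFreeSite.lam (ModSite.ringSh (O.over V)) (hTX V) m).symm.toLinearMap)
    ((RetractFreeSite.lam (ModSite.ringSh (O.over V)) (hTX V) n).injective.comp
      (hinj.comp (RetractFreeSite.lam (ModSite.ringSh (O.over V)) (hTX V) m).symm.injective))
  simpa using h4

/-- free modules are functorial in the index type -/
theorem freeMap_comp_of_leftInverse {V : C} {I I' : Type u} (f : I → I') (r : I' → I)
    (hr : Function.LeftInverse r f) :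
    (SheafOfModules.freeMap (R := ModSite.ringSh (O.over V)) f) ≫
      (SheafOfModules.freeMap (R := ModSite.ringSh (O.over V)) r) = 𝟙 _ := by
  refine Cofan.IsColimit.hom_ext (SheafOfModules.isColimitFreeCofan
    (R := ModSite.ringSh (O.over V)) _) _ _ (fun k => ?_)
  change SheafOfModules.ιFree k ≫ _ = SheafOfModules.ιFree k ≫ _
  rw [SheafOfModules.ιFree_freeMap_assoc, SheafOfModules.ιFree_freeMap, hr k,
    Category.comp_id]

def frCongr {V : C} {I I' : Type u} (e : I ≃ I') : FrI (O.over V) I ≅ FrI (O.over V) I' where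
  hom := SheafOfModules.freeMap (R := ModSite.ringSh (O.over V)) e
  inv := SheafOfModules.freeMap (R := ModSite.ringSh (O.over V)) e.symm
  hom_inv_id := freeMap_comp_of_leftInverse _ _ e.left_inv
  inv_hom_id := freeMap_comp_of_leftInverse _ _ e.right_inv

/-- a retract of a free module on a finite set has a smaller index set -/
theorem card_le_of_retract_free {V : C} (hnt : Nontrivial (O.obj.obj (op V))) {I I' : Type u}
    (a : FrI (O.over V) I ⟶ FrI (O.over V) I') (b : FrI (O.over V) I' ⟶ FrI (O.over V) I)
    (h : a ≫ b = 𝟙 _) : ENat.card I ≤ ENat.card I' := by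
  classical
  by_cases hI' : Infinite I'
  · rw [ENat.card_eq_top_of_infinite (α := I')]
    exact le_top
  · rw [not_infinite_iff_finite] at hI'
    obtain ⟨n, ⟨e'⟩⟩ := Finite.exists_equiv_fin I'
    let e'' : I' ≃ ULift.{u} (Fin n) := e'.trans Equiv.ulift.symm
    have hn : ENat.card I' = n := by
      rw [ENat.card_congr e'', ENat.card_ulift, ENat.card_eq_coe_fintype_card, Fintype.card_fin]
    by_cases hI : Infinite I
    · exfalso
      -- embed `Fin (n+1)` in `I`
      let ι : ULift.{u} (Fin (n + 1)) → I := fun k => Infinite.natEmbedding I k.down.val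
      have hι : Function.Injective ι := fun k k' hk => by
        have := (Infinite.natEmbedding I).injective hk
        exact ULift.ext _ _ (Fin.ext this)
      obtain ⟨r, hr⟩ := hι.hasLeftInverse
      have h1 : (SheafOfModules.freeMap (R := ModSite.ringSh (O.over V)) ι) ≫
          (SheafOfModules.freeMap (R := ModSite.ringSh (O.over V)) r) = 𝟙 _ := by
        refine Cofan.IsColimit.hom_ext (SheafOfModules.isColimitFreeCofan
          (R := ModSite.ringSh (O.over V)) _) _ _ (fun k => ?_)
        change SheafOfModules.ιFree k ≫ _ = SheafOfModules.ιFree k ≫ _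
        rw [SheafOfModules.ιFree_freeMap_assoc, SheafOfModules.ιFree_freeMap, hr k,
          Category.comp_id]
      have h4 := le_of_retract_free hnt
        (SheafOfModules.freeMap (R := ModSite.ringSh (O.over V)) ι ≫ a ≫ (frCongr e'').hom)
        ((frCongr e'').inv ≫ b ≫ SheafOfModules.freeMap (R := ModSite.ringSh (O.over V)) r)
        (by
          simp only [Category.assoc, Iso.hom_inv_id_assoc]
          rw [reassoc_of% h, h1])
      omega
    · rw [not_infinite_iff_finite] at hI
      obtain ⟨m, ⟨e⟩⟩ := Finite.exists_equiv_fin I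
      let e₁ : I ≃ ULift.{u} (Fin m) := e.trans Equiv.ulift.symm
      have hm : ENat.card I = m := by
        rw [ENat.card_congr e₁, ENat.card_ulift, ENat.card_eq_coe_fintype_card, Fintype.card_fin]
      have h4 := le_of_retract_free hnt
        ((frCongr e₁).inv ≫ a ≫ (frCongr e'').hom) ((frCongr e'').inv ≫ b ≫ (frCongr e₁).hom)
        (by
          simp only [Category.assoc, Iso.hom_inv_id_assoc]
          rw [reassoc_of% h, Iso.inv_hom_id])
      rw [hm, hn]
      exact_mod_cast h4

theorem card_eq_of_free_iso {V : C} (hnt : Nontrivial (O.obj.obj (op V))) {I I' : Type u}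
    (e : FrI (O.over V) I ≅ FrI (O.over V) I') : ENat.card I = ENat.card I' :=
  le_antisymm (card_le_of_retract_free hnt e.hom e.inv e.hom_inv_id)
    (card_le_of_retract_free hnt e.inv e.hom e.inv_hom_id)

end rank
end

end Groth.Agent.Lib.Helper21.ModSp
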