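import Mathlib
import Groth.Agent.Lib.Helper21ConstHom
import Groth.Agent.Lib.Helper21KumEpi

/-!
# `μ_n ≅ ℤ/n` on the small étale site when `n` is invertible and a primitive root exists (helper21)
-/

set_option autoImplicit false
universe u
open CategoryTheory CategoryTheory.Limits AlgebraicGeometry Opposite Polynomial

namespace Groth.Agent.Lib.Helper21.MuConst
open Groth.Agent.Lib.Helper21.TorsA Groth.Agent.Lib.Helper21.EtOpen Groth.Agent.Lib.Helper21.KumEpi

section general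
variable {Y : Scheme.{u}}

lemma isUnit_of_basicOpen_eq_top (r : Γ(Y, ⊤)) (h : Y.basicOpen r = ⊤) : IsUnit r := by
  apply RingedSpace.isUnit_of_isUnit_germ (X := Y.toRingedSpace)
  intro y' hy
  let y : Y := y'
  have h1 : y ∈ Y.basicOpen r := by rw [h]; trivial
  exact (Scheme.mem_basicOpen _ _ _ hy).1 h1

/-- an `n`-th root of unity which is `1` at a point where `n` is invertible is `1` near that point -/
theorem exists_opens_eq_one (n : ℕ) (u : Γ(Y, ⊤)) (hu : u ^ n = 1) (y : Y)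
    (hy : (Y.Γevaluation y).hom u = 1) (hn : ((n : ℕ) : Y.residueField y) ≠ 0) :
    ∃ W : Y.Opens, y ∈ W ∧ W.ι.appTop.hom u = 1 := by
  let w : Γ(Y, ⊤) := ∑ i ∈ Finset.range n, u ^ i
  refine ⟨Y.basicOpen w, ?_, ?_⟩
  · rw [← Scheme.evaluation_ne_zero_iff_mem_basicOpen Y (U := ⊤) y (Set.mem_univ _)]
    have h1 : (Y.Γevaluation y).hom w = (n : Y.residueField y) := by
      simp only [w, map_sum, map_pow, hy, one_pow, Finset.sum_const, Finset.card_range, nsmul_eq_mul,
        mul_one]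
    exact fun h0 => hn (h1.symm.trans h0)
  · have hunit : IsUnit ((Y.basicOpen w).ι.appTop.hom w) := by
      apply isUnit_of_basicOpen_eq_top
      have h1 := Scheme.preimage_basicOpen (Y.basicOpen w).ι (U := ⊤) w
      rw [Scheme.Opens.ι_preimage_self] at h1
      exact h1.symm
    have h2 : (u - 1) * w = 0 := by
      rw [mul_geom_sum, hu, sub_self]
    have h3 := congrArg (Y.basicOpen w).ι.appTop.hom h2
    rw [map_mul, map_zero, map_sub, map_one] at h3
    have h4 := (hunit.mul_left_eq_zero).1 h3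
    exact sub_eq_zero.1 h4

end general

section mu
variable {X : Scheme.{u}} (n : ℕ)

instance mono_muι : Mono (EtCoh.muι X n) := inferInstanceAs (Mono (kernel.ι (EtCoh.powMap X n)))

/-- the inclusion `μ_n(V) → G_m(V)` -/
noncomputable abbrev muI (V : X.Etale) :
    (EtCoh.mu X n).obj.obj (op V) →+ (EtCoh.Gm X).obj.obj (op V) :=
  ((EtCoh.muι X n).hom.app (op V)).hom

lemma muI_injective (V : X.Etale) : Function.Injective (muI n V) :=
  injective_app_of_mono.{u, u+1} (EtCoh.muι X n) V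

lemma nsmul_muI (V : X.Etale) (e : (EtCoh.mu X n).obj.obj (op V)) : n • muI n V e = 0 := by
  rw [← powMap_app]
  have h1 : ((EtCoh.muι X n ≫ EtCoh.powMap X n).hom.app (op V)).hom e = 0 := by
    have h0 : EtCoh.muι X n ≫ EtCoh.powMap X n = 0 := kernel.condition _
    rw [h0]
    rfl
  exact h1

lemma exists_muI_eq (V : X.Etale) (g : (EtCoh.Gm X).obj.obj (op V)) (h : n • g = 0) :
    ∃ e, muI n V e = g := by
  let S : ShortComplex (EtCoh.Ab X) :=
    ShortComplex.mk (EtCoh.muι X n) (EtCoh.powMap X n) (kernel.condition _)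
  have hS : S.Exact := ShortComplex.exact_of_f_is_kernel _ (kernelIsKernel _)
  let F : EtCoh.Ab X ⥤ AddCommGrpCat.{u+1} :=
    sheafToPresheaf _ _ ⋙ (evaluation _ _).obj (op V)
  haveI : Mono S.f := mono_muι n
  haveI : F.PreservesZeroMorphisms := ⟨fun _ _ => rfl⟩
  have h' : (S.map F).Exact := hS.map_of_mono_of_preservesKernel F inferInstance inferInstance
  rw [ShortComplex.ab_exact_iff] at h'
  exact h' g ((powMap_app n V g).trans h)

lemma res_muI {V W : X.Etale} (f : W ⟶ V) (e : (EtCoh.mu X n).obj.obj (op V)) :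
    muI n W (res _ (EtCoh.mu X n) f e) = res _ (EtCoh.Gm X) f (muI n V e) :=
  (res_map (EtCoh.muι X n) f e).symm

end mu

section alg
variable (n : ℕ)

lemma pow_eq_one_of_root {R : Type*} [CommRing R] (z : R) (hz : aeval z (cyclotomic n ℤ) = 0) :
    z ^ n = 1 := by
  obtain ⟨q, hq⟩ := cyclotomic.dvd_X_pow_sub_one n ℤ
  have h := congrArg (aeval z) hq
  rw [map_mul, hz, zero_mul, map_sub, map_pow, aeval_X, map_one] at h
  exact sub_eq_zero.1 h

lemma aeval_map_root {R S : Type*} [CommRing R] [CommRing S] (φ : R →+* S) (z : R)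
    (hz : aeval z (cyclotomic n ℤ) = 0) : aeval (φ z) (cyclotomic n ℤ) = 0 := by
  have h := Polynomial.aeval_algHom_apply φ.toIntAlgHom z (cyclotomic n ℤ)
  rw [hz, map_zero] at h
  exact h

lemma isPrimitiveRoot_of_root {K : Type*} [Field K] (z : K) (hz : aeval z (cyclotomic n ℤ) = 0)
    (hn : ((n : ℕ) : K) ≠ 0) : IsPrimitiveRoot z n := by
  haveI : NeZero ((n : ℕ) : K) := ⟨hn⟩
  rw [← isRoot_cyclotomic_iff, IsRoot.def, ← map_cyclotomic_int n K, Polynomial.eval_map, ← algebraMap_int_eq,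
    ← aeval_def]
  exact hz

end alg

section zeta
variable {X : Scheme.{u}} (n : ℕ) [NeZero n] (ζ : Γ(X, ⊤)) (hζ : aeval ζ (cyclotomic n ℤ) = 0)

/-- `ζ` pulled back to `V`, as a unit -/
noncomputable def zU (V : X.Etale) : (Γ(V.left, ⊤))ˣ :=
  Units.ofPowEqOne (V.hom.appTop.hom ζ) n
    (by rw [← map_pow, pow_eq_one_of_root n ζ hζ, map_one]) (NeZero.ne n)

lemma zU_val (V : X.Etale) : (zU n ζ hζ V : Γ(V.left, ⊤)) = V.hom.appTop.hom ζ := rfl

lemma zU_pow (V : X.Etale) : zU n ζ hζ V ^ n = 1 := by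
  apply Units.ext
  rw [Units.val_pow_eq_pow_val, zU_val, ← map_pow, pow_eq_one_of_root n ζ hζ, map_one]
  rfl

lemma zU_res {V W : X.Etale} (f : W ⟶ V) :
    Units.map f.left.appTop.hom.toMonoidHom (zU n ζ hζ V) = zU n ζ hζ W := by
  apply Units.ext
  have hw : f.left ≫ V.hom = W.hom := Over.w f.hom
  have h1 : V.hom.appTop ≫ f.left.appTop = W.hom.appTop := by
    rw [← Scheme.Hom.comp_appTop, hw]
  exact ConcreteCategory.congr_hom h1 ζ

lemma nsmul_gmOf_zU (V : X.Etale) : n • gmOf V (Additive.ofMul (zU n ζ hζ V)) = 0 := by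
  rw [← map_nsmul, ← ofMul_pow, zU_pow, ofMul_one, map_zero]

/-- `ζ` as a section of `μ_n` -/
noncomputable def zSec (V : X.Etale) : (EtCoh.mu X n).obj.obj (op V) :=
  (exists_muI_eq n V _ (nsmul_gmOf_zU n ζ hζ V)).choose

lemma muI_zSec (V : X.Etale) : muI n V (zSec n ζ hζ V) = gmOf V (Additive.ofMul (zU n ζ hζ V)) :=
  (exists_muI_eq n V _ (nsmul_gmOf_zU n ζ hζ V)).choose_spec

lemma res_zSec {V W : X.Etale} (f : W ⟶ V) :
    res _ (EtCoh.mu X n) f (zSec n ζ hζ V) = zSec n ζ hζ W := by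
  apply muI_injective n W
  rw [res_muI, muI_zSec, muI_zSec]
  refine (res_gmOf f _).trans ?_
  rw [toMul_ofMul, zU_res]

lemma nsmul_zSec (V : X.Etale) : n • zSec n ζ hζ V = 0 := by
  apply muI_injective n V
  rw [map_nsmul, map_zero]
  exact nsmul_muI n V _

/-- the homomorphism `ℤ → μ_n(V)`, `1 ↦ ζ`, killing `n` -/
noncomputable def zHom (V : X.Etale) :
    {f : ℤ →+ (EtCoh.mu X n).obj.obj (op V) // f n = 0} :=
  ⟨zmultiplesHom _ (zSec n ζ hζ V), by
    rw [zmultiplesHom_apply, natCast_zsmul]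
    exact nsmul_zSec n ζ hζ V⟩

/-- the homomorphism `ℤ/n → μ_n(V)`, `1 ↦ ζ` -/
noncomputable def tHom (V : X.Etale) : ULift.{u+1} (ZMod n) →+ (EtCoh.mu X n).obj.obj (op V) :=
  (ZMod.lift n (zHom n ζ hζ V)).comp AddEquiv.ulift.toAddMonoidHom

lemma tHom_natCast (V : X.Etale) (m : ℕ) :
    tHom n ζ hζ V ⟨(m : ZMod n)⟩ = m • zSec n ζ hζ V := by
  change ZMod.lift n (zHom n ζ hζ V) ((m : ZMod n)) = _
  have h := ZMod.lift_coe n (zHom n ζ hζ V) (m : ℤ)
  rw [Int.cast_natCast] at h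
  rw [h]
  change (zmultiplesHom _ (zSec n ζ hζ V)) (m : ℤ) = _
  rw [zmultiplesHom_apply, natCast_zsmul]

lemma eq_natCast (b : ULift.{u+1} (ZMod n)) : b = ⟨((b.down.val : ℕ) : ZMod n)⟩ := by
  apply ULift.ext
  exact (ZMod.natCast_zmod_val b.down).symm

lemma muI_tHom_natCast (V : X.Etale) (m : ℕ) :
    muI n V (tHom n ζ hζ V ⟨(m : ZMod n)⟩) = gmOf V (Additive.ofMul (zU n ζ hζ V ^ m)) := by
  rw [tHom_natCast, map_nsmul, muI_zSec, ← map_nsmul, ← ofMul_pow]

lemma res_tHom {V W : X.Etale} (f : W ⟶ V) (b : ULift.{u+1} (ZMod n)) :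
    res _ (EtCoh.mu X n) f (tHom n ζ hζ V b) = tHom n ζ hζ W b := by
  rw [eq_natCast n b, tHom_natCast, tHom_natCast, map_nsmul, res_zSec]

end zeta

section main
variable {X : Scheme.{u}} (n : ℕ) [NeZero n] (ζ : Γ(X, ⊤)) (hζ : aeval ζ (cyclotomic n ℤ) = 0)
  (hunit : IsUnit ((n : ℕ) : Γ(X, ⊤)))

/-- evaluation at a point of an étale `X`-scheme -/
noncomputable def evv (V : X.Etale) (v : V.left) : Γ(V.left, ⊤) →+* V.left.residueField v :=
  (V.left.Γevaluation v).hom

include hunit in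
lemma natCast_ne_zero (V : X.Etale) (v : V.left) : ((n : ℕ) : V.left.residueField v) ≠ 0 := by
  have h := (hunit.map V.hom.appTop.hom).map (evv V v)
  rw [map_natCast, map_natCast] at h
  exact h.ne_zero

include hunit in
lemma isPrimitiveRoot_ev (V : X.Etale) (v : V.left) :
    IsPrimitiveRoot (evv V v (zU n ζ hζ V : Γ(V.left, ⊤))) n :=
  isPrimitiveRoot_of_root n _ (aeval_map_root n ((evv V v).comp V.hom.appTop.hom) ζ hζ)
    (natCast_ne_zero n hunit V v)

/-- an open of an étale `X`-scheme as an object of the small étale site -/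
noncomputable def subObj (V : X.Etale) (W : V.left.Opens) : X.Etale :=
  Scheme.Etale.mk (W.ι ≫ V.hom)

/-- the inclusion -/
noncomputable def subObjι (V : X.Etale) (W : V.left.Opens) : subObj V W ⟶ V :=
  MorphismProperty.Over.homMk W.ι rfl

include hunit in
theorem mono_cond (V : X.Etale) (b : ULift.{u+1} (ZMod n)) (h : tHom n ζ hζ V b = 0) :
    b = 0 ∨ (⊥ : Sieve V) ∈ X.smallEtaleTopology V := by
  rcases isEmpty_or_nonempty V.left with he | ⟨⟨v⟩⟩
  · right
    rw [mem_smallEtale_iff]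
    intro z
    exact (he.false z).elim
  · left
    rw [eq_natCast n b] at h ⊢
    have h1 := congrArg (muI n V) h
    rw [muI_tHom_natCast, map_zero] at h1
    have h2 : zU n ζ hζ V ^ b.down.val = 1 := by
      have h2' := (gmOf V).injective (h1.trans (map_zero _).symm)
      exact Additive.ofMul.injective h2'
    have h3 : (evv V v (zU n ζ hζ V : Γ(V.left, ⊤))) ^ b.down.val = 1 := by
      have h3' := congrArg (fun x : (Γ(V.left, ⊤))ˣ => evv V v (x : Γ(V.left, ⊤))) h2
      simpa using h3'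
    have h4 := ((isPrimitiveRoot_ev n ζ hζ hunit V v).pow_eq_one_iff_dvd _).1 h3
    have h5 : b.down.val = 0 := Nat.eq_zero_of_dvd_of_lt h4 (ZMod.val_lt _)
    apply ULift.ext
    simp [h5]

include hunit in
theorem epi_cond (V : X.Etale) (e : (EtCoh.mu X n).obj.obj (op V)) :
    ∃ S ∈ X.smallEtaleTopology V, ∀ ⦃W : X.Etale⦄ (f : W ⟶ V), S f →
      ∃ b : ULift.{u+1} (ZMod n), tHom n ζ hζ W b = res _ (EtCoh.mu X n) f e := by
  let S : Sieve V :=
    { arrows := fun W f => ∃ b : ULift.{u+1} (ZMod n), tHom n ζ hζ W b = res _ (EtCoh.mu X n) f e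
      downward_closed := by
        rintro W W' f ⟨b, hb⟩ g
        refine ⟨b, ?_⟩
        rw [res_comp, ← hb, res_tHom] }
  refine ⟨S, ?_, fun W f hf => hf⟩
  rw [mem_smallEtale_iff]
  intro v
  let a : (Γ(V.left, ⊤))ˣ := ((gmOf V).symm (muI n V e)).toMul
  have he : muI n V e = gmOf V (Additive.ofMul a) := by simp [a]
  have ha : a ^ n = 1 := by
    have h1 := nsmul_muI n V e
    rw [he, ← map_nsmul, ← ofMul_pow] at h1
    have h2 := (gmOf V).injective (h1.trans (map_zero _).symm)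
    exact Additive.ofMul.injective h2
  have hprim := isPrimitiveRoot_ev n ζ hζ hunit V v
  have ha' : (evv V v (a : Γ(V.left, ⊤))) ^ n = 1 := by
    have h3' := congrArg (fun x : (Γ(V.left, ⊤))ˣ => evv V v (x : Γ(V.left, ⊤))) ha
    simpa using h3'
  obtain ⟨m, -, hm⟩ := hprim.eq_pow_of_pow_eq_one ha'
  let u : (Γ(V.left, ⊤))ˣ := a * (zU n ζ hζ V ^ m)⁻¹
  have hu : (u : Γ(V.left, ⊤)) ^ n = 1 := by
    rw [← Units.val_pow_eq_pow_val]
    have : u ^ n = 1 := by
      simp only [u, mul_pow, inv_pow, ha, one_mul, inv_eq_one]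
      rw [← pow_mul, mul_comm, pow_mul, zU_pow, one_pow]
    rw [this]
    rfl
  have hy : (V.left.Γevaluation v).hom (u : Γ(V.left, ⊤)) = 1 := by
    change evv V v (u : Γ(V.left, ⊤)) = 1
    have h1 : (u : Γ(V.left, ⊤)) * ((zU n ζ hζ V : Γ(V.left, ⊤)) ^ m) = a := by
      rw [← Units.val_pow_eq_pow_val, ← Units.val_mul]
      simp [u]
    have h2 := congrArg (evv V v) h1
    rw [map_mul, map_pow, hm] at h2
    have hne : evv V v (a : Γ(V.left, ⊤)) ≠ 0 := by
      intro h0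
      rw [h0, zero_pow (NeZero.ne n)] at ha'
      exact zero_ne_one ha'
    exact mul_right_cancel₀ hne (h2.trans (one_mul _).symm)
  obtain ⟨W, hvW, hW⟩ := exists_opens_eq_one n (u : Γ(V.left, ⊤)) hu v hy
    (natCast_ne_zero n hunit V v)
  refine ⟨subObj V W, subObjι V W, ⟨v, hvW⟩, ⟨⟨(m : ZMod n)⟩, ?_⟩, rfl⟩
  apply muI_injective n
  rw [muI_tHom_natCast, res_muI, he]
  refine Eq.trans ?_ (res_gmOf (subObjι V W) _).symm
  congr 2
  rw [toMul_ofMul, ← zU_res n ζ hζ (subObjι V W), ← map_pow]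
  have h1 : a = u * zU n ζ hζ V ^ m := by simp [u]
  have h2 : Units.map (subObjι V W).left.appTop.hom.toMonoidHom u = 1 := by
    apply Units.ext
    exact hW
  rw [h1, map_mul, h2, one_mul]

include hunit hζ in
/-- **`μ_n ≅ ℤ/n`** when `n` is invertible and `ζ` is a root of the `n`-th cyclotomic polynomial -/
theorem nonempty_iso : Nonempty (EtCoh.mu X n ≅ EtCoh.const X (ZMod n)) := by
  obtain ⟨s, hs⟩ := Groth.Agent.Lib.Helper21.ConstHom.exists_hom_of_family.{u, u+1}
    (J := X.smallEtaleTopology) (B := ULift.{u+1} (ZMod n)) (EtCoh.mu X n) (tHom n ζ hζ)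
    (fun V W f b => res_tHom n ζ hζ f b)
  haveI : Mono s := Groth.Agent.Lib.Helper21.ConstHom.mono_of_cst s
    (fun V b h => mono_cond n ζ hζ hunit V b ((hs V b).symm.trans h))
  haveI : Epi s := Groth.Agent.Lib.Helper21.ConstHom.epi_of_cst s (fun V e => by
    obtain ⟨S, hS, H⟩ := epi_cond n ζ hζ hunit V e
    refine ⟨S, hS, fun W f hf => ?_⟩
    obtain ⟨b, hb⟩ := H f hf
    exact ⟨b, (hs W b).trans hb⟩)
  haveI : IsIso s := isIso_of_mono_of_epi s
  exact ⟨(asIso s).symm⟩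

end main

end Groth.Agent.Lib.Helper21.MuConst
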