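import Groth.Prelude.Def_W4c5qllcourbesmultMultCrv
import Mathlib.Algebra.Module.Torsion.Free
import Mathlib.RingTheory.DiscreteValuationRing.Basic
import Mathlib.LinearAlgebra.FreeModule.PID
import Mathlib.RingTheory.AdjoinRoot
import Mathlib.RingTheory.Noetherian.Basic

/-!
# Helper26: modules over `R[X]/(X^n)` for a DVR `R`
-/

set_option autoImplicit false
universe u

namespace Groth.Agent.Lib.Helper26

open MultCrv Polynomial

variable (R : Type u) [CommRing R] (n : ℕ)

theorem finite_Rn : Module.Finite R (MultCrv.Rn R n) :=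
  (Polynomial.monic_X_pow (R := R) n).finite_adjoinRoot

theorem z_pow_n : MultCrv.z R n ^ n = 0 := by
  change (Ideal.Quotient.mk (Ideal.span {(X : R[X]) ^ n}) X) ^ n = 0
  rw [← map_pow, Ideal.Quotient.eq_zero_iff_mem]
  exact Ideal.subset_span rfl

variable (M : Type u) [AddCommGroup M] [Module (MultCrv.Rn R n) M] [Module R M]
  [IsScalarTower R (MultCrv.Rn R n) M]

theorem finite_of_finite_Rn [Module.Finite (MultCrv.Rn R n) M] : Module.Finite R M := by
  have := finite_Rn R n
  exact Module.Finite.trans (MultCrv.Rn R n) M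

theorem mem_filt2 (i : ℕ) (m : M) : m ∈ MultCrv.filt2 R n M i ↔ MultCrv.z R n ^ i • m = 0 :=
  Iff.rfl

theorem filt2_mono {i j : ℕ} (h : i ≤ j) : MultCrv.filt2 R n M i ≤ MultCrv.filt2 R n M j := by
  intro m hm
  rw [mem_filt2] at hm ⊢
  obtain ⟨k, rfl⟩ := Nat.exists_eq_add_of_le h
  rw [pow_add, mul_comm, mul_smul, hm, smul_zero]

/-- `R`-scalars commute with `Rn`-scalars. -/
theorem smul_comm' (r : R) (a : MultCrv.Rn R n) (m : M) : r • a • m = a • r • m := by
  rw [← IsScalarTower.algebraMap_smul (MultCrv.Rn R n) r (a • m),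
    ← IsScalarTower.algebraMap_smul (MultCrv.Rn R n) r m, smul_smul, smul_smul, mul_comm]

/-- The `R`-linear inclusion of an `Rn`-submodule. -/
def subtypeR (N : Submodule (MultCrv.Rn R n) M) : ↥N →ₗ[R] M where
  toFun x := x.1
  map_add' _ _ := rfl
  map_smul' _ _ := rfl

theorem subtypeR_injective (N : Submodule (MultCrv.Rn R n) M) :
    Function.Injective (subtypeR R n M N) := fun _ _ h => Subtype.ext h

variable [IsDomain R] [IsPrincipalIdealRing R]

theorem finite_submodule [Module.Finite (MultCrv.Rn R n) M] (N : Submodule (MultCrv.Rn R n) M) :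
    Module.Finite R ↥N := by
  have := finite_of_finite_Rn R n M
  have : IsNoetherian R M := isNoetherian_of_isNoetherianRing_of_finite R M
  exact Module.Finite.of_injective (subtypeR R n M N) (subtypeR_injective R n M N)

theorem torsionFree_submodule [Module.IsTorsionFree R M] (N : Submodule (MultCrv.Rn R n) M) :
    Module.IsTorsionFree R ↥N :=
  Function.Injective.moduleIsTorsionFree (subtypeR R n M N) (subtypeR_injective R n M N)
    (fun _ _ => rfl)

theorem free_submodule [Module.Finite (MultCrv.Rn R n) M] [Module.IsTorsionFree R M]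
    (N : Submodule (MultCrv.Rn R n) M) : Module.Free R ↥N := by
  have := finite_submodule R n M N
  have := torsionFree_submodule R n M N
  infer_instance

/-- If the `z`-torsion is `R`-torsion-free, so is `M`. -/
theorem isTorsionFree_of_filt2_one (h : Module.IsTorsionFree R ↥(MultCrv.filt2 R n M 1)) :
    Module.IsTorsionFree R M := by
  refine ⟨fun r hr => ?_⟩
  -- it suffices to show `r • m = 0 → m = 0`
  suffices H : ∀ m : M, r • m = 0 → m = 0 by
    intro a b hab
    have : r • (a - b) = 0 := by rw [smul_sub]; exact sub_eq_zero.mpr hab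
    exact sub_eq_zero.mp (H _ this)
  intro m hm
  by_contra hne
  -- minimal `k` with `z^k • m = 0`
  have hex : ∃ k, MultCrv.z R n ^ k • m = 0 := ⟨n, by rw [z_pow_n]; exact zero_smul (MultCrv.Rn R n) m⟩
  classical
  let k := Nat.find hex
  have hk : MultCrv.z R n ^ k • m = 0 := Nat.find_spec hex
  have hk0 : k ≠ 0 := by
    intro h0
    rw [h0, pow_zero, one_smul] at hk
    exact hne hk
  obtain ⟨j, hj⟩ := Nat.exists_eq_succ_of_ne_zero hk0
  have hjm : MultCrv.z R n ^ j • m ≠ 0 := Nat.find_min hex (by omega : j < k)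
  have hmem : MultCrv.z R n ^ j • m ∈ MultCrv.filt2 R n M 1 := by
    rw [mem_filt2, pow_one, smul_smul, ← pow_succ', ← Nat.succ_eq_add_one, ← hj]
    exact hk
  have hr0 : r • (⟨_, hmem⟩ : ↥(MultCrv.filt2 R n M 1)) = 0 := by
    apply Subtype.ext
    change r • (MultCrv.z R n ^ j • m) = 0
    rw [smul_comm', hm, smul_zero]
  have := h.isSMulRegular hr (by rw [hr0, smul_zero] : r • (⟨_, hmem⟩ : ↥(MultCrv.filt2 R n M 1)) = r • 0)
  exact hjm (congr_arg Subtype.val this)

end Groth.Agent.Lib.Helper26

namespace Groth.Agent.Lib.Helper26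

open MultCrv Polynomial

/-- An `Rn`-module that is finite and embeds `Rn`-linearly in an `R`-torsion-free module is
`R`-free (for `R` a PID). -/
theorem free_of_injective (R : Type u) [CommRing R] [IsDomain R] [IsPrincipalIdealRing R] (n : ℕ)
    (M : Type u) [AddCommGroup M] [Module (MultCrv.Rn R n) M] [Module R M]
    [IsScalarTower R (MultCrv.Rn R n) M] [Module.IsTorsionFree R M]
    (Q : Type u) [AddCommGroup Q] [Module (MultCrv.Rn R n) Q] [Module R Q]
    [IsScalarTower R (MultCrv.Rn R n) Q] [Module.Finite (MultCrv.Rn R n) Q]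
    (ψ : Q →ₗ[MultCrv.Rn R n] M) (hψ : Function.Injective ψ) : Module.Free R Q := by
  have hfin : Module.Finite R Q := finite_of_finite_Rn R n Q
  have htf : Module.IsTorsionFree R Q := by
    refine Function.Injective.moduleIsTorsionFree ψ hψ ?_
    intro r x
    rw [← IsScalarTower.algebraMap_smul (MultCrv.Rn R n) r x, map_smul,
      IsScalarTower.algebraMap_smul]
  infer_instance

end Groth.Agent.Lib.Helper26
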