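import Mathlib
import Groth.Agent.Lib.Helper26MultCrv

/-!
# Helper21: the Frobenius structure of `A = R[X]/(X^n)` over `R` and consequences for `Ext`
-/

set_option autoImplicit false
universe u

namespace Groth.Agent.Lib.Helper21.MultCrv

open Polynomial Groth.Agent.Lib.Helper26

variable (R : Type u) [CommRing R] [Nontrivial R] (n : ℕ)

/-- The functional "coefficient of `z^k`" on `R[X]/(X^n)`. -/
noncomputable def coeffFun (k : ℕ) : MultCrv.Rn R n →ₗ[R] R :=
  (Polynomial.lcoeff R k).comp (AdjoinRoot.modByMonicHom (Polynomial.monic_X_pow (R := R) n))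

theorem z_eq_root : MultCrv.z R n = AdjoinRoot.root ((X : R[X]) ^ n) := rfl

theorem z_pow_eq_mk (m : ℕ) : MultCrv.z R n ^ m = AdjoinRoot.mk ((X : R[X]) ^ n) (X ^ m) := by
  rw [map_pow]; rfl

theorem z_pow_eq_zero_of_le {m : ℕ} (h : n ≤ m) : MultCrv.z R n ^ m = 0 := by
  obtain ⟨k, rfl⟩ := Nat.exists_eq_add_of_le h
  rw [pow_add, z_pow_n, zero_mul]

theorem coeffFun_z_pow (k m : ℕ) (hk : k < n) :
    coeffFun R n k (MultCrv.z R n ^ m) = if m = k then 1 else 0 := by
  by_cases hm : m < n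
  · rw [z_pow_eq_mk]
    show ((AdjoinRoot.modByMonicHom (Polynomial.monic_X_pow (R := R) n))
      (AdjoinRoot.mk ((X : R[X]) ^ n) (X ^ m))).coeff k = _
    rw [AdjoinRoot.modByMonicHom_mk,
      (Polynomial.modByMonic_eq_self_iff (Polynomial.monic_X_pow (R := R) n)).2 (by
        rw [Polynomial.degree_X_pow, Polynomial.degree_X_pow]
        exact_mod_cast hm)]
    rw [Polynomial.coeff_X_pow]
    by_cases h : m = k
    · rw [if_pos h, if_pos h.symm]
    · rw [if_neg h, if_neg (fun h' => h h'.symm)]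
  · rw [z_pow_eq_zero_of_le R n (not_lt.1 hm), map_zero, if_neg (by omega)]

/-- Every element is an `R`-combination of `1, z, …, z^(n-1)`. -/
theorem eq_sum_coeffFun (a : MultCrv.Rn R n) :
    a = ∑ j ∈ Finset.range n, coeffFun R n j a • MultCrv.z R n ^ j := by
  have hmon := Polynomial.monic_X_pow (R := R) n
  set q := AdjoinRoot.modByMonicHom hmon a with hq
  have ha : a = AdjoinRoot.mk ((X : R[X]) ^ n) q := (AdjoinRoot.mk_leftInverse hmon a).symm
  have hdeg : q.degree < n := by
    obtain ⟨p, rfl⟩ := AdjoinRoot.mk_surjective a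
    have := Polynomial.degree_modByMonic_lt p hmon
    rw [Polynomial.degree_X_pow] at this
    exact this
  have hqsum : q = ∑ j ∈ Finset.range n, Polynomial.C (q.coeff j) * X ^ j := by
    ext i
    rw [Polynomial.finsetSum_coeff]
    simp only [Polynomial.coeff_C_mul, Polynomial.coeff_X_pow, mul_ite, mul_one, mul_zero]
    rw [Finset.sum_ite_eq]
    by_cases hi : i ∈ Finset.range n
    · rw [if_pos hi]
    · rw [if_neg hi]
      rw [Finset.mem_range, not_lt] at hi
      exact (Polynomial.degree_lt_iff_coeff_zero q n).1 hdeg i hi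
  conv_lhs => rw [ha, hqsum, map_sum]
  apply Finset.sum_congr rfl
  intro j _
  rw [z_pow_eq_mk]
  show AdjoinRoot.mk ((X : R[X]) ^ n) (Polynomial.C (q.coeff j) * X ^ j) =
    (q.coeff j) • AdjoinRoot.mk ((X : R[X]) ^ n) (X ^ j)
  rw [AdjoinRoot.smul_mk, Polynomial.smul_eq_C_mul]

/-- The Frobenius form: coefficient of `z^(n-1)`. -/
noncomputable def eps : MultCrv.Rn R n →ₗ[R] R := coeffFun R n (n - 1)

theorem eps_z_pow (hn : 1 ≤ n) (m : ℕ) :
    eps R n (MultCrv.z R n ^ m) = if m = n - 1 then 1 else 0 :=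
  coeffFun_z_pow R n (n - 1) m (by omega)

/-- Frobenius reconstruction: `a = ∑_k ε(z^(n-1-k) a) z^k`. -/
theorem eq_sum_eps (hn : 1 ≤ n) (a : MultCrv.Rn R n) :
    a = ∑ k ∈ Finset.range n, eps R n (MultCrv.z R n ^ (n - 1 - k) * a) • MultCrv.z R n ^ k := by
  -- both sides are `R`-linear in `a`; check on powers of `z`
  have key : ∀ j, j < n → MultCrv.z R n ^ j =
      ∑ k ∈ Finset.range n,
        eps R n (MultCrv.z R n ^ (n - 1 - k) * MultCrv.z R n ^ j) • MultCrv.z R n ^ k := by
    intro j hj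
    rw [Finset.sum_eq_single j]
    · rw [← pow_add, eps_z_pow R n hn, if_pos (by omega), one_smul]
    · intro k hk hkj
      rw [Finset.mem_range] at hk
      rw [← pow_add, eps_z_pow R n hn, if_neg (by omega), zero_smul]
    · intro h
      exact absurd (Finset.mem_range.2 hj) h
  conv_lhs => rw [eq_sum_coeffFun R n a]
  conv_rhs => rw [eq_sum_coeffFun R n a]
  simp only [Finset.mul_sum, map_sum, Finset.sum_smul, mul_smul_comm, map_smul, smul_eq_mul,
    mul_smul]
  rw [Finset.sum_comm]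
  apply Finset.sum_congr rfl
  intro j hj
  rw [Finset.mem_range] at hj
  conv_lhs => rw [key j hj, Finset.smul_sum]

section Phi

variable {R}
variable {E : Type u} [AddCommGroup E] [Module (MultCrv.Rn R n) E] [Module R E]
  [IsScalarTower R (MultCrv.Rn R n) E]

/-- The `A`-linear form `e ↦ ∑_k μ(z^(n-1-k) e) z^k` attached to an `R`-linear form `μ`. -/
noncomputable def PhiFun (μ : E →ₗ[R] R) (e : E) : MultCrv.Rn R n :=
  ∑ k ∈ Finset.range n, μ (MultCrv.z R n ^ (n - 1 - k) • e) • MultCrv.z R n ^ k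

theorem PhiFun_add (μ : E →ₗ[R] R) (e₁ e₂ : E) :
    PhiFun n μ (e₁ + e₂) = PhiFun n μ e₁ + PhiFun n μ e₂ := by
  unfold PhiFun
  rw [← Finset.sum_add_distrib]
  apply Finset.sum_congr rfl
  intro k _
  rw [smul_add, map_add, add_smul]

theorem PhiFun_smulR (μ : E →ₗ[R] R) (r : R) (e : E) :
    PhiFun n μ (r • e) = r • PhiFun n μ e := by
  unfold PhiFun
  rw [Finset.smul_sum]
  apply Finset.sum_congr rfl
  intro k _
  rw [← Groth.Agent.Lib.Helper26.smul_comm' R n E r, map_smul, smul_eq_mul, mul_smul]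

theorem PhiFun_z (hn : 1 ≤ n) (μ : E →ₗ[R] R) (e : E) :
    PhiFun n μ (MultCrv.z R n • e) = MultCrv.z R n * PhiFun n μ e := by
  obtain ⟨m, rfl⟩ : ∃ m, n = m + 1 := ⟨n - 1, by omega⟩
  unfold PhiFun
  simp only [Nat.add_sub_cancel]
  rw [Finset.sum_range_succ', Finset.sum_range_succ, mul_add, Finset.mul_sum]
  have h1 : MultCrv.z R (m + 1) ^ (m - 0) • MultCrv.z R (m + 1) • e = 0 := by
    rw [Nat.sub_zero, smul_smul, ← pow_succ, Groth.Agent.Lib.Helper26.z_pow_n]
    exact zero_smul (MultCrv.Rn R (m + 1)) e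
  have h2 : MultCrv.z R (m + 1) * (μ (MultCrv.z R (m + 1) ^ (m - m) • e) •
      MultCrv.z R (m + 1) ^ m) = 0 := by
    rw [mul_smul_comm, ← pow_succ', Groth.Agent.Lib.Helper26.z_pow_n, smul_zero]
  rw [h1, map_zero, zero_smul, add_zero, h2, add_zero]
  apply Finset.sum_congr rfl
  intro k hk
  rw [Finset.mem_range] at hk
  rw [smul_smul, ← pow_succ, mul_smul_comm, ← pow_succ']
  have : m - (k + 1) + 1 = m - k := by omega
  rw [this]

theorem PhiFun_z_pow (hn : 1 ≤ n) (μ : E →ₗ[R] R) (j : ℕ) (e : E) :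
    PhiFun n μ (MultCrv.z R n ^ j • e) = MultCrv.z R n ^ j * PhiFun n μ e := by
  induction j with
  | zero => rw [pow_zero, one_smul, one_mul]
  | succ j ih => rw [pow_succ', mul_smul, PhiFun_z n hn, ih, mul_assoc]

theorem PhiFun_smul (hn : 1 ≤ n) (μ : E →ₗ[R] R) (a : MultCrv.Rn R n) (e : E) :
    PhiFun n μ (a • e) = a * PhiFun n μ e := by
  conv_lhs => rw [eq_sum_coeffFun R n a]
  conv_rhs => rw [eq_sum_coeffFun R n a]
  rw [Finset.sum_smul, Finset.sum_mul]
  have hsum : ∀ (s : Finset ℕ) (f : ℕ → E), PhiFun n μ (∑ j ∈ s, f j) = ∑ j ∈ s, PhiFun n μ (f j) := by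
    intro s f
    induction s using Finset.induction_on with
    | empty =>
      simp only [Finset.sum_empty]
      unfold PhiFun
      simp
    | insert a s ha ih => rw [Finset.sum_insert ha, Finset.sum_insert ha, PhiFun_add, ih]
  rw [hsum]
  apply Finset.sum_congr rfl
  intro j _
  rw [smul_assoc, PhiFun_smulR, PhiFun_z_pow n hn, smul_mul_assoc]

/-- The `A`-linear form attached to an `R`-linear form. -/
noncomputable def Phi (hn : 1 ≤ n) (μ : E →ₗ[R] R) :
    E →ₗ[MultCrv.Rn R n] MultCrv.Rn R n where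
  toFun := PhiFun n μ
  map_add' := PhiFun_add n μ
  map_smul' a e := by
    rw [RingHom.id_apply, smul_eq_mul]
    exact PhiFun_smul n hn μ a e

/-- If `μ` restricts to `ε ∘ l` along an `A`-linear map `ι`, then `Φ(μ)` restricts to `l`. -/
theorem Phi_comp (hn : 1 ≤ n) {K : Type u} [AddCommGroup K]
    [Module (MultCrv.Rn R n) K]
    (ι : K →ₗ[MultCrv.Rn R n] E) (l : K →ₗ[MultCrv.Rn R n] MultCrv.Rn R n) (μ : E →ₗ[R] R)
    (h : ∀ x : K, μ (ι x) = eps R n (l x)) (x : K) : Phi n hn μ (ι x) = l x := by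
  show PhiFun n μ (ι x) = l x
  unfold PhiFun
  conv_rhs => rw [eq_sum_eps R n hn (l x)]
  apply Finset.sum_congr rfl
  intro k _
  rw [← map_smul, h, map_smul, smul_eq_mul]

/-- Extension of `A`-linear forms along an `R`-split injection. -/
theorem exists_extension (hn : 1 ≤ n) {K Q : Type u} [AddCommGroup K] [Module (MultCrv.Rn R n) K]
    [AddCommGroup Q] [Module (MultCrv.Rn R n) Q] [Module R Q] [IsScalarTower R (MultCrv.Rn R n) Q]
    [Module.Projective R Q]
    (ι : K →ₗ[MultCrv.Rn R n] E) (g : E →ₗ[MultCrv.Rn R n] Q) (hι : Function.Injective ι)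
    (hg : Function.Surjective g) (hex : LinearMap.range ι = LinearMap.ker g)
    (l : K →ₗ[MultCrv.Rn R n] MultCrv.Rn R n) :
    ∃ l' : E →ₗ[MultCrv.Rn R n] MultCrv.Rn R n, l' ∘ₗ ι = l := by
  letI : Module R K := Module.compHom K (algebraMap R (MultCrv.Rn R n))
  haveI : IsScalarTower R (MultCrv.Rn R n) K :=
    ⟨fun r a k => by
      show (r • a) • k = algebraMap R (MultCrv.Rn R n) r • (a • k)
      have h1 : r • a = algebraMap R (MultCrv.Rn R n) r * a := Algebra.smul_def r a
      rw [h1, mul_smul]⟩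
  obtain ⟨σ, hσ⟩ := Module.projective_lifting_property (g.restrictScalars R)
    (LinearMap.id : Q →ₗ[R] Q) hg
  have hexact : Function.Exact (ι.restrictScalars R) (g.restrictScalars R) := by
    intro y
    show g y = 0 ↔ y ∈ Set.range ι
    rw [← LinearMap.mem_ker, ← hex]
    rfl
  obtain ⟨-, ρ, hρ⟩ := (hexact.split_tfae'.out 0 1 rfl rfl).mp ⟨hι, σ, hσ⟩
  let μ : E →ₗ[R] R := (eps R n).comp ((l.restrictScalars R).comp ρ)
  refine ⟨Phi n hn μ, ?_⟩
  ext x
  apply Phi_comp n hn ι l μ
  intro y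
  show eps R n (l (ρ (ι y))) = eps R n (l y)
  have : ρ (ι y) = y := LinearMap.congr_fun hρ y
  rw [this]

end Phi

section Pres

open CategoryTheory Abelian

variable {A : Type u} [CommRing A]

/-- The short complex `ker π → F → M`. -/
noncomputable def presSC {F M : Type u} [AddCommGroup F] [Module A F] [AddCommGroup M] [Module A M]
    (π : F →ₗ[A] M) : ShortComplex (ModuleCat.{u} A) :=
  ShortComplex.mk (ModuleCat.ofHom (LinearMap.ker π).subtype) (ModuleCat.ofHom π) (by
    ext x
    exact x.2)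

theorem presSC_shortExact {F M : Type u} [AddCommGroup F] [Module A F] [AddCommGroup M]
    [Module A M] (π : F →ₗ[A] M) (hπ : Function.Surjective π) : (presSC π).ShortExact :=
  ModuleCat.shortComplex_shortExact _ (LinearMap.exact_subtype_ker_map π)
    (Submodule.subtype_injective _) hπ

/-- Dimension shifting along a presentation by a projective module. -/
theorem exists_extClass_comp_eq {F M : Type u} [AddCommGroup F] [Module A F] [AddCommGroup M]
    [Module A M] [Module.Projective A F] (π : F →ₗ[A] M) (hπ : Function.Surjective π)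
    (N : ModuleCat.{u} A) (j : ℕ) (x : Ext (ModuleCat.of A M) N (j + 1)) :
    ∃ y : Ext (ModuleCat.of A (LinearMap.ker π)) N j,
      (presSC_shortExact π hπ).extClass.comp y (add_comm 1 j) = x := by
  have hproj : Projective (ModuleCat.of A F) := by
    rw [← IsProjective.iff_projective]
    infer_instance
  have h0 : (Ext.mk₀ (presSC π).g).comp x (zero_add (j + 1)) = 0 := by
    haveI : Projective (presSC π).X₂ := hproj
    exact Ext.eq_zero_of_projective _
  exact Ext.contravariant_sequence_exact₃ (presSC_shortExact π hπ) N x h0 (add_comm 1 j)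

end Pres

section ExtMain

open CategoryTheory Abelian

variable (R : Type u) [CommRing R] [IsDomain R] [IsPrincipalIdealRing R] (n : ℕ)

theorem torsionFree_pi (m : ℕ) : Module.IsTorsionFree R (Fin m → MultCrv.Rn R n) := by
  have : Module.Free R (MultCrv.Rn R n) := (Polynomial.monic_X_pow n).free_quotient
  infer_instance

theorem torsionFree_ker {m : ℕ} {M : Type u} [AddCommGroup M] [Module (MultCrv.Rn R n) M]
    (π : (Fin m → MultCrv.Rn R n) →ₗ[MultCrv.Rn R n] M) :
    Module.IsTorsionFree R (LinearMap.ker π) := by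
  have := torsionFree_pi R n m
  exact torsionFree_submodule R n (Fin m → MultCrv.Rn R n) (LinearMap.ker π)

/-- `Ext^i_A(M, A) = 0` for `i ≥ 1` and `M` finitely generated, `R`-torsion-free. -/
theorem ext_self_subsingleton_of_torsionFree (hn : 1 ≤ n) (i : ℕ) (hi : 1 ≤ i) :
    ∀ (M : Type u) [AddCommGroup M] [Module (MultCrv.Rn R n) M] [Module R M]
      [IsScalarTower R (MultCrv.Rn R n) M] [Module.Finite (MultCrv.Rn R n) M]
      [Module.IsTorsionFree R M],
      Subsingleton (Ext (ModuleCat.of (MultCrv.Rn R n) M)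
        (ModuleCat.of (MultCrv.Rn R n) (MultCrv.Rn R n)) i) := by
  obtain ⟨j, rfl⟩ : ∃ j, i = j + 1 := ⟨i - 1, by omega⟩
  clear hi
  induction j with
  | zero =>
    intro M _ _ _ _ _ _
    obtain ⟨m, π, hπ⟩ := Module.Finite.exists_fin' (MultCrv.Rn R n) M
    have hfinM : Module.Finite R M := finite_of_finite_Rn R n M
    have hfreeM : Module.Free R M := inferInstance
    refine ⟨fun a b => ?_⟩
    suffices h : ∀ x : Ext (ModuleCat.of (MultCrv.Rn R n) M)
        (ModuleCat.of (MultCrv.Rn R n) (MultCrv.Rn R n)) (0 + 1), x = 0 by rw [h a, h b]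
    intro x
    obtain ⟨y, hy⟩ := exists_extClass_comp_eq π hπ _ 0 x
    obtain ⟨l, rfl⟩ := (Ext.mk₀_bijective _ _).2 y
    obtain ⟨l', hl'⟩ := exists_extension (R := R) n hn (LinearMap.ker π).subtype π
      (Submodule.subtype_injective _) hπ (by rw [Submodule.range_subtype]) l.hom
    let l'' : (presSC π).X₂ ⟶ ModuleCat.of (MultCrv.Rn R n) (MultCrv.Rn R n) := ModuleCat.ofHom l'
    have hl : l = (presSC π).f ≫ l'' := by
      apply ModuleCat.hom_ext
      exact hl'.symm
    have hl2 : Ext.mk₀ l = (Ext.mk₀ (presSC π).f).comp (Ext.mk₀ l'') (zero_add 0) := by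
      rw [Ext.mk₀_comp_mk₀]
      exact congrArg Ext.mk₀ hl
    rw [← hy, hl2]
    exact (presSC_shortExact π hπ).extClass_comp_assoc _
  | succ j ih =>
    intro M _ _ _ _ _ _
    obtain ⟨m, π, hπ⟩ := Module.Finite.exists_fin' (MultCrv.Rn R n) M
    refine ⟨fun a b => ?_⟩
    suffices h : ∀ x : Ext (ModuleCat.of (MultCrv.Rn R n) M)
        (ModuleCat.of (MultCrv.Rn R n) (MultCrv.Rn R n)) (j + 1 + 1), x = 0 by rw [h a, h b]
    intro x
    obtain ⟨y, hy⟩ := exists_extClass_comp_eq π hπ _ (j + 1) x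
    have := torsionFree_ker R n π
    have hsub := ih (LinearMap.ker π)
    rw [← hy, Subsingleton.elim y 0]
    exact Ext.comp_zero _ _ _ _ _

/-- `Ext^i_A(M, A) = 0` for `i ≥ 2` and `M` finitely generated. -/
theorem ext_self_subsingleton_of_two_le (hn : 1 ≤ n) (i : ℕ) (hi : 2 ≤ i)
    (M : Type u) [AddCommGroup M] [Module (MultCrv.Rn R n) M] [Module.Finite (MultCrv.Rn R n) M] :
    Subsingleton (Ext (ModuleCat.of (MultCrv.Rn R n) M)
      (ModuleCat.of (MultCrv.Rn R n) (MultCrv.Rn R n)) i) := by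
  obtain ⟨j, rfl⟩ : ∃ j, i = j + 1 := ⟨i - 1, by omega⟩
  obtain ⟨m, π, hπ⟩ := Module.Finite.exists_fin' (MultCrv.Rn R n) M
  refine ⟨fun a b => ?_⟩
  suffices h : ∀ x : Ext (ModuleCat.of (MultCrv.Rn R n) M)
      (ModuleCat.of (MultCrv.Rn R n) (MultCrv.Rn R n)) (j + 1), x = 0 by rw [h a, h b]
  intro x
  obtain ⟨y, hy⟩ := exists_extClass_comp_eq π hπ _ j x
  have := torsionFree_ker R n π
  have hsub := ext_self_subsingleton_of_torsionFree R n hn j (by omega) (LinearMap.ker π)
  rw [← hy, Subsingleton.elim y 0]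
  exact Ext.comp_zero _ _ _ _ _

end ExtMain

end Groth.Agent.Lib.Helper21.MultCrv
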