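import Mathlib
import Groth.Agent.Lib.Helper21MultCrv

/-!
# Helper21: `z^(n-1)` kills `Ext` over `A = R[X]/(X^n)`
-/

set_option autoImplicit false
universe u

namespace Groth.Agent.Lib.Helper21.MultCrv

open Polynomial Groth.Agent.Lib.Helper26 CategoryTheory Abelian TensorProduct

section Kill

variable (R : Type u) [CommRing R] [IsDomain R] (n : ℕ)

/-- `a * z^(n-1) = a₀ • z^(n-1)`. -/
theorem mul_z_pow_pred (hn : 1 ≤ n) (a : MultCrv.Rn R n) :
    a * MultCrv.z R n ^ (n - 1) = coeffFun R n 0 a • MultCrv.z R n ^ (n - 1) := by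
  conv_lhs => rw [eq_sum_coeffFun R n a, Finset.sum_mul]
  rw [Finset.sum_eq_single 0]
  · rw [pow_zero, smul_mul_assoc, one_mul]
  · intro k _ hk
    rw [smul_mul_assoc, ← pow_add, z_pow_eq_zero_of_le R n (by omega), smul_zero]
  · intro h
    exact absurd (Finset.mem_range.2 (by omega)) h

variable {R n}

/-- An `R`-linear map killing `z • M` is `coeffFun 0`-semilinear. -/
theorem map_smul_of_map_z_smul {M M' : Type u} [AddCommGroup M] [Module (MultCrv.Rn R n) M]
    [Module R M] [IsScalarTower R (MultCrv.Rn R n) M] [AddCommGroup M'] [Module R M']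
    (p : M →ₗ[R] M') (hp : ∀ m, p (MultCrv.z R n • m) = 0) (a : MultCrv.Rn R n) (m : M) :
    p (a • m) = coeffFun R n 0 a • p m := by
  by_cases hn : n = 0
  · subst hn
    have hz : (1 : MultCrv.Rn R 0) = 0 := by
      have := z_pow_n R 0
      rwa [pow_zero] at this
    have h1 : ∀ b : MultCrv.Rn R 0, b = 0 := fun b => by rw [← mul_one b, hz, mul_zero]
    have hm : ∀ m' : M, m' = 0 := fun m' => by
      rw [← one_smul (MultCrv.Rn R 0) m', hz]
      exact zero_smul (MultCrv.Rn R 0) m'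
    rw [hm (a • m), hm m, map_zero, smul_zero]
  conv_lhs => rw [eq_sum_coeffFun R n a, Finset.sum_smul, map_sum]
  rw [Finset.sum_eq_single 0]
  · rw [pow_zero, smul_assoc, one_smul, map_smul]
  · intro k _ hk
    obtain ⟨k', rfl⟩ : ∃ k', k = k' + 1 := ⟨k - 1, by omega⟩
    rw [smul_assoc, map_smul, pow_succ', mul_smul, hp, smul_zero]
  · intro h
    exact absurd (Finset.mem_range.2 (by omega)) h

end Kill

section Main

variable (R : Type u) [CommRing R] [IsDomain R] [IsPrincipalIdealRing R] (n : ℕ)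

/-- `z^(n-1)` on a f.g. `R`-torsion-free `A`-module `M` factors through the projective `A`-module
`A ⊗[R] M`. -/
theorem exists_factorization (hn : 1 ≤ n) (M : Type u) [AddCommGroup M]
    [Module (MultCrv.Rn R n) M] [Module R M] [IsScalarTower R (MultCrv.Rn R n) M]
    [Module.Finite (MultCrv.Rn R n) M] [Module.IsTorsionFree R M] :
    ∃ (s : M →ₗ[MultCrv.Rn R n] (MultCrv.Rn R n ⊗[R] M))
      (μ : (MultCrv.Rn R n ⊗[R] M) →ₗ[MultCrv.Rn R n] M),
      ∀ m, μ (s m) = MultCrv.z R n ^ (n - 1) • m := by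
  have hfinM : Module.Finite R M := finite_of_finite_Rn R n M
  have hnoeth : IsNoetherian R M := inferInstance
  let q : M →ₗ[R] M :=
    (LinearMap.lsmul (MultCrv.Rn R n) M (MultCrv.z R n ^ (n - 1))).restrictScalars R
  have hq : ∀ m, q m = MultCrv.z R n ^ (n - 1) • m := fun m => rfl
  let L : Submodule R M := LinearMap.range q
  have hfinL : Module.Finite R L := inferInstance
  have htfL : Module.IsTorsionFree R L := inferInstance
  have hfreeL : Module.Free R L := inferInstance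
  let q' : M →ₗ[R] L := q.rangeRestrict
  have hq'surj : Function.Surjective q' := LinearMap.surjective_rangeRestrict q
  obtain ⟨σ, hσ⟩ := Module.projective_lifting_property q' LinearMap.id hq'surj
  let p : M →ₗ[R] M := σ ∘ₗ q'
  have hp1 : ∀ m, p (MultCrv.z R n • m) = 0 := by
    intro m
    have : q' (MultCrv.z R n • m) = 0 := by
      apply Subtype.ext
      show q (MultCrv.z R n • m) = 0
      rw [hq, smul_smul, ← pow_succ, z_pow_eq_zero_of_le R n (by omega)]
      exact zero_smul (MultCrv.Rn R n) m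
    show σ (q' (MultCrv.z R n • m)) = 0
    rw [this, map_zero]
  have hp2 : ∀ m, MultCrv.z R n ^ (n - 1) • p m = MultCrv.z R n ^ (n - 1) • m := by
    intro m
    have h1 : q' (σ (q' m)) = q' m := by
      have := LinearMap.congr_fun hσ (q' m)
      simpa using this
    have h2 := congrArg Subtype.val h1
    exact h2
  let μ : (MultCrv.Rn R n ⊗[R] M) →ₗ[MultCrv.Rn R n] M :=
    LinearMap.liftBaseChange (MultCrv.Rn R n) (LinearMap.id : M →ₗ[R] M)
  have hμ : ∀ (a : MultCrv.Rn R n) (m : M), μ (a ⊗ₜ[R] m) = a • m := fun a m => by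
    simp [μ]
  let s : M →ₗ[MultCrv.Rn R n] (MultCrv.Rn R n ⊗[R] M) :=
    { toFun := fun m => (MultCrv.z R n ^ (n - 1)) ⊗ₜ[R] p m
      map_add' := fun m₁ m₂ => by rw [map_add, TensorProduct.tmul_add]
      map_smul' := fun a m => by
        have e1 : a • ((MultCrv.z R n ^ (n - 1)) ⊗ₜ[R] p m) =
            (a • MultCrv.z R n ^ (n - 1)) ⊗ₜ[R] p m := TensorProduct.smul_tmul' a _ _
        have e2 : coeffFun R n 0 a • ((MultCrv.z R n ^ (n - 1)) ⊗ₜ[R] p m) =
            (coeffFun R n 0 a • MultCrv.z R n ^ (n - 1)) ⊗ₜ[R] p m :=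
          TensorProduct.smul_tmul' _ _ _
        rw [RingHom.id_apply, map_smul_of_map_z_smul p hp1 a m, TensorProduct.tmul_smul,
          e1, e2, smul_eq_mul, mul_z_pow_pred R n hn a] }
  refine ⟨s, μ, fun m => ?_⟩
  show μ ((MultCrv.z R n ^ (n - 1)) ⊗ₜ[R] p m) = _
  rw [hμ, hp2]

/-- `z^(n-1)` kills `Ext^{j+1}_A(M, N)` for `M` f.g. and `R`-torsion-free. -/
theorem zpow_smul_ext_eq_zero_of_torsionFree (hn : 1 ≤ n) (M : Type u) [AddCommGroup M]
    [Module (MultCrv.Rn R n) M] [Module R M] [IsScalarTower R (MultCrv.Rn R n) M]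
    [Module.Finite (MultCrv.Rn R n) M] [Module.IsTorsionFree R M]
    (N : ModuleCat.{u} (MultCrv.Rn R n)) (j : ℕ)
    (x : Ext (ModuleCat.of (MultCrv.Rn R n) M) N (j + 1)) :
    (MultCrv.z R n ^ (n - 1)) • x = 0 := by
  obtain ⟨s, μ, hsμ⟩ := exists_factorization R n hn M
  have hfinM : Module.Finite R M := finite_of_finite_Rn R n M
  have hfreeM : Module.Free R M := inferInstance
  have hprojT : Module.Projective (MultCrv.Rn R n) (MultCrv.Rn R n ⊗[R] M) := inferInstance
  have hproj : Projective (ModuleCat.of (MultCrv.Rn R n) (MultCrv.Rn R n ⊗[R] M)) := by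
    rw [← IsProjective.iff_projective]
    exact hprojT
  have hcomp : ModuleCat.ofHom s ≫ ModuleCat.ofHom μ =
      (MultCrv.z R n ^ (n - 1)) • 𝟙 (ModuleCat.of (MultCrv.Rn R n) M) := by
    apply ModuleCat.hom_ext
    apply LinearMap.ext
    intro m
    exact hsμ m
  have key : Ext.mk₀ (ModuleCat.ofHom s ≫ ModuleCat.ofHom μ) =
      (MultCrv.z R n ^ (n - 1)) • Ext.mk₀ (𝟙 (ModuleCat.of (MultCrv.Rn R n) M)) := by
    rw [hcomp]
    exact Ext.mk₀_smul (MultCrv.z R n ^ (n - 1)) (𝟙 (ModuleCat.of (MultCrv.Rn R n) M))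
  have h1 : (MultCrv.z R n ^ (n - 1)) • x =
      (Ext.mk₀ (ModuleCat.ofHom s ≫ ModuleCat.ofHom μ)).comp x (zero_add (j + 1)) := by
    rw [key, Ext.smul_comp, Ext.mk₀_id_comp]
  rw [h1, ← Ext.mk₀_comp_mk₀, Ext.comp_assoc_of_second_deg_zero]
  have h0 : (Ext.mk₀ (ModuleCat.ofHom μ)).comp x (zero_add (j + 1)) = 0 :=
    Ext.eq_zero_of_projective _
  rw [h0, Ext.comp_zero]

/-- `z^(n-1)` kills `Ext^i_A(M, N)`, `i ≥ 2`, for `M` f.g. -/
theorem zpow_smul_ext_eq_zero_of_two_le (hn : 1 ≤ n) (M : Type u) [AddCommGroup M]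
    [Module (MultCrv.Rn R n) M] [Module.Finite (MultCrv.Rn R n) M]
    (N : ModuleCat.{u} (MultCrv.Rn R n)) (i : ℕ) (hi : 2 ≤ i)
    (x : Ext (ModuleCat.of (MultCrv.Rn R n) M) N i) :
    (MultCrv.z R n ^ (n - 1)) • x = 0 := by
  obtain ⟨j, rfl⟩ : ∃ j, i = j + 1 + 1 := ⟨i - 2, by omega⟩
  obtain ⟨m, π, hπ⟩ := Module.Finite.exists_fin' (MultCrv.Rn R n) M
  obtain ⟨y, hy⟩ := exists_extClass_comp_eq π hπ N (j + 1) x
  have := torsionFree_ker R n π
  have hy0 := zpow_smul_ext_eq_zero_of_torsionFree R n hn (LinearMap.ker π) N j y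
  rw [← hy]
  refine (Ext.comp_smul (presSC_shortExact π hπ).extClass y (add_comm 1 (j + 1))
    (MultCrv.z R n ^ (n - 1))).symm.trans ?_
  exact (congrArg (fun t => (presSC_shortExact π hπ).extClass.comp t (add_comm 1 (j + 1))) hy0).trans
    (Ext.comp_zero _ _ _ _ _)

end Main

end Groth.Agent.Lib.Helper21.MultCrv
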