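import Mathlib
import Groth.Agent.Lib.Helper21MultCrv

/-!
# Helper21: reflexive `R[X]/(X^n)`-modules are the `R`-torsion-free ones
-/

set_option autoImplicit false
universe u

namespace Groth.Agent.Lib.Helper21.MultCrv

open Polynomial Groth.Agent.Lib.Helper26

section Frob

variable {R : Type u} [CommRing R] [Nontrivial R] (n : ℕ)
variable {E : Type u} [AddCommGroup E] [Module (MultCrv.Rn R n) E] [Module R E]
  [IsScalarTower R (MultCrv.Rn R n) E]

theorem eps_Phi (hn : 1 ≤ n) (μ : E →ₗ[R] R) (e : E) : eps R n (Phi n hn μ e) = μ e := by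
  show eps R n (PhiFun n μ e) = μ e
  unfold PhiFun
  rw [map_sum, Finset.sum_eq_single (n - 1)]
  · rw [map_smul, eps_z_pow R n hn, if_pos rfl, smul_eq_mul, mul_one, Nat.sub_self, pow_zero,
      one_smul]
  · intro k _ hkn
    rw [map_smul, eps_z_pow R n hn, if_neg hkn, smul_zero]
  · intro h
    exact absurd (Finset.mem_range.2 (by omega)) h

theorem Phi_eps_comp (hn : 1 ≤ n) (l : E →ₗ[MultCrv.Rn R n] MultCrv.Rn R n) :
    Phi n hn ((eps R n).comp (l.restrictScalars R)) = l := by
  ext x
  exact Phi_comp n hn (LinearMap.id : E →ₗ[MultCrv.Rn R n] E) l _ (fun _ => rfl) x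

theorem ext_of_eps (hn : 1 ≤ n) (l₁ l₂ : E →ₗ[MultCrv.Rn R n] MultCrv.Rn R n)
    (h : ∀ e, eps R n (l₁ e) = eps R n (l₂ e)) : l₁ = l₂ := by
  rw [← Phi_eps_comp n hn l₁, ← Phi_eps_comp n hn l₂]
  congr 1
  ext e
  exact h e

omit [Nontrivial R] in
theorem eq_of_eps_mul [Nontrivial R] (hn : 1 ≤ n) (b c : MultCrv.Rn R n)
    (h : ∀ a, eps R n (a * b) = eps R n (a * c)) : b = c := by
  rw [eq_sum_eps R n hn b, eq_sum_eps R n hn c]
  apply Finset.sum_congr rfl
  intro k _
  rw [h]

end Frob

section Refl

variable (R : Type u) [CommRing R] [IsDomain R] [IsPrincipalIdealRing R] (n : ℕ)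

theorem isReflexive_iff_torsionFree (hn : 1 ≤ n) (M : Type u) [AddCommGroup M]
    [Module (MultCrv.Rn R n) M] [Module R M] [IsScalarTower R (MultCrv.Rn R n) M]
    [Module.Finite (MultCrv.Rn R n) M] :
    Module.IsReflexive (MultCrv.Rn R n) M ↔ Module.IsTorsionFree R M := by
  have hfinM : Module.Finite R M := finite_of_finite_Rn R n M
  have hfreeA : Module.Free R (MultCrv.Rn R n) := (Polynomial.monic_X_pow n).free_quotient
  have htfA : Module.IsTorsionFree R (MultCrv.Rn R n) := inferInstance
  constructor
  · intro hrefl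
    rw [Module.isTorsionFree_iff_smul_eq_zero]
    intro r m hrm
    by_cases hr : r = 0
    · exact Or.inl hr
    right
    apply (Module.bijective_dual_eval (MultCrv.Rn R n) M).1
    rw [map_zero]
    ext f
    show f m = 0
    have h1 : r • f m = 0 := by
      have h2 : f (r • m) = r • f m := by
        rw [← IsScalarTower.algebraMap_smul (MultCrv.Rn R n) r m, map_smul]
        exact (Algebra.smul_def r (f m)).symm
      rw [← h2, hrm, map_zero]
    rcases (Module.isTorsionFree_iff_smul_eq_zero.1 htfA) r (f m) h1 with h | h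
    · exact absurd h hr
    · exact h
  · intro htf
    have hfreeM : Module.Free R M := inferInstance
    have hreflR : Module.IsReflexive R M := inferInstance
    refine ⟨⟨?_, ?_⟩⟩
    · rw [injective_iff_map_eq_zero]
      intro m hm
      apply (Module.bijective_dual_eval R M).1
      rw [map_zero]
      ext μ
      show μ m = 0
      rw [← eps_Phi n hn μ m]
      have : Module.Dual.eval (MultCrv.Rn R n) M m (Phi n hn μ) = 0 := by rw [hm]; rfl
      have h2 : Phi n hn μ m = 0 := this
      rw [h2, map_zero]
    · intro ξ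
      have hadd : ∀ μ₁ μ₂ : M →ₗ[R] R, Phi n hn (μ₁ + μ₂) = Phi n hn μ₁ + Phi n hn μ₂ := by
        intro μ₁ μ₂
        apply ext_of_eps n hn
        intro e
        rw [LinearMap.add_apply, map_add, eps_Phi, eps_Phi, eps_Phi, LinearMap.add_apply]
      have hsmul : ∀ (r : R) (μ : M →ₗ[R] R),
          Phi n hn (r • μ) = algebraMap R (MultCrv.Rn R n) r • Phi n hn μ := by
        intro r μ
        apply ext_of_eps n hn
        intro e
        rw [LinearMap.smul_apply, eps_Phi, LinearMap.smul_apply, smul_eq_mul]
        have h : algebraMap R (MultCrv.Rn R n) r • Phi n hn μ e = r • Phi n hn μ e :=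
          (Algebra.smul_def r _).symm
        rw [h, map_smul, eps_Phi, smul_eq_mul]
      let ξ' : Module.Dual R (Module.Dual R M) :=
        { toFun := fun μ => eps R n (ξ (Phi n hn μ))
          map_add' := fun μ₁ μ₂ => by rw [hadd, map_add, map_add]
          map_smul' := fun r μ => by
            rw [hsmul, map_smul, RingHom.id_apply, smul_eq_mul]
            have h : algebraMap R (MultCrv.Rn R n) r * ξ (Phi n hn μ) = r • ξ (Phi n hn μ) :=
              (Algebra.smul_def r _).symm
            rw [h, map_smul] }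
      obtain ⟨m, hm⟩ := (Module.bijective_dual_eval R M).2 ξ'
      have hm' : ∀ μ : M →ₗ[R] R, μ m = eps R n (ξ (Phi n hn μ)) := fun μ =>
        LinearMap.congr_fun hm μ
      have key : ∀ g : M →ₗ[MultCrv.Rn R n] MultCrv.Rn R n, eps R n (ξ g) = eps R n (g m) := by
        intro g
        have := hm' ((eps R n).comp (g.restrictScalars R))
        rw [Phi_eps_comp] at this
        exact this.symm
      refine ⟨m, ?_⟩
      ext f
      show f m = ξ f
      apply eq_of_eps_mul n hn
      intro a
      have h1 : a * f m = (a • f) m := rfl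
      have h2 : a * ξ f = ξ (a • f) := by rw [map_smul, smul_eq_mul]
      rw [h1, h2, key]

end Refl

end Groth.Agent.Lib.Helper21.MultCrv
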