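import Mathlib
import Groth.Agent.Lib.Helper21MultCrv3

/-!
# Helper21: `Ext^1_A(M, A) = 0` implies `M` is `R`-torsion-free, `A = R[X]/(X^n)`
-/

set_option autoImplicit false
universe u

namespace Groth.Agent.Lib.Helper21.MultCrv

open Polynomial Groth.Agent.Lib.Helper26 CategoryTheory Abelian

variable (R : Type u) [CommRing R] [IsDomain R] [IsPrincipalIdealRing R] (n : ℕ)

theorem torsionFree_of_ext_one_subsingleton (hn : 1 ≤ n) (M : Type u) [AddCommGroup M]
    [Module (MultCrv.Rn R n) M] [Module R M] [IsScalarTower R (MultCrv.Rn R n) M]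
    [Module.Finite (MultCrv.Rn R n) M]
    (h : Subsingleton (Ext (ModuleCat.of (MultCrv.Rn R n) M)
      (ModuleCat.of (MultCrv.Rn R n) (MultCrv.Rn R n)) 1)) : Module.IsTorsionFree R M := by
  obtain ⟨m, π, hπ⟩ := Module.Finite.exists_fin' (MultCrv.Rn R n) M
  have htfF := torsionFree_pi R n m
  have htfK := torsionFree_ker R n π
  have hfinK : Module.Finite R (LinearMap.ker π) := finite_of_finite_Rn R n (LinearMap.ker π)
  have hfreeK : Module.Free R (LinearMap.ker π) := inferInstance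
  -- extension of `A`-linear forms
  have hext : ∀ l : LinearMap.ker π →ₗ[MultCrv.Rn R n] MultCrv.Rn R n,
      ∃ l' : (Fin m → MultCrv.Rn R n) →ₗ[MultCrv.Rn R n] MultCrv.Rn R n,
        ∀ k : LinearMap.ker π, l' k.1 = l k := by
    intro l
    have h0 : (presSC_shortExact π hπ).extClass.comp
        (Ext.mk₀ (ModuleCat.ofHom l) : Ext (presSC π).X₁ _ 0) (add_zero 1) = 0 := by
      have : Subsingleton (Ext (presSC π).X₃
        (ModuleCat.of (MultCrv.Rn R n) (MultCrv.Rn R n)) 1) := h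
      exact Subsingleton.elim _ _
    obtain ⟨x₂, hx₂⟩ := Ext.contravariant_sequence_exact₁ (presSC_shortExact π hπ) _
      (Ext.mk₀ (ModuleCat.ofHom l) : Ext (presSC π).X₁ _ 0) (add_zero 1) h0
    obtain ⟨l', rfl⟩ := (Ext.mk₀_bijective _ _).2 x₂
    rw [Ext.mk₀_comp_mk₀] at hx₂
    have h3 := (Ext.mk₀_bijective _ _).1 hx₂
    refine ⟨l'.hom, fun k => ?_⟩
    have h4 := congrArg (fun φ => φ.hom k) h3
    exact h4
  -- extension of `R`-linear forms
  have hextR : ∀ μ : LinearMap.ker π →ₗ[R] R,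
      ∃ μ' : (Fin m → MultCrv.Rn R n) →ₗ[R] R, ∀ k : LinearMap.ker π, μ' k.1 = μ k := by
    intro μ
    obtain ⟨l', hl'⟩ := hext (Phi n hn μ)
    refine ⟨(eps R n).comp (l'.restrictScalars R), fun k => ?_⟩
    show eps R n (l' k.1) = μ k
    rw [hl', eps_Phi]
  -- retraction
  let b := Module.Free.chooseBasis R (LinearMap.ker π)
  choose μ' hμ' using fun i => hextR (b.coord i)
  let ρ : (Fin m → MultCrv.Rn R n) →ₗ[R] LinearMap.ker π :=
    ∑ i, (μ' i).smulRight (b i)
  have hρ : ∀ k : LinearMap.ker π, ρ k.1 = k := by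
    intro k
    show (∑ i, (μ' i).smulRight (b i)) k.1 = k
    rw [LinearMap.sum_apply]
    simp only [LinearMap.smulRight_apply, hμ']
    exact b.sum_repr k
  rw [Module.isTorsionFree_iff_smul_eq_zero]
  intro r x hrx
  by_cases hr : r = 0
  · exact Or.inl hr
  right
  obtain ⟨y, rfl⟩ := hπ x
  have h1 : π (r • y) = 0 := by
    rw [← IsScalarTower.algebraMap_smul (MultCrv.Rn R n) r y, map_smul,
      IsScalarTower.algebraMap_smul, hrx]
  have h2 := hρ ⟨r • y, h1⟩
  rw [map_smul] at h2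
  have h3 : r • (ρ y).1 = r • y := congrArg Subtype.val h2
  have h4 : (ρ y).1 = y := by
    rcases (Module.isTorsionFree_iff_smul_eq_zero.1 htfF) r ((ρ y).1 - y)
      (by rw [smul_sub, h3, sub_self]) with h | h
    · exact absurd h hr
    · exact sub_eq_zero.1 h
  rw [← h4]
  exact (ρ y).2

end Groth.Agent.Lib.Helper21.MultCrv
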