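import Groth.Agent.Lib.Helper21FibC

/-!
# Helper21: the universal Mumford complex over a Noetherian ring
-/

set_option autoImplicit false
set_option linter.style.haveILetI false
universe u
open CategoryTheory CategoryTheory.Limits AlgebraicGeometry MonoidalCategory Opposite

namespace Groth.Agent.Lib.Helper21.UnivCx

open Groth.Agent.Lib.Helper16.CechLow Groth.Agent.Lib.Helper21.CechMod
  Groth.Agent.Lib.Helper21.CechBC Groth.Agent.Lib.Helper21.MumC Groth.Agent.Lib.Helper21.MumD
  Groth.Agent.Lib.Helper21.TFunG Groth.Agent.Lib.Helper21.FibA Groth.Agent.Lib.Helper21.FibB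
  Groth.Agent.Lib.Helper21.FibC

variable (A : Type u) [CommRing A] {X : Scheme.{u}} [X.Over (Spec (CommRingCat.of A))]
  (F : X.Modules)

/-- **The universal Mumford complex** over a Noetherian ring: a bounded complex `P` of finite
projective `A`-modules with `H^p(X_B, F_B) ≃ H_{-p}(P ⊗_A B)` for every `A`-algebra `B`. -/
theorem exists_univ_complex [IsNoetherianRing A] [IsProper (X ↘ Spec (CommRingCat.of A))]
    (hF : Coh.IsCoh F) (hfl : FlatMod.IsFlatOver (X ↘ Spec (CommRingCat.of A)) F) :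
    ∃ P : ChainComplex (ModuleCat.{u} A) ℤ,
      (∀ i, Module.Finite A (P.X i) ∧ Module.Projective A (P.X i)) ∧
      (∃ N : ℕ, ∀ i : ℤ, 0 < i ∨ i < -(N : ℤ) → IsZero (P.X i)) ∧
      (∀ (p : ℕ) (y : ↑(Spec (CommRingCat.of A))),
        CohIII.fiberRank (X ↘ Spec (CommRingCat.of A)) F p y = CohIII.dRank P (-(p : ℤ)) y) ∧
      ∀ (B : Type u) [CommRing B] [Algebra A B] (X' : Scheme.{u})
        [X'.Over (Spec (CommRingCat.of B))] (g' : X' ⟶ X)
        (_ : IsPullback g' (X' ↘ Spec (CommRingCat.of B)) (X ↘ Spec (CommRingCat.of A))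
          (Spec.map (CommRingCat.ofHom (algebraMap A B)))) (p : ℕ),
        Nonempty (Coh.HH X' ((Scheme.Modules.pullback g').obj F) p ≃ₗ[B]
          ↑((CohIII.bcCx (algebraMap A B) P).homology (-(p : ℤ)))) := by
  haveI : F.IsQuasicoherent := hF.1
  haveI : CompactSpace X :=
    QuasiCompact.compactSpace_of_compactSpace (X ↘ Spec (CommRingCat.of A))
  obtain ⟨ι, hfin, U, hcov, hU1, hU⟩ := exists_cover A X
  have hflat : ∀ n, Module.Flat A ((CA A F U).X n) :=
    fun n => flat_CX A F U hfl (isAffineOpen_Ux U hU) n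
  have hfinH : ∀ p, Module.Finite A ((CA A F U).homology p) := fun p => by
    obtain ⟨e⟩ := nonempty_linearEquiv_homology A F U hcov hU p
    have := Groth.Agent.S0002.result A X F hF p
    exact Module.Finite.equiv e
  have hN : ∀ (M : ModuleCat.{u} A) (p : ℕ), Nat.card ι ≤ p → (TL M (CA A F U)).ExactAt p :=
    fun M p hp => exactAt_TL_of_le A F U hcov hU hU1 M p hp
  obtain ⟨P, hP, hPb, hiso, hbc⟩ := main_natural_chain_bc (CA A F U) hflat hfinH (Nat.card ι) hN
  refine ⟨P, hP, ⟨Nat.card ι, hPb⟩, fun p y => ?_, fun B _ _ X' _ g' h p => ?_⟩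
  · exact fiberRank_eq A F y U hcov hU P p (hbc y.asIdeal.ResidueField p)
  · obtain ⟨e1⟩ := nonempty_linearEquiv_homology_bc A B g' h F U hcov hU p
    obtain ⟨e2⟩ := hbc B p
    exact ⟨e1.trans e2.toLinearEquiv⟩

end Groth.Agent.Lib.Helper21.UnivCx
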