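import Groth.Agent.Lib.Helper21SemicontB
import Groth.Agent.Lib.Helper21UnivCx
import Groth.Agent.Lib.Helper17StalkBC3

/-!
# Helper21: Noetherian models of a proper finitely presented family with a finitely presented flat
module over the affine opens of an arbitrary base, and their universal complexes

* `Model f F hU`, `nonempty_model`;
* `Model.exists_complex` (Lemma H): a bounded complex `P` of finite projective modules over the Noetherian
  ring `A₀` of the model with `H^p(X', g'^*F) ≃ H_{-p}(P ⊗_{A₀} B)` for every base change `X'` of `f` along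
  `Spec B → Spec Γ(S, U) → S`, whose rank functions are the Betti numbers of the fibres of `f`.
-/

set_option autoImplicit false
set_option linter.style.haveILetI false
universe u
open CategoryTheory CategoryTheory.Limits AlgebraicGeometry TensorProduct

namespace Groth.Agent.Lib.Helper21.NNBC

open Groth.Agent.Lib.Helper17.StalkBC Groth.Agent.Lib.Helper21.Semicont
  Groth.Agent.Lib.Helper21.TBridge

variable {X S : Scheme.{u}} (f : X ⟶ S)

/-- `f⁻¹U → Spec Γ(S, U)` is the base change of `f` along `Spec Γ(S, U) → S` -/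
theorem isPullback_hRes {U : S.Opens} (hU : IsAffineOpen U) :
    IsPullback (f ⁻¹ᵁ U).ι (hRes f hU) f hU.fromSpec := by
  have t : IsPullback (f ⁻¹ᵁ U).ι (f ∣_ U) f U.ι := (isPullback_morphismRestrict f U).flip
  refine IsPullback.of_iso t (Iso.refl _) (Iso.refl _) hU.isoSpec (Iso.refl _) ?_ ?_ ?_ ?_
  · simp
  · simp
  · simp
  · rw [Iso.refl_hom, Category.comp_id, ← hU.isoSpec_inv_ι, Iso.hom_inv_id_assoc]

/-- A Noetherian model of `(f, F)` over the affine open `U` of the base, together with its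
universal Mumford complex. -/
structure Model (F : X.Modules) {U : S.Opens} (hU : IsAffineOpen U) where
  A₀ : CommRingCat.{u}
  noeth : IsNoetherianRing A₀
  φ : A₀ ⟶ Γ(S, U)
  X₀ : Scheme.{u}
  f₀ : X₀ ⟶ Spec A₀
  proper : IsProper f₀
  F₀ : X₀.Modules
  coh : Coh.IsCoh F₀
  flat : FlatMod.IsFlatOver f₀ F₀
  q₀ : (f ⁻¹ᵁ U : Scheme.{u}) ⟶ X₀
  sq : IsPullback q₀ (hRes f hU) f₀ (Spec.map φ)
  iso : (Scheme.Modules.pullback (f ⁻¹ᵁ U).ι).obj F ≅ (Scheme.Modules.pullback q₀).obj F₀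

theorem nonempty_model [IsProper f] [LocallyOfFinitePresentation f] (F : X.Modules)
    (hF : CohB1.IsFP F) (hflat : FlatMod.IsFlatOver f F) {U : S.Opens} (hU : IsAffineOpen U) :
    Nonempty (Model f F hU) := by
  haveI hq : F.IsQuasicoherent := Groth.Agent.Helper18Strict.isQCoh_of_isFP F hF
  have hsq := isPullback_hRes f hU
  let F' : (f ⁻¹ᵁ U : Scheme.{u}).Modules := (Scheme.Modules.pullback (f ⁻¹ᵁ U).ι).obj F
  have hq' : F'.IsQuasicoherent :=
    Groth.Agent.Lib.Helper2.PullbackSec.isQuasicoherent_pullback _ _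
  have hfp' : SheafOfModules.IsFinitePresentation (R := (f ⁻¹ᵁ U : Scheme.{u}).ringCatSheaf) F' :=
    Groth.Agent.Helper18Strict.isFP_pullback _ F hF
  have hfl' : FlatMod.IsFlatOver (hRes f hU) F' := fun x' =>
    Groth.Agent.S1391.result f _ (f ⁻¹ᵁ U).ι hU.fromSpec hsq F hq x' (hflat _)
  haveI : IsProper (hRes f hU) := inferInstance
  haveI : LocallyOfFinitePresentation (hRes f hU) := inferInstance
  obtain ⟨A₀, φ, X₀, u₀, p₀, F₀, hA₀, hu₀, hq₀, hfp₀, hfl₀, hsq₀, ⟨e₀⟩⟩ :=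
    exists_noetherian_model_mod Γ(S, U) (hRes f hU) F' hq' hfp' hfl'
  exact ⟨⟨A₀, hA₀, φ, X₀, u₀, hu₀, F₀,
    ⟨hq₀, Groth.Agent.Helper18Strict.isFT_of_isFP F₀ hfp₀⟩, hfl₀, p₀, hsq₀, e₀⟩⟩


section LemmaH

variable {f} {F : X.Modules} {U : S.Opens} {hU : IsAffineOpen U}

/-- the lift of a base change of `f` over `Spec B → Spec Γ(S, U) → S` to `f⁻¹U` -/
theorem exists_lift_hRes (B : CommRingCat.{u}) (ψ : Γ(S, U) ⟶ B) {X' : Scheme.{u}}
    (f' : X' ⟶ Spec B) (g' : X' ⟶ X) (hsq : IsPullback g' f' f (Spec.map ψ ≫ hU.fromSpec)) :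
    ∃ g₂ : X' ⟶ (f ⁻¹ᵁ U : Scheme.{u}), g₂ ≫ (f ⁻¹ᵁ U).ι = g' ∧
      IsPullback g₂ f' (hRes f hU) (Spec.map ψ) := by
  have w : (f' ≫ Spec.map ψ ≫ hU.isoSpec.inv) ≫ U.ι = g' ≫ f := by
    rw [hsq.w, Category.assoc, Category.assoc, hU.isoSpec_inv_ι]
  let g₂ : X' ⟶ (f ⁻¹ᵁ U : Scheme.{u}) :=
    (isPullback_morphismRestrict f U).lift (f' ≫ Spec.map ψ ≫ hU.isoSpec.inv) g' w
  have h1 : g₂ ≫ (f ⁻¹ᵁ U).ι = g' := (isPullback_morphismRestrict f U).lift_snd _ _ _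
  have h2 : g₂ ≫ (f ∣_ U) = f' ≫ Spec.map ψ ≫ hU.isoSpec.inv :=
    (isPullback_morphismRestrict f U).lift_fst _ _ _
  refine ⟨g₂, h1, ?_⟩
  have h3 : g₂ ≫ hRes f hU = f' ≫ Spec.map ψ := by
    change g₂ ≫ (f ∣_ U) ≫ hU.isoSpec.hom = _
    rw [← Category.assoc, h2, Category.assoc, Category.assoc, Iso.inv_hom_id, Category.comp_id]
  refine IsPullback.of_right ?_ h3 (isPullback_hRes f hU)
  rw [h1]
  exact hsq

/-- **Lemma H**: the universal complex of a model computes the cohomology of every base change of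
`(f, F)` over `Spec B → Spec Γ(S, U) → S`, and its rank functions are the Betti numbers of the fibres
of `f`. -/
theorem Model.exists_complex [QuasiCompact f] [QuasiSeparated f] [F.IsQuasicoherent]
    (M : Model f F hU) :
    ∃ P : ChainComplex (ModuleCat.{u} M.A₀) ℤ,
      (∀ i, Module.Finite M.A₀ (P.X i) ∧ Module.Projective M.A₀ (P.X i)) ∧
      (∃ N : ℕ, ∀ i : ℤ, 0 < i ∨ i < -(N : ℤ) → IsZero (P.X i)) ∧
      ∀ (B : CommRingCat.{u}) (ψ : Γ(S, U) ⟶ B) (X' : Scheme.{u}) (f' : X' ⟶ Spec B)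
        (g' : X' ⟶ X) (_ : IsPullback g' f' f (Spec.map ψ ≫ hU.fromSpec)),
        (∀ (q : Spec B) (p : ℕ),
          CohIII.dRank P (-(p : ℤ)) (Spec.map (M.φ ≫ ψ) q) =
            PerfAux.betti f F ((Spec.map ψ ≫ hU.fromSpec) q) p) ∧
        ∀ p : ℕ,
          letI : X'.Over (Spec (CommRingCat.of B)) := ⟨f'⟩
          Nonempty (Coh.HH X' ((Scheme.Modules.pullback g').obj F) p ≃ₗ[B]
            ↑((CohIII.bcCx (M.φ ≫ ψ).hom P).homology (-(p : ℤ)))) := by
  haveI := M.noeth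
  haveI := M.proper
  haveI : M.F₀.IsQuasicoherent := M.coh.1
  letI : M.X₀.Over (Spec (CommRingCat.of M.A₀)) := ⟨M.f₀⟩
  haveI : IsProper (M.X₀ ↘ Spec (CommRingCat.of M.A₀)) := M.proper
  obtain ⟨P, hP, hN, hrk, huniv⟩ :=
    Groth.Agent.Lib.Helper21.UnivCx.exists_univ_complex M.A₀ M.F₀ M.coh M.flat
  refine ⟨P, hP, hN, fun B ψ X' f' g' hsq => ?_⟩
  obtain ⟨g₂, h1, hleft⟩ := exists_lift_hRes B ψ f' g' hsq
  have hsq3 : IsPullback (g₂ ≫ M.q₀) f' M.f₀ (Spec.map (M.φ ≫ ψ)) := by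
    rw [Spec.map_comp]
    exact hleft.paste_horiz M.sq
  let e : (Scheme.Modules.pullback g').obj F ≅ (Scheme.Modules.pullback (g₂ ≫ M.q₀)).obj M.F₀ :=
    (Scheme.Modules.pullbackCongr h1.symm).app F ≪≫
      ((Scheme.Modules.pullbackComp g₂ (f ⁻¹ᵁ U).ι).app F).symm ≪≫
      (Scheme.Modules.pullback g₂).mapIso M.iso ≪≫
      (Scheme.Modules.pullbackComp g₂ M.q₀).app M.F₀
  refine ⟨fun q p => ?_, fun p => ?_⟩
  · have r1 := hrk p (Spec.map (M.φ ≫ ψ) q)
    have r2 := betti_baseChange M.f₀ (Spec.map (M.φ ≫ ψ)) (g₂ ≫ M.q₀) f' hsq3 M.F₀ q p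
    have r3 := betti_congr_iso f' e q p
    have r4 := betti_baseChange f (Spec.map ψ ≫ hU.fromSpec) g' f' hsq F q p
    rw [← r4, r3, r2]
    exact r1.symm
  · letI : X'.Over (Spec (CommRingCat.of B)) := ⟨f'⟩
    letI : Algebra M.A₀ B := (M.φ ≫ ψ).hom.toAlgebra
    obtain ⟨e1⟩ := huniv B X' (g₂ ≫ M.q₀) hsq3 p
    exact ⟨(Groth.Agent.Lib.Helper17.StalkBC.hhEquiv B e p).trans e1⟩

end LemmaH

end Groth.Agent.Lib.Helper21.NNBC
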