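import Mathlib
import Groth.Agent.Lib.Helper21EtOpen
import Groth.Agent.Lib.Helper23SecTw6
import Groth.Agent.Lib.Helper23PB
import Groth.Agent.Lib.Helper20UFDPic
import Groth.Agent.S10963

/-!
# Invertible modules framed by a cocycle of units on an open cover (helper21)
-/

set_option autoImplicit false
universe u
open CategoryTheory CategoryTheory.Limits AlgebraicGeometry Opposite

namespace Groth.Agent.Lib.Helper21.PicFr
open Groth.Agent.Lib.Helper21.EtOpen
open Groth.Agent.Lib.Helper6 Groth.Agent.Lib.Helper23.SecTw Groth.Agent.Lib.Helper23.GenLocus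
open Groth.Agent.Lib.Helper23.PB Groth.Agent.Lib.Helper20.UFDPic

variable {X : Scheme.{u}}

/-- the value of an additive unit as a function -/
noncomputable abbrev uv {U : X.Opens} (a : Additive (Γ(X, U))ˣ) : Γ(X, U) := (a.toMul : Γ(X, U))

lemma uv_resu {U U' : X.Opens} (hU : U ≤ U') (a : Additive (Γ(X, U'))ˣ) :
    uv (resu hU a) = resf hU (uv a) := rfl

lemma uv_add {U : X.Opens} (a b : Additive (Γ(X, U))ˣ) : uv (a + b) = uv a * uv b := rfl

lemma uv_zero {U : X.Opens} : uv (0 : Additive (Γ(X, U))ˣ) = 1 := rfl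

lemma uv_injective {U : X.Opens} {a b : Additive (Γ(X, U))ˣ} (h : uv a = uv b) : a = b :=
  Additive.toMul.injective (Units.ext h)

lemma isUnit_uv {U : X.Opens} (a : Additive (Γ(X, U))ˣ) : IsUnit (uv a) := Units.isUnit _

lemma resu_resu {U U' U'' : X.Opens} (h : U ≤ U') (h' : U' ≤ U'') (a : Additive (Γ(X, U''))ˣ) :
    resu h (resu h' a) = resu (h.trans h') a :=
  uv_injective (resf_resf h' h _)

section framing
variable {ι : Type u} (U : ι → X.Opens)

/-- `L` has local generators on the `U i` with transition units `η` -/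
def Framed (L : X.Modules) (η : ∀ i j, Additive (Γ(X, U i ⊓ U j))ˣ) : Prop :=
  ∃ s : ∀ i, Γ(L, U i), (∀ i, IsGen L (U i) (s i)) ∧
    ∀ i j, res L inf_le_left (s i) = uv (η i j) • res L inf_le_right (s j)

variable {U}

/-- restriction of a family of transition units to a refinement -/
noncomputable def refine {κ : Type u} {V : κ → X.Opens} (f : κ → ι) (hV : ∀ k, V k ≤ U (f k))
    (η : ∀ i j, Additive (Γ(X, U i ⊓ U j))ˣ) (k l : κ) : Additive (Γ(X, V k ⊓ V l))ˣ :=
  resu (inf_le_inf (hV k) (hV l)) (η (f k) (f l))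

lemma Framed.refine {L : X.Modules} {η : ∀ i j, Additive (Γ(X, U i ⊓ U j))ˣ} (h : Framed U L η)
    {κ : Type u} {V : κ → X.Opens} (f : κ → ι) (hV : ∀ k, V k ≤ U (f k)) :
    Framed V L (refine f hV η) := by
  obtain ⟨s, hs, hη⟩ := h
  refine ⟨fun k => res L (hV k) (s (f k)), fun k => (hs (f k)).mono (hV k), fun k l => ?_⟩
  have h1 := congrArg (res L (inf_le_inf (hV k) (hV l))) (hη (f k) (f l))
  rw [res_res, res_smul, res_res] at h1
  rw [res_res, res_res]
  exact h1

lemma Framed.of_iso {L L' : X.Modules} (Φ : L ≅ L') {η : ∀ i j, Additive (Γ(X, U i ⊓ U j))ˣ}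
    (h : Framed U L η) : Framed U L' η := by
  obtain ⟨s, hs, hη⟩ := h
  refine ⟨fun i => Φ.hom.app (U i) (s i), fun i => isGen_of_iso Φ (hs i), fun i j => ?_⟩
  have h1 := congrArg (Φ.hom.app (U i ⊓ U j)) (hη i j)
  rw [Scheme.Modules.Hom.app_smul] at h1
  have e1 : res L' inf_le_left (Φ.hom.app (U i) (s i)) =
      Φ.hom.app (U i ⊓ U j) (res L inf_le_left (s i)) :=
    (Groth.Agent.Lib.Helper23.Extend.app_map Φ.hom (homOfLE inf_le_left) (s i)).symm
  have e2 : res L' inf_le_right (Φ.hom.app (U j) (s j)) =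
      Φ.hom.app (U i ⊓ U j) (res L inf_le_right (s j)) :=
    (Groth.Agent.Lib.Helper23.Extend.app_map Φ.hom (homOfLE inf_le_right) (s j)).symm
  rw [e1, e2]
  exact h1

end framing


section main
variable {ι : Type u} {U : ι → X.Opens}

/-- the cocycle condition for a family of units on the double overlaps -/
def IsCocycle (U : ι → X.Opens) (η : ∀ i j, Additive (Γ(X, U i ⊓ U j))ˣ) : Prop :=
  ∀ i j k, resu (inf_le_inf_right (U k) inf_le_left : U i ⊓ U j ⊓ U k ≤ U i ⊓ U k) (η i k) =
    resu (inf_le_left : U i ⊓ U j ⊓ U k ≤ U i ⊓ U j) (η i j) +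
    resu (inf_le_inf_right (U k) inf_le_right : U i ⊓ U j ⊓ U k ≤ U j ⊓ U k) (η j k)

lemma Framed.isInvertible {L : X.Modules} {η : ∀ i j, Additive (Γ(X, U i ⊓ U j))ˣ}
    (h : Framed U L η) (hcov : ∀ x : X, ∃ i, x ∈ U i) : PicF.IsInvertible L := by
  obtain ⟨s, hs, -⟩ := h
  refine isInvertible_of_isGen L (fun x => ?_)
  obtain ⟨i, hi⟩ := hcov x
  exact ⟨U i, s i, hi, hs i⟩

/-- a cocycle of units is the family of transition units of an invertible module -/
theorem exists_framed_of_cocycle (hcov : ∀ x : X, ∃ i, x ∈ U i)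
    (η : ∀ i j, Additive (Γ(X, U i ⊓ U j))ˣ) (hη : IsCocycle U η) :
    ∃ L : X.Modules, PicF.IsInvertible L ∧ Framed U L η := by
  have hUtop : iSup U = ⊤ := by
    rw [eq_top_iff]
    intro x _
    obtain ⟨i, hi⟩ := hcov x
    exact TopologicalSpace.Opens.mem_iSup.2 ⟨i, hi⟩
  obtain ⟨L, s, hLinv, hbij, htrans⟩ := Groth.Agent.S10963.result X U hUtop
    (fun i j => (η i j).toMul) (fun i j k => by
      have := congrArg (fun a : Additive (Γ(X, U i ⊓ U j ⊓ U k))ˣ => uv a) (hη i j k)
      exact this)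
  exact ⟨L, hLinv, s, fun i V h => hbij i V h, htrans⟩

/-- an invertible module is framed by the transition units of local generators -/
theorem exists_framed_of_invertible (L : X.Modules) (hL : PicF.IsInvertible L) :
    ∃ (U : X → X.Opens) (η : ∀ x y, Additive (Γ(X, U x ⊓ U y))ˣ),
      (∀ x, x ∈ U x) ∧ Framed U L η := by
  choose W e hxW hgen using exists_gen L hL
  have hη : ∀ x y, ∃ η : Additive (Γ(X, W x ⊓ W y))ˣ,
      res L inf_le_left (e x) = uv η • res L inf_le_right (e y) := by
    intro x y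
    have ha := (hgen y).mono (inf_le_right : W x ⊓ W y ≤ W y)
    have hb := (hgen x).mono (inf_le_left : W x ⊓ W y ≤ W x)
    have hu := isUnit_coef_of_isGen ha hb
    refine ⟨Additive.ofMul hu.unit, ?_⟩
    have h1 := coef_spec ha le_rfl (res L inf_le_left (e x))
    rw [res_self] at h1
    exact h1.symm
  choose η hη using hη
  exact ⟨W, η, hxW, e, hgen, hη⟩

/-- modules framed by cohomologous families of units are isomorphic -/
theorem nonempty_iso_of_framed (hcov : ∀ x : X, ∃ i, x ∈ U i) {L L' : X.Modules}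
    {η η' : ∀ i j, Additive (Γ(X, U i ⊓ U j))ˣ} (h : Framed U L η) (h' : Framed U L' η')
    (β : ∀ i, Additive (Γ(X, U i))ˣ)
    (hβ : ∀ i j, η i j + resu inf_le_right (β j) = resu inf_le_left (β i) + η' i j) :
    Nonempty (L ≅ L') := by
  obtain ⟨s, hs, hη⟩ := h
  obtain ⟨s', hs', hη'⟩ := h'
  obtain ⟨Φ, -⟩ := exists_iso_of_frames L L' U hcov s (fun i => uv (β i) • s' i) hs
    (fun i => isGen_unit_smul (hs' i) _ (isUnit_uv _))
    (fun i j => cocycle_of_transition (hs j) (uv (η i j)) (hη i j) (by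
      have h1 := congrArg uv (hβ i j)
      rw [uv_add, uv_add, uv_resu, uv_resu] at h1
      rw [res_smul, res_smul, hη' i j, ← mul_smul, ← mul_smul, h1]))
  exact ⟨Φ⟩

/-- tensor products of framed modules -/
theorem Framed.tensor {L L' : X.Modules} {η η' : ∀ i j, Additive (Γ(X, U i ⊓ U j))ˣ}
    (h : Framed U L η) (h' : Framed U L' η') :
    Framed U (CohB1.tensorMod L L') (fun i j => η i j + η' i j) := by
  obtain ⟨s, hs, hη⟩ := h
  obtain ⟨s', hs', hη'⟩ := h'
  refine ⟨fun i => tm L L' (U i) (s i) (s' i), fun i => isGen_tm L L' (U i) _ _ (hs i) (hs' i),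
    fun i j => ?_⟩
  rw [res_tm, res_tm, hη i j, hη' i j, tm_smul_left, tm_smul_right, ← mul_smul, uv_add]

/-- the transition units of a framing satisfy the cocycle condition -/
theorem Framed.isCocycle {L : X.Modules} {η : ∀ i j, Additive (Γ(X, U i ⊓ U j))ˣ}
    (h : Framed U L η) : IsCocycle U η := by
  obtain ⟨s, hs, hη⟩ := h
  intro i j k
  have l12 : U i ⊓ U j ⊓ U k ≤ U i ⊓ U j := inf_le_left
  have l23 : U i ⊓ U j ⊓ U k ≤ U j ⊓ U k := inf_le_inf_right (U k) inf_le_right
  have l13 : U i ⊓ U j ⊓ U k ≤ U i ⊓ U k := inf_le_inf_right (U k) inf_le_left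
  have l1 : U i ⊓ U j ⊓ U k ≤ U i := inf_le_left.trans inf_le_left
  have l2 : U i ⊓ U j ⊓ U k ≤ U j := inf_le_left.trans inf_le_right
  have l3 : U i ⊓ U j ⊓ U k ≤ U k := inf_le_right
  have a12 : res L l1 (s i) = resf l12 (uv (η i j)) • res L l2 (s j) := by
    have := congrArg (res L l12) (hη i j)
    rwa [res_res, res_smul, res_res] at this
  have a23 : res L l2 (s j) = resf l23 (uv (η j k)) • res L l3 (s k) := by
    have := congrArg (res L l23) (hη j k)
    rwa [res_res, res_smul, res_res] at this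
  have a13 : res L l1 (s i) = resf l13 (uv (η i k)) • res L l3 (s k) := by
    have := congrArg (res L l13) (hη i k)
    rwa [res_res, res_smul, res_res] at this
  apply uv_injective
  rw [uv_add, uv_resu, uv_resu, uv_resu]
  apply (hs k _ l3).1
  change resf l13 (uv (η i k)) • res L l3 (s k) =
    (resf l12 (uv (η i j)) * resf l23 (uv (η j k))) • res L l3 (s k)
  rw [mul_smul, ← a23, ← a12, a13]

/-- the structure sheaf is framed by a coboundary only -/
theorem exists_units_of_framed_unit {η : ∀ i j, Additive (Γ(X, U i ⊓ U j))ˣ}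
    (h : Framed U (Coh.structureModule X) η) :
    ∃ u : ∀ i, Additive (Γ(X, U i))ˣ, ∀ i j,
      resu inf_le_left (u i) = η i j + resu inf_le_right (u j) := by
  obtain ⟨s, hs, hη⟩ := h
  have hu : ∀ i, IsUnit (coef (isGen_one (U i)) le_rfl (s i)) :=
    fun i => isUnit_coef_of_isGen (isGen_one (U i)) (hs i)
  have hc : ∀ i, s i = toS (U i) (coef (isGen_one (U i)) le_rfl (s i)) := by
    intro i
    have := coef_spec (isGen_one (U i)) le_rfl (s i)
    rw [res_self, smul_toS, mul_one] at this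
    exact this.symm
  refine ⟨fun i => Additive.ofMul (hu i).unit, fun i j => ?_⟩
  apply uv_injective
  rw [uv_add, uv_resu, uv_resu]
  change resf inf_le_left (coef (isGen_one (U i)) le_rfl (s i)) =
    uv (η i j) * resf inf_le_right (coef (isGen_one (U j)) le_rfl (s j))
  have h1 := hη i j
  rw [hc i, hc j] at h1
  exact h1

/-- the structure sheaf is framed by the trivial cocycle on the trivial cover -/
theorem framed_unit_top :
    Framed (fun _ : PUnit.{u+1} => (⊤ : X.Opens)) (Coh.structureModule X) (fun _ _ => 0) := by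
  refine ⟨fun _ => toS ⊤ 1, fun _ => isGen_one ⊤, fun _ _ => ?_⟩
  rw [uv_zero, one_smul]

end main

end Groth.Agent.Lib.Helper21.PicFr
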