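import Mathlib
import Groth.Agent.Lib.Helper21TorsG
import Groth.Agent.Lib.Helper21LiftTors
import Groth.Agent.Lib.Helper21PicFr

/-!
# Sites over the Zariski site of a scheme with a sheaf of units (helper21)
-/

set_option autoImplicit false
universe w u
open CategoryTheory CategoryTheory.Limits AlgebraicGeometry Opposite

namespace Groth.Agent.Lib.Helper21.PicU
open Groth.Agent.Lib.Helper21.TorsA Groth.Agent.Lib.Helper21.TorsB Groth.Agent.Lib.Helper21.TorsG
open Groth.Agent.Lib.Helper21.EtOpen Groth.Agent.Lib.Helper21.PicFr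

/-- a site receiving the opens of `X`, with an abelian sheaf `G` whose sections over opens are the
units, and for which `G`-torsors are Zariski-locally trivial -/
structure USite (X : Scheme.{u}) {C : Type (max u w)} [Category.{u} C] (J : GrothendieckTopology C)
    (G : Sheaf J AddCommGrpCat.{max u w}) where
  Lands : C → X.Opens → Prop
  of_hom : ∀ {Z Z' : C} (_ : Z' ⟶ Z) {U : X.Opens}, Lands Z U → Lands Z' U
  mono : ∀ {Z : C} {U U' : X.Opens}, Lands Z U → U ≤ U' → Lands Z U'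
  inf : ∀ {Z : C} {U U' : X.Opens}, Lands Z U → Lands Z U' → Lands Z (U ⊓ U')
  cover : ∀ {ι : Type u} (W : ι → X.Opens), (∀ x : X, ∃ i, x ∈ W i) → ∀ (V : C) (R : Sieve V),
    (∀ ⦃Z : C⦄ (f : Z ⟶ V), (∃ i, Lands Z (W i)) → R f) → R ∈ J V
  opObj : X.Opens → C
  lands_opObj : ∀ U : X.Opens, Lands (opObj U) U
  liftO : ∀ {Z : C} {U : X.Opens}, Lands Z U → (Z ⟶ opObj U)
  hom_ext : ∀ {Z : C} {U : X.Opens} (a b : Z ⟶ opObj U), a = b
  gmU : ∀ (Z : C) (U : X.Opens), Lands Z U → (Additive (Γ(X, U))ˣ →+ G.obj.obj (op Z))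
  res_gmU : ∀ {Z Z' : C} (k : Z' ⟶ Z) (U : X.Opens) (h : Lands Z U) (a : Additive (Γ(X, U))ˣ),
    (G.obj.map k.op).hom (gmU Z U h a) = gmU Z' U (of_hom k h) a
  gmU_resu : ∀ (Z : C) {U U' : X.Opens} (hU : U ≤ U') (h : Lands Z U) (a : Additive (Γ(X, U'))ˣ),
    gmU Z U h (resu hU a) = gmU Z U' (mono h hU) a
  gmU_bij : ∀ U : X.Opens, Function.Bijective (gmU (opObj U) U (lands_opObj U))
  hilbert90 : ∀ (T : GTorsor G) (x : X),
    ∃ U : X.Opens, x ∈ U ∧ Nonempty (T.P.obj.obj (op (opObj U)))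


section glue
variable {C : Type (max u w)} [Category.{u} C] {J : GrothendieckTopology C}

/-- gluing for abelian sheaves: a local, locally inhabited subpresheaf with at most one section
over every object has a compatible family of sections -/
theorem exists_global_of_local_unique (P : Sheaf J AddCommGrpCat.{max u w})
    (T : ∀ V : C, Set (P.obj.obj (op V)))
    (hres : ∀ ⦃V W : C⦄ (f : W ⟶ V) (t : P.obj.obj (op V)), t ∈ T V → res J P f t ∈ T W)
    (hloc : ∀ (V : C) (t : P.obj.obj (op V)) (S : Sieve V), S ∈ J V →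
      (∀ ⦃W : C⦄ (f : W ⟶ V), S f → res J P f t ∈ T W) → t ∈ T V)
    (huniq : ∀ (V : C) (t t' : P.obj.obj (op V)), t ∈ T V → t' ∈ T V → t = t')
    (hex : ∀ V : C, ∃ S ∈ J V, ∀ ⦃W : C⦄ (f : W ⟶ V), S f → (T W).Nonempty) :
    ∃ t : ∀ V : C, P.obj.obj (op V), (∀ V, t V ∈ T V) ∧
      ∀ ⦃V W : C⦄ (f : W ⟶ V), res J P f (t V) = t W := by
  have key : ∀ V : C, ∃ t : P.obj.obj (op V), t ∈ T V := by
    intro V
    obtain ⟨S, hS, hne⟩ := hex V
    have hx : ∀ ⦃W : C⦄ (f : W ⟶ V) (hf : S f), (hne f hf).choose ∈ T W :=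
      fun W f hf => (hne f hf).choose_spec
    obtain ⟨t, ht⟩ := exists_glue P S hS (fun W f hf => (hne f hf).choose)
      (fun W W' f hf g => huniq W' _ _ (hres g _ (hx f hf)) (hx (g ≫ f) (S.downward_closed hf g)))
    refine ⟨t, hloc V t S hS (fun W f hf => ?_)⟩
    rw [ht f hf]
    exact hx f hf
  choose t ht using key
  exact ⟨t, ht, fun V W f => huniq W _ _ (hres f _ (ht V)) (ht W)⟩

end glue

section usite
variable {X : Scheme.{u}} {C : Type (max u w)} [Category.{u} C] {J : GrothendieckTopology C}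
  {G : Sheaf J AddCommGrpCat.{max u w}} (S : USite.{w} X J G)

/-- the sieve of arrows landing in a member of a family of opens -/
def USite.landSieve {ι : Type u} (W : ι → X.Opens) (V : C) : Sieve V where
  arrows Z _ := ∃ i, S.Lands Z (W i)
  downward_closed := by
    rintro Z Z' f ⟨i, hi⟩ k
    exact ⟨i, S.of_hom k hi⟩

lemma USite.landSieve_mem {ι : Type u} (W : ι → X.Opens) (hcov : ∀ x : X, ∃ i, x ∈ W i) (V : C) :
    S.landSieve W V ∈ J V :=
  S.cover W hcov V _ (fun _ _ h => h)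

/-- inclusions of opens as morphisms of the site -/
def USite.ρ {U U' : X.Opens} (h : U ≤ U') : S.opObj U ⟶ S.opObj U' :=
  S.liftO (S.mono (S.lands_opObj U) h)

lemma USite.res_congr (E : Sheaf J AddCommGrpCat.{max u w}) {Z : C} {U : X.Opens}
    (a b : Z ⟶ S.opObj U) (t : E.obj.obj (op (S.opObj U))) : res J E a t = res J E b t := by
  rw [S.hom_ext a b]

section glue2
variable (E : Sheaf J AddCommGrpCat.{max u w}) {ι : Type u} (U : ι → X.Opens)
  (hcov : ∀ x : X, ∃ i, x ∈ U i)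
  (t : ∀ i, E.obj.obj (op (S.opObj (U i))))
  (ht : ∀ i j, res J E (S.ρ (inf_le_left : U i ⊓ U j ≤ U i)) (t i) =
    res J E (S.ρ (inf_le_right : U i ⊓ U j ≤ U j)) (t j))

include ht in
lemma USite.compat_of_lands {Z : C} (i j : ι) (hi : S.Lands Z (U i)) (hj : S.Lands Z (U j)) :
    res J E (S.liftO hi) (t i) = res J E (S.liftO hj) (t j) := by
  have e1 : S.liftO hi = S.liftO (S.inf hi hj) ≫ S.ρ (inf_le_left : U i ⊓ U j ≤ U i) :=
    S.hom_ext _ _
  have e2 : S.liftO hj = S.liftO (S.inf hi hj) ≫ S.ρ (inf_le_right : U i ⊓ U j ≤ U j) :=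
    S.hom_ext _ _
  rw [e1, e2, res_comp, res_comp, ht]

include hcov ht in
/-- sections of an abelian sheaf over the members of an open cover agreeing on overlaps glue -/
theorem USite.exists_global_of_compatible :
    ∃ g : ∀ V : C, E.obj.obj (op V), (∀ ⦃V W : C⦄ (f : W ⟶ V), res J E f (g V) = g W) ∧
      ∀ (i : ι) (Z : C) (h : S.Lands Z (U i)), g Z = res J E (S.liftO h) (t i) := by
  obtain ⟨g, hg, hg'⟩ := exists_global_of_local_unique.{w} E
    (fun V => {a | ∀ (i : ι) ⦃Z : C⦄ (f : Z ⟶ V) (h : S.Lands Z (U i)),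
      res J E f a = res J E (S.liftO h) (t i)})
    (fun V W k a ha i Z f h => by
      rw [← res_comp]
      exact ha i (f ≫ k) h)
    (fun V a R hR ha i Z f h => by
      apply ext_of_cover E (R.pullback f) (J.pullback_stable f hR)
      intro Z' k hk
      have h1 := ha (k ≫ f) hk i (𝟙 Z') (S.of_hom k h)
      rw [res_id] at h1
      rw [← res_comp, h1, ← res_comp]
      exact S.res_congr E _ _ _)
    (fun V a a' ha ha' => by
      apply ext_of_cover E (S.landSieve U V) (S.landSieve_mem U hcov V)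
      rintro Z f ⟨i, hi⟩
      rw [ha i f hi, ha' i f hi])
    (fun V => ⟨S.landSieve U V, S.landSieve_mem U hcov V, by
      rintro Z f ⟨i, hi⟩
      refine ⟨res J E (S.liftO hi) (t i), fun j Z' f' hj => ?_⟩
      rw [← res_comp, ← S.compat_of_lands E U t ht i j (S.of_hom f' hi) hj]
      exact S.res_congr E _ _ _⟩)
  refine ⟨g, hg', fun i Z h => ?_⟩
  have := hg Z i (𝟙 Z) h
  rwa [res_id] at this

end glue2

end usite

end Groth.Agent.Lib.Helper21.PicU
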