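import Mathlib
import Groth.Agent.Lib.Helper21PicU

/-!
# Lifting global sections of a quotient `I/G_m` Zariski-locally, with cocycles of units (helper21)
-/

set_option autoImplicit false
universe w u
open CategoryTheory CategoryTheory.Limits AlgebraicGeometry Opposite

namespace Groth.Agent.Lib.Helper21.PicU
open Groth.Agent.Lib.Helper21.TorsA Groth.Agent.Lib.Helper21.TorsB Groth.Agent.Lib.Helper21.TorsG
open Groth.Agent.Lib.Helper21.EtOpen Groth.Agent.Lib.Helper21.PicFr
open Groth.Agent.Lib.Helper21.LiftTors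

variable {X : Scheme.{u}} {C : Type (max u w)} [Category.{u} C] {J : GrothendieckTopology C}
  [HasSheafify J AddCommGrpCat.{max u w}]
  {G : Sheaf J AddCommGrpCat.{max u w}} (S : USite.{w} X J G)
  {I Q : Sheaf J AddCommGrpCat.{max u w}} (φ : G ⟶ I) (π : I ⟶ Q)

/-- `q` lifts to `I` over the members of the cover, with differences the units `η` -/
def Lifted (q : ∀ V : C, Q.obj.obj (op V)) {ι : Type u} (U : ι → X.Opens)
    (η : ∀ i j, Additive (Γ(X, U i ⊓ U j))ˣ) : Prop :=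
  ∃ t : ∀ i, I.obj.obj (op (S.opObj (U i))),
    (∀ i, (π.hom.app (op (S.opObj (U i)))).hom (t i) = q (S.opObj (U i))) ∧
    ∀ i j, res J I (S.ρ (inf_le_left : U i ⊓ U j ≤ U i)) (t i) =
      (φ.hom.app (op (S.opObj (U i ⊓ U j)))).hom
        (S.gmU (S.opObj (U i ⊓ U j)) (U i ⊓ U j) (S.lands_opObj _) (η i j)) +
      res J I (S.ρ (inf_le_right : U i ⊓ U j ≤ U j)) (t j)

section basic
variable {S φ π}
variable {q : ∀ V : C, Q.obj.obj (op V)} {ι : Type u} {U : ι → X.Opens}
  {η : ∀ i j, Additive (Γ(X, U i ⊓ U j))ˣ}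

lemma res_φ_gmU {Z Z' : C} (k : Z' ⟶ Z) (W : X.Opens) (h : S.Lands Z W) (a : Additive (Γ(X, W))ˣ) :
    res J I k ((φ.hom.app (op Z)).hom (S.gmU Z W h a)) =
      (φ.hom.app (op Z')).hom (S.gmU Z' W (S.of_hom k h) a) := by
  rw [res_map]
  congr 1
  exact S.res_gmU k W h a

/-- the transition relation on any object landing in two members of the cover -/
lemma transition_of_lands (t : ∀ i, I.obj.obj (op (S.opObj (U i))))
    (ht : ∀ i j, res J I (S.ρ (inf_le_left : U i ⊓ U j ≤ U i)) (t i) =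
      (φ.hom.app (op (S.opObj (U i ⊓ U j)))).hom
        (S.gmU (S.opObj (U i ⊓ U j)) (U i ⊓ U j) (S.lands_opObj _) (η i j)) +
      res J I (S.ρ (inf_le_right : U i ⊓ U j ≤ U j)) (t j))
    {Z : C} (i j : ι) (hi : S.Lands Z (U i)) (hj : S.Lands Z (U j)) :
    res J I (S.liftO hi) (t i) =
      (φ.hom.app (op Z)).hom (S.gmU Z (U i ⊓ U j) (S.inf hi hj) (η i j)) +
      res J I (S.liftO hj) (t j) := by
  have h1 := congrArg (res J I (S.liftO (S.inf hi hj))) (ht i j)
  rw [map_add, ← res_comp, ← res_comp, res_φ_gmU] at h1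
  rw [S.res_congr I (S.liftO hi) _ (t i), S.res_congr I (S.liftO hj) _ (t j)]
  exact h1

end basic


section lemmas
variable {S φ π}
variable {q : ∀ V : C, Q.obj.obj (op V)} {ι : Type u} {U : ι → X.Opens}
  {η : ∀ i j, Additive (Γ(X, U i ⊓ U j))ˣ}

/-- restriction of a lifting to a refinement of the cover -/
lemma Lifted.refine (hq : ∀ ⦃V W : C⦄ (f : W ⟶ V), res J Q f (q V) = q W)
    (h : Lifted S φ π q U η) {κ : Type u} {V : κ → X.Opens} (f : κ → ι)
    (hV : ∀ k, V k ≤ U (f k)) : Lifted S φ π q V (PicFr.refine f hV η) := by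
  obtain ⟨t, ht1, ht2⟩ := h
  refine ⟨fun k => res J I (S.ρ (hV k)) (t (f k)), fun k => ?_, fun k l => ?_⟩
  · rw [← res_map, ht1, hq]
  · have hk : S.Lands (S.opObj (V k ⊓ V l)) (U (f k)) :=
      S.mono (S.lands_opObj _) (inf_le_left.trans (hV k))
    have hl : S.Lands (S.opObj (V k ⊓ V l)) (U (f l)) :=
      S.mono (S.lands_opObj _) (inf_le_right.trans (hV l))
    have h1 := transition_of_lands t ht2 (f k) (f l) hk hl
    rw [← res_comp, ← res_comp, S.res_congr I _ (S.liftO hk) (t (f k)),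
      S.res_congr I _ (S.liftO hl) (t (f l)), h1]
    congr 2
    unfold PicFr.refine
    rw [S.gmU_resu]

/-- sums of liftings -/
lemma Lifted.add {q' : ∀ V : C, Q.obj.obj (op V)} {η' : ∀ i j, Additive (Γ(X, U i ⊓ U j))ˣ}
    (h : Lifted S φ π q U η) (h' : Lifted S φ π q' U η') :
    Lifted S φ π (fun V => q V + q' V) U (fun i j => η i j + η' i j) := by
  obtain ⟨t, ht1, ht2⟩ := h
  obtain ⟨t', ht1', ht2'⟩ := h'
  refine ⟨fun i => t i + t' i, fun i => ?_, fun i j => ?_⟩
  · rw [map_add, ht1, ht1']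
  · have e1 : res J I (S.ρ (inf_le_left : U i ⊓ U j ≤ U i)) (t i + t' i) =
        res J I (S.ρ (inf_le_left : U i ⊓ U j ≤ U i)) (t i) +
        res J I (S.ρ (inf_le_left : U i ⊓ U j ≤ U i)) (t' i) := map_add _ _ _
    have e2 : res J I (S.ρ (inf_le_right : U i ⊓ U j ≤ U j)) (t j + t' j) =
        res J I (S.ρ (inf_le_right : U i ⊓ U j ≤ U j)) (t j) +
        res J I (S.ρ (inf_le_right : U i ⊓ U j ≤ U j)) (t' j) := map_add _ _ _
    rw [e1, e2, ht2, ht2', map_add, map_add]
    abel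

end lemmas


section exact
variable {S φ π}
variable (hw : φ ≫ π = 0) (hS : (ShortComplex.mk φ π hw).ShortExact)

include hS in
/-- sections of `I` with the same image in `Q` over an open differ by a unit -/
lemma exists_unit_of_π_eq (W : X.Opens) (a b : I.obj.obj (op (S.opObj W)))
    (hab : (π.hom.app (op (S.opObj W))).hom a = (π.hom.app (op (S.opObj W))).hom b) :
    ∃ β : Additive (Γ(X, W))ˣ,
      a = (φ.hom.app (op (S.opObj W))).hom (S.gmU (S.opObj W) W (S.lands_opObj W) β) + b := by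
  have h0 : (π.hom.app (op (S.opObj W))).hom (a - b) = 0 := by rw [map_sub, hab, sub_self]
  obtain ⟨g, hg⟩ := exact_sections hS (S.opObj W) (a - b) h0
  obtain ⟨β, hβ⟩ := (S.gmU_bij W).2 g
  refine ⟨β, ?_⟩
  have hg' : (φ.hom.app (op (S.opObj W))).hom g = a - b := hg
  rw [hβ, hg', sub_add_cancel]

include hS in
lemma φ_gmU_injective (W : X.Opens) {a b : Additive (Γ(X, W))ˣ}
    (h : (φ.hom.app (op (S.opObj W))).hom (S.gmU (S.opObj W) W (S.lands_opObj W) a) =
      (φ.hom.app (op (S.opObj W))).hom (S.gmU (S.opObj W) W (S.lands_opObj W) b)) : a = b := by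
  haveI : Mono φ := hS.mono_f
  exact (S.gmU_bij W).1 (injective_app_of_mono φ (S.opObj W) h)

variable {q : ∀ V : C, Q.obj.obj (op V)}

include hS in
/-- every global section of `Q` lifts Zariski-locally, with differences given by units -/
theorem exists_lifted (hq : ∀ ⦃V W : C⦄ (f : W ⟶ V), res J Q f (q V) = q W) :
    ∃ (U : X → X.Opens) (η : ∀ x y, Additive (Γ(X, U x ⊓ U y))ˣ),
      (∀ x, x ∈ U x) ∧ Lifted S φ π q U η := by
  have h90 := S.hilbert90 (liftTorsor φ π q hq hw hS)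
  choose U hxU hp using h90
  have p : ∀ x, {t : I.obj.obj (op (S.opObj (U x))) //
      (π.hom.app (op (S.opObj (U x)))).hom t = q (S.opObj (U x))} := fun x => (hp x).some
  have hη : ∀ x y, ∃ η : Additive (Γ(X, U x ⊓ U y))ˣ,
      res J I (S.ρ (inf_le_left : U x ⊓ U y ≤ U x)) (p x).1 =
      (φ.hom.app (op (S.opObj (U x ⊓ U y)))).hom
        (S.gmU (S.opObj (U x ⊓ U y)) (U x ⊓ U y) (S.lands_opObj _) η) +
      res J I (S.ρ (inf_le_right : U x ⊓ U y ≤ U y)) (p y).1 := by
    intro x y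
    apply exists_unit_of_π_eq hw hS
    rw [← res_map, ← res_map, (p x).2, (p y).2, hq, hq]
  choose η hη using hη
  exact ⟨U, η, hxU, fun x => (p x).1, fun x => (p x).2, hη⟩

variable {ι : Type u} {U : ι → X.Opens} {η : ∀ i j, Additive (Γ(X, U i ⊓ U j))ˣ}

include hS in
/-- the transition units of a lifting form a cocycle -/
theorem Lifted.isCocycle (h : Lifted S φ π q U η) : IsCocycle U η := by
  obtain ⟨t, -, ht⟩ := h
  intro i j k
  apply φ_gmU_injective hw hS (U i ⊓ U j ⊓ U k)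
  have hi : S.Lands (S.opObj (U i ⊓ U j ⊓ U k)) (U i) :=
    S.mono (S.lands_opObj _) (inf_le_left.trans inf_le_left)
  have hj : S.Lands (S.opObj (U i ⊓ U j ⊓ U k)) (U j) :=
    S.mono (S.lands_opObj _) (inf_le_left.trans inf_le_right)
  have hk : S.Lands (S.opObj (U i ⊓ U j ⊓ U k)) (U k) := S.mono (S.lands_opObj _) inf_le_right
  have h1 := transition_of_lands t ht i j hi hj
  have h2 := transition_of_lands t ht j k hj hk
  have h3 := transition_of_lands t ht i k hi hk
  simp only [map_add]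
  rw [S.gmU_resu, S.gmU_resu, S.gmU_resu]
  rw [h2, ← add_assoc] at h1
  rw [h1] at h3
  exact (add_right_cancel h3).symm

include hS in
/-- two liftings of the same section have cohomologous transition units -/
theorem Lifted.exists_units {η' : ∀ i j, Additive (Γ(X, U i ⊓ U j))ˣ}
    (h : Lifted S φ π q U η) (h' : Lifted S φ π q U η') :
    ∃ β : ∀ i, Additive (Γ(X, U i))ˣ,
      ∀ i j, η i j + resu inf_le_right (β j) = resu inf_le_left (β i) + η' i j := by
  obtain ⟨t, ht1, ht2⟩ := h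
  obtain ⟨t', ht1', ht2'⟩ := h'
  have hβ : ∀ i, ∃ β : Additive (Γ(X, U i))ˣ,
      t i = (φ.hom.app (op (S.opObj (U i)))).hom
        (S.gmU (S.opObj (U i)) (U i) (S.lands_opObj _) β) + t' i :=
    fun i => exists_unit_of_π_eq hw hS (U i) _ _ ((ht1 i).trans (ht1' i).symm)
  choose β hβ using hβ
  refine ⟨β, fun i j => ?_⟩
  apply φ_gmU_injective hw hS (U i ⊓ U j)
  have e1 := congrArg (res J I (S.ρ (inf_le_left : U i ⊓ U j ≤ U i))) (hβ i)
  have e2 := congrArg (res J I (S.ρ (inf_le_right : U i ⊓ U j ≤ U j))) (hβ j)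
  rw [map_add, res_φ_gmU] at e1 e2
  simp only [map_add]
  rw [S.gmU_resu, S.gmU_resu]
  have e3 := ht2 i j
  rw [e1, e2, ht2' i j] at e3
  -- e3 : φβ_i + (φη' + t'_j) = φη + (φβ_j + t'_j)
  have e4 : ∀ (a b c d e : I.obj.obj (op (S.opObj (U i ⊓ U j)))),
      a + (b + e) = c + (d + e) → c + d = a + b := by
    intro a b c d e h
    have : (a + b) + e = (c + d) + e := by rw [add_assoc, add_assoc]; exact h
    exact (add_right_cancel this).symm
  exact e4 _ _ _ _ _ e3

end exact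


section cech
variable {S φ π}
variable (hw : φ ≫ π = 0)
variable {ι : Type u} (U : ι → X.Opens) (hcov : ∀ x : X, ∃ i, x ∈ U i)
  (η : ∀ i j, Additive (Γ(X, U i ⊓ U j))ˣ) (hη : IsCocycle U η)

/-- the Čech data with values in `I` of a cocycle of units -/
noncomputable def cechI : CechData I where
  ι := ULift.{max u w} ι
  W i Z := S.Lands Z (U i.down)
  W_of_hom k h := S.of_hom k h
  cover V := ⟨S.landSieve U V, S.landSieve_mem U hcov V, fun Z f ⟨i, hi⟩ => ⟨⟨i⟩, hi⟩⟩
  g i j Z hi hj := (φ.hom.app (op Z)).hom (S.gmU Z (U i.down ⊓ U j.down) (S.inf hi hj) (η i.down j.down))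
  g_res i j Z Z' k hi hj := res_φ_gmU k _ _ _
  g_coc i j l Z hi hj hl := by
    have hT : S.Lands Z (U i.down ⊓ U j.down ⊓ U l.down) := S.inf (S.inf hi hj) hl
    rw [← map_add]
    congr 1
    rw [← S.gmU_resu Z (inf_le_left : U i.down ⊓ U j.down ⊓ U l.down ≤ U i.down ⊓ U j.down) hT,
      ← S.gmU_resu Z (inf_le_inf_right (U l.down) inf_le_right :
        U i.down ⊓ U j.down ⊓ U l.down ≤ U j.down ⊓ U l.down) hT,
      ← S.gmU_resu Z (inf_le_inf_right (U l.down) inf_le_left :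
        U i.down ⊓ U j.down ⊓ U l.down ≤ U i.down ⊓ U l.down) hT, ← map_add, hη]

include hw hcov hη in
/-- if all `I`-torsors are trivial, a cocycle of units is the family of differences of local lifts
of a global section of `Q` -/
theorem exists_lifted_of_cocycle (hI : ∀ T : GTorsor I, T.HasSection) :
    ∃ q : ∀ V : C, Q.obj.obj (op V), (∀ ⦃V W : C⦄ (f : W ⟶ V), res J Q f (q V) = q W) ∧
      Lifted S φ π q U η := by
  obtain ⟨b, hb1, hb2⟩ := (cechI U hcov η hη).exists_coboundary (hI _)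
  let t : ∀ i, I.obj.obj (op (S.opObj (U i))) := fun i => b ⟨i⟩ (S.opObj (U i)) (S.lands_opObj _)
  have ht : ∀ i j, res J I (S.ρ (inf_le_left : U i ⊓ U j ≤ U i)) (t i) =
      (φ.hom.app (op (S.opObj (U i ⊓ U j)))).hom
        (S.gmU (S.opObj (U i ⊓ U j)) (U i ⊓ U j) (S.lands_opObj _) (η i j)) +
      res J I (S.ρ (inf_le_right : U i ⊓ U j ≤ U j)) (t j) := by
    intro i j
    have hi : S.Lands (S.opObj (U i ⊓ U j)) (U i) := S.mono (S.lands_opObj _) inf_le_left
    have hj : S.Lands (S.opObj (U i ⊓ U j)) (U j) := S.mono (S.lands_opObj _) inf_le_right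
    have e1 := hb1 ⟨i⟩ (S.ρ (inf_le_left : U i ⊓ U j ≤ U i)) (S.lands_opObj (U i))
    have e2 := hb1 ⟨j⟩ (S.ρ (inf_le_right : U i ⊓ U j ≤ U j)) (S.lands_opObj (U j))
    have e3 := hb2 ⟨i⟩ ⟨j⟩ (S.opObj (U i ⊓ U j)) hi hj
    change res J I _ (b ⟨i⟩ _ _) = _ + res J I _ (b ⟨j⟩ _ _)
    rw [e1, e2, e3]
    rfl
  have hπφ : ∀ (Z : C) (g : G.obj.obj (op Z)),
      (π.hom.app (op Z)).hom ((φ.hom.app (op Z)).hom g) = 0 :=
    fun Z g => zero_sections (ShortComplex.mk φ π hw) Z g
  obtain ⟨q, hq, hq'⟩ := S.exists_global_of_compatible Q U hcov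
    (fun i => (π.hom.app (op (S.opObj (U i)))).hom (t i)) (fun i j => by
      rw [res_map, res_map, ht i j, map_add, hπφ, zero_add])
  refine ⟨q, hq, t, fun i => ?_, ht⟩
  rw [hq' i (S.opObj (U i)) (S.lands_opObj _), S.res_congr Q _ (𝟙 _), res_id]

end cech


section global
variable {S φ π}
variable (hw : φ ≫ π = 0)
variable {q : ∀ V : C, Q.obj.obj (op V)} {ι : Type u} {U : ι → X.Opens}
  {η : ∀ i j, Additive (Γ(X, U i ⊓ U j))ˣ}

include hw in
/-- a lifting whose transition units form a coboundary comes from a global section of `I` -/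
theorem Lifted.exists_global (hq : ∀ ⦃V W : C⦄ (f : W ⟶ V), res J Q f (q V) = q W)
    (hcov : ∀ x : X, ∃ i, x ∈ U i) (h : Lifted S φ π q U η)
    (u : ∀ i, Additive (Γ(X, U i))ˣ)
    (hu : ∀ i j, resu inf_le_left (u i) = η i j + resu inf_le_right (u j)) :
    ∃ g : ∀ V : C, I.obj.obj (op V), (∀ ⦃V W : C⦄ (f : W ⟶ V), res J I f (g V) = g W) ∧
      ∀ V, (π.hom.app (op V)).hom (g V) = q V := by
  obtain ⟨t, ht1, ht2⟩ := h
  have hπφ : ∀ (Z : C) (g : G.obj.obj (op Z)),
      (π.hom.app (op Z)).hom ((φ.hom.app (op Z)).hom g) = 0 :=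
    fun Z g => zero_sections (ShortComplex.mk φ π hw) Z g
  obtain ⟨g, hg, hg'⟩ := S.exists_global_of_compatible I U hcov
    (fun i => t i - (φ.hom.app (op (S.opObj (U i)))).hom
      (S.gmU (S.opObj (U i)) (U i) (S.lands_opObj _) (u i))) (fun i j => by
      rw [map_sub, map_sub, ht2 i j, res_φ_gmU, res_φ_gmU]
      have e := congrArg (fun a => (φ.hom.app (op (S.opObj (U i ⊓ U j)))).hom
        (S.gmU (S.opObj (U i ⊓ U j)) (U i ⊓ U j) (S.lands_opObj _) a)) (hu i j)
      simp only [map_add] at e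
      rw [S.gmU_resu, S.gmU_resu] at e
      rw [e]
      abel)
  refine ⟨g, hg, fun V => ?_⟩
  apply ext_of_cover Q (S.landSieve U V) (S.landSieve_mem U hcov V)
  rintro Z f ⟨i, hi⟩
  rw [res_map, hg f, hg' i Z hi, hq f, ← res_map, map_sub, hπφ, sub_zero, ht1, hq]

/-- the image of a global section of `I` lifts on the trivial cover with trivial units -/
theorem lifted_of_global (g : ∀ V : C, I.obj.obj (op V))
    (hg : ∀ ⦃V W : C⦄ (f : W ⟶ V), res J I f (g V) = g W) :
    Lifted S φ π (fun V => (π.hom.app (op V)).hom (g V)) (fun _ : PUnit.{u+1} => (⊤ : X.Opens))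
      (fun _ _ => 0) := by
  refine ⟨fun _ => g (S.opObj ⊤), fun _ => rfl, fun _ _ => ?_⟩
  rw [map_zero, map_zero, zero_add, hg]

end global

end Groth.Agent.Lib.Helper21.PicU
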