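import Mathlib
import Groth.Agent.Lib.Helper21PicU2
import Groth.Agent.Lib.Helper21TorsF
import Groth.Prelude.Def_PicGrp

/-!
# `Pic(X) ≅ H¹(G_m)` as groups, for a site over the Zariski site of `X` (helper21)
-/

set_option autoImplicit false
universe w' w u
open CategoryTheory CategoryTheory.Limits AlgebraicGeometry Opposite

namespace Groth.Agent.Lib.Helper21.PicU
open Groth.Agent.Lib.Helper21.TorsA Groth.Agent.Lib.Helper21.TorsB Groth.Agent.Lib.Helper21.TorsG
open Groth.Agent.Lib.Helper21.EtOpen Groth.Agent.Lib.Helper21.PicFr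
open Groth.Agent.Lib.Helper21.LiftTors

variable {X : Scheme.{u}} {C : Type (max u w)} [Category.{u} C] {J : GrothendieckTopology C}
  [HasSheafify J AddCommGrpCat.{max u w}]
  {G : Sheaf J AddCommGrpCat.{max u w}} (S : USite.{w} X J G)
  {I Q : Sheaf J AddCommGrpCat.{max u w}} (φ : G ⟶ I) (π : I ⟶ Q)

/-- the compatible family of sections of a map out of the constant sheaf `ℤ` -/
noncomputable def fam {E : Sheaf J AddCommGrpCat.{max u w}} (k : ZC J ⟶ E) (V : C) :
    E.obj.obj (op V) :=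
  (k.hom.app (op V)).hom (one J V)

lemma fam_res {E : Sheaf J AddCommGrpCat.{max u w}} (k : ZC J ⟶ E) ⦃V W : C⦄ (f : W ⟶ V) :
    res J E f (fam k V) = fam k W := by
  unfold fam
  rw [res_map, res_one]

lemma fam_add {E : Sheaf J AddCommGrpCat.{max u w}} (k k' : ZC J ⟶ E) (V : C) :
    fam (k + k') V = fam k V + fam k' V := rfl

lemma fam_comp {E E' : Sheaf J AddCommGrpCat.{max u w}} (k : ZC J ⟶ E) (a : E ⟶ E') (V : C) :
    fam (k ≫ a) V = (a.hom.app (op V)).hom (fam k V) := rfl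

/-- the relation between global sections of `Q` and invertible modules -/
def Rel (k : ZC J ⟶ Q) (L : X.Modules) : Prop :=
  ∃ (ι : Type u) (U : ι → X.Opens) (η : ∀ i j, Additive (Γ(X, U i ⊓ U j))ˣ),
    (∀ x : X, ∃ i, x ∈ U i) ∧ Lifted S φ π (fam k) U η ∧ Framed U L η

section rel
variable {S φ π}
variable (hw : φ ≫ π = 0) (hS : (ShortComplex.mk φ π hw).ShortExact)

include hS in
theorem exists_rel (k : ZC J ⟶ Q) : ∃ L : X.Modules, PicF.IsInvertible L ∧ Rel S φ π k L := by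
  obtain ⟨U, η, hxU, hL⟩ := exists_lifted (S := S) hw hS (fam_res k)
  have hcov : ∀ x : X, ∃ i, x ∈ U i := fun x => ⟨x, hxU x⟩
  obtain ⟨L, hLinv, hLf⟩ := exists_framed_of_cocycle hcov η (hL.isCocycle hw hS)
  exact ⟨L, hLinv, X, U, η, hcov, hL, hLf⟩

include hw in
theorem exists_rel_of_invertible (hI : ∀ T : GTorsor I, T.HasSection) (L : X.Modules)
    (hL : PicF.IsInvertible L) : ∃ k : ZC J ⟶ Q, Rel S φ π k L := by
  obtain ⟨U, η, hxU, hLf⟩ := exists_framed_of_invertible L hL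
  have hcov : ∀ x : X, ∃ i, x ∈ U i := fun x => ⟨x, hxU x⟩
  obtain ⟨q, hq, hql⟩ := exists_lifted_of_cocycle (S := S) (φ := φ) (π := π) hw U hcov η
    hLf.isCocycle hI
  obtain ⟨k, hk⟩ := exists_hom_of_family Q q hq
  have hk' : fam k = q := funext hk
  exact ⟨k, X, U, η, hcov, hk' ▸ hql, hLf⟩

lemma Rel.of_iso {k : ZC J ⟶ Q} {L L' : X.Modules} (h : Rel S φ π k L) (Φ : L ≅ L') :
    Rel S φ π k L' := by
  obtain ⟨ι, U, η, hcov, hl, hf⟩ := h
  exact ⟨ι, U, η, hcov, hl, hf.of_iso Φ⟩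

/-- two relations can be put on a common cover -/
lemma Rel.common {k k' : ZC J ⟶ Q} {L L' : X.Modules} (h : Rel S φ π k L)
    (h' : Rel S φ π k' L') :
    ∃ (ι : Type u) (U : ι → X.Opens) (η η' : ∀ i j, Additive (Γ(X, U i ⊓ U j))ˣ),
      (∀ x : X, ∃ i, x ∈ U i) ∧ Lifted S φ π (fam k) U η ∧ Framed U L η ∧
      Lifted S φ π (fam k') U η' ∧ Framed U L' η' := by
  obtain ⟨ι, U, η, hcov, hl, hf⟩ := h
  obtain ⟨ι', U', η', hcov', hl', hf'⟩ := h'
  refine ⟨ι × ι', fun p => U p.1 ⊓ U' p.2,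
    PicFr.refine (fun p : ι × ι' => p.1) (fun p => inf_le_left) η,
    PicFr.refine (fun p : ι × ι' => p.2) (fun p => inf_le_right) η', ?_,
    hl.refine (fam_res k) _ _, hf.refine _ _, hl'.refine (fam_res k') _ _, hf'.refine _ _⟩
  intro x
  obtain ⟨i, hi⟩ := hcov x
  obtain ⟨i', hi'⟩ := hcov' x
  exact ⟨(i, i'), hi, hi'⟩

include hS in
theorem Rel.iso {k : ZC J ⟶ Q} {L L' : X.Modules} (h : Rel S φ π k L) (h' : Rel S φ π k L') :
    Nonempty (L ≅ L') := by
  obtain ⟨ι, U, η, η', hcov, hl, hf, hl', hf'⟩ := h.common h'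
  obtain ⟨β, hβ⟩ := hl.exists_units hw hS hl'
  exact nonempty_iso_of_framed hcov hf hf' β hβ

theorem Rel.add {k k' : ZC J ⟶ Q} {L L' : X.Modules} (h : Rel S φ π k L)
    (h' : Rel S φ π k' L') : Rel S φ π (k + k') (CohB1.tensorMod L L') := by
  obtain ⟨ι, U, η, η', hcov, hl, hf, hl', hf'⟩ := h.common h'
  exact ⟨ι, U, _, hcov, hl.add hl', hf.tensor hf'⟩

include hw in
theorem Rel.exists_lift_of_unit {k : ZC J ⟶ Q} (h : Rel S φ π k (Coh.structureModule X)) :
    ∃ t : ZC J ⟶ I, t ≫ π = k := by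
  obtain ⟨ι, U, η, hcov, hl, hf⟩ := h
  obtain ⟨u, hu⟩ := exists_units_of_framed_unit hf
  obtain ⟨g, hg, hg'⟩ := hl.exists_global hw (fam_res k) hcov u hu
  obtain ⟨t, ht⟩ := exists_hom_of_family I g hg
  refine ⟨t, hom_ext_one _ _ (fun V => ?_)⟩
  change (π.hom.app (op V)).hom ((t.hom.app (op V)).hom (one J V)) = fam k V
  rw [ht, hg']

theorem rel_unit_of_lift (t : ZC J ⟶ I) : Rel S φ π (t ≫ π) (Coh.structureModule X) :=
  ⟨PUnit.{u+1}, fun _ => ⊤, fun _ _ => 0, fun _ => ⟨PUnit.unit, trivial⟩,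
    lifted_of_global (fam t) (fam_res t), framed_unit_top⟩

end rel


section main
variable {S φ π}
variable [HasExt.{w'} (Sheaf J AddCommGrpCat.{max u w})]
variable (hw : φ ≫ π = 0) (hS : (ShortComplex.mk φ π hw).ShortExact)

/-- the connecting map `Hom(ℤ, Q) → H¹(G)` -/
noncomputable def delta : (ZC J ⟶ Q) →+ Sheaf.H.{w'} G 1 :=
  AddMonoidHom.mk' (fun k => (Abelian.Ext.mk₀ k).comp hS.extClass (zero_add 1))
    (fun k k' => by
      change (Abelian.Ext.mk₀ (k + k')).comp hS.extClass (zero_add 1) = _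
      rw [Abelian.Ext.mk₀_add, Abelian.Ext.add_comp])

lemma delta_apply (k : ZC J ⟶ Q) :
    delta hw hS k = (Abelian.Ext.mk₀ k).comp hS.extClass (zero_add 1) := rfl

lemma delta_surjective [Injective I] : Function.Surjective (delta.{w'} hw hS) := by
  intro c
  obtain ⟨x₃, hx₃⟩ := Abelian.Ext.covariant_sequence_exact₁ (ZC J) hS c
    (Abelian.Ext.eq_zero_of_injective _) (zero_add 1)
  obtain ⟨k, rfl⟩ := (Abelian.Ext.mk₀_bijective _ _).2 x₃
  exact ⟨k, hx₃⟩

lemma delta_eq_zero_iff (k : ZC J ⟶ Q) : delta.{w'} hw hS k = 0 ↔ ∃ t : ZC J ⟶ I, t ≫ π = k := by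
  constructor
  · intro h
    obtain ⟨x₂, hx₂⟩ := Abelian.Ext.covariant_sequence_exact₃ (ZC J) hS (Abelian.Ext.mk₀ k)
      (zero_add 1) h
    obtain ⟨t, rfl⟩ := (Abelian.Ext.mk₀_bijective _ _).2 x₂
    change (Abelian.Ext.mk₀ t).comp (Abelian.Ext.mk₀ π) (add_zero 0) = _ at hx₂
    rw [Abelian.Ext.mk₀_comp_mk₀] at hx₂
    exact ⟨t, (Abelian.Ext.mk₀_bijective _ _).1 hx₂⟩
  · rintro ⟨t, rfl⟩
    rw [delta_apply, ← Abelian.Ext.mk₀_comp_mk₀_assoc]
    have h0 : (Abelian.Ext.mk₀ π).comp hS.extClass (zero_add 1) = 0 := hS.comp_extClass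
    rw [h0, Abelian.Ext.comp_zero]

end main


section pic
variable {S φ π}
variable [HasExt.{w'} (Sheaf J AddCommGrpCat.{max u w})] [PicGrp.Law X]
variable (hw : φ ≫ π = 0) (hS : (ShortComplex.mk φ π hw).ShortExact)

/-- an invertible module attached to a global section of `Q` -/
noncomputable def modOf (S : USite.{w} X J G) (k : ZC J ⟶ Q) : X.Modules :=
  (exists_rel (S := S) hw hS k).choose

lemma modOf_inv (k : ZC J ⟶ Q) : PicF.IsInvertible (modOf hw hS S k) :=
  (exists_rel (S := S) hw hS k).choose_spec.1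

lemma modOf_rel (k : ZC J ⟶ Q) : Rel S φ π k (modOf hw hS S k) :=
  (exists_rel (S := S) hw hS k).choose_spec.2

/-- the map `Hom(ℤ, Q) → Pic(X)` -/
noncomputable def lam (S : USite.{w} X J G) : (ZC J ⟶ Q) →+ Additive (PicLoc.PicSet X) :=
  AddMonoidHom.mk'
    (fun k => Additive.ofMul (PicGrp.cls (modOf hw hS S k) (modOf_inv hw hS k)))
    (fun k k' => by
      apply Additive.toMul.injective
      change PicGrp.cls (modOf hw hS S (k + k')) (modOf_inv hw hS _) =
        PicGrp.cls (modOf hw hS S k) (modOf_inv hw hS _) *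
          PicGrp.cls (modOf hw hS S k') (modOf_inv hw hS _)
      apply Subtype.ext
      rw [PicGrp.cls_mul_cls_val, PicGrp.cls_val, PicGrp.cl_eq_cl_iff]
      exact (modOf_rel hw hS (k + k')).iso hw hS ((modOf_rel hw hS k).add (modOf_rel hw hS k')))

lemma lam_apply (k : ZC J ⟶ Q) :
    lam hw hS S k = Additive.ofMul (PicGrp.cls (modOf hw hS S k) (modOf_inv hw hS k)) := rfl

lemma lam_eq_zero_iff (k : ZC J ⟶ Q) : lam hw hS S k = 0 ↔ ∃ t : ZC J ⟶ I, t ≫ π = k := by
  have h1 : lam hw hS S k = 0 ↔ PicGrp.cls (modOf hw hS S k) (modOf_inv hw hS k) = 1 := by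
    rw [lam_apply]
    exact ⟨fun h => Additive.ofMul.injective h, fun h => congrArg Additive.ofMul h⟩
  rw [h1, PicGrp.cls_eq_one_iff]
  constructor
  · rintro ⟨Φ⟩
    exact ((modOf_rel hw hS k).of_iso Φ).exists_lift_of_unit hw
  · rintro ⟨t, rfl⟩
    exact (modOf_rel hw hS (t ≫ π)).iso hw hS (rel_unit_of_lift t)

lemma lam_surjective (hI : ∀ T : GTorsor I, T.HasSection) :
    Function.Surjective (lam hw hS S) := by
  intro c
  obtain ⟨L, hL, hc⟩ := PicGrp.exists_eq_cls (Additive.toMul c)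
  obtain ⟨k, hk⟩ := exists_rel_of_invertible (S := S) hw hI L hL
  refine ⟨k, ?_⟩
  apply Additive.toMul.injective
  change PicGrp.cls (modOf hw hS S k) (modOf_inv hw hS _) = Additive.toMul c
  rw [hc, PicGrp.cls_eq_cls_iff]
  exact (modOf_rel hw hS k).iso hw hS hk

include hS in
/-- `Pic(X) ≅ H¹(G)` as groups, given an embedding of `G` in an injective sheaf -/
theorem nonempty_addEquiv_of_injective (S : USite.{w} X J G) [Injective I] :
    Nonempty (Additive (PicLoc.PicSet X) ≃+ Sheaf.H.{w'} G 1) := by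
  have hI : ∀ T : GTorsor I, T.HasSection := by
    have : Subsingleton (Sheaf.H.{w'} I 1) :=
      subsingleton_of_forall_eq 0 (fun x => Abelian.Ext.eq_zero_of_injective x)
    exact (Groth.Agent.Lib.Helper21.TorsF.subsingleton_H1_iff.{u, max u w, w'} I).1 this
  have e1 := QuotientAddGroup.quotientKerEquivOfSurjective (lam hw hS S) (lam_surjective hw hS hI)
  have e2 := QuotientAddGroup.quotientKerEquivOfSurjective (delta.{w'} hw hS)
    (delta_surjective hw hS)
  have hker : (lam hw hS S).ker = (delta.{w'} hw hS).ker := by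
    ext k
    rw [AddMonoidHom.mem_ker, AddMonoidHom.mem_ker, lam_eq_zero_iff, delta_eq_zero_iff]
  exact ⟨e1.symm.trans ((QuotientAddGroup.quotientAddEquivOfEq hker).trans e2)⟩

end pic

section final
variable [HasExt.{w'} (Sheaf J AddCommGrpCat.{max u w})] [PicGrp.Law X]
  [EnoughInjectives (Sheaf J AddCommGrpCat.{max u w})]

/-- `Pic(X) ≅ H¹(G)` as groups for a site over the Zariski site of `X` with sheaf of units `G` -/
theorem nonempty_addEquiv (S : USite.{w} X J G) :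
    Nonempty (Additive (PicLoc.PicSet X) ≃+ Sheaf.H.{w'} G 1) := by
  have hS : (ShortComplex.mk (Injective.ι G) (cokernel.π (Injective.ι G))
      (cokernel.condition _)).ShortExact :=
    { exact := ShortComplex.exact_cokernel _
      mono_f := inferInstanceAs (Mono (Injective.ι G))
      epi_g := inferInstanceAs (Epi (cokernel.π (Injective.ι G))) }
  exact nonempty_addEquiv_of_injective (cokernel.condition _) hS S

end final

end Groth.Agent.Lib.Helper21.PicU
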