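import Mathlib
import Groth.Agent.Lib.Helper21PicU3
import Groth.Agent.Lib.Helper21H90Main

/-!
# The small étale site as a site over the Zariski site, and `Pic(X) ≅ H¹(X_et, G_m)` (helper21)
-/

set_option autoImplicit false
universe u
open CategoryTheory CategoryTheory.Limits AlgebraicGeometry Opposite

namespace Groth.Agent.Lib.Helper21.PicEt
open Groth.Agent.Lib.Helper21.TorsA Groth.Agent.Lib.Helper21.TorsB
open Groth.Agent.Lib.Helper21.EtOpen Groth.Agent.Lib.Helper21.PicU

/-- the small étale site with `G_m` -/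
noncomputable def etSite (X : Scheme.{u}) : USite.{u+1} X X.smallEtaleTopology (EtCoh.Gm X) where
  Lands := Lands
  of_hom k _ h := h.of_hom k
  mono h hU := h.mono hU
  inf h h' := h.inf h'
  cover W hcov V R hR := cover_of_opens W hcov V R hR
  opObj := opObj
  lands_opObj := lands_opObj
  liftO h := liftO h
  hom_ext a b := hom_opObj_ext a b
  gmU := gmU
  res_gmU k U h a := res_gmU k U h a
  gmU_resu Z _ _ hU h a := gmU_resu Z hU h a
  gmU_bij := gmU_opObj_bijective
  hilbert90 T x := Groth.Agent.Lib.Helper21.H90Main.exists_zariski_local_section T x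

theorem nonempty_pic_addEquiv_H1 (X : Scheme.{u}) [PicGrp.Law X] :
    Nonempty (Additive (PicLoc.PicSet X) ≃+ EtCoh.H X (EtCoh.Gm X) 1) :=
  nonempty_addEquiv.{u+1, u+1, u} (etSite X)

end Groth.Agent.Lib.Helper21.PicEt
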