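import Mathlib
import Groth.Agent.Lib.Helper21PicU3
import Groth.Prelude.Def_UnitsSh

/-!
# The Zariski site with the sheaf of units, and `Pic(X) ≅ H¹(X, O_X^×)` (helper21)
-/

set_option autoImplicit false
universe u
open CategoryTheory CategoryTheory.Limits AlgebraicGeometry Opposite TopologicalSpace

namespace Groth.Agent.Lib.Helper21.PicZar
open Groth.Agent.Lib.Helper21.TorsA Groth.Agent.Lib.Helper21.TorsB
open Groth.Agent.Lib.Helper21.EtOpen Groth.Agent.Lib.Helper21.PicU Groth.Agent.Lib.Helper21.PicFr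

variable (X : Scheme.{u})

/-- units over `U` as sections of the sheaf of units over a smaller open -/
noncomputable def gmZ (Z U : X.Opens) (h : Z ≤ U) :
    Additive (Γ(X, U))ˣ →+ (UnitsSh.unitsAb X).obj.obj (op Z) :=
  resu h

/-- the Zariski site with `O_X^×` -/
noncomputable def zarSite : USite.{u} X (Opens.grothendieckTopology X.toTopCat)
    (UnitsSh.unitsAb X) where
  Lands Z U := Z ≤ U
  of_hom k _ h := (leOfHom k).trans h
  mono h hU := h.trans hU
  inf h h' := le_inf h h'
  cover W hcov V R hR := by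
    intro x hx
    obtain ⟨i, hi⟩ := hcov x
    exact ⟨V ⊓ W i, homOfLE inf_le_left, hR _ ⟨i, inf_le_right⟩, hx, hi⟩
  opObj U := U
  lands_opObj U := le_rfl
  liftO h := homOfLE h
  hom_ext a b := Subsingleton.elim a b
  gmU Z U h := gmZ X Z U h
  res_gmU k U h a := by
    apply uv_injective
    exact Groth.Agent.Lib.Helper6.resf_resf h (leOfHom k) _
  gmU_resu Z _ _ hU h a := resu_resu h hU a
  gmU_bij U := by
    have : ∀ a : Additive (Γ(X, U))ˣ, gmZ X U U le_rfl a = a := by
      intro a
      apply uv_injective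
      change X.presheaf.map (𝟙 _) _ = _
      rw [X.presheaf.map_id]
      rfl
    exact ⟨fun a b h => by rw [← this a, ← this b]; exact h, fun b => ⟨b, this b⟩⟩
  hilbert90 T x := by
    obtain ⟨R, hR, hne⟩ := T.locally_nonempty (⊤ : X.Opens)
    obtain ⟨V, f, hf, hxV⟩ := hR x trivial
    exact ⟨V, hxV, hne f hf⟩

theorem nonempty_pic_addEquiv_H1 [PicGrp.Law X] :
    Nonempty (Additive (PicLoc.PicSet X) ≃+ CohTop.H (UnitsSh.unitsAb X) 1) :=
  nonempty_addEquiv.{u, u, u} (zarSite X)

end Groth.Agent.Lib.Helper21.PicZar
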