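import Mathlib.Algebra.Group.Basic
import Mathlib.Algebra.Module.Basic
import Mathlib.Tactic.Module
import Mathlib.Tactic.Abel
import Mathlib.Tactic.Ring
import Mathlib.Tactic.LinearCombination
import Mathlib.Tactic.Linarith
import Mathlib.Algebra.Group.Int.Even
import Mathlib.Algebra.Ring.Parity

set_option autoImplicit false
universe u v

namespace Groth.Agent.Lib.Helper21

section
variable {A : Type u} {G : Type v} [AddCommGroup A] [AddCommGroup G] (f : A → G)

/-- pointed of degree two -/
def Deg2 : Prop :=
  ∀ x y z : A, f (x + y + z) + f x + f y + f z = f (x + y) + f (x + z) + f (y + z)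

variable {f}

theorem Deg2.map_zero (hf : Deg2 f) : f 0 = 0 := by
  have := hf 0 0 0
  simp only [add_zero] at this
  have h2 : f 0 + f 0 + f 0 + f 0 = (f 0 + f 0 + f 0) + f 0 := by abel
  rw [h2] at this
  exact add_eq_left.mp this

/-- the associated symmetric pairing -/
def Bil (f : A → G) (x y : A) : G := f (x + y) - f x - f y

theorem Deg2.bil_add_left (hf : Deg2 f) (x y z : A) : Bil f (x + y) z = Bil f x z + Bil f y z := by
  have := hf x y z
  unfold Bil
  have e : f (x + y + z) = f (x + y) + f (x + z) + f (y + z) - f x - f y - f z := by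
    rw [← this]; abel
  rw [e]; abel

theorem bil_comm (f : A → G) (x y : A) : Bil f x y = Bil f y x := by
  unfold Bil; rw [add_comm x y]; abel

theorem Deg2.bil_zero_left (hf : Deg2 f) (y : A) : Bil f 0 y = 0 := by
  unfold Bil; rw [zero_add, hf.map_zero]; abel

theorem Deg2.bil_zsmul_left (hf : Deg2 f) (n : ℤ) (x y : A) :
    Bil f (n • x) y = n • Bil f x y := by
  let φ : A →+ G := AddMonoidHom.mk' (fun x => Bil f x y) (fun a b => hf.bil_add_left a b y)
  exact map_zsmul φ n x

theorem Deg2.bil_zsmul_right (hf : Deg2 f) (n : ℤ) (x y : A) :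
    Bil f x (n • y) = n • Bil f x y := by
  rw [bil_comm, hf.bil_zsmul_left, bil_comm]

theorem Deg2.add_neg_eq_bil (hf : Deg2 f) (x : A) : f x + f (-x) = Bil f x x := by
  have h1 : Bil f x (-x) = - Bil f x x := by
    have := hf.bil_zsmul_right (-1) x x
    simpa using this
  have h2 : Bil f x (-x) = - (f x + f (-x)) := by
    unfold Bil; rw [add_neg_cancel, hf.map_zero]; abel
  rw [h2] at h1
  exact neg_injective h1

theorem Deg2.step (hf : Deg2 f) (n : ℤ) (x : A) :
    f ((n + 1) • x) + f ((n - 1) • x) = 2 • f (n • x) + f x + f (-x) := by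
  have := hf (n • x) x (-x)
  rw [add_neg_cancel, hf.map_zero, add_assoc (n • x) x (-x), add_neg_cancel, add_zero] at this
  have e1 : (n + 1) • x = n • x + x := by rw [add_smul, one_smul]
  have e2 : (n - 1) • x = n • x + -x := by rw [sub_smul, one_smul, sub_eq_add_neg]
  rw [e1, e2, two_smul]
  rw [add_zero] at this
  rw [← this]

theorem Deg2.zsmul_formula (hf : Deg2 f) (x : A) (n : ℤ) :
    (∀ a b : ℤ, 2 * a = n * (n + 1) → 2 * b = n * (n - 1) →
      f (n • x) = a • f x + b • f (-x)) ∧
    (∀ a b : ℤ, 2 * a = (n + 1) * (n + 2) → 2 * b = (n + 1) * n →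
      f ((n + 1) • x) = a • f x + b • f (-x)) := by
  induction n using Int.induction_on with
  | zero =>
    constructor
    · intro a b ha hb
      have ha0 : a = 0 := by linarith
      have hb0 : b = 0 := by linarith
      rw [ha0, hb0, zero_smul, zero_smul, zero_smul, hf.map_zero, add_zero]
    · intro a b ha hb
      have ha0 : a = 1 := by linarith
      have hb0 : b = 0 := by linarith
      rw [ha0, hb0, zero_add, one_smul, one_smul, zero_smul, add_zero]
  | succ n ih =>
    refine ⟨fun a b ha hb => ih.2 a b (by linear_combination ha) (by linear_combination hb), ?_⟩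
    intro a b ha hb
    have hn := ih.1 (b - ((n : ℤ) + 1)) (b - 2 * ((n : ℤ) + 1) + 1) (by linear_combination hb)
      (by linear_combination hb)
    have hn1 := ih.2 b (b - ((n : ℤ) + 1)) (by linear_combination hb) (by linear_combination hb)
    have hs := hf.step ((n : ℤ) + 1) x
    have e : ((n : ℤ) + 1 - 1) = (n : ℤ) := by ring
    rw [e] at hs
    have e2 : ((n : ℤ) + 1 + 1) • x = ((n : ℤ) + 1 + 1) • x := rfl
    have hs' : f (((n : ℤ) + 1 + 1) • x) =
        2 • f (((n : ℤ) + 1) • x) + f x + f (-x) - f ((n : ℤ) • x) := by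
      rw [← hs]; abel
    rw [hs', hn, hn1]
    have ha' : a = b + (n : ℤ) + 2 := by linarith
    rw [ha']
    module
  | pred n ih =>
    refine ⟨?_, ?_⟩
    · intro a b ha hb
      have hn := ih.1 (a + (n : ℤ) + 1 - (n : ℤ) - 1 + (-(n : ℤ))) a (by linear_combination ha)
        (by linear_combination ha)
      have hn1 := ih.2 (a + 2 * (-(n : ℤ)) + 1) (a + (-(n : ℤ))) (by linear_combination ha)
        (by linear_combination ha)
      have hs := hf.step (-(n : ℤ)) x
      have hs' : f ((-(n : ℤ) - 1) • x) =
          2 • f ((-(n : ℤ)) • x) + f x + f (-x) - f ((-(n : ℤ) + 1) • x) := by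
        rw [← hs]; abel
      rw [hs', hn, hn1]
      have hb' : b = a + (n : ℤ) + 1 := by linarith
      rw [hb']
      module
    · intro a b ha hb
      have e : (-(n : ℤ) - 1 + 1) = -(n : ℤ) := by ring
      rw [e]
      exact ih.1 a b (by linear_combination ha) (by linear_combination hb)

end

end Groth.Agent.Lib.Helper21
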