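import Mathlib
import Groth.Prelude.Def_CohSite
import Groth.Agent.Lib.Helper21FreeAb3
import Groth.Agent.Lib.Helper21AcyclicClass

/-!
# Helper21: inverse image of abelian sheaves along a morphism of sites; direct images of injective
modules are totally acyclic
-/

universe u
open CategoryTheory Limits

namespace Groth.Agent.Lib.Helper21.PullAb

open Groth.Agent.Lib.Helper21.FreeAb Groth.Agent.Lib.Helper21.TorsFree

variable {C D : Type u} [SmallCategory C] [SmallCategory D]
    [HasFiniteLimits D] (J : GrothendieckTopology C) (K : GrothendieckTopology D) (u : D ⥤ C)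
    [PreservesFiniteLimits u] [u.IsContinuous K J]

/-- inverse image of abelian sheaves. -/
noncomputable abbrev pull : Sheaf K AddCommGrpCat.{u} ⥤ Sheaf J AddCommGrpCat.{u} :=
  u.sheafPullback AddCommGrpCat.{u} K J

/-- `u⁻¹ ⊣ u_*`. -/
noncomputable def adjP : pull J K u ⊣ CohSite.push J K u :=
  u.sheafAdjunctionContinuous AddCommGrpCat.{u} K J

instance pull_additive : (pull J K u).Additive := (adjP J K u).left_adjoint_additive

set_option maxHeartbeats 1000000 in
instance pull_preservesFiniteLimits : PreservesFiniteLimits (pull J K u) := by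
  haveI : RepresentablyFlat u := flat_of_preservesFiniteLimits u
  apply Functor.sheafPullbackConstruction.preservesFiniteLimits

instance pull_preservesFiniteColimits : PreservesFiniteColimits (pull J K u) :=
  haveI : PreservesColimitsOfSize.{0, 0} (pull J K u) :=
    (adjP J K u).leftAdjoint_preservesColimits
  PreservesColimitsOfSize.preservesFiniteColimits.{0, 0} _

instance pull_preservesMonomorphisms : (pull J K u).PreservesMonomorphisms :=
  preservesMonomorphisms_of_preservesLimitsOfShape _

theorem TF_pull (A : Sheaf K AddCommGrpCat.{u}) (hA : TF A) : TF ((pull J K u).obj A) :=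
  TF_map (pull J K u) A hA

theorem shortExact_pull {S : ShortComplex (Sheaf K AddCommGrpCat.{u})} (hS : S.ShortExact) :
    (S.map (pull J K u)).ShortExact := hS.map_of_exact (pull J K u)

variable (R : Sheaf J RingCat.{u})

/-- `R ⊗_ℤ u⁻¹(-)`. -/
noncomputable abbrev L : Sheaf K AddCommGrpCat.{u} ⥤ SheafOfModules.{u} R :=
  pull J K u ⋙ freeShR R

/-- `u_* ∘ forget`. -/
noncomputable abbrev Φ : SheafOfModules.{u} R ⥤ Sheaf K AddCommGrpCat.{u} :=
  SheafOfModules.toSheaf R ⋙ CohSite.push J K u

/-- `R ⊗_ℤ u⁻¹(-) ⊣ u_* ∘ forget`. -/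
noncomputable def adjL : L J K u R ⊣ Φ J K u R :=
  (Adjunction.comp (adjP J K u) (freeShRAdj R) :
    pull J K u ⋙ freeShR R ⊣ SheafOfModules.toSheaf R ⋙ CohSite.push J K u)

theorem mono_L_map {S : ShortComplex (Sheaf K AddCommGrpCat.{u})} (hS : S.ShortExact)
    (hA : TF S.X₃) : Mono ((L J K u R).map S.f) := by
  have h := mono_freeShR_map R (S := S.map (pull J K u)) (shortExact_pull J K u hS)
    (TF_pull J K u S.X₃ hA)
  exact h

/-- extensions of torsion-free sheaves by `u_* I` split, `I` an injective module. -/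
theorem exists_retraction (I : SheafOfModules.{u} R) [Injective I]
    {E A : Sheaf K AddCommGrpCat.{u}} (i : (Φ J K u R).obj I ⟶ E) (g : E ⟶ A) (w : i ≫ g = 0)
    (hS : (ShortComplex.mk i g w).ShortExact) (hA : TF A) :
    ∃ r : E ⟶ (Φ J K u R).obj I, i ≫ r = 𝟙 _ := by
  haveI : Mono ((L J K u R).map i) := mono_L_map J K u R (S := ShortComplex.mk i g w) hS hA
  let ε : (L J K u R).obj ((Φ J K u R).obj I) ⟶ I := ((adjL J K u R).homEquiv _ _).symm (𝟙 _)
  let ext : (L J K u R).obj E ⟶ I := Injective.factorThru ε ((L J K u R).map i)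
  refine ⟨(adjL J K u R).homEquiv _ _ ext, ?_⟩
  rw [← (adjL J K u R).homEquiv_naturality_left, Injective.comp_factorThru]
  exact ((adjL J K u R).homEquiv _ _).apply_symm_apply _

theorem ext_eq_zero (I : SheafOfModules.{u} R) [Injective I] (p : ℕ)
    (A : Sheaf K AddCommGrpCat.{u}) (hA : TF A) (x : Abelian.Ext.{u} A ((Φ J K u R).obj I) (p + 1)) :
    x = 0 :=
  AcyclicClass.ext_eq_zero (𝒜 := Sheaf K AddCommGrpCat.{u}) TF ((Φ J K u R).obj I)
    (fun π _ hP _ => TF_kernel π hP)
    (fun A => by
      obtain ⟨K'', π, hπ⟩ := exists_epi_freeAb A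
      exact ⟨freeAb K'', π, hπ, TF_freeAb K''⟩)
    (fun {E A} i g w hS hA => exists_retraction J K u R I i g w hS hA) p A hA x

end Groth.Agent.Lib.Helper21.PullAb
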