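import Mathlib
import Groth.Prelude.Def_CohSite
import Groth.Prelude.Def_CohCx
import Groth.Agent.Lib.Helper21PullAb
import Groth.Agent.Lib.Helper21AcyclicAdj

/-!
# Helper21: `u⁻¹ ℤ[K] ≅ ℤ[u⁻¹ K]`; direct images of totally acyclic sheaves are totally acyclic
-/

universe u
open CategoryTheory Limits

namespace Groth.Agent.Lib.Helper21.PullFree

open Groth.Agent.Lib.Helper21.FreeAb Groth.Agent.Lib.Helper21.TorsFree
  Groth.Agent.Lib.Helper21.PullAb

variable {C D : Type u} [SmallCategory C] [SmallCategory D]
    (J : GrothendieckTopology C) (K : GrothendieckTopology D) (u : D ⥤ C)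
    [u.IsContinuous K J]

/-- inverse image of sheaves of sets. -/
noncomputable abbrev pullSet : Sheaf K (Type u) ⥤ Sheaf J (Type u) :=
  u.sheafPullback (Type u) K J

/-- direct image of sheaves of sets. -/
noncomputable abbrev pushSet : Sheaf J (Type u) ⥤ Sheaf K (Type u) :=
  u.sheafPushforwardContinuous (Type u) K J

/-- `u⁻¹ ⊣ u_*` on sheaves of sets. -/
noncomputable def adjSet : pullSet J K u ⊣ pushSet J K u :=
  u.sheafAdjunctionContinuous (Type u) K J

/-- the free abelian sheaf functor. -/
noncomputable abbrev freeF {E : Type u} [SmallCategory E] (L : GrothendieckTopology E) :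
    Sheaf L (Type u) ⥤ Sheaf L AddCommGrpCat.{u} :=
  Sheaf.composeAndSheafify L AddCommGrpCat.free.{u}

/-- free ⊣ forget on sheaves. -/
noncomputable def freeAdj {E : Type u} [SmallCategory E] (L : GrothendieckTopology E) :
    freeF L ⊣ sheafCompose L (forget AddCommGrpCat.{u}) :=
  Sheaf.adjunction L AddCommGrpCat.adj.{u}

/-- direct image commutes with the forgetful functors. -/
noncomputable def rightIso :
    CohSite.push J K u ⋙ sheafCompose K (forget AddCommGrpCat.{u}) ≅
      sheafCompose J (forget AddCommGrpCat.{u}) ⋙ pushSet J K u :=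
  Iso.refl _

/-- `u⁻¹ ℤ[K] ≅ ℤ[u⁻¹ K]`. -/
noncomputable def pullFreeIso :
    freeF K ⋙ u.sheafPullback AddCommGrpCat.{u} K J ≅ pullSet J K u ⋙ freeF J :=
  Adjunction.leftAdjointUniq
    ((freeAdj K).comp (u.sheafAdjunctionContinuous AddCommGrpCat.{u} K J))
    (((adjSet J K u).comp (freeAdj J)).ofNatIsoRight (rightIso J K u).symm)

theorem freeF_obj {E : Type u} [SmallCategory E] (L : GrothendieckTopology E)
    (K' : Sheaf L (Type u)) : (freeF L).obj K' = freeAb K' := rfl

variable [HasFiniteLimits D] [PreservesFiniteLimits u]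

/-- direct images of totally acyclic sheaves are totally acyclic. -/
theorem isTotallyAcyclic_push (F : Sheaf J AddCommGrpCat.{u}) (hF : CohCx.IsTotallyAcyclic F) :
    CohCx.IsTotallyAcyclic ((CohSite.push J K u).obj F) := by
  intro K' p
  have hT : ∀ K'' : Sheaf K (Type u),
      AcyclicAdj.T.{u} (pull J K u) F (freeAb K'') := by
    intro K'' q x
    refine AcyclicAdj.ext_eq_zero_of_iso ((pullFreeIso J K u).app K'') (q + 1) ?_ x
    intro y
    haveI := hF ((pullSet J K u).obj K'') q
    exact Subsingleton.elim (α := CohCx.HK ((pullSet J K u).obj K'') F (q + 1)) y 0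
  have key := AcyclicAdj.ext_eq_zero.{u, u} (pull J K u) (CohSite.push J K u) (adjP J K u) F
    (fun A => by
      obtain ⟨K'', π, hπ⟩ := exists_epi_freeAb A
      exact ⟨freeAb K'', π, hπ, hT K''⟩) p (freeAb K') (hT K')
  constructor
  intro x y
  exact (key x).trans (key y).symm

end Groth.Agent.Lib.Helper21.PullFree
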