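import Mathlib
import Groth.Prelude.Def_ModSite2
import Groth.Agent.Lib.Helper21FreeConst
import Groth.Agent.Lib.Helper21NullOn3

/-!
# Helper21: `ℤ/ℤ_U` is torsion-free; `O ⊗ (ℤ/ℤ_U) ≅ O/O_U`
-/

open CategoryTheory Opposite Limits

universe u

namespace Groth.Agent.Lib.Helper21.QuotZ

open Groth.Agent.Lib.Helper21.FreeAb Groth.Agent.Lib.Helper21.TorsFree

section algebra

theorem tf_of_iso {A B : AddCommGrpCat.{u}} (e : A ≅ B)
    (hB : ∀ (n : ℕ) (x : B), n ≠ 0 → n • x = 0 → x = 0) (n : ℕ) (x : A) (hn : n ≠ 0)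
    (hx : n • x = 0) : x = 0 := by
  have h1 : e.hom x = 0 := by
    apply hB n _ hn
    rw [← map_nsmul, hx, map_zero]
  have h2 : e.inv (e.hom x) = x := by
    rw [← ConcreteCategory.comp_apply, e.hom_inv_id]
    rfl
  rw [← h2, h1, map_zero]

theorem tf_cokernel_free {S T : Type u} [Subsingleton T] (f : S ⟶ T) (n : ℕ)
    (x : (cokernel (AddCommGrpCat.free.map f) : AddCommGrpCat.{u})) (hn : n ≠ 0)
    (hx : n • x = 0) : x = 0 := by
  by_cases hS : Nonempty S
  · obtain ⟨s⟩ := hS
    haveI : Epi (AddCommGrpCat.free.map f) := by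
      rw [AddCommGrpCat.epi_iff_surjective]
      intro y
      induction y using FreeAbelianGroup.induction_on with
      | zero => exact ⟨0, map_zero _⟩
      | of t =>
        refine ⟨FreeAbelianGroup.of s, ?_⟩
        change FreeAbelianGroup.map f (FreeAbelianGroup.of s) = _
        rw [FreeAbelianGroup.map_of_apply]
        congr 1
        exact Subsingleton.elim _ _
      | neg t ih =>
        obtain ⟨a, ha⟩ := ih
        exact ⟨-a, (map_neg _ a).trans (congrArg _ ha)⟩
      | add a b iha ihb =>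
        obtain ⟨a', ha⟩ := iha
        obtain ⟨b', hb⟩ := ihb
        exact ⟨a' + b', (map_add _ a' b').trans (congrArg₂ _ ha hb)⟩
    haveI := AddCommGrpCat.subsingleton_of_isZero
      (isZero_cokernel_of_epi (AddCommGrpCat.free.map f))
    exact Subsingleton.elim _ _
  · haveI : IsEmpty S := not_nonempty_iff.1 hS
    have h0 : AddCommGrpCat.free.map f = 0 :=
      AddCommGrpCat.hom_ext (FreeAbelianGroup.lift_ext _ _ (fun s => isEmptyElim s))
    have hπ : IsIso (cokernel.π (AddCommGrpCat.free.map f)) := by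
      rw [h0]
      infer_instance
    refine tf_of_iso (asIso (cokernel.π (AddCommGrpCat.free.map f))).symm ?_ n x hn hx
    intro m y hm hy
    exact free_torsionFree T m hm y hy

end algebra

end Groth.Agent.Lib.Helper21.QuotZ

namespace Groth.Agent.Lib.Helper21.QuotZ

open Groth.Agent.Lib.Helper21.FreeAb Groth.Agent.Lib.Helper21.TorsFree
  Groth.Agent.Lib.Helper21.NullOn

variable {C : Type u} [SmallCategory C] {J : GrothendieckTopology C}

/-- sections of the terminal sheaf of sets are unique. -/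
noncomputable instance uniqueTerminalSections (X : Cᵒᵖ) :
    Unique ((⊤_ (Sheaf J (Type u))).obj.obj X) :=
  Types.isTerminalEquivUnique _
    (IsTerminal.isTerminalObj (sheafToPresheaf J (Type u) ⋙ (evaluation _ _).obj X) _
      terminalIsTerminal)

theorem TF_quotZ (K : Sheaf J (Type u)) : TF (ToposFin.quotZ K) := by
  let φ : K.obj ⋙ AddCommGrpCat.free.{u} ⟶ (⊤_ (Sheaf J (Type u))).obj ⋙ AddCommGrpCat.free.{u} :=
    Functor.whiskerRight (terminal.from K).hom AddCommGrpCat.free.{u}
  have hφ : (ToposFin.freeAb J).map (terminal.from K) =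
      (presheafToSheaf J AddCommGrpCat.{u}).map φ := rfl
  let e : ToposFin.quotZ K ≅ (presheafToSheaf J AddCommGrpCat.{u}).obj (cokernel φ) :=
    (PreservesCokernel.iso (presheafToSheaf J AddCommGrpCat.{u}) φ).symm
  refine TF_of_mono e.hom (TF_sheafify _ ?_)
  intro X n x hn hx
  exact tf_of_iso (PreservesCokernel.iso ((evaluation _ _).obj X) φ)
    (fun m y hm hy => tf_cokernel_free ((terminal.from K).hom.app X) m y hm hy) n x hn hx



section ev

variable (U : C)

/-- the section over `U` classified by a morphism out of the sheaf associated to `U`. -/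
noncomputable def ev {Y : Sheaf J (Type u)} (a : ToposFin.eps J U ⟶ Y) : Y.obj.obj (op U) :=
  yonedaEquiv (toSheafify J (yoneda.obj U) ≫ a.hom)

theorem ev_injective {Y : Sheaf J (Type u)} : Function.Injective (ev U (J := J) (Y := Y)) := by
  intro a b h
  have h1 := yonedaEquiv.injective h
  apply Sheaf.hom_ext
  exact sheafify_hom_ext J _ _ Y.property h1

theorem ev_comp {Y Y' : Sheaf J (Type u)} (a : ToposFin.eps J U ⟶ Y) (f : Y ⟶ Y') :
    ev U (a ≫ f) = f.hom.app (op U) (ev U a) := by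
  unfold ev
  rw [InducedCategory.comp_hom, ← Category.assoc, yonedaEquiv_comp]

end ev

variable (O : Sheaf J CommRingCat.{u}) (U : C)

/-- free `O`-module on a sheaf of sets. -/
noncomputable abbrev Λ : Sheaf J (Type u) ⥤ ModSite.Mod O := ToposFin.freeAb J ⋙ freeSh O

/-- underlying sheaf of sets of a module. -/
noncomputable abbrev Φ : ModSite.Mod O ⥤ Sheaf J (Type u) :=
  SheafOfModules.toSheaf (ModSite.ringSh O) ⋙ sheafCompose J (forget AddCommGrpCat.{u})

/-- free ⊣ forget. -/
noncomputable def adjΛ : Λ O ⊣ Φ O :=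
  (Sheaf.adjunction J AddCommGrpCat.adj.{u}).comp (freeShAdj O)

/-- the section over `U` classified by a morphism `O[U] ⟶ X`. -/
noncomputable def κ {X : ModSite.Mod O} (h : (Λ O).obj (ToposFin.eps J U) ⟶ X) :
    ModSite.sect X U :=
  ev U ((adjΛ O).homEquiv _ _ h)

theorem κ_injective {X : ModSite.Mod O} : Function.Injective (κ O U (X := X)) := by
  intro a b h
  exact ((adjΛ O).homEquiv _ _).injective (ev_injective U h)

theorem κ_comp {X X' : ModSite.Mod O} (h : (Λ O).obj (ToposFin.eps J U) ⟶ X) (g : X ⟶ X') :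
    κ O U (h ≫ g) = (g.val.app (op U)).hom (κ O U h) := by
  unfold κ
  rw [Adjunction.homEquiv_naturality_right, ev_comp]
  rfl

theorem κ_zero {X : ModSite.Mod O} : κ O U (0 : (Λ O).obj (ToposFin.eps J U) ⟶ X) = 0 := by
  have h : (0 : (Λ O).obj (ToposFin.eps J U) ⟶ X) = 0 ≫ (0 : X ⟶ X) := by rw [Limits.comp_zero]
  rw [h, κ_comp]
  rfl

theorem comp_eq_zero_iff {X X' : ModSite.Mod O} (h : (Λ O).obj (ToposFin.eps J U) ⟶ X)
    (g : X ⟶ X') : h ≫ g = 0 ↔ (g.val.app (op U)).hom (κ O U h) = 0 := by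
  rw [← κ_comp]
  constructor
  · intro e
    rw [e, κ_zero]
  · intro e
    apply κ_injective O U
    rw [e, κ_zero]


/-! ### the free module on the terminal sheaf is `O` -/

theorem uniqueEquiv_of (T : Type*) [Unique T] (t : T) :
    FreeAbelianGroup.uniqueEquiv T (FreeAbelianGroup.of t) = 1 :=
  FreeAbelianGroup.lift_apply_of (fun _ : T => (1 : ℤ)) t

/-- `ℤ[*] ≅ ℤ` on presheaves. -/
noncomputable def preTermIso :
    (⊤_ (Sheaf J (Type u))).obj ⋙ AddCommGrpCat.free.{u} ≅ cZ (C := C) :=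
  NatIso.ofComponents (fun X =>
    ((FreeAbelianGroup.uniqueEquiv ((⊤_ (Sheaf J (Type u))).obj.obj X)).trans
      AddEquiv.ulift.symm).toAddCommGrpIso) (by
    intro X Y f
    apply AddCommGrpCat.hom_ext
    apply FreeAbelianGroup.lift_ext
    intro x
    apply ULift.ext
    change FreeAbelianGroup.uniqueEquiv _ (FreeAbelianGroup.map _ (FreeAbelianGroup.of x)) =
      FreeAbelianGroup.uniqueEquiv _ (FreeAbelianGroup.of x)
    rw [FreeAbelianGroup.map_of_apply, uniqueEquiv_of, uniqueEquiv_of])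

/-- `ℤ[*] ≅ ℤ`. -/
noncomputable def termIso : (ToposFin.freeAb J).obj (⊤_ (Sheaf J (Type u))) ≅ Zc (J := J) :=
  (presheafToSheaf J AddCommGrpCat.{u}).mapIso preTermIso

/-- `O[*] ≅ O`. -/
noncomputable def θ : (Λ O).obj (⊤_ (Sheaf J (Type u))) ≅ ModSite.unit O :=
  (freeSh O).mapIso termIso ≪≫ freeShZcIso O

/-- the global section `1` of `O`. -/
noncomputable def oneSec : ⊤_ (Sheaf J (Type u)) ⟶ (Φ O).obj (ModSite.unit O) :=
  ⟨{ app := fun X => TypeCat.ofHom (fun _ => (1 : (ModSite.ringSh O).obj.obj X))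
     naturality := by
      intro X Y f
      ext x
      exact (map_one ((ModSite.ringSh O).obj.map f).hom).symm }⟩


/-- the section of `O` over `U` classifying `O[U] ⟶ O[*] ≅ O`. -/
noncomputable def cU : (ModSite.ringSh O).obj.obj (op U) :=
  κ O U ((Λ O).map (terminal.from (ToposFin.eps J U)) ≫ (θ O).hom)

/-- an endomorphism of `O` taking `cU` to `1`. -/
noncomputable def g₀ : ModSite.unit O ⟶ ModSite.unit O :=
  (θ O).inv ≫ ((adjΛ O).homEquiv _ _).symm (oneSec O)

theorem g₀_cU : ((g₀ O).val.app (op U)).hom (cU O U) = (1 : (ModSite.ringSh O).obj.obj (op U)) := by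
  unfold cU
  rw [← κ_comp]
  unfold κ
  have h1 : ((Λ O).map (terminal.from (ToposFin.eps J U)) ≫ (θ O).hom) ≫ g₀ O =
      (Λ O).map (terminal.from (ToposFin.eps J U)) ≫
        ((adjΛ O).homEquiv _ _).symm (oneSec O) := by
    unfold g₀
    rw [Category.assoc, Iso.hom_inv_id_assoc]
  rw [h1, Adjunction.homEquiv_naturality_left, Equiv.apply_symm_apply, ev_comp]
  rfl

theorem app_smul {X : ModSite.Mod O} (g : ModSite.unit O ⟶ X) (V : Cᵒᵖ)
    (r : (ModSite.ringSh O).obj.obj V) :
    (g.val.app V).hom r = r • (g.val.app V).hom (1 : (ModSite.ringSh O).obj.obj V) := by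
  have h := (g.val.app V).hom.map_smul r (1 : (ModSite.ringSh O).obj.obj V)
  rw [← h]
  congr 1
  exact (mul_one r).symm

/-- the image of `1` under `g₀`. -/
noncomputable def dU : (ModSite.ringSh O).obj.obj (op U) :=
  ((g₀ O).val.app (op U)).hom (1 : (ModSite.ringSh O).obj.obj (op U))

theorem cU_mul : cU O U * dU O U = 1 := by
  have h := g₀_cU O U
  rw [app_smul] at h
  exact h

theorem app_cU_eq_zero_iff {X : ModSite.Mod O} (g : ModSite.unit O ⟶ X) :
    (g.val.app (op U)).hom (cU O U) = 0 ↔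
      (g.val.app (op U)).hom (1 : (ModSite.ringSh O).obj.obj (op U)) = 0 := by
  constructor
  · intro h
    have h1 : dU O U * cU O U = 1 := by
      rw [← cU_mul O U]
      exact mul_comm (G := O.obj.obj (op U)) _ _
    have h2 := app_smul O g (op U) (dU O U * cU O U)
    rw [mul_smul, ← app_smul O g (op U) (cU O U), h, smul_zero, h1] at h2
    exact h2
  · intro h
    rw [app_smul, h, smul_zero]


theorem restr_map_eq_zero_iff {X : ModSite.Mod O} (g : ModSite.unit O ⟶ X) :
    (ModSite.restr O U).map g = 0 ↔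
      (g.val.app (op U)).hom (1 : (ModSite.ringSh O).obj.obj (op U)) = 0 := by
  constructor
  · intro h
    exact congrArg (fun ψ : (ModSite.restr O U).obj (ModSite.unit O) ⟶ (ModSite.restr O U).obj X =>
      (ψ.val.app (op (Over.mk (𝟙 U)))).hom (1 : (ModSite.ringSh O).obj.obj (op U))) h
  · intro h
    apply (SheafOfModules.toSheaf _).map_injective
    ext Y r
    change (g.val.app (op (unop Y).left)).hom r = 0
    rw [app_smul]
    have hn := PresheafOfModules.naturality_apply g.val (unop Y).hom.op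
      (1 : (ModSite.ringSh O).obj.obj (op U))
    have h1 : (ModSite.unit O).val.map (unop Y).hom.op (1 : (ModSite.ringSh O).obj.obj (op U)) =
        (1 : (ModSite.ringSh O).obj.obj (op (unop Y).left)) :=
      map_one ((ModSite.ringSh O).obj.map (unop Y).hom.op).hom
    rw [h1, h, map_zero] at hn
    rw [hn]
    exact smul_zero (M := (ModSite.ringSh O).obj.obj (op (unop Y).left))
      (A := X.val.obj (op (unop Y).left)) r

theorem key_iff {X : ModSite.Mod O} (g : ModSite.unit O ⟶ X) :
    ((Λ O).map (terminal.from (ToposFin.eps J U)) ≫ (θ O).hom) ≫ g = 0 ↔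
      ε O U (ModSite.unit O) ≫ g = 0 := by
  rw [comp_eq_zero_iff, counit_comp_eq_zero_iff_restr, restr_map_eq_zero_iff]
  exact app_cU_eq_zero_iff O U g


/-- `O/O_U` is a cokernel of `O[U] ⟶ O[*] ≅ O`. -/
noncomputable def isColimitQuotUnit :
    IsColimit (CokernelCofork.ofπ (π O U (ModSite.unit O))
      ((key_iff O U _).2 (w_π O U (ModSite.unit O)))) :=
  isColimitOfIff (w_π O U (ModSite.unit O)) (cokernelIsCokernel (ε O U (ModSite.unit O)))
    (fun g => (key_iff O U g).symm)

/-- `O ⊗ (ℤ/ℤ_U) ≅ O/O_U`. -/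
noncomputable def Θ :
    (freeSh O).obj (ToposFin.quotZ (ToposFin.eps J U)) ≅
      (ModSite.quotOn O U).obj (ModSite.unit O) := by
  let t := terminal.from (ToposFin.eps J U)
  let e1 := PreservesCokernel.iso (freeSh O) ((ToposFin.freeAb J).map t)
  let e2 := cokernel.mapIso ((freeSh O).map ((ToposFin.freeAb J).map t))
    ((Λ O).map t ≫ (θ O).hom) (Iso.refl _) (θ O) (by simp)
  let e3 := IsColimit.coconePointUniqueUpToIso
    (colimit.isColimit (parallelPair ((Λ O).map t ≫ (θ O).hom) 0)) (isColimitQuotUnit O U)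
  exact e1 ≪≫ e2 ≪≫ e3

/-- `Hom(ℤ/ℤ_U, toAb -) ≅ Hom(O/O_U, -)`. -/
noncomputable def toSheafCoyonedaQuotIso :
    SheafOfModules.toSheaf (ModSite.ringSh O) ⋙
        preadditiveCoyoneda.obj (op (ToposFin.quotZ (ToposFin.eps J U))) ≅
      preadditiveCoyoneda.obj (op ((ModSite.quotOn O U).obj (ModSite.unit O))) :=
  adjCoyonedaIso (freeShAdj O) _ ≪≫ coyonedaIsoOfIso (Θ O U)

end Groth.Agent.Lib.Helper21.QuotZ
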