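import Mathlib
import Groth.Prelude.Def_FlatMod2
import Groth.Agent.Lib.Helper21UnitHom

/-!
# Helper21: global sections on retracts of finite free `O_X`-modules (Karoubi argument, S0938)
-/

set_option autoImplicit false
universe u
open CategoryTheory CategoryTheory.Limits AlgebraicGeometry Opposite

namespace Groth.Agent.Lib.Helper21.RetractFree

variable (X : Scheme.{u})

/-- global sections functor with values in `Γ(X, ⊤)`-modules -/
noncomputable def G : X.Modules ⥤ ModuleCat.{u} Γ(X, ⊤) where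
  obj M := ModuleCat.of Γ(X, ⊤) Γ(M, ⊤)
  map {M N} φ := ModuleCat.ofHom
    { toFun := fun x => φ.app ⊤ x
      map_add' := fun x y => map_add (φ.app ⊤).hom x y
      map_smul' := fun r x => Scheme.Modules.Hom.app_smul φ r x }
  map_id M := by
    ext x
    rfl
  map_comp φ ψ := by
    ext x
    rfl

theorem G_map_apply {M N : X.Modules} (φ : M ⟶ N) (x : Γ(M, ⊤)) :
    ((G X).map φ).hom x = φ.app ⊤ x := rfl

instance : (G X).Additive where
  map_add {M N φ ψ} := by
    ext x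
    rfl

noncomputable abbrev O : X.Modules := Coh.structureModule X

def topTerminal : IsTerminal (⊤ : X.Opens) := isTerminalTop

/-- `Hom(O, M) ≃+ Γ(M, ⊤)`. -/
noncomputable def unitEquiv (M : X.Modules) : (O X ⟶ M) ≃+ Γ(M, ⊤) :=
  Groth.Agent.Lib.Helper21.UnitHom.unitHomAddEquiv (R := X.ringCatSheaf) (topTerminal X) M

theorem unitEquiv_apply (M : X.Modules) (f : O X ⟶ M) :
    unitEquiv X M f = f.app ⊤ (1 : Γ(X, ⊤)) := rfl

theorem unitEquiv_comp {M N : X.Modules} (f : O X ⟶ M) (g : M ⟶ N) :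
    unitEquiv X N (f ≫ g) = g.app ⊤ (unitEquiv X M f) := rfl

noncomputable abbrev F (n : ℕ) : X.Modules := FlatMod.freeMod X n

noncomputable abbrev ι (n : ℕ) (j : Fin n) : O X ⟶ F X n :=
  Sigma.ι (fun _ : Fin n => Coh.structureModule X) j

/-- `Hom(O^n, M) ≃ Γ(M, ⊤)^n`. -/
noncomputable def homEquiv (n : ℕ) (M : X.Modules) : (F X n ⟶ M) ≃ (Fin n → Γ(M, ⊤)) where
  toFun g := fun j => unitEquiv X M (ι X n j ≫ g)
  invFun s := Sigma.desc (fun j => (unitEquiv X M).symm (s j))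
  left_inv g := by
    apply Sigma.hom_ext
    intro j
    rw [Sigma.ι_desc]
    exact (unitEquiv X M).symm_apply_apply _
  right_inv s := by
    funext j
    dsimp only
    rw [Sigma.ι_desc]
    exact (unitEquiv X M).apply_symm_apply _

theorem homEquiv_apply (n : ℕ) (M : X.Modules) (g : F X n ⟶ M) (j : Fin n) :
    homEquiv X n M g j = (ι X n j ≫ g).app ⊤ (1 : Γ(X, ⊤)) := rfl

/-- the standard generators of `Γ(O^n)`. -/
noncomputable def e (n : ℕ) (j : Fin n) : Γ(F X n, ⊤) := (ι X n j).app ⊤ (1 : Γ(X, ⊤))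

theorem homEquiv_apply' (n : ℕ) (M : X.Modules) (g : F X n ⟶ M) (j : Fin n) :
    homEquiv X n M g j = g.app ⊤ (e X n j) := rfl

/-- projections -/
noncomputable def π (n : ℕ) (j : Fin n) : F X n ⟶ O X :=
  (homEquiv X n (O X)).symm (fun k => if k = j then (1 : Γ(X, ⊤)) else 0)

theorem ι_π (n : ℕ) (k j : Fin n) : ι X n k ≫ π X n j = if k = j then 𝟙 (O X) else 0 := by
  apply (unitEquiv X (O X)).injective
  have h := congrFun ((homEquiv X n (O X)).apply_symm_apply
    (fun k => if k = j then (1 : Γ(X, ⊤)) else 0)) k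
  change unitEquiv X (O X) (ι X n k ≫ π X n j) = _ at h
  rw [h]
  split_ifs
  · rfl
  · exact (map_zero _).symm


theorem sum_π_ι (n : ℕ) : ∑ j : Fin n, π X n j ≫ ι X n j = 𝟙 (F X n) := by
  apply Sigma.hom_ext
  intro k
  change ι X n k ≫ _ = ι X n k ≫ _
  rw [Preadditive.comp_sum, Category.comp_id]
  rw [Finset.sum_eq_single k]
  · rw [← Category.assoc, ι_π, if_pos rfl, Category.id_comp]
  · intro j _ hj
    rw [← Category.assoc, ι_π, if_neg (Ne.symm hj), zero_comp]
  · intro h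
    exact absurd (Finset.mem_univ k) h

/-- `Γ(O, ⊤) = Γ(X, ⊤)`. -/
def toR (x : Γ(O X, ⊤)) : Γ(X, ⊤) := x

def ofR (r : Γ(X, ⊤)) : Γ(O X, ⊤) := r

theorem toR_ofR (r : Γ(X, ⊤)) : toR X (ofR X r) = r := rfl
theorem ofR_toR (x : Γ(O X, ⊤)) : ofR X (toR X x) = x := rfl

theorem toR_add (x y : Γ(O X, ⊤)) : toR X (x + y) = toR X x + toR X y := rfl
theorem toR_zero : toR X 0 = 0 := rfl
theorem toR_smul (r : Γ(X, ⊤)) (x : Γ(O X, ⊤)) : toR X (r • x) = r * toR X x := rfl

theorem smul_ofR_one (r : Γ(X, ⊤)) : r • ofR X 1 = ofR X r := mul_one r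

theorem unitEquiv_apply' (M : X.Modules) (f : O X ⟶ M) :
    unitEquiv X M f = f.app ⊤ (ofR X 1) := rfl

theorem e_eq (n : ℕ) (j : Fin n) : e X n j = (ι X n j).app ⊤ (ofR X 1) := rfl

/-- `Γ(O, ⊤) ≃ R` as `R`-modules. -/
noncomputable def toRLin : (G X).obj (O X) ≃ₗ[Γ(X, ⊤)] Γ(X, ⊤) where
  toFun := toR X
  map_add' _ _ := rfl
  map_smul' _ _ := rfl
  invFun := ofR X
  left_inv _ := rfl
  right_inv _ := rfl

/-- coordinate functionals on `Γ(O^n)`. -/
noncomputable def pr (n : ℕ) (j : Fin n) : (G X).obj (F X n) →ₗ[Γ(X, ⊤)] Γ(X, ⊤) :=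
  (toRLin X).toLinearMap ∘ₗ ((G X).map (π X n j)).hom

/-- the standard generators, typed in `G`. -/
noncomputable def eG (n : ℕ) (j : Fin n) : (G X).obj (F X n) := e X n j

theorem G_ι_smul (n : ℕ) (j : Fin n) (y : (G X).obj (O X)) :
    ((G X).map (ι X n j)).hom y = toRLin X y • eG X n j := by
  have h : y = toRLin X y • (toRLin X).symm 1 := by
    apply (toRLin X).injective
    rw [map_smul, LinearEquiv.apply_symm_apply, smul_eq_mul, mul_one]
  conv_lhs => rw [h]
  rw [map_smul]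
  rfl

theorem decomp (n : ℕ) (x : (G X).obj (F X n)) :
    x = ∑ j : Fin n, pr X n j x • eG X n j := by
  have h := congrArg (fun ψ : F X n ⟶ F X n => ((G X).map ψ).hom x) (sum_π_ι X n)
  simp only [Functor.map_sum, ModuleCat.hom_sum, LinearMap.sum_apply,
    CategoryTheory.Functor.map_id, ModuleCat.hom_id, LinearMap.id_apply] at h
  refine h.symm.trans (Finset.sum_congr rfl (fun j _ => ?_))
  rw [Functor.map_comp, ModuleCat.hom_comp, LinearMap.comp_apply, G_ι_smul]
  rfl

theorem pr_eG (n : ℕ) (k j : Fin n) : pr X n k (eG X n j) = if j = k then 1 else 0 := by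
  change toR X ((ι X n j ≫ π X n k).app ⊤ (ofR X 1)) = _
  rw [ι_π]
  split_ifs
  · rfl
  · rfl

/-- `Γ(O^n) ≃ R^n`. -/
noncomputable def lam (n : ℕ) : (G X).obj (F X n) ≃ₗ[Γ(X, ⊤)] (Fin n → Γ(X, ⊤)) :=
  { LinearMap.pi (fun j => pr X n j) with
    invFun := fun c => ∑ j : Fin n, c j • eG X n j
    left_inv := fun x => (decomp X n x).symm
    right_inv := fun c => by
      funext k
      change pr X n k (∑ j : Fin n, c j • eG X n j) = c k
      rw [map_sum]
      simp only [map_smul, pr_eG, smul_eq_mul, mul_ite, mul_one, mul_zero]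
      simp }

theorem ext_of_e {n : ℕ} {N : ModuleCat.{u} Γ(X, ⊤)} (a b : (G X).obj (F X n) ⟶ N)
    (h : ∀ j, a.hom (eG X n j) = b.hom (eG X n j)) : a = b := by
  ext x
  rw [decomp X n x]
  simp only [map_sum, map_smul, h]

theorem homEquiv_apply'' (n : ℕ) (M : X.Modules) (g : F X n ⟶ M) (j : Fin n) :
    homEquiv X n M g j = ((G X).map g).hom (eG X n j) := rfl

theorem map_injective_of_retract {M M' : X.Modules} {n : ℕ} (i : M ⟶ F X n) (r : F X n ⟶ M)
    (hir : i ≫ r = 𝟙 M) (φ φ' : M ⟶ M') (h : (G X).map φ = (G X).map φ') : φ = φ' := by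
  have h1 : r ≫ φ = r ≫ φ' := by
    apply (homEquiv X n M').injective
    funext j
    rw [homEquiv_apply'', homEquiv_apply'', Functor.map_comp, Functor.map_comp, h]
  calc φ = (i ≫ r) ≫ φ := by rw [hir, Category.id_comp]
    _ = i ≫ r ≫ φ := Category.assoc _ _ _
    _ = i ≫ r ≫ φ' := by rw [h1]
    _ = φ' := by rw [← Category.assoc, hir, Category.id_comp]

theorem map_surjective_of_retract {M M' : X.Modules} {n : ℕ} (i : M ⟶ F X n) (r : F X n ⟶ M)
    (hir : i ≫ r = 𝟙 M) (ψ : (G X).obj M ⟶ (G X).obj M') :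
    ∃ φ : M ⟶ M', (G X).map φ = ψ := by
  let g : F X n ⟶ M' := (homEquiv X n M').symm (fun j => ψ.hom (((G X).map r).hom (eG X n j)))
  have hg : (G X).map g = (G X).map r ≫ ψ := by
    apply ext_of_e
    intro j
    have := congrFun ((homEquiv X n M').apply_symm_apply
      (fun j => ψ.hom (((G X).map r).hom (eG X n j)))) j
    rw [homEquiv_apply''] at this
    exact this
  refine ⟨i ≫ g, ?_⟩
  rw [Functor.map_comp, hg, ← Category.assoc, ← Functor.map_comp, hir,
    CategoryTheory.Functor.map_id, Category.id_comp]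

theorem finite_projective_of_retract {M : X.Modules} {n : ℕ} (i : M ⟶ F X n) (r : F X n ⟶ M)
    (hir : i ≫ r = 𝟙 M) :
    Module.Finite Γ(X, ⊤) ((G X).obj M) ∧ Module.Projective Γ(X, ⊤) ((G X).obj M) := by
  let a : (G X).obj M →ₗ[Γ(X, ⊤)] (Fin n → Γ(X, ⊤)) :=
    (lam X n).toLinearMap ∘ₗ ((G X).map i).hom
  let b : (Fin n → Γ(X, ⊤)) →ₗ[Γ(X, ⊤)] (G X).obj M :=
    ((G X).map r).hom ∘ₗ (lam X n).symm.toLinearMap
  have hba : b ∘ₗ a = LinearMap.id := by
    ext x
    change ((G X).map r).hom ((lam X n).symm ((lam X n) (((G X).map i).hom x))) = x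
    rw [LinearEquiv.symm_apply_apply]
    change ((G X).map i ≫ (G X).map r).hom x = x
    rw [← Functor.map_comp, hir, CategoryTheory.Functor.map_id]
    rfl
  have hsurj : Function.Surjective b := fun x => ⟨a x, congrArg (fun f => f x) hba⟩
  exact ⟨Module.Finite.of_surjective b hsurj, Module.Projective.of_split a b hba⟩


theorem essSurj_aux (N : ModuleCat.{u} Γ(X, ⊤)) [Module.Finite Γ(X, ⊤) N]
    [Module.Projective Γ(X, ⊤) N] :
    ∃ (M : X.Modules) (n : ℕ) (i : M ⟶ F X n) (r : F X n ⟶ M), i ≫ r = 𝟙 M ∧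
      Nonempty ((G X).obj M ≅ N) := by
  obtain ⟨n, f, g, -, -, hfg⟩ := Module.Finite.exists_comp_eq_id_of_projective Γ(X, ⊤) N
  have hfg' : ∀ x, f (g x) = x := fun x => congrArg (fun h => h x) hfg
  let ψ : (G X).obj (F X n) ⟶ (G X).obj (F X n) :=
    ModuleCat.ofHom ((lam X n).symm.toLinearMap ∘ₗ g ∘ₗ f ∘ₗ (lam X n).toLinearMap)
  have hψ_apply : ∀ x, ψ.hom x = (lam X n).symm (g (f (lam X n x))) := fun x => rfl
  have hψ : ψ ≫ ψ = ψ := by
    ext x
    change ψ.hom (ψ.hom x) = ψ.hom x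
    rw [hψ_apply, hψ_apply, LinearEquiv.apply_symm_apply, hfg']
  obtain ⟨ε, hε⟩ := map_surjective_of_retract X (𝟙 (F X n)) (𝟙 (F X n)) (Category.id_comp _) ψ
  have hεε : ε ≫ ε = ε :=
    map_injective_of_retract X (𝟙 (F X n)) (𝟙 (F X n)) (Category.id_comp _) _ _
      (by rw [Functor.map_comp, hε, hψ])
  obtain ⟨M, i, r, hir, hri⟩ := IsIdempotentComplete.idempotents_split (F X n) ε hεε
  refine ⟨M, n, i, r, hir, ⟨?_⟩⟩
  have hGri : (G X).map r ≫ (G X).map i = ψ := by
    rw [← Functor.map_comp, hri, hε]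
  have hGir : (G X).map i ≫ (G X).map r = 𝟙 _ := by
    rw [← Functor.map_comp, hir, CategoryTheory.Functor.map_id]
  refine
    { hom := (G X).map i ≫ ModuleCat.ofHom (f ∘ₗ (lam X n).toLinearMap)
      inv := ModuleCat.ofHom ((lam X n).symm.toLinearMap ∘ₗ g) ≫ (G X).map r
      hom_inv_id := ?_
      inv_hom_id := ?_ }
  · ext x
    have h3 : ∀ y, ψ.hom y = ((G X).map i).hom (((G X).map r).hom y) := fun y => by
      rw [← hGri]
      rfl
    have h4 : ∀ y, ((G X).map r).hom (((G X).map i).hom y) = y := fun y =>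
      congrArg (fun a => a.hom y) hGir
    change ((G X).map r).hom ((lam X n).symm (g (f (lam X n (((G X).map i).hom x))))) = x
    rw [← hψ_apply, h3, h4, h4]
  · ext x
    have h2 : ((G X).map i).hom (((G X).map r).hom ((lam X n).symm (g x))) =
        ψ.hom ((lam X n).symm (g x)) := by
      rw [← hGri]
      rfl
    change f (lam X n (((G X).map i).hom (((G X).map r).hom ((lam X n).symm (g x))))) = x
    rw [h2, hψ_apply, LinearEquiv.apply_symm_apply, LinearEquiv.apply_symm_apply, hfg', hfg']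

end Groth.Agent.Lib.Helper21.RetractFree
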