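import Mathlib

/-!
# Strictly perfect complexes relative to a liftable class of objects (helper21)

`P : ObjectProperty C` with every epimorphism onto a `P`-object split: `P`-objects are projective,
bounded above complexes of `P`-objects are K-projective, morphisms in `D(C)` out of them lift to
chain maps, and cones of such are computed by mapping cones.
-/

universe w v u
open CategoryTheory Limits DerivedCategory Pretriangulated

namespace Groth.Agent.Lib.Helper21.SPerf

variable {C : Type u} [Category.{v} C] [Abelian C]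

theorem projective_of_liftable (P : ObjectProperty C)
    (hlift : ∀ (E F : C) (u : E ⟶ F), Epi u → P F → IsSplitEpi u) {F : C} (hF : P F) :
    Projective F := by
  constructor
  intro E X f e he
  have h1 : Epi (pullback.snd e f) := inferInstance
  have h2 := hlift _ _ (pullback.snd e f) h1 hF
  refine ⟨section_ (pullback.snd e f) ≫ pullback.fst e f, ?_⟩
  rw [Category.assoc, pullback.condition, ← Category.assoc, IsSplitEpi.id, Category.id_comp]

theorem isKProjective_of_liftable (P : ObjectProperty C)
    (hlift : ∀ (E F : C) (u : E ⟶ F), Epi u → P F → IsSplitEpi u)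
    (K : CochainComplex C ℤ) (hP : ∀ i, P (K.X i)) (b : ℤ) (hb : ∀ i, b < i → IsZero (K.X i)) :
    K.IsKProjective := by
  have : K.IsStrictlyLE b := by
    rw [CochainComplex.isStrictlyLE_iff]
    exact hb
  have : ∀ n, Projective (K.X n) := fun n => projective_of_liftable P hlift (hP n)
  exact CochainComplex.isKProjective_of_projective K b

section
variable [HasDerivedCategory.{w} C]

/-- Morphisms in the derived category out of a K-projective complex lift to chain maps. -/
theorem exists_map_eq_of_isKProjective (K L : CochainComplex C ℤ) [K.IsKProjective]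
    (φ : Q.obj K ⟶ Q.obj L) : ∃ f : K ⟶ L, Q.map f = φ := by
  obtain ⟨g, hg⟩ := (CochainComplex.IsKProjective.Qh_map_bijective K
    ((HomotopyCategory.quotient _ _).obj L)).surjective
    ((quotientCompQhIso C).hom.app K ≫ φ ≫ (quotientCompQhIso C).inv.app L)
  obtain ⟨f, rfl⟩ := (HomotopyCategory.quotient _ _).map_surjective g
  refine ⟨f, ?_⟩
  have h := (quotientCompQhIso C).hom.naturality f
  simp only [Functor.comp_map] at h
  rw [hg] at h
  simp only [Category.assoc, Iso.inv_hom_id_app, Category.comp_id] at h
  exact ((cancel_epi _).1 h).symm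

/-- Chain maps out of a K-projective complex which agree in the derived category are homotopic. -/
theorem homotopy_of_Q_map_eq (K L : CochainComplex C ℤ) [K.IsKProjective] (f g : K ⟶ L)
    (h : Q.map f = Q.map g) : Nonempty (Homotopy f g) := by
  have hf := (quotientCompQhIso C).hom.naturality f
  have hg := (quotientCompQhIso C).hom.naturality g
  simp only [Functor.comp_map] at hf hg
  rw [h, ← hg] at hf
  have h1 := (cancel_mono _).1 hf
  have h2 := (CochainComplex.IsKProjective.Qh_map_bijective K
    ((HomotopyCategory.quotient _ _).obj L)).injective h1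
  exact ⟨HomotopyCategory.homotopyOfEq _ _ h2⟩

/-- The cone of a morphism between images of complexes, the source being K-projective, is a
mapping cone. -/
theorem exists_mappingCone_iso (K L : CochainComplex C ℤ) [K.IsKProjective]
    (T : Triangle (DerivedCategory C)) (hT : T ∈ distTriang (DerivedCategory C))
    (e₁ : Q.obj K ≅ T.obj₁) (e₂ : Q.obj L ≅ T.obj₂) :
    ∃ f : K ⟶ L, Q.map f = e₁.hom ≫ T.mor₁ ≫ e₂.inv ∧
      Nonempty (Q.obj (CochainComplex.mappingCone f) ≅ T.obj₃) := by
  obtain ⟨f, hf⟩ := exists_map_eq_of_isKProjective K L (e₁.hom ≫ T.mor₁ ≫ e₂.inv)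
  refine ⟨f, hf, ⟨?_⟩⟩
  have hT' := mappingCone_triangle_distinguished (C := C) f
  have e := isoTriangleOfIso₁₂ _ T hT' hT e₁ e₂ (by
    show Q.map f ≫ e₂.hom = e₁.hom ≫ T.mor₁
    rw [hf, Category.assoc, Category.assoc, Iso.inv_hom_id, Category.comp_id])
  exact Triangle.π₃.mapIso e

end

theorem mappingCone_X_prop (P : ObjectProperty C) [P.IsClosedUnderIsomorphisms]
    (hsum : ∀ X Y : C, P X → P Y → P (X ⨯ Y)) {K L : CochainComplex C ℤ} (f : K ⟶ L) (i : ℤ)
    (hK : P (K.X (i + 1))) (hL : P (L.X i)) : P ((CochainComplex.mappingCone f).X i) := by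
  have e : (CochainComplex.mappingCone f).X i ≅ K.X (i + 1) ⊞ L.X i :=
    HomologicalComplex.homotopyCofiber.XIsoBiprod f i (i + 1) rfl
  exact P.prop_of_iso (e ≪≫ biprod.isoProd _ _).symm (hsum _ _ hK hL)

theorem mappingCone_X_isZero {K L : CochainComplex C ℤ} (f : K ⟶ L) (i : ℤ)
    (hK : IsZero (K.X (i + 1))) (hL : IsZero (L.X i)) :
    IsZero ((CochainComplex.mappingCone f).X i) :=
  HomologicalComplex.homotopyCofiber.isZero_X f i hL (fun j hj => by
    have : i + 1 = j := hj
    subst this
    exact hK)

/-- `K.cycles j` is the kernel of `K.toCycles j (j+1)`. -/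
noncomputable def cyclesIsoKernelToCycles (K : CochainComplex C ℤ) (j : ℤ) :
    K.cycles j ≅ kernel (K.toCycles j (j + 1)) :=
  IsLimit.conePointUniqueUpToIso (K.cyclesIsKernel j (j + 1) (by simp)) (kernelIsKernel _) ≪≫
    kernelIsoOfEq (K.toCycles_i j (j + 1)).symm ≪≫
    kernelCompMono (K.toCycles j (j + 1)) (K.iCycles (j + 1))

theorem epi_toCycles_of_isZero_homology (K : CochainComplex C ℤ) (j : ℤ)
    (h : IsZero (K.homology (j + 1))) : Epi (K.toCycles j (j + 1)) := by
  apply Preadditive.epi_of_cancel_zero
  intro W g hg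
  have hc := K.homologyIsCokernel j (j + 1) (by simp)
  obtain ⟨l, hl⟩ := CokernelCofork.IsColimit.desc' hc g hg
  have hl' : K.homologyπ (j + 1) ≫ l = g := hl
  rw [← hl', h.eq_of_src l 0, comp_zero]

/-- In a bounded above complex of `P`-objects acyclic above degree `b`, with `P` stable under
kernels of epimorphisms, all the cycle objects `Z^j`, `j ≥ b`, are in `P`. -/
theorem prop_cycles_of_acyclic_above (P : ObjectProperty C) [P.IsClosedUnderIsomorphisms]
    [P.ContainsZero]
    (hst : ∀ (E F : C) (u : E ⟶ F), Epi u → P E → P F → P (kernel u))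
    (K : CochainComplex C ℤ) (hP : ∀ i, P (K.X i)) (c : ℤ) (hvan : ∀ i, c < i → IsZero (K.X i))
    (b : ℤ) (hcoh : ∀ i, b < i → IsZero (K.homology i)) :
    ∀ (k : ℕ) (j : ℤ), b ≤ j → (c + 1 - j).toNat ≤ k → P (K.cycles j) := by
  intro k
  induction k with
  | zero =>
    intro j hbj hk
    have hj : c < j := by omega
    have hz : IsZero (K.cycles j) := by
      rw [IsZero.iff_id_eq_zero, ← cancel_mono (K.iCycles j)]
      exact (hvan j hj).eq_of_tgt _ _
    exact P.prop_of_isZero hz
  | succ k ih =>
    intro j hbj hk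
    have h1 : P (K.cycles (j + 1)) := ih (j + 1) (by omega) (by omega)
    have h2 : Epi (K.toCycles j (j + 1)) :=
      epi_toCycles_of_isZero_homology K j (hcoh (j + 1) (by omega))
    exact P.prop_of_iso (cyclesIsoKernelToCycles K j).symm (hst _ _ _ h2 (hP j) h1)

/-- Variant of `prop_cycles_of_acyclic_above` only assuming `P (K.X i)` for `b ≤ i`. -/
theorem prop_cycles_of_acyclic_above' (P : ObjectProperty C) [P.IsClosedUnderIsomorphisms]
    [P.ContainsZero]
    (hst : ∀ (E F : C) (u : E ⟶ F), Epi u → P E → P F → P (kernel u))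
    (K : CochainComplex C ℤ) (b : ℤ) (hP : ∀ i, b ≤ i → P (K.X i)) (c : ℤ)
    (hvan : ∀ i, c < i → IsZero (K.X i))
    (hcoh : ∀ i, b < i → IsZero (K.homology i)) :
    ∀ (k : ℕ) (j : ℤ), b ≤ j → (c + 1 - j).toNat ≤ k → P (K.cycles j) := by
  intro k
  induction k with
  | zero =>
    intro j hbj hk
    have hj : c < j := by omega
    have hz : IsZero (K.cycles j) := by
      rw [IsZero.iff_id_eq_zero, ← cancel_mono (K.iCycles j)]
      exact (hvan j hj).eq_of_tgt _ _
    exact P.prop_of_isZero hz
  | succ k ih =>
    intro j hbj hk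
    have h1 : P (K.cycles (j + 1)) := ih (j + 1) (by omega) (by omega)
    have h2 : Epi (K.toCycles j (j + 1)) :=
      epi_toCycles_of_isZero_homology K j (hcoh (j + 1) (by omega))
    exact P.prop_of_iso (cyclesIsoKernelToCycles K j).symm (hst _ _ _ h2 (hP j hbj) h1)

section
variable [HasDerivedCategory.{w} C]

/-- The mapping cone of a chain map inducing an isomorphism in the derived category is acyclic. -/
theorem isZero_homology_mappingCone {K L : CochainComplex C ℤ} (f : K ⟶ L)
    (hf : IsIso (Q.map f)) (i : ℤ) : IsZero ((CochainComplex.mappingCone f).homology i) := by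
  have hT := mappingCone_triangle_distinguished (C := C) f
  have h1 : IsIso (Q.mapTriangle.obj (CochainComplex.mappingCone.triangle f)).mor₁ := hf
  have h3 : IsZero (Q.obj (CochainComplex.mappingCone f)) :=
    (Triangle.isZero₃_iff_isIso₁ _ hT).2 h1
  have h4 : IsZero ((homologyFunctor C i).obj (Q.obj (CochainComplex.mappingCone f))) :=
    (homologyFunctor C i).map_isZero h3
  exact h4.of_iso ((homologyFunctorFactors C i).app (CochainComplex.mappingCone f)).symm

end

end Groth.Agent.Lib.Helper21.SPerf
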