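import Mathlib

/-!
# Euler characteristic of a finite-length complex over `ComplexShape.up' v` on `ℤ × ℤ`
(helper21; for S3544)
-/

set_option autoImplicit false
universe u

open CategoryTheory CategoryTheory.Limits

namespace Groth.Agent.Lib.Helper21.SSEuler

variable {A : Type u} [Ring A]

section SC

variable (S : ShortComplex (ModuleCat.{u} A))

lemma length_range_toCycles :
    Module.length A (LinearMap.range S.moduleCatToCycles) =
      Module.length A (LinearMap.range S.f.hom) := by
  have hle : LinearMap.range S.f.hom ≤ LinearMap.ker S.g.hom := by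
    rintro _ ⟨x, rfl⟩
    exact S.moduleCat_zero_apply x
  have h : LinearMap.range S.moduleCatToCycles =
      Submodule.comap (LinearMap.ker S.g.hom).subtype (LinearMap.range S.f.hom) :=
    LinearMap.range_codRestrict _ _ _
  rw [h]
  exact (Submodule.comapSubtypeEquivOfLe hle).length_eq

lemma length_X₂ :
    Module.length A S.X₂ = Module.length A S.homology +
      Module.length A (LinearMap.range S.f.hom) + Module.length A (LinearMap.range S.g.hom) := by
  have h1 : Module.length A S.X₂ = Module.length A (LinearMap.ker S.g.hom) +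
      Module.length A (LinearMap.range S.g.hom) :=
    Module.length_eq_add_of_exact (LinearMap.ker S.g.hom).subtype S.g.hom.rangeRestrict
      (Submodule.subtype_injective _) (LinearMap.surjective_rangeRestrict _) (by
        intro x
        constructor
        · intro hx
          refine ⟨⟨x, ?_⟩, rfl⟩
          have := congrArg Subtype.val hx
          simpa using this
        · rintro ⟨y, rfl⟩
          apply Subtype.ext
          simpa using y.2)
  have h2 : Module.length A (LinearMap.ker S.g.hom) =
      Module.length A (LinearMap.range S.moduleCatToCycles) +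
        Module.length A (LinearMap.ker S.g.hom ⧸ LinearMap.range S.moduleCatToCycles) :=
    Module.length_eq_add_of_exact (LinearMap.range S.moduleCatToCycles).subtype
      (LinearMap.range S.moduleCatToCycles).mkQ (Submodule.subtype_injective _)
      (Submodule.mkQ_surjective _) (LinearMap.exact_subtype_mkQ _)
  have h4 : Module.length A S.homology =
      Module.length A (LinearMap.ker S.g.hom ⧸ LinearMap.range S.moduleCatToCycles) :=
    (S.moduleCatHomologyIso.toLinearEquiv).length_eq
  rw [h1, h2, length_range_toCycles, h4]
  rw [add_comm (Module.length A (LinearMap.range S.f.hom))]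

end SC


section Cx

variable {v : ℤ × ℤ} (K : HomologicalComplex (ModuleCat.{u} A) (ComplexShape.up' v))

/-- rank (length of the image) of the differential from `i` to `j` -/
noncomputable def rk (i j : ℤ × ℤ) : ℕ := (Module.length A (LinearMap.range (K.d i j).hom)).toNat

lemma next_eq (pq : ℤ × ℤ) : (ComplexShape.up' v).next pq = pq + v :=
  (ComplexShape.up' v).next_eq' rfl

lemma prev_eq (pq : ℤ × ℤ) : (ComplexShape.up' v).prev pq = pq - v :=
  (ComplexShape.up' v).prev_eq' (show pq - v + v = pq by simp)

variable (hfl : ∀ pq, IsFiniteLength A (K.X pq))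

include hfl in
lemma length_X_eq (pq : ℤ × ℤ) :
    (Module.length A (K.X pq)).toNat = (Module.length A (K.homology pq)).toNat +
      rk K (pq - v) pq + rk K pq (pq + v) := by
  have h := length_X₂ (K.sc pq)
  have hne : Module.length A (K.X pq) ≠ ⊤ := Module.length_ne_top_iff.mpr (hfl pq)
  change Module.length A (K.X pq) = Module.length A (K.homology pq) +
      Module.length A (LinearMap.range (K.d ((ComplexShape.up' v).prev pq) pq).hom) +
      Module.length A (LinearMap.range (K.d pq ((ComplexShape.up' v).next pq)).hom) at h
  rw [next_eq, prev_eq] at h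
  rw [h] at hne
  have h3 : Module.length A (LinearMap.range (K.d pq (pq + v)).hom) ≠ ⊤ :=
    fun h0 => hne (by rw [h0, add_top])
  have h12 : Module.length A (K.homology pq) +
      Module.length A (LinearMap.range (K.d (pq - v) pq).hom) ≠ ⊤ :=
    fun h0 => hne (by rw [h0, top_add])
  have h1 : Module.length A (K.homology pq) ≠ ⊤ := fun h0 => h12 (by rw [h0, top_add])
  have h2 : Module.length A (LinearMap.range (K.d (pq - v) pq).hom) ≠ ⊤ :=
    fun h0 => h12 (by rw [h0, add_top])
  rw [h, ENat.toNat_add h12 h3, ENat.toNat_add h1 h2]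
  rfl

lemma rk_eq_zero_left {i j : ℤ × ℤ} (h : Subsingleton (K.X i)) : rk K i j = 0 := by
  unfold rk
  have : Subsingleton (LinearMap.range (K.d i j).hom) := by
    constructor
    rintro ⟨_, x, rfl⟩ ⟨_, y, rfl⟩
    rw [Subsingleton.elim x y]
  rw [Module.length_eq_zero]
  rfl

lemma rk_eq_zero_right {i j : ℤ × ℤ} (h : Subsingleton (K.X j)) : rk K i j = 0 := by
  unfold rk
  have : Subsingleton (LinearMap.range (K.d i j).hom) := by
    constructor
    rintro ⟨x, _⟩ ⟨y, _⟩
    exact Subtype.ext (Subsingleton.elim x y)
  rw [Module.length_eq_zero]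
  rfl

include hfl in
/-- Euler characteristic of the homology equals that of the complex. -/
lemma euler_eq (s : Finset (ℤ × ℤ)) (hs : ∀ pq, pq ∉ s → Subsingleton (K.X pq))
    (ε : ℤ × ℤ → ℤ) (hε : ∀ pq, ε (pq + v) = - ε pq) :
    (s.sum fun pq => ε pq * ((Module.length A (K.homology pq)).toNat : ℤ)) =
      s.sum fun pq => ε pq * ((Module.length A (K.X pq)).toNat : ℤ) := by
  have key : ∀ pq, ((Module.length A (K.X pq)).toNat : ℤ) =
      ((Module.length A (K.homology pq)).toNat : ℤ) + (rk K (pq - v) pq : ℤ) +
        (rk K pq (pq + v) : ℤ) := by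
    intro pq
    have := length_X_eq K hfl pq
    exact_mod_cast this
  have e1 : (s.sum fun pq => ε pq * (rk K (pq - v) pq : ℤ)) =
      ∑ᶠ pq, ε pq * (rk K (pq - v) pq : ℤ) := by
    symm
    apply finsum_eq_sum_of_support_subset
    intro pq hpq
    by_contra hn
    apply hpq
    have : rk K (pq - v) pq = 0 := rk_eq_zero_right K (hs pq hn)
    simp [this]
  have e2 : (s.sum fun pq => ε pq * (rk K pq (pq + v) : ℤ)) =
      ∑ᶠ pq, ε pq * (rk K pq (pq + v) : ℤ) := by
    symm
    apply finsum_eq_sum_of_support_subset
    intro pq hpq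
    by_contra hn
    apply hpq
    have : rk K pq (pq + v) = 0 := rk_eq_zero_left K (hs pq hn)
    simp [this]
  have e3 : (∑ᶠ pq, ε pq * (rk K (pq - v) pq : ℤ)) =
      ∑ᶠ pq, - (ε pq * (rk K pq (pq + v) : ℤ)) := by
    rw [← finsum_comp_equiv (Equiv.addRight v)]
    apply finsum_congr
    intro pq
    simp only [Equiv.coe_addRight, add_sub_cancel_right, hε]
    ring
  have : ∀ pq ∈ s, ε pq * ((Module.length A (K.X pq)).toNat : ℤ) =
      ε pq * ((Module.length A (K.homology pq)).toNat : ℤ) + ε pq * (rk K (pq - v) pq : ℤ) +
        ε pq * (rk K pq (pq + v) : ℤ) := by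
    intro pq _
    rw [key pq]
    ring
  rw [Finset.sum_congr rfl this, Finset.sum_add_distrib, Finset.sum_add_distrib, e1, e2, e3,
    finsum_neg_distrib]
  ring

lemma length_homology_le (pq : ℤ × ℤ) :
    Module.length A (K.homology pq) ≤ Module.length A (K.X pq) := by
  have h := length_X₂ (K.sc pq)
  change Module.length A (K.X pq) = Module.length A (K.homology pq) + _ + _ at h
  rw [h, add_assoc]
  exact le_self_add

include hfl in
lemma homology_isFiniteLength (pq : ℤ × ℤ) : IsFiniteLength A (K.homology pq) := by
  rw [← Module.length_ne_top_iff]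
  intro h0
  have h1 := length_homology_le K pq
  rw [h0, top_le_iff] at h1
  exact (Module.length_ne_top_iff.mpr (hfl pq)) h1

lemma homology_subsingleton (pq : ℤ × ℤ) (h : Subsingleton (K.X pq)) :
    Subsingleton (K.homology pq) := by
  rw [← Module.length_eq_zero_iff (R := A)]
  have h1 := length_homology_le K pq
  rw [Module.length_eq_zero_iff.mpr h] at h1
  exact le_antisymm h1 bot_le

end Cx

end Groth.Agent.Lib.Helper21.SSEuler
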