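import Groth.Agent.Lib.Helper21UnitFibG
import Groth.Agent.Lib.Helper21FibC
import Groth.Agent.Lib.Helper21SemicontEP
import Groth.Agent.S2380

/-!
# Helper21: semicontinuity of the Betti numbers of the fibres and local constancy of the Euler
characteristic, Noetherian affine base

* `isOpen_betti_lt_noeth`: `{s | dim H^i(X_s, F_s) < n}` is open (`X` proper over a Noetherian ring,
  `F` coherent and flat over the base);
* `isLocallyConstant_eulerChar_noeth`: the Euler characteristic of the fibres is locally constant.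
-/

set_option autoImplicit false
set_option linter.style.haveILetI false
universe u
open CategoryTheory CategoryTheory.Limits AlgebraicGeometry TensorProduct

namespace Groth.Agent.Lib.Helper21.Semicont

theorem isOpen_betti_lt_noeth (A : Type u) [CommRing A] [IsNoetherianRing A] {X : Scheme.{u}}
    (f : X ⟶ Spec (CommRingCat.of A)) [IsProper f] (F : X.Modules) (hF : Coh.IsCoh F)
    (hfl : FlatMod.IsFlatOver f F) (i n : ℕ) :
    IsOpen {s : Spec (CommRingCat.of A) | PerfAux.betti f F s i < n} := by
  letI : X.Over (Spec (CommRingCat.of A)) := ⟨f⟩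
  haveI : IsProper (X ↘ Spec (CommRingCat.of A)) := ‹IsProper f›
  obtain ⟨P, hP, -, -, hrk⟩ := Groth.Agent.Lib.Helper21.FibC.exists_complex_fib A F hF hfl
  have husc := Groth.Agent.S2380.result P (fun j => ⟨(hP j).1, by
    haveI := (hP j).2
    infer_instance⟩) (-(i : ℤ))
  have hopen : IsOpen (CohIII.dRank P (-(i : ℤ)) ⁻¹' Set.Iio n) :=
    (upperSemicontinuous_iff_isOpen_preimage.mp husc) n
  have heq : {s : Spec (CommRingCat.of A) | PerfAux.betti f F s i < n} =
      (CohIII.dRank P (-(i : ℤ)) ⁻¹' Set.Iio n : Set (PrimeSpectrum A)) := by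
    ext s
    show CohIII.fiberRank f F i s < n ↔ _
    rw [show CohIII.fiberRank f F i s = CohIII.dRank P (-(i : ℤ)) s from hrk i s]
    rfl
  rw [heq]
  exact hopen

/-- the alternating sum of the ranks of `H_{-p}(P ⊗ κ(y))` for a bounded complex of finite projective
modules is the alternating sum of the ranks of the terms -/
theorem sum_dRank_eq {A : Type u} [CommRing A] (P : ChainComplex (ModuleCat.{u} A) ℤ)
    (hP : ∀ i, Module.Finite A (P.X i) ∧ Module.Projective A (P.X i)) (N : ℕ)
    (hN : ∀ i : ℤ, 0 < i ∨ i < -(N : ℤ) → IsZero (P.X i)) (y : PrimeSpectrum A) :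
    ∑ᶠ p : ℕ, (-1 : ℤ) ^ p * (CohIII.dRank P (-(p : ℤ)) y : ℤ) =
      ∑ i ∈ Finset.range (N + 1), (-1 : ℤ) ^ i * (Module.rankAtStalk (P.X (-(i : ℤ))) y : ℤ) := by
  classical
  let κ := y.asIdeal.ResidueField
  let V : ChainComplex (ModuleCat.{u} κ) ℤ := CohIII.bcCx (algebraMap A κ) P
  have hVX : ∀ i, Module.finrank κ (V.X i) = Module.rankAtStalk (P.X i) y := by
    intro i
    haveI := (hP i).1
    haveI := (hP i).2
    rw [Module.rankAtStalk_eq y]
    exact LinearEquiv.finrank_eq (Groth.Agent.S2380.bridge A κ (P.X i))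
  have hVfin : ∀ i, Module.Finite κ (V.X i) := by
    intro i
    haveI := (hP i).1
    exact Module.Finite.equiv (Groth.Agent.S2380.bridge A κ (P.X i)).symm
  have hVz : ∀ i : ℤ, (i < -(N : ℤ) ∨ 0 < i) → IsZero (V.X i) := by
    intro i hi
    exact Functor.map_isZero (ModuleCat.extendScalars (algebraMap A κ)) (hN i hi.symm)
  have hEP := euler_poincare_chain V (-(N : ℤ)) 0 hVz hVfin
  have hH0 : ∀ i : ℤ, (i < -(N : ℤ) ∨ 0 < i) → Module.finrank κ (V.homology i) = 0 := by
    intro i hi
    have hz : IsZero (V.homology i) :=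
      (HomologicalComplex.ExactAt.of_isZero (hVz i hi)).isZero_homology
    haveI : Subsingleton (V.homology i) := ModuleCat.subsingleton_of_isZero hz
    exact Module.finrank_zero_of_subsingleton
  have hX0 : ∀ i : ℤ, (i < -(N : ℤ) ∨ 0 < i) → Module.finrank κ (V.X i) = 0 := by
    intro i hi
    haveI : Subsingleton (V.X i) := ModuleCat.subsingleton_of_isZero (hVz i hi)
    exact Module.finrank_zero_of_subsingleton
  -- both finsums over `ℤ` as sums over `range (N+1)` via `i = -p`
  have hsum : ∀ (φ : ℤ → ℤ), (∀ i : ℤ, (i < -(N : ℤ) ∨ 0 < i) → φ i = 0) →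
      ∑ᶠ i : ℤ, (i.negOnePow : ℤ) * φ i =
        ∑ p ∈ Finset.range (N + 1), (-1 : ℤ) ^ p * φ (-(p : ℤ)) := by
    intro φ hφ
    have hsupp : Function.support (fun i : ℤ => (i.negOnePow : ℤ) * φ i) ⊆
        ((Finset.range (N + 1)).image (fun p : ℕ => -(p : ℤ)) : Finset ℤ) := by
      intro i hi
      by_contra hcon
      apply hi
      have : i < -(N : ℤ) ∨ 0 < i := by
        by_contra h2
        push Not at h2
        apply hcon
        simp only [Finset.coe_image, Finset.coe_range, Set.mem_image, Set.mem_Iio]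
        exact ⟨(-i).toNat, by omega, by omega⟩
      simp [hφ i this]
    rw [finsum_eq_sum_of_support_subset _ hsupp, Finset.sum_image (by
      intro a _ b _ hab
      simpa using hab)]
    refine Finset.sum_congr rfl (fun p _ => ?_)
    congr 1
    rw [Int.negOnePow_neg]
    simp [Int.negOnePow_def]
  have h1 : ∑ᶠ p : ℕ, (-1 : ℤ) ^ p * (CohIII.dRank P (-(p : ℤ)) y : ℤ) =
      ∑ p ∈ Finset.range (N + 1), (-1 : ℤ) ^ p * (Module.finrank κ (V.homology (-(p : ℤ))) : ℤ) := by
    have hsupp : Function.support (fun p : ℕ => (-1 : ℤ) ^ p * (CohIII.dRank P (-(p : ℤ)) y : ℤ)) ⊆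
        (Finset.range (N + 1) : Finset ℕ) := by
      intro p hp
      by_contra hcon
      apply hp
      have hlt : (-(p : ℤ)) < -(N : ℤ) := by
        simp only [Finset.coe_range, Set.mem_Iio, not_lt] at hcon
        omega
      have : CohIII.dRank P (-(p : ℤ)) y = 0 := hH0 _ (Or.inl hlt)
      simp [this]
    rw [finsum_eq_sum_of_support_subset _ hsupp]
    rfl
  rw [h1, ← hsum (fun i => (Module.finrank κ (V.homology i) : ℤ)) (fun i hi => by
    simp [hH0 i hi]), hEP, hsum (fun i => (Module.finrank κ (V.X i) : ℤ)) (fun i hi => by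
    simp [hX0 i hi])]
  refine Finset.sum_congr rfl (fun p _ => ?_)
  rw [hVX]

lemma isLocallyConstant_finset_sum {X : Type*} [TopologicalSpace X] {ι : Type*} (s : Finset ι)
    (g : ι → X → ℤ) (h : ∀ i ∈ s, IsLocallyConstant (g i)) :
    IsLocallyConstant (fun x => ∑ i ∈ s, g i x) := by
  classical
  induction s using Finset.induction_on with
  | empty =>
    simp only [Finset.sum_empty]
    exact IsLocallyConstant.const (0 : ℤ)
  | insert a s ha ih =>
    have h1 : IsLocallyConstant (g a) := h a (Finset.mem_insert_self a s)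
    have h2 := ih (fun i hi => h i (Finset.mem_insert_of_mem hi))
    have := h1.add h2
    convert this using 1
    funext x
    simp [Finset.sum_insert ha]

theorem isLocallyConstant_eulerChar_noeth (A : Type u) [CommRing A] [IsNoetherianRing A]
    {X : Scheme.{u}} (f : X ⟶ Spec (CommRingCat.of A)) [IsProper f] (F : X.Modules)
    (hF : Coh.IsCoh F) (hfl : FlatMod.IsFlatOver f F) :
    IsLocallyConstant (fun s : Spec (CommRingCat.of A) => PerfAux.eulerChar f F s) := by
  letI : X.Over (Spec (CommRingCat.of A)) := ⟨f⟩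
  haveI : IsProper (X ↘ Spec (CommRingCat.of A)) := ‹IsProper f›
  obtain ⟨P, hP, ⟨N, hN⟩, -, hrk⟩ := Groth.Agent.Lib.Helper21.FibC.exists_complex_fib A F hF hfl
  have heq : (fun s : Spec (CommRingCat.of A) => PerfAux.eulerChar f F s) =
      fun y : PrimeSpectrum A => ∑ i ∈ Finset.range (N + 1),
        (-1 : ℤ) ^ i * (Module.rankAtStalk (P.X (-(i : ℤ))) y : ℤ) := by
    funext y
    rw [← sum_dRank_eq P hP N hN y]
    unfold PerfAux.eulerChar
    refine finsum_congr (fun p => ?_)
    rw [show PerfAux.betti f F y p = CohIII.dRank P (-(p : ℤ)) y from hrk p y]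
  rw [heq]
  refine isLocallyConstant_finset_sum _ _ (fun i _ => ?_)
  haveI := (hP (-(i : ℤ))).1
  haveI := (hP (-(i : ℤ))).2
  haveI : Module.FinitePresentation A (P.X (-(i : ℤ))) := Module.finitePresentation_of_projective A _
  exact (Module.isLocallyConstant_rankAtStalk (R := A) (M := P.X (-(i : ℤ)))).comp
    (fun n : ℕ => (-1 : ℤ) ^ i * (n : ℤ))

end Groth.Agent.Lib.Helper21.Semicont
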