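import Mathlib
import Groth.Agent.Lib.Helper22LimBC2
import Groth.Agent.Lib.Helper26LimDescend
import Groth.Agent.Lib.Helper6LfpComp

/-!
# Removing the quasi-compactness hypotheses on the stage in descent of properties along limits

`QcqsDescent P` is the shape of the descent statements for a cofiltered limit `S = lim S_i` with
affine transition maps when the stage `S_{i₀}`, `X₀`, `Y₀` are quasi-compact quasi-separated.
`exists_bcMor_of_compact` removes all hypotheses on the stage and on `Y₀`, assuming only `X₀`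
quasi-compact and `X₀`, `Y₀` locally of finite presentation over the stage, for properties local
at the source and target.  `iff_eventually` is the resulting "iff for some stage" statement.
-/

universe u

namespace Groth.Agent.Lib.Helper2.LimLoc

open CategoryTheory CategoryTheory.Limits AlgebraicGeometry
open Groth.Agent.Lib.Helper22.LimBC Groth.Agent.Lib.Helper26.LimDescend

/-- The shape of the qcqs descent statements (`S9192`, `S9188`, `S9191`). -/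
def QcqsDescent (P : MorphismProperty Scheme.{u}) : Prop :=
  ∀ {I : Type u} [SmallCategory I] [IsCofiltered I] (D : I ⥤ Scheme.{u}) (c : Cone D)
    (_ : IsLimit c) [∀ (i j : I) (f : i ⟶ j), IsAffineHom (D.map f)] (i₀ : I)
    [CompactSpace (D.obj i₀)] [QuasiSeparatedSpace (D.obj i₀)] {X₀ Y₀ : Scheme.{u}}
    (f₀ : X₀ ⟶ Y₀) (g₀ : Y₀ ⟶ D.obj i₀)
    [CompactSpace X₀] [QuasiSeparatedSpace X₀] [CompactSpace Y₀] [QuasiSeparatedSpace Y₀]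
    [LocallyOfFinitePresentation f₀]
    {X Y : Scheme.{u}} (f : X ⟶ Y) (g : Y ⟶ c.pt) (qY : Y ⟶ Y₀) (qX : X ⟶ X₀)
    (_ : IsPullback qY g g₀ (c.π.app i₀)) (_ : IsPullback qX f f₀ qY), P f →
    ∃ (i : I) (φ : i ⟶ i₀) (Xi Yi : Scheme.{u}) (fi : Xi ⟶ Yi) (gi : Yi ⟶ D.obj i)
      (pY : Yi ⟶ Y₀) (pX : Xi ⟶ X₀),
      IsPullback pY gi g₀ (D.map φ) ∧ IsPullback pX fi f₀ pY ∧ P fi

/-- Transfer a property of a base change given by pullback squares to the `bcMor` model. -/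
theorem bcMor_of_tuple {I : Type u} [SmallCategory I] (D : I ⥤ Scheme.{u})
    (P : MorphismProperty Scheme.{u}) [P.IsStableUnderBaseChange] {i₀ : I}
    {X₀ Y₀ : Scheme.{u}} (f₀ : X₀ ⟶ Y₀) (g₀ : Y₀ ⟶ D.obj i₀) {i : I} (φ : i ⟶ i₀)
    {Xi Yi : Scheme.{u}} (fi : Xi ⟶ Yi) (gi : Yi ⟶ D.obj i) (pY : Yi ⟶ Y₀) (pX : Xi ⟶ X₀)
    (hpY : IsPullback pY gi g₀ (D.map φ)) (hpX : IsPullback pX fi f₀ pY) (h : P fi) :
    P (bcMor D i₀ f₀ g₀ (Over.mk φ)) :=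
  of_two_pullbacks P (isPullback_bcMor D i₀ f₀ g₀ (Over.mk φ)) hpX
    (hpY.lift (dFst D i₀ g₀ (Over.mk φ)) (dSnd D i₀ g₀ (Over.mk φ))
      (d_condition D i₀ g₀ (Over.mk φ))) (hpY.lift_fst _ _ _) h

variable {I : Type u} [SmallCategory I] [IsCofiltered I] (D : I ⥤ Scheme.{u}) (c : Cone D)
  (hc : IsLimit c) [∀ (i j : I) (f : i ⟶ j), IsAffineHom (D.map f)]

include hc in
/-- Step A: descent when everything is affine and `g₀` factors through an affine open of the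
stage `D.obj i₀` (no global hypothesis on `D.obj i₀`). -/
theorem exists_bcMor_of_affine {P : MorphismProperty Scheme.{u}} [P.IsStableUnderBaseChange]
    (H : QcqsDescent P) (i₀ : I) (W : (D.obj i₀).Opens) (hW : IsAffineOpen W)
    {X₀ Y₀ : Scheme.{u}} [IsAffine X₀] [IsAffine Y₀] (f₀ : X₀ ⟶ Y₀)
    [LocallyOfFinitePresentation f₀] (g₀ : Y₀ ⟶ D.obj i₀) (hg₀ : Set.range g₀ ⊆ W)
    {X Y : Scheme.{u}} (f : X ⟶ Y) (g : Y ⟶ c.pt) (qY : Y ⟶ Y₀) (qX : X ⟶ X₀)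
    (hY : IsPullback qY g g₀ (c.π.app i₀)) (hX : IsPullback qX f f₀ qY) (hf : P f) :
    ∃ j : Over i₀, P (bcMor D i₀ f₀ g₀ j) := by
  have inst : ∀ {i j : I} (f : i ⟶ j), IsAffineHom (D.map f) := fun f => inferInstance
  let D' := opensDiagram D i₀ W
  let c' := opensCone D c i₀ W
  have hc' : IsLimit c' := isLimitOpensCone D c hc i₀ W
  let i₀' : Over i₀ := Over.mk (𝟙 i₀)
  have hW'eq : D.map (𝟙 i₀) ⁻¹ᵁ W = W := by simp
  have hW' : IsAffineOpen (D.map (𝟙 i₀) ⁻¹ᵁ W) := by rw [hW'eq]; exact hW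
  have : IsAffine (D'.obj i₀') := hW'
  -- g₀'
  have hr₀ : Set.range g₀ ⊆ Set.range (D.map (𝟙 i₀) ⁻¹ᵁ W).ι := by
    rw [Scheme.Opens.range_ι, hW'eq]; exact hg₀
  let g₀' : Y₀ ⟶ ↑(D.map (𝟙 i₀) ⁻¹ᵁ W) := IsOpenImmersion.lift (D.map (𝟙 i₀) ⁻¹ᵁ W).ι g₀ hr₀
  have hg₀' : g₀' ≫ (D.map (𝟙 i₀) ⁻¹ᵁ W).ι = g₀ := IsOpenImmersion.lift_fac _ _ _
  -- g'
  have hr : Set.range g ⊆ Set.range (c.π.app i₀ ⁻¹ᵁ W).ι := by
    rw [Scheme.Opens.range_ι]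
    rintro _ ⟨y, rfl⟩
    show (c.π.app i₀) (g y) ∈ W
    have : (c.π.app i₀) (g y) = g₀ (qY y) := by
      rw [← Scheme.Hom.comp_apply, ← Scheme.Hom.comp_apply, hY.w]
    rw [this]
    exact hg₀ ⟨_, rfl⟩
  let g' : Y ⟶ ↑(c.π.app i₀ ⁻¹ᵁ W) := IsOpenImmersion.lift (c.π.app i₀ ⁻¹ᵁ W).ι g hr
  have hg' : g' ≫ (c.π.app i₀ ⁻¹ᵁ W).ι = g := IsOpenImmersion.lift_fac _ _ _
  -- the right square
  have e₁ : c.π.app i₀ ⁻¹ᵁ W ≤ c.π.app i₀ ⁻¹ᵁ (D.map (𝟙 i₀) ⁻¹ᵁ W) := by rw [hW'eq]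
  have R : IsPullback (c.π.app i₀ ⁻¹ᵁ W).ι
      ((c.π.app i₀).resLE (D.map (𝟙 i₀) ⁻¹ᵁ W) (c.π.app i₀ ⁻¹ᵁ W) e₁) (c.π.app i₀)
      (D.map (𝟙 i₀) ⁻¹ᵁ W).ι := by
    refine (IsOpenImmersion.isPullback _ _ _ _ ?_ ?_).flip
    · simp
    · simp
  have hY' : IsPullback qY g' g₀'
      ((c.π.app i₀).resLE (D.map (𝟙 i₀) ⁻¹ᵁ W) (c.π.app i₀ ⁻¹ᵁ W) e₁) := by
    refine (IsPullback.of_right ?_ ?_ R).flip
    · rw [hg', hg₀']; exact hY.flip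
    · rw [← cancel_mono (D.map (𝟙 i₀) ⁻¹ᵁ W).ι, Category.assoc, Category.assoc, hg₀', ← R.w,
        reassoc_of% hg', hY.w]
  obtain ⟨i, φ, Xi, Yi, fi, gi, pY, pX, hpY, hpX, hfi⟩ :=
    H D' c' hc' i₀' f₀ g₀' f g' qY qX hY' hX hf
  -- the right square at stage i
  have e₂ : D.map i.hom ⁻¹ᵁ W ≤ D.map φ.left ⁻¹ᵁ (D.map (𝟙 i₀) ⁻¹ᵁ W) := by
    have hφ : φ.left ≫ 𝟙 i₀ = i.hom := Over.w φ
    rw [← Scheme.Hom.comp_preimage, ← D.map_comp, hφ]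
  have Ri : IsPullback (D.map i.hom ⁻¹ᵁ W).ι
      ((D.map φ.left).resLE (D.map (𝟙 i₀) ⁻¹ᵁ W) (D.map i.hom ⁻¹ᵁ W) e₂) (D.map φ.left)
      (D.map (𝟙 i₀) ⁻¹ᵁ W).ι := by
    refine (IsOpenImmersion.isPullback _ _ _ _ ?_ ?_).flip
    · simp
    · simp only [Scheme.Opens.opensRange_ι]
      have hφ : φ.left ≫ 𝟙 i₀ = i.hom := Over.w φ
      rw [← Scheme.Hom.comp_preimage, ← D.map_comp, hφ]
  have hpY0 : IsPullback pY gi g₀'
      ((D.map φ.left).resLE (D.map (𝟙 i₀) ⁻¹ᵁ W) (D.map i.hom ⁻¹ᵁ W) e₂) := hpY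
  have hpY' : IsPullback pY (gi ≫ (D.map i.hom ⁻¹ᵁ W).ι) g₀ (D.map φ.left) := by
    have := hpY0.paste_vert Ri.flip
    rwa [hg₀'] at this
  exact ⟨Over.mk φ.left, bcMor_of_tuple D P f₀ g₀ φ.left fi _ pY pX hpY' hpX hfi⟩

/-- Restricting a pullback square to opens of the bottom row. -/
theorem isPullback_resLE {X Y X₀ Y₀ : Scheme.{u}} {qX : X ⟶ X₀} {f : X ⟶ Y} {f₀ : X₀ ⟶ Y₀}
    {qY : Y ⟶ Y₀} (hX : IsPullback qX f f₀ qY) (U : X₀.Opens) (V : Y₀.Opens)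
    (e : U ≤ f₀ ⁻¹ᵁ V) (e' : qX ⁻¹ᵁ U ≤ f ⁻¹ᵁ qY ⁻¹ᵁ V) :
    IsPullback (qX ∣_ U) (f.resLE (qY ⁻¹ᵁ V) (qX ⁻¹ᵁ U) e') (f₀.resLE V U e) (qY ∣_ V) := by
  refine (IsPullback.of_right ?_ ?_ (isPullback_morphismRestrict qY V).flip).flip
  · rw [Scheme.Hom.resLE_comp_ι, Scheme.Hom.resLE_comp_ι]
    exact (isPullback_morphismRestrict qX U).flip.paste_horiz hX.flip
  · rw [← cancel_mono V.ι]
    simp only [Category.assoc, morphismRestrict_ι, Scheme.Hom.resLE_comp_ι,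
      Scheme.Hom.resLE_comp_ι_assoc, morphismRestrict_ι_assoc]
    rw [hX.w]

theorem preimage_le_of_isPullback {X Y X₀ Y₀ : Scheme.{u}} {qX : X ⟶ X₀} {f : X ⟶ Y}
    {f₀ : X₀ ⟶ Y₀} {qY : Y ⟶ Y₀} (hX : IsPullback qX f f₀ qY) (U : X₀.Opens) (V : Y₀.Opens)
    (e : U ≤ f₀ ⁻¹ᵁ V) : qX ⁻¹ᵁ U ≤ f ⁻¹ᵁ qY ⁻¹ᵁ V := by
  rw [← Scheme.Hom.comp_preimage, ← hX.w, Scheme.Hom.comp_preimage]
  exact fun x hx => e hx

include hc in
/-- Step B: descent for `X₀` quasi-compact, `X₀`, `Y₀` locally of finite presentation over the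
stage; no hypothesis on the stage. -/
theorem exists_bcMor_of_compact {P : MorphismProperty Scheme.{u}} [P.IsStableUnderBaseChange]
    [P.IsStableUnderComposition] [IsZariskiLocalAtSource P] [IsZariskiLocalAtTarget P]
    (hOI : ∀ {A B : Scheme.{u}} (j : A ⟶ B) [IsOpenImmersion j], P j)
    (H : QcqsDescent P) (i₀ : I) {X₀ Y₀ : Scheme.{u}} (f₀ : X₀ ⟶ Y₀) (g₀ : Y₀ ⟶ D.obj i₀)
    [LocallyOfFinitePresentation g₀] [LocallyOfFinitePresentation (f₀ ≫ g₀)]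
    [CompactSpace X₀]
    {X Y : Scheme.{u}} (f : X ⟶ Y) (g : Y ⟶ c.pt) (qY : Y ⟶ Y₀) (qX : X ⟶ X₀)
    (hY : IsPullback qY g g₀ (c.π.app i₀)) (hX : IsPullback qX f f₀ qY) (hf : P f) :
    ∃ j : Over i₀, P (bcMor D i₀ f₀ g₀ j) := by
  classical
  have hf₀ : LocallyOfFinitePresentation f₀ :=
    Groth.Agent.Lib.Helper6.locallyOfFinitePresentation_of_comp (g := g₀) inferInstance
      inferInstance
  -- choice of affine opens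
  have hloc : ∀ x : X₀, ∃ (W : (D.obj i₀).Opens) (V : Y₀.Opens) (U : X₀.Opens),
      IsAffineOpen W ∧ IsAffineOpen V ∧ IsAffineOpen U ∧ x ∈ U ∧ U ≤ f₀ ⁻¹ᵁ V ∧
        V ≤ g₀ ⁻¹ᵁ W := by
    intro x
    obtain ⟨_, ⟨W, hW : IsAffineOpen W, rfl⟩, hxW, -⟩ :=
      (D.obj i₀).isBasis_affineOpens.exists_subset_of_mem_open
        (Set.mem_univ (g₀ (f₀ x))) isOpen_univ
    obtain ⟨_, ⟨V, hV : IsAffineOpen V, rfl⟩, hxV, hVW⟩ :=
      Y₀.isBasis_affineOpens.exists_subset_of_mem_open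
        (show f₀ x ∈ ((g₀ ⁻¹ᵁ W : Y₀.Opens) : Set Y₀) from hxW) (g₀ ⁻¹ᵁ W).isOpen
    obtain ⟨_, ⟨U, hU : IsAffineOpen U, rfl⟩, hxU, hUV⟩ :=
      X₀.isBasis_affineOpens.exists_subset_of_mem_open
        (show x ∈ ((f₀ ⁻¹ᵁ V : X₀.Opens) : Set X₀) from hxV) (f₀ ⁻¹ᵁ V).isOpen
    exact ⟨W, V, U, hW, hV, hU, hxU, hUV, hVW⟩
  choose W V U hW hV hU hxU hUV hVW using hloc
  obtain ⟨ts, hts⟩ := isCompact_univ.elim_finite_subcover
    (fun x => ((U x : X₀.Opens) : Set X₀))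
    (fun x => (U x).isOpen) (fun x _ => Set.mem_iUnion.mpr ⟨x, hxU x⟩)
  have key : ∀ x : X₀, ∃ j : Over i₀,
      P (bcMor D i₀ (f₀.resLE (V x) (U x) (hUV x)) ((V x).ι ≫ g₀) j) := by
    intro x
    have : IsAffine ((U x : X₀.Opens) : Scheme.{u}) := hU x
    have : IsAffine ((V x : Y₀.Opens) : Scheme.{u}) := hV x
    have hlfp : LocallyOfFinitePresentation (f₀.resLE (V x) (U x) (hUV x)) :=
      IsZariskiLocalAtSource.resLE (P := @LocallyOfFinitePresentation) _ hf₀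
    have hYV : IsPullback (qY ∣_ V x) ((qY ⁻¹ᵁ V x).ι ≫ g) ((V x).ι ≫ g₀) (c.π.app i₀) :=
      (isPullback_morphismRestrict qY (V x)).paste_vert hY
    have e' := preimage_le_of_isPullback hX (U x) (V x) (hUV x)
    have hXV := isPullback_resLE hX (U x) (V x) (hUV x) e'
    refine exists_bcMor_of_affine D c hc H i₀ (W x) (hW x) _ _ ?_ _ _ _ _ hYV hXV
      (IsZariskiLocalAtSource.resLE (P := P) _ hf)
    rintro _ ⟨y, rfl⟩
    exact hVW x y.2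
  choose jx hjx using key
  obtain ⟨j, hj⟩ := IsCofiltered.inf_objs_exists (ts.image jx)
  refine ⟨j, ?_⟩
  have hcover : ⨆ x : ts, (dFst D i₀ (f₀ ≫ g₀) j) ⁻¹ᵁ U x.1 = ⊤ := by
    rw [eq_top_iff]
    intro z _
    obtain ⟨x, hxt, hz⟩ := Set.mem_iUnion₂.mp (hts (Set.mem_univ ((dFst D i₀ (f₀ ≫ g₀) j) z)))
    exact TopologicalSpace.Opens.mem_iSup.mpr ⟨⟨x, hxt⟩, hz⟩
  apply IsZariskiLocalAtSource.of_iSup_eq_top (P := P)
    (fun x : ts => (dFst D i₀ (f₀ ≫ g₀) j) ⁻¹ᵁ U x.1) hcover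
  rintro ⟨x, hxt⟩
  obtain ⟨v⟩ := hj (Finset.mem_image_of_mem jx hxt)
  have hPk : P (bcMor D i₀ (f₀.resLE (V x) (U x) (hUV x)) ((V x).ι ≫ g₀) j) :=
    P.of_isPullback (isPullback_map_bcMor D i₀ (f₀.resLE (V x) (U x) (hUV x)) ((V x).ι ≫ g₀) v)
      (hjx x)
  have hXj := isPullback_bcMor D i₀ f₀ g₀ j
  have e' := preimage_le_of_isPullback hXj (U x) (V x) (hUV x)
  have S2 := isPullback_resLE hXj (U x) (V x) (hUV x) e'
  have S1 := isPullback_bcMor D i₀ (f₀.resLE (V x) (U x) (hUV x)) ((V x).ι ≫ g₀) j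
  have hres : P ((bcMor D i₀ f₀ g₀ j).resLE ((dFst D i₀ g₀ j) ⁻¹ᵁ V x)
      ((dFst D i₀ (f₀ ≫ g₀) j) ⁻¹ᵁ U x) e') := by
    refine of_two_pullbacks P S2 S1
      (dLift j ((dFst D i₀ g₀ j) ∣_ V x) (((dFst D i₀ g₀ j) ⁻¹ᵁ V x).ι ≫ dSnd D i₀ g₀ j) ?_) ?_ hPk
    · rw [← Category.assoc, morphismRestrict_ι, Category.assoc, Category.assoc, d_condition]
    · rw [dLift_fst]
  have := P.comp_mem _ _ hres (hOI ((dFst D i₀ g₀ j) ⁻¹ᵁ V x).ι)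
  rwa [Scheme.Hom.resLE_comp_ι] at this

include hc in
/-- The "iff for some stage" statement. -/
theorem iff_eventually {P : MorphismProperty Scheme.{u}} [P.IsStableUnderBaseChange]
    [P.IsStableUnderComposition] [IsZariskiLocalAtSource P] [IsZariskiLocalAtTarget P]
    (hOI : ∀ {A B : Scheme.{u}} (j : A ⟶ B) [IsOpenImmersion j], P j)
    (H : QcqsDescent P) (i₀ : I) {X₀ Y₀ : Scheme.{u}} (f₀ : X₀ ⟶ Y₀) (g₀ : Y₀ ⟶ D.obj i₀)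
    [LocallyOfFinitePresentation g₀] [LocallyOfFinitePresentation (f₀ ≫ g₀)]
    [CompactSpace X₀]
    {X Y : Scheme.{u}} (f : X ⟶ Y) (g : Y ⟶ c.pt) (qY : Y ⟶ Y₀) (qX : X ⟶ X₀)
    (hY : IsPullback qY g g₀ (c.π.app i₀)) (hX : IsPullback qX f f₀ qY) :
    P f ↔
      ∃ (j : I) (φ : j ⟶ i₀) (Xj Yj : Scheme.{u}) (fj : Xj ⟶ Yj) (gj : Yj ⟶ D.obj j)
        (pY : Yj ⟶ Y₀) (pX : Xj ⟶ X₀),
        IsPullback pY gj g₀ (D.map φ) ∧ IsPullback pX fj f₀ pY ∧ P fj := by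
  constructor
  · intro hf
    obtain ⟨k, hk⟩ := exists_bcMor_of_compact D c hc hOI H i₀ f₀ g₀ f g qY qX hY hX hf
    exact ⟨k.left, k.hom, _, _, bcMor D i₀ f₀ g₀ k, dSnd D i₀ g₀ k, dFst D i₀ g₀ k,
      dFst D i₀ (f₀ ≫ g₀) k, isPullback_d D i₀ g₀ k, isPullback_bcMor D i₀ f₀ g₀ k, hk⟩
  · rintro ⟨j, φ, Xj, Yj, fj, gj, pY, pX, hYj, hXj, hP⟩
    have hw : qY ≫ g₀ = (g ≫ c.π.app j) ≫ D.map φ := by
      rw [Category.assoc, c.w, hY.w]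
    let u : Y ⟶ Yj := hYj.lift qY (g ≫ c.π.app j) hw
    have hu : u ≫ pY = qY := hYj.lift_fst _ _ _
    exact of_two_pullbacks P hX hXj u hu hP

end Groth.Agent.Lib.Helper2.LimLoc
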