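import Mathlib
import Groth.Agent.Lib.Helper26LimFP5
import Groth.Agent.Lib.Helper26FGZ
import Groth.Agent.Lib.Helper2LimLoc

/-!
Descending finitely presented schemes with a property over a limit (helper26), part 6.
-/

set_option autoImplicit false
set_option linter.style.haveILetI false
universe u
open CategoryTheory Limits AlgebraicGeometry

namespace Groth.Agent.Lib.Helper26.LimFP

open Groth.Agent.Lib.Helper22.LimBC Groth.Agent.Lib.Helper2.LimLoc

set_option backward.isDefEq.respectTransparency.types false in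
theorem isStableUnderBaseChange_iso :
    (MorphismProperty.isomorphisms Scheme.{u}).IsStableUnderBaseChange := inferInstance

/-- A morphism of finite presentation over `lim S_i` with a property `P` descending in the
qcqs setting has a model with property `P` over a stage. -/
theorem exists_model_of_qcqsDescent {I : Type u} [SmallCategory I] [IsCofiltered I]
    {D : I ⥤ Scheme.{u}} {c : Cone D} [∀ (i j : I) (f : i ⟶ j), IsAffineHom (D.map f)]
    [∀ i, CompactSpace (D.obj i)] [∀ i, QuasiSeparatedSpace (D.obj i)]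
    {P : MorphismProperty Scheme.{u}} [P.IsStableUnderBaseChange]
    (H : QcqsDescent P) (hc : IsLimit c) {X : Scheme.{u}} (f : X ⟶ c.pt)
    [LocallyOfFinitePresentation f] [QuasiCompact f] [QuasiSeparated f] (hf : P f) :
    ∃ (i : I) (Xi : Scheme.{u}) (fi : Xi ⟶ D.obj i) (g : X ⟶ Xi),
      LocallyOfFinitePresentation fi ∧ QuasiCompact fi ∧ QuasiSeparated fi ∧ P fi ∧
        IsPullback g f fi (c.π.app i) := by
  have inst : ∀ {i j : I} (f : i ⟶ j), IsAffineHom (D.map f) := fun f => inferInstance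
  obtain ⟨i, Xi, fi, g, h1, h2, h3, pb⟩ := desc_of_fp hc f
  have : CompactSpace Xi := QuasiCompact.compactSpace_of_compactSpace fi
  have : QuasiSeparatedSpace Xi := quasiSeparatedSpace_of_quasiSeparated fi
  have hY : IsPullback (c.π.app i) (𝟙 c.pt) (𝟙 (D.obj i)) (c.π.app i) :=
    IsPullback.id_vert (c.π.app i)
  obtain ⟨i', φ, Xi', Yi', fi', gi', pY, pX, hpY, hpX, hfi'⟩ :=
    H D c hc i fi (𝟙 (D.obj i)) f (𝟙 c.pt) (c.π.app i) g hY pb hf
  have hb : P (bcMor D i fi (𝟙 (D.obj i)) (Over.mk φ)) :=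
    bcMor_of_tuple D P fi (𝟙 (D.obj i)) φ fi' gi' pY pX hpY hpX hfi'
  have pb' : IsPullback g f (fi ≫ 𝟙 (D.obj i)) (c.π.app i) := by
    rw [Category.comp_id]; exact pb
  have := isStableUnderBaseChange_iso.{u}
  have hiso : IsIso (dSnd D i (𝟙 (D.obj i)) (Over.mk φ)) :=
    MorphismProperty.of_isPullback (P := MorphismProperty.isomorphisms Scheme.{u})
      (isPullback_d D i (𝟙 (D.obj i)) (Over.mk φ)) (inferInstanceAs (IsIso (𝟙 (D.obj i))))
  have hd : ∀ (Q : MorphismProperty Scheme.{u}) [Q.IsStableUnderBaseChange], Q fi →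
      Q (dSnd D i (fi ≫ 𝟙 (D.obj i)) (Over.mk φ)) := by
    intro Q _ hQ
    refine MorphismProperty.of_isPullback (isPullback_d D i (fi ≫ 𝟙 (D.obj i)) (Over.mk φ)) ?_
    rw [Category.comp_id]; exact hQ
  refine ⟨i', (bcDiagram D i (fi ≫ 𝟙 (D.obj i))).obj (Over.mk φ),
    dSnd D i (fi ≫ 𝟙 (D.obj i)) (Over.mk φ), bcπ i pb' (Over.mk φ),
    hd @LocallyOfFinitePresentation h1, hd @QuasiCompact h2, hd @QuasiSeparated h3, ?_,
    isPullback_bcπ i pb' (Over.mk φ)⟩
  rw [← bcMor_snd]
  exact (P.cancel_right_of_respectsIso _ _).mpr hb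

end Groth.Agent.Lib.Helper26.LimFP
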