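import Groth.Agent.Lib.Helper21UnitFibG
import Groth.Agent.Lib.Helper21FibC
import Groth.Agent.Lib.Helper26FGZ
import Groth.Agent.Lib.Helper26ModDescD
import Groth.Agent.Lib.Helper22LimBC
import Groth.Agent.Lib.Helper26FlatLimC
import Groth.Agent.Lib.Helper26LimFP6
import Groth.Agent.S2380
import Groth.Agent.Lib.Helper21SemicontA
/-!
# Helper21: semicontinuity of the Betti numbers of the fibres and local constancy of the Euler
characteristic over an arbitrary base

* `exists_noetherian_model_mod`: a proper finitely presented `X → Spec A` with a finitely presented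
  `A`-flat module descends (with properness and flatness) to a finitely generated `ℤ`-subalgebra of `A`;
* `exists_local_model`: locally on `S`, the Betti numbers of the fibres are pulled back from a family
  over a Noetherian ring;
* `isOpen_betti_lt`, `isLocallyConstant_eulerChar`.
-/

set_option autoImplicit false
set_option linter.style.haveILetI false
universe u
open CategoryTheory CategoryTheory.Limits AlgebraicGeometry

namespace Groth.Agent.Lib.Helper21.Semicont

open Groth.Agent.Lib.Helper26.FGZ Groth.Agent.Lib.Helper22.LimBC Groth.Agent.Lib.Helper26.ModDesc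
  Groth.Agent.Lib.Helper26.LimFP Groth.Agent.Lib.Helper26.FlatLim Groth.Agent.Lib.Helper2.LimLoc
  Groth.Agent.Lib.Helper26.ModLim2 Groth.Agent.Lib.Helper21.TBridge

/-- Noetherian approximation of a proper finitely presented family with a finitely presented flat
module over an affine base -/
theorem exists_noetherian_model_mod (A : CommRingCat.{u}) {X : Scheme.{u}} (u : X ⟶ Spec A)
    [IsProper u] [LocallyOfFinitePresentation u] (F : X.Modules) (hq : F.IsQuasicoherent)
    (hfp : SheafOfModules.IsFinitePresentation (R := X.ringCatSheaf) F)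
    (hfl : FlatMod.IsFlatOver u F) :
    ∃ (A₀ : CommRingCat.{u}) (φ : A₀ ⟶ A) (X₀ : Scheme.{u}) (u₀ : X₀ ⟶ Spec A₀) (p : X ⟶ X₀)
      (F₀ : X₀.Modules), IsNoetherianRing A₀ ∧ IsProper u₀ ∧ F₀.IsQuasicoherent ∧
      SheafOfModules.IsFinitePresentation (R := X₀.ringCatSheaf) F₀ ∧ FlatMod.IsFlatOver u₀ F₀ ∧
      IsPullback p u u₀ (Spec.map φ) ∧ Nonempty (F ≅ (Scheme.Modules.pullback p).obj F₀) := by
  classical
  haveI : ∀ i, CompactSpace ((specDiagram A).obj i) := fun i => inferInstance
  haveI : ∀ i, QuasiSeparatedSpace ((specDiagram A).obj i) := fun i => inferInstance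
  have hlfp : LocallyOfFinitePresentation u := inferInstance
  have hqc : QuasiCompact u := inferInstance
  have hqs : QuasiSeparated u := inferInstance
  obtain ⟨i, Xi, ui, qX, a1, a2, a3, a4, hX⟩ :=
    @exists_model_of_qcqsDescent _ _ _ (specDiagram A) (specCone A) _ _ _ _ _
      qcqsDescent_isProper (specIsLimit A) X u hlfp hqc hqs ‹IsProper u›
  haveI := a1
  haveI := a2
  haveI := a3
  haveI : IsProper ui := a4
  haveI : CompactSpace Xi := QuasiCompact.compactSpace_of_compactSpace ui
  haveI : QuasiSeparatedSpace Xi := quasiSeparatedSpace_of_quasiSeparated ui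
  haveI hD : ∀ {i j : (FGSub A)ᵒᵖ} (φ : i ⟶ j), IsAffineHom ((specDiagram A).map φ) :=
    fun φ => inferInstance
  obtain ⟨j, Fj, hFjq, hFjfp, ⟨e⟩⟩ := desc_of_compact_quasiSeparated (bcDiagram (specDiagram A) i ui)
    (bcCone i hX) (isLimitBcCone i hX (specIsLimit A)) (Over.mk (𝟙 i)) F hq hfp
  haveI := hFjq
  haveI := hFjfp
  have hsq := isPullback_bcπ (D := specDiagram A) (c := specCone A) i hX j
  haveI : LocallyOfFinitePresentation (dSnd (specDiagram A) i ui j) :=
    MorphismProperty.of_isPullback (P := @LocallyOfFinitePresentation)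
      (isPullback_d (specDiagram A) i ui j) a1
  haveI : IsProper (dSnd (specDiagram A) i ui j) :=
    MorphismProperty.of_isPullback (P := @IsProper) (isPullback_d (specDiagram A) i ui j) a4
  haveI : CompactSpace ((bcDiagram (specDiagram A) i ui).obj j) :=
    QuasiCompact.compactSpace_of_compactSpace (dSnd (specDiagram A) i ui j)
  have H : FlatMod.IsFlatOver u ((Scheme.Modules.pullback (bcπ (D := specDiagram A) (c := specCone A) i hX j)).obj Fj) :=
    isFlatOver_of_iso u e.symm hfl
  obtain ⟨k, hk⟩ := exists_stage_isFlatOver (specDiagram A) (specCone A) (specIsLimit A) j.left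
    (dSnd (specDiagram A) i ui j) Fj hsq H
  have hflk := hk k (𝟙 k) (pullback.fst (dSnd (specDiagram A) i ui j) ((specDiagram A).map k.hom))
    (pullback.snd _ _) (IsPullback.of_hasPullback _ _)
  have hw0 : (specCone A).π.app k.left ≫ (specDiagram A).map k.hom = (specCone A).π.app j.left :=
    (specCone A).w k.hom
  have hw : bcπ (D := specDiagram A) (c := specCone A) i hX j ≫ dSnd (specDiagram A) i ui j =
      (u ≫ (specCone A).π.app k.left) ≫ (specDiagram A).map k.hom := by
    rw [bcπ_snd, Category.assoc]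
    exact congrArg (fun t => u ≫ t) hw0.symm
  let p : X ⟶ pullback (dSnd (specDiagram A) i ui j) ((specDiagram A).map k.hom) :=
    pullback.lift (bcπ (D := specDiagram A) (c := specCone A) i hX j) (u ≫ (specCone A).π.app k.left) hw
  have hp1 : p ≫ pullback.fst _ _ = bcπ (D := specDiagram A) (c := specCone A) i hX j := pullback.lift_fst _ _ _
  have hp2 : p ≫ pullback.snd _ _ = u ≫ (specCone A).π.app k.left := pullback.lift_snd _ _ _
  have hsq' : IsPullback p u (pullback.snd (dSnd (specDiagram A) i ui j) ((specDiagram A).map k.hom))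
      ((specCone A).π.app k.left) := by
    refine IsPullback.of_right ?_ hp2 (IsPullback.of_hasPullback _ _)
    rw [hp1]
    have key : ∀ t : (specCone A).pt ⟶ (specDiagram A).obj j.left,
        t = (specCone A).π.app j.left →
        IsPullback (bcπ (D := specDiagram A) (c := specCone A) i hX j) u
          (dSnd (specDiagram A) i ui j) t := by
      rintro t rfl
      exact hsq
    exact key _ hw0
  have hnoeth : IsNoetherianRing k.left.unop.1 := by
    haveI : Algebra.FiniteType ℤ k.left.unop.1 :=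
      (Subalgebra.fg_iff_finiteType k.left.unop.1).mp k.left.unop.2
    exact Algebra.FiniteType.isNoetherianRing ℤ _
  refine ⟨CommRingCat.of k.left.unop.1, CommRingCat.ofHom (algebraMap k.left.unop.1 A), _,
    pullback.snd (dSnd (specDiagram A) i ui j) ((specDiagram A).map k.hom), p,
    (Scheme.Modules.pullback (pullback.fst _ _)).obj Fj, hnoeth,
    MorphismProperty.pullback_snd (P := @IsProper) _ _ inferInstance,
    Groth.Agent.Lib.Helper2.PullbackSec.isQuasicoherent_pullback _ _,
    Groth.Agent.Helper18Strict.isFP_pullback _ Fj hFjfp, hflk, hsq', ⟨?_⟩⟩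
  exact e.symm ≪≫ (Scheme.Modules.pullbackCongr hp1.symm).app Fj ≪≫
    ((Scheme.Modules.pullbackComp p (pullback.fst _ _)).app Fj).symm


/-- the Betti numbers of the fibres only depend on the isomorphism class of the module -/
theorem betti_congr_iso {X S : Scheme.{u}} (f : X ⟶ S) {F G : X.Modules} (e : F ≅ G) (s : S) (i : ℕ) :
    PerfAux.betti f F s i = PerfAux.betti f G s i := by
  letI : (f.fiber s).Over (Spec (CommRingCat.of (S.residueField s))) :=
    ⟨f.fiberToSpecResidueField s⟩
  exact LinearEquiv.finrank_eq (Groth.Agent.Lib.Helper17.StalkBC.hhEquiv (S.residueField s)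
    ((Scheme.Modules.pullback (f.fiberι s)).mapIso e) i)

theorem eulerChar_congr {X S X' S' : Scheme.{u}} (f : X ⟶ S) (F : X.Modules) (f' : X' ⟶ S')
    (F' : X'.Modules) (s : S) (s' : S') (h : ∀ i, PerfAux.betti f F s i = PerfAux.betti f' F' s' i) :
    PerfAux.eulerChar f F s = PerfAux.eulerChar f' F' s' := by
  unfold PerfAux.eulerChar
  exact finsum_congr (fun i => by rw [h i])

/-- locally on the base, the Betti numbers of the fibres of a proper finitely presented family with a
finitely presented flat module are pulled back from a family over a Noetherian ring -/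
theorem exists_local_model {X S : Scheme.{u}} (f : X ⟶ S) [IsProper f]
    [LocallyOfFinitePresentation f] (F : X.Modules) (hF : CohB1.IsFP F)
    (hflat : FlatMod.IsFlatOver f F) (s : S) :
    ∃ (T : Scheme.{u}) (j : T ⟶ S) (_ : IsOpenImmersion j) (t : T) (_ : j t = s)
      (A₀ : Type u) (_ : CommRing A₀) (_ : IsNoetherianRing A₀) (X₀ : Scheme.{u})
      (f₀ : X₀ ⟶ Spec (CommRingCat.of A₀)) (_ : IsProper f₀) (F₀ : X₀.Modules) (_ : Coh.IsCoh F₀)
      (_ : FlatMod.IsFlatOver f₀ F₀) (g : T ⟶ Spec (CommRingCat.of A₀)),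
      ∀ (q : T) (i : ℕ), PerfAux.betti f F (j q) i = PerfAux.betti f₀ F₀ (g q) i := by
  haveI hq : F.IsQuasicoherent := Groth.Agent.Helper18Strict.isQCoh_of_isFP F hF
  obtain ⟨U, hU, hsU, -⟩ := exists_isAffineOpen_mem_and_subset (x := s) (U := (⊤ : S.Opens)) trivial
  let g : Spec Γ(S, U) ⟶ S := hU.fromSpec
  have hsr : s ∈ Set.range g := by
    rw [hU.range_fromSpec]
    exact hsU
  obtain ⟨t, ht⟩ := hsr
  have hsq : IsPullback (pullback.fst f g) (pullback.snd f g) f g := IsPullback.of_hasPullback f g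
  let F' : (pullback f g).Modules := (Scheme.Modules.pullback (pullback.fst f g)).obj F
  have hq' : F'.IsQuasicoherent :=
    Groth.Agent.Lib.Helper2.PullbackSec.isQuasicoherent_pullback _ _
  have hfp' : SheafOfModules.IsFinitePresentation (R := (pullback f g).ringCatSheaf) F' :=
    Groth.Agent.Helper18Strict.isFP_pullback _ F hF
  have hfl' : FlatMod.IsFlatOver (pullback.snd f g) F' := fun x' =>
    Groth.Agent.S1391.result f _ (pullback.fst f g) g hsq F hq x' (hflat _)
  obtain ⟨A₀, φ, X₀, u₀, p₀, F₀, hA₀, hu₀, hq₀, hfp₀, hfl₀, hsq₀, ⟨e₀⟩⟩ :=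
    exists_noetherian_model_mod Γ(S, U) (pullback.snd f g) F' hq' hfp' hfl'
  haveI := hq₀
  haveI := hu₀
  refine ⟨Spec Γ(S, U), g, inferInstance, t, ht, A₀, inferInstance, hA₀, X₀, u₀, hu₀, F₀,
    ⟨hq₀, Groth.Agent.Helper18Strict.isFT_of_isFP F₀ hfp₀⟩, hfl₀, Spec.map φ, fun q i => ?_⟩
  rw [← betti_baseChange f g (pullback.fst f g) (pullback.snd f g) hsq F q i,
    ← betti_baseChange u₀ (Spec.map φ) p₀ (pullback.snd f g) hsq₀ F₀ q i]
  exact betti_congr_iso _ e₀ q i

/-- **upper semicontinuity of the Betti numbers of the fibres** (non-Noetherian base) -/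
theorem isOpen_betti_lt {X S : Scheme.{u}} (f : X ⟶ S) [IsProper f]
    [LocallyOfFinitePresentation f] (F : X.Modules) (hF : CohB1.IsFP F)
    (hflat : FlatMod.IsFlatOver f F) (i n : ℕ) :
    IsOpen {s : S | PerfAux.betti f F s i < n} := by
  rw [isOpen_iff_forall_mem_open]
  intro s hs
  obtain ⟨T, j, hj, t, rfl, A₀, _, hA₀, X₀, f₀, hf₀, F₀, hF₀, hfl₀, g, hg⟩ :=
    exists_local_model f F hF hflat s
  refine ⟨j '' (g ⁻¹' {y | PerfAux.betti f₀ F₀ y i < n}), ?_, ?_, ?_⟩
  · rintro _ ⟨q, hq, rfl⟩
    show PerfAux.betti f F (j q) i < n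
    rw [hg]
    exact hq
  · exact j.isOpenEmbedding.isOpenMap _
      ((isOpen_betti_lt_noeth A₀ f₀ F₀ hF₀ hfl₀ i n).preimage g.continuous)
  · refine ⟨t, ?_, rfl⟩
    show PerfAux.betti f₀ F₀ (g t) i < n
    rw [← hg]
    exact hs

/-- **local constancy of the Euler characteristic of the fibres** (non-Noetherian base) -/
theorem isLocallyConstant_eulerChar {X S : Scheme.{u}} (f : X ⟶ S) [IsProper f]
    [LocallyOfFinitePresentation f] (F : X.Modules) (hF : CohB1.IsFP F)
    (hflat : FlatMod.IsFlatOver f F) :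
    IsLocallyConstant (fun s : S => PerfAux.eulerChar f F s) := by
  rw [IsLocallyConstant.iff_exists_open]
  intro s
  obtain ⟨T, j, hj, t, rfl, A₀, _, hA₀, X₀, f₀, hf₀, F₀, hF₀, hfl₀, g, hg⟩ :=
    exists_local_model f F hF hflat s
  have hlc := isLocallyConstant_eulerChar_noeth A₀ f₀ F₀ hF₀ hfl₀
  obtain ⟨V, hV, htV, hVc⟩ := (IsLocallyConstant.iff_exists_open _).mp hlc (g t)
  refine ⟨j '' (g ⁻¹' V), j.isOpenEmbedding.isOpenMap _ (hV.preimage g.continuous),
    ⟨t, htV, rfl⟩, ?_⟩
  rintro _ ⟨q, hq, rfl⟩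
  rw [eulerChar_congr f F f₀ F₀ (j q) (g q) (hg q), eulerChar_congr f F f₀ F₀ (j t) (g t) (hg t)]
  exact hVc (g q) hq

end Groth.Agent.Lib.Helper21.Semicont
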