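import Mathlib

/-!
# A Serre functor is triangulated (Bondal–Kapranov), helper21
-/

set_option autoImplicit false
universe w v u
open CategoryTheory CategoryTheory.Limits CategoryTheory.Pretriangulated

namespace Groth.Agent.Lib.Helper21.Serre

section LinAlg

variable {k : Type w} [Field k] {U V W : Type*} [AddCommGroup U] [Module k U]
  [AddCommGroup V] [Module k V] [AddCommGroup W] [Module k W]

lemma exists_dual_extension (α : U →ₗ[k] W) (β : V →ₗ[k] W) (l : Module.Dual k U)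
    (μ : Module.Dual k V) (h : ∀ a b, α a = β b → l a = μ b) :
    ∃ Λ : Module.Dual k W, (∀ a, Λ (α a) = l a) ∧ (∀ b, Λ (β b) = μ b) := by
  let γ : U × V →ₗ[k] W := α.coprod (-β)
  let ν : Module.Dual k (U × V) := l.coprod (-μ)
  have hν : ν ∈ (LinearMap.ker γ).dualAnnihilator := by
    rw [Submodule.mem_dualAnnihilator]
    rintro ⟨a, b⟩ hab
    have hab' : α a = β b := by
      have : α a + -(β b) = 0 := by simpa [γ] using hab
      rwa [← sub_eq_add_neg, sub_eq_zero] at this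
    simp [ν, h a b hab']
  rw [← LinearMap.range_dualMap_eq_dualAnnihilator_ker] at hν
  obtain ⟨Λ, hΛ⟩ := hν
  refine ⟨Λ, fun a => ?_, fun b => ?_⟩
  · have := LinearMap.congr_fun hΛ (a, 0)
    simpa [γ, ν] using this
  · have := LinearMap.congr_fun hΛ (0, b)
    simpa [γ, ν] using this

end LinAlg

variable {k : Type w} [Field k]
    {T : Type u} [Category.{v} T] [Preadditive T] [Linear k T] [HasZeroObject T] [HasShift T ℤ]
    [∀ n : ℤ, (shiftFunctor T n).Additive] [∀ n : ℤ, (shiftFunctor T n).Linear k]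
    [Pretriangulated T]
    [IsTriangulated T] [∀ X Y : T, Module.Finite k (X ⟶ Y)]
    (S : T ≌ T) [S.functor.Additive] [S.functor.Linear k]
    (c : ∀ X Y : T, (X ⟶ Y) ≃ₗ[k] Module.Dual k (Y ⟶ S.functor.obj X))
    (hc₁ : ∀ (X Y Y' : T) (f : X ⟶ Y) (g : Y ⟶ Y'),
      c X Y' (f ≫ g) = (c X Y f) ∘ₗ Linear.leftComp k (S.functor.obj X) g)
    (hc₂ : ∀ (X' X Y : T) (a : X' ⟶ X) (f : X ⟶ Y),
      c X' Y (a ≫ f) = (c X Y f) ∘ₗ Linear.rightComp k Y (S.functor.map a))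

include hc₁ in
lemma c_comp₁ {X Y Y' : T} (f : X ⟶ Y) (g : Y ⟶ Y') (m : Y' ⟶ S.functor.obj X) :
    c X Y' (f ≫ g) m = c X Y f (g ≫ m) := by
  rw [hc₁]
  rfl

include hc₂ in
lemma c_comp₂ {X' X Y : T} (a : X' ⟶ X) (f : X ⟶ Y) (m : Y ⟶ S.functor.obj X') :
    c X' Y (a ≫ f) m = c X Y f (m ≫ S.functor.map a) := by
  rw [hc₂]
  rfl

/-- the trace -/
def tr (X : T) : Module.Dual k (X ⟶ S.functor.obj X) := c X X (𝟙 X)

include hc₁ in
lemma c_eq_tr₁ {X Y : T} (f : X ⟶ Y) (m : Y ⟶ S.functor.obj X) :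
    c X Y f m = tr S c X (f ≫ m) := by
  have := c_comp₁ S c hc₁ (𝟙 X) f m
  rwa [Category.id_comp] at this

include hc₂ in
lemma c_eq_tr₂ {X Y : T} (f : X ⟶ Y) (m : Y ⟶ S.functor.obj X) :
    c X Y f m = tr S c Y (m ≫ S.functor.map f) := by
  have := c_comp₂ S c hc₂ f (𝟙 Y) m
  rwa [Category.comp_id] at this

lemma ext_of_c {X Z : T} (m m' : Z ⟶ S.functor.obj X)
    (h : ∀ u : X ⟶ Z, c X Z u m = c X Z u m') : m = m' := by
  rw [← sub_eq_zero, ← Module.forall_dual_apply_eq_zero_iff k]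
  intro φ
  obtain ⟨u, rfl⟩ := (c X Z).surjective φ
  rw [map_sub, h u, sub_self]

lemma exists_of_dual {X Z : T} (l : Module.Dual k (X ⟶ Z)) :
    ∃ m : Z ⟶ S.functor.obj X, ∀ u, c X Z u m = l u := by
  let Λ : Module.Dual k (Module.Dual k (Z ⟶ S.functor.obj X)) :=
    l ∘ₗ (c X Z).symm.toLinearMap
  refine ⟨(Module.evalEquiv k _).symm Λ, fun u => ?_⟩
  rw [Module.apply_evalEquiv_symm_apply]
  simp [Λ]

/-- shifting morphisms, as a linear equivalence -/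
noncomputable def shE (X Y : T) : (X ⟶ Y) ≃ₗ[k] (X⟦(1 : ℤ)⟧ ⟶ Y⟦(1 : ℤ)⟧) :=
  LinearEquiv.ofBijective ((shiftFunctor T (1 : ℤ)).mapLinearMap k)
    ⟨(shiftFunctor T (1 : ℤ)).map_injective, (shiftFunctor T (1 : ℤ)).map_surjective⟩

lemma shE_apply {X Y : T} (v : X ⟶ Y) : shE (k := k) X Y v = v⟦(1 : ℤ)⟧' := rfl

lemma exists_eta (X : T) :
    ∃ m : (S.functor.obj X)⟦(1 : ℤ)⟧ ⟶ S.functor.obj (X⟦(1 : ℤ)⟧),
      ∀ v : X ⟶ S.functor.obj X, c _ _ (v⟦(1 : ℤ)⟧') m = - tr S c X v := by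
  obtain ⟨m, hm⟩ := exists_of_dual S c (X := X⟦(1 : ℤ)⟧) (Z := (S.functor.obj X)⟦(1 : ℤ)⟧)
    (-(tr S c X ∘ₗ (shE (k := k) X (S.functor.obj X)).symm.toLinearMap))
  refine ⟨m, fun v => ?_⟩
  rw [hm, ← shE_apply (k := k)]
  simp

/-- the comparison `(S X)[1] ⟶ S (X[1])` -/
noncomputable def eta (X : T) : (S.functor.obj X)⟦(1 : ℤ)⟧ ⟶ S.functor.obj (X⟦(1 : ℤ)⟧) :=
  (exists_eta S c X).choose

lemma eta_spec (X : T) (v : X ⟶ S.functor.obj X) :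
    c _ _ (v⟦(1 : ℤ)⟧') (eta S c X) = - tr S c X v :=
  (exists_eta S c X).choose_spec v

include hc₁ in
lemma c_shift_eta {X Z' : T} (u' : X ⟶ Z') (t' : Z' ⟶ S.functor.obj X) :
    c (X⟦(1 : ℤ)⟧) (Z'⟦(1 : ℤ)⟧) (u'⟦(1 : ℤ)⟧') (t'⟦(1 : ℤ)⟧' ≫ eta S c X) = - c X Z' u' t' := by
  rw [← c_comp₁ S c hc₁, ← CategoryTheory.Functor.map_comp, eta_spec, c_eq_tr₁ S c hc₁]

include hc₁ hc₂ in
lemma eta_naturality {X X' : T} (a : X ⟶ X') :
    (S.functor.map a)⟦(1 : ℤ)⟧' ≫ eta S c X' = eta S c X ≫ S.functor.map (a⟦(1 : ℤ)⟧') := by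
  apply ext_of_c S c
  intro u
  obtain ⟨v, rfl⟩ := (shiftFunctor T (1 : ℤ)).map_surjective u
  rw [← c_comp₁ S c hc₁, ← CategoryTheory.Functor.map_comp, eta_spec,
    ← c_comp₂ S c hc₂, ← CategoryTheory.Functor.map_comp, eta_spec,
    ← c_eq_tr₂ S c hc₂ a v, c_eq_tr₁ S c hc₁]

include hc₁ in
lemma isIso_eta (X : T) : IsIso (eta S c X) := by
  apply isIso_of_yoneda_map_bijective
  intro W
  let W' := (shiftFunctor T (1 : ℤ)).objPreimage W
  let i : W'⟦(1 : ℤ)⟧ ≅ W := (shiftFunctor T (1 : ℤ)).objObjPreimageIso W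
  constructor
  · intro x₁ x₂ hx
    dsimp at hx
    obtain ⟨t₁, ht₁⟩ := (shiftFunctor T (1 : ℤ)).map_surjective (i.hom ≫ x₁)
    obtain ⟨t₂, ht₂⟩ := (shiftFunctor T (1 : ℤ)).map_surjective (i.hom ≫ x₂)
    have ht : t₁ = t₂ := by
      apply ext_of_c S c
      intro u'
      have h1 := c_shift_eta S c hc₁ u' t₁
      have h2 := c_shift_eta S c hc₁ u' t₂
      have h3 : t₁⟦(1 : ℤ)⟧' ≫ eta S c X = t₂⟦(1 : ℤ)⟧' ≫ eta S c X := by
        rw [ht₁, ht₂, Category.assoc, Category.assoc, hx]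
      rw [h3] at h1
      exact neg_injective (h1.symm.trans h2)
    rw [← cancel_epi i.hom, ← ht₁, ← ht₂, ht]
  · intro s
    let l : Module.Dual k (X ⟶ W') :=
      -((Module.Dual.eval k _ (i.hom ≫ s)) ∘ₗ (c (X⟦(1 : ℤ)⟧) (W'⟦(1 : ℤ)⟧)).toLinearMap ∘ₗ
        (shE (k := k) X W').toLinearMap)
    obtain ⟨t', ht'⟩ := exists_of_dual S c l
    refine ⟨i.inv ≫ t'⟦(1 : ℤ)⟧', ?_⟩
    dsimp
    rw [← cancel_epi i.hom, Category.assoc, Iso.hom_inv_id_assoc]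
    apply ext_of_c S c
    intro u
    obtain ⟨u', rfl⟩ := (shiftFunctor T (1 : ℤ)).map_surjective u
    rw [c_shift_eta S c hc₁, ht']
    simp [l, shE_apply]

omit [∀ X Y : T, Module.Finite k (X ⟶ Y)] [S.functor.Linear k] [Linear k T]
  [∀ n : ℤ, (shiftFunctor T n).Linear k] in
/-- exactness of the image under `S` of a distinguished triangle, at the middle -/
lemma exact₂ (T' : Triangle T) (hT' : T' ∈ distTriang T) {W : T}
    (y : W ⟶ S.functor.obj T'.obj₂) (hy : y ≫ S.functor.map T'.mor₂ = 0) :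
    ∃ z : W ⟶ S.functor.obj T'.obj₁, y = z ≫ S.functor.map T'.mor₁ := by
  let W' := S.functor.objPreimage W
  let i : S.functor.obj W' ≅ W := S.functor.objObjPreimageIso W
  obtain ⟨y', hy'⟩ := S.functor.map_surjective (i.hom ≫ y)
  have h0 : y' ≫ T'.mor₂ = 0 := by
    apply S.functor.map_injective
    rw [S.functor.map_comp, hy', Category.assoc, hy, comp_zero, S.functor.map_zero]
  obtain ⟨z', hz'⟩ := Triangle.coyoneda_exact₂ T' hT' y' h0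
  refine ⟨i.inv ≫ S.functor.map z', ?_⟩
  rw [Category.assoc, ← S.functor.map_comp, ← hz', hy', Iso.inv_hom_id_assoc]

omit [∀ X Y : T, Module.Finite k (X ⟶ Y)] [S.functor.Linear k] [Linear k T]
  [∀ n : ℤ, (shiftFunctor T n).Linear k] in
/-- exactness of the image under `S` of a distinguished triangle, at the third object -/
lemma exact₃ (T' : Triangle T) (hT' : T' ∈ distTriang T) {W : T}
    (y : W ⟶ S.functor.obj T'.obj₃) (hy : y ≫ S.functor.map T'.mor₃ = 0) :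
    ∃ z : W ⟶ S.functor.obj T'.obj₂, y = z ≫ S.functor.map T'.mor₂ := by
  let W' := S.functor.objPreimage W
  let i : S.functor.obj W' ≅ W := S.functor.objObjPreimageIso W
  obtain ⟨y', hy'⟩ := S.functor.map_surjective (i.hom ≫ y)
  have h0 : y' ≫ T'.mor₃ = 0 := by
    apply S.functor.map_injective
    rw [S.functor.map_comp, hy', Category.assoc, hy, comp_zero, S.functor.map_zero]
  obtain ⟨z', hz'⟩ := Triangle.coyoneda_exact₃ T' hT' y' h0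
  refine ⟨i.inv ≫ S.functor.map z', ?_⟩
  rw [Category.assoc, ← S.functor.map_comp, ← hz', hy', Iso.inv_hom_id_assoc]

include hc₁ hc₂ in
lemma exists_xi (T' : Triangle T) (hT' : T' ∈ distTriang T) {C' : T}
    (φ : S.functor.obj T'.obj₂ ⟶ C') (ψ : C' ⟶ (S.functor.obj T'.obj₁)⟦(1 : ℤ)⟧)
    (hT'' : Triangle.mk (S.functor.map T'.mor₁) φ ψ ∈ distTriang T) :
    ∃ ξ : C' ⟶ S.functor.obj T'.obj₃, φ ≫ ξ = S.functor.map T'.mor₂ ∧
      ξ ≫ S.functor.map T'.mor₃ = ψ ≫ eta S c T'.obj₁ := by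
  let α : (T'.obj₃ ⟶ S.functor.obj T'.obj₂) →ₗ[k] (T'.obj₃ ⟶ C') := Linear.rightComp k _ φ
  let β : (T'.obj₁⟦(1 : ℤ)⟧ ⟶ C') →ₗ[k] (T'.obj₃ ⟶ C') := Linear.leftComp k _ T'.mor₃
  let l : Module.Dual k (T'.obj₃ ⟶ S.functor.obj T'.obj₂) :=
    (Module.Dual.eval k _ (S.functor.map T'.mor₂)) ∘ₗ (c T'.obj₃ (S.functor.obj T'.obj₂)).toLinearMap
  let μ : Module.Dual k (T'.obj₁⟦(1 : ℤ)⟧ ⟶ C') :=
    (Module.Dual.eval k _ (eta S c T'.obj₁)) ∘ₗ
      (c (T'.obj₁⟦(1 : ℤ)⟧) ((S.functor.obj T'.obj₁)⟦(1 : ℤ)⟧)).toLinearMap ∘ₗ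
        Linear.rightComp k _ ψ
  have hl : ∀ a, l a = c _ _ a (S.functor.map T'.mor₂) := fun a => rfl
  have hμ : ∀ b, μ b = c _ _ (b ≫ ψ) (eta S c T'.obj₁) := fun b => rfl
  have hcompat : ∀ a b, α a = β b → l a = μ b := by
    intro a b hab
    have hab' : T'.mor₃ ≫ b = a ≫ φ := hab.symm
    obtain ⟨c₃, hc₃, hc₃'⟩ : ∃ c₃ : T'.obj₂⟦(1 : ℤ)⟧ ⟶ (S.functor.obj T'.obj₁)⟦(1 : ℤ)⟧,
        (-T'.mor₁⟦(1 : ℤ)⟧') ≫ c₃ = b ≫ ψ ∧
        (-T'.mor₂⟦(1 : ℤ)⟧') ≫ a⟦(1 : ℤ)⟧' = c₃ ≫ (-(S.functor.map T'.mor₁)⟦(1 : ℤ)⟧') :=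
      complete_distinguished_triangle_morphism T'.rotate.rotate
        (Triangle.mk (S.functor.map T'.mor₁) φ ψ).rotate
        (rot_of_distTriang _ (rot_of_distTriang _ hT')) (rot_of_distTriang _ hT'') a b hab'
    obtain ⟨w, rfl⟩ : ∃ w : T'.obj₂ ⟶ S.functor.obj T'.obj₁, w⟦(1 : ℤ)⟧' = c₃ :=
      (shiftFunctor T (1 : ℤ)).map_surjective c₃
    have h1 : b ≫ ψ = (-(T'.mor₁ ≫ w))⟦(1 : ℤ)⟧' := by
      rw [← hc₃, Functor.map_neg, CategoryTheory.Functor.map_comp, Preadditive.neg_comp]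
    have h2 : T'.mor₂ ≫ a = w ≫ S.functor.map T'.mor₁ := by
      apply (shiftFunctor T (1 : ℤ)).map_injective
      rw [CategoryTheory.Functor.map_comp, CategoryTheory.Functor.map_comp]
      simpa using hc₃'
    rw [hl, hμ, h1, eta_spec, map_neg, neg_neg, ← c_eq_tr₁ S c hc₁,
      c_eq_tr₁ S c hc₁, ← c_eq_tr₂ S c hc₂, c_eq_tr₁ S c hc₁, h2, ← c_eq_tr₂ S c hc₂]
  obtain ⟨Λ, hΛ₁, hΛ₂⟩ := exists_dual_extension α β l μ hcompat
  obtain ⟨ξ, hξ⟩ := exists_of_dual S c Λ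
  refine ⟨ξ, ?_, ?_⟩
  · apply ext_of_c S c
    intro a
    rw [← c_comp₁ S c hc₁, hξ]
    exact hΛ₁ a
  · apply ext_of_c S c
    intro b
    rw [← c_comp₂ S c hc₂, hξ, ← c_comp₁ S c hc₁]
    exact hΛ₂ b

include hc₁ hc₂ in
lemma isIso_xi (T' : Triangle T) (hT' : T' ∈ distTriang T) {C' : T}
    (φ : S.functor.obj T'.obj₂ ⟶ C') (ψ : C' ⟶ (S.functor.obj T'.obj₁)⟦(1 : ℤ)⟧)
    (hT'' : Triangle.mk (S.functor.map T'.mor₁) φ ψ ∈ distTriang T)
    (ξ : C' ⟶ S.functor.obj T'.obj₃) (h₁ : φ ≫ ξ = S.functor.map T'.mor₂)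
    (h₂ : ξ ≫ S.functor.map T'.mor₃ = ψ ≫ eta S c T'.obj₁) : IsIso ξ := by
  have hη := isIso_eta S c hc₁
  apply isIso_of_yoneda_map_bijective
  intro W
  constructor
  · intro x₁ x₂ hx
    dsimp at hx
    rw [← sub_eq_zero]
    have hx' : (x₁ - x₂) ≫ ξ = 0 := by rw [Preadditive.sub_comp, hx, sub_self]
    generalize x₁ - x₂ = x at hx'
    have h3 : x ≫ ψ = 0 := by
      have : (x ≫ ψ) ≫ eta S c T'.obj₁ = 0 := by
        rw [Category.assoc, ← h₂, reassoc_of% hx', zero_comp]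
      have := hη T'.obj₁
      rwa [← cancel_mono (eta S c T'.obj₁), zero_comp]
    obtain ⟨y, hy⟩ : ∃ y : W ⟶ S.functor.obj T'.obj₂, x = y ≫ φ :=
      Triangle.coyoneda_exact₃ _ hT'' x h3
    have h4 : y ≫ S.functor.map T'.mor₂ = 0 := by
      rw [← h₁, ← Category.assoc, ← hy, hx']
    obtain ⟨z, hz⟩ := exact₂ S T' hT' y h4
    rw [hy, hz, Category.assoc]
    have : S.functor.map T'.mor₁ ≫ φ = 0 := comp_distTriang_mor_zero₁₂ _ hT''
    rw [this, comp_zero]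
  · intro x
    dsimp
    have := hη T'.obj₁
    have := hη T'.obj₂
    have h3 : (x ≫ S.functor.map T'.mor₃ ≫ inv (eta S c T'.obj₁)) ≫
        (S.functor.map T'.mor₁)⟦(1 : ℤ)⟧' = 0 := by
      have hnat := eta_naturality S c hc₁ hc₂ T'.mor₁
      have hnat' : inv (eta S c T'.obj₁) ≫ (S.functor.map T'.mor₁)⟦(1 : ℤ)⟧' =
          S.functor.map (T'.mor₁⟦(1 : ℤ)⟧') ≫ inv (eta S c T'.obj₂) := by
        rw [IsIso.eq_comp_inv, Category.assoc, hnat, IsIso.inv_hom_id_assoc]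
      rw [Category.assoc, Category.assoc, hnat', ← S.functor.map_comp_assoc,
        comp_distTriang_mor_zero₃₁ _ hT', S.functor.map_zero, zero_comp, comp_zero]
    obtain ⟨y, hy⟩ : ∃ y : W ⟶ C',
        x ≫ S.functor.map T'.mor₃ ≫ inv (eta S c T'.obj₁) = y ≫ ψ :=
      Triangle.coyoneda_exact₁ _ hT'' _ h3
    have h4 : (x - y ≫ ξ) ≫ S.functor.map T'.mor₃ = 0 := by
      rw [Preadditive.sub_comp, Category.assoc, h₂, ← reassoc_of% hy,
        IsIso.inv_hom_id, Category.comp_id, sub_self]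
    obtain ⟨z, hz⟩ := exact₃ S T' hT' _ h4
    refine ⟨y + z ≫ φ, ?_⟩
    rw [Preadditive.add_comp, Category.assoc, h₁, ← hz]
    abel

include hc₁ hc₂ in
theorem main :
    ∃ e : shiftFunctor T (1 : ℤ) ⋙ S.functor ≅ S.functor ⋙ shiftFunctor T (1 : ℤ),
      ∀ T' ∈ distTriang T,
        Triangle.mk (S.functor.map T'.mor₁) (S.functor.map T'.mor₂)
          (S.functor.map T'.mor₃ ≫ e.hom.app T'.obj₁) ∈ distTriang T := by
  have hiso := isIso_eta S c hc₁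
  let ηI : S.functor ⋙ shiftFunctor T (1 : ℤ) ≅ shiftFunctor T (1 : ℤ) ⋙ S.functor :=
    NatIso.ofComponents (fun X => @asIso _ _ _ _ (eta S c X) (hiso X))
      (fun a => eta_naturality S c hc₁ hc₂ a)
  refine ⟨ηI.symm, ?_⟩
  intro T' hT'
  obtain ⟨C', φ, ψ, hT''⟩ := distinguished_cocone_triangle (S.functor.map T'.mor₁)
  obtain ⟨ξ, h₁, h₂⟩ := exists_xi S c hc₁ hc₂ T' hT' φ ψ hT''
  have hξ := isIso_xi S c hc₁ hc₂ T' hT' φ ψ hT'' ξ h₁ h₂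
  have := hiso T'.obj₁
  refine isomorphic_distinguished _ hT'' _ (Iso.symm ?_)
  refine Triangle.isoMk _ _ (Iso.refl _) (Iso.refl _) (@asIso _ _ _ _ ξ hξ) ?_ ?_ ?_
  · exact (Category.comp_id _).trans (Category.id_comp _).symm
  · exact h₁.trans (Category.id_comp _).symm
  · show ψ ≫ (shiftFunctor T (1 : ℤ)).map (𝟙 (S.functor.obj T'.obj₁)) =
      ξ ≫ S.functor.map T'.mor₃ ≫ inv (eta S c T'.obj₁)
    rw [CategoryTheory.Functor.map_id, Category.comp_id, reassoc_of% h₂,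
      IsIso.hom_inv_id, Category.comp_id]

end Groth.Agent.Lib.Helper21.Serre
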