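import Mathlib
import Groth.Agent.Lib.Helper21Sib
import Groth.Agent.Lib.Helper21DTrunc

/-!
# Siblings: objectwise isomorphism from negative-Ext vanishing (helper21)
-/

universe w v u v' u'
open CategoryTheory Limits Pretriangulated DerivedCategory Triangulated DEquiv

namespace Groth.Agent.Lib.Helper21.Sib

section Top
variable {A : Type u} [Category.{v} A] [Abelian A] [HasDerivedCategory.{w} A]

/-- chain level: the inclusion of the top term of a strictly `≤ b` complex is surjective on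
`H^b`. -/
lemma epi_homologyMap_top (L : CochainComplex A ℤ) (b : ℤ) [L.IsStrictlyLE b]
    (φ : (CochainComplex.singleFunctor A b).obj (L.X b) ⟶ L) (hφ : IsIso (φ.f b)) :
    Epi (HomologicalComplex.homologyMap φ b) := by
  have h1 : HomologicalComplex.homologyπ _ b ≫ HomologicalComplex.homologyMap φ b =
      HomologicalComplex.cyclesMap φ b ≫ L.homologyπ b :=
    HomologicalComplex.homologyπ_naturality φ b
  have hL : IsIso (L.iCycles b) := by
    apply ShortComplex.isIso_iCycles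
    apply (L.isZero_of_isStrictlyLE b _ (by simp)).eq_of_tgt
  have hS : IsIso (((CochainComplex.singleFunctor A b).obj (L.X b)).iCycles b) := by
    apply ShortComplex.isIso_iCycles
    apply (HomologicalComplex.isZero_single_obj_X (ComplexShape.up ℤ) _ _ _ (by simp)).eq_of_tgt
  have h2 : HomologicalComplex.cyclesMap φ b ≫ L.iCycles b =
      ((CochainComplex.singleFunctor A b).obj (L.X b)).iCycles b ≫ φ.f b :=
    HomologicalComplex.cyclesMap_i φ b
  have h3 : IsIso (HomologicalComplex.cyclesMap φ b) := by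
    have : IsIso (HomologicalComplex.cyclesMap φ b ≫ L.iCycles b) := by
      rw [h2]; infer_instance
    exact IsIso.of_isIso_comp_right _ (L.iCycles b)
  have h4 : Epi (HomologicalComplex.homologyπ _ b ≫ HomologicalComplex.homologyMap φ b) := by
    rw [h1]; infer_instance
  exact epi_of_epi (HomologicalComplex.homologyπ _ b) _

/-- For `K ∈ D^{≤ b}` there is an object `X` of `A` and a morphism `X[-b] ⟶ K` which is an
epimorphism on `H^b`. -/
lemma exists_single_hom_epi (K : DerivedCategory A) (b : ℤ) [K.IsLE b] :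
    ∃ (X : A) (r : (singleFunctor A b).obj X ⟶ K), Epi ((homologyFunctor A b).map r) := by
  obtain ⟨L, hL, ⟨e⟩⟩ := exists_iso_Q_obj_of_isLE K b
  let φ : (CochainComplex.singleFunctor A b).obj (L.X b) ⟶ L :=
    HomologicalComplex.mkHomFromSingle (𝟙 (L.X b)) (fun k hk =>
      (L.isZero_of_isStrictlyLE b k (by
        have : b + 1 = k := hk
        omega)).eq_of_tgt _ _)
  have hφ : IsIso (φ.f b) := by
    have : φ.f b = (HomologicalComplex.singleObjXSelf (ComplexShape.up ℤ) b (L.X b)).hom ≫ 𝟙 _ :=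
      HomologicalComplex.mkHomFromSingle_f _ _
    rw [this, Category.comp_id]
    infer_instance
  let r : (singleFunctor A b).obj (L.X b) ⟶ K := Q.map φ ≫ e.inv
  refine ⟨L.X b, r, ?_⟩
  have h1 : Epi ((homologyFunctor A b).map (Q.map φ)) := by
    obtain ⟨φK, φL, h⟩ := DTrunc.homologyFunctor_map_Q_eq φ b
    rw [h]
    haveI := epi_homologyMap_top L b φ hφ
    infer_instance
  show Epi ((homologyFunctor A b).map (Q.map φ ≫ e.inv))
  rw [Functor.map_comp]
  infer_instance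

/-- If `T` is distinguished with `T.obj₁, T.obj₂ ∈ D^{≤ b}` and `H^b(T.mor₁)` epi then
`T.obj₃ ∈ D^{≤ b-1}`. -/
lemma isLE_obj₃_of_epi (T : Triangle (DerivedCategory A)) (hT : T ∈ distTriang _) (b : ℤ)
    [T.obj₁.IsLE b] [T.obj₂.IsLE b] (hepi : Epi ((homologyFunctor A b).map T.mor₁)) :
    T.obj₃.IsLE (b - 1) := by
  rw [isLE_iff]
  intro i hi
  have hex := HomologySequence.exact₃ T hT i (i + 1) rfl
  have hz1 : IsZero ((homologyFunctor A (i + 1)).obj T.obj₁) :=
    isZero_of_isLE T.obj₁ b (i + 1) (by omega)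
  have hepi2 : Epi ((homologyFunctor A i).map T.mor₂) :=
    hex.epi_f (hz1.eq_of_tgt _ _)
  by_cases hib : i = b
  · subst hib
    have h0 : (homologyFunctor A i).map T.mor₂ = 0 :=
      (HomologySequence.epi_homologyMap_mor₁_iff T hT i).1 hepi
    rw [IsZero.iff_id_eq_zero, ← cancel_epi ((homologyFunctor A i).map T.mor₂), h0, zero_comp,
      comp_zero]
  · have hz2 : IsZero ((homologyFunctor A i).obj T.obj₂) :=
      isZero_of_isLE T.obj₂ b i (by omega)
    rw [IsZero.iff_id_eq_zero, ← cancel_epi ((homologyFunctor A i).map T.mor₂)]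
    exact hz2.eq_of_src _ _

/-- `X[0]⟦n⟧` is concentrated in degree `-n`. -/
lemma isGE_singleB_shift (X : A) (n m : ℤ) (h : n + m = 0) :
    (tB A).IsGE (((singleB A).obj X)⟦n⟧) m := by
  have h2 : (tB A).IsGE ((singleB A).obj X) 0 :=
    (ObjectProperty.tStructure_isGE_iff _ _ _ _).2
      (inferInstanceAs ((tD A).IsGE ((singleFunctor A 0).obj X) 0))
  exact (tB A).isGE_shift ((singleB A).obj X) 0 n m (by omega)

lemma isLE_singleB_shift (X : A) (n m : ℤ) (h : n + m = 0) :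
    (tB A).IsLE (((singleB A).obj X)⟦n⟧) m := by
  have h2 : (tB A).IsLE ((singleB A).obj X) 0 :=
    (ObjectProperty.tStructure_isLE_iff _ _ _ _).2
      (inferInstanceAs ((tD A).IsLE ((singleFunctor A 0).obj X) 0))
  exact (tB A).isLE_shift ((singleB A).obj X) 0 n m (by omega)

/-- The "top term" triangle of an object of `D^b(A)` lying in `D^{≤ b}`. -/
lemma exists_top_triangle (K : Bounded A) (b : ℤ) (hK : (tB A).IsLE K b) :
    ∃ (X : A) (r : ((singleB A).obj X)⟦-b⟧ ⟶ K) (C : Bounded A) (v : K ⟶ C)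
      (δ : C ⟶ (((singleB A).obj X)⟦-b⟧)⟦(1 : ℤ)⟧),
      Triangle.mk r v δ ∈ distTriang (Bounded A) ∧ (tB A).IsLE C (b - 1) ∧
      (∀ a, a < b → (tB A).IsGE K a → (tB A).IsGE C a) := by
  have hK' : (tD A).IsLE K.obj b := (ObjectProperty.tStructure_isLE_iff _ _ _ _).1 hK
  obtain ⟨X, r₀, hr₀⟩ := exists_single_hom_epi K.obj b
  let e₀ : Bounded.ι.obj (((singleB A).obj X)⟦-b⟧) ≅ (singleFunctor A b).obj X :=
    (Bounded.ι.commShiftIso (-b)).app ((singleB A).obj X) ≪≫
      ((singleFunctors A).shiftIso (-b) b 0 (by omega)).app X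
  let r : ((singleB A).obj X)⟦-b⟧ ⟶ K := (tD A).bounded.fullyFaithfulι.preimage (e₀.hom ≫ r₀)
  have hr : Bounded.ι.map r = e₀.hom ≫ r₀ := (tD A).bounded.fullyFaithfulι.map_preimage _
  obtain ⟨C, v, δ, hT⟩ := distinguished_cocone_triangle r
  refine ⟨X, r, C, v, δ, hT, ?_, ?_⟩
  · have hT' : Bounded.ι.mapTriangle.obj (Triangle.mk r v δ) ∈ distTriang (DerivedCategory A) := hT
    have i1 : (Bounded.ι.mapTriangle.obj (Triangle.mk r v δ)).obj₁.IsLE b :=
      (tD A).isLE_of_iso e₀.symm b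
    have i2 : (Bounded.ι.mapTriangle.obj (Triangle.mk r v δ)).obj₂.IsLE b := hK'
    have hepi : Epi ((homologyFunctor A b).map
        (Bounded.ι.mapTriangle.obj (Triangle.mk r v δ)).mor₁) := by
      show Epi ((homologyFunctor A b).map (Bounded.ι.map r))
      rw [hr, Functor.map_comp]
      infer_instance
    have := isLE_obj₃_of_epi _ hT' b hepi
    exact (ObjectProperty.tStructure_isLE_iff _ _ _ _).2 this
  · intro a hab hKa
    have hrot := rot_of_distTriang _ hT
    refine (tB A).isGE₂ _ hrot a hKa ?_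
    have h1 : (tB A).IsGE (((singleB A).obj X)⟦-b⟧) b := isGE_singleB_shift X (-b) b (by omega)
    have h2 : (tB A).IsGE ((((singleB A).obj X)⟦-b⟧)⟦(1 : ℤ)⟧) (b - 1) :=
      (tB A).isGE_shift _ b 1 (b - 1) (by omega)
    exact @TStructure.isGE_of_ge _ _ _ _ _ _ _ (tB A) _ a (b - 1) (by omega) h2

end Top

section TR3
variable {C : Type*} [Category C] [Preadditive C] [HasZeroObject C] [HasShift C ℤ]
  [∀ n : ℤ, (shiftFunctor C n).Additive] [Pretriangulated C]
  {D : Type*} [Category D] [Preadditive D] [HasZeroObject D] [HasShift D ℤ]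
  [∀ n : ℤ, (shiftFunctor D n).Additive] [Pretriangulated D]
  (F F' : C ⥤ D) [F.CommShift ℤ] [F.IsTriangulated] [F'.CommShift ℤ] [F'.IsTriangulated]

/-- Completing an isomorphism on the first two vertices of a distinguished triangle. -/
lemma exists_iso_obj₃ (T : Triangle C) (hT : T ∈ distTriang C)
    (s₁ : F.obj T.obj₁ ≅ F'.obj T.obj₁) (s₂ : F.obj T.obj₂ ≅ F'.obj T.obj₂)
    (hcomm : F.map T.mor₁ ≫ s₂.hom = s₁.hom ≫ F'.map T.mor₁) :
    ∃ s₃ : F.obj T.obj₃ ≅ F'.obj T.obj₃, F.map T.mor₂ ≫ s₃.hom = s₂.hom ≫ F'.map T.mor₂ := by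
  have h₁ := F.map_distinguished T hT
  have h₂ := F'.map_distinguished T hT
  obtain ⟨c, hc1, hc2⟩ := complete_distinguished_triangle_morphism _ _ h₁ h₂ s₁.hom s₂.hom hcomm
  let ψ : F.mapTriangle.obj T ⟶ F'.mapTriangle.obj T :=
    { hom₁ := s₁.hom
      hom₂ := s₂.hom
      hom₃ := c
      comm₁ := hcomm
      comm₂ := hc1
      comm₃ := hc2 }
  have hiso : IsIso c := isIso₃_of_isIso₁₂ ψ h₁ h₂
    (inferInstanceAs (IsIso s₁.hom)) (inferInstanceAs (IsIso s₂.hom))
  exact ⟨@asIso _ _ _ _ c hiso, hc1⟩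

/-- Variant: completing an isomorphism given on `T.obj₃⟦-1⟧` and `T.obj₁`. -/
lemma exists_iso_obj₂_of_invRotate (T : Triangle C) (hT : T ∈ distTriang C)
    (u : T.obj₃⟦(-1 : ℤ)⟧ ⟶ T.obj₁) (hu : u = T.invRotate.mor₁)
    (s₃ : F.obj (T.obj₃⟦(-1 : ℤ)⟧) ≅ F'.obj (T.obj₃⟦(-1 : ℤ)⟧))
    (s₁ : F.obj T.obj₁ ≅ F'.obj T.obj₁)
    (hcomm : F.map u ≫ s₁.hom = s₃.hom ≫ F'.map u) :
    ∃ s₂ : F.obj T.obj₂ ≅ F'.obj T.obj₂, F.map T.mor₁ ≫ s₂.hom = s₁.hom ≫ F'.map T.mor₁ := by
  subst hu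
  exact exists_iso_obj₃ F F' T.invRotate (inv_rot_of_distTriang _ hT) s₃ s₁ hcomm

end TR3

section DevLE
variable {C : Type*} [Category C] [Preadditive C] [HasZeroObject C] [HasShift C ℤ]
  [∀ n : ℤ, (shiftFunctor C n).Additive] [Pretriangulated C] [IsTriangulated C]

/-- Dévissage restricted to `D^{≤ c}`. -/
lemma devissage_le_aux (t : TStructure C) (P : ObjectProperty C)
    (hext : ∀ T ∈ distTriang C, P T.obj₁ → P T.obj₃ → P T.obj₂) (c : ℤ)
    (hheart : ∀ (X : C) (n : ℤ), n ≤ c → t.IsGE X n → t.IsLE X n → P X) :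
    ∀ (k : ℕ) (X : C) (a b : ℤ), b ≤ c → t.IsGE X a → t.IsLE X b → b - a < k → P X := by
  intro k
  induction k with
  | zero =>
    intro X a b hbc ha hb hk
    have hz : IsZero X := t.isZero X b a (by omega)
    exact hheart X c le_rfl (t.isGE_of_isZero hz c) (t.isLE_of_isZero hz c)
  | succ k ih =>
    intro X a b hbc ha hb hk
    have hT := t.triangleLTGE_distinguished b X
    refine hext _ hT ?_ ?_
    · have h1 : t.IsLE ((t.triangleLTGE b).obj X).obj₁ (b - 1) := inferInstance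
      have h2 : t.IsGE ((t.triangleLTGE b).obj X).obj₁ a := by
        show t.IsGE ((t.truncLT b).obj X) a
        infer_instance
      exact ih _ a (b - 1) (by omega) h2 h1 (by omega)
    · have h1 : t.IsGE ((t.triangleLTGE b).obj X).obj₃ b := inferInstance
      have h2 : t.IsLE ((t.triangleLTGE b).obj X).obj₃ b := by
        show t.IsLE ((t.truncGE b).obj X) b
        infer_instance
      exact hheart _ b hbc h1 h2

end DevLE

section Sibling
variable {A : Type u} [Category.{v} A] [Abelian A] [HasDerivedCategory.{w} A]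
  {D : Type u'} [Category.{v'} D] [Preadditive D] [HasZeroObject D] [HasShift D ℤ]
  [∀ n : ℤ, (shiftFunctor D n).Additive] [Pretriangulated D]
  {F F' : DerivedCategory.Bounded A ⥤ D} [F.CommShift ℤ] [F.IsTriangulated]
  [F'.CommShift ℤ] [F'.IsTriangulated] (φ : singleB A ⋙ F ≅ singleB A ⋙ F')

/-- The isomorphism `F(X[0]⟦n⟧) ≅ F'(X[0]⟦n⟧)` induced by `φ`. -/
noncomputable def tIso (X : A) (n : ℤ) :
    F.obj (((singleB A).obj X)⟦n⟧) ≅ F'.obj (((singleB A).obj X)⟦n⟧) :=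
  (F.commShiftIso n).app ((singleB A).obj X) ≪≫ (shiftFunctor D n).mapIso (φ.app X) ≪≫
    ((F'.commShiftIso n).app ((singleB A).obj X)).symm

lemma tIso_hom (X : A) (n : ℤ) : (tIso φ X n).hom =
    (F.commShiftIso n).hom.app ((singleB A).obj X) ≫ (φ.hom.app X)⟦n⟧' ≫
      (F'.commShiftIso n).inv.app ((singleB A).obj X) := rfl

/-- `tIso` is natural with respect to all morphisms between objects in the same degree. -/
lemma compat_deg0 {X Y : A} (n : ℤ) (g : ((singleB A).obj Y)⟦n⟧ ⟶ ((singleB A).obj X)⟦n⟧) :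
    F.map g ≫ (tIso φ X n).hom = (tIso φ Y n).hom ≫ F'.map g := by
  obtain ⟨g₀, rfl⟩ := (shiftFunctor (Bounded A) n).map_surjective g
  obtain ⟨f, rfl⟩ := (singleB A).map_surjective g₀
  have hnat := φ.hom.naturality f
  simp only [Functor.comp_map] at hnat
  rw [tIso_hom, tIso_hom, map_shift_eq (G := F), map_shift_eq (G := F')]
  simp only [Category.assoc, Iso.inv_hom_id_app_assoc]
  rw [← Functor.map_comp_assoc, hnat, Functor.map_comp_assoc]

section Vanishing
variable (h2 : ∀ (X Y : A) (q : ℤ), q < 0 →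
  ∀ f : F.obj ((singleB A).obj X) ⟶ (shiftFunctor D q).obj (F.obj ((singleB A).obj Y)), f = 0)
include h2 φ

lemma van_single (Z X : A) (m n : ℤ) (hnm : n < m)
    (g : F.obj (((singleB A).obj Z)⟦m⟧) ⟶ F'.obj (((singleB A).obj X)⟦n⟧)) : g = 0 := by
  let β : F'.obj (((singleB A).obj X)⟦n⟧) ≅
      ((F.obj ((singleB A).obj X))⟦n - m⟧)⟦m⟧ :=
    (tIso φ X n).symm ≪≫ (F.commShiftIso n).app ((singleB A).obj X) ≪≫
      (shiftFunctorAdd' D (n - m) m n (by omega)).app _
  let g₂ : (F.obj ((singleB A).obj Z))⟦m⟧ ⟶ ((F.obj ((singleB A).obj X))⟦n - m⟧)⟦m⟧ :=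
    (F.commShiftIso m).inv.app ((singleB A).obj Z) ≫ g ≫ β.hom
  obtain ⟨g₀, hg₀⟩ := (shiftFunctor D m).map_surjective g₂
  have h0 : g₀ = 0 := h2 Z X (n - m) (by omega) g₀
  have hg₂ : (F.commShiftIso m).inv.app ((singleB A).obj Z) ≫ g ≫ β.hom = 0 := by
    show g₂ = 0
    rw [← hg₀, h0, Functor.map_zero]
  rw [← cancel_epi ((F.commShiftIso m).inv.app ((singleB A).obj Z)), ← cancel_mono β.hom,
    Category.assoc, hg₂, comp_zero, zero_comp]

lemma van_le (X : A) (n c : ℤ) (hc : c < -n) (M : Bounded A) (hM : (tB A).IsLE M c)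
    (g : F.obj M ⟶ F'.obj (((singleB A).obj X)⟦n⟧)) : g = 0 := by
  let P : ObjectProperty (Bounded A) := fun M =>
    ∀ g : F.obj M ⟶ F'.obj (((singleB A).obj X)⟦n⟧), g = 0
  obtain ⟨a, b, ha, -⟩ := exists_bounds M
  refine devissage_le_aux (tB A) P ?_ c ?_ (c - a + 1).toNat M a c le_rfl ha hM (by omega) g
  · intro T hT h1 h3 g
    have hFT := F.map_distinguished T hT
    have h0 : (F.mapTriangle.obj T).mor₁ ≫ g = 0 := h1 _
    obtain ⟨g', hg'⟩ : ∃ g' : F.obj T.obj₃ ⟶ F'.obj (((singleB A).obj X)⟦n⟧),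
      g = F.map T.mor₂ ≫ g' := Triangle.yoneda_exact₂ _ hFT g h0
    rw [hg', h3 g', comp_zero]
  · intro M' n' hn' h1 h2' g
    obtain ⟨Z, ⟨e⟩⟩ := exists_iso_singleB_shift M' n' h1 h2'
    have := van_single φ h2 Z X (-n') n (by omega) (F.map e.inv ≫ g)
    rw [← cancel_epi (F.map e.inv), this, comp_zero]

end Vanishing

/-- The inductive statement. -/
def Claim (K : Bounded A) (b : ℤ) : Prop :=
  ∃ (X : A) (r : ((singleB A).obj X)⟦-b⟧ ⟶ K) (C : Bounded A) (v : K ⟶ C)
    (δ : C ⟶ (((singleB A).obj X)⟦-b⟧)⟦(1 : ℤ)⟧) (s : F.obj K ≅ F'.obj K),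
    Triangle.mk r v δ ∈ distTriang (Bounded A) ∧ (tB A).IsLE C (b - 1) ∧
      F.map r ≫ s.hom = (tIso φ X (-b)).hom ≫ F'.map r

lemma claim_of_heart (K : Bounded A) (b : ℤ) (h1 : (tB A).IsGE K b) (h2' : (tB A).IsLE K b) :
    Claim φ K b := by
  obtain ⟨Y, ⟨e⟩⟩ := exists_iso_singleB_shift K b h1 h2'
  obtain ⟨C, v, δ, hT⟩ := distinguished_cocone_triangle e.inv
  have hC : IsZero C := (Triangle.isZero₃_iff_isIso₁ _ hT).2 (inferInstanceAs (IsIso e.inv))
  refine ⟨Y, e.inv, C, v, δ, F.mapIso e ≪≫ tIso φ Y (-b) ≪≫ F'.mapIso e.symm, hT,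
    (tB A).isLE_of_isZero hC _, ?_⟩
  simp [← Functor.map_comp_assoc]

variable (h2 : ∀ (X Y : A) (q : ℤ), q < 0 →
  ∀ f : F.obj ((singleB A).obj X) ⟶ (shiftFunctor D q).obj (F.obj ((singleB A).obj Y)), f = 0)
include h2

lemma claim_aux : ∀ (k : ℕ) (K : Bounded A) (a b : ℤ), (tB A).IsGE K a → (tB A).IsLE K b →
    b - a < k + 1 → Claim φ K b := by
  intro k
  induction k with
  | zero =>
    intro K a b ha hb hk
    exact claim_of_heart φ K b
      (@TStructure.isGE_of_ge _ _ _ _ _ _ _ (tB A) K b a (by omega) ha) hb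
  | succ k ih =>
    intro K a b ha hb hk
    by_cases hab : b ≤ a
    · exact claim_of_heart φ K b
        (@TStructure.isGE_of_ge _ _ _ _ _ _ _ (tB A) K b a hab ha) hb
    · obtain ⟨X, r, C, v, δ, hT, hC, hCa⟩ := exists_top_triangle K b hb
      have hCa' := hCa a (by omega) ha
      have hC'le : (tB A).IsLE (C⟦(-1 : ℤ)⟧) b := (tB A).isLE_shift C (b - 1) (-1) b (by omega)
      have hC'ge : (tB A).IsGE (C⟦(-1 : ℤ)⟧) (a + 1) :=
        (tB A).isGE_shift C a (-1) (a + 1) (by omega)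
      obtain ⟨Y, r', C₂, v', δ', s', hT', hC₂, hcomp'⟩ :=
        ih (C⟦(-1 : ℤ)⟧) (a + 1) b hC'ge hC'le (by omega)
      obtain ⟨u, hu⟩ : ∃ u : C⟦(-1 : ℤ)⟧ ⟶ ((singleB A).obj X)⟦-b⟧,
        u = (Triangle.mk r v δ).invRotate.mor₁ := ⟨_, rfl⟩
      -- the key square
      have hsq : F.map u ≫ (tIso φ X (-b)).hom = s'.hom ≫ F'.map u := by
        have hd : F.map u ≫ (tIso φ X (-b)).hom - s'.hom ≫ F'.map u = 0 := by
          have h0 : F.map r' ≫ (F.map u ≫ (tIso φ X (-b)).hom - s'.hom ≫ F'.map u) = 0 := by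
            have hc0 := compat_deg0 φ (-b) (r' ≫ u)
            rw [Preadditive.comp_sub, ← Category.assoc, ← Functor.map_comp, hc0,
              ← Category.assoc (F.map r'), hcomp', Category.assoc, ← Functor.map_comp, sub_self]
          have hFT' := F.map_distinguished _ hT'
          obtain ⟨Δ', hΔ'⟩ : ∃ Δ' : F.obj C₂ ⟶ F'.obj (((singleB A).obj X)⟦-b⟧),
            F.map u ≫ (tIso φ X (-b)).hom - s'.hom ≫ F'.map u = F.map v' ≫ Δ' :=
            Triangle.yoneda_exact₂ _ hFT' _ h0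
          have hz : Δ' = 0 := van_le φ h2 X (-b) (b - 1) (by omega) C₂ hC₂ Δ'
          rw [hΔ', hz, comp_zero]
        exact sub_eq_zero.mp hd
      obtain ⟨s, hs⟩ := exists_iso_obj₂_of_invRotate F F' (Triangle.mk r v δ) hT u hu s'
        (tIso φ X (-b)) hsq
      exact ⟨X, r, C, v, δ, s, hT, hC, hs⟩

include φ in
/-- If `F`, `F'` agree on `A` and `F` has no negative Ext's between objects of `A`, then
`F K ≅ F' K` for every `K`. -/
theorem nonempty_iso (K : Bounded A) : Nonempty (F.obj K ≅ F'.obj K) := by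
  obtain ⟨a, b, ha, hb⟩ := exists_bounds K
  obtain ⟨X, r, C, v, δ, s, -, -, -⟩ := claim_aux φ h2 (b - a).toNat K a b ha hb (by omega)
  exact ⟨s⟩

end Sibling

end Groth.Agent.Lib.Helper21.Sib
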