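import Mathlib
import Groth.Agent.Lib.Helper21LeraySS
import Groth.Agent.Lib.Helper21SieveCoh
import Groth.Agent.Lib.Helper21PullFree
import Groth.Agent.Lib.Helper16RpushNat

/-!
# Helper21: the spectral sequence `H^p(R, H^q(M)) ⇒ H^{p+q}(aR, M)` for a presheaf of sets `R`
-/

universe u
open CategoryTheory Limits Abelian Opposite

namespace Groth.Agent.Lib.Helper21.SieveSS

open SieveCoh PushAcyc

/-- `Ext` is invariant under isomorphisms in the first variable. -/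
noncomputable def extIsoLeft {𝒜 : Type*} [Category 𝒜] [Abelian 𝒜] [HasExt.{u} 𝒜] {X X' : 𝒜}
    (e : X ≅ X') (Y : 𝒜) (n : ℕ) :
    AddCommGrpCat.of (Ext.{u} X Y n) ≅ AddCommGrpCat.of (Ext.{u} X' Y n) :=
  ((extFunctor.{u} n).mapIso e.symm.op).app Y

/-- `Ext` is invariant under isomorphisms in the second variable. -/
noncomputable def extIsoRight {𝒜 : Type*} [Category 𝒜] [Abelian 𝒜] [HasExt.{u} 𝒜] (X : 𝒜)
    {Y Y' : 𝒜} (e : Y ≅ Y') (n : ℕ) :
    AddCommGrpCat.of (Ext.{u} X Y n) ≅ AddCommGrpCat.of (Ext.{u} X Y' n) :=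
  ((extFunctor.{u} n).obj (op X)).mapIso e

variable {C : Type u} [SmallCategory C] (J : GrothendieckTopology C)

/-- the inverse image of sheaves of sets along `(C, J) → (C, ⊥)` is sheafification. -/
noncomputable def pullSetIdIso :
    sheafToPresheaf (⊥ : GrothendieckTopology C) (Type u) ⋙ presheafToSheaf J (Type u) ≅
      (𝟭 C).sheafPullback (Type u) ⊥ J :=
  ((sheafifyAdjBot J).ofNatIsoRight (pushSetIso J)).leftAdjointUniq
    ((𝟭 C).sheafAdjunctionContinuous (Type u) ⊥ J)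

/-- the free abelian presheaf on a presheaf of sets. -/
noncomputable abbrev ZP (R : Cᵒᵖ ⥤ Type u) : PAb C :=
  (presheafToSheaf (⊥ : GrothendieckTopology C) AddCommGrpCat.{u}).obj
    (R ⋙ AddCommGrpCat.free.{u})

/-- `a(ℤ[R]) ≅ ℤ[aR]`. -/
noncomputable def pullZPIso (R : Cᵒᵖ ⥤ Type u) :
    (pull J ⊥ (𝟭 C)).obj (ZP R) ≅
      (presheafToSheaf J AddCommGrpCat.{u}).obj
        (((presheafToSheaf J (Type u)).obj R).obj ⋙ AddCommGrpCat.free.{u}) :=
  (PullFree.pullFreeIso J ⊥ (𝟭 C)).app ⟨R, Presheaf.isSheaf_bot _⟩ ≪≫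
    (PullFree.freeF J).mapIso ((pullSetIdIso J).symm.app ⟨R, Presheaf.isSheaf_bot _⟩)

/-- `R^q ι M` is the presheaf `V ↦ H^q(V, M)`. -/
noncomputable def RpushIdIso (M : Sheaf J AddCommGrpCat.{u}) (q : ℕ) :
    (CohSite.Rpush J ⊥ (𝟭 C) q).obj M ≅
      (⟨M.cohomologyPresheaf q, Presheaf.isSheaf_bot _⟩ : PAb C) :=
  (Groth.Agent.Lib.Helper16.RpushNat.natIso J ⊥ (𝟭 C) q).app M ≪≫
    (presheafToSheaf (⊥ : GrothendieckTopology C) AddCommGrpCat.{u}).mapIso
      (Functor.leftUnitor (M.cohomologyPresheaf q)) ≪≫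
    asIso ((sheafificationAdjunction (⊥ : GrothendieckTopology C) AddCommGrpCat.{u}).counit.app
      (⟨M.cohomologyPresheaf q, Presheaf.isSheaf_bot _⟩ : PAb C))

theorem exists_spectralSequence (R : Cᵒᵖ ⥤ Type u) (M : Sheaf J AddCommGrpCat.{u}) :
    ∃ (E : E₂CohomologicalSpectralSequence AddCommGrpCat.{u})
      (a : SpSeq.Abutment E (fun n : ℤ =>
        if 0 ≤ n then AddCommGrpCat.of (CohCx.HK ((presheafToSheaf J (Type u)).obj R) M n.toNat)
        else AddCommGrpCat.of PUnit.{u + 1})),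
      (∀ n, a.IsFinite n) ∧ SpSeq.IsBounded E ∧
      ∀ p q : ℤ, Nonempty ((E.page 2 le_rfl).X (p, q) ≅
        (if 0 ≤ p ∧ 0 ≤ q then
          AddCommGrpCat.of (CohCx.HK (J := (⊥ : GrothendieckTopology C)) ⟨R, Presheaf.isSheaf_bot _⟩
            ⟨M.cohomologyPresheaf q.toNat, Presheaf.isSheaf_bot _⟩ p.toNat)
         else AddCommGrpCat.of PUnit.{u + 1})) :=
  LeraySS.leray_general J ⊥ (𝟭 C) M (ZP R)
    (fun n => AddCommGrpCat.of (CohCx.HK ((presheafToSheaf J (Type u)).obj R) M n))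
    (fun n => ⟨extIsoLeft (pullZPIso J R) M n⟩)
    (fun p q => AddCommGrpCat.of (CohCx.HK (J := (⊥ : GrothendieckTopology C))
      ⟨R, Presheaf.isSheaf_bot _⟩ ⟨M.cohomologyPresheaf q, Presheaf.isSheaf_bot _⟩ p))
    (fun p q => ⟨extIsoRight (ZP R) (RpushIdIso J M q) p⟩)

end Groth.Agent.Lib.Helper21.SieveSS
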