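import Mathlib

/-!
# Homogeneous slices for homogeneous derivations of positively graded algebras
-/

set_option autoImplicit false
universe u v w

namespace Groth.Agent.Lib.Helper21Slice

open DirectSum

theorem exists_slice
    (k : Type u) [CommRing k]
    (A : Type v) [CommRing A] [Algebra k A]
    (Λ : Type w) [AddCommGroup Λ] [DecidableEq Λ]
    (𝒜 : Λ → Submodule k A) [GradedAlgebra 𝒜]
    (hpos : ∀ w : Λ, 𝒜 w ≠ ⊥ → 𝒜 (-w) ≠ ⊥ → w = 0)
    (δ : Derivation k A A)
    (d : Λ) (hhom : ∀ (w : Λ) (a : A), a ∈ 𝒜 w → δ a ∈ 𝒜 (w + d)) (hd : 𝒜 d = ⊥)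
    (hfix : ∀ m : Ideal A, m.IsMaximal → (∀ w : Λ, w ≠ 0 → (𝒜 w : Set A) ⊆ m) → ¬ (Set.range δ ⊆ m)) :
    ∃ s ∈ 𝒜 (-d), δ s = 1 := by
  classical
  let H : Set A := {h | (∃ w : Λ, w ≠ 0 ∧ h ∈ 𝒜 w) ∨ (∃ (w : Λ) (c : A), c ∈ 𝒜 w ∧ h = δ c)}
  -- Step 1: the ideal generated by H is everything
  have htop : Ideal.span H = ⊤ := by
    by_contra hne
    obtain ⟨m, hm, hle⟩ := Ideal.exists_le_maximal _ hne
    apply hfix m hm
    · intro w hw a ha
      exact hle (Ideal.subset_span (Or.inl ⟨w, hw, ha⟩))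
    · rintro _ ⟨a, rfl⟩
      apply hle
      rw [← DirectSum.sum_support_decompose 𝒜 a, map_sum]
      apply Ideal.sum_mem
      intro i _
      exact Ideal.subset_span (Or.inr ⟨i, _, (decompose 𝒜 a i).2, rfl⟩)
  -- vanishing of products by positivity
  have hvan : ∀ (w : Λ) (h g : A), w ≠ 0 → h ∈ 𝒜 w → (decompose 𝒜 g (-w) : A) * h = 0 := by
    intro w h g hw hh
    by_contra hne
    have h1 : 𝒜 w ≠ ⊥ := by
      intro hbot
      rw [hbot, Submodule.mem_bot] at hh
      exact hne (by rw [hh, mul_zero])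
    have h2 : 𝒜 (-w) ≠ ⊥ := by
      intro hbot
      have : ∀ (N : Submodule k A) (y : N), N = ⊥ → (y : A) = 0 := by
        intro N y hN
        subst hN
        exact (Submodule.mem_bot k).mp y.2
      exact hne (by rw [this _ (decompose 𝒜 g (-w)) hbot, zero_mul])
    exact hw (hpos w h1 h2)
  -- Step 2: property of all elements of the span
  have key : ∀ x ∈ Ideal.span H, ∀ g : A, ∃ s ∈ 𝒜 (-d), δ s = (decompose 𝒜 (g * x) 0 : A) := by
    intro x hx
    induction hx using Submodule.span_induction with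
    | mem h hh =>
      intro g
      rcases hh with ⟨w, hw, hhw⟩ | ⟨w, c, hc, rfl⟩
      · refine ⟨0, Submodule.zero_mem _, ?_⟩
        have e : (decompose 𝒜 (g * h) (-w + w) : A) = decompose 𝒜 g (-w) * h :=
          coe_decompose_mul_add_of_right_mem 𝒜 hhw
        rw [neg_add_cancel] at e
        rw [e, hvan w h g hw hhw, map_zero]
      · have hδc : δ c ∈ 𝒜 (w + d) := hhom w c hc
        have e : (decompose 𝒜 (g * δ c) (-(w + d) + (w + d)) : A) = decompose 𝒜 g (-(w + d)) * δ c :=
          coe_decompose_mul_add_of_right_mem 𝒜 hδc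
        rw [neg_add_cancel] at e
        by_cases hwd : w + d = 0
        · -- the interesting case
          have hw : w = -d := eq_neg_of_add_eq_zero_left hwd
          subst hw
          refine ⟨(decompose 𝒜 g 0 : A) * c, ?_, ?_⟩
          · have := SetLike.GradedMul.mul_mem (A := 𝒜) (decompose 𝒜 g 0).2 hc
            rwa [zero_add] at this
          · rw [e, hwd, neg_zero, Derivation.leibniz]
            have h0 : δ (decompose 𝒜 g 0 : A) = 0 := by
              have := hhom 0 _ (decompose 𝒜 g 0).2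
              rw [zero_add, hd] at this
              exact (Submodule.mem_bot k).mp this
            rw [h0, smul_zero, add_zero, smul_eq_mul]
        · refine ⟨0, Submodule.zero_mem _, ?_⟩
          rw [e, hvan (w + d) (δ c) g hwd hδc, map_zero]
    | zero =>
      intro g
      refine ⟨0, Submodule.zero_mem _, ?_⟩
      rw [mul_zero, decompose_zero, map_zero]
      rfl
    | add x y _ _ hx hy =>
      intro g
      obtain ⟨s, hs, es⟩ := hx g
      obtain ⟨t, ht, et⟩ := hy g
      refine ⟨s + t, Submodule.add_mem _ hs ht, ?_⟩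
      rw [map_add, es, et, mul_add, decompose_add]
      rfl
    | smul a x _ hx =>
      intro g
      obtain ⟨s, hs, es⟩ := hx (g * a)
      refine ⟨s, hs, ?_⟩
      rw [es, smul_eq_mul, mul_assoc]
  obtain ⟨s, hs, es⟩ := key 1 (by rw [htop]; trivial) 1
  refine ⟨s, hs, ?_⟩
  rw [es, mul_one, decompose_of_mem_same 𝒜 (SetLike.GradedOne.one_mem (A := 𝒜))]

end Groth.Agent.Lib.Helper21Slice
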