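import Mathlib

/-!
# t-structure on a Verdier quotient (helper21)

`C` triangulated with a bounded t-structure `t`, `D` a triangulated subcategory compatible with `t`
(stable under the cohomology objects, and `D ∩ heart` stable under sub/quotients in the heart).
Then for `s : W ⟶ X` with cone in `D` and `X ≤ n`, the truncation `τ≥(n+1) W` lies in `D`
(`prop_truncGE_of_trW`), and the localization `E = C/D` has a unique t-structure making the
quotient functor t-exact.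
-/

universe v u v' u'
open CategoryTheory Limits Pretriangulated Triangulated

namespace Groth.Agent.Lib.Helper21.TQuot

variable {C : Type u} [Category.{v} C] [Preadditive C] [HasZeroObject C] [HasShift C ℤ]
  [∀ n : ℤ, (shiftFunctor C n).Additive] [Pretriangulated C] [IsTriangulated C]
  (t : TStructure C) (D : ObjectProperty C) [D.IsTriangulated] [D.IsClosedUnderIsomorphisms]

section
variable {D}

lemma prop_shift {X : C} (hX : D X) (a : ℤ) : D (X⟦a⟧) := D.le_shift a X hX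

lemma prop_of_shift {X : C} (a : ℤ) (hX : D (X⟦a⟧)) : D X :=
  D.prop_of_iso ((shiftEquiv C a).unitIso.symm.app X) (prop_shift hX (-a))

end

omit [IsTriangulated C] in
lemma isLE_shift_one (X : C) (n : ℤ) (h : t.IsLE X n) : t.IsLE (X⟦(1 : ℤ)⟧) n := by
  have : t.IsLE (X⟦(1 : ℤ)⟧) (n - 1) := t.isLE_shift X n 1 (n - 1) (by omega)
  exact t.isLE_of_le _ (n - 1) n (by omega)

omit [IsTriangulated C] in
lemma isGE_shift_neg_one (X : C) (n : ℤ) (h : t.IsGE X n) : t.IsGE (X⟦(-1 : ℤ)⟧) n := by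
  have : t.IsGE (X⟦(-1 : ℤ)⟧) (n + 1) := t.isGE_shift X n (-1) (n + 1) (by omega)
  exact t.isGE_of_ge _ n (n + 1) (by omega)

variable (hb : ∀ X : C, t.bounded X)
  (h1 : ∀ X : C, D X → ∀ n : ℤ, D ((t.truncGELE n n).obj X))
include h1

lemma prop_truncGE_of_succ (n : ℤ) (X : C) (hX : D X) (h : D ((t.truncGE (n + 1)).obj X)) :
    D ((t.truncGE n).obj X) := by
  have hT := t.triangleLTGE_distinguished (n + 1) ((t.truncGE n).obj X)
  refine D.ext_of_isTriangulatedClosed₂ _ hT ?_ ?_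
  · exact D.prop_of_iso ((t.truncGELEIsoLEGE n n).app X) (h1 X hX n)
  · have hi := t.isIso_truncGE_map_truncGEπ_app (n + 1) n (by omega) X
    exact D.prop_of_iso (@asIso _ _ _ _ _ hi) h

include hb

lemma prop_truncGE (X : C) (hX : D X) (n : ℤ) : D ((t.truncGE n).obj X) := by
  obtain ⟨-, ⟨b, hb'⟩⟩ := hb X
  have key : ∀ m : ℕ, D ((t.truncGE (b + 1 - m)).obj X) := by
    intro m
    induction m with
    | zero =>
      apply D.prop_of_isZero
      have := t.isZero_truncGE_obj_of_isLE b (b + 1) rfl X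
      simpa using this
    | succ m ih =>
      have := prop_truncGE_of_succ t D h1 (b + 1 - (m + 1 : ℕ)) X hX
        (by convert ih using 3; push_cast; ring)
      exact this
  by_cases hn : n ≤ b + 1
  · have := key (b + 1 - n).toNat
    convert this using 3
    omega
  · apply D.prop_of_isZero
    have : t.IsLE X (n - 1) := t.isLE_of_le X b (n - 1) (by omega)
    exact t.isZero_truncGE_obj_of_isLE (n - 1) n (by omega) X

lemma prop_truncLT (X : C) (hX : D X) (n : ℤ) : D ((t.truncLT n).obj X) :=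
  D.ext_of_isTriangulatedClosed₁ _ (t.triangleLTGE_distinguished n X) hX
    (prop_truncGE t D hb h1 X hX n)

variable (h2 : ∀ (X Y Z : C) (f : X ⟶ Y) (g : Y ⟶ Z) (h : Z ⟶ X⟦(1 : ℤ)⟧),
  Triangle.mk f g h ∈ distTriang C → t.heart X → t.heart Y → t.heart Z → D Y → D X ∧ D Z)

omit hb h1 in
include h2 in
/-- `h2` in degree `n`. -/
lemma prop_obj₁_of_heart_shift (n : ℤ) (T : Triangle C) (hT : T ∈ distTriang C)
    (l₁ : t.IsLE T.obj₁ n) (g₁ : t.IsGE T.obj₁ n) (l₂ : t.IsLE T.obj₂ n) (g₂ : t.IsGE T.obj₂ n)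
    (l₃ : t.IsLE T.obj₃ n) (g₃ : t.IsGE T.obj₃ n) (hD : D T.obj₂) : D T.obj₁ := by
  have hT' := Triangle.shift_distinguished T hT n
  have hh : ∀ (Y : C), t.IsLE Y n → t.IsGE Y n → t.heart (Y⟦n⟧) := by
    intro Y hl hg
    rw [t.mem_heart_iff]
    exact ⟨t.isLE_shift Y n n 0 (by omega), t.isGE_shift Y n n 0 (by omega)⟩
  have := h2 _ _ _ ((Triangle.shiftFunctor C n).obj T).mor₁ ((Triangle.shiftFunctor C n).obj T).mor₂
    ((Triangle.shiftFunctor C n).obj T).mor₃ hT' (hh _ l₁ g₁) (hh _ l₂ g₂) (hh _ l₃ g₃)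
    (prop_shift hD n)
  exact prop_of_shift n this.1

include h2 in
/-- Key lemma: if `F ⟶ W ⟶ X ⟶ F⟦1⟧` is distinguished with `F ∈ D` and `X ≤ n`, then
`τ≥(n+1) W ∈ D`. -/
lemma prop_truncGE_of_trW (n : ℤ) {F W X : C} (a : F ⟶ W) (s : W ⟶ X) (h : X ⟶ F⟦(1 : ℤ)⟧)
    (hT : Triangle.mk a s h ∈ distTriang C) (hF : D F) (hX : t.IsLE X n) :
    D ((t.truncGE (n + 1)).obj W) := by
  -- notation
  let P := (t.truncGE (n + 1)).obj F
  let GW := (t.truncGE (n + 1)).obj W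
  have hP : D P := prop_truncGE t D hb h1 F hF (n + 1)
  let πF : F ⟶ P := (t.truncGEπ (n + 1)).app F
  let πW : W ⟶ GW := (t.truncGEπ (n + 1)).app W
  let τa : P ⟶ GW := (t.truncGE (n + 1)).map a
  have hnat : πF ≫ τa = a ≫ πW := ((t.truncGEπ (n + 1)).naturality a).symm
  -- the three basic triangles
  have hTW := rot_of_distTriang _ (t.triangleLTGE_distinguished (n + 1) W)
  have hTF := rot_of_distTriang _ (t.triangleLTGE_distinguished (n + 1) F)
  obtain ⟨M, v₁₃, w₁₃, hM⟩ := distinguished_cocone_triangle (a ≫ πW)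
  obtain ⟨R, b, c, hR⟩ := distinguished_cocone_triangle τa
  -- octahedron 1
  have o1 := (someOctahedron (rfl : a ≫ πW = a ≫ πW) hT hTW hM).mem
  have hMle : t.IsLE M n := by
    refine t.isLE₂ _ o1 n hX ?_
    exact isLE_shift_one t ((t.truncLT (n + 1)).obj W) n inferInstance
  -- octahedron 2
  have o2 := (someOctahedron hnat hTF hR hM).mem
  have hRle : t.IsLE R n := by
    refine t.isLE₂ _ (rot_of_distTriang _ o2) n hMle ?_
    have : t.IsLE (((t.truncLT (n + 1)).obj F)⟦(1 : ℤ)⟧) n :=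
      isLE_shift_one t ((t.truncLT (n + 1)).obj F) n inferInstance
    exact isLE_shift_one t _ n this
  have hPge : t.IsGE (P⟦(1 : ℤ)⟧) n := t.isGE_shift P (n + 1) 1 n (by omega)
  have hRge : t.IsGE R n := by
    refine t.isGE₂ _ (rot_of_distTriang _ hR) n ?_ hPge
    exact t.isGE_of_ge GW n (n + 1) (by omega)
  -- H
  let H := (t.truncLT (n + 1)).obj (P⟦(1 : ℤ)⟧)
  have hHD : D H := prop_truncLT t D hb h1 _ (prop_shift hP 1) (n + 1)
  have hHle : t.IsLE H n := inferInstance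
  have hHge : t.IsGE H n := inferInstance
  let c' : R ⟶ H := t.liftTruncLT c n (n + 1) rfl
  have hc' : c' ≫ (t.truncLTι (n + 1)).app (P⟦(1 : ℤ)⟧) = c := t.liftTruncLT_ι c n (n + 1) rfl
  obtain ⟨Z, d, e, hZ⟩ := distinguished_cocone_triangle c'
  have hZle : t.IsLE Z n := by
    refine t.isLE₂ _ (rot_of_distTriang _ hZ) n hHle ?_
    exact isLE_shift_one t R n hRle
  -- octahedron 3
  have hR2 := rot_of_distTriang _ (rot_of_distTriang _ hR)
  have o3 := (someOctahedron hc' hZ (t.triangleLTGE_distinguished (n + 1) (P⟦(1 : ℤ)⟧)) hR2).mem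
  have hZge : t.IsGE Z n := by
    refine t.isGE₂ _ (inv_rot_of_distTriang _ o3) n ?_ ?_
    · have : t.IsGE ((t.truncGE (n + 1)).obj (P⟦(1 : ℤ)⟧)) n :=
        t.isGE_of_ge _ n (n + 1) (by omega)
      exact isGE_shift_neg_one t _ n this
    · exact t.isGE_shift GW (n + 1) 1 n (by omega)
  have hRD : D R := prop_obj₁_of_heart_shift t D h2 n _ hZ hRle hRge hHle hHge hZle hZge hHD
  exact D.ext_of_isTriangulatedClosed₂ _ hR hP hRD

section Quot
variable {E : Type u'} [Category.{v'} E] [Preadditive E] [HasZeroObject E] [HasShift E ℤ]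
  [∀ n : ℤ, (shiftFunctor E n).Additive] [Pretriangulated E]
  (q : C ⥤ E) [q.CommShift ℤ] [q.IsTriangulated] [q.IsLocalization D.trW]

omit hb h1 [IsTriangulated C] [D.IsTriangulated] [D.IsClosedUnderIsomorphisms]
  [q.IsLocalization D.trW] [q.IsTriangulated] [q.CommShift ℤ] in
/-- Objects of `E` isomorphic to the image of an object `≤ n`. -/
def leQ (n : ℤ) : ObjectProperty E := fun Y => ∃ X : C, t.IsLE X n ∧ Nonempty (q.obj X ≅ Y)

omit hb h1 [IsTriangulated C] [D.IsTriangulated] [D.IsClosedUnderIsomorphisms]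
  [q.IsLocalization D.trW] [q.IsTriangulated] [q.CommShift ℤ] in
/-- Objects of `E` isomorphic to the image of an object `≥ n`. -/
def geQ (n : ℤ) : ObjectProperty E := fun Y => ∃ X : C, t.IsGE X n ∧ Nonempty (q.obj X ≅ Y)

include h2 in
lemma zero_of_leQ_geQ {Y Y' : E} (f : Y ⟶ Y') (hY : leQ t q 0 Y) (hY' : geQ t q 1 Y') :
    f = 0 := by
  obtain ⟨X, hX, ⟨e⟩⟩ := hY
  obtain ⟨X', hX', ⟨e'⟩⟩ := hY'
  suffices h : ∀ f' : q.obj X ⟶ q.obj X', f' = 0 by
    have := h (e.hom ≫ f ≫ e'.inv)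
    rw [← cancel_epi e.hom, ← cancel_mono e'.inv, Category.assoc, this, comp_zero, zero_comp]
  intro f'
  obtain ⟨φ, hφ⟩ := Localization.exists_rightFraction q D.trW f'
  obtain ⟨F, a, h, hT, hF⟩ := (D.trW_iff' φ.s).1 φ.hs
  have hK := prop_truncGE_of_trW t D hb h1 h2 0 a φ.s h hT hF hX
  have hι : D.trW ((t.truncLTι (0 + 1)).app φ.X') :=
    ObjectProperty.trW.mk D (t.triangleLTGE_distinguished (0 + 1) φ.X') hK
  have hiso : IsIso (q.map ((t.truncLTι (0 + 1)).app φ.X')) :=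
    Localization.inverts q D.trW _ hι
  have hz : (t.truncLTι (0 + 1)).app φ.X' ≫ φ.f = 0 :=
    t.zero _ 0 1
  have h0 : q.map φ.f = 0 := by
    rw [← cancel_epi (q.map ((t.truncLTι (0 + 1)).app φ.X')), ← q.map_comp, hz, q.map_zero,
      comp_zero]
  rw [hφ, MorphismProperty.RightFraction.map, h0, comp_zero]

include h2 in
/-- The t-structure on the quotient. -/
noncomputable def tQ : TStructure E where
  le := leQ t q
  ge := geQ t q
  le_isClosedUnderIsomorphisms n :=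
    ⟨fun e ⟨X, hX, ⟨e'⟩⟩ => ⟨X, hX, ⟨e' ≪≫ e⟩⟩⟩
  ge_isClosedUnderIsomorphisms n :=
    ⟨fun e ⟨X, hX, ⟨e'⟩⟩ => ⟨X, hX, ⟨e' ≪≫ e⟩⟩⟩
  le_shift n a n' h Y := by
    rintro ⟨X, hX, ⟨e⟩⟩
    exact ⟨X⟦a⟧, t.isLE_shift X n a n' h,
      ⟨(q.commShiftIso a).app X ≪≫ (shiftFunctor E a).mapIso e⟩⟩
  ge_shift n a n' h Y := by
    rintro ⟨X, hX, ⟨e⟩⟩
    exact ⟨X⟦a⟧, t.isGE_shift X n a n' h,
      ⟨(q.commShiftIso a).app X ≪≫ (shiftFunctor E a).mapIso e⟩⟩
  zero' _ _ f hX hY := zero_of_leQ_geQ t D hb h1 h2 q f hX hY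
  le_zero_le Y := by
    rintro ⟨X, hX, e⟩
    exact ⟨X, t.isLE_of_le X 0 1 (by omega), e⟩
  ge_one_le Y := by
    rintro ⟨X, hX, e⟩
    exact ⟨X, t.isGE_of_ge X 0 1 (by omega), e⟩
  exists_triangle_zero_one Y := by
    have := Localization.essSurj q D.trW
    let e : q.obj (q.objPreimage Y) ≅ Y := q.objObjPreimageIso Y
    obtain ⟨A, B, hA, hB, f, g, h, hT⟩ := t.exists_triangle_zero_one (q.objPreimage Y)
    refine ⟨q.obj A, q.obj B, ⟨A, ⟨hA⟩, ⟨Iso.refl _⟩⟩, ⟨B, ⟨hB⟩, ⟨Iso.refl _⟩⟩,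
      q.map f ≫ e.hom, e.inv ≫ q.map g, q.map h ≫ (q.commShiftIso (1 : ℤ)).hom.app A, ?_⟩
    refine isomorphic_distinguished _ (q.map_distinguished _ hT) _ ?_
    refine Triangle.isoMk _ _ (Iso.refl _) e.symm (Iso.refl _) ?_ ?_ ?_
    · show (q.map f ≫ e.hom) ≫ e.inv = 𝟙 _ ≫ q.map f
      simp
    · show (e.inv ≫ q.map g) ≫ 𝟙 _ = e.inv ≫ q.map g
      simp
    · show (q.map h ≫ (q.commShiftIso (1 : ℤ)).hom.app A) ≫ (𝟙 (q.obj A))⟦(1 : ℤ)⟧' =
        𝟙 _ ≫ (q.map h ≫ (q.commShiftIso (1 : ℤ)).hom.app A)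
      simp

omit hb h1 [IsTriangulated C] [D.IsTriangulated] [D.IsClosedUnderIsomorphisms] in
lemma tStructure_ext (t₁ t₂ : TStructure E) (hle : t₁.le = t₂.le) (hge : t₁.ge = t₂.ge) :
    t₁ = t₂ := by
  cases t₁; cases t₂
  simp only at hle hge
  subst hle hge
  rfl

include h2 in
theorem exists_tStructure :
    ∃ t' : TStructure E,
      (∀ (X : C) (n : ℤ), t.IsLE X n → t'.IsLE (q.obj X) n) ∧
      (∀ (X : C) (n : ℤ), t.IsGE X n → t'.IsGE (q.obj X) n) ∧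
      (∀ (Y : E) (n : ℤ), t'.IsLE Y n ↔ ∃ X : C, t.IsLE X n ∧ Nonempty (q.obj X ≅ Y)) ∧
      (∀ (Y : E) (n : ℤ), t'.IsGE Y n ↔ ∃ X : C, t.IsGE X n ∧ Nonempty (q.obj X ≅ Y)) ∧
      ∀ t'' : TStructure E,
        (∀ (X : C) (n : ℤ), t.IsLE X n → t''.IsLE (q.obj X) n) →
        (∀ (X : C) (n : ℤ), t.IsGE X n → t''.IsGE (q.obj X) n) → t'' = t' := by
  let t' := tQ t D hb h1 h2 q
  have hleiff : ∀ (Y : E) (n : ℤ), t'.IsLE Y n ↔ ∃ X : C, t.IsLE X n ∧ Nonempty (q.obj X ≅ Y) :=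
    fun Y n => ⟨fun h => h.le, fun h => ⟨h⟩⟩
  have hgeiff : ∀ (Y : E) (n : ℤ), t'.IsGE Y n ↔ ∃ X : C, t.IsGE X n ∧ Nonempty (q.obj X ≅ Y) :=
    fun Y n => ⟨fun h => h.ge, fun h => ⟨h⟩⟩
  refine ⟨t', fun X n hX => (hleiff _ _).2 ⟨X, hX, ⟨Iso.refl _⟩⟩,
    fun X n hX => (hgeiff _ _).2 ⟨X, hX, ⟨Iso.refl _⟩⟩, hleiff, hgeiff, ?_⟩
  intro t'' hle'' hge''
  have hle_sub : ∀ (n : ℤ) (Y : E), t'.IsLE Y n → t''.IsLE Y n := by
    intro n Y hY
    obtain ⟨X, hX, ⟨e⟩⟩ := (hleiff Y n).1 hY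
    have := hle'' X n hX
    exact t''.isLE_of_iso e n
  have hge_sub : ∀ (n : ℤ) (Y : E), t'.IsGE Y n → t''.IsGE Y n := by
    intro n Y hY
    obtain ⟨X, hX, ⟨e⟩⟩ := (hgeiff Y n).1 hY
    have := hge'' X n hX
    exact t''.isGE_of_iso e n
  have hle_sup : ∀ (n : ℤ) (Y : E), t''.IsLE Y n → t'.IsLE Y n := by
    intro n Y hY
    rw [t'.isLE_iff_orthogonal n (n + 1) rfl]
    intro Z f hZ
    have := hge_sub (n + 1) Z hZ
    exact t''.zero f n (n + 1)
  have hge_sup : ∀ (n : ℤ) (Y : E), t''.IsGE Y n → t'.IsGE Y n := by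
    intro n Y hY
    rw [t'.isGE_iff_orthogonal (n - 1) n (by omega)]
    intro Z f hZ
    have := hle_sub (n - 1) Z hZ
    exact t''.zero f (n - 1) n
  apply tStructure_ext
  · funext n
    ext Y
    exact ⟨fun h => (hle_sup n Y ⟨h⟩).le, fun h => (hle_sub n Y ⟨h⟩).le⟩
  · funext n
    ext Y
    exact ⟨fun h => (hge_sup n Y ⟨h⟩).ge, fun h => (hge_sub n Y ⟨h⟩).ge⟩

end Quot

end Groth.Agent.Lib.Helper21.TQuot
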