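import Mathlib
import Groth.Agent.Lib.Helper21TypeA3

/-!
# Helper21: kernels of maps between modules of type A

If kernels of maps between finite sums of `j_{U!} O_U` (`U ∈ B`) are of type A, then kernels of
maps between modules of type A are of type A.
-/

set_option autoImplicit false
universe u
open CategoryTheory CategoryTheory.Limits Opposite

namespace Groth.Agent.Lib.Helper21.TypeA

variable {C : Type u} [SmallCategory C] {J : GrothendieckTopology C} (O : Sheaf J CommRingCat.{u})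
  (B : Set C)

theorem isTypeA_kernel_of_fin
    (hker : ∀ (m n : ℕ) (V : Fin m → C) (U : Fin n → C)
      (φ : (∐ fun j => ModSite.freeOn O (V j)) ⟶ ∐ fun i => ModSite.freeOn O (U i)),
      (∀ j, V j ∈ B) → (∀ i, U i ∈ B) → IsTypeA O B (kernel φ))
    {Q P : ModSite.Mod O} (ψ : Q ⟶ P) (hQ : IsFF O B Q) (hP : IsFF O B P) :
    IsTypeA O B (kernel ψ) := by
  obtain ⟨m, V, hV, ⟨eQ⟩⟩ := hQ.exists_fin
  obtain ⟨n, U, hU, ⟨eP⟩⟩ := hP.exists_fin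
  refine (hker m n V U (eQ.inv ≫ ψ ≫ eP.hom) hV hU).of_iso ?_
  exact (kernel.mapIso ψ (eQ.inv ≫ ψ ≫ eP.hom) eQ eP (by simp)).symm

theorem isTypeA_kernel_comp_cokernel
    (hB₁ : ∀ X : C, ∃ (κ : Type u) (Y : κ → C) (g : ∀ k, Y k ⟶ X),
      Sieve.ofArrows Y g ∈ J X ∧ ∀ k, Y k ∈ B)
    (hB₂ : ∀ U ∈ B, CohCx.IsQcObject (hSh J U))
    (hker : ∀ {Q P : ModSite.Mod O} (ψ : Q ⟶ P), IsFF O B Q → IsFF O B P →
      IsTypeA O B (kernel ψ))
    {P P' Q : ModSite.Mod O} (hP : IsFF O B P) (hP' : IsFF O B P') (hQ : IsFF O B Q)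
    (t : P ⟶ P') (ψ : Q ⟶ P') : IsTypeA O B (kernel (t ≫ cokernel.π ψ)) := by
  obtain ⟨e⟩ := nonempty_kernel_iso_cokernel2 t ψ
  refine (isTypeA_cokernel_of_isTypeA O B hB₁ hB₂ (kerLift2 t ψ) (hker ψ hQ hP') ?_).of_iso e.symm
  exact hker (biprod.desc t ψ) (hP.biprod hQ) hP'

theorem isTypeA_kernel_of_isTypeA
    (hB₁ : ∀ X : C, ∃ (κ : Type u) (Y : κ → C) (g : ∀ k, Y k ⟶ X),
      Sieve.ofArrows Y g ∈ J X ∧ ∀ k, Y k ∈ B)
    (hB₂ : ∀ U ∈ B, CohCx.IsQcObject (hSh J U))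
    (hker : ∀ {Q P : ModSite.Mod O} (ψ : Q ⟶ P), IsFF O B Q → IsFF O B P →
      IsTypeA O B (kernel ψ))
    {F G : ModSite.Mod O} (α : F ⟶ G) (hF : IsTypeA O B F) (hG : IsTypeA O B G) :
    IsTypeA O B (kernel α) := by
  obtain ⟨QF, PF, ψF, hQF, hPF, ⟨iF⟩⟩ := hF.exists_pres
  obtain ⟨QG, PG, ψG, hQG, hPG, ⟨iG⟩⟩ := hG.exists_pres
  let α' : cokernel ψF ⟶ cokernel ψG := iF.inv ≫ α ≫ iG.hom
  have e1 : kernel α ≅ kernel α' := kernel.mapIso α α' iF iG (by simp [α'])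
  obtain ⟨P', hP', e, he, t, ht⟩ := exists_refine O B hB₁ hB₂ hPF (cokernel.π ψG)
    (cokernel.π ψF ≫ α')
  haveI : Epi (e ≫ cokernel.π ψF) := epi_comp _ _
  obtain ⟨e2⟩ := nonempty_kernel_iso_cokernel1 (e ≫ cokernel.π ψF) α'
  have h1 : IsTypeA O B (kernel (e ≫ cokernel.π ψF)) :=
    isTypeA_kernel_comp_cokernel O B hB₁ hB₂ hker hP' hPF hQF e ψF
  have h2 : IsTypeA O B (kernel ((e ≫ cokernel.π ψF) ≫ α')) := by
    have h3 : IsTypeA O B (kernel (t ≫ cokernel.π ψG)) :=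
      isTypeA_kernel_comp_cokernel O B hB₁ hB₂ hker hP' hPG hQG t ψG
    refine h3.of_iso (kernelIsoOfEq ?_)
    rw [ht, Category.assoc]
  exact (isTypeA_cokernel_of_isTypeA O B hB₁ hB₂ (kerLift1 (e ≫ cokernel.π ψF) α') h1 h2).of_iso
    (e1 ≪≫ e2).symm

end Groth.Agent.Lib.Helper21.TypeA
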