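import Mathlib
import Groth.Prelude.Def_ega3
import Groth.Agent.S2380
import Groth.Agent.S4490
import Groth.Agent.S2406
import Groth.Agent.S2410
import Groth.Agent.S2444
import Groth.Agent.S2436
import Groth.Agent.Lib.Helper21UnitHom
import Groth.Agent.Lib.Helper21FibA
import Groth.Agent.Lib.Helper21FibB
import Groth.Agent.Lib.Helper21TFunG
import Groth.Agent.Lib.Helper21TFunI
import Groth.Agent.Lib.Helper21MumD
import Groth.Agent.Lib.Helper21LinH
import Groth.Agent.Lib.Helper2CohBCD
import Groth.Agent.Lib.Helper3FlatCxBT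
import Groth.Agent.Lib.Helper3FlatCxRank
import Groth.Agent.Lib.Helper4DevI
import Groth.Agent.Lib.Helper17StalkBC3

/-!
# Helper21: `H^0(X, O_X)` is free of rank one when the closed fibre has `H^0 = k`

* `TBcIso`: `H_p(P ⊗_A B)` viewed as an `A`-module is `T_p(B) = H_p(P ⊗_A B)` of the Prelude.
* `isZero_of_epi_of_H0_map_eq_zero`: an epimorphism `O_X ⟶ G` inducing `0` on `H^0` has `G = 0`.
* `homology_equiv_of_finrank_one`: the algebraic heart (exchange in degree `0`).
* `core`: `X` proper over a Noetherian local ring `A`, `O_X` flat over `A`, closed fibre with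
  `h^0(O) = 1` ⇒ `H^0(X, O_X) ≃ₗ[A] A`.
-/

set_option autoImplicit false
universe u
open CategoryTheory CategoryTheory.Limits MonoidalCategory TensorProduct AlgebraicGeometry Opposite

namespace Groth.Agent.Lib.Helper21.TBridge

variable {A B : Type u} [CommRing A] [CommRing B] [Algebra A B]

/-- `B ⊗_A M` with the `A`-structure through `B` is `M ⊗_A B`. -/
noncomputable def compEquiv (M : ModuleCat.{u} A) :
    ↑((ModuleCat.restrictScalars (algebraMap A B)).obj
      ((ModuleCat.extendScalars (algebraMap A B)).obj M)) ≃ₗ[A] (M ⊗[A] B) := by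
  let E : ModuleCat.{u} B := (ModuleCat.extendScalars (algebraMap A B)).obj M
  refine
    { toFun := fun z => TensorProduct.comm A B M (Groth.Agent.S2380.bridge A B M (show E from z))
      invFun := fun z => (show E from (Groth.Agent.S2380.bridge A B M).symm
        ((TensorProduct.comm A B M).symm z))
      map_add' := fun x y => ?_
      map_smul' := ?_
      left_inv := fun z => ?_
      right_inv := fun z => ?_ }
  · change TensorProduct.comm A B M (Groth.Agent.S2380.bridge A B M
      ((show E from x) + (show E from y))) = _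
    rw [map_add, map_add]
  · intro a z
    change TensorProduct.comm A B M (Groth.Agent.S2380.bridge A B M
      (algebraMap A B a • (show E from z))) = a • TensorProduct.comm A B M
        (Groth.Agent.S2380.bridge A B M (show E from z))
    rw [map_smul, algebraMap_smul, map_smul]
  · change (Groth.Agent.S2380.bridge A B M).symm ((TensorProduct.comm A B M).symm
      (TensorProduct.comm A B M (Groth.Agent.S2380.bridge A B M (show E from z)))) = z
    rw [LinearEquiv.symm_apply_apply, LinearEquiv.symm_apply_apply]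
  · change TensorProduct.comm A B M (Groth.Agent.S2380.bridge A B M
      ((Groth.Agent.S2380.bridge A B M).symm ((TensorProduct.comm A B M).symm z))) = z
    rw [LinearEquiv.apply_symm_apply, LinearEquiv.apply_symm_apply]

theorem compEquiv_apply (M : ModuleCat.{u} A)
    (z : ((ModuleCat.extendScalars (algebraMap A B)).obj M : ModuleCat.{u} B)) :
    compEquiv (B := B) M z = TensorProduct.comm A B M (Groth.Agent.S2380.bridge A B M z) := rfl

variable (A B) in
/-- `restrictScalars ∘ extendScalars ≅ - ⊗_A B` -/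
noncomputable def extRestrIso :
    ModuleCat.extendScalars (algebraMap A B) ⋙ ModuleCat.restrictScalars (algebraMap A B) ≅
      tensorRight (ModuleCat.of A B) :=
  NatIso.ofComponents (fun M => (compEquiv (B := B) M).toModuleIso) (by
    intro M N g
    ext z
    change compEquiv (B := B) N ((ModuleCat.extendScalars (algebraMap A B)).map g z) =
      (g ▷ ModuleCat.of A B).hom (compEquiv (B := B) M z)
    rw [compEquiv_apply, compEquiv_apply, Groth.Agent.S2380.bridge_naturality]
    generalize Groth.Agent.S2380.bridge A B M z = w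
    induction w using TensorProduct.induction_on with
    | zero => simp
    | tmul b m => rfl
    | add x y hx hy => rw [map_add, map_add, map_add, map_add, hx, hy])


variable {ι : Type} {c : ComplexShape ι}

/-- `H_p(P ⊗_A B)` (as an `A`-module) is `T_p(B)` -/
noncomputable def TBcIso (P : HomologicalComplex (ModuleCat.{u} A) c) (p : ι) :
    (ModuleCat.restrictScalars (algebraMap A B)).obj
      ((CohIII.bcCx (algebraMap A B) P).homology p) ≅ CohIII.T P p (ModuleCat.of A B) :=
  (((CohIII.bcCx (algebraMap A B) P).sc p).mapHomologyIso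
      (ModuleCat.restrictScalars (algebraMap A B))).symm ≪≫
    (HomologicalComplex.homologyFunctor _ c p).mapIso
      (show ((ModuleCat.restrictScalars (algebraMap A B)).mapHomologicalComplex c).obj
          (CohIII.bcCx (algebraMap A B) P) ≅ CohIII.tensorObj P (ModuleCat.of A B) from
        (NatIso.mapHomologicalComplex (extRestrIso A B) c).app P)


section Sheaf

variable {X : Scheme.{u}}

/-- a morphism out of the structure sheaf which is zero on `H^0` is zero -/
theorem eq_zero_of_H0_map_eq_zero {G : X.Modules} (ψ : Coh.structureModule X ⟶ G)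
    (h : (CohIII.HAb X 0).map ψ = 0) : ψ = 0 := by
  apply (Groth.Agent.Lib.Helper21.UnitHom.unitHomAddEquiv
    (R := X.ringCatSheaf) (Limits.isTerminalTop (α := X.Opens)) G).injective
  refine Eq.trans ?_ (map_zero _).symm
  change ψ.val.app (op ⊤) (1 : X.ringCatSheaf.obj.obj (op ⊤)) = 0
  have h1 := Sheaf.H.equiv₀_symm_naturality (hT := Limits.isTerminalTop)
    ((SheafOfModules.toSheaf X.ringCatSheaf).map ψ) (1 : X.ringCatSheaf.obj.obj (op ⊤))
  have h2 : Sheaf.H.map ((SheafOfModules.toSheaf X.ringCatSheaf).map ψ) 0 = 0 := by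
    have := congrArg (fun k => k.hom) h
    exact this
  rw [h2] at h1
  have h3 := (Sheaf.H.equiv₀ ((SheafOfModules.toSheaf X.ringCatSheaf).obj G)
    Limits.isTerminalTop).symm.injective (h1.symm.trans (map_zero _).symm)
  exact h3

theorem isZero_of_epi_of_H0_map_eq_zero {G : X.Modules} (ψ : Coh.structureModule X ⟶ G) [Epi ψ]
    (h : (CohIII.HAb X 0).map ψ = 0) : IsZero G := by
  have h0 := eq_zero_of_H0_map_eq_zero ψ h
  subst h0
  exact IsZero.of_epi_eq_zero (0 : Coh.structureModule X ⟶ G) rfl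

end Sheaf


/-- a nonzero linear map to a one-dimensional space over a quotient field is surjective -/
theorem surjective_of_ne_zero_of_finrank_eq_one {A k : Type u} [CommRing A] [Field k] [Algebra A k]
    (hk : Function.Surjective (algebraMap A k))
    {T V : Type u} [AddCommGroup T] [Module A T] [AddCommGroup V] [Module k V] [Module A V]
    (hsm : ∀ (a : A) (v : V), algebraMap A k a • v = a • v)
    (hV : Module.finrank k V = 1) (g : T →ₗ[A] V) (hg : g ≠ 0) :
    Function.Surjective g := by
  obtain ⟨t, ht⟩ : ∃ t, g t ≠ 0 := by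
    by_contra hcon
    simp only [not_exists, not_not] at hcon
    exact hg (LinearMap.ext hcon)
  intro w
  obtain ⟨c, hc⟩ := (finrank_eq_one_iff_of_nonzero' (g t) ht).1 hV w
  obtain ⟨a, rfl⟩ := hk c
  refine ⟨a • t, ?_⟩
  rw [map_smul, ← hc, hsm]

theorem subsingleton_HH_of_isZero {X : Scheme.{u}} {G : X.Modules} (hz : IsZero G) (p : ℕ) :
    Subsingleton ((CohIII.HAb X p).obj G) := by
  refine ⟨fun x y => ?_⟩
  have h0 : 𝟙 G = 0 := hz.eq_of_src _ _
  have key : ∀ z : (CohIII.HAb X p).obj G, z = 0 := by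
    intro z
    have h1 : ((CohIII.HAb X p).map (𝟙 G)).hom z = z := by
      rw [CategoryTheory.Functor.map_id]
      rfl
    rw [h0] at h1
    rw [← h1]
    change Sheaf.H.map ((SheafOfModules.toSheaf X.ringCatSheaf).map (0 : G ⟶ G)) p z = 0
    have h2 : (SheafOfModules.toSheaf X.ringCatSheaf).map (0 : G ⟶ G) = 0 := rfl
    rw [h2, Sheaf.H.map_apply, Abelian.Ext.mk₀_zero, Abelian.Ext.comp_zero]
  rw [key x, key y]

section Core

open Groth.Agent.Lib.Helper16.CechLow Groth.Agent.Lib.Helper21.CechMod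
  Groth.Agent.Lib.Helper21.CechBC Groth.Agent.Lib.Helper21.MumD Groth.Agent.Lib.Helper21.MumB
  Groth.Agent.Lib.Helper21.MumC Groth.Agent.Lib.Helper21.TFunA Groth.Agent.Lib.Helper21.TFunG
  Groth.Agent.Lib.Helper21.FibA Groth.Agent.Lib.Helper21.FibB Groth.Agent.Lib.Helper3

variable (A : Type u) [CommRing A] [IsNoetherianRing A] [IsLocalRing A]
  (X : Scheme.{u}) [X.Over (Spec (CommRingCat.of A))] [IsProper (X ↘ Spec (CommRingCat.of A))]

/-- the algebraic heart: a perfect complex with `T_{p₀+1} = 0`, `dim T_{p₀}(k) = 1` and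
`T_{p₀}(A) → T_{p₀}(k)` nonzero has `H_{p₀} ≅ A` -/
theorem homology_equiv_of_finrank_one (P : ChainComplex (ModuleCat.{u} A) ℤ)
    (hP : ∀ i, Module.Finite A (P.X i) ∧ Module.Flat A (P.X i)) (p₀ : ℤ)
    (hz : IsZero (P.X (p₀ + 1)))
    (hrk : Module.finrank (IsLocalRing.ResidueField A)
      ((CohIII.bcCx (algebraMap A (IsLocalRing.ResidueField A)) P).homology p₀) = 1)
    (hne : (CohIII.TFun P p₀).map
      (ModuleCat.ofHom (Algebra.linearMap A (IsLocalRing.ResidueField A))) ≠ 0) :
    Nonempty ((CohIII.TFun P p₀).obj (ModuleCat.of A A) ≃ₗ[A] A) ∧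
      Module.Flat A (P.opcycles (p₀ - 1)) := by
  have hflat : ∀ i, Module.Flat A (P.X i) := fun i => (hP i).2
  -- surjectivity of `T(A) → T(k)`
  let k := IsLocalRing.ResidueField A
  let V : ModuleCat.{u} k := (CohIII.bcCx (algebraMap A k) P).homology p₀
  let W : ModuleCat.{u} A := (ModuleCat.restrictScalars (algebraMap A k)).obj V
  let e : W ≅ (CohIII.TFun P p₀).obj (ModuleCat.of A k) := TBcIso (B := k) P p₀
  have hsurj : Function.Surjective ((CohIII.TFun P p₀).map
      (ModuleCat.ofHom (Algebra.linearMap A k))).hom := by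
    let g : (CohIII.TFun P p₀).obj (ModuleCat.of A A) ⟶ W :=
      (CohIII.TFun P p₀).map (ModuleCat.ofHom (Algebra.linearMap A k)) ≫ e.inv
    have hg : g ≠ 0 := by
      intro h0
      apply hne
      have h1 : g ≫ e.hom = 0 := by rw [h0, zero_comp]
      rw [Category.assoc, e.inv_hom_id, Category.comp_id] at h1
      exact h1
    have hs : Function.Surjective g.hom :=
      surjective_of_ne_zero_of_finrank_eq_one (A := A) (k := k) (V := W)
        IsLocalRing.residue_surjective (fun _ _ => rfl) hrk g.hom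
        (fun h0 => hg (ModuleCat.hom_ext h0))
    intro w
    obtain ⟨t, ht⟩ := hs (e.inv.hom w)
    refine ⟨t, ?_⟩
    have h2 : e.inv.hom (((CohIII.TFun P p₀).map
        (ModuleCat.ofHom (Algebra.linearMap A k))).hom t) = e.inv.hom w := ht
    have h3 := congrArg (fun z => e.hom.hom z) h2
    have h4 : ∀ z, e.hom.hom (e.inv.hom z) = z := fun z => by
      have := congrArg (fun f => f.hom z) e.inv_hom_id
      exact this
    simp only [h4] at h3
    exact h3
  have he : (CohIII.TFun P p₀).PreservesEpimorphisms :=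
    (Groth.Agent.S4490.result P hP p₀).1.2 hsurj
  have hm : (CohIII.TFun P p₀).PreservesMonomorphisms := by
    have h1 := Groth.Agent.S2406.result P hflat (p₀ + 1) p₀ rfl
    refine h1.1 ⟨fun {M M'} g _ => ?_⟩
    have hz' := Groth.Agent.S2436.isZero_T_of_isZero_X P (p₀ + 1) hz M'
    exact ⟨fun u v _ => hz'.eq_of_src u v⟩
  have hfree : Module.Free A ((CohIII.TFun P p₀).obj (ModuleCat.of A A)) :=
    ((Groth.Agent.S2410.result P hP p₀).1 ⟨hm, he⟩).2
  haveI : Module.Free A (CohIII.T P p₀ (ModuleCat.of A A)) := hfree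
  haveI : Module.Free A (P.homology p₀) :=
    Module.Free.of_equiv (TUnitIso P p₀).toLinearEquiv
  haveI := hflat (p₀ - 1)
  haveI : Module.Flat A (P.opcycles (p₀ - 1)) :=
    (Groth.Agent.S2410.preservesEpi_iff_flat_opcycles P hflat p₀ (p₀ - 1) (by ring)).1 he
  have h1 := Groth.Agent.Lib.Helper2.CohBCA.finrank_homology_bcCx_eq_dRank (K := k) P hflat p₀
  rw [Groth.Agent.Lib.Helper2.CohBCD.pointOf_residueField, dRank_eq_fd_homology P p₀,
    fd_of_free] at h1
  have h2 : Module.finrank A (P.homology p₀) = 1 := h1.symm.trans hrk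
  haveI := (hP p₀).1
  haveI : Module.Finite A (CohIII.T P p₀ (ModuleCat.of A A)) :=
    Groth.Agent.S2444.finite_T P p₀ (ModuleCat.of A A)
  haveI : Module.Finite A (P.homology p₀) :=
    Module.Finite.equiv (TUnitIso P p₀).toLinearEquiv
  let b := Module.finBasisOfFinrankEq A (P.homology p₀) h2
  exact ⟨⟨(TUnitIso P p₀).toLinearEquiv.trans
    (b.equivFun.trans (LinearEquiv.funUnique (Fin 1) A A))⟩, inferInstance⟩

/-- **Core**: `X` proper over a Noetherian local ring `A` with `O_X` flat over `A`, and closed fibre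
`X₀` with `dim_k H^0(X₀, O) = 1`: then `H^0(X, O_X)` is free of rank one over `A`, and the same holds
after any base change `A → B`. -/
theorem core_full (hfl : FlatMod.IsFlatOver (X ↘ Spec (CommRingCat.of A)) (Coh.structureModule X))
    (X₀ : Scheme.{u}) [X₀.Over (Spec (CommRingCat.of (IsLocalRing.ResidueField A)))] (j : X₀ ⟶ X)
    (hsq : IsPullback j (X₀ ↘ Spec (CommRingCat.of (IsLocalRing.ResidueField A)))
      (X ↘ Spec (CommRingCat.of A))
      (Spec.map (CommRingCat.ofHom (algebraMap A (IsLocalRing.ResidueField A)))))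
    (hrk : Module.finrank (IsLocalRing.ResidueField A)
      (Coh.HH X₀ ((Scheme.Modules.pullback j).obj (Coh.structureModule X)) 0) = 1) :
    Nonempty (Coh.HH X (Coh.structureModule X) 0 ≃ₗ[A] A) ∧
      ∀ (B : Type u) [CommRing B] [Algebra A B] (X' : Scheme.{u})
        [X'.Over (Spec (CommRingCat.of B))] (g' : X' ⟶ X)
        (_ : IsPullback g' (X' ↘ Spec (CommRingCat.of B)) (X ↘ Spec (CommRingCat.of A))
          (Spec.map (CommRingCat.ofHom (algebraMap A B)))),
        Nonempty (Coh.HH X' ((Scheme.Modules.pullback g').obj (Coh.structureModule X)) 0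
          ≃ₗ[B] B) := by
  let k := IsLocalRing.ResidueField A
  let F : X.Modules := Coh.structureModule X
  have hF : Coh.IsCoh F := Groth.Agent.Lib.Helper4.Dev.isCoh_structureModule X
  haveI : F.IsQuasicoherent := hF.1
  haveI : Coh.IsQCoh F := hF.1
  haveI : CompactSpace X :=
    QuasiCompact.compactSpace_of_compactSpace (X ↘ Spec (CommRingCat.of A))
  obtain ⟨ι, hfin, U, hcov, hU1, hU⟩ := exists_cover A X
  have hflat : ∀ n, Module.Flat A ((CA A F U).X n) :=
    fun n => flat_CX A F U hfl (isAffineOpen_Ux U hU) n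
  have hfinH : ∀ p, Module.Finite A ((CA A F U).homology p) := fun p => by
    obtain ⟨e⟩ := nonempty_linearEquiv_homology A F U hcov hU p
    have := Groth.Agent.S0002.result A X F hF p
    exact Module.Finite.equiv e
  have hN : ∀ (M : ModuleCat.{u} A) (p : ℕ), Nat.card ι ≤ p → (TL M (CA A F U)).ExactAt p :=
    fun M p hp => exactAt_TL_of_le A F U hcov hU hU1 M p hp
  obtain ⟨P, hP, hPb, hiso, hbc⟩ := main_natural_chain_bc (CA A F U) hflat hfinH (Nat.card ι) hN
  have hPf : ∀ i, Module.Finite A (P.X i) ∧ Module.Flat A (P.X i) := fun i => ⟨(hP i).1, by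
    have := (hP i).2
    infer_instance⟩
  obtain ⟨e1⟩ := hiso 0
  obtain ⟨e2⟩ := nonempty_natIso_cech A F U hcov hU 0
  let e : CohIII.tensorAFunctor A F ⋙ CohIII.HAb X 0 ≅
      CohIII.TFun P (-((0 : ℕ) : ℤ)) ⋙ forget₂ (ModuleCat.{u} A) AddCommGrpCat.{u} :=
    e2 ≪≫ Functor.isoWhiskerRight e1 _
  -- the rank
  obtain ⟨e3⟩ := nonempty_linearEquiv_homology_bc A k j hsq F U hcov hU 0
  obtain ⟨e4⟩ := hbc k 0
  have hrk' : Module.finrank k
      ((CohIII.bcCx (algebraMap A k) P).homology (-((0 : ℕ) : ℤ))) = 1 :=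
    (LinearEquiv.finrank_eq (e3.trans e4.toLinearEquiv)).symm.trans hrk
  let π : ModuleCat.of A A ⟶ ModuleCat.of A k := ModuleCat.ofHom (Algebra.linearMap A k)
  -- nonvanishing
  have hne : (CohIII.TFun P (-((0 : ℕ) : ℤ))).map π ≠ 0 := by
    intro h0
    have h1 : (CohIII.tensorAFunctor A F ⋙ CohIII.HAb X 0).map π = 0 := by
      have hnat := e.hom.naturality π
      have h2 : (CohIII.TFun P (-((0 : ℕ) : ℤ)) ⋙
          forget₂ (ModuleCat.{u} A) AddCommGrpCat.{u}).map π = 0 := by
        change (forget₂ (ModuleCat.{u} A) AddCommGrpCat.{u}).map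
          ((CohIII.TFun P (-((0 : ℕ) : ℤ))).map π) = 0
        rw [h0]
        exact Functor.map_zero _ _ _
      rw [h2, comp_zero] at hnat
      have h3 := congrArg (fun f => f ≫ e.inv.app (ModuleCat.of A k)) hnat
      simp only [Category.assoc, Iso.hom_inv_id_app, Category.comp_id, zero_comp] at h3
      exact h3
    have hπ : Epi π := (ModuleCat.epi_iff_surjective π).2 IsLocalRing.residue_surjective
    haveI : Epi ((𝒢 A F).map π) := inferInstance
    let ψ : F ⟶ (𝒢 A F).obj (ModuleCat.of A k) := (𝒢AIso A F).inv ≫ (𝒢 A F).map π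
    haveI : Epi ψ := epi_comp _ _
    have h2 : (CohIII.HAb X 0).map ψ = 0 := by
      rw [Functor.map_comp]
      have : (CohIII.HAb X 0).map ((𝒢 A F).map π) = 0 := h1
      rw [this, comp_zero]
    have hz := isZero_of_epi_of_H0_map_eq_zero ψ h2
    haveI hs0 : Subsingleton
        ((CohIII.tensorAFunctor A F ⋙ CohIII.HAb X 0).obj (ModuleCat.of A k)) :=
      subsingleton_HH_of_isZero hz 0
    haveI hs1 : Subsingleton (CohIII.T P (-((0 : ℕ) : ℤ)) (ModuleCat.of A k)) :=
      (e.app (ModuleCat.of A k)).symm.addCommGroupIsoToAddEquiv.injective.subsingleton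
    haveI hs2 : Subsingleton ((CohIII.bcCx (algebraMap A k) P).homology (-((0 : ℕ) : ℤ))) :=
      (TBcIso (B := k) P (-((0 : ℕ) : ℤ))).toLinearEquiv.injective.subsingleton
    rw [Module.finrank_zero_of_subsingleton] at hrk'
    exact zero_ne_one hrk'
  obtain ⟨⟨e5⟩, hop⟩ := homology_equiv_of_finrank_one A P hPf (-((0 : ℕ) : ℤ))
    (hPb _ (Or.inl (by simp))) hrk' hne
  let e6 := Groth.Agent.Lib.Helper21.LinH.linearEquivOfNatIso (A := A) F 0
    (CohIII.TFun P (-((0 : ℕ) : ℤ)))
    (Groth.Agent.Lib.Helper21.TFunI.TFun_map_smul_id A P (-((0 : ℕ) : ℤ))) e (ModuleCat.of A A)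
  let e7 := Groth.Agent.Lib.Helper17.StalkBC.hhEquiv A (𝒢AIso A F) 0
  refine ⟨⟨e7.symm.trans (e6.trans e5)⟩, ?_⟩
  intro B _ _ X' _ g' h
  obtain ⟨e3'⟩ := nonempty_linearEquiv_homology_bc A B g' h F U hcov hU 0
  obtain ⟨e4'⟩ := hbc B 0
  haveI := hop
  haveI : Module.Flat A (P.X (-((0 : ℕ) : ℤ) - 1)) := (hPf _).2
  obtain ⟨e8⟩ := nonempty_bcHomologyEquiv B P (-((0 : ℕ) : ℤ)) (-((0 : ℕ) : ℤ) - 1) (by simp)
  let e9 : P.homology (-((0 : ℕ) : ℤ)) ≃ₗ[A] A :=
    (TUnitIso P (-((0 : ℕ) : ℤ))).toLinearEquiv.symm.trans e5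
  let e10 : B ⊗[A] (P.homology (-((0 : ℕ) : ℤ))) ≃ₗ[B] B :=
    (LinearEquiv.baseChange A B _ _ e9).trans (TensorProduct.AlgebraTensorModule.rid A B B)
  exact ⟨e3'.trans (e4'.toLinearEquiv.trans (e8.trans e10))⟩

/-- **Core**: `X` proper over a Noetherian local ring `A` with `O_X` flat over `A`, and closed fibre
`X₀` with `dim_k H^0(X₀, O) = 1`: then `H^0(X, O_X)` is free of rank one over `A`. -/
theorem core (hfl : FlatMod.IsFlatOver (X ↘ Spec (CommRingCat.of A)) (Coh.structureModule X))
    (X₀ : Scheme.{u}) [X₀.Over (Spec (CommRingCat.of (IsLocalRing.ResidueField A)))] (j : X₀ ⟶ X)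
    (hsq : IsPullback j (X₀ ↘ Spec (CommRingCat.of (IsLocalRing.ResidueField A)))
      (X ↘ Spec (CommRingCat.of A))
      (Spec.map (CommRingCat.ofHom (algebraMap A (IsLocalRing.ResidueField A)))))
    (hrk : Module.finrank (IsLocalRing.ResidueField A)
      (Coh.HH X₀ ((Scheme.Modules.pullback j).obj (Coh.structureModule X)) 0) = 1) :
    Nonempty (Coh.HH X (Coh.structureModule X) 0 ≃ₗ[A] A) :=
  (core_full A X hfl X₀ j hsq hrk).1


end Core

end Groth.Agent.Lib.Helper21.TBridge
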