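import Groth.Agent.Lib.Helper21UnitFib
import Groth.Agent.Lib.Helper21LCA
import Groth.Agent.Lib.Helper23QAffSec
import Groth.Agent.Lib.Helper23TensorUnit

/-!
# Helper21: `A → Γ(X, O_X)` is bijective for `X` proper flat over a Noetherian local ring with
`k → Γ(X₀, O_{X₀})` bijective on the closed fibre
-/

set_option autoImplicit false
universe u
open CategoryTheory CategoryTheory.Limits MonoidalCategory TensorProduct AlgebraicGeometry Opposite

namespace Groth.Agent.Lib.Helper21.TBridge

section Flat

/-- the structure sheaf of a flat morphism is flat over the base -/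
theorem isFlatOver_structureModule {X S : Scheme.{u}} (f : X ⟶ S) [Flat f] :
    FlatMod.IsFlatOver f (Coh.structureModule X) := by
  intro x
  have hO : FlatMod.IsFinLocFreeOfRank 1 (Coh.structureModule X) :=
    Groth.Agent.Lib.Helper23.SecTw.isFinLocFreeOfRank_one_of_isInvertible _
      (Groth.Agent.Lib.Helper23.TensorUnit.isInvertible_structureModule X)
  obtain ⟨U, hxU, ⟨e⟩⟩ := hO x
  have hfree : Module.Free (X.presheaf.stalk x) ((Coh.structureModule X).presheaf.stalk x) :=
    Groth.Agent.Lib.Helper21.LCA.free_stalk_of_restrict_iso_freeMod _ U 1 e x hxU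
  letI aCB : Algebra (S.presheaf.stalk (f x)) (X.presheaf.stalk x) := (f.stalkMap x).hom.toAlgebra
  letI mF := FlatMod.moduleStalkOver f (Coh.structureModule X) x
  have : IsScalarTower (S.presheaf.stalk (f x)) (X.presheaf.stalk x)
      ((Coh.structureModule X).presheaf.stalk x) :=
    IsScalarTower.of_algebraMap_smul (fun _ _ => rfl)
  have hfl : Module.Flat (S.presheaf.stalk (f x)) (X.presheaf.stalk x) := Flat.stalkMap f x
  have goal : Module.Flat (S.presheaf.stalk (f x)) ((Coh.structureModule X).presheaf.stalk x) :=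
    Module.Flat.trans (S.presheaf.stalk (f x)) (X.presheaf.stalk x) _
  exact goal

end Flat

section Ring

/-- a ring homomorphism making the target a free module of rank one is bijective -/
theorem bijective_of_linearEquiv {R B M : Type u} [CommRing R] [Ring B]
    (hcomm : ∀ x y : B, x * y = y * x) (φ : R →+* B)
    [AddCommGroup M] [Module R M] (ι : M ≃+ B)
    (hsm : ∀ (a : R) (s : M), ι (a • s) = φ a * ι s) (e : M ≃ₗ[R] R) :
    Function.Bijective φ := by
  -- the basis element
  let b : M := e.symm 1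
  have hb : ∀ s : M, ι s = φ (e s) * ι b := by
    intro s
    have h1 : s = e s • b := by
      apply e.injective
      rw [map_smul, LinearEquiv.apply_symm_apply, smul_eq_mul, mul_one]
    conv_lhs => rw [h1]
    exact hsm _ _
  have hinj : Function.Injective φ := by
    rw [injective_iff_map_eq_zero]
    intro a ha
    have h1 : ι (a • b) = 0 := by rw [hsm, ha, zero_mul]
    have h2 : a • b = 0 := ι.injective (h1.trans (map_zero ι).symm)
    have h3 := congrArg e h2
    rw [map_smul, LinearEquiv.apply_symm_apply, smul_eq_mul, mul_one, map_zero] at h3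
    exact h3
  -- `1 = φ r₀ * ι b`
  obtain ⟨u, hu⟩ : ∃ u : M, ι u = 1 := ι.surjective 1
  obtain ⟨v, hv⟩ : ∃ v : M, ι v = ι b * ι b := ι.surjective _
  have h1 : (1 : B) = φ (e u) * ι b := by rw [← hu]; exact hb u
  have h2 : ι b * ι b = φ (e v) * ι b := by rw [← hv]; exact hb v
  have h3 : ι b = φ (e v) := by
    calc ι b = ι b * 1 := (mul_one _).symm
      _ = ι b * (φ (e u) * ι b) := by rw [← h1]
      _ = φ (e u) * (ι b * ι b) := by
        rw [← mul_assoc, hcomm (ι b) (φ (e u)), mul_assoc]
      _ = φ (e u) * (φ (e v) * ι b) := by rw [h2]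
      _ = φ (e v) * (φ (e u) * ι b) := by
        rw [← mul_assoc, hcomm (φ (e u)) (φ (e v)), mul_assoc]
      _ = φ (e v) := by rw [← h1, mul_one]
  refine ⟨hinj, fun s => ?_⟩
  obtain ⟨m, rfl⟩ := ι.surjective s
  refine ⟨e m * e v, ?_⟩
  rw [map_mul, ← h3]
  exact (hb m).symm

end Ring


section H0

open Groth.Agent.Lib.Helper21.CechMod Groth.Agent.Lib.Helper21.TFunI

variable (A : Type u) [CommRing A] {X : Scheme.{u}} [X.Over (Spec (CommRingCat.of A))]

/-- `Γ(X, G) ≃ₗ[A] H^0(X, G)` -/
noncomputable def h0LinearEquiv (G : X.Modules) :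
    (CohIII.globalSectionsA A).obj G ≃ₗ[A] Coh.HH X G 0 :=
  { ((gsAIsoH0 A).app G).addCommGroupIsoToAddEquiv with
    map_smul' := fun a s => by
      have h := (gsAIsoH0 A (X := X)).hom.naturality (Formal.smulMod A G a)
      have h2 := congrArg (fun k => k.hom s) h
      have h3 : ((gsAIsoH0 A).hom.app G).hom
          (((CohIII.globalSectionsA A).map (Formal.smulMod A G a)).hom s) =
          ((CohIII.HAb X 0).map (Formal.smulMod A G a)).hom (((gsAIsoH0 A).hom.app G).hom s) := h2
      rw [gsA_map_smulMod] at h3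
      exact h3 }

/-- the underlying ring of global functions and the module `Γ(X, O_X)` -/
noncomputable def gsUnitAddEquiv :
    (CohIII.globalSectionsA A).obj (Coh.structureModule X) ≃+ Coh.Γtop X :=
  AddEquiv.refl _

theorem gsUnitAddEquiv_smul (a : A)
    (s : (CohIII.globalSectionsA A).obj (Coh.structureModule X)) :
    gsUnitAddEquiv A (a • s) =
      Coh.toGlobal (X ↘ Spec (CommRingCat.of A)) a * gsUnitAddEquiv A s := by
  rw [gsA_smul]
  have h1 : ringA A (⊤ : X.Opens) a = Coh.toGlobal (X ↘ Spec (CommRingCat.of A)) a := by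
    unfold ringA
    have h2 : (homOfLE (le_top : (⊤ : X.Opens) ≤ ⊤)).op = 𝟙 _ := Subsingleton.elim _ _
    rw [h2, CategoryTheory.Functor.map_id]
    rfl
  rw [h1]
  rfl

end H0


section Main

open Groth.Agent.Lib.Helper21.TFunG

variable (A : Type u) [CommRing A] [IsNoetherianRing A] [IsLocalRing A]
  (X : Scheme.{u}) [X.Over (Spec (CommRingCat.of A))] [IsProper (X ↘ Spec (CommRingCat.of A))]
  [Flat (X ↘ Spec (CommRingCat.of A))]

/-- the rank of `H^0` of the closed fibre -/
theorem finrank_closedFibre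
    (X₀ : Scheme.{u}) [X₀.Over (Spec (CommRingCat.of (IsLocalRing.ResidueField A)))] (j : X₀ ⟶ X)
    (h0 : Function.Bijective
      (Coh.toGlobal (X₀ ↘ Spec (CommRingCat.of (IsLocalRing.ResidueField A))))) :
    Module.finrank (IsLocalRing.ResidueField A)
      (Coh.HH X₀ ((Scheme.Modules.pullback j).obj (Coh.structureModule X)) 0) = 1 := by
  let k := IsLocalRing.ResidueField A
  let ea := Groth.Agent.Lib.Helper17.StalkBC.hhEquiv k (pullbackUnitIso j) 0
  let eb := (h0LinearEquiv k (Coh.structureModule X₀)).symm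
  let φ₀ := Coh.toGlobal (X₀ ↘ Spec (CommRingCat.of k))
  let ι₀ := gsUnitAddEquiv k (X := X₀)
  let ec : k ≃ₗ[k] (CohIII.globalSectionsA k).obj (Coh.structureModule X₀) :=
    LinearEquiv.ofBijective
      { toFun := fun c => ι₀.symm (φ₀ c)
        map_add' := fun c d => by rw [map_add, map_add]
        map_smul' := fun c d => by
          apply ι₀.injective
          rw [AddEquiv.apply_symm_apply, RingHom.id_apply, gsUnitAddEquiv_smul,
            AddEquiv.apply_symm_apply, smul_eq_mul, map_mul] }
      ⟨fun c d h => h0.1 (ι₀.symm.injective h), fun s => by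
        obtain ⟨c, hc⟩ := h0.2 (ι₀ s)
        exact ⟨c, by
          change ι₀.symm (φ₀ c) = s
          rw [hc, AddEquiv.symm_apply_apply]⟩⟩
  rw [LinearEquiv.finrank_eq (ea.trans (eb.trans ec.symm))]
  exact Module.finrank_self k

/-- **`H^0(X, O_X)` is free of rank one** when `X` is proper and flat over the Noetherian local ring
`A` and the closed fibre `X₀` has `k → Γ(X₀, O_{X₀})` bijective. -/
theorem nonempty_H0_linearEquiv
    (X₀ : Scheme.{u}) [X₀.Over (Spec (CommRingCat.of (IsLocalRing.ResidueField A)))] (j : X₀ ⟶ X)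
    (hsq : IsPullback j (X₀ ↘ Spec (CommRingCat.of (IsLocalRing.ResidueField A)))
      (X ↘ Spec (CommRingCat.of A))
      (Spec.map (CommRingCat.ofHom (algebraMap A (IsLocalRing.ResidueField A)))))
    (h0 : Function.Bijective
      (Coh.toGlobal (X₀ ↘ Spec (CommRingCat.of (IsLocalRing.ResidueField A))))) :
    Nonempty (Coh.HH X (Coh.structureModule X) 0 ≃ₗ[A] A) :=
  core A X (isFlatOver_structureModule (X ↘ Spec (CommRingCat.of A))) X₀ j hsq
    (finrank_closedFibre A X X₀ j h0)

/-- **`H^0(X_B, O)` is free of rank one for every base change `A → B`** when `X` is proper and flat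
over the Noetherian local ring `A` and the closed fibre `X₀` has `k → Γ(X₀, O_{X₀})` bijective. -/
theorem nonempty_H0_linearEquiv_bc
    (X₀ : Scheme.{u}) [X₀.Over (Spec (CommRingCat.of (IsLocalRing.ResidueField A)))] (j : X₀ ⟶ X)
    (hsq : IsPullback j (X₀ ↘ Spec (CommRingCat.of (IsLocalRing.ResidueField A)))
      (X ↘ Spec (CommRingCat.of A))
      (Spec.map (CommRingCat.ofHom (algebraMap A (IsLocalRing.ResidueField A)))))
    (h0 : Function.Bijective
      (Coh.toGlobal (X₀ ↘ Spec (CommRingCat.of (IsLocalRing.ResidueField A)))))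
    (B : Type u) [CommRing B] [Algebra A B] (X' : Scheme.{u})
    [X'.Over (Spec (CommRingCat.of B))] (g' : X' ⟶ X)
    (h : IsPullback g' (X' ↘ Spec (CommRingCat.of B)) (X ↘ Spec (CommRingCat.of A))
      (Spec.map (CommRingCat.ofHom (algebraMap A B)))) :
    Nonempty (Coh.HH X' (Coh.structureModule X') 0 ≃ₗ[B] B) := by
  obtain ⟨e⟩ := (core_full A X (isFlatOver_structureModule (X ↘ Spec (CommRingCat.of A))) X₀ j hsq
    (finrank_closedFibre A X X₀ j h0)).2 B X' g' h
  exact ⟨(Groth.Agent.Lib.Helper17.StalkBC.hhEquiv B (pullbackUnitIso g') 0).symm.trans e⟩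

/-- **`A → Γ(X, O_X)` is bijective** when `X` is proper and flat over the Noetherian local ring `A`
and the closed fibre `X₀` has `k → Γ(X₀, O_{X₀})` bijective. -/
theorem toGlobal_bijective
    (X₀ : Scheme.{u}) [X₀.Over (Spec (CommRingCat.of (IsLocalRing.ResidueField A)))] (j : X₀ ⟶ X)
    (hsq : IsPullback j (X₀ ↘ Spec (CommRingCat.of (IsLocalRing.ResidueField A)))
      (X ↘ Spec (CommRingCat.of A))
      (Spec.map (CommRingCat.ofHom (algebraMap A (IsLocalRing.ResidueField A)))))
    (h0 : Function.Bijective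
      (Coh.toGlobal (X₀ ↘ Spec (CommRingCat.of (IsLocalRing.ResidueField A))))) :
    Function.Bijective (Coh.toGlobal (X ↘ Spec (CommRingCat.of A))) := by
  obtain ⟨e⟩ := nonempty_H0_linearEquiv A X X₀ j hsq h0
  have hcomm : ∀ x y : Coh.Γtop X, x * y = y * x := fun x y => by
    exact mul_comm (G := Γ(X, ⊤)) x y
  exact bijective_of_linearEquiv hcomm (Coh.toGlobal (X ↘ Spec (CommRingCat.of A)))
    (gsUnitAddEquiv A) (gsUnitAddEquiv_smul A)
    ((h0LinearEquiv A (Coh.structureModule X)).trans e)

end Main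

end Groth.Agent.Lib.Helper21.TBridge
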