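import Mathlib
import Groth.Agent.Lib.Helper2LocFree
import Groth.Agent.Lib.Helper23FinPres
import Groth.Agent.Lib.Helper26ModRank
import Groth.Agent.Lib.Helper17StalkBC2

/-!
# A finitely presented quasi-coherent module with a free stalk of rank `r` is free of rank `r` nearby
(helper2)
-/

set_option autoImplicit false
set_option linter.style.haveILetI false
universe u
open CategoryTheory CategoryTheory.Limits AlgebraicGeometry TensorProduct

namespace Groth.Agent.Lib.Helper2.CohBCE

open Groth.Agent.Lib.Helper2.LocFree Groth.Agent.Lib.Helper20.PullbackAff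
  Groth.Agent.Lib.Helper17.StalkBC

/-- a finitely presented quasi-coherent module whose stalk at `x` is free of rank `r` is free of
rank `r` on a neighbourhood of `x`. -/
theorem exists_restrict_iso_freeMod_of_stalk_free {X : Scheme.{u}} (M : X.Modules)
    [M.IsQuasicoherent] [SheafOfModules.IsFinitePresentation (R := X.ringCatSheaf) M] (x : X) (r : ℕ)
    (e : M.presheaf.stalk x ≃ₗ[X.presheaf.stalk x] (Fin r → X.presheaf.stalk x)) :
    ∃ D : X.Opens, x ∈ D ∧ Nonempty (M.restrict D.ι ≅ FlatMod.freeMod (D : Scheme.{u}) r) := by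
  have hflat : FlatMod.IsFlatAt M x := Module.Flat.of_linearEquiv e
  obtain ⟨D, m, hxD, ⟨i⟩⟩ := exists_restrict_iso_freeMod_of_isFlatAt M x hflat
  obtain ⟨U, hU, hxU, hUD⟩ := exists_isAffineOpen_mem_and_subset (x := x) (U := D) hxD
  obtain ⟨b⟩ := Groth.Agent.Lib.Helper26.ModRank.nonempty_basis_of_restrict_iso M i hU hUD
  let b' : Module.Basis (Fin m) Γ(X, U) Γ(M, U) := b.map (ΓUEquiv hU M).symm
  letI : Algebra Γ(X, U) (X.presheaf.stalk x) := X.presheaf.algebra_section_stalk ⟨x, hxU⟩
  obtain ⟨e1⟩ := nonempty_stalk_linearEquiv hU M x hxU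
  haveI : Nonempty U := ⟨⟨x, hxU⟩⟩
  haveI : Nontrivial Γ(X, U) := inferInstance
  have h1 : Module.finrank (X.presheaf.stalk x) ((X.presheaf.stalk x) ⊗[Γ(X, U)] Γ(M, U)) = m := by
    haveI : Module.Free Γ(X, U) Γ(M, U) := Module.Free.of_basis b'
    rw [Module.finrank_baseChange, Module.finrank_eq_card_basis b', Fintype.card_fin]
  have h2 : Module.finrank (X.presheaf.stalk x) (M.presheaf.stalk x) = r := by
    rw [LinearEquiv.finrank_eq e, Module.finrank_fin_fun]
  have hmr : m = r := by rw [← h1, LinearEquiv.finrank_eq e1, h2]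
  subst hmr
  exact ⟨D, hxD, ⟨i⟩⟩

end Groth.Agent.Lib.Helper2.CohBCE
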