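import Groth.Agent.Lib.Helper21UnitFibB
import Groth.Agent.Lib.Helper2Push
import Groth.Agent.Lib.Helper2CohBCD
import Groth.Agent.Lib.Helper2CohBCE
import Groth.Agent.S0036

/-!
# Helper21: `O_Y → f_* O_X` is an isomorphism near `y` for `f` proper flat with
`κ(y) → Γ(X_y, O_{X_y})` bijective
-/

set_option autoImplicit false
universe u
open CategoryTheory CategoryTheory.Limits MonoidalCategory TensorProduct AlgebraicGeometry Opposite

namespace Groth.Agent.Lib.Helper21.TBridge

/-- if `f_* O_X` is isomorphic to `O_Y` over `U` (as a module), then `O_Y(V) → O_X(f⁻¹ V)` is an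
isomorphism for all `V ≤ U` -/
theorem isIso_app_of_restrict_iso {X Y : Scheme.{u}} (f : X ⟶ Y) (U : Y.Opens)
    (e : ((Scheme.Modules.pushforward f).obj (Coh.structureModule X)).restrict U.ι ≅
      Coh.structureModule (U : Scheme.{u})) :
    ∀ V : Y.Opens, V ≤ U → IsIso (f.app V) := by
  intro V hV
  obtain ⟨W, rfl⟩ : ∃ W : (U : Scheme.{u}).Opens, V = U.ι ''ᵁ W :=
    ⟨U.ι ⁻¹ᵁ V, by
      rw [Scheme.Hom.image_preimage_eq_opensRange_inf, Scheme.Opens.opensRange_ι]
      exact (inf_eq_right.2 hV).symm⟩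
  let M : Y.Modules := (Scheme.Modules.pushforward f).obj (Coh.structureModule X)
  let eW : Γ(M.restrict U.ι, W) ≃ₗ[Γ((U : Scheme.{u}), W)] Γ(Coh.structureModule (U : Scheme.{u}), W) :=
    ((SheafOfModules.forget _ ⋙ PresheafOfModules.evaluation _ (op W)).mapIso e).toLinearEquiv
  let eW' : Γ(M.restrict U.ι, W) ≃ₗ[Γ((U : Scheme.{u}), W)] Γ((U : Scheme.{u}), W) := eW
  have hcomm : ∀ x y : Γ(X, f ⁻¹ᵁ (U.ι ''ᵁ W)), x * y = y * x := fun x y => mul_comm x y
  let φ : Γ((U : Scheme.{u}), W) →+* Γ(X, f ⁻¹ᵁ (U.ι ''ᵁ W)) :=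
    (f.app (U.ι ''ᵁ W)).hom.comp (U.ι.appIso W).inv.hom
  let ι : Γ(M.restrict U.ι, W) ≃+ Γ(X, f ⁻¹ᵁ (U.ι ''ᵁ W)) := AddEquiv.refl _
  have hsm : ∀ (a : Γ((U : Scheme.{u}), W)) (s : Γ(M.restrict U.ι, W)), ι (a • s) = φ a * ι s := by
    intro a s
    rfl
  have hb := bijective_of_linearEquiv hcomm φ ι hsm eW'
  have hb2 : Function.Bijective (f.app (U.ι ''ᵁ W)).hom := by
    have h1 : ((f.app (U.ι ''ᵁ W)).hom : Γ(Y, U.ι ''ᵁ W) → Γ(X, f ⁻¹ᵁ (U.ι ''ᵁ W))) =
        φ ∘ (U.ι.appIso W).hom.hom := by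
      funext r
      change _ = (f.app (U.ι ''ᵁ W)).hom ((U.ι.appIso W).inv.hom ((U.ι.appIso W).hom.hom r))
      have h2 : (U.ι.appIso W).inv.hom ((U.ι.appIso W).hom.hom r) = r := by
        change ((U.ι.appIso W).hom ≫ (U.ι.appIso W).inv) r = r
        rw [Iso.hom_inv_id]
        rfl
      rw [h2]
    rw [h1]
    exact hb.comp (ConcreteCategory.bijective_of_isIso (U.ι.appIso W).hom)
  exact (ConcreteCategory.isIso_iff_bijective _).2 hb2

section Main

local instance (X : Scheme.{u}) : EnoughInjectives X.Modules :=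
  Groth.Agent.Lib.Helper17.QCPush.enoughInjectives X

open Groth.Agent.Lib.Helper21.TFunG in
/-- **`O_Y → f_* O_X` is an isomorphism near `y`** for `f` proper and flat with
`κ(y) → Γ(X_y, O_{X_y})` bijective -/
theorem exists_nhds_isIso_app {X Y : Scheme.{u}} (f : X ⟶ Y) [IsProper f] [Flat f]
    [IsLocallyNoetherian Y] (y : Y)
    (hy : Function.Bijective (Coh.toGlobal (f.fiberToSpecResidueField y))) :
    ∃ U : Y.Opens, y ∈ U ∧ ∀ V : Y.Opens, V ≤ U → IsIso (f.app V) := by
  let X₁ : Scheme.{u} := Limits.pullback f (Y.fromSpecStalk y)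
  let g : X₁ ⟶ X := Limits.pullback.fst f (Y.fromSpecStalk y)
  letI : X₁.Over (Spec (CommRingCat.of (Y.presheaf.stalk y))) :=
    ⟨Limits.pullback.snd f (Y.fromSpecStalk y)⟩
  have hsq : IsPullback g (X₁ ↘ Spec (CommRingCat.of (Y.presheaf.stalk y))) f (Y.fromSpecStalk y) :=
    IsPullback.of_hasPullback f (Y.fromSpecStalk y)
  haveI : IsProper (X₁ ↘ Spec (CommRingCat.of (Y.presheaf.stalk y))) :=
    MorphismProperty.of_isPullback (P := @IsProper) hsq inferInstance
  haveI : Flat (X₁ ↘ Spec (CommRingCat.of (Y.presheaf.stalk y))) :=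
    MorphismProperty.of_isPullback (P := @Flat) hsq inferInstance
  letI : (f.fiber y).Over (Spec (CommRingCat.of (IsLocalRing.ResidueField (Y.presheaf.stalk y)))) :=
    CohIII.fiberOver f y
  -- the closed fibre
  let j : f.fiber y ⟶ X₁ := Limits.pullback.lift (f.fiberι y)
    (f.fiberToSpecResidueField y ≫ Spec.map (Y.residue y))
    (by
      have h := (IsPullback.of_hasPullback f (Y.fromSpecResidueField y)).w
      rw [Category.assoc]
      exact h)
  have hj1 : j ≫ g = f.fiberι y := Limits.pullback.lift_fst _ _ _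
  have hj2 : j ≫ (X₁ ↘ Spec (CommRingCat.of (Y.presheaf.stalk y))) =
      f.fiberToSpecResidueField y ≫ Spec.map (Y.residue y) := Limits.pullback.lift_snd _ _ _
  have hsq₀ : IsPullback j (f.fiberToSpecResidueField y)
      (X₁ ↘ Spec (CommRingCat.of (Y.presheaf.stalk y))) (Spec.map (Y.residue y)) := by
    refine IsPullback.of_right ?_ hj2 hsq
    rw [hj1]
    exact IsPullback.of_hasPullback f (Y.fromSpecResidueField y)
  have hsq₀' : IsPullback j
      (f.fiber y ↘ Spec (CommRingCat.of (IsLocalRing.ResidueField (Y.presheaf.stalk y))))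
      (X₁ ↘ Spec (CommRingCat.of (Y.presheaf.stalk y)))
      (Spec.map (CommRingCat.ofHom (algebraMap (Y.presheaf.stalk y)
        (IsLocalRing.ResidueField (Y.presheaf.stalk y))))) := hsq₀
  obtain ⟨e0⟩ := nonempty_H0_linearEquiv (Y.presheaf.stalk y) X₁ (f.fiber y) j hsq₀' hy
  obtain ⟨e1⟩ := Groth.Agent.Lib.Helper17.StalkBC.nonempty_stalk_Rpush_linearEquiv f
    (Coh.structureModule X) y 0 X₁ g hsq
  let e2 := Groth.Agent.Lib.Helper17.StalkBC.hhEquiv (Y.presheaf.stalk y) (pullbackUnitIso g) 0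
  let e3 : ((Coh.Rpush f 0).obj (Coh.structureModule X)).presheaf.stalk y ≃ₗ[Y.presheaf.stalk y]
      (Fin 1 → Y.presheaf.stalk y) :=
    (e1.trans (e2.trans e0)).trans
      (LinearEquiv.funUnique (Fin 1) (Y.presheaf.stalk y) (Y.presheaf.stalk y)).symm
  have hG := Groth.Agent.S0036.result f (Coh.structureModule X)
    (Groth.Agent.Lib.Helper4.Dev.isCoh_structureModule X) 0
  haveI : ((Coh.Rpush f 0).obj (Coh.structureModule X)).IsQuasicoherent := hG.1
  haveI : SheafOfModules.IsFiniteType (R := Y.ringCatSheaf)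
    ((Coh.Rpush f 0).obj (Coh.structureModule X)) := hG.2
  haveI := Groth.Agent.Lib.Helper23.FinType.isFinitePresentation_of_isFiniteType
    ((Coh.Rpush f 0).obj (Coh.structureModule X))
  obtain ⟨U, hyU, ⟨eU⟩⟩ := Groth.Agent.Lib.Helper2.CohBCE.exists_restrict_iso_freeMod_of_stalk_free
    ((Coh.Rpush f 0).obj (Coh.structureModule X)) y 1 e3
  haveI : IsIso ((Scheme.Modules.pushforward f).toRightDerivedZero) := inferInstance
  let i0 : (Scheme.Modules.pushforward f).obj (Coh.structureModule X) ≅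
      (Coh.Rpush f 0).obj (Coh.structureModule X) :=
    asIso ((Scheme.Modules.pushforward f).toRightDerivedZero.app (Coh.structureModule X))
  let eU' : ((Scheme.Modules.pushforward f).obj (Coh.structureModule X)).restrict U.ι ≅
      Coh.structureModule (U : Scheme.{u}) :=
    (Scheme.Modules.restrictFunctor U.ι).mapIso i0 ≪≫ eU ≪≫
      Limits.coproductUniqueIso (fun _ : Fin 1 => Coh.structureModule (U : Scheme.{u}))
  exact ⟨U, hyU, isIso_app_of_restrict_iso f U eU'⟩

end Main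

end Groth.Agent.Lib.Helper21.TBridge
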