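import Mathlib
import Groth.Prelude
import Groth.Agent.Lib.Helper6QCohQcqs
import Groth.Agent.Lib.Helper4NormIso
set_option backward.isDefEq.respectTransparency.types false

/-!
# The norm of a finite surjective morphism of integral schemes with normal target (helper23)

Namespace `Groth.Agent.Lib.Helper23.FFNorm`.
-/

set_option autoImplicit false
universe u
open CategoryTheory Limits AlgebraicGeometry TopologicalSpace Opposite Polynomial

namespace Groth.Agent.Lib.Helper23.FFNorm
open Groth.Agent.Lib.Helper6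

/-- AKLB-like setup without integral closedness of `B`: the field norm of an element of `B`
lies in `A`, and is divisible by the element in `B`. -/
theorem exists_norm {A B K L : Type*} [CommRing A] [CommRing B] [IsDomain A] [IsDomain B]
    [Field K] [Field L] [Algebra A B] [Algebra A K] [Algebra B L] [Algebra K L] [Algebra A L]
    [IsScalarTower A B L] [IsScalarTower A K L] [IsFractionRing A K]
    [IsIntegrallyClosed A] [Algebra.IsIntegral A B] [FiniteDimensional K L]
    (hBL : Function.Injective (algebraMap B L)) (s : B) :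
    ∃ t : A, algebraMap A K t = Algebra.norm K (algebraMap B L s) ∧ s ∣ algebraMap A B t := by
  have hs : IsIntegral A s := Algebra.IsIntegral.isIntegral s
  have hsL : IsIntegral A (algebraMap B L s) := hs.map (IsScalarTower.toAlgHom A B L)
  have hsK : IsIntegral K (algebraMap B L s) := hsL.tower_top
  set x := algebraMap B L s with hx
  have hmin : minpoly K x = (minpoly A x).map (algebraMap A K) :=
    minpoly.isIntegrallyClosed_eq_field_fractions K L hsL
  set a₀ := (minpoly A x).coeff 0 with ha₀
  set pb := IntermediateField.adjoin.powerBasis hsK with hpb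
  have hgen : pb.gen = IntermediateField.AdjoinSimple.gen K x := rfl
  have h1 : Algebra.norm K (IntermediateField.AdjoinSimple.gen K x) =
      (-1) ^ pb.dim * algebraMap A K a₀ := by
    rw [← hgen, Algebra.PowerBasis.norm_gen_eq_coeff_zero_minpoly, hgen,
      IntermediateField.minpoly_gen, hmin, Polynomial.coeff_map]
  set e := Module.finrank (IntermediateField.adjoin K {x}) L with he
  have he1 : 1 ≤ e := Module.finrank_pos
  refine ⟨((-1) ^ pb.dim * a₀) ^ e, ?_, ?_⟩
  · rw [Algebra.norm_eq_norm_adjoin K x, h1]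
    simp [he]
  · have hdiv : s ∣ algebraMap A B a₀ := by
      have h0 : Polynomial.aeval x (minpoly A x) = 0 := minpoly.aeval A x
      have h2 : Polynomial.aeval s (minpoly A x) = 0 := by
        apply hBL
        rw [map_zero, ← Polynomial.aeval_algebraMap_apply, h0]
      have h3 := congrArg (Polynomial.aeval s) (Polynomial.X_mul_divX_add (minpoly A x))
      rw [h2, map_add, map_mul, Polynomial.aeval_X, Polynomial.aeval_C] at h3
      refine ⟨-(Polynomial.aeval s (minpoly A x).divX), ?_⟩
      rw [← ha₀] at h3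
      linear_combination h3
    rw [map_pow, map_mul]
    refine Dvd.dvd.trans ?_ (pow_dvd_pow _ he1)
    rw [pow_one]
    exact Dvd.dvd.mul_left hdiv _

section

variable {X Y : Scheme.{u}} [IsIntegral X] [IsIntegral Y] (π : X ⟶ Y)

/-- a surjective morphism of integral schemes maps the generic point to the generic point -/
theorem map_genericPoint [Surjective π] : π (genericPoint X) = genericPoint Y := by
  have h1 : IsGenericPoint (π (genericPoint X)) (closure (π '' (⊤ : Set X))) :=
    (genericPoint_spec X).image π.continuous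
  have h2 : closure (π '' (⊤ : Set X)) = ⊤ := by
    rw [Set.top_eq_univ, Set.image_univ, π.surjective.range_eq, closure_univ]
    rfl
  rw [h2] at h1
  exact h1.eq (genericPoint_spec Y)

theorem genericPoint_mem_of_mem {y : Y} {U : Y.Opens} (hy : y ∈ U) : genericPoint Y ∈ U :=
  ((genericPoint_spec Y).mem_open_set_iff U.isOpen).2 ⟨y, trivial, hy⟩

theorem subsingleton_of_notMem {U : Y.Opens} (h : genericPoint Y ∉ U) : Subsingleton Γ(Y, U) := by
  have hU : U = ⊥ := by
    ext y
    simp only [Opens.coe_bot, Set.mem_empty_iff_false, iff_false]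
    exact fun hy => h (genericPoint_mem_of_mem hy)
  subst hU
  infer_instance

variable [Surjective π]

theorem genericPoint_mem_preimage {U : Y.Opens} (h : genericPoint Y ∈ U) :
    genericPoint X ∈ π ⁻¹ᵁ U := by
  change π (genericPoint X) ∈ U
  rw [map_genericPoint π]
  exact h

/-- the induced map of function fields -/
noncomputable def ffMap : Y.functionField ⟶ X.functionField :=
  Y.presheaf.stalkSpecializes (specializes_of_eq (map_genericPoint π)) ≫
    π.stalkMap (genericPoint X)

theorem germ_ffMap {U : Y.Opens} (h : genericPoint Y ∈ U) (g : Γ(Y, U)) :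
    (ffMap π).hom (Y.presheaf.germ U (genericPoint Y) h g) =
      X.presheaf.germ (π ⁻¹ᵁ U) (genericPoint X) (genericPoint_mem_preimage π h) (π.app U g) := by
  have h1 : Y.presheaf.germ U (genericPoint Y) h ≫ ffMap π =
      π.app U ≫ X.presheaf.germ (π ⁻¹ᵁ U) (genericPoint X) (genericPoint_mem_preimage π h) := by
    unfold ffMap
    rw [← Category.assoc, TopCat.Presheaf.germ_stalkSpecializes]
    exact Scheme.Hom.germ_stalkMap π U (genericPoint X) (genericPoint_mem_preimage π h)
  exact congrArg (fun f => f.hom g) h1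

/-- the algebra structure on function fields -/
noncomputable def ffAlgebra : Algebra Y.functionField X.functionField := (ffMap π).hom.toAlgebra

end

section

variable {X Y : Scheme.{u}} [IsIntegral X] [IsIntegral Y] (π : X ⟶ Y) [Surjective π] [IsFinite π]

/-- the affine local package -/
theorem affine_package (hY : Pi1.IsNormalScheme Y) (V : Y.Opens) (hV : IsAffineOpen V)
    (hη : genericPoint Y ∈ V) :
    letI := ffAlgebra π
    FiniteDimensional Y.functionField X.functionField ∧
    ∀ s : Γ(X, π ⁻¹ᵁ V), ∃ t : Γ(Y, V),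
      Y.presheaf.germ V (genericPoint Y) hη t =
        Algebra.norm Y.functionField
          (X.presheaf.germ (π ⁻¹ᵁ V) (genericPoint X) (genericPoint_mem_preimage π hη) s) ∧
      s ∣ π.app V t := by
  letI := ffAlgebra π
  haveI : Nonempty V := ⟨⟨_, hη⟩⟩
  haveI : Nonempty (π ⁻¹ᵁ V) := ⟨⟨_, genericPoint_mem_preimage π hη⟩⟩
  have hV' : IsAffineOpen (π ⁻¹ᵁ V) := hV.preimage π
  letI : Algebra Γ(Y, V) Γ(X, π ⁻¹ᵁ V) := (π.app V).hom.toAlgebra
  letI : Algebra Γ(Y, V) X.functionField :=
    ((algebraMap Γ(X, π ⁻¹ᵁ V) X.functionField).comp (algebraMap Γ(Y, V) Γ(X, π ⁻¹ᵁ V))).toAlgebra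
  haveI : IsScalarTower Γ(Y, V) Γ(X, π ⁻¹ᵁ V) X.functionField := IsScalarTower.of_algebraMap_eq' rfl
  haveI : IsScalarTower Γ(Y, V) Y.functionField X.functionField := by
    refine IsScalarTower.of_algebraMap_eq (fun g => ?_)
    exact (germ_ffMap π hη g).symm
  haveI : IsDomain Γ(Y, V) := IsIntegral.component_integral V
  haveI : IsDomain Γ(X, π ⁻¹ᵁ V) := IsIntegral.component_integral _
  haveI : IsFractionRing Γ(Y, V) Y.functionField := functionField_isFractionRing_of_isAffineOpen Y V hV
  haveI : IsFractionRing Γ(X, π ⁻¹ᵁ V) X.functionField :=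
    functionField_isFractionRing_of_isAffineOpen X _ hV'
  haveI : IsIntegrallyClosed Γ(Y, V) := Groth.Agent.Lib.Helper4.NormIso.isIntegrallyClosed_sections hY V hV
  haveI : Module.Finite Γ(Y, V) Γ(X, π ⁻¹ᵁ V) := IsFinite.finite_app π V hV
  haveI : Algebra.IsIntegral Γ(Y, V) Γ(X, π ⁻¹ᵁ V) := inferInstance
  have hinj : Function.Injective (algebraMap Γ(Y, V) Γ(X, π ⁻¹ᵁ V)) := by
    have h1 : Function.Injective (algebraMap Γ(Y, V) X.functionField) := by
      rw [IsScalarTower.algebraMap_eq Γ(Y, V) Y.functionField X.functionField]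
      exact (algebraMap Y.functionField X.functionField).injective.comp
        (IsFractionRing.injective Γ(Y, V) Y.functionField)
    rw [IsScalarTower.algebraMap_eq Γ(Y, V) Γ(X, π ⁻¹ᵁ V) X.functionField] at h1
    exact Function.Injective.of_comp h1
  haveI : FaithfulSMul Γ(Y, V) Γ(X, π ⁻¹ᵁ V) := (faithfulSMul_iff_algebraMap_injective _ _).2 hinj
  haveI : Algebra.IsAlgebraic Γ(Y, V) Γ(X, π ⁻¹ᵁ V) := inferInstance
  haveI : IsLocalization (Algebra.algebraMapSubmonoid Γ(X, π ⁻¹ᵁ V) (nonZeroDivisors Γ(Y, V)))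
      X.functionField := inferInstance
  haveI : FiniteDimensional Y.functionField X.functionField :=
    Module.Finite.of_isLocalization Γ(Y, V) Γ(X, π ⁻¹ᵁ V) (nonZeroDivisors Γ(Y, V))
  refine ⟨inferInstance, fun s => ?_⟩
  obtain ⟨t, ht1, ht2⟩ := exists_norm (A := Γ(Y, V)) (B := Γ(X, π ⁻¹ᵁ V)) (K := Y.functionField)
    (L := X.functionField) (IsFractionRing.injective _ _) s
  exact ⟨t, ht1, ht2⟩

end

section

variable {X Y : Scheme.{u}} [IsIntegral X] [IsIntegral Y] (π : X ⟶ Y) [Surjective π] [IsFinite π]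

/-- the norm on function fields -/
noncomputable def ffNorm : X.functionField →* Y.functionField :=
  letI := ffAlgebra π
  Algebra.norm Y.functionField

/-- the degree of the function field extension -/
noncomputable def ffDeg : ℕ :=
  letI := ffAlgebra π
  Module.finrank Y.functionField X.functionField

theorem exists_affine_nhd (U : Y.Opens) (y : Y) (hy : y ∈ U) :
    ∃ W : Y.Opens, IsAffineOpen W ∧ W ≤ U ∧ y ∈ W ∧ genericPoint Y ∈ W := by
  obtain ⟨_, ⟨W, hW, rfl⟩, hyW, hWU⟩ := Y.isBasis_affineOpens.exists_subset_of_mem_open hy U.isOpen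
  exact ⟨W, hW, hWU, hyW, genericPoint_mem_of_mem hyW⟩

theorem finiteDimensional (hY : Pi1.IsNormalScheme Y) :
    letI := ffAlgebra π
    FiniteDimensional Y.functionField X.functionField := by
  obtain ⟨W, hW, -, -, hη⟩ := exists_affine_nhd (⊤ : Y.Opens) (genericPoint Y) trivial
  exact (affine_package π hY W hW hη).1

theorem one_le_ffDeg (hY : Pi1.IsNormalScheme Y) : 1 ≤ ffDeg π := by
  letI := ffAlgebra π
  haveI := finiteDimensional π hY
  exact Module.finrank_pos

theorem ffNorm_ffMap (g : Y.functionField) : ffNorm π ((ffMap π).hom g) = g ^ ffDeg π := by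
  letI := ffAlgebra π
  exact Algebra.norm_algebraMap g

theorem affine_norm (hY : Pi1.IsNormalScheme Y) (V : Y.Opens) (hV : IsAffineOpen V)
    (hη : genericPoint Y ∈ V) (s : Γ(X, π ⁻¹ᵁ V)) : ∃ t : Γ(Y, V),
      Y.presheaf.germ V (genericPoint Y) hη t =
        ffNorm π (X.presheaf.germ (π ⁻¹ᵁ V) (genericPoint X) (genericPoint_mem_preimage π hη) s) ∧
      s ∣ π.app V t :=
  (affine_package π hY V hV hη).2 s

theorem exists_norm_section (hY : Pi1.IsNormalScheme Y) (U : Y.Opens) (hη : genericPoint Y ∈ U)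
    (s : Γ(X, π ⁻¹ᵁ U)) : ∃ t : Γ(Y, U), Y.presheaf.germ U (genericPoint Y) hη t =
      ffNorm π (X.presheaf.germ (π ⁻¹ᵁ U) (genericPoint X) (genericPoint_mem_preimage π hη) s) := by
  have hl : ∀ W : {W : Y.Opens // IsAffineOpen W ∧ W ≤ U ∧ genericPoint Y ∈ W}, ∃ t : Γ(Y, W.1),
      Y.presheaf.germ W.1 (genericPoint Y) W.2.2.2 t =
        ffNorm π (X.presheaf.germ (π ⁻¹ᵁ U) (genericPoint X) (genericPoint_mem_preimage π hη) s) := by
    intro W
    obtain ⟨t, ht, -⟩ := affine_norm π hY W.1 W.2.1 W.2.2.2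
      (X.presheaf.map (homOfLE (π.preimage_mono W.2.2.1)).op s)
    refine ⟨t, ?_⟩
    rw [ht]
    congr 1
    exact TopCat.Presheaf.germ_res_apply X.presheaf (homOfLE (π.preimage_mono W.2.2.1)) _
      (genericPoint_mem_preimage π W.2.2.2) s
  choose l hl using hl
  have hcompat : TopCat.Presheaf.IsCompatible Y.presheaf
      (fun W : {W : Y.Opens // IsAffineOpen W ∧ W ≤ U ∧ genericPoint Y ∈ W} => W.1) l := by
    intro W W'
    apply germ_injective_of_isIntegral Y (genericPoint Y)
      (show genericPoint Y ∈ W.1 ⊓ W'.1 from ⟨W.2.2.2, W'.2.2.2⟩)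
    rw [TopCat.Presheaf.germ_res_apply, TopCat.Presheaf.germ_res_apply, hl, hl]
  obtain ⟨t, ht, -⟩ := Y.sheaf.existsUnique_gluing'
    (fun W : {W : Y.Opens // IsAffineOpen W ∧ W ≤ U ∧ genericPoint Y ∈ W} => W.1) U
    (fun W => homOfLE W.2.2.1) (fun y hy => by
      obtain ⟨W, hW, hWU, hyW, hηW⟩ := exists_affine_nhd U y hy
      exact Opens.mem_iSup.2 ⟨⟨W, hW, hWU, hηW⟩, hyW⟩) l hcompat
  obtain ⟨W, hW, hWU, -, hηW⟩ := exists_affine_nhd U (genericPoint Y) hη
  refine ⟨t, ?_⟩
  have h1 := ht ⟨W, hW, hWU, hηW⟩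
  rw [← hl ⟨W, hW, hWU, hηW⟩, ← h1]
  exact (TopCat.Presheaf.germ_res_apply Y.presheaf (homOfLE hWU) _ hηW t).symm

open Classical in
/-- the norm function on sections -/
noncomputable def normFun (hY : Pi1.IsNormalScheme Y) (U : Y.Opens) (s : Γ(X, π ⁻¹ᵁ U)) : Γ(Y, U) :=
  if hη : genericPoint Y ∈ U then Classical.choose (exists_norm_section π hY U hη s) else 0

theorem normFun_spec (hY : Pi1.IsNormalScheme Y) (U : Y.Opens) (hη : genericPoint Y ∈ U)
    (s : Γ(X, π ⁻¹ᵁ U)) : Y.presheaf.germ U (genericPoint Y) hη (normFun π hY U s) =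
      ffNorm π (X.presheaf.germ (π ⁻¹ᵁ U) (genericPoint X) (genericPoint_mem_preimage π hη) s) := by
  unfold normFun
  rw [dif_pos hη]
  exact Classical.choose_spec (exists_norm_section π hY U hη s)

theorem eq_normFun (hY : Pi1.IsNormalScheme Y) (U : Y.Opens) (s : Γ(X, π ⁻¹ᵁ U)) (t : Γ(Y, U))
    (h : ∀ hη : genericPoint Y ∈ U, Y.presheaf.germ U (genericPoint Y) hη t =
      ffNorm π (X.presheaf.germ (π ⁻¹ᵁ U) (genericPoint X) (genericPoint_mem_preimage π hη) s)) :
    t = normFun π hY U s := by
  by_cases hη : genericPoint Y ∈ U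
  · apply germ_injective_of_isIntegral Y (genericPoint Y) hη
    rw [h hη, normFun_spec π hY U hη s]
  · haveI := subsingleton_of_notMem hη
    exact Subsingleton.elim _ _

/-- the norm of degree `[K(X) : K(Y)]` -/
noncomputable def ffNormOfDegree (hY : Pi1.IsNormalScheme Y) : Nrm.NormOfDegree π (ffDeg π) where
  one_le := one_le_ffDeg π hY
  norm U :=
    { toFun := normFun π hY U
      map_one' := by
        refine (eq_normFun π hY U 1 1 (fun hη => ?_)).symm
        rw [map_one, map_one, map_one]
      map_mul' := fun s s' => by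
        refine (eq_normFun π hY U (s * s') _ (fun hη => ?_)).symm
        rw [map_mul, map_mul, map_mul, normFun_spec π hY U hη s, normFun_spec π hY U hη s'] }
  norm_res := fun {U V} i s => by
    change Y.presheaf.map i.op (normFun π hY U s) = normFun π hY V _
    refine eq_normFun π hY V _ _ (fun hη => ?_)
    rw [TopCat.Presheaf.germ_res_apply, normFun_spec π hY U (i.le hη) s]
    congr 1
    exact (TopCat.Presheaf.germ_res_apply X.presheaf ((Opens.map π.base).map i) _
      (genericPoint_mem_preimage π hη) s).symm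
  norm_app := fun U g => by
    change normFun π hY U (π.app U g) = g ^ ffDeg π
    refine (eq_normFun π hY U _ _ (fun hη => ?_)).symm
    rw [map_pow, ← germ_ffMap π hη g, ffNorm_ffMap]
  norm_mem := fun U s x hx hs => by
    change Y.presheaf.germ U (π.base x) hx (normFun π hY U s) ∈ _
    rw [IsLocalRing.mem_maximalIdeal, mem_nonunits_iff] at hs ⊢
    intro hu
    apply hs
    obtain ⟨W, hW, hWU, hxW, hηW⟩ := exists_affine_nhd U (π.base x) hx
    obtain ⟨t, ht1, ht2⟩ := affine_norm π hY W hW hηW
      (X.presheaf.map (homOfLE (π.preimage_mono hWU)).op s)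
    have ht : t = Y.presheaf.map (homOfLE hWU).op (normFun π hY U s) := by
      apply germ_injective_of_isIntegral Y (genericPoint Y) hηW
      rw [ht1, TopCat.Presheaf.germ_res_apply Y.presheaf (homOfLE hWU) _ hηW,
        normFun_spec π hY U (hWU hηW) s]
      congr 1
      exact TopCat.Presheaf.germ_res_apply X.presheaf (homOfLE (π.preimage_mono hWU)) _
        (genericPoint_mem_preimage π hηW) s
    -- the germ of `t` at `π x` is a unit
    have hu' : IsUnit (Y.presheaf.germ W (π.base x) hxW t) := by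
      rw [ht, TopCat.Presheaf.germ_res_apply]
      exact hu
    have hu'' : IsUnit (X.presheaf.germ (π ⁻¹ᵁ W) x hxW (π.app W t)) := by
      have h1 := Scheme.Hom.germ_stalkMap_apply π W x hxW t
      rw [← h1]
      exact hu'.map _
    obtain ⟨c, hc⟩ := ht2
    rw [hc, map_mul] at hu''
    have hu3 := isUnit_of_mul_isUnit_left hu''
    rwa [TopCat.Presheaf.germ_res_apply] at hu3

theorem hasNorm (hY : Pi1.IsNormalScheme Y) : ∃ d : ℕ, Nrm.HasNorm π d :=
  ⟨ffDeg π, ⟨ffNormOfDegree π hY⟩⟩

end

end Groth.Agent.Lib.Helper23.FFNorm
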