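import Mathlib
import Groth.Agent.S0036
import Groth.Agent.S0484
import Groth.Agent.Lib.Helper4DevD
import Groth.Agent.Lib.Helper4DevI
import Groth.Agent.Lib.Helper23FinType2
import Groth.Agent.Lib.Helper23FFNorm
import Groth.Agent.Lib.Helper4NormIso

/-!
# Zariski connectedness, ring level (helper23)

`f : X ⟶ Y` proper dominant, `X, Y` locally Noetherian integral, `Y` normal, `K(Y)` algebraically closed in
`K(X)` ⇒ `O_Y(V) → O_X(f⁻¹V)` bijective.  Ingredients: `isCoh_push_structure`, `finite_sections`
(`Γ(X, f⁻¹V)` finite over `Γ(Y, V)` for affine `V`), `germ_kappa`, `bijective_of_affine`,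
`isIso_app_of_affine` (check `IsIso (f.app V)` on affine opens only).
-/

set_option autoImplicit false
set_option backward.isDefEq.respectTransparency.types false
universe u
open Coherent

namespace Groth.Agent.Lib.Helper23.ZarConn
open AlgebraicGeometry CategoryTheory

theorem isCoh_push_structure {X Y : Scheme.{u}} [IsLocallyNoetherian Y] (f : X ⟶ Y) [IsProper f] :
    Coh.IsCoh ((Scheme.Modules.pushforward f).obj (Coh.structureModule X)) := by
  have := Groth.Agent.S0484.result (Opens.grothendieckTopology X) X.ringCatSheaf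
  haveI : EnoughInjectives X.Modules := inferInstanceAs (EnoughInjectives (SheafOfModules.{u} X.ringCatSheaf))
  have h0 := Groth.Agent.S0036.result f (Coh.structureModule X)
    (Groth.Agent.Lib.Helper4.Dev.isCoh_structureModule X) 0
  haveI : IsIso ((Scheme.Modules.pushforward f).toRightDerivedZero) := inferInstance
  exact Groth.Agent.Lib.Helper4.Dev.isCoh_of_iso
    (asIso ((Scheme.Modules.pushforward f).toRightDerivedZero.app (Coh.structureModule X))).symm h0


theorem finite_sections {X Y : Scheme.{u}} [IsLocallyNoetherian Y] (f : X ⟶ Y) [IsProper f]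
    {V : Y.Opens} (hV : IsAffineOpen V) :
    letI := (f.app V).hom.toAlgebra
    Module.Finite Γ(Y, V) Γ(X, f ⁻¹ᵁ V) := by
  letI := (f.app V).hom.toAlgebra
  have hc := isCoh_push_structure f
  haveI := hc.1
  haveI := hc.2
  have hfin := Groth.Agent.Lib.Helper23.FinType.finite_of_isFiniteType
    ((Scheme.Modules.pushforward f).obj (Coh.structureModule X)) hV
  let e : Γ((Scheme.Modules.pushforward f).obj (Coh.structureModule X), V) ≃ₗ[Γ(Y, V)]
      Γ(X, f ⁻¹ᵁ V) :=
    { toFun := fun s => s
      invFun := fun s => s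
      map_add' := fun _ _ => rfl
      map_smul' := fun a s => by
        rw [Groth.Agent.Lib.Helper2.Push.pushforward_smul]
        rfl
      left_inv := fun _ => rfl
      right_inv := fun _ => rfl }
  exact Module.Finite.equiv e

section

variable {X Y : Scheme.{u}} [IsIntegral X] [IsIntegral Y]

theorem mem_preimage (f : X ⟶ Y) (hdom : f.base (genericPoint X) ⤳ genericPoint Y)
    {V : Y.Opens} (hη : genericPoint Y ∈ V) : genericPoint X ∈ f ⁻¹ᵁ V :=
  hdom.mem_open V.isOpen hη

theorem germ_kappa (f : X ⟶ Y) (hdom : f.base (genericPoint X) ⤳ genericPoint Y)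
    {V : Y.Opens} (hη : genericPoint Y ∈ V) (g : Γ(Y, V)) :
    CohIII.stalkToFunctionField f (genericPoint Y) hdom (Y.presheaf.germ V (genericPoint Y) hη g) =
      X.presheaf.germ (f ⁻¹ᵁ V) (genericPoint X) (mem_preimage f hdom hη) (f.app V g) := by
  have h1 : Y.presheaf.germ V (genericPoint Y) hη ≫ Y.presheaf.stalkSpecializes hdom ≫
      f.stalkMap (genericPoint X) =
      f.app V ≫ X.presheaf.germ (f ⁻¹ᵁ V) (genericPoint X) (mem_preimage f hdom hη) := by
    rw [← Category.assoc, TopCat.Presheaf.germ_stalkSpecializes]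
    exact Scheme.Hom.germ_stalkMap f V (genericPoint X) (mem_preimage f hdom hη)
  exact congrArg (fun f => f.hom g) h1



theorem bijective_of_affine (hY : Pi1.IsNormalScheme Y) (f : X ⟶ Y)
    (hdom : f.base (genericPoint X) ⤳ genericPoint Y)
    (halg : ∀ x : X.functionField,
      (∃ p : Polynomial Y.functionField, p ≠ 0 ∧
        Polynomial.eval₂ (CohIII.stalkToFunctionField f (genericPoint Y) hdom) x p = 0) →
      x ∈ Set.range (CohIII.stalkToFunctionField f (genericPoint Y) hdom))
    {V : Y.Opens} (hV : IsAffineOpen V) (hη : genericPoint Y ∈ V)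
    (hint : ∀ b : Γ(X, f ⁻¹ᵁ V), (f.app V).hom.IsIntegralElem b) :
    Function.Bijective (f.app V).hom := by
  set κ := CohIII.stalkToFunctionField f (genericPoint Y) hdom with hκ
  have hκinj : Function.Injective κ := κ.injective
  have hgY : Function.Injective (Y.presheaf.germ V (genericPoint Y) hη).hom :=
    germ_injective_of_isIntegral Y _ hη
  have hgX : Function.Injective
      (X.presheaf.germ (f ⁻¹ᵁ V) (genericPoint X) (mem_preimage f hdom hη)).hom :=
    germ_injective_of_isIntegral X _ _
  haveI : Nonempty V := ⟨⟨_, hη⟩⟩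
  haveI : IsDomain Γ(Y, V) := IsIntegral.component_integral V
  haveI : IsIntegrallyClosed Γ(Y, V) :=
    Groth.Agent.Lib.Helper4.NormIso.isIntegrallyClosed_sections hY V hV
  haveI : IsFractionRing Γ(Y, V) Y.functionField :=
    functionField_isFractionRing_of_isAffineOpen Y V hV
  have halgmap : ∀ a : Γ(Y, V), algebraMap Γ(Y, V) Y.functionField a =
      (Y.presheaf.germ V (genericPoint Y) hη).hom a := fun a => rfl
  constructor
  · intro a a' h
    apply hgY
    apply hκinj
    rw [hκ, germ_kappa f hdom hη, germ_kappa f hdom hη, h]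
  · intro b
    obtain ⟨p, hp, hpb⟩ := hint b
    set β := (X.presheaf.germ (f ⁻¹ᵁ V) (genericPoint X) (mem_preimage f hdom hη)).hom b with hβ
    have hcomp : κ.comp (Y.presheaf.germ V (genericPoint Y) hη).hom =
        (X.presheaf.germ (f ⁻¹ᵁ V) (genericPoint X) (mem_preimage f hdom hη)).hom.comp
          (f.app V).hom := by
      ext a
      exact germ_kappa f hdom hη a
    have h1 : Polynomial.eval₂ κ β (p.map (Y.presheaf.germ V (genericPoint Y) hη).hom) = 0 := by
      rw [Polynomial.eval₂_map, hcomp, hβ, ← Polynomial.hom_eval₂, hpb, map_zero]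
    obtain ⟨α, hα⟩ := halg β ⟨_, (hp.map _).ne_zero, h1⟩
    have h2 : IsIntegral Γ(Y, V) α := by
      refine ⟨p, hp, ?_⟩
      apply hκinj
      rw [map_zero, Polynomial.hom_eval₂]
      change Polynomial.eval₂ (κ.comp (Y.presheaf.germ V (genericPoint Y) hη).hom) (κ α) p = 0
      rw [hα, hcomp, hβ, ← Polynomial.hom_eval₂, hpb, map_zero]
    obtain ⟨a, ha⟩ := IsIntegrallyClosed.isIntegral_iff.1 h2
    refine ⟨a, ?_⟩
    apply hgX
    rw [← germ_kappa f hdom hη a, ← halgmap, ha]
    exact hα


end

theorem isIso_app_of_affine {X Y : Scheme.{u}} (f : X ⟶ Y)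
    (h : ∀ V : Y.Opens, IsAffineOpen V → IsIso (f.app V)) : ∀ V : Y.Opens, IsIso (f.app V) := by
  let F : TopCat.Sheaf CommRingCat Y := Y.sheaf
  let G : TopCat.Sheaf CommRingCat Y := (TopCat.Sheaf.pushforward CommRingCat f.base).obj X.sheaf
  let φ : F ⟶ G := ⟨f.c⟩
  have hbasis : TopologicalSpace.Opens.IsBasis
      (Set.range (fun U : Y.affineOpens => (U.1 : Y.Opens))) := by
    have := Y.isBasis_affineOpens
    rwa [← Subtype.range_coe (s := Y.affineOpens)] at this
  haveI : IsIso φ := TopCat.Sheaf.isIso_iff_isIso_basis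
    (B := fun U : Y.affineOpens => (U.1 : Y.Opens)) hbasis (fun U => h U.1 U.2)
  intro V
  have h1 : IsIso ((TopCat.Sheaf.forget CommRingCat Y).map φ) := inferInstance
  have h2 : IsIso (((TopCat.Sheaf.forget CommRingCat Y).map φ).app (Opposite.op V)) := inferInstance
  exact h2


end Groth.Agent.Lib.Helper23.ZarConn
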