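import Groth.Agent.Lib.Helper21UnitFibC
import Groth.Agent.Lib.Helper23QCohLocal
import Groth.Agent.Lib.Helper23ZarConn

/-!
# Helper21: `O_T → (f_T)_* O_{X_T}` is an isomorphism for every base change `T → Y` when `f : X → Y`
is proper flat (`Y` locally Noetherian) with `κ(y) → Γ(X_y, O)` bijective for all `y`
-/

set_option autoImplicit false
universe u
open CategoryTheory CategoryTheory.Limits MonoidalCategory TensorProduct AlgebraicGeometry Opposite

namespace Groth.Agent.Lib.Helper21.TBridge

section Alg

/-- a ring map `B → C` such that `C` is locally free of rank one as a `B`-module (at every maximal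
ideal) is bijective -/
theorem bijective_algebraMap_of_local {B C : Type u} [CommRing B] [CommRing C] [Algebra B C]
    (H : ∀ (J : Ideal B) [J.IsMaximal], ∃ (S : Type u) (_ : CommRing S) (_ : Algebra B S),
      IsLocalization.AtPrime S J ∧ Nonempty (S ⊗[B] C ≃ₗ[S] S)) :
    Function.Bijective (algebraMap B C) := by
  have h1 : Function.Bijective (Algebra.linearMap B C) := by
    apply bijective_of_localized_maximal
    intro J hJ
    obtain ⟨S, _, _, hloc, ⟨e⟩⟩ := H J
    haveI := hloc
    let f : B →ₗ[B] S := Algebra.linearMap B S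
    let g : C →ₗ[B] S ⊗[B] C := TensorProduct.mk B S C 1
    haveI : IsLocalizedModule J.primeCompl f := inferInstance
    haveI : IsLocalizedModule J.primeCompl g :=
      (isLocalizedModule_iff_isBaseChange J.primeCompl S g).2 (TensorProduct.isBaseChange B C S)
    rw [LocalizedModule.coe_map_eq f g]
    refine (IsLocalizedModule.iso _ g).symm.bijective.comp
      (Function.Bijective.comp ?_ (IsLocalizedModule.iso _ f).bijective)
    have hmap : IsLocalizedModule.map J.primeCompl f g (Algebra.linearMap B C) =
        (Algebra.linearMap S (S ⊗[B] C)).restrictScalars B := by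
      apply IsLocalizedModule.linearMap_ext J.primeCompl f g
      ext
      have h2 := IsLocalizedModule.map_apply J.primeCompl f g (Algebra.linearMap B C) 1
      have h3 : f 1 = 1 := map_one (algebraMap B S)
      simp only [LinearMap.coe_comp, Function.comp_apply, Algebra.linearMap_apply,
        LinearMap.coe_restrictScalars]
      rw [h2, h3]
      simp [g]
    rw [hmap]
    exact bijective_of_linearEquiv (fun x y => mul_comm x y) (algebraMap S (S ⊗[B] C))
      (AddEquiv.refl _) (fun a s => Algebra.smul_def a s) e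
  exact h1

/-- a one-dimensional algebra over a field is the field -/
theorem bijective_algebraMap_of_finrank_eq_one {k Γ : Type u} [Field k] [CommRing Γ] [Algebra k Γ]
    (h : Module.finrank k Γ = 1) : Function.Bijective (algebraMap k Γ) := by
  haveI : Nontrivial Γ := Module.nontrivial_of_finrank_pos (R := k) (by omega)
  refine ⟨(algebraMap k Γ).injective, fun w => ?_⟩
  obtain ⟨c, hc⟩ := (finrank_eq_one_iff_of_nonzero' (1 : Γ) one_ne_zero).1 h w
  exact ⟨c, by rw [Algebra.algebraMap_eq_smul_one, hc]⟩

end Alg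

section Geo

local instance (X : Scheme.{u}) : EnoughInjectives X.Modules :=
  Groth.Agent.Lib.Helper17.QCPush.enoughInjectives X

open Groth.Agent.Lib.Helper21.TFunG in
/-- the stalks of `R^0 (f_T)_* O` are free of rank one -/
theorem nonempty_stalk_push_linearEquiv {X Y : Scheme.{u}} (f : X ⟶ Y) [IsProper f] [Flat f]
    [IsLocallyNoetherian Y]
    {T : Scheme.{u}} (g : T ⟶ Y) (q : T)
    (hf : Function.Bijective (Coh.toGlobal (f.fiberToSpecResidueField (g q)))) :
    Nonempty (((Coh.Rpush (pullback.snd f g) 0).obj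
        (Coh.structureModule (pullback f g))).presheaf.stalk q
      ≃ₗ[T.presheaf.stalk q] T.presheaf.stalk q) := by
  let y : Y := g q
  let f' : pullback f g ⟶ T := pullback.snd f g
  -- the local base
  let X₁ : Scheme.{u} := Limits.pullback f (Y.fromSpecStalk y)
  let g₁ : X₁ ⟶ X := Limits.pullback.fst f (Y.fromSpecStalk y)
  letI : X₁.Over (Spec (CommRingCat.of (Y.presheaf.stalk y))) :=
    ⟨Limits.pullback.snd f (Y.fromSpecStalk y)⟩
  have hsq₁ : IsPullback g₁ (X₁ ↘ Spec (CommRingCat.of (Y.presheaf.stalk y))) f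
      (Y.fromSpecStalk y) := IsPullback.of_hasPullback f (Y.fromSpecStalk y)
  haveI : IsProper (X₁ ↘ Spec (CommRingCat.of (Y.presheaf.stalk y))) :=
    MorphismProperty.of_isPullback (P := @IsProper) hsq₁ inferInstance
  haveI : Flat (X₁ ↘ Spec (CommRingCat.of (Y.presheaf.stalk y))) :=
    MorphismProperty.of_isPullback (P := @Flat) hsq₁ inferInstance
  letI : (f.fiber y).Over (Spec (CommRingCat.of (IsLocalRing.ResidueField (Y.presheaf.stalk y)))) :=
    CohIII.fiberOver f y
  -- the closed fibre
  let j : f.fiber y ⟶ X₁ := Limits.pullback.lift (f.fiberι y)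
    (f.fiberToSpecResidueField y ≫ Spec.map (Y.residue y))
    (by
      have h := (IsPullback.of_hasPullback f (Y.fromSpecResidueField y)).w
      rw [Category.assoc]
      exact h)
  have hj1 : j ≫ g₁ = f.fiberι y := Limits.pullback.lift_fst _ _ _
  have hj2 : j ≫ (X₁ ↘ Spec (CommRingCat.of (Y.presheaf.stalk y))) =
      f.fiberToSpecResidueField y ≫ Spec.map (Y.residue y) := Limits.pullback.lift_snd _ _ _
  have hsq₀ : IsPullback j (f.fiberToSpecResidueField y)
      (X₁ ↘ Spec (CommRingCat.of (Y.presheaf.stalk y))) (Spec.map (Y.residue y)) := by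
    refine IsPullback.of_right ?_ hj2 hsq₁
    rw [hj1]
    exact IsPullback.of_hasPullback f (Y.fromSpecResidueField y)
  have hsq₀' : IsPullback j
      (f.fiber y ↘ Spec (CommRingCat.of (IsLocalRing.ResidueField (Y.presheaf.stalk y))))
      (X₁ ↘ Spec (CommRingCat.of (Y.presheaf.stalk y)))
      (Spec.map (CommRingCat.ofHom (algebraMap (Y.presheaf.stalk y)
        (IsLocalRing.ResidueField (Y.presheaf.stalk y))))) := hsq₀
  -- the localisation of `X_T` at `q`
  let X'q : Scheme.{u} := Limits.pullback f' (T.fromSpecStalk q)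
  let pr : X'q ⟶ pullback f g := Limits.pullback.fst f' (T.fromSpecStalk q)
  letI : X'q.Over (Spec (CommRingCat.of (T.presheaf.stalk q))) :=
    ⟨Limits.pullback.snd f' (T.fromSpecStalk q)⟩
  have hsq' : IsPullback pr (X'q ↘ Spec (CommRingCat.of (T.presheaf.stalk q))) f'
      (T.fromSpecStalk q) := IsPullback.of_hasPullback f' (T.fromSpecStalk q)
  letI : Algebra (Y.presheaf.stalk y) (T.presheaf.stalk q) := (g.stalkMap q).hom.toAlgebra
  have hcomm : Spec.map (g.stalkMap q) ≫ Y.fromSpecStalk y = T.fromSpecStalk q ≫ g :=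
    Scheme.SpecMap_stalkMap_fromSpecStalk g
  have hbig : IsPullback (pr ≫ pullback.fst f g)
      (X'q ↘ Spec (CommRingCat.of (T.presheaf.stalk q))) f (T.fromSpecStalk q ≫ g) :=
    hsq'.paste_horiz (IsPullback.of_hasPullback f g)
  let g' : X'q ⟶ X₁ := Limits.pullback.lift (pr ≫ pullback.fst f g)
    ((X'q ↘ Spec (CommRingCat.of (T.presheaf.stalk q))) ≫ Spec.map (g.stalkMap q))
    (by rw [hbig.w, ← hcomm, Category.assoc])
  have hg1 : g' ≫ g₁ = pr ≫ pullback.fst f g := Limits.pullback.lift_fst _ _ _
  have hg2 : g' ≫ (X₁ ↘ Spec (CommRingCat.of (Y.presheaf.stalk y))) =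
      (X'q ↘ Spec (CommRingCat.of (T.presheaf.stalk q))) ≫ Spec.map (g.stalkMap q) :=
    Limits.pullback.lift_snd _ _ _
  have h : IsPullback g' (X'q ↘ Spec (CommRingCat.of (T.presheaf.stalk q)))
      (X₁ ↘ Spec (CommRingCat.of (Y.presheaf.stalk y)))
      (Spec.map (CommRingCat.ofHom (algebraMap (Y.presheaf.stalk y) (T.presheaf.stalk q)))) := by
    have h' : IsPullback g' (X'q ↘ Spec (CommRingCat.of (T.presheaf.stalk q)))
        (X₁ ↘ Spec (CommRingCat.of (Y.presheaf.stalk y))) (Spec.map (g.stalkMap q)) := by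
      refine IsPullback.of_right ?_ hg2 hsq₁
      rw [hg1, hcomm]
      exact hbig
    exact h'
  haveI : QuasiCompact f' := MorphismProperty.pullback_snd (P := @QuasiCompact) f g inferInstance
  haveI : QuasiSeparated f' :=
    MorphismProperty.pullback_snd (P := @QuasiSeparated) f g inferInstance
  obtain ⟨e0⟩ := nonempty_H0_linearEquiv_bc (Y.presheaf.stalk y) X₁ (f.fiber y) j hsq₀' hf
    (T.presheaf.stalk q) X'q g' h
  obtain ⟨e1⟩ := Groth.Agent.Lib.Helper17.StalkBC.nonempty_stalk_Rpush_linearEquiv f'
    (Coh.structureModule (pullback f g)) q 0 X'q pr hsq'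
  let e2 := Groth.Agent.Lib.Helper17.StalkBC.hhEquiv (T.presheaf.stalk q) (pullbackUnitIso pr) 0
  exact ⟨e1.trans (e2.trans e0)⟩

/-- **`O_T(U) → O_{X_T}(f_T⁻¹ U)` is an isomorphism for every base change** -/
theorem isIso_app_baseChange {X Y : Scheme.{u}} (f : X ⟶ Y) [IsProper f] [Flat f]
    [IsLocallyNoetherian Y]
    {T : Scheme.{u}} (g : T ⟶ Y)
    (hf : ∀ q : T, Function.Bijective (Coh.toGlobal (f.fiberToSpecResidueField (g q))))
    (U : T.Opens) : IsIso ((pullback.snd f g).app U) := by
  haveI : QuasiCompact (pullback.snd f g) :=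
    MorphismProperty.pullback_snd (P := @QuasiCompact) f g inferInstance
  haveI : QuasiSeparated (pullback.snd f g) :=
    MorphismProperty.pullback_snd (P := @QuasiSeparated) f g inferInstance
  revert U
  apply Groth.Agent.Lib.Helper23.ZarConn.isIso_app_of_affine (pullback.snd f g)
  intro U hU
  letI : Algebra Γ(T, U) Γ(pullback f g, (pullback.snd f g) ⁻¹ᵁ U) :=
    ((pullback.snd f g).app U).hom.toAlgebra
  have hb : Function.Bijective
      (algebraMap Γ(T, U) Γ(pullback f g, (pullback.snd f g) ⁻¹ᵁ U)) := by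
    apply bijective_algebraMap_of_local
    intro J hJ
    let yJ : PrimeSpectrum Γ(T, U) := ⟨J, hJ.isPrime⟩
    let q : T := hU.fromSpec yJ
    have hq : q ∈ U := by
      have h1 : q ∈ Set.range hU.fromSpec := Set.mem_range_self yJ
      rw [hU.range_fromSpec] at h1
      exact h1
    letI : Algebra Γ(T, U) (T.presheaf.stalk q) :=
      TopCat.Presheaf.algebra_section_stalk T.presheaf ⟨q, hq⟩
    have hloc : IsLocalization.AtPrime (T.presheaf.stalk q) J := hU.isLocalization_stalk' yJ hq
    refine ⟨T.presheaf.stalk q, inferInstance, inferInstance, hloc, ?_⟩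
    haveI : Coh.IsQCoh (Coh.structureModule (pullback f g)) :=
      (Groth.Agent.Lib.Helper4.Dev.isCoh_structureModule (pullback f g)).1
    let G' : T.Modules := (Coh.Rpush (pullback.snd f g) 0).obj (Coh.structureModule (pullback f g))
    haveI : G'.IsQuasicoherent := Groth.Agent.S0030.result (pullback.snd f g) _ 0
    obtain ⟨e1⟩ := Groth.Agent.Lib.Helper17.StalkBC.nonempty_stalk_linearEquiv hU G' q hq
    obtain ⟨e2⟩ := nonempty_stalk_push_linearEquiv f g q (hf q)
    haveI : IsIso ((Scheme.Modules.pushforward (pullback.snd f g)).toRightDerivedZero) :=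
      inferInstance
    let i0 : (Scheme.Modules.pushforward (pullback.snd f g)).obj
        (Coh.structureModule (pullback f g)) ≅ G' :=
      asIso ((Scheme.Modules.pushforward (pullback.snd f g)).toRightDerivedZero.app
        (Coh.structureModule (pullback f g)))
    let e3 : Γ((Scheme.Modules.pushforward (pullback.snd f g)).obj
        (Coh.structureModule (pullback f g)), U) ≃ₗ[Γ(T, U)] Γ(G', U) :=
      ((SheafOfModules.forget _ ⋙ PresheafOfModules.evaluation _ (op U)).mapIso i0).toLinearEquiv
    let e4 : Γ(pullback f g, (pullback.snd f g) ⁻¹ᵁ U) ≃ₗ[Γ(T, U)]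
        Γ((Scheme.Modules.pushforward (pullback.snd f g)).obj
          (Coh.structureModule (pullback f g)), U) :=
      { toFun := fun s => s
        invFun := fun s => s
        map_add' := fun _ _ => rfl
        map_smul' := fun a s => rfl
        left_inv := fun _ => rfl
        right_inv := fun _ => rfl }
    exact ⟨(LinearEquiv.baseChange Γ(T, U) (T.presheaf.stalk q) _ _ (e4.trans e3)).trans
      (e1.trans e2)⟩
  exact (ConcreteCategory.isIso_iff_bijective _).2 hb

end Geo

end Groth.Agent.Lib.Helper21.TBridge
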