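import Mathlib

set_option autoImplicit false
set_option linter.style.haveILetI false
universe u
open CategoryTheory CategoryTheory.Limits

namespace Groth.Agent.Lib.Helper3.ResFieldColim

variable {R K : Type u} [CommRing R] [Field K] (φ : R →+* K)

/-- index: a finitely generated ideal killed by `φ` and an element not killed by `φ`. -/
structure Idx where
  I : Ideal R
  fg : I.FG
  le : I ≤ RingHom.ker φ
  h : R
  hh : φ h ≠ 0

variable {φ}

instance : Preorder (Idx φ) where
  le a b := a.I ≤ b.I ∧ a.h ∣ b.h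
  le_refl a := ⟨le_rfl, dvd_rfl⟩
  le_trans a b c hab hbc := ⟨hab.1.trans hbc.1, hab.2.trans hbc.2⟩

instance : IsDirected (Idx φ) (· ≤ ·) :=
  ⟨fun a b => ⟨⟨a.I ⊔ b.I, Submodule.FG.sup a.fg b.fg, sup_le a.le b.le, a.h * b.h, by
      rw [map_mul]; exact mul_ne_zero a.hh b.hh⟩,
    ⟨le_sup_left, Dvd.intro _ rfl⟩, ⟨le_sup_right, Dvd.intro_left _ rfl⟩⟩⟩

instance : Nonempty (Idx φ) := ⟨⟨⊥, Submodule.fg_bot, bot_le, 1, by simp⟩⟩

/-- the ring `(R_h)/I R_h`. -/
abbrev A (j : Idx φ) : Type u :=
  Localization.Away j.h ⧸ j.I.map (algebraMap R (Localization.Away j.h))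

/-- `R → (R_h)/I R_h`. -/
noncomputable def toA (j : Idx φ) : R →+* A j :=
  (Ideal.Quotient.mk _).comp (algebraMap R (Localization.Away j.h))

theorem hom_ext_A (j : Idx φ) {B : Type*} [Semiring B] (f g : A j →+* B)
    (h : f.comp (toA j) = g.comp (toA j)) : f = g := by
  apply Ideal.Quotient.ringHom_ext
  apply IsLocalization.ringHom_ext (Submonoid.powers j.h)
  exact h

theorem toA_eq_zero (j : Idx φ) {r : R} (hr : r ∈ j.I) : toA j r = 0 := by
  rw [toA, RingHom.comp_apply, Ideal.Quotient.eq_zero_iff_mem]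
  exact Ideal.mem_map_of_mem _ hr

theorem isUnit_toA (j : Idx φ) {x : R} (hx : x ∣ j.h) : IsUnit (toA j x) := by
  have h1 : IsUnit (toA j j.h) :=
    (IsLocalization.Away.algebraMap_isUnit (S := Localization.Away j.h) j.h).map
      (Ideal.Quotient.mk _)
  exact isUnit_of_dvd_unit (map_dvd (toA j) hx) h1

/-- maps out of `(R_h)/I R_h`. -/
noncomputable def lift (j : Idx φ) {B : Type*} [CommRing B] (ψ : R →+* B)
    (hI : ∀ r ∈ j.I, ψ r = 0) (hh : IsUnit (ψ j.h)) : A j →+* B :=
  Ideal.Quotient.lift _ (IsLocalization.Away.lift j.h hh) (by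
    intro x hx
    have : j.I.map (algebraMap R (Localization.Away j.h)) ≤
        RingHom.ker (IsLocalization.Away.lift (S := Localization.Away j.h) j.h hh) := by
      rw [Ideal.map_le_iff_le_comap]
      intro r hr
      rw [Ideal.mem_comap, RingHom.mem_ker, IsLocalization.Away.lift_eq]
      exact hI r hr
    exact this hx)

@[simp]
theorem lift_comp_toA (j : Idx φ) {B : Type*} [CommRing B] (ψ : R →+* B)
    (hI : ∀ r ∈ j.I, ψ r = 0) (hh : IsUnit (ψ j.h)) : (lift j ψ hI hh).comp (toA j) = ψ := by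
  ext r
  rw [RingHom.comp_apply]
  unfold lift toA
  rw [RingHom.comp_apply, Ideal.Quotient.lift_mk, IsLocalization.Away.lift_eq]

/-- transition maps. -/
noncomputable def tr {i j : Idx φ} (hij : i ≤ j) : A i →+* A j :=
  lift i (toA j) (fun _ hr => toA_eq_zero j (hij.1 hr)) (isUnit_toA j hij.2)

@[simp]
theorem tr_comp_toA {i j : Idx φ} (hij : i ≤ j) : (tr hij).comp (toA i) = toA j :=
  lift_comp_toA _ _ _ _

/-- the map to `K`. -/
noncomputable def toK (j : Idx φ) : A j →+* K :=
  lift j φ (fun _ hr => j.le hr) (IsUnit.mk0 _ j.hh)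

@[simp]
theorem toK_comp_toA (j : Idx φ) : (toK j).comp (toA j) = φ := lift_comp_toA _ _ _ _

theorem toK_comp_tr {i j : Idx φ} (hij : i ≤ j) : (toK j).comp (tr hij) = toK i := by
  apply hom_ext_A
  rw [RingHom.comp_assoc, tr_comp_toA, toK_comp_toA, toK_comp_toA]

variable (φ) in
/-- the diagram. -/
noncomputable def diagram : Idx φ ⥤ CommRingCat.{u} where
  obj j := CommRingCat.of (A j)
  map f := CommRingCat.ofHom (tr (leOfHom f))
  map_id j := by
    apply CommRingCat.hom_ext
    apply hom_ext_A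
    simp
  map_comp f g := by
    apply CommRingCat.hom_ext
    apply hom_ext_A
    simp [RingHom.comp_assoc]

variable (φ) in
/-- the cocone with point `K`. -/
noncomputable def cocone : Cocone (diagram φ) where
  pt := CommRingCat.of K
  ι :=
    { app := fun j => CommRingCat.ofHom (toK j)
      naturality := fun i j f => by
        apply CommRingCat.hom_ext
        simp only [diagram, Functor.const_obj_obj, Functor.const_obj_map, CommRingCat.hom_comp,
          CommRingCat.hom_ofHom, Category.comp_id]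
        exact toK_comp_tr _ }

end Groth.Agent.Lib.Helper3.ResFieldColim
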