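import Mathlib
import Groth.Agent.Lib.Helper3ResFieldColim

set_option autoImplicit false
set_option linter.style.haveILetI false
universe u
open CategoryTheory CategoryTheory.Limits

namespace Groth.Agent.Lib.Helper3.ResFieldColim

variable {R K : Type u} [CommRing R] [Field K] {φ : R →+* K}

theorem isUnit_toA_of_mem_powers (j : Idx φ) {x : R} (hx : x ∈ Submonoid.powers j.h) :
    IsUnit (toA j x) :=
  (IsLocalization.map_units (Localization.Away j.h) ⟨x, hx⟩).map (Ideal.Quotient.mk _)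

theorem tr_tr {i j k : Idx φ} (hij : i ≤ j) (hjk : j ≤ k) (x : A i) :
    tr hjk (tr hij x) = tr (hij.trans hjk) x := by
  have : (tr hjk).comp (tr hij) = tr (hij.trans hjk) := by
    apply hom_ext_A
    simp [RingHom.comp_assoc]
  exact congr($this x)

theorem toK_tr {i j : Idx φ} (hij : i ≤ j) (x : A i) : toK j (tr hij x) = toK i x :=
  congr($(toK_comp_tr hij) x)

theorem toK_toA (j : Idx φ) (r : R) : toK j (toA j r) = φ r := congr($(toK_comp_toA j) r)

theorem tr_toA {i j : Idx φ} (hij : i ≤ j) (r : R) : tr hij (toA i r) = toA j r :=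
  congr($(tr_comp_toA hij) r)

theorem toK_surj (hφ : ∀ x : K, ∃ a b : R, φ b ≠ 0 ∧ x * φ b = φ a) (x : K) :
    ∃ (j : Idx φ) (y : A j), toK j y = x := by
  obtain ⟨a, b, hb, hab⟩ := hφ x
  let j : Idx φ := ⟨⊥, Submodule.fg_bot, bot_le, b, hb⟩
  have hu : IsUnit (toA j b) := isUnit_toA j (dvd_refl _)
  refine ⟨j, toA j a * ↑hu.unit⁻¹, ?_⟩
  have h1 : toK j (↑hu.unit⁻¹) * φ b = 1 := by
    rw [← toK_toA j b, ← map_mul]
    have : (↑hu.unit⁻¹ : A j) * toA j b = 1 := by
      have h0 : (↑hu.unit⁻¹ : A j) * (↑hu.unit : A j) = 1 := Units.inv_mul _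
      rwa [hu.unit_spec] at h0
    rw [this, map_one]
  rw [map_mul, toK_toA]
  have h2 : toK j (↑hu.unit⁻¹) = (φ b)⁻¹ := eq_inv_of_mul_eq_one_left h1
  rw [h2, ← hab, mul_assoc, mul_inv_cancel₀ hb, mul_one]

theorem exists_tr_eq_zero (j : Idx φ) (y : A j) (hy : toK j y = 0) :
    ∃ (k : Idx φ) (hjk : j ≤ k), tr hjk y = 0 := by
  obtain ⟨z, rfl⟩ := Ideal.Quotient.mk_surjective y
  obtain ⟨r, s, rfl⟩ := IsLocalization.exists_mk'_eq (Submonoid.powers j.h) z
  have h1 : Ideal.Quotient.mk (j.I.map (algebraMap R (Localization.Away j.h)))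
      (IsLocalization.mk' (Localization.Away j.h) r s) * toA j s = toA j r := by
    rw [toA, RingHom.comp_apply, RingHom.comp_apply, ← map_mul, IsLocalization.mk'_spec]
  have hr : φ r = 0 := by
    rw [← toK_toA j r, ← h1, map_mul, hy, zero_mul]
  let k : Idx φ := ⟨j.I ⊔ Ideal.span {r}, Submodule.FG.sup j.fg (Submodule.fg_span_singleton r),
    sup_le j.le (by rw [Ideal.span_singleton_le_iff_mem]; exact hr), j.h, j.hh⟩
  have hjk : j ≤ k := ⟨le_sup_left, dvd_rfl⟩
  refine ⟨k, hjk, ?_⟩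
  have h2 := congr(tr hjk $h1)
  rw [map_mul, tr_toA, tr_toA, toA_eq_zero k (r := r)
    (Ideal.mem_sup_right (Ideal.mem_span_singleton_self r))] at h2
  exact (isUnit_toA_of_mem_powers k s.2).mul_left_eq_zero.mp h2

/-- **`K` is the filtered colimit of the finitely presented `R`-algebras `(R_h)/I R_h`.** -/
noncomputable def isColimit (hφ : ∀ x : K, ∃ a b : R, φ b ≠ 0 ∧ x * φ b = φ a) :
    IsColimit (cocone φ) := by
  haveI : IsFiltered (Idx φ) := isFiltered_of_directed_le_nonempty _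
  haveI : ReflectsColimit (diagram φ) (forget CommRingCat.{u}) :=
    reflectsColimit_of_reflectsIsomorphisms _ _
  apply isColimitOfReflects (forget CommRingCat)
  apply Types.FilteredColimit.isColimitOf
  · intro x
    obtain ⟨j, y, hy⟩ := toK_surj hφ x
    exact ⟨j, y, hy.symm⟩
  · intro i j xi xj h
    obtain ⟨k₀, hik₀, hjk₀⟩ := exists_ge_ge i j
    have h' : toK i xi = toK j xj := h
    obtain ⟨k, hk₀k, hk⟩ := exists_tr_eq_zero k₀ (tr hik₀ xi - tr hjk₀ xj) (by
      rw [map_sub, toK_tr, toK_tr, h', sub_self])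
    refine ⟨k, homOfLE (hik₀.trans hk₀k), homOfLE (hjk₀.trans hk₀k), ?_⟩
    rw [map_sub, sub_eq_zero, tr_tr, tr_tr] at hk
    exact hk

end Groth.Agent.Lib.Helper3.ResFieldColim
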