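import Mathlib
import Groth.Agent.Lib.Helper3ResFieldColimB

set_option autoImplicit false
set_option linter.style.haveILetI false
universe u
open CategoryTheory CategoryTheory.Limits AlgebraicGeometry

namespace Groth.Agent.Lib.Helper3.ResFieldLim

open Groth.Agent.Lib.Helper3.ResFieldColim

variable {S : Scheme.{u}} {U : S.Opens} (hU : IsAffineOpen U) (s : S) (hs : s ∈ U)

/-- evaluation at `s` as a ring hom. -/
noncomputable abbrev ev : Γ(S, U) →+* S.residueField s := (S.evaluation U s hs).hom

include hU in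
theorem ev_surj (x : S.residueField s) :
    ∃ a b : Γ(S, U), ev s hs b ≠ 0 ∧ x * ev s hs b = ev s hs a := by
  obtain ⟨y, rfl⟩ := S.residue_surjective s x
  letI := S.presheaf.algebra_section_stalk ⟨s, hs⟩
  haveI := hU.isLocalization_stalk ⟨s, hs⟩
  obtain ⟨⟨a, b⟩, hab⟩ := IsLocalization.surj (hU.primeIdealOf ⟨s, hs⟩).asIdeal.primeCompl y
  have hbu : IsUnit (algebraMap Γ(S, U) (S.presheaf.stalk s) b) :=
    IsLocalization.map_units (S.presheaf.stalk s) b
  refine ⟨a, b, ?_, ?_⟩
  · have : IsUnit (S.residue s (algebraMap Γ(S, U) (S.presheaf.stalk s) b)) := hbu.map _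
    exact this.ne_zero
  · have := congr(S.residue s $hab)
    rw [map_mul] at this
    exact this

theorem SpecMap_evaluation_fromSpec :
    Spec.map (S.evaluation U s hs) ≫ hU.fromSpec = S.fromSpecResidueField s := by
  rw [Scheme.fromSpecResidueField, ← hU.fromSpecStalk_eq_fromSpecStalk hs,
    IsAffineOpen.fromSpecStalk, ← Spec.map_comp_assoc]
  rfl

/-- the cofiltered system of the affine schemes `Spec (R_h/I R_h)`. -/
noncomputable def D : (Idx (ev s hs))ᵒᵖ ⥤ Scheme.{u} :=
  (diagram (ev s hs)).op ⋙ Scheme.Spec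

/-- the cone with point `Spec κ(s)`. -/
noncomputable def c : Cone (D s hs) := Scheme.Spec.mapCone (cocone (ev s hs)).op

/-- it is a limit cone. -/
noncomputable def hc : IsLimit (c s hs) :=
  isLimitOfPreserves Scheme.Spec (isColimit (ev_surj hU s hs)).op

instance (i j : (Idx (ev s hs))ᵒᵖ) (f : i ⟶ j) : IsAffineHom ((D s hs).map f) := by
  dsimp [D]; infer_instance

instance (i : (Idx (ev s hs))ᵒᵖ) : IsAffine ((D s hs).obj i) := by
  dsimp [D]; infer_instance

/-- structure map to `U`. -/
noncomputable def toU (j : Idx (ev s hs)) : (D s hs).obj (Opposite.op j) ⟶ (U : Scheme.{u}) :=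
  Spec.map (CommRingCat.ofHom (toA j)) ≫ hU.isoSpec.inv

/-- structure map to `S`. -/
noncomputable def toS (j : Idx (ev s hs)) : (D s hs).obj (Opposite.op j) ⟶ S :=
  toU hU s hs j ≫ U.ι

theorem toS_eq (j : Idx (ev s hs)) :
    toS hU s hs j = Spec.map (CommRingCat.ofHom (toA j)) ≫ hU.fromSpec := by
  show (Spec.map _ ≫ hU.isoSpec.inv) ≫ U.ι = _
  rw [Category.assoc]
  rfl

theorem map_toU {i j : Idx (ev s hs)} (hij : i ≤ j) :
    (D s hs).map (homOfLE hij).op ≫ toU hU s hs i = toU hU s hs j := by
  change (Spec.map (CommRingCat.ofHom (tr hij)) ≫ Spec.map (CommRingCat.ofHom (toA i)) ≫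
    hU.isoSpec.inv : Spec (CommRingCat.of (A j)) ⟶ (U : Scheme.{u})) =
    Spec.map (CommRingCat.ofHom (toA j)) ≫ hU.isoSpec.inv
  rw [← Spec.map_comp_assoc]
  congr 2
  apply CommRingCat.hom_ext
  exact tr_comp_toA hij

theorem map_toS {i j : Idx (ev s hs)} (hij : i ≤ j) :
    (D s hs).map (homOfLE hij).op ≫ toS hU s hs i = toS hU s hs j := by
  rw [toS, ← Category.assoc, map_toU, toS]

theorem π_toS (j : Idx (ev s hs)) :
    (c s hs).π.app (Opposite.op j) ≫ toS hU s hs j = S.fromSpecResidueField s := by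
  rw [toS_eq]
  change (Spec.map (CommRingCat.ofHom (toK j)) ≫ Spec.map (CommRingCat.ofHom (toA j)) ≫
    hU.fromSpec : Spec (CommRingCat.of (S.residueField s)) ⟶ S) = _
  rw [← SpecMap_evaluation_fromSpec hU s hs, ← Spec.map_comp_assoc]
  congr 2
  apply CommRingCat.hom_ext
  exact toK_comp_toA j

theorem finitePresentation_toA {R K : Type u} [CommRing R] [Field K] {φ : R →+* K}
    (j : Idx φ) : (toA j).FinitePresentation := by
  refine RingHom.FinitePresentation.comp ?_ ?_
  · refine RingHom.FinitePresentation.of_surjective _ Ideal.Quotient.mk_surjective ?_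
    rw [Ideal.mk_ker]
    exact Ideal.FG.map j.fg _
  · rw [RingHom.finitePresentation_algebraMap]
    exact IsLocalization.Away.finitePresentation j.h

instance (j : Idx (ev s hs)) : LocallyOfFinitePresentation (toU hU s hs j) := by
  have : LocallyOfFinitePresentation (Spec.map (CommRingCat.ofHom (toA j))) := by
    rw [LocallyOfFinitePresentation.SpecMap_iff]
    exact finitePresentation_toA j
  change LocallyOfFinitePresentation
    ((Spec.map (CommRingCat.ofHom (toA j)) : Spec (CommRingCat.of (A j)) ⟶ Spec Γ(S, U)) ≫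
      hU.isoSpec.inv)
  infer_instance

end Groth.Agent.Lib.Helper3.ResFieldLim
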