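import Mathlib
import Groth.Prelude.Def_ProCons
import Groth.Agent.Lib.Helper3ResFieldLim
import Groth.Agent.Lib.Helper3BaseMap

set_option autoImplicit false
set_option linter.style.haveILetI false
universe u
open CategoryTheory CategoryTheory.Limits AlgebraicGeometry Topology

namespace Groth.Agent.Lib.Helper3.IndCons

open Groth.Agent.Lib.Helper3.ResFieldColim Groth.Agent.Lib.Helper3.ResFieldLim
  Groth.Agent.Lib.Helper3.BaseMap

/-- `P` descends to a stage of a cofiltered limit (EGA IV 8.10.5 shape). -/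
def LimDescends (P : MorphismProperty Scheme.{u}) : Prop :=
  ∀ {I : Type u} [SmallCategory I] [IsCofiltered I] (D : I ⥤ Scheme.{u}) (c : Cone D)
    (_ : IsLimit c)
    [∀ (i j : I) (f : i ⟶ j), IsAffineHom (D.map f)] (i₀ : I) [CompactSpace (D.obj i₀)]
    [QuasiSeparatedSpace (D.obj i₀)] {X₀ Y₀ : Scheme.{u}} (f₀ : X₀ ⟶ Y₀) (g₀ : Y₀ ⟶ D.obj i₀)
    [LocallyOfFinitePresentation g₀] [QuasiCompact g₀] [QuasiSeparated g₀]
    [LocallyOfFinitePresentation (f₀ ≫ g₀)] [QuasiCompact (f₀ ≫ g₀)] [QuasiSeparated (f₀ ≫ g₀)]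
    {X Y : Scheme.{u}} (f : X ⟶ Y) (g : Y ⟶ c.pt) (qY : Y ⟶ Y₀) (qX : X ⟶ X₀)
    (_ : IsPullback qY g g₀ (c.π.app i₀)) (_ : IsPullback qX f f₀ qY), P f →
    ∃ (i : I) (φ : i ⟶ i₀) (Xi Yi : Scheme.{u}) (fi : Xi ⟶ Yi) (gi : Yi ⟶ D.obj i) (pY : Yi ⟶ Y₀)
      (pX : Xi ⟶ X₀), IsPullback pY gi g₀ (D.map φ) ∧ IsPullback pX fi f₀ pY ∧ P fi

theorem fpqc_SpecMap_field {K L : CommRingCat.{u}} (hK : IsField K) (hL : IsField L) (ψ : K ⟶ L) :
    (@Surjective ⊓ @Flat ⊓ @QuasiCompact : MorphismProperty Scheme.{u}) (Spec.map ψ) := by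
  letI := hK.toField
  letI := hL.toField
  refine ⟨⟨?_, ?_⟩, inferInstance⟩
  · haveI : Subsingleton (Spec K) := inferInstanceAs (Subsingleton (PrimeSpectrum K))
    haveI : Nonempty (Spec L) := inferInstanceAs (Nonempty (PrimeSpectrum L))
    exact ⟨fun x => ⟨Classical.arbitrary _, Subsingleton.elim _ _⟩⟩
  · rw [HasRingHomProperty.Spec_iff (P := @Flat)]
    algebraize [ψ.hom]
    show Module.Flat K L
    infer_instance

theorem isField_residueField {S : Scheme.{u}} (s : S) : IsField (S.residueField s) :=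
  Field.toIsField _

theorem congr_point (P : MorphismProperty Scheme.{u}) {X Y S : Scheme.{u}} (f : X ⟶ Y) (g : Y ⟶ S)
    {x y : S} (h : x = y) (hx : P (baseMap f g (S.fromSpecResidueField x))) :
    P (baseMap f g (S.fromSpecResidueField y)) := by
  subst h; exact hx

section Key

variable (P : MorphismProperty Scheme.{u}) [P.IsStableUnderBaseChange]
  [P.DescendsAlong (@Surjective ⊓ @Flat ⊓ @QuasiCompact)] (hP : LimDescends P)
  {X Y S : Scheme.{u}} (f : X ⟶ Y) (g : Y ⟶ S)
  [LocallyOfFinitePresentation g] [QuasiCompact g] [QuasiSeparated g]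
  [LocallyOfFinitePresentation (f ≫ g)] [QuasiCompact (f ≫ g)] [QuasiSeparated (f ≫ g)]

omit [P.DescendsAlong (@Surjective ⊓ @Flat ⊓ @QuasiCompact)] in
include hP in
/-- spreading out from the fibre at `s` to a stage `Spec (R_h/I R_h)`. -/
theorem exists_stage {U : S.Opens} (hU : IsAffineOpen U) (s : S) (hs : s ∈ U)
    (h : P (baseMap f g (S.fromSpecResidueField s))) :
    ∃ j : Idx (ev s hs), P (baseMap f g (toS hU s hs j)) := by
  let j₀ : Idx (ev s hs) := ⟨⊥, Submodule.fg_bot, bot_le, 1, by rw [map_one]; exact one_ne_zero⟩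
  let a₀ := toS hU s hs j₀
  let π := (c s hs).π.app (Opposite.op j₀)
  have hπ : π ≫ a₀ = S.fromSpecResidueField s := π_toS hU s hs j₀
  haveI : LocallyOfFinitePresentation (baseMap f g a₀ ≫ pullback.snd g a₀) := by
    rw [baseMap_snd]; infer_instance
  haveI : QuasiCompact (baseMap f g a₀ ≫ pullback.snd g a₀) := by
    rw [baseMap_snd]; infer_instance
  haveI : QuasiSeparated (baseMap f g a₀ ≫ pullback.snd g a₀) := by
    rw [baseMap_snd]; infer_instance
  obtain ⟨i, φ', Xi, Yi, fi, gi, pY, pX, h1, h2, h3⟩ := hP (D s hs) (c s hs) (hc hU s hs)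
    (Opposite.op j₀) (baseMap f g a₀) (pullback.snd g a₀) (baseMap f g (π ≫ a₀))
    (pullback.snd g (π ≫ a₀)) (baseMapY g a₀ π) (baseMapY (f ≫ g) a₀ π)
    (isPullback_baseMapY g a₀ π) (isPullback_baseMap_comp f g a₀ π)
    (congr_map f g P hπ.symm h)
  obtain ⟨j, rfl⟩ : ∃ j, i = Opposite.op j := ⟨i.unop, rfl⟩
  refine ⟨j, ?_⟩
  have hY' := h1.paste_horiz (IsPullback.of_hasPullback g a₀)
  have hX' := h2.paste_horiz (isPullback_baseMap f g a₀)
  have h4 := (iff_of_isPullback f g P _ hY' hX').mp h3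
  have hle : j₀ ≤ j := leOfHom φ'.unop
  have h5 : (D s hs).map φ' ≫ a₀ = toS hU s hs j := by
    have : φ' = (homOfLE hle).op := by
      apply Quiver.Hom.unop_inj
      exact Subsingleton.elim _ _
    rw [this]
    exact map_toS hU s hs hle
  exact congr_map f g P h5 h4

include hP in
theorem exists_locallyConstructible_nhd {U : S.Opens} (hU : IsAffineOpen U) (s : S) (hs : s ∈ U)
    (h : P (baseMap f g (S.fromSpecResidueField s))) :
    ∃ T : Set (U : Scheme.{u}), IsLocallyConstructible T ∧ (⟨s, hs⟩ : U) ∈ T ∧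
      ∀ u ∈ T, P (baseMap f g (S.fromSpecResidueField u.1)) := by
  obtain ⟨j, hj⟩ := exists_stage P hP f g hU s hs h
  haveI : IsAffine (U : Scheme.{u}) := hU
  refine ⟨Set.range (toU hU s hs j), ?_, ?_, ?_⟩
  · rw [← Set.image_univ]
    exact (toU hU s hs j).isLocallyConstructible_image IsLocallyConstructible.univ
  · haveI : Nonempty (c s hs).pt :=
      inferInstanceAs (Nonempty (PrimeSpectrum (S.residueField s)))
    let pt : (c s hs).pt := Classical.arbitrary _
    refine ⟨(c s hs).π.app (Opposite.op j) pt, ?_⟩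
    apply Subtype.ext
    have h1 := congr($(π_toS hU s hs j) pt)
    rw [Scheme.fromSpecResidueField_apply] at h1
    exact h1
  · rintro _ ⟨t, rfl⟩
    have h1 : P (baseMap f g (((D s hs).obj (Opposite.op j)).fromSpecResidueField t ≫
        toS hU s hs j)) := of_comp f g P _ _ hj
    rw [← Scheme.Hom.SpecMap_residueFieldMap_fromSpecResidueField] at h1
    have h2 := of_descendsAlong f g P (@Surjective ⊓ @Flat ⊓ @QuasiCompact) _ _
      (fpqc_SpecMap_field (isField_residueField _) (isField_residueField _) _) h1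
    exact h2

include hP in
/-- **Ind-constructibility of fibrewise properties**: if `P` is stable under base change, descends
along fpqc morphisms and descends to a stage of a cofiltered limit, then the set of `s` such that
the fibre map `f_s` has `P` is ind-constructible. -/
theorem isIndConstructible_setOf_baseMap :
    ProCons.IsIndConstructible {s : S | P (baseMap f g (S.fromSpecResidueField s))} := by
  intro x
  obtain ⟨_, ⟨U : S.Opens, hU, rfl⟩, hxU, -⟩ := S.isBasis_affineOpens.exists_subset_of_mem_open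
    (Set.mem_univ x) isOpen_univ
  refine ⟨U, U.2, hxU, {T : Set ↥U | IsLocallyConstructible T ∧
    ∀ u ∈ T, P (baseMap f g (S.fromSpecResidueField u.1))}, fun T hT => hT.1, ?_⟩
  ext u
  constructor
  · intro hu
    obtain ⟨T, h1, h2, h3⟩ := exists_locallyConstructible_nhd P hP f g hU u.1 u.2 hu
    exact ⟨T, ⟨h1, h3⟩, h2⟩
  · rintro ⟨T, ⟨-, hT⟩, huT⟩
    exact hT u huT

end Key

end Groth.Agent.Lib.Helper3.IndCons
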