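import Mathlib
import Groth.Agent.Lib.Helper3IndCons

/-!
Combining descent-to-a-stage statements (`LimDescends`) for two properties. (helper2)
-/

set_option autoImplicit false
universe u
open CategoryTheory CategoryTheory.Limits AlgebraicGeometry

namespace Groth.Agent.Lib.Helper2.PairCons5

open Groth.Agent.Lib.Helper3.IndCons Groth.Agent.Lib.Helper3.BaseMap

/-- If `P` and `Q` descend to a stage, so does `P ⊓ Q`. -/
theorem limDescends_inf (P Q : MorphismProperty Scheme.{u}) [P.IsStableUnderBaseChange]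
    [Q.IsStableUnderBaseChange] (hP : LimDescends P) (hQ : LimDescends Q) :
    LimDescends (P ⊓ Q) := by
  intro I _ _ D c hc _ i₀ _ _ X₀ Y₀ f₀ g₀ _ _ _ _ _ _ X Y f g qY qX hY hX hf
  obtain ⟨i, φ, Xi, Yi, fi, gi, pY, pX, h1, h2, h3⟩ :=
    hP D c hc i₀ f₀ g₀ f g qY qX hY hX hf.1
  obtain ⟨j, ψ, Xj, Yj, fj, gj, pY', pX', h1', h2', h3'⟩ :=
    hQ D c hc i₀ f₀ g₀ f g qY qX hY hX hf.2
  have h4 : P (baseMap f₀ g₀ (D.map φ)) := (iff_of_isPullback f₀ g₀ P (D.map φ) h1 h2).mp h3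
  have h4' : Q (baseMap f₀ g₀ (D.map ψ)) := (iff_of_isPullback f₀ g₀ Q (D.map ψ) h1' h2').mp h3'
  obtain ⟨k, a, b, hab⟩ := IsCofiltered.cospan φ ψ
  have h5 : P (baseMap f₀ g₀ (D.map (a ≫ φ))) := by
    rw [D.map_comp]
    exact of_comp f₀ g₀ P (D.map φ) (D.map a) h4
  have h5' : Q (baseMap f₀ g₀ (D.map (a ≫ φ))) := by
    rw [hab, D.map_comp]
    exact of_comp f₀ g₀ Q (D.map ψ) (D.map b) h4'
  exact ⟨k, a ≫ φ, _, _, baseMap f₀ g₀ (D.map (a ≫ φ)), pullback.snd g₀ (D.map (a ≫ φ)),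
    pullback.fst g₀ (D.map (a ≫ φ)), pullback.fst (f₀ ≫ g₀) (D.map (a ≫ φ)),
    IsPullback.of_hasPullback _ _, isPullback_baseMap f₀ g₀ _, h5, h5'⟩

/-- A property that holds for every morphism between schemes of finite presentation over a
quasi-compact quasi-separated base descends trivially. -/
theorem limDescends_of_forall (P : MorphismProperty Scheme.{u})
    (hP : ∀ {X Y S : Scheme.{u}} (f : X ⟶ Y) (g : Y ⟶ S)
      [LocallyOfFinitePresentation g] [QuasiCompact g] [QuasiSeparated g]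
      [LocallyOfFinitePresentation (f ≫ g)] [QuasiCompact (f ≫ g)] [QuasiSeparated (f ≫ g)], P f) :
    LimDescends P := by
  intro I _ _ D c hc _ i₀ _ _ X₀ Y₀ f₀ g₀ _ _ _ _ _ _ X Y f g qY qX hY hX hf
  exact ⟨i₀, 𝟙 _, X₀, Y₀, f₀, g₀, 𝟙 _, 𝟙 _, by
    rw [D.map_id]; exact IsPullback.of_horiz_isIso ⟨by simp⟩,
    IsPullback.of_horiz_isIso ⟨by simp⟩, hP f₀ g₀⟩

theorem limDescends_locallyOfFiniteType :
    LimDescends (@LocallyOfFiniteType : MorphismProperty Scheme.{u}) :=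
  limDescends_of_forall _ fun f g _ _ _ _ _ _ => locallyOfFiniteType_of_comp f g

theorem limDescends_quasiCompact :
    LimDescends (@QuasiCompact : MorphismProperty Scheme.{u}) :=
  limDescends_of_forall _ fun f g _ _ _ _ _ _ => QuasiCompact.of_comp f g

end Groth.Agent.Lib.Helper2.PairCons5
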