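import Groth.Agent.Lib.Helper21UnitFibD
import Groth.Agent.S0034
import Groth.Agent.S2074
import Groth.Agent.S2075
import Groth.Agent.Lib.Helper22NA10
import Groth.Agent.Lib.Helper26LimFP6
import Groth.Agent.Lib.Helper2PairCons5

/-!
# Helper21: invariance of `κ(s) ≅ Γ(X_s, O)` under base change, and `O_T ≅ (f_T)_* O` for arbitrary
cartesian squares
-/

set_option autoImplicit false
universe u
open CategoryTheory CategoryTheory.Limits MonoidalCategory TensorProduct AlgebraicGeometry Opposite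

namespace Groth.Agent.Lib.Helper21.TBridge

section Field

open Groth.Agent.Lib.Helper21.TFunG

variable (k : Type u) [Field k] (Z : Scheme.{u}) [Z.Over (Spec (CommRingCat.of k))]

/-- `k → Γ(Z, O_Z)` bijective implies `dim_k H^0(Z, O_Z) = 1` -/
theorem finrank_H0_eq_one_of_bijective
    (h0 : Function.Bijective (Coh.toGlobal (Z ↘ Spec (CommRingCat.of k)))) :
    Module.finrank k (Coh.HH Z (Coh.structureModule Z) 0) = 1 := by
  let eb := (h0LinearEquiv k (Coh.structureModule Z)).symm
  let φ₀ := Coh.toGlobal (Z ↘ Spec (CommRingCat.of k))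
  let ι₀ := gsUnitAddEquiv k (X := Z)
  let ec : k ≃ₗ[k] (CohIII.globalSectionsA k).obj (Coh.structureModule Z) :=
    LinearEquiv.ofBijective
      { toFun := fun c => ι₀.symm (φ₀ c)
        map_add' := fun c d => by rw [map_add, map_add]
        map_smul' := fun c d => by
          apply ι₀.injective
          rw [AddEquiv.apply_symm_apply, RingHom.id_apply, gsUnitAddEquiv_smul,
            AddEquiv.apply_symm_apply, smul_eq_mul, map_mul] }
      ⟨fun c d h => h0.1 (ι₀.symm.injective h), fun s => by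
        obtain ⟨c, hc⟩ := h0.2 (ι₀ s)
        exact ⟨c, by
          change ι₀.symm (φ₀ c) = s
          rw [hc, AddEquiv.symm_apply_apply]⟩⟩
  rw [LinearEquiv.finrank_eq (eb.trans ec.symm)]
  exact Module.finrank_self k

/-- `dim_k H^0(Z, O_Z) = 1` implies `k → Γ(Z, O_Z)` bijective -/
theorem bijective_of_finrank_H0_eq_one
    (h : Module.finrank k (Coh.HH Z (Coh.structureModule Z) 0) = 1) :
    Function.Bijective (Coh.toGlobal (Z ↘ Spec (CommRingCat.of k))) := by
  let φ : k →+* Γ(Z, ⊤) := Coh.toGlobal (Z ↘ Spec (CommRingCat.of k))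
  letI : Algebra k Γ(Z, ⊤) := φ.toAlgebra
  let e : (CohIII.globalSectionsA k).obj (Coh.structureModule Z) ≃ₗ[k] Γ(Z, ⊤) :=
    { gsUnitAddEquiv k (X := Z) with
      map_smul' := fun a s => by
        exact gsUnitAddEquiv_smul k a s }
  have h1 : Module.finrank k Γ(Z, ⊤) = 1 := by
    rw [← LinearEquiv.finrank_eq ((h0LinearEquiv k (Coh.structureModule Z)).symm.trans e)]
    exact h
  exact bijective_algebraMap_of_finrank_eq_one h1

end Field

section FieldExt

open Groth.Agent.Lib.Helper21.TFunG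

/-- **`k ≅ Γ(Z, O_Z)` is invariant under extension of the base field** -/
theorem bijective_toGlobal_iff_of_field_ext (k k' : Type u) [Field k] [Field k'] [Algebra k k']
    (Z Z' : Scheme.{u}) [Z.Over (Spec (CommRingCat.of k))] [Z'.Over (Spec (CommRingCat.of k'))]
    [CompactSpace Z] [QuasiSeparatedSpace Z] (jZ : Z' ⟶ Z)
    (hZ : IsPullback jZ (Z' ↘ Spec (CommRingCat.of k')) (Z ↘ Spec (CommRingCat.of k))
      (Spec.map (CommRingCat.ofHom (algebraMap k k')))) :
    Function.Bijective (Coh.toGlobal (Z' ↘ Spec (CommRingCat.of k'))) ↔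
      Function.Bijective (Coh.toGlobal (Z ↘ Spec (CommRingCat.of k))) := by
  haveI : Coh.IsQCoh (Coh.structureModule Z) :=
    (Groth.Agent.Lib.Helper4.Dev.isCoh_structureModule Z).1
  obtain ⟨e⟩ := Groth.Agent.S0034.result k k' Z Z' jZ hZ (Coh.structureModule Z) 0
  let e2 := Groth.Agent.Lib.Helper17.StalkBC.hhEquiv k' (pullbackUnitIso jZ) 0
  have hrk : Module.finrank k' (Coh.HH Z' (Coh.structureModule Z') 0) =
      Module.finrank k (Coh.HH Z (Coh.structureModule Z) 0) := by
    rw [← LinearEquiv.finrank_eq (e.trans e2)]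
    exact Module.finrank_baseChange
  constructor
  · intro h
    have h1 := finrank_H0_eq_one_of_bijective k' Z' h
    rw [hrk] at h1
    exact bijective_of_finrank_H0_eq_one k Z h1
  · intro h
    have h1 := finrank_H0_eq_one_of_bijective k Z h
    rw [← hrk] at h1
    exact bijective_of_finrank_H0_eq_one k' Z' h1

end FieldExt

section Fibre

open Groth.Agent.Lib.Helper21.TFunG

/-- **the condition `κ(s) ≅ Γ(X_s, O)` is invariant under base change** -/
theorem bijective_toGlobal_fiber_iff {X Y X' T : Scheme.{u}} (f : X ⟶ Y) [QuasiCompact f]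
    [QuasiSeparated f] (g : T ⟶ Y) (p : X' ⟶ X) (f' : X' ⟶ T) (hsq : IsPullback p f' f g) (q : T) :
    Function.Bijective (Coh.toGlobal (f'.fiberToSpecResidueField q)) ↔
      Function.Bijective (Coh.toGlobal (f.fiberToSpecResidueField (g q))) := by
  let y : Y := g q
  letI : (f.fiber y).Over (Spec (CommRingCat.of (Y.residueField y))) := CohIII.fiberOver f y
  letI : (f'.fiber q).Over (Spec (CommRingCat.of (T.residueField q))) := CohIII.fiberOver f' q
  letI : Algebra (Y.residueField y) (T.residueField q) := (g.residueFieldMap q).hom.toAlgebra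
  have hcomm : Spec.map (g.residueFieldMap q) ≫ Y.fromSpecResidueField y =
      T.fromSpecResidueField q ≫ g := Scheme.Hom.SpecMap_residueFieldMap_fromSpecResidueField g q
  have hbig : IsPullback (f'.fiberι q ≫ p) (f'.fiberToSpecResidueField q) f
      (T.fromSpecResidueField q ≫ g) :=
    (IsPullback.of_hasPullback f' (T.fromSpecResidueField q)).paste_horiz hsq
  let jZ : f'.fiber q ⟶ f.fiber y := Limits.pullback.lift (f'.fiberι q ≫ p)
    (f'.fiberToSpecResidueField q ≫ Spec.map (g.residueFieldMap q))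
    (by rw [hbig.w, ← hcomm, Category.assoc])
  have hj1 : jZ ≫ f.fiberι y = f'.fiberι q ≫ p := Limits.pullback.lift_fst _ _ _
  have hj2 : jZ ≫ f.fiberToSpecResidueField y =
      f'.fiberToSpecResidueField q ≫ Spec.map (g.residueFieldMap q) :=
    Limits.pullback.lift_snd _ _ _
  have hZ : IsPullback jZ (f'.fiber q ↘ Spec (CommRingCat.of (T.residueField q)))
      (f.fiber y ↘ Spec (CommRingCat.of (Y.residueField y)))
      (Spec.map (CommRingCat.ofHom (algebraMap (Y.residueField y) (T.residueField q)))) := by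
    have h' : IsPullback jZ (f'.fiberToSpecResidueField q) (f.fiberToSpecResidueField y)
        (Spec.map (g.residueFieldMap q)) := by
      refine IsPullback.of_right ?_ hj2 (IsPullback.of_hasPullback f (Y.fromSpecResidueField y))
      have : jZ ≫ pullback.fst f (Y.fromSpecResidueField y) = f'.fiberι q ≫ p := hj1
      rw [this, hcomm]
      exact hbig
    exact h'
  haveI : CompactSpace (f.fiber y) :=
    QuasiCompact.compactSpace_of_compactSpace (f.fiberToSpecResidueField y)
  haveI : QuasiSeparated (f.fiberToSpecResidueField y) :=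
    MorphismProperty.pullback_snd (P := @QuasiSeparated) f _ inferInstance
  haveI : QuasiSeparatedSpace (f.fiber y) :=
    quasiSeparatedSpace_of_quasiSeparated (f.fiberToSpecResidueField y)
  exact bijective_toGlobal_iff_of_field_ext (Y.residueField y) (T.residueField q) (f.fiber y)
    (f'.fiber q) jZ hZ

end Fibre

section Square

/-- `O_T(U) → O_{X'}(f'⁻¹U)` is an isomorphism for any cartesian square over a proper flat `f` with
locally Noetherian target whose fibres over the image of `T` have only constant functions -/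
theorem isIso_app_of_isPullback {X Y X' T : Scheme.{u}} (f : X ⟶ Y) [IsProper f] [Flat f]
    [IsLocallyNoetherian Y] (g : T ⟶ Y) (p : X' ⟶ X) (f' : X' ⟶ T) (hsq : IsPullback p f' f g)
    (hf : ∀ q : T, Function.Bijective (Coh.toGlobal (f.fiberToSpecResidueField (g q))))
    (U : T.Opens) : IsIso (f'.app U) := by
  have key : ∀ (φ : X' ⟶ T), φ = f' → IsIso (φ.app U) → IsIso (f'.app U) := by
    rintro φ rfl h
    exact h
  apply key (hsq.isoPullback.hom ≫ pullback.snd f g) hsq.isoPullback_hom_snd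
  rw [Scheme.Hom.comp_app]
  haveI h1 : IsIso ((pullback.snd f g).app U) := isIso_app_baseChange f g hf U
  haveI h0 : IsIso hsq.isoPullback.hom := Iso.isIso_hom _
  haveI h2 : IsIso (hsq.isoPullback.hom.app ((pullback.snd f g) ⁻¹ᵁ U)) :=
    Scheme.Hom.instIsIsoCommRingCatApp hsq.isoPullback.hom _
  exact @IsIso.comp_isIso _ _ _ _ _ _ _ h1 h2

end Square

section Approx

open Groth.Agent.Lib.Helper22 Groth.Agent.Lib.Helper2.LimLoc Groth.Agent.Lib.Helper26.LimFP
  Groth.Agent.Lib.Helper3.BaseMap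

theorem qcqsDescent_isProper : QcqsDescent.{u} @IsProper := by
  intro I _ _ D c hc _ i₀ _ _ X₀ Y₀ f₀ g₀ _ _ _ _ _ X Y f g qY qX hY hX hf
  haveI : IsProper f := hf
  exact Groth.Agent.S2074.result D c hc i₀ f₀ g₀ f g qY qX hY hX

theorem qcqsDescent_flat' : QcqsDescent.{u} @Flat := by
  intro I _ _ D c hc _ i₀ _ _ X₀ Y₀ f₀ g₀ _ _ _ _ _ X Y f g qY qX hY hX hf
  haveI : Flat f := hf
  exact Groth.Agent.S2075.result D c hc i₀ f₀ g₀ f g qY qX hY hX

/-- If `P` and `Q` descend to a stage, so does `P ⊓ Q`. -/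
theorem qcqsDescent_inf (P Q : MorphismProperty Scheme.{u}) [P.IsStableUnderBaseChange]
    [Q.IsStableUnderBaseChange] (hP : QcqsDescent P) (hQ : QcqsDescent Q) :
    QcqsDescent (P ⊓ Q) := by
  intro I _ _ D c hc _ i₀ _ _ X₀ Y₀ f₀ g₀ _ _ _ _ _ X Y f g qY qX hY hX hf
  obtain ⟨i, φ, Xi, Yi, fi, gi, pY, pX, h1, h2, h3⟩ :=
    hP D c hc i₀ f₀ g₀ f g qY qX hY hX hf.1
  obtain ⟨j, ψ, Xj, Yj, fj, gj, pY', pX', h1', h2', h3'⟩ :=
    hQ D c hc i₀ f₀ g₀ f g qY qX hY hX hf.2
  have h4 : P (baseMap f₀ g₀ (D.map φ)) := (iff_of_isPullback f₀ g₀ P (D.map φ) h1 h2).mp h3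
  have h4' : Q (baseMap f₀ g₀ (D.map ψ)) := (iff_of_isPullback f₀ g₀ Q (D.map ψ) h1' h2').mp h3'
  obtain ⟨k, a, b, hab⟩ := IsCofiltered.cospan φ ψ
  have h5 : P (baseMap f₀ g₀ (D.map (a ≫ φ))) := by
    rw [D.map_comp]
    exact of_comp f₀ g₀ P (D.map φ) (D.map a) h4
  have h5' : Q (baseMap f₀ g₀ (D.map (a ≫ φ))) := by
    rw [hab, D.map_comp]
    exact of_comp f₀ g₀ Q (D.map ψ) (D.map b) h4'
  exact ⟨k, a ≫ φ, _, _, baseMap f₀ g₀ (D.map (a ≫ φ)), pullback.snd g₀ (D.map (a ≫ φ)),
    pullback.fst g₀ (D.map (a ≫ φ)), pullback.fst (f₀ ≫ g₀) (D.map (a ≫ φ)),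
    IsPullback.of_hasPullback _ _, isPullback_baseMap f₀ g₀ _, h5, h5'⟩

/-- a proper flat finitely presented morphism to a quasi-compact quasi-separated scheme is a base
change of a proper flat morphism to a Noetherian scheme -/
theorem exists_noetherian_model {X' S' : Scheme.{u}} (f' : X' ⟶ S') [CompactSpace S']
    [QuasiSeparatedSpace S'] [IsProper f'] [Flat f'] [LocallyOfFinitePresentation f'] :
    ∃ (X Y : Scheme.{u}) (f : X ⟶ Y) (g : S' ⟶ Y) (p : X' ⟶ X),
      IsLocallyNoetherian Y ∧ IsProper f ∧ Flat f ∧ IsPullback p f' f g := by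
  obtain ⟨A, pA, DA, cA, hcA, eA, hA⟩ := NA10.exists_goodSys S'
  have := hA.dir
  have := hA.ne
  have : ∀ {x y : Aᵒᵖ} (a : x ⟶ y), IsAffineHom (DA.map a) := hA.aff
  have : ∀ (x y : Aᵒᵖ) (a : x ⟶ y), IsAffineHom (DA.map a) := fun _ _ a => hA.aff a
  have := hA.cpt
  have hlft := hA.lft
  have : ∀ x, QuasiSeparatedSpace (DA.obj x) := fun x => NA4.quasiSeparatedSpace_of_lft _
  have H : QcqsDescent.{u} ((@IsProper : MorphismProperty Scheme.{u}) ⊓ @Flat) :=
    qcqsDescent_inf _ _ qcqsDescent_isProper qcqsDescent_flat'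
  let F : X' ⟶ cA.pt := f' ≫ eA.inv
  haveI : IsProper F := inferInstance
  haveI : Flat F := inferInstance
  haveI : LocallyOfFinitePresentation F := inferInstance
  obtain ⟨i, Xi, fi, gX, -, -, -, hPQ, pb⟩ := exists_model_of_qcqsDescent H hcA F
    ⟨inferInstance, inferInstance⟩
  refine ⟨Xi, DA.obj i, fi, eA.inv ≫ cA.π.app i, gX, NA4.isLocallyNoetherian_of_lft _, hPQ.1,
    hPQ.2, ?_⟩
  refine IsPullback.of_iso pb (Iso.refl _) (Iso.refl _) eA (Iso.refl _) ?_ ?_ ?_ ?_
  · simp
  · simp [F]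
  · simp
  · simp

/-- **`O_S → f_* O_X` is an isomorphism** for `f` proper, flat, of finite presentation with
`κ(s) ≅ Γ(X_s, O)` for all `s` (no Noetherian hypothesis) -/
theorem isIso_app_of_proper_flat_fp {X S : Scheme.{u}} (f : X ⟶ S) [IsProper f] [Flat f]
    [LocallyOfFinitePresentation f]
    (h : ∀ s : S, Function.Bijective (Coh.toGlobal (f.fiberToSpecResidueField s)))
    (V : S.Opens) : IsIso (f.app V) := by
  revert V
  apply Groth.Agent.Lib.Helper23.ZarConn.isIso_app_of_affine f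
  intro V hV
  haveI : IsAffine (V : Scheme.{u}) := hV
  have hres : IsPullback (f ⁻¹ᵁ V).ι (f ∣_ V) f V.ι := (isPullback_morphismRestrict f V).flip
  haveI : IsProper (f ∣_ V) := MorphismProperty.of_isPullback (P := @IsProper) hres inferInstance
  haveI : Flat (f ∣_ V) := MorphismProperty.of_isPullback (P := @Flat) hres inferInstance
  haveI : LocallyOfFinitePresentation (f ∣_ V) :=
    MorphismProperty.of_isPullback (P := @LocallyOfFinitePresentation) hres inferInstance
  obtain ⟨X₀, Y₀, f₀, g, p, hN, hp, hfl, hsq⟩ := exists_noetherian_model (f ∣_ V)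
  haveI := hN
  haveI := hp
  haveI := hfl
  have hf₀ : ∀ q : (V : Scheme.{u}),
      Function.Bijective (Coh.toGlobal (f₀.fiberToSpecResidueField (g q))) := by
    intro q
    rw [← bijective_toGlobal_fiber_iff f₀ g p (f ∣_ V) hsq q,
      bijective_toGlobal_fiber_iff f V.ι (f ⁻¹ᵁ V).ι (f ∣_ V) hres q]
    exact h (V.ι q)
  have h1 : IsIso ((f ∣_ V).app ⊤) := isIso_app_of_isPullback f₀ g p (f ∣_ V) hsq hf₀ ⊤
  rw [morphismRestrict_app] at h1
  have h2 : IsIso (f.app (V.ι ''ᵁ ⊤)) :=
    @IsIso.of_isIso_comp_right _ _ _ _ _ (f.app (V.ι ''ᵁ ⊤))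
      (X.presheaf.map (eqToHom (image_morphismRestrict_preimage f V ⊤)).op) inferInstance h1
  have key : ∀ W : S.Opens, W = V → IsIso (f.app W) → IsIso (f.app V) := by
    rintro W rfl h
    exact h
  exact key _ (by simp) h2

end Approx

end Groth.Agent.Lib.Helper21.TBridge
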