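import Groth.Agent.Lib.Helper21UnitFibE
import Groth.Agent.Lib.Helper6H0Const

/-!
# Helper21: fibres with reduced connected geometric fibres have only constant functions
-/

set_option autoImplicit false
universe u
open CategoryTheory CategoryTheory.Limits MonoidalCategory TensorProduct AlgebraicGeometry Opposite

namespace Groth.Agent.Lib.Helper21.TBridge

open Groth.Agent.Lib.Helper6.H0Const

/-- if the geometric fibre over the algebraic closure of `κ(s)` is reduced and connected then
`κ(s) → Γ(X_s, O)` is bijective (`f` proper) -/
theorem bijective_toGlobal_fiber_of_geometric {X S : Scheme.{u}} (f : X ⟶ S) [IsProper f]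
    (h : ∀ (K : Type u) [Field K] [IsAlgClosed K] (g : Spec (CommRingCat.of K) ⟶ S),
      IsReduced (pullback f g) ∧ ConnectedSpace ↥(pullback f g)) (s : S) :
    Function.Bijective (Coh.toGlobal (f.fiberToSpecResidueField s)) := by
  let k := S.residueField s
  let K := AlgebraicClosure k
  let a : Spec (CommRingCat.of K) ⟶ Spec (CommRingCat.of k) :=
    Spec.map (CommRingCat.ofHom (algebraMap k K))
  let g : Spec (CommRingCat.of K) ⟶ S := a ≫ S.fromSpecResidueField s
  obtain ⟨hred, hconn⟩ := h K g
  letI : (f.fiber s).Over (Spec (CommRingCat.of k)) := CohIII.fiberOver f s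
  letI : (pullback f g).Over (Spec (CommRingCat.of K)) := ⟨pullback.snd f g⟩
  -- the geometric fibre has only constant functions
  haveI : IsProper (pullback.snd f g) :=
    MorphismProperty.pullback_snd (P := @IsProper) f g inferInstance
  letI algY : Algebra K Γ(pullback f g, ⊤) := (gsMap K (pullback.snd f g)).hom.toAlgebra
  haveI : Algebra.IsIntegral K Γ(pullback f g, ⊤) := by
    have := gsMap_isIntegral K (pullback.snd f g)
    exact ⟨this⟩
  haveI : Nonempty ↥(pullback f g : Scheme.{u}) := hconn.toNonempty
  haveI : Nontrivial Γ(pullback f g, ⊤) := by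
    obtain ⟨y⟩ := (inferInstance : Nonempty ↥(pullback f g : Scheme.{u}))
    exact @Scheme.component_nontrivial (pullback f g) ⊤ ⟨⟨y, trivial⟩⟩
  have hbij : Function.Bijective (algebraMap K Γ(pullback f g, ⊤)) :=
    bijective_algebraMap_of_isAlgClosed K Γ(pullback f g, ⊤)
      (eq_zero_or_one_of_isIdempotentElem (Y := pullback f g))
  have hbij' : Function.Bijective
      (Coh.toGlobal ((pullback f g) ↘ Spec (CommRingCat.of K))) := hbij
  -- the square over the field extension
  let jZ : pullback f g ⟶ f.fiber s := Limits.pullback.lift (pullback.fst f g)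
    (pullback.snd f g ≫ a) (by rw [pullback.condition, Category.assoc])
  have hj1 : jZ ≫ f.fiberι s = pullback.fst f g := Limits.pullback.lift_fst _ _ _
  have hj2 : jZ ≫ f.fiberToSpecResidueField s = pullback.snd f g ≫ a :=
    Limits.pullback.lift_snd _ _ _
  have hZ : IsPullback jZ ((pullback f g) ↘ Spec (CommRingCat.of K))
      (f.fiber s ↘ Spec (CommRingCat.of k)) (Spec.map (CommRingCat.ofHom (algebraMap k K))) := by
    have h' : IsPullback jZ (pullback.snd f g) (f.fiberToSpecResidueField s) a := by
      refine IsPullback.of_right ?_ hj2 (IsPullback.of_hasPullback f (S.fromSpecResidueField s))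
      have : jZ ≫ pullback.fst f (S.fromSpecResidueField s) = pullback.fst f g := hj1
      rw [this]
      exact IsPullback.of_hasPullback f g
    exact h'
  haveI : CompactSpace (f.fiber s) :=
    QuasiCompact.compactSpace_of_compactSpace (f.fiberToSpecResidueField s)
  haveI : QuasiSeparated (f.fiberToSpecResidueField s) :=
    MorphismProperty.pullback_snd (P := @QuasiSeparated) f _ inferInstance
  haveI : QuasiSeparatedSpace (f.fiber s) :=
    quasiSeparatedSpace_of_quasiSeparated (f.fiberToSpecResidueField s)
  exact (bijective_toGlobal_iff_of_field_ext k K (f.fiber s) (pullback f g) jZ hZ).1 hbij'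

end Groth.Agent.Lib.Helper21.TBridge
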