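import Groth.Agent.Lib.Helper21UnitFibE
import Groth.Agent.Lib.Helper3LocusBC
import Groth.Agent.S1391

/-!
# Helper21: the dimensions of the cohomology of the fibres are invariant under base change
-/

set_option autoImplicit false
universe u
open CategoryTheory CategoryTheory.Limits MonoidalCategory TensorProduct AlgebraicGeometry Opposite

namespace Groth.Agent.Lib.Helper21.TBridge

/-- **`dim H^i(X'_q, F'_q) = dim H^i(X_{g q}, F_{g q})`** for a cartesian square -/
theorem betti_baseChange {X Y X' T : Scheme.{u}} (f : X ⟶ Y) [QuasiCompact f] [QuasiSeparated f]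
    (g : T ⟶ Y) (p : X' ⟶ X) (f' : X' ⟶ T) (hsq : IsPullback p f' f g) (F : X.Modules)
    [F.IsQuasicoherent] (q : T) (i : ℕ) :
    PerfAux.betti f' ((Scheme.Modules.pullback p).obj F) q i = PerfAux.betti f F (g q) i := by
  obtain ⟨eX, h1, h2, hpb⟩ := Groth.Agent.Lib.Helper3.LocusBC.exists_fiber_lift hsq q
  let y : Y := g q
  letI : (f.fiber y).Over (Spec (CommRingCat.of (Y.residueField y))) :=
    ⟨f.fiberToSpecResidueField y⟩
  letI : (f'.fiber q).Over (Spec (CommRingCat.of (T.residueField q))) :=
    ⟨f'.fiberToSpecResidueField q⟩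
  letI : Algebra (Y.residueField y) (T.residueField q) := (g.residueFieldMap q).hom.toAlgebra
  have hZ : IsPullback eX (f'.fiber q ↘ Spec (CommRingCat.of (T.residueField q)))
      (f.fiber y ↘ Spec (CommRingCat.of (Y.residueField y)))
      (Spec.map (CommRingCat.ofHom (algebraMap (Y.residueField y) (T.residueField q)))) := hpb
  haveI : CompactSpace (f.fiber y) :=
    QuasiCompact.compactSpace_of_compactSpace (f.fiberToSpecResidueField y)
  haveI : QuasiSeparated (f.fiberToSpecResidueField y) :=
    MorphismProperty.pullback_snd (P := @QuasiSeparated) f _ inferInstance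
  haveI : QuasiSeparatedSpace (f.fiber y) :=
    quasiSeparatedSpace_of_quasiSeparated (f.fiberToSpecResidueField y)
  let M : (f.fiber y).Modules := (Scheme.Modules.pullback (f.fiberι y)).obj F
  haveI : Coh.IsQCoh M :=
    Groth.Agent.Lib.Helper2.PullbackSec.isQuasicoherent_pullback (f.fiberι y) F
  obtain ⟨e⟩ := Groth.Agent.S0034.result (Y.residueField y) (T.residueField q) (f.fiber y)
    (f'.fiber q) eX hZ M i
  let iso : (Scheme.Modules.pullback eX).obj M ≅
      (Scheme.Modules.pullback (f'.fiberι q)).obj ((Scheme.Modules.pullback p).obj F) :=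
    (Scheme.Modules.pullbackComp eX (f.fiberι y)).app F ≪≫
      (Scheme.Modules.pullbackCongr h1).app F ≪≫
      ((Scheme.Modules.pullbackComp (f'.fiberι q) p).app F).symm
  let e2 := Groth.Agent.Lib.Helper17.StalkBC.hhEquiv (T.residueField q) iso i
  have h3 : Module.finrank (T.residueField q)
      (Coh.HH (f'.fiber q)
        ((Scheme.Modules.pullback (f'.fiberι q)).obj ((Scheme.Modules.pullback p).obj F)) i) =
      Module.finrank (Y.residueField y) (Coh.HH (f.fiber y) M i) := by
    rw [← LinearEquiv.finrank_eq (e.trans e2)]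
    exact Module.finrank_baseChange
  exact h3

/-- the Euler characteristic of the fibres is invariant under base change -/
theorem eulerChar_baseChange {X Y X' T : Scheme.{u}} (f : X ⟶ Y) [QuasiCompact f]
    [QuasiSeparated f] (g : T ⟶ Y) (p : X' ⟶ X) (f' : X' ⟶ T) (hsq : IsPullback p f' f g)
    (F : X.Modules) [F.IsQuasicoherent] (q : T) :
    PerfAux.eulerChar f' ((Scheme.Modules.pullback p).obj F) q = PerfAux.eulerChar f F (g q) := by
  unfold PerfAux.eulerChar
  congr 1
  funext i
  rw [betti_baseChange f g p f' hsq F q i]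

end Groth.Agent.Lib.Helper21.TBridge
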