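import Mathlib

universe u

open CategoryTheory Limits AlgebraicGeometry TensorProduct

namespace Groth.Agent.Lib.Helper22.AF

theorem isPullback_comp_mono {C : Type*} [Category C] {P X Y W Z : C} {fst : P ⟶ X} {snd : P ⟶ Y}
    {f : X ⟶ W} {g : Y ⟶ W} (h : IsPullback fst snd f g) (i : W ⟶ Z) [Mono i] :
    IsPullback fst snd (f ≫ i) (g ≫ i) :=
  ⟨⟨by rw [← Category.assoc, h.w, Category.assoc]⟩,
    ⟨PullbackCone.isLimitOfCompMono f g i _ h.isLimit⟩⟩

section chart

variable {R B A : Type u} [CommRing R] [CommRing B] [CommRing A] [Algebra R B] [Algebra R A]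
variable {X S Y : Scheme.{u}} (f : X ⟶ S) (y : Y ⟶ S)
variable (sB : Spec (CommRingCat.of B) ⟶ X) (sR : Spec (CommRingCat.of R) ⟶ S)
variable (ε : Y ≅ Spec (CommRingCat.of A))

/-- first projection of the tensor product spectrum -/
noncomputable abbrev tfst : Spec (CommRingCat.of (B ⊗[R] A)) ⟶ Spec (CommRingCat.of B) :=
  Spec.map (CommRingCat.ofHom (Algebra.TensorProduct.includeLeftRingHom))

/-- second projection of the tensor product spectrum -/
noncomputable abbrev tsnd : Spec (CommRingCat.of (B ⊗[R] A)) ⟶ Spec (CommRingCat.of A) :=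
  Spec.map (CommRingCat.ofHom (Algebra.TensorProduct.includeRight (R := R) (A := B) (B := A)).toRingHom)

theorem isPullback_tensor :
    IsPullback (tfst (R := R) (B := B) (A := A)) (tsnd (R := R) (B := B) (A := A))
      (Spec.map (CommRingCat.ofHom (algebraMap R B)))
      (Spec.map (CommRingCat.ofHom (algebraMap R A))) :=
  isPullback_SpecMap_of_isPushout _ _ _ _ (CommRingCat.isPushout_tensorProduct R B A)

variable (hB : Spec.map (CommRingCat.ofHom (algebraMap R B)) ≫ sR = sB ≫ f)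
variable (hy : y = ε.hom ≫ Spec.map (CommRingCat.ofHom (algebraMap R A)) ≫ sR)

include hB hy in
theorem glue_w : (tfst (R := R) (B := B) (A := A) ≫ sB) ≫ f =
    (tsnd (R := R) (B := B) (A := A) ≫ ε.inv) ≫ y := by
  rw [hy, Category.assoc, Category.assoc, Iso.inv_hom_id_assoc, ← hB,
    ← Category.assoc, ← Category.assoc, (isPullback_tensor (R := R) (B := B) (A := A)).w]

/-- the chart of the fibre product -/
noncomputable def glue : Spec (CommRingCat.of (B ⊗[R] A)) ⟶ pullback f y :=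
  pullback.lift (tfst ≫ sB) (tsnd ≫ ε.inv) (glue_w f y sB sR ε hB hy)

@[reassoc]
theorem glue_fst : glue f y sB sR ε hB hy ≫ pullback.fst f y = tfst ≫ sB :=
  pullback.lift_fst _ _ _

@[reassoc]
theorem glue_snd : glue f y sB sR ε hB hy ≫ pullback.snd f y = tsnd ≫ ε.inv :=
  pullback.lift_snd _ _ _

theorem isPullback_glue [Mono sR] :
    IsPullback (glue f y sB sR ε hB hy) (tfst (R := R) (B := B) (A := A))
      (pullback.fst f y) sB := by
  have H1 := isPullback_comp_mono (isPullback_tensor (R := R) (B := B) (A := A)) sR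
  rw [hB] at H1
  have H2 : IsPullback (Spec.map (CommRingCat.ofHom (algebraMap R A)) ≫ sR) ε.inv (𝟙 S) y :=
    IsPullback.of_vert_isIso ⟨by rw [hy, Iso.inv_hom_id_assoc, Category.comp_id]⟩
  have H3 := H1.paste_vert H2
  rw [Category.comp_id] at H3
  have H4 : IsPullback (pullback.snd f y) (pullback.fst f y) y f :=
    (IsPullback.of_hasPullback f y).flip
  refine IsPullback.of_right ?_ (glue_fst f y sB sR ε hB hy) H4
  rw [glue_snd]
  exact H3.flip

theorem range_fst_of_isPullback {P X Y Z : Scheme.{u}} {fst : P ⟶ X} {snd : P ⟶ Y}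
    {f : X ⟶ Z} {g : Y ⟶ Z} (h : IsPullback fst snd f g) :
    Set.range fst = f ⁻¹' Set.range g := by
  ext x
  constructor
  · rintro ⟨p, rfl⟩
    refine ⟨snd p, ?_⟩
    rw [← Scheme.Hom.comp_apply, ← h.w, Scheme.Hom.comp_apply]
  · rintro ⟨y, hy⟩
    obtain ⟨p, hp, -⟩ := Scheme.exists_preimage_of_isPullback h x y hy.symm
    exact ⟨p, hp⟩

theorem isOpenImmersion_glue [Mono sR] [IsOpenImmersion sB] :
    IsOpenImmersion (glue f y sB sR ε hB hy) :=
  MorphismProperty.of_isPullback (P := @IsOpenImmersion) (isPullback_glue f y sB sR ε hB hy).flip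
    inferInstance

theorem range_glue [Mono sR] :
    Set.range (glue f y sB sR ε hB hy) = (pullback.fst f y) ⁻¹' Set.range sB :=
  range_fst_of_isPullback (isPullback_glue f y sB sR ε hB hy)

section naturality

variable {A' : Type u} [CommRing A'] [Algebra R A'] {Y' : Scheme.{u}} (y' : Y' ⟶ S)
  (ε' : Y' ≅ Spec (CommRingCat.of A'))
  (hy' : y' = ε'.hom ≫ Spec.map (CommRingCat.ofHom (algebraMap R A')) ≫ sR)
  (φ : A' →ₐ[R] A)

/-- the map of charts induced by an algebra map -/
noncomputable abbrev tmap : Spec (CommRingCat.of (B ⊗[R] A)) ⟶ Spec (CommRingCat.of (B ⊗[R] A')) :=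
  Spec.map (CommRingCat.ofHom (Algebra.TensorProduct.map (AlgHom.id R B) φ).toRingHom)

theorem tmap_tfst : tmap (B := B) φ ≫ tfst (R := R) (B := B) (A := A') =
    tfst (R := R) (B := B) (A := A) := by
  rw [← Spec.map_comp]
  have : CommRingCat.ofHom (Algebra.TensorProduct.includeLeftRingHom (R := R) (A := B) (B := A')) ≫
      CommRingCat.ofHom (Algebra.TensorProduct.map (AlgHom.id R B) φ).toRingHom =
      CommRingCat.ofHom (Algebra.TensorProduct.includeLeftRingHom (R := R) (A := B) (B := A)) := by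
    ext x
    change Algebra.TensorProduct.map (AlgHom.id R B) φ (x ⊗ₜ[R] (1 : A')) = x ⊗ₜ[R] (1 : A)
    rw [Algebra.TensorProduct.map_tmul, map_one, AlgHom.id_apply]
  rw [this]

theorem tmap_tsnd : tmap (B := B) φ ≫ tsnd (R := R) (B := B) (A := A') =
    tsnd (R := R) (B := B) (A := A) ≫ Spec.map (CommRingCat.ofHom φ.toRingHom) := by
  rw [← Spec.map_comp, ← Spec.map_comp]
  have : CommRingCat.ofHom
        (Algebra.TensorProduct.includeRight (R := R) (A := B) (B := A')).toRingHom ≫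
      CommRingCat.ofHom (Algebra.TensorProduct.map (AlgHom.id R B) φ).toRingHom =
      CommRingCat.ofHom φ.toRingHom ≫ CommRingCat.ofHom
        (Algebra.TensorProduct.includeRight (R := R) (A := B) (B := A)).toRingHom := by
    ext x
    change Algebra.TensorProduct.map (AlgHom.id R B) φ ((1 : B) ⊗ₜ[R] x) = (1 : B) ⊗ₜ[R] φ x
    rw [Algebra.TensorProduct.map_tmul, map_one]
  rw [this]

theorem glue_comp_lift (a : Y ⟶ Y')
    (ha : ε.inv ≫ a = Spec.map (CommRingCat.ofHom φ.toRingHom) ≫ ε'.inv) (hay : a ≫ y' = y) :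
    glue f y sB sR ε hB hy ≫ pullback.lift (pullback.fst f y) (pullback.snd f y ≫ a)
      (by rw [Category.assoc, hay, pullback.condition]) =
    tmap (B := B) φ ≫ glue f y' sB sR ε' hB hy' := by
  apply pullback.hom_ext
  · rw [Category.assoc, pullback.lift_fst, Category.assoc, glue_fst, glue_fst, ← Category.assoc,
      tmap_tfst]
  · rw [Category.assoc, pullback.lift_snd, Category.assoc, glue_snd, glue_snd_assoc, ha,
      ← Category.assoc, ← Category.assoc, tmap_tsnd]

end naturality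

end chart

section algebra

variable {R A B : Type u} [CommRing R] [CommRing A] [CommRing B] [Algebra R A] [Algebra R B]

/-- the ring map `A → B ⊗ A` -/
noncomputable abbrev inr : A →+* B ⊗[R] A :=
  (Algebra.TensorProduct.includeRight (R := R) (A := B) (B := A)).toRingHom

theorem exists_tmul_mem_sup (p : Ideal A) [p.IsPrime] (J : Ideal (B ⊗[R] A))
    (hJ : ∀ q : Ideal (B ⊗[R] A), q.IsPrime → J ≤ q → q.comap (inr (R := R) (A := A) (B := B)) ≠ p) :
    ∃ c : A, c ∉ p ∧ (1 : B) ⊗ₜ[R] c ∈ J ⊔ p.map (inr (R := R) (A := A) (B := B)) := by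
  let h : A →+* (B ⊗[R] A) ⧸ J := (Ideal.Quotient.mk J).comp inr
  have h1 : ¬ ∃ q : Ideal ((B ⊗[R] A) ⧸ J), q.IsPrime ∧ q.comap h = p := by
    rintro ⟨q, hq, hqp⟩
    refine hJ (q.comap (Ideal.Quotient.mk J)) inferInstance ?_ ?_
    · intro x hx
      rw [Ideal.mem_comap, Ideal.Quotient.eq_zero_iff_mem.mpr hx]
      exact zero_mem q
    · rw [Ideal.comap_comap]
      exact hqp
  rw [← Ideal.comap_map_eq_self_iff_of_isPrime] at h1
  have h2 : ¬ (p.map h).comap h ≤ p := fun hle => h1 (le_antisymm hle Ideal.le_comap_map)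
  obtain ⟨c, hc, hcp⟩ := Set.not_subset.mp h2
  refine ⟨c, hcp, ?_⟩
  have h3 : h c ∈ p.map h := hc
  rw [← Ideal.map_map] at h3
  have h4 : inr (R := R) (A := A) (B := B) c ∈
      ((p.map (inr (R := R) (A := A) (B := B))).map (Ideal.Quotient.mk J)).comap
        (Ideal.Quotient.mk J) := h3
  rw [Ideal.comap_map_of_surjective _ Ideal.Quotient.mk_surjective, ← RingHom.ker_eq_comap_bot,
    Ideal.mk_ker, sup_comm] at h4
  exact h4

theorem exists_finset_of_mem_map (p : Ideal A) (e : B ⊗[R] A)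
    (he : e ∈ p.map (inr (R := R) (A := A) (B := B))) :
    ∃ s : Finset (B × A), (∀ i ∈ s, i.2 ∈ p) ∧ e = ∑ i ∈ s, i.1 ⊗ₜ[R] i.2 := by
  have he' : e ∈ (p.map (Algebra.TensorProduct.includeRight : A →ₐ[R] B ⊗[R] A)).restrictScalars R :=
    he
  rw [Ideal.map_includeRight_eq] at he'
  obtain ⟨y, rfl⟩ := he'
  obtain ⟨s, rfl⟩ := TensorProduct.exists_finset y
  classical
  refine ⟨s.image (fun i => (i.1, (i.2 : A))), ?_, ?_⟩
  · intro i hi
    obtain ⟨j, -, rfl⟩ := Finset.mem_image.mp hi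
    exact j.2.2
  · rw [map_sum, Finset.sum_image]
    · rfl
    · intro i _ j _ hij
      simp only [Prod.mk.injEq] at hij
      exact Prod.ext hij.1 (Subtype.ext hij.2)

variable {σ : Type u} (v : σ → A)

/-- the lifted element of `B ⊗ R[σ]` -/
noncomputable def liftElt (o : σ) (s : Finset (B × A)) (w : ↥s → σ) :
    B ⊗[R] MvPolynomial σ R :=
  (1 : B) ⊗ₜ[R] (MvPolynomial.X o : MvPolynomial σ R) -
    ∑ i ∈ s.attach, i.1.1 ⊗ₜ[R] (MvPolynomial.X (w i) : MvPolynomial σ R)

theorem map_liftElt (o : σ) (s : Finset (B × A)) (w : ↥s → σ) (hw : ∀ i, v (w i) = i.1.2) :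
    Algebra.TensorProduct.map (AlgHom.id R B) (MvPolynomial.aeval v : MvPolynomial σ R →ₐ[R] A)
      (liftElt o s w) = (1 : B) ⊗ₜ[R] v o - ∑ i ∈ s, i.1 ⊗ₜ[R] i.2 := by
  rw [liftElt, map_sub, map_sum, Algebra.TensorProduct.map_tmul, MvPolynomial.aeval_X,
    AlgHom.id_apply, ← Finset.sum_attach s]
  congr 1
  refine Finset.sum_congr rfl fun i _ => ?_
  rw [Algebra.TensorProduct.map_tmul, MvPolynomial.aeval_X, AlgHom.id_apply, hw]

theorem liftElt_not_mem (p : Ideal A) [p.IsPrime] (o : σ) (s : Finset (B × A)) (w : ↥s → σ)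
    (ho : v o ∉ p) (hw : ∀ i, v (w i) ∈ p) (q' : Ideal (B ⊗[R] MvPolynomial σ R)) [q'.IsPrime]
    (hq' : q'.comap (inr (R := R) (A := MvPolynomial σ R) (B := B)) =
      p.comap (MvPolynomial.aeval v : MvPolynomial σ R →ₐ[R] A).toRingHom) :
    liftElt (R := R) o s w ∉ q' := by
  intro hmem
  have hX : ∀ x : σ, v x ∈ p → (1 : B) ⊗ₜ[R] (MvPolynomial.X x : MvPolynomial σ R) ∈ q' := by
    intro x hx
    have : (MvPolynomial.X x : MvPolynomial σ R) ∈
        q'.comap (inr (R := R) (A := MvPolynomial σ R) (B := B)) := by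
      rw [hq', Ideal.mem_comap]
      change MvPolynomial.aeval v (MvPolynomial.X x : MvPolynomial σ R) ∈ p
      rw [MvPolynomial.aeval_X]
      exact hx
    exact this
  have hsum : ∑ i ∈ s.attach, i.1.1 ⊗ₜ[R] (MvPolynomial.X (w i) : MvPolynomial σ R) ∈ q' := by
    refine Ideal.sum_mem _ fun i _ => ?_
    have h1 : i.1.1 ⊗ₜ[R] (MvPolynomial.X (w i) : MvPolynomial σ R) =
        (i.1.1 ⊗ₜ[R] (1 : MvPolynomial σ R)) *
          ((1 : B) ⊗ₜ[R] (MvPolynomial.X (w i) : MvPolynomial σ R)) := by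
      rw [Algebra.TensorProduct.tmul_mul_tmul, mul_one, one_mul]
    rw [h1]
    exact Ideal.mul_mem_left _ _ (hX _ (hw i))
  have h2 : (1 : B) ⊗ₜ[R] (MvPolynomial.X o : MvPolynomial σ R) ∈ q' := by
    have := Ideal.add_mem _ hmem hsum
    rwa [liftElt, sub_add_cancel] at this
  have h3 : (MvPolynomial.X o : MvPolynomial σ R) ∈
      q'.comap (inr (R := R) (A := MvPolynomial σ R) (B := B)) := h2
  rw [hq', Ideal.mem_comap] at h3
  change MvPolynomial.aeval v (MvPolynomial.X o : MvPolynomial σ R) ∈ p at h3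
  rw [MvPolynomial.aeval_X] at h3
  exact ho h3

end algebra

end Groth.Agent.Lib.Helper22.AF
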