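import Mathlib

/-!
# Helper22: faithfully flat descent for elements and maps of modules (Amitsur complex, degree 0)
-/

set_option autoImplicit false

namespace Groth.Agent.Lib.Helper22

open TensorProduct

variable {R A : Type*} [CommRing R] [CommRing A] [Algebra R A]

/-- `a ⊗ (b ⊗ x) ↦ ab ⊗ x`. -/
noncomputable def mulContract (R A : Type*) [CommRing R] [CommRing A] [Algebra R A]
    (X : Type*) [AddCommGroup X] [Module R X] : A ⊗[R] (A ⊗[R] X) →ₗ[R] A ⊗[R] X :=
  (LinearMap.mul' R A).rTensor X ∘ₗ (TensorProduct.assoc R A A X).symm.toLinearMap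

@[simp]
theorem mulContract_tmul (X : Type*) [AddCommGroup X] [Module R X] (a b : A) (x : X) :
    mulContract R A X (a ⊗ₜ[R] (b ⊗ₜ[R] x)) = (a * b) ⊗ₜ[R] x := by
  simp [mulContract]

variable (R A) in
/-- The Amitsur differential `A ⊗ M → A ⊗ (A ⊗ M)`, `x ↦ 1 ⊗ x - (id ⊗ ε) x`. -/
noncomputable def amitsurD (M : Type*) [AddCommGroup M] [Module R M] :
    A ⊗[R] M →ₗ[R] A ⊗[R] (A ⊗[R] M) :=
  TensorProduct.mk R A (A ⊗[R] M) 1 - (TensorProduct.mk R A M 1).lTensor A

theorem amitsur_exact [Module.FaithfullyFlat R A] (M : Type*) [AddCommGroup M] [Module R M] :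
    Function.Exact (TensorProduct.mk R A M 1) (amitsurD R A M) := by
  rw [← Module.FaithfullyFlat.lTensor_exact_iff_exact R A]
  have h0 : (amitsurD R A M) ∘ₗ (TensorProduct.mk R A M 1) = 0 := by
    ext m
    simp [amitsurD]
  have hs : (mulContract R A (A ⊗[R] M)) ∘ₗ ((amitsurD R A M).lTensor A) =
      LinearMap.id - ((TensorProduct.mk R A M 1).lTensor A) ∘ₗ (mulContract R A M) := by
    apply TensorProduct.ext'
    intro a y
    induction y using TensorProduct.induction_on with
    | zero => simp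
    | tmul b m => simp [amitsurD, TensorProduct.tmul_sub]
    | add y1 y2 h1 h2 =>
      rw [TensorProduct.tmul_add, map_add, h1, h2, map_add]
  intro w
  constructor
  · intro hw
    have := LinearMap.congr_fun hs w
    rw [LinearMap.comp_apply, hw, map_zero, LinearMap.sub_apply, LinearMap.id_apply,
      LinearMap.comp_apply] at this
    exact ⟨mulContract R A M w, (sub_eq_zero.mp this.symm).symm⟩
  · rintro ⟨v, rfl⟩
    rw [← LinearMap.comp_apply, ← LinearMap.lTensor_comp, h0, LinearMap.lTensor_zero,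
      LinearMap.zero_apply]

/-- Degree-zero exactness of the Amitsur complex with coefficients in a module. -/
theorem amitsur_mem_range [Module.FaithfullyFlat R A] (M : Type*) [AddCommGroup M] [Module R M]
    (x : A ⊗[R] M)
    (hx : TensorProduct.mk R A (A ⊗[R] M) 1 x = LinearMap.lTensor A (TensorProduct.mk R A M 1) x) :
    x ∈ LinearMap.range (TensorProduct.mk R A M 1) := by
  have h := (amitsur_exact (R := R) (A := A) M x).mp (by
    rw [amitsurD, LinearMap.sub_apply, hx, sub_self])
  exact h

/-- Faithfully flat descent for linear maps: an `A`-linear map `A ⊗ M → A ⊗ N` whose two base changes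
to `A ⊗ A` agree on the generators `1 ⊗ m` comes from a unique `R`-linear map `M → N`. -/
theorem existsUnique_baseChange_eq [Module.FaithfullyFlat R A]
    (M N : Type*) [AddCommGroup M] [Module R M] [AddCommGroup N] [Module R N]
    (f : A ⊗[R] M →ₗ[A] A ⊗[R] N)
    (hf : ∀ m : M,
      LinearMap.rTensor N (Algebra.TensorProduct.includeLeft : A →ₐ[R] A ⊗[R] A).toLinearMap
          (f (1 ⊗ₜ[R] m)) =
        LinearMap.rTensor N (Algebra.TensorProduct.includeRight : A →ₐ[R] A ⊗[R] A).toLinearMap
          (f (1 ⊗ₜ[R] m))) :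
    ∃! h : M →ₗ[R] N, h.baseChange A = f := by
  have e1 : (TensorProduct.assoc R A A N).toLinearMap ∘ₗ
      (LinearMap.rTensor N (Algebra.TensorProduct.includeLeft : A →ₐ[R] A ⊗[R] A).toLinearMap) =
      (TensorProduct.mk R A N 1).lTensor A := by
    ext a n
    simp
  have e2 : (TensorProduct.assoc R A A N).toLinearMap ∘ₗ
      (LinearMap.rTensor N (Algebra.TensorProduct.includeRight : A →ₐ[R] A ⊗[R] A).toLinearMap) =
      TensorProduct.mk R A (A ⊗[R] N) 1 := by
    ext a n
    simp
  have hinj : Function.Injective (TensorProduct.mk R A N 1) :=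
    Module.FaithfullyFlat.tensorProduct_mk_injective (A := R) (B := A) N
  have hmem : ∀ m : M, f (1 ⊗ₜ[R] m) ∈ LinearMap.range (TensorProduct.mk R A N 1) := by
    intro m
    apply amitsur_mem_range
    rw [← e1, ← e2, LinearMap.comp_apply, LinearMap.comp_apply, hf m]
  let g : M →ₗ[R] A ⊗[R] N := (f.restrictScalars R) ∘ₗ (TensorProduct.mk R A M 1)
  have hg : ∀ m, g m = f (1 ⊗ₜ[R] m) := fun _ => rfl
  let e := LinearEquiv.ofInjective (TensorProduct.mk R A N 1) hinj
  let h : M →ₗ[R] N := e.symm.toLinearMap ∘ₗ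
    (g.codRestrict (LinearMap.range (TensorProduct.mk R A N 1)) hmem)
  have hh : ∀ m, (1 : A) ⊗ₜ[R] (h m) = f (1 ⊗ₜ[R] m) := by
    intro m
    have : (e (h m) : A ⊗[R] N) = f (1 ⊗ₜ[R] m) := by
      simp only [h, LinearMap.comp_apply, LinearEquiv.coe_coe, LinearEquiv.apply_symm_apply]
      rfl
    rw [← this]
    rfl
  refine ⟨h, ?_, ?_⟩
  · apply LinearMap.ext
    intro t
    induction t using TensorProduct.induction_on with
    | zero => simp
    | tmul a m =>
      rw [LinearMap.baseChange_tmul]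
      have : a ⊗ₜ[R] m = a • ((1 : A) ⊗ₜ[R] m) := by
        rw [TensorProduct.smul_tmul', smul_eq_mul, mul_one]
      rw [this, map_smul, ← hh, TensorProduct.smul_tmul', smul_eq_mul, mul_one]
    | add x y hx hy => rw [map_add, map_add, hx, hy]
  · intro h' hh'
    apply LinearMap.ext
    intro m
    apply hinj
    show (1 : A) ⊗ₜ[R] (h' m) = (1 : A) ⊗ₜ[R] (h m)
    rw [hh, ← hh', LinearMap.baseChange_tmul]

end Groth.Agent.Lib.Helper22
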