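import Mathlib

set_option autoImplicit false
set_option linter.style.haveILetI false
universe u

open AlgebraicGeometry CategoryTheory CategoryTheory.Limits TopologicalSpace

namespace Groth.Agent.Lib.Helper22.Hartogs

section Alg

variable {R : Type*} [CommRing R] {a b : R}

/-- powers of a regular sequence of length two, in elementary form. -/
theorem regular_pair_pow (ha : IsSMulRegular R a)
    (hb : ∀ u : R, (∃ v : R, b * u = a * v) → ∃ w : R, u = a * w) (n m : ℕ) :
    ∀ u : R, (∃ v : R, b ^ m * u = a ^ n * v) → ∃ w : R, u = a ^ n * w := by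
  have h1 : ∀ n : ℕ, ∀ u : R, (∃ v : R, b * u = a ^ n * v) → ∃ w : R, u = a ^ n * w := by
    intro n
    induction n with
    | zero => intro u _; exact ⟨u, by simp⟩
    | succ n ih =>
      rintro u ⟨v, hv⟩
      obtain ⟨u', rfl⟩ := hb u ⟨a ^ n * v, by rw [hv]; ring⟩
      have h2 : b * u' = a ^ n * v := by
        apply ha
        change a * (b * u') = a * (a ^ n * v)
        rw [← mul_assoc a (a ^ n), ← pow_succ', ← hv]
        ring
      obtain ⟨w, rfl⟩ := ih u' ⟨v, h2⟩
      exact ⟨w, by ring⟩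
  induction m with
  | zero => rintro u ⟨v, hv⟩; exact ⟨v, by simpa using hv⟩
  | succ m ih =>
    rintro u ⟨v, hv⟩
    obtain ⟨w, hw⟩ := ih (b * u) ⟨v, by rw [← hv]; ring⟩
    exact h1 n u ⟨w, hw⟩

end Alg

section Sch

variable {X : Scheme.{u}} [IsAffine X]

/-- restriction from global sections to a basic open. -/
noncomputable abbrev res (f : Γ(X, ⊤)) : Γ(X, ⊤) →+* Γ(X, X.basicOpen f) :=
  (X.presheaf.map (homOfLE (le_top : X.basicOpen f ≤ ⊤)).op).hom

theorem res_eq_zero_iff (f s : Γ(X, ⊤)) : res f s = 0 ↔ ∃ n : ℕ, f ^ n * s = 0 := by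
  have h := IsLocalization.map_eq_zero_iff (Submonoid.powers f) Γ(X, X.basicOpen f) s
  constructor
  · intro h0
    obtain ⟨⟨_, n, rfl⟩, hm⟩ := h.mp h0
    exact ⟨n, hm⟩
  · rintro ⟨n, hn⟩
    exact h.mpr ⟨⟨f ^ n, n, rfl⟩, hn⟩

theorem exists_res_eq (f : Γ(X, ⊤)) (z : Γ(X, X.basicOpen f)) :
    ∃ (n : ℕ) (x : Γ(X, ⊤)), z * res f (f ^ n) = res f x := by
  obtain ⟨⟨x, ⟨_, n, rfl⟩⟩, hx⟩ := IsLocalization.surj (Submonoid.powers f) z
  exact ⟨n, x, hx⟩

theorem isUnit_res (f : Γ(X, ⊤)) : IsUnit (res f f) :=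
  RingedSpace.isUnit_res_basicOpen _ f

/-- a section over `D(f)` vanishing on `D(f) ⊓ D(a)` vanishes, if `a` is regular. -/
theorem eq_zero_of_res_inf (a f : Γ(X, ⊤)) (ha : IsSMulRegular Γ(X, ⊤) a)
    (z : Γ(X, X.basicOpen f))
    (hz : X.presheaf.map (homOfLE (inf_le_left : X.basicOpen f ⊓ X.basicOpen a ≤ X.basicOpen f)).op z
      = 0) : z = 0 := by
  obtain ⟨k, w, hw⟩ := exists_res_eq f z
  -- `w` vanishes on `D(f * a)`
  have hfa : X.basicOpen (f * a) = X.basicOpen f ⊓ X.basicOpen a := X.basicOpen_mul f a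
  have h1 : res (f * a) w = 0 := by
    have e1 : res (f * a) w = X.presheaf.map (homOfLE (hfa.le.trans inf_le_left)).op (res f w) := by
      change _ = (X.presheaf.map _ ≫ X.presheaf.map _) w
      rw [← X.presheaf.map_comp]
      rfl
    have e2 : X.presheaf.map (homOfLE (hfa.le.trans inf_le_left)).op (res f w) =
        X.presheaf.map (homOfLE hfa.le).op (X.presheaf.map (homOfLE (inf_le_left :
          X.basicOpen f ⊓ X.basicOpen a ≤ X.basicOpen f)).op (res f w)) := by
      change _ = (X.presheaf.map _ ≫ X.presheaf.map _) (res f w)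
      rw [← X.presheaf.map_comp]
      rfl
    rw [e1, e2, ← hw, map_mul, hz, zero_mul, map_zero]
  obtain ⟨l, hl⟩ := (res_eq_zero_iff (f * a) w).mp h1
  have h2 : f ^ l * w = 0 := by
    apply ha.pow l
    change a ^ l * (f ^ l * w) = a ^ l * 0
    rw [mul_zero, ← hl, mul_pow]
    ring
  have h3 : res f w = 0 := (res_eq_zero_iff f w).mpr ⟨l, h2⟩
  rw [h3] at hw
  exact ((isUnit_res f).pow k).mul_left_eq_zero.mp (by rwa [map_pow] at hw)

/-- **Algebraic Hartogs lemma**: on an affine scheme, if `a, b` is a regular sequence of global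
sections and the open `U` contains `D(a)` and `D(b)`, then restriction of functions from the whole
scheme to `U` is bijective. -/
theorem bijective_res (a b : Γ(X, ⊤)) (ha : IsSMulRegular Γ(X, ⊤) a)
    (hb : ∀ u : Γ(X, ⊤), (∃ v, b * u = a * v) → ∃ w, u = a * w)
    (U : X.Opens) (haU : X.basicOpen a ≤ U) (hbU : X.basicOpen b ≤ U) :
    Function.Bijective (X.presheaf.map (homOfLE (le_top : U ≤ ⊤)).op) := by
  have hres : ∀ (f : Γ(X, ⊤)) (hf : X.basicOpen f ≤ U) (s : Γ(X, ⊤)),
      X.presheaf.map (homOfLE hf).op (X.presheaf.map (homOfLE (le_top : U ≤ ⊤)).op s) = res f s := by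
    intro f hf s
    change (X.presheaf.map _ ≫ X.presheaf.map _) s = _
    rw [← X.presheaf.map_comp]
    rfl
  constructor
  · rw [injective_iff_map_eq_zero]
    intro s hs
    have h1 : res a s = 0 := by rw [← hres a haU s, hs, map_zero]
    obtain ⟨n, hn⟩ := (res_eq_zero_iff a s).mp h1
    apply ha.pow n
    change a ^ n * s = a ^ n * 0
    rw [hn, mul_zero]
  · intro t
    let ta := X.presheaf.map (homOfLE haU).op t
    let tb := X.presheaf.map (homOfLE hbU).op t
    obtain ⟨n, x, hx⟩ := exists_res_eq a ta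
    obtain ⟨m, y, hy⟩ := exists_res_eq b tb
    have hab : X.basicOpen (a * b) = X.basicOpen a ⊓ X.basicOpen b := X.basicOpen_mul a b
    have habU : X.basicOpen (a * b) ≤ U := hab.le.trans (inf_le_left.trans haU)
    let tab := X.presheaf.map (homOfLE habU).op t
    have hra : ∀ s : Γ(X, ⊤), X.presheaf.map (homOfLE (hab.le.trans inf_le_left)).op (res a s) =
        res (a * b) s := by
      intro s
      change (X.presheaf.map _ ≫ X.presheaf.map _) s = _
      rw [← X.presheaf.map_comp]
      rfl
    have hrb : ∀ s : Γ(X, ⊤), X.presheaf.map (homOfLE (hab.le.trans inf_le_right)).op (res b s) =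
        res (a * b) s := by
      intro s
      change (X.presheaf.map _ ≫ X.presheaf.map _) s = _
      rw [← X.presheaf.map_comp]
      rfl
    have hta : X.presheaf.map (homOfLE (hab.le.trans inf_le_left)).op ta = tab := by
      change (X.presheaf.map _ ≫ X.presheaf.map _) t = _
      rw [← X.presheaf.map_comp]
      rfl
    have htb : X.presheaf.map (homOfLE (hab.le.trans inf_le_right)).op tb = tab := by
      change (X.presheaf.map _ ≫ X.presheaf.map _) t = _
      rw [← X.presheaf.map_comp]
      rfl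
    have hx' : tab * res (a * b) (a ^ n) = res (a * b) x := by
      have := congrArg (X.presheaf.map (homOfLE (hab.le.trans inf_le_left)).op) hx
      rwa [map_mul, hta, hra, hra] at this
    have hy' : tab * res (a * b) (b ^ m) = res (a * b) y := by
      have := congrArg (X.presheaf.map (homOfLE (hab.le.trans inf_le_right)).op) hy
      rwa [map_mul, htb, hrb, hrb] at this
    have h0 : res (a * b) (x * b ^ m - y * a ^ n) = 0 := by
      rw [map_sub, map_mul, map_mul, ← hx', ← hy']
      ring
    obtain ⟨k, hk⟩ := (res_eq_zero_iff (a * b) _).mp h0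
    have h1 : b ^ k * (x * b ^ m - y * a ^ n) = 0 := by
      apply ha.pow k
      change a ^ k * (b ^ k * (x * b ^ m - y * a ^ n)) = a ^ k * 0
      rw [mul_zero, ← hk, mul_pow]
      ring
    obtain ⟨s, hs⟩ := regular_pair_pow ha hb n (m + k) x ⟨y * b ^ k, by
      have : b ^ (m + k) * x - a ^ n * (y * b ^ k) = b ^ k * (x * b ^ m - y * a ^ n) := by ring
      rw [← sub_eq_zero, this, h1]⟩
    have htas : ta = res a s := by
      have h2 : ta * res a (a ^ n) = res a s * res a (a ^ n) := by
        rw [hx, hs, map_mul, mul_comm]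
      have hu : IsUnit (res a (a ^ n)) := by rw [map_pow]; exact (isUnit_res a).pow n
      exact hu.mul_left_injective h2
    refine ⟨s, ?_⟩
    -- locality
    let ι := {f : Γ(X, ⊤) // X.basicOpen f ≤ U}
    refine X.sheaf.eq_of_locally_eq' (fun i : ι => X.basicOpen i.1) U (fun i => homOfLE i.2) ?_ _ _ ?_
    · intro x hx
      obtain ⟨_, ⟨f, rfl⟩, hxf, hfU⟩ := Opens.isBasis_iff_nbhd.mp (isBasis_basicOpen X) hx
      exact Opens.mem_iSup.mpr ⟨⟨f, hfU⟩, hxf⟩
    · rintro ⟨f, hf⟩
      change X.presheaf.map (homOfLE hf).op (X.presheaf.map (homOfLE (le_top : U ≤ ⊤)).op s) =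
        X.presheaf.map (homOfLE hf).op t
      rw [hres f hf s, ← sub_eq_zero]
      apply eq_zero_of_res_inf a f ha
      rw [map_sub, sub_eq_zero]
      have e1 : X.presheaf.map (homOfLE (inf_le_left :
          X.basicOpen f ⊓ X.basicOpen a ≤ X.basicOpen f)).op (res f s) =
          X.presheaf.map (homOfLE (inf_le_right :
          X.basicOpen f ⊓ X.basicOpen a ≤ X.basicOpen a)).op (res a s) := by
        change (X.presheaf.map _ ≫ X.presheaf.map _) s = (X.presheaf.map _ ≫ X.presheaf.map _) s
        rw [← X.presheaf.map_comp, ← X.presheaf.map_comp]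
        rfl
      have e2 : X.presheaf.map (homOfLE (inf_le_left :
          X.basicOpen f ⊓ X.basicOpen a ≤ X.basicOpen f)).op (X.presheaf.map (homOfLE hf).op t) =
          X.presheaf.map (homOfLE (inf_le_right :
          X.basicOpen f ⊓ X.basicOpen a ≤ X.basicOpen a)).op ta := by
        change (X.presheaf.map _ ≫ X.presheaf.map _) t = (X.presheaf.map _ ≫ X.presheaf.map _) t
        rw [← X.presheaf.map_comp, ← X.presheaf.map_comp]
        rfl
      rw [e1, e2, htas]

end Sch

end Groth.Agent.Lib.Helper22.Hartogs
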