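import Mathlib
import Groth.Agent.S7757
import Groth.Agent.Lib.Helper22Hartogs
import Groth.Agent.Lib.Helper28Normal
import Groth.Agent.Lib.Helper28DepthMore

set_option autoImplicit false
set_option linter.style.haveILetI false
universe u

open AlgebraicGeometry CategoryTheory CategoryTheory.Limits TopologicalSpace

namespace Groth.Agent.Lib.Helper22.Hartogs

section AffineOpen

variable {X : Scheme.{u}} {W : X.Opens}

/-- restriction from an affine open to a basic open. -/
noncomputable abbrev resW (f : Γ(X, W)) : Γ(X, W) →+* Γ(X, X.basicOpen f) :=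
  (X.presheaf.map (homOfLE (X.basicOpen_le f)).op).hom

theorem resW_eq_zero_iff (hW : IsAffineOpen W) (f s : Γ(X, W)) :
    resW f s = 0 ↔ ∃ n : ℕ, f ^ n * s = 0 := by
  haveI := hW.isLocalization_basicOpen f
  have h := IsLocalization.map_eq_zero_iff (Submonoid.powers f) Γ(X, X.basicOpen f) s
  constructor
  · intro h0
    obtain ⟨⟨_, n, rfl⟩, hm⟩ := h.mp h0
    exact ⟨n, hm⟩
  · rintro ⟨n, hn⟩
    exact h.mpr ⟨⟨f ^ n, n, rfl⟩, hn⟩

theorem exists_resW_eq (hW : IsAffineOpen W) (f : Γ(X, W)) (z : Γ(X, X.basicOpen f)) :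
    ∃ (n : ℕ) (x : Γ(X, W)), z * resW f (f ^ n) = resW f x := by
  haveI := hW.isLocalization_basicOpen f
  obtain ⟨⟨x, ⟨_, n, rfl⟩⟩, hx⟩ := IsLocalization.surj (Submonoid.powers f) z
  exact ⟨n, x, hx⟩

theorem isUnit_resW (f : Γ(X, W)) : IsUnit (resW f f) :=
  RingedSpace.isUnit_res_basicOpen _ f

/-- a section over `D(f)` vanishing on `D(f) ⊓ D(a)` vanishes, if `a` is regular. -/
theorem eq_zero_of_resW_inf (hW : IsAffineOpen W) (a f : Γ(X, W)) (ha : IsSMulRegular Γ(X, W) a)
    (z : Γ(X, X.basicOpen f))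
    (hz : X.presheaf.map (homOfLE (inf_le_left : X.basicOpen f ⊓ X.basicOpen a ≤ X.basicOpen f)).op z
      = 0) : z = 0 := by
  obtain ⟨k, w, hw⟩ := exists_resW_eq hW f z
  have hfa : X.basicOpen (f * a) = X.basicOpen f ⊓ X.basicOpen a := X.basicOpen_mul f a
  have h1 : resW (f * a) w = 0 := by
    have e1 : resW (f * a) w = X.presheaf.map (homOfLE (hfa.le.trans inf_le_left)).op (resW f w) := by
      change _ = (X.presheaf.map _ ≫ X.presheaf.map _) w
      rw [← X.presheaf.map_comp]
      rfl
    have e2 : X.presheaf.map (homOfLE (hfa.le.trans inf_le_left)).op (resW f w) =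
        X.presheaf.map (homOfLE hfa.le).op (X.presheaf.map (homOfLE (inf_le_left :
          X.basicOpen f ⊓ X.basicOpen a ≤ X.basicOpen f)).op (resW f w)) := by
      change _ = (X.presheaf.map _ ≫ X.presheaf.map _) (resW f w)
      rw [← X.presheaf.map_comp]
      rfl
    rw [e1, e2, ← hw, map_mul, hz, zero_mul, map_zero]
  obtain ⟨l, hl⟩ := (resW_eq_zero_iff hW (f * a) w).mp h1
  have h2 : f ^ l * w = 0 := by
    apply ha.pow l
    change a ^ l * (f ^ l * w) = a ^ l * 0
    rw [mul_zero, ← hl, mul_pow]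
    ring
  have h3 : resW f w = 0 := (resW_eq_zero_iff hW f w).mpr ⟨l, h2⟩
  rw [h3] at hw
  exact ((isUnit_resW f).pow k).mul_left_eq_zero.mp (by rwa [map_pow] at hw)

/-- **Algebraic Hartogs lemma** on an affine open `W`: if `a, b` is a regular sequence of sections
over `W` and the open `U' ≤ W` contains `D(a)` and `D(b)`, then restriction `Γ(W) → Γ(U')` is
bijective. -/
theorem bijective_res_of_isAffineOpen (hW : IsAffineOpen W) (a b : Γ(X, W))
    (ha : IsSMulRegular Γ(X, W) a)
    (hb : ∀ u : Γ(X, W), (∃ v, b * u = a * v) → ∃ w, u = a * w)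
    (U' : X.Opens) (hU'W : U' ≤ W) (haU : X.basicOpen a ≤ U') (hbU : X.basicOpen b ≤ U') :
    Function.Bijective (X.presheaf.map (homOfLE hU'W).op) := by
  have hres : ∀ (f : Γ(X, W)) (hf : X.basicOpen f ≤ U') (s : Γ(X, W)),
      X.presheaf.map (homOfLE hf).op (X.presheaf.map (homOfLE hU'W).op s) = resW f s := by
    intro f hf s
    change (X.presheaf.map _ ≫ X.presheaf.map _) s = _
    rw [← X.presheaf.map_comp]
    rfl
  constructor
  · rw [injective_iff_map_eq_zero]
    intro s hs
    have h1 : resW a s = 0 := by rw [← hres a haU s, hs, map_zero]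
    obtain ⟨n, hn⟩ := (resW_eq_zero_iff hW a s).mp h1
    apply ha.pow n
    change a ^ n * s = a ^ n * 0
    rw [hn, mul_zero]
  · intro t
    let ta := X.presheaf.map (homOfLE haU).op t
    let tb := X.presheaf.map (homOfLE hbU).op t
    obtain ⟨n, x, hx⟩ := exists_resW_eq hW a ta
    obtain ⟨m, y, hy⟩ := exists_resW_eq hW b tb
    have hab : X.basicOpen (a * b) = X.basicOpen a ⊓ X.basicOpen b := X.basicOpen_mul a b
    have habU : X.basicOpen (a * b) ≤ U' := hab.le.trans (inf_le_left.trans haU)
    let tab := X.presheaf.map (homOfLE habU).op t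
    have hra : ∀ s : Γ(X, W), X.presheaf.map (homOfLE (hab.le.trans inf_le_left)).op (resW a s) =
        resW (a * b) s := by
      intro s
      change (X.presheaf.map _ ≫ X.presheaf.map _) s = _
      rw [← X.presheaf.map_comp]
      rfl
    have hrb : ∀ s : Γ(X, W), X.presheaf.map (homOfLE (hab.le.trans inf_le_right)).op (resW b s) =
        resW (a * b) s := by
      intro s
      change (X.presheaf.map _ ≫ X.presheaf.map _) s = _
      rw [← X.presheaf.map_comp]
      rfl
    have hta : X.presheaf.map (homOfLE (hab.le.trans inf_le_left)).op ta = tab := by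
      change (X.presheaf.map _ ≫ X.presheaf.map _) t = _
      rw [← X.presheaf.map_comp]
      rfl
    have htb : X.presheaf.map (homOfLE (hab.le.trans inf_le_right)).op tb = tab := by
      change (X.presheaf.map _ ≫ X.presheaf.map _) t = _
      rw [← X.presheaf.map_comp]
      rfl
    have hx' : tab * resW (a * b) (a ^ n) = resW (a * b) x := by
      have := congrArg (X.presheaf.map (homOfLE (hab.le.trans inf_le_left)).op) hx
      rwa [map_mul, hta, hra, hra] at this
    have hy' : tab * resW (a * b) (b ^ m) = resW (a * b) y := by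
      have := congrArg (X.presheaf.map (homOfLE (hab.le.trans inf_le_right)).op) hy
      rwa [map_mul, htb, hrb, hrb] at this
    have h0 : resW (a * b) (x * b ^ m - y * a ^ n) = 0 := by
      rw [map_sub, map_mul, map_mul, ← hx', ← hy']
      ring
    obtain ⟨k, hk⟩ := (resW_eq_zero_iff hW (a * b) _).mp h0
    have h1 : b ^ k * (x * b ^ m - y * a ^ n) = 0 := by
      apply ha.pow k
      change a ^ k * (b ^ k * (x * b ^ m - y * a ^ n)) = a ^ k * 0
      rw [mul_zero, ← hk, mul_pow]
      ring
    obtain ⟨s, hs⟩ := regular_pair_pow ha hb n (m + k) x ⟨y * b ^ k, by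
      have : b ^ (m + k) * x - a ^ n * (y * b ^ k) = b ^ k * (x * b ^ m - y * a ^ n) := by ring
      rw [← sub_eq_zero, this, h1]⟩
    have htas : ta = resW a s := by
      have h2 : ta * resW a (a ^ n) = resW a s * resW a (a ^ n) := by
        rw [hx, hs, map_mul, mul_comm]
      have hu : IsUnit (resW a (a ^ n)) := by rw [map_pow]; exact (isUnit_resW a).pow n
      exact hu.mul_left_injective h2
    refine ⟨s, ?_⟩
    let ι := {f : Γ(X, W) // X.basicOpen f ≤ U'}
    refine X.sheaf.eq_of_locally_eq' (fun i : ι => X.basicOpen i.1) U' (fun i => homOfLE i.2) ?_ _ _ ?_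
    · intro x hx
      obtain ⟨f, hfU, hxf⟩ := hW.exists_basicOpen_le (V := U') ⟨x, hx⟩ (hU'W hx)
      exact Opens.mem_iSup.mpr ⟨⟨f, hfU⟩, hxf⟩
    · rintro ⟨f, hf⟩
      change X.presheaf.map (homOfLE hf).op (X.presheaf.map (homOfLE hU'W).op s) =
        X.presheaf.map (homOfLE hf).op t
      rw [hres f hf s, ← sub_eq_zero]
      apply eq_zero_of_resW_inf hW a f ha
      rw [map_sub, sub_eq_zero]
      have e1 : X.presheaf.map (homOfLE (inf_le_left :
          X.basicOpen f ⊓ X.basicOpen a ≤ X.basicOpen f)).op (resW f s) =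
          X.presheaf.map (homOfLE (inf_le_right :
          X.basicOpen f ⊓ X.basicOpen a ≤ X.basicOpen a)).op (resW a s) := by
        change (X.presheaf.map _ ≫ X.presheaf.map _) s = (X.presheaf.map _ ≫ X.presheaf.map _) s
        rw [← X.presheaf.map_comp, ← X.presheaf.map_comp]
        rfl
      have e2 : X.presheaf.map (homOfLE (inf_le_left :
          X.basicOpen f ⊓ X.basicOpen a ≤ X.basicOpen f)).op (X.presheaf.map (homOfLE hf).op t) =
          X.presheaf.map (homOfLE (inf_le_right :
          X.basicOpen f ⊓ X.basicOpen a ≤ X.basicOpen a)).op ta := by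
        change (X.presheaf.map _ ≫ X.presheaf.map _) t = (X.presheaf.map _ ≫ X.presheaf.map _) t
        rw [← X.presheaf.map_comp, ← X.presheaf.map_comp]
        rfl
      rw [e1, e2, htas]

end AffineOpen

section Depth

open RingTheory.Sequence

variable {X : Scheme.{u}} [IsLocallyNoetherian X]

/-- the ideal of sections over `W` whose non-vanishing locus lies in `U`. -/
def idealOf (W U : X.Opens) : Ideal Γ(X, W) where
  carrier := {f | X.basicOpen f ≤ U}
  zero_mem' := by
    change X.basicOpen (0 : Γ(X, W)) ≤ U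
    rw [Scheme.basicOpen_zero]
    exact bot_le
  add_mem' := by
    intro f g hf hg
    exact (X.basicOpen_add_le (f := f) (g := g)).trans (sup_le hf hg)
  smul_mem' := by
    intro r f hf
    change X.basicOpen (r * f) ≤ U
    rw [Scheme.basicOpen_mul]
    exact inf_le_right.trans hf

theorem mem_idealOf {W U : X.Opens} (f : Γ(X, W)) : f ∈ idealOf W U ↔ X.basicOpen f ≤ U := Iff.rfl

/-- On an affine open `W` of a locally Noetherian scheme, if the local rings at the points of
`W \ U` have depth at least two, there is a regular sequence `a, b` of sections over `W` with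
`D(a), D(b) ≤ U`. -/
theorem exists_regular_pair_of_depth {W : X.Opens} (hW : IsAffineOpen W) (U : X.Opens)
    (h : ∀ x : X, x ∈ W → x ∉ U →
      (2 : ℕ∞) ≤ LocCoh.depth (X.presheaf.stalk x) (X.presheaf.stalk x)) :
    ∃ a b : Γ(X, W), X.basicOpen a ≤ U ∧ X.basicOpen b ≤ U ∧ IsSMulRegular Γ(X, W) a ∧
      ∀ u : Γ(X, W), (∃ v, b * u = a * v) → ∃ w, u = a * w := by
  haveI : IsNoetherianRing Γ(X, W) := IsLocallyNoetherian.component_noetherian ⟨W, hW⟩
  have key : ∀ (p : Ideal Γ(X, W)) [p.IsPrime], idealOf W U ≤ p →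
      ((2 : ℕ) : ℕ∞) ≤ LocCoh.depth (Localization.AtPrime p)
        (LocalizedModule p.primeCompl Γ(X, W)) := by
    intro p hp hIp
    let y : PrimeSpectrum Γ(X, W) := ⟨p, hp⟩
    have hyW : hW.fromSpec y ∈ W := (hW.isoSpec.inv y).2
    have hyU : hW.fromSpec y ∉ U := by
      intro hyU
      obtain ⟨f, hfU, hxf⟩ := hW.exists_basicOpen_le (V := U) ⟨hW.fromSpec y, hyU⟩ hyW
      have hfp : f ∈ p := hIp hfU
      have : y ∈ hW.fromSpec ⁻¹ᵁ X.basicOpen f := hxf
      rw [hW.fromSpec_preimage_basicOpen] at this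
      exact this hfp
    have hd := h _ hyW hyU
    letI : Algebra Γ(X, W) (X.presheaf.stalk (hW.fromSpec y)) :=
      TopCat.Presheaf.algebra_section_stalk X.presheaf ⟨hW.fromSpec y, hyW⟩
    haveI : IsLocalization.AtPrime (X.presheaf.stalk (hW.fromSpec y)) p :=
      hW.isLocalization_stalk' y hyW
    let e : Localization.AtPrime p ≃+* X.presheaf.stalk (hW.fromSpec y) :=
      (IsLocalization.algEquiv p.primeCompl (Localization.AtPrime p)
        (X.presheaf.stalk (hW.fromSpec y))).toRingEquiv
    rw [Groth.Agent.Lib.Helper28.depth_localizedModule_self,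
      Groth.Agent.Lib.Helper28.depth_self_eq_of_ringEquiv e]
    exact hd
  obtain ⟨fs, hlen, hmem, hreg⟩ :=
    (Groth.Agent.Lib.Helper28.forall_le_depth_localization_iff_exists_isWeaklyRegular
      (R := Γ(X, W)) (I := idealOf W U) (M := Γ(X, W)) 2).mp key
  match fs, hlen with
  | [a, b], _ =>
    rw [isWeaklyRegular_cons_iff] at hreg
    obtain ⟨ha, h2⟩ := hreg
    rw [isWeaklyRegular_cons_iff] at h2
    obtain ⟨hb, -⟩ := h2
    refine ⟨a, b, hmem a (by simp), hmem b (by simp), ha, ?_⟩
    rintro u ⟨v, huv⟩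
    have h3 : b • (Submodule.Quotient.mk u : QuotSMulTop a Γ(X, W)) =
        b • (Submodule.Quotient.mk 0 : QuotSMulTop a Γ(X, W)) := by
      rw [← Submodule.Quotient.mk_smul, ← Submodule.Quotient.mk_smul, smul_zero,
        Submodule.Quotient.mk_zero, Submodule.Quotient.mk_eq_zero, smul_eq_mul, huv]
      exact Submodule.smul_mem_pointwise_smul v a ⊤ Submodule.mem_top
    have h4 := hb h3
    rw [Submodule.Quotient.mk_zero, Submodule.Quotient.mk_eq_zero,
      Submodule.mem_smul_pointwise_iff_exists] at h4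
    obtain ⟨w, -, hw⟩ := h4
    exact ⟨w, hw.symm⟩

/-- **Hartogs extension** on a locally Noetherian scheme: if the local rings at all points outside
the open `U` have depth at least two, restriction `Γ(V) → Γ(V')` is bijective for every open `V`
and every open `V'` with `V ⊓ U ≤ V' ≤ V`. -/
theorem bijective_res_of_depth (U : X.Opens)
    (h : ∀ x : X, x ∉ U → (2 : ℕ∞) ≤ LocCoh.depth (X.presheaf.stalk x) (X.presheaf.stalk x))
    (V V' : X.Opens) (hV' : V' ≤ V) (hVU : V ⊓ U ≤ V') (hV'U : V' ≤ U) :
    Function.Bijective (X.presheaf.map (homOfLE hV').op) := by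
  -- the affine case
  have haff : ∀ (W : X.Opens) (hW : IsAffineOpen W),
      Function.Bijective (X.presheaf.map (homOfLE (inf_le_left : W ⊓ U ≤ W)).op) := by
    intro W hW
    obtain ⟨a, b, haU, hbU, ha, hb⟩ := exists_regular_pair_of_depth hW U (fun x _ hx => h x hx)
    exact bijective_res_of_isAffineOpen hW a b ha hb (W ⊓ U) inf_le_left
      (le_inf (X.basicOpen_le a) haU) (le_inf (X.basicOpen_le b) hbU)
  have hWV' : ∀ (W : X.Opens), W ≤ V → W ⊓ U ≤ V' := fun W hWV =>
    (inf_le_inf_right U hWV).trans hVU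
  constructor
  · intro s s' hs
    refine Groth.Agent.S7757.eq_of_affine X V s s' ?_
    intro W hW hWV
    apply (haff W hW).1
    have e : ∀ r : Γ(X, V), X.presheaf.map (homOfLE (inf_le_left : W ⊓ U ≤ W)).op
        (X.presheaf.map (homOfLE hWV).op r) =
        X.presheaf.map (homOfLE (hWV' W hWV)).op (X.presheaf.map (homOfLE hV').op r) := by
      intro r
      change (X.presheaf.map _ ≫ X.presheaf.map _) r = (X.presheaf.map _ ≫ X.presheaf.map _) r
      rw [← X.presheaf.map_comp, ← X.presheaf.map_comp]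
      rfl
    rw [e, e, hs]
  · intro t
    -- local extensions
    have hex : ∀ (W : X.Opens) (hW : IsAffineOpen W) (hWV : W ≤ V), ∃ sW : Γ(X, W),
        X.presheaf.map (homOfLE (inf_le_left : W ⊓ U ≤ W)).op sW =
          X.presheaf.map (homOfLE (hWV' W hWV)).op t :=
      fun W hW hWV => (haff W hW).2 _
    choose sW hsW using hex
    obtain ⟨s, hs⟩ := Groth.Agent.S7757.glue_affine X V sW (by
      intro W W' hW hW' hWV hle
      apply (haff W' hW').1
      rw [hsW W' hW' (hle.trans hWV)]
      have e1 : X.presheaf.map (homOfLE (inf_le_left : W' ⊓ U ≤ W')).op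
          (X.presheaf.map (homOfLE hle).op (sW W hW hWV)) =
          X.presheaf.map (homOfLE (inf_le_inf_right U hle)).op
            (X.presheaf.map (homOfLE (inf_le_left : W ⊓ U ≤ W)).op (sW W hW hWV)) := by
        change (X.presheaf.map _ ≫ X.presheaf.map _) _ = (X.presheaf.map _ ≫ X.presheaf.map _) _
        rw [← X.presheaf.map_comp, ← X.presheaf.map_comp]
        rfl
      rw [e1, hsW W hW hWV]
      change (X.presheaf.map _ ≫ X.presheaf.map _) t = _
      rw [← X.presheaf.map_comp]
      rfl)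
    refine ⟨s, ?_⟩
    let ι := {W : X.Opens // IsAffineOpen W ∧ W ≤ V}
    refine X.sheaf.eq_of_locally_eq' (fun i : ι => i.1 ⊓ U) V' (fun i => homOfLE (hWV' i.1 i.2.2))
      ?_ _ _ ?_
    · intro x hx
      obtain ⟨_, ⟨W, hW, rfl⟩, hxW, hWV⟩ :=
        X.isBasis_affineOpens.exists_subset_of_mem_open (hV' hx) V.isOpen
      exact Opens.mem_iSup.mpr ⟨⟨W, hW, hWV⟩, ⟨hxW, hV'U hx⟩⟩
    · rintro ⟨W, hW, hWV⟩
      change X.presheaf.map (homOfLE (hWV' W hWV)).op (X.presheaf.map (homOfLE hV').op s) =
        X.presheaf.map (homOfLE (hWV' W hWV)).op t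
      rw [← hsW W hW hWV, ← hs W hW hWV]
      change (X.presheaf.map _ ≫ X.presheaf.map _) s = (X.presheaf.map _ ≫ X.presheaf.map _) s
      rw [← X.presheaf.map_comp, ← X.presheaf.map_comp]
      rfl

end Depth

end Groth.Agent.Lib.Helper22.Hartogs
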