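import Mathlib
import Groth.Prelude.Def_Pi1
import Groth.Agent.Lib.Helper22Hartogs2
import Groth.Agent.Lib.Helper28FlatNormal

/-!
# Hartogs extension for flat algebras over an Artinian local ring with normal closed fibre (helper22)
-/

set_option autoImplicit false
set_option linter.style.haveILetI false
universe u

open AlgebraicGeometry CategoryTheory

namespace Groth.Agent.Lib.Helper22.ArtHartogs

section alg

variable {C : Type u} [CommRing C] [IsLocalRing C] [IsArtinianRing C]

theorem isNilpotent_of_mem_maximalIdeal {c : C} (hc : c ∈ IsLocalRing.maximalIdeal C) :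
    IsNilpotent c := by
  have h1 : IsNilpotent (Ideal.jacobson (⊥ : Ideal C)) := IsArtinianRing.isNilpotent_jacobson_bot
  rw [IsLocalRing.jacobson_eq_maximalIdeal ⊥ bot_ne_top] at h1
  obtain ⟨n, hn⟩ := h1
  refine ⟨n, ?_⟩
  have : c ^ n ∈ (IsLocalRing.maximalIdeal C) ^ n := Ideal.pow_mem_pow hc n
  rw [hn] at this
  exact this

variable {A : Type u} [CommRing A] [Algebra C A]

theorem map_maximalIdeal_le_of_isPrime (p : Ideal A) [hp : p.IsPrime] :
    (IsLocalRing.maximalIdeal C).map (algebraMap C A) ≤ p := by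
  rw [Ideal.map_le_iff_le_comap]
  intro c hc
  obtain ⟨n, hn⟩ := isNilpotent_of_mem_maximalIdeal hc
  rw [Ideal.mem_comap]
  apply hp.mem_of_pow_mem n
  rw [← map_pow, hn, map_zero]
  exact Ideal.zero_mem _

variable [IsNoetherianRing A] [Module.Flat C A]

set_option maxHeartbeats 1000000 in
theorem two_le_depth (I : Ideal A) (hI : I = (IsLocalRing.maximalIdeal C).map (algebraMap C A))
    (p : Ideal A) [p.IsPrime]
    (q : Ideal (A ⧸ I)) [q.IsPrime] (hpq : q.comap (Ideal.Quotient.mk I) = p)
    (hdom : IsDomain (Localization.AtPrime q)) (hic : IsIntegrallyClosed (Localization.AtPrime q))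
    (hht : 2 ≤ p.height) :
    (2 : ℕ∞) ≤ LocCoh.depth (Localization.AtPrime p) (Localization.AtPrime p) := by
  let B := Localization.AtPrime p
  haveI : IsScalarTower C A B := inferInstance
  haveI : Module.Flat C B := Module.Flat.trans C A B
  haveI : IsLocalHom (algebraMap C B) := by
    constructor
    intro c hc
    by_contra hcu
    have hcm : c ∈ IsLocalRing.maximalIdeal C := (IsLocalRing.mem_maximalIdeal c).mpr hcu
    obtain ⟨n, hn⟩ := isNilpotent_of_mem_maximalIdeal hcm
    have h0 : IsUnit ((algebraMap C B c) ^ n) := hc.pow n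
    rw [← map_pow, hn, map_zero] at h0
    exact not_isUnit_zero h0
  let J : Ideal B := I.map (algebraMap A B)
  have hJ : J = (IsLocalRing.maximalIdeal C).map (algebraMap C B) := by
    change Ideal.map (algebraMap A B) I = _
    rw [hI, Ideal.map_map, ← IsScalarTower.algebraMap_eq]
  have hM : Algebra.algebraMapSubmonoid (A ⧸ I) p.primeCompl = q.primeCompl := by
    ext y
    constructor
    · rintro ⟨x, hx, rfl⟩
      intro hx'
      apply hx
      rw [← hpq]
      exact hx'
    · intro hy
      obtain ⟨x, rfl⟩ := Ideal.Quotient.mk_surjective y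
      refine ⟨x, ?_, rfl⟩
      intro hx
      apply hy
      rw [← hpq] at hx
      exact hx
  have hloc : IsLocalization (Algebra.algebraMapSubmonoid (A ⧸ I) p.primeCompl) (B ⧸ J) :=
    inferInstance
  rw [hM] at hloc
  let e : Localization.AtPrime q ≃+* (B ⧸ J) :=
    (IsLocalization.algEquiv q.primeCompl (Localization.AtPrime q) (B ⧸ J)).toRingEquiv
  haveI : IsLocalRing (B ⧸ J) := e.isLocalRing
  haveI : IsDomain (B ⧸ J) := e.symm.toMulEquiv.isDomain (Localization.AtPrime q)
  haveI : IsIntegrallyClosed (B ⧸ J) := IsIntegrallyClosed.of_equiv e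
  have hdimC : ringKrullDim C = 0 :=
    (ringKrullDimZero_iff_ringKrullDim_eq_zero (R := C)).mp inferInstance
  have hdim : ringKrullDim B = ringKrullDim (B ⧸ J) + ringKrullDim C :=
    Groth.Agent.Lib.Helper28.ringKrullDim_eq_add_of_flat (R := C) (S := B) J hJ
  rw [hdimC, add_zero, IsLocalization.AtPrime.ringKrullDim_eq_height p B] at hdim
  have h2 : (2 : WithBot ℕ∞) ≤ ringKrullDim (B ⧸ J) := by
    rw [← hdim]
    exact WithBot.coe_le_coe.mpr hht
  have hd := Groth.Agent.Lib.Helper28.two_le_depth_of_isIntegrallyClosed_of_two_le_dim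
    (A := B ⧸ J) h2
  have hadd := Groth.Agent.Lib.Helper28.depth_eq_depth_add_depth_quotient_of_flat
    (R := C) (S := B) J hJ
  change (2 : ℕ∞) ≤ LocCoh.depth B B
  rw [hadd]
  exact hd.trans le_add_self

end alg

section main

variable (C : Type u) [CommRing C] [IsLocalRing C] [IsArtinianRing C] (A : Type u) [CommRing A]
  [IsNoetherianRing A] [Algebra C A] [Module.Flat C A]

set_option maxHeartbeats 1000000 in
theorem main
    (hnorm : Pi1.IsNormalScheme
      (Spec (CommRingCat.of (A ⧸ (IsLocalRing.maximalIdeal C).map (algebraMap C A)))))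
    (U : (Spec (CommRingCat.of A)).Opens)
    (hU : ∀ p : ↥(Spec (CommRingCat.of A)), p ∉ U → (2 : ℕ∞) ≤ p.asIdeal.height) :
    Function.Bijective ((Spec (CommRingCat.of A)).presheaf.map (homOfLE (le_top : U ≤ ⊤)).op) := by
  refine Hartogs.bijective_res_of_depth U ?_ ⊤ U le_top inf_le_right le_rfl
  intro x hx
  haveI hxp : x.asIdeal.IsPrime := x.isPrime
  have hIp : (IsLocalRing.maximalIdeal C).map (algebraMap C A) ≤ x.asIdeal :=
    map_maximalIdeal_le_of_isPrime x.asIdeal
  let q : Ideal (A ⧸ (IsLocalRing.maximalIdeal C).map (algebraMap C A)) :=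
    x.asIdeal.map (Ideal.Quotient.mk _)
  have hker : RingHom.ker (Ideal.Quotient.mk ((IsLocalRing.maximalIdeal C).map (algebraMap C A))) ≤
      x.asIdeal := by
    rw [Ideal.mk_ker]
    exact hIp
  haveI hq : q.IsPrime := Ideal.map_isPrime_of_surjective Ideal.Quotient.mk_surjective hker
  have hqc : q.comap (Ideal.Quotient.mk _) = x.asIdeal := by
    rw [Ideal.comap_map_of_surjective _ Ideal.Quotient.mk_surjective, ← RingHom.ker_eq_comap_bot,
      sup_eq_left]
    exact hker
  let y : ↥(Spec (CommRingCat.of (A ⧸ (IsLocalRing.maximalIdeal C).map (algebraMap C A)))) :=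
    ⟨q, hq⟩
  obtain ⟨hdom, hic⟩ := hnorm y
  letI ky : Algebra (CommRingCat.of (A ⧸ (IsLocalRing.maximalIdeal C).map (algebraMap C A)))
      ((Spec (CommRingCat.of (A ⧸ (IsLocalRing.maximalIdeal C).map (algebraMap C A)))).presheaf.stalk y) :=
    StructureSheaf.stalkAlgebra
      (CommRingCat.of (A ⧸ (IsLocalRing.maximalIdeal C).map (algebraMap C A))) y
  haveI : IsLocalization.AtPrime
      ((Spec (CommRingCat.of (A ⧸ (IsLocalRing.maximalIdeal C).map (algebraMap C A)))).presheaf.stalk y) q :=
    StructureSheaf.IsLocalization.to_stalk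
      (CommRingCat.of (A ⧸ (IsLocalRing.maximalIdeal C).map (algebraMap C A))) y
  let ey : ((Spec (CommRingCat.of (A ⧸ (IsLocalRing.maximalIdeal C).map (algebraMap C A)))).presheaf.stalk y)
      ≃+* Localization.AtPrime q :=
    (IsLocalization.algEquiv q.primeCompl _ _).toRingEquiv
  have hdom' : IsDomain (Localization.AtPrime q) := ey.symm.toMulEquiv.isDomain _
  have hic' : IsIntegrallyClosed (Localization.AtPrime q) := IsIntegrallyClosed.of_equiv ey
  have key := two_le_depth ((IsLocalRing.maximalIdeal C).map (algebraMap C A)) rfl x.asIdeal q hqc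
    hdom' hic' (hU x hx)
  letI kx : Algebra (CommRingCat.of A) ((Spec (CommRingCat.of A)).presheaf.stalk x) :=
    StructureSheaf.stalkAlgebra (CommRingCat.of A) x
  haveI : IsLocalization.AtPrime ((Spec (CommRingCat.of A)).presheaf.stalk x) x.asIdeal :=
    StructureSheaf.IsLocalization.to_stalk (CommRingCat.of A) x
  let ex : Localization.AtPrime x.asIdeal ≃+* (Spec (CommRingCat.of A)).presheaf.stalk x :=
    (IsLocalization.algEquiv x.asIdeal.primeCompl _ _).toRingEquiv
  rw [← Groth.Agent.Lib.Helper28.depth_self_eq_of_ringEquiv ex]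
  exact key

end main

end Groth.Agent.Lib.Helper22.ArtHartogs
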