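import Mathlib.CategoryTheory.Monoidal.Cartesian.Grp

/-!
# Helper22: trivial bundles `X ⊗ G` in a cartesian monoidal category

Abstract (Yoneda-style) computations with equivariant endomorphisms of `X ⊗ G` over `X`.
-/

set_option autoImplicit false

open CategoryTheory MonoidalCategory CartesianMonoidalCategory MonObj GrpObj

namespace Groth.Agent.Lib.Helper22

variable {C : Type*} [Category C] [CartesianMonoidalCategory C]

/-- precomposition distributes over the "constant one" morphism. -/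
theorem comp_one' {T T' : C} {G : C} [GrpObj G] (x : T' ⟶ T) : x ≫ (1 : T ⟶ G) = 1 :=
  MonObj.comp_one x

/-- An endomorphism of `X ⊗ G` over `X`, equivariant for right multiplication, is left
multiplication by `φ = (id, 1) ≫ Φ ≫ snd`. -/
theorem equivariant_endo_eq {X G : C} [GrpObj G] (Φ : X ⊗ G ⟶ X ⊗ G) (h₁ : Φ ≫ fst X G = fst X G)
    (h₂ : ∀ (T : C) (x : T ⟶ X) (g h : T ⟶ G),
      lift x (g * h) ≫ Φ ≫ snd X G = (lift x g ≫ Φ ≫ snd X G) * h)
    (T : C) (x : T ⟶ X) (g : T ⟶ G) :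
    lift x g ≫ Φ = lift x ((x ≫ (lift (𝟙 X) 1 ≫ Φ ≫ snd X G)) * g) := by
  apply CartesianMonoidalCategory.hom_ext
  · rw [Category.assoc, h₁, lift_fst, lift_fst]
  · rw [Category.assoc, lift_snd]
    have := h₂ T x 1 g
    rw [_root_.one_mul] at this
    rw [this]
    congr 1
    rw [← Category.assoc, ← Category.assoc, comp_lift, Category.comp_id, MonObj.comp_one,
      Category.assoc]

/-- The endomorphism `(x, g) ↦ (ρ x, ψ(x) * g)` on points. -/
theorem lift_comp_lift_fst_mul {X Y G : C} [GrpObj G] (ρ : X ⟶ Y) (ψ : X ⟶ G)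
    (T : C) (x : T ⟶ X) (g : T ⟶ G) :
    lift x g ≫ lift (fst X G ≫ ρ) ((fst X G ≫ ψ) * snd X G) = lift (x ≫ ρ) ((x ≫ ψ) * g) := by
  rw [comp_lift, MonObj.comp_mul, ← Category.assoc, ← Category.assoc, lift_fst, lift_snd]

/-- A morphism out of `X ⊗ G` is determined by its values on generalized points. -/
theorem hom_ext_points {X G Z : C} (Φ Ψ : X ⊗ G ⟶ Z)
    (h : ∀ (T : C) (x : T ⟶ X) (g : T ⟶ G), lift x g ≫ Φ = lift x g ≫ Ψ) : Φ = Ψ := by
  have := h (X ⊗ G) (fst X G) (snd X G)
  rwa [lift_fst_snd, Category.id_comp, Category.id_comp] at this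

end Groth.Agent.Lib.Helper22
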