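import Mathlib

/-!
# Common complements (helper22)

Two subspaces of the same dimension in a finite-dimensional vector space (over an arbitrary field)
admit a common complement.
-/

namespace Groth.Agent.Lib.Helper22.CommonCompl

open Module

variable {k E : Type*} [Field k] [AddCommGroup E] [Module k E]

theorem exists_notMem_of_ne_top {X Y : Submodule k E} (hX : X ≠ ⊤) (hY : Y ≠ ⊤) :
    ∃ u, u ∉ X ∧ u ∉ Y := by
  obtain ⟨x, hx⟩ : ∃ x, x ∉ X := by
    by_contra hc; push Not at hc; exact hX (eq_top_iff.mpr fun x _ => hc x)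
  obtain ⟨y, hy⟩ : ∃ y, y ∉ Y := by
    by_contra hc; push Not at hc; exact hY (eq_top_iff.mpr fun x _ => hc x)
  by_cases hxY : x ∈ Y
  · by_cases hyX : y ∈ X
    · refine ⟨x + y, fun h => hx ?_, fun h => hy ?_⟩
      · simpa using X.sub_mem h hyX
      · simpa using Y.sub_mem h hxY
    · exact ⟨y, hyX, hy⟩
  · exact ⟨x, hx, hxY⟩

theorem isCompl_sup_span_of_isCompl {Z U' : Submodule k E} {u : E} (hZ : u ∉ Z)
    (hc : IsCompl (Z ⊔ k ∙ u) U') : IsCompl Z (U' ⊔ k ∙ u) := by
  constructor
  · rw [Submodule.disjoint_def]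
    intro z hz hz'
    obtain ⟨u', hu', w, hw, rfl⟩ := Submodule.mem_sup.mp hz'
    obtain ⟨c, rfl⟩ := Submodule.mem_span_singleton.mp hw
    have h1 : u' ∈ Z ⊔ k ∙ u := by
      have : u' = (u' + c • u) - c • u := by abel
      rw [this]
      exact Submodule.sub_mem _ (Submodule.mem_sup_left hz)
        (Submodule.mem_sup_right (Submodule.smul_mem _ _ (Submodule.mem_span_singleton_self u)))
    have h2 : u' = 0 := by
      have := hc.disjoint
      rw [Submodule.disjoint_def] at this
      exact this u' h1 hu'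
    subst h2
    rw [zero_add] at hz ⊢
    by_cases hc0 : c = 0
    · rw [hc0, zero_smul]
    · exfalso; apply hZ
      have := Z.smul_mem c⁻¹ hz
      rwa [smul_smul, inv_mul_cancel₀ hc0, one_smul] at this
  · rw [codisjoint_iff]
    have := hc.sup_eq_top
    rw [← this, sup_comm U', ← sup_assoc]

theorem finrank_sup_span_singleton [FiniteDimensional k E] {Z : Submodule k E} {u : E}
    (hZ : u ∉ Z) : finrank k ↥(Z ⊔ k ∙ u) = finrank k Z + 1 := by
  have hu0 : u ≠ 0 := fun h => hZ (h ▸ Z.zero_mem)
  have hdis : Disjoint Z (k ∙ u) := (Submodule.disjoint_span_singleton' hu0).mpr hZ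
  have := Submodule.finrank_sup_add_finrank_inf_eq Z (k ∙ u)
  rw [hdis.eq_bot, finrank_bot, finrank_span_singleton hu0] at this
  omega

theorem exists_common_compl_aux [FiniteDimensional k E] :
    ∀ (n : ℕ) (X Y : Submodule k E), finrank k X = finrank k Y →
      finrank k X + n = finrank k E → ∃ U : Submodule k E, IsCompl X U ∧ IsCompl Y U := by
  intro n
  induction n with
  | zero =>
    intro X Y hXY hX
    have hXt : X = ⊤ := Submodule.eq_top_of_finrank_eq (by omega)
    have hYt : Y = ⊤ := Submodule.eq_top_of_finrank_eq (by omega)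
    exact ⟨⊥, hXt ▸ isCompl_top_bot, hYt ▸ isCompl_top_bot⟩
  | succ n ih =>
    intro X Y hXY hX
    have hXne : X ≠ ⊤ := by
      intro h; rw [h, finrank_top] at hX; omega
    have hYne : Y ≠ ⊤ := by
      intro h; rw [h, finrank_top] at hXY; omega
    obtain ⟨u, huX, huY⟩ := exists_notMem_of_ne_top hXne hYne
    obtain ⟨U', hXU', hYU'⟩ := ih (X ⊔ k ∙ u) (Y ⊔ k ∙ u)
      (by rw [finrank_sup_span_singleton huX, finrank_sup_span_singleton huY, hXY])
      (by rw [finrank_sup_span_singleton huX]; omega)
    exact ⟨U' ⊔ k ∙ u, isCompl_sup_span_of_isCompl huX hXU', isCompl_sup_span_of_isCompl huY hYU'⟩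

/-- Two subspaces of the same dimension have a common complement. -/
theorem exists_common_compl [FiniteDimensional k E] (X Y : Submodule k E)
    (h : finrank k X = finrank k Y) : ∃ U : Submodule k E, IsCompl X U ∧ IsCompl Y U := by
  have hle : finrank k X ≤ finrank k E := Submodule.finrank_le X
  exact exists_common_compl_aux (finrank k E - finrank k X) X Y h (by omega)

end Groth.Agent.Lib.Helper22.CommonCompl
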