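/-
helper28: abstract module theory for the Raynaud–Gruson/Bosch finiteness theorem over
restricted power series rings (pure algebra; the Weierstrass input is axiomatized through
`Good` elements and the hypothesis `hH`).
-/
import Mathlib

set_option autoImplicit false

namespace Groth.Agent.Lib.Helper28.TateMod

universe u v

variable {A : Type u} [CommRing A]

/-- `τ`-torsion-free modules. -/
def TF (τ : A) (X : Type v) [AddCommGroup X] [Module A X] : Prop :=
  ∀ x : X, τ • x = 0 → x = 0

section basics

variable {τ : A} {X : Type v} [AddCommGroup X] [Module A X]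

theorem TF.pow (hX : TF τ X) (k : ℕ) (x : X) (h : τ ^ k • x = 0) : x = 0 := by
  induction k with
  | zero => simpa using h
  | succ k ih =>
    apply ih
    apply hX
    rw [← mul_smul, ← pow_succ']
    exact h

theorem TF.of_dvd (hX : TF τ X) {γ : A} {k : ℕ} (hγ : γ ∣ τ ^ k) (x : X) (h : γ • x = 0) :
    x = 0 := by
  obtain ⟨δ, hδ⟩ := hγ
  apply hX.pow k
  rw [hδ, mul_comm, mul_smul, h, smul_zero]

theorem TF.submodule (hX : TF τ X) (N : Submodule A X) : TF τ N := by
  intro x hx
  apply Subtype.ext
  apply hX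
  have := congrArg Subtype.val hx
  simpa using this

theorem TF.of_injective {Y : Type*} [AddCommGroup Y] [Module A Y] (hX : TF τ X)
    (f : Y →ₗ[A] X) (hf : Function.Injective f) : TF τ Y := by
  intro y hy
  apply hf
  rw [map_zero]
  apply hX
  rw [← map_smul, hy, map_zero]

/-- The `τ`-saturation of a submodule. -/
def sat (τ : A) (N : Submodule A X) : Submodule A X where
  carrier := {x | ∃ k : ℕ, τ ^ k • x ∈ N}
  add_mem' := by
    rintro x y ⟨k, hk⟩ ⟨l, hl⟩
    refine ⟨k + l, ?_⟩
    rw [smul_add]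
    apply N.add_mem
    · rw [pow_add, mul_comm, mul_smul]
      exact N.smul_mem _ hk
    · rw [pow_add, mul_smul]
      exact N.smul_mem _ hl
  zero_mem' := ⟨0, by simp⟩
  smul_mem' := by
    rintro a x ⟨k, hk⟩
    refine ⟨k, ?_⟩
    rw [smul_comm]
    exact N.smul_mem _ hk

theorem mem_sat {N : Submodule A X} {x : X} : x ∈ sat τ N ↔ ∃ k : ℕ, τ ^ k • x ∈ N := Iff.rfl

theorem le_sat (N : Submodule A X) : N ≤ sat τ N := fun x hx => ⟨0, by simpa using hx⟩

theorem tf_quot_sat (N : Submodule A X) : TF τ (X ⧸ sat τ N) := by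
  intro x hx
  obtain ⟨x, rfl⟩ := Submodule.Quotient.mk_surjective _ x
  rw [← Submodule.Quotient.mk_smul, Submodule.Quotient.mk_eq_zero] at hx
  rw [Submodule.Quotient.mk_eq_zero]
  obtain ⟨k, hk⟩ := hx
  refine ⟨k + 1, ?_⟩
  rw [pow_succ, mul_smul]
  exact hk

theorem exists_pow_smul_mem_of_fg_sat (N : Submodule A X) (h : (sat τ N).FG) :
    ∃ k : ℕ, ∀ x ∈ sat τ N, τ ^ k • x ∈ N := by
  obtain ⟨s, hs⟩ := h
  have h1 : ∀ x ∈ s, ∃ k : ℕ, τ ^ k • x ∈ N := by
    intro x hx
    have : x ∈ sat τ N := by
      rw [← hs]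
      exact Submodule.subset_span hx
    exact this
  choose! k hk using h1
  refine ⟨s.sup k, ?_⟩
  intro x hx
  rw [← hs] at hx
  refine Submodule.span_induction ?_ ?_ ?_ ?_ hx
  · intro y hy
    have hle : k y ≤ s.sup k := Finset.le_sup hy
    obtain ⟨d, hd⟩ := Nat.exists_eq_add_of_le hle
    rw [hd, pow_add, mul_comm, mul_smul]
    exact N.smul_mem _ (hk y hy)
  · simp
  · intro y z _ _ hy hz
    rw [smul_add]
    exact N.add_mem hy hz
  · intro a y _ hy
    rw [smul_comm]
    exact N.smul_mem _ hy

end basics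

section main

variable (τ : A) (Good : A → Prop) (Sc : Set A)

/-- The standing hypotheses on `(A, τ, Good, Sc)`. -/
structure Hyp : Prop where
  sc_dvd : ∀ γ ∈ Sc, ∃ k : ℕ, γ ∣ τ ^ k
  total : ∀ γ ∈ Sc, ∀ γ' ∈ Sc, γ ∣ γ' ∨ γ' ∣ γ
  tf : TF τ A
  sep : ∀ a : A, (∀ k : ℕ, τ ^ k ∣ a) → a = 0
  dec : ∀ f : A, f ≠ 0 → ∃ γ ∈ Sc, ∃ g, Good g ∧ f = γ * g
  reg : ∀ g, Good g → ∀ b, τ ∣ g * b → τ ∣ b
  fp : ∀ g, Good g → ∀ (X : Type u) [AddCommGroup X] [Module A X], Module.Finite A X →
    TF τ X → (∀ x : X, g • x = 0) → Module.FinitePresentation A X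

variable {τ Good Sc}

theorem Hyp.good_regular (H : Hyp τ Good Sc) {g : A} (hg : Good g) (b : A) (h : g * b = 0) :
    b = 0 := by
  apply H.sep
  intro k
  suffices h' : ∃ c, b = τ ^ k * c ∧ g * c = 0 by
    obtain ⟨c, hc, -⟩ := h'
    exact ⟨c, hc⟩
  induction k with
  | zero => exact ⟨b, by simp, h⟩
  | succ k ih =>
    obtain ⟨c, hc, hgc⟩ := ih
    obtain ⟨c', hc'⟩ := H.reg g hg c (by rw [hgc]; exact dvd_zero _)
    refine ⟨c', by rw [hc, hc', pow_succ, mul_assoc], ?_⟩
    apply H.tf
    rw [smul_eq_mul, mul_left_comm, ← hc', hgc]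

theorem exists_min_dvd (H : Hyp τ Good Sc) (s : Finset A) (hs : s.Nonempty) (hsc : ∀ γ ∈ s, γ ∈ Sc) :
    ∃ γ₀ ∈ s, ∀ γ ∈ s, γ₀ ∣ γ := by
  classical
  induction s using Finset.induction_on with
  | empty => exact absurd hs (by simp)
  | insert a s ha ih =>
    by_cases hs' : s.Nonempty
    · obtain ⟨γ₀, hγ₀, h0⟩ := ih hs' (fun γ hγ => hsc γ (Finset.mem_insert_of_mem hγ))
      rcases H.total a (hsc a (Finset.mem_insert_self a s)) γ₀
        (hsc γ₀ (Finset.mem_insert_of_mem hγ₀)) with h | h
      · refine ⟨a, Finset.mem_insert_self a s, ?_⟩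
        intro γ hγ
        rcases Finset.mem_insert.mp hγ with rfl | hγ
        · exact dvd_rfl
        · exact h.trans (h0 γ hγ)
      · refine ⟨γ₀, Finset.mem_insert_of_mem hγ₀, ?_⟩
        intro γ hγ
        rcases Finset.mem_insert.mp hγ with rfl | hγ
        · exact h
        · exact h0 γ hγ
    · rw [Finset.not_nonempty_iff_eq_empty] at hs'
      subst hs'
      exact ⟨a, by simp, by simp⟩

/-- f.g. ideals containing a good element are finitely presented. -/
theorem Hyp.fp_ideal_of_good_mem (H : Hyp τ Good Sc) (J : Ideal A) (hJ : J.FG) {g : A}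
    (hg : Good g) (hgJ : g ∈ J) : Module.FinitePresentation A J := by
  have hfin : Module.Finite A J := Module.Finite.iff_fg.mpr hJ
  let g' : J := ⟨g, hgJ⟩
  let K : Submodule A J := Submodule.span A {g'}
  -- the quotient is finitely presented
  have hQtf : TF τ (J ⧸ K) := by
    intro y hy
    obtain ⟨y, rfl⟩ := Submodule.Quotient.mk_surjective _ y
    rw [← Submodule.Quotient.mk_smul, Submodule.Quotient.mk_eq_zero] at hy
    rw [Submodule.Quotient.mk_eq_zero]
    obtain ⟨b, hb⟩ := Submodule.mem_span_singleton.mp hy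
    have hb' : b * g = τ * (y : A) := by
      have := congrArg Subtype.val hb
      simpa [g'] using this
    obtain ⟨b', hb'2⟩ := H.reg g hg b ⟨(y : A), by rw [mul_comm, hb']⟩
    apply Submodule.mem_span_singleton.mpr
    refine ⟨b', ?_⟩
    apply Subtype.ext
    have h0 : b' * g - (y : A) = 0 := by
      apply H.tf
      rw [smul_eq_mul, mul_sub, ← hb', hb'2]
      ring
    simp only [g', Submodule.coe_smul, smul_eq_mul]
    exact sub_eq_zero.mp h0
  have hQkill : ∀ y : J ⧸ K, g • y = 0 := by
    intro y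
    obtain ⟨y, rfl⟩ := Submodule.Quotient.mk_surjective _ y
    rw [← Submodule.Quotient.mk_smul, Submodule.Quotient.mk_eq_zero]
    apply Submodule.mem_span_singleton.mpr
    refine ⟨(y : A), ?_⟩
    apply Subtype.ext
    simp [g', mul_comm]
  have hQ : Module.FinitePresentation A (J ⧸ K) :=
    H.fp g hg (J ⧸ K) inferInstance hQtf hQkill
  -- the kernel is free of rank one
  let e0 : A →ₗ[A] K := (LinearMap.toSpanSingleton A J g').codRestrict K (by
    intro a
    exact Submodule.mem_span_singleton.mpr ⟨a, rfl⟩)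
  have he0 : Function.Bijective e0 := by
    constructor
    · rw [← LinearMap.ker_eq_bot, LinearMap.ker_eq_bot']
      intro a ha
      have h1 : a • g' = 0 := by
        have := congrArg Subtype.val ha
        simpa [e0] using this
      have h2 : a * g = 0 := by
        have := congrArg Subtype.val h1
        simpa [g'] using this
      exact H.good_regular hg a (by rw [mul_comm]; exact h2)
    · rintro ⟨y, hy⟩
      obtain ⟨a, rfl⟩ := Submodule.mem_span_singleton.mp hy
      exact ⟨a, Subtype.ext rfl⟩
  have hK : Module.FinitePresentation A K :=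
    Module.FinitePresentation.of_equiv (LinearEquiv.ofBijective e0 he0)
  have hker : Module.FinitePresentation A (LinearMap.ker K.mkQ) :=
    Module.FinitePresentation.of_equiv (LinearEquiv.ofEq K _ (Submodule.ker_mkQ K).symm)
  exact Module.finitePresentation_of_ker K.mkQ (Submodule.mkQ_surjective K)

/-- f.g. ideals are finitely presented. -/
theorem Hyp.fp_ideal (H : Hyp τ Good Sc) (J : Ideal A) (hJ : J.FG) :
    Module.FinitePresentation A J := by
  classical
  by_cases hbot : J = ⊥
  · subst hbot
    infer_instance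
  obtain ⟨s, hs⟩ := hJ
  -- decompose the nonzero generators
  have hdec : ∀ f : A, f ≠ 0 → ∃ γ g, γ ∈ Sc ∧ Good g ∧ f = γ * g := by
    intro f hf
    obtain ⟨γ, hγ, g, hg, h⟩ := H.dec f hf
    exact ⟨γ, g, hγ, hg, h⟩
  choose! γf gf hγf hgf hfeq using hdec
  let s' : Finset A := s.filter (· ≠ 0)
  have hs'ne : s'.Nonempty := by
    by_contra hcon
    rw [Finset.not_nonempty_iff_eq_empty] at hcon
    apply hbot
    rw [← hs, Submodule.span_eq_bot]
    intro x hx
    by_contra hx0
    have : x ∈ s' := Finset.mem_filter.mpr ⟨hx, hx0⟩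
    rw [hcon] at this
    simp at this
  obtain ⟨γ₀, hγ₀, hmin⟩ := exists_min_dvd H (s'.image γf) (hs'ne.image _) (by
    intro γ hγ
    obtain ⟨f, hf, rfl⟩ := Finset.mem_image.mp hγ
    exact hγf f (Finset.mem_filter.mp hf).2)
  obtain ⟨f₀, hf₀, rfl⟩ := Finset.mem_image.mp hγ₀
  have hf₀' := Finset.mem_filter.mp hf₀
  set γ := γf f₀ with hγdef
  have hγSc : γ ∈ Sc := hγf f₀ hf₀'.2
  have hdvd : ∀ a ∈ J, γ ∣ a := by
    intro a ha
    rw [← hs] at ha
    refine Submodule.span_induction ?_ ?_ ?_ ?_ ha
    · intro f hf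
      by_cases hf0 : f = 0
      · rw [hf0]; exact dvd_zero _
      · have h1 : γ ∣ γf f := hmin _ (Finset.mem_image_of_mem _ (Finset.mem_filter.mpr ⟨hf, hf0⟩))
        rw [hfeq f hf0]
        exact h1.mul_right _
    · exact dvd_zero _
    · intro x y _ _ hx hy
      exact dvd_add hx hy
    · intro a x _ hx
      rw [smul_eq_mul]
      exact hx.mul_left _
  -- the ideal `J' = (J : γ)`
  let m : A →ₗ[A] A := LinearMap.lsmul A A γ
  let J' : Ideal A := Submodule.comap m J
  have hJ'mem : ∀ a, a ∈ J' ↔ γ * a ∈ J := by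
    intro a
    simp [J', m]
  let μ : J' →ₗ[A] J := m.restrict (p := J') (q := J) (fun a ha => ha)
  have hμ : Function.Bijective μ := by
    constructor
    · rw [← LinearMap.ker_eq_bot, LinearMap.ker_eq_bot']
      rintro ⟨a, ha⟩ h
      apply Subtype.ext
      have h1 : γ * a = 0 := by
        have := congrArg Subtype.val h
        simpa [μ, m] using this
      obtain ⟨k, hk⟩ := H.sc_dvd γ hγSc
      exact H.tf.of_dvd hk a (by rw [smul_eq_mul]; exact h1)
    · rintro ⟨a, ha⟩
      obtain ⟨a', rfl⟩ := hdvd a ha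
      exact ⟨⟨a', (hJ'mem a').mpr ha⟩, Subtype.ext (by simp [μ, m])⟩
  let e : J' ≃ₗ[A] J := LinearEquiv.ofBijective μ hμ
  have hJfin : Module.Finite A J := Module.Finite.iff_fg.mpr ⟨s, hs⟩
  have hJ'fin : Module.Finite A J' := Module.Finite.equiv e.symm
  have hJ'fg : J'.FG := Module.Finite.iff_fg.mp hJ'fin
  have hgJ' : gf f₀ ∈ J' := by
    rw [hJ'mem, ← hfeq f₀ hf₀'.2, ← hs]
    exact Submodule.subset_span hf₀'.1
  have := H.fp_ideal_of_good_mem J' hJ'fg (hgf f₀ hf₀'.2) hgJ'
  exact Module.FinitePresentation.of_equiv e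

/-- f.g. submodules of cyclic submodules of torsion-free modules are finitely presented. -/
theorem Hyp.fp_of_le_span_singleton (H : Hyp τ Good Sc) {X : Type u} [AddCommGroup X] [Module A X]
    (hX : TF τ X) (x : X) (Y : Submodule A X) (hY : Y ≤ Submodule.span A {x}) (hfg : Y.FG) :
    Module.FinitePresentation A Y := by
  have hYfin : Module.Finite A Y := Module.Finite.iff_fg.mpr hfg
  by_cases hcase : ∃ g, Good g ∧ g • x = 0
  · obtain ⟨g, hg, hgx⟩ := hcase
    refine H.fp g hg Y hYfin (hX.submodule Y) ?_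
    rintro ⟨y, hy⟩
    apply Subtype.ext
    obtain ⟨a, rfl⟩ := Submodule.mem_span_singleton.mp (hY hy)
    simp only [Submodule.coe_smul, Submodule.coe_zero]
    rw [smul_comm, hgx, smul_zero]
  · push Not at hcase
    have hann : ∀ a : A, a • x = 0 → a = 0 := by
      intro a ha
      by_contra ha0
      obtain ⟨γ, hγ, g, hg, rfl⟩ := H.dec a ha0
      obtain ⟨k, hk⟩ := H.sc_dvd γ hγ
      apply hcase g hg
      apply hX.of_dvd hk
      rw [← mul_smul]
      exact ha
    let ι : A →ₗ[A] X := LinearMap.toSpanSingleton A X x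
    have hι : Function.Injective ι := by
      rw [← LinearMap.ker_eq_bot, LinearMap.ker_eq_bot']
      intro a ha
      exact hann a (by simpa [ι] using ha)
    let J : Ideal A := Submodule.comap ι Y
    let μ : J →ₗ[A] Y := ι.restrict (p := J) (q := Y) (fun a ha => ha)
    have hμ : Function.Bijective μ := by
      constructor
      · intro a b hab
        apply Subtype.ext
        apply hι
        have := congrArg Subtype.val hab
        simpa [μ] using this
      · rintro ⟨y, hy⟩
        obtain ⟨a, rfl⟩ := Submodule.mem_span_singleton.mp (hY hy)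
        exact ⟨⟨a, by simpa [J, ι] using hy⟩, Subtype.ext (by simp [μ, ι])⟩
    let e : J ≃ₗ[A] Y := LinearEquiv.ofBijective μ hμ
    have hJfin : Module.Finite A J := Module.Finite.equiv e.symm
    have := H.fp_ideal J (Module.Finite.iff_fg.mp hJfin)
    exact Module.FinitePresentation.of_equiv e

theorem Hyp.fp_of_tf_aux (H : Hyp τ Good Sc) (n : ℕ) :
    ∀ (X : Type u) [AddCommGroup X] [Module A X], TF τ X →
      ∀ v : Fin n → X, Submodule.span A (Set.range v) = ⊤ → Module.FinitePresentation A X := by
  induction n with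
  | zero =>
    intro X _ _ _ v hv
    have : Subsingleton X := by
      rw [← Submodule.subsingleton_iff A, ← subsingleton_iff_bot_eq_top, ← hv]
      simp
    infer_instance
  | succ n ih =>
    intro X _ _ hX v hv
    classical
    have hXfin : Module.Finite A X := ⟨⟨Finset.univ.image v, by simpa using hv⟩⟩
    set x := v 0 with hx
    let L : Submodule A X := sat τ (Submodule.span A {x})
    have hQ : Module.FinitePresentation A (X ⧸ L) := by
      refine ih (X ⧸ L) (tf_quot_sat _) (fun i => L.mkQ (v i.succ)) ?_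
      rw [eq_top_iff]
      rintro y -
      obtain ⟨y, rfl⟩ := Submodule.Quotient.mk_surjective _ y
      have hy : y ∈ Submodule.span A (Set.range v) := by rw [hv]; trivial
      refine Submodule.span_induction ?_ ?_ ?_ ?_ hy
      · rintro _ ⟨i, rfl⟩
        refine Fin.cases ?_ ?_ i
        · have : Submodule.Quotient.mk (v 0) = (0 : X ⧸ L) := by
            rw [Submodule.Quotient.mk_eq_zero]
            exact le_sat _ (Submodule.mem_span_singleton_self _)
          rw [this]
          exact Submodule.zero_mem _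
        · intro j
          exact Submodule.subset_span ⟨j, rfl⟩
      · exact Submodule.zero_mem _
      · intro a b _ _ ha hb
        rw [Submodule.Quotient.mk_add]
        exact Submodule.add_mem _ ha hb
      · intro a b _ hb
        rw [Submodule.Quotient.mk_smul]
        exact Submodule.smul_mem _ _ hb
    have hLfg : L.FG := by
      have := Module.FinitePresentation.fg_ker L.mkQ (Submodule.mkQ_surjective L)
      rwa [Submodule.ker_mkQ] at this
    obtain ⟨k, hk⟩ := exists_pow_smul_mem_of_fg_sat _ hLfg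
    let μ : L →ₗ[A] X := (τ ^ k) • L.subtype
    have hμinj : Function.Injective μ := by
      rw [← LinearMap.ker_eq_bot, LinearMap.ker_eq_bot']
      rintro ⟨l, hl⟩ h
      apply Subtype.ext
      apply hX.pow k
      simpa [μ] using h
    let Y : Submodule A X := LinearMap.range μ
    have hYle : Y ≤ Submodule.span A {x} := by
      rintro _ ⟨⟨l, hl⟩, rfl⟩
      simpa [μ] using hk l hl
    have hLfin : Module.Finite A L := Module.Finite.iff_fg.mpr hLfg
    have hYfg : Y.FG := by
      have : Y = Submodule.map μ ⊤ := by simp [Y]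
      rw [this]
      exact (Module.Finite.fg_top (R := A) (M := L)).map μ
    have hYfp := H.fp_of_le_span_singleton hX x Y hYle hYfg
    have hLfp : Module.FinitePresentation A L :=
      Module.FinitePresentation.of_equiv (LinearEquiv.ofInjective μ hμinj).symm
    have hker : Module.FinitePresentation A (LinearMap.ker L.mkQ) :=
      Module.FinitePresentation.of_equiv (LinearEquiv.ofEq L _ (Submodule.ker_mkQ L).symm)
    exact Module.finitePresentation_of_ker L.mkQ (Submodule.mkQ_surjective L)

/-- Main abstract theorem: finite `τ`-torsion-free modules are finitely presented. -/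
theorem Hyp.fp_of_tf (H : Hyp τ Good Sc) (X : Type u) [AddCommGroup X] [Module A X]
    [Module.Finite A X] (hX : TF τ X) : Module.FinitePresentation A X := by
  obtain ⟨n, v, hv⟩ := Module.Finite.exists_fin (R := A) (M := X)
  exact H.fp_of_tf_aux n X hX v hv

end main

end Groth.Agent.Lib.Helper28.TateMod
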