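/-
helper28: elementary facts on the adic completion of a ring at a principal ideal.
-/
import Mathlib

set_option autoImplicit false

namespace Groth.Agent.Lib.Helper28.TateCompl

variable {P : Type*} [CommRing P] (J : Ideal P) (τ : P)

theorem mem_ker_eval_iff (hJ : J = Ideal.span {τ}) (k : ℕ) (x : AdicCompletion J P) :
    AdicCompletion.eval J P k x = 0 ↔
      ∃ a' : AdicCompletion J P, x = algebraMap P (AdicCompletion J P) τ ^ k * a' := by
  have hfg : J.FG := by rw [hJ]; exact ⟨{τ}, by simp⟩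
  rw [← LinearMap.mem_ker, ← AdicCompletion.pow_smul_top_eq_ker_eval hfg]
  have h1 : J ^ k = Ideal.span {τ ^ k} := by rw [hJ, Ideal.span_singleton_pow]
  rw [h1, Submodule.ideal_span_singleton_smul, Submodule.mem_smul_pointwise_iff_exists]
  constructor
  · rintro ⟨b, -, rfl⟩
    exact ⟨b, by rw [Algebra.smul_def, map_pow]⟩
  · rintro ⟨a', rfl⟩
    exact ⟨a', trivial, by rw [Algebra.smul_def, map_pow]⟩

theorem exists_approx (hJ : J = Ideal.span {τ}) (x : AdicCompletion J P) (k : ℕ) :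
    ∃ (y : P) (a' : AdicCompletion J P),
      x = algebraMap P (AdicCompletion J P) y + algebraMap P (AdicCompletion J P) τ ^ k * a' := by
  obtain ⟨y, hy⟩ := Submodule.Quotient.mk_surjective _ (AdicCompletion.eval J P k x)
  have h1 : AdicCompletion.eval J P k (x - AdicCompletion.of J P y) = 0 := by
    rw [map_sub, AdicCompletion.eval_of, Submodule.mkQ_apply, hy, sub_self]
  obtain ⟨a', ha'⟩ := (mem_ker_eval_iff J τ hJ k _).mp h1
  refine ⟨y, a', ?_⟩
  rw [← ha', AdicCompletion.algebraMap_apply, Algebra.algebraMap_self_apply]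
  ring

theorem dvd_of_algebraMap_eq (hJ : J = Ideal.span {τ}) (y : P) (k : ℕ) (a' : AdicCompletion J P)
    (h : algebraMap P (AdicCompletion J P) y = algebraMap P (AdicCompletion J P) τ ^ k * a') :
    τ ^ k ∣ y := by
  have h1 : AdicCompletion.eval J P k (algebraMap P (AdicCompletion J P) y) = 0 :=
    (mem_ker_eval_iff J τ hJ k _).mpr ⟨a', h⟩
  rw [AdicCompletion.algebraMap_apply, Algebra.algebraMap_self_apply, AdicCompletion.eval_of,
    Submodule.mkQ_apply, Submodule.Quotient.mk_eq_zero] at h1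
  have h2 : J ^ k = Ideal.span {τ ^ k} := by rw [hJ, Ideal.span_singleton_pow]
  rw [smul_eq_mul, Ideal.mul_top, h2, Ideal.mem_span_singleton] at h1
  exact h1

theorem eq_zero_of_forall_dvd (hJ : J = Ideal.span {τ}) (x : AdicCompletion J P)
    (h : ∀ k : ℕ, algebraMap P (AdicCompletion J P) τ ^ k ∣ x) : x = 0 := by
  apply AdicCompletion.ext
  intro k
  obtain ⟨a', ha'⟩ := h k
  have := (mem_ker_eval_iff J τ hJ k x).mpr ⟨a', ha'⟩
  rw [AdicCompletion.eval_apply] at this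
  rw [this]
  rfl


section

variable {R : Type*} [CommRing R] {P Q : Type*} [CommRing P] [CommRing Q] [Algebra R P] [Algebra R Q]

theorem factor_evalₐ (J : Ideal P) {m n : ℕ} (hle : m ≤ n) (x : AdicCompletion J P) :
    Ideal.Quotient.factor (Ideal.pow_le_pow_right hle) (AdicCompletion.evalₐ J n x) =
      AdicCompletion.evalₐ J m x := by
  induction x using AdicCompletion.induction_on with
  | _ a =>
    rw [AdicCompletion.evalₐ_mk, AdicCompletion.evalₐ_mk, Ideal.Quotient.factor_mk]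
    exact AdicCompletion.Ideal.mk_eq_mk J hle a

/-- the level maps -/
noncomputable def levelMap (JP : Ideal P) (JQ : Ideal Q) (φ0 : P →ₐ[R] Q)
    (hφ : JP.map φ0 ≤ JQ) (k : ℕ) : AdicCompletion JP P →ₐ[R] Q ⧸ JQ ^ k :=
  (Ideal.quotientMapₐ (JQ ^ k) φ0 (by
    rw [← Ideal.map_le_iff_le_comap, Ideal.map_pow]
    exact Ideal.pow_right_mono hφ k)).comp ((AdicCompletion.evalₐ JP k).restrictScalars R)

theorem levelMap_apply (JP : Ideal P) (JQ : Ideal Q) (φ0 : P →ₐ[R] Q)
    (hφ : JP.map φ0 ≤ JQ) (k : ℕ) (x : AdicCompletion JP P) (y : P)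
    (hy : AdicCompletion.evalₐ JP k x = Ideal.Quotient.mk _ y) :
    levelMap JP JQ φ0 hφ k x = Ideal.Quotient.mk _ (φ0 y) := by
  simp only [levelMap, AlgHom.comp_apply, AlgHom.restrictScalars_apply, hy]
  rfl

theorem levelMap_compat (JP : Ideal P) (JQ : Ideal Q) (φ0 : P →ₐ[R] Q)
    (hφ : JP.map φ0 ≤ JQ) {m n : ℕ} (hle : m ≤ n) :
    (Ideal.Quotient.factorₐ R (Ideal.pow_le_pow_right hle)).comp (levelMap JP JQ φ0 hφ n) =
      levelMap JP JQ φ0 hφ m := by
  ext x
  obtain ⟨y, hy⟩ := Ideal.Quotient.mk_surjective (AdicCompletion.evalₐ JP n x)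
  have hy' : AdicCompletion.evalₐ JP m x = Ideal.Quotient.mk _ y := by
    rw [← factor_evalₐ JP hle x, ← hy, Ideal.Quotient.factor_mk]
  rw [AlgHom.comp_apply, levelMap_apply JP JQ φ0 hφ n x y hy.symm,
    levelMap_apply JP JQ φ0 hφ m x y hy']
  rfl

/-- The map induced on adic completions by an algebra homomorphism. -/
noncomputable def complMap (JP : Ideal P) (JQ : Ideal Q) (φ0 : P →ₐ[R] Q)
    (hφ : JP.map φ0 ≤ JQ) : AdicCompletion JP P →ₐ[R] AdicCompletion JQ Q :=
  AdicCompletion.liftAlgHom JQ (levelMap JP JQ φ0 hφ) (fun hle => levelMap_compat JP JQ φ0 hφ hle)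

theorem evalₐ_complMap (JP : Ideal P) (JQ : Ideal Q) (φ0 : P →ₐ[R] Q)
    (hφ : JP.map φ0 ≤ JQ) (k : ℕ) (x : AdicCompletion JP P) :
    AdicCompletion.evalₐ JQ k (complMap JP JQ φ0 hφ x) = levelMap JP JQ φ0 hφ k x :=
  AdicCompletion.evalₐ_liftAlgHom JQ (levelMap JP JQ φ0 hφ)
    (fun hle => levelMap_compat JP JQ φ0 hφ hle) k x

theorem complMap_of (JP : Ideal P) (JQ : Ideal Q) (φ0 : P →ₐ[R] Q)
    (hφ : JP.map φ0 ≤ JQ) (y : P) :
    complMap JP JQ φ0 hφ (algebraMap P (AdicCompletion JP P) y) =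
      algebraMap Q (AdicCompletion JQ Q) (φ0 y) := by
  apply AdicCompletion.ext_evalₐ
  intro k
  rw [evalₐ_complMap]
  rw [levelMap_apply JP JQ φ0 hφ k _ y (by
    rw [AdicCompletion.algebraMap_apply, Algebra.algebraMap_self_apply, AdicCompletion.evalₐ_of])]
  rw [AdicCompletion.algebraMap_apply, Algebra.algebraMap_self_apply, AdicCompletion.evalₐ_of]


end


section

variable {R : Type*} [CommRing R]

theorem smodEq_span_singleton_pow_iff {M : Type*} [AddCommGroup M] [Module R M] (t : R) (k : ℕ)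
    (x y : M) :
    x ≡ y [SMOD (Ideal.span {t} ^ k • ⊤ : Submodule R M)] ↔ ∃ z : M, x - y = t ^ k • z := by
  rw [SModEq.sub_mem, Ideal.span_singleton_pow, Submodule.ideal_span_singleton_smul,
    Submodule.mem_smul_pointwise_iff_exists]
  constructor
  · rintro ⟨z, -, hz⟩
    exact ⟨z, hz.symm⟩
  · rintro ⟨z, hz⟩
    exact ⟨z, trivial, hz.symm⟩

theorem isPrecomplete_prod {M N : Type*} [AddCommGroup M] [Module R M] [AddCommGroup N]
    [Module R N] (t : R) [IsPrecomplete (Ideal.span {t}) M] [IsPrecomplete (Ideal.span {t}) N] :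
    IsPrecomplete (Ideal.span {t}) (M × N) := by
  refine ⟨fun f hf => ?_⟩
  have h1 : ∀ {m n : ℕ}, m ≤ n →
      (f m).1 ≡ (f n).1 [SMOD (Ideal.span {t} ^ m • ⊤ : Submodule R M)] := by
    intro m n hmn
    obtain ⟨z, hz⟩ := (smodEq_span_singleton_pow_iff t m _ _).mp (hf hmn)
    exact (smodEq_span_singleton_pow_iff t m _ _).mpr ⟨z.1, by simpa using congrArg Prod.fst hz⟩
  have h2 : ∀ {m n : ℕ}, m ≤ n →
      (f m).2 ≡ (f n).2 [SMOD (Ideal.span {t} ^ m • ⊤ : Submodule R N)] := by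
    intro m n hmn
    obtain ⟨z, hz⟩ := (smodEq_span_singleton_pow_iff t m _ _).mp (hf hmn)
    exact (smodEq_span_singleton_pow_iff t m _ _).mpr ⟨z.2, by simpa using congrArg Prod.snd hz⟩
  obtain ⟨L1, hL1⟩ := IsPrecomplete.prec ‹IsPrecomplete (Ideal.span {t}) M› h1
  obtain ⟨L2, hL2⟩ := IsPrecomplete.prec ‹IsPrecomplete (Ideal.span {t}) N› h2
  refine ⟨(L1, L2), fun n => ?_⟩
  obtain ⟨z1, hz1⟩ := (smodEq_span_singleton_pow_iff t n _ _).mp (hL1 n)
  obtain ⟨z2, hz2⟩ := (smodEq_span_singleton_pow_iff t n _ _).mp (hL2 n)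
  exact (smodEq_span_singleton_pow_iff t n _ _).mpr ⟨(z1, z2), by
    ext <;> simp [hz1, hz2]⟩

theorem isPrecomplete_pi {ι : Type*} (M : ι → Type*) [∀ i, AddCommGroup (M i)]
    [∀ i, Module R (M i)] (t : R) [∀ i, IsPrecomplete (Ideal.span {t}) (M i)] :
    IsPrecomplete (Ideal.span {t}) (∀ i, M i) := by
  refine ⟨fun f hf => ?_⟩
  have h1 : ∀ i, ∀ {m n : ℕ}, m ≤ n →
      (f m i) ≡ (f n i) [SMOD (Ideal.span {t} ^ m • ⊤ : Submodule R (M i))] := by
    intro i m n hmn
    obtain ⟨z, hz⟩ := (smodEq_span_singleton_pow_iff t m _ _).mp (hf hmn)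
    exact (smodEq_span_singleton_pow_iff t m _ _).mpr ⟨z i, by simpa using congrFun hz i⟩
  have h2 : ∀ i, ∃ L : M i, ∀ n, f n i ≡ L [SMOD (Ideal.span {t} ^ n • ⊤ : Submodule R (M i))] :=
    fun i => IsPrecomplete.prec (inferInstance : IsPrecomplete (Ideal.span {t}) (M i)) (h1 i)
  choose L hL using h2
  refine ⟨L, fun n => ?_⟩
  have h3 : ∀ i, ∃ z : M i, f n i - L i = t ^ n • z :=
    fun i => (smodEq_span_singleton_pow_iff t n _ _).mp (hL i n)
  choose z hz using h3
  exact (smodEq_span_singleton_pow_iff t n _ _).mpr ⟨z, by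
    ext i; simp [hz i]⟩


end

end Groth.Agent.Lib.Helper28.TateCompl
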