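/-
helper28: polynomial-level Weierstrass division after a triangular substitution
(over arbitrary commutative rings, for polynomials whose nonzero coefficients are units),
and regularity of such polynomials modulo nilpotents (via McCoy).
-/
import Mathlib

set_option autoImplicit false

namespace Groth.Agent.Lib.Helper28.TatePoly

open MvPolynomial

variable {R : Type*} [CommRing R] {n : ℕ}

/-- The triangular substitution `X_0 ↦ X_0`, `X_i ↦ X_i + c X_0^(up^i)`. -/
noncomputable def T1 (up : ℕ) (c : R) :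
    MvPolynomial (Fin (n + 1)) R →ₐ[R] MvPolynomial (Fin (n + 1)) R :=
  aeval fun i => if i = 0 then X 0 else X i + c • X 0 ^ (up ^ (i : ℕ))

theorem T1_comp_T1_neg (up : ℕ) (c : R) :
    (T1 (n := n) up c).comp (T1 up (-c)) = AlgHom.id _ _ := by
  unfold T1
  rw [comp_aeval, ← MvPolynomial.aeval_X_left]
  ext i v
  cases i using Fin.cases <;> simp

theorem T1_T1_neg (up : ℕ) (c : R) (y : MvPolynomial (Fin (n + 1)) R) :
    T1 up c (T1 up (-c) y) = y := by
  have := congrArg (fun f => f y) (T1_comp_T1_neg (n := n) up c)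
  simpa using this

theorem T1_neg_T1 (up : ℕ) (c : R) (y : MvPolynomial (Fin (n + 1)) R) :
    T1 up (-c) (T1 up c y) = y := by
  have := T1_T1_neg (n := n) up (-c) y
  simpa using this

theorem T1_X_zero (up : ℕ) (c : R) : T1 (n := n) up c (X 0) = X 0 := by
  simp [T1]

/-- the monic polynomial attached to an exponent vector -/
noncomputable def Mv (up : ℕ) (v : Fin (n + 1) →₀ ℕ) : Polynomial (MvPolynomial (Fin n) R) :=
  Polynomial.X ^ (v 0) *
    ∏ i : Fin n, (Polynomial.X ^ (up ^ ((i.succ : Fin (n + 1)) : ℕ)) + Polynomial.C (X i)) ^ (v i.succ)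

theorem finSuccEquiv_T1_monomial (up : ℕ) (v : Fin (n + 1) →₀ ℕ) (a : R) :
    finSuccEquiv R n (T1 up 1 (monomial v a)) = Polynomial.C (C a) * Mv up v := by
  rw [monomial_eq, Finsupp.prod_pow v fun a ↦ X a]
  simp only [T1, Mv, Fin.prod_univ_succ, map_mul, map_prod, map_pow,
    MvPolynomial.aeval_C, MvPolynomial.aeval_X, if_pos, Fin.succ_ne_zero,
    ite_false, one_smul, map_add, finSuccEquiv_X_zero, finSuccEquiv_X_succ, algebraMap_eq]
  congr 1
  · simp [finSuccEquiv_apply]
  · congr 1
    apply Finset.prod_congr rfl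
    intro i _
    rw [add_comm]

/-- the weight of an exponent vector -/
def wt (up : ℕ) (v : Fin (n + 1) →₀ ℕ) : ℕ := ∑ i : Fin (n + 1), up ^ (i : ℕ) * v i

theorem Mv_monic [Nontrivial R] (up : ℕ) (hup : 0 < up) (v : Fin (n + 1) →₀ ℕ) :
    (Mv (R := R) up v).Monic := by
  unfold Mv
  apply Polynomial.Monic.mul (Polynomial.monic_X_pow _)
  apply Polynomial.monic_prod_of_monic
  intro i _
  apply Polynomial.Monic.pow
  exact Polynomial.monic_X_pow_add_C _ (pow_pos hup _).ne'

theorem Mv_natDegree [Nontrivial R] (up : ℕ) (hup : 0 < up) (v : Fin (n + 1) →₀ ℕ) :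
    (Mv (R := R) up v).natDegree = wt up v := by
  unfold Mv wt
  have hm : ∀ i : Fin n, (Polynomial.X ^ (up ^ ((i.succ : Fin (n + 1)) : ℕ)) +
      Polynomial.C (X i : MvPolynomial (Fin n) R)).Monic :=
    fun i => Polynomial.monic_X_pow_add_C _ (pow_pos hup _).ne'
  rw [Polynomial.Monic.natDegree_mul (Polynomial.monic_X_pow _)
    (Polynomial.monic_prod_of_monic _ _ (fun i _ => (hm i).pow _)),
    Polynomial.natDegree_X_pow, Polynomial.natDegree_prod_of_monic _ _ (fun i _ => (hm i).pow _),
    Fin.sum_univ_succ]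
  simp only [Fin.val_zero, pow_zero, one_mul]
  congr 1
  apply Finset.sum_congr rfl
  intro i _
  rw [(hm i).natDegree_pow, Polynomial.natDegree_X_pow_add_C, mul_comm]

theorem wt_injOn (up : ℕ) (hup : 2 ≤ up) (v w : Fin (n + 1) →₀ ℕ) (hv : ∀ i, v i < up)
    (hw : ∀ i, w i < up) (h : wt up v = wt up w) : v = w := by
  refine Finsupp.ext <| congrFun <| List.ofFn_inj.mp ?_
  apply Nat.ofDigits_inj_of_len_eq (b := up) (by omega) (by simp)
    (by intro l hl; rw [List.mem_ofFn] at hl; obtain ⟨i, rfl⟩ := hl; exact hv i)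
    (by intro l hl; rw [List.mem_ofFn] at hl; obtain ⟨i, rfl⟩ := hl; exact hw i)
  unfold wt at h
  simpa only [Nat.ofDigits_eq_sum_mapIdx, List.mapIdx_eq_ofFn, List.get_ofFn, List.length_ofFn,
    Fin.val_cast, mul_comm, List.sum_ofFn] using! h

theorem finSuccEquiv_T1_eq_sum (up : ℕ) (p : MvPolynomial (Fin (n + 1)) R) :
    finSuccEquiv R n (T1 up 1 p) =
      ∑ v ∈ p.support, Polynomial.C (C (coeff v p)) * Mv up v := by
  conv_lhs => rw [← support_sum_monomial_coeff p]
  rw [map_sum, map_sum]
  apply Finset.sum_congr rfl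
  intro v _
  exact finSuccEquiv_T1_monomial up v _

theorem exists_coeff_unit [Nontrivial R] (p : MvPolynomial (Fin (n + 1)) R) (hp : p ≠ 0)
    (hus : ∀ v, coeff v p = 0 ∨ IsUnit (coeff v p)) :
    ∃ d : ℕ, (finSuccEquiv R n (T1 (2 + p.totalDegree) 1 p)).natDegree ≤ d ∧
      IsUnit ((finSuccEquiv R n (T1 (2 + p.totalDegree) 1 p)).coeff d) := by
  classical
  set up := 2 + p.totalDegree with hupdef
  have hup : 0 < up := by omega
  obtain ⟨vs, hvs, hmax⟩ := Finset.exists_max_image p.support (wt up) (support_nonempty.mpr hp)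
  have hlt : ∀ v ∈ p.support, ∀ i, v i < up := by
    intro v hv i
    exact lt_of_le_of_lt ((monomial_le_degreeOf i hv).trans (degreeOf_le_totalDegree p i))
      (by omega)
  refine ⟨wt up vs, ?_, ?_⟩
  · rw [finSuccEquiv_T1_eq_sum]
    apply Polynomial.natDegree_sum_le_of_forall_le
    intro v hv
    refine (Polynomial.natDegree_C_mul_le _ _).trans ?_
    rw [Mv_natDegree up hup]
    exact hmax v hv
  · rw [finSuccEquiv_T1_eq_sum, Polynomial.finsetSum_coeff]
    rw [Finset.sum_eq_single vs]
    · rw [Polynomial.coeff_C_mul]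
      have h1 : (Mv (R := R) up vs).coeff (wt up vs) = 1 := by
        have := (Mv_monic (R := R) up hup vs).coeff_natDegree
        rwa [Mv_natDegree up hup] at this
      rw [h1, mul_one]
      rcases hus vs with h | h
      · exact absurd h (mem_support_iff.mp hvs)
      · exact h.map C
    · intro v hv hne
      rw [Polynomial.coeff_C_mul]
      have h1 : (Mv (R := R) up v).coeff (wt up vs) = 0 := by
        apply Polynomial.coeff_eq_zero_of_natDegree_lt
        rw [Mv_natDegree up hup]
        apply lt_of_le_of_ne (hmax v hv)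
        intro heq
        exact hne (wt_injOn up (by omega) v vs (hlt v hv) (hlt vs hvs) heq)
      rw [h1, mul_zero]
    · intro h
      exact absurd hvs h

/-- Division by a polynomial with unit coefficient in top degree. -/
theorem exists_div_of_coeff_unit {S : Type*} [CommRing S] (F : Polynomial S) (d : ℕ)
    (hd : F.natDegree ≤ d) (hu : IsUnit (F.coeff d)) (y : Polynomial S) :
    ∃ (q : Polynomial S) (r : ℕ → S),
      y = q * F + ∑ i ∈ Finset.range d, Polynomial.C (r i) * Polynomial.X ^ i := by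
  rcases subsingleton_or_nontrivial S with hS | hS
  · exact ⟨0, fun _ => 0, Subsingleton.elim _ _⟩
  obtain ⟨u, hu⟩ := hu
  set G : Polynomial S := Polynomial.C (↑u⁻¹ : S) * F with hG
  have hGm : G.Monic := by
    apply Polynomial.monic_of_natDegree_le_of_coeff_eq_one d
    · exact (Polynomial.natDegree_C_mul_le _ _).trans hd
    · rw [hG, Polynomial.coeff_C_mul, ← hu]
      simp
  have hGd : G.natDegree ≤ d := (Polynomial.natDegree_C_mul_le _ _).trans hd
  refine ⟨(y /ₘ G) * Polynomial.C (↑u⁻¹ : S), fun i => (y %ₘ G).coeff i, ?_⟩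
  have h1 : y %ₘ G = ∑ i ∈ Finset.range d, Polynomial.C ((y %ₘ G).coeff i) * Polynomial.X ^ i := by
    ext j
    rw [Polynomial.finsetSum_coeff]
    simp only [Polynomial.coeff_C_mul_X_pow]
    by_cases hj : j < d
    · rw [Finset.sum_eq_single j]
      · simp
      · intro b _ hb
        rw [if_neg (Ne.symm hb)]
      · intro h
        exact absurd (Finset.mem_range.mpr hj) h
    · rw [Finset.sum_eq_zero]
      · apply Polynomial.coeff_eq_zero_of_degree_lt
        refine lt_of_lt_of_le (Polynomial.degree_modByMonic_lt y hGm) ?_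
        refine (Polynomial.degree_le_natDegree).trans ?_
        exact_mod_cast hGd.trans (not_lt.mp hj)
      · intro b hb
        rw [if_neg]
        intro hjb
        rw [hjb] at hj
        exact hj (Finset.mem_range.mp hb)
  rw [← h1]
  have h2 := Polynomial.modByMonic_add_div y G
  calc y = y %ₘ G + G * (y /ₘ G) := h2.symm
    _ = (y /ₘ G) * Polynomial.C (↑u⁻¹ : S) * F + y %ₘ G := by rw [hG]; ring

/-- the substitution `X_i ↦ X_{i+1} - X_0^(up^(i+1))` -/
noncomputable def φ0 (up : ℕ) : MvPolynomial (Fin n) R →ₐ[R] MvPolynomial (Fin (n + 1)) R :=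
  (T1 up (-1)).comp (rename Fin.succ)

theorem finSuccEquiv_rename_succ (r : MvPolynomial (Fin n) R) :
    finSuccEquiv R n (rename Fin.succ r) = Polynomial.C r := by
  have h : ((finSuccEquiv R n).toAlgHom.comp (rename Fin.succ)) =
      (Polynomial.CAlgHom (R := R) (A := MvPolynomial (Fin n) R)) := by
    apply MvPolynomial.algHom_ext
    intro i
    simp [finSuccEquiv_X_succ]
  exact congrArg (fun f => f r) h

/-- Polynomial Weierstrass division after the triangular substitution. -/
theorem exists_division (p : MvPolynomial (Fin (n + 1)) R) (hp : p ≠ 0)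
    (hus : ∀ v, coeff v p = 0 ∨ IsUnit (coeff v p)) :
    ∃ d : ℕ, ∀ y : MvPolynomial (Fin (n + 1)) R,
      ∃ (r : ℕ → MvPolynomial (Fin n) R) (q : MvPolynomial (Fin (n + 1)) R),
        y = ∑ i ∈ Finset.range d, φ0 (2 + p.totalDegree) (r i) * X 0 ^ i + q * p := by
  have hnt : Nontrivial R := by
    by_contra h
    rw [not_nontrivial_iff_subsingleton] at h
    exact hp (Subsingleton.elim _ _)
  obtain ⟨d, hd, hu⟩ := exists_coeff_unit p hp hus
  refine ⟨d, ?_⟩
  intro y
  set up := 2 + p.totalDegree with hup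
  obtain ⟨q1, r, hqr⟩ := exists_div_of_coeff_unit _ d hd hu (finSuccEquiv R n (T1 up 1 y))
  refine ⟨r, T1 up (-1) ((finSuccEquiv R n).symm q1), ?_⟩
  have hinj : Function.Injective (fun z => finSuccEquiv R n (T1 up 1 z)) := by
    intro a b hab
    have h1 : T1 up 1 a = T1 up 1 b := (finSuccEquiv R n).injective hab
    have h2 := congrArg (T1 up (-1)) h1
    rwa [T1_neg_T1, T1_neg_T1] at h2
  apply hinj
  simp only
  rw [hqr]
  simp only [map_add, map_sum, map_mul, map_pow, T1_X_zero, finSuccEquiv_X_zero]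
  have h3 : ∀ i, finSuccEquiv R n (T1 up 1 (φ0 up (r i))) = Polynomial.C (r i) := by
    intro i
    have : T1 up 1 (φ0 up (r i)) = rename Fin.succ (r i) := by
      simp only [φ0, AlgHom.comp_apply]
      exact T1_T1_neg up 1 _
    rw [this, finSuccEquiv_rename_succ]
  have h4 : T1 up 1 (T1 up (-1) ((finSuccEquiv R n).symm q1)) = (finSuccEquiv R n).symm q1 :=
    T1_T1_neg up 1 _
  simp only [h3, h4, AlgEquiv.apply_symm_apply]
  ring


/-- regularity over a ring where `c` is nilpotent -/
theorem eq_zero_of_mul_eq_zero_of_nilpotent (p0 p1 b : MvPolynomial (Fin (n + 1)) R) (c : R)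
    (hc : IsNilpotent c) (hp : p0 ≠ 0) (hus : ∀ v, coeff v p0 = 0 ∨ IsUnit (coeff v p0))
    (h : (p0 + C c * p1) * b = 0) : b = 0 := by
  have hnt : Nontrivial R := by
    by_contra h
    rw [not_nontrivial_iff_subsingleton] at h
    exact hp (Subsingleton.elim _ _)
  obtain ⟨d, hd, hu⟩ := exists_coeff_unit p0 hp hus
  set up := 2 + p0.totalDegree with hup
  set e : MvPolynomial (Fin (n + 1)) R → Polynomial (MvPolynomial (Fin n) R) :=
    fun z => finSuccEquiv R n (T1 up 1 z) with he
  have hinj : ∀ z, e z = 0 → z = 0 := by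
    intro z hz
    have h1 : T1 up 1 z = 0 := by
      have := (finSuccEquiv R n).injective (a₁ := T1 up 1 z) (a₂ := 0) (by simpa [he] using hz)
      exact this
    have h2 := congrArg (T1 up (-1)) h1
    rwa [T1_neg_T1, map_zero] at h2
  apply hinj
  by_contra hb
  have h1 : e (p0 + C c * p1) * e b = 0 := by
    simp only [he]
    rw [← map_mul, ← map_mul, h, map_zero, map_zero]
  have h2 : e (p0 + C c * p1) ∉ nonZeroDivisors (Polynomial (MvPolynomial (Fin n) R)) := by
    intro hmem
    exact hb ((mem_nonZeroDivisors_iff.mp hmem).1 _ h1)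
  obtain ⟨a, ha0, ha⟩ := Polynomial.notMem_nonZeroDivisors_iff.mp h2
  apply ha0
  have h3 := congrArg (fun P => P.coeff d) ha
  simp only [Polynomial.coeff_smul, Polynomial.coeff_zero, smul_eq_mul] at h3
  have h4 : e (p0 + C c * p1) = e p0 + Polynomial.C (C c) * e p1 := by
    simp only [he, map_add, map_mul]
    congr 2
    simp [T1, finSuccEquiv_apply]
  rw [h4, Polynomial.coeff_add, Polynomial.coeff_C_mul] at h3
  have h5 : IsUnit ((e p0).coeff d + C c * (e p1).coeff d) := by
    have hnil : IsNilpotent (C c * (e p1).coeff d : MvPolynomial (Fin n) R) :=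
      (Commute.all _ _).isNilpotent_mul_right (hc.map C)
    exact hnil.isUnit_add_left_of_commute hu (Commute.all _ _)
  exact (IsUnit.mul_left_eq_zero h5).mp h3

theorem mem_ker_map_iff (I : Ideal R) (σ : Type*) (b : MvPolynomial σ R) :
    b ∈ I.map (C : R →+* MvPolynomial σ R) ↔ MvPolynomial.map (Ideal.Quotient.mk I) b = 0 := by
  have h := MvPolynomial.ker_map (σ := σ) (Ideal.Quotient.mk I)
  rw [Ideal.mk_ker] at h
  rw [← h, RingHom.mem_ker]

/-- regularity modulo an ideal `I` for "good" polynomials -/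
theorem mem_map_C_of_mul_mem (I : Ideal R) (hI : I ≠ ⊤) (c : R) (hc : ∃ N : ℕ, c ^ N ∈ I)
    (p0 p1 b : MvPolynomial (Fin (n + 1)) R) (hp : ∃ v, IsUnit (coeff v p0))
    (hus : ∀ v, coeff v p0 = 0 ∨ IsUnit (coeff v p0))
    (h : (p0 + C c * p1) * b ∈ I.map (C : R →+* MvPolynomial (Fin (n + 1)) R)) :
    b ∈ I.map (C : R →+* MvPolynomial (Fin (n + 1)) R) := by
  have hnt : Nontrivial (R ⧸ I) := Ideal.Quotient.nontrivial_iff.mpr hI
  rw [mem_ker_map_iff] at h ⊢
  set π := Ideal.Quotient.mk I
  rw [map_mul, map_add, map_mul, MvPolynomial.map_C] at h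
  refine eq_zero_of_mul_eq_zero_of_nilpotent (MvPolynomial.map π p0) (MvPolynomial.map π p1) _
    (π c) ?_ ?_ ?_ h
  · obtain ⟨N, hN⟩ := hc
    refine ⟨N, ?_⟩
    rw [← map_pow]
    exact Ideal.Quotient.eq_zero_iff_mem.mpr hN
  · obtain ⟨v, hv⟩ := hp
    intro h0
    have h1 : coeff v (MvPolynomial.map π p0) = 0 := by rw [h0]; simp
    rw [MvPolynomial.coeff_map] at h1
    exact (hv.map π).ne_zero h1
  · intro v
    rw [MvPolynomial.coeff_map]
    rcases hus v with h0 | h0
    · left; rw [h0, map_zero]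
    · right; exact h0.map π

end Groth.Agent.Lib.Helper28.TatePoly
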