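/-
helper28: restricted power series `RPow R (t) m` over a height-one valuation ring:
good elements, decomposition `f = c * good`, regularity of good elements.
-/
import Groth.Prelude.Def_W4bk4boschfrg79
import Groth.Agent.Lib.Helper28TatePoly
import Groth.Agent.Lib.Helper28TateCompl
import Groth.Agent.Lib.Helper17AdicFlat

set_option autoImplicit false

namespace Groth.Agent.Lib.Helper28.TateRPow

open MvPolynomial AdicRing

universe u

section val

variable {R : Type u} [CommRing R] [IsDomain R] [ValuationRing R]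

theorem exists_min_dvd (s : Finset R) (hs : s.Nonempty) : ∃ c ∈ s, ∀ x ∈ s, c ∣ x := by
  classical
  induction s using Finset.induction_on with
  | empty => exact absurd hs (by simp)
  | insert a s ha ih =>
    by_cases hs' : s.Nonempty
    · obtain ⟨c, hc, h0⟩ := ih hs'
      rcases ValuationRing.dvd_total a c with h | h
      · refine ⟨a, Finset.mem_insert_self a s, ?_⟩
        intro x hx
        rcases Finset.mem_insert.mp hx with rfl | hx
        · exact dvd_rfl
        · exact h.trans (h0 x hx)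
      · refine ⟨c, Finset.mem_insert_of_mem hc, ?_⟩
        intro x hx
        rcases Finset.mem_insert.mp hx with rfl | hx
        · exact h
        · exact h0 x hx
    · rw [Finset.not_nonempty_iff_eq_empty] at hs'
      subst hs'
      exact ⟨a, by simp, by simp⟩

theorem exists_dvd_pow_of_not_isUnit [Ring.KrullDimLE 1 R] (t : R) (ht : t ≠ 0) (c : R)
    (hc : ¬ IsUnit c) : ∃ N : ℕ, t ∣ c ^ N := by
  have h1 : c ∈ (Ideal.span {t}).radical := by
    rw [Ideal.radical_eq_sInf, Ideal.mem_sInf]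
    rintro p ⟨hp, hpp⟩
    have hpne : p ≠ ⊥ := by
      intro h
      rw [h] at hp
      exact ht (by simpa using hp (Ideal.mem_span_singleton_self t))
    have hmax : p.IsMaximal := hpp.isMaximal_of_ne_bot hpne
    rw [IsLocalRing.eq_maximalIdeal hmax]
    exact (IsLocalRing.mem_maximalIdeal c).mpr hc
  obtain ⟨N, hN⟩ := h1
  exact ⟨N, Ideal.mem_span_singleton.mp hN⟩

theorem exists_dvd_pow_of_ne_zero (t : R) [IsHausdorff (Ideal.span {t}) R] (a : R) (ha : a ≠ 0) :
    ∃ k : ℕ, a ∣ t ^ k := by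
  by_contra hcon
  push Not at hcon
  apply ha
  apply IsHausdorff.haus' (I := Ideal.span {t})
  intro k
  rw [SModEq.zero, Ideal.smul_eq_mul, Ideal.mul_top, Ideal.span_singleton_pow,
    Ideal.mem_span_singleton]
  exact (ValuationRing.dvd_total (t ^ k) a).resolve_right (hcon k)

end val

section defs

variable (R : Type u) [CommRing R] (t : R) (m : ℕ)

/-- The completed polynomial ring `R⟨ζ_1..ζ_m⟩` for the ideal `(t)`. -/
abbrev A : Type u := RPow R (Ideal.span {t}) m

/-- the canonical map from polynomials -/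
noncomputable abbrev ι : MvPolynomial (Fin m) R →+* A R t m := algebraMap _ _

theorem hJ : (Ideal.span {t}).map (C : R →+* MvPolynomial (Fin m) R) = Ideal.span {C t} := by
  rw [Ideal.map_span, Set.image_singleton]

theorem ι_C (c : R) : ι R t m (C c) = algebraMap R (A R t m) c := rfl

/-- "Good" elements: unit-supported polynomial plus a topologically nilpotent multiple. -/
def Good (g : A R t m) : Prop :=
  ∃ (p0 : MvPolynomial (Fin m) R) (c : R) (h : A R t m),
    (∃ v, IsUnit (coeff v p0)) ∧ (∀ v, coeff v p0 = 0 ∨ IsUnit (coeff v p0)) ∧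
    (∃ N : ℕ, t ∣ c ^ N) ∧ c ∣ t ∧ g = ι R t m p0 + algebraMap R (A R t m) c * h

/-- The scalars. -/
def Sc : Set (A R t m) := {γ | ∃ c : R, c ≠ 0 ∧ γ = algebraMap R (A R t m) c}

variable {R t m}

theorem exists_approx (x : A R t m) (k : ℕ) :
    ∃ (y : MvPolynomial (Fin m) R) (a' : A R t m),
      x = ι R t m y + algebraMap R (A R t m) t ^ k * a' :=
  TateCompl.exists_approx _ (C t) (hJ R t m) x k

theorem dvd_of_ι_eq (y : MvPolynomial (Fin m) R) (k : ℕ) (a' : A R t m)
    (h : ι R t m y = algebraMap R (A R t m) t ^ k * a') : C t ^ k ∣ y :=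
  TateCompl.dvd_of_algebraMap_eq _ (C t) (hJ R t m) y k a' h

theorem eq_zero_of_forall_dvd (x : A R t m)
    (h : ∀ k : ℕ, algebraMap R (A R t m) t ^ k ∣ x) : x = 0 :=
  TateCompl.eq_zero_of_forall_dvd _ (C t) (hJ R t m) x h

end defs

section dec

variable {R : Type u} [CommRing R] [IsDomain R] [ValuationRing R] [Ring.KrullDimLE 1 R]
  {t : R} {m : ℕ}

omit [ValuationRing R] [Ring.KrullDimLE 1 R] in
theorem coeff_unitPart (y1 : MvPolynomial (Fin m) R) [DecidablePred fun v => IsUnit (coeff v y1)]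
    (v : Fin m →₀ ℕ) :
    coeff v (∑ w ∈ y1.support.filter (fun w => IsUnit (coeff w y1)), monomial w (coeff w y1)) =
      if IsUnit (coeff v y1) then coeff v y1 else 0 := by
  classical
  rw [coeff_sum]
  simp only [coeff_monomial]
  by_cases hu : IsUnit (coeff v y1)
  · rw [if_pos hu, Finset.sum_eq_single v]
    · simp
    · intro w _ hw
      rw [if_neg hw]
    · intro h
      exfalso
      apply h
      rw [Finset.mem_filter, mem_support_iff]
      exact ⟨hu.ne_zero, hu⟩
  · rw [if_neg hu]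
    apply Finset.sum_eq_zero
    intro w hw
    rw [Finset.mem_filter] at hw
    rw [if_neg]
    rintro rfl
    exact hu hw.2

theorem exists_dec (ht : t ≠ 0) (f : A R t m) (hf : f ≠ 0) :
    ∃ c : R, c ≠ 0 ∧ ∃ g, Good R t m g ∧ f = algebraMap R (A R t m) c * g := by
  classical
  -- Step 1
  obtain ⟨k, hk⟩ : ∃ k : ℕ, ¬ algebraMap R (A R t m) t ^ k ∣ f := by
    by_contra h
    push Not at h
    exact hf (eq_zero_of_forall_dvd f h)
  -- Step 2
  obtain ⟨y, a', hya⟩ := exists_approx f k
  have hy : ¬ (C t : MvPolynomial (Fin m) R) ^ k ∣ y := by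
    rintro ⟨y', hy'⟩
    apply hk
    refine ⟨ι R t m y' + a', ?_⟩
    rw [hya, hy', map_mul, map_pow, ι_C]
    ring
  have hy0 : y ≠ 0 := by
    rintro rfl
    exact hy (dvd_zero _)
  -- Step 3
  obtain ⟨c, hc, hmin⟩ := exists_min_dvd (y.support.image (fun v => coeff v y))
    ((support_nonempty.mpr hy0).image _)
  obtain ⟨v0, hv0, rfl⟩ := Finset.mem_image.mp hc
  have hc0 : coeff v0 y ≠ 0 := mem_support_iff.mp hv0
  have hdvd : ∀ v, coeff v0 y ∣ coeff v y := by
    intro v
    by_cases hv : v ∈ y.support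
    · exact hmin _ (Finset.mem_image_of_mem _ hv)
    · rw [notMem_support_iff.mp hv]
      exact dvd_zero _
  obtain ⟨y1, hy1⟩ := (C_dvd_iff_dvd_coeff _ _).mpr hdvd
  have hy1v0 : coeff v0 y1 = 1 := by
    have h1 : coeff v0 y = coeff v0 y * coeff v0 y1 := by
      conv_lhs => rw [hy1, coeff_C_mul]
    exact (mul_right_cancel₀ hc0 (by rw [one_mul, mul_comm]; exact h1)).symm
  -- Step 4
  have hnd : ¬ t ^ k ∣ coeff v0 y := by
    intro h
    apply hy
    rw [hy1, ← map_pow]
    exact (map_dvd C h).mul_right _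
  obtain ⟨c', hc'⟩ := (ValuationRing.dvd_total (t ^ k) (coeff v0 y)).resolve_left hnd
  have hc'nu : ¬ IsUnit c' := by
    intro hu
    apply hnd
    obtain ⟨u, rfl⟩ := hu
    exact ⟨↑u⁻¹, by rw [hc']; simp [mul_assoc]⟩
  have hc'0 : c' ≠ 0 := by
    rintro rfl
    rw [mul_zero] at hc'
    exact ht (pow_eq_zero_iff (n := k) (by
      rintro rfl
      simp at hc') |>.mp hc')
  -- Step 5
  set s1 : Finset R := insert c' ((y1.support.filter (fun v => ¬ IsUnit (coeff v y1))).image
    (fun v => coeff v y1)) with hs1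
  obtain ⟨c1, hc1, hmin1⟩ := exists_min_dvd s1 (Finset.insert_nonempty _ _)
  have hc1nu : ¬ IsUnit c1 := by
    rcases Finset.mem_insert.mp hc1 with rfl | h
    · exact hc'nu
    · obtain ⟨v, hv, rfl⟩ := Finset.mem_image.mp h
      exact (Finset.mem_filter.mp hv).2
  obtain ⟨c3, hc3⟩ := hmin1 c' (Finset.mem_insert_self _ _)
  have hc10 : c1 ≠ 0 := by
    rintro rfl
    rw [zero_mul] at hc3
    exact hc'0 hc3
  set p0 : MvPolynomial (Fin m) R :=
    ∑ w ∈ y1.support.filter (fun w => IsUnit (coeff w y1)), monomial w (coeff w y1) with hp0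
  have hp0c : ∀ v, coeff v p0 = if IsUnit (coeff v y1) then coeff v y1 else 0 :=
    fun v => coeff_unitPart y1 v
  have hdvd1 : ∀ v, c1 ∣ coeff v (y1 - p0) := by
    intro v
    rw [coeff_sub, hp0c]
    by_cases hu : IsUnit (coeff v y1)
    · rw [if_pos hu, sub_self]
      exact dvd_zero _
    · rw [if_neg hu, sub_zero]
      by_cases hv : v ∈ y1.support
      · apply hmin1
        apply Finset.mem_insert_of_mem
        exact Finset.mem_image_of_mem _ (Finset.mem_filter.mpr ⟨hv, hu⟩)
      · rw [notMem_support_iff.mp hv]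
        exact dvd_zero _
  obtain ⟨p2, hp2⟩ := (C_dvd_iff_dvd_coeff _ _).mpr hdvd1
  have hy1' : y1 = p0 + C c1 * p2 := by rw [← hp2]; ring
  have hp0u : ∃ v, IsUnit (coeff v p0) := by
    refine ⟨v0, ?_⟩
    rw [hp0c, hy1v0]
    simp
  have hp0us : ∀ v, coeff v p0 = 0 ∨ IsUnit (coeff v p0) := by
    intro v
    rw [hp0c]
    by_cases hu : IsUnit (coeff v y1)
    · right; rw [if_pos hu]; exact hu
    · left; rw [if_neg hu]
  refine ⟨coeff v0 y, hc0, ι R t m p0 + algebraMap R (A R t m) c1 *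
    (ι R t m p2 + algebraMap R (A R t m) c3 * a'), ?_, ?_⟩
  · -- Step 6
    obtain ⟨N, hN⟩ := exists_dvd_pow_of_not_isUnit t ht c1 hc1nu
    rcases ValuationRing.dvd_total c1 t with h | h
    · exact ⟨p0, c1, _, hp0u, hp0us, ⟨N, hN⟩, h, rfl⟩
    · obtain ⟨e, he⟩ := h
      refine ⟨p0, t, algebraMap R (A R t m) e * (ι R t m p2 + algebraMap R (A R t m) c3 * a'),
        hp0u, hp0us, ⟨1, by simp⟩, dvd_rfl, ?_⟩
      rw [he, map_mul]
      ring
  · have e0 : y = C (coeff v0 y) * (p0 + C c1 * p2) := by rw [← hy1']; exact hy1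
    have e1 : ι R t m y = algebraMap R (A R t m) (coeff v0 y) *
        (ι R t m p0 + algebraMap R (A R t m) c1 * ι R t m p2) := by
      calc ι R t m y = ι R t m (C (coeff v0 y) * (p0 + C c1 * p2)) := congrArg _ e0
        _ = _ := by simp only [map_mul, map_add, ι_C]
    have e2 : algebraMap R (A R t m) t ^ k = algebraMap R (A R t m) (coeff v0 y) *
        (algebraMap R (A R t m) c1 * algebraMap R (A R t m) c3) := by
      rw [← map_pow, hc', hc3, map_mul, map_mul]
    rw [hya, e1, e2]
    ring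

end dec


section compl

variable (R : Type u) [CommRing R] (t : R) (m : ℕ)

instance isAdicComplete_R : IsAdicComplete (Ideal.span {t}) (A R t m) := by
  have hfg : ((Ideal.span {t}).map (C : R →+* MvPolynomial (Fin m) R)).FG := by
    rw [hJ]; exact ⟨{C t}, by simp⟩
  have h1 : IsAdicComplete ((Ideal.span {t}).map (C : R →+* MvPolynomial (Fin m) R)) (A R t m) :=
    AdicCompletion.isAdicComplete hfg
  exact (IsAdicComplete.map_algebraMap_iff (R := R) (S := MvPolynomial (Fin m) R)
    (Ideal.span {t}) (A R t m)).mp h1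

theorem isAdicComplete_self :
    IsAdicComplete (Ideal.span {algebraMap R (A R t m) t}) (A R t m) := by
  have h1 := isAdicComplete_R R t m
  have h2 := (IsAdicComplete.map_algebraMap_iff (R := R) (S := A R t m)
    (Ideal.span {t}) (A R t m)).mpr h1
  rwa [Ideal.map_span (algebraMap R (A R t m)) {t}, Set.image_singleton] at h2

end compl

section reg

variable {R : Type u} [CommRing R] {t : R}

theorem good_reg_succ {n : ℕ} (g : A R t (n + 1)) (hg : Good R t (n + 1) g)
    (b : A R t (n + 1)) (h : algebraMap R (A R t (n + 1)) t ∣ g * b) :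
    algebraMap R (A R t (n + 1)) t ∣ b := by
  by_cases htu : IsUnit t
  · exact (htu.map (algebraMap R (A R t (n + 1)))).dvd
  obtain ⟨p0, c, hh, hp0u, hp0us, ⟨N, hN⟩, hct, rfl⟩ := hg
  obtain ⟨z, hz⟩ := h
  obtain ⟨p1, h', hh'⟩ := exists_approx hh 1
  obtain ⟨b0, b', hb'⟩ := exists_approx b 1
  rw [pow_one] at hh' hb'
  set τ := algebraMap R (A R t (n + 1)) t with hτ
  set γ := algebraMap R (A R t (n + 1)) c with hγ
  have e1 : ι R t (n + 1) ((p0 + C c * p1) * b0) =
      τ ^ 1 * (z - (ι R t (n + 1) p0 + γ * hh) * b' - γ * h' * ι R t (n + 1) b0) := by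
    have e2 : (ι R t (n + 1) p0 + γ * hh) * (ι R t (n + 1) b0 + τ * b') = τ * z := by
      rw [← hb']; exact hz
    simp only [map_mul, map_add, ι_C, pow_one]
    rw [← hγ]
    have e3 : γ * hh = γ * ι R t (n + 1) p1 + γ * τ * h' := by rw [hh']; ring
    linear_combination e2 - (ι R t (n + 1) b0 + τ * b') * e3 + τ * b' * e3
  have h2 := dvd_of_ι_eq _ 1 _ e1
  rw [pow_one] at h2
  have h3 : (p0 + C c * p1) * b0 ∈ (Ideal.span {t}).map (C : R →+* MvPolynomial (Fin (n + 1)) R) := by
    rw [hJ]; exact Ideal.mem_span_singleton.mpr h2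
  have h4 := TatePoly.mem_map_C_of_mul_mem (Ideal.span {t})
    (by rw [Ne, Ideal.span_singleton_eq_top]; exact htu) c
    ⟨N, Ideal.mem_span_singleton.mpr hN⟩ p0 p1 b0 hp0u hp0us h3
  rw [hJ, Ideal.mem_span_singleton] at h4
  obtain ⟨b1, hb1⟩ := h4
  refine ⟨ι R t (n + 1) b1 + b', ?_⟩
  rw [hb', hb1, map_mul, ι_C]
  ring

theorem good_isUnit_zero (g : A R t 0) (hg : Good R t 0 g) : IsUnit g := by
  obtain ⟨p0, c, hh, ⟨v, hv⟩, -, ⟨N, hN⟩, -, rfl⟩ := hg
  have hv0 : v = 0 := Subsingleton.elim _ _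
  subst hv0
  have hp0 : p0 = C (coeff 0 p0) := MvPolynomial.eq_C_of_isEmpty p0
  set u := coeff 0 p0 with hu
  have hcomp := isAdicComplete_self R t 0
  have hjac : algebraMap R (A R t 0) c ∈ (⊥ : Ideal (A R t 0)).jacobson := by
    have h1 : algebraMap R (A R t 0) c ^ N ∈ (⊥ : Ideal (A R t 0)).jacobson := by
      apply IsAdicComplete.le_jacobson_bot (Ideal.span {algebraMap R (A R t 0) t})
      obtain ⟨e, he⟩ := hN
      rw [← map_pow, he, map_mul]
      exact Ideal.mul_mem_right _ _ (Ideal.mem_span_singleton_self _)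
    rw [Ideal.jacobson, Ideal.mem_sInf] at h1 ⊢
    intro M hM
    exact hM.2.isPrime.mem_of_pow_mem N (h1 hM)
  have hu' : IsUnit (ι R t 0 p0) := by
    rw [hp0]
    exact (hv.map C).map (ι R t 0)
  obtain ⟨w, hw⟩ := hu'
  have h2 := Ideal.mem_jacobson_bot.mp hjac (hh * ↑w⁻¹)
  have h3 : ι R t 0 p0 + algebraMap R (A R t 0) c * hh =
      (algebraMap R (A R t 0) c * (hh * ↑w⁻¹) + 1) * ↑w := by
    rw [add_mul, one_mul, mul_assoc, mul_assoc, Units.inv_mul, mul_one, ← hw]
    ring
  rw [h3]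
  exact h2.mul w.isUnit

end reg

end Groth.Agent.Lib.Helper28.TateRPow
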