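/-
helper28: Weierstrass division in restricted power series rings (adic-completion model).
-/
import Groth.Agent.Lib.Helper28TateRPow
import Groth.Agent.Lib.Helper28TateMod

set_option autoImplicit false

namespace Groth.Agent.Lib.Helper28.TateWD

open MvPolynomial AdicRing TateRPow

universe u

variable {R : Type u} [CommRing R] {t : R} {n : ℕ}

theorem map_φ0_le (up : ℕ) :
    ((Ideal.span {t}).map (C : R →+* MvPolynomial (Fin n) R)).map (TatePoly.φ0 (R := R) (n := n) up) ≤
      (Ideal.span {t}).map (C : R →+* MvPolynomial (Fin (n + 1)) R) := by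
  rw [Ideal.map_le_iff_le_comap, Ideal.map_le_iff_le_comap, Ideal.span_le]
  rintro x hx
  rw [Set.mem_singleton_iff] at hx
  subst hx
  simp only [SetLike.mem_coe, Ideal.mem_comap]
  have h1 : (TatePoly.φ0 (R := R) (n := n) up) (C x) = C x :=
    (TatePoly.φ0 (R := R) (n := n) up).commutes x
  rw [h1]
  exact Ideal.mem_map_of_mem _ (Ideal.mem_span_singleton_self x)

/-- the map `R⟨ζ_1..ζ_n⟩ → R⟨ζ_0..ζ_n⟩` induced by the triangular substitution -/
noncomputable def φ (up : ℕ) : A R t n →ₐ[R] A R t (n + 1) :=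
  TateCompl.complMap _ _ (TatePoly.φ0 up) (map_φ0_le up)

theorem φ_ι (up : ℕ) (y : MvPolynomial (Fin n) R) :
    φ (t := t) up (ι R t n y) = ι R t (n + 1) (TatePoly.φ0 up y) :=
  TateCompl.complMap_of _ _ (TatePoly.φ0 up) (map_φ0_le up) y

/-- the linear map `(r, q) ↦ Σ φ(r_i) X_0^i + q g` -/
noncomputable def Ψ (up d : ℕ) (g : A R t (n + 1)) :
    ((Fin d → A R t n) × A R t (n + 1)) →ₗ[R] A R t (n + 1) :=
  LinearMap.coprod
    (∑ i : Fin d, (LinearMap.mulRight R (ι R t (n + 1) (X 0) ^ (i : ℕ))) ∘ₗ
      (φ (t := t) up).toLinearMap ∘ₗ LinearMap.proj i)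
    (LinearMap.mulRight R g)

theorem Ψ_apply (up d : ℕ) (g : A R t (n + 1)) (z : (Fin d → A R t n) × A R t (n + 1)) :
    Ψ up d g z = ∑ i : Fin d, φ (t := t) up (z.1 i) * ι R t (n + 1) (X 0) ^ (i : ℕ) + z.2 * g := by
  simp [Ψ, LinearMap.coprod_apply, LinearMap.sum_apply]

theorem exists_division (g : A R t (n + 1)) (hg : Good R t (n + 1) g) :
    ∃ (up d : ℕ), ∀ a : A R t (n + 1), ∃ (r : Fin d → A R t n) (q : A R t (n + 1)),
      a = ∑ i : Fin d, φ (t := t) up (r i) * ι R t (n + 1) (X 0) ^ (i : ℕ) + q * g := by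
  rcases subsingleton_or_nontrivial R with hR | hR
  · have : Subsingleton (A R t (n + 1)) := by
      apply subsingleton_of_zero_eq_one
      rw [← map_one (algebraMap R (A R t (n + 1))), ← map_zero (algebraMap R (A R t (n + 1)))]
      exact congrArg _ (Subsingleton.elim _ _)
    exact ⟨0, 0, fun a => ⟨fun _ => 0, 0, Subsingleton.elim _ _⟩⟩
  obtain ⟨p0, c, hh, ⟨v, hv⟩, hus, ⟨N, hN⟩, ⟨c'', hc''⟩, rfl⟩ := hg
  have hp0 : p0 ≠ 0 := by
    rintro rfl
    simp at hv
  obtain ⟨d, hd⟩ := TatePoly.exists_division p0 hp0 hus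
  set up := 2 + p0.totalDegree with hup
  refine ⟨up, d, ?_⟩
  set g := ι R t (n + 1) p0 + algebraMap R (A R t (n + 1)) c * hh with hg
  set γ := algebraMap R (A R t (n + 1)) c with hγ
  set τ := algebraMap R (A R t (n + 1)) t with hτ
  -- base step
  have hbase : ∀ a : A R t (n + 1), ∃ (z : (Fin d → A R t n) × A R t (n + 1))
      (a'' : A R t (n + 1)), a = Ψ up d g z + γ * a'' := by
    intro a
    obtain ⟨y, a1, ha1⟩ := exists_approx a 1
    obtain ⟨r, q0, hrq⟩ := hd y
    refine ⟨(fun i => ι R t n (r i), ι R t (n + 1) q0),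
      algebraMap R (A R t (n + 1)) c'' * a1 - hh * ι R t (n + 1) q0, ?_⟩
    rw [Ψ_apply, ha1, pow_one]
    have e1 : ι R t (n + 1) y = ∑ i : Fin d, φ (t := t) up (ι R t n (r i)) *
        ι R t (n + 1) (X 0) ^ (i : ℕ) + ι R t (n + 1) q0 * ι R t (n + 1) p0 := by
      conv_lhs => rw [hrq]
      rw [map_add, map_sum, map_mul, Finset.sum_range]
      congr 1
    have e2 : (algebraMap R (A R t (n + 1)) t) = γ * algebraMap R (A R t (n + 1)) c'' := by
      rw [hγ, ← map_mul, ← hc'']
    rw [e1, e2, hg]
    ring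
  -- iteration
  have hiter : ∀ (j : ℕ) (a : A R t (n + 1)), ∃ (z : (Fin d → A R t n) × A R t (n + 1))
      (a' : A R t (n + 1)), a = Ψ up d g z + γ ^ j * a' := by
    intro j
    induction j with
    | zero => intro a; exact ⟨0, a, by simp⟩
    | succ j ih =>
      intro a
      obtain ⟨z, a', ha'⟩ := ih a
      obtain ⟨z1, a'', ha''⟩ := hbase a'
      refine ⟨z + c ^ j • z1, a'', ?_⟩
      rw [map_add, map_smul, ha', ha'', Algebra.smul_def, map_pow, ← hγ]
      ring
  -- surjectivity
  have hprec : IsPrecomplete (Ideal.span {t}) ((Fin d → A R t n) × A R t (n + 1)) := by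
    have h1 : IsPrecomplete (Ideal.span {t}) (Fin d → A R t n) :=
      TateCompl.isPrecomplete_pi (fun _ : Fin d => A R t n) t
    exact TateCompl.isPrecomplete_prod t
  have hsurj : Function.Surjective (Ψ up d g) := by
    apply surjective_of_mkQ_comp_surjective (I := Ideal.span {t})
    intro ybar
    obtain ⟨a, rfl⟩ := Submodule.Quotient.mk_surjective _ ybar
    obtain ⟨z, a', ha'⟩ := hiter N a
    refine ⟨z, ?_⟩
    rw [LinearMap.comp_apply, Submodule.mkQ_apply, Submodule.Quotient.eq, ha']
    obtain ⟨e, he⟩ := hN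
    have e3 : γ ^ N * a' = t • (algebraMap R (A R t (n + 1)) e * a') := by
      rw [hγ, ← map_pow, he, map_mul, Algebra.smul_def]
      ring
    rw [sub_add_cancel_left, e3, ← smul_neg]
    exact Submodule.smul_mem_smul (Ideal.mem_span_singleton_self t) trivial
  intro a
  obtain ⟨z, hz⟩ := hsurj a
  exact ⟨z.1, z.2, by rw [← hz, Ψ_apply]⟩


theorem fp_of_fp_restrictScalars (A' B X : Type*) [CommRing A'] [CommRing B] [Algebra A' B]
    [Module.Finite A' B] [AddCommGroup X] [Module B X] [Module A' X] [IsScalarTower A' B X]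
    [Module.FinitePresentation A' X] : Module.FinitePresentation B X := by
  have h1 : Module.Finite B X := Module.Finite.of_restrictScalars_finite A' B X
  obtain ⟨s, π, hπ⟩ := Module.Finite.exists_fin' B X
  have hker := Module.FinitePresentation.fg_ker (π.restrictScalars A') hπ
  apply Module.finitePresentation_of_surjective π hπ
  apply Submodule.FG.of_restrictScalars A'
  rwa [← LinearMap.ker_restrictScalars]

variable {R : Type u} [CommRing R] {t : R} {n : ℕ}

theorem fp_of_killed_by_good
    (hP : ∀ (M : Type u) [AddCommGroup M] [Module (A R t n) M], Module.Finite (A R t n) M →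
      TateMod.TF (algebraMap R (A R t n) t) M → Module.FinitePresentation (A R t n) M)
    (g : A R t (n + 1)) (hg : Good R t (n + 1) g)
    (M : Type u) [AddCommGroup M] [Module (A R t (n + 1)) M]
    (hfin : Module.Finite (A R t (n + 1)) M)
    (hTF : TateMod.TF (algebraMap R (A R t (n + 1)) t) M) (hkill : ∀ x : M, g • x = 0) :
    Module.FinitePresentation (A R t (n + 1)) M := by
  classical
  obtain ⟨up, d, hdiv⟩ := exists_division g hg
  let B := A R t (n + 1) ⧸ Ideal.span {g}
  let ψ : A R t n →+* B := (Ideal.Quotient.mk (Ideal.span {g})).comp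
    (φ (R := R) (t := t) (n := n) up).toRingHom
  let algB : Algebra (A R t n) B := ψ.toAlgebra
  have hBfin : Module.Finite (A R t n) B := by
    refine ⟨⟨Finset.univ.image (fun i : Fin d =>
      (Ideal.Quotient.mk (Ideal.span {g}) (ι R t (n + 1) (MvPolynomial.X 0) ^ (i : ℕ)) : B)), ?_⟩⟩
    rw [eq_top_iff]
    rintro b -
    obtain ⟨a, rfl⟩ := Ideal.Quotient.mk_surjective b
    obtain ⟨r, q, hrq⟩ := hdiv a
    have h1 : (Ideal.Quotient.mk (Ideal.span {g}) a : B) =
        ∑ i : Fin d, r i • (Ideal.Quotient.mk (Ideal.span {g}) (ι R t (n + 1) (MvPolynomial.X 0) ^ (i : ℕ)) : B) := by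
      rw [hrq, map_add, map_sum]
      have : (Ideal.Quotient.mk (Ideal.span {g})) (q * g) = 0 :=
        Ideal.Quotient.eq_zero_iff_mem.mpr (Ideal.mul_mem_left _ _ (Ideal.mem_span_singleton_self g))
      rw [this, add_zero]
      apply Finset.sum_congr rfl
      intro i _
      rw [map_mul, Algebra.smul_def]
      rfl
    rw [h1]
    apply Submodule.sum_mem
    intro i _
    apply Submodule.smul_mem
    apply Submodule.subset_span
    simp
  have htors : Module.IsTorsionBySet (A R t (n + 1)) M (Ideal.span {g} : Set (A R t (n + 1))) := by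
    rw [Module.isTorsionBySet_span_singleton_iff]
    intro x
    exact hkill x
  let modB : Module B M := htors.module
  have tower1 : IsScalarTower (A R t (n + 1)) B M := htors.isScalarTower
  let modA : Module (A R t n) M := Module.compHom M ψ
  have tower2 : IsScalarTower (A R t n) B M := by
    refine ⟨fun a b x => ?_⟩
    change (ψ a * b) • x = ψ a • (b • x)
    rw [mul_smul]
  have hfinB : Module.Finite B M := Module.Finite.of_restrictScalars_finite (A R t (n + 1)) B M
  have hfinA : Module.Finite (A R t n) M := Module.Finite.trans B M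
  have hTFA : TateMod.TF (algebraMap R (A R t n) t) M := by
    intro x hx
    apply hTF
    have h1 : (algebraMap R (A R t n) t) • x =
        (Ideal.Quotient.mk (Ideal.span {g}) (φ (t := t) up (algebraMap R (A R t n) t)) : B) • x := rfl
    rw [h1, AlgHom.commutes] at hx
    rw [← hx]
    exact (Module.IsTorsionBySet.mk_smul htors _ x).symm
  have hfpA : Module.FinitePresentation (A R t n) M := hP M hfinA hTFA
  have hfpB : Module.FinitePresentation B M := fp_of_fp_restrictScalars (A R t n) B M
  have hfpBA : Module.FinitePresentation (A R t (n + 1)) B := by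
    apply Module.finitePresentation_of_surjective (Submodule.mkQ (Ideal.span {g}))
      (Submodule.mkQ_surjective _)
    rw [Submodule.ker_mkQ]
    exact ⟨{g}, by simp⟩
  exact Module.FinitePresentation.trans (A R t (n + 1)) M B

end Groth.Agent.Lib.Helper28.TateWD
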