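/-
helper28: finite torsion-free modules over restricted power series rings `R⟨ζ_1..ζ_n⟩`
(R a height-one valuation ring, t-adically separated) are finitely presented.
-/
import Groth.Agent.Lib.Helper28TateWD

set_option autoImplicit false

namespace Groth.Agent.Lib.Helper28.TateMain

open MvPolynomial AdicRing TateRPow

universe u

variable {R : Type u} [CommRing R] [IsDomain R] [ValuationRing R] [Ring.KrullDimLE 1 R]
  {t : R} [IsHausdorff (Ideal.span {t}) R]

theorem hyp (ht : t ≠ 0) (n : ℕ)
    (hfp : ∀ g, Good R t n g → ∀ (X : Type u) [AddCommGroup X] [Module (A R t n) X],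
      Module.Finite (A R t n) X → TateMod.TF (algebraMap R (A R t n) t) X → (∀ x : X, g • x = 0) →
      Module.FinitePresentation (A R t n) X)
    (hreg : ∀ g, Good R t n g → ∀ b, algebraMap R (A R t n) t ∣ g * b →
      algebraMap R (A R t n) t ∣ b) :
    TateMod.Hyp (algebraMap R (A R t n) t) (Good R t n) (Sc R t n) where
  sc_dvd := by
    rintro γ ⟨c, hc, rfl⟩
    obtain ⟨k, hk⟩ := exists_dvd_pow_of_ne_zero t c hc
    exact ⟨k, by rw [← map_pow]; exact map_dvd _ hk⟩
  total := by
    rintro γ ⟨c, hc, rfl⟩ γ' ⟨c', hc', rfl⟩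
    rcases ValuationRing.dvd_total c c' with h | h
    · exact Or.inl (map_dvd _ h)
    · exact Or.inr (map_dvd _ h)
  tf := by
    intro x hx
    apply Groth.Agent.Lib.Helper17.Adic.torsionFree_rpow_aux R t ht n 1 x
    rw [pow_one, Algebra.smul_def]
    exact hx
  sep := fun a h => eq_zero_of_forall_dvd a h
  dec := by
    intro f hf
    obtain ⟨c, hc, g, hg, h⟩ := exists_dec ht f hf
    exact ⟨_, ⟨c, hc, rfl⟩, g, hg, h⟩
  reg := hreg
  fp := hfp

theorem fp_of_tf (ht : t ≠ 0) (n : ℕ) :
    ∀ (X : Type u) [AddCommGroup X] [Module (A R t n) X], Module.Finite (A R t n) X →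
      TateMod.TF (algebraMap R (A R t n) t) X → Module.FinitePresentation (A R t n) X := by
  induction n with
  | zero =>
    intro X _ _ hfin hTF
    have H := hyp ht 0 (by
      intro g hg X _ _ _ _ hkill
      have hu := good_isUnit_zero g hg
      have : Subsingleton X := by
        refine ⟨fun x y => ?_⟩
        have h1 : ∀ z : X, z = 0 := by
          intro z
          obtain ⟨u, rfl⟩ := hu
          have h2 := hkill z
          have h3 : (↑u⁻¹ : A R t 0) • ((u : A R t 0) • z) = z := by
            rw [← mul_smul, Units.inv_mul, one_smul]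
          rw [← h3, h2, smul_zero]
        rw [h1 x, h1 y]
      infer_instance) (by
      intro g hg b h
      exact ((good_isUnit_zero g hg).dvd_mul_left).mp h)
    exact H.fp_of_tf X hTF
  | succ n ih =>
    intro X _ _ hfin hTF
    have H := hyp ht (n + 1) (by
      intro g hg X _ _ hfinX hTFX hkill
      exact TateWD.fp_of_killed_by_good ih g hg X hfinX hTFX hkill) (by
      intro g hg b h
      exact good_reg_succ g hg b h)
    exact H.fp_of_tf X hTF

end Groth.Agent.Lib.Helper28.TateMain
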