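/-
helper28: consequences of the Tate-algebra finiteness theorem in the `AdicRing.IsBase` setting.
-/
import Groth.Agent.Lib.Helper28TateMain
import Groth.Agent.Lib.Helper19ComplNoeth

set_option autoImplicit false

namespace Groth.Agent.Lib.Helper28.TateBase

open AdicRing TateRPow

universe u

/-- Class (N): algebras topologically of finite type are Noetherian. -/
theorem isNoetherianRing_of_topFiniteType (R : Type u) [CommRing R] [IsNoetherianRing R]
    (I : Ideal R) (A : Type u) [CommRing A] [Algebra R A] (hA : TopFiniteType R I A) :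
    IsNoetherianRing A := by
  obtain ⟨n, φ, hφ⟩ := hA
  have h1 : IsNoetherianRing (RPow R I n) :=
    Groth.Agent.Lib.Helper19.isNoetherianRing_adicCompletion _
  exact isNoetherianRing_of_surjective _ _ (φ : RPow R I n →+* A) hφ

/-- Class (V): finite `t`-torsion-free modules over algebras topologically of finite type are
finitely presented. -/
theorem fp_of_finite_tf (R : Type u) [CommRing R] [IsDomain R] [ValuationRing R]
    [Ring.KrullDimLE 1 R] (t : R) (ht : t ≠ 0) [IsHausdorff (Ideal.span {t}) R]
    (A : Type u) [CommRing A] [Algebra R A] (hA : TopFiniteType R (Ideal.span {t}) A)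
    (M : Type u) [AddCommGroup M] [Module A M] [Module.Finite A M]
    (hTF : ∀ x : M, algebraMap R A t • x = 0 → x = 0) : Module.FinitePresentation A M := by
  obtain ⟨n, φ, hφ⟩ := hA
  let algA : Algebra (TateRPow.A R t n) A := φ.toRingHom.toAlgebra
  let modM : Module (TateRPow.A R t n) M := Module.compHom M φ.toRingHom
  have tower : IsScalarTower (TateRPow.A R t n) A M := by
    refine ⟨fun a b x => ?_⟩
    change (φ a * b) • x = φ a • (b • x)
    rw [mul_smul]
  have hfinA : Module.Finite (TateRPow.A R t n) A :=
    Module.Finite.of_surjective (Algebra.linearMap (TateRPow.A R t n) A) hφ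
  have hfinM : Module.Finite (TateRPow.A R t n) M := Module.Finite.trans A M
  have hTF' : TateMod.TF (algebraMap R (TateRPow.A R t n) t) M := by
    intro x hx
    apply hTF
    have h1 : (algebraMap R (TateRPow.A R t n) t) • x =
        φ (algebraMap R (TateRPow.A R t n) t) • x := rfl
    rw [h1, AlgHom.commutes] at hx
    exact hx
  have hfp : Module.FinitePresentation (TateRPow.A R t n) M :=
    TateMain.fp_of_tf ht n M hfinM hTF'
  exact TateWD.fp_of_fp_restrictScalars (TateRPow.A R t n) A M


/-- Class (V): `t`-saturated submodules of finite modules are finitely generated. -/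
theorem fg_of_saturated (R : Type u) [CommRing R] [IsDomain R] [ValuationRing R]
    [Ring.KrullDimLE 1 R] (t : R) (ht : t ≠ 0) [IsHausdorff (Ideal.span {t}) R]
    (A : Type u) [CommRing A] [Algebra R A] (hA : TopFiniteType R (Ideal.span {t}) A)
    (M : Type u) [AddCommGroup M] [Module A M] [Module.Finite A M] (N : Submodule A M)
    (hsat : ∀ x : M, algebraMap R A t • x ∈ N → x ∈ N) : N.FG := by
  have hfp : Module.FinitePresentation A (M ⧸ N) := by
    refine fp_of_finite_tf R t ht A hA (M ⧸ N) ?_
    intro x hx
    obtain ⟨x, rfl⟩ := Submodule.Quotient.mk_surjective _ x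
    rw [← Submodule.Quotient.mk_smul, Submodule.Quotient.mk_eq_zero] at hx
    rw [Submodule.Quotient.mk_eq_zero]
    exact hsat x hx
  have := Module.FinitePresentation.fg_ker N.mkQ (Submodule.mkQ_surjective N)
  rwa [Submodule.ker_mkQ] at this

theorem topFiniteType_rPow (R : Type u) [CommRing R] (I : Ideal R) (n : ℕ) :
    TopFiniteType R I (RPow R I n) :=
  ⟨n, AlgHom.id R _, Function.surjective_id⟩

end Groth.Agent.Lib.Helper28.TateBase
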