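/-
helper28: precompleteness of finite modules over algebras topologically of finite type.
-/
import Groth.Agent.Lib.Helper28TateBase

set_option autoImplicit false

namespace Groth.Agent.Lib.Helper28.TateCompl

universe u

section general

variable {R : Type*} [CommRing R] (I : Ideal R)

theorem isPrecomplete_of_surjective {M' M : Type*} [AddCommGroup M'] [Module R M']
    [AddCommGroup M] [Module R M] (f : M' →ₗ[R] M) (hf : Function.Surjective f)
    [IsPrecomplete I M'] : IsPrecomplete I M := by
  rw [← AdicCompletion.of_surjective_iff]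
  intro y
  obtain ⟨y', rfl⟩ := AdicCompletion.map_surjective I hf y
  obtain ⟨x', rfl⟩ := AdicCompletion.of_surjective I M' y'
  exact ⟨f x', by rw [AdicCompletion.map_of]⟩

theorem mem_smul_top_pi {ι : Type*} [Fintype ι] [DecidableEq ι] {M : ι → Type*}
    [∀ i, AddCommGroup (M i)] [∀ i, Module R (M i)] (J : Ideal R) (x : ∀ i, M i) :
    x ∈ J • (⊤ : Submodule R (∀ i, M i)) ↔ ∀ i, x i ∈ J • (⊤ : Submodule R (M i)) := by
  constructor
  · intro hx i
    have h1 : (J • (⊤ : Submodule R (∀ i, M i))).map (LinearMap.proj i) ≤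
        J • (⊤ : Submodule R (M i)) := by
      rw [Submodule.map_smul'']
      exact Submodule.smul_mono le_rfl le_top
    exact h1 ⟨x, hx, rfl⟩
  · intro hx
    have h2 : x = ∑ i, LinearMap.single R M i (x i) := by
      ext j
      simp [Finset.sum_apply, Pi.single_apply]
    rw [h2]
    apply Submodule.sum_mem
    intro i _
    have h1 : (J • (⊤ : Submodule R (M i))).map (LinearMap.single R M i) ≤
        J • (⊤ : Submodule R (∀ i, M i)) := by
      rw [Submodule.map_smul'']
      exact Submodule.smul_mono le_rfl le_top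
    exact h1 ⟨x i, hx i, rfl⟩

theorem isPrecomplete_pi_fintype {ι : Type*} [Fintype ι] (M : ι → Type*)
    [∀ i, AddCommGroup (M i)] [∀ i, Module R (M i)] [∀ i, IsPrecomplete I (M i)] :
    IsPrecomplete I (∀ i, M i) := by
  classical
  refine ⟨fun f hf => ?_⟩
  have h1 : ∀ i, ∀ {m n : ℕ}, m ≤ n →
      (f m i) ≡ (f n i) [SMOD (I ^ m • ⊤ : Submodule R (M i))] := by
    intro i m n hmn
    have := hf hmn
    rw [SModEq.sub_mem] at this ⊢
    exact (mem_smul_top_pi (I ^ m) _).mp this i
  have h2 : ∀ i, ∃ L : M i, ∀ n, f n i ≡ L [SMOD (I ^ n • ⊤ : Submodule R (M i))] :=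
    fun i => IsPrecomplete.prec (inferInstance : IsPrecomplete I (M i)) (h1 i)
  choose L hL using h2
  refine ⟨L, fun n => ?_⟩
  rw [SModEq.sub_mem]
  apply (mem_smul_top_pi (I ^ n) _).mpr
  intro i
  have := hL i n
  rw [SModEq.sub_mem] at this
  exact this

end general

section rpow

open AdicRing MvPolynomial

theorem isAdicComplete_rPow (R : Type u) [CommRing R] (I : Ideal R) (hI : I.FG) (n : ℕ) :
    IsAdicComplete I (RPow R I n) := by
  have hfg : (I.map (C : R →+* MvPolynomial (Fin n) R)).FG := hI.map _
  have h1 : IsAdicComplete (I.map (C : R →+* MvPolynomial (Fin n) R)) (RPow R I n) :=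
    AdicCompletion.isAdicComplete hfg
  exact (IsAdicComplete.map_algebraMap_iff (R := R) (S := MvPolynomial (Fin n) R)
    I (RPow R I n)).mp h1

/-- finite modules over algebras topologically of finite type are precomplete. -/
theorem isPrecomplete_of_finite (R : Type u) [CommRing R] (I : Ideal R) (hI : I.FG)
    (A : Type u) [CommRing A] [Algebra R A] (hA : TopFiniteType R I A)
    (M : Type u) [AddCommGroup M] [Module A M] [Module R M] [IsScalarTower R A M]
    [Module.Finite A M] : IsPrecomplete I M := by
  obtain ⟨n, φ, hφ⟩ := hA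
  obtain ⟨s, π, hπ⟩ := Module.Finite.exists_fin' A M
  have hc : IsAdicComplete I (RPow R I n) := isAdicComplete_rPow R I hI n
  have hp : IsPrecomplete I (Fin s → RPow R I n) :=
    isPrecomplete_pi_fintype I (fun _ : Fin s => RPow R I n)
  let f1 : (Fin s → RPow R I n) →ₗ[R] (Fin s → A) :=
    LinearMap.pi (fun i => φ.toLinearMap ∘ₗ LinearMap.proj i)
  have hf1 : Function.Surjective f1 := by
    intro y
    choose x hx using fun i => hφ (y i)
    exact ⟨x, by ext i; simp [f1, hx]⟩
  exact isPrecomplete_of_surjective I ((π.restrictScalars R) ∘ₗ f1) (hπ.comp hf1)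

end rpow

end Groth.Agent.Lib.Helper28.TateCompl
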