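/-
helper28: separatedness of finite modules over algebras topologically of finite type.
-/
import Groth.Agent.Lib.Helper28TateCompl2

set_option autoImplicit false

namespace Groth.Agent.Lib.Helper28.TateCompl

universe u

section general

variable {R : Type*} [CommRing R] (I : Ideal R)

theorem isHausdorff_pi_fintype {ι : Type*} [Fintype ι] (M : ι → Type*)
    [∀ i, AddCommGroup (M i)] [∀ i, Module R (M i)] [∀ i, IsHausdorff I (M i)] :
    IsHausdorff I (∀ i, M i) := by
  classical
  refine ⟨fun x hx => ?_⟩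
  ext i
  apply IsHausdorff.haus (inferInstance : IsHausdorff I (M i))
  intro n
  have := hx n
  rw [SModEq.zero] at this ⊢
  exact (mem_smul_top_pi (I ^ n) x).mp this i

end general

section N

open AdicRing

/-- Class (N): finite modules over algebras topologically of finite type are separated. -/
theorem isHausdorff_of_finite_N (R : Type u) [CommRing R] [IsNoetherianRing R] (I : Ideal R)
    [IsAdicComplete I R]
    (A : Type u) [CommRing A] [Algebra R A] (hA : TopFiniteType R I A)
    (M : Type u) [AddCommGroup M] [Module A M] [Module R M] [IsScalarTower R A M]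
    [Module.Finite A M] : IsHausdorff I M := by
  have hAN := TateBase.isNoetherianRing_of_topFiniteType R I A hA
  obtain ⟨n, φ, hφ⟩ := hA
  have hc : IsAdicComplete I (RPow R I n) :=
    isAdicComplete_rPow R I (IsNoetherian.noetherian I) n
  have hc' : IsAdicComplete (I.map (algebraMap R (RPow R I n))) (RPow R I n) :=
    (IsAdicComplete.map_algebraMap_iff (R := R) (S := RPow R I n) I (RPow R I n)).mpr hc
  have hj : I.map (algebraMap R (RPow R I n)) ≤ (⊥ : Ideal (RPow R I n)).jacobson :=
    IsAdicComplete.le_jacobson_bot _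
  have hjA : I.map (algebraMap R A) ≤ (⊥ : Ideal A).jacobson := by
    have h1 : I.map (algebraMap R A) = (I.map (algebraMap R (RPow R I n))).map φ.toRingHom := by
      rw [Ideal.map_map]
      congr 1
      ext r
      simp
    rw [h1]
    refine (Ideal.map_mono hj).trans ?_
    have h3 : (⊥ : Ideal (RPow R I n)).jacobson ≤ (RingHom.ker φ.toRingHom).jacobson :=
      Ideal.jacobson_mono bot_le
    refine (Ideal.map_mono h3).trans ?_
    rw [Ideal.map_jacobson_of_surjective (f := φ.toRingHom) hφ le_rfl]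
    have : Ideal.map φ.toRingHom (RingHom.ker φ.toRingHom) = ⊥ := by
      rw [Ideal.map_eq_bot_iff_le_ker]
    rw [this]
  have h2 : IsHausdorff (I.map (algebraMap R A)) M := IsHausdorff.of_le_jacobson _ _ hjA
  exact (IsHausdorff.map_algebraMap_iff (R := R) (S := A) (I := I) (M := M)).mp h2

end N

section V

open AdicRing TateRPow

/-- Class (V): finite modules over restricted power series rings are separated. -/
theorem isHausdorff_of_finite_rPow (R : Type u) [CommRing R] [IsDomain R] [ValuationRing R]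
    [Ring.KrullDimLE 1 R] (t : R) (ht : t ≠ 0) [IsHausdorff (Ideal.span {t}) R] (n : ℕ)
    (M : Type u) [AddCommGroup M] [Module (TateRPow.A R t n) M] [Module R M]
    [IsScalarTower R (TateRPow.A R t n) M] [Module.Finite (TateRPow.A R t n) M] :
    IsHausdorff (Ideal.span {t}) M := by
  obtain ⟨s, π, hπ⟩ := Module.Finite.exists_fin' (TateRPow.A R t n) M
  set K := LinearMap.ker π with hK
  set τ := algebraMap R (TateRPow.A R t n) t with hτ
  have hτs : ∀ (k : ℕ) (w : Fin s → TateRPow.A R t n), τ ^ k • w = t ^ k • w := by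
    intro k w
    rw [hτ, ← map_pow, algebraMap_smul]
  have hτM : ∀ (k : ℕ) (w : M), τ ^ k • w = t ^ k • w := by
    intro k w
    rw [hτ, ← map_pow, algebraMap_smul]
  set K' := TateMod.sat τ K with hK'
  have hK'sat : ∀ (w : Fin s → TateRPow.A R t n) (m : ℕ), τ ^ m • w ∈ K' → w ∈ K' := by
    rintro w m ⟨j, hj⟩
    refine ⟨j + m, ?_⟩
    rw [pow_add, mul_smul]
    exact hj
  have hK'fg : K'.FG := by
    refine TateBase.fg_of_saturated R t ht (TateRPow.A R t n)
      (TateBase.topFiniteType_rPow R _ n) (Fin s → TateRPow.A R t n) K' ?_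
    intro w hw
    exact hK'sat w 1 (by rw [pow_one]; exact hw)
  obtain ⟨n₀, hn₀⟩ := TateMod.exists_pow_smul_mem_of_fg_sat K hK'fg
  refine ⟨fun x hx => ?_⟩
  have hx' : ∀ k : ℕ, ∃ z : M, x = t ^ k • z := by
    intro k
    obtain ⟨z, hz⟩ := (smodEq_span_singleton_pow_iff t k x 0).mp (hx k)
    exact ⟨z, by simpa using hz⟩
  obtain ⟨y, rfl⟩ := hπ x
  have hy : ∀ k : ℕ, ∃ κ ∈ K, ∃ f : Fin s → TateRPow.A R t n, y = κ + τ ^ k • f := by
    intro k
    obtain ⟨z, hz⟩ := hx' k
    obtain ⟨f, rfl⟩ := hπ z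
    refine ⟨y - τ ^ k • f, ?_, f, by abel⟩
    rw [hK, LinearMap.mem_ker, map_sub, map_smul, hz, hτM, sub_self]
  choose κ hκ f hf using hy
  have hκ' : ∀ k, κ k ∈ K' := fun k => TateMod.le_sat _ (hκ k)
  have hK'fin : Module.Finite (TateRPow.A R t n) K' := Module.Finite.iff_fg.mpr hK'fg
  have hprec : IsPrecomplete (Ideal.span {t}) K' :=
    isPrecomplete_of_finite R (Ideal.span {t}) ⟨{t}, by simp⟩ (TateRPow.A R t n)
      (TateBase.topFiniteType_rPow R _ n) K'
  have hcauchy : ∀ {m n' : ℕ}, m ≤ n' →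
      (⟨κ m, hκ' m⟩ : K') ≡ ⟨κ n', hκ' n'⟩
        [SMOD (Ideal.span {t} ^ m • ⊤ : Submodule R K')] := by
    intro m n' hmn
    rw [smodEq_span_singleton_pow_iff]
    have hw : τ ^ m • (τ ^ (n' - m) • f n' - f m) = κ m - κ n' := by
      rw [smul_sub, ← mul_smul, ← pow_add, Nat.add_sub_cancel' hmn]
      have h3 : κ m + τ ^ m • f m = κ n' + τ ^ n' • f n' := by rw [← hf m, ← hf n']
      rw [sub_eq_sub_iff_add_eq_add, add_comm]
      exact h3.symm
    have hwK' : (τ ^ (n' - m) • f n' - f m) ∈ K' :=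
      hK'sat _ m (by rw [hw]; exact K'.sub_mem (hκ' m) (hκ' n'))
    refine ⟨⟨_, hwK'⟩, Subtype.ext ?_⟩
    simp only [AddSubgroupClass.coe_sub]
    rw [Submodule.coe_smul_of_tower, ← hτs, hw]
  obtain ⟨L, hL⟩ := hprec.prec hcauchy
  have hP : IsHausdorff (Ideal.span {t}) (TateRPow.A R t n) :=
    (TateRPow.isAdicComplete_R R t n).toIsHausdorff
  have hF : IsHausdorff (Ideal.span {t}) (Fin s → TateRPow.A R t n) :=
    isHausdorff_pi_fintype _ _
  have hyL : y = L.1 := by
    rw [← sub_eq_zero]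
    apply hF.haus'
    intro k
    rw [smodEq_span_singleton_pow_iff]
    obtain ⟨z', hz'⟩ := (smodEq_span_singleton_pow_iff t k _ _).mp (hL k)
    refine ⟨f k + z'.1, ?_⟩
    have e2 : κ k - L.1 = t ^ k • z'.1 := by
      have := congrArg Subtype.val hz'
      simpa using this
    rw [sub_zero, smul_add, ← e2, ← hτs]
    conv_lhs => rw [hf k]
    abel
  have hyK' : y ∈ K' := by rw [hyL]; exact L.2
  have h5 : τ ^ n₀ • f n₀ ∈ K' := by
    have h8 : τ ^ n₀ • f n₀ = y - κ n₀ := by
      conv_rhs => rw [hf n₀]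
      abel
    rw [h8]
    exact K'.sub_mem hyK' (hκ' n₀)
  have h6 : f n₀ ∈ K' := hK'sat _ n₀ h5
  have h7 : τ ^ n₀ • f n₀ ∈ K := hn₀ _ h6
  have hyK : y ∈ K := by
    rw [hf n₀]
    exact K.add_mem (hκ n₀) h7
  exact LinearMap.mem_ker.mp hyK

end V

end Groth.Agent.Lib.Helper28.TateCompl
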