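/-
helper28: flatness via truncations over algebras topologically of finite type (Bosch 7.3/11).
-/
import Groth.Agent.S11528
import Groth.Agent.S11529
import Groth.Agent.Lib.Helper5LocalFlat3
import Groth.Agent.Lib.Helper5FlatReg

set_option autoImplicit false

namespace Groth.Agent.Lib.Helper28.TateFlat

open AdicRing TensorProduct

universe u

/-- Artin–Rees over an algebra topologically of finite type, in `A`-submodule form. -/
theorem artinRees (R : Type u) [CommRing R] (I : Ideal R) (hR : IsBase R I)
    (A : Type u) [CommRing A] [Algebra R A] (hA : TopFiniteType R I A)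
    (M : Type u) [AddCommGroup M] [Module A M] [Module R M] [IsScalarTower R A M]
    [Module.Finite A M] (N : Submodule A M) :
    ∃ n₀ : ℕ, ∀ m : ℕ, (I.map (algebraMap R A)) ^ (m + n₀) • (⊤ : Submodule A M) ⊓ N ≤
      (I.map (algebraMap R A)) ^ m • N := by
  obtain ⟨n₀, h⟩ := Groth.Agent.S11528.result R I hR A hA M N
  refine ⟨n₀, fun m => ?_⟩
  intro x hx
  have h1 : (I ^ (m + n₀) • (⊤ : Submodule R M)) =
      (((I.map (algebraMap R A)) ^ (m + n₀)) • (⊤ : Submodule A M)).restrictScalars R := by
    rw [← Ideal.map_pow, Submodule.restrictScalars_map_smul_eq, Submodule.restrictScalars_top]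
  have h2 : I ^ m • N.restrictScalars R =
      (((I.map (algebraMap R A)) ^ m) • N).restrictScalars R := by
    rw [← Ideal.map_pow, Submodule.restrictScalars_map_smul_eq]
  have h3 : x ∈ (I ^ (m + n₀) • (⊤ : Submodule R M)) ⊓ N.restrictScalars R := by
    rw [h1]
    exact ⟨hx.1, hx.2⟩
  have h4 := h m h3
  rw [h2] at h4
  exact h4

/-- Finite modules over algebras topologically of finite type are separated for the extended
ideal. -/
theorem isHausdorff_map (R : Type u) [CommRing R] (I : Ideal R) (hR : IsBase R I)
    (B : Type u) [CommRing B] [Algebra R B] (hB : TopFiniteType R I B)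
    (X : Type u) [AddCommGroup X] [Module B X] [Module.Finite B X] :
    IsHausdorff (I.map (algebraMap R B)) X := by
  let modR : Module R X := Module.compHom X (algebraMap R B)
  have tower : IsScalarTower R B X := IsScalarTower.of_algebraMap_smul fun r x => rfl
  have h1 : IsAdicComplete I X := Groth.Agent.S11529.result R I hR B hB X
  exact (IsHausdorff.map_algebraMap_iff (R := R) (S := B) (I := I) (M := X)).mpr h1.toIsHausdorff

/-- Local criterion of flatness over algebras topologically of finite type. -/
theorem flat_of_flat_quotient_pow (R : Type u) [CommRing R] (I : Ideal R) (hR : IsBase R I)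
    (A : Type u) [CommRing A] [Algebra R A] (hA : TopFiniteType R I A)
    (B : Type u) [CommRing B] [Algebra R B] [Algebra A B] [IsScalarTower R A B]
    (hB : TopFiniteType R I B)
    (M : Type u) [AddCommGroup M] [Module B M] [Module A M] [IsScalarTower A B M]
    [Module.Finite B M]
    (h : ∀ n : ℕ, Module.Flat (A ⧸ (I.map (algebraMap R A)) ^ (n + 1))
      ((A ⧸ (I.map (algebraMap R A)) ^ (n + 1)) ⊗[A] M)) :
    Module.Flat A M := by
  rw [Module.Flat.iff_lTensor_injective]
  intro J hJ
  rw [injective_iff_map_eq_zero]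
  intro z hz
  have hJfin : Module.Finite A J := Module.Finite.iff_fg.mpr hJ
  have hfinT : Module.Finite B (M ⊗[A] J) := Groth.Agent.Lib.Helper5.finite_tensorProduct_of_finite M J
  have hH : IsHausdorff (I.map (algebraMap R B)) (M ⊗[A] J) := isHausdorff_map R I hR B hB _
  apply hH.haus'
  intro n
  rw [SModEq.zero]
  set IA := I.map (algebraMap R A) with hIA
  have hIB : I.map (algebraMap R B) = IA.map (algebraMap A B) := by
    rw [hIA, Ideal.map_map, ← IsScalarTower.algebraMap_eq]
  obtain ⟨n₀, hAR⟩ := artinRees R I hR A hA A (J : Submodule A A)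
  have hk := h (n + n₀)
  have e : n + n₀ + 1 = n + 1 + n₀ := by omega
  rw [e] at hk
  obtain ⟨w, rfl⟩ := Groth.Agent.Lib.Helper5.mem_range_lTensor_comap_of_flat_baseChange M
    (IA ^ (n + 1 + n₀)) J hk z hz
  have hJn_le : Submodule.comap J.subtype (IA ^ (n + 1 + n₀)) ≤
      IA ^ (n + 1) • (⊤ : Submodule A ↥J) := by
    intro y hy
    have hy' : (y : A) ∈ IA ^ (n + 1 + n₀) • (⊤ : Submodule A A) ⊓ (J : Submodule A A) := by
      refine ⟨?_, y.2⟩
      rw [smul_eq_mul, Ideal.mul_top]
      exact hy
    have h3 := hAR (n + 1) hy'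
    have h2 : IA ^ (n + 1) • (J : Submodule A A) ≤
        Submodule.map J.subtype (IA ^ (n + 1) • (⊤ : Submodule A ↥J)) := by
      rw [Submodule.map_smul'', Submodule.map_top, Submodule.range_subtype]
    obtain ⟨y', hy'mem, hy'eq⟩ := h2 h3
    have : y' = y := Subtype.ext hy'eq
    rw [← this]
    exact hy'mem
  clear hz
  induction w with
  | zero => rw [map_zero]; exact Submodule.zero_mem _
  | add a b ha hb => rw [map_add]; exact Submodule.add_mem _ ha hb
  | tmul m y =>
    rw [LinearMap.lTensor_tmul, Submodule.subtype_apply]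
    have hy := hJn_le y.2
    refine Submodule.smul_induction_on hy ?_ ?_
    · intro c hc t _
      rw [TensorProduct.tmul_smul, ← algebraMap_smul B c (m ⊗ₜ[A] t)]
      refine Submodule.smul_mem_smul ?_ trivial
      rw [hIB, ← Ideal.map_pow]
      exact Ideal.mem_map_of_mem _ (Ideal.pow_le_pow_right (Nat.le_succ n) hc)
    · intro t₁ t₂ h₁ h₂
      rw [TensorProduct.tmul_add]
      exact Submodule.add_mem _ h₁ h₂

end Groth.Agent.Lib.Helper28.TateFlat
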