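import Groth.Agent.Lib.Helper28TateTrunc
import Groth.Agent.Lib.Helper28TateFlat
import Groth.Agent.S11531

/-!
# Complete localizations `A⟨f⁻¹⟩` of algebras topologically of finite type (helper28)
-/

set_option autoImplicit false
universe u
open AdicRing TensorProduct MvPolynomial

namespace Groth.Agent.Lib.Helper28.TateCLoc

section general

theorem bijective_lTensor_quotient {A : Type*} [CommRing A] (𝔞 : Ideal A) {M N : Type*}
    [AddCommGroup M] [Module A M] [AddCommGroup N] [Module A N] (g : M →ₗ[A] N)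
    (hsurj : ∀ y : N, ∃ x : M, y - g x ∈ 𝔞 • (⊤ : Submodule A N))
    (hinj : ∀ x : M, g x ∈ 𝔞 • (⊤ : Submodule A N) → x ∈ 𝔞 • (⊤ : Submodule A M)) :
    Function.Bijective (g.lTensor (A ⧸ 𝔞)) := by
  have hle : 𝔞 • (⊤ : Submodule A M) ≤ (𝔞 • (⊤ : Submodule A N)).comap g := by
    rw [Submodule.smul_le]
    intro r hr x _
    rw [Submodule.mem_comap, map_smul]
    exact Submodule.smul_mem_smul hr Submodule.mem_top
  set q := Submodule.mapQ _ _ g hle with hq
  have hcomm : (quotTensorEquivQuotSMul N 𝔞).toLinearMap ∘ₗ g.lTensor (A ⧸ 𝔞) =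
      q ∘ₗ (quotTensorEquivQuotSMul M 𝔞).toLinearMap := by
    apply TensorProduct.ext'
    intro rb x
    obtain ⟨r, rfl⟩ := Ideal.Quotient.mk_surjective rb
    simp only [LinearMap.comp_apply, LinearEquiv.coe_coe, LinearMap.lTensor_tmul,
      quotTensorEquivQuotSMul_mk_tmul, hq, Submodule.mapQ_apply, map_smul]
  have hqb : Function.Bijective q := by
    constructor
    · rw [← LinearMap.ker_eq_bot, LinearMap.ker_eq_bot']
      intro xb hx
      obtain ⟨x, rfl⟩ := Submodule.Quotient.mk_surjective _ xb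
      rw [hq, Submodule.mapQ_apply, Submodule.Quotient.mk_eq_zero] at hx
      rw [Submodule.Quotient.mk_eq_zero]
      exact hinj x hx
    · intro yb
      obtain ⟨y, rfl⟩ := Submodule.Quotient.mk_surjective _ yb
      obtain ⟨x, hx⟩ := hsurj y
      refine ⟨Submodule.Quotient.mk x, ?_⟩
      rw [hq, Submodule.mapQ_apply]
      exact ((Submodule.Quotient.eq _).mpr hx).symm
  have h1 : (g.lTensor (A ⧸ 𝔞) : _ → _) =
      (quotTensorEquivQuotSMul N 𝔞).symm ∘ q ∘ (quotTensorEquivQuotSMul M 𝔞) := by
    funext z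
    have := congrArg (fun l => l z) hcomm
    simp only [LinearMap.comp_apply, LinearEquiv.coe_coe] at this
    simp only [Function.comp_apply]
    rw [← this, LinearEquiv.symm_apply_apply]
  rw [h1]
  exact (quotTensorEquivQuotSMul N 𝔞).symm.bijective.comp
    (hqb.comp (quotTensorEquivQuotSMul M 𝔞).bijective)


theorem flat_quot_tensor_of_bijective {A : Type*} [CommRing A] (𝔞 : Ideal A) {M N : Type*}
    [AddCommGroup M] [Module A M] [AddCommGroup N] [Module A N] (g : M →ₗ[A] N)
    (hb : Function.Bijective (g.lTensor (A ⧸ 𝔞))) [Module.Flat A M] :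
    Module.Flat (A ⧸ 𝔞) ((A ⧸ 𝔞) ⊗[A] N) := by
  have hb' : Function.Bijective (g.baseChange (A ⧸ 𝔞)) := by
    have : (g.baseChange (A ⧸ 𝔞) : _ → _) = g.lTensor (A ⧸ 𝔞) := by
      rw [LinearMap.baseChange_eq_ltensor]
    rw [this]
    exact hb
  exact Module.Flat.of_linearEquiv (LinearEquiv.ofBijective (g.baseChange (A ⧸ 𝔞)) hb').symm

end general

section gens

variable (R : Type u) [CommRing R] (I : Ideal R) (A : Type u) [CommRing A] [Algebra R A]

/-- generators modulo `I` of an algebra topologically of finite type -/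
theorem exists_gens_of_topFiniteType (hI : I.FG) (hA : TopFiniteType R I A) :
    ∃ (n : ℕ) (a : Fin n → A), ∀ x : A, ∃ p : MvPolynomial (Fin n) R,
      x - aeval a p ∈ I.map (algebraMap R A) := by
  obtain ⟨n, φ, hφ⟩ := hA
  refine ⟨n, fun i => φ (algebraMap (MvPolynomial (Fin n) R) (RPow R I n) (X i)), fun x => ?_⟩
  obtain ⟨g, rfl⟩ := hφ x
  obtain ⟨p, hp⟩ := TateTrunc.exists_sub_mem_map_pow
    (I.map (C : R →+* MvPolynomial (Fin n) R)) (hI.map _) 1 g
  refine ⟨p, ?_⟩
  have h1 : φ (algebraMap (MvPolynomial (Fin n) R) (RPow R I n) p) =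
      aeval (fun i => φ (algebraMap (MvPolynomial (Fin n) R) (RPow R I n) (X i))) p := by
    have := aeval_unique (φ.comp (IsScalarTower.toAlgHom R (MvPolynomial (Fin n) R) (RPow R I n)))
    exact congrArg (fun ψ => ψ p) this
  rw [← h1, ← map_sub]
  rw [pow_one, Ideal.map_map] at hp
  have h2 := Ideal.mem_map_of_mem φ.toRingHom hp
  rw [Ideal.map_map] at h2
  have h3 : (φ.toRingHom.comp ((algebraMap (MvPolynomial (Fin n) R) (RPow R I n)).comp C)) =
      algebraMap R A := by
    ext r
    simp only [RingHom.comp_apply, AlgHom.toRingHom_eq_coe, RingHom.coe_coe]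
    have hC : (C r : MvPolynomial (Fin n) R) = algebraMap R (MvPolynomial (Fin n) R) r := rfl
    rw [hC, ← IsScalarTower.algebraMap_apply, AlgHom.commutes]
  rw [h3] at h2
  exact h2

theorem topFiniteType_of_gens [IsAdicComplete (I.map (algebraMap R A)) A] (hI : I.FG) {n : ℕ}
    (a : Fin n → A) (h : ∀ x : A, ∃ p : MvPolynomial (Fin n) R,
      x - aeval a p ∈ I.map (algebraMap R A)) : TopFiniteType R I A :=
  ⟨n, TateTrunc.liftRPow R I A a, TateTrunc.liftRPow_surjective R I A hI a h⟩

end gens

section cloc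

variable (R : Type u) [CommRing R] (I : Ideal R) (A : Type u) [CommRing A] [Algebra R A] (f : A)

theorem isAdicComplete_cLoc (hI : I.FG) :
    IsAdicComplete (I.map (algebraMap R (CLoc I f))) (CLoc I f) := by
  have h1 : IsAdicComplete (I.map (algebraMap R (Localization.Away f))) (CLoc I f) :=
    AdicCompletion.isAdicComplete (hI.map _)
  have h2 : IsAdicComplete I (CLoc I f) :=
    (IsAdicComplete.map_algebraMap_iff (R := R) (S := Localization.Away f) I (CLoc I f)).mp h1
  exact (IsAdicComplete.map_algebraMap_iff (R := R) (S := CLoc I f) I (CLoc I f)).mpr h2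

theorem map_cLoc_eq (J : Ideal R) :
    (J.map (algebraMap R (Localization.Away f))).map
      (algebraMap (Localization.Away f) (CLoc I f)) = J.map (algebraMap R (CLoc I f)) := by
  rw [Ideal.map_map, ← IsScalarTower.algebraMap_eq]

theorem map_cLoc_eq' (J : Ideal R) :
    (J.map (algebraMap R A)).map (algebraMap A (CLoc I f)) = J.map (algebraMap R (CLoc I f)) := by
  rw [Ideal.map_map, ← IsScalarTower.algebraMap_eq]

theorem map_away_eq (J : Ideal R) :
    (J.map (algebraMap R A)).map (algebraMap A (Localization.Away f)) =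
      J.map (algebraMap R (Localization.Away f)) := by
  rw [Ideal.map_map, ← IsScalarTower.algebraMap_eq]

theorem topFiniteType_cLoc (hI : I.FG) (hA : TopFiniteType R I A) :
    TopFiniteType R I (CLoc I f) := by
  obtain ⟨n, a, ha⟩ := exists_gens_of_topFiniteType R I A hI hA
  have hc := isAdicComplete_cLoc R I A f hI
  set ι := algebraMap (Localization.Away f) (CLoc I f) with hι
  set inv : Localization.Away f := IsLocalization.Away.invSelf f with hinv
  let b : Fin (n + 1) → CLoc I f :=
    Fin.cons (ι inv) (fun i => algebraMap A (CLoc I f) (a i))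
  refine topFiniteType_of_gens R I (CLoc I f) hI b ?_
  intro x
  obtain ⟨y, hy⟩ := TateTrunc.exists_sub_mem_map_pow
    (I.map (algebraMap R (Localization.Away f))) (hI.map _) 1 x
  rw [pow_one, map_cLoc_eq] at hy
  obtain ⟨⟨a', ⟨_, m, rfl⟩⟩, hy2⟩ := IsLocalization.surj (Submonoid.powers f) y
  simp only at hy2
  obtain ⟨p, hp⟩ := ha a'
  refine ⟨rename Fin.succ p * X 0 ^ m, ?_⟩
  have hunit : algebraMap A (Localization.Away f) f * inv = 1 :=
    IsLocalization.Away.mul_invSelf f
  have hy3 : y = algebraMap A (Localization.Away f) a' * inv ^ m := by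
    rw [← hy2, map_pow, mul_assoc, ← mul_pow, hunit, one_pow, mul_one]
  have hb : aeval b (rename Fin.succ p * X 0 ^ m) =
      ι (algebraMap A (Localization.Away f) (aeval a p) * inv ^ m) := by
    rw [map_mul, map_pow, aeval_X, aeval_rename, map_mul, map_pow]
    have h1 : b 0 = ι inv := rfl
    have h2 : (b ∘ Fin.succ) = fun i => algebraMap A (CLoc I f) (a i) := by
      funext i
      simp [b]
    rw [h1, h2]
    congr 1
    rw [← IsScalarTower.algebraMap_apply]
    have := comp_aeval_apply (R := R) (f := a) (IsScalarTower.toAlgHom R A (CLoc I f)) p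
    simpa using this.symm
  rw [hb]
  have h4 : x - ι (algebraMap A (Localization.Away f) (aeval a p) * inv ^ m) =
      (x - ι y) + ι (algebraMap A (Localization.Away f) (a' - aeval a p) * inv ^ m) := by
    rw [hy3, map_sub, sub_mul, map_sub]
    ring
  rw [h4]
  refine Ideal.add_mem _ hy ?_
  rw [← map_cLoc_eq']
  rw [IsScalarTower.algebraMap_eq A (Localization.Away f) (CLoc I f), ← Ideal.map_map]
  apply Ideal.mem_map_of_mem
  apply Ideal.mul_mem_right
  exact Ideal.mem_map_of_mem _ hp

theorem mem_smul_top_cLoc (k : ℕ) (x : CLoc I f) :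
    x ∈ ((I ^ k).map (algebraMap R A)) • (⊤ : Submodule A (CLoc I f)) ↔
      x ∈ ((I.map (algebraMap R (Localization.Away f))) ^ k).map
        (algebraMap (Localization.Away f) (CLoc I f)) := by
  rw [Ideal.smul_top_eq_map, ← Ideal.map_pow, map_cLoc_eq, ← map_cLoc_eq' R I A f]
  rfl

theorem mem_smul_top_away (k : ℕ) (x : Localization.Away f) :
    x ∈ ((I ^ k).map (algebraMap R A)) • (⊤ : Submodule A (Localization.Away f)) ↔
      x ∈ (I.map (algebraMap R (Localization.Away f))) ^ k := by
  rw [Ideal.smul_top_eq_map, ← Ideal.map_pow, ← map_away_eq R A f]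
  rfl

theorem bijective_lTensor_cLoc (hI : I.FG) (k : ℕ) :
    Function.Bijective (((IsScalarTower.toAlgHom A (Localization.Away f)
      (CLoc I f)).toLinearMap).lTensor (A ⧸ (I ^ k).map (algebraMap R A))) := by
  apply bijective_lTensor_quotient
  · intro y
    obtain ⟨x, hx⟩ := TateTrunc.exists_sub_mem_map_pow
      (I.map (algebraMap R (Localization.Away f))) (hI.map _) k y
    refine ⟨x, ?_⟩
    rw [mem_smul_top_cLoc]
    exact hx
  · intro x hx
    rw [mem_smul_top_cLoc] at hx
    rw [mem_smul_top_away]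
    exact TateTrunc.mem_pow_of_algebraMap_mem _ (hI.map _) k x hx

theorem isBase_fg (hR : AdicRing.IsBase R I) : I.FG := by
  obtain ⟨hc, h | h⟩ := hR
  · obtain ⟨hN, -⟩ := h
    exact IsNoetherian.noetherian I
  · obtain ⟨-, -, -, t, -, rfl⟩ := h
    exact ⟨{t}, by simp⟩

theorem flat_cLoc (hR : IsBase R I) (hA : TopFiniteType R I A) : Module.Flat A (CLoc I f) := by
  have hI := isBase_fg R I hR
  rw [Groth.Agent.S11531.result R I hR A hA (CLoc I f) (topFiniteType_cLoc R I A f hI hA)
    (CLoc I f)]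
  intro n
  exact flat_quot_tensor_of_bijective _ _ (bijective_lTensor_cLoc R I A f hI (n + 1))

theorem exists_ringHom_cLoc (m : Ideal A) [hm : m.IsMaximal]
    (hIm : I.map (algebraMap R A) ≤ m) (hf : f ∉ m) :
    ∃ χ : CLoc I f →+* A ⧸ m, χ.comp (algebraMap A (CLoc I f)) = Ideal.Quotient.mk m := by
  let _ := Ideal.Quotient.field m
  have hu : IsUnit (Ideal.Quotient.mk m f) := by
    rw [isUnit_iff_ne_zero, Ne, Ideal.Quotient.eq_zero_iff_mem]
    exact hf
  let g : Localization.Away f →+* A ⧸ m := IsLocalization.Away.lift f hu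
  have hg : ∀ a : A, g (algebraMap A (Localization.Away f) a) = Ideal.Quotient.mk m a :=
    fun a => IsLocalization.Away.lift_eq f hu a
  have hK : I.map (algebraMap R (Localization.Away f)) ≤ RingHom.ker g := by
    rw [← map_away_eq, Ideal.map_le_iff_le_comap]
    intro a ha
    rw [Ideal.mem_comap, RingHom.mem_ker, hg, Ideal.Quotient.eq_zero_iff_mem]
    exact hIm ha
  let g' : Localization.Away f ⧸ (I.map (algebraMap R (Localization.Away f))) ^ 1 →+* A ⧸ m :=
    Ideal.Quotient.lift _ g (by
      intro a ha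
      rw [pow_one] at ha
      exact hK ha)
  refine ⟨g'.comp (AdicCompletion.evalₐ (I.map (algebraMap R (Localization.Away f))) 1).toRingHom,
    ?_⟩
  ext a
  simp only [RingHom.comp_apply, AlgHom.toRingHom_eq_coe, RingHom.coe_coe]
  rw [IsScalarTower.algebraMap_apply A (Localization.Away f) (CLoc I f),
    AdicCompletion.algebraMap_apply, Algebra.algebraMap_self_apply, AdicCompletion.evalₐ_of]
  simp only [g', Ideal.Quotient.lift_mk]
  exact hg a

theorem isAdicComplete_of_topFiniteType (hR : IsBase R I) (hA : TopFiniteType R I A) :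
    IsAdicComplete (I.map (algebraMap R A)) A :=
  (IsAdicComplete.map_algebraMap_iff (R := R) (S := A) I A).mpr
    (Groth.Agent.S11529.result R I hR A hA A)

theorem faithfullyFlat_pi_cLoc (hR : IsBase R I) (hA : TopFiniteType R I A) (r : ℕ)
    (f : Fin r → A) (hf : Ideal.span (Set.range f) = ⊤) :
    Module.FaithfullyFlat A (∀ i, CLoc I (f i)) := by
  have hI := isBase_fg R I hR
  have hflat : ∀ i, Module.Flat A (CLoc I (f i)) := fun i => flat_cLoc R I A (f i) hR hA
  have hpi : Module.Flat A (∀ i, CLoc I (f i)) := by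
    classical
    exact Module.Flat.of_linearEquiv
      (DFinsupp.linearEquivFunOnFintype (R := A) (M := fun i => CLoc I (f i))).symm
  have hc : IsAdicComplete (I.map (algebraMap R A)) A :=
    isAdicComplete_of_topFiniteType R I A hR hA
  refine { toFlat := hpi, submodule_ne_top := ?_ }
  intro m hm htop
  have hIm : I.map (algebraMap R A) ≤ m :=
    le_trans (IsAdicComplete.le_jacobson_bot _) (sInf_le ⟨bot_le, hm⟩)
  obtain ⟨i, hi⟩ : ∃ i, f i ∉ m := by
    by_contra hcon
    push Not at hcon
    have : Ideal.span (Set.range f) ≤ m :=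
      Ideal.span_le.mpr (by rintro _ ⟨i, rfl⟩; exact hcon i)
    rw [hf] at this
    exact hm.ne_top (top_le_iff.mp this)
  obtain ⟨χ, hχ⟩ := exists_ringHom_cLoc R I A (f i) m hIm hi
  have h1 : ∀ x ∈ m • (⊤ : Submodule A (∀ i, CLoc I (f i))), χ (x i) = 0 := by
    intro x hx
    refine Submodule.smul_induction_on (p := fun x => χ (x i) = 0) hx ?_ ?_
    · intro a ha y _
      change χ ((a • y) i) = 0
      rw [Pi.smul_apply, Algebra.smul_def, map_mul, ← RingHom.comp_apply, hχ,
        Ideal.Quotient.eq_zero_iff_mem.mpr ha, zero_mul]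
    · intro x y hx hy
      change χ ((x + y) i) = 0
      rw [Pi.add_apply, map_add, hx, hy, add_zero]
  have h2 := h1 1 (by rw [htop]; trivial)
  rw [Pi.one_apply, map_one] at h2
  have : Nontrivial (A ⧸ m) := Ideal.Quotient.nontrivial_iff.mpr hm.ne_top
  exact one_ne_zero h2

end cloc

end Groth.Agent.Lib.Helper28.TateCLoc
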