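import Groth.Prelude.Def_FSch3
import Groth.Agent.Lib.Helper28TateCLoc
import Groth.Agent.Lib.Helper19ComplNoeth
import Groth.Agent.Lib.Helper5LocalFlat3
import Groth.Agent.Lib.Helper19ComplDim2

/-!
# The stalk ring `A_{S}` of a formal spectrum (helper28)

`FSch.complMap` API, flatness of completed localizations (EGA 0_I 7.6).
-/

set_option autoImplicit false
universe u
open TensorProduct

namespace Groth.Agent.Lib.Helper28.StalkRing


section complMap

variable {S T U : Type u} [CommRing S] [CommRing T] [CommRing U]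
  (I : Ideal S) (K : Ideal T) (L : Ideal U) (g : S →+* T) (g' : T →+* U)

theorem evalₐ_complMap (h : I.map g ≤ K) (n : ℕ) (x : AdicCompletion I S) :
    AdicCompletion.evalₐ K n (FSch.complMap I K g h x) =
      Ideal.quotientMap (K ^ n) g (FSch.pow_le_comap_pow_of_map_le I K g h n)
        (AdicCompletion.evalₐ I n x) := by
  unfold FSch.complMap
  generalize_proofs
  rw [AdicCompletion.evalₐ_liftRingHom]
  · rfl
  · assumption

theorem complMap_of (h : I.map g ≤ K) (x : S) :
    FSch.complMap I K g h (algebraMap S (AdicCompletion I S) x) =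
      algebraMap T (AdicCompletion K T) (g x) := by
  apply AdicCompletion.ext_evalₐ
  intro n
  rw [evalₐ_complMap, AdicCompletion.algebraMap_apply, AdicCompletion.algebraMap_apply,
    Algebra.algebraMap_self_apply, Algebra.algebraMap_self_apply, AdicCompletion.evalₐ_of,
    AdicCompletion.evalₐ_of, Ideal.quotientMap_mk]

theorem complMap_comp (h : I.map g ≤ K) (h' : K.map g' ≤ L) (h'' : I.map (g'.comp g) ≤ L)
    (x : AdicCompletion I S) :
    FSch.complMap K L g' h' (FSch.complMap I K g h x) = FSch.complMap I L (g'.comp g) h'' x := by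
  apply AdicCompletion.ext_evalₐ
  intro n
  rw [evalₐ_complMap, evalₐ_complMap, evalₐ_complMap]
  obtain ⟨y, hy⟩ := Ideal.Quotient.mk_surjective (AdicCompletion.evalₐ I n x)
  rw [← hy, Ideal.quotientMap_mk, Ideal.quotientMap_mk, Ideal.quotientMap_mk]
  rfl

end complMap



theorem mem_smul_top_iff {R S : Type*} [CommRing R] [CommRing S] [Algebra R S] (I : Ideal R)
    (x : S) : x ∈ I • (⊤ : Submodule R S) ↔ x ∈ I.map (algebraMap R S) := by
  rw [Ideal.smul_top_eq_map]
  rfl

/-- local criterion, complete form -/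
theorem flat_of_flat_quotient_pow_of_le_jacobson {A B : Type u} [CommRing A] [CommRing B]
    [Algebra A B] [IsNoetherianRing A] [IsNoetherianRing B] (I : Ideal A)
    (hjac : I.map (algebraMap A B) ≤ (⊥ : Ideal B).jacobson)
    (h : ∀ n : ℕ, 0 < n → Module.Flat (A ⧸ I ^ n) ((A ⧸ I ^ n) ⊗[A] B)) :
    Module.Flat A B := by
  rw [Module.Flat.iff_lTensor_injective']
  intro J
  rw [injective_iff_map_eq_zero]
  intro z hz
  obtain ⟨⟨r, hr⟩, hrz⟩ :=
    Groth.Agent.Lib.Helper5.exists_smul_eq_self_of_lTensor_eq_zero (B := B) B I h J z hz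
  have hu : IsUnit (1 - r) := by
    have := (Ideal.mem_jacobson_bot.mp (hjac hr)) (-1)
    have e : r * -1 + 1 = 1 - r := by ring
    rwa [e] at this
  have h0 : (1 - r) • z = 0 := by
    have e1 : ((1 - r) + r) • z = (1 - r) • z + r • z := add_smul _ _ _
    have hrz' : r • z = z := hrz
    rw [sub_add_cancel, one_smul, hrz'] at e1
    exact right_eq_add.mp e1
  obtain ⟨u, hu'⟩ := hu
  have h1 : ((u⁻¹ : Bˣ) : B) • ((u : B) • z) = z := by
    rw [smul_smul, Units.inv_mul, one_smul]
  rw [← h1, hu', h0, smul_zero]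



section flat

variable {S T : Type u} [CommRing S] [CommRing T] [IsNoetherianRing S] [IsNoetherianRing T]
  (I : Ideal S) (g : S →+* T)

omit [IsNoetherianRing S] [IsNoetherianRing T] in
theorem map_map_complMap :
    (I.map (algebraMap S (AdicCompletion I S))).map (FSch.complMap I (I.map g) g le_rfl) =
      (I.map g).map (algebraMap T (AdicCompletion (I.map g) T)) := by
  rw [Ideal.map_map, Ideal.map_map]
  congr 1

theorem evalₐ_eq_zero_iff {P : Type*} [CommRing P] (J : Ideal P) (k : ℕ) (x : AdicCompletion J P) :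
    AdicCompletion.evalₐ J k x = 0 ↔ AdicCompletion.eval J P k x = 0 := by
  constructor
  · intro h
    have h1 : J ^ k ≤ J ^ k • (⊤ : Ideal P) := by
      rw [smul_eq_mul, Ideal.mul_top]
    rw [← AdicCompletion.factor_evalₐ_eq_eval J x h1, h, map_zero]
  · intro h
    have h1 : J ^ k • (⊤ : Ideal P) ≤ J ^ k := by
      rw [smul_eq_mul, Ideal.mul_top]
    rw [← AdicCompletion.factor_eval_eq_evalₐ J x h1, h, map_zero]

theorem mem_map_pow_iff_evalₐ {P : Type*} [CommRing P] (J : Ideal P) (hJ : J.FG) (k : ℕ)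
    (x : AdicCompletion J P) :
    x ∈ (J ^ k).map (algebraMap P (AdicCompletion J P)) ↔ AdicCompletion.evalₐ J k x = 0 := by
  rw [Groth.Agent.Lib.Helper28.TateTrunc.mem_map_pow_iff_eval J hJ, evalₐ_eq_zero_iff]

theorem flat_complMap
    (hsurj : ∀ t : T, ∃ m s : S, IsUnit (g m) ∧ t * g m = g s)
    (hinj : ∀ (n : ℕ) (s : S), g s ∈ (I.map g) ^ n → ∃ m : S, IsUnit (g m) ∧ m * s ∈ I ^ n) :
    (FSch.complMap I (I.map g) g le_rfl).Flat := by
  have hIfg : I.FG := IsNoetherian.noetherian I
  have hKfg : (I.map g).FG := hIfg.map g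
  have hNS : IsNoetherianRing (AdicCompletion I S) :=
    Groth.Agent.Lib.Helper19.isNoetherianRing_adicCompletion I
  have hNT : IsNoetherianRing (AdicCompletion (I.map g) T) :=
    Groth.Agent.Lib.Helper19.isNoetherianRing_adicCompletion (I.map g)
  letI alg : Algebra (AdicCompletion I S) (AdicCompletion (I.map g) T) :=
    (FSch.complMap I (I.map g) g le_rfl).toAlgebra
  have halg : ∀ x, algebraMap (AdicCompletion I S) (AdicCompletion (I.map g) T) x =
      FSch.complMap I (I.map g) g le_rfl x := fun x => rfl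
  have hmap : (I.map (algebraMap S (AdicCompletion I S))).map
      (algebraMap (AdicCompletion I S) (AdicCompletion (I.map g) T)) =
      (I.map g).map (algebraMap T (AdicCompletion (I.map g) T)) := map_map_complMap I g
  have hmapn : ∀ n : ℕ, ((I.map (algebraMap S (AdicCompletion I S))) ^ n).map
      (algebraMap (AdicCompletion I S) (AdicCompletion (I.map g) T)) =
      ((I.map g) ^ n).map (algebraMap T (AdicCompletion (I.map g) T)) := by
    intro n
    rw [Ideal.map_pow, hmap, Ideal.map_pow]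
  change Module.Flat (AdicCompletion I S) (AdicCompletion (I.map g) T)
  apply flat_of_flat_quotient_pow_of_le_jacobson (I.map (algebraMap S (AdicCompletion I S)))
  · rw [hmap]
    haveI := AdicCompletion.isAdicComplete_self (I.map g) hKfg
    exact IsAdicComplete.le_jacobson_bot _
  intro n _
  -- the localization of the completion at the elements becoming units
  let Mhat : Submonoid (AdicCompletion I S) :=
    (IsUnit.submonoid (AdicCompletion (I.map g) T)).comap (FSch.complMap I (I.map g) g le_rfl)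
  let ℓ : Localization Mhat →ₐ[AdicCompletion I S] AdicCompletion (I.map g) T :=
    IsLocalization.liftAlgHom (M := Mhat)
      (f := Algebra.ofId (AdicCompletion I S) (AdicCompletion (I.map g) T))
      (fun y => y.2)
  have hℓ : ∀ (a : AdicCompletion I S) (b : Mhat),
      ℓ (IsLocalization.mk' (Localization Mhat) a b) * FSch.complMap I (I.map g) g le_rfl b =
        FSch.complMap I (I.map g) g le_rfl a := by
    intro a b
    have h1 : ℓ (IsLocalization.mk' (Localization Mhat) a b) *
        ℓ (algebraMap _ (Localization Mhat) (b : AdicCompletion I S)) =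
        ℓ (algebraMap _ (Localization Mhat) a) := by
      rw [← map_mul, IsLocalization.mk'_spec]
    rw [AlgHom.commutes, AlgHom.commutes] at h1
    exact h1
  have hunit : ∀ m : S, IsUnit (g m) → algebraMap S (AdicCompletion I S) m ∈ Mhat := by
    intro m hm
    change IsUnit (FSch.complMap I (I.map g) g le_rfl (algebraMap S (AdicCompletion I S) m))
    rw [complMap_of]
    exact hm.map _
  refine Groth.Agent.Lib.Helper28.TateCLoc.flat_quot_tensor_of_bijective
    ((I.map (algebraMap S (AdicCompletion I S))) ^ n) ℓ.toLinearMap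
    (Groth.Agent.Lib.Helper28.TateCLoc.bijective_lTensor_quotient _ ℓ.toLinearMap ?_ ?_)
  · -- surjectivity modulo
    intro y
    obtain ⟨t, ht⟩ := Groth.Agent.Lib.Helper28.TateTrunc.exists_sub_mem_map_pow (I.map g) hKfg n y
    obtain ⟨m, s, hm, hts⟩ := hsurj t
    refine ⟨IsLocalization.mk' (Localization Mhat) (algebraMap S (AdicCompletion I S) s)
      ⟨algebraMap S (AdicCompletion I S) m, hunit m hm⟩, ?_⟩
    have h1 := hℓ (algebraMap S (AdicCompletion I S) s)
      ⟨algebraMap S (AdicCompletion I S) m, hunit m hm⟩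
    rw [complMap_of, complMap_of, ← hts, map_mul] at h1
    have h2 : ℓ (IsLocalization.mk' (Localization Mhat) (algebraMap S (AdicCompletion I S) s)
        ⟨algebraMap S (AdicCompletion I S) m, hunit m hm⟩) =
        algebraMap T (AdicCompletion (I.map g) T) t :=
      (hm.map (algebraMap T (AdicCompletion (I.map g) T))).mul_left_injective h1
    rw [mem_smul_top_iff, hmapn, AlgHom.toLinearMap_apply, h2]
    exact ht
  · -- injectivity modulo
    intro x hx
    obtain ⟨a, b, rfl⟩ := IsLocalization.exists_mk'_eq Mhat x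
    rw [mem_smul_top_iff, hmapn, AlgHom.toLinearMap_apply] at hx
    have h1 := hℓ a b
    have h2 : FSch.complMap I (I.map g) g le_rfl a ∈
        ((I.map g) ^ n).map (algebraMap T (AdicCompletion (I.map g) T)) := by
      rw [← h1]
      exact Ideal.mul_mem_right _ _ hx
    rw [mem_map_pow_iff_evalₐ (I.map g) hKfg, evalₐ_complMap] at h2
    obtain ⟨s, hs⟩ := Ideal.Quotient.mk_surjective (AdicCompletion.evalₐ I n a)
    rw [← hs, Ideal.quotientMap_mk, Ideal.Quotient.eq_zero_iff_mem] at h2
    obtain ⟨m, hm, hms⟩ := hinj n s h2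
    have h3 : algebraMap S (AdicCompletion I S) m * a ∈
        (I ^ n).map (algebraMap S (AdicCompletion I S)) := by
      rw [mem_map_pow_iff_evalₐ I hIfg, map_mul, ← hs, AdicCompletion.algebraMap_apply,
        Algebra.algebraMap_self_apply, AdicCompletion.evalₐ_of, ← map_mul,
        Ideal.Quotient.eq_zero_iff_mem]
      exact hms
    rw [← Ideal.map_pow] 
    rw [mem_smul_top_iff]
    have h4 : IsLocalization.mk' (Localization Mhat) a b =
        algebraMap _ (Localization Mhat) (algebraMap S (AdicCompletion I S) m * a) *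
          IsLocalization.mk' (Localization Mhat) 1
            (⟨algebraMap S (AdicCompletion I S) m, hunit m hm⟩ * b) := by
      rw [← IsLocalization.mk'_eq_mul_mk'_one, mul_comm, mul_comm _ b]
      exact (IsLocalization.mk'_cancel a b ⟨algebraMap S (AdicCompletion I S) m, hunit m hm⟩).symm
    rw [h4]
    exact Ideal.mul_mem_right _ _ (Ideal.mem_map_of_mem _ h3)

end flat



section general

/-- A ring is flat over a directed union of images of rings over which it is flat. -/
theorem flat_iSup_range {C : Type u} [CommRing C] {ι : Type*} [Nonempty ι] {Cs : ι → Type u}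
    [∀ i, CommRing (Cs i)] (φ : ∀ i, Cs i →+* C)
    (hdir : Directed (· ≤ ·) (fun i => (φ i).range)) (hflat : ∀ i, (φ i).Flat) :
    Module.Flat (↥(⨆ i, (φ i).range)) C := by
  classical
  apply Module.Flat.of_forall_isTrivialRelation
  intro l f x hfx
  have hmem : ∀ k : Fin l, ∃ i, (f k : C) ∈ (φ i).range := fun k =>
    (Subring.mem_iSup_of_directed hdir).mp (f k).2
  choose idx hidx using hmem
  obtain ⟨z, hz⟩ := hdir.finset_le (Finset.univ.image idx)
  have hmem' : ∀ k : Fin l, ∃ c : Cs z, φ z c = (f k : C) := fun k =>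
    hz (idx k) (Finset.mem_image_of_mem _ (Finset.mem_univ k)) (hidx k)
  choose c hc using hmem'
  letI alg : Algebra (Cs z) C := (φ z).toAlgebra
  have hfl : Module.Flat (Cs z) C := hflat z
  have hrel : ∑ k, c k • x k = 0 := by
    rw [← hfx]
    refine Finset.sum_congr rfl fun k _ => ?_
    change φ z (c k) * x k = (f k : C) * x k
    rw [hc]
  obtain ⟨k', a, y, hxy, hca⟩ := Module.Flat.isTrivialRelation_of_sum_smul_eq_zero (R := Cs z) (M := C) (f := c) (x := x) hrel
  have hle : (φ z).range ≤ ⨆ i, (φ i).range := le_iSup (fun i => (φ i).range) z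
  refine ⟨k', fun i j => ⟨φ z (a i j), hle ⟨a i j, rfl⟩⟩, y, fun i => ?_, fun j => ?_⟩
  · rw [hxy i]
    rfl
  · apply Subtype.ext
    have h1 : ((∑ i, f i * (⟨φ z (a i j), hle ⟨a i j, rfl⟩⟩ : ↥(⨆ i, (φ i).range)) :
        ↥(⨆ i, (φ i).range)) : C) = ∑ i, (f i : C) * φ z (a i j) := by
      rw [← Subring.subtype_apply, map_sum]
      rfl
    rw [h1, Subring.coe_zero]
    have h2 := congrArg (φ z) (hca j)
    rw [map_sum, map_zero] at h2
    rw [← h2]
    refine Finset.sum_congr rfl fun i _ => ?_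
    rw [map_mul, hc]

theorem isUnit_of_isUnit_evalₐ_one {P : Type*} [CommRing P] (J : Ideal P) (hJ : J.FG)
    (x : AdicCompletion J P) (hx : IsUnit (AdicCompletion.evalₐ J 1 x)) : IsUnit x := by
  obtain ⟨u, hu⟩ := hx
  obtain ⟨z, hz⟩ := AdicCompletion.surjective_evalₐ J 1 ((u⁻¹ : (P ⧸ J ^ 1)ˣ) : P ⧸ J ^ 1)
  have h1 : x * z - 1 ∈ (J ^ 1).map (algebraMap P (AdicCompletion J P)) := by
    rw [mem_map_pow_iff_evalₐ J hJ, map_sub, map_mul, map_one, hz, ← hu, Units.mul_inv, sub_self]
  rw [pow_one] at h1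
  have hc := AdicCompletion.isAdicComplete_self J hJ
  have h2 := IsAdicComplete.le_jacobson_bot _ h1
  have h3 := Ideal.mem_jacobson_bot.mp h2 1
  rw [mul_one, sub_add_cancel] at h3
  exact isUnit_of_mul_isUnit_left h3

theorem isNoetherianRing_of_faithfullyFlat (B C : Type*) [CommRing B] [CommRing C] [Algebra B C]
    [Module.FaithfullyFlat B C] [IsNoetherianRing C] : IsNoetherianRing B := by
  rw [isNoetherianRing_iff, isNoetherian_iff'] at *
  have hmono : StrictMono (Ideal.map (algebraMap B C)) :=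
    Monotone.strictMono_of_injective (fun _ _ h => Ideal.map_mono h)
      Ideal.map_injective_of_faithfullyFlat
  exact hmono.wellFoundedGT

end general



section stalk

variable (A : Type u) [CommRing A] (J 𝔭 : Ideal A) [𝔭.IsPrime]

theorem complMap_congr {S T : Type u} [CommRing S] [CommRing T] (I : Ideal S) (K : Ideal T)
    (g₁ g₂ : S →+* T) (h₁ : I.map g₁ ≤ K) (h₂ : I.map g₂ ≤ K) (e : g₁ = g₂)
    (x : AdicCompletion I S) : FSch.complMap I K g₁ h₁ x = FSch.complMap I K g₂ h₂ x := by
  subst e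
  rfl

/-- transition maps between localizations away from elements -/
noncomputable def awayToAway (f f' : A) (hu : IsUnit (algebraMap A (Localization.Away f') f)) :
    Localization.Away f →+* Localization.Away f' :=
  IsLocalization.Away.lift f hu

theorem awayToAway_algebraMap (f f' : A) (hu : IsUnit (algebraMap A (Localization.Away f') f))
    (a : A) : awayToAway A f f' hu (algebraMap A (Localization.Away f) a) =
      algebraMap A (Localization.Away f') a :=
  IsLocalization.Away.lift_eq f hu a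

theorem awayToAtPrime_algebraMap (f : A) (hf : f ∉ 𝔭) (a : A) :
    FSch.awayToAtPrime A 𝔭 f hf (algebraMap A (Localization.Away f) a) =
      algebraMap A (Localization.AtPrime 𝔭) a :=
  IsLocalization.Away.lift_eq f _ a

theorem awayToAtPrime_comp (f f' : A) (hf : f ∉ 𝔭) (hf' : f' ∉ 𝔭)
    (hu : IsUnit (algebraMap A (Localization.Away f') f)) :
    (FSch.awayToAtPrime A 𝔭 f' hf').comp (awayToAway A f f' hu) = FSch.awayToAtPrime A 𝔭 f hf := by
  apply IsLocalization.ringHom_ext (Submonoid.powers f)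
  ext a
  rw [RingHom.comp_apply, RingHom.comp_apply, RingHom.comp_apply, awayToAway_algebraMap,
    awayToAtPrime_algebraMap, awayToAtPrime_algebraMap]

theorem map_awayToAway_le (f f' : A) (hu : IsUnit (algebraMap A (Localization.Away f') f)) :
    (J.map (algebraMap A (Localization.Away f))).map (awayToAway A f f' hu) ≤
      J.map (algebraMap A (Localization.Away f')) := by
  rw [Ideal.map_map]
  apply le_of_eq
  congr 1
  ext a
  exact awayToAway_algebraMap A f f' hu a

noncomputable def cAwayToAway (f f' : A) (hu : IsUnit (algebraMap A (Localization.Away f') f)) :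
    FSch.cAway A J f →+* FSch.cAway A J f' :=
  FSch.complMap _ _ (awayToAway A f f' hu) (map_awayToAway_le A J f f' hu)

theorem cAwayToAtPrime_cAwayToAway (f f' : A) (hf : f ∉ 𝔭) (hf' : f' ∉ 𝔭)
    (hu : IsUnit (algebraMap A (Localization.Away f') f)) (x : FSch.cAway A J f) :
    FSch.cAwayToAtPrime A J 𝔭 f' hf' (cAwayToAway A J f f' hu x) =
      FSch.cAwayToAtPrime A J 𝔭 f hf x := by
  unfold FSch.cAwayToAtPrime cAwayToAway
  rw [complMap_comp _ _ _ _ _ _ _
    ((awayToAtPrime_comp A 𝔭 f f' hf hf' hu).symm ▸ FSch.map_awayToAtPrime_le A J 𝔭 f hf)]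
  exact complMap_congr _ _ _ _ _ _ (awayToAtPrime_comp A 𝔭 f f' hf hf' hu) x

theorem range_le (f f' : A) (hf : f ∉ 𝔭) (hf' : f' ∉ 𝔭)
    (hu : IsUnit (algebraMap A (Localization.Away f') f)) :
    (FSch.cAwayToAtPrime A J 𝔭 f hf).range ≤ (FSch.cAwayToAtPrime A J 𝔭 f' hf').range := by
  rintro _ ⟨x, rfl⟩
  exact ⟨cAwayToAway A J f f' hu x, cAwayToAtPrime_cAwayToAway A J 𝔭 f f' hf hf' hu x⟩

theorem isUnit_left (f g : A) : IsUnit (algebraMap A (Localization.Away (f * g)) f) := by
  have h := IsLocalization.Away.algebraMap_isUnit (S := Localization.Away (f * g)) (f * g)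
  rw [map_mul] at h
  exact isUnit_of_mul_isUnit_left h

theorem isUnit_right (f g : A) : IsUnit (algebraMap A (Localization.Away (f * g)) g) := by
  have h := IsLocalization.Away.algebraMap_isUnit (S := Localization.Away (f * g)) (f * g)
  rw [map_mul] at h
  exact isUnit_of_mul_isUnit_right h

theorem directed_range : Directed (· ≤ ·) (fun f : {f : A // f ∉ 𝔭} =>
    (FSch.cAwayToAtPrime A J 𝔭 f.1 f.2).range) := by
  intro f g
  have hfg : f.1 * g.1 ∉ 𝔭 := fun h => (Ideal.IsPrime.mem_or_mem ‹_› h).elim f.2 g.2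
  exact ⟨⟨f.1 * g.1, hfg⟩, range_le A J 𝔭 f.1 _ f.2 hfg (isUnit_left A f.1 g.1),
    range_le A J 𝔭 g.1 _ g.2 hfg (isUnit_right A f.1 g.1)⟩

instance : Nonempty {f : A // f ∉ 𝔭} := ⟨⟨1, fun h => Ideal.IsPrime.ne_top ‹_› ((Ideal.eq_top_iff_one _).mpr h)⟩⟩

theorem mem_stalkSubring_iff (x : FSch.cAtPrime A J 𝔭) :
    x ∈ FSch.stalkSubring A J 𝔭 ↔ ∃ f : {f : A // f ∉ 𝔭},
      x ∈ (FSch.cAwayToAtPrime A J 𝔭 f.1 f.2).range :=
  Subring.mem_iSup_of_directed (directed_range A J 𝔭)

end stalk



theorem flat_complMap' {S T : Type u} [CommRing S] [CommRing T] [IsNoetherianRing S]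
    [IsNoetherianRing T] (I : Ideal S) (K : Ideal T) (g : S →+* T) (hK : I.map g = K)
    (h : I.map g ≤ K)
    (hsurj : ∀ t : T, ∃ m s : S, IsUnit (g m) ∧ t * g m = g s)
    (hinj : ∀ (n : ℕ) (s : S), g s ∈ K ^ n → ∃ m : S, IsUnit (g m) ∧ m * s ∈ I ^ n) :
    (FSch.complMap I K g h).Flat := by
  subst hK
  exact flat_complMap I g hsurj hinj

section stalk

variable (A : Type u) [CommRing A] (J 𝔭 : Ideal A) [𝔭.IsPrime]

theorem map_awayToAtPrime_eq (f : A) (hf : f ∉ 𝔭) :
    (J.map (algebraMap A (Localization.Away f))).map (FSch.awayToAtPrime A 𝔭 f hf) =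
      J.map (algebraMap A (Localization.AtPrime 𝔭)) := by
  rw [Ideal.map_map]
  congr 1
  ext a
  exact awayToAtPrime_algebraMap A 𝔭 f hf a

theorem flat_cAwayToAtPrime [IsNoetherianRing A] (f : A) (hf : f ∉ 𝔭) :
    (FSch.cAwayToAtPrime A J 𝔭 f hf).Flat := by
  unfold FSch.cAwayToAtPrime
  apply flat_complMap' _ _ _ (map_awayToAtPrime_eq A J 𝔭 f hf)
  · intro t
    obtain ⟨a, s, rfl⟩ := IsLocalization.exists_mk'_eq 𝔭.primeCompl t
    refine ⟨algebraMap A _ (s : A), algebraMap A _ a, ?_, ?_⟩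
    · rw [awayToAtPrime_algebraMap]
      exact IsLocalization.map_units (Localization.AtPrime 𝔭) s
    · rw [awayToAtPrime_algebraMap, awayToAtPrime_algebraMap, IsLocalization.mk'_spec]
  · intro n y hy
    obtain ⟨⟨a, ⟨_, k, rfl⟩⟩, hya⟩ := IsLocalization.surj (Submonoid.powers f) y
    simp only at hya
    have hfk : f ^ k ∈ 𝔭.primeCompl := fun h => hf (Ideal.IsPrime.mem_of_pow_mem ‹_› k h)
    have h1 : algebraMap A (Localization.AtPrime 𝔭) a ∈
        (J ^ n).map (algebraMap A (Localization.AtPrime 𝔭)) := by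
      have h2 := congrArg (FSch.awayToAtPrime A 𝔭 f hf) hya
      rw [map_mul, awayToAtPrime_algebraMap, awayToAtPrime_algebraMap] at h2
      rw [← h2, Ideal.map_pow]
      exact Ideal.mul_mem_right _ _ hy
    rw [IsLocalization.mem_map_algebraMap_iff 𝔭.primeCompl] at h1
    obtain ⟨⟨⟨j, hj⟩, s⟩, hjs⟩ := h1
    simp only at hjs
    rw [← map_mul, IsLocalization.eq_iff_exists 𝔭.primeCompl (Localization.AtPrime 𝔭)] at hjs
    obtain ⟨s', hs'⟩ := hjs
    refine ⟨algebraMap A _ ((s' : A) * s * f ^ k), ?_, ?_⟩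
    · rw [awayToAtPrime_algebraMap]
      exact IsLocalization.map_units (Localization.AtPrime 𝔭) (s' * s * ⟨f ^ k, hfk⟩)
    · have h3 : algebraMap A (Localization.Away f) ((s' : A) * s * f ^ k) * y =
          algebraMap A (Localization.Away f) ((s' : A) * j) := by
        rw [← hs', map_mul, map_mul (algebraMap A (Localization.Away f)) ((s' : A)) (a * s),
          map_mul (algebraMap A (Localization.Away f)) a, ← hya, map_mul]
        ring
      rw [h3, ← Ideal.map_pow]
      exact Ideal.mem_map_of_mem _ (Ideal.mul_mem_left _ _ hj)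

end stalk



section stalk

variable (A : Type u) [CommRing A] (J 𝔭 : Ideal A) [𝔭.IsPrime]

theorem flat_stalkSubring [IsNoetherianRing A] :
    Module.Flat (FSch.stalkSubring A J 𝔭) (FSch.cAtPrime A J 𝔭) :=
  flat_iSup_range (fun f : {f : A // f ∉ 𝔭} => FSch.cAwayToAtPrime A J 𝔭 f.1 f.2)
    (directed_range A J 𝔭) (fun f => flat_cAwayToAtPrime A J 𝔭 f.1 f.2)

theorem evalₐ_cAwayToAtPrime (f : A) (hf : f ∉ 𝔭) (n : ℕ) (x : FSch.cAway A J f) :
    AdicCompletion.evalₐ _ n (FSch.cAwayToAtPrime A J 𝔭 f hf x) =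
      Ideal.quotientMap _ (FSch.awayToAtPrime A 𝔭 f hf)
        (FSch.pow_le_comap_pow_of_map_le _ _ _ (FSch.map_awayToAtPrime_le A J 𝔭 f hf) n)
        (AdicCompletion.evalₐ _ n x) :=
  evalₐ_complMap _ _ _ _ n x

theorem evalₐ_cAwayToAway (f f' : A) (hu : IsUnit (algebraMap A (Localization.Away f') f))
    (n : ℕ) (x : FSch.cAway A J f) :
    AdicCompletion.evalₐ _ n (cAwayToAway A J f f' hu x) =
      Ideal.quotientMap _ (awayToAway A f f' hu)
        (FSch.pow_le_comap_pow_of_map_le _ _ _ (map_awayToAway_le A J f f' hu) n)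
        (AdicCompletion.evalₐ _ n x) :=
  evalₐ_complMap _ _ _ _ n x

/-- Elements of the stalk ring that are units in the completed local ring are units of the
stalk ring. -/
theorem exists_mul_eq_one [IsNoetherianRing A] (hJ : J ≤ 𝔭) (b : FSch.stalkSubring A J 𝔭)
    (hb : IsUnit (b : FSch.cAtPrime A J 𝔭)) : ∃ b' : FSch.stalkSubring A J 𝔭, b * b' = 1 := by
  obtain ⟨b, hbmem⟩ := b
  obtain ⟨⟨f, hf⟩, b', rfl⟩ := (mem_stalkSubring_iff A J 𝔭 b).mp hbmem
  simp only at hb
  obtain ⟨y, hy⟩ := Ideal.Quotient.mk_surjective (AdicCompletion.evalₐ _ 1 b')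
  obtain ⟨⟨a, ⟨_, k, rfl⟩⟩, hya⟩ := IsLocalization.surj (Submonoid.powers f) y
  simp only at hya
  -- `a ∉ 𝔭`
  have h1 : IsUnit (FSch.awayToAtPrime A 𝔭 f hf y) := by
    have h2 := hb.map (AdicCompletion.evalₐ (J.map (algebraMap A (Localization.AtPrime 𝔭))) 1)
    rw [evalₐ_cAwayToAtPrime, ← hy, Ideal.quotientMap_mk] at h2
    by_contra hnu
    have hmem : FSch.awayToAtPrime A 𝔭 f hf y ∈
        IsLocalRing.maximalIdeal (Localization.AtPrime 𝔭) := (IsLocalRing.mem_maximalIdeal _).mpr hnu
    obtain ⟨w, hw⟩ := h2.exists_right_inv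
    obtain ⟨w, rfl⟩ := Ideal.Quotient.mk_surjective w
    rw [← map_mul, ← map_one (Ideal.Quotient.mk _), Ideal.Quotient.eq, pow_one] at hw
    have hle : J.map (algebraMap A (Localization.AtPrime 𝔭)) ≤
        IsLocalRing.maximalIdeal (Localization.AtPrime 𝔭) := by
      rw [← Localization.AtPrime.map_eq_maximalIdeal]
      exact Ideal.map_mono hJ
    have h3 := Ideal.sub_mem _ (Ideal.mul_mem_right w _ hmem) (hle hw)
    rw [sub_sub_cancel] at h3
    exact (IsLocalRing.maximalIdeal.isMaximal _).ne_top ((Ideal.eq_top_iff_one _).mpr h3)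
  have ha : a ∉ 𝔭 := by
    have h2 := congrArg (FSch.awayToAtPrime A 𝔭 f hf) hya
    rw [map_mul, awayToAtPrime_algebraMap, awayToAtPrime_algebraMap] at h2
    have hfk : f ^ k ∈ 𝔭.primeCompl := fun h => hf (Ideal.IsPrime.mem_of_pow_mem ‹_› k h)
    have h3 : IsUnit (algebraMap A (Localization.AtPrime 𝔭) a) := by
      rw [← h2]
      exact h1.mul (IsLocalization.map_units (Localization.AtPrime 𝔭) ⟨f ^ k, hfk⟩)
    exact (IsLocalization.AtPrime.isUnit_to_map_iff (Localization.AtPrime 𝔭) 𝔭 a).mp h3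
  have hfa : f * a ∉ 𝔭 := fun h => (Ideal.IsPrime.mem_or_mem ‹_› h).elim hf ha
  -- pass to `A_{fa}`
  have hunit : IsUnit (cAwayToAway A J f (f * a) (isUnit_left A f a) b') := by
    refine isUnit_of_isUnit_evalₐ_one (P := Localization.Away (f * a))
      (J.map (algebraMap A (Localization.Away (f * a)))) (Ideal.FG.map (IsNoetherian.noetherian J) _) _ ?_
    rw [evalₐ_cAwayToAway, ← hy, Ideal.quotientMap_mk]
    apply IsUnit.map
    have h2 := congrArg (awayToAway A f (f * a) (isUnit_left A f a)) hya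
    rw [map_mul, awayToAway_algebraMap, awayToAway_algebraMap] at h2
    have h3 : IsUnit (awayToAway A f (f * a) (isUnit_left A f a) y *
        algebraMap A (Localization.Away (f * a)) (f ^ k)) := by
      rw [h2]
      exact isUnit_right A f a
    exact isUnit_of_mul_isUnit_left h3
  obtain ⟨u, hu⟩ := hunit
  have hmem' : FSch.cAwayToAtPrime A J 𝔭 (f * a) hfa ((u⁻¹ : (FSch.cAway A J (f * a))ˣ) :
      FSch.cAway A J (f * a)) ∈ FSch.stalkSubring A J 𝔭 :=
    (mem_stalkSubring_iff A J 𝔭 _).mpr ⟨⟨f * a, hfa⟩, _, rfl⟩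
  refine ⟨⟨_, hmem'⟩, Subtype.ext ?_⟩
  change FSch.cAwayToAtPrime A J 𝔭 f hf b' * _ = 1
  rw [← cAwayToAtPrime_cAwayToAway A J 𝔭 f (f * a) hf hfa (isUnit_left A f a), ← hu, ← map_mul,
    Units.mul_inv, map_one]

end stalk



section stalk

variable (A : Type u) [CommRing A] (J 𝔭 : Ideal A) [𝔭.IsPrime]

theorem isLocalRing_cAtPrime [IsNoetherianRing A] (hJ : J ≤ 𝔭) :
    IsLocalRing (FSch.cAtPrime A J 𝔭) := by
  apply Groth.Agent.Lib.Helper19.isLocalRing_adicCompletion (Localization.AtPrime 𝔭)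
  intro htop
  have hle : J.map (algebraMap A (Localization.AtPrime 𝔭)) ≤
      IsLocalRing.maximalIdeal (Localization.AtPrime 𝔭) := by
    rw [← Localization.AtPrime.map_eq_maximalIdeal]
    exact Ideal.map_mono hJ
  rw [htop, top_le_iff] at hle
  exact (IsLocalRing.maximalIdeal.isMaximal _).ne_top hle

theorem isLocalHom_stalkSubring [IsNoetherianRing A] (hJ : J ≤ 𝔭) :
    IsLocalHom (algebraMap (FSch.stalkSubring A J 𝔭) (FSch.cAtPrime A J 𝔭)) := by
  constructor
  intro b hb
  obtain ⟨b', h⟩ := exists_mul_eq_one A J 𝔭 hJ b hb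
  exact IsUnit.of_mul_eq_one b' h

theorem faithfullyFlat_stalkSubring [IsNoetherianRing A] (hJ : J ≤ 𝔭) :
    Module.FaithfullyFlat (FSch.stalkSubring A J 𝔭) (FSch.cAtPrime A J 𝔭) := by
  haveI := isLocalRing_cAtPrime A J 𝔭 hJ
  haveI := isLocalHom_stalkSubring A J 𝔭 hJ
  haveI : IsLocalRing (FSch.stalkSubring A J 𝔭) :=
    (algebraMap (FSch.stalkSubring A J 𝔭) (FSch.cAtPrime A J 𝔭)).domain_isLocalRing
  haveI := flat_stalkSubring A J 𝔭
  exact Module.FaithfullyFlat.of_flat_of_isLocalHom

theorem isNoetherianRing_stalkSubring [IsNoetherianRing A] (hJ : J ≤ 𝔭) :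
    IsNoetherianRing (FSch.stalkSubring A J 𝔭) := by
  haveI := faithfullyFlat_stalkSubring A J 𝔭 hJ
  haveI : IsNoetherianRing (FSch.cAtPrime A J 𝔭) :=
    Groth.Agent.Lib.Helper19.isNoetherianRing_adicCompletion _
  exact isNoetherianRing_of_faithfullyFlat (FSch.stalkSubring A J 𝔭) (FSch.cAtPrime A J 𝔭)

theorem flat_codRestrict_stalkSubring [IsNoetherianRing A] (hJ : J ≤ 𝔭)
    (h : ∀ a : A, ((algebraMap (Localization.AtPrime 𝔭) (FSch.cAtPrime A J 𝔭)).comp
      (algebraMap A (Localization.AtPrime 𝔭))) a ∈ FSch.stalkSubring A J 𝔭) :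
    (((algebraMap (Localization.AtPrime 𝔭) (FSch.cAtPrime A J 𝔭)).comp
      (algebraMap A (Localization.AtPrime 𝔭))).codRestrict (FSch.stalkSubring A J 𝔭) h).Flat := by
  haveI := faithfullyFlat_stalkSubring A J 𝔭 hJ
  letI alg : Algebra A (FSch.stalkSubring A J 𝔭) := RingHom.toAlgebra
    (((algebraMap (Localization.AtPrime 𝔭) (FSch.cAtPrime A J 𝔭)).comp
      (algebraMap A (Localization.AtPrime 𝔭))).codRestrict (FSch.stalkSubring A J 𝔭) h)
  change Module.Flat A (FSch.stalkSubring A J 𝔭)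
  haveI : IsScalarTower A (FSch.stalkSubring A J 𝔭) (FSch.cAtPrime A J 𝔭) :=
    IsScalarTower.of_algebraMap_eq fun a => by
      rw [IsScalarTower.algebraMap_apply A (Localization.AtPrime 𝔭) (FSch.cAtPrime A J 𝔭)]
      rfl
  haveI : Module.Flat A (FSch.cAtPrime A J 𝔭) :=
    Module.Flat.trans A (Localization.AtPrime 𝔭) (FSch.cAtPrime A J 𝔭)
  exact Groth.Agent.Lib.Helper5.flat_of_faithfullyFlat_of_flat (R := A)
    (S := FSch.stalkSubring A J 𝔭) (M := FSch.cAtPrime A J 𝔭)

end stalk


end Groth.Agent.Lib.Helper28.StalkRing
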