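import Mathlib
import Groth.Prelude.Def_FSch3
import Groth.Agent.Lib.Helper28StalkRing
import Groth.Agent.Lib.Helper19Normalization

/-!
# Completions of local homomorphisms with finite closed fibre (helper22)
-/

set_option autoImplicit false
set_option linter.style.haveILetI false
universe u

open Groth.Agent.Lib.Helper28.StalkRing TensorProduct

namespace Groth.Agent.Lib.Helper22.ComplFin

section bij

variable {S : Type u} [CommRing S] (I K : Ideal S)

theorem mem_pow_of_mem_pow {k : ℕ} (hk : K ^ k ≤ I) (n : ℕ) {s : S} (hs : s ∈ K ^ (k * n + n)) :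
    s ∈ I ^ n := by
  have h1 : K ^ (k * n + n) ≤ K ^ (k * n) := Ideal.pow_le_pow_right (Nat.le_add_right _ _)
  have h2 : K ^ (k * n) ≤ I ^ n := by
    rw [pow_mul]
    exact Ideal.pow_right_mono hk n
  exact h2 (h1 hs)

theorem evalₐ_mk' (n : ℕ) (c : AdicCompletion.AdicCauchySequence I S) :
    AdicCompletion.evalₐ I n (AdicCompletion.mk I S c) = Ideal.Quotient.mk (I ^ n) (c n) :=
  AdicCompletion.evalₐ_mk I n c

theorem cauchy_sub_mem (c : AdicCompletion.AdicCauchySequence I S) {m n : ℕ} (hmn : m ≤ n) :
    c m - c n ∈ I ^ m := by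
  have h := c.property hmn
  rw [SModEq.sub_mem] at h
  simpa using h

theorem complMap_id_bijective (h' : I.map (RingHom.id S) ≤ K) (k : ℕ) (hk : K ^ k ≤ I) :
    Function.Bijective (FSch.complMap I K (RingHom.id S) h') := by
  constructor
  · rw [injective_iff_map_eq_zero]
    intro x hx
    obtain ⟨c, rfl⟩ := AdicCompletion.mk_surjective I S x
    apply AdicCompletion.ext_evalₐ
    intro n
    rw [map_zero, evalₐ_mk']
    have h1 := congrArg (AdicCompletion.evalₐ K (k * n + n)) hx
    rw [evalₐ_complMap, evalₐ_mk', Ideal.quotientMap_mk, map_zero, RingHom.id_apply,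
      Ideal.Quotient.eq_zero_iff_mem] at h1
    have h2 : c (k * n + n) ∈ I ^ n := mem_pow_of_mem_pow I K hk n h1
    have h3 : c n - c (k * n + n) ∈ I ^ n := cauchy_sub_mem I c (Nat.le_add_left _ _)
    rw [Ideal.Quotient.eq_zero_iff_mem]
    have := Ideal.add_mem _ h3 h2
    rwa [sub_add_cancel] at this
  · intro y
    obtain ⟨d, rfl⟩ := AdicCompletion.mk_surjective K S y
    have hc : ∀ n, (fun n => d (k * n + n)) n ≡ (fun n => d (k * n + n)) (n + 1)
        [SMOD (I ^ n • ⊤ : Submodule S S)] := by
      intro n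
      rw [SModEq.sub_mem]
      have h1 : d (k * n + n) - d (k * (n + 1) + (n + 1)) ∈ K ^ (k * n + n) :=
        cauchy_sub_mem K d (by nlinarith)
      simpa using mem_pow_of_mem_pow I K hk n h1
    let c : AdicCompletion.AdicCauchySequence I S :=
      AdicCompletion.AdicCauchySequence.mk I S (fun n => d (k * n + n)) hc
    refine ⟨AdicCompletion.mk I S c, ?_⟩
    apply AdicCompletion.ext_evalₐ
    intro n
    rw [evalₐ_complMap, evalₐ_mk', evalₐ_mk', Ideal.quotientMap_mk, RingHom.id_apply]
    change Ideal.Quotient.mk (K ^ n) (d (k * n + n)) = _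
    rw [Ideal.Quotient.eq]
    have := cauchy_sub_mem K d (Nat.le_add_left n (k * n))
    rw [← neg_sub]
    exact Ideal.neg_mem_iff _ |>.mpr this

end bij

section fibre

variable {R S : Type u} [CommRing R] [CommRing S] [Algebra R S] (m : Ideal R) [m.IsMaximal]

/-- finiteness of the fibre gives finiteness of `S / mS` over `R`. -/
theorem finite_quotient_of_finite_fiber (hfib : Module.Finite m.ResidueField (m.Fiber S)) :
    Module.Finite R (S ⧸ (m • ⊤ : Submodule R S)) := by
  haveI : Module.Finite R (m.Fiber S) := Module.Finite.trans m.ResidueField (m.Fiber S)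
  have hsurj : Function.Surjective (Algebra.linearMap R m.ResidueField) :=
    m.algebraMap_residueField_surjective
  have hker : LinearMap.ker (Algebra.linearMap R m.ResidueField) = m := by
    ext x
    rw [LinearMap.mem_ker, Algebra.linearMap_apply]
    exact Ideal.algebraMap_residueField_eq_zero
  let e0 : (R ⧸ m) ≃ₗ[R] m.ResidueField :=
    (Submodule.quotEquivOfEq _ _ hker.symm).trans
      ((Algebra.linearMap R m.ResidueField).quotKerEquivOfSurjective hsurj)
  let e1 : m.Fiber S ≃ₗ[R] (R ⧸ m) ⊗[R] S := TensorProduct.congr e0.symm (LinearEquiv.refl R S)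
  let e2 : (R ⧸ m) ⊗[R] S ≃ₗ[R] S ⧸ (m • ⊤ : Submodule R S) :=
    TensorProduct.quotTensorEquivQuotSMul S m
  exact Module.Finite.equiv (e1.trans e2)

theorem exists_gens (hfib : Module.Finite m.ResidueField (m.Fiber S)) :
    ∃ (r : ℕ) (s : Fin r → S), ∀ t : S, ∃ c : Fin r → R,
      t - ∑ i, c i • s i ∈ m.map (algebraMap R S) := by
  haveI := finite_quotient_of_finite_fiber m hfib
  obtain ⟨r, v, hv⟩ := Module.Finite.exists_fin (R := R) (M := S ⧸ (m • ⊤ : Submodule R S))
  choose s hs using fun i => Submodule.Quotient.mk_surjective _ (v i)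
  refine ⟨r, s, fun t => ?_⟩
  have ht : (Submodule.Quotient.mk t : S ⧸ (m • ⊤ : Submodule R S)) ∈
      Submodule.span R (Set.range v) := by
    rw [hv]
    trivial
  obtain ⟨c, hc⟩ := (Submodule.mem_span_range_iff_exists_fun R).mp ht
  refine ⟨c, ?_⟩
  have h1 : (Submodule.Quotient.mk (t - ∑ i, c i • s i) : S ⧸ (m • ⊤ : Submodule R S)) = 0 := by
    rw [Submodule.Quotient.mk_sub, ← hc, sub_eq_zero]
    have : (Submodule.Quotient.mk (∑ i, c i • s i) : S ⧸ (m • ⊤ : Submodule R S)) =
        ∑ i, c i • (Submodule.Quotient.mk (s i) : S ⧸ (m • ⊤ : Submodule R S)) := by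
      rw [← Submodule.mkQ_apply, map_sum]
      rfl
    rw [this]
    exact Finset.sum_congr rfl fun i _ => by rw [hs i]
  rw [Submodule.Quotient.mk_eq_zero, Ideal.smul_top_eq_map] at h1
  exact h1

end fibre

section loc

variable (R S : Type u) [CommRing R] [CommRing S] [IsLocalRing R] [IsLocalRing S] [Algebra R S]

open IsLocalRing

theorem exists_pow_le
    (hfib : Module.Finite (maximalIdeal R).ResidueField ((maximalIdeal R).Fiber S))
    (h : (maximalIdeal R).map (algebraMap R S) ≤ maximalIdeal S) :
    ∃ k : ℕ, (maximalIdeal S) ^ k ≤ (maximalIdeal R).map (algebraMap R S) := by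
  have hne : (maximalIdeal R).map (algebraMap R S) ≠ ⊤ := fun htop =>
    (maximalIdeal.isMaximal S).ne_top (top_le_iff.mp (htop ▸ h))
  haveI : IsLocalRing (S ⧸ (maximalIdeal R).map (algebraMap R S)) :=
    Groth.Agent.Lib.Helper5.isLocalRing_quotient hne
  letI : Field (R ⧸ maximalIdeal R) := Ideal.Quotient.field _
  have hfinR : Module.Finite R (S ⧸ (maximalIdeal R).map (algebraMap R S)) := by
    have := finite_quotient_of_finite_fiber (S := S) (maximalIdeal R) hfib
    let e : (S ⧸ (maximalIdeal R • ⊤ : Submodule R S)) ≃ₗ[R]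
        (S ⧸ (maximalIdeal R).map (algebraMap R S)) :=
      (Submodule.quotEquivOfEq _ _ (Ideal.smul_top_eq_map _)).trans
        (Submodule.Quotient.restrictScalarsEquiv R ((maximalIdeal R).map (algebraMap R S)))
    exact Module.Finite.equiv e
  haveI : Module.Finite (R ⧸ maximalIdeal R) (S ⧸ (maximalIdeal R).map (algebraMap R S)) :=
    Module.Finite.of_restrictScalars_finite R _ _
  haveI : IsArtinianRing (S ⧸ (maximalIdeal R).map (algebraMap R S)) :=
    IsArtinianRing.of_finite (R ⧸ maximalIdeal R) _
  have hnil := IsArtinianRing.isNilpotent_jacobson_bot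
    (R := S ⧸ (maximalIdeal R).map (algebraMap R S))
  rw [IsLocalRing.jacobson_eq_maximalIdeal ⊥ bot_ne_top,
    Groth.Agent.Lib.Helper5.maximalIdeal_quotient_eq_map] at hnil
  obtain ⟨k, hk⟩ := hnil
  refine ⟨k, ?_⟩
  rw [← Ideal.map_pow, Ideal.zero_eq_bot, Ideal.map_eq_bot_iff_le_ker, Ideal.mk_ker] at hk
  exact hk

set_option maxHeartbeats 1000000 in
theorem complMap_finite (hm : (maximalIdeal R).FG) (hn : (maximalIdeal S).FG)
    (hfib : Module.Finite (maximalIdeal R).ResidueField ((maximalIdeal R).Fiber S))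
    (h : (maximalIdeal R).map (algebraMap R S) ≤ maximalIdeal S) :
    (FSch.complMap (maximalIdeal R) (maximalIdeal S) (algebraMap R S) h).Finite := by
  classical
  let P := AdicCompletion (maximalIdeal R) R
  let T := AdicCompletion (maximalIdeal S) S
  let φ : P →+* T := FSch.complMap (maximalIdeal R) (maximalIdeal S) (algebraMap R S) h
  letI : Algebra P T := φ.toAlgebra
  change Module.Finite P T
  let IP : Ideal P := (maximalIdeal R).map (algebraMap R P)
  haveI hP : IsAdicComplete IP P :=
    (IsAdicComplete.map_algebraMap_iff _ _).mpr (AdicCompletion.isAdicComplete (M := R) hm)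
  let J : Ideal T := (maximalIdeal S).map (algebraMap S T)
  haveI hJc : IsAdicComplete J T :=
    (IsAdicComplete.map_algebraMap_iff _ _).mpr (AdicCompletion.isAdicComplete (M := S) hn)
  haveI hJ : IsHausdorff J T := hJc.toIsHausdorff
  have hcomp : φ.comp (algebraMap R P) = (algebraMap S T).comp (algebraMap R S) :=
    RingHom.ext fun r => complMap_of (maximalIdeal R) (maximalIdeal S) (algebraMap R S) h r
  have hIPmap : IP.map (algebraMap P T) =
      ((maximalIdeal R).map (algebraMap R S)).map (algebraMap S T) := by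
    change Ideal.map φ (Ideal.map (algebraMap R P) (maximalIdeal R)) = _
    rw [Ideal.map_map, hcomp, ← Ideal.map_map]
  haveI : IsHausdorff IP T :=
    IsHausdorff.of_map (J := J) (by rw [hIPmap]; exact Ideal.map_mono h)
  obtain ⟨r, s, hs⟩ := exists_gens (S := S) (maximalIdeal R) hfib
  obtain ⟨k, hk⟩ := exists_pow_le R S hfib h
  -- membership in `IP • ⊤`
  have hmem : ∀ t : T, t ∈ ((maximalIdeal R).map (algebraMap R S)).map (algebraMap S T) →
      t ∈ (IP • ⊤ : Submodule P T) := by
    intro t ht
    rw [Ideal.smul_top_eq_map, Submodule.restrictScalars_mem, hIPmap]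
    exact ht
  let x : Fin r → T := fun i => algebraMap S T (s i)
  have hx : ∀ (c : R) (i : Fin r), algebraMap S T (c • s i) ∈ Submodule.span P (Set.range x) := by
    intro c i
    have : algebraMap S T (c • s i) = (algebraMap R P c) • x i := by
      rw [Algebra.smul_def, map_mul, Algebra.smul_def]
      have e1 : algebraMap S T (algebraMap R S c) = algebraMap P T (algebraMap R P c) :=
        (RingHom.congr_fun hcomp c).symm
      rw [e1]
    rw [this]
    exact Submodule.smul_mem _ _ (Submodule.subset_span ⟨i, rfl⟩)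
  have h1 : ⊤ ≤ Submodule.span P (Set.range x) ⊔ (IP • ⊤ : Submodule P T) := by
    intro y _
    obtain ⟨s0, hs0⟩ := Ideal.Quotient.mk_surjective (AdicCompletion.evalₐ (maximalIdeal S) k y)
    have hz : y - algebraMap S T s0 ∈ (IP • ⊤ : Submodule P T) := by
      apply hmem
      have hz0 : AdicCompletion.evalₐ (maximalIdeal S) k (y - algebraMap S T s0) = 0 := by
        rw [map_sub, ← hs0, AdicCompletion.algebraMap_apply, Algebra.algebraMap_self_apply,
          AdicCompletion.evalₐ_of, sub_self]
      have hz1 : y - algebraMap S T s0 ∈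
          LinearMap.ker (AdicCompletion.eval (maximalIdeal S) S k) := by
        have hle : maximalIdeal S ^ k ≤ (maximalIdeal S ^ k • ⊤ : Ideal S) := by simp
        rw [LinearMap.mem_ker,
          ← AdicCompletion.factor_evalₐ_eq_eval (maximalIdeal S) (y - algebraMap S T s0) hle, hz0,
          map_zero]
      rw [← AdicCompletion.pow_smul_top_eq_ker_eval hn, Ideal.smul_top_eq_map,
        Submodule.restrictScalars_mem] at hz1
      exact Ideal.map_mono hk hz1
    obtain ⟨c, hc⟩ := hs s0
    have h2 : algebraMap S T s0 =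
        (∑ i, algebraMap S T (c i • s i)) + algebraMap S T (s0 - ∑ i, c i • s i) := by
      rw [← map_sum, ← map_add, add_sub_cancel]
    have h3 : algebraMap S T s0 ∈ Submodule.span P (Set.range x) ⊔ (IP • ⊤ : Submodule P T) := by
      rw [h2]
      refine Submodule.add_mem_sup (Submodule.sum_mem _ fun i _ => hx (c i) i) ?_
      exact hmem _ (Ideal.mem_map_of_mem _ hc)
    have : y = algebraMap S T s0 + (y - algebraMap S T s0) := by ring
    rw [this]
    exact Submodule.add_mem _ h3 (Submodule.mem_sup_right hz)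
  have h4 := Groth.Agent.Lib.Helper19.Normalization.span_eq_top_of_isAdicComplete IP x h1
  exact Module.Finite.of_fg_top (by
    rw [← h4]
    exact Submodule.fg_span (Set.finite_range x))

end loc

end Groth.Agent.Lib.Helper22.ComplFin
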