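import Mathlib
import Groth.Prelude.Def_Conn

set_option autoImplicit false
universe v u

open TensorProduct

namespace Groth.Agent.Lib.Helper22

section

variable {A : Type v} {B Ω M M' : Type u} [CommRing A] [CommRing B] [Algebra A B]
  [AddCommGroup Ω] [Module B Ω] [Module A Ω] [IsScalarTower A B Ω]
  [AddCommGroup M] [Module B M] [Module A M] [IsScalarTower A B M]
  [AddCommGroup M'] [Module B M'] [Module A M'] [IsScalarTower A B M']

/-- evaluating the contracted element of `Hom ⊗ Ω` at `m` -/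
theorem conn_rid_map_apply (θ : Ω →ₗ[B] B) (m : M) (x : (M →ₗ[B] M') ⊗[B] Ω) :
    (TensorProduct.rid B (M →ₗ[B] M') (TensorProduct.map LinearMap.id θ x)) m =
      TensorProduct.rid B M' (TensorProduct.map LinearMap.id θ
        (TensorProduct.map (LinearMap.applyₗ m) LinearMap.id x)) := by
  induction x using TensorProduct.induction_on with
  | zero => simp
  | tmul ψ ω => simp
  | add a b ha hb => simp only [map_add, LinearMap.add_apply, ha, hb]

theorem conn_rid_map_map (θ : Ω →ₗ[B] B) (φ : M →ₗ[B] M') (y : M ⊗[B] Ω) :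
    TensorProduct.rid B M' (TensorProduct.map LinearMap.id θ
        (TensorProduct.map φ LinearMap.id y)) =
      φ (TensorProduct.rid B M (TensorProduct.map LinearMap.id θ y)) := by
  induction y using TensorProduct.induction_on with
  | zero => simp
  | tmul m ω => simp
  | add a b ha hb => simp only [map_add, ha, hb]

/-- The covariant derivative of the induced connection on `Hom` is the commutator. -/
theorem conn_along_hom (nabla : M →ₗ[A] M ⊗[B] Ω) (nabla' : M' →ₗ[A] M' ⊗[B] Ω)
    (nabla'' : (M →ₗ[B] M') →ₗ[A] (M →ₗ[B] M') ⊗[B] Ω) (h : Conn.IsHomConn nabla nabla' nabla'')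
    (θ : Ω →ₗ[B] B) (φ : M →ₗ[B] M') (m : M) :
    Conn.along nabla'' θ φ m = Conn.along nabla' θ (φ m) - φ (Conn.along nabla θ m) := by
  rw [Conn.along_apply, conn_rid_map_apply, h φ m, map_sub, map_sub, conn_rid_map_map,
    Conn.along_apply, Conn.along_apply]

/-- Leibniz rule for the covariant derivative on `Hom` with respect to composition. -/
theorem conn_along_comp {M'' : Type u} [AddCommGroup M''] [Module B M''] [Module A M'']
    [IsScalarTower A B M'']
    (n1 : M →ₗ[A] M ⊗[B] Ω) (n2 : M' →ₗ[A] M' ⊗[B] Ω) (n3 : M'' →ₗ[A] M'' ⊗[B] Ω)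
    (n12 : (M →ₗ[B] M') →ₗ[A] (M →ₗ[B] M') ⊗[B] Ω) (h12 : Conn.IsHomConn n1 n2 n12)
    (n23 : (M' →ₗ[B] M'') →ₗ[A] (M' →ₗ[B] M'') ⊗[B] Ω) (h23 : Conn.IsHomConn n2 n3 n23)
    (n13 : (M →ₗ[B] M'') →ₗ[A] (M →ₗ[B] M'') ⊗[B] Ω) (h13 : Conn.IsHomConn n1 n3 n13)
    (θ : Ω →ₗ[B] B) (ψ : M' →ₗ[B] M'') (φ : M →ₗ[B] M') :
    Conn.along n13 θ (ψ ∘ₗ φ) = Conn.along n23 θ ψ ∘ₗ φ + ψ ∘ₗ Conn.along n12 θ φ := by
  apply LinearMap.ext
  intro m
  rw [LinearMap.add_apply, LinearMap.comp_apply, LinearMap.comp_apply,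
    conn_along_hom n1 n3 n13 h13, conn_along_hom n2 n3 n23 h23, conn_along_hom n1 n2 n12 h12,
    LinearMap.comp_apply, LinearMap.comp_apply, map_sub]
  abel

end

end Groth.Agent.Lib.Helper22

namespace Groth.Agent.Lib.Helper22

section Eval

variable {B Ω E F : Type u} [CommRing B]
  [AddCommGroup Ω] [Module B Ω]
  [AddCommGroup E] [Module B E]
  [AddCommGroup F] [Module B F]

theorem conn_eval_swapR (e : E) (x : (E →ₗ[B] F) ⊗[B] Ω) :
    TensorProduct.map (TensorProduct.lift (LinearMap.id : (E →ₗ[B] F) →ₗ[B] (E →ₗ[B] F)))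
        (LinearMap.id : Ω →ₗ[B] Ω) (Conn.swapR (x ⊗ₜ[B] e)) =
      TensorProduct.map (LinearMap.applyₗ e) LinearMap.id x := by
  induction x using TensorProduct.induction_on with
  | zero => simp
  | tmul ψ ω => simp [Conn.swapR_tmul]
  | add a b ha hb => simp only [TensorProduct.add_tmul, map_add, ha, hb]

theorem conn_eval_assoc (φ : E →ₗ[B] F) (y : E ⊗[B] Ω) :
    TensorProduct.map (TensorProduct.lift (LinearMap.id : (E →ₗ[B] F) →ₗ[B] (E →ₗ[B] F)))
        (LinearMap.id : Ω →ₗ[B] Ω) ((TensorProduct.assoc B (E →ₗ[B] F) E Ω).symm (φ ⊗ₜ[B] y)) =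
      TensorProduct.map φ LinearMap.id y := by
  induction y using TensorProduct.induction_on with
  | zero => simp
  | tmul e ω => simp
  | add a b ha hb => simp only [TensorProduct.tmul_add, map_add, ha, hb]

end Eval

end Groth.Agent.Lib.Helper22

namespace Groth.Agent.Lib.Helper22

section Ext

variable {B Ω N E Y : Type u} [CommRing B]
  [AddCommGroup Ω] [Module B Ω]
  [AddCommGroup N] [Module B N]
  [AddCommGroup E] [Module B E]
  [AddCommGroup Y] [Module B Y]

/-- Reconstruction of an element of `N ⊗ Ω` from its components in a finite basis of `Ω`. -/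
theorem conn_sum_components {ι : Type*} [Fintype ι] (b : Module.Basis ι B Ω) (z : N ⊗[B] Ω) :
    z = ∑ q, (TensorProduct.rid B N (TensorProduct.map LinearMap.id (b.coord q) z)) ⊗ₜ[B] b q := by
  induction z using TensorProduct.induction_on with
  | zero => simp
  | tmul n ω =>
    simp only [TensorProduct.map_tmul, LinearMap.id_apply, TensorProduct.rid_tmul,
      Module.Basis.coord_apply]
    conv_lhs => rw [← b.sum_repr ω, TensorProduct.tmul_sum]
    refine Finset.sum_congr rfl (fun q _ => ?_)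
    rw [TensorProduct.tmul_smul, TensorProduct.smul_tmul']
  | add x y hx hy =>
    conv_lhs => rw [hx, hy]
    rw [← Finset.sum_add_distrib]
    refine Finset.sum_congr rfl (fun q _ => ?_)
    rw [map_add, map_add, TensorProduct.add_tmul]

/-- Two elements of `N ⊗ Ω` with the same components (w.r.t. a finite basis of `Ω`) are equal. -/
theorem conn_ext_components {ι : Type*} [Fintype ι] (b : Module.Basis ι B Ω) (x y : N ⊗[B] Ω)
    (h : ∀ q, TensorProduct.rid B N (TensorProduct.map LinearMap.id (b.coord q) x) =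
      TensorProduct.rid B N (TensorProduct.map LinearMap.id (b.coord q) y)) : x = y := by
  rw [conn_sum_components b x, conn_sum_components b y]
  exact Finset.sum_congr rfl (fun q _ => by rw [h q])

/-- For `Ω` finite free, elements of `Hom(E,Y) ⊗ Ω` are determined by their evaluations. -/
theorem conn_hom_tensor_ext [Module.Finite B Ω] [Module.Free B Ω] (x y : (E →ₗ[B] Y) ⊗[B] Ω)
    (h : ∀ e : E, TensorProduct.map (LinearMap.applyₗ e) LinearMap.id x =
      TensorProduct.map (LinearMap.applyₗ e) LinearMap.id y) : x = y := by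
  refine conn_ext_components (Module.Free.chooseBasis B Ω) x y (fun q => ?_)
  apply LinearMap.ext
  intro e
  rw [conn_rid_map_apply, conn_rid_map_apply, h e]

end Ext

end Groth.Agent.Lib.Helper22

namespace Groth.Agent.Lib.Helper22

section Comp

variable {B Ω E F G : Type u} [CommRing B]
  [AddCommGroup Ω] [Module B Ω]
  [AddCommGroup E] [Module B E]
  [AddCommGroup F] [Module B F]
  [AddCommGroup G] [Module B G]

theorem conn_comp_swapR (e : E) (φ : E →ₗ[B] F) (x : (F →ₗ[B] G) ⊗[B] Ω) :
    TensorProduct.map (LinearMap.applyₗ e) (LinearMap.id : Ω →ₗ[B] Ω)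
      (TensorProduct.map (TensorProduct.lift (LinearMap.llcomp B E F G)) (LinearMap.id : Ω →ₗ[B] Ω)
        (Conn.swapR (x ⊗ₜ[B] φ))) =
      TensorProduct.map (LinearMap.applyₗ (φ e)) LinearMap.id x := by
  induction x using TensorProduct.induction_on with
  | zero => simp
  | tmul χ ω => simp [Conn.swapR_tmul]
  | add a b ha hb => simp only [TensorProduct.add_tmul, map_add, ha, hb]

theorem conn_comp_assoc (e : E) (ψ : F →ₗ[B] G) (y : (E →ₗ[B] F) ⊗[B] Ω) :
    TensorProduct.map (LinearMap.applyₗ e) (LinearMap.id : Ω →ₗ[B] Ω)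
      (TensorProduct.map (TensorProduct.lift (LinearMap.llcomp B E F G)) (LinearMap.id : Ω →ₗ[B] Ω)
        ((TensorProduct.assoc B (F →ₗ[B] G) (E →ₗ[B] F) Ω).symm (ψ ⊗ₜ[B] y))) =
      TensorProduct.map ψ LinearMap.id (TensorProduct.map (LinearMap.applyₗ e) LinearMap.id y) := by
  induction y using TensorProduct.induction_on with
  | zero => simp
  | tmul χ ω => simp
  | add a b ha hb => simp only [TensorProduct.tmul_add, map_add, ha, hb]

theorem conn_map_map_id (ψ : F →ₗ[B] G) (φ : E →ₗ[B] F) (z : E ⊗[B] Ω) :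
    TensorProduct.map ψ (LinearMap.id : Ω →ₗ[B] Ω) (TensorProduct.map φ LinearMap.id z) =
      TensorProduct.map (ψ ∘ₗ φ) LinearMap.id z := by
  induction z using TensorProduct.induction_on with
  | zero => simp
  | tmul χ ω => simp
  | add a b ha hb => simp only [map_add, ha, hb]

end Comp

end Groth.Agent.Lib.Helper22

namespace Groth.Agent.Lib.Helper22

section RTensor

variable {B Ω E F G : Type u} [CommRing B]
  [AddCommGroup Ω] [Module B Ω]
  [AddCommGroup E] [Module B E]
  [AddCommGroup F] [Module B F]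
  [AddCommGroup G] [Module B G]

theorem conn_rt_swapR (e : E) (g : G) (x : (E →ₗ[B] F) ⊗[B] Ω) :
    TensorProduct.map (LinearMap.applyₗ e) (LinearMap.id : Ω →ₗ[B] Ω)
      (TensorProduct.map (TensorProduct.rTensorHomToHomRTensor (RingHom.id B) E F G)
        (LinearMap.id : Ω →ₗ[B] Ω) (Conn.swapR (x ⊗ₜ[B] g))) =
      Conn.swapR ((TensorProduct.map (LinearMap.applyₗ e) LinearMap.id x) ⊗ₜ[B] g) := by
  induction x using TensorProduct.induction_on with
  | zero => simp
  | tmul χ ω => simp [Conn.swapR_tmul]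
  | add a b ha hb => simp only [TensorProduct.add_tmul, map_add, ha, hb]

theorem conn_rt_assoc (e : E) (φ : E →ₗ[B] F) (y : G ⊗[B] Ω) :
    TensorProduct.map (LinearMap.applyₗ e) (LinearMap.id : Ω →ₗ[B] Ω)
      (TensorProduct.map (TensorProduct.rTensorHomToHomRTensor (RingHom.id B) E F G)
        (LinearMap.id : Ω →ₗ[B] Ω)
        ((TensorProduct.assoc B (E →ₗ[B] F) G Ω).symm (φ ⊗ₜ[B] y))) =
      (TensorProduct.assoc B F G Ω).symm (φ e ⊗ₜ[B] y) := by
  induction y using TensorProduct.induction_on with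
  | zero => simp
  | tmul g ω => simp
  | add a b ha hb => simp only [TensorProduct.tmul_add, map_add, ha, hb]

theorem conn_rt_map (φ : E →ₗ[B] F) (g : G) (z : E ⊗[B] Ω) :
    Conn.swapR ((TensorProduct.map φ (LinearMap.id : Ω →ₗ[B] Ω) z) ⊗ₜ[B] g) =
      TensorProduct.map (TensorProduct.rTensorHomToHomRTensor (RingHom.id B) E F G (φ ⊗ₜ[B] g))
        LinearMap.id z := by
  induction z using TensorProduct.induction_on with
  | zero => simp
  | tmul e ω => simp [Conn.swapR_tmul]
  | add a b ha hb => simp only [TensorProduct.add_tmul, map_add, ha, hb]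

end RTensor

end Groth.Agent.Lib.Helper22
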