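import Mathlib
import Groth.Prelude.Def_FEt
import Groth.Prelude.Def_Hensel
import Groth.Agent.Lib.Helper3EtNbhdD
import Groth.Agent.Lib.Helper3EtNbhdB

/-!
# Strict henselization at a point of an étale scheme (helper22)

For `p : P ⟶ X` étale and `z : P`, we produce a strict henselization `R` of `𝒪_{X, p z}` together
with a morphism `ρ : Spec R ⟶ P` whose range contains all generizations of `z` and such that the
only point mapping to `z` is the closed point.  Built on helper3's `Sh` library.
-/

set_option autoImplicit false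
set_option linter.style.haveILetI false
set_option linter.unusedSectionVars false
set_option linter.unusedVariables false
universe u
open CategoryTheory CategoryTheory.Limits AlgebraicGeometry IsLocalRing

namespace Groth.Agent.Lib.Helper22.ConnInf

open Groth.Agent.Lib.Helper3

set_option maxHeartbeats 1000000 in
/-- A strict henselization of `A` receiving a flat local homomorphism from a given essentially
étale local `A`-algebra `B`. -/
theorem exists_sh_of_essEtale (A : Type u) [CommRing A] [IsLocalRing A]
    (B : Type u) [CommRing B] [IsLocalRing B] [Algebra A B]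
    (h : EGA4loc.IsEssentiallyEtale A B) :
    ∃ (R : Type u) (_ : CommRing R) (_ : IsLocalRing R) (_ : Algebra A R)
      (_ : IsLocalHom (algebraMap A R)) (_ : Hensel.IsStrictHenselization A R) (ψ : B →+* R),
      IsLocalHom ψ ∧ ψ.Flat ∧ ψ.comp (algebraMap A B) = algebraMap A R ∧
      maximalIdeal R = (maximalIdeal A).map (algebraMap A R) := by
  let Ω := SeparableClosure (ResidueField A)
  letI : Algebra A Ω := ((algebraMap (ResidueField A) Ω).comp (residue A)).toAlgebra
  haveI : IsScalarTower A (ResidueField A) Ω := IsScalarTower.of_algebraMap_eq (fun _ => rfl)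
  obtain ⟨C, _, _, Q, _, hEt, hQ, ⟨e⟩⟩ := h
  haveI hloc : IsLocalHom (algebraMap A (Localization.AtPrime Q)) := by
    refine ⟨fun a ha => ?_⟩
    rw [IsScalarTower.algebraMap_apply A C (Localization.AtPrime Q),
      IsLocalization.AtPrime.isUnit_to_map_iff (Localization.AtPrime Q) Q] at ha
    by_contra hna
    have h1 : a ∈ maximalIdeal A := (mem_maximalIdeal a).mpr hna
    rw [← hQ] at h1
    exact ha h1
  haveI : Algebra.FormallyUnramified A (Localization.AtPrime Q) :=
    Algebra.FormallyUnramified.comp A C (Localization.AtPrime Q)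
  haveI : Algebra.EssFiniteType A (Localization.AtPrime Q) :=
    Algebra.EssFiniteType.comp A C (Localization.AtPrime Q)
  haveI : Algebra.IsSeparable (ResidueField A) (ResidueField (Localization.AtPrime Q)) :=
    inferInstance
  let β₀ : ResidueField (Localization.AtPrime Q) →ₐ[ResidueField A] Ω := IsSepClosed.lift
  let β : ResidueField (Localization.AtPrime Q) →ₐ[A] Ω := β₀.restrictScalars A
  obtain ⟨i, e', -⟩ := Sh.exists_idx (Ω := Ω) (Localization.AtPrime Q) C Q hQ AlgEquiv.refl β
  letI algL := (Sh.ofL i).toAlgebra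
  haveI : IsLocalHom (algebraMap i.L (Sh.Rsh A Ω)) := inferInstanceAs (IsLocalHom (Sh.ofL i))
  haveI := Sh.isStrictHenselization_L (R := A) (Ω := Ω) i
  haveI : Module.FaithfullyFlat i.L (Sh.Rsh A Ω) := HzP.sh_faithfullyFlat i.L (Sh.Rsh A Ω)
  let ε : B ≃ₐ[A] i.L := e.trans e'
  refine ⟨Sh.Rsh A Ω, inferInstance, inferInstance, inferInstance, inferInstance, inferInstance,
    (Sh.ofL i).comp (ε : B →+* i.L), ?_, ?_, ?_, Sh.maximalIdeal_eq_map⟩
  · haveI : IsLocalHom (ε : B →+* i.L) := by
      refine ⟨fun a ha => ?_⟩
      have := ha.map (ε.symm : i.L →+* B)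
      simpa using this
    exact RingHom.isLocalHom_comp _ _
  · refine RingHom.Flat.comp (RingHom.Flat.of_bijective ε.bijective) ?_
    change Module.Flat i.L (Sh.Rsh A Ω)
    infer_instance
  · ext a
    change Sh.ofL i (ε (algebraMap A B a)) = _
    rw [ε.commutes]
    exact congrArg (fun φ => φ a) (Sh.ofL_comp_algebraMap i)

/-- Scheme version: a strict henselization of the local ring of the base at `p z` mapping to `P`,
hitting all generizations of `z`, with only the closed point over `z`. -/
theorem exists_sh_point {P X : Scheme.{u}} (p : P ⟶ X) [Etale p] (z : P) :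
    ∃ (R : Type u) (_ : CommRing R) (_ : IsLocalRing R) (_ : Algebra (X.presheaf.stalk (p z)) R)
      (_ : IsLocalHom (algebraMap (X.presheaf.stalk (p z)) R))
      (_ : Hensel.IsStrictHenselization (X.presheaf.stalk (p z)) R)
      (ρ : Spec (CommRingCat.of R) ⟶ P),
      (∀ t : P, t ⤳ z → t ∈ Set.range ρ) ∧
      (∀ q : Spec (CommRingCat.of R), ρ q = z → q = closedPoint R) ∧
      ρ (closedPoint R) = z := by
  letI algAB : Algebra (X.presheaf.stalk (p z)) (P.presheaf.stalk z) := (p.stalkMap z).hom.toAlgebra
  have hess := EtNbhd.isEssentiallyEtale_stalkMap p z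
  obtain ⟨R, _, _, _, _, hsh, ψ, hψloc, hψflat, hψcomp, hmax⟩ :=
    exists_sh_of_essEtale (X.presheaf.stalk (p z)) (P.presheaf.stalk z) hess
  haveI : IsLocalHom (algebraMap (X.presheaf.stalk (p z)) (P.presheaf.stalk z)) :=
    inferInstanceAs (IsLocalHom (p.stalkMap z).hom)
  letI algBR : Algebra (P.presheaf.stalk z) R := ψ.toAlgebra
  haveI : IsLocalHom (algebraMap (P.presheaf.stalk z) R) := hψloc
  haveI : Module.Flat (P.presheaf.stalk z) R := hψflat
  haveI : Module.FaithfullyFlat (P.presheaf.stalk z) R := Module.FaithfullyFlat.of_flat_of_isLocalHom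
  have hsurj : Function.Surjective (PrimeSpectrum.comap ψ) :=
    PrimeSpectrum.comap_surjective_of_faithfullyFlat (A := P.presheaf.stalk z) (B := R)
  let ρ : Spec (CommRingCat.of R) ⟶ P := Spec.map (CommRingCat.ofHom ψ) ≫ P.fromSpecStalk z
  have hfib : ∀ q : PrimeSpectrum R,
      PrimeSpectrum.comap ψ q = closedPoint (P.presheaf.stalk z) → q = closedPoint R := by
    intro q hq
    have h1 : (maximalIdeal (X.presheaf.stalk (p z))).map (algebraMap _ R) ≤ q.asIdeal := by
      rw [Ideal.map_le_iff_le_comap]
      intro a ha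
      rw [Ideal.mem_comap, ← hψcomp]
      change ψ (algebraMap _ _ a) ∈ q.asIdeal
      have h2 : algebraMap (X.presheaf.stalk (p z)) (P.presheaf.stalk z) a ∈
          maximalIdeal (P.presheaf.stalk z) := by
        rw [mem_maximalIdeal, mem_nonunits_iff] at ha ⊢
        intro hu
        exact ha (isUnit_of_map_unit _ a hu)
      have h3 : (closedPoint (P.presheaf.stalk z)).asIdeal = maximalIdeal _ := rfl
      rw [← h3, ← hq] at h2
      exact h2
    rw [← hmax] at h1
    apply PrimeSpectrum.ext
    exact ((IsLocalRing.maximalIdeal.isMaximal R).eq_of_le q.2.ne_top h1).symm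
  refine ⟨R, inferInstance, inferInstance, inferInstance, inferInstance, hsh, ρ, ?_, ?_, ?_⟩
  · intro t ht
    have h1 : t ∈ Set.range (P.fromSpecStalk z) := by
      rw [Scheme.range_fromSpecStalk]
      exact ht
    obtain ⟨t₀, rfl⟩ := h1
    obtain ⟨q, hq⟩ := hsurj t₀
    refine ⟨q, ?_⟩
    change (P.fromSpecStalk z) ((Spec.map (CommRingCat.ofHom ψ)) q) = _
    congr 1
  · intro q hq
    apply hfib q
    have h1 : (P.fromSpecStalk z) ((Spec.map (CommRingCat.ofHom ψ)) q) = z := hq
    have h2 : (P.fromSpecStalk z) (closedPoint (P.presheaf.stalk z)) = z :=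
      Scheme.fromSpecStalk_closedPoint
    exact (P.fromSpecStalk z).isEmbedding.injective (h1.trans h2.symm)
  · change (P.fromSpecStalk z) ((Spec.map (CommRingCat.ofHom ψ)) (closedPoint R)) = z
    have h1 : (Spec.map (CommRingCat.ofHom ψ)) (closedPoint R) =
        closedPoint (P.presheaf.stalk z) := by
      exact IsLocalRing.comap_closedPoint ψ
    rw [h1]
    exact Scheme.fromSpecStalk_closedPoint

end Groth.Agent.Lib.Helper22.ConnInf
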