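import Mathlib
import Groth.Prelude.Def_FEt
import Groth.Agent.Lib.Helper26LimIso
import Groth.Agent.Lib.Helper26LimFP1

set_option autoImplicit false
set_option linter.style.haveILetI false
set_option linter.unusedSectionVars false
set_option linter.unusedVariables false
universe u

namespace Groth.Agent.Lib.Helper22.PurExt
open AlgebraicGeometry CategoryTheory CategoryTheory.Limits TopologicalSpace

/-- A nonempty closed subset of a quasi-sober T0 space has a most generic point. -/
theorem exists_maximal_point {X : Type*} [TopologicalSpace X] [QuasiSober X] [T0Space X]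
    (Z : Set X) (hZ : IsClosed Z) (hne : Z.Nonempty) :
    ∃ x ∈ Z, ∀ y ∈ Z, y ⤳ x → y = x := by
  obtain ⟨z₀, hz₀⟩ := hne
  haveI : QuasiSober ↥Z := hZ.isClosedEmbedding_subtypeVal.quasiSober
  let C : Set ↥Z := irreducibleComponent (⟨z₀, hz₀⟩ : ↥Z)
  have hCirr : IsIrreducible C := isIrreducible_irreducibleComponent
  have hCcl : IsClosed C := isClosed_irreducibleComponent
  obtain ⟨x', hx'⟩ := QuasiSober.sober hCirr hCcl
  refine ⟨x'.1, x'.2, fun y hy hyx => ?_⟩
  let y' : ↥Z := ⟨y, hy⟩
  have h1 : y' ⤳ x' := Topology.IsInducing.subtypeVal.specializes_iff.mp hyx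
  have hT : IsIrreducible (closure ({y'} : Set ↥Z)) := isIrreducible_singleton.closure
  have hx'T : x' ∈ closure ({y'} : Set ↥Z) := specializes_iff_mem_closure.mp h1
  have hCT : C ⊆ closure ({y'} : Set ↥Z) := by
    rw [← hx'.def]
    exact closure_minimal (Set.singleton_subset_iff.mpr hx'T) isClosed_closure
  have hTC : closure ({y'} : Set ↥Z) = C := eq_irreducibleComponent hT.isPreirreducible hCT
  have h2 : x' ⤳ y' := by
    rw [specializes_iff_mem_closure, hx'.def, ← hTC]
    exact subset_closure rfl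
  have : y' = x' := (h1.antisymm h2).eq
  exact congrArg Subtype.val this

/-- If `x` is a most generic point of the complement of `U'`, the preimage of `U'` in
`Spec 𝒪_{X,x}` is the punctured spectrum. -/
theorem preimage_fromSpecStalk_eq_puncturedSpec {X : Scheme.{u}} (x : X) (U' : X.Opens)
    (hx : x ∉ U') (hmax : ∀ y : X, y ∉ U' → y ⤳ x → y = x) :
    (X.fromSpecStalk x) ⁻¹ᵁ U' = FEt.puncturedSpec (X.presheaf.stalk x) := by
  have hmem : ∀ p : ↥(Spec (X.presheaf.stalk x)),
      p ∈ FEt.puncturedSpec (X.presheaf.stalk x) ↔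
        p ≠ IsLocalRing.closedPoint (X.presheaf.stalk x) := fun p => Iff.rfl
  ext p
  rw [SetLike.mem_coe, SetLike.mem_coe, hmem]
  show (X.fromSpecStalk x) p ∈ U' ↔ _
  constructor
  · intro hp hpe
    rw [hpe, Scheme.fromSpecStalk_closedPoint] at hp
    exact hx hp
  · intro hp
    by_contra hnot
    have hspec : (X.fromSpecStalk x) p ⤳ x := by
      have : (X.fromSpecStalk x) p ∈ Set.range (X.fromSpecStalk x) := ⟨p, rfl⟩
      rw [Scheme.range_fromSpecStalk] at this
      exact this
    have heq := hmax _ hnot hspec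
    apply hp
    apply (X.fromSpecStalk x).isEmbedding.injective
    rw [heq, Scheme.fromSpecStalk_closedPoint]

/-- composition of restrictions. -/
noncomputable def restrictComp {X Y Z : Scheme.{u}} (f : X ⟶ Y) (g : Y ⟶ Z) (h : X ⟶ Z)
    (w : h = f ≫ g) : FEt.restrict h ≅ FEt.restrict g ⋙ FEt.restrict f :=
  MorphismProperty.Over.pullbackComp (P := FEt.prop.{u}) (Q := ⊤) f g h w

/-- restrictions along a commutative square. -/
noncomputable def restrictSq {X Y Y' Z : Scheme.{u}} (f : X ⟶ Y) (g : Y ⟶ Z) (f' : X ⟶ Y')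
    (g' : Y' ⟶ Z) (w : f ≫ g = f' ≫ g') :
    FEt.restrict g ⋙ FEt.restrict f ≅ FEt.restrict g' ⋙ FEt.restrict f' :=
  (restrictComp f g (f ≫ g) rfl).symm ≪≫ restrictComp f' g' (f ≫ g) w

/-- restriction along an identity. -/
noncomputable def restrictIdIso {Y : Scheme.{u}} (f : Y ⟶ Y) (hf : f = 𝟙 Y) (V : FEt.Cat Y) :
    (FEt.restrict f).obj V ≅ V := by
  subst hf
  let f : ((FEt.restrict (𝟙 Y)).obj V).left ⟶ V.left := pullback.fst V.hom (𝟙 Y)
  haveI : IsIso f := pullback_fst_iso_of_right_iso V.hom (𝟙 Y)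
  exact MorphismProperty.Over.isoMk (asIso f)
    (by
      show pullback.fst V.hom (𝟙 Y) ≫ V.hom = pullback.snd V.hom (𝟙 Y)
      rw [pullback.condition]
      exact Category.comp_id _)

open Groth.Agent.Lib.Helper26.LimIso Groth.Agent.Lib.Helper22.LimBC in
/-- An isomorphism between the base changes to the limit of two finite étale covers of a stage
comes from an isomorphism over some later stage. -/
theorem exists_iso_stage_fet {I : Type u} [SmallCategory I] [IsCofiltered I] (D : I ⥤ Scheme.{u})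
    (c : Cone D) (hc : IsLimit c) [∀ {i j : I} (f : i ⟶ j), IsAffineHom (D.map f)] (i₀ : I)
    [CompactSpace (D.obj i₀)] [QuasiSeparatedSpace (D.obj i₀)] (A₀ B₀ : FEt.Cat (D.obj i₀))
    (e : (FEt.restrict (c.π.app i₀)).obj A₀ ≅ (FEt.restrict (c.π.app i₀)).obj B₀) :
    ∃ (k : I) (φ : k ⟶ i₀),
      Nonempty ((FEt.restrict (D.map φ)).obj A₀ ≅ (FEt.restrict (D.map φ)).obj B₀) := by
  have hA : IsFinite A₀.hom ∧ Etale A₀.hom := A₀.prop
  have hB : IsFinite B₀.hom ∧ Etale B₀.hom := B₀.prop
  haveI := hA.1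
  haveI := hA.2
  haveI := hB.1
  haveI := hB.2
  let el : pullback A₀.hom (c.π.app i₀) ⟶ pullback B₀.hom (c.π.app i₀) := e.hom.left
  haveI : IsIso el :=
    ⟨e.inv.left, by
      show (e.hom ≫ e.inv).left = _
      rw [e.hom_inv_id]; rfl, by
      show (e.inv ≫ e.hom).left = _
      rw [e.inv_hom_id]; rfl⟩
  have hel : el ≫ pullback.snd B₀.hom (c.π.app i₀) = pullback.snd A₀.hom (c.π.app i₀) :=
    MorphismProperty.Over.w e.hom
  obtain ⟨k, ek, hiso, hek, -⟩ := exists_iso_stage D hc i₀ A₀.hom B₀.hom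
    (IsPullback.of_hasPullback A₀.hom (c.π.app i₀)) (IsPullback.of_hasPullback B₀.hom (c.π.app i₀))
    el hel
  exact ⟨k.left, k.hom, ⟨MorphismProperty.Over.isoMk (@asIso _ _ _ _ ek hiso) hek⟩⟩

open Groth.Agent.Lib.Helper26.LimFP in
/-- Gluing two finite étale covers along an isomorphism over the intersection. -/
theorem exists_fet_glue {S SA SB SW : Scheme.{u}} (a : SA ⟶ S) (b : SB ⟶ S)
    [IsOpenImmersion a] [IsOpenImmersion b]
    (hcov : ∀ s : S, s ∈ Set.range a ∨ s ∈ Set.range b)
    (wa : SW ⟶ SA) (wb : SW ⟶ SB) (hW : IsPullback wa wb a b)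
    (VA : FEt.Cat SA) (VB : FEt.Cat SB)
    (e : (FEt.restrict wa).obj VA ≅ (FEt.restrict wb).obj VB) :
    ∃ E : FEt.Cat S, Nonempty ((FEt.restrict a).obj E ≅ VA) := by
  haveI : IsOpenImmersion wb := MorphismProperty.of_isPullback hW inferInstance
  haveI : IsOpenImmersion wa := MorphismProperty.of_isPullback hW.flip inferInstance
  let el : pullback VA.hom wa ⟶ pullback VB.hom wb := e.hom.left
  let eli : pullback VB.hom wb ⟶ pullback VA.hom wa := e.inv.left
  have hel1 : el ≫ eli = 𝟙 _ := by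
    show (e.hom ≫ e.inv).left = _
    rw [e.hom_inv_id]; rfl
  have hel2 : eli ≫ el = 𝟙 _ := by
    show (e.inv ≫ e.hom).left = _
    rw [e.inv_hom_id]; rfl
  haveI : IsIso el := ⟨eli, hel1, hel2⟩
  have hel : el ≫ pullback.snd VB.hom wb = pullback.snd VA.hom wa :=
    MorphismProperty.Over.w e.hom
  let gA : pullback VA.hom wa ⟶ VA.left := pullback.fst VA.hom wa
  let gB : pullback VA.hom wa ⟶ VB.left := el ≫ pullback.fst VB.hom wb
  haveI : IsOpenImmersion gA := inferInstanceAs (IsOpenImmersion (pullback.fst VA.hom wa))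
  haveI : IsOpenImmersion (pullback.fst VB.hom wb) := inferInstance
  haveI : IsOpenImmersion gB := inferInstanceAs (IsOpenImmersion (el ≫ pullback.fst VB.hom wb))
  obtain ⟨E, ιA, ιB, hιA, hιB, hglue, hcovE, hint, hdesc⟩ := exists_glue_two' gA gB
  have hcompat : gA ≫ VA.hom ≫ a = gB ≫ VB.hom ≫ b := by
    have h1 : gA ≫ VA.hom = pullback.snd VA.hom wa ≫ wa := pullback.condition
    have h2 : gB ≫ VB.hom = pullback.snd VA.hom wa ≫ wb := by
      show (el ≫ pullback.fst VB.hom wb) ≫ VB.hom = _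
      rw [Category.assoc, pullback.condition, ← Category.assoc, hel]
    rw [← Category.assoc, h1, ← Category.assoc gB, h2, Category.assoc, Category.assoc, hW.w]
  obtain ⟨p, hpA, hpB⟩ := hdesc S (VA.hom ≫ a) (VB.hom ≫ b) hcompat
  -- the two pullback squares
  have pbA : IsPullback VA.hom ιA a p := by
    refine IsOpenImmersion.isPullback VA.hom ιA a p hpA ?_
    ext z
    constructor
    · rintro ⟨s, hs⟩
      rcases hcovE z with ⟨y, rfl⟩ | ⟨y, rfl⟩
      · exact ⟨y, rfl⟩
      · have h3 : b (VB.hom y) = a s := by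
          rw [hs, ← Scheme.Hom.comp_apply, ← Scheme.Hom.comp_apply, hpB]
        obtain ⟨w, hw1, hw2⟩ := Scheme.exists_preimage_of_isPullback hW s (VB.hom y) h3.symm
        obtain ⟨g', hg1, hg2⟩ := Scheme.Pullback.exists_preimage_pullback (f := VB.hom)
          (g := wb) y w hw2.symm
        refine ⟨gA (eli g'), ?_⟩
        have h4 : gB (eli g') = y := by
          show (el ≫ pullback.fst VB.hom wb) (eli g') = y
          rw [← Scheme.Hom.comp_apply, ← Category.assoc, hel2, Category.id_comp, hg1]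
        rw [← Scheme.Hom.comp_apply, hglue, Scheme.Hom.comp_apply, h4]
    · rintro ⟨y, rfl⟩
      exact ⟨VA.hom y, by rw [← Scheme.Hom.comp_apply, ← Scheme.Hom.comp_apply, hpA]⟩
  have pbB : IsPullback VB.hom ιB b p := by
    refine IsOpenImmersion.isPullback VB.hom ιB b p hpB ?_
    ext z
    constructor
    · rintro ⟨s, hs⟩
      rcases hcovE z with ⟨y, rfl⟩ | ⟨y, rfl⟩
      · have h3 : a (VA.hom y) = b s := by
          rw [hs, ← Scheme.Hom.comp_apply, ← Scheme.Hom.comp_apply, hpA]
        obtain ⟨w, hw1, hw2⟩ := Scheme.exists_preimage_of_isPullback hW (VA.hom y) s h3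
        obtain ⟨g, hg1, hg2⟩ := Scheme.Pullback.exists_preimage_pullback (f := VA.hom)
          (g := wa) y w hw1.symm
        refine ⟨gB g, ?_⟩
        rw [← Scheme.Hom.comp_apply, ← hglue, Scheme.Hom.comp_apply]
        exact congrArg _ hg1
      · exact ⟨y, rfl⟩
    · rintro ⟨y, rfl⟩
      exact ⟨VB.hom y, by rw [← Scheme.Hom.comp_apply, ← Scheme.Hom.comp_apply, hpB]⟩
  have key : ∀ (P : MorphismProperty Scheme.{u}) [IsZariskiLocalAtTarget P],
      P VA.hom → P VB.hom → P p := by
    intro P _ hA hB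
    apply IsZariskiLocalAtTarget.of_forall_exists_morphismRestrict
    intro s
    rcases hcov s with hs | hs
    · refine ⟨a.opensRange, hs, ?_⟩
      rw [P.arrow_mk_iso_iff (morphismRestrictOpensRange p a)]
      refine (P.cancel_left_of_respectsIso pbA.flip.isoPullback.hom (pullback.snd p a)).mp ?_
      rw [IsPullback.isoPullback_hom_snd]
      exact hA
    · refine ⟨b.opensRange, hs, ?_⟩
      rw [P.arrow_mk_iso_iff (morphismRestrictOpensRange p b)]
      refine (P.cancel_left_of_respectsIso pbB.flip.isoPullback.hom (pullback.snd p b)).mp ?_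
      rw [IsPullback.isoPullback_hom_snd]
      exact hB
  have hA : IsFinite VA.hom ∧ Etale VA.hom := VA.prop
  have hB : IsFinite VB.hom ∧ Etale VB.hom := VB.prop
  have hfin : IsFinite p := key @IsFinite hA.1 hB.1
  have het : Etale p := key @Etale hA.2 hB.2
  refine ⟨MorphismProperty.Over.mk ⊤ p ⟨hfin, het⟩, ⟨?_⟩⟩
  exact (MorphismProperty.Over.isoMk pbA.flip.isoPullback pbA.flip.isoPullback_hom_snd).symm

end Groth.Agent.Lib.Helper22.PurExt
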