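import Mathlib
import Groth.Prelude.Def_FEt
import Groth.Prelude.Def_Hensel
import Groth.Agent.Lib.Helper22ConnInfA
import Groth.Agent.Lib.Helper22PurExtA
import Groth.Agent.Lib.Helper2SpecClosure

/-!
# Closures of clopen pieces over a dense open (helper22)

`disjoint_closure`: let `p : P ⟶ X` be étale, `U ⊆ X` open such that the punctured spectra of all
strict henselizations of `𝒪_{X,x}`, `x ∉ U`, are connected.  If `p⁻¹ U = T ⊔ T'` with `T, T'` open
and the closures of `T`, `T'` cover `P` and are reached by specialization, then the closures of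
`T` and `T'` are disjoint.

`gen_of_quasiCompact`, `gen_of_finite_irreducible`: the two ways to get the specialization
property.
-/

set_option autoImplicit false
set_option linter.style.haveILetI false
set_option linter.unusedSectionVars false
set_option linter.unusedVariables false
universe u
open CategoryTheory CategoryTheory.Limits AlgebraicGeometry IsLocalRing

namespace Groth.Agent.Lib.Helper22.ConnInf

/-- the core lemma. -/
theorem disjoint_closure {P X : Scheme.{u}} (p : P ⟶ X) [Etale p] (U : X.Opens)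
    (hsh : ∀ x : X, x ∉ U → ∀ (R : Type u) [CommRing R] [IsLocalRing R]
      [Algebra (X.presheaf.stalk x) R]
      [IsLocalHom (algebraMap (X.presheaf.stalk x) R)]
      [Hensel.IsStrictHenselization (X.presheaf.stalk x) R],
      ConnectedSpace (FEt.puncturedSpec R : Scheme.{u}))
    (T T' : Set P) (hT : IsOpen T) (hT' : IsOpen T') (hdisj : Disjoint T T')
    (hunion : T ∪ T' = p ⁻¹' (U : Set X))
    (hcov : closure T ∪ closure T' = Set.univ)
    (hgen : ∀ z ∈ closure T, ∃ t ∈ T, t ⤳ z) (hgen' : ∀ z ∈ closure T', ∃ t ∈ T', t ⤳ z) :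
    Disjoint (closure T) (closure T') := by
  rw [Set.disjoint_iff_inter_eq_empty]
  by_contra hne
  have hne' : (closure T ∩ closure T').Nonempty := Set.nonempty_iff_ne_empty.mpr hne
  obtain ⟨z, hzS, hzmax⟩ := Groth.Agent.Lib.Helper22.PurExt.exists_maximal_point
    (closure T ∩ closure T') (isClosed_closure.inter isClosed_closure) hne'
  have hzT : z ∉ T := by
    intro hz
    obtain ⟨w, hw1, hw2⟩ := mem_closure_iff.mp hzS.2 T hT hz
    exact (Set.disjoint_iff.mp hdisj) ⟨hw1, hw2⟩
  have hzT' : z ∉ T' := by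
    intro hz
    obtain ⟨w, hw1, hw2⟩ := mem_closure_iff.mp hzS.1 T' hT' hz
    exact (Set.disjoint_iff.mp hdisj) ⟨hw2, hw1⟩
  have hzU : p z ∉ U := by
    intro hz
    have : z ∈ T ∪ T' := by rw [hunion]; exact hz
    rcases this with h | h
    · exact hzT h
    · exact hzT' h
  obtain ⟨R, _, _, _, _, _, ρ, hρgen, hρfib, hρcl⟩ := exists_sh_point p z
  haveI hconn : ConnectedSpace (FEt.puncturedSpec R : Scheme.{u}) := hsh (p z) hzU R
  let ρ' : (FEt.puncturedSpec R : Scheme.{u}) ⟶ P := (FEt.puncturedSpec R).ι ≫ ρ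
  let S₁ : Set (FEt.puncturedSpec R : Scheme.{u}) := ρ' ⁻¹' closure T
  let S₂ : Set (FEt.puncturedSpec R : Scheme.{u}) := ρ' ⁻¹' closure T'
  have hS₁ : IsClosed S₁ := isClosed_closure.preimage ρ'.continuous
  have hS₂ : IsClosed S₂ := isClosed_closure.preimage ρ'.continuous
  have hS₁₂ : S₁ ∪ S₂ = Set.univ := by
    rw [← Set.preimage_union, hcov, Set.preimage_univ]
  have hpunct : ∀ q : (FEt.puncturedSpec R : Scheme.{u}),
      (FEt.puncturedSpec R).ι q ≠ closedPoint R := by
    intro q
    exact q.2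
  have hdisjS : S₁ ∩ S₂ = ∅ := by
    rw [Set.eq_empty_iff_forall_notMem]
    rintro q ⟨h1, h2⟩
    have hq : ρ' q = ρ ((FEt.puncturedSpec R).ι q) := rfl
    have hspec : ρ' q ⤳ z := by
      rw [hq, ← hρcl]
      exact (IsLocalRing.specializes_closedPoint ((FEt.puncturedSpec R).ι q)).map ρ.continuous
    have heq : ρ' q = z := hzmax (ρ' q) ⟨h1, h2⟩ hspec
    exact hpunct q (hρfib _ heq)
  have hlift : ∀ t : P, t ⤳ z → t ≠ z → ∃ q : (FEt.puncturedSpec R : Scheme.{u}), ρ' q = t := by
    intro t ht htz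
    obtain ⟨q, hq⟩ := hρgen t ht
    have hqc : q ≠ closedPoint R := by
      rintro rfl
      exact htz (hq.symm.trans hρcl)
    exact ⟨⟨q, hqc⟩, hq⟩
  have hne₁ : S₁.Nonempty := by
    obtain ⟨t, htT, htz⟩ := hgen z hzS.1
    obtain ⟨q, hq⟩ := hlift t htz (fun h => hzT (h ▸ htT))
    exact ⟨q, by change ρ' q ∈ closure T; rw [hq]; exact subset_closure htT⟩
  have hne₂ : S₂.Nonempty := by
    obtain ⟨t, htT, htz⟩ := hgen' z hzS.2
    obtain ⟨q, hq⟩ := hlift t htz (fun h => hzT' (h ▸ htT))
    exact ⟨q, by change ρ' q ∈ closure T'; rw [hq]; exact subset_closure htT⟩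
  have hcompl : S₁ᶜ = S₂ := by
    ext q
    constructor
    · intro hq
      have : q ∈ S₁ ∪ S₂ := by rw [hS₁₂]; trivial
      rcases this with h | h
      · exact absurd h hq
      · exact h
    · intro hq hq1
      have : q ∈ S₁ ∩ S₂ := ⟨hq1, hq⟩
      rw [hdisjS] at this
      exact this
  have hclopen : IsClopen S₁ := ⟨hS₁, by rw [← isClosed_compl_iff, hcompl]; exact hS₂⟩
  rcases isClopen_iff.mp hclopen with h | h
  · exact hne₁.ne_empty h
  · obtain ⟨q, hq⟩ := hne₂
    have : q ∈ S₁ ∩ S₂ := ⟨by rw [h]; trivial, hq⟩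
    rw [hdisjS] at this
    exact this

/-- for a quasi-compact open immersion, the closure is reached by specialization. -/
theorem gen_of_quasiCompact {P : Scheme.{u}} (W : P.Opens) [QuasiCompact W.ι] (z : P)
    (hz : z ∈ closure (W : Set P)) : ∃ t ∈ (W : Set P), t ⤳ z := by
  have h1 : z ∈ closure (Set.range W.ι) := by rwa [Scheme.Opens.range_ι]
  obtain ⟨x, hx⟩ :=
    Groth.Agent.Lib.Helper2.SpecClosure.exists_specializes_of_mem_closure_range W.ι z h1
  exact ⟨W.ι x, x.2, hx⟩

/-- a quasi-sober space with finitely many irreducible components has a finite set of points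
generizing every point. -/
theorem exists_finite_generic (Y : Type*) [TopologicalSpace Y] [QuasiSober Y]
    (hfin : (irreducibleComponents Y).Finite) :
    ∃ M : Set Y, M.Finite ∧ ∀ y : Y, ∃ η ∈ M, η ⤳ y := by
  classical
  have hgen : ∀ Z : irreducibleComponents Y, ∃ η : Y, IsGenericPoint η (Z : Set Y) := by
    intro Z
    have hZ : IsIrreducible (Z : Set Y) := Z.2.1
    have hZc : IsClosed (Z : Set Y) := isClosed_of_mem_irreducibleComponents _ Z.2
    exact QuasiSober.sober hZ hZc
  choose g hg using hgen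
  haveI : Finite (irreducibleComponents Y) := hfin
  refine ⟨Set.range g, Set.finite_range g, fun y => ?_⟩
  let Z : irreducibleComponents Y := ⟨irreducibleComponent y, irreducibleComponent_mem_irreducibleComponents y⟩
  refine ⟨g Z, ⟨Z, rfl⟩, ?_⟩
  have h1 : y ∈ (Z : Set Y) := mem_irreducibleComponent
  have h2 : closure {g Z} = (Z : Set Y) := (hg Z).def
  rw [specializes_iff_mem_closure, h2]
  exact h1

/-- if quasi-compact opens of `X` have finitely many irreducible components and `p : P ⟶ X` is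
flat, open with finite fibres, closures of opens in `P` are reached by specialization. -/
theorem gen_of_finite_irreducible {P X : Scheme.{u}} (p : P ⟶ X) [IsFinite p] [Etale p]
    (hirr : ∀ V : X.Opens, IsCompact (V : Set X) → (irreducibleComponents ↥V).Finite)
    (W : Set P) (hW : IsOpen W) (z : P) (hz : z ∈ closure W) : ∃ t ∈ W, t ⤳ z := by
  classical
  obtain ⟨V₀, hV₀, hzV₀, -⟩ := exists_isAffineOpen_mem_and_subset (x := z) (U := ⊤) trivial
  let A : X.Opens := ⟨p '' (V₀ : Set P), p.isOpenMap _ V₀.isOpen⟩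
  have hAc : IsCompact (A : Set X) := by
    have : (A : Set X) = p '' (V₀ : Set P) := rfl
    rw [this]
    exact hV₀.isCompact.image p.continuous
  haveI : QuasiSober ↥A := A.isOpenEmbedding'.quasiSober
  obtain ⟨M₀, hM₀fin, hM₀⟩ := exists_finite_generic ↥A (hirr A hAc)
  let MA : Set X := Subtype.val '' M₀
  have hMAfin : MA.Finite := hM₀fin.image _
  let M : Set P := p ⁻¹' MA
  have hMfin : M.Finite := hMAfin.preimage' (fun x _ => p.finite_preimage_singleton x)
  have hMgen : ∀ v ∈ V₀, ∃ η ∈ M, η ⤳ v := by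
    intro v hv
    have hpv : p v ∈ A := ⟨v, hv, rfl⟩
    obtain ⟨η₀, hη₀, hspec⟩ := hM₀ ⟨p v, hpv⟩
    have hspec' : (η₀ : X) ⤳ p v := hspec.map continuous_subtype_val
    obtain ⟨v', hv'v, hv'⟩ := (Flat.generalizingMap p) hspec'
    exact ⟨v', by change p v' ∈ MA; rw [hv']; exact ⟨η₀, hη₀, rfl⟩, hv'v⟩
  let F : Set P := ⋃ η ∈ M ∩ W, closure {η}
  have hFcl : IsClosed F := (hMfin.subset Set.inter_subset_left).isClosed_biUnion
    (fun _ _ => isClosed_closure)
  have hsub : (V₀ : Set P) ∩ W ⊆ F := by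
    rintro w ⟨hwV, hwW⟩
    obtain ⟨η, hηM, hηw⟩ := hMgen w hwV
    have hηW : η ∈ W := hηw.mem_open hW hwW
    exact Set.mem_biUnion (⟨hηM, hηW⟩ : η ∈ M ∩ W) (specializes_iff_mem_closure.mp hηw)
  have hzF : z ∈ F := by
    have h1 : z ∈ (V₀ : Set P) ∩ closure W := ⟨hzV₀, hz⟩
    have h2 := V₀.isOpen.inter_closure h1
    exact (closure_minimal hsub hFcl) h2
  obtain ⟨η, hη, hzη⟩ := Set.mem_iUnion₂.mp hzF
  exact ⟨η, hη.2, specializes_iff_mem_closure.mpr hzη⟩

end Groth.Agent.Lib.Helper22.ConnInf
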