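import Mathlib
import Groth.Prelude.Def_FEt
import Groth.Prelude.Def_Hensel
import Groth.Agent.Lib.Helper22ConnInfB
import Groth.Agent.Lib.Helper4FEtFull
import Groth.Agent.Lib.Helper20FEtFaith

/-!
# Extension of morphisms of finite étale covers across a "connected at infinity" complement
(helper22)

`exists_extension_open`: the graph argument for a dense open `U ⊆ X`, using `disjoint_closure`.
`full_faithful_of_dense`: the resulting full faithfulness of `FEt.restrict U.ι`.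
-/

set_option autoImplicit false
set_option linter.style.haveILetI false
set_option linter.unusedSectionVars false
set_option linter.unusedVariables false
universe u
open CategoryTheory CategoryTheory.Limits AlgebraicGeometry IsLocalRing

namespace Groth.Agent.Lib.Helper22.ConnInf

/-- a finite étale morphism which is an isomorphism over a dense open is an isomorphism. -/
theorem isIso_of_dense {Z Y : Scheme.{u}} (r : Z ⟶ Y) [IsFinite r] [Etale r] (V : Y.Opens)
    (hV : Dense (V : Set Y)) [IsIso (r ∣_ V)] : IsIso r := by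
  let f₁ : pullback r r ⟶ Z := pullback.fst r r
  let f₂ : pullback r r ⟶ Z := pullback.snd r r
  let g : pullback r r ⟶ Y := f₁ ≫ r
  have hcond : f₁ ≫ r = f₂ ≫ r := pullback.condition
  obtain ⟨C, hC, hC1, hC2⟩ := Groth.Agent.Lib.Helper20.FEtFaith.exists_isClopen_agree g r f₁ f₂
    rfl hcond.symm
  let ι : ((g ⁻¹ᵁ V : (pullback r r).Opens) : Scheme.{u}) ⟶ pullback r r := (g ⁻¹ᵁ V).ι
  have hrange : ∀ (f : pullback r r ⟶ Z), f ≫ r = g →
      Set.range (ι ≫ f) ⊆ Set.range (r ⁻¹ᵁ V).ι := by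
    intro f hf
    rintro _ ⟨w, rfl⟩
    rw [Scheme.Opens.range_ι]
    change r ((ι ≫ f) w) ∈ V
    rw [← Scheme.Hom.comp_apply, Category.assoc, hf]
    exact w.2
  let k₁ := IsOpenImmersion.lift (r ⁻¹ᵁ V).ι (ι ≫ f₁) (hrange f₁ rfl)
  let k₂ := IsOpenImmersion.lift (r ⁻¹ᵁ V).ι (ι ≫ f₂) (hrange f₂ hcond.symm)
  have hk₁ : k₁ ≫ (r ⁻¹ᵁ V).ι = ι ≫ f₁ := IsOpenImmersion.lift_fac _ _ _
  have hk₂ : k₂ ≫ (r ⁻¹ᵁ V).ι = ι ≫ f₂ := IsOpenImmersion.lift_fac _ _ _
  have hk : k₁ = k₂ := by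
    rw [← cancel_mono (r ∣_ V), ← cancel_mono V.ι, Category.assoc, Category.assoc,
      morphismRestrict_ι, reassoc_of% hk₁, reassoc_of% hk₂, hcond]
  have hι : ι ≫ f₁ = ι ≫ f₂ := by rw [← hk₁, ← hk₂, hk]
  have hsub := hC1 ι hι
  have hdense : Dense (Set.range ι) := by
    have : Set.range ι = g ⁻¹' (V : Set Y) := Scheme.Opens.range_ι _
    rw [this]
    exact hV.preimage g.isOpenMap
  have hCuniv : C = Set.univ := by
    rw [← hC.1.closure_eq]
    exact (hdense.mono hsub).closure_eq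
  have hf : f₁ = f₂ := hC2 hCuniv
  haveI : Mono r := by
    refine ⟨fun {T} a b hab => ?_⟩
    have h1 : pullback.lift a b hab ≫ f₁ = a := pullback.lift_fst _ _ _
    have h2 : pullback.lift a b hab ≫ f₂ = b := pullback.lift_snd _ _ _
    exact h1.symm.trans ((congrArg (pullback.lift a b hab ≫ ·) hf).trans h2)
  haveI : IsOpenImmersion r := IsOpenImmersion.of_flat_of_mono r
  have hsurj : Surjective r := by
    rw [surjective_iff, ← Set.range_eq_univ]
    have hcl : IsClosed (Set.range r) := r.isClosedMap.isClosed_range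
    rw [← hcl.closure_eq]
    refine (hV.mono ?_).closure_eq
    intro v hv
    obtain ⟨w, hw⟩ := (r ∣_ V).surjective ⟨v, hv⟩
    refine ⟨(r ⁻¹ᵁ V).ι w, ?_⟩
    rw [← Scheme.Hom.comp_apply, ← morphismRestrict_ι, Scheme.Hom.comp_apply, hw]
    rfl
  exact (isIso_iff_isOpenImmersion_and_surjective _).2 ⟨inferInstance, hsurj⟩

/-- the graph argument for a dense open. -/
theorem exists_extension_open {X : Scheme.{u}} (U : X.Opens) (hU : Dense (U : Set X))
    (hsh : ∀ x : X, x ∉ U → ∀ (R : Type u) [CommRing R] [IsLocalRing R]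
      [Algebra (X.presheaf.stalk x) R]
      [IsLocalHom (algebraMap (X.presheaf.stalk x) R)]
      [Hensel.IsStrictHenselization (X.presheaf.stalk x) R],
      ConnectedSpace (FEt.puncturedSpec R : Scheme.{u}))
    (hgenAll : ∀ {P : Scheme.{u}} (p : P ⟶ X) [IsFinite p] [Etale p] (T : Set P), IsOpen T →
      T ⊆ p ⁻¹' (U : Set X) → IsOpen (p ⁻¹' (U : Set X) \ T) → ∀ z ∈ closure T, ∃ t ∈ T, t ⤳ z)
    {Y Y' : Scheme.{u}} (y : Y ⟶ X) (y' : Y' ⟶ X)
    [IsFinite y] [Etale y] [IsFinite y'] [Etale y']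
    (a : pullback y U.ι ⟶ Y') (ha : a ≫ y' = pullback.fst y U.ι ≫ y) :
    ∃ φ : Y ⟶ Y', φ ≫ y' = y ∧ pullback.fst y U.ι ≫ φ = a := by
  let p₁ : pullback y U.ι ⟶ Y := pullback.fst y U.ι
  let p₂ : pullback y U.ι ⟶ U := pullback.snd y U.ι
  let q₁ : pullback y y' ⟶ Y := pullback.fst y y'
  let q₂ : pullback y y' ⟶ Y' := pullback.snd y y'
  let pP : pullback y y' ⟶ X := q₁ ≫ y
  let γ : pullback y U.ι ⟶ pullback y y' := pullback.lift p₁ a ha.symm
  have hγ1 : γ ≫ q₁ = p₁ := pullback.lift_fst _ _ _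
  have hγ2 : γ ≫ q₂ = a := pullback.lift_snd _ _ _
  haveI : Etale (γ ≫ q₁) := by rw [hγ1]; infer_instance
  haveI : Etale γ := Etale.of_comp γ q₁
  haveI : Mono γ := by
    haveI : Mono (γ ≫ q₁) := by rw [hγ1]; infer_instance
    exact mono_of_mono γ q₁
  haveI : IsOpenImmersion γ := IsOpenImmersion.of_flat_of_mono γ
  let T : Set ↥(pullback y y') := Set.range γ
  have hTopen : IsOpen T := γ.isOpenEmbedding.isOpen_range
  have hrange_p₁ : Set.range p₁ = y ⁻¹' (U : Set X) := by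
    have := Scheme.Pullback.range_fst y U.ι
    rw [Scheme.Opens.range_ι] at this
    exact this
  have hTsub : T ⊆ pP ⁻¹' (U : Set X) := by
    rintro _ ⟨w, rfl⟩
    change pP (γ w) ∈ U
    rw [← Scheme.Hom.comp_apply]
    have : γ ≫ pP = p₂ ≫ U.ι := by
      change γ ≫ q₁ ≫ y = _
      rw [reassoc_of% hγ1]
      exact pullback.condition
    rw [this, Scheme.Hom.comp_apply]
    exact (p₂ w).2
  -- the base change of `P` to `Y_U`
  let j : pullback q₁ p₁ ⟶ pullback y y' := pullback.fst q₁ p₁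
  let π : pullback q₁ p₁ ⟶ pullback y U.ι := pullback.snd q₁ p₁
  let s : pullback y U.ι ⟶ pullback q₁ p₁ := pullback.lift γ (𝟙 _) (by rw [hγ1, Category.id_comp])
  have hs1 : s ≫ j = γ := pullback.lift_fst _ _ _
  have hs2 : s ≫ π = 𝟙 _ := pullback.lift_snd _ _ _
  haveI : IsClosedImmersion (s ≫ π) := by rw [hs2]; infer_instance
  haveI : IsClosedImmersion s := IsClosedImmersion.of_comp s π
  have hrange_j : Set.range j = pP ⁻¹' (U : Set X) := by
    have h1 := Scheme.Pullback.range_fst q₁ p₁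
    rw [hrange_p₁] at h1
    exact h1
  have hT'open : IsOpen (pP ⁻¹' (U : Set X) \ T) := by
    have h1 : pP ⁻¹' (U : Set X) \ T = j '' (Set.range s)ᶜ := by
      have hT : T = j '' Set.range s := by
        rw [← Set.range_comp]
        change Set.range γ = Set.range (s ≫ j)
        rw [hs1]
      rw [hT, ← hrange_j, ← Set.image_univ, ← Set.image_sdiff j.isOpenEmbedding.injective,
        Set.compl_eq_univ_sdiff]
    rw [h1]
    exact j.isOpenEmbedding.isOpenMap _ s.isClosedEmbedding.isClosed_range.isOpen_compl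
  let T' : Set ↥(pullback y y') := pP ⁻¹' (U : Set X) \ T
  have hT'sub : T' ⊆ pP ⁻¹' (U : Set X) := Set.sdiff_subset
  have hdisjTT' : Disjoint T T' := Set.disjoint_sdiff_right
  have hunion : T ∪ T' = pP ⁻¹' (U : Set X) := Set.union_sdiff_cancel hTsub
  have hcov : closure T ∪ closure T' = Set.univ := by
    rw [← closure_union, hunion]
    exact (hU.preimage pP.isOpenMap).closure_eq
  have hcompl : pP ⁻¹' (U : Set X) \ T' = T := by
    change pP ⁻¹' (U : Set X) \ (pP ⁻¹' (U : Set X) \ T) = T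
    rw [Set.sdiff_sdiff_cancel_left hTsub]
  have hdisj := disjoint_closure pP U hsh T T' hTopen hT'open hdisjTT' hunion hcov
    (hgenAll pP T hTopen hTsub hT'open)
    (hgenAll pP T' hT'open hT'sub (by rw [hcompl]; exact hTopen))
  have hZopen : IsOpen (closure T) := by
    have : closure T = (closure T')ᶜ := by
      ext w
      constructor
      · intro h1 h2
        exact (Set.disjoint_iff.mp hdisj) ⟨h1, h2⟩
      · intro h1
        have : w ∈ closure T ∪ closure T' := by rw [hcov]; trivial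
        rcases this with h | h
        · exact h
        · exact absurd h h1
    rw [this]
    exact isClosed_closure.isOpen_compl
  let Z : (pullback y y').Opens := ⟨closure T, hZopen⟩
  haveI : IsClosedImmersion Z.ι := IsClosedImmersion.of_isPreimmersion _ (by
    rw [Scheme.Opens.range_ι]
    exact isClosed_closure)
  let r : (Z : Scheme.{u}) ⟶ Y := Z.ι ≫ q₁
  let γZ : pullback y U.ι ⟶ Z := IsOpenImmersion.lift Z.ι γ (by
    rw [Scheme.Opens.range_ι]
    exact subset_closure)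
  have hγZ : γZ ≫ Z.ι = γ := IsOpenImmersion.lift_fac _ _ _
  have hγZr : γZ ≫ r = p₁ := by
    change γZ ≫ Z.ι ≫ q₁ = p₁
    rw [reassoc_of% hγZ, hγ1]
  let V : Y.Opens := p₁.opensRange
  have hVdense : Dense (V : Set Y) := by
    have : (V : Set Y) = y ⁻¹' (U : Set X) := hrange_p₁
    rw [this]
    exact hU.preimage y.isOpenMap
  let γ' : pullback y U.ι ⟶ (r ⁻¹ᵁ V : (Z : Scheme.{u}).Opens) :=
    IsOpenImmersion.lift (r ⁻¹ᵁ V).ι γZ (by
      rintro _ ⟨w, rfl⟩
      rw [Scheme.Opens.range_ι]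
      change r (γZ w) ∈ V
      rw [← Scheme.Hom.comp_apply, hγZr]
      exact ⟨w, rfl⟩)
  have hγ' : γ' ≫ (r ⁻¹ᵁ V).ι = γZ := IsOpenImmersion.lift_fac _ _ _
  haveI : IsOpenImmersion (γ' ≫ (r ⁻¹ᵁ V).ι) := by
    rw [hγ']
    haveI : IsOpenImmersion (γZ ≫ Z.ι) := by rw [hγZ]; infer_instance
    exact IsOpenImmersion.of_comp γZ Z.ι
  haveI : IsOpenImmersion γ' := IsOpenImmersion.of_comp γ' (r ⁻¹ᵁ V).ι
  have hγ'surj : Surjective γ' := by
    refine ⟨fun w => ?_⟩
    let w' : (Z : Scheme.{u}) := (r ⁻¹ᵁ V).ι w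
    have hw'V : r w' ∈ V := w.2
    have hw'U : Z.ι w' ∈ pP ⁻¹' (U : Set X) := by
      have h1 : q₁ (Z.ι w') ∈ Set.range p₁ := hw'V
      rw [hrange_p₁] at h1
      exact h1
    have hw'Z : Z.ι w' ∈ closure T := w'.2
    have hw'T : Z.ι w' ∈ T := by
      by_contra hn
      have h1 : Z.ι w' ∈ T' := ⟨hw'U, hn⟩
      exact (Set.disjoint_iff.mp hdisj) ⟨hw'Z, subset_closure h1⟩
    obtain ⟨v, hv⟩ := hw'T
    refine ⟨v, ?_⟩
    apply ((r ⁻¹ᵁ V).ι ≫ Z.ι).isOpenEmbedding.injective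
    rw [← Scheme.Hom.comp_apply, reassoc_of% hγ', hγZ, hv]
    rfl
  haveI : IsIso γ' := (isIso_iff_isOpenImmersion_and_surjective _).2 ⟨inferInstance, hγ'surj⟩
  let e : pullback y U.ι ≅ (V : Scheme.{u}) := IsOpenImmersion.isoOfRangeEq p₁ V.ι (by
    rw [Scheme.Opens.range_ι]
    rfl)
  have he : e.hom ≫ V.ι = p₁ := IsOpenImmersion.isoOfRangeEq_hom_fac _ _ _
  have hrV : γ' ≫ (r ∣_ V) = e.hom := by
    rw [← cancel_mono V.ι, Category.assoc, morphismRestrict_ι, reassoc_of% hγ', hγZr, he]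
  haveI : IsIso (r ∣_ V) := by
    have : r ∣_ V = inv γ' ≫ e.hom := by rw [← hrV, IsIso.inv_hom_id_assoc]
    rw [this]
    infer_instance
  haveI : IsFinite r := inferInstanceAs (IsFinite (Z.ι ≫ q₁))
  haveI : Etale r := inferInstanceAs (Etale (Z.ι ≫ q₁))
  haveI : IsIso r := isIso_of_dense r V hVdense
  refine ⟨inv r ≫ Z.ι ≫ q₂, ?_, ?_⟩
  · rw [Category.assoc, Category.assoc, ← pullback.condition, IsIso.inv_comp_eq]
    rfl
  · change p₁ ≫ _ = a
    rw [← hγZr, Category.assoc, IsIso.hom_inv_id_assoc, reassoc_of% hγZ, hγ2]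

/-- full faithfulness of restriction to a dense open which is "connected at infinity". -/
theorem full_faithful_of_dense {X : Scheme.{u}} (U : X.Opens) (hU : Dense (U : Set X))
    (hsh : ∀ x : X, x ∉ U → ∀ (R : Type u) [CommRing R] [IsLocalRing R]
      [Algebra (X.presheaf.stalk x) R]
      [IsLocalHom (algebraMap (X.presheaf.stalk x) R)]
      [Hensel.IsStrictHenselization (X.presheaf.stalk x) R],
      ConnectedSpace (FEt.puncturedSpec R : Scheme.{u}))
    (hgenAll : ∀ {P : Scheme.{u}} (p : P ⟶ X) [IsFinite p] [Etale p] (T : Set P), IsOpen T →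
      T ⊆ p ⁻¹' (U : Set X) → IsOpen (p ⁻¹' (U : Set X) \ T) → ∀ z ∈ closure T, ∃ t ∈ T, t ⤳ z) :
    (FEt.restrict U.ι).Full ∧ (FEt.restrict U.ι).Faithful := by
  refine ⟨?_, ?_⟩
  · apply Groth.Agent.Lib.Helper4.FEtFull.full_restrict_of_exists_extension
    intro Y Y' a ha
    have hY : IsFinite Y.hom ∧ Etale Y.hom := Y.prop
    have hY' : IsFinite Y'.hom ∧ Etale Y'.hom := Y'.prop
    haveI := hY.1
    haveI := hY.2
    haveI := hY'.1
    haveI := hY'.2
    exact exists_extension_open U hU hsh hgenAll Y.hom Y'.hom a ha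
  · apply Groth.Agent.Lib.Helper20.FEtFaith.faithful_of_forall_clopen
    intro A C hC hsub
    have hA : IsFinite A.hom ∧ Etale A.hom := A.prop
    haveI := hA.1
    haveI := hA.2
    rw [Scheme.Opens.range_ι] at hsub
    have hd : Dense (A.hom ⁻¹' (U : Set X)) := hU.preimage A.hom.isOpenMap
    rw [← hC.1.closure_eq]
    exact (hd.mono hsub).closure_eq

/-- the specialization property from quasi-compactness of the open immersion. -/
theorem gen_of_quasiCompact_clopen {P X : Scheme.{u}} (p : P ⟶ X) (U : X.Opens) [QuasiCompact U.ι]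
    (T : Set P) (hT : IsOpen T) (hTsub : T ⊆ p ⁻¹' (U : Set X))
    (hT' : IsOpen (p ⁻¹' (U : Set X) \ T)) (z : P) (hz : z ∈ closure T) : ∃ t ∈ T, t ⤳ z := by
  let W : P.Opens := ⟨T, hT⟩
  haveI : QuasiCompact (p ⁻¹ᵁ U).ι :=
    MorphismProperty.of_isPullback (P := @QuasiCompact) (isPullback_morphismRestrict p U)
      inferInstance
  haveI : QuasiCompact W.ι := by
    rw [quasiCompact_iff_forall_isAffineOpen]
    intro V hV
    rw [W.ι.isOpenEmbedding.isInducing.isCompact_iff]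
    have h1 := (quasiCompact_iff_forall_isAffineOpen.mp ‹QuasiCompact (p ⁻¹ᵁ U).ι›) V hV
    rw [(p ⁻¹ᵁ U).ι.isOpenEmbedding.isInducing.isCompact_iff] at h1
    have h2 : (p ⁻¹ᵁ U).ι '' ((p ⁻¹ᵁ U).ι ⁻¹' (V : Set P)) =
        (V : Set P) ∩ p ⁻¹' (U : Set X) := by
      rw [Set.image_preimage_eq_inter_range, Scheme.Opens.range_ι]
      rfl
    have h3 : W.ι '' (W.ι ⁻¹' (V : Set P)) = (V : Set P) ∩ T := by
      rw [Set.image_preimage_eq_inter_range, Scheme.Opens.range_ι]
      rfl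
    change IsCompact (W.ι '' (W.ι ⁻¹' (V : Set P)))
    rw [h3]
    change IsCompact ((p ⁻¹ᵁ U).ι '' ((p ⁻¹ᵁ U).ι ⁻¹' (V : Set P))) at h1
    rw [h2] at h1
    have h4 : (V : Set P) ∩ T = ((V : Set P) ∩ p ⁻¹' (U : Set X)) ∩ (p ⁻¹' (U : Set X) \ T)ᶜ := by
      ext w
      simp only [Set.mem_inter_iff, Set.mem_compl_iff, Set.mem_sdiff, not_and, not_not]
      constructor
      · rintro ⟨hwV, hwT⟩
        exact ⟨⟨hwV, hTsub hwT⟩, fun _ => hwT⟩
      · rintro ⟨⟨hwV, hwU⟩, h⟩
        exact ⟨hwV, h hwU⟩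
    rw [h4]
    exact h1.inter_right hT'.isClosed_compl
  exact gen_of_quasiCompact W z hz

end Groth.Agent.Lib.Helper22.ConnInf
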