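import Mathlib
import Groth.Prelude.Def_Conn
import Groth.Agent.Lib.Helper22Conn

set_option autoImplicit false
universe v u

open TensorProduct

namespace Groth.Agent.Lib.Helper22

section

variable {A : Type v} {B Ω M : Type u} [CommRing A] [CommRing B] [Algebra A B]
  [AddCommGroup Ω] [Module B Ω] [Module A Ω] [IsScalarTower A B Ω]
  [AddCommGroup M] [Module B M] [Module A M] [IsScalarTower A B M]

theorem conn_along_smul (δ : Derivation A B Ω) (nabla : M →ₗ[A] M ⊗[B] Ω)
    (hc : Conn.IsConn δ nabla) (θ : Ω →ₗ[B] B) (c : B) (m : M) :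
    Conn.along nabla θ (c • m) = c • Conn.along nabla θ m + θ (δ c) • m := by
  rw [Conn.along_apply, hc c m, map_add, map_add, map_smul, map_smul, TensorProduct.map_tmul,
    TensorProduct.rid_tmul, LinearMap.id_apply, Conn.along_apply]

theorem conn_trace_along [Module.Finite B M] [Module.Free B M]
    (δ : Derivation A B Ω) (nabla : M →ₗ[A] M ⊗[B] Ω) (hc : Conn.IsConn δ nabla)
    (nablaE : (M →ₗ[B] M) →ₗ[A] (M →ₗ[B] M) ⊗[B] Ω) (hE : Conn.IsHomConn nabla nabla nablaE)
    (θ : Ω →ₗ[B] B) (φ : M →ₗ[B] M) :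
    LinearMap.trace B M (Conn.along nablaE θ φ) = θ (δ (LinearMap.trace B M φ)) := by
  classical
  let b := Module.Free.chooseBasis B M
  have hsmul := conn_along_smul δ nabla hc θ
  have h1 : ∀ i, Conn.along nabla θ (φ (b i)) =
      ∑ j, (b.repr (φ (b i)) j • Conn.along nabla θ (b j) + θ (δ (b.repr (φ (b i)) j)) • b j) := by
    intro i
    conv_lhs => rw [← b.sum_repr (φ (b i))]
    rw [map_sum]
    exact Finset.sum_congr rfl (fun j _ => hsmul _ _)
  have h2 : ∀ i, φ (Conn.along nabla θ (b i)) =
      ∑ j, b.repr (Conn.along nabla θ (b i)) j • φ (b j) := by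
    intro i
    conv_lhs => rw [← b.sum_repr (Conn.along nabla θ (b i))]
    rw [map_sum]
    exact Finset.sum_congr rfl (fun j _ => map_smul _ _ _)
  have h3 : ∀ i, b.repr (Conn.along nablaE θ φ (b i)) i =
      (∑ j, b.repr (φ (b i)) j * b.repr (Conn.along nabla θ (b j)) i) + θ (δ (b.repr (φ (b i)) i))
        - ∑ j, b.repr (Conn.along nabla θ (b i)) j * b.repr (φ (b j)) i := by
    intro i
    rw [conn_along_hom nabla nabla nablaE hE, map_sub, Finsupp.sub_apply, h1 i, h2 i, map_sum,
      map_sum, Finsupp.finset_sum_apply, Finsupp.finset_sum_apply]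
    congr 1
    · simp only [map_add, map_smul, Finsupp.add_apply, Finsupp.smul_apply, smul_eq_mul,
        b.repr_self, Finset.sum_add_distrib]
      congr 1
      simp [Finsupp.single_apply]
    · simp
  rw [LinearMap.trace_eq_matrix_trace B b, LinearMap.trace_eq_matrix_trace B b φ, Matrix.trace,
    Matrix.trace, map_sum, map_sum]
  simp only [Matrix.diag_apply, LinearMap.toMatrix_apply]
  rw [Finset.sum_congr rfl (fun i _ => h3 i), Finset.sum_sub_distrib, Finset.sum_add_distrib]
  have h4 : ∑ i, ∑ j, b.repr (φ (b i)) j * b.repr (Conn.along nabla θ (b j)) i =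
      ∑ i, ∑ j, b.repr (Conn.along nabla θ (b i)) j * b.repr (φ (b j)) i := by
    rw [Finset.sum_comm]
    exact Finset.sum_congr rfl (fun i _ => Finset.sum_congr rfl (fun j _ => mul_comm _ _))
  rw [h4]
  abel

end

end Groth.Agent.Lib.Helper22

namespace Groth.Agent.Lib.Helper22

section Super

variable {A : Type v} {B Ω ι : Type u} [CommRing A] [CommRing B] [Algebra A B]
  [AddCommGroup Ω] [Module B Ω] [Module A Ω] [IsScalarTower A B Ω]
  [Fintype ι] [DecidableEq ι] (deg : ι → ℤ) (M : ι → Type u)
  [∀ i, AddCommGroup (M i)] [∀ i, Module B (M i)] [∀ i, Module A (M i)] [∀ i, IsScalarTower A B (M i)]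

variable (B) in
/-- the grading involution -/
noncomputable def connEps : (Π k, M k) →ₗ[B] (Π k, M k) :=
  ∑ i : ι, (LinearMap.single B M i) ∘ₗ
    (((-1 : B) ^ (deg i).natAbs) • (LinearMap.proj i : (Π k, M k) →ₗ[B] M i))

theorem connEps_apply (y : Π k, M k) (j : ι) :
    connEps B deg M y j = ((-1 : B) ^ (deg j).natAbs) • y j := by
  unfold connEps
  rw [LinearMap.sum_apply, Finset.sum_apply, Finset.sum_eq_single j]
  · simp
  · intro i _ hij
    simp [Pi.single_apply, hij.symm]
  · intro h; exact absurd (Finset.mem_univ j) h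

theorem conn_deriv_neg_one_pow (δ : Derivation A B Ω) (n : ℕ) : δ ((-1 : B) ^ n) = 0 := by
  have h1 : δ (-1 : B) = 0 := by rw [map_neg, Derivation.map_one_eq_zero, neg_zero]
  rw [Derivation.leibniz_pow, h1, smul_zero, smul_zero]

theorem conn_along_eps_comm
    (δ : Derivation A B Ω) (nabla : (Π k, M k) →ₗ[A] (Π k, M k) ⊗[B] Ω) (hc : Conn.IsConn δ nabla)
    (hgr : ∀ i j : ι, deg i ≠ deg j → ∀ m : M i,
      TensorProduct.map (LinearMap.proj j : (Π k, M k) →ₗ[B] M j) LinearMap.id
        (nabla (LinearMap.single B M i m)) = 0)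
    (θ : Ω →ₗ[B] B) (m : Π k, M k) :
    Conn.along nabla θ (connEps B deg M m) = connEps B deg M (Conn.along nabla θ m) := by
  have hsingle : ∀ (i : ι) (x : M i),
      Conn.along nabla θ (connEps B deg M (LinearMap.single B M i x)) =
        connEps B deg M (Conn.along nabla θ (LinearMap.single B M i x)) := by
    intro i x
    have he : connEps B deg M (LinearMap.single B M i x) =
        ((-1 : B) ^ (deg i).natAbs) • LinearMap.single B M i x := by
      funext j
      rw [connEps_apply, Pi.smul_apply]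
      by_cases hji : j = i
      · subst hji; rfl
      · simp [Pi.single_apply, hji]
    rw [he, conn_along_smul δ nabla hc, conn_deriv_neg_one_pow, map_zero, zero_smul, add_zero]
    funext j
    rw [connEps_apply, Pi.smul_apply]
    by_cases hd : deg i = deg j
    · rw [hd]
    · have hz : Conn.along nabla θ (LinearMap.single B M i x) j = 0 := by
        have h1 := conn_rid_map_map θ (LinearMap.proj j : (Π k, M k) →ₗ[B] M j)
          (nabla (LinearMap.single B M i x))
        rw [hgr i j hd x, map_zero, map_zero] at h1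
        rw [Conn.along_apply]
        exact h1.symm
      rw [hz, smul_zero, smul_zero]
  have hm : m = ∑ i, LinearMap.single B M i (m i) := by
    funext j
    rw [Finset.sum_apply]
    simp [Pi.single_apply]
  rw [hm, map_sum, map_sum, map_sum, map_sum]
  exact Finset.sum_congr rfl (fun i _ => hsingle i (m i))

theorem conn_supertrace_along [∀ i, Module.Free B (M i)] [∀ i, Module.Finite B (M i)]
    (δ : Derivation A B Ω) (nabla : (Π k, M k) →ₗ[A] (Π k, M k) ⊗[B] Ω) (hc : Conn.IsConn δ nabla)
    (hgr : ∀ i j : ι, deg i ≠ deg j → ∀ m : M i,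
      TensorProduct.map (LinearMap.proj j : (Π k, M k) →ₗ[B] M j) LinearMap.id
        (nabla (LinearMap.single B M i m)) = 0)
    (nablaE : ((Π k, M k) →ₗ[B] (Π k, M k)) →ₗ[A] ((Π k, M k) →ₗ[B] (Π k, M k)) ⊗[B] Ω)
    (hE : Conn.IsHomConn nabla nabla nablaE) (θ : Ω →ₗ[B] B) (φ : (Π k, M k) →ₗ[B] (Π k, M k)) :
    LinearMap.trace B (Π k, M k) (connEps B deg M ∘ₗ Conn.along nablaE θ φ) =
      θ (δ (LinearMap.trace B (Π k, M k) (connEps B deg M ∘ₗ φ))) := by
  have hL := conn_along_comp nabla nabla nabla nablaE hE nablaE hE nablaE hE θ (connEps B deg M) φ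
  have h0 : Conn.along nablaE θ (connEps B deg M) = 0 := by
    apply LinearMap.ext
    intro m
    rw [conn_along_hom nabla nabla nablaE hE, conn_along_eps_comm deg M δ nabla hc hgr, sub_self,
      LinearMap.zero_apply]
  rw [h0, LinearMap.zero_comp, zero_add] at hL
  rw [← hL, conn_trace_along δ nabla hc nablaE hE]

end Super

end Groth.Agent.Lib.Helper22
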