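import Mathlib
import Groth.Prelude.Def_W4c1hurwitzcptBd

/-!
Helper lemmas for the `Crimp` statements (helper22): multiplicative closedness of
`R·1 + R·u + J` and order computations in `k⟦x⟧` over `k⟦t⟧`, `t ↦ x ^ p`.
-/

namespace Groth.Agent.Lib.Helper22

open PowerSeries

/-- `R·1 + R·u + J` (with `J` stable under multiplication by `S`) is closed under multiplication iff
it contains `u * u`. -/
theorem crimp_mul_closed_iff {R S : Type*} [CommRing R] [CommRing S] [Algebra R S] (u : S)
    (J : Submodule R S) (hJ : ∀ s : S, ∀ j ∈ J, s * j ∈ J) :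
    (∀ a ∈ (Submodule.span R {1, u} ⊔ J), ∀ b ∈ (Submodule.span R {1, u} ⊔ J),
      a * b ∈ Submodule.span R {1, u} ⊔ J) ↔ u * u ∈ Submodule.span R {1, u} ⊔ J := by
  constructor
  · intro h
    have hu : u ∈ Submodule.span R {1, u} ⊔ J :=
      Submodule.mem_sup_left (Submodule.subset_span (by simp))
    exact h u hu u hu
  · intro huu a ha b hb
    have h1 : (1 : S) ∈ Submodule.span R {1, u} ⊔ J :=
      Submodule.mem_sup_left (Submodule.subset_span (by simp))
    have hu : u ∈ Submodule.span R {1, u} ⊔ J :=
      Submodule.mem_sup_left (Submodule.subset_span (by simp))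
    obtain ⟨y, hy, j, hj, rfl⟩ := Submodule.mem_sup.1 ha
    obtain ⟨y', hy', j', hj', rfl⟩ := Submodule.mem_sup.1 hb
    obtain ⟨r₁, r₂, rfl⟩ := Submodule.mem_span_pair.1 hy
    obtain ⟨r₁', r₂', rfl⟩ := Submodule.mem_span_pair.1 hy'
    have e : (r₁ • (1 : S) + r₂ • u + j) * (r₁' • (1 : S) + r₂' • u + j') =
        (r₁ * r₁') • (1 : S) + (r₁ * r₂' + r₂ * r₁') • u + (r₂ * r₂') • (u * u) +
          ((r₁ • (1 : S) + r₂ • u + j) * j' + (r₁' • (1 : S) + r₂' • u) * j) := by
      simp only [Algebra.smul_def, map_mul, map_add]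
      ring
    rw [e]
    refine Submodule.add_mem _ (Submodule.add_mem _ (Submodule.add_mem _ ?_ ?_) ?_) ?_
    · exact Submodule.smul_mem _ _ h1
    · exact Submodule.smul_mem _ _ hu
    · exact Submodule.smul_mem _ _ huu
    · exact Submodule.mem_sup_right (Submodule.add_mem _ (hJ _ _ hj') (hJ _ _ hj))

theorem order_sq_sub_eq {k : Type*} [Field k] (m n : ℕ) (hmn : 2 * m < n)
    (s U : PowerSeries k) (hU : U.order = m) :
    (U * U - X ^ n * s).order = ((2 * m : ℕ) : ℕ∞) := by
  have h1 : (U * U).order = ((2 * m : ℕ) : ℕ∞) := by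
    rw [order_mul, hU]; push_cast; ring
  have h2 : ((n : ℕ) : ℕ∞) ≤ (-(X ^ n * s)).order := by
    rw [order_neg, order_mul, order_X_pow]; exact le_self_add
  have h3 : ((2 * m : ℕ) : ℕ∞) < (-(X ^ n * s)).order :=
    lt_of_lt_of_le (by exact_mod_cast hmn) h2
  rw [sub_eq_add_neg, order_add_of_order_ne _ _ (by rw [h1]; exact ne_of_lt h3), h1]
  exact min_eq_left h3.le

/-- The key computation for the totally ramified triple cover. -/
theorem crimp_key3 {k : Type*} [Field k] (m n : ℕ) (hm : ¬ 3 ∣ m) (hmn : 2 * m < n)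
    (a b s U : PowerSeries k) (hU : U.order = m) :
    U * U ≠ PowerSeries.expand 3 (by norm_num) a + PowerSeries.expand 3 (by norm_num) b * U
      + X ^ n * s := by
  intro h
  have hL := order_sq_sub_eq m n hmn s U hU
  have hR : U * U - X ^ n * s =
      PowerSeries.expand 3 (by norm_num) a + PowerSeries.expand 3 (by norm_num) b * U := by
    rw [h]; ring
  rw [hR] at hL
  by_cases ha : a = 0
  · by_cases hb : b = 0
    · subst ha; subst hb
      simp only [map_zero, zero_mul, add_zero, order_zero] at hL
      exact ENat.coe_ne_top _ hL.symm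
    · subst ha
      rw [map_zero, zero_add, order_mul, order_expand, hU, ← coe_toNat_order hb] at hL
      have : 3 * b.order.toNat + m = 2 * m := by
        have h' : ((3 * b.order.toNat + m : ℕ) : ℕ∞) = ((2 * m : ℕ) : ℕ∞) := by
          rw [← hL]; push_cast; rw [nsmul_eq_mul]; rfl
        exact_mod_cast h'
      omega
  · by_cases hb : b = 0
    · subst hb
      rw [map_zero, zero_mul, add_zero, order_expand, ← coe_toNat_order ha] at hL
      have : 3 * a.order.toNat = 2 * m := by
        have h' : ((3 * a.order.toNat : ℕ) : ℕ∞) = ((2 * m : ℕ) : ℕ∞) := by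
          rw [← hL]; push_cast; rw [nsmul_eq_mul]; rfl
        exact_mod_cast h'
      omega
    · have hA : (PowerSeries.expand 3 (by norm_num) a).order = ((3 * a.order.toNat : ℕ) : ℕ∞) := by
        rw [order_expand, ← coe_toNat_order ha]; push_cast; rw [nsmul_eq_mul]
        simp
      have hB : (PowerSeries.expand 3 (by norm_num) b * U).order =
          ((3 * b.order.toNat + m : ℕ) : ℕ∞) := by
        rw [order_mul, order_expand, hU, ← coe_toNat_order hb]; push_cast; rw [nsmul_eq_mul]
        simp
      have hne : (PowerSeries.expand 3 (by norm_num) a).order ≠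
          (PowerSeries.expand 3 (by norm_num) b * U).order := by
        rw [hA, hB]
        intro h'
        have : 3 * a.order.toNat = 3 * b.order.toNat + m := by exact_mod_cast h'
        omega
      rw [order_add_of_order_ne _ _ hne, hA, hB] at hL
      rcases min_choice (((3 * a.order.toNat : ℕ) : ℕ∞)) (((3 * b.order.toNat + m : ℕ) : ℕ∞))
        with h' | h'
      · rw [h'] at hL
        have : 3 * a.order.toNat = 2 * m := by exact_mod_cast hL
        omega
      · rw [h'] at hL
        have : 3 * b.order.toNat + m = 2 * m := by exact_mod_cast hL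
        omega

/-- The key computation for the simply ramified cover. -/
theorem crimp_key2 {k : Type*} [Field k] (m n : ℕ) (hm : Odd m) (hmn : 2 * m < n)
    (b s U : PowerSeries k) (hU : U.order = m) :
    U * U ≠ PowerSeries.expand 2 (by norm_num) b * U + X ^ n * s := by
  intro h
  have hL := order_sq_sub_eq m n hmn s U hU
  have hR : U * U - X ^ n * s = PowerSeries.expand 2 (by norm_num) b * U := by
    rw [h]; ring
  rw [hR] at hL
  by_cases hb : b = 0
  · subst hb
    simp only [map_zero, zero_mul, order_zero] at hL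
    exact ENat.coe_ne_top _ hL.symm
  · rw [order_mul, order_expand, hU, ← coe_toNat_order hb] at hL
    have : 2 * b.order.toNat + m = 2 * m := by
      have h' : ((2 * b.order.toNat + m : ℕ) : ℕ∞) = ((2 * m : ℕ) : ℕ∞) := by
        rw [← hL]; push_cast; rw [nsmul_eq_mul]; rfl
      exact_mod_cast h'
    obtain ⟨r, hr⟩ := hm
    omega

end Groth.Agent.Lib.Helper22
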