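import Mathlib
import Groth.Agent.Lib.Helper11DimOneC

set_option autoImplicit false
set_option linter.style.haveILetI false
set_option linter.unusedSectionVars false
set_option linter.unusedVariables false
universe u
open CategoryTheory AlgebraicGeometry TopologicalSpace Opposite Limits

/-!
# Stacks 09NN-type statement without locally Noetherian hypothesis (helper22)

Adaptation of helper11's `Helper11DimOneB/C`: the locally Noetherian hypothesis is only used to know
that the local rings at the given points are Noetherian.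
-/

namespace Groth.Agent.Lib.Helper22DimOneGen

open Groth.Agent.Lib.Helper11.DimOne Groth.Agent.Lib.Helper11 Groth.Agent.Lib.Helper11.GenPt

section integral

variable {X : Scheme.{u}} [IsIntegral X]

theorem exists_affine_of_integral_aux' [X.IsSeparated] (r : ℕ) (hr : 1 ≤ r)
    (x : Fin r → X) (hinj : Function.Injective x)
    (hN : ∀ i, IsNoetherianRing (X.presheaf.stalk (x i)))
    (hx : ∀ i, ringKrullDim (X.presheaf.stalk (x i)) ≤ 1)
    (hne : ∀ i, x i ≠ genericPoint X) :
    ∃ U : X.Opens, IsAffineOpen U ∧ ∀ i, x i ∈ U := by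
  let K := X.functionField
  let A : Fin r → Subring K := fun i => stalkSubring (x i)
  haveI hloc : ∀ i, IsLocalRing (A i) := fun i => (stalkEquiv (x i)).isLocalRing
  haveI : ∀ i, IsNoetherianRing (A i) := fun i =>
    haveI := hN i
    isNoetherianRing_of_ringEquiv (X.presheaf.stalk (x i)) (stalkEquiv (x i))
  haveI : ∀ i, IsFractionRing (A i) K := fun i => inferInstance
  have hdim : ∀ i, ringKrullDim (A i) = 1 := fun i => by
    rw [← ringKrullDim_eq_of_ringEquiv (stalkEquiv (x i))]
    exact ringKrullDim_stalk_eq_one (x i) (hx i) (hne i)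
  have hsl : ∀ i, Finite (MaximalSpectrum (A i)) := fun i => inferInstance
  have hgen : ∀ i j, i ≠ j → A i ⊔ A j = ⊤ := fun i j hij =>
    stalkSubring_sup_eq_top (x i) (x j) (fun h => hij (hinj h)) (hx i) (hx j)
  obtain ⟨hN, hdimB, hslB, hfrB, hopen, hcov, huniq⟩ :=
    Groth.Agent.S7665.result K r hr A hdim hsl hgen
  let g : ∀ i, Spec (CommRingCat.of (A i)) ⟶ X := fun i => toX (x i) (A i) le_rfl
  obtain ⟨gl, hgl⟩ := exists_glue A hdimB.le hopen hcov huniq g
    (Spec.map (CommRingCat.ofHom (RingHom.id X.functionField)) ≫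
        X.fromSpecStalk (genericPoint X))
    (fun i => SpecMap_subtype_toX (x i) (A i) le_rfl)
  let o : ∀ i, Spec (CommRingCat.of (A i)) ⟶ Spec (CommRingCat.of ↥(⨅ i, A i)) := fun i =>
    Spec.map (CommRingCat.ofHom (Subring.inclusion (iInf_le A i)))
  haveI : ∀ i, IsOpenImmersion (o i) := hopen
  have hgl' : ∀ i, o i ≫ gl = g i := hgl
  -- generic points of `Spec B`
  have hgenB : ∀ η : Spec (CommRingCat.of ↥(⨅ i, A i)), IsGen η →
      (η : PrimeSpectrum ↥(⨅ i, A i)).asIdeal = ⊥ := by
    intro η hη
    have h1 : (⟨⊥, Ideal.isPrime_bot⟩ : PrimeSpectrum ↥(⨅ i, A i)) ⤳ η := by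
      rw [← PrimeSpectrum.le_iff_specializes]
      exact bot_le (a := (η : PrimeSpectrum ↥(⨅ i, A i)).asIdeal)
    have := hη _ h1
    rw [← this]
  have hXfin : {ξ : X | IsGen ξ}.Finite := by
    have : {ξ : X | IsGen ξ} = {genericPoint X} := by
      ext ξ
      exact isGen_iff_eq_genericPoint ξ
    rw [this]
    exact Set.finite_singleton _
  have hgenmap : ∀ η : Spec (CommRingCat.of ↥(⨅ i, A i)), IsGen η → IsGen (gl η) := by
    intro η hη
    have : η ∈ ⋃ i, Set.range (o i).base := by rw [hcov]; trivial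
    obtain ⟨i, q, hq⟩ := Set.mem_iUnion.1 this
    have hq' : (o i) q = η := hq
    have hqgen : IsGen q := by
      rw [← isGen_iff_of_isOpenEmbedding (o i).isOpenEmbedding, hq']
      exact hη
    have hqbot : (q : PrimeSpectrum (A i)).asIdeal = ⊥ := by
      have h1 : (⟨⊥, Ideal.isPrime_bot⟩ : PrimeSpectrum (A i)) ⤳ q := by
        rw [← PrimeSpectrum.le_iff_specializes]
        exact bot_le (a := (q : PrimeSpectrum (A i)).asIdeal)
      have := hqgen _ h1
      rw [← this]
    rw [isGen_iff_eq_genericPoint, ← hq', ← Scheme.Hom.comp_apply, hgl']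
    exact toX_generic (x i) (A i) le_rfl q hqbot
  have hinjgen : ∀ η η' : Spec (CommRingCat.of ↥(⨅ i, A i)), IsGen η → IsGen η' →
      gl η = gl η' → η = η' := by
    intro η η' h h' _
    exact PrimeSpectrum.ext ((hgenB η h).trans (hgenB η' h').symm)
  let c : ∀ i, Spec (CommRingCat.of (A i)) := fun i => IsLocalRing.closedPoint (A i)
  classical
  let s : Finset (Spec (CommRingCat.of ↥(⨅ i, A i))) := Finset.univ.image (fun i => (o i) (c i))
  have hs : ∀ t ∈ s, IsIso (gl.stalkMap t) := by
    intro t ht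
    obtain ⟨i, -, rfl⟩ := Finset.mem_image.1 ht
    have h1 : IsIso ((g i).stalkMap (c i)) := isIso_stalkMap_toX (x i)
    have h2 : IsIso ((o i ≫ gl).stalkMap (c i)) := by
      rw [Scheme.Hom.stalkMap_congr_hom _ _ (hgl' i)]
      exact IsIso.comp_isIso' (Iso.isIso_hom _) h1
    rw [Scheme.Hom.stalkMap_comp] at h2
    exact @IsIso.of_isIso_comp_right _ _ _ _ _ _ ((o i).stalkMap (c i)) inferInstance h2
  obtain ⟨U, hU, hUs⟩ := AffImg.main gl hXfin hgenmap hinjgen s hs
  refine ⟨U, hU, fun i => ?_⟩
  have h1 := hUs ((o i) (c i)) (Finset.mem_image.2 ⟨i, Finset.mem_univ _, rfl⟩)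
  rw [← Scheme.Hom.comp_apply, hgl'] at h1
  have h2 : (g i) (c i) = x i := by
    apply toX_apply_of_ne_bot (x i) (hx i) (A i) le_rfl
    change IsLocalRing.maximalIdeal (A i) ≠ ⊥
    intro h0
    have hf : IsField (A i) := IsLocalRing.isField_iff_maximalIdeal_eq.2 h0
    have := ringKrullDim_eq_zero_of_isField hf
    rw [hdim i] at this
    exact one_ne_zero this
  rw [h2] at h1
  exact h1

theorem exists_affine_of_integral' [X.IsSeparated] (T : Finset X)
    (hN : ∀ t ∈ T, IsNoetherianRing (X.presheaf.stalk t))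
    (hT : ∀ t ∈ T, ringKrullDim (X.presheaf.stalk t) ≤ 1) :
    ∃ U : X.Opens, IsAffineOpen U ∧ ∀ t ∈ T, t ∈ U := by
  classical
  let T₁ : Finset X := T.filter (fun t => t ≠ genericPoint X)
  by_cases hT₁ : T₁.Nonempty
  · have hr : 1 ≤ T₁.card := Finset.card_pos.2 hT₁
    let e : Fin T₁.card ≃ T₁ := T₁.equivFin.symm
    obtain ⟨U, hU, hUx⟩ := exists_affine_of_integral_aux' T₁.card hr (fun i => (e i).1)
      (fun i j hij => e.injective (Subtype.ext hij))
      (fun i => hN _ (Finset.mem_filter.1 (e i).2).1)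
      (fun i => hT _ (Finset.mem_filter.1 (e i).2).1)
      (fun i => (Finset.mem_filter.1 (e i).2).2)
    refine ⟨U, hU, fun t ht => ?_⟩
    by_cases htg : t = genericPoint X
    · rw [htg]
      obtain ⟨t₀, ht₀⟩ := hT₁
      have h0 := hUx (e.symm ⟨t₀, ht₀⟩)
      exact ((genericPoint_spec X).specializes trivial).mem_open U.2 h0
    · have ht₁ : t ∈ T₁ := Finset.mem_filter.2 ⟨ht, htg⟩
      have h0 := hUx (e.symm ⟨t, ht₁⟩)
      simpa using h0
  · obtain ⟨U, hU, hgU, -⟩ := exists_isAffineOpen_mem_and_subset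
      (x := genericPoint X) (U := ⊤) trivial
    refine ⟨U, hU, fun t ht => ?_⟩
    by_cases htg : t = genericPoint X
    · rw [htg]; exact hgU
    · exact absurd ⟨t, Finset.mem_filter.2 ⟨ht, htg⟩⟩ hT₁

end integral

open Scheme.IdealSheafData in
theorem exists_affine_of_finite_components {X : Scheme.{u}} [X.IsSeparated]
    (hX : (irreducibleComponents (X : Type u)).Finite)
    (T : Finset X) (hN : ∀ t ∈ T, IsNoetherianRing (X.presheaf.stalk t))
    (hT : ∀ t ∈ T, ringKrullDim (X.presheaf.stalk t) ≤ 1) :
    ∃ U : X.Opens, IsAffineOpen U ∧ ∀ t ∈ T, t ∈ U := by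
  classical
  apply AffGlue.exists_affine_of_per_component hX T
  intro Z hZ
  set Zc : Closeds X := ⟨Z, isClosed_of_mem_irreducibleComponents Z hZ⟩ with hZc
  set I := vanishingIdeal Zc with hI
  haveI : IrreducibleSpace I.subscheme :=
    GrpdRat.irreducibleSpace_subscheme Zc hZ.1
  haveI : IsIntegral I.subscheme := isIntegral_of_irreducibleSpace_of_isReduced _
  haveI : I.subscheme.IsSeparated := by
    constructor
    have : terminal.from I.subscheme = I.subschemeι ≫ terminal.from X := by
      apply Subsingleton.elim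
    rw [this]
    infer_instance
  have hinj : Function.Injective I.subschemeι := I.subschemeι.isClosedEmbedding.injective
  let T' : Finset I.subscheme := T.preimage I.subschemeι hinj.injOn
  obtain ⟨V, hV, hTV⟩ := exists_affine_of_integral' T'
    (fun y hy => by
      haveI := hN _ (Finset.mem_preimage.1 hy)
      exact isNoetherianRing_of_surjective _ _ (I.subschemeι.stalkMap y).hom
        (I.subschemeι.stalkMap_surjective y))
    (fun y hy => by
      have h1 := hT _ (Finset.mem_preimage.1 hy)
      exact (ringKrullDim_le_of_surjective _ (I.subschemeι.stalkMap_surjective y)).trans h1)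
  refine ⟨V, hV, fun t ht htZ => ?_⟩
  obtain ⟨y, rfl⟩ := AffGlue.exists_subschemeι_eq I (x := t)
    ((AffGlue.mem_support_vanishingIdeal _ _).2 htZ)
  exact ⟨y, hTV y (Finset.mem_preimage.2 ht), rfl⟩

/-- **Stacks 09NN-type**: on a separated scheme whose quasi-compact opens have finitely many
irreducible components, finitely many points with Noetherian local rings of dimension at most one
lie in a common affine open. -/
theorem exists_affine_of_dim_le_one' {X : Scheme.{u}} [X.IsSeparated]
    (hirr : ∀ U : X.Opens, IsCompact (U : Set X) → (irreducibleComponents (U : Set X)).Finite)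
    (T : Finset X) (hN : ∀ t ∈ T, IsNoetherianRing (X.presheaf.stalk t))
    (hT : ∀ t ∈ T, ringKrullDim (X.presheaf.stalk t) ≤ 1) :
    ∃ U : X.Opens, IsAffineOpen U ∧ ∀ t ∈ T, t ∈ U := by
  classical
  obtain ⟨V, hVc, hTV⟩ := AffImg.exists_compact_open_of_compact (X := X) (T : Set X)
    T.finite_toSet.isCompact
  haveI : V.toScheme.IsSeparated := by
    constructor
    have : terminal.from V.toScheme = V.ι ≫ terminal.from X := by
      apply Subsingleton.elim
    rw [this]
    infer_instance
  have hfin : (irreducibleComponents (V.toScheme : Type u)).Finite := hirr V hVc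
  have hinj : Function.Injective V.ι := V.ι.isOpenEmbedding.injective
  let T' : Finset V.toScheme := T.preimage V.ι hinj.injOn
  obtain ⟨U, hU, hTU⟩ := exists_affine_of_finite_components hfin T'
    (fun y hy => by
      haveI := hN _ (Finset.mem_preimage.1 hy)
      have e : X.presheaf.stalk (V.ι y) ≅ V.toScheme.presheaf.stalk y := asIso (V.ι.stalkMap y)
      exact isNoetherianRing_of_ringEquiv _ e.commRingCatIsoToRingEquiv)
    (fun y hy => by
      have h1 := hT _ (Finset.mem_preimage.1 hy)
      have e : X.presheaf.stalk (V.ι y) ≅ V.toScheme.presheaf.stalk y := asIso (V.ι.stalkMap y)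
      rw [← ringKrullDim_eq_of_ringEquiv e.commRingCatIsoToRingEquiv]
      exact h1)
  refine ⟨V.ι ''ᵁ U, hU.image_of_isOpenImmersion V.ι, fun t ht => ?_⟩
  have htV : t ∈ V := hTV ht
  refine ⟨⟨t, htV⟩, hTU _ (Finset.mem_preimage.2 ?_), rfl⟩
  exact ht

end Groth.Agent.Lib.Helper22DimOneGen
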