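import Mathlib
import Groth.Prelude
import Groth.Agent.Lib.Helper22Hartogs2
import Groth.Agent.Lib.Helper20TraceEt

set_option autoImplicit false
set_option linter.style.haveILetI false
universe u

/-!
# Discriminant purity: a finite flat morphism étale outside a closed set of depth ≥ 2 is étale (helper22)

Namespace `Groth.Agent.Lib.Helper22.DiscPurity`.
-/

namespace Groth.Agent.Lib.Helper22.DiscPurity
open AlgebraicGeometry CategoryTheory CategoryTheory.Limits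

section Alg

theorem isUnit_of_regular_pair {A : Type*} [CommRing A] (a b d : A)
    (ha : IsSMulRegular A a) (hb : ∀ u : A, (∃ v, b * u = a * v) → ∃ w, u = a * w)
    (hda : ∃ (u : A) (n : ℕ), d * u = a ^ n) (hdb : ∃ (v : A) (m : ℕ), d * v = b ^ m) :
    IsUnit d := by
  obtain ⟨u, n, hu⟩ := hda
  obtain ⟨v, m, hv⟩ := hdb
  obtain ⟨w, hw⟩ := Groth.Agent.Lib.Helper22.Hartogs.regular_pair_pow ha hb n m u
    ⟨v, by rw [← hv, ← hu]; ring⟩
  have han : IsSMulRegular A (a ^ n) := ha.pow n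
  have h1 : d * w = 1 := by
    apply han
    change a ^ n * (d * w) = a ^ n * 1
    rw [mul_one]
    conv_rhs => rw [← hu, hw]
    ring
  exact IsUnit.of_mul_eq_one _ h1

theorem exists_mul_eq_pow_of_unramified {A B : Type*} [CommRing A] [CommRing B] [Algebra A B]
    {ι : Type*} [Fintype ι] [DecidableEq ι] (bas : Module.Basis ι A B) (g : A)
    (Ag Bg : Type*) [CommRing Ag] [CommRing Bg] [Algebra A Ag] [Algebra B Bg] [Algebra Ag Bg]
    [Algebra A Bg] [IsScalarTower A Ag Bg] [IsScalarTower A B Bg]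
    [IsLocalization.Away g Ag]
    [IsLocalization (Algebra.algebraMapSubmonoid B (Submonoid.powers g)) Bg]
    [Algebra.FormallyUnramified Ag Bg] :
    ∃ (u : A) (n : ℕ), Algebra.discr A bas * u = g ^ n := by
  have h1 := Groth.Agent.Lib.Helper20.TraceEt.isUnit_discr_of_formallyUnramified
    (bas.localizationLocalization Ag (Submonoid.powers g) Bg)
  rw [Algebra.discr_localizationLocalization] at h1
  obtain ⟨y, hy⟩ := h1.exists_right_inv
  obtain ⟨u, s, rfl⟩ := IsLocalization.exists_mk'_eq (Submonoid.powers g) y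
  obtain ⟨n, hn⟩ := s.2
  have h2 : algebraMap A Ag (Algebra.discr A bas * u) = algebraMap A Ag (s : A) := by
    rw [map_mul, ← IsLocalization.mk'_spec' Ag u s, ← mul_assoc, mul_comm _ (algebraMap A Ag s),
      mul_assoc, hy, mul_one]
  obtain ⟨⟨_, k, rfl⟩, hc⟩ := (IsLocalization.eq_iff_exists (Submonoid.powers g) Ag).mp h2
  refine ⟨g ^ k * u, k + n, ?_⟩
  have hn' : g ^ n = (s : A) := hn
  rw [pow_add, hn', ← hc]
  ring

end Alg

set_option backward.isDefEq.respectTransparency.types false in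
theorem etale_app_of_le {X Y : Scheme.{u}} (π : Y ⟶ X) (U : X.Opens)
    [Etale (pullback.snd π U.ι)] [IsAffineHom π] (D : X.Opens) (hD : IsAffineOpen D)
    (hDU : D ≤ U) : (π.app D).hom.Etale := by
  have h1 : Etale (π ∣_ U) :=
    (MorphismProperty.cancel_left_of_respectsIso (P := @Etale)
      (pullbackRestrictIsoRestrict π U).hom (π ∣_ U)).mp
      (by rw [pullbackRestrictIsoRestrict_hom_morphismRestrict]; infer_instance)
  have h0 : IsAffineHom (π ∣_ U) := IsZariskiLocalAtTarget.restrict ‹IsAffineHom π› U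
  have hV : IsAffineOpen (U.ι ⁻¹ᵁ D) :=
    hD.preimage_of_isOpenImmersion U.ι (by rw [Scheme.Opens.opensRange_ι]; exact hDU)
  have hW : IsAffineOpen ((π ∣_ U) ⁻¹ᵁ (U.ι ⁻¹ᵁ D)) := hV.preimage (π ∣_ U)
  have h2 := HasRingHomProperty.appLE (P := @Etale) (π ∣_ U) h1 ⟨_, hV⟩ ⟨_, hW⟩ le_rfl
  rw [morphismRestrict_appLE] at h2
  have e1 : U.ι ''ᵁ (U.ι ⁻¹ᵁ D) = D := by
    rw [Scheme.Hom.image_preimage_eq_opensRange_inf, Scheme.Opens.opensRange_ι]
    exact inf_eq_right.mpr hDU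
  have e2 : (π ⁻¹ᵁ U).ι ''ᵁ ((π ∣_ U) ⁻¹ᵁ (U.ι ⁻¹ᵁ D)) = π ⁻¹ᵁ D := by
    rw [image_morphismRestrict_preimage, e1]
  rw [Scheme.Hom.app_eq_appLE]
  exact (Scheme.Hom.appLE_congr (f := π) _ e1 e2 (fun φ => φ.hom.Etale)).mp h2


set_option backward.isDefEq.respectTransparency.types false in
theorem exists_mul_eq_pow {X Y : Scheme.{u}} (π : Y ⟶ X) [IsAffineHom π] (U : X.Opens)
    [Etale (pullback.snd π U.ι)] (W : X.Opens) (hW : IsAffineOpen W)
    {ι : Type*} [Fintype ι] [DecidableEq ι] :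
    letI : Algebra Γ(X, W) Γ(Y, π ⁻¹ᵁ W) := (π.app W).hom.toAlgebra
    ∀ (bas : Module.Basis ι Γ(X, W) Γ(Y, π ⁻¹ᵁ W)) (g : Γ(X, W)), X.basicOpen g ≤ U →
    ∃ (u : Γ(X, W)) (n : ℕ), Algebra.discr Γ(X, W) bas * u = g ^ n := by
  intro bas g hg
  letI : Algebra Γ(X, W) Γ(Y, π ⁻¹ᵁ W) := (π.app W).hom.toAlgebra
  have hD : IsAffineOpen (X.basicOpen g) := hW.basicOpen g
  have hEt := etale_app_of_le π U (X.basicOpen g) hD hg
  letI iBB'' : Algebra Γ(Y, π ⁻¹ᵁ W) Γ(Y, π ⁻¹ᵁ X.basicOpen g) :=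
    (Y.presheaf.map (homOfLE (π.preimage_mono (X.basicOpen_le g))).op).hom.toAlgebra
  letI iA''B'' : Algebra Γ(X, X.basicOpen g) Γ(Y, π ⁻¹ᵁ X.basicOpen g) :=
    (π.app (X.basicOpen g)).hom.toAlgebra
  letI iAB'' : Algebra Γ(X, W) Γ(Y, π ⁻¹ᵁ X.basicOpen g) :=
    ((algebraMap Γ(X, X.basicOpen g) Γ(Y, π ⁻¹ᵁ X.basicOpen g)).comp
      (algebraMap Γ(X, W) Γ(X, X.basicOpen g))).toAlgebra
  haveI : IsScalarTower Γ(X, W) Γ(X, X.basicOpen g) Γ(Y, π ⁻¹ᵁ X.basicOpen g) :=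
    IsScalarTower.of_algebraMap_eq (fun _ => rfl)
  haveI : IsScalarTower Γ(X, W) Γ(Y, π ⁻¹ᵁ W) Γ(Y, π ⁻¹ᵁ X.basicOpen g) :=
    IsScalarTower.of_algebraMap_eq (fun r => by
      exact congr($(π.naturality (homOfLE (X.basicOpen_le g)).op) r))
  haveI : IsLocalization.Away g Γ(X, X.basicOpen g) := hW.isLocalization_basicOpen g
  haveI : IsLocalization (Algebra.algebraMapSubmonoid Γ(Y, π ⁻¹ᵁ W) (Submonoid.powers g))
      Γ(Y, π ⁻¹ᵁ X.basicOpen g) := by
    have := (hW.preimage π).isLocalization_of_eq_basicOpen (π.app W g)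
      (homOfLE (π.preimage_mono (X.basicOpen_le g))) (Scheme.preimage_basicOpen π g)
    rw [Algebra.algebraMapSubmonoid_powers]
    exact this
  haveI : Algebra.FormallyUnramified Γ(X, X.basicOpen g) Γ(Y, π ⁻¹ᵁ X.basicOpen g) := by
    have : Algebra.Etale Γ(X, X.basicOpen g) Γ(Y, π ⁻¹ᵁ X.basicOpen g) := hEt
    infer_instance
  exact exists_mul_eq_pow_of_unramified bas g Γ(X, X.basicOpen g) Γ(Y, π ⁻¹ᵁ X.basicOpen g)


set_option backward.isDefEq.respectTransparency.types false in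
theorem etale_app_of_free {X Y : Scheme.{u}} [IsLocallyNoetherian X] (π : Y ⟶ X) [IsFinite π]
    (U : X.Opens)
    (hU : ∀ x : X, x ∉ U → (2 : ℕ∞) ≤ LocCoh.depth (X.presheaf.stalk x) (X.presheaf.stalk x))
    [Etale (pullback.snd π U.ι)] (W : X.Opens) (hW : IsAffineOpen W)
    (hfree : @Module.Free Γ(X, W) Γ(Y, π ⁻¹ᵁ W) _ _ (π.app W).hom.toAlgebra.toModule) :
    (π.app W).hom.Etale := by
  letI : Algebra Γ(X, W) Γ(Y, π ⁻¹ᵁ W) := (π.app W).hom.toAlgebra
  have hfin : Module.Finite Γ(X, W) Γ(Y, π ⁻¹ᵁ W) := π.finite_app W hW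
  obtain ⟨a, b, haU, hbU, ha, hb⟩ :=
    Groth.Agent.Lib.Helper22.Hartogs.exists_regular_pair_of_depth hW U (fun x _ hx => hU x hx)
  classical
  let bas := Module.Free.chooseBasis Γ(X, W) Γ(Y, π ⁻¹ᵁ W)
  have hda := exists_mul_eq_pow π U W hW bas a haU
  have hdb := exists_mul_eq_pow π U W hW bas b hbU
  have hunit := isUnit_of_regular_pair a b _ ha hb hda hdb
  have : Algebra.Etale Γ(X, W) Γ(Y, π ⁻¹ᵁ W) :=
    (Groth.Agent.Lib.Helper20.TraceEt.etale_iff_isUnit_discr bas).mpr hunit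
  exact this


attribute [local instance] RingHomInvPair.of_ringEquiv in
/-- (helper20, `Helper20LocFree.free_of_isLocalizedModule`) transfer of freeness between two models
of a localized module. -/
theorem free_of_isLocalizedModule {R M : Type*} [CommRing R] [AddCommGroup M] [Module R M]
    (S : Submonoid R)
    (Rₛ Mₛ : Type*) [CommRing Rₛ] [Algebra R Rₛ] [IsLocalization S Rₛ]
    [AddCommGroup Mₛ] [Module R Mₛ] (f : M →ₗ[R] Mₛ) [IsLocalizedModule S f]
    [Module Rₛ Mₛ] [IsScalarTower R Rₛ Mₛ]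
    (h : Module.Free (Localization S) (LocalizedModule S M)) : Module.Free Rₛ Mₛ := by
  set e := (IsLocalization.algEquiv S (Localization S) Rₛ).toRingEquiv
  refine (Module.Free.iff_of_equiv (σ := e) ?_).1 h
  refine { __ := IsLocalizedModule.iso S f, map_smul' := ?_ }
  intro r x
  obtain ⟨r, s, rfl⟩ := IsLocalization.exists_mk'_eq S r
  apply ((Module.End.isUnit_iff _).mp (IsLocalizedModule.map_units f s)).1
  simp [e, ← map_smul, ← smul_assoc]

set_option backward.isDefEq.respectTransparency.types false in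
theorem exists_affine_free {X Y : Scheme.{u}} [IsLocallyNoetherian X] (π : Y ⟶ X) [IsFinite π]
    [Flat π] (x : X) :
    ∃ W' : X.Opens, IsAffineOpen W' ∧ x ∈ W' ∧
      @Module.Free Γ(X, W') Γ(Y, π ⁻¹ᵁ W') _ _ (π.app W').hom.toAlgebra.toModule := by
  obtain ⟨_, ⟨W, hW, rfl⟩, hxW, -⟩ :=
    X.isBasis_affineOpens.exists_subset_of_mem_open (Set.mem_univ x) isOpen_univ
  letI : Algebra Γ(X, W) Γ(Y, π ⁻¹ᵁ W) := (π.app W).hom.toAlgebra
  have hfin : Module.Finite Γ(X, W) Γ(Y, π ⁻¹ᵁ W) := π.finite_app W hW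
  have hflat : Module.Flat Γ(X, W) Γ(Y, π ⁻¹ᵁ W) := by
    have := Flat.flat_appLE π hW (hW.preimage π) le_rfl
    rw [← Scheme.Hom.app_eq_appLE] at this
    exact this
  haveI : IsNoetherianRing Γ(X, W) := IsLocallyNoetherian.component_noetherian ⟨W, hW⟩
  haveI : Module.FinitePresentation Γ(X, W) Γ(Y, π ⁻¹ᵁ W) :=
    Module.finitePresentation_of_finite _ _
  let p := hW.primeIdealOf ⟨x, hxW⟩
  have hp : p ∈ Module.freeLocus Γ(X, W) Γ(Y, π ⁻¹ᵁ W) := by
    rw [Module.freeLocus_eq_univ]; trivial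
  haveI : Module.Free (Localization.AtPrime p.asIdeal)
      (LocalizedModule p.asIdeal.primeCompl Γ(Y, π ⁻¹ᵁ W)) := Module.mem_freeLocus.1 hp
  obtain ⟨g, hg, hfree, _⟩ := Module.FinitePresentation.exists_free_localizedModule_powers
    p.asIdeal.primeCompl (LocalizedModule.mkLinearMap p.asIdeal.primeCompl Γ(Y, π ⁻¹ᵁ W))
    (Localization.AtPrime p.asIdeal)
  refine ⟨X.basicOpen g, hW.basicOpen g, ?_, ?_⟩
  · have h1 : p ∈ hW.fromSpec ⁻¹ᵁ X.basicOpen g := by
      rw [hW.fromSpec_preimage_basicOpen]; exact hg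
    have h2 : hW.fromSpec p ∈ X.basicOpen g := h1
    rwa [hW.fromSpec_primeIdealOf] at h2
  · letI iBB'' : Algebra Γ(Y, π ⁻¹ᵁ W) Γ(Y, π ⁻¹ᵁ X.basicOpen g) :=
      (Y.presheaf.map (homOfLE (π.preimage_mono (X.basicOpen_le g))).op).hom.toAlgebra
    letI iA''B'' : Algebra Γ(X, X.basicOpen g) Γ(Y, π ⁻¹ᵁ X.basicOpen g) :=
      (π.app (X.basicOpen g)).hom.toAlgebra
    letI iAB'' : Algebra Γ(X, W) Γ(Y, π ⁻¹ᵁ X.basicOpen g) :=
      ((algebraMap Γ(X, X.basicOpen g) Γ(Y, π ⁻¹ᵁ X.basicOpen g)).comp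
        (algebraMap Γ(X, W) Γ(X, X.basicOpen g))).toAlgebra
    haveI : IsScalarTower Γ(X, W) Γ(X, X.basicOpen g) Γ(Y, π ⁻¹ᵁ X.basicOpen g) :=
      IsScalarTower.of_algebraMap_eq (fun _ => rfl)
    haveI : IsScalarTower Γ(X, W) Γ(Y, π ⁻¹ᵁ W) Γ(Y, π ⁻¹ᵁ X.basicOpen g) :=
      IsScalarTower.of_algebraMap_eq (fun r => by
        exact congr($(π.naturality (homOfLE (X.basicOpen_le g)).op) r))
    haveI : IsLocalization.Away g Γ(X, X.basicOpen g) := hW.isLocalization_basicOpen g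
    haveI : IsLocalization (Algebra.algebraMapSubmonoid Γ(Y, π ⁻¹ᵁ W) (Submonoid.powers g))
        Γ(Y, π ⁻¹ᵁ X.basicOpen g) := by
      have := (hW.preimage π).isLocalization_of_eq_basicOpen (π.app W g)
        (homOfLE (π.preimage_mono (X.basicOpen_le g))) (Scheme.preimage_basicOpen π g)
      rw [Algebra.algebraMapSubmonoid_powers]
      exact this
    haveI : IsLocalizedModule (Submonoid.powers g)
        (IsScalarTower.toAlgHom Γ(X, W) Γ(Y, π ⁻¹ᵁ W) Γ(Y, π ⁻¹ᵁ X.basicOpen g)).toLinearMap :=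
      (isLocalizedModule_iff_isLocalization).mpr inferInstance
    exact free_of_isLocalizedModule (Submonoid.powers g) Γ(X, X.basicOpen g)
      Γ(Y, π ⁻¹ᵁ X.basicOpen g)
      (IsScalarTower.toAlgHom Γ(X, W) Γ(Y, π ⁻¹ᵁ W) Γ(Y, π ⁻¹ᵁ X.basicOpen g)).toLinearMap hfree


set_option backward.isDefEq.respectTransparency.types false in
theorem etale_restrict_of_app {X Y : Scheme.{u}} (π : Y ⟶ X) [IsAffineHom π] (W : X.Opens)
    (hW : IsAffineOpen W) (h : (π.app W).hom.Etale) : Etale (π ∣_ W) := by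
  haveI : IsAffine (W : Scheme.{u}) := hW
  haveI : IsAffine (π ⁻¹ᵁ W : Scheme.{u}) := hW.preimage π
  rw [HasRingHomProperty.iff_of_isAffine (P := @Etale)]
  have key : ∀ D₀ : X.Opens, D₀ = W → (π.app D₀).hom.Etale := by rintro _ rfl; exact h
  have h2 : ((π.app (W.ι ''ᵁ ⊤)) ≫
      Y.presheaf.map (eqToHom (image_morphismRestrict_preimage π W ⊤)).op).hom.Etale := by
    rw [CommRingCat.hom_comp]
    refine RingHom.Etale.stableUnderComposition _ _ (key _ (Scheme.Opens.ι_image_top W)) ?_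
    exact RingHom.Etale.of_bijective ((ConcreteCategory.isIso_iff_bijective _).mp inferInstance)
  have h3 := morphismRestrict_appTop π W
  exact h3 ▸ h2

set_option backward.isDefEq.respectTransparency.types false in
theorem etale_of_flat {X : Scheme.{u}} [IsLocallyNoetherian X] (U : X.Opens)
    (hU : ∀ x : X, x ∉ U → (2 : ℕ∞) ≤ LocCoh.depth (X.presheaf.stalk x) (X.presheaf.stalk x))
    {Y : Scheme.{u}} (π : Y ⟶ X) [IsFinite π] [Etale (pullback.snd π U.ι)] [Flat π] :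
    Etale π := by
  apply IsZariskiLocalAtTarget.of_forall_exists_morphismRestrict (P := @Etale)
  intro x
  obtain ⟨W', hW', hxW', hfree⟩ := exists_affine_free π x
  exact ⟨W', hxW', etale_restrict_of_app π W' hW' (etale_app_of_free π U hU W' hW' hfree)⟩

end Groth.Agent.Lib.Helper22.DiscPurity
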