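import Groth.Prelude.Def_W4c1extbt610Disp

/-!
# Helper22: basic identities in a 3n-display
-/

set_option autoImplicit false

namespace Groth.Agent.Lib.Helper22

open W4c1extbt610 WittVector

variable {p : ℕ} [Fact p.Prime] {R : Type*} [CommRing R]
  {P : Type*} [AddCommGroup P] [Module (WittVector p R) P]

theorem disp_V1_smul_mem (D : Display3n p R P) (x : P) :
    (verschiebung (1 : WittVector p R)) • x ∈ D.Q :=
  D.IV_smul_le (Submodule.smul_mem_smul (verschiebung_mem_IV p R 1) Submodule.mem_top)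

theorem disp_F_eq_Vinv (D : Display3n p R P) (x : P) :
    D.F x = D.Vinv ⟨(verschiebung (1 : WittVector p R)) • x, disp_V1_smul_mem D x⟩ := by
  have := D.Vinv_verschiebung_smul 1 x
  rw [one_smul] at this
  exact this.symm

/-- On `Q`, `F = p · V⁻¹`. -/
theorem disp_F_eq_p_smul_Vinv (D : Display3n p R P) (y : D.Q) :
    D.F (y : P) = (p : WittVector p R) • D.Vinv y := by
  rw [disp_F_eq_Vinv]
  have : (⟨(verschiebung (1 : WittVector p R)) • (y : P), disp_V1_smul_mem D y⟩ : D.Q)
      = (verschiebung (1 : WittVector p R)) • y := rfl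
  rw [this, map_smulₛₗ, frobenius_verschiebung, one_mul]

theorem mem_IV_iff' (a : WittVector p R) : a ∈ IV p R ↔ ∃ w, a = verschiebung w := by
  constructor
  · intro ha
    induction ha using Submodule.span_induction with
    | mem x hx => obtain ⟨w, rfl⟩ := hx; exact ⟨w, rfl⟩
    | zero => exact ⟨0, (map_zero _).symm⟩
    | add x y _ _ hx hy =>
      obtain ⟨w₁, rfl⟩ := hx
      obtain ⟨w₂, rfl⟩ := hy
      exact ⟨w₁ + w₂, (map_add _ _ _).symm⟩
    | smul r x _ hx =>
      obtain ⟨w, rfl⟩ := hx
      exact ⟨w * frobenius r, by rw [verschiebung_mul_frobenius, smul_eq_mul, mul_comm]⟩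
  · rintro ⟨w, rfl⟩
    exact verschiebung_mem_IV p R w

end Groth.Agent.Lib.Helper22
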