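import Mathlib
import Groth.Agent.Lib.Helper4DimFormulaW
import Groth.Agent.Lib.Helper4DimFormulaAN
import Groth.Agent.Lib.Helper4DimFormulaU
import Groth.Agent.Lib.Helper2Constr

/-!
# Irreducibility and dimension of the total space from irreducible equidimensional closed fibres
(helper4)

`X`, `Y` of finite type over a field `k`, `f : X ⟶ Y` a `k`-morphism such that the fibre over every
closed point is irreducible of dimension `d`.
-/

set_option autoImplicit false
set_option linter.style.haveILetI false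

universe u

open AlgebraicGeometry CategoryTheory TopologicalSpace

namespace Groth.Agent.Lib.Helper4.IrrFib

open Groth.Agent.Lib.Helper4.VarDim Groth.Agent.Lib.Helper4.FibDim
  Groth.Agent.Lib.Helper4.DimFormula

section Basic

variable (k : Type u) [Field k] (X : Scheme.{u}) [X.Over (Spec (CommRingCat.of k))]
  [LocallyOfFiniteType (X ↘ Spec (CommRingCat.of k))]

theorem trdegNat_eq_zero_of_isClosed (x : X) (hx : IsClosed ({x} : Set X)) :
    trdegNat k X x = 0 :=
  trdegNat_eq_of_trdeg_eq k X x 0 (by simpa using trdeg_eq_zero_of_isClosed k X x hx)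

theorem isClosed_singleton_of_trdegNat_eq_zero (x : X) (hx : trdegNat k X x = 0) :
    IsClosed ({x} : Set X) := by
  have h : closure ({x} : Set X) = {x} := by
    apply Set.Subset.antisymm _ subset_closure
    intro x' hx'
    by_contra hne
    have hsp : x ⤳ x' := specializes_iff_mem_closure.mpr hx'
    have := trdegNat_lt_of_specializes k X x x' hsp (fun h => hne (by rw [Set.mem_singleton_iff, h]))
    omega
  rw [← h]
  exact isClosed_closure

include k in
theorem jacobsonSpace : JacobsonSpace X :=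
  LocallyOfFiniteType.jacobsonSpace (X ↘ Spec (CommRingCat.of k))

end Basic

section Main

attribute [local instance] Curv2.resAlgebra

variable (k : Type u) [Field k] {X Y : Scheme.{u}} [X.Over (Spec (CommRingCat.of k))]
  [Y.Over (Spec (CommRingCat.of k))] [LocallyOfFiniteType (X ↘ Spec (CommRingCat.of k))]
  [LocallyOfFiniteType (Y ↘ Spec (CommRingCat.of k))] (f : X ⟶ Y)
  (hf : f ≫ (Y ↘ Spec (CommRingCat.of k)) = (X ↘ Spec (CommRingCat.of k)))
  (d : ℕ)
  (hirr : ∀ y : Y, IsClosed ({y} : Set Y) → IsIrreducible (f.base ⁻¹' {y}))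
  (hdim : ∀ y : Y, IsClosed ({y} : Set Y) → topologicalKrullDim ↥(f.base ⁻¹' {y}) = d)

include hf in
theorem isClosed_map_singleton [LocallyOfFiniteType f] (x : X) (hx : IsClosed ({x} : Set X)) :
    IsClosed ({f.base x} : Set Y) := by
  apply isClosed_singleton_of_trdegNat_eq_zero k Y
  have h1 := trdegNat_eq_add_ptTrdeg k f hf x
  rw [trdegNat_eq_zero_of_isClosed k X x hx] at h1
  omega

include hirr hdim in
theorem fibreDimAt_eq [LocallyOfFiniteType f] (x : X) (hx : IsClosed ({f.base x} : Set Y)) :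
    FlatMor.fibreDimAt f x = d := by
  apply fibreDimAt_eq_of_forall_irreducibleComponents f x d
  intro Z hZ
  haveI : IrreducibleSpace ↥(f.base ⁻¹' {f.base x}) := Subtype.irreducibleSpace (hirr _ hx)
  haveI : IrreducibleSpace ↥(f.fiber (f.base x)) :=
    (f.fiberHomeo (f.base x)).irreducibleSpace_iff.mpr inferInstance
  have hZuniv : Z = Set.univ := by
    have := hZ.2 (y := Set.univ) (IrreducibleSpace.isIrreducible_univ _) (Set.subset_univ _)
    exact Set.eq_univ_of_univ_subset this
  subst hZuniv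
  rw [topologicalKrullDim_univ_eq,
    IsHomeomorph.topologicalKrullDim_eq _ (f.fiberHomeo (f.base x)).isHomeomorph, hdim _ hx]

include k hf hirr hdim in
/-- Claim A: every maximal point of `X` has relative transcendence degree `d`. -/
theorem ptTrdeg_eq_of_maximal [LocallyOfFiniteType f] (ζ : X) (hζ : ∀ x' : X, x' ⤳ ζ → x' = ζ) :
    ptTrdeg f ζ = d := by
  haveI := jacobsonSpace k X
  have hζfib : FlatMor.fibreDimAt f ζ = (ptTrdeg f ζ : WithBot ℕ∞) :=
    fibreDimAt_eq_ptTrdeg_of_maximal f ζ (fun y _ hy => hζ y hy)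
  apply le_antisymm
  · -- a closed point in the closure of ζ
    obtain ⟨x, hxZ, hxcl⟩ := nonempty_inter_closedPoints (Z := closure ({ζ} : Set X))
      ⟨ζ, subset_closure rfl⟩ isClosed_closure.isLocallyClosed
    have hsp : ζ ⤳ x := specializes_iff_mem_closure.mpr hxZ
    have hfx := fibreDimAt_eq f d hirr hdim x (isClosed_map_singleton k f hf x hxcl)
    have hopen := isOpen_setOf_fibreDimAt_le' f (d : WithBot ℕ∞)
    have h1 := hsp.mem_open hopen (by rw [Set.mem_ofPred_eq, hfx])
    rw [Set.mem_ofPred_eq, hζfib] at h1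
    exact_mod_cast h1
  · have hopen := isOpen_setOf_fibreDimAt_le' f (ptTrdeg f ζ : WithBot ℕ∞)
    obtain ⟨x, hxV, hxcl⟩ := nonempty_inter_closedPoints
      (Z := {x : X | FlatMor.fibreDimAt f x ≤ (ptTrdeg f ζ : WithBot ℕ∞)})
      ⟨ζ, by rw [Set.mem_ofPred_eq, hζfib]⟩ hopen.isLocallyClosed
    have hfx := fibreDimAt_eq f d hirr hdim x (isClosed_map_singleton k f hf x hxcl)
    rw [Set.mem_ofPred_eq, hfx] at hxV
    exact_mod_cast hxV

include k hf hirr hdim in
theorem topologicalKrullDim_component [LocallyOfFiniteType f] (Z : Set X)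
    (hZ : Z ∈ irreducibleComponents X) :
    topologicalKrullDim ↥Z = (d : WithBot ℕ∞) + topologicalKrullDim ↥(closure (f.base '' Z)) := by
  obtain ⟨ζ, hζ⟩ := QuasiSober.sober hZ.1 (isClosed_of_mem_irreducibleComponents _ hZ)
  have hζcl : closure ({ζ} : Set X) = Z := hζ.def
  have hζmem : closure ({ζ} : Set X) ∈ irreducibleComponents ↥X := by rw [hζcl]; exact hZ
  have hζmax : ∀ x' : X, x' ⤳ ζ → x' = ζ := fun x' hx' =>
    eq_of_specializes_generic ζ x' hζmem hx'
  have himg : closure (f.base '' Z) = closure {f.base ζ} := by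
    rw [← hζcl, closure_image_closure f.continuous, Set.image_singleton]
  rw [himg, ← hζcl, topologicalKrullDim_closure_singleton k X ζ,
    topologicalKrullDim_closure_singleton k Y (f.base ζ), trdegNat_eq_add_ptTrdeg k f hf ζ,
    ptTrdeg_eq_of_maximal k f hf d hirr hdim ζ hζmax]
  push_cast
  rw [add_comm]

omit [Y.Over (Spec (CommRingCat.of k))] [LocallyOfFiniteType (Y ↘ Spec (CommRingCat.of k))] in
include k hirr hdim in
theorem exists_genericPoint_fibre (y : Y) (hy : IsClosed ({y} : Set Y)) :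
    ∃ x : X, closure ({x} : Set X) = f.base ⁻¹' {y} ∧ trdegNat k X x = d := by
  have hcl : IsClosed (f.base ⁻¹' {y}) := hy.preimage f.continuous
  obtain ⟨x, hx⟩ := QuasiSober.sober (hirr y hy) hcl
  refine ⟨x, hx.def, ?_⟩
  have h1 := hdim y hy
  rw [← hx.def, topologicalKrullDim_closure_singleton k X x] at h1
  exact_mod_cast h1

include k hf hirr hdim in
theorem fibre_subset_of_inter_nonempty [LocallyOfFiniteType f] (Z : Set X)
    (hZ : Z ∈ irreducibleComponents X) (y : Y) (hy : IsClosed ({y} : Set Y))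
    (hne : (f.base ⁻¹' {y} ∩ Z).Nonempty) : f.base ⁻¹' {y} ⊆ Z := by
  have hZclosed : IsClosed Z := isClosed_of_mem_irreducibleComponents _ hZ
  obtain ⟨ζ, hζ⟩ := QuasiSober.sober hZ.1 hZclosed
  have hζcl : closure ({ζ} : Set X) = Z := hζ.def
  have hζmem : closure ({ζ} : Set X) ∈ irreducibleComponents ↥X := by rw [hζcl]; exact hZ
  have hζmax : ∀ x' : X, x' ⤳ ζ → x' = ζ := fun x' hx' =>
    eq_of_specializes_generic ζ x' hζmem hx'
  obtain ⟨x, hxy, hxZ⟩ := hne
  have hxy' : f.base x = y := hxy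
  subst hxy'
  have hsp : ζ ⤳ x := specializes_iff_mem_closure.mpr (by rw [hζcl]; exact hxZ)
  obtain ⟨xy, hxycl, hxyd⟩ := exists_genericPoint_fibre k f d hirr hdim (f.base x) hy
  have h1 := (localDim_closure_inter_fibre_bounds f ζ x hsp).1 ζ specializes_rfl hsp
  have h2 := Groth.Agent.Lib.Helper7.TopDim.localDim_le_dim
    (⟨x, hsp.mem_closure, rfl⟩ : ↥(closure {ζ} ∩ f.base ⁻¹' {f.base x}))
  have h3 : (d : WithBot ℕ∞) ≤ topologicalKrullDim ↥(closure {ζ} ∩ f.base ⁻¹' {f.base x}) := by
    rw [← ptTrdeg_eq_of_maximal k f hf d hirr hdim ζ hζmax]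
    exact h1.trans h2
  have hlc : IsLocallyClosed (closure {ζ} ∩ f.base ⁻¹' {f.base x}) :=
    (isClosed_closure.inter (hy.preimage f.continuous)).isLocallyClosed
  rw [topologicalKrullDim_eq_iSup_trdegNat_of_isLocallyClosed k X _ hlc] at h3
  by_contra hnot
  have hxyZ : xy ∉ Z := fun h => hnot (by
    rw [← hxycl]
    exact closure_minimal (Set.singleton_subset_iff.mpr h) hZclosed)
  have hlt : ∀ t : ↥(closure {ζ} ∩ f.base ⁻¹' {f.base x}), trdegNat k X t.1 + 1 ≤ d := by
    intro t
    have ht1 : t.1 ∈ closure ({xy} : Set X) := by rw [hxycl]; exact t.2.2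
    have hne : xy ≠ t.1 := fun h => hxyZ (by rw [h, ← hζcl]; exact t.2.1)
    have := trdegNat_lt_of_specializes k X xy t.1 (specializes_iff_mem_closure.mpr ht1) hne
    omega
  have hd1 : 1 ≤ d := by
    have := hlt ⟨x, hsp.mem_closure, rfl⟩
    omega
  have h4 : (⨆ t : ↥(closure {ζ} ∩ f.base ⁻¹' {f.base x}),
      ((trdegNat k X t.1 : ℕ) : WithBot ℕ∞)) ≤ ((d - 1 : ℕ) : WithBot ℕ∞) :=
    iSup_le fun t => by
      have := hlt t
      exact_mod_cast (by omega : trdegNat k X t.1 ≤ d - 1)
  have h5 := h3.trans h4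
  have h6 : d ≤ d - 1 := by exact_mod_cast h5
  omega

section Unique

variable [LocallyOfFiniteType f] [CompactSpace X] [CompactSpace Y] [IrreducibleSpace Y]

include k in
/-- The image of a closed set whose image is dense contains a nonempty open subset. -/
theorem exists_open_subset_image (T : Set X) (hT : IsClosed T) (hd : Dense (f.base '' T)) :
    ∃ U : Set Y, IsOpen U ∧ U.Nonempty ∧ U ⊆ f.base '' T := by
  haveI : IsLocallyNoetherian X :=
    LocallyOfFiniteType.isLocallyNoetherian (X ↘ Spec (CommRingCat.of k))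
  haveI : IsLocallyNoetherian Y :=
    LocallyOfFiniteType.isLocallyNoetherian (Y ↘ Spec (CommRingCat.of k))
  haveI : IsNoetherian X := {}
  haveI : IsNoetherian Y := {}
  haveI : NoetherianSpace X := inferInstance
  haveI : NoetherianSpace Y := inferInstance
  haveI : QuasiCompact f := inferInstance
  haveI : LocallyOfFinitePresentation f :=
    LocallyOfFinitePresentation.iff_locallyOfFiniteType.mpr inferInstance
  haveI : QuasiSeparatedSpace Y := ⟨fun _ _ _ _ _ _ => NoetherianSpace.isCompact _⟩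
  have hcons : Topology.IsConstructible (f.base '' T) :=
    f.isConstructible_image (Groth.Agent.Lib.Helper2.Constr.isConstructible_of_isClosed hT)
  obtain ⟨U, hU, hne, hsub⟩ := Groth.Agent.Lib.Helper2.Constr.exists_open_subset_of_dense hcons
    (Y := Set.univ) (IrreducibleSpace.isIrreducible_univ Y) (by
      rw [Set.inter_univ, hd.closure_eq])
  rw [Set.inter_univ] at hne hsub
  exact ⟨U, hU, hne, hsub⟩

include k hf hirr hdim in
theorem existsUnique_component_dense :
    ∃! Z : Set X, Z ∈ irreducibleComponents X ∧ Dense (f.base '' Z) := by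
  haveI := jacobsonSpace k X
  haveI := jacobsonSpace k Y
  have hη : ∀ U : Set Y, IsOpen U → U.Nonempty → genericPoint Y ∈ U := by
    intro U hU hne
    rw [(genericPoint_spec Y).mem_open_set_iff hU, Set.univ_inter]
    exact hne
  have hηmax : ∀ y : Y, y ⤳ genericPoint Y → y = genericPoint Y := fun y hy =>
    (hy.antisymm (genericPoint_specializes y)).eq
  -- existence
  have hex : ∃ Z : Set X, Z ∈ irreducibleComponents X ∧ Dense (f.base '' Z) := by
    have hdense : Dense (f.base '' (Set.univ : Set X)) := by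
      rw [dense_iff_closure_eq, Set.eq_univ_iff_forall]
      have hsub : closedPoints Y ⊆ f.base '' (Set.univ : Set X) := by
        intro y hy
        obtain ⟨x, hx⟩ := (hirr y hy).nonempty
        exact ⟨x, trivial, hx⟩
      intro y
      have : y ∈ closure (closedPoints Y) := by rw [closure_closedPoints]; trivial
      exact closure_mono hsub this
    obtain ⟨U, hU, hne, hsub⟩ := exists_open_subset_image k f Set.univ isClosed_univ
      hdense
    obtain ⟨x, -, hx⟩ := hsub (hη U hU hne)
    obtain ⟨ζ, hζ, hζx⟩ := exists_generic_specializes x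
    have hfζ : f.base ζ = genericPoint Y := by
      apply hηmax
      rw [← hx]
      exact hζx.map f.continuous
    refine ⟨closure {ζ}, hζ, ?_⟩
    rw [dense_iff_closure_eq, closure_image_closure f.continuous, Set.image_singleton, hfζ]
    exact (genericPoint_spec Y).def
  obtain ⟨Z, hZ, hZd⟩ := hex
  refine ⟨Z, ⟨hZ, hZd⟩, ?_⟩
  rintro Z' ⟨hZ', hZ'd⟩
  -- `Z' ⊆ Z`
  have hZclosed : IsClosed Z := isClosed_of_mem_irreducibleComponents _ hZ
  have hZ'closed : IsClosed Z' := isClosed_of_mem_irreducibleComponents _ hZ'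
  obtain ⟨ζ', hζ'⟩ := QuasiSober.sober hZ'.1 hZ'closed
  have hζ'cl : closure ({ζ'} : Set X) = Z' := hζ'.def
  have hfζ' : f.base ζ' = genericPoint Y := by
    have h1 : closure ({f.base ζ'} : Set Y) = Set.univ := by
      have := hZ'd.closure_eq
      rwa [← hζ'cl, closure_image_closure f.continuous, Set.image_singleton] at this
    apply hηmax
    rw [specializes_iff_mem_closure, h1]
    trivial
  have hsub : Z' ⊆ Z := by
    rw [← hζ'cl]
    refine closure_minimal (Set.singleton_subset_iff.mpr ?_) hZclosed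
    by_contra hnot
    obtain ⟨U, hU, hne, hsubU⟩ := exists_open_subset_image k f Z hZclosed hZd
    have hVopen : IsOpen (Zᶜ ∩ f.base ⁻¹' U) := hZclosed.isOpen_compl.inter (hU.preimage f.continuous)
    obtain ⟨x, ⟨hxZ, hxU⟩, hxcl⟩ := nonempty_inter_closedPoints (Z := Zᶜ ∩ f.base ⁻¹' U)
      ⟨ζ', hnot, by rw [Set.mem_preimage, hfζ']; exact hη U hU hne⟩ hVopen.isLocallyClosed
    have hycl := isClosed_map_singleton k f hf x hxcl
    obtain ⟨x₂, hx₂Z, hx₂⟩ := hsubU hxU
    have := fibre_subset_of_inter_nonempty k f hf d hirr hdim Z hZ (f.base x) hycl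
      ⟨x₂, hx₂, hx₂Z⟩
    exact hxZ (this rfl)
  exact (hsub.antisymm (hZ'.2 hZ.1 hsub)).symm ▸ rfl

omit [CompactSpace X] [CompactSpace Y] [LocallyOfFiniteType f] in
theorem dense_image_iff (Z : Set X) (ζ : X) (hζcl : closure ({ζ} : Set X) = Z) :
    Dense (f.base '' Z) ↔ f.base ζ = genericPoint Y := by
  rw [dense_iff_closure_eq, ← hζcl, closure_image_closure f.continuous, Set.image_singleton]
  constructor
  · intro h1
    have : f.base ζ ⤳ genericPoint Y := by
      rw [specializes_iff_mem_closure, h1]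
      trivial
    exact (this.antisymm (genericPoint_specializes _)).eq
  · intro h
    rw [h]
    exact (genericPoint_spec Y).def

omit [CompactSpace X] [CompactSpace Y] in
include k hf hirr hdim in
theorem dense_image_of_dim_eq (Z Z₀ : Set X) (hZ : Z ∈ irreducibleComponents X)
    (hZ₀ : Z₀ ∈ irreducibleComponents X) (hd₀ : Dense (f.base '' Z₀))
    (h : topologicalKrullDim ↥Z = topologicalKrullDim ↥Z₀) : Dense (f.base '' Z) := by
  obtain ⟨ζ, hζ⟩ := QuasiSober.sober hZ.1 (isClosed_of_mem_irreducibleComponents _ hZ)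
  have hζcl : closure ({ζ} : Set X) = Z := hζ.def
  have hζmem : closure ({ζ} : Set X) ∈ irreducibleComponents ↥X := by rw [hζcl]; exact hZ
  have hζmax : ∀ x' : X, x' ⤳ ζ → x' = ζ := fun x' hx' =>
    eq_of_specializes_generic ζ x' hζmem hx'
  obtain ⟨ζ₀, hζ₀⟩ := QuasiSober.sober hZ₀.1 (isClosed_of_mem_irreducibleComponents _ hZ₀)
  have hζ₀cl : closure ({ζ₀} : Set X) = Z₀ := hζ₀.def
  have hζ₀mem : closure ({ζ₀} : Set X) ∈ irreducibleComponents ↥X := by rw [hζ₀cl]; exact hZ₀
  have hζ₀max : ∀ x' : X, x' ⤳ ζ₀ → x' = ζ₀ := fun x' hx' =>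
    eq_of_specializes_generic ζ₀ x' hζ₀mem hx'
  have hfζ₀ := (dense_image_iff f Z₀ ζ₀ hζ₀cl).mp hd₀
  rw [dense_image_iff f Z ζ hζcl]
  rw [← hζcl, ← hζ₀cl, topologicalKrullDim_closure_singleton k X ζ,
    topologicalKrullDim_closure_singleton k X ζ₀] at h
  have h' : trdegNat k X ζ = trdegNat k X ζ₀ := by exact_mod_cast h
  have e1 := trdegNat_eq_add_ptTrdeg k f hf ζ
  have e2 := trdegNat_eq_add_ptTrdeg k f hf ζ₀
  rw [ptTrdeg_eq_of_maximal k f hf d hirr hdim ζ hζmax] at e1
  rw [ptTrdeg_eq_of_maximal k f hf d hirr hdim ζ₀ hζ₀max, hfζ₀] at e2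
  by_contra hne
  have := trdegNat_lt_of_specializes k Y (genericPoint Y) (f.base ζ) (genericPoint_specializes _)
    (fun h => hne h.symm)
  omega

omit [CompactSpace X] [CompactSpace Y] [IrreducibleSpace Y] in
include k hf hirr hdim in
theorem of_component_eq_univ (Z₀ : Set X) (hZ₀ : Z₀ ∈ irreducibleComponents X)
    (hd₀ : Dense (f.base '' Z₀)) (h : Z₀ = Set.univ) :
    IrreducibleSpace X ∧
      topologicalKrullDim X = (d : WithBot ℕ∞) + topologicalKrullDim Y := by
  refine ⟨(irreducibleSpace_def X).mpr (by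
    show IsIrreducible (Set.univ : Set X)
    rw [← h]; exact hZ₀.1), ?_⟩
  have h1 := topologicalKrullDim_component k f hf d hirr hdim Z₀ hZ₀
  rw [hd₀.closure_eq] at h1
  subst h
  rwa [topologicalKrullDim_univ_eq, topologicalKrullDim_univ_eq] at h1

include k hf hirr hdim in
theorem irreducibleSpace_of_isClosedMap (hcl : IsClosedMap f.base) :
    IrreducibleSpace X ∧
      topologicalKrullDim X = (d : WithBot ℕ∞) + topologicalKrullDim Y := by
  haveI := jacobsonSpace k X
  obtain ⟨Z₀, ⟨hZ₀, hd₀⟩, -⟩ := existsUnique_component_dense k f hf d hirr hdim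
  have hZ₀closed : IsClosed Z₀ := isClosed_of_mem_irreducibleComponents _ hZ₀
  have himg : f.base '' Z₀ = Set.univ := by
    rw [← (hcl Z₀ hZ₀closed).closure_eq]
    exact hd₀.closure_eq
  refine of_component_eq_univ k f hf d hirr hdim Z₀ hZ₀ hd₀ ?_
  have hsub : closedPoints X ⊆ Z₀ := by
    intro x hx
    have hycl := isClosed_map_singleton k f hf x hx
    have hy : f.base x ∈ f.base '' Z₀ := by rw [himg]; trivial
    obtain ⟨x₂, hx₂Z, hx₂⟩ := hy
    exact fibre_subset_of_inter_nonempty k f hf d hirr hdim Z₀ hZ₀ (f.base x) hycl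
      ⟨x₂, hx₂, hx₂Z⟩ rfl
  rw [Set.eq_univ_iff_forall]
  intro x
  have : x ∈ closure (closedPoints X) := by rw [closure_closedPoints]; trivial
  exact closure_minimal hsub hZ₀closed this

include k hf hirr hdim in
theorem irreducibleSpace_of_pure
    (hpure : ∀ Z ∈ irreducibleComponents X, topologicalKrullDim ↥Z = topologicalKrullDim X) :
    IrreducibleSpace X ∧
      topologicalKrullDim X = (d : WithBot ℕ∞) + topologicalKrullDim Y := by
  obtain ⟨Z₀, ⟨hZ₀, hd₀⟩, huniq⟩ := existsUnique_component_dense k f hf d hirr hdim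
  refine of_component_eq_univ k f hf d hirr hdim Z₀ hZ₀ hd₀ ?_
  rw [Set.eq_univ_iff_forall]
  intro x
  have hZ := irreducibleComponent_mem_irreducibleComponents x
  have hd := dense_image_of_dim_eq k f hf d hirr hdim _ Z₀ hZ hZ₀ hd₀
    ((hpure _ hZ).trans (hpure _ hZ₀).symm)
  rw [← huniq _ ⟨hZ, hd⟩]
  exact mem_irreducibleComponent

end Unique

end Main

end Groth.Agent.Lib.Helper4.IrrFib
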