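import Groth.Agent.Lib.Helper28Depth
import Groth.Prelude.Def_Found

/-!
# Hartshorne's connectedness lemma and catenary chains (helper28)

* `idealDepth_le_of_le_radical`: `I ≤ √J → depth_I M ≤ depth_J M`.
* `eq_bot_or_eq_bot_of_mul_eq_bot_of_two_le_idealDepth`, `le_nilradical_or_le_nilradical_of_two_le_depth`:
  Hartshorne's connectedness lemma.
* `coheight_eq_coheight_add_one_of_covBy`, `ringKrullDim_quotient_asIdeal_eq_coheight`,
  `ringKrullDim_quotient_eq_add_one_of_covBy`: dimension along covering relations in catenary local rings.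
-/
set_option autoImplicit false
universe u v w u' v'

namespace Groth.Agent.Lib.Helper28
open RingTheory.Sequence CategoryTheory Abelian TensorProduct
open scoped Pointwise

section RadicalDepth

variable {R : Type u} [CommRing R]

theorem smul_top_eq_top_of_le_radical {I J : Ideal R} (h : I ≤ J.radical) (M : Type v)
    [AddCommGroup M] [Module R M] [Module.Finite R M]
    (hI : I • (⊤ : Submodule R M) = ⊤) : J • (⊤ : Submodule R M) = ⊤ := by
  obtain ⟨r, hr1, hr0⟩ := Submodule.exists_sub_one_mem_and_smul_eq_zero_of_fg_of_le_smul I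
    (⊤ : Submodule R M) Module.Finite.fg_top hI.ge
  -- `s = 1 - r ∈ I`, `m = s • m` for all `m`
  have hs : (1 - r) ∈ I := by
    have := I.neg_mem hr1
    simpa using this
  obtain ⟨k, hk⟩ := h hs
  have key : ∀ m : M, (1 - r) • m = m := by
    intro m
    rw [sub_smul, one_smul, hr0 m trivial, sub_zero]
  have key2 : ∀ (k : ℕ) (m : M), (1 - r) ^ k • m = m := by
    intro k
    induction k with
    | zero => intro m; simp
    | succ k ih => intro m; rw [pow_succ, mul_smul, key, ih]
  rw [eq_top_iff]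
  intro m _
  rw [← key2 k m]
  exact Submodule.smul_mem_smul hk trivial

variable [IsNoetherianRing R]

theorem idealDepth_le_of_le_radical [Small.{v} R] {I J : Ideal R} (h : I ≤ J.radical)
    (M : Type v) [AddCommGroup M] [Module R M] [Module.Finite R M] :
    LocCoh.idealDepth I M ≤ LocCoh.idealDepth J M := by
  by_cases hJ : J • (⊤ : Submodule R M) = ⊤
  · rw [idealDepth_eq_top_of_smul_top_eq_top J M hJ]; exact le_top
  have hI : I • (⊤ : Submodule R M) ≠ ⊤ := fun hI => hJ (smul_top_eq_top_of_le_radical h M hI)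
  rw [← ENat.forall_natCast_le_iff_le]
  intro n hn
  rw [natCast_le_idealDepth_iff hI n] at hn
  obtain ⟨rs, hlen, hmem, hreg⟩ := hn
  rw [natCast_le_idealDepth_iff_ext]
  intro i hi
  have hsupp : Module.support R (Shrink.{v} (R ⧸ J)) ⊆ PrimeSpectrum.zeroLocus I := by
    rw [(Shrink.linearEquiv R _).support_eq, Module.support_eq_zeroLocus,
      Ideal.annihilator_quotient, PrimeSpectrum.zeroLocus_subset_zeroLocus_iff]
    simpa using h
  exact ModuleCat.subsingleton_ext_of_exists_isRegular I (ModuleCat.of R (Shrink.{v} (R ⧸ J)))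
    hsupp (ModuleCat.of R M) (lt_top_iff_ne_top.mpr hI) rs hmem hreg i (hlen ▸ hi)

end RadicalDepth

section Hartshorne

variable {B : Type u} [CommRing B] [IsLocalRing B] [IsNoetherianRing B]

/-- Hartshorne's connectedness lemma, core form: if `I J = 0` and `depth_{I+J} B ≥ 2` then
`I = 0` or `J = 0`. -/
theorem eq_bot_or_eq_bot_of_mul_eq_bot_of_two_le_idealDepth (I J : Ideal B) (hIJ : I * J = ⊥)
    (h : (2 : ℕ∞) ≤ LocCoh.idealDepth (I ⊔ J) B) : I = ⊥ ∨ J = ⊥ := by
  have hmul : ∀ i ∈ I, ∀ j ∈ J, i * j = 0 := by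
    intro i hi j hj
    have : i * j ∈ I * J := Ideal.mul_mem_mul hi hj
    rw [hIJ] at this
    exact this
  by_cases htop : (I ⊔ J) • (⊤ : Submodule B B) = ⊤
  · have h1 : I ⊔ J = ⊤ := by
      rw [← htop]; simp
    have h2 : I = ⊤ ∨ J = ⊤ := by
      by_contra hcon
      push Not at hcon
      have hI := IsLocalRing.le_maximalIdeal hcon.1
      have hJ := IsLocalRing.le_maximalIdeal hcon.2
      have : (⊤ : Ideal B) ≤ IsLocalRing.maximalIdeal B := h1 ▸ sup_le hI hJ
      exact (IsLocalRing.maximalIdeal.isMaximal B).ne_top (top_le_iff.mp this)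
    rcases h2 with h2 | h2
    · right
      rw [h2, Ideal.top_mul] at hIJ
      exact hIJ
    · left
      rw [h2, Ideal.mul_top] at hIJ
      exact hIJ
  have h' : ((2 : ℕ) : ℕ∞) ≤ LocCoh.idealDepth (I ⊔ J) B := by exact_mod_cast h
  rw [natCast_le_idealDepth_iff htop 2] at h'
  obtain ⟨rs, hlen, hmem, hreg⟩ := h'
  match rs, hlen with
  | [x, y], _ =>
    have hx : x ∈ I ⊔ J := hmem x (by simp)
    have hy : y ∈ I ⊔ J := hmem y (by simp)
    have hreg' := hreg.toIsWeaklyRegular
    rw [isWeaklyRegular_cons_iff] at hreg'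
    obtain ⟨hxreg, hyreg⟩ := hreg'
    rw [isWeaklyRegular_cons_iff] at hyreg
    have hyreg := hyreg.1
    obtain ⟨a, ha, b, hb, hab⟩ := Submodule.mem_sup.mp hx
    obtain ⟨c, hc, d, hd, hcd⟩ := Submodule.mem_sup.mp hy
    -- `I ⊓ J = ⊥`
    have hinf : ∀ r, r ∈ I → r ∈ J → r = 0 := by
      intro r hrI hrJ
      apply hxreg
      change x * r = x * 0
      rw [mul_zero, ← hab, add_mul, hmul a ha r hrJ, zero_add, mul_comm, hmul r hrI b hb]
    by_contra hcon
    push Not at hcon
    obtain ⟨hI0, hJ0⟩ := hcon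
    -- `a ∉ (x)`
    have ha_not : a ∉ x • (⊤ : Submodule B B) := by
      intro hmem'
      obtain ⟨r, -, hr⟩ := (Submodule.mem_smul_pointwise_iff_exists _ _ _).mp hmem'
      have hr' : x * r = a := hr
      -- `(1 - r) a = r b`
      have e1 : (1 - r) * a = r * b := by
        rw [← hab] at hr'
        linear_combination -hr'
      have hz1 : r * b = 0 := hinf _ (e1 ▸ I.mul_mem_left _ ha) (J.mul_mem_left _ hb)
      have hz2 : (1 - r) * a = 0 := e1.trans hz1
      rcases IsLocalRing.isUnit_or_isUnit_one_sub_self r with hu | hu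
      · have hb0 : b = 0 := (hu.mul_right_eq_zero).mp hz1
        apply hJ0
        rw [eq_bot_iff]
        intro j hj
        rw [Ideal.mem_bot]
        apply hxreg
        change x * j = x * 0
        rw [mul_zero, ← hab, hb0, add_zero]
        exact hmul a ha j hj
      · have ha0 : a = 0 := (hu.mul_right_eq_zero).mp hz2
        apply hI0
        rw [eq_bot_iff]
        intro i hi
        rw [Ideal.mem_bot]
        apply hxreg
        change x * i = x * 0
        rw [mul_zero, ← hab, ha0, zero_add, mul_comm]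
        exact hmul i hi b hb
    -- `y a ∈ (x)`
    have hya : y • a ∈ x • (⊤ : Submodule B B) := by
      rw [Submodule.mem_smul_pointwise_iff_exists]
      refine ⟨c, trivial, ?_⟩
      change x * c = y * a
      have e1 : c * b = 0 := hmul c hc b hb
      have e2 : a * d = 0 := hmul a ha d hd
      rw [← hab, ← hcd]
      linear_combination e1 - e2
    apply ha_not
    have hq : (Submodule.Quotient.mk a : QuotSMulTop x B) = 0 := by
      apply hyreg
      change y • (Submodule.Quotient.mk a : QuotSMulTop x B) = y • 0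
      rw [smul_zero, ← Submodule.Quotient.mk_smul]
      exact (Submodule.Quotient.mk_eq_zero _).mpr hya
    exact (Submodule.Quotient.mk_eq_zero _).mp hq

end Hartshorne

section Hartshorne2

variable {B : Type u} [CommRing B] [IsLocalRing B] [IsNoetherianRing B]

/-- Hartshorne's connectedness lemma: in a Noetherian local ring of depth `≥ 2`, if `V(I) ∪ V(J)`
is everything and `V(I) ∩ V(J)` is at most the closed point, then `I` or `J` is nilpotent. -/
theorem le_nilradical_or_le_nilradical_of_two_le_depth (I J : Ideal B)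
    (h1 : ∀ p : Ideal B, p.IsPrime → I ≤ p ∨ J ≤ p)
    (h2 : ∀ p : Ideal B, p.IsPrime → I ≤ p → J ≤ p → p = IsLocalRing.maximalIdeal B)
    (hd : (2 : ℕ∞) ≤ LocCoh.depth B B) : I ≤ nilradical B ∨ J ≤ nilradical B := by
  have hnil : I * J ≤ nilradical B := by
    rw [nilradical_eq_sInf]
    refine le_sInf fun p hp => ?_
    rcases h1 p hp with h | h
    · exact Ideal.mul_le_left.trans h
    · exact Ideal.mul_le_right.trans h
  obtain ⟨n, hn⟩ := IsNoetherianRing.isNilpotent_nilradical B
  have hpow : I ^ n * J ^ n = ⊥ := by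
    rw [← mul_pow, eq_bot_iff, ← Ideal.zero_eq_bot, ← hn]
    exact Ideal.pow_right_mono hnil n
  have hrad : IsLocalRing.maximalIdeal B ≤ (I ^ n ⊔ J ^ n).radical := by
    rw [Ideal.radical_eq_sInf]
    refine le_sInf fun p hp => ?_
    obtain ⟨hle, hpp⟩ := hp
    have hI : I ≤ p := hpp.le_of_pow_le (le_sup_left.trans hle)
    have hJ : J ≤ p := hpp.le_of_pow_le (le_sup_right.trans hle)
    exact (h2 p hpp hI hJ).ge
  have hdep : (2 : ℕ∞) ≤ LocCoh.idealDepth (I ^ n ⊔ J ^ n) B :=
    hd.trans (idealDepth_le_of_le_radical hrad B)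
  rcases eq_bot_or_eq_bot_of_mul_eq_bot_of_two_le_idealDepth _ _ hpow hdep with h | h
  · left
    intro x hx
    rw [mem_nilradical]
    refine ⟨n, ?_⟩
    have := Ideal.pow_mem_pow hx n
    rwa [h, Ideal.mem_bot] at this
  · right
    intro x hx
    rw [mem_nilradical]
    refine ⟨n, ?_⟩
    have := Ideal.pow_mem_pow hx n
    rwa [h, Ideal.mem_bot] at this

end Hartshorne2

section CatenaryOrder

variable {α : Type*} [PartialOrder α] [OrderTop α] [WellFoundedLT α] [WellFoundedGT α]

omit [OrderTop α] in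
/-- Any LTSeries refines to a covering series with the same ends and at least the same length. -/
theorem exists_covBy_refinement (s : LTSeries α) :
    ∃ t : RelSeries {(a, b) : α × α | a ⋖ b}, t.head = s.head ∧ t.last = s.last ∧
      s.length ≤ t.length := by
  obtain ⟨t, i, hti, hi0, hil⟩ := s.exists_relSeries_covBy
  refine ⟨t, ?_, ?_, ?_⟩
  · change t 0 = s 0
    rw [← hti, Function.comp_apply, hi0]
  · change t (Fin.last _) = s (Fin.last _)
    rw [← hti, Function.comp_apply, hil]
  · have := Fintype.card_le_of_embedding i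
    simpa using this

theorem coheight_eq_coheight_add_one_of_covBy
    (hcat : ∀ s t : RelSeries {(a, b) : α × α | a ⋖ b}, s.head = t.head → s.last = t.last →
      s.length = t.length) {p q : α} (hpq : p ⋖ q) :
    Order.coheight p = Order.coheight q + 1 := by
  apply le_antisymm
  · apply Order.coheight_le
    intro s hs
    obtain ⟨s', hs'head, hs'last, hs'len⟩ :
        ∃ s' : LTSeries α, s'.head = p ∧ s'.last = ⊤ ∧ s.length ≤ s'.length := by
      by_cases h : s.last = ⊤
      · exact ⟨s, hs, h, le_rfl⟩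
      · exact ⟨s.snoc ⊤ (lt_top_iff_ne_top.mpr h), by simp [hs], by simp, by simp⟩
    obtain ⟨t, hthead, htlast, htlen⟩ := exists_covBy_refinement s'
    obtain ⟨u0, hu0head, hu0last⟩ : ∃ u0 : LTSeries α, u0.head = q ∧ u0.last = ⊤ := by
      by_cases h : q = ⊤
      · exact ⟨RelSeries.singleton _ q, rfl, by simpa using h⟩
      · exact ⟨(RelSeries.singleton _ q).snoc ⊤ (lt_top_iff_ne_top.mpr h), by simp, by simp⟩
    obtain ⟨u, huhead, hulast, -⟩ := exists_covBy_refinement u0
    have hrel : p ⋖ u.head := by rw [huhead, hu0head]; exact hpq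
    have hlen : t.length = (u.cons p hrel).length := by
      apply hcat
      · rw [RelSeries.head_cons, hthead, hs'head]
      · rw [RelSeries.last_cons, htlast, hs'last, hulast, hu0last]
    rw [RelSeries.cons_length] at hlen
    have hu : (u.length : ℕ∞) ≤ Order.coheight q := by
      have := Order.length_le_coheight_head (p := u.ofLE (s := {(a, b) : α × α | a < b})
        (fun _ h => h.lt))
      have hh : (u.ofLE (s := {(a, b) : α × α | a < b}) (fun _ h => h.lt)).head = q := by
        rw [← hu0head, ← huhead]; rfl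
      rw [hh] at this
      exact this
    calc (s.length : ℕ∞) ≤ s'.length := by exact_mod_cast hs'len
      _ ≤ t.length := by exact_mod_cast htlen
      _ = u.length + 1 := by rw [hlen]; norm_cast
      _ ≤ Order.coheight q + 1 := add_le_add_left hu 1
  · exact Order.coheight_add_one_le hpq.lt

end CatenaryOrder

section CatenaryRing

variable {A : Type u} [CommRing A]

theorem ringKrullDim_quotient_asIdeal_eq_coheight (p : PrimeSpectrum A) :
    ringKrullDim (A ⧸ p.asIdeal) = (Order.coheight p : ℕ∞) := by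
  rw [ringKrullDim_quotient, Order.coheight_eq_krullDim_Ici]
  have : PrimeSpectrum.zeroLocus (p.asIdeal : Set A) = Set.Ici p := by
    ext x
    rw [PrimeSpectrum.mem_zeroLocus, Set.mem_Ici]
    rfl
  rw [this]

variable [IsLocalRing A] [IsNoetherianRing A]

theorem ringKrullDim_quotient_eq_add_one_of_covBy (hc : CAlg.IsCatenary A)
    {p q : PrimeSpectrum A} (hpq : p ⋖ q) :
    ringKrullDim (A ⧸ p.asIdeal) = ringKrullDim (A ⧸ q.asIdeal) + 1 := by
  have : WellFoundedLT (PrimeSpectrum A) :=
    ⟨(SetRel.IsWellFounded.of_finiteDimensional {(a, b) : PrimeSpectrum A × PrimeSpectrum A | a < b})⟩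
  have : WellFoundedGT (PrimeSpectrum A) :=
    ⟨(SetRel.IsWellFounded.inv_of_finiteDimensional
      {(a, b) : PrimeSpectrum A × PrimeSpectrum A | a < b})⟩
  rw [ringKrullDim_quotient_asIdeal_eq_coheight, ringKrullDim_quotient_asIdeal_eq_coheight,
    coheight_eq_coheight_add_one_of_covBy ?_ hpq]
  · rfl
  · intro s t hh hl
    exact hc.2 (s.ofLE (fun _ h => h.lt)) (t.ofLE (fun _ h => h.lt)) hh hl
      (fun i => s.step i) (fun i => t.step i)

end CatenaryRing

section HartshornePartition

variable {A : Type u} [CommRing A] [IsNoetherianRing A]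

/-- If the minimal primes of `A` are partitioned into `F1` and `F2`, with `I`, `J` the
intersections, and `q` is a minimal prime over `I + J`, then `depth A_q ≤ 1`. -/
theorem not_two_le_depth_of_mem_minimalPrimes_sup_inf (F1 F2 : Finset (Ideal A))
    (hF : ∀ P, P ∈ minimalPrimes A → P ∈ F1 ∨ P ∈ F2)
    (hF1 : ∀ P ∈ F1, P ∈ minimalPrimes A) (hF2 : ∀ P ∈ F2, P ∈ minimalPrimes A)
    (hdisj : ∀ P, P ∈ F1 → P ∈ F2 → False)
    (q : Ideal A) [hqprime : q.IsPrime] (hqmin : q ∈ (F1.inf id ⊔ F2.inf id).minimalPrimes) :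
    ¬ (2 : ℕ∞) ≤ LocCoh.depth (Localization.AtPrime q) (Localization.AtPrime q) := by
  intro hdepth
  set I : Ideal A := F1.inf id with hI
  set J : Ideal A := F2.inf id with hJ
  have hIle : ∀ P ∈ F1, I ≤ P := fun P hP => Finset.inf_le (f := id) hP
  have hJle : ∀ P ∈ F2, J ≤ P := fun P hP => Finset.inf_le (f := id) hP
  have hIprime : ∀ Q : Ideal A, Q.IsPrime → I ≤ Q → ∃ P ∈ F1, P ≤ Q := by
    intro Q hQ hle
    exact (Ideal.IsPrime.inf_le' hQ).mp hle
  have hJprime : ∀ Q : Ideal A, Q.IsPrime → J ≤ Q → ∃ P ∈ F2, P ≤ Q := by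
    intro Q hQ hle
    exact (Ideal.IsPrime.inf_le' hQ).mp hle
  have hIJprime : ∀ Q : Ideal A, Q.IsPrime → I ≤ Q ∨ J ≤ Q := by
    intro Q hQ
    obtain ⟨P, hPmin, hPQ⟩ := Ideal.exists_minimalPrimes_le (I := ⊥) (J := Q) bot_le
    rcases hF P hPmin with h1 | h2
    · exact Or.inl ((hIle P h1).trans hPQ)
    · exact Or.inr ((hJle P h2).trans hPQ)
  have hIq : I ≤ q := le_sup_left.trans hqmin.1.2
  have hJq : J ≤ q := le_sup_right.trans hqmin.1.2
  obtain ⟨p1, hp1F1, hp1q⟩ := hIprime q hqprime hIq
  obtain ⟨p2, hp2F2, hp2q⟩ := hJprime q hqprime hJq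
  have hp1min : p1 ∈ minimalPrimes A := hF1 p1 hp1F1
  have hp2min : p2 ∈ minimalPrimes A := hF2 p2 hp2F2
  have hp1prime : p1.IsPrime := hp1min.1.1
  have hp2prime : p2.IsPrime := hp2min.1.1
  have hmin_eq : ∀ P Q : Ideal A, P ∈ minimalPrimes A → Q.IsPrime → Q ≤ P → Q = P := by
    intro P Q hP hQ hle
    exact le_antisymm hle (hP.2 ⟨hQ, bot_le⟩ hle)
  set B := Localization.AtPrime q with hB
  set I' : Ideal B := I.map (algebraMap A B) with hI'
  set J' : Ideal B := J.map (algebraMap A B) with hJ'
  have hcomap_max : (IsLocalRing.maximalIdeal B).comap (algebraMap A B) = q :=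
    Localization.AtPrime.under_maximalIdeal
  have h1 : ∀ P : Ideal B, P.IsPrime → I' ≤ P ∨ J' ≤ P := by
    intro P hP
    have hPc : (P.comap (algebraMap A B)).IsPrime := Ideal.comap_isPrime _ P
    rcases hIJprime _ hPc with hle | hle
    · exact Or.inl (Ideal.map_le_iff_le_comap.mpr hle)
    · exact Or.inr (Ideal.map_le_iff_le_comap.mpr hle)
  have h2 : ∀ P : Ideal B, P.IsPrime → I' ≤ P → J' ≤ P → P = IsLocalRing.maximalIdeal B := by
    intro P hP hIP hJP
    have hPc : (P.comap (algebraMap A B)).IsPrime := Ideal.comap_isPrime _ P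
    have hle1 : I ⊔ J ≤ P.comap (algebraMap A B) :=
      sup_le (Ideal.map_le_iff_le_comap.mp hIP) (Ideal.map_le_iff_le_comap.mp hJP)
    have hle2 : P.comap (algebraMap A B) ≤ q :=
      (Ideal.comap_mono (IsLocalRing.le_maximalIdeal hP.ne_top)).trans hcomap_max.le
    have heq : P.comap (algebraMap A B) = q :=
      le_antisymm hle2 (hqmin.2 ⟨hPc, hle1⟩ hle2)
    have hmc : Ideal.map (algebraMap A B) (P.comap (algebraMap A B)) = P :=
      IsLocalization.map_under q.primeCompl B P
    rw [heq] at hmc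
    rw [← hmc]
    exact Localization.AtPrime.map_eq_maximalIdeal
  have hprimeB : ∀ P : Ideal A, P.IsPrime → P ≤ q →
      (P.map (algebraMap A B)).IsPrime ∧ (P.map (algebraMap A B)).comap (algebraMap A B) = P := by
    intro P hP hPq
    have hdisj' : Disjoint (q.primeCompl : Set A) (P : Set A) := by
      rw [Set.disjoint_left]
      intro x hx hxP
      exact hx (hPq hxP)
    exact ⟨IsLocalization.isPrime_of_isPrime_disjoint q.primeCompl B P hP hdisj',
      IsLocalization.under_map_of_isPrime_disjoint q.primeCompl B hP hdisj'⟩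
  rcases le_nilradical_or_le_nilradical_of_two_le_depth I' J' h1 h2 hdepth with hnil | hnil
  · obtain ⟨hP2prime, hP2comap⟩ := hprimeB p2 hp2prime hp2q
    have : I' ≤ p2.map (algebraMap A B) := hnil.trans (nilradical_le_prime _)
    have hle : I ≤ p2 := by
      rw [← hP2comap]
      exact Ideal.map_le_iff_le_comap.mp this
    obtain ⟨P, hPF1, hPle⟩ := hIprime p2 hp2prime hle
    have hPprime : P.IsPrime := (hF1 P hPF1).1.1
    have := hmin_eq p2 P hp2min hPprime hPle
    exact hdisj p2 (this ▸ hPF1) hp2F2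
  · obtain ⟨hP1prime, hP1comap⟩ := hprimeB p1 hp1prime hp1q
    have : J' ≤ p1.map (algebraMap A B) := hnil.trans (nilradical_le_prime _)
    have hle : J ≤ p1 := by
      rw [← hP1comap]
      exact Ideal.map_le_iff_le_comap.mp this
    obtain ⟨P, hPF2, hPle⟩ := hJprime p1 hp1prime hle
    have hPprime : P.IsPrime := (hF2 P hPF2).1.1
    have := hmin_eq p1 P hp1min hPprime hPle
    exact hdisj p1 hp1F1 (this ▸ hPF2)

end HartshornePartition

end Groth.Agent.Lib.Helper28
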