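import Groth.Agent.Lib.Helper28SkLift
import Groth.Agent.Lib.Helper28Hartshorne

/-!
# Lifting normality from `A/tA` to `A` (helper28)

* `isDomain_of_isDomain_quotient_span_singleton`;
* `isPrincipal_of_isPrincipalIdealRing_quotient` (Nakayama argument);
* `isRegularLocalRing_localization_of_map_isPrincipal`;
* `height_last_eq_length_of_covBy_series`, `height_eq_two_of_covBy` (catenary orders);
* `isPrincipalIdealRing_localization_quotient_of_height_le_two`;
* `hasRk_one_of_quotient_span_singleton`, `isDomain_and_isIntegrallyClosed_of_quotient_span_singleton`.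
-/
set_option autoImplicit false
universe u v w u' v'

namespace Groth.Agent.Lib.Helper28
open RingTheory.Sequence CategoryTheory Abelian TensorProduct
open scoped Pointwise

section DomainLift

variable {A : Type u} [CommRing A] [IsNoetherianRing A] [IsLocalRing A]

/-- Factor out the maximal power of `t`. -/
theorem exists_eq_pow_mul_and_not_mem_span (t : A) (ht : t ∈ IsLocalRing.maximalIdeal A) {a : A}
    (ha : a ≠ 0) : ∃ (n : ℕ) (a' : A), a = t ^ n * a' ∧ a' ∉ Ideal.span {t} := by
  have hne : Ideal.span {t} ≠ ⊤ := by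
    intro h
    exact (IsLocalRing.maximalIdeal.isMaximal A).ne_top
      (top_le_iff.mp (h ▸ (Ideal.span_singleton_le_iff_mem _).mpr ht))
  have hK := Ideal.iInf_pow_eq_bot_of_isLocalRing (Ideal.span {t}) hne
  have hex : ∃ n : ℕ, a ∉ Ideal.span {t} ^ n := by
    by_contra hcon
    push Not at hcon
    have : a ∈ ⨅ i : ℕ, Ideal.span {t} ^ i := (Ideal.mem_iInf).mpr hcon
    rw [hK, Ideal.mem_bot] at this
    exact ha this
  classical
  have hfind := Nat.find_spec hex
  have hmin := fun m => Nat.find_min hex (m := m)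
  set n := Nat.find hex with hn
  have hn0 : n ≠ 0 := by
    intro h0
    rw [h0, pow_zero, Ideal.one_eq_top] at hfind
    exact hfind trivial
  obtain ⟨m, hm⟩ := Nat.exists_eq_succ_of_ne_zero hn0
  have hmem : a ∈ Ideal.span {t} ^ m := by
    by_contra h
    exact hmin m (by omega) h
  rw [Ideal.span_singleton_pow, Ideal.mem_span_singleton'] at hmem
  obtain ⟨a', ha'⟩ := hmem
  refine ⟨m, a', by rw [← ha', mul_comm], ?_⟩
  intro hmem'
  apply hfind
  rw [hm, Ideal.span_singleton_pow, Ideal.mem_span_singleton']
  obtain ⟨c, hc⟩ := Ideal.mem_span_singleton'.mp hmem'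
  refine ⟨c, ?_⟩
  rw [← ha', ← hc, pow_succ]
  ring

/-- A Noetherian local ring with a non-zero-divisor `t` in the maximal ideal such that `A/tA` is a
domain is itself a domain. -/
theorem isDomain_of_isDomain_quotient_span_singleton (t : A) (ht : t ∈ IsLocalRing.maximalIdeal A)
    (hreg : t ∈ nonZeroDivisors A) [IsDomain (A ⧸ Ideal.span {t})] : IsDomain A := by
  have hprime : (Ideal.span {t}).IsPrime := (Ideal.Quotient.isDomain_iff_prime _).mp inferInstance
  have : NoZeroDivisors A := by
    refine ⟨?_⟩
    intro a b hab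
    by_contra hcon
    push Not at hcon
    obtain ⟨i, a', ha, ha'⟩ := exists_eq_pow_mul_and_not_mem_span t ht hcon.1
    obtain ⟨j, b', hb, hb'⟩ := exists_eq_pow_mul_and_not_mem_span t ht hcon.2
    have h1 : t ^ (i + j) * (a' * b') = 0 := by
      rw [← hab, ha, hb, pow_add]; ring
    have h2 : a' * b' = 0 := by
      have hpow : t ^ (i + j) ∈ nonZeroDivisors A := pow_mem hreg _
      exact (mul_cancel_left_mem_nonZeroDivisors hpow).mp (by rw [h1, mul_zero])
    have h3 : a' * b' ∈ Ideal.span {t} := by rw [h2]; exact Ideal.zero_mem _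
    rcases hprime.mem_or_mem h3 with h | h
    · exact ha' h
    · exact hb' h
  exact NoZeroDivisors.to_isDomain A

end DomainLift

section PrincipalLift

variable {R : Type u} [CommRing R] [IsNoetherianRing R] [IsLocalRing R]

/-- If `R/xR` is a principal ideal ring and `P` is a prime not containing `x ∈ m`, then `P` is
principal. -/
theorem isPrincipal_of_isPrincipalIdealRing_quotient (x : R)
    (hx : x ∈ IsLocalRing.maximalIdeal R) [IsPrincipalIdealRing (R ⧸ Ideal.span {x})]
    (P : Ideal R) [hP : P.IsPrime] (hxP : x ∉ P) : P.IsPrincipal := by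
  obtain ⟨g, hg⟩ := (IsPrincipalIdealRing.principal
    (P.map (Ideal.Quotient.mk (Ideal.span {x})))).principal
  have hgmem : g ∈ P.map (Ideal.Quotient.mk (Ideal.span {x})) := by
    rw [hg]; exact Submodule.mem_span_singleton_self g
  obtain ⟨f, hfP, hfg⟩ := (Ideal.mem_map_iff_of_surjective _ Ideal.Quotient.mk_surjective).mp hgmem
  refine ⟨f, ?_⟩
  apply le_antisymm
  · have key : P ≤ Ideal.span {f} ⊔ Ideal.span {x} • P := by
      intro a ha
      have h1 : Ideal.Quotient.mk (Ideal.span {x}) a ∈
          P.map (Ideal.Quotient.mk (Ideal.span {x})) := Ideal.mem_map_of_mem _ ha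
      rw [hg] at h1
      obtain ⟨c', hc'⟩ := Submodule.mem_span_singleton.mp h1
      obtain ⟨c, rfl⟩ := Ideal.Quotient.mk_surjective c'
      rw [smul_eq_mul, ← hfg, ← map_mul, Ideal.Quotient.eq, Ideal.mem_span_singleton'] at hc'
      obtain ⟨r, hr⟩ := hc'
      -- `r * x = c * f - a`
      have hrP : r ∈ P := by
        have : r * x ∈ P := by
          rw [hr]; exact P.sub_mem (P.mul_mem_left _ hfP) ha
        exact (hP.mem_or_mem this).resolve_right hxP
      have ha' : a = c * f - x * r := by rw [mul_comm x r, hr]; ring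
      rw [ha']
      refine Submodule.sub_mem _ (Submodule.mem_sup_left ?_) (Submodule.mem_sup_right ?_)
      · exact Ideal.mul_mem_left _ _ (Ideal.mem_span_singleton_self f)
      · exact Submodule.smul_mem_smul (Ideal.mem_span_singleton_self x) hrP
    have hjac : Ideal.span {x} ≤ Ideal.jacobson ⊥ :=
      ((Ideal.span_singleton_le_iff_mem _).mpr hx).trans (IsLocalRing.maximalIdeal_le_jacobson ⊥)
    exact Submodule.le_of_le_smul_of_le_jacobson_bot (IsNoetherian.noetherian P) hjac key
  · exact (Ideal.span_singleton_le_iff_mem _).mpr hfP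

end PrincipalLift

section RegOfPrincipal

variable {A : Type u} [CommRing A] [IsNoetherianRing A] [IsDomain A]

/-- Localization of a Noetherian domain at a principal prime is a regular local ring. -/
theorem isRegularLocalRing_localization_of_map_isPrincipal (P : Ideal A) [P.IsPrime]
    (h : (P.map (algebraMap A (Localization.AtPrime P))).IsPrincipal) :
    IsRegularLocalRing (Localization.AtPrime P) := by
  rw [Localization.AtPrime.map_eq_maximalIdeal] at h
  have : IsPrincipalIdealRing (Localization.AtPrime P) :=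
    ((tfae_of_isNoetherianRing_of_isLocalRing_of_isDomain (R := Localization.AtPrime P)).out 4 0).mp h
  infer_instance

end RegOfPrincipal

section CatenaryHeight

variable {α : Type*} [PartialOrder α] [OrderBot α] [WellFoundedLT α] [WellFoundedGT α]

/-- In a catenary order with bottom, the height of the end of a covering chain from `⊥` is its
length. -/
theorem height_last_eq_length_of_covBy_series
    (hcat : ∀ s t : RelSeries {(a, b) : α × α | a ⋖ b}, s.head = t.head → s.last = t.last →
      s.length = t.length)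
    (c : RelSeries {(a, b) : α × α | a ⋖ b}) (hc : c.head = ⊥) :
    Order.height c.last = c.length := by
  apply le_antisymm
  · apply Order.height_le
    intro s hs
    obtain ⟨s', hs'head, hs'last, hs'len⟩ :
        ∃ s' : LTSeries α, s'.head = ⊥ ∧ s'.last = c.last ∧ s.length ≤ s'.length := by
      by_cases h : s.head = ⊥
      · exact ⟨s, h, hs, le_rfl⟩
      · exact ⟨s.cons ⊥ (bot_lt_iff_ne_bot.mpr h), by simp, by simp [hs], by simp⟩
    obtain ⟨u, huhead, hulast, hulen⟩ := exists_covBy_refinement s'
    have hlen : u.length = c.length := by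
      apply hcat
      · rw [huhead, hs'head, hc]
      · rw [hulast, hs'last]
    calc (s.length : ℕ∞) ≤ s'.length := by exact_mod_cast hs'len
      _ ≤ u.length := by exact_mod_cast hulen
      _ = c.length := by rw [hlen]
  · have := Order.length_le_height_last (p := c.ofLE (s := {(a, b) : α × α | a < b})
      (fun _ h => h.lt))
    exact this

end CatenaryHeight

section CatenaryHeightRing

variable {A : Type u} [CommRing A] [IsDomain A] [IsLocalRing A] [IsNoetherianRing A]

theorem height_eq_two_of_covBy (hc : CAlg.IsCatenary A) {p q : PrimeSpectrum A}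
    (h1 : ⊥ ⋖ p) (h2 : p ⋖ q) : q.asIdeal.height = 2 := by
  have : WellFoundedLT (PrimeSpectrum A) :=
    ⟨(SetRel.IsWellFounded.of_finiteDimensional {(a, b) : PrimeSpectrum A × PrimeSpectrum A | a < b})⟩
  have : WellFoundedGT (PrimeSpectrum A) :=
    ⟨(SetRel.IsWellFounded.inv_of_finiteDimensional
      {(a, b) : PrimeSpectrum A × PrimeSpectrum A | a < b})⟩
  let c0 : RelSeries {(a, b) : PrimeSpectrum A × PrimeSpectrum A | a ⋖ b} :=
    RelSeries.singleton _ ⊥
  let c1 := c0.snoc p h1
  let c2 := c1.snoc q (by
    change c1.last ⋖ q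
    rw [RelSeries.last_snoc]; exact h2)
  have hhead : c2.head = ⊥ := by simp [c2, c1, c0]
  have hlast : c2.last = q := by simp [c2]
  have hlen : c2.length = 2 := by simp [c2, c1, c0]
  have key := height_last_eq_length_of_covBy_series (α := PrimeSpectrum A) ?_ c2 hhead
  · rw [hlast, hlen] at key
    rw [PrimeSpectrum.height_eq_orderHeight]
    exact key
  · intro s t hh hl
    exact hc.2 (s.ofLE (fun _ h => h.lt)) (t.ofLE (fun _ h => h.lt)) hh hl
      (fun i => s.step i) (fun i => t.step i)

end CatenaryHeightRing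

section PIDLemma

theorem withBot_enat_le_of_add_one_le_add_one {a : WithBot ℕ∞} {b : ℕ∞}
    (h : a + 1 ≤ ((b : ℕ∞) : WithBot ℕ∞) + 1) : a ≤ ((b : ℕ∞) : WithBot ℕ∞) := by
  induction a using WithBot.recBotCoe with
  | bot => exact bot_le
  | coe a =>
    have h1 : ((a + 1 : ℕ∞) : WithBot ℕ∞) ≤ ((b + 1 : ℕ∞) : WithBot ℕ∞) := by
      simpa using h
    have h2 : a + 1 ≤ b + 1 := WithBot.coe_le_coe.mp h1
    exact WithBot.coe_le_coe.mpr ((ENat.add_le_add_iff_right ENat.one_ne_top).mp h2)

/-- A normal Noetherian local domain of dimension at most one is a principal ideal ring. -/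
theorem isPrincipalIdealRing_of_isIntegrallyClosed_of_dim_le_one {B : Type u} [CommRing B]
    [IsNoetherianRing B] [IsLocalRing B] [IsDomain B] [IsIntegrallyClosed B]
    (hdim : ringKrullDim B ≤ 1) : IsPrincipalIdealRing B := by
  have h43 : IsPrincipalIdealRing B ↔ (IsIntegrallyClosed B ∧
      ∀ P : Ideal B, P ≠ ⊥ → P.IsPrime → P = IsLocalRing.maximalIdeal B) :=
    (tfae_of_isNoetherianRing_of_isLocalRing_of_isDomain B).out 0 3
  rw [h43]
  refine ⟨inferInstance, fun P hP0 hPprime => ?_⟩
  by_contra hne
  have hlt : P < IsLocalRing.maximalIdeal B :=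
    lt_of_le_of_ne (IsLocalRing.le_maximalIdeal hPprime.ne_top) hne
  have h1 : (⊥ : Ideal B).height + 1 ≤ P.height :=
    Ideal.height_add_one_le_of_lt_of_isPrime (bot_lt_iff_ne_bot.mpr hP0)
  have h2 : P.height + 1 ≤ (IsLocalRing.maximalIdeal B).height :=
    Ideal.height_add_one_le_of_lt_of_isPrime hlt
  have h3 : ((IsLocalRing.maximalIdeal B).height : WithBot ℕ∞) ≤ 1 := by
    rw [IsLocalRing.maximalIdeal_height_eq_ringKrullDim]; exact hdim
  have h3' : (IsLocalRing.maximalIdeal B).height ≤ 1 := by exact_mod_cast h3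
  rw [Ideal.height_bot, zero_add] at h1
  have : (1 : ℕ∞) + 1 ≤ 1 := (add_le_add_left h1 1).trans (h2.trans h3')
  exact absurd this (by norm_num)

variable {A : Type u} [CommRing A] [IsNoetherianRing A]

/-- If `A/tA` is a normal domain and `q ∋ t` is a prime of height at most two, then `A_q/tA_q` is a
principal ideal ring. -/
theorem isPrincipalIdealRing_localization_quotient_of_height_le_two (t : A)
    (hreg : IsSMulRegular A t) [IsDomain (A ⧸ Ideal.span {t})]
    [IsIntegrallyClosed (A ⧸ Ideal.span {t})]
    (q : Ideal A) [hq : q.IsPrime] (htq : t ∈ q) (hht : q.height ≤ 2) :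
    IsPrincipalIdealRing (Localization.AtPrime q ⧸
      Ideal.span {algebraMap A (Localization.AtPrime q) t}) := by
  have hIq : Ideal.span {t} ≤ q := (Ideal.span_singleton_le_iff_mem q).mpr htq
  have hqbar : (q.map (Ideal.Quotient.mk (Ideal.span {t}))).IsPrime :=
    Ideal.map_isPrime_of_surjective Ideal.Quotient.mk_surjective (by rwa [Ideal.mk_ker])
  have hcomap : (q.map (Ideal.Quotient.mk (Ideal.span {t}))).comap
      (Ideal.Quotient.mk (Ideal.span {t})) = q := by
    rw [Ideal.comap_map_of_surjective _ Ideal.Quotient.mk_surjective, ← RingHom.ker_eq_comap_bot,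
      Ideal.mk_ker, sup_eq_left]
    exact hIq
  have transport : ∀ (q' : Ideal A) [q'.IsPrime], q' = q →
      IsPrincipalIdealRing (Localization.AtPrime q' ⧸
        Ideal.span {algebraMap A (Localization.AtPrime q') t}) →
      IsPrincipalIdealRing (Localization.AtPrime q ⧸
        Ideal.span {algebraMap A (Localization.AtPrime q) t}) := by
    intro q' _ e h
    subst e
    exact h
  refine transport _ hcomap ?_
  set qbar : Ideal (A ⧸ Ideal.span {t}) := q.map (Ideal.Quotient.mk (Ideal.span {t})) with hqbardef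
  set q' : Ideal A := qbar.comap (Ideal.Quotient.mk (Ideal.span {t})) with hq'
  set R := Localization.AtPrime q' with hR
  set x : R := algebraMap A R t with hx
  have htq' : t ∈ q' := by rw [hcomap]; exact htq
  have hxm : x ∈ IsLocalRing.maximalIdeal R := by
    rw [← Localization.AtPrime.map_eq_maximalIdeal]
    exact Ideal.mem_map_of_mem _ htq'
  have hregx : IsSMulRegular R x := hreg.of_flat
  have hmapI : (Ideal.span {t}).map (algebraMap A R) = Ideal.span {x} := by
    rw [Ideal.map_span, Set.image_singleton]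
  let e1 : Localization.AtPrime qbar ≃+* (R ⧸ (Ideal.span {t}).map (algebraMap A R)) :=
    localizationQuotientEquiv (Ideal.span {t}) qbar
  let e2 : (R ⧸ (Ideal.span {t}).map (algebraMap A R)) ≃+* (R ⧸ Ideal.span {x}) :=
    Ideal.quotEquivOfEq hmapI
  let e := e1.trans e2
  have hloc : IsLocalRing (R ⧸ Ideal.span {x}) := e.isLocalRing
  have hdimR : ringKrullDim R ≤ 2 := by
    rw [IsLocalization.AtPrime.ringKrullDim_eq_height q' R, hcomap]
    have := WithBot.coe_le_coe.mpr hht
    simpa using this
  have hdim1 := ringKrullDim_quotient_span_singleton_succ_eq_ringKrullDim hregx hxm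
  have hdimS : ringKrullDim (Localization.AtPrime qbar) ≤ 1 := by
    rw [ringKrullDim_eq_of_ringEquiv e]
    rw [← hdim1] at hdimR
    have h2 : (2 : WithBot ℕ∞) = ((1 : ℕ∞) : WithBot ℕ∞) + 1 := by norm_num
    rw [h2] at hdimR
    have := withBot_enat_le_of_add_one_le_add_one hdimR
    simpa using this
  have hic : IsIntegrallyClosed (Localization.AtPrime qbar) :=
    isIntegrallyClosed_of_isLocalization _ qbar.primeCompl qbar.primeCompl_le_nonZeroDivisors
  have hpid : IsPrincipalIdealRing (Localization.AtPrime qbar) :=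
    isPrincipalIdealRing_of_isIntegrallyClosed_of_dim_le_one hdimS
  exact IsPrincipalIdealRing.of_surjective e.toRingHom e.surjective

end PIDLemma

section NormalLift

variable {A : Type u} [CommRing A] [IsNoetherianRing A]

theorem not_two_le_one_enat : ¬ ((1 : ℕ∞) + 1 ≤ 1) := by
  intro h
  rw [one_add_one_eq_two] at h
  have : ((2 : ℕ) : ℕ∞) ≤ ((1 : ℕ) : ℕ∞) := by exact_mod_cast h
  have h' : (2 : ℕ) ≤ 1 := by exact_mod_cast this
  omega

/-- No prime strictly between when the height jumps by at most one. -/
theorem covBy_bot_of_height_eq_one [IsDomain A] (P : Ideal A) [hP : P.IsPrime]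
    (hP1 : P.height = 1) : (⊥ : PrimeSpectrum A) ⋖ ⟨P, hP⟩ := by
  have hP0 : P ≠ ⊥ := by
    intro e
    rw [e, Ideal.height_bot] at hP1
    exact zero_ne_one hP1
  refine ⟨lt_of_le_of_ne bot_le (fun e => hP0 (congrArg PrimeSpectrum.asIdeal e).symm), ?_⟩
  intro r hr1 hr2
  have hr1' : (⊥ : Ideal A) < r.asIdeal := hr1
  have hr2' : r.asIdeal < P := hr2
  have e1 := Ideal.height_add_one_le_of_lt_of_isPrime hr1'
  have e2 := Ideal.height_add_one_le_of_lt_of_isPrime hr2'
  rw [Ideal.height_bot, zero_add] at e1
  exact not_two_le_one_enat ((add_le_add_left e1 1).trans (e2.trans hP1.le))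

omit [IsNoetherianRing A] in
theorem isPrime_map_mk_and_comap_map (P J : Ideal A) (hJ : J.IsPrime) (hPJ : P ≤ J) :
    (J.map (Ideal.Quotient.mk P)).IsPrime ∧
      (J.map (Ideal.Quotient.mk P)).comap (Ideal.Quotient.mk P) = J := by
  refine ⟨Ideal.map_isPrime_of_surjective Ideal.Quotient.mk_surjective
    (by rwa [Ideal.mk_ker]), ?_⟩
  rw [Ideal.comap_map_of_surjective _ Ideal.Quotient.mk_surjective,
    ← RingHom.ker_eq_comap_bot, Ideal.mk_ker, sup_eq_left]
  exact hPJ

theorem covBy_of_mem_minimalPrimes_sup_span (t : A) (P : Ideal A) [hP : P.IsPrime] (htP : t ∉ P)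
    (q : Ideal A) (hqmin : q ∈ (P ⊔ Ideal.span {t}).minimalPrimes) :
    (⟨P, hP⟩ : PrimeSpectrum A) ⋖ ⟨q, hqmin.1.1⟩ := by
  have hq : q.IsPrime := hqmin.1.1
  have hPq : P ≤ q := le_sup_left.trans hqmin.1.2
  have htq : t ∈ q := hqmin.1.2 (Ideal.mem_sup_right (Ideal.mem_span_singleton_self t))
  have hlt : P < q := lt_of_le_of_ne hPq (fun e => htP (e ▸ htq))
  refine ⟨hlt, ?_⟩
  intro r hr1 hr2
  have hr1' : P < r.asIdeal := hr1
  have hr2' : r.asIdeal < q := hr2
  have hle := Ideal.map_height_le_one_of_mem_minimalPrimes hqmin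
  obtain ⟨hrp, hrc⟩ := isPrime_map_mk_and_comap_map P r.asIdeal r.2 hr1'.le
  obtain ⟨hqp, hqc⟩ := isPrime_map_mk_and_comap_map P q hq hPq
  have hbotprime : (⊥ : Ideal (A ⧸ P)).IsPrime := Ideal.isPrime_bot
  have l1 : (⊥ : Ideal (A ⧸ P)) < r.asIdeal.map (Ideal.Quotient.mk P) := by
    refine lt_of_le_of_ne bot_le (fun e => ?_)
    have : r.asIdeal = P := by
      rw [← hrc, ← e, ← RingHom.ker_eq_comap_bot, Ideal.mk_ker]
    exact hr1'.ne' this
  have l2 : r.asIdeal.map (Ideal.Quotient.mk P) < q.map (Ideal.Quotient.mk P) := by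
    refine lt_of_le_of_ne (Ideal.map_mono hr2'.le) (fun e => ?_)
    have : r.asIdeal = q := by rw [← hrc, e, hqc]
    exact hr2'.ne this
  have e1 := Ideal.height_add_one_le_of_lt_of_isPrime l1
  have e2 := Ideal.height_add_one_le_of_lt_of_isPrime l2
  rw [Ideal.height_bot, zero_add] at e1
  exact not_two_le_one_enat ((add_le_add_left e1 1).trans (e2.trans hle))

end NormalLift

section NormalLift2

variable {A : Type u} [CommRing A] [IsNoetherianRing A] [IsLocalRing A]

/-- In a catenary Noetherian local domain, a minimal prime `q` over `P + tA` for a height-one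
prime `P` has height two. -/
theorem height_eq_two_of_mem_minimalPrimes_sup_span [IsDomain A] (hcat : CAlg.IsCatenary A)
    (t : A) (P : Ideal A) [hP : P.IsPrime] (hP1 : P.height = 1) (htP : t ∉ P)
    (q : Ideal A) (hqmin : q ∈ (P ⊔ Ideal.span {t}).minimalPrimes) : q.height = 2 := by
  have h1 := covBy_bot_of_height_eq_one P hP1
  have h2 := covBy_of_mem_minimalPrimes_sup_span t P htP q hqmin
  have h3 := height_eq_two_of_covBy hcat h1 h2
  exact h3

/-- `(R_1)` for `A` from normality of `A/tA`. -/
theorem hasRk_one_of_quotient_span_singleton [IsDomain A] (hcat : CAlg.IsCatenary A)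
    (t : A) (ht : t ∈ IsLocalRing.maximalIdeal A) (ht0 : t ≠ 0) (hreg' : IsSMulRegular A t)
    [IsDomain (A ⧸ Ideal.span {t})] [IsIntegrallyClosed (A ⧸ Ideal.span {t})] :
    LocCoh.HasRk 1 A := by
  have htprime : (Ideal.span {t}).IsPrime :=
    (Ideal.Quotient.isDomain_iff_prime _).mp inferInstance
  intro P hP hht
  apply isRegularLocalRing_localization_of_map_isPrincipal
  by_cases hP0 : P = ⊥
  · subst hP0
    rw [Ideal.map_bot]
    exact bot_isPrincipal
  have hP1 : P.height = 1 := by
    apply le_antisymm (by exact_mod_cast hht)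
    have := Ideal.height_add_one_le_of_lt_of_isPrime (bot_lt_iff_ne_bot.mpr hP0)
    rwa [Ideal.height_bot, zero_add] at this
  by_cases htP : t ∈ P
  · -- `P = (t)`
    have hle : Ideal.span {t} ≤ P := (Ideal.span_singleton_le_iff_mem P).mpr htP
    have heq : P = Ideal.span {t} := by
      by_contra hne
      have hlt : Ideal.span {t} < P := lt_of_le_of_ne hle (Ne.symm hne)
      have hbot : (⊥ : Ideal A) < Ideal.span {t} := by
        rw [bot_lt_iff_ne_bot, Ne, Ideal.span_singleton_eq_bot]
        exact ht0
      have e1 := Ideal.height_add_one_le_of_lt_of_isPrime hbot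
      have e2 := Ideal.height_add_one_le_of_lt_of_isPrime hlt
      rw [Ideal.height_bot, zero_add] at e1
      exact not_two_le_one_enat ((add_le_add_left e1 1).trans (e2.trans hP1.le))
    refine ⟨algebraMap A (Localization.AtPrime P) t, ?_⟩
    have h1 : P.map (algebraMap A (Localization.AtPrime P)) =
        (Ideal.span {t}).map (algebraMap A (Localization.AtPrime P)) :=
      congrArg (Ideal.map (algebraMap A (Localization.AtPrime P))) heq
    rw [h1, Ideal.map_span, Set.image_singleton]
  · -- a minimal prime over `P + (t)`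
    have hle : P ⊔ Ideal.span {t} ≤ IsLocalRing.maximalIdeal A :=
      sup_le (IsLocalRing.le_maximalIdeal hP.ne_top)
        ((Ideal.span_singleton_le_iff_mem _).mpr ht)
    obtain ⟨q, hqmin, -⟩ := Ideal.exists_minimalPrimes_le hle
    have hq : q.IsPrime := hqmin.1.1
    have hPq : P ≤ q := le_sup_left.trans hqmin.1.2
    have htq : t ∈ q := hqmin.1.2 (Ideal.mem_sup_right (Ideal.mem_span_singleton_self t))
    have hq2 : q.height = 2 :=
      height_eq_two_of_mem_minimalPrimes_sup_span hcat t P hP1 htP q hqmin
    have hpid := isPrincipalIdealRing_localization_quotient_of_height_le_two t hreg' q htq hq2.le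
    obtain ⟨hP'prime, hP'comap⟩ := isPrime_map_and_comap_map_of_le q hPq
    have hxm : algebraMap A (Localization.AtPrime q) t ∈
        IsLocalRing.maximalIdeal (Localization.AtPrime q) := by
      rw [← Localization.AtPrime.map_eq_maximalIdeal]
      exact Ideal.mem_map_of_mem _ htq
    have hxP' : algebraMap A (Localization.AtPrime q) t ∉
        P.map (algebraMap A (Localization.AtPrime q)) := by
      intro hmem
      apply htP
      rw [← hP'comap]
      exact hmem
    obtain ⟨f, hf⟩ := (isPrincipal_of_isPrincipalIdealRing_quotient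
      (algebraMap A (Localization.AtPrime q) t) hxm
      (P.map (algebraMap A (Localization.AtPrime q))) hxP').principal
    -- extend to `A_P`
    have hle' : q.primeCompl ≤ P.primeCompl := fun x hx hxP => hx (hPq hxP)
    let alg : Algebra (Localization.AtPrime q) (Localization.AtPrime P) :=
      IsLocalization.localizationAlgebraOfSubmonoidLe _ _ q.primeCompl P.primeCompl hle'
    have tower : IsScalarTower A (Localization.AtPrime q) (Localization.AtPrime P) :=
      IsLocalization.localization_isScalarTower_of_submonoid_le _ _ _ _ hle'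
    refine ⟨algebraMap (Localization.AtPrime q) (Localization.AtPrime P) f, ?_⟩
    rw [IsScalarTower.algebraMap_eq A (Localization.AtPrime q) (Localization.AtPrime P),
      ← Ideal.map_map, hf]
    change Ideal.map _ (Ideal.span {f}) = Ideal.span {_}
    rw [Ideal.map_span, Set.image_singleton]

/-- `A/tA` a normal domain implies `A` a normal domain, for `A` a catenary Noetherian local ring
and `t` a non-zero-divisor in the maximal ideal. -/
theorem isDomain_and_isIntegrallyClosed_of_quotient_span_singleton (hcat : CAlg.IsCatenary A)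
    (t : A) (ht : t ∈ IsLocalRing.maximalIdeal A) (hreg : t ∈ nonZeroDivisors A)
    [IsDomain (A ⧸ Ideal.span {t})] [IsIntegrallyClosed (A ⧸ Ideal.span {t})] :
    IsDomain A ∧ IsIntegrallyClosed A := by
  have hdom : IsDomain A := isDomain_of_isDomain_quotient_span_singleton t ht hreg
  refine ⟨hdom, ?_⟩
  have hreg' : IsSMulRegular A t := by
    intro a b hab
    exact mul_cancel_left_mem_nonZeroDivisors hreg |>.mp hab
  have ht0 : t ≠ 0 := nonZeroDivisors.ne_zero hreg
  -- `(S_2)`
  have hS2bar : LocCoh.HasSk 2 (A ⧸ Ideal.span {t}) (A ⧸ Ideal.span {t}) :=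
    ((forall_isIntegrallyClosed_localization_iff_hasRk_one_and_hasSk_two
      (A ⧸ Ideal.span {t})).mp (fun p _ => ⟨inferInstance,
        isIntegrallyClosed_of_isLocalization _ p.primeCompl p.primeCompl_le_nonZeroDivisors⟩)).2
  have hS2 : LocCoh.HasSk 2 A A := hasSk_of_hasSk_quotient_span_singleton 2 t ht hreg' hS2bar
  have hR1 : LocCoh.HasRk 1 A := hasRk_one_of_quotient_span_singleton hcat t ht ht0 hreg'
  exact isIntegrallyClosed_of_hasRk_one_of_hasSk_two hR1 hS2

end NormalLift2

end Groth.Agent.Lib.Helper28
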