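import Groth.Agent.Lib.Helper4VarDim12
import Mathlib.AlgebraicGeometry.Morphisms.Etale
import Mathlib.AlgebraicGeometry.Morphisms.QuasiFinite

/-!
# Relative transcendence degrees: towers and quasi-finite morphisms
-/

set_option autoImplicit false
set_option linter.style.haveILetI false
universe u

open AlgebraicGeometry CategoryTheory TopologicalSpace Topology

namespace Groth.Agent.Lib.Helper4.VarDim

/-- Tower formula for the relative transcendence degrees of residue fields. -/
theorem trdeg_residueFieldMap_comp {X Y Z : Scheme.{u}} (f : X ⟶ Y) (g : Y ⟶ Z) (x : X) :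
    @Algebra.trdeg (Z.residueField (g (f x))) (Y.residueField (f x)) _ _
        (g.residueFieldMap (f x)).hom.toAlgebra +
      @Algebra.trdeg (Y.residueField (f x)) (X.residueField x) _ _
        (f.residueFieldMap x).hom.toAlgebra =
      @Algebra.trdeg (Z.residueField ((f ≫ g) x)) (X.residueField x) _ _
        ((f ≫ g).residueFieldMap x).hom.toAlgebra := by
  letI a1 : Algebra (Z.residueField (g (f x))) (Y.residueField (f x)) :=
    (g.residueFieldMap (f x)).hom.toAlgebra
  letI a2 : Algebra (Y.residueField (f x)) (X.residueField x) := (f.residueFieldMap x).hom.toAlgebra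
  letI a3 : Algebra (Z.residueField (g (f x))) (X.residueField x) :=
    ((f ≫ g).residueFieldMap x).hom.toAlgebra
  haveI : IsScalarTower (Z.residueField (g (f x))) (Y.residueField (f x)) (X.residueField x) :=
    IsScalarTower.of_algebraMap_eq fun c => by
      change ((f ≫ g).residueFieldMap x).hom c = _
      rw [Scheme.residueFieldMap_comp]
      rfl
  haveI : FaithfulSMul (Z.residueField (g (f x))) (Y.residueField (f x)) :=
    (faithfulSMul_iff_algebraMap_injective _ _).mpr (RingHom.injective _)
  haveI : FaithfulSMul (Y.residueField (f x)) (X.residueField x) :=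
    (faithfulSMul_iff_algebraMap_injective _ _).mpr (RingHom.injective _)
  exact trdeg_add_eq (Z.residueField (g (f x))) (Y.residueField (f x))

theorem locallyQuasiFinite_of_formallyUnramified {X Y : Scheme.{u}} (f : X ⟶ Y)
    [LocallyOfFiniteType f] [FormallyUnramified f] : LocallyQuasiFinite f := by
  refine ⟨fun {U} hU {V} hV e => ?_⟩
  have h1 := f.formallyUnramified_appLE hU hV e
  have h2 := HasRingHomProperty.appLE (P := @LocallyOfFiniteType) f inferInstance ⟨U, hU⟩ ⟨V, hV⟩ e
  algebraize [(f.appLE U V e).hom]
  show Algebra.QuasiFinite _ _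
  infer_instance

attribute [local instance] Curv2.resAlgebra

/-- For a locally quasi-finite morphism locally of finite type, the residue field extensions
are algebraic: their transcendence degree vanishes. -/
theorem trdeg_residueFieldMap_eq_zero_of_locallyQuasiFinite {X Y : Scheme.{u}} (f : X ⟶ Y)
    [LocallyOfFiniteType f] [LocallyQuasiFinite f] (x : X) :
    @Algebra.trdeg (Y.residueField (f x)) (X.residueField x) _ _
      (f.residueFieldMap x).hom.toAlgebra = 0 := by
  letI : (f.fiber (f x)).Over (Spec (CommRingCat.of (Y.residueField (f x)))) :=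
    ⟨f.fiberToSpecResidueField (f x)⟩
  haveI : LocallyOfFiniteType ((f.fiber (f x)) ↘ Spec (CommRingCat.of (Y.residueField (f x)))) :=
    locallyOfFiniteType_fiberToSpecResidueField f (f x)
  rw [trdeg_residueFieldMap_eq_trdegNat_fiber f (f x) (f.asFiber x) x (f.fiberι_asFiber x)]
  have h1 := trdegNat_le_topologicalKrullDim (Y.residueField (f x)) (f.fiber (f x)) (f.asFiber x)
  have h2 := topologicalKrullDim_zero_of_discreteTopology (f.fiber (f x))
  have h3 : trdegNat (Y.residueField (f x)) (f.fiber (f x)) (f.asFiber x) ≤ 0 := by
    exact_mod_cast h1.trans h2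
  have h4 : trdegNat (Y.residueField (f x)) (f.fiber (f x)) (f.asFiber x) = 0 := by omega
  rw [h4]
  simp

end Groth.Agent.Lib.Helper4.VarDim
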