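import Groth.Prelude
import Mathlib

/-!
# Chevalley-type openness at the generic point (helper6)

If `f : X ⟶ Y` is locally of finite type, `Y` irreducible and the generic point of `Y` lies in the
image of `f`, then the image contains an open neighbourhood of the generic point.
-/

open Polynomial AlgebraicGeometry CategoryTheory

namespace Groth.Agent.Lib.Helper6

universe u

/-- Lying over for a one-generator algebraic extension after inverting the leading coefficient. -/
lemma exists_prime_over_of_aeval_eq_zero {A B : Type u} [CommRing A] [CommRing B] [Algebra A B]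
    (hinj : Function.Injective (algebraMap A B)) (b : B) (hb : Algebra.adjoin A {b} = ⊤)
    (P : A[X]) (hP : aeval b P = 0) (p : Ideal A) [p.IsPrime] (hp : P.leadingCoeff ∉ p) :
    ∃ q : Ideal B, q.IsPrime ∧ q.comap (algebraMap A B) = p := by
  let M := p.primeCompl
  let Ap := Localization.AtPrime p
  let Bp := Localization (Algebra.algebraMapSubmonoid B M)
  let g : Ap →+* Bp := IsLocalization.map Bp (algebraMap A B)
    (show M ≤ (Algebra.algebraMapSubmonoid B M).comap _ from M.le_comap_map)
  have hgcomp : g.comp (algebraMap A Ap) = (algebraMap B Bp).comp (algebraMap A B) :=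
    IsLocalization.map_comp _
  have hgint : g.IsIntegral := by
    have hbint : g.IsIntegralElem (algebraMap B Bp b) :=
      is_integral_localization_at_leadingCoeff (M := M) (Rₘ := Ap) (Sₘ := Bp) P hP hp
    have hB : ∀ x : B, g.IsIntegralElem (algebraMap B Bp x) := by
      intro x
      have hx : x ∈ Algebra.adjoin A {b} := by rw [hb]; trivial
      induction hx using Algebra.adjoin_induction with
      | mem y hy =>
        rw [Set.mem_singleton_iff] at hy
        rw [hy]
        exact hbint
      | algebraMap r =>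
        have : algebraMap B Bp (algebraMap A B r) = g (algebraMap A Ap r) := by
          rw [← RingHom.comp_apply, ← hgcomp, RingHom.comp_apply]
        rw [this]
        exact g.isIntegralElem_map
      | add x y _ _ hx hy =>
        rw [map_add]
        exact RingHom.IsIntegralElem.add g hx hy
      | mul x y _ _ hx hy =>
        rw [map_mul]
        exact RingHom.IsIntegralElem.mul g hx hy
    intro z
    obtain ⟨x, ⟨s, hs⟩, rfl⟩ := IsLocalization.exists_mk'_eq (Algebra.algebraMapSubmonoid B M) z
    obtain ⟨m, hm, rfl⟩ := hs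
    have h1 : IsLocalization.mk' Bp x (⟨algebraMap A B m, ⟨m, hm, rfl⟩⟩ :
        Algebra.algebraMapSubmonoid B M) =
        algebraMap B Bp x * g (IsLocalization.mk' Ap (1 : A) (⟨m, hm⟩ : M)) := by
      rw [IsLocalization.map_mk', map_one, IsLocalization.mk'_eq_mul_mk'_one x]
    rw [h1]
    exact RingHom.IsIntegralElem.mul g (hB x) g.isIntegralElem_map
  have hginj : Function.Injective g := by
    have : IsLocalization (Submonoid.map (algebraMap A B) M) Bp :=
      inferInstanceAs (IsLocalization (Algebra.algebraMapSubmonoid B M) Bp)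
    exact IsLocalization.map_injective_of_injective (M := M) (S := Ap) (Q := Bp) hinj
  obtain ⟨Q', hQ'⟩ := hgint.comap_surjective hginj
    (IsLocalRing.closedPoint Ap)
  refine ⟨Q'.asIdeal.comap (algebraMap B Bp), inferInstance, ?_⟩
  rw [Ideal.comap_comap, ← hgcomp, ← Ideal.comap_comap]
  have h2 : Q'.asIdeal.comap g = IsLocalRing.maximalIdeal Ap := by
    have := congrArg PrimeSpectrum.asIdeal hQ'
    exact this
  rw [h2]
  exact IsLocalization.AtPrime.under_maximalIdeal Ap p


/-- One step of Chevalley's theorem: for domains `A ⊆ B = A[b]` and `c ≠ 0` in `B`, the image of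
`D(c)` in `Spec A` contains a nonempty basic open. -/
theorem exists_ne_zero_forall_prime_one_step {A B : Type u} [CommRing A] [IsDomain A] [CommRing B]
    [IsDomain B] [Algebra A B] (hinj : Function.Injective (algebraMap A B)) (b : B)
    (hb : Algebra.adjoin A {b} = ⊤) (c : B) (hc : c ≠ 0) :
    ∃ a : A, a ≠ 0 ∧ ∀ p : Ideal A, p.IsPrime → a ∉ p →
      ∃ q : Ideal B, q.IsPrime ∧ c ∉ q ∧ q.comap (algebraMap A B) = p := by
  by_cases htr : Function.Injective (aeval b : A[X] →ₐ[A] B)
  · -- transcendental case: `B ≃ A[X]`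
    have hsurj : Function.Surjective (aeval b : A[X] →ₐ[A] B) := by
      intro x
      have hx : x ∈ Algebra.adjoin A {b} := by rw [hb]; trivial
      rw [Algebra.adjoin_singleton_eq_range_aeval] at hx
      exact hx
    let e : A[X] ≃ₐ[A] B := AlgEquiv.ofBijective (aeval b) ⟨htr, hsurj⟩
    have hP0 : e.symm c ≠ 0 := by
      intro h
      exact hc (by simpa using congrArg e h)
    refine ⟨(e.symm c).leadingCoeff, leadingCoeff_ne_zero.mpr hP0, ?_⟩
    intro p hp hap
    have hq' : (p.map (C : A →+* A[X])).IsPrime := Ideal.isPrime_map_C_of_isPrime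
    refine ⟨(p.map (C : A →+* A[X])).comap (e.symm : B →+* A[X]), Ideal.comap_isPrime _ _, ?_, ?_⟩
    · rw [Ideal.mem_comap]
      intro hmem
      rw [Ideal.mem_map_C_iff] at hmem
      exact hap (hmem _)
    · ext x
      simp only [Ideal.mem_comap]
      have : (e.symm : B →+* A[X]) (algebraMap A B x) = C x := by
        change e.symm (algebraMap A B x) = C x
        rw [e.symm.commutes]
        rfl
      rw [this, Ideal.mem_map_C_iff]
      constructor
      · intro h
        simpa using h 0
      · intro h n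
        rw [coeff_C]
        split_ifs
        · exact h
        · exact p.zero_mem
  · -- algebraic case
    rw [injective_iff_map_eq_zero] at htr
    push Not at htr
    obtain ⟨P, hP, hP0⟩ := htr
    have hbalg : IsAlgebraic A b := ⟨P, hP0, hP⟩
    have hcalg : IsAlgebraic A c := by
      have hc' : c ∈ Algebra.adjoin A {b} := by rw [hb]; trivial
      have hle : Algebra.adjoin A {b} ≤ Subalgebra.algebraicClosure A B :=
        Algebra.adjoin_le (by
          intro y hy
          rw [Set.mem_singleton_iff] at hy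
          rw [hy]
          exact hbalg)
      exact hle hc'
    obtain ⟨e0, he0, hdvd⟩ := hcalg.exists_nonzero_dvd (mem_nonZeroDivisors_of_ne_zero hc)
    refine ⟨P.leadingCoeff * e0, mul_ne_zero (leadingCoeff_ne_zero.mpr hP0) he0, ?_⟩
    intro p hp hap
    have h1 : P.leadingCoeff ∉ p := fun h => hap (p.mul_mem_right _ h)
    have h2 : e0 ∉ p := fun h => hap (p.mul_mem_left _ h)
    obtain ⟨q, hq, hqp⟩ := exists_prime_over_of_aeval_eq_zero hinj b hb P hP p h1
    refine ⟨q, hq, ?_, hqp⟩
    intro hcq
    apply h2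
    rw [← hqp, Ideal.mem_comap]
    exact q.mem_of_dvd hdvd hcq


/-- Chevalley-type statement for finitely generated extensions of domains. -/
theorem exists_ne_zero_forall_prime_of_adjoin_finset {B : Type u} [CommRing B] [IsDomain B]
    (s : Finset B) : ∀ {A : Type u} [CommRing A] [IsDomain A] [Algebra A B]
    (_ : Function.Injective (algebraMap A B)) (_ : Algebra.adjoin A (s : Set B) = ⊤)
    (c : B) (_ : c ≠ 0),
    ∃ a : A, a ≠ 0 ∧ ∀ p : Ideal A, p.IsPrime → a ∉ p →
      ∃ q : Ideal B, q.IsPrime ∧ c ∉ q ∧ q.comap (algebraMap A B) = p := by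
  classical
  induction s using Finset.induction_on with
  | empty =>
    intro A _ _ _ hinj hs c hc
    refine exists_ne_zero_forall_prime_one_step hinj 0 ?_ c hc
    rw [eq_top_iff, ← hs]
    exact Algebra.adjoin_mono (by simp)
  | insert b s' _ ih =>
    intro A _ _ _ hinj hs c hc
    let A' : Subalgebra A B := Algebra.adjoin A {b}
    have hinj' : Function.Injective (algebraMap A' B) := Subtype.val_injective
    have hs' : Algebra.adjoin A' (s' : Set B) = ⊤ := by
      apply Subalgebra.restrictScalars_injective A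
      rw [Algebra.restrictScalars_adjoin, Subalgebra.restrictScalars_top, eq_top_iff, ← hs]
      refine Algebra.adjoin_mono ?_
      intro x hx
      rw [Finset.coe_insert] at hx
      rcases hx with rfl | hx
      · exact Or.inl (Algebra.subset_adjoin rfl)
      · exact Or.inr hx
    obtain ⟨a', ha', h'⟩ := ih hinj' hs' c hc
    have hinjA : Function.Injective (algebraMap A A') := by
      intro x y hxy
      apply hinj
      have := congrArg (algebraMap A' B) hxy
      rwa [← IsScalarTower.algebraMap_apply, ← IsScalarTower.algebraMap_apply] at this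
    have hgen : Algebra.adjoin A {(⟨b, Algebra.subset_adjoin rfl⟩ : A')} = ⊤ := by
      have := Algebra.adjoin_adjoin_coe_preimage (R := A) (s := ({b} : Set B))
      rw [← this]
      congr 1
      ext x
      simp [Subtype.ext_iff]
    obtain ⟨a, ha, h⟩ := exists_ne_zero_forall_prime_one_step hinjA _ hgen a' ha'
    refine ⟨a, ha, ?_⟩
    intro p hp hap
    obtain ⟨p', hp', hap', hpp'⟩ := h p hp hap
    obtain ⟨q, hq, hcq, hqp'⟩ := h' p' hp' hap'
    refine ⟨q, hq, hcq, ?_⟩
    rw [IsScalarTower.algebraMap_eq A A' B, ← Ideal.comap_comap, hqp', hpp']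


/-- If `φ : A → B` is of finite type and some prime `q` of `B` lies over a prime contained in all
primes of `A`, then the image of `Spec B → Spec A` contains a basic open neighbourhood of that
generic point. -/
theorem exists_forall_prime_of_finiteType {A B : Type u} [CommRing A] [CommRing B] (φ : A →+* B)
    (hφ : φ.FiniteType) (q : Ideal B) [hq : q.IsPrime]
    (hgen : ∀ p : Ideal A, p.IsPrime → q.comap φ ≤ p) :
    ∃ a : A, a ∉ q.comap φ ∧ ∀ p : Ideal A, p.IsPrime → a ∉ p →
      ∃ q' : Ideal B, q'.IsPrime ∧ q'.comap φ = p := by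
  classical
  have hp0 : (q.comap φ).IsPrime := Ideal.comap_isPrime φ q
  let ψ : A ⧸ q.comap φ →+* B ⧸ q := Ideal.quotientMap q φ le_rfl
  have hψinj : Function.Injective ψ := Ideal.quotientMap_injective
  letI : Algebra (A ⧸ q.comap φ) (B ⧸ q) := ψ.toAlgebra
  have hψmk : ∀ a : A, ψ (Ideal.Quotient.mk _ a) = Ideal.Quotient.mk q (φ a) := fun a =>
    Ideal.quotientMap_mk
  let algAB : Algebra A B := φ.toAlgebra
  have hft : Algebra.FiniteType A B := hφ
  obtain ⟨s, hs⟩ := Algebra.FiniteType.out (R := A) (A := B)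
  have hs' : Algebra.adjoin (A ⧸ q.comap φ) ((s.image (Ideal.Quotient.mk q) : Finset (B ⧸ q)) :
      Set (B ⧸ q)) = ⊤ := by
    rw [eq_top_iff]
    rintro x -
    obtain ⟨x, rfl⟩ := Ideal.Quotient.mk_surjective x
    have hx : x ∈ Algebra.adjoin A (s : Set B) := by rw [hs]; trivial
    induction hx using Algebra.adjoin_induction with
    | mem y hy =>
      apply Algebra.subset_adjoin
      rw [Finset.coe_image]
      exact ⟨y, hy, rfl⟩
    | algebraMap r =>
      have : Ideal.Quotient.mk q (algebraMap A B r) =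
          algebraMap (A ⧸ q.comap φ) (B ⧸ q) (Ideal.Quotient.mk _ r) := (hψmk r).symm
      rw [this]
      exact Subalgebra.algebraMap_mem _ _
    | add x y _ _ hx hy =>
      rw [map_add]
      exact Subalgebra.add_mem _ hx hy
    | mul x y _ _ hx hy =>
      rw [map_mul]
      exact Subalgebra.mul_mem _ hx hy
  obtain ⟨a', ha', h'⟩ := exists_ne_zero_forall_prime_of_adjoin_finset
    (s.image (Ideal.Quotient.mk q)) (A := A ⧸ q.comap φ) hψinj hs' 1 one_ne_zero
  obtain ⟨a, rfl⟩ := Ideal.Quotient.mk_surjective a'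
  refine ⟨a, fun h => ha' (Ideal.Quotient.eq_zero_iff_mem.mpr h), ?_⟩
  intro p hp hap
  have hle : q.comap φ ≤ p := hgen p hp
  have hker : RingHom.ker (Ideal.Quotient.mk (q.comap φ)) ≤ p := by
    rw [Ideal.mk_ker]
    exact hle
  have hp' : (p.map (Ideal.Quotient.mk (q.comap φ))).IsPrime :=
    Ideal.map_isPrime_of_surjective Ideal.Quotient.mk_surjective hker
  have hcm : (p.map (Ideal.Quotient.mk (q.comap φ))).comap (Ideal.Quotient.mk (q.comap φ)) = p := by
    rw [Ideal.comap_map_of_surjective _ Ideal.Quotient.mk_surjective, ← RingHom.ker_eq_comap_bot]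
    exact sup_eq_left.mpr hker
  have hap' : Ideal.Quotient.mk (q.comap φ) a ∉ p.map (Ideal.Quotient.mk (q.comap φ)) := by
    intro h
    apply hap
    rw [← hcm]
    exact h
  obtain ⟨q'', hq'', -, hqp⟩ := h' _ hp' hap'
  refine ⟨q''.comap (Ideal.Quotient.mk q), Ideal.comap_isPrime _ _, ?_⟩
  rw [Ideal.comap_comap]
  have hcomp : (Ideal.Quotient.mk q).comp φ = ψ.comp (Ideal.Quotient.mk (q.comap φ)) :=
    (Ideal.quotientMap_comp_mk le_rfl).symm
  rw [hcomp, ← Ideal.comap_comap]
  have : q''.comap ψ = p.map (Ideal.Quotient.mk (q.comap φ)) := hqp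
  rw [this, hcm]


theorem genericPoint_mem_interior_range_of_locallyOfFiniteType {X Y : Scheme.{u}} (f : X ⟶ Y)
    [LocallyOfFiniteType f] [IrreducibleSpace Y] (h : genericPoint Y ∈ Set.range f.base) :
    genericPoint Y ∈ interior (Set.range f.base) := by
  obtain ⟨x, hx⟩ := h
  obtain ⟨U, hU, hηU⟩ : ∃ U : Y.Opens, IsAffineOpen U ∧ genericPoint Y ∈ U := by
    obtain ⟨_, ⟨U, hU, rfl⟩, hη, -⟩ := Y.isBasis_affineOpens.exists_subset_of_mem_open
      (Set.mem_univ (genericPoint Y)) isOpen_univ
    exact ⟨U, hU, hη⟩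
  have hxU : x ∈ f ⁻¹ᵁ U := by
    change f.base x ∈ U
    rw [hx]; exact hηU
  obtain ⟨V, hV, hxV, hVU⟩ : ∃ V : X.Opens, IsAffineOpen V ∧ x ∈ V ∧ V ≤ f ⁻¹ᵁ U := by
    obtain ⟨_, ⟨V, hV, rfl⟩, hxV, hVU⟩ := X.isBasis_affineOpens.exists_subset_of_mem_open
      hxU (f ⁻¹ᵁ U).isOpen
    exact ⟨V, hV, hxV, hVU⟩
  have hφ : (f.appLE U V hVU).hom.FiniteType := f.finiteType_appLE hU hV hVU
  set Q := hV.primeIdealOf ⟨x, hxV⟩ with hQ
  have hcomap : Q.comap (f.appLE U V hVU).hom = hU.primeIdealOf ⟨f x, hVU hxV⟩ :=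
    IsAffineOpen.comap_primeIdealOf_appLE U hU V hV hVU hxV
  have hgen : ∀ p : Ideal Γ(Y, U), p.IsPrime → Q.asIdeal.comap (f.appLE U V hVU).hom ≤ p := by
    intro p hp
    have h1 : (Q.comap (f.appLE U V hVU).hom) ≤ ⟨p, hp⟩ := by
      rw [PrimeSpectrum.le_iff_specializes, hcomap]
      have hind : Topology.IsInducing hU.fromSpec :=
        hU.fromSpec.isOpenEmbedding.isInducing
      have key : hU.fromSpec (hU.primeIdealOf ⟨f x, hVU hxV⟩) ⤳
          hU.fromSpec (⟨p, hp⟩ : PrimeSpectrum Γ(Y, U)) := by
        rw [hU.fromSpec_primeIdealOf]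
        change f.base x ⤳ _
        rw [hx]
        exact genericPoint_specializes _
      exact hind.specializes_iff.mp key
    exact h1
  obtain ⟨a, ha, hall⟩ := exists_forall_prime_of_finiteType _ hφ Q.asIdeal hgen
  rw [mem_interior]
  refine ⟨Y.basicOpen a, ?_, (Y.basicOpen a).isOpen, ?_⟩
  · intro y hy
    rw [← hU.fromSpec_image_basicOpen] at hy
    obtain ⟨P, hP, rfl⟩ := hy
    obtain ⟨q', hq', hq'P⟩ := hall P.asIdeal P.2 hP
    refine ⟨hV.fromSpec ⟨q', hq'⟩, ?_⟩
    have h2 := IsAffineOpen.SpecMap_appLE_fromSpec f hU hV hVU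
    have h3 : Spec.map (f.appLE U V hVU) ⟨q', hq'⟩ = P := by
      apply PrimeSpectrum.ext
      exact hq'P
    rw [← h3]
    change (hV.fromSpec ≫ f) ⟨q', hq'⟩ = _
    rw [← h2]
    rfl
  · have h4 : genericPoint Y = hU.fromSpec (hU.primeIdealOf ⟨f x, hVU hxV⟩) := by
      rw [hU.fromSpec_primeIdealOf]
      exact hx.symm
    rw [h4, ← hU.fromSpec_image_basicOpen]
    refine ⟨_, ?_, rfl⟩
    rw [← hcomap]
    exact ha

end Groth.Agent.Lib.Helper6
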