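import Mathlib
import Groth.Agent.Lib.Helper3DimCons
import Groth.Agent.Lib.Helper6Chevalley

set_option autoImplicit false
set_option linter.style.haveILetI false
set_option linter.unusedVariables false
universe u
open CategoryTheory CategoryTheory.Limits AlgebraicGeometry Topology

namespace Groth.Agent.Lib.Helper3.GenFibDim

open Groth.Agent.Lib.Helper3.DimCons

/-- a closed subset is the range of a closed immersion. -/
theorem exists_closedImmersion_range {X : Scheme.{u}} {Z : Set X} (hZ : IsClosed Z) :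
    ∃ (T : Scheme.{u}) (τ : T ⟶ X), IsClosedImmersion τ ∧ Set.range τ.base = Z :=
  ⟨_, (Scheme.IdealSheafData.vanishingIdeal ⟨_, hZ⟩).subschemeι, inferInstance, by
    rw [Scheme.IdealSheafData.range_subschemeι,
      Scheme.IdealSheafData.coe_support_vanishingIdeal]; rfl⟩

/-- affine-local step: an affine open of the source over an affine open of the target whose image
misses the generic point misses a basic open neighbourhood of it. -/
theorem exists_basicOpen_disjoint {T Y : Scheme.{u}} (g : T ⟶ Y) [IrreducibleSpace Y]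
    (h : genericPoint Y ∉ Set.range g.base) {U : Y.Opens} (hU : IsAffineOpen U)
    (hηU : genericPoint Y ∈ U) {V : T.Opens} (hV : IsAffineOpen V) (hVU : V ≤ g ⁻¹ᵁ U) :
    ∃ a : Γ(Y, U), genericPoint Y ∈ Y.basicOpen a ∧
      ∀ x ∈ V, g.base x ∉ Y.basicOpen a := by
  set P := hU.primeIdealOf ⟨genericPoint Y, hηU⟩ with hP
  have hPη : hU.fromSpec P = genericPoint Y := hU.fromSpec_primeIdealOf _
  have hPmin : ∀ p : PrimeSpectrum Γ(Y, U), P ≤ p := by
    intro p
    rw [PrimeSpectrum.le_iff_specializes]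
    have hind : Topology.IsInducing hU.fromSpec := hU.fromSpec.isOpenEmbedding.isInducing
    apply hind.specializes_iff.mp
    rw [hPη]
    exact genericPoint_specializes _
  let φ := (g.appLE U V hVU).hom
  have hker : ¬ RingHom.ker φ ≤ P.asIdeal := by
    intro hle
    have hmin : P.asIdeal ∈ ((⊥ : Ideal Γ(T, V)).comap φ).minimalPrimes := by
      refine ⟨⟨P.2, hle⟩, ?_⟩
      rintro q ⟨hq, -⟩ -
      exact hPmin ⟨q, hq⟩
    obtain ⟨q, hq, -, hqP⟩ := Ideal.exists_comap_eq_of_mem_minimalPrimes φ _ hmin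
    apply h
    refine ⟨hV.fromSpec ⟨q, hq⟩, ?_⟩
    have h2 := IsAffineOpen.SpecMap_appLE_fromSpec g hU hV hVU
    have h3 : Spec.map (g.appLE U V hVU) ⟨q, hq⟩ = P := by
      apply PrimeSpectrum.ext
      exact hqP
    rw [← hPη, ← h3]
    change (hV.fromSpec ≫ g) ⟨q, hq⟩ = _
    rw [← h2]
    rfl
  obtain ⟨a, haker, haP⟩ := SetLike.not_le_iff_exists.mp hker
  refine ⟨a, ?_, ?_⟩
  · rw [← hPη, ← hU.fromSpec_image_basicOpen]
    exact ⟨P, haP, rfl⟩
  · intro x hxV hx
    have h1 : x ∈ g ⁻¹ᵁ (Y.basicOpen a) := hx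
    rw [Scheme.preimage_basicOpen] at h1
    have h2 : x ∈ T.basicOpen (g.appLE U V hVU a) := by
      rw [Scheme.Hom.appLE, CommRingCat.comp_apply, Scheme.basicOpen_res]
      exact ⟨hxV, h1⟩
    have h3 : g.appLE U V hVU a = 0 := haker
    rw [h3, Scheme.basicOpen_zero] at h2
    exact h2

/-- a quasi-compact morphism whose image misses the generic point of an irreducible target misses
an open neighbourhood of it. -/
theorem genericPoint_notMem_closure_range {T Y : Scheme.{u}} (g : T ⟶ Y) [QuasiCompact g]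
    [IrreducibleSpace Y] (h : genericPoint Y ∉ Set.range g.base) :
    genericPoint Y ∉ closure (Set.range g.base) := by
  obtain ⟨U, hU, hηU⟩ : ∃ U : Y.Opens, IsAffineOpen U ∧ genericPoint Y ∈ U := by
    obtain ⟨_, ⟨U, hU, rfl⟩, hη, -⟩ := Y.isBasis_affineOpens.exists_subset_of_mem_open
      (Set.mem_univ (genericPoint Y)) isOpen_univ
    exact ⟨U, hU, hη⟩
  have hcomp : IsCompact ((g ⁻¹ᵁ U : T.Opens) : Set T) := by
    exact QuasiCompact.isCompact_preimage (f := g) _ U.isOpen hU.isCompact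
  obtain ⟨s, hs, hsU⟩ := isCompact_and_isOpen_iff_finite_and_eq_biUnion_affineOpens.mp
    ⟨hcomp, (g ⁻¹ᵁ U).isOpen⟩
  have hall : ∀ V : T.affineOpens, ∃ a : Γ(Y, U), genericPoint Y ∈ Y.basicOpen a ∧
      ((V : T.Opens) ≤ g ⁻¹ᵁ U → ∀ x ∈ (V : T.Opens), g.base x ∉ Y.basicOpen a) := by
    intro V
    by_cases hVU : (V : T.Opens) ≤ g ⁻¹ᵁ U
    · obtain ⟨a, ha1, ha2⟩ := exists_basicOpen_disjoint g h hU hηU V.2 hVU
      exact ⟨a, ha1, fun _ => ha2⟩
    · exact ⟨1, by rw [Scheme.basicOpen_of_isUnit _ isUnit_one]; exact hηU, fun h => absurd h hVU⟩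
  choose a ha1 ha2 using hall
  let W : Set Y := (U : Set Y) ∩ ⋂ V ∈ s, (Y.basicOpen (a V) : Set Y)
  have hWopen : IsOpen W :=
    U.isOpen.inter (hs.isOpen_biInter fun V _ => (Y.basicOpen (a V)).isOpen)
  have hηW : genericPoint Y ∈ W := ⟨hηU, Set.mem_iInter₂.mpr fun V _ => ha1 V⟩
  intro hcl
  obtain ⟨y, ⟨hyU, hyW⟩, x, rfl⟩ := mem_closure_iff.mp hcl W hWopen hηW
  have hx : x ∈ ((g ⁻¹ᵁ U : T.Opens) : Set T) := hyU
  rw [hsU] at hx
  obtain ⟨V, hVs, hxV⟩ := Set.mem_iUnion₂.mp hx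
  have hVU : (V : T.Opens) ≤ g ⁻¹ᵁ U := by
    intro z hz
    show z ∈ ((g ⁻¹ᵁ U : T.Opens) : Set T)
    rw [hsU]
    exact Set.mem_iUnion₂.mpr ⟨V, hVs, hz⟩
  exact ha2 V hVU x hxV (Set.mem_iInter₂.mp hyW V hVs)

/-- if the generic fibre of a morphism of finite type over an irreducible scheme has dimension `n`,
so have all fibres over a neighbourhood of the generic point. -/
theorem exists_open_fibre_dim_eq {X Y : Scheme.{u}} (f : X ⟶ Y) [IrreducibleSpace Y]
    [LocallyOfFiniteType f] [QuasiCompact f] (n : ℕ)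
    (h : topologicalKrullDim ↥(f.fiber (genericPoint Y)) = n) :
    ∃ V : Y.Opens, genericPoint Y ∈ V ∧ ∀ y ∈ V, topologicalKrullDim ↥(f.fiber y) = n := by
  let A : ℕ → Set X := fun n => {x : X | (n : WithBot ℕ∞) ≤ FlatMor.fibreDimAt f x}
  have hA : ∀ m, IsClosed (A m) := fun m => isClosed_setOf_le_fibreDimAt f m
  have hmem : ∀ (s : Y) (m : ℕ), (m : WithBot ℕ∞) ≤ topologicalKrullDim ↥(f.fiber s) ↔
      s ∈ f.base '' A m := fun s m => natCast_le_fibre_dim_iff f s m
  -- lower bound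
  obtain ⟨T₁, τ₁, hτ₁, hr₁⟩ := exists_closedImmersion_range (hA n)
  have hrange₁ : Set.range (τ₁ ≫ f).base = f.base '' A n := by
    rw [Scheme.Hom.comp_base, TopCat.coe_comp, Set.range_comp, hr₁]
  have h1 : genericPoint Y ∈ interior (f.base '' A n) := by
    rw [← hrange₁]
    apply Groth.Agent.Lib.Helper6.genericPoint_mem_interior_range_of_locallyOfFiniteType
    rw [hrange₁]
    exact (hmem _ n).mp (by rw [h])
  -- upper bound
  obtain ⟨T₂, τ₂, hτ₂, hr₂⟩ := exists_closedImmersion_range (hA (n + 1))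
  have hrange₂ : Set.range (τ₂ ≫ f).base = f.base '' A (n + 1) := by
    rw [Scheme.Hom.comp_base, TopCat.coe_comp, Set.range_comp, hr₂]
  have h2 : genericPoint Y ∉ closure (f.base '' A (n + 1)) := by
    rw [← hrange₂]
    apply genericPoint_notMem_closure_range
    rw [hrange₂]
    intro h3
    have := (hmem _ (n + 1)).mpr h3
    rw [h, succ_le_iff_not_le] at this
    exact this le_rfl
  refine ⟨⟨interior (f.base '' A n) ∩ (closure (f.base '' A (n + 1)))ᶜ,
    isOpen_interior.inter isClosed_closure.isOpen_compl⟩, ⟨h1, h2⟩, ?_⟩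
  rintro y ⟨hy1, hy2⟩
  have h3 := (hmem y n).mpr (interior_subset hy1)
  have h4 : ¬ ((n + 1 : ℕ) : WithBot ℕ∞) ≤ topologicalKrullDim ↥(f.fiber y) :=
    fun h => hy2 (subset_closure ((hmem y (n + 1)).mp h))
  rw [succ_le_iff_not_le, not_not] at h4
  exact le_antisymm h4 h3

end Groth.Agent.Lib.Helper3.GenFibDim
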