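import Mathlib
import Groth.Agent.S1299
import Groth.Agent.Lib.Helper3GenFibDim
import Groth.Agent.Lib.Helper4FibDimI

set_option autoImplicit false
set_option linter.style.haveILetI false
set_option linter.unusedVariables false
universe u
open CategoryTheory CategoryTheory.Limits AlgebraicGeometry Topology TopologicalSpace

namespace Groth.Agent.Lib.Helper6.GenNowhere

open Groth.Agent.Lib.Helper4.FibDim

section topology

/-- a closed subspace of an irreducible space missing the generic point has strictly smaller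
dimension (in the form: chains can be prolonged). -/
theorem natCast_succ_le_dim_of_isClosedEmbedding {A B : Type*} [TopologicalSpace A]
    [TopologicalSpace B] (j : A → B) (hj : IsClosedEmbedding j) (b₀ : B) (hb₀ : ∀ b : B, b₀ ⤳ b)
    (hb : b₀ ∉ Set.range j) (n : ℕ) (hn : (n : WithBot ℕ∞) ≤ topologicalKrullDim A) :
    ((n + 1 : ℕ) : WithBot ℕ∞) ≤ topologicalKrullDim B := by
  unfold topologicalKrullDim at hn ⊢
  obtain ⟨p, hp⟩ := (Order.le_krullDim_iff).mp hn
  let q : LTSeries (IrreducibleCloseds B) :=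
    p.map (IrreducibleCloseds.map j hj.continuous)
      (IrreducibleCloseds.map_strictMono_of_isInducing hj.isInducing)
  have huniv : closure ({b₀} : Set B) = Set.univ := by
    rw [Set.eq_univ_iff_forall]
    intro b
    exact (specializes_iff_mem_closure).mp (hb₀ b)
  let top : IrreducibleCloseds B :=
    ⟨Set.univ, huniv ▸ isIrreducible_singleton.closure, isClosed_univ⟩
  have hlast : q.last < top := by
    rw [lt_iff_le_and_ne]
    refine ⟨fun x _ => Set.mem_univ x, fun heq => hb ?_⟩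
    have h1 : (q.last : Set B) ⊆ Set.range j := by
      show closure (j '' _) ⊆ Set.range j
      exact closure_minimal (Set.image_subset_range _ _) hj.isClosed_range
    apply h1
    rw [heq]
    exact Set.mem_univ b₀
  have := Order.LTSeries.length_le_krullDim (q.snoc top hlast)
  rw [RelSeries.snoc_length, LTSeries.map_length, hp] at this
  exact_mod_cast this

/-- if the fibre of `g` through `t` is, near `t`, contained in the range of the embedding `ζ`,
then its local dimension at `t` is at most the dimension of the corresponding fibre of `g ∘ ζ`. -/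
theorem fibLD_le_of_subset_range {T Y Z' : Type*} [TopologicalSpace T] [TopologicalSpace Y]
    [TopologicalSpace Z'] (g : T → Y) (ζ : Z' → T) (hζ : IsEmbedding ζ) (t : T) (U : Set T)
    (hU : IsOpen U) (htU : t ∈ U) (hUZ : U ∩ g ⁻¹' {g t} ⊆ Set.range ζ) :
    fibLD g t ≤ topologicalKrullDim ↥((g ∘ ζ) ⁻¹' {g t}) := by
  unfold fibLD
  let O : Opens ↥(g ⁻¹' {g t}) := ⟨Subtype.val ⁻¹' U, hU.preimage continuous_subtype_val⟩
  refine (Groth.Agent.Lib.Helper7.TopDim.localDim_le _ O htU).trans ?_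
  have hmem : ∀ o : ↥(O : Set ↥(g ⁻¹' {g t})), (o.1.1 : T) ∈ Set.range ζ :=
    fun o => hUZ ⟨o.2, o.1.2⟩
  choose φ₀ hφ₀ using hmem
  have hφ₀c : Continuous φ₀ := by
    rw [hζ.isInducing.continuous_iff]
    have : ζ ∘ φ₀ = fun o : ↥(O : Set ↥(g ⁻¹' {g t})) => (o.1.1 : T) := funext hφ₀
    rw [this]
    exact continuous_subtype_val.comp continuous_subtype_val
  let φ : ↥(O : Set ↥(g ⁻¹' {g t})) → ↥((g ∘ ζ) ⁻¹' {g t}) := fun o =>
    ⟨φ₀ o, by
      show g (ζ (φ₀ o)) = g t
      rw [hφ₀ o]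
      exact o.1.2⟩
  have hφc : Continuous φ := hφ₀c.subtype_mk _
  have hout : Continuous (fun z : ↥((g ∘ ζ) ⁻¹' {g t}) => ζ z.1) :=
    hζ.continuous.comp continuous_subtype_val
  have hcomp : IsInducing ((fun z : ↥((g ∘ ζ) ⁻¹' {g t}) => ζ z.1) ∘ φ) := by
    have : ((fun z : ↥((g ∘ ζ) ⁻¹' {g t}) => ζ z.1) ∘ φ) =
        (Subtype.val : ↥(g ⁻¹' {g t}) → T) ∘ (Subtype.val : ↥(O : Set ↥(g ⁻¹' {g t})) → _) := by
      funext o
      exact hφ₀ o
    rw [this]
    exact IsInducing.subtypeVal.comp IsInducing.subtypeVal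
  exact (IsInducing.of_comp hφc hout hcomp).topologicalKrullDim_le

end topology

section scheme

variable {X Y : Scheme.{u}}

theorem exists_nat_eq (v : WithBot ℕ∞) (h0 : 0 ≤ v) (ht : v < ⊤) : ∃ n : ℕ, v = n := by
  induction v using WithBot.recBotCoe with
  | bot => exact absurd h0 (by simp)
  | coe w =>
    induction w using ENat.recTopCoe with
    | top => exact absurd ht (lt_irrefl _)
    | coe n => exact ⟨n, rfl⟩

theorem dim_fiber_eq_dim_preimage (k : X ⟶ Y) (y : Y) :
    topologicalKrullDim ↥(k.fiber y) = topologicalKrullDim ↥((k : X → Y) ⁻¹' {y}) :=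
  (k.fiberHomeo y).isHomeomorph.topologicalKrullDim_eq

theorem fiber_point_maps (k : X ⟶ Y) (y : Y) (a : k.fiber y) : k (k.fiberι y a) = y := by
  have : k.fiberι y a ∈ Set.range (k.fiberι y) := ⟨a, rfl⟩
  rw [Scheme.Hom.range_fiberι] at this
  exact this

/-- the generic step: for a point `ξ` of the generic fibre not in the closed set `Z`, over a
neighbourhood of the generic point `Z` is nowhere a neighbourhood in the fibre of a point of the
closure of `ξ`. -/
theorem exists_open_of_generic (f : X ⟶ Y) [IrreducibleSpace ↑Y] [LocallyOfFiniteType f]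
    [QuasiCompact f] (Z : Set ↑X) (hZ : IsClosed Z) (ξ : X) (hξ : f ξ = genericPoint ↑Y)
    (hξZ : ξ ∉ Z) :
    ∃ V : Y.Opens, genericPoint ↑Y ∈ V ∧ ∀ x ∈ Z, ξ ⤳ x → f x ∈ V →
      ∀ U : Set X, IsOpen U → x ∈ U → ¬ (U ∩ (f : X → Y) ⁻¹' {f x} ⊆ Z) := by
  obtain ⟨T', τ, hτ, hrτ⟩ := Groth.Agent.Lib.Helper3.GenFibDim.exists_closedImmersion_range
    (isClosed_closure (s := ({ξ} : Set X)))
  haveI := hτ
  obtain ⟨ξ', hξ'⟩ : ξ ∈ Set.range τ.base := by rw [hrτ]; exact subset_closure rfl
  have hspec : ∀ t : T', ξ' ⤳ t := by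
    intro t
    rw [← τ.isClosedEmbedding.isInducing.specializes_iff]
    have : τ t ∈ closure ({ξ} : Set X) := by rw [← hrτ]; exact ⟨t, rfl⟩
    rw [← specializes_iff_mem_closure] at this
    convert this
  let g := τ ≫ f
  obtain ⟨Z', ζ, hζ, hrζ⟩ := Groth.Agent.Lib.Helper3.GenFibDim.exists_closedImmersion_range
    (hZ.preimage τ.continuous)
  haveI := hζ
  let k := ζ ≫ g
  have hgξ' : g ξ' = genericPoint Y := by
    show (τ ≫ f) ξ' = _
    rw [Scheme.Hom.comp_apply]
    have : τ ξ' = ξ := hξ'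
    rw [this, hξ]
  have hkfun : ((g : T' → Y) ∘ (ζ : Z' → T')) = (k : Z' → Y) := by
    funext z
    show f (τ (ζ z)) = (ζ ≫ τ ≫ f) z
    simp only [Scheme.Hom.comp_apply]
  -- the generic dimension
  have hd : topologicalKrullDim (g.fiber (genericPoint Y)) = FlatMor.fibreDimAt g ξ' := by
    rw [← hgξ']; exact topologicalKrullDim_fiber_eq_fibreDimAt g ξ' hspec
  have hle : ∀ t, topologicalKrullDim (g.fiber (genericPoint Y)) ≤ FlatMor.fibreDimAt g t :=
    fun t => hd ▸ fibreDimAt_le_of_forall_specializes g ξ' hspec t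
  have hdtop : topologicalKrullDim (g.fiber (genericPoint Y)) < ⊤ :=
    Groth.Agent.Lib.Helper3.DimCons.fibre_dim_lt_top g _
  -- the dimension drops on `Z'`
  have hlt : topologicalKrullDim (k.fiber (genericPoint Y)) <
      topologicalKrullDim (g.fiber (genericPoint Y)) := by
    rw [dim_fiber_eq_dim_preimage k, dim_fiber_eq_dim_preimage g]
    have hset : (k : Z' → Y) ⁻¹' {genericPoint Y} =
        (ζ : Z' → T') ⁻¹' ((g : T' → Y) ⁻¹' {genericPoint Y}) := by
      rw [← hkfun]; rfl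
    rw [hset]
    set B := (g : T' → Y) ⁻¹' {genericPoint Y} with hB
    have hj := Set.restrictPreimage_isClosedEmbedding B ζ.isClosedEmbedding
    have hb₀ : ∀ b : B, (⟨ξ', hgξ'⟩ : B) ⤳ b := by
      intro b
      rw [← IsInducing.subtypeVal.specializes_iff]
      exact hspec b.1
    have hnot : (⟨ξ', hgξ'⟩ : B) ∉ Set.range (B.restrictPreimage ζ) := by
      rintro ⟨z, hz⟩
      have h1 : ζ z.1 = ξ' := congrArg Subtype.val hz
      have h2 : ξ' ∈ Set.range ζ.base := ⟨z.1, h1⟩
      rw [hrζ] at h2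
      apply hξZ
      have : τ ξ' ∈ Z := h2
      have h3 : τ ξ' = ξ := hξ'
      rwa [h3] at this
    have hstep := natCast_succ_le_dim_of_isClosedEmbedding _ hj _ hb₀ hnot
    by_contra hcon
    rw [not_lt] at hcon
    haveI : Nonempty B := ⟨⟨ξ', hgξ'⟩⟩
    have h0 : (0 : WithBot ℕ∞) ≤ topologicalKrullDim B :=
      Groth.Agent.Lib.Helper7.TopDim.topologicalKrullDim_nonneg
    have htop : topologicalKrullDim B < ⊤ := by
      rw [← dim_fiber_eq_dim_preimage g]; exact hdtop
    obtain ⟨n, hn⟩ := exists_nat_eq _ h0 htop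
    have := hstep n (hn ▸ hcon)
    rw [hn] at this
    exact absurd (by exact_mod_cast this : n + 1 ≤ n) (by omega)
  -- the open set
  have hV : ∃ V : Y.Opens, genericPoint ↑Y ∈ V ∧ ∀ y ∈ V,
      topologicalKrullDim (k.fiber y) < topologicalKrullDim (g.fiber (genericPoint Y)) := by
    by_cases hη : genericPoint ↑Y ∈ Set.range k.base
    · haveI : Nonempty (k.fiber (genericPoint Y)) := by
        obtain ⟨z, hz⟩ := hη
        exact ⟨(k.fiberHomeo _).symm ⟨z, hz⟩⟩
      obtain ⟨n, hn⟩ := exists_nat_eq _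
        Groth.Agent.Lib.Helper7.TopDim.topologicalKrullDim_nonneg
        (Groth.Agent.Lib.Helper3.DimCons.fibre_dim_lt_top k (genericPoint Y))
      obtain ⟨V, hVη, hV⟩ := Groth.Agent.Lib.Helper3.GenFibDim.exists_open_fibre_dim_eq k n hn
      exact ⟨V, hVη, fun y hy => by rw [hV y hy, ← hn]; exact hlt⟩
    · have h1 := Groth.Agent.Lib.Helper3.GenFibDim.genericPoint_notMem_closure_range k hη
      refine ⟨⟨(closure (Set.range k.base))ᶜ, isClosed_closure.isOpen_compl⟩, h1, fun y hy => ?_⟩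
      haveI : IsEmpty (k.fiber y) := by
        refine ⟨fun a => hy (subset_closure ⟨k.fiberι y a, fiber_point_maps k y a⟩)⟩
      have : topologicalKrullDim (k.fiber y) = ⊥ := by
        unfold topologicalKrullDim
        rw [Order.krullDim_eq_bot_iff]
        exact ⟨fun W => IsEmpty.false W.isIrreducible'.nonempty.some⟩
      rw [this, hd]
      exact lt_of_lt_of_le (WithBot.bot_lt_coe (0 : ℕ∞))
        (Groth.Agent.Lib.Helper7.TopDim.localDim_nonneg (g.asFiber ξ'))
  obtain ⟨V, hVη, hV⟩ := hV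
  refine ⟨V, hVη, fun x hxZ hξx hxV U hU hxU hsub => ?_⟩
  obtain ⟨t, ht⟩ : x ∈ Set.range τ.base := by
    rw [hrτ]; exact specializes_iff_mem_closure.mp hξx
  have hgt : g t = f x := by
    show (τ ≫ f) t = _
    rw [Scheme.Hom.comp_apply]
    have : τ t = x := ht
    rw [this]
  have hUZ : (τ : T' → X) ⁻¹' U ∩ (g : T' → Y) ⁻¹' {g t} ⊆ Set.range (ζ : Z' → T') := by
    rintro t' ⟨h1, h2⟩
    have h3 : t' ∈ Set.range ζ.base := by
      rw [hrζ]
      show τ t' ∈ Z
      apply hsub
      refine ⟨h1, ?_⟩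
      show f (τ t') = f x
      have h4 : g t' = g t := h2
      rw [hgt] at h4
      rw [← h4]
      show f (τ t') = (τ ≫ f) t'
      rw [Scheme.Hom.comp_apply]
    exact h3
  have h5 := fibLD_le_of_subset_range (g : T' → Y) (ζ : Z' → T') ζ.isEmbedding t
    ((τ : T' → X) ⁻¹' U) (hU.preimage τ.continuous) (by show τ t ∈ U; rw [show τ t = x from ht]; exact hxU) hUZ
  rw [hkfun, ← fibreDimAt_eq_fibLD, ← dim_fiber_eq_dim_preimage k] at h5
  have h6 := hV (g t) (by rw [hgt]; exact hxV)
  exact absurd (lt_of_le_of_lt h5 h6) (not_lt.mpr (hle t))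

/-- **Generic nowhere density**: a closed subset whose trace on the generic fibre is nowhere dense
has nowhere dense trace on all fibres over a nonempty open. -/
theorem main (f : X ⟶ Y) [IrreducibleSpace ↑Y] [LocallyOfFiniteType f] [QuasiCompact f]
    (Z : Set ↑X) (hZ : IsClosed Z) (h : IsNowhereDense ((f.fiberι (genericPoint ↑Y)) ⁻¹' Z)) :
    ∃ V : Y.Opens, (V : Set ↑Y).Nonempty ∧ ∀ y ∈ V, IsNowhereDense ((f.fiberι y) ⁻¹' Z) := by
  set η := genericPoint ↑Y with hη
  haveI : LocallyOfFiniteType (f.fiberToSpecResidueField η) :=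
    MorphismProperty.pullback_snd _ _ inferInstance
  haveI : QuasiCompact (f.fiberToSpecResidueField η) :=
    MorphismProperty.pullback_snd _ _ inferInstance
  haveI : IsLocallyNoetherian (f.fiber η) :=
    LocallyOfFiniteType.isLocallyNoetherian (f.fiberToSpecResidueField η)
  haveI : CompactSpace (f.fiber η) :=
    QuasiCompact.compactSpace_of_compactSpace (f.fiberToSpecResidueField η)
  haveI : IsNoetherian (f.fiber η) := {}
  haveI : NoetherianSpace (f.fiber η) := inferInstance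
  have hfin : (genericPoints (f.fiber η)).Finite :=
    genericPoints.finite NoetherianSpace.finite_irreducibleComponents
  have hZF : IsClosed ((f.fiberι η) ⁻¹' Z) := hZ.preimage (f.fiberι η).continuous
  have hint : interior ((f.fiberι η) ⁻¹' Z) = ∅ := by
    rw [← hZF.isNowhereDense_iff]; exact h
  have hgen : ∀ w ∈ genericPoints (f.fiber η), f.fiberι η w ∉ Z := by
    intro w hw hwZ
    obtain ⟨o, ho, hone, hsub⟩ :=
      NoetherianSpace.exists_isOpen_nonempty_subset_irreducibleComponent _ hw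
    have h1 : closure {w} ⊆ (f.fiberι η) ⁻¹' Z :=
      closure_minimal (Set.singleton_subset_iff.mpr hwZ) hZF
    have h2 : o ⊆ interior ((f.fiberι η) ⁻¹' Z) := interior_maximal (hsub.trans h1) ho
    rw [hint] at h2
    exact hone.ne_empty (Set.subset_empty_iff.mp h2)
  have hex : ∀ w : genericPoints (f.fiber η), ∃ V : Y.Opens, η ∈ V ∧ ∀ x ∈ Z,
      f.fiberι η w.1 ⤳ x → f x ∈ V →
      ∀ U : Set X, IsOpen U → x ∈ U → ¬ (U ∩ (f : X → Y) ⁻¹' {f x} ⊆ Z) := fun w =>
    exists_open_of_generic f Z hZ _ (fiber_point_maps f η w.1) (hgen w.1 w.2)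
  choose Vw hVwη hVw using hex
  obtain ⟨V₀, hV₀ne, hV₀⟩ := Groth.Agent.S1299.exists_open_generalizing f
  haveI : Finite (genericPoints (f.fiber η)) := hfin.to_subtype
  let V : Y.Opens := V₀ ⊓ ⟨⋂ w, (Vw w : Set Y), isOpen_iInter_of_finite fun w => (Vw w).isOpen⟩
  have hηV₀ : η ∈ V₀ := by
    have := ((genericPoint_spec Y).mem_open_set_iff V₀.isOpen).mpr
      (by rw [Set.univ_inter]; exact hV₀ne)
    exact this
  have hηV : η ∈ V := ⟨hηV₀, Set.mem_iInter.mpr hVwη⟩
  refine ⟨V, ⟨η, hηV⟩, fun y hy => ?_⟩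
  have hcl : IsClosed ((f.fiberι y) ⁻¹' Z) := hZ.preimage (f.fiberι y).continuous
  rw [hcl.isNowhereDense_iff]
  by_contra hne
  obtain ⟨a, ha⟩ := Set.nonempty_iff_ne_empty.mpr hne
  obtain ⟨UX, hUX, hpre⟩ := (f.fiberι y).isEmbedding.isInducing.isOpen_iff.mp
    (isOpen_interior (s := (f.fiberι y) ⁻¹' Z))
  have hfx : f (f.fiberι y a) = y := fiber_point_maps f y a
  have hxU : f.fiberι y a ∈ UX := by
    have : a ∈ (f.fiberι y) ⁻¹' UX := by rw [hpre]; exact ha
    exact this
  have hxZ : f.fiberι y a ∈ Z :=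
    (interior_subset (s := (f.fiberι y) ⁻¹' Z) ha : a ∈ (f.fiberι y) ⁻¹' Z)
  have hsub : UX ∩ (f : X → Y) ⁻¹' {f (f.fiberι y a)} ⊆ Z := by
    rintro x' ⟨h1, h2⟩
    have h3 : x' ∈ Set.range (f.fiberι y) := by
      rw [Scheme.Hom.range_fiberι]
      exact (h2 : f x' = f (f.fiberι y a)).trans hfx
    obtain ⟨a', rfl⟩ := h3
    have : a' ∈ interior ((f.fiberι y) ⁻¹' Z) := by rw [← hpre]; exact h1
    exact (interior_subset (s := (f.fiberι y) ⁻¹' Z) this : a' ∈ (f.fiberι y) ⁻¹' Z)
  obtain ⟨x₀, hx₀, hfx₀⟩ := hV₀ (f.fiberι y a) (by rw [hfx]; exact hy.1)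
  obtain ⟨a₀, rfl⟩ : x₀ ∈ Set.range (f.fiberι η) := by
    rw [Scheme.Hom.range_fiberι]; exact hfx₀
  let C : irreducibleComponents (f.fiber η) :=
    ⟨irreducibleComponent a₀, irreducibleComponent_mem_irreducibleComponents a₀⟩
  let w := genericPoints.ofComponent C
  have hw : w.1 ⤳ a₀ :=
    (genericPoints.isGenericPoint_ofComponent C).specializes mem_irreducibleComponent
  have hξx : f.fiberι η w.1 ⤳ f.fiberι y a := (hw.map (f.fiberι η).continuous).trans hx₀
  exact hVw w _ hxZ hξx (by rw [hfx]; exact (Set.mem_iInter.mp hy.2 w)) UX hUX hxU hsub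

end scheme

end Groth.Agent.Lib.Helper6.GenNowhere
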