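import Mathlib
import Groth.Agent.Lib.Helper5StalkSpec
import Groth.Agent.Lib.Helper5CodepthFib
import Groth.Agent.Lib.Helper6GenNowhere

set_option autoImplicit false
set_option linter.style.haveILetI false
set_option linter.unusedVariables false
universe u
open CategoryTheory CategoryTheory.Limits AlgebraicGeometry Topology TopologicalSpace IsLocalRing

namespace Groth.Agent.Lib.Helper6.FibCodim

section Ring

/-- flat going-down with preservation of height: a prime `p` of `A` below a prime `Q` of `B`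
lifts to a prime `P ≤ Q` of the same height. -/
theorem exists_prime_le_liesOver_height_eq {A B : Type*} [CommRing A] [CommRing B] [Algebra A B]
    [IsNoetherianRing A] [IsNoetherianRing B] [Module.Flat A B] (p : Ideal A) [p.IsPrime] (Q : Ideal B) [Q.IsPrime]
    (hQ : p ≤ Q.comap (algebraMap A B)) :
    ∃ P : Ideal B, P.IsPrime ∧ P ≤ Q ∧ P.comap (algebraMap A B) = p ∧ P.height = p.height := by
  have hle : p.map (algebraMap A B) ≤ Q := Ideal.map_le_iff_le_comap.mpr hQ
  obtain ⟨P, hPmin, hPQ⟩ := Ideal.exists_minimalPrimes_le hle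
  haveI hPp : P.IsPrime := hPmin.1.1
  have hpP : p ≤ P.comap (algebraMap A B) := Ideal.map_le_iff_le_comap.mp hPmin.1.2
  haveI : (P.comap (algebraMap A B)).IsPrime := Ideal.comap_isPrime _ _
  haveI : P.LiesOver (P.comap (algebraMap A B)) := ⟨rfl⟩
  obtain ⟨P', hP'P, hP'p, hP'over⟩ := Ideal.exists_ideal_le_liesOver_of_le (p := p)
    (q := P.comap (algebraMap A B)) P hpP
  have hP'eq : P'.comap (algebraMap A B) = p := (hP'over.over).symm
  have hle' : p.map (algebraMap A B) ≤ P' := Ideal.map_le_iff_le_comap.mpr hP'eq.ge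
  have hPP' : P ≤ P' := hPmin.2 ⟨hP'p, hle'⟩ hP'P
  have heq : P' = P := le_antisymm hP'P hPP'
  subst heq
  refine ⟨P', hPp, hPQ, hP'eq, ?_⟩
  rw [Ideal.height_eq_height_add_of_liesOver_of_hasGoingDown p P']
  have h0 : (P'.map (Ideal.Quotient.mk (p.map (algebraMap A B)))).height = 0 := by
    have hsurj : Function.Surjective (Ideal.Quotient.mk (p.map (algebraMap A B))) :=
      Ideal.Quotient.mk_surjective
    have hker : RingHom.ker (Ideal.Quotient.mk (p.map (algebraMap A B))) ≤ P' := by
      rw [Ideal.mk_ker]; exact hle'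
    haveI : (P'.map (Ideal.Quotient.mk (p.map (algebraMap A B)))).IsPrime :=
      Ideal.map_isPrime_of_surjective hsurj hker
    rw [Ideal.height_eq_zero_iff]
    have h1 := Ideal.comap_minimalPrimes_eq_of_surjective hsurj
      (⊥ : Ideal (B ⧸ p.map (algebraMap A B)))
    have h2 : (⊥ : Ideal (B ⧸ p.map (algebraMap A B))).comap
        (Ideal.Quotient.mk (p.map (algebraMap A B))) = p.map (algebraMap A B) := by
      rw [← RingHom.ker_eq_comap_bot, Ideal.mk_ker]
    rw [h2] at h1
    rw [h1] at hPmin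
    obtain ⟨J, hJ, hJP⟩ := hPmin
    rw [← hJP, Ideal.map_comap_of_surjective _ hsurj]
    exact hJ
  rw [h0, add_zero]

/-- for a flat local homomorphism of Noetherian local rings, `dim A ≤ dim B`. -/
theorem ringKrullDim_le_of_flat_local {A B : Type*} [CommRing A] [CommRing B] [Algebra A B]
    [IsLocalRing A] [IsLocalRing B] [IsNoetherianRing A] [IsNoetherianRing B] [Module.Flat A B]
    [IsLocalHom (algebraMap A B)] : ringKrullDim A ≤ ringKrullDim B := by
  haveI : (maximalIdeal B).LiesOver (maximalIdeal A) :=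
    ⟨(IsLocalRing.maximalIdeal_comap (algebraMap A B)).symm⟩
  rw [← IsLocalRing.maximalIdeal_height_eq_ringKrullDim,
    ← IsLocalRing.maximalIdeal_height_eq_ringKrullDim,
    Ideal.height_eq_height_add_of_liesOver_of_hasGoingDown (maximalIdeal A) (maximalIdeal B)]
  exact_mod_cast le_self_add

end Ring

section Dict

variable (Y : Scheme.{u})

/-- the prime of `O_{Y,b}` corresponding to a generization `a ⤳ b`. -/
noncomputable def genPrime {a b : Y} (h : a ⤳ b) : Ideal (Y.presheaf.stalk b) :=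
  (maximalIdeal (Y.presheaf.stalk a)).comap (Y.presheaf.stalkSpecializes h).hom

instance {a b : Y} (h : a ⤳ b) : (genPrime Y h).IsPrime := by
  unfold genPrime; infer_instance

theorem fromSpecStalk_genPrime {a b : Y} (h : a ⤳ b) :
    Y.fromSpecStalk b ⟨genPrime Y h, inferInstance⟩ = a := by
  have h1 := Scheme.SpecMap_stalkSpecializes_fromSpecStalk h
  have h2 : (Spec.map (Y.presheaf.stalkSpecializes h) ≫ Y.fromSpecStalk b)
      (closedPoint (Y.presheaf.stalk a)) = a := by
    rw [h1]; exact Scheme.fromSpecStalk_closedPoint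
  rw [Scheme.Hom.comp_apply] at h2
  exact h2

theorem isLocalization_genPrime {a b : Y} (h : a ⤳ b) :
    letI := (Y.presheaf.stalkSpecializes h).hom.toAlgebra
    IsLocalization.AtPrime (Y.presheaf.stalk a) (genPrime Y h) := by
  letI := (Y.presheaf.stalkSpecializes h).hom.toAlgebra
  obtain ⟨M, hM⟩ := Groth.Agent.Lib.Helper5.StalkSpec.exists_isLocalization_stalkSpecializes Y h
  refine IsLocalization.of_le M (genPrime Y h).primeCompl ?_ ?_
  · intro r hr hrP
    have hu : IsUnit (algebraMap (Y.presheaf.stalk b) (Y.presheaf.stalk a) r) :=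
      IsLocalization.map_units (M := M) _ ⟨r, hr⟩
    exact (IsLocalRing.mem_maximalIdeal _).mp hrP hu
  · intro r hr
    by_contra hnu
    exact hr ((IsLocalRing.mem_maximalIdeal _).mpr hnu)

theorem ringKrullDim_stalk_eq_height {a b : Y} (h : a ⤳ b) :
    ringKrullDim (Y.presheaf.stalk a) = (genPrime Y h).height := by
  letI := (Y.presheaf.stalkSpecializes h).hom.toAlgebra
  haveI := isLocalization_genPrime Y h
  exact IsLocalization.AtPrime.ringKrullDim_eq_height (genPrime Y h) (Y.presheaf.stalk a)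

theorem fromSpecStalk_specializes (b : Y) (P : PrimeSpectrum (Y.presheaf.stalk b)) :
    Y.fromSpecStalk b P ⤳ b := by
  have : Y.fromSpecStalk b P ∈ Set.range (Y.fromSpecStalk b) := ⟨P, rfl⟩
  rw [Scheme.range_fromSpecStalk] at this
  exact this

theorem genPrime_fromSpecStalk (b : Y) (P : PrimeSpectrum (Y.presheaf.stalk b)) :
    genPrime Y (fromSpecStalk_specializes Y b P) = P.asIdeal := by
  have h1 := fromSpecStalk_genPrime Y (fromSpecStalk_specializes Y b P)
  have h2 := (Y.fromSpecStalk b).isEmbedding.injective h1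
  exact congrArg PrimeSpectrum.asIdeal h2

end Dict

section FlatLift

variable {Y' Y : Scheme.{u}} (h : Y' ⟶ Y) [IsLocallyNoetherian Y'] [IsLocallyNoetherian Y]

theorem ringKrullDim_stalk_le_of_flat (b' : Y') (hfl : (h.stalkMap b').hom.Flat) :
    ringKrullDim (Y.presheaf.stalk (h b')) ≤ ringKrullDim (Y'.presheaf.stalk b') := by
  letI := (h.stalkMap b').hom.toAlgebra
  haveI : Module.Flat (Y.presheaf.stalk (h b')) (Y'.presheaf.stalk b') := hfl
  haveI : IsLocalHom (algebraMap (Y.presheaf.stalk (h b')) (Y'.presheaf.stalk b')) :=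
    inferInstanceAs (IsLocalHom (h.stalkMap b').hom)
  exact ringKrullDim_le_of_flat_local

/-- lifting generizations along a flat morphism, preserving the dimension of the local ring. -/
theorem exists_generization_lift (b' : Y') (hfl : (h.stalkMap b').hom.Flat) (a : Y)
    (ha : a ⤳ h b') :
    ∃ a' : Y', a' ⤳ b' ∧ h a' = a ∧
      ringKrullDim (Y'.presheaf.stalk a') = ringKrullDim (Y.presheaf.stalk a) := by
  letI := (h.stalkMap b').hom.toAlgebra
  haveI : Module.Flat (Y.presheaf.stalk (h b')) (Y'.presheaf.stalk b') := hfl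
  haveI : IsLocalHom (algebraMap (Y.presheaf.stalk (h b')) (Y'.presheaf.stalk b')) :=
    inferInstanceAs (IsLocalHom (h.stalkMap b').hom)
  have hQ : genPrime Y ha ≤ (maximalIdeal (Y'.presheaf.stalk b')).comap
      (algebraMap (Y.presheaf.stalk (h b')) (Y'.presheaf.stalk b')) := by
    rw [IsLocalRing.maximalIdeal_comap]
    exact IsLocalRing.le_maximalIdeal (Ideal.IsPrime.ne_top inferInstance)
  obtain ⟨P, hPp, hPQ, hPc, hPh⟩ := exists_prime_le_liesOver_height_eq (genPrime Y ha)
    (maximalIdeal (Y'.presheaf.stalk b')) hQ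
  refine ⟨Y'.fromSpecStalk b' ⟨P, hPp⟩, fromSpecStalk_specializes Y' b' ⟨P, hPp⟩, ?_, ?_⟩
  · have h1 := Scheme.SpecMap_stalkMap_fromSpecStalk (f := h) (x := b')
    have h2 : (Y'.fromSpecStalk b' ≫ h) ⟨P, hPp⟩ =
        (Spec.map (h.stalkMap b') ≫ Y.fromSpecStalk (h b')) ⟨P, hPp⟩ := by rw [h1]
    rw [Scheme.Hom.comp_apply, Scheme.Hom.comp_apply] at h2
    rw [h2]
    have h3 : (Spec.map (h.stalkMap b')) ⟨P, hPp⟩ =
        (⟨genPrime Y ha, inferInstance⟩ : PrimeSpectrum (Y.presheaf.stalk (h b'))) := by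
      apply PrimeSpectrum.ext
      exact hPc
    rw [h3]
    exact fromSpecStalk_genPrime Y ha
  · rw [ringKrullDim_stalk_eq_height Y' (fromSpecStalk_specializes Y' b' ⟨P, hPp⟩),
      genPrime_fromSpecStalk, ringKrullDim_stalk_eq_height Y ha]
    exact congrArg _ hPh

end FlatLift

section Fibre

open Groth.Agent.Lib.Helper5.FiberMor Groth.Agent.Lib.Helper5.CodepthFib
  Groth.Agent.Lib.Helper6.GenNowhere

variable {X S : Scheme.{u}} (f : X ⟶ S)

/-- dimension of the local ring of the fibre through `x` at `x`. -/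
noncomputable def fdim (x : X) : WithBot ℕ∞ :=
  ringKrullDim ((f.fiber (f x)).presheaf.stalk (f.asFiber x))

/-- the set of points `x` having a generization `z ∈ Z` in the fibre through `x` whose fibre local
ring has dimension at most `m`: the locus where `codim_x (Z_s, X_s) ≤ m`. -/
def Cm (Z : Set X) (m : ℕ) : Set X :=
  {x | ∃ z ∈ Z, f z = f x ∧ z ⤳ x ∧ fdim f z ≤ m}

theorem fdim_fiberι (s : S) (a : f.fiber s) :
    fdim f (f.fiberι s a) = ringKrullDim ((f.fiber s).presheaf.stalk a) := by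
  obtain ⟨e⟩ := Groth.Agent.Lib.Helper5.FiberBC.fiber_stalk_transport f (fiber_point_maps f s a)
    (f.asFiber (f.fiberι s a)) a (f.fiberι_asFiber _)
  exact ringKrullDim_eq_of_ringEquiv e

theorem exists_fiber_point {x : X} {s : S} (h : f x = s) : ∃ a : f.fiber s, f.fiberι s a = x := by
  have : x ∈ Set.range (f.fiberι s) := by rw [Scheme.Hom.range_fiberι]; exact h
  exact this

theorem isLocallyNoetherian_fiber [LocallyOfFiniteType f] (s : S) :
    IsLocallyNoetherian (f.fiber s) := by
  haveI : LocallyOfFiniteType (f.fiberToSpecResidueField s) := by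
    dsimp only [Scheme.Hom.fiberToSpecResidueField]
    exact MorphismProperty.pullback_snd (P := @LocallyOfFiniteType) f _ inferInstance
  exact LocallyOfFiniteType.isLocallyNoetherian (f.fiberToSpecResidueField s)

theorem fdim_mono [LocallyOfFiniteType f] {z' z : X} (h : z' ⤳ z) (hf : f z' = f z) :
    fdim f z' ≤ fdim f z := by
  obtain ⟨a', ha'⟩ := exists_fiber_point f hf
  have h1 : a' ⤳ f.asFiber z := by
    rw [← (f.fiberι (f z)).isEmbedding.isInducing.specializes_iff, ha', f.fiberι_asFiber]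
    exact h
  rw [← ha', fdim_fiberι]
  show _ ≤ ringKrullDim _
  rw [ringKrullDim_stalk_eq_height _ h1]
  haveI := isLocallyNoetherian_fiber f (f z)
  exact Ideal.height_le_ringKrullDim_of_ne_top (Ideal.IsPrime.ne_top inferInstance)

end Fibre

section BaseChange

open Groth.Agent.Lib.Helper5.FiberMor Groth.Agent.Lib.Helper5.CodepthFib
  Groth.Agent.Lib.Helper6.GenNowhere

variable {X Y X' Y' : Scheme.{u}} {f : X ⟶ Y} {g : Y' ⟶ Y} {f' : X' ⟶ Y'} {g' : X' ⟶ X}

/-- the flat comparison map between fibres in a cartesian square. -/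
theorem exists_fiber_comparison (hsq : IsPullback g' f' f g) (s' : Y') :
    ∃ h : f'.fiber s' ⟶ f.fiber (g s'), Flat h ∧
      h ≫ f.fiberι (g s') = f'.fiberι s' ≫ g' := by
  obtain ⟨h, hpb, hcomm⟩ : ∃ h : f'.fiber s' ⟶ f.fiber (g s'),
      IsPullback h (f'.fiberToSpecResidueField s')
        (f.fiberToSpecResidueField (g s')) (Spec.map (g.residueFieldMap s')) ∧
      h ≫ f.fiberι (g s') = f'.fiberι s' ≫ g' :=
    ⟨_, isPullback_fiberToSpecResidueField_of_isPullback hsq s', pullback.lift_fst _ _ _⟩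
  refine ⟨h, ?_, hcomm⟩
  haveI : Flat (Spec.map (g.residueFieldMap s')) := by
    rw [Flat.SpecMap_iff]
    letI := (g.residueFieldMap s').hom.toAlgebra
    exact RingHom.flat_algebraMap_iff.mpr inferInstance
  exact MorphismProperty.of_isPullback (P := @Flat) hpb.flip inferInstance

theorem fdim_le_of_isPullback [LocallyOfFiniteType f] (hsq : IsPullback g' f' f g) (x' : X') :
    fdim f (g' x') ≤ fdim f' x' := by
  haveI : LocallyOfFiniteType f' := MorphismProperty.of_isPullback (P := @LocallyOfFiniteType)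
    hsq inferInstance
  obtain ⟨h, hfl, hcomm⟩ := exists_fiber_comparison hsq (f' x')
  haveI := isLocallyNoetherian_fiber f (g (f' x'))
  haveI := isLocallyNoetherian_fiber f' (f' x')
  have hw : f.fiberι (g (f' x')) (h (f'.asFiber x')) = g' x' := by
    rw [← Scheme.Hom.comp_apply, hcomm, Scheme.Hom.comp_apply, f'.fiberι_asFiber]
  rw [← hw, fdim_fiberι]
  exact ringKrullDim_stalk_le_of_flat h (f'.asFiber x') (Flat.stalkMap h _)

theorem exists_lift_of_isPullback [LocallyOfFiniteType f] (hsq : IsPullback g' f' f g) (x' : X')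
    (z : X) (hz : z ⤳ g' x') (hfz : f z = f (g' x')) :
    ∃ z' : X', z' ⤳ x' ∧ f' z' = f' x' ∧ g' z' = z ∧ fdim f' z' = fdim f z := by
  haveI : LocallyOfFiniteType f' := MorphismProperty.of_isPullback (P := @LocallyOfFiniteType)
    hsq inferInstance
  obtain ⟨h, hfl, hcomm⟩ := exists_fiber_comparison hsq (f' x')
  haveI := isLocallyNoetherian_fiber f (g (f' x'))
  haveI := isLocallyNoetherian_fiber f' (f' x')
  have hw : f.fiberι (g (f' x')) (h (f'.asFiber x')) = g' x' := by
    rw [← Scheme.Hom.comp_apply, hcomm, Scheme.Hom.comp_apply, f'.fiberι_asFiber]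
  have hss : f (g' x') = g (f' x') := by
    rw [← Scheme.Hom.comp_apply, ← Scheme.Hom.comp_apply, hsq.w]
  obtain ⟨a, ha⟩ := exists_fiber_point f (hfz.trans hss)
  have h1 : a ⤳ h (f'.asFiber x') := by
    rw [← (f.fiberι (g (f' x'))).isEmbedding.isInducing.specializes_iff, ha, hw]
    exact hz
  obtain ⟨a', ha'1, ha'2, ha'3⟩ := exists_generization_lift h (f'.asFiber x')
    (Flat.stalkMap h _) a h1
  refine ⟨f'.fiberι (f' x') a', ?_, fiber_point_maps f' _ a', ?_, ?_⟩
  · have := ha'1.map (f'.fiberι (f' x')).continuous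
    rwa [f'.fiberι_asFiber] at this
  · rw [← Scheme.Hom.comp_apply, ← hcomm, Scheme.Hom.comp_apply, ha'2, ha]
  · rw [fdim_fiberι, ha'3, ← ha, fdim_fiberι]

/-- base change compatibility of `Cm`. -/
theorem cm_baseChange [LocallyOfFiniteType f] (hsq : IsPullback g' f' f g) (Z : Set X) (m : ℕ) :
    Cm f' (g' ⁻¹' Z) m = g' ⁻¹' Cm f Z m := by
  ext x'
  constructor
  · rintro ⟨z', hz'Z, hfz', hz'x', hdim⟩
    refine ⟨g' z', hz'Z, ?_, hz'x'.map g'.continuous, (fdim_le_of_isPullback hsq z').trans hdim⟩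
    rw [← Scheme.Hom.comp_apply, ← Scheme.Hom.comp_apply, hsq.w, Scheme.Hom.comp_apply,
      Scheme.Hom.comp_apply, hfz']
  · rintro ⟨z, hzZ, hfz, hzx, hdim⟩
    obtain ⟨z', h1, h2, h3, h4⟩ := exists_lift_of_isPullback hsq x' z hzx hfz
    exact ⟨z', by rw [Set.mem_preimage, h3]; exact hzZ, h2, h1, by rw [h4]; exact hdim⟩

end BaseChange

section OpenImm

open Groth.Agent.Lib.Helper5.FiberMor Groth.Agent.Lib.Helper5.CodepthFib

variable {X Y U : Scheme.{u}} (f : X ⟶ Y) (j : U ⟶ X) [IsOpenImmersion j]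

theorem fdim_openImmersion (u : U) : fdim (j ≫ f) u = fdim f (j u) := by
  have hPe : IsoInv.{u} (fun R _ => ringKrullDim R = fdim f (j u)) := by
    intro R R' _ _ e h
    rw [← h]
    exact (ringKrullDim_eq_of_ringEquiv e).symm
  exact (fiber_stalk_openImmersion_iff f hPe j u).mpr rfl

theorem cm_openImmersion (Z : Set X) (m : ℕ) :
    Cm (j ≫ f) (j ⁻¹' Z) m = j ⁻¹' Cm f Z m := by
  ext u
  constructor
  · rintro ⟨w, hwZ, hfw, hwu, hdim⟩
    refine ⟨j w, hwZ, ?_, hwu.map j.continuous, ?_⟩
    · rw [← Scheme.Hom.comp_apply, hfw, Scheme.Hom.comp_apply]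
    · rw [← fdim_openImmersion]; exact hdim
  · rintro ⟨z, hzZ, hfz, hzu, hdim⟩
    have hzr : z ∈ Set.range j := hzu.mem_open j.isOpenEmbedding.isOpen_range ⟨u, rfl⟩
    obtain ⟨w, rfl⟩ := hzr
    refine ⟨w, hzZ, ?_, ?_, ?_⟩
    · rw [Scheme.Hom.comp_apply, hfz, Scheme.Hom.comp_apply]
    · rw [← j.isOpenEmbedding.isInducing.specializes_iff]; exact hzu
    · rw [fdim_openImmersion]; exact hdim

end OpenImm

end Groth.Agent.Lib.Helper6.FibCodim
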