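import Mathlib
import Groth.Prelude.Def_W4ega4s0809p4Pair
import Groth.Agent.Lib.Helper3LocusBC
import Groth.Agent.Lib.Helper3LocusOne
import Groth.Agent.Lib.Helper3ConsOfLocus
import Groth.Agent.Lib.Helper3BaseMap
import Groth.Agent.Lib.Helper5ProCons

set_option autoImplicit false
set_option linter.style.haveILetI false
set_option linter.unusedVariables false
universe u
open CategoryTheory CategoryTheory.Limits AlgebraicGeometry Topology

namespace Groth.Agent.Lib.Helper3.ForallFiber

open Groth.Agent.Lib.Helper3.LocusBC Groth.Agent.Lib.Helper3.LocusOne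
  Groth.Agent.Lib.Helper3.ConsOfLocus Groth.Agent.Lib.Helper3.BaseMap

/-- the relation "all fibres of `f` satisfy `P`". -/
def ForallFib (P : ∀ ⦃Y T : Scheme.{u}⦄, (Y ⟶ T) → Prop) :
    ∀ ⦃X Y T : Scheme.{u}⦄, (X ⟶ Y) → (Y ⟶ T) → Prop :=
  fun X Y T f g => ∀ y : ↥Y, P (f.fiberToSpecResidueField y)

/-- finite type data over a field: `f` is of finite type. -/
theorem ft_of_comp {X Y T : Scheme.{u}} (f : X ⟶ Y) (g : Y ⟶ T) [IsLocallyNoetherian T]
    [LocallyOfFiniteType g] [LocallyOfFiniteType (f ≫ g)] [QuasiCompact (f ≫ g)] :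
    LocallyOfFiniteType f ∧ QuasiCompact f := by
  haveI : IsLocallyNoetherian Y := LocallyOfFiniteType.isLocallyNoetherian g
  exact ⟨locallyOfFiniteType_of_comp f g, QuasiCompact.of_comp f g⟩

theorem isFieldStableMor_forallFib {P : ∀ ⦃Y T : Scheme.{u}⦄, (Y ⟶ T) → Prop}
    (hP : ConsProp.IsFieldStable P) : ConsProp.IsFieldStableMor (ForallFib P) := by
  intro X X' Y Y' T T' f g f' g' eX eY h _ _ _ _ _ _ _ _ hY hX
  obtain ⟨_, _⟩ := ft_of_comp f g
  have hsurj : Surjective eY :=
    MorphismProperty.of_isPullback (P := @Surjective) hY.flip (fpqc_of_onePoint h).1.1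
  have key : ∀ y' : Y', P (f.fiberToSpecResidueField (eY y')) ↔
      P (f'.fiberToSpecResidueField y') := fun y' =>
    hP (f.fiberToSpecResidueField (eY y')) (f'.fiberToSpecResidueField y') _ _
      (isPullback_fiberToSpecResidueField_of_isPullback hX y')
  constructor
  · intro hf y'
    exact (key y').mp (hf (eY y'))
  · intro hf' y
    obtain ⟨y', rfl⟩ := hsurj.surj y
    exact (key y').mpr (hf' y')

/-- membership in the locus of `ForallFib P` in terms of the locus of `P` for `f`. -/
theorem mem_locusMor_forallFib_iff {P : ∀ ⦃Y T : Scheme.{u}⦄, (Y ⟶ T) → Prop}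
    (hP : ConsProp.IsFieldStable P) {X Y S : Scheme.{u}} (f : X ⟶ Y) (g : Y ⟶ S)
    [LocallyOfFiniteType f] [QuasiCompact f] (s : S) :
    s ∈ ConsProp.locusMor (ForallFib P) f g ↔ ∀ y : Y, g y = s → y ∈ ConsProp.locus P f := by
  have hpb : IsPullback ((f ≫ g).fiberι s) (MoreMor.fiberMap f g s) f (g.fiberι s) :=
    isPullback_baseMap f g (S.fromSpecResidueField s)
  have key : ∀ z : g.fiber s, P (f.fiberToSpecResidueField (g.fiberι s z)) ↔
      P ((MoreMor.fiberMap f g s).fiberToSpecResidueField z) := fun z =>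
    hP (f.fiberToSpecResidueField (g.fiberι s z))
      ((MoreMor.fiberMap f g s).fiberToSpecResidueField z) _ _
      (isPullback_fiberToSpecResidueField_of_isPullback hpb z)
  constructor
  · intro hs y hy
    have : y ∈ Set.range (g.fiberι s) := by
      rw [Scheme.Hom.range_fiberι]; exact hy
    obtain ⟨z, rfl⟩ := this
    exact (key z).mpr (hs z)
  · intro h z
    refine (key z).mp (h _ ?_)
    have : g.fiberι s z ∈ Set.range (g.fiberι s) := ⟨z, rfl⟩
    rw [Scheme.Hom.range_fiberι] at this
    exact this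


theorem isConsMor_forallFib {P : ∀ ⦃Y T : Scheme.{u}⦄, (Y ⟶ T) → Prop}
    (hP : ConsProp.IsCons P) : ConsProp.IsConsMor (ForallFib P) := by
  refine ⟨isFieldStableMor_forallFib hP.1, ?_⟩
  intro X Y S f g _ _ _ _ _ _
  haveI : IsLocallyNoetherian Y := LocallyOfFiniteType.isLocallyNoetherian g
  haveI : IsLocallyNoetherian X := LocallyOfFiniteType.isLocallyNoetherian (f ≫ g)
  obtain ⟨_, _⟩ := ft_of_comp f g
  haveI : CompactSpace Y := QuasiCompact.compactSpace_of_compactSpace g
  have hE : IsConstructible (ConsProp.locus P f) :=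
    (isLocallyConstructible_locus hP f).isConstructible
  have hloc : ConsProp.locusMor (ForallFib P) f g = (g '' (ConsProp.locus P f)ᶜ)ᶜ := by
    ext s
    rw [mem_locusMor_forallFib_iff hP.1]
    constructor
    · rintro h ⟨y, hy, rfl⟩
      exact hy (h y rfl)
    · intro h y hy
      by_contra hne
      exact h ⟨y, hne, hy⟩
  rw [hloc]
  have h2 : IsConstructible (g '' (ConsProp.locus P f)ᶜ) :=
    g.isConstructible_image (isConstructible_compl.mpr hE)
  exact interior_nonempty_or_of_isConstructible (isConstructible_compl.mpr h2)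

theorem isProConstructible_of_isLocallyConstructible {X : Type*} [TopologicalSpace X] {T : Set X}
    (hT : IsLocallyConstructible T) : ProCons.IsProConstructible T := by
  intro x
  refine ⟨Set.univ, isOpen_univ, trivial, {Subtype.val ⁻¹' T}, ?_, by simp⟩
  intro T' hT'
  rw [Set.mem_singleton_iff] at hT'
  subst hT'
  exact hT.preimage_of_isOpenEmbedding isOpen_univ.isOpenEmbedding_subtypeVal

theorem isIndConsMor_forallFib {P : ∀ ⦃Y T : Scheme.{u}⦄, (Y ⟶ T) → Prop}
    (hP : ConsProp.IsIndCons P) : ConsProp.IsIndConsMor (ForallFib P) := by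
  refine ⟨isFieldStableMor_forallFib hP.1, ?_⟩
  intro X Y S f g _ _ _ _ _ _ hη
  haveI : IsLocallyNoetherian Y := LocallyOfFiniteType.isLocallyNoetherian g
  haveI : IsLocallyNoetherian X := LocallyOfFiniteType.isLocallyNoetherian (f ≫ g)
  obtain ⟨_, _⟩ := ft_of_comp f g
  haveI : CompactSpace Y := QuasiCompact.compactSpace_of_compactSpace g
  haveI : IsNoetherian Y := { }
  have hE : ProCons.IsIndConstructible (ConsProp.locus P f) := isIndConstructible_locus hP f
  rw [mem_locusMor_forallFib_iff hP.1] at hη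
  obtain ⟨I, K, hIK⟩ := Groth.Agent.Lib.Helper5.exists_finset_iInter_subset_iUnion Y
    (fun _ : Unit => ConsProp.locus P f)
    (fun V : {V : S.Opens // genericPoint S ∈ V} => g ⁻¹' (V.1 : Set S))
    (fun _ => hE)
    (fun V => isProConstructible_of_isLocallyConstructible
      (Groth.Agent.Lib.Helper2.Constr.isConstructible_of_isOpen
        (V.1.2.preimage g.continuous)).isLocallyConstructible)
    (by
      intro y hy
      rw [Set.mem_iInter] at hy
      refine Set.mem_iUnion.mpr ⟨(), hη y ?_⟩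
      have h1 : g y ⤳ genericPoint S := by
        rw [specializes_iff_forall_open]
        intro V hV hηV
        exact hy ⟨⟨V, hV⟩, hηV⟩
      exact (h1.antisymm (genericPoint_specializes _)).eq)
  refine ⟨genericPoint S, mem_interior.mpr ⟨⋂ V ∈ K, (V.1 : Set S), ?_, ?_, ?_⟩⟩
  · intro s hs
    rw [mem_locusMor_forallFib_iff hP.1]
    intro y hy
    have h1 : y ∈ ⋂ j ∈ K, g ⁻¹' (j.1 : Set S) := by
      rw [Set.mem_iInter₂] at hs ⊢
      intro V hV
      show g y ∈ (V.1 : Set S)
      rw [hy]
      exact hs V hV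
    obtain ⟨i, hi, hy'⟩ := Set.mem_iUnion₂.mp (hIK h1)
    exact hy'
  · exact isOpen_biInter_finset fun V _ => V.1.2
  · rw [Set.mem_iInter₂]
    exact fun V _ => V.2

end Groth.Agent.Lib.Helper3.ForallFiber
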