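import Mathlib

set_option autoImplicit false
set_option linter.unusedVariables false
set_option linter.unusedSectionVars false
set_option linter.style.haveILetI false

open TensorProduct IsLocalRing

universe u

namespace Groth.Agent.Lib.Helper3.FibSm

open Algebra

local notation "𝓀[" R "]" => ResidueField R
local notation "𝓂[" R "]" => maximalIdeal R

section
variable {A S : Type u} [CommRing A] [CommRing S] [Algebra A S] [IsLocalRing S]
  (p : Ideal A) [p.IsPrime]

/-- the canonical map `κ(p) → 𝓀[S]` for `S` local over `p`. -/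
noncomputable def resMap (hp : (𝓂[S]).comap (algebraMap A S) = p) : p.ResidueField →ₐ[A] 𝓀[S] :=
  Ideal.ResidueField.liftₐ p (Algebra.ofId A 𝓀[S])
    (by
      intro a ha
      rw [RingHom.mem_ker]
      show algebraMap A 𝓀[S] a = 0
      rw [IsScalarTower.algebraMap_apply A S 𝓀[S]]
      rw [← hp] at ha
      exact (residue_eq_zero_iff _).mpr ha)
    (by
      intro a ha
      show IsUnit (algebraMap A 𝓀[S] a)
      rw [IsScalarTower.algebraMap_apply A S 𝓀[S]]
      refine IsUnit.mk0 _ ?_
      intro h0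
      apply ha
      rw [← hp]
      exact (residue_eq_zero_iff _).mp h0)

lemma includeRight_surjective (hp : (𝓂[S]).comap (algebraMap A S) = p) :
    Function.Surjective (Algebra.TensorProduct.includeRight : S →ₐ[A] p.ResidueField ⊗[A] S) := by
  intro x
  obtain ⟨r, hr, s, e⟩ := Ideal.Fiber.exists_smul_eq_one_tmul p x
  have hu : IsUnit (algebraMap A S r) := by
    by_contra hnu
    apply hr
    rw [← hp]
    exact hnu
  obtain ⟨u, hu⟩ := hu
  refine ⟨↑u⁻¹ * s, ?_⟩
  have hk : IsUnit (algebraMap A p.ResidueField r) := by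
    refine IsUnit.mk0 _ ?_
    rw [Ne, Ideal.algebraMap_residueField_eq_zero]
    exact hr
  have hinj : Function.Injective (fun y : p.ResidueField ⊗[A] S => r • y) := by
    intro y z hyz
    have h1 : ∀ y : p.ResidueField ⊗[A] S,
        r • y = (algebraMap A p.ResidueField r ⊗ₜ[A] (1 : S)) * y := by
      intro y
      rw [Algebra.smul_def]
      rfl
    simp only [h1] at hyz
    have hunit : IsUnit (algebraMap A p.ResidueField r ⊗ₜ[A] (1 : S)) :=
      hk.map (Algebra.TensorProduct.includeLeft : p.ResidueField →ₐ[A] p.ResidueField ⊗[A] S)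
    exact hunit.mul_left_cancel hyz
  apply hinj
  show r • (Algebra.TensorProduct.includeRight (↑u⁻¹ * s) : p.ResidueField ⊗[A] S) = r • x
  rw [e, Algebra.TensorProduct.includeRight_apply, ← TensorProduct.tmul_smul, Algebra.smul_def,
    ← hu, ← mul_assoc, Units.mul_inv, one_mul]

end

section
variable {A B S P : Type u} [CommRing A] [CommRing B] [CommRing S] [CommRing P]
  [Algebra A B] [Algebra A S] [Algebra B S] [IsScalarTower A B S] [Module.Flat A S]
  [Algebra A P] [Algebra B P] [IsScalarTower A B P] [Algebra P S] [IsScalarTower B P S]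
  [IsScalarTower A P S]
  [IsLocalRing S] (p : Ideal A) [p.IsPrime]

set_option backward.defeqAttrib.useBackward true in
set_option backward.isDefEq.respectTransparency false in
set_option maxHeartbeats 1600000 in
/-- relative version of Mathlib's `FormallySmooth.of_formallySmooth_residueField_tensor_aux`,
with non-local base `A`. -/
theorem formallySmooth_of_fibre_aux (hp : (𝓂[S]).comap (algebraMap A S) = p)
    (hfib : (Algebra.TensorProduct.map (AlgHom.id A p.ResidueField)
      (IsScalarTower.toAlgHom A B S)).toRingHom.FormallySmooth)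
    [FormallySmooth B P] [Module.Free P Ω[P⁄B]] [Module.Finite P Ω[P⁄B]]
    (h₁ : Function.Surjective (algebraMap P S)) (h₂ : (RingHom.ker (algebraMap P S)).FG) :
    Algebra.FormallySmooth B S := by
  let K := p.ResidueField
  let Sp := K ⊗[A] S
  let Pp := K ⊗[A] P
  let Bp := K ⊗[A] B
  let φ : Pp →ₐ[K] Sp := Algebra.TensorProduct.map (.id _ _) (IsScalarTower.toAlgHom _ _ _)
  let βP : Bp →ₐ[K] Pp := Algebra.TensorProduct.map (.id _ _) (IsScalarTower.toAlgHom A B P)
  let βS : Bp →ₐ[K] Sp := Algebra.TensorProduct.map (.id _ _) (IsScalarTower.toAlgHom A B S)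
  have hβ : φ.comp βP = βS := by
    apply Algebra.TensorProduct.ext'
    intro a b
    change (a ⊗ₜ[A] (algebraMap P S (algebraMap B P b)) : Sp) = a ⊗ₜ[A] (algebraMap B S b)
    rw [← IsScalarTower.algebraMap_apply]
  letI algK : Algebra K 𝓀[S] := (resMap p hp).toRingHom.toAlgebra
  haveI : IsScalarTower A K 𝓀[S] := .of_algebraMap_eq' (resMap p hp).comp_algebraMap.symm
  let ψ : Sp →ₐ[A] 𝓀[S] := Algebra.TensorProduct.lift (IsScalarTower.toAlgHom _ _ _)
    (IsScalarTower.toAlgHom _ _ _) fun _ _ ↦ .all _ _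
  haveI : Nontrivial Sp := RingHom.domain_nontrivial ψ.toRingHom
  have hsurj : Function.Surjective (Algebra.TensorProduct.includeRight : S →ₐ[A] Sp) :=
    includeRight_surjective p hp
  haveI : IsLocalRing Sp := .of_surjective' Algebra.TensorProduct.includeRight.toRingHom hsurj
  letI : Algebra P Pp := Algebra.TensorProduct.rightAlgebra
  letI : Algebra S Sp := Algebra.TensorProduct.rightAlgebra
  letI : Algebra B Bp := Algebra.TensorProduct.rightAlgebra
  algebraize [φ.toRingHom, (φ.toRingHom.comp (algebraMap P Pp)), ψ.toRingHom,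
    ψ.toRingHom.comp φ.toRingHom, βP.toRingHom, βS.toRingHom,
    (algebraMap P Pp).comp (algebraMap B P), (algebraMap S Sp).comp (algebraMap B S)]
  have := IsScalarTower.of_algebraMap_eq' φ.comp_algebraMap.symm
  have := IsScalarTower.of_algebraMap_eq' ψ.comp_algebraMap.symm
  have : IsScalarTower P S Sp := .of_algebraMap_eq' rfl
  have : IsScalarTower S Sp 𝓀[S] := .of_algebraMap_eq fun r ↦ by
    simp [RingHom.algebraMap_toAlgebra, ψ, Sp]
  have : IsScalarTower P Sp 𝓀[S] := .to₁₃₄ _ S _ _
  have : IsScalarTower P Pp 𝓀[S] := .to₁₂₄ _ _ Sp _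
  have : IsScalarTower Bp Pp Sp := .of_algebraMap_eq' (congrArg AlgHom.toRingHom hβ).symm
  have : IsScalarTower B P Pp := .of_algebraMap_eq' rfl
  have : IsScalarTower B S Sp := .of_algebraMap_eq' rfl
  have : IsScalarTower B Bp Pp := .of_algebraMap_eq' rfl
  have : IsScalarTower B Bp Sp := .of_algebraMap_eq' rfl
  have : IsScalarTower A B Pp := .of_algebraMap_eq' (by
    rw [IsScalarTower.algebraMap_eq B P Pp, RingHom.comp_assoc, ← IsScalarTower.algebraMap_eq A B P]
    ext a
    simp [Pp, RingHom.algebraMap_toAlgebra, Algebra.TensorProduct.algebraMap_apply,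
      Algebra.algebraMap_eq_smul_one, TensorProduct.smul_tmul])
  have : IsScalarTower A P Pp := .of_algebraMap_eq' (by
    ext a
    simp [Pp, RingHom.algebraMap_toAlgebra, Algebra.TensorProduct.algebraMap_apply,
      Algebra.algebraMap_eq_smul_one, TensorProduct.smul_tmul])
  have : IsScalarTower K Bp Pp := .of_algebraMap_eq' βP.comp_algebraMap.symm
  have : IsScalarTower A Bp Pp := .of_algebraMap_eq' (by
    rw [IsScalarTower.algebraMap_eq A K Pp, IsScalarTower.algebraMap_eq K Bp Pp,
      RingHom.comp_assoc, ← IsScalarTower.algebraMap_eq A K Bp])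
  have hPO1 : Algebra.IsPushout A B K Bp := TensorProduct.isPushout'
  have hPO2 : Algebra.IsPushout A P K Pp := TensorProduct.isPushout'
  have hPO3 : Algebra.IsPushout B P Bp Pp := (Algebra.IsPushout.comp_iff A B K Bp (T := P) (T' := Pp)).mp hPO2
  have hPO4 : Algebra.IsPushout B Bp P Pp := hPO3.symm
  let e₀ : Ω[Pp⁄Bp] ≃ₗ[Pp] Pp ⊗[P] Ω[P⁄B] :=
    (KaehlerDifferential.tensorKaehlerEquiv B Bp P Pp).symm
  have : Module.Free Pp Ω[Pp⁄Bp] := .of_equiv e₀.symm
  have : Module.Finite Pp Ω[Pp⁄Bp] := .of_surjective e₀.symm.toLinearMap e₀.symm.surjective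
  have : FormallySmooth Bp Pp := .of_equiv (Algebra.IsPushout.equiv B Bp P Pp)
  let e₁ : RingHom.ker φ ≃ₗ[Pp] Pp ⊗[P] RingHom.ker (algebraMap P S) :=
    kerTensorProductMapIdToAlgHomEquiv _ _ _ _ h₁
  have h₁' : Function.Surjective φ := LinearMap.lTensor_surjective _ h₁
  have h₂' : (RingHom.ker φ).FG := by
    suffices Module.Finite Pp (RingHom.ker φ) from (Submodule.fg_top _).mp this.1
    have : Module.Finite P (RingHom.ker (algebraMap P S)) := ⟨(Submodule.fg_top _).mpr h₂⟩
    exact .equiv e₁.symm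
  have h₃ : 𝓂[Sp] ≤ RingHom.ker ψ := by
    intro x hx
    obtain ⟨x, rfl⟩ := hsurj x
    have : ¬IsUnit x := fun h ↦ hx <| h.map TensorProduct.includeRight
    simpa [ψ, Sp]
  have : FormallySmooth Bp Sp := RingHom.formallySmooth_algebraMap.mp hfib
  rw [Algebra.FormallySmooth.iff_injective_cotangentComplexBaseChange_residueField (P := P) h₁ h₂]
  have := (Algebra.FormallySmooth.iff_injective_cotangentComplexBaseChange
    (R := Bp) _ _ h₁' h₂' h₃).mp inferInstance
  let eᵣ : 𝓀[S] ⊗[Pp] Ω[Pp⁄Bp] ≃ₗ[S] 𝓀[S] ⊗[P] Ω[P⁄B] :=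
    (AlgebraTensorModule.congr (.refl 𝓀[S] _) e₀).restrictScalars S ≪≫ₗ
      (AlgebraTensorModule.cancelBaseChange P Pp Sp 𝓀[S] Ω[P⁄B]).restrictScalars S
  let eₗ : 𝓀[S] ⊗[Pp] RingHom.ker φ ≃ₗ[S] 𝓀[S] ⊗[P] RingHom.ker (algebraMap P S) :=
    (AlgebraTensorModule.congr (.refl 𝓀[S] 𝓀[S]) e₁).restrictScalars S ≪≫ₗ
      (AlgebraTensorModule.cancelBaseChange P Pp Sp 𝓀[S] _).restrictScalars S
  convert! (eᵣ.injective.comp this).comp eₗ.symm.injective
  ext x
  dsimp
  induction x with
  | zero => simp only [LinearEquiv.map_zero, LinearMap.map_zero]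
  | add x y _ _ => simp only [LinearEquiv.map_add, LinearMap.map_add, *]
  | tmul x y =>
  dsimp [eₗ, eᵣ, e₁, KaehlerDifferential.cotangentComplexBaseChange,
    TensorProduct.one_def, Pp, smul_tmul']
  rw [kerTensorProductMapIdToAlgHomEquiv_symm_apply]
  simp only [e₀, Pp, one_mul]
  have hsymm : (KaehlerDifferential.tensorKaehlerEquiv B Bp P (K ⊗[A] P)).symm
      ((KaehlerDifferential.D Bp (K ⊗[A] P)) (1 ⊗ₜ[A] (y : P))) =
      (1 : K ⊗[A] P) ⊗ₜ[P] (KaehlerDifferential.D B P) (y : P) := by
    rw [LinearEquiv.symm_apply_eq, KaehlerDifferential.tensorKaehlerEquiv_tmul_D, one_smul]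
    rfl
  rw [hsymm, AlgebraTensorModule.cancelBaseChange_tmul, one_smul]

end

section
variable {A B C S : Type u} [CommRing A] [CommRing B] [CommRing C] [CommRing S]
  [Algebra A B] [Algebra A C] [Algebra B C] [IsScalarTower A B C]
  [Algebra A S] [Algebra B S] [Algebra C S] [IsScalarTower A B S] [IsScalarTower B C S]
  [IsScalarTower A C S]
  [Module.Flat A S] [IsLocalRing S] (p : Ideal A) [p.IsPrime]

set_option maxHeartbeats 1600000 in
/-- relative version of Mathlib's `FormallySmooth.of_formallySmooth_residueField_tensor`. -/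
theorem formallySmooth_of_fibre_of_isLocalization (hp : (𝓂[S]).comap (algebraMap A S) = p)
    (hfib : (Algebra.TensorProduct.map (AlgHom.id A p.ResidueField)
      (IsScalarTower.toAlgHom A B S)).toRingHom.FormallySmooth)
    (M : Submonoid C) [IsLocalization M S] [Algebra.FinitePresentation B C] :
    Algebra.FormallySmooth B S := by
  obtain ⟨n, f₀, hf₀⟩ := Algebra.FiniteType.iff_quotient_mvPolynomial''.mp
    (inferInstance : Algebra.FiniteType B C)
  let M' := M.comap f₀
  let P' := Localization M'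
  let fP : P' →ₐ[B] S := IsLocalization.liftAlgHom (M := M')
      (f := (IsScalarTower.toAlgHom B C S).comp f₀) fun x ↦ by
    simpa using IsLocalization.map_units (M := M) _ ⟨f₀ x.1, x.2⟩
  have hf₁ : Function.Surjective fP := by
    intro x
    obtain ⟨x, ⟨s, hs⟩, rfl⟩ := IsLocalization.exists_mk'_eq M x
    obtain ⟨x, rfl⟩ := hf₀ x
    obtain ⟨s, rfl⟩ := hf₀ s
    refine ⟨IsLocalization.mk' (M := M') _ x ⟨s, hs⟩, ?_⟩
    simp [fP, IsLocalization.lift_mk', Units.mul_inv_eq_iff_eq_mul, IsUnit.liftRight]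
  have hfP : (RingHom.ker fP).FG := by
    have := Algebra.FinitePresentation.ker_fG_of_surjective _ hf₀
    convert! this.map (algebraMap _ P')
    refine le_antisymm ?_ (Ideal.map_le_iff_le_comap.mpr fun x hx ↦ by simp_all [fP])
    intro x hx
    obtain ⟨x, s, rfl⟩ := IsLocalization.exists_mk'_eq M' x
    obtain ⟨a, ha, e⟩ : ∃ a ∈ M, a * f₀ x = 0 := by
      simpa [fP, IsLocalization.lift_mk', IsLocalization.map_eq_zero_iff M] using hx
    obtain ⟨a, rfl⟩ := hf₀ a
    rw [IsLocalization.mk'_mem_map_algebraMap_iff]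
    exact ⟨a, ha, by simpa⟩
  algebraize [fP.toRingHom]
  haveI : IsScalarTower A B P' := inferInstance
  haveI : IsScalarTower B P' S := .of_algebraMap_eq' fP.comp_algebraMap.symm
  haveI : IsScalarTower A P' S := IsScalarTower.to₁₃₄ A B P' S
  have : FormallyEtale (MvPolynomial (Fin n) B) P' := .of_isLocalization M'
  have : FormallySmooth B P' := .comp _ (MvPolynomial (Fin n) B) _
  have : Module.Free P' Ω[P'⁄B] :=
    .of_equiv (KaehlerDifferential.tensorKaehlerEquivOfFormallyEtale B (MvPolynomial (Fin n) B) P')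
  exact formallySmooth_of_fibre_aux (A := A) (B := B) (S := S) (P := P') p hp hfib hf₁ hfP

end

section
variable {A B C : Type u} [CommRing A] [CommRing B] [CommRing C]
  [Algebra A B] [Algebra A C] [Algebra B C] [IsScalarTower A B C]

/-- `κ ⊗ C → κ ⊗ C_q` is formally smooth. -/
lemma formallySmooth_map_localization (K : Type u) [CommRing K] [Algebra A K]
    (q : Ideal C) [q.IsPrime] :
    (Algebra.TensorProduct.map (AlgHom.id A K)
      (IsScalarTower.toAlgHom A C (Localization.AtPrime q))).toRingHom.FormallySmooth := by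
  let Cq := Localization.AtPrime q
  let m : K ⊗[A] C →ₐ[K] K ⊗[A] Cq :=
    Algebra.TensorProduct.map (AlgHom.id K K) (IsScalarTower.toAlgHom A C Cq)
  letI : Algebra (K ⊗[A] C) (K ⊗[A] Cq) := m.toRingHom.toAlgebra
  haveI : IsScalarTower K (K ⊗[A] C) (K ⊗[A] Cq) := .of_algebraMap_eq' m.comp_algebraMap.symm
  have H : (algebraMap (K ⊗[A] C) (K ⊗[A] Cq)).comp
      (Algebra.TensorProduct.includeRight : C →ₐ[A] K ⊗[A] C).toRingHom =
      (Algebra.TensorProduct.includeRight : Cq →ₐ[A] K ⊗[A] Cq).toRingHom.comp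
        (algebraMap C Cq) := by
    ext c
    rfl
  haveI := IsLocalization.tensorProduct_tensorProduct_right A K q.primeCompl Cq H
  haveI : Algebra.FormallyEtale (K ⊗[A] C) (K ⊗[A] Cq) :=
    .of_isLocalization (q.primeCompl.map
      (Algebra.TensorProduct.includeRight (R := A) (A := K)))
  have : Algebra.FormallySmooth (K ⊗[A] C) (K ⊗[A] Cq) := inferInstance
  exact RingHom.formallySmooth_algebraMap.mpr this

/-- **Relative fibre criterion for smoothness at a point** (ring level). -/
theorem isSmoothAt_of_flat_of_fibre [Algebra.FinitePresentation B C]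
    (p : Ideal A) [p.IsPrime] (q : Ideal C) [q.IsPrime] [q.LiesOver p]
    (hflat : Module.Flat A (Localization.AtPrime q))
    (hfib : (Algebra.TensorProduct.map (AlgHom.id A p.ResidueField)
      (IsScalarTower.toAlgHom A B C)).toRingHom.FormallySmooth) :
    Algebra.FormallySmooth B (Localization.AtPrime q) := by
  let Cq := Localization.AtPrime q
  have hp : (𝓂[Cq]).comap (algebraMap A Cq) = p := by
    rw [IsScalarTower.algebraMap_eq A C Cq, ← Ideal.comap_comap]
    have h1 : Ideal.comap (algebraMap C Cq) 𝓂[Cq] = q := Localization.AtPrime.under_maximalIdeal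
    rw [h1]
    exact (Ideal.over_def q p).symm
  have hcomp : (Algebra.TensorProduct.map (AlgHom.id A p.ResidueField)
      (IsScalarTower.toAlgHom A B Cq)).toRingHom =
      (Algebra.TensorProduct.map (AlgHom.id A p.ResidueField)
        (IsScalarTower.toAlgHom A C Cq)).toRingHom.comp
      (Algebra.TensorProduct.map (AlgHom.id A p.ResidueField)
        (IsScalarTower.toAlgHom A B C)).toRingHom := by
    have : (Algebra.TensorProduct.map (AlgHom.id A p.ResidueField)
        (IsScalarTower.toAlgHom A B Cq)) =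
      (Algebra.TensorProduct.map (AlgHom.id A p.ResidueField)
        (IsScalarTower.toAlgHom A C Cq)).comp
      (Algebra.TensorProduct.map (AlgHom.id A p.ResidueField)
        (IsScalarTower.toAlgHom A B C)) := by
      apply Algebra.TensorProduct.ext'
      intro a b
      show a ⊗ₜ[A] (algebraMap B Cq b) = a ⊗ₜ[A] (algebraMap C Cq (algebraMap B C b))
      rw [← IsScalarTower.algebraMap_apply]
    exact congrArg AlgHom.toRingHom this
  have hfib' : (Algebra.TensorProduct.map (AlgHom.id A p.ResidueField)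
      (IsScalarTower.toAlgHom A B Cq)).toRingHom.FormallySmooth := by
    rw [hcomp]
    exact RingHom.FormallySmooth.comp hfib (formallySmooth_map_localization p.ResidueField q)
  exact formallySmooth_of_fibre_of_isLocalization (A := A) (B := B) (C := C) (S := Cq) p hp hfib'
    q.primeCompl

end

end Groth.Agent.Lib.Helper3.FibSm
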