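import Mathlib
import Groth.Agent.Lib.Helper3FibEtSch
import Groth.Agent.Lib.Helper3EtGUSchC
import Groth.Agent.Lib.Helper3FibSm

set_option autoImplicit false
set_option linter.unusedVariables false
set_option linter.unusedSectionVars false
set_option linter.style.haveILetI false

open CategoryTheory CategoryTheory.Limits AlgebraicGeometry TensorProduct

universe u

namespace Groth.Agent.Lib.Helper3.FibSmSch

open Groth.Agent.Lib.Helper3.EtGUSch Groth.Agent.Lib.Helper3.FibEt Groth.Agent.Lib.Helper3.FibEtSch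
  Groth.Agent.Lib.Helper3.FibSm

set_option maxHeartbeats 3200000 in
/-- **Smooth fibre criterion, pointwise form.** `f : X → Y` over `S`, `X → S` flat at `x` and
locally of finite presentation, `Y → S` locally of finite type; if the map of fibres over `s` is
smooth on the trace of an open neighbourhood `U'` of `x`, then `f` is smooth at `x`. -/
theorem formallySmooth_stalkMap_of_flat_of_fibre {X Y S : Scheme.{u}} (f : X ⟶ Y) (g : Y ⟶ S)
    [LocallyOfFinitePresentation (f ≫ g)] [LocallyOfFiniteType g]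
    (x : X) (s : S) (hxs : (f ≫ g) x = s)
    (hflat : ((f ≫ g).stalkMap x).hom.Flat)
    (U' : X.Opens) (hxU' : x ∈ U')
    (hfib : Smooth ((((f ≫ g).fiberι s) ⁻¹ᵁ U').ι ≫ CohIII.fiberMapOver f (f ≫ g) g rfl s)) :
    (f.stalkMap x).hom.FormallySmooth := by
  subst hxs
  -- charts
  obtain ⟨S₀, hS₀, W, hW, hWS, hfxW, -⟩ := exists_affine_nhds g (f x) ⊤ trivial
  obtain ⟨V, hV, hxV, hVle⟩ := TopologicalSpace.Opens.isBasis_iff_nbhd.mp X.isBasis_affineOpens
    (show x ∈ U' ⊓ f ⁻¹ᵁ W from ⟨hxU', hfxW⟩)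
  have hVU' : V ≤ U' := hVle.trans inf_le_left
  have hVW : V ≤ f ⁻¹ᵁ W := hVle.trans inf_le_right
  have hVS : V ≤ (f ≫ g) ⁻¹ᵁ S₀ := fun z hz => hWS (hVW hz)
  let A := Γ(S, S₀)
  let B := Γ(Y, W)
  let C := Γ(X, V)
  letI algAB : Algebra A B := (g.appLE S₀ W hWS).hom.toAlgebra
  letI algBC : Algebra B C := (f.appLE W V hVW).hom.toAlgebra
  letI algAC : Algebra A C := ((f ≫ g).appLE S₀ V hVS).hom.toAlgebra
  haveI : IsScalarTower A B C := by
    refine IsScalarTower.of_algebraMap_eq' ?_
    show ((f ≫ g).appLE S₀ V hVS).hom = (f.appLE W V hVW).hom.comp (g.appLE S₀ W hWS).hom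
    rw [← CommRingCat.hom_comp, Scheme.Hom.appLE_comp_appLE]
  have hsS₀ : (f ≫ g) x ∈ S₀ := hVS hxV
  let p : Spec Γ(S, S₀) := hS₀.primeIdealOf ⟨(f ≫ g) x, hsS₀⟩
  have hs : hS₀.fromSpec p = (f ≫ g) x := hS₀.fromSpec_primeIdealOf _
  let q : Spec Γ(X, V) := hV.primeIdealOf ⟨x, hxV⟩
  haveI hLO : q.asIdeal.LiesOver p.asIdeal :=
    ⟨congr($(IsAffineOpen.comap_primeIdealOf_appLE S₀ hS₀ V hV hVS hxV).1).symm⟩
  -- finite presentation
  haveI : Algebra.FinitePresentation B C := by
    have h1 : ((f ≫ g).appLE S₀ V hVS).hom.FinitePresentation :=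
      (f ≫ g).finitePresentation_appLE hS₀ hV hVS
    have h2 : (g.appLE S₀ W hWS).hom.FiniteType := g.finiteType_appLE hS₀ hW hWS
    have h3 : ((algebraMap B C).comp (algebraMap A B)).FinitePresentation := by
      rw [← IsScalarTower.algebraMap_eq A B C]
      exact h1
    exact RingHom.FinitePresentation.of_comp_finiteType (algebraMap A B) h3 h2
  -- flatness
  have hflat' : Module.Flat A (Localization.AtPrime q.asIdeal) := by
    letI := Localization.AtPrime.algebraOfLiesOver p.asIdeal q.asIdeal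
    have hF1 : Module.Flat (Localization.AtPrime p.asIdeal) (Localization.AtPrime q.asIdeal) :=
      (Groth.Agent.Lib.Helper20.EtLocal.flat_stalkMap_iff_chart S₀ hS₀ V hV hVS hxV).mp hflat
    exact (Module.flat_iff_of_isLocalization (Localization.AtPrime p.asIdeal)
      p.asIdeal.primeCompl _).mp hF1
  -- fibre charts
  obtain ⟨θ, hθiso, hθ⟩ := exists_residueField_iso hS₀ p _ hs
  obtain ⟨jX, hjXo, hjX1, hjX2⟩ := exists_fibre_chart (f ≫ g) hS₀ hV hVS p _ θ hθ
  obtain ⟨jY, hjYo, hjY1, hjY2⟩ := exists_fibre_chart g hS₀ hW hWS p _ θ hθ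
  let ρ₁ : B ⊗[A] p.asIdeal.ResidueField →ₐ[A] C ⊗[A] p.asIdeal.ResidueField :=
    Algebra.TensorProduct.map (IsScalarTower.toAlgHom A B C) (AlgHom.id A p.asIdeal.ResidueField)
  let FM := CohIII.fiberMapOver f (f ≫ g) g rfl ((f ≫ g) x)
  have hFM1 : FM ≫ g.fiberι ((f ≫ g) x) = (f ≫ g).fiberι ((f ≫ g) x) ≫ f :=
    pullback.lift_fst _ _ _
  have hFM2 : FM ≫ g.fiberToSpecResidueField ((f ≫ g) x) =
      (f ≫ g).fiberToSpecResidueField ((f ≫ g) x) :=
    (pullback.lift_snd _ _ _).trans (Category.comp_id _)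
  -- compatibility of the charts with the map of fibres
  have hcompat : jX ≫ FM = Spec.map (CommRingCat.ofHom ρ₁.toRingHom) ≫ jY := by
    apply pullback.hom_ext
    · show (jX ≫ FM) ≫ g.fiberι _ = (Spec.map (CommRingCat.ofHom ρ₁.toRingHom) ≫ jY) ≫ g.fiberι _
      rw [Category.assoc, hFM1, ← Category.assoc, hjX1, Category.assoc, Category.assoc, hjY1,
        ← IsAffineOpen.SpecMap_appLE_fromSpec f hW hV hVW, ← Category.assoc, ← Category.assoc,
        ← Spec.map_comp, ← Spec.map_comp]
      congr 2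
    · show (jX ≫ FM) ≫ g.fiberToSpecResidueField _ =
        (Spec.map (CommRingCat.ofHom ρ₁.toRingHom) ≫ jY) ≫ g.fiberToSpecResidueField _
      rw [Category.assoc, hFM2, hjX2, Category.assoc, hjY2, ← Category.assoc, ← Spec.map_comp]
      congr 2
      refine CommRingCat.hom_ext (RingHom.ext (fun k => ?_))
      show (1 : C) ⊗ₜ[A] k = ρ₁ ((1 : B) ⊗ₜ[A] k)
      simp [ρ₁]
  -- the chart of `X_s` lands in the open where the fibre map is smooth
  let O : ((f ≫ g).fiber ((f ≫ g) x)).Opens := ((f ≫ g).fiberι ((f ≫ g) x)) ⁻¹ᵁ U'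
  have hrange : Set.range jX ⊆ Set.range O.ι := by
    rintro _ ⟨z, rfl⟩
    rw [Scheme.Opens.range_ι]
    show (f ≫ g).fiberι _ (jX z) ∈ U'
    rw [← Scheme.Hom.comp_apply, hjX1, Scheme.Hom.comp_apply]
    apply hVU'
    have : hV.fromSpec ((Spec.map (CommRingCat.ofHom (algebraMap Γ(X, V)
        (Γ(X, V) ⊗[Γ(S, S₀)] p.asIdeal.ResidueField)))) z) ∈ Set.range hV.fromSpec :=
      ⟨_, rfl⟩
    rw [hV.range_fromSpec] at this
    exact this
  let l := IsOpenImmersion.lift O.ι jX hrange
  have hl : l ≫ O.ι = jX := IsOpenImmersion.lift_fac _ _ _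
  haveI : IsOpenImmersion (l ≫ O.ι) := by rw [hl]; infer_instance
  haveI : IsOpenImmersion l := IsOpenImmersion.of_comp l O.ι
  haveI : Smooth (O.ι ≫ FM) := hfib
  have h1 : Smooth (jX ≫ FM) := by
    rw [← hl, Category.assoc]
    infer_instance
  rw [hcompat] at h1
  have h2 : Smooth (Spec.map (CommRingCat.ofHom ρ₁.toRingHom)) :=
    MorphismProperty.of_postcomp (W := @Smooth) (W' := @IsOpenImmersion) _ jY inferInstance h1
  have h4 : ρ₁.toRingHom.Smooth :=
    (HasRingHomProperty.Spec_iff (P := @Smooth) (φ := CommRingCat.ofHom ρ₁.toRingHom)).mp h2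
  -- convert to the `κ`-left convention
  have h5 : (Algebra.TensorProduct.map (AlgHom.id A p.asIdeal.ResidueField)
      (IsScalarTower.toAlgHom A B C)).toRingHom.FormallySmooth := by
    have hc : (Algebra.TensorProduct.map (AlgHom.id A p.asIdeal.ResidueField)
        (IsScalarTower.toAlgHom A B C)).toRingHom =
        ((Algebra.TensorProduct.comm A C p.asIdeal.ResidueField).toAlgHom.toRingHom.comp
          ρ₁.toRingHom).comp
          (Algebra.TensorProduct.comm A p.asIdeal.ResidueField B).toAlgHom.toRingHom := by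
      have : (Algebra.TensorProduct.map (AlgHom.id A p.asIdeal.ResidueField)
          (IsScalarTower.toAlgHom A B C)) =
          ((Algebra.TensorProduct.comm A C p.asIdeal.ResidueField).toAlgHom.comp ρ₁).comp
          (Algebra.TensorProduct.comm A p.asIdeal.ResidueField B).toAlgHom := by
        apply Algebra.TensorProduct.ext'
        intro a b
        rfl
      exact congrArg AlgHom.toRingHom this
    rw [hc]
    refine RingHom.FormallySmooth.comp ?_ (RingHom.FormallySmooth.comp h4.formallySmooth ?_)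
    · exact RingHom.FormallySmooth.of_bijective
        (Algebra.TensorProduct.comm A p.asIdeal.ResidueField B).bijective
    · exact RingHom.FormallySmooth.of_bijective
        (Algebra.TensorProduct.comm A C p.asIdeal.ResidueField).bijective
  -- ring lemma
  have h6 : Algebra.FormallySmooth B (Localization.AtPrime q.asIdeal) :=
    isSmoothAt_of_flat_of_fibre (A := A) (B := B) (C := C) p.asIdeal q.asIdeal hflat' h5
  exact (formallySmooth_stalkMap_iff W hW V hV hVW hxV).mpr h6

end Groth.Agent.Lib.Helper3.FibSmSch
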