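import Groth.Prelude.Def_ProCons

/-!
Complements of ind- and pro-constructible sets.
-/

set_option autoImplicit false

namespace Groth.Agent.Lib.Helper5

open Topology
open scoped Set.Notation

variable {X : Type*} [TopologicalSpace X]

theorem isLocallyConstructible_compl {s : Set X} (hs : IsLocallyConstructible s) :
    IsLocallyConstructible sᶜ := by
  intro x
  obtain ⟨U, hU, hUo, hUs⟩ := hs x
  refine ⟨U, hU, hUo, ?_⟩
  rw [Set.preimage_compl]
  exact hUs.compl

theorem isProConstructible_compl {E : Set X} (hE : ProCons.IsIndConstructible E) :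
    ProCons.IsProConstructible Eᶜ := by
  intro x
  obtain ⟨U, hU, hxU, S, hS, hES⟩ := hE x
  refine ⟨U, hU, hxU, compl '' S, ?_, ?_⟩
  · rintro _ ⟨T, hT, rfl⟩
    exact isLocallyConstructible_compl (hS T hT)
  · rw [Set.preimage_compl, hES]
    ext y
    simp

theorem isIndConstructible_compl {E : Set X} (hE : ProCons.IsProConstructible E) :
    ProCons.IsIndConstructible Eᶜ := by
  intro x
  obtain ⟨U, hU, hxU, S, hS, hES⟩ := hE x
  refine ⟨U, hU, hxU, compl '' S, ?_, ?_⟩
  · rintro _ ⟨T, hT, rfl⟩
    exact isLocallyConstructible_compl (hS T hT)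
  · rw [Set.preimage_compl, hES]
    ext y
    simp

theorem isProConstructible_of_compl {E : Set X} (hE : ProCons.IsIndConstructible Eᶜ) :
    ProCons.IsProConstructible E := by
  have := isProConstructible_compl hE
  rwa [compl_compl] at this

theorem isIndConstructible_of_compl {E : Set X} (hE : ProCons.IsProConstructible Eᶜ) :
    ProCons.IsIndConstructible E := by
  have := isIndConstructible_compl hE
  rwa [compl_compl] at this

end Groth.Agent.Lib.Helper5
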