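import Mathlib
import Groth.Agent.Lib.Helper5Compl

/-!
# Fibrewise surjectivity and Chevalley (helper3)
-/

set_option autoImplicit false
set_option linter.style.haveILetI false

universe u

open CategoryTheory CategoryTheory.Limits AlgebraicGeometry Topology

namespace Groth.Agent.Lib.Helper3.FibreConstr

/-- The base change `f'` of `f : X ⟶ Y` to the fibre of `g : Y ⟶ S` over `s` is surjective iff
every point of `Y` over `s` lies in the range of `f`. -/
theorem surjective_iff_of_fibre {X Y S Y' X' : Scheme.{u}} {f : X ⟶ Y} {g : Y ⟶ S} {s : S}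
    {pY : Y' ⟶ Y} {a : Y' ⟶ Spec (S.residueField s)}
    (hY : IsPullback pY a g (S.fromSpecResidueField s))
    {pX : X' ⟶ X} {f' : X' ⟶ Y'} (hX : IsPullback pX f' f pY) :
    Function.Surjective f' ↔ s ∉ g '' (Set.range f)ᶜ := by
  have h1 := Scheme.image_preimage_eq_of_isPullback hX Set.univ
  rw [Set.preimage_univ, Set.image_univ, Set.image_univ] at h1
  have h2 := Scheme.image_preimage_eq_of_isPullback hY.flip Set.univ
  rw [Set.preimage_univ, Set.image_univ, Set.image_univ, Scheme.range_fromSpecResidueField] at h2
  rw [← Set.range_eq_univ, h1]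
  constructor
  · rintro h ⟨y, hy, rfl⟩
    have hy' : y ∈ Set.range pY := by rw [h2]; rfl
    obtain ⟨y', rfl⟩ := hy'
    have : y' ∈ pY ⁻¹' Set.range f := h ▸ Set.mem_univ y'
    exact hy this
  · intro h
    rw [Set.eq_univ_iff_forall]
    intro y'
    by_contra hy
    apply h
    refine ⟨pY y', hy, ?_⟩
    have : pY y' ∈ Set.range pY := ⟨y', rfl⟩
    rw [h2] at this
    exact this

/-- Chevalley: the set of `s` over which every point of `Y` is in the image of `f` is locally
constructible. -/
theorem isLocallyConstructible_compl_image_compl_range {X Y S : Scheme.{u}} (f : X ⟶ Y) (g : Y ⟶ S)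
    [LocallyOfFinitePresentation f] [QuasiCompact f]
    [LocallyOfFinitePresentation g] [QuasiCompact g] :
    IsLocallyConstructible (g '' (Set.range f)ᶜ)ᶜ := by
  apply Groth.Agent.Lib.Helper5.isLocallyConstructible_compl
  apply g.isLocallyConstructible_image
  apply Groth.Agent.Lib.Helper5.isLocallyConstructible_compl
  rw [← Set.image_univ]
  exact f.isLocallyConstructible_image IsLocallyConstructible.univ

/-- the fibre square of `f` over `s`. -/
theorem isPullback_fibreMap {X Y S : Scheme.{u}} (f : X ⟶ Y) (g : Y ⟶ S) (s : S) :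
    IsPullback (pullback.fst (f ≫ g) (S.fromSpecResidueField s))
      (pullback.lift (pullback.fst (f ≫ g) (S.fromSpecResidueField s) ≫ f)
        (pullback.snd (f ≫ g) (S.fromSpecResidueField s))
        ((Category.assoc _ _ _).trans pullback.condition) :
        pullback (f ≫ g) (S.fromSpecResidueField s) ⟶ pullback g (S.fromSpecResidueField s))
      f (pullback.fst g (S.fromSpecResidueField s)) := by
  refine IsPullback.of_bot ?_ (pullback.lift_fst _ _ _).symm
    (IsPullback.of_hasPullback g (S.fromSpecResidueField s))
  rw [pullback.lift_snd]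
  exact IsPullback.of_hasPullback (f ≫ g) (S.fromSpecResidueField s)

end Groth.Agent.Lib.Helper3.FibreConstr
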