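import Mathlib
import Groth.Agent.Lib.Helper5LocusGeneric
import Groth.Agent.Lib.Helper2GenFree
import Groth.Agent.Lib.Helper20SmoothFiberSch
import Groth.Agent.Lib.Helper20SmoothDescSch

/-!
# Constructibility of the fibrewise smooth locus (EGA IV 9.9.4-type) (helper5)

* `Lsm f`: the set of points `x` of the source of `f` at which the fibre of `f` through `x` is
  smooth over the residue field of `f x`.
* `isLocallyConstructible_lsm`: for `f` locally of finite presentation, `Lsm f` is locally
  constructible.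
-/

set_option autoImplicit false
set_option linter.style.haveILetI false
universe u
open CategoryTheory CategoryTheory.Limits AlgebraicGeometry Topology TensorProduct TopologicalSpace

namespace Groth.Agent.Lib.Helper5.FibSmConstr
open Groth.Agent.Lib.Helper5.LocusGeneric Groth.Agent.Lib.Helper20.FlatDesc
  Groth.Agent.Lib.Helper2.GenFree

/-- The locus where the fibre is smooth over the residue field. -/
def Lsm {X Y : Scheme.{u}} (f : X ⟶ Y) : Set X :=
  {x | ((f.fiberToSpecResidueField (f x)).stalkMap (f.asFiber x)).hom.FormallySmooth}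

/-- Points over the smooth locus lie in the smooth locus of the base change. -/
theorem formallySmooth_stalkMap_pullback_snd {X Y Y' : Scheme.{u}} (f : X ⟶ Y)
    [LocallyOfFinitePresentation f] (g : Y' ⟶ Y)
    (w : ↑(pullback f g)) (hw : (f.stalkMap (pullback.fst f g w)).hom.FormallySmooth) :
    ((pullback.snd f g).stalkMap w).hom.FormallySmooth := by
  obtain ⟨U, hxU, hU⟩ := exists_smooth_nbhd f _ hw
  have hE : Smooth (((pullback.fst f g) ⁻¹ᵁ U).ι ≫ pullback.snd f g) :=
    MorphismProperty.of_isPullback (P := @Smooth)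
      ((isPullback_morphismRestrict (pullback.fst f g) U).paste_vert
        (IsPullback.of_hasPullback f g)) hU
  exact formallySmooth_stalkMap_of_nbhd _ w ((pullback.fst f g) ⁻¹ᵁ U) hxU

/-- Smoothness at a point is invariant under flat base change. -/
theorem formallySmooth_stalkMap_iff_of_isPullback {P Z T T' : Scheme.{u}} {p : P ⟶ Z}
    {q' : P ⟶ T'} {q : Z ⟶ T} {g0 : T' ⟶ T} [LocallyOfFinitePresentation q] [Flat g0]
    (hsq : IsPullback p q' q g0) (w : P) :
    (q'.stalkMap w).hom.FormallySmooth ↔ (q.stalkMap (p w)).hom.FormallySmooth := by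
  have h1 : (q'.stalkMap w).hom.FormallySmooth ↔
      ((pullback.snd q g0).stalkMap (hsq.isoPullback.hom w)).hom.FormallySmooth :=
    (stalkMap_congr_iff (Q := fun φ => RingHom.FormallySmooth φ)
      hsq.isoPullback_hom_snd.symm w).trans
      (stalkMap_comp_iff_left RingHom.FormallySmooth.respectsIso _ _ w)
  have h2 : pullback.fst q g0 (hsq.isoPullback.hom w) = p w := by
    rw [← Scheme.Hom.comp_apply, hsq.isoPullback_hom_fst]
  rw [h1, ← h2]
  constructor
  · exact formallySmooth_stalkMap_of_flat_baseChange q g0 _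
  · exact formallySmooth_stalkMap_pullback_snd q g0 _

theorem fiber_transport {X Y : Scheme.{u}} (f : X ⟶ Y) {y₁ y₂ : Y} (hy : y₁ = y₂)
    (z₁ : f.fiber y₁) (z₂ : f.fiber y₂) (hz : f.fiberι y₁ z₁ = f.fiberι y₂ z₂) :
    ((f.fiberToSpecResidueField y₁).stalkMap z₁).hom.FormallySmooth ↔
      ((f.fiberToSpecResidueField y₂).stalkMap z₂).hom.FormallySmooth := by
  subst hy
  obtain rfl : z₁ = z₂ := (f.fiberι y₁).isEmbedding.injective hz
  rfl

theorem lfp_fiberToSpecResidueField {X Y : Scheme.{u}} (f : X ⟶ Y)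
    [LocallyOfFinitePresentation f] (y : Y) :
    LocallyOfFinitePresentation (f.fiberToSpecResidueField y) := by
  dsimp only [Scheme.Hom.fiberToSpecResidueField]
  exact MorphismProperty.pullback_snd (P := @LocallyOfFinitePresentation) f _ inferInstance

theorem lsm_baseChange {X Y X' Y' : Scheme.{u}} (f : X ⟶ Y) (g : Y' ⟶ Y) (g' : X' ⟶ X)
    (f' : X' ⟶ Y') (hf : LocallyOfFinitePresentation f) (hsq : IsPullback g' f' f g) :
    Lsm f' = g' ⁻¹' Lsm f := by
  ext x'
  obtain ⟨h, hpb, hcomm⟩ : ∃ h : f'.fiber (f' x') ⟶ f.fiber (g (f' x')),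
      IsPullback h (f'.fiberToSpecResidueField (f' x'))
        (f.fiberToSpecResidueField (g (f' x'))) (Spec.map (g.residueFieldMap (f' x'))) ∧
      h ≫ f.fiberι (g (f' x')) = f'.fiberι (f' x') ≫ g' :=
    ⟨_, isPullback_fiberToSpecResidueField_of_isPullback hsq (f' x'), pullback.lift_fst _ _ _⟩
  have hw₁ : f.fiberι (g (f' x')) (h (f'.asFiber x')) = g' x' := by
    rw [← Scheme.Hom.comp_apply, hcomm, Scheme.Hom.comp_apply, f'.fiberι_asFiber]
  have hyy : g (f' x') = f (g' x') := by
    rw [← Scheme.Hom.comp_apply, ← Scheme.Hom.comp_apply, hsq.w]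
  haveI := lfp_fiberToSpecResidueField f (g (f' x'))
  haveI : Subsingleton ↥(Spec (Y.residueField (g (f' x')))) :=
    inferInstanceAs (Subsingleton (PrimeSpectrum (Y.residueField (g (f' x')))))
  haveI : Flat (Spec.map (g.residueFieldMap (f' x'))) := inferInstance
  show ((f'.fiberToSpecResidueField (f' x')).stalkMap (f'.asFiber x')).hom.FormallySmooth ↔
    ((f.fiberToSpecResidueField (f (g' x'))).stalkMap (f.asFiber (g' x'))).hom.FormallySmooth
  rw [formallySmooth_stalkMap_iff_of_isPullback hpb (f'.asFiber x')]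
  exact fiber_transport f hyy _ _ (hw₁.trans (f.fiberι_asFiber _).symm)

theorem lsm_openImmersion {X Y U : Scheme.{u}} (f : X ⟶ Y) (j : U ⟶ X)
    (hj : IsOpenImmersion j) : Lsm (j ≫ f) = j ⁻¹' Lsm f := by
  ext u
  let h : (j ≫ f).fiber ((j ≫ f) u) ⟶ f.fiber ((j ≫ f) u) :=
    pullback.lift ((j ≫ f).fiberι ((j ≫ f) u) ≫ j)
      ((j ≫ f).fiberToSpecResidueField ((j ≫ f) u))
      (by rw [Category.assoc]; exact pullback.condition)
  have h1 : h ≫ f.fiberι ((j ≫ f) u) = (j ≫ f).fiberι ((j ≫ f) u) ≫ j := pullback.lift_fst _ _ _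
  have h2 : h ≫ f.fiberToSpecResidueField ((j ≫ f) u) =
      (j ≫ f).fiberToSpecResidueField ((j ≫ f) u) := pullback.lift_snd _ _ _
  have hbig : IsPullback ((j ≫ f).fiberι ((j ≫ f) u))
      (h ≫ f.fiberToSpecResidueField ((j ≫ f) u)) (j ≫ f)
      (Y.fromSpecResidueField ((j ≫ f) u)) := by
    rw [h2]
    exact IsPullback.of_hasPullback _ _
  have hbot : IsPullback (f.fiberι ((j ≫ f) u)) (f.fiberToSpecResidueField ((j ≫ f) u)) f
      (Y.fromSpecResidueField ((j ≫ f) u)) := IsPullback.of_hasPullback _ _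
  have htop : IsPullback ((j ≫ f).fiberι ((j ≫ f) u)) h j (f.fiberι ((j ≫ f) u)) :=
    IsPullback.of_bot hbig h1.symm hbot
  haveI : IsOpenImmersion h := MorphismProperty.of_isPullback (P := @IsOpenImmersion) htop hj
  have h3 : (((j ≫ f).fiberToSpecResidueField ((j ≫ f) u)).stalkMap
      ((j ≫ f).asFiber u)).hom.FormallySmooth ↔
      ((f.fiberToSpecResidueField ((j ≫ f) u)).stalkMap
        (h ((j ≫ f).asFiber u))).hom.FormallySmooth :=
    (stalkMap_congr_iff (Q := fun φ => RingHom.FormallySmooth φ) h2.symm _).trans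
      (stalkMap_comp_iff_left RingHom.FormallySmooth.respectsIso _ _ _)
  have hw : f.fiberι ((j ≫ f) u) (h ((j ≫ f).asFiber u)) = j u := by
    rw [← Scheme.Hom.comp_apply, h1, Scheme.Hom.comp_apply, (j ≫ f).fiberι_asFiber]
  show (((j ≫ f).fiberToSpecResidueField ((j ≫ f) u)).stalkMap
      ((j ≫ f).asFiber u)).hom.FormallySmooth ↔
    ((f.fiberToSpecResidueField (f (j u))).stalkMap (f.asFiber (j u))).hom.FormallySmooth
  rw [h3]
  exact fiber_transport f (Scheme.Hom.comp_apply j f u) _ _
    (hw.trans (f.fiberι_asFiber _).symm)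

/-- At a point where `f` is flat, the fibre is smooth iff `f` is smooth. -/
theorem mem_lsm_iff_of_flat {X Y : Scheme.{u}} (f : X ⟶ Y) [LocallyOfFinitePresentation f]
    (x : X) (hfl : (f.stalkMap x).hom.Flat) :
    x ∈ Lsm f ↔ (f.stalkMap x).hom.FormallySmooth := by
  have hx : pullback.fst f (Y.fromSpecResidueField (f x)) (f.asFiber x) = x :=
    f.fiberι_asFiber x
  constructor
  · intro H
    have := formallySmooth_stalkMap_of_flat_of_field_fibre f (Y.residueField (f x))
      (Field.toIsField _) (Y.fromSpecResidueField (f x)) (f.asFiber x) H (by rw [hx]; exact hfl)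
    rwa [hx] at this
  · intro H
    exact formallySmooth_stalkMap_pullback_snd f (Y.fromSpecResidueField (f x)) (f.asFiber x)
      (by rw [hx]; exact H)

theorem lsm_eq_smoothLocus_of_flat {X Y : Scheme.{u}} (f : X ⟶ Y)
    [LocallyOfFinitePresentation f] [Flat f] : Lsm f = (f.smoothLocus : Set X) := by
  ext x
  exact mem_lsm_iff_of_flat f x (Flat.stalkMap f x)

theorem lsm_generic (A₁ B₁ : Type u) [CommRing A₁] [IsDomain A₁] [CommRing B₁]
    [Algebra A₁ B₁] [Algebra.FinitePresentation A₁ B₁] (hA₁ : Algebra.FiniteType ℤ A₁) :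
    ∃ g : A₁, g ≠ 0 ∧ IsConstructible (Lsm (Spec.map (CommRingCat.ofHom
      (algebraMap (Localization.Away g) (Localization.Away g ⊗[A₁] B₁))))) := by
  haveI : IsNoetherianRing A₁ := Algebra.FiniteType.isNoetherianRing ℤ A₁
  obtain ⟨g₂, hg₂, hfree, -, -, -⟩ := exists_freeAway A₁ B₁ B₁
  refine ⟨g₂, hg₂, ?_⟩
  haveI : Module.Free (Localization.Away g₂) (Localization.Away g₂ ⊗[A₁] B₁) :=
    hfree.free (Localization.Away g₂) (TensorProduct.mk A₁ (Localization.Away g₂) B₁ 1)
  haveI hfp1 : Algebra.FinitePresentation A₁ (Localization.Away g₂) :=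
    IsLocalization.Away.finitePresentation g₂
  have hft1 : Algebra.FiniteType A₁ (Localization.Away g₂) := inferInstance
  have hft2 : Algebra.FiniteType ℤ (Localization.Away g₂) := Algebra.FiniteType.trans hA₁ hft1
  have hft3 : Algebra.FiniteType ℤ (Localization.Away g₂ ⊗[A₁] B₁) :=
    Algebra.FiniteType.trans hft2 inferInstance
  haveI : IsNoetherianRing (Localization.Away g₂ ⊗[A₁] B₁) :=
    Algebra.FiniteType.isNoetherianRing ℤ _
  haveI : NoetherianSpace ↥(Spec (CommRingCat.of (Localization.Away g₂ ⊗[A₁] B₁))) :=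
    inferInstanceAs (NoetherianSpace (PrimeSpectrum (Localization.Away g₂ ⊗[A₁] B₁)))
  haveI : Flat (Spec.map (CommRingCat.ofHom
      (algebraMap (Localization.Away g₂) (Localization.Away g₂ ⊗[A₁] B₁)))) :=
    Flat.SpecMap_iff.mpr (RingHom.flat_algebraMap_iff.mpr inferInstance)
  haveI : LocallyOfFinitePresentation (Spec.map (CommRingCat.ofHom
      (algebraMap (Localization.Away g₂) (Localization.Away g₂ ⊗[A₁] B₁)))) := by
    rw [LocallyOfFinitePresentation.SpecMap_iff, CommRingCat.hom_ofHom,
      RingHom.finitePresentation_algebraMap]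
    infer_instance
  apply IsOpen.isConstructible_of_noetherianSpace
  rw [lsm_eq_smoothLocus_of_flat]
  exact (Scheme.Hom.smoothLocus _).2

/-- **EGA IV 9.9.4-type**: for `f` locally of finite presentation, the set of points at which the
fibre of `f` is smooth over the residue field is locally constructible. -/
theorem isLocallyConstructible_lsm {X Y : Scheme.{u}} (f : X ⟶ Y)
    [LocallyOfFinitePresentation f] : IsLocallyConstructible (Lsm f) := by
  refine isLocallyConstructible_locus_int (fun {X Y} f => Lsm f)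
    (fun f g g' f' hf hsq => lsm_baseChange f g g' f' hf hsq)
    (fun f j hj _ => lsm_openImmersion f j hj) ?_ f
  intro A B φ hA hφ
  exact isConstructible_of_generic (fun {X Y} f => Lsm f)
    (fun f g g' f' hf hsq => lsm_baseChange f g g' f' hf hsq)
    (fun A₁ B₁ _ _ _ _ _ hA₁ => lsm_generic A₁ B₁ hA₁) φ hA hφ

end Groth.Agent.Lib.Helper5.FibSmConstr
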