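import Mathlib
import Groth.Agent.Lib.Helper5FibSmConstr
import Groth.Agent.Lib.Helper3ConsOfLocus
import Groth.Agent.Lib.Helper3ForallFiber
import Groth.Agent.Lib.Helper3FibreConstr
import Groth.Agent.Lib.Helper3FibSmSch
import Groth.Agent.Lib.Helper11GenFlat
import Groth.Agent.Lib.Helper20FiberSq
import Groth.Agent.Lib.Helper20EtLocalSch
import Groth.Agent.Lib.Helper20FlatDescSch

/-!
# Smooth / unramified / étale fibre maps: constructibility of the locus in the base (helper5)

For `f : X ⟶ Y` over `S` (`g : Y ⟶ S`), the relations "the map of fibres `f_s : X_s ⟶ Y_s` is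
smooth / formally unramified" are constructible properties of morphisms in the sense of
`ConsProp.IsConsMor`.
-/

set_option autoImplicit false
set_option linter.style.haveILetI false
universe u
open CategoryTheory CategoryTheory.Limits AlgebraicGeometry Topology TopologicalSpace

namespace Groth.Agent.Lib.Helper5.FibMorLoci
open Groth.Agent.Lib.Helper5.LocusGeneric Groth.Agent.Lib.Helper5.FibSmConstr
  Groth.Agent.Lib.Helper20.FlatDesc Groth.Agent.Lib.Helper20.EtLocal
  Groth.Agent.Lib.Helper3.ConsOfLocus Groth.Agent.Lib.Helper3.FibreConstr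
  Groth.Agent.Lib.Helper3.FibSmSch Groth.Agent.Lib.Helper11GenFlat

/-- Points over the smooth locus lie in the smooth locus of any base change. -/
theorem formallySmooth_stalkMap_of_isPullback {P Z T T' : Scheme.{u}} {p : P ⟶ Z}
    {q' : P ⟶ T'} {q : Z ⟶ T} {g0 : T' ⟶ T} [LocallyOfFinitePresentation q]
    (hsq : IsPullback p q' q g0) (w : P) (H : (q.stalkMap (p w)).hom.FormallySmooth) :
    (q'.stalkMap w).hom.FormallySmooth := by
  have h1 : (q'.stalkMap w).hom.FormallySmooth ↔
      ((pullback.snd q g0).stalkMap (hsq.isoPullback.hom w)).hom.FormallySmooth :=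
    (stalkMap_congr_iff (Q := fun φ => RingHom.FormallySmooth φ)
      hsq.isoPullback_hom_snd.symm w).trans
      (stalkMap_comp_iff_left RingHom.FormallySmooth.respectsIso _ _ w)
  have h2 : pullback.fst q g0 (hsq.isoPullback.hom w) = p w := by
    rw [← Scheme.Hom.comp_apply, hsq.isoPullback_hom_fst]
  rw [h1]
  rw [← h2] at H
  exact formallySmooth_stalkMap_pullback_snd q g0 _ H

/-- The cartesian square expressing the map of fibres as a base change of `f`. -/
theorem isPullback_fiberMap {X Y S : Scheme.{u}} (f : X ⟶ Y) (g : Y ⟶ S) (s : S) :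
    IsPullback ((f ≫ g).fiberι s) (MoreMor.fiberMap f g s) f (g.fiberι s) :=
  isPullback_fibreMap f g s

theorem fiberMapOver_eq {X Y S : Scheme.{u}} (f : X ⟶ Y) (g : Y ⟶ S) (s : S) :
    CohIII.fiberMapOver f (f ≫ g) g rfl s = MoreMor.fiberMap f g s := by
  apply pullback.hom_ext
  · exact (pullback.lift_fst _ _ _).trans (pullback.lift_fst _ _ _).symm
  · exact (pullback.lift_snd _ _ _).trans
      ((Category.comp_id _).trans (pullback.lift_snd _ _ _).symm)

theorem prop_fiberMap_iff (Q : MorphismProperty Scheme.{u}) [Q.RespectsIso] {X Y S : Scheme.{u}}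
    (f : X ⟶ Y) (g : Y ⟶ S) (s : S) :
    Q (MoreMor.fiberMap f g s) ↔ Q (pullback.snd f (g.fiberι s)) := by
  have hsq := isPullback_fiberMap f g s
  rw [← hsq.isoPullback_hom_snd]
  exact Q.cancel_left_of_respectsIso _ _

theorem exists_fiber_point {X S : Scheme.{u}} (h : X ⟶ S) (s : S) (x : X) (hx : h x = s) :
    ∃ w : h.fiber s, h.fiberι s w = x := by
  have : x ∈ Set.range (h.fiberι s) := by
    rw [Scheme.Hom.range_fiberι]
    exact hx
  exact this

theorem fiberι_mem {X S : Scheme.{u}} (h : X ⟶ S) (s : S) (w : h.fiber s) :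
    h (h.fiberι s w) = s := by
  have : h.fiberι s w ∈ Set.range (h.fiberι s) := ⟨w, rfl⟩
  rw [Scheme.Hom.range_fiberι] at this
  exact this

/-- Over a point `s` of the base over which `X` is flat, the map of fibres `X_s ⟶ Y_s` is smooth
iff `f` is smooth at all points of `X` over `s`. -/
theorem smooth_fiberMap_iff {X Y S : Scheme.{u}} (f : X ⟶ Y) (g : Y ⟶ S)
    [LocallyOfFinitePresentation f] [LocallyOfFinitePresentation (f ≫ g)] [LocallyOfFiniteType g]
    (s : S) (hfl : ∀ x : X, (f ≫ g) x = s → ((f ≫ g).stalkMap x).hom.Flat) :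
    Smooth (MoreMor.fiberMap f g s) ↔ ∀ x : X, (f ≫ g) x = s → x ∈ f.smoothLocus := by
  constructor
  · intro hsm x hx
    refine formallySmooth_stalkMap_of_flat_of_fibre f g x s hx (hfl x hx) ⊤ trivial ?_
    rw [fiberMapOver_eq]
    infer_instance
  · intro H
    haveI : LocallyOfFinitePresentation (MoreMor.fiberMap f g s) :=
      MorphismProperty.of_isPullback (P := @LocallyOfFinitePresentation)
        (isPullback_fiberMap f g s) inferInstance
    rw [← Scheme.Hom.smoothLocus_eq_top_iff, eq_top_iff]
    intro w _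
    exact formallySmooth_stalkMap_of_isPullback (isPullback_fiberMap f g s) w
      (H _ (fiberι_mem (f ≫ g) s w))

/-- The locus where a morphism locally of finite type is unramified. -/
def unramLocus {X Y : Scheme.{u}} (f : X ⟶ Y) [LocallyOfFiniteType f] : X.Opens :=
  ⟨{x | (f.stalkMap x).hom.FormallyUnramified}, by
    rw [isOpen_iff_forall_mem_open]
    intro x hx
    obtain ⟨U, hxU, hU⟩ := exists_formallyUnramified_nbhd f x hx
    exact ⟨U, fun z hz => formallyUnramified_stalkMap_of_nbhd f z U hz, U.2, hxU⟩⟩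

/-- The map of fibres `X_s ⟶ Y_s` is unramified iff `f` is unramified at all points of `X`
over `s`. -/
theorem unram_fiberMap_iff {X Y S : Scheme.{u}} (f : X ⟶ Y) (g : Y ⟶ S)
    [LocallyOfFiniteType f] (s : S) :
    FormallyUnramified (MoreMor.fiberMap f g s) ↔
      ∀ x : X, (f ≫ g) x = s → x ∈ unramLocus f := by
  constructor
  · intro hun x hx
    obtain ⟨w, rfl⟩ := exists_fiber_point (f ≫ g) s x hx
    exact formallyUnramified_stalkMap_of_isPullback (isPullback_fiberMap f g s) w
      (FormallyUnramified.stalkMap (MoreMor.fiberMap f g s) w)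
  · intro H
    refine of_forall_exists_nbhd (P := @FormallyUnramified) _ fun w => ?_
    obtain ⟨U, hxU, hU⟩ := exists_formallyUnramified_nbhd f _
      (H _ (fiberι_mem (f ≫ g) s w))
    refine ⟨((f ≫ g).fiberι s) ⁻¹ᵁ U, hxU, ?_⟩
    exact MorphismProperty.of_isPullback (P := @FormallyUnramified)
      ((isPullback_morphismRestrict ((f ≫ g).fiberι s) U).paste_vert
        (isPullback_fiberMap f g s)) hU

/-- A subset of an integral Noetherian base which, over a nonempty open, is the set of points
whose fibre lies in a given open subset of the source, satisfies the dichotomy. -/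
theorem dichotomy_aux {X S : Scheme.{u}} (h : X ⟶ S) [IsIntegral S] [IsNoetherian S]
    [LocallyOfFiniteType h] [QuasiCompact h] (E : Set S) (W : X.Opens) (V' : S.Opens)
    (hV' : (V' : Set S).Nonempty)
    (hE : ∀ s ∈ V', s ∈ E ↔ ∀ x : X, h x = s → x ∈ W) :
    (interior E).Nonempty ∨ (interior Eᶜ).Nonempty := by
  haveI : IsLocallyNoetherian X := LocallyOfFiniteType.isLocallyNoetherian h
  haveI : CompactSpace X := QuasiCompact.compactSpace_of_compactSpace h
  haveI : IsNoetherian X := { }
  haveI : NoetherianSpace X := inferInstance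
  have hW : IsConstructible (W : Set X) := IsOpen.isConstructible_of_noetherianSpace W.2
  have hC : IsConstructible (h '' (W : Set X)ᶜ) :=
    h.isConstructible_image (isConstructible_compl.mpr hW)
  have hEV : ∀ s ∈ V', s ∈ E ↔ s ∉ h '' (W : Set X)ᶜ := by
    intro s hs
    rw [hE s hs]
    constructor
    · rintro H ⟨x, hx, rfl⟩
      exact hx (H x rfl)
    · intro H x hx
      by_contra hne
      exact H ⟨x, hne, hx⟩
  rcases interior_nonempty_or_of_isConstructible (isConstructible_compl.mpr hC) with h1 | h1
  · left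
    have hne : (interior (h '' (W : Set X)ᶜ)ᶜ ∩ (V' : Set S)).Nonempty :=
      nonempty_preirreducible_inter isOpen_interior V'.2 h1 hV'
    refine hne.mono ?_
    apply interior_maximal _ (isOpen_interior.inter V'.2)
    rintro s ⟨hs1, hs2⟩
    exact (hEV s hs2).mpr (interior_subset hs1)
  · right
    rw [compl_compl] at h1
    have hne : (interior (h '' (W : Set X)ᶜ) ∩ (V' : Set S)).Nonempty :=
      nonempty_preirreducible_inter isOpen_interior V'.2 h1 hV'
    refine hne.mono ?_
    apply interior_maximal _ (isOpen_interior.inter V'.2)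
    rintro s ⟨hs1, hs2⟩ hsE
    exact (hEV s hs2).mp hsE (interior_subset hs1)

/-- "The map of fibres is smooth" is a constructible property of morphisms. -/
theorem isConsMor_smooth : ConsProp.IsConsMor (fun _ _ _ f _ => Smooth f) := by
  refine ⟨isFieldStableMor_of @Smooth, ?_⟩
  intro X Y S f g _ _ _ _ _ _
  haveI : IsLocallyNoetherian Y := LocallyOfFiniteType.isLocallyNoetherian g
  obtain ⟨_, _⟩ := Groth.Agent.Lib.Helper3.ForallFiber.ft_of_comp f g
  obtain ⟨V', hV', hflat⟩ := exists_open_flat (f ≫ g)
  refine dichotomy_aux (f ≫ g) _ f.smoothLocus V' hV' fun s hs => ?_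
  refine smooth_fiberMap_iff f g s fun x hx => ?_
  exact flat_stalkMap_of_nbhd (f ≫ g) x ((f ≫ g) ⁻¹ᵁ V') (by rw [← hx] at hs; exact hs)

/-- "The map of fibres is unramified" is a constructible property of morphisms. -/
theorem isConsMor_unram : ConsProp.IsConsMor (fun _ _ _ f _ => FormallyUnramified f) := by
  refine ⟨isFieldStableMor_of @FormallyUnramified, ?_⟩
  intro X Y S f g _ _ _ _ _ _
  haveI : IsLocallyNoetherian Y := LocallyOfFiniteType.isLocallyNoetherian g
  obtain ⟨_, _⟩ := Groth.Agent.Lib.Helper3.ForallFiber.ft_of_comp f g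
  haveI : Nonempty S := inferInstance
  refine dichotomy_aux (f ≫ g) _ (unramLocus f) ⊤ ⟨Classical.arbitrary S, trivial⟩
    fun s _ => ?_
  exact unram_fiberMap_iff f g s

theorem etale_iff_smooth_and_unram {X Y : Scheme.{u}} (f : X ⟶ Y) :
    Etale f ↔ Smooth f ∧ FormallyUnramified f := by
  constructor
  · intro h
    exact ⟨inferInstance, inferInstance⟩
  · rintro ⟨h1, h2⟩
    exact Etale.of_formallyUnramified_of_flat f

end Groth.Agent.Lib.Helper5.FibMorLoci
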