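import Mathlib
import Groth.Prelude.Def_W4ega4s0809p4Pair
import Groth.Agent.Lib.Helper3LocusBC
import Groth.Agent.Lib.Helper3LocusFam
import Groth.Agent.Lib.Helper3LocusPair
import Groth.Agent.Lib.Helper3BaseMap
import Groth.Agent.Lib.Helper26FGZ
import Groth.Agent.S0591
import Groth.Agent.S9218

set_option autoImplicit false
set_option linter.style.haveILetI false
universe u
open CategoryTheory CategoryTheory.Limits AlgebraicGeometry Topology

namespace Groth.Agent.Lib.Helper3.LocusMor

open Groth.Agent.Lib.Helper3.LocusBC Groth.Agent.Lib.Helper3.LocusFam Groth.Agent.Lib.Helper26.FGZ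
  Groth.Agent.Lib.Helper3.LocusPair Groth.Agent.Lib.Helper3.BaseMap

/-- the predicate "`E` is the locus of `P` for an `S`-morphism of finitely presented families". -/
def FamMor (P : ∀ ⦃X Y T : Scheme.{u}⦄, (X ⟶ Y) → (Y ⟶ T) → Prop) (S : Scheme.{u}) (E : Set S) :
    Prop :=
  ∃ (X Y : Scheme.{u}) (f : X ⟶ Y) (g : Y ⟶ S), LocallyOfFinitePresentation g ∧ QuasiCompact g ∧
    QuasiSeparated g ∧ LocallyOfFinitePresentation (f ≫ g) ∧ QuasiCompact (f ≫ g) ∧
    QuasiSeparated (f ≫ g) ∧ E = ConsProp.locusMor P f g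

/-- Descending an `S`-morphism between finitely presented schemes over a limit to a stage,
in pullback-square form. -/
theorem exists_model_mor {I : Type u} [SmallCategory I] [IsCofiltered I]
    (D : I ⥤ Scheme.{u}) (c : Cone D) (hc : IsLimit c)
    [∀ (i j : I) (f : i ⟶ j), IsAffineHom (D.map f)] [∀ i, CompactSpace (D.obj i)]
    [∀ i, QuasiSeparatedSpace (D.obj i)] {X Y : Scheme.{u}} (f : X ⟶ Y) (g : Y ⟶ c.pt)
    [LocallyOfFinitePresentation g] [QuasiCompact g] [QuasiSeparated g]
    [LocallyOfFinitePresentation (f ≫ g)] [QuasiCompact (f ≫ g)] [QuasiSeparated (f ≫ g)] :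
    ∃ (j : I) (Xj Yj : Scheme.{u}) (fj : Xj ⟶ Yj) (gj : Yj ⟶ D.obj j) (sX : X ⟶ Xj) (sY : Y ⟶ Yj),
      LocallyOfFinitePresentation gj ∧ QuasiCompact gj ∧ QuasiSeparated gj ∧
      LocallyOfFinitePresentation (fj ≫ gj) ∧ QuasiCompact (fj ≫ gj) ∧ QuasiSeparated (fj ≫ gj) ∧
      IsPullback sY g gj (c.π.app j) ∧ IsPullback sX f fj sY := by
  obtain ⟨i, Yi, gi, qY, a1, a2, a3, hY⟩ := Groth.Agent.S0591.result D c hc Y g
  obtain ⟨i', Xi, xi, qX, b1, b2, b3, hX⟩ := Groth.Agent.S0591.result D c hc X (f ≫ g)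
  let k := IsCofiltered.min i i'
  let α : k ⟶ i := IsCofiltered.minToLeft i i'
  let β : k ⟶ i' := IsCofiltered.minToRight i i'
  let yk := pullback.snd gi (D.map α)
  let xk := pullback.snd xi (D.map β)
  haveI : LocallyOfFinitePresentation yk := MorphismProperty.pullback_snd _ _ a1
  haveI : QuasiCompact yk := MorphismProperty.pullback_snd _ _ a2
  haveI : QuasiSeparated yk := MorphismProperty.pullback_snd _ _ a3
  haveI : LocallyOfFinitePresentation xk := MorphismProperty.pullback_snd _ _ b1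
  haveI : QuasiCompact xk := MorphismProperty.pullback_snd _ _ b2
  haveI : QuasiSeparated xk := MorphismProperty.pullback_snd _ _ b3
  have hY' := isPullback_move c α hY
  have hX' := isPullback_move c β hX
  haveI : CompactSpace ↥(pullback gi (D.map α) : Scheme.{u}) := QuasiCompact.compactSpace_of_compactSpace yk
  haveI : QuasiSeparatedSpace ↥(pullback gi (D.map α) : Scheme.{u}) := quasiSeparatedSpace_of_quasiSeparated yk
  haveI : CompactSpace ↥(pullback xi (D.map β) : Scheme.{u}) := QuasiCompact.compactSpace_of_compactSpace xk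
  haveI : QuasiSeparatedSpace ↥(pullback xi (D.map β) : Scheme.{u}) := quasiSeparatedSpace_of_quasiSeparated xk
  obtain ⟨j, φ, fj, sX, sY, e1, e2, e3, e4, e5, e6⟩ :=
    Groth.Agent.S9218.result D c hc k xk yk _ (f ≫ g) hX' _ g hY' f rfl
  have hYj : IsPullback sY g (pullback.snd yk (D.map φ)) (c.π.app j) := by
    refine IsPullback.of_right ?_ e5 (IsPullback.of_hasPullback yk (D.map φ))
    rw [e4, c.w φ]
    exact hY'
  have hXj : IsPullback sX (f ≫ g) (pullback.snd xk (D.map φ)) (c.π.app j) := by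
    refine IsPullback.of_right ?_ e3 (IsPullback.of_hasPullback xk (D.map φ))
    rw [e2, c.w φ]
    exact hX'
  refine ⟨j, _, _, fj, pullback.snd yk (D.map φ), sX, sY, inferInstance, inferInstance,
    inferInstance, ?_, ?_, ?_, hYj, ?_⟩
  · rw [e1]; infer_instance
  · rw [e1]; infer_instance
  · rw [e1]; infer_instance
  · refine IsPullback.of_bot ?_ e6 hYj
    rw [e1]
    exact hXj

theorem isLocusFam_famMor {P : ∀ ⦃X Y T : Scheme.{u}⦄, (X ⟶ Y) → (Y ⟶ T) → Prop}
    (hP : ConsProp.IsFieldStableMor P) : IsLocusFam (FamMor P) where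
  bc := by
    rintro S S' a E ⟨X, Y, f, g, h1, h2, h3, h4, h5, h6, rfl⟩
    refine ⟨pullback (f ≫ g) a, pullback g a, baseMap f g a, pullback.snd g a,
      inferInstance, inferInstance, inferInstance, ?_, ?_, ?_, ?_⟩
    · rw [baseMap_snd]; infer_instance
    · rw [baseMap_snd]; infer_instance
    · rw [baseMap_snd]; infer_instance
    · exact (locusMor_eq_preimage hP (IsPullback.of_hasPullback g a)
        (isPullback_baseMap f g a)).symm
  approx := by
    rintro A E ⟨X, Y, f, g, h1, h2, h3, h4, h5, h6, rfl⟩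
    obtain ⟨j, Xj, Yj, fj, gj, sX, sY, c1, c2, c3, c4, c5, c6, hY, hX⟩ :=
      @exists_model_mor _ _ _ (specDiagram A) (specCone A) (specIsLimit A) _ _ _ X Y f g
        h1 h2 h3 h4 h5 h6
    have hfam : FamMor P ((specDiagram A).obj j) (ConsProp.locusMor P fj gj) :=
      ⟨_, _, _, _, c1, c2, c3, c4, c5, c6, rfl⟩
    have hloc : ConsProp.locusMor P f g = (specCone A).π.app j ⁻¹' ConsProp.locusMor P fj gj := by
      haveI : LocallyOfFiniteType gj := inferInstance
      haveI : LocallyOfFiniteType (fj ≫ gj) := inferInstance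
      exact locusMor_eq_preimage hP hY hX
    exact ⟨CommRingCat.of j.unop.1, CommRingCat.ofHom (algebraMap j.unop.1 A), _,
      noeth_fgSub A j.unop, hfam, hloc⟩

end Groth.Agent.Lib.Helper3.LocusMor
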