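import Mathlib
import Groth.Agent.Lib.Helper6GenNowhere
import Groth.Agent.Lib.Helper4FibDimK
import Groth.Agent.Lib.Helper3ConsOfLocus
import Groth.Agent.Lib.Helper3ForallFiber
import Groth.Agent.Lib.Helper5FibMorLoci
import Groth.Agent.S3403
import Groth.Agent.S3402
import Groth.Agent.S5880

set_option autoImplicit false
set_option linter.style.haveILetI false
set_option linter.unusedVariables false
universe u
open CategoryTheory CategoryTheory.Limits AlgebraicGeometry Topology TopologicalSpace

namespace Groth.Agent.Lib.Helper6.FibDom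

open Groth.Agent.Lib.Helper4.FibDim

/-- flat base change preserves dominance (Noetherian source). -/
theorem isDominant_of_isPullback_of_flat {X X' Y Y' : Scheme.{u}} {f : X ⟶ Y} {f' : X' ⟶ Y'}
    {eX : X' ⟶ X} {eY : Y' ⟶ Y} (h : IsPullback eX f' f eY) [Flat eY] [NoetherianSpace X]
    (hf : IsDominant f) : IsDominant f' := by
  refine ⟨fun y' => ?_⟩
  rw [mem_closure_iff]
  intro o ho hy'o
  have h1 : eY y' ∈ closure ((f : X → Y) '' Set.univ) := by
    rw [Set.image_univ]; exact hf.denseRange (eY y')
  obtain ⟨a, -, ha⟩ := exists_specializes_of_mem_closure_image (f : X → Y) f.continuous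
    Set.univ isClosed_univ _ h1
  obtain ⟨y₁, hy₁, hy₁a⟩ := Flat.generalizingMap eY ha
  obtain ⟨x', hx'1, hx'2⟩ := Scheme.exists_preimage_of_isPullback h a y₁ hy₁a.symm
  exact ⟨y₁, hy₁.mem_open ho hy'o, x', hx'2⟩

/-- dominance descends along surjective base change. -/
theorem isDominant_of_isPullback_of_surjective {X X' Y Y' : Scheme.{u}} {f : X ⟶ Y} {f' : X' ⟶ Y'}
    {eX : X' ⟶ X} {eY : Y' ⟶ Y} (h : IsPullback eX f' f eY) [Surjective eY]
    (hf : IsDominant f') : IsDominant f := by
  haveI : IsDominant (eX ≫ f) := by rw [h.w]; infer_instance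
  exact IsDominant.of_comp eX f

theorem isLocallyNoetherian_of_onePoint (T : Scheme.{u}) [IsIntegral T] [Subsingleton T] :
    IsLocallyNoetherian T := by
  have hF := isField_of_isIntegral_of_subsingleton T
  letI := hF.toField
  haveI : IsNoetherianRing Γ(T, ⊤) := inferInstance
  exact isLocallyNoetherian_of_isOpenImmersion T.isoSpec.hom

theorem isFieldStableMor_isDominant :
    ConsProp.IsFieldStableMor.{u} (fun X Y T f g => IsDominant f) := by
  intro X X' Y Y' T T' f g f' g' eX eY h _ _ _ _ _ _ _ _ hY hX
  have hfpqc : (@Surjective ⊓ @Flat ⊓ @QuasiCompact : MorphismProperty Scheme.{u}) eY :=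
    MorphismProperty.of_isPullback hY.flip (Groth.Agent.Lib.Helper3.ConsOfLocus.fpqc_of_onePoint.{u} h)
  haveI : Surjective eY := hfpqc.1.1
  haveI : Flat eY := hfpqc.1.2
  haveI : IsLocallyNoetherian T := isLocallyNoetherian_of_onePoint T
  haveI : CompactSpace T := inferInstance
  haveI : IsLocallyNoetherian X := LocallyOfFiniteType.isLocallyNoetherian (f ≫ g)
  haveI : CompactSpace X := QuasiCompact.compactSpace_of_compactSpace (f ≫ g)
  haveI : IsNoetherian X := {}
  exact ⟨fun hf => isDominant_of_isPullback_of_flat hX hf,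
    fun hf' => isDominant_of_isPullback_of_surjective hX hf'⟩

open Groth.Agent.Lib.Helper5.FibMorLoci in
/-- the range of the map of fibres. -/
theorem range_fiberMap {X Y S : Scheme.{u}} (f : X ⟶ Y) (g : Y ⟶ S) (s : S) :
    Set.range (MoreMor.fiberMap f g s) = (g.fiberι s) ⁻¹' Set.range f := by
  have := Scheme.image_preimage_eq_of_isPullback (isPullback_fiberMap f g s) Set.univ
  rw [Set.preimage_univ, Set.image_univ, Set.image_univ] at this
  exact this

theorem isDominant_fiberMap_iff {X Y S : Scheme.{u}} (f : X ⟶ Y) (g : Y ⟶ S) (s : S) :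
    IsDominant (MoreMor.fiberMap f g s) ↔ Dense ((g.fiberι s) ⁻¹' Set.range f) := by
  rw [← range_fiberMap]
  exact ⟨fun h => h.denseRange, fun h => ⟨h⟩⟩

/-- a point of a Noetherian fibre generizing the generic point of an irreducible component is
that generic point. -/
theorem eq_of_specializes_genericPoints {F : Type*} [TopologicalSpace F] [T0Space F]
    {w a : F} (hw : w ∈ genericPoints F) (h : a ⤳ w) : a = w := by
  have hC : closure ({w} : Set F) ∈ irreducibleComponents F := hw
  have h1 : closure ({w} : Set F) ⊆ closure ({a} : Set F) :=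
    closure_minimal (Set.singleton_subset_iff.mpr (specializes_iff_mem_closure.mp h))
      isClosed_closure
  have h2 : closure ({a} : Set F) ⊆ closure ({w} : Set F) :=
    hC.2 isIrreducible_singleton.closure h1
  have h3 : w ⤳ a := specializes_iff_mem_closure.mpr (h2 (subset_closure rfl))
  exact (h.antisymm h3).eq

theorem fiber_noetherianSpace {Y S : Scheme.{u}} (g : Y ⟶ S) [LocallyOfFiniteType g]
    [QuasiCompact g] (s : S) : NoetherianSpace (g.fiber s) := by
  haveI : LocallyOfFiniteType (g.fiberToSpecResidueField s) :=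
    MorphismProperty.pullback_snd _ _ inferInstance
  haveI : QuasiCompact (g.fiberToSpecResidueField s) :=
    MorphismProperty.pullback_snd _ _ inferInstance
  haveI : IsLocallyNoetherian (g.fiber s) :=
    LocallyOfFiniteType.isLocallyNoetherian (g.fiberToSpecResidueField s)
  haveI : CompactSpace (g.fiber s) :=
    QuasiCompact.compactSpace_of_compactSpace (g.fiberToSpecResidueField s)
  haveI : IsNoetherian (g.fiber s) := {}
  infer_instance

open Groth.Agent.Lib.Helper5.FibMorLoci Groth.Agent.Lib.Helper6.GenNowhere in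
theorem dichotomy_isDominant {X Y S : Scheme.{u}} (f : X ⟶ Y) (g : Y ⟶ S) [IsIntegral S]
    [IsNoetherian S] [LocallyOfFiniteType g] [QuasiCompact g] [LocallyOfFiniteType (f ≫ g)]
    [QuasiCompact (f ≫ g)] :
    (interior (ConsProp.locusMor (fun X Y T f g => IsDominant f) f g)).Nonempty ∨
      (interior (ConsProp.locusMor (fun X Y T f g => IsDominant f) f g)ᶜ).Nonempty := by
  haveI : IsLocallyNoetherian Y := LocallyOfFiniteType.isLocallyNoetherian g
  haveI : CompactSpace Y := QuasiCompact.compactSpace_of_compactSpace g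
  haveI : IsNoetherian Y := {}
  haveI : IsLocallyNoetherian X := LocallyOfFiniteType.isLocallyNoetherian (f ≫ g)
  haveI : CompactSpace X := QuasiCompact.compactSpace_of_compactSpace (f ≫ g)
  haveI : IsNoetherian X := {}
  obtain ⟨_, _⟩ := Groth.Agent.Lib.Helper3.ForallFiber.ft_of_comp f g
  set η := genericPoint S with hη
  have hR : IsConstructible (Set.range f) := by
    rw [← Set.image_univ]; exact f.isConstructible_image IsConstructible.univ
  have hloc : ∀ s, s ∈ ConsProp.locusMor (fun X Y T f g => IsDominant f) f g ↔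
      Dense ((g.fiberι s) ⁻¹' Set.range f) := fun s => isDominant_fiberMap_iff f g s
  by_cases hdom : Dense ((g.fiberι η) ⁻¹' Set.range f)
  · left
    haveI := fiber_noetherianSpace g η
    haveI := fiber_noetherianSpace (f ≫ g) η
    have hZ : IsClosed (interior (Set.range f))ᶜ := isOpen_interior.isClosed_compl
    have hnd : IsNowhereDense ((g.fiberι η) ⁻¹' (interior (Set.range f))ᶜ) := by
      have hcl := hZ.preimage (g.fiberι η).continuous
      rw [hcl.isNowhereDense_iff, Set.eq_empty_iff_forall_notMem]
      intro a ha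
      let C : irreducibleComponents (g.fiber η) :=
        ⟨irreducibleComponent a, irreducibleComponent_mem_irreducibleComponents a⟩
      let w := genericPoints.ofComponent C
      have hwa : w.1 ⤳ a :=
        (genericPoints.isGenericPoint_ofComponent C).specializes mem_irreducibleComponent
      have hw1 : w.1 ∈ interior ((g.fiberι η) ⁻¹' (interior (Set.range f))ᶜ) :=
        hwa.mem_open isOpen_interior ha
      have hw2 : g.fiberι η w.1 ∉ interior (Set.range f) := interior_subset hw1
      apply hw2
      rw [Groth.Agent.S3403.result Y _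
        ((Groth.Agent.S3402.result Y _).mp hR.isLocallyConstructible).1]
      -- generizations of the point are trivial
      have hgen : ∀ y' : Y, y' ⤳ g.fiberι η w.1 → y' = g.fiberι η w.1 := by
        intro y' hy'
        have h1 : g y' ⤳ η := by
          have := hy'.map g.continuous
          rwa [fiber_point_maps g η w.1] at this
        have h2 : g y' = η := (h1.antisymm (genericPoint_specializes _)).eq
        obtain ⟨a', rfl⟩ : y' ∈ Set.range (g.fiberι η) := by
          rw [Scheme.Hom.range_fiberι]; exact h2
        rw [(g.fiberι η).isEmbedding.isInducing.specializes_iff] at hy'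
        rw [eq_of_specializes_genericPoints w.2 hy']
      intro y' hy'
      rw [hgen y' hy']
      -- the generic point lies in the range
      have h3 : w.1 ∈ closure ((MoreMor.fiberMap f g η : _ → _) '' Set.univ) := by
        rw [Set.image_univ, range_fiberMap]; exact hdom w.1
      obtain ⟨b, -, hb⟩ := exists_specializes_of_mem_closure_image
        (MoreMor.fiberMap f g η : _ → _) (MoreMor.fiberMap f g η).continuous
        Set.univ isClosed_univ _ h3
      have hb' := eq_of_specializes_genericPoints w.2 hb
      refine ⟨(f ≫ g).fiberι η b, ?_⟩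
      rw [← hb', ← Scheme.Hom.comp_apply, ← Scheme.Hom.comp_apply, (isPullback_fiberMap f g η).w]
    obtain ⟨V, hVne, hV⟩ := Groth.Agent.Lib.Helper6.GenNowhere.main g _ hZ hnd
    refine hVne.mono (interior_maximal (fun s hs => ?_) V.isOpen)
    rw [hloc]
    have h1 := (isClosed_isNowhereDense_iff_compl.mp
      ⟨hZ.preimage (g.fiberι s).continuous, hV s hs⟩).2
    refine h1.mono ?_
    intro a ha
    have : g.fiberι s a ∈ interior (Set.range f) := by
      by_contra hcon
      exact ha hcon
    exact (interior_subset this : g.fiberι s a ∈ Set.range f)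
  · right
    rw [dense_iff_closure_eq, Set.eq_univ_iff_forall] at hdom
    push Not at hdom
    obtain ⟨a, ha⟩ := hdom
    obtain ⟨O', hO', hpre⟩ := (g.fiberι η).isEmbedding.isInducing.isOpen_iff.mp
      (isClosed_closure (s := (g.fiberι η) ⁻¹' Set.range f)).isOpen_compl
    have hE₁ : IsConstructible ((g : Y → S) '' (O' ∩ Set.range f)) :=
      g.isConstructible_image ((Groth.Agent.Lib.Helper5.LocusGeneric.IsOpen.isConstructible_of_noetherianSpace hO').inter hR)
    have hE₂ : IsConstructible ((g : Y → S) '' O') :=
      g.isConstructible_image (Groth.Agent.Lib.Helper5.LocusGeneric.IsOpen.isConstructible_of_noetherianSpace hO')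
    have hη₁ : η ∈ ((g : Y → S) '' (O' ∩ Set.range f))ᶜ := by
      rintro ⟨y, ⟨hyO, hyR⟩, hgy⟩
      obtain ⟨a', rfl⟩ : y ∈ Set.range (g.fiberι η) := by
        rw [Scheme.Hom.range_fiberι]; exact hgy
      have h1 : a' ∈ (g.fiberι η) ⁻¹' O' := hyO
      rw [hpre] at h1
      exact h1 (subset_closure hyR)
    have hη₂ : η ∈ (g : Y → S) '' O' := by
      refine ⟨g.fiberι η a, ?_, fiber_point_maps g η a⟩
      have : a ∈ (g.fiberι η) ⁻¹' O' := by rw [hpre]; exact ha
      exact this
    have h1 := Groth.Agent.Lib.Helper3.DimCons.genericPoint_mem_interior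
      (isConstructible_compl.mpr hE₁) hη₁
    have h2 := Groth.Agent.Lib.Helper3.DimCons.genericPoint_mem_interior hE₂ hη₂
    refine ⟨η, ?_⟩
    refine interior_maximal ?_ (isOpen_interior.inter isOpen_interior) ⟨h1, h2⟩
    rintro s ⟨hs1, hs2⟩ hs
    rw [hloc] at hs
    obtain ⟨y, hyO, hgy⟩ := interior_subset hs2
    obtain ⟨b, rfl⟩ : y ∈ Set.range (g.fiberι s) := by
      rw [Scheme.Hom.range_fiberι]; exact hgy
    obtain ⟨b', hb'O, hb'R⟩ := hs.inter_open_nonempty _ (hO'.preimage (g.fiberι s).continuous)
      ⟨b, hyO⟩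
    exact interior_subset hs1 ⟨g.fiberι s b', ⟨hb'O, hb'R⟩, fiber_point_maps g s b'⟩

theorem isConsMor_isDominant : ConsProp.IsConsMor.{u} (fun X Y T f g => IsDominant f) :=
  ⟨isFieldStableMor_isDominant, fun X Y S f g _ _ _ _ _ _ => dichotomy_isDominant f g⟩

end Groth.Agent.Lib.Helper6.FibDom
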