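import Mathlib
import Groth.Agent.Lib.Helper3LocusBC
import Groth.Agent.Lib.Helper3LocusFam
import Groth.Agent.Lib.Helper3LocusPair
import Groth.Agent.Lib.Helper26FGZ
import Groth.Agent.Lib.Helper22LimBC
import Groth.Agent.S0591
import Groth.Agent.S4759
import Groth.Agent.Lib.Helper5ProCons
import Groth.Agent.Lib.Helper6FibDom

set_option autoImplicit false
set_option linter.style.haveILetI false
set_option linter.unusedVariables false
universe u
open CategoryTheory CategoryTheory.Limits AlgebraicGeometry Topology TopologicalSpace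

namespace Groth.Agent.Lib.Helper6.FibSub

open Groth.Agent.Lib.Helper3.LocusBC Groth.Agent.Lib.Helper3.LocusFam
  Groth.Agent.Lib.Helper26.FGZ Groth.Agent.Lib.Helper3.LocusPair Groth.Agent.Lib.Helper22.LimBC

/-- trace of a subset on the scheme-theoretic fibre. -/
def tr {X S : Scheme.{u}} (f : X ⟶ S) (Z : Set X) (s : S) : Set (f.fiber s) :=
  (f.fiberι s) ⁻¹' Z

/-- a topological predicate on pairs of subsets which is invariant under open continuous
surjections. -/
structure IsTopInv (Q : ∀ (T : Type u) [TopologicalSpace T], Set T → Set T → Prop) : Prop where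
  inv : ∀ {T T' : Type u} [TopologicalSpace T] [TopologicalSpace T'] (p : T' → T),
    Continuous p → IsOpenMap p → Function.Surjective p → ∀ A B : Set T,
      Q T' (p ⁻¹' A) (p ⁻¹' B) ↔ Q T A B

variable (Q : ∀ (T : Type u) [TopologicalSpace T], Set T → Set T → Prop)

/-- the locus of points of the base over which the traces of `Z, Z'` on the fibre satisfy `Q`. -/
def locus {X S : Scheme.{u}} (f : X ⟶ S) (Z Z' : Set X) : Set S :=
  {s | Q (f.fiber s) (tr f Z s) (tr f Z' s)}

/-- the family of such loci for morphisms of finite presentation and locally constructible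
subsets. -/
def Fam (S : Scheme.{u}) (E : Set S) : Prop :=
  ∃ (X : Scheme.{u}) (f : X ⟶ S) (Z Z' : Set X), LocallyOfFinitePresentation f ∧ QuasiCompact f ∧
    QuasiSeparated f ∧ IsLocallyConstructible Z ∧ IsLocallyConstructible Z' ∧ E = locus Q f Z Z'

variable {Q}

theorem locus_eq_preimage (hQ : IsTopInv Q) {X S X' S' : Scheme.{u}} {f : X ⟶ S} {f' : X' ⟶ S'}
    {a : S' ⟶ S} {pX : X' ⟶ X} (hX : IsPullback pX f' f a) (Z Z' : Set X) :
    locus Q f' (pX ⁻¹' Z) (pX ⁻¹' Z') = a ⁻¹' locus Q f Z Z' := by
  ext s'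
  obtain ⟨eX, h1, h2, h3⟩ := exists_fiber_lift hX s'
  have hpt : ∀ z, f.fiberι (a s') (eX z) = pX (f'.fiberι s' z) := fun z => by
    rw [← Scheme.Hom.comp_apply, h1, Scheme.Hom.comp_apply]
  have htr : ∀ W : Set X, tr f' (pX ⁻¹' W) s' = eX ⁻¹' (tr f W (a s')) := by
    intro W
    ext z
    show pX (f'.fiberι s' z) ∈ W ↔ f.fiberι (a s') (eX z) ∈ W
    rw [hpt]
  haveI : UniversallyOpen (Spec.map (a.residueFieldMap s')) := inferInstance
  haveI : UniversallyOpen eX := MorphismProperty.of_isPullback h3.flip inferInstance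
  haveI : Surjective (Spec.map (a.residueFieldMap s')) :=
    ⟨fun x => ⟨Classical.arbitrary _, Subsingleton.elim _ _⟩⟩
  haveI : Surjective eX := MorphismProperty.of_isPullback h3.flip inferInstance
  show Q _ (tr f' (pX ⁻¹' Z) s') (tr f' (pX ⁻¹' Z') s') ↔ Q _ (tr f Z (a s')) (tr f Z' (a s'))
  rw [htr, htr]
  exact hQ.inv eX eX.continuous eX.isOpenMap eX.surjective _ _

theorem isConstructible_of_fp {X S : Scheme.{u}} (f : X ⟶ S) [QuasiCompact f] [QuasiSeparated f]
    [CompactSpace S] [QuasiSeparatedSpace S] {Z : Set X} (hZ : IsLocallyConstructible Z) :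
    IsConstructible Z := by
  haveI : CompactSpace X := QuasiCompact.compactSpace_of_compactSpace f
  haveI : QuasiSeparatedSpace X := quasiSeparatedSpace_of_quasiSeparated f
  exact hZ.isConstructible

theorem fam_approx (hQ : IsTopInv Q) (A : CommRingCat.{u}) {E : Set (Spec A)}
    (h : Fam Q (Spec A) E) :
    ∃ (A₀ : CommRingCat.{u}) (φ : A₀ ⟶ A) (E₀ : Set (Spec A₀)), IsNoetherianRing A₀ ∧
      Fam Q (Spec A₀) E₀ ∧ E = (Spec.map φ) ⁻¹' E₀ := by
  obtain ⟨X, f, Z, Z', h1, h2, h3, hZ, hZ', rfl⟩ := h
  obtain ⟨i, Xi, ui, qX, a1, a2, a3, hX⟩ :=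
    @Groth.Agent.S0591.result _ _ _ (specDiagram A) (specCone A) (specIsLimit A) _ _ _ X f h1 h2 h3
  have hZc : IsConstructible Z := isConstructible_of_fp f hZ
  have hZ'c : IsConstructible Z' := isConstructible_of_fp f hZ'
  haveI : QuasiCompact (dSnd (specDiagram A) i ui (Over.mk (𝟙 i))) :=
    MorphismProperty.pullback_snd _ _ a2
  haveI : QuasiSeparated (dSnd (specDiagram A) i ui (Over.mk (𝟙 i))) :=
    MorphismProperty.pullback_snd _ _ a3
  haveI : CompactSpace ((bcDiagram (specDiagram A) i ui).obj (Over.mk (𝟙 i))) :=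
    QuasiCompact.compactSpace_of_compactSpace (dSnd (specDiagram A) i ui (Over.mk (𝟙 i)))
  haveI : QuasiSeparatedSpace ((bcDiagram (specDiagram A) i ui).obj (Over.mk (𝟙 i))) :=
    quasiSeparatedSpace_of_quasiSeparated (dSnd (specDiagram A) i ui (Over.mk (𝟙 i)))
  obtain ⟨k, -, Zk, hZk, hZk'⟩ := Groth.Agent.S4759.result (bcDiagram (specDiagram A) i ui)
    (bcCone i hX) (isLimitBcCone i hX (specIsLimit A)) (Over.mk (𝟙 i)) Z hZc
  obtain ⟨k', -, Zk', hZk'c, hZk''⟩ := Groth.Agent.S4759.result (bcDiagram (specDiagram A) i ui)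
    (bcCone i hX) (isLimitBcCone i hX (specIsLimit A)) (Over.mk (𝟙 i)) Z' hZ'c
  let m := IsCofiltered.min k k'
  let α : m ⟶ k := IsCofiltered.minToLeft k k'
  let β : m ⟶ k' := IsCofiltered.minToRight k k'
  let D' := bcDiagram (specDiagram A) i ui
  have hm := isPullback_bcπ (D := specDiagram A) (c := specCone A) i hX m
  have e1 : (bcπ (D := specDiagram A) (c := specCone A) i hX m) ⁻¹' ((D'.map α) ⁻¹' Zk) = Z := by
    rw [← hZk', ← Set.preimage_comp]
    have : (D'.map α : _ → _) ∘ (bcπ (D := specDiagram A) (c := specCone A) i hX m : _ → _) = (bcπ (D := specDiagram A) (c := specCone A) i hX k : _ → _) := by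
      funext x
      show (D'.map α) (bcπ (D := specDiagram A) (c := specCone A) i hX m x) = bcπ (D := specDiagram A) (c := specCone A) i hX k x
      rw [← Scheme.Hom.comp_apply, bcπ_map]
    rw [this]; rfl
  have e2 : (bcπ (D := specDiagram A) (c := specCone A) i hX m) ⁻¹' ((D'.map β) ⁻¹' Zk') = Z' := by
    rw [← hZk'', ← Set.preimage_comp]
    have : (D'.map β : _ → _) ∘ (bcπ (D := specDiagram A) (c := specCone A) i hX m : _ → _) = (bcπ (D := specDiagram A) (c := specCone A) i hX k' : _ → _) := by
      funext x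
      show (D'.map β) (bcπ (D := specDiagram A) (c := specCone A) i hX m x) = bcπ (D := specDiagram A) (c := specCone A) i hX k' x
      rw [← Scheme.Hom.comp_apply, bcπ_map]
    rw [this]; rfl
  have b1 : LocallyOfFinitePresentation (dSnd (specDiagram A) i ui m) :=
    MorphismProperty.pullback_snd _ _ a1
  have b2 : QuasiCompact (dSnd (specDiagram A) i ui m) := MorphismProperty.pullback_snd _ _ a2
  have b3 : QuasiSeparated (dSnd (specDiagram A) i ui m) := MorphismProperty.pullback_snd _ _ a3
  refine ⟨CommRingCat.of m.left.unop.1, CommRingCat.ofHom (algebraMap m.left.unop.1 A),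
    locus Q (dSnd (specDiagram A) i ui m) ((D'.map α) ⁻¹' Zk) ((D'.map β) ⁻¹' Zk'),
    noeth_fgSub A m.left.unop, ?_, ?_⟩
  · exact ⟨_, dSnd (specDiagram A) i ui m, _, _, b1, b2, b3,
      ((D'.map α).isConstructible_preimage hZk).isLocallyConstructible,
      ((D'.map β).isConstructible_preimage hZk'c).isLocallyConstructible, rfl⟩
  · have := locus_eq_preimage hQ hm ((D'.map α) ⁻¹' Zk) ((D'.map β) ⁻¹' Zk')
    rw [e1, e2] at this
    exact this

theorem isLocusFam_fam (hQ : IsTopInv Q) : IsLocusFam (Fam Q) where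
  bc := by
    rintro S S' a E ⟨X, f, Z, Z', h1, h2, h3, hZ, hZ', rfl⟩
    refine ⟨pullback f a, pullback.snd f a, (pullback.fst f a) ⁻¹' Z, (pullback.fst f a) ⁻¹' Z',
      inferInstance, inferInstance, inferInstance, ?_, ?_, ?_⟩
    · exact Groth.Agent.Lib.Helper5.isLocallyConstructible_preimage _ hZ
    · exact Groth.Agent.Lib.Helper5.isLocallyConstructible_preimage _ hZ'
    · exact (locus_eq_preimage hQ (IsPullback.of_hasPullback f a) Z Z').symm
  approx := fun A E h => fam_approx hQ A h

/-- **local constructibility of fibrewise topological loci** from the dichotomy over integral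
Noetherian bases. -/
theorem isLocallyConstructible_locus (hQ : IsTopInv Q)
    (hdich : ∀ {X S : Scheme.{u}} (f : X ⟶ S) [IsIntegral S] [IsNoetherian S]
      [LocallyOfFiniteType f] [QuasiCompact f] (Z Z' : Set X), IsConstructible Z →
      IsConstructible Z' →
      (interior (locus Q f Z Z')).Nonempty ∨ (interior (locus Q f Z Z')ᶜ).Nonempty)
    {X S : Scheme.{u}} (f : X ⟶ S) [LocallyOfFinitePresentation f] [QuasiCompact f]
    [QuasiSeparated f] (Z Z' : Set X) (hZ : IsLocallyConstructible Z)
    (hZ' : IsLocallyConstructible Z') : IsLocallyConstructible (locus Q f Z Z') := by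
  refine Groth.Agent.Lib.Helper3.LocusFam.isLocallyConstructible (isLocusFam_fam hQ) ?_
    ⟨X, f, Z, Z', inferInstance, inferInstance, inferInstance, hZ, hZ', rfl⟩
  rintro S _ _ E ⟨X, f, Z, Z', h1, h2, h3, hZ, hZ', rfl⟩
  exact hdich f Z Z' (isConstructible_of_fp f hZ) (isConstructible_of_fp f hZ')

section generic

open Groth.Agent.Lib.Helper6.FibDom Groth.Agent.Lib.Helper6.GenNowhere
  Groth.Agent.Lib.Helper5.FibMorLoci

/-- generizations of the image of a generic point of the generic fibre are trivial. -/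
theorem eq_of_specializes_fiberι_genericPoints {Y S : Scheme.{u}} (g : Y ⟶ S)
    [IrreducibleSpace S] (w : g.fiber (genericPoint S)) (hw : w ∈ genericPoints _) (y' : Y)
    (h : y' ⤳ g.fiberι _ w) : y' = g.fiberι _ w := by
  have h1 : g y' ⤳ genericPoint S := by
    have := h.map g.continuous
    rwa [fiber_point_maps g _ w] at this
  have h2 : g y' = genericPoint S := (h1.antisymm (genericPoint_specializes _)).eq
  obtain ⟨a', rfl⟩ : y' ∈ Set.range (g.fiberι (genericPoint S)) := by
    rw [Scheme.Hom.range_fiberι]; exact h2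
  rw [(g.fiberι _).isEmbedding.isInducing.specializes_iff] at h
  rw [eq_of_specializes_genericPoints hw h]

/-- **generic commutation of closure with fibres** for constructible subsets. -/
theorem exists_open_closure_comm {P S : Scheme.{u}} (π : P ⟶ S) [IsIntegral S] [IsNoetherian S]
    [LocallyOfFiniteType π] [QuasiCompact π] (D : Set P) (hD : IsConstructible D) :
    ∃ V : S.Opens, genericPoint S ∈ V ∧ ∀ s ∈ V, tr π (closure D) s ⊆ closure (tr π D s) := by
  haveI : IsLocallyNoetherian P := LocallyOfFiniteType.isLocallyNoetherian π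
  haveI : CompactSpace P := QuasiCompact.compactSpace_of_compactSpace π
  haveI : IsNoetherian P := {}
  set η := genericPoint S with hη
  obtain ⟨W', ι, hι, hrι⟩ := Groth.Agent.Lib.Helper3.GenFibDim.exists_closedImmersion_range
    (isClosed_closure (s := D))
  haveI := hι
  have hDsub : D ⊆ Set.range ι := by rw [hrι]; exact subset_closure
  have hD' : IsConstructible (ι ⁻¹' D) := ι.isConstructible_preimage hD
  have hZc : IsClosed (interior (ι ⁻¹' D))ᶜ := isOpen_interior.isClosed_compl
  haveI := fiber_noetherianSpace (ι ≫ π) η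
  have hnd : IsNowhereDense (((ι ≫ π).fiberι η) ⁻¹' (interior (ι ⁻¹' D))ᶜ) := by
    have hcl := hZc.preimage ((ι ≫ π).fiberι η).continuous
    rw [hcl.isNowhereDense_iff, Set.eq_empty_iff_forall_notMem]
    intro a ha
    let C : irreducibleComponents ((ι ≫ π).fiber η) :=
      ⟨irreducibleComponent a, irreducibleComponent_mem_irreducibleComponents a⟩
    let w := genericPoints.ofComponent C
    have hwa : w.1 ⤳ a :=
      (genericPoints.isGenericPoint_ofComponent C).specializes mem_irreducibleComponent
    have hw1 : w.1 ∈ interior (((ι ≫ π).fiberι η) ⁻¹' (interior (ι ⁻¹' D))ᶜ) :=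
      hwa.mem_open isOpen_interior ha
    have hw2 : (ι ≫ π).fiberι η w.1 ∉ interior (ι ⁻¹' D) := interior_subset hw1
    apply hw2
    have hgen := eq_of_specializes_fiberι_genericPoints (ι ≫ π) w.1 w.2
    rw [Groth.Agent.S3403.result W' _
      ((Groth.Agent.S3402.result W' _).mp hD'.isLocallyConstructible).1]
    intro y' hy'
    rw [hgen y' hy']
    -- the point lies in `D`
    show ι ((ι ≫ π).fiberι η w.1) ∈ D
    have hcl' : ι ((ι ≫ π).fiberι η w.1) ∈ closure D := by rw [← hrι]; exact ⟨_, rfl⟩
    by_contra hnot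
    have hint : ι ((ι ≫ π).fiberι η w.1) ∈ interior Dᶜ := by
      rw [Groth.Agent.S3403.result P _
        ((Groth.Agent.S3402.result P _).mp hD.compl.isLocallyConstructible).1]
      intro x' hx' hx'D
      obtain ⟨y'', rfl⟩ := hDsub hx'D
      rw [ι.isClosedEmbedding.isInducing.specializes_iff] at hx'
      rw [hgen y'' hx'] at hx'D
      exact hnot hx'D
    rw [interior_compl] at hint
    exact hint hcl'
  obtain ⟨V, hVne, hV⟩ := Groth.Agent.Lib.Helper6.GenNowhere.main (ι ≫ π) _ hZc hnd
  have hηV : η ∈ V := ((genericPoint_spec S).mem_open_set_iff V.isOpen).mpr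
    (by rw [Set.univ_inter]; exact hVne)
  refine ⟨V, hηV, fun s hs b hb => ?_⟩
  have hdense : Dense (((ι ≫ π).fiberι s) ⁻¹' (ι ⁻¹' D)) := by
    have h1 := (isClosed_isNowhereDense_iff_compl.mp
      ⟨hZc.preimage ((ι ≫ π).fiberι s).continuous, hV s hs⟩).2
    refine h1.mono ?_
    intro a ha
    have : (ι ≫ π).fiberι s a ∈ interior (ι ⁻¹' D) := by
      by_contra hcon
      exact ha hcon
    exact (interior_subset this : (ι ≫ π).fiberι s a ∈ ι ⁻¹' D)
  have hb' : π.fiberι s b ∈ Set.range ι := by rw [hrι]; exact hb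
  obtain ⟨w, hw⟩ := hb'
  have hws : (ι ≫ π) w = s := by
    rw [Scheme.Hom.comp_apply]
    have : ι w = π.fiberι s b := hw
    rw [this]; exact fiber_point_maps π s b
  obtain ⟨a, rfl⟩ : w ∈ Set.range ((ι ≫ π).fiberι s) := by
    rw [Scheme.Hom.range_fiberι]; exact hws
  have hsq : ∀ a', π.fiberι s (MoreMor.fiberMap ι π s a') = ι ((ι ≫ π).fiberι s a') := by
    intro a'
    rw [← Scheme.Hom.comp_apply, ← Scheme.Hom.comp_apply, (isPullback_fiberMap ι π s).w]
  have hab : MoreMor.fiberMap ι π s a = b := by
    apply (π.fiberι s).isEmbedding.injective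
    rw [hsq]; exact hw
  rw [← hab]
  have hmaps : Set.MapsTo (MoreMor.fiberMap ι π s) (((ι ≫ π).fiberι s) ⁻¹' (ι ⁻¹' D))
      (tr π D s) := by
    intro a' ha'
    show π.fiberι s (MoreMor.fiberMap ι π s a') ∈ D
    rw [hsq]; exact ha'
  exact map_mem_closure (MoreMor.fiberMap ι π s).continuous (hdense a) hmaps

/-- a dichotomy from a constructible description near the generic point. -/
theorem dichotomy_of_iff {S : Scheme.{u}} [IsIntegral S] [IsNoetherian S] (V : S.Opens)
    (hV : genericPoint S ∈ V) (C : Set S) (hC : IsConstructible C) (E : Set S)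
    (h : ∀ s ∈ V, s ∈ E ↔ s ∉ C) : (interior E).Nonempty ∨ (interior Eᶜ).Nonempty := by
  rcases Groth.Agent.Lib.Helper3.ConsOfLocus.interior_nonempty_or_of_isConstructible hC
    with h2 | h2
  · right
    have hne : (interior C ∩ (V : Set S)).Nonempty :=
      nonempty_preirreducible_inter isOpen_interior V.2 h2 ⟨_, hV⟩
    refine hne.mono (interior_maximal ?_ (isOpen_interior.inter V.2))
    rintro s ⟨hs1, hs2⟩ hs
    exact (h s hs2).mp hs (interior_subset hs1)
  · left
    have hne : (interior Cᶜ ∩ (V : Set S)).Nonempty :=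
      nonempty_preirreducible_inter isOpen_interior V.2 h2 ⟨_, hV⟩
    refine hne.mono (interior_maximal ?_ (isOpen_interior.inter V.2))
    rintro s ⟨hs1, hs2⟩
    exact (h s hs2).mpr (interior_subset hs1)

/-- transfer of a dichotomy between sets agreeing near the generic point. -/
theorem dichotomy_congr {S : Scheme.{u}} [IsIntegral S] (V : S.Opens)
    (hV : genericPoint S ∈ V) (E E' : Set S) (h : ∀ s ∈ V, s ∈ E ↔ s ∈ E')
    (hE' : (interior E').Nonempty ∨ (interior E'ᶜ).Nonempty) :
    (interior E).Nonempty ∨ (interior Eᶜ).Nonempty := by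
  rcases hE' with h2 | h2
  · left
    have hne : (interior E' ∩ (V : Set S)).Nonempty :=
      nonempty_preirreducible_inter isOpen_interior V.2 h2 ⟨_, hV⟩
    refine hne.mono (interior_maximal ?_ (isOpen_interior.inter V.2))
    rintro s ⟨hs1, hs2⟩
    exact (h s hs2).mpr (interior_subset hs1)
  · right
    have hne : (interior E'ᶜ ∩ (V : Set S)).Nonempty :=
      nonempty_preirreducible_inter isOpen_interior V.2 h2 ⟨_, hV⟩
    refine hne.mono (interior_maximal ?_ (isOpen_interior.inter V.2))
    rintro s ⟨hs1, hs2⟩ hs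
    exact (interior_subset hs1 : s ∈ E'ᶜ) ((h s hs2).mp hs)

section dich

theorem tr_closure_eq {X S : Scheme.{u}} (f : X ⟶ S) {s : S} {Z : Set X}
    (h : tr f (closure Z) s ⊆ closure (tr f Z s)) :
    closure (tr f Z s) = tr f (closure Z) s := by
  apply Set.Subset.antisymm _ h
  exact closure_minimal (Set.preimage_mono subset_closure)
    (isClosed_closure.preimage (f.fiberι s).continuous)

theorem mem_image_iff_tr_nonempty {X S : Scheme.{u}} (f : X ⟶ S) (B : Set X) (s : S) :
    s ∈ (f : X → S) '' B ↔ (tr f B s).Nonempty := by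
  constructor
  · rintro ⟨b, hb, hfb⟩
    obtain ⟨a, rfl⟩ : b ∈ Set.range (f.fiberι s) := by
      rw [Scheme.Hom.range_fiberι]; exact hfb
    exact ⟨a, hb⟩
  · rintro ⟨a, ha⟩
    exact ⟨f.fiberι s a, ha, Groth.Agent.Lib.Helper6.GenNowhere.fiber_point_maps f s a⟩

variable {X S : Scheme.{u}} (f : X ⟶ S) [IsIntegral S] [IsNoetherian S]
  [LocallyOfFiniteType f] [QuasiCompact f]

omit [IsIntegral S] in
theorem isConstructible_image (B : Set X) (hB : IsConstructible B) :
    IsConstructible ((f : X → S) '' B) := by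
  haveI : IsLocallyNoetherian X := LocallyOfFiniteType.isLocallyNoetherian f
  exact f.isConstructible_image hB

/-- the closed locus satisfies the dichotomy. -/
theorem dichotomy_closed (Z : Set X) (hZ : IsConstructible Z) :
    (interior {s : S | IsClosed (tr f Z s)}).Nonempty ∨
      (interior {s : S | IsClosed (tr f Z s)}ᶜ).Nonempty := by
  obtain ⟨V, hV, hVc⟩ := exists_open_closure_comm f Z hZ
  have hcl : IsConstructible (closure Z) := by
    haveI : IsLocallyNoetherian X := LocallyOfFiniteType.isLocallyNoetherian f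
    haveI : CompactSpace X := QuasiCompact.compactSpace_of_compactSpace f
    haveI : IsNoetherian X := {}
    have := Groth.Agent.Lib.Helper5.LocusGeneric.IsOpen.isConstructible_of_noetherianSpace
      (isClosed_closure (s := Z)).isOpen_compl
    simpa using this.compl
  refine dichotomy_of_iff V hV ((f : X → S) '' (closure Z \ Z))
    (isConstructible_image f _ (hcl.sdiff hZ)) _ fun s hs => ?_
  rw [mem_image_iff_tr_nonempty, Set.not_nonempty_iff_eq_empty]
  have hc := tr_closure_eq f (hVc s hs)
  show IsClosed (tr f Z s) ↔ _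
  constructor
  · intro h
    rw [Set.eq_empty_iff_forall_notMem]
    rintro a ⟨ha1, ha2⟩
    have : a ∈ closure (tr f Z s) := by rw [hc]; exact ha1
    rw [h.closure_eq] at this
    exact ha2 this
  · intro h
    have : tr f Z s = tr f (closure Z) s := by
      apply Set.Subset.antisymm (Set.preimage_mono subset_closure)
      intro a ha
      by_contra hcon
      have : a ∈ tr f (closure Z \ Z) s := ⟨ha, hcon⟩
      rw [h] at this
      exact this
    rw [this]
    exact isClosed_closure.preimage (f.fiberι s).continuous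

/-- the open locus satisfies the dichotomy. -/
theorem dichotomy_open (Z : Set X) (hZ : IsConstructible Z) :
    (interior {s : S | IsOpen (tr f Z s)}).Nonempty ∨
      (interior {s : S | IsOpen (tr f Z s)}ᶜ).Nonempty := by
  have : {s : S | IsOpen (tr f Z s)} = {s : S | IsClosed (tr f Zᶜ s)} := by
    ext s
    show IsOpen (tr f Z s) ↔ IsClosed (tr f Zᶜ s)
    rw [← isOpen_compl_iff]
    have : (tr f Zᶜ s)ᶜ = tr f Z s := by
      ext a
      simp [tr]
    rw [this]
  rw [this]
  exact dichotomy_closed f Zᶜ hZ.compl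

/-- the locally closed locus satisfies the dichotomy. -/
theorem dichotomy_locallyClosed (Z : Set X) (hZ : IsConstructible Z) :
    (interior {s : S | IsLocallyClosed (tr f Z s)}).Nonempty ∨
      (interior {s : S | IsLocallyClosed (tr f Z s)}ᶜ).Nonempty := by
  obtain ⟨V, hV, hVc⟩ := exists_open_closure_comm f Z hZ
  have hcl : IsConstructible (closure Z) := by
    haveI : IsLocallyNoetherian X := LocallyOfFiniteType.isLocallyNoetherian f
    haveI : CompactSpace X := QuasiCompact.compactSpace_of_compactSpace f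
    haveI : IsNoetherian X := {}
    have := Groth.Agent.Lib.Helper5.LocusGeneric.IsOpen.isConstructible_of_noetherianSpace
      (isClosed_closure (s := Z)).isOpen_compl
    simpa using this.compl
  refine dichotomy_congr V hV _ {s : S | IsClosed (tr f (closure Z \ Z) s)} (fun s hs => ?_)
    (dichotomy_closed f _ (hcl.sdiff hZ))
  have hc := tr_closure_eq f (hVc s hs)
  show IsLocallyClosed (tr f Z s) ↔ IsClosed (tr f (closure Z \ Z) s)
  rw [isLocallyClosed_iff_isOpen_coborder, coborder, isOpen_compl_iff, hc]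
  rfl

/-- the density locus satisfies the dichotomy. -/
theorem dichotomy_dense (Z Z' : Set X) (hZ : IsConstructible Z) (hZ' : IsConstructible Z') :
    (interior {s : S | tr f Z' s ⊆ closure (tr f Z s)}).Nonempty ∨
      (interior {s : S | tr f Z' s ⊆ closure (tr f Z s)}ᶜ).Nonempty := by
  obtain ⟨V, hV, hVc⟩ := exists_open_closure_comm f Z hZ
  have hcl : IsConstructible (closure Z) := by
    haveI : IsLocallyNoetherian X := LocallyOfFiniteType.isLocallyNoetherian f
    haveI : CompactSpace X := QuasiCompact.compactSpace_of_compactSpace f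
    haveI : IsNoetherian X := {}
    have := Groth.Agent.Lib.Helper5.LocusGeneric.IsOpen.isConstructible_of_noetherianSpace
      (isClosed_closure (s := Z)).isOpen_compl
    simpa using this.compl
  refine dichotomy_of_iff V hV ((f : X → S) '' (Z' \ closure Z))
    (isConstructible_image f _ (hZ'.sdiff hcl)) _ fun s hs => ?_
  rw [mem_image_iff_tr_nonempty, Set.not_nonempty_iff_eq_empty]
  have hc := tr_closure_eq f (hVc s hs)
  show tr f Z' s ⊆ closure (tr f Z s) ↔ _
  rw [hc]
  constructor
  · intro h
    rw [Set.eq_empty_iff_forall_notMem]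
    rintro a ⟨ha1, ha2⟩
    exact ha2 (h ha1)
  · intro h a ha
    by_contra hcon
    have : a ∈ tr f (Z' \ closure Z) s := ⟨ha, hcon⟩
    rw [h] at this
    exact this

end dich

end generic

section final

theorem isTopInv_closed : IsTopInv.{u} (fun T _ A _ => IsClosed A) where
  inv p hc ho hs A B := (ho.isQuotientMap hc hs).isClosed_preimage

theorem isTopInv_open : IsTopInv.{u} (fun T _ A _ => IsOpen A) where
  inv p hc ho hs A B := (ho.isQuotientMap hc hs).isOpen_preimage

theorem isTopInv_locallyClosed : IsTopInv.{u} (fun T _ A _ => IsLocallyClosed A) where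
  inv p hc ho hs A B := by
    rw [isLocallyClosed_iff_isOpen_coborder, isLocallyClosed_iff_isOpen_coborder,
      coborder_preimage ho hc]
    exact (ho.isQuotientMap hc hs).isOpen_preimage

theorem isTopInv_dense : IsTopInv.{u} (fun T _ A B => B ⊆ closure A) where
  inv p hc ho hs A B := by
    rw [← ho.preimage_closure_eq_closure_preimage hc]
    exact ⟨fun h b hb => by
      obtain ⟨b', rfl⟩ := hs b
      exact h hb, fun h => Set.preimage_mono h⟩

variable {X S : Scheme.{u}} (f : X ⟶ S) [LocallyOfFinitePresentation f] [QuasiCompact f]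
  [QuasiSeparated f]

theorem isLocallyConstructible_closed (Z : Set X) (hZ : IsLocallyConstructible Z) :
    IsLocallyConstructible {s : S | IsClosed (tr f Z s)} :=
  isLocallyConstructible_locus isTopInv_closed
    (fun f _ _ _ _ Z _ hZ _ => dichotomy_closed f Z hZ) f Z Z hZ hZ

theorem isLocallyConstructible_open (Z : Set X) (hZ : IsLocallyConstructible Z) :
    IsLocallyConstructible {s : S | IsOpen (tr f Z s)} :=
  isLocallyConstructible_locus isTopInv_open
    (fun f _ _ _ _ Z _ hZ _ => dichotomy_open f Z hZ) f Z Z hZ hZ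

theorem isLocallyConstructible_locallyClosed (Z : Set X) (hZ : IsLocallyConstructible Z) :
    IsLocallyConstructible {s : S | IsLocallyClosed (tr f Z s)} :=
  isLocallyConstructible_locus isTopInv_locallyClosed
    (fun f _ _ _ _ Z _ hZ _ => dichotomy_locallyClosed f Z hZ) f Z Z hZ hZ

theorem isLocallyConstructible_dense (Z Z' : Set X) (hZ : IsLocallyConstructible Z)
    (hZ' : IsLocallyConstructible Z') :
    IsLocallyConstructible {s : S | tr f Z' s ⊆ closure (tr f Z s)} :=
  isLocallyConstructible_locus isTopInv_dense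
    (fun f _ _ _ _ Z Z' hZ hZ' => dichotomy_dense f Z Z' hZ hZ') f Z Z' hZ hZ'

omit [LocallyOfFinitePresentation f] [QuasiCompact f] [QuasiSeparated f] in
theorem tr_eq_preimage_fiberHomeo (Z : Set X) (s : S) :
    tr f Z s = (f.fiberHomeo s) ⁻¹' (Subtype.val ⁻¹' Z) := rfl

omit [LocallyOfFinitePresentation f] [QuasiCompact f] [QuasiSeparated f] in
theorem tr_subset_closure_iff (Z Z' : Set X) (s : S) :
    tr f Z' s ⊆ closure (tr f Z s) ↔
      Z' ∩ (f : X → S) ⁻¹' {s} ⊆ closure (Z ∩ (f : X → S) ⁻¹' {s}) := by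
  have himg : (f.fiberι s) '' (tr f Z s) = Z ∩ (f : X → S) ⁻¹' {s} := by
    rw [tr, Set.image_preimage_eq_inter_range, Scheme.Hom.range_fiberι]
  constructor
  · rintro h x ⟨hx1, hx2⟩
    obtain ⟨a, rfl⟩ : x ∈ Set.range (f.fiberι s) := by
      rw [Scheme.Hom.range_fiberι]; exact hx2
    rw [← himg]
    exact map_mem_closure (f.fiberι s).continuous (h hx1) (Set.mapsTo_image _ _)
  · intro h a ha
    rw [(f.fiberι s).isEmbedding.isInducing.closure_eq_preimage_closure_image, himg]
    exact h ⟨ha, Groth.Agent.Lib.Helper6.GenNowhere.fiber_point_maps f s a⟩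

end final

end Groth.Agent.Lib.Helper6.FibSub

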