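import Mathlib
import Groth.Agent.Lib.Helper6FibCodim
import Groth.Agent.Lib.Helper6FibSub
import Groth.Agent.Lib.Helper4DimFormulaAD
import Groth.Agent.Lib.Helper4VarDim13
import Groth.Agent.Lib.Helper4FibDimK

set_option autoImplicit false
set_option linter.style.haveILetI false
set_option linter.unusedVariables false
universe u
open CategoryTheory CategoryTheory.Limits AlgebraicGeometry Topology TopologicalSpace IsLocalRing

namespace Groth.Agent.Lib.Helper6.FibCodimGen

open Groth.Agent.Lib.Helper6.FibCodim Groth.Agent.Lib.Helper6.GenNowhere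
  Groth.Agent.Lib.Helper6.FibSub Groth.Agent.Lib.Helper4.VarDim Groth.Agent.Lib.Helper4.DimFormula
  Groth.Agent.Lib.Helper4.FibDim Groth.Agent.Lib.Helper6.FibDom

section Maximal

variable {Y S : Scheme.{u}} (g : Y ⟶ S)

/-- maximal points of the fibres. -/
def IsFibMax (t : Y) : Prop := ∀ y : Y, g y = g t → y ⤳ t → y = t

theorem exists_isFibMax_specializes (t0 : Y) :
    ∃ t : Y, g t = g t0 ∧ t ⤳ t0 ∧ IsFibMax g t := by
  obtain ⟨y, hy, hyt⟩ := exists_generic_specializes (g.asFiber t0)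
  have h1 : g (g.fiberι (g t0) y) = g t0 := fiber_point_maps g _ y
  refine ⟨g.fiberι (g t0) y, h1, ?_, ?_⟩
  · have := hyt.map (g.fiberι (g t0)).continuous
    rwa [g.fiberι_asFiber] at this
  · intro y' hy' hsp
    obtain ⟨b, rfl⟩ := exists_fiber_point g (hy'.trans h1)
    rw [(g.fiberι (g t0)).isEmbedding.isInducing.specializes_iff] at hsp
    rw [eq_of_specializes_generic y b hy hsp]

/-- a fibre-maximal point lying in the closure (within its fibre) of the trace of an open set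
belongs to that open set. -/
theorem mem_of_isFibMax_of_mem_closure [LocallyOfFiniteType g] [QuasiCompact g] (t : Y) (ht : IsFibMax g t)
    (D : Set Y) (hD : IsOpen D)
    (hcl : g.asFiber t ∈ closure (tr g D (g t))) : t ∈ D := by
  haveI := fiber_noetherianSpace g (g t)
  have hmax : ∀ b : g.fiber (g t), b ⤳ g.asFiber t → b = g.asFiber t := by
    intro b hb
    apply (g.fiberι (g t)).isEmbedding.injective
    rw [g.fiberι_asFiber]
    apply ht _ (fiber_point_maps g _ b)
    have := hb.map (g.fiberι (g t)).continuous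
    rwa [g.fiberι_asFiber] at this
  haveI : NoetherianSpace ((⊤ : Opens (g.fiber (g t))) : Set (g.fiber (g t))) :=
    NoetherianSpace.set _
  obtain ⟨N, hN1, hN2⟩ := exists_opens_subset_closure_of_maximal (⊤ : Opens (g.fiber (g t)))
    (g.asFiber t) trivial hmax
  obtain ⟨w, hwN, hwD⟩ := mem_closure_iff.mp hcl N N.isOpen hN1
  have hsp : g.asFiber t ⤳ w := specializes_iff_mem_closure.mpr (hN2 hwN)
  have hDo : IsOpen (tr g D (g t)) := hD.preimage (g.fiberι (g t)).continuous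
  have := hsp.mem_open hDo hwD
  have h2 : g.fiberι (g t) (g.asFiber t) ∈ D := this
  rwa [g.fiberι_asFiber] at h2

end Maximal

section PtTrdeg

variable {T X S : Scheme.{u}} (ι : T ⟶ X) (f : X ⟶ S) [IsClosedImmersion ι] [LocallyOfFiniteType f]

theorem ptTrdeg_comp_closedImmersion (t : T) : ptTrdeg (ι ≫ f) t = ptTrdeg f (ι t) := by
  have h1 := trdeg_residueFieldMap_comp ι f t
  rw [trdeg_residueFieldMap_eq_zero_of_locallyQuasiFinite ι t, add_zero] at h1
  have h2 := trdeg_eq_ptTrdeg f (ι t)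
  have h3 := trdeg_eq_ptTrdeg (ι ≫ f) t
  have h4 : (ptTrdeg f (ι t) : Cardinal.{u}) = (ptTrdeg (ι ≫ f) t : Cardinal.{u}) := by
    rw [← h2, ← h3]
    exact h1
  exact_mod_cast h4.symm

end PtTrdeg

section Generic

theorem add_natCast_le_iff (a : WithBot ℕ∞) (m n : ℕ) :
    a + (n : WithBot ℕ∞) ≤ (m : WithBot ℕ∞) + (n : WithBot ℕ∞) ↔ a ≤ (m : WithBot ℕ∞) := by
  induction a using WithBot.recBotCoe with
  | bot => simp
  | coe a =>
    have h1 : ((a : ℕ∞) : WithBot ℕ∞) + (n : WithBot ℕ∞) = ((a + n : ℕ∞) : WithBot ℕ∞) := rfl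
    have h2 : (m : WithBot ℕ∞) + (n : WithBot ℕ∞) = (((m : ℕ∞) + n : ℕ∞) : WithBot ℕ∞) := rfl
    have h3 : (m : WithBot ℕ∞) = ((m : ℕ∞) : WithBot ℕ∞) := rfl
    rw [h1, h2, h3, WithBot.coe_le_coe, WithBot.coe_le_coe]
    exact ENat.add_le_add_iff_right (ENat.coe_ne_top n)

theorem irreducibleSpace_of_range {T X : Scheme.{u}} (ι : T ⟶ X) [IsClosedImmersion ι]
    (h : IsIrreducible (Set.range ι)) : IrreducibleSpace T := by
  haveI : IrreducibleSpace (Set.range ι) := isIrreducible_iff_irreducibleSpace.mp h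
  let e := ι.isEmbedding.toHomeomorph
  have h1 : IsIrreducible (Set.univ : Set T) := by
    have := (IrreducibleSpace.isIrreducible_univ (Set.range ι)).image e.symm
      e.symm.continuous.continuousOn
    rwa [Set.image_univ_of_surjective e.symm.surjective] at this
  exact { isPreirreducible_univ := h1.2, toNonempty := ⟨h1.1.some⟩ }

variable {X S : Scheme.{u}} (f : X ⟶ S) [IsIntegral S] [IsNoetherian S] [LocallyOfFiniteType f]
  [QuasiCompact f]

/-- **generic closedness of the fibrewise codimension locus**, irreducible case. -/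
theorem cm_generic_irreducible (T : Set X) (hTc : IsClosed T) (hTi : IsIrreducible T) (m : ℕ) :
    ∃ V : S.Opens, genericPoint S ∈ V ∧ ∃ E : Set X, IsClosed E ∧
      ∀ x, f x ∈ V → (x ∈ Cm f T m ↔ x ∈ E) := by
  obtain ⟨T', ι, hι, hrι⟩ := Groth.Agent.Lib.Helper3.GenFibDim.exists_closedImmersion_range hTc
  haveI := hι
  haveI : IrreducibleSpace T' := irreducibleSpace_of_range ι (by rw [hrι]; exact hTi)
  set ζ := genericPoint T' with hζ
  have hζsp : ∀ t : T', ζ ⤳ t := fun t => genericPoint_specializes t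
  by_cases hdom : f (ι ζ) = genericPoint S
  swap
  · refine ⟨⟨(closure {f (ι ζ)})ᶜ, isClosed_closure.isOpen_compl⟩, ?_, ∅, isClosed_empty, ?_⟩
    · intro hmem
      have h1 : f (ι ζ) ⤳ genericPoint S := specializes_iff_mem_closure.mpr hmem
      exact hdom (h1.antisymm (genericPoint_specializes _)).eq
    · intro x hx
      simp only [Set.mem_empty_iff_false, iff_false]
      rintro ⟨z, hzT, hfz, -, -⟩
      apply hx
      rw [← hrι] at hzT
      obtain ⟨t, rfl⟩ := hzT
      have h1 : f (ι ζ) ⤳ f (ι t) := ((hζsp t).map ι.continuous).map f.continuous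
      rw [hfz] at h1
      exact specializes_iff_mem_closure.mp h1
  · -- the dominant case
    haveI : LocallyOfFiniteType (ι ≫ f) := inferInstance
    haveI : QuasiCompact (ι ≫ f) := inferInstance
    set g := ι ≫ f with hg
    let D₁ : Set T' := {t | FlatMor.fibreDimAt g t ≤ FlatMor.fibreDimAt g ζ}
    let D₂ : Set T' := ι ⁻¹' {x | FlatMor.fibreDimAt f x ≤ FlatMor.fibreDimAt f (ι ζ)}
    have hD₁ : IsOpen D₁ := isOpen_setOf_fibreDimAt_le' g _
    have hD₂ : IsOpen D₂ := (isOpen_setOf_fibreDimAt_le' f _).preimage ι.continuous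
    have hDo : IsOpen (D₁ ∩ D₂) := hD₁.inter hD₂
    have hζD : ζ ∈ D₁ ∩ D₂ :=
      ⟨le_refl (FlatMor.fibreDimAt g ζ), le_refl (FlatMor.fibreDimAt f (ι ζ))⟩
    have hlow₁ : ∀ t : T', FlatMor.fibreDimAt g ζ ≤ FlatMor.fibreDimAt g t := fun t =>
      (hζsp t).mem_open (isOpen_setOf_fibreDimAt_le' g (FlatMor.fibreDimAt g t))
        (le_refl (FlatMor.fibreDimAt g t))
    have hlow₂ : ∀ t : T', FlatMor.fibreDimAt f (ι ζ) ≤ FlatMor.fibreDimAt f (ι t) := fun t =>
      ((hζsp t).map ι.continuous).mem_open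
        (isOpen_setOf_fibreDimAt_le' f (FlatMor.fibreDimAt f (ι t)))
        (le_refl (FlatMor.fibreDimAt f (ι t)))
    haveI : IsLocallyNoetherian T' := LocallyOfFiniteType.isLocallyNoetherian g
    haveI : CompactSpace T' := QuasiCompact.compactSpace_of_compactSpace g
    haveI : IsNoetherian T' := {}
    have hDcons : IsConstructible (D₁ ∩ D₂) :=
      Groth.Agent.Lib.Helper5.LocusGeneric.IsOpen.isConstructible_of_noetherianSpace hDo
    obtain ⟨V, hηV, hV⟩ := exists_open_closure_comm g (D₁ ∩ D₂) hDcons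
    have hdense : closure (D₁ ∩ D₂) = Set.univ := by
      rw [← Set.univ_subset_iff]
      intro t _
      have : t ∈ closure ({ζ} : Set T') := specializes_iff_mem_closure.mp (hζsp t)
      exact closure_mono (Set.singleton_subset_iff.mpr hζD) this
    -- behaviour at fibre-maximal points
    have key : ∀ t : T', g t ∈ V → IsFibMax g t →
        (fdim f (ι t) ≤ (m : WithBot ℕ∞) ↔
          FlatMor.fibreDimAt f (ι ζ) ≤ (m : WithBot ℕ∞) + FlatMor.fibreDimAt g ζ) := by
      intro t htV htmax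
      have htD : t ∈ D₁ ∩ D₂ := by
        apply mem_of_isFibMax_of_mem_closure g t htmax _ hDo
        apply hV (g t) htV
        show g.fiberι (g t) (g.asFiber t) ∈ closure (D₁ ∩ D₂)
        rw [hdense]; trivial
      have hA : FlatMor.fibreDimAt g t = FlatMor.fibreDimAt g ζ := le_antisymm htD.1 (hlow₁ t)
      have hB : FlatMor.fibreDimAt f (ι t) = FlatMor.fibreDimAt f (ι ζ) :=
        le_antisymm htD.2 (hlow₂ t)
      have hC : FlatMor.fibreDimAt g t = (ptTrdeg g t : WithBot ℕ∞) :=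
        fibreDimAt_eq_ptTrdeg_of_maximal g t htmax
      have hD : FlatMor.fibreDimAt f (ι t) = fdim f (ι t) + (ptTrdeg f (ι t) : WithBot ℕ∞) :=
        fibreDimAt_eq_stalk_add_ptTrdeg f (ι t)
      have hE : ptTrdeg g t = ptTrdeg f (ι t) := ptTrdeg_comp_closedImmersion ι f t
      rw [← hA, ← hB, hC, hD, hE, add_natCast_le_iff]
    refine ⟨V, hηV, T ∩ {x | FlatMor.fibreDimAt f (ι ζ) ≤
      (m : WithBot ℕ∞) + FlatMor.fibreDimAt g ζ}, ?_, ?_⟩
    · by_cases hP : FlatMor.fibreDimAt f (ι ζ) ≤ (m : WithBot ℕ∞) + FlatMor.fibreDimAt g ζ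
      · simpa [hP] using hTc
      · simp [hP]
    · intro x hx
      constructor
      · rintro ⟨z, hzT, hfz, hzx, hdim⟩
        refine ⟨hzx.mem_closed hTc hzT, ?_⟩
        rw [← hrι] at hzT
        obtain ⟨t0, rfl⟩ := hzT
        obtain ⟨t, ht1, ht2, ht3⟩ := exists_isFibMax_specializes g t0
        have htV : g t ∈ V := by rw [ht1]; show f (ι t0) ∈ V; rw [hfz]; exact hx
        show FlatMor.fibreDimAt f (ι ζ) ≤ (m : WithBot ℕ∞) + FlatMor.fibreDimAt g ζ
        rw [← key t htV ht3]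
        exact (fdim_mono f (ht2.map ι.continuous) ht1).trans hdim
      · rintro ⟨hxT, hP⟩
        rw [← hrι] at hxT
        obtain ⟨t0, rfl⟩ := hxT
        obtain ⟨t, ht1, ht2, ht3⟩ := exists_isFibMax_specializes g t0
        have htV : g t ∈ V := by rw [ht1]; exact hx
        refine ⟨ι t, by rw [← hrι]; exact ⟨t, rfl⟩, ht1, ht2.map ι.continuous, ?_⟩
        rw [key t htV ht3]
        exact hP

omit [AlgebraicGeometry.IsIntegral S] [AlgebraicGeometry.IsNoetherian S] [LocallyOfFiniteType f]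
  [QuasiCompact f] in
theorem cm_union (Z₁ Z₂ : Set X) (m : ℕ) : Cm f (Z₁ ∪ Z₂) m = Cm f Z₁ m ∪ Cm f Z₂ m := by
  ext x
  constructor
  · rintro ⟨z, hz | hz, h1, h2, h3⟩
    · exact Or.inl ⟨z, hz, h1, h2, h3⟩
    · exact Or.inr ⟨z, hz, h1, h2, h3⟩
  · rintro (⟨z, hz, h1, h2, h3⟩ | ⟨z, hz, h1, h2, h3⟩)
    · exact ⟨z, Or.inl hz, h1, h2, h3⟩
    · exact ⟨z, Or.inr hz, h1, h2, h3⟩

theorem cm_generic_sUnion (𝒮 : Set (Set X)) (h𝒮 : 𝒮.Finite) (m : ℕ) :
    (∀ t ∈ 𝒮, IsClosed t) → (∀ t ∈ 𝒮, IsIrreducible t) →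
    ∃ V : S.Opens, genericPoint S ∈ V ∧ ∃ E : Set X, IsClosed E ∧
      ∀ x, f x ∈ V → (x ∈ Cm f (⋃₀ 𝒮) m ↔ x ∈ E) := by
  induction 𝒮, h𝒮 using Set.Finite.induction_on with
  | empty =>
    intro _ _
    refine ⟨⊤, trivial, ∅, isClosed_empty, fun x _ => ?_⟩
    simp only [Set.sUnion_empty, Set.mem_empty_iff_false, iff_false]
    rintro ⟨z, hz, -⟩
    exact hz
  | insert ha hs ih =>
    rename_i a 𝒮'
    intro hc hi
    obtain ⟨V₁, hV₁, E₁, hE₁, h₁⟩ := cm_generic_irreducible f a (hc a (Set.mem_insert _ _))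
      (hi a (Set.mem_insert _ _)) m
    obtain ⟨V₂, hV₂, E₂, hE₂, h₂⟩ := ih (fun t ht => hc t (Set.mem_insert_of_mem _ ht))
      (fun t ht => hi t (Set.mem_insert_of_mem _ ht))
    refine ⟨V₁ ⊓ V₂, ⟨hV₁, hV₂⟩, E₁ ∪ E₂, hE₁.union hE₂, fun x hx => ?_⟩
    rw [Set.sUnion_insert, cm_union, Set.mem_union, Set.mem_union, h₁ x hx.1, h₂ x hx.2]

/-- **generic closedness of the fibrewise codimension locus** of a closed subset. -/
theorem cm_generic_closed (Z : Set X) (hZ : IsClosed Z) (m : ℕ) :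
    ∃ V : S.Opens, genericPoint S ∈ V ∧ ∃ E : Set X, IsClosed E ∧
      ∀ x, f x ∈ V → (x ∈ Cm f Z m ↔ x ∈ E) := by
  haveI : IsLocallyNoetherian X := LocallyOfFiniteType.isLocallyNoetherian f
  haveI : CompactSpace X := QuasiCompact.compactSpace_of_compactSpace f
  haveI : IsNoetherian X := {}
  obtain ⟨𝒮, h1, h2, h3, rfl⟩ := NoetherianSpace.exists_finite_set_isClosed_irreducible hZ
  exact cm_generic_sUnion f 𝒮 h1 m h2 h3

end Generic

end Groth.Agent.Lib.Helper6.FibCodimGen
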