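import Mathlib
import Groth.Agent.Lib.Helper6FibCodimGen
import Groth.Agent.Lib.Helper5LocusGeneric

set_option autoImplicit false
set_option linter.style.haveILetI false
set_option linter.unusedVariables false
universe u
open CategoryTheory CategoryTheory.Limits AlgebraicGeometry Topology TopologicalSpace IsLocalRing
  TensorProduct

namespace Groth.Agent.Lib.Helper6.FibCodimLocus

open Groth.Agent.Lib.Helper6.FibCodim Groth.Agent.Lib.Helper6.FibCodimGen
  Groth.Agent.Lib.Helper5.LocusGeneric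

section Squares

variable (A B : Type u) [CommRing A] [CommRing B] [Algebra A B] (g : A)

/-- `Spec B ⟶ Spec A`. -/
noncomputable abbrev fA : Spec (CommRingCat.of B) ⟶ Spec (CommRingCat.of A) :=
  Spec.map (CommRingCat.ofHom (algebraMap A B))

/-- `Spec (A_g ⊗ B) ⟶ Spec A_g`. -/
noncomputable abbrev fAway : Spec (CommRingCat.of (Localization.Away g ⊗[A] B)) ⟶
    Spec (CommRingCat.of (Localization.Away g)) :=
  Spec.map (CommRingCat.ofHom (algebraMap (Localization.Away g) (Localization.Away g ⊗[A] B)))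

/-- `Spec (A_g ⊗ B) ⟶ Spec B`. -/
noncomputable abbrev jAway : Spec (CommRingCat.of (Localization.Away g ⊗[A] B)) ⟶
    Spec (CommRingCat.of B) :=
  Spec.map (CommRingCat.ofHom
    (Algebra.TensorProduct.includeRight (R := A) (A := Localization.Away g) (B := B)).toRingHom)

theorem isPullback_away : IsPullback (jAway A B g) (fAway A B g) (fA A B)
    (Spec.map (CommRingCat.ofHom (algebraMap A (Localization.Away g)))) :=
  (isPullback_SpecMap_of_isPushout _ _ _ _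
    (CommRingCat.isPushout_tensorProduct A (Localization.Away g) B)).flip

instance : IsOpenImmersion (jAway A B g) :=
  MorphismProperty.of_isPullback (P := @IsOpenImmersion) (isPullback_away A B g).flip
    inferInstance

theorem range_jAway : Set.range (jAway A B g) =
    (fA A B) ⁻¹' (PrimeSpectrum.basicOpen g : Set (PrimeSpectrum A)) := by
  have h := Scheme.image_preimage_eq_of_isPullback (isPullback_away A B g).flip Set.univ
  rw [Set.preimage_univ, Set.image_univ, Set.image_univ] at h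
  rw [h]
  congr 1
  exact PrimeSpectrum.localization_away_comap_range (Localization.Away g) g

end Squares

section Main

variable (𝒵 : ∀ {X Y : Scheme.{u}} (_ : X ⟶ Y), ℕ → Set X) (μ : ℕ → ℕ)

/-- the locus of points `x` at which, for every `n`, the trace of `𝒵 f n` on the fibre through `x`
has codimension `> μ n` at `x`. -/
def Lc {X Y : Scheme.{u}} (f : X ⟶ Y) : Set X := (⋃ n, Cm f (𝒵 f n) (μ n))ᶜ

variable (hbc : ∀ {X Y X' Y' : Scheme.{u}} (f : X ⟶ Y) (g : Y' ⟶ Y) (g' : X' ⟶ X) (f' : X' ⟶ Y'),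
      LocallyOfFinitePresentation f → IsPullback g' f' f g → ∀ n, 𝒵 f' n = g' ⁻¹' 𝒵 f n)
  (hoi : ∀ {X Y U : Scheme.{u}} (f : X ⟶ Y) (j : U ⟶ X), IsOpenImmersion j →
      LocallyOfFinitePresentation f → ∀ n, 𝒵 (j ≫ f) n = j ⁻¹' 𝒵 f n)

include hbc in
theorem lc_baseChange {X Y X' Y' : Scheme.{u}} (f : X ⟶ Y) (g : Y' ⟶ Y) (g' : X' ⟶ X)
    (f' : X' ⟶ Y') (hf : LocallyOfFinitePresentation f) (hsq : IsPullback g' f' f g) :
    Lc 𝒵 μ f' = g' ⁻¹' Lc 𝒵 μ f := by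
  haveI : LocallyOfFiniteType f := inferInstance
  unfold Lc
  rw [Set.preimage_compl, Set.preimage_iUnion]
  congr 2
  funext n
  show Cm f' (𝒵 f' n) (μ n) = g' ⁻¹' Cm f (𝒵 f n) (μ n)
  rw [hbc f g g' f' hf hsq n, cm_baseChange hsq]

include hoi in
theorem lc_openImmersion {X Y U : Scheme.{u}} (f : X ⟶ Y) (j : U ⟶ X) (hj : IsOpenImmersion j)
    (hf : LocallyOfFinitePresentation f) : Lc 𝒵 μ (j ≫ f) = j ⁻¹' Lc 𝒵 μ f := by
  unfold Lc
  rw [Set.preimage_compl, Set.preimage_iUnion]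
  congr 2
  funext n
  show Cm (j ≫ f) (𝒵 (j ≫ f) n) (μ n) = j ⁻¹' Cm f (𝒵 f n) (μ n)
  rw [hoi f j hj hf n, cm_openImmersion]

omit hbc hoi in
theorem cm_congr_over {X Y : Scheme.{u}} (f : X ⟶ Y) (W : Set Y) (Z Z' : Set X)
    (h : ∀ z, f z ∈ W → (z ∈ Z ↔ z ∈ Z')) (m : ℕ) (x : X) (hx : f x ∈ W) :
    x ∈ Cm f Z m ↔ x ∈ Cm f Z' m := by
  constructor
  · rintro ⟨z, hz, h1, h2, h3⟩
    exact ⟨z, (h z (by rw [h1]; exact hx)).mp hz, h1, h2, h3⟩
  · rintro ⟨z, hz, h1, h2, h3⟩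
    exact ⟨z, (h z (by rw [h1]; exact hx)).mpr hz, h1, h2, h3⟩

omit hbc hoi in
theorem exists_open_finite_union {X S : Scheme.{u}} (f : X ⟶ S) [IsIntegral S]
    [AlgebraicGeometry.IsNoetherian S] [LocallyOfFiniteType f] [QuasiCompact f]
    (F : ℕ → Set X) (hF : ∀ n, IsClosed (F n)) (μ : ℕ → ℕ) (K : ℕ) :
    ∃ V : S.Opens, genericPoint S ∈ V ∧ ∃ E : Set X, IsClosed E ∧
      ∀ x, f x ∈ V → ((∃ n < K, x ∈ Cm f (F n) (μ n)) ↔ x ∈ E) := by
  induction K with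
  | zero =>
    exact ⟨⊤, trivial, ∅, isClosed_empty, fun x _ => by simp⟩
  | succ K ih =>
    obtain ⟨V₁, hV₁, E₁, hE₁, h₁⟩ := ih
    obtain ⟨V₂, hV₂, E₂, hE₂, h₂⟩ := cm_generic_closed f (F K) (hF K) (μ K)
    refine ⟨V₁ ⊓ V₂, ⟨hV₁, hV₂⟩, E₁ ∪ E₂, hE₁.union hE₂, fun x hx => ?_⟩
    rw [Set.mem_union, ← h₁ x hx.1, ← h₂ x hx.2]
    constructor
    · rintro ⟨n, hn, hx'⟩
      rcases Nat.lt_succ_iff_lt_or_eq.mp hn with h | rfl
      · exact Or.inl ⟨n, h, hx'⟩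
      · exact Or.inr hx'
    · rintro (⟨n, hn, hx'⟩ | hx')
      · exact ⟨n, Nat.lt_succ_of_lt hn, hx'⟩
      · exact ⟨K, Nat.lt_succ_self K, hx'⟩

variable (hfin : ∀ {X Y : Scheme.{u}} (f : X ⟶ Y), LocallyOfFiniteType f → CompactSpace X →
      ∃ N, ∀ n, N ≤ n → 𝒵 f n = ∅)
  (hgen : ∀ (A₁ B₁ : Type u) [CommRing A₁] [IsDomain A₁] [CommRing B₁] [Algebra A₁ B₁]
      [Algebra.FinitePresentation A₁ B₁], Algebra.FiniteType ℤ A₁ →
      ∃ g : A₁, g ≠ 0 ∧ ∀ n, IsClosed (𝒵 (Spec.map (CommRingCat.ofHom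
        (algebraMap (Localization.Away g) (Localization.Away g ⊗[A₁] B₁)))) n))

include hbc hfin hgen in
omit hoi in
theorem lc_generic (A₁ B₁ : Type u) [CommRing A₁] [IsDomain A₁] [CommRing B₁] [Algebra A₁ B₁]
    [Algebra.FinitePresentation A₁ B₁] (hA₁ : Algebra.FiniteType ℤ A₁) :
    ∃ g : A₁, g ≠ 0 ∧ IsConstructible (Lc 𝒵 μ (Spec.map (CommRingCat.ofHom
      (algebraMap (Localization.Away g) (Localization.Away g ⊗[A₁] B₁))))) := by
  haveI : IsNoetherianRing A₁ := Algebra.FiniteType.isNoetherianRing ℤ A₁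
  have hlfp : LocallyOfFinitePresentation (fA A₁ B₁) := by
    rw [LocallyOfFinitePresentation.SpecMap_iff, CommRingCat.hom_ofHom,
      RingHom.finitePresentation_algebraMap]
    infer_instance
  haveI := hlfp
  haveI : LocallyOfFiniteType (fA A₁ B₁) := inferInstance
  obtain ⟨g₀, hg₀, hcl⟩ := hgen A₁ B₁ hA₁
  have hZ₀ : ∀ n, 𝒵 (fAway A₁ B₁ g₀) n = (jAway A₁ B₁ g₀) ⁻¹' 𝒵 (fA A₁ B₁) n := fun n =>
    hbc _ _ _ _ hlfp (isPullback_away A₁ B₁ g₀) n
  obtain ⟨N, hN⟩ := hfin (fA A₁ B₁) inferInstance inferInstance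
  -- closed sets agreeing with `𝒵 f n` over `D(g₀)`
  let F : ℕ → Set (Spec (CommRingCat.of B₁)) := fun n =>
    ((jAway A₁ B₁ g₀) '' (𝒵 (fAway A₁ B₁ g₀) n)ᶜ)ᶜ
  have hFc : ∀ n, IsClosed (F n) := fun n =>
    ((jAway A₁ B₁ g₀).isOpenEmbedding.isOpenMap _ (hcl n).isOpen_compl).isClosed_compl
  have hFiff : ∀ n z, fA A₁ B₁ z ∈ (PrimeSpectrum.basicOpen g₀ : Set (PrimeSpectrum A₁)) →
      (z ∈ F n ↔ z ∈ 𝒵 (fA A₁ B₁) n) := by
    intro n z hz
    have hzr : z ∈ Set.range (jAway A₁ B₁ g₀) := by rw [range_jAway]; exact hz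
    obtain ⟨w, rfl⟩ := hzr
    constructor
    · intro h
      by_contra hcon
      exact h ⟨w, by rw [hZ₀ n]; exact hcon, rfl⟩
    · rintro h ⟨w', hw', hww'⟩
      have := (jAway A₁ B₁ g₀).isOpenEmbedding.injective hww'
      subst this
      apply hw'
      rw [hZ₀ n]; exact h
  obtain ⟨V, hηV, E, hE, hVE⟩ := exists_open_finite_union (fA A₁ B₁) F hFc μ N
  -- a basic open neighbourhood of the generic point
  have hη₀ : genericPoint (Spec (CommRingCat.of A₁)) ∈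
      (PrimeSpectrum.basicOpen g₀ : Set (PrimeSpectrum A₁)) := by
    refine ((genericPoint_spec (Spec (CommRingCat.of A₁))).mem_open_set_iff
      (PrimeSpectrum.basicOpen g₀).isOpen).mpr ?_
    rw [Set.univ_inter]
    exact ⟨⟨⊥, Ideal.isPrime_bot⟩, fun h => hg₀ (by simpa using h)⟩
  let W : Set (PrimeSpectrum A₁) := (V : Set (Spec (CommRingCat.of A₁))) ∩
    (PrimeSpectrum.basicOpen g₀ : Set (PrimeSpectrum A₁))
  have hWo : IsOpen W := V.isOpen.inter (PrimeSpectrum.basicOpen g₀).isOpen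
  have hηW : (genericPoint (Spec (CommRingCat.of A₁)) : PrimeSpectrum A₁) ∈ W := ⟨hηV, hη₀⟩
  obtain ⟨_, ⟨a, rfl⟩, hηa, hsub⟩ :=
    PrimeSpectrum.isTopologicalBasis_basic_opens.exists_subset_of_mem_open hηW hWo
  have ha : a ≠ 0 := by
    rintro rfl
    simp at hηa
  refine ⟨a, ha, ?_⟩
  have hL := lc_baseChange 𝒵 μ hbc _ _ _ _ hlfp (isPullback_away A₁ B₁ a)
  have heq : Lc 𝒵 μ (fAway A₁ B₁ a) = (jAway A₁ B₁ a) ⁻¹' Eᶜ := by
    rw [hL]
    ext w
    have hw : fA A₁ B₁ (jAway A₁ B₁ a w) ∈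
        (PrimeSpectrum.basicOpen a : Set (PrimeSpectrum A₁)) := by
      have : jAway A₁ B₁ a w ∈ Set.range (jAway A₁ B₁ a) := ⟨w, rfl⟩
      rw [range_jAway] at this
      exact this
    have hwV := (hsub hw).1
    have hwg := (hsub hw).2
    show (jAway A₁ B₁ a w ∈ (⋃ n, Cm (fA A₁ B₁) (𝒵 (fA A₁ B₁) n) (μ n))ᶜ) ↔
      ¬ (jAway A₁ B₁ a w ∈ E)
    rw [← hVE _ hwV, Set.mem_compl_iff, Set.mem_iUnion]
    constructor
    · rintro h ⟨n, hn, hx⟩
      apply h
      exact ⟨n, (cm_congr_over (fA A₁ B₁) _ _ _ (hFiff n) (μ n) _ hwg).mp hx⟩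
    · rintro h ⟨n, hx⟩
      by_cases hn : n < N
      · exact h ⟨n, hn, (cm_congr_over (fA A₁ B₁) _ _ _ (hFiff n) (μ n) _ hwg).mpr hx⟩
      · obtain ⟨z, hz, -⟩ := hx
        rw [hN n (not_lt.mp hn)] at hz
        exact hz
  have hfp1 : Algebra.FinitePresentation A₁ (Localization.Away a) :=
    IsLocalization.Away.finitePresentation a
  have hft1 : Algebra.FiniteType A₁ (Localization.Away a) := inferInstance
  have hft2 : Algebra.FiniteType ℤ (Localization.Away a) := Algebra.FiniteType.trans hA₁ hft1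
  have hft3 : Algebra.FiniteType ℤ (Localization.Away a ⊗[A₁] B₁) :=
    Algebra.FiniteType.trans hft2 inferInstance
  haveI : IsNoetherianRing (Localization.Away a ⊗[A₁] B₁) :=
    Algebra.FiniteType.isNoetherianRing ℤ _
  haveI : NoetherianSpace ↥(Spec (CommRingCat.of (Localization.Away a ⊗[A₁] B₁))) :=
    inferInstanceAs (NoetherianSpace (PrimeSpectrum (Localization.Away a ⊗[A₁] B₁)))
  show IsConstructible (Lc 𝒵 μ (fAway A₁ B₁ a))
  rw [heq]
  exact IsOpen.isConstructible_of_noetherianSpace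
    (hE.isOpen_compl.preimage (jAway A₁ B₁ a).continuous)

include hbc hoi hfin hgen in
/-- **Main theorem**: local constructibility of the fibrewise codimension locus. -/
theorem isLocallyConstructible_lc {X Y : Scheme.{u}} (f : X ⟶ Y)
    [LocallyOfFinitePresentation f] : IsLocallyConstructible (Lc 𝒵 μ f) := by
  refine isLocallyConstructible_locus_int (fun {X Y} f => Lc 𝒵 μ f)
    (fun f g g' f' hf hsq => lc_baseChange 𝒵 μ hbc f g g' f' hf hsq)
    (fun f j hj hf => lc_openImmersion 𝒵 μ hoi f j hj hf) ?_ f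
  intro A B φ hA hφ
  exact isConstructible_of_generic (fun {X Y} f => Lc 𝒵 μ f)
    (fun f g g' f' hf hsq => lc_baseChange 𝒵 μ hbc f g g' f' hf hsq)
    (fun A₁ B₁ _ _ _ _ _ hA₁ => lc_generic 𝒵 μ hbc hfin hgen A₁ B₁ hA₁) φ hA hφ

end Main

end Groth.Agent.Lib.Helper6.FibCodimLocus
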