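import Mathlib
import Groth.Agent.Lib.Helper6FibCodimLocus
import Groth.Agent.Lib.Helper5FibSmConstr
import Groth.Agent.Lib.Helper6SmRegSch3
import Groth.Agent.Lib.Helper6SmRegSch
import Groth.Prelude.Def_FDesc

set_option autoImplicit false
set_option linter.style.haveILetI false
set_option linter.unusedVariables false
universe u
open CategoryTheory CategoryTheory.Limits AlgebraicGeometry Topology TopologicalSpace IsLocalRing
  TensorProduct

namespace Groth.Agent.Lib.Helper6.FibRk

open Groth.Agent.Lib.Helper6.FibCodim Groth.Agent.Lib.Helper6.FibCodimGen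
  Groth.Agent.Lib.Helper6.FibCodimLocus
  Groth.Agent.Lib.Helper5.LocusGeneric Groth.Agent.Lib.Helper5.FibSmConstr
  Groth.Agent.Lib.Helper20.FlatDesc
  Groth.Agent.Lib.Helper6.GenNowhere

section Field

/-- formally smooth at a point over a field implies regular. -/
theorem isRegularLocalRing_of_formallySmooth (K : Type u) [Field K] {Z : Scheme.{u}}
    (ψ : Z ⟶ Spec (CommRingCat.of K)) [LocallyOfFinitePresentation ψ] (z : Z)
    (h : (ψ.stalkMap z).hom.FormallySmooth) : IsRegularLocalRing (Z.presheaf.stalk z) := by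
  obtain ⟨U, hzU, hU⟩ := exists_smooth_nbhd ψ z h
  haveI := hU
  have h1 := Groth.Agent.Lib.Helper6.SmRegSch.isRegularLocalRing_stalk_of_smooth_over_field K U
    (U.ι ≫ ψ) ⟨z, hzU⟩
  have e : Z.presheaf.stalk z ≃+* (U : Scheme.{u}).presheaf.stalk ⟨z, hzU⟩ :=
    (asIso (U.ι.stalkMap ⟨z, hzU⟩)).commRingCatIsoToRingEquiv
  exact IsRegularLocalRing.of_ringEquiv e.symm

theorem isLocallyNoetherian_of_lfp_field {κ : Type u} [Field κ] {Y : Scheme.{u}}
    (φ : Y ⟶ Spec (CommRingCat.of κ)) [LocallyOfFinitePresentation φ] : IsLocallyNoetherian Y := by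
  haveI : LocallyOfFiniteType φ := inferInstance
  exact LocallyOfFiniteType.isLocallyNoetherian φ

variable {κ : Type u} [Field κ] {Y : Scheme.{u}} (φ : Y ⟶ Spec (CommRingCat.of κ))
  [LocallyOfFinitePresentation φ]

instance lfp_bcStr (K : Type u) [Field K] [Algebra κ K] :
    LocallyOfFinitePresentation (FBase.bcStr φ K) := by
  unfold FBase.bcStr
  exact MorphismProperty.pullback_snd (P := @LocallyOfFinitePresentation) _ _ inferInstance

instance flat_bcπ (K : Type u) [Field K] [Algebra κ K] : Flat (FBase.bcπ φ K) := by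
  unfold FBase.bcπ
  haveI : Flat (Spec.map (CommRingCat.ofHom (algebraMap κ K))) := by
    rw [Flat.SpecMap_iff]
    exact RingHom.flat_algebraMap_iff.mpr inferInstance
  exact MorphismProperty.pullback_fst (P := @Flat) _ _ inferInstance

instance surjective_bcπ (K : Type u) [Field K] [Algebra κ K] : Surjective (FBase.bcπ φ K) := by
  unfold FBase.bcπ
  haveI : Surjective (Spec.map (CommRingCat.ofHom (algebraMap κ K))) := by
    constructor
    intro t
    haveI : Subsingleton ↥(Spec (CommRingCat.of κ)) :=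
      inferInstanceAs (Subsingleton (PrimeSpectrum κ))
    exact ⟨(⟨⊥, Ideal.isPrime_bot⟩ : PrimeSpectrum K), Subsingleton.elim _ _⟩
  exact MorphismProperty.pullback_fst (P := @Surjective) _ _ inferInstance

omit [LocallyOfFinitePresentation φ] in
theorem isPullback_bc (K : Type u) [Field K] [Algebra κ K] :
    IsPullback (FBase.bcπ φ K) (FBase.bcStr φ K) φ
      (Spec.map (CommRingCat.ofHom (algebraMap κ K))) :=
  IsPullback.of_hasPullback _ _

/-- **geometric `(R_k)` at a point is a codimension condition on the non-smooth locus.** -/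
theorem geomRk_iff (k : ℕ) (y : Y) :
    (∀ (K : Type u) [Field K] [Algebra κ K] (x' : ↥(FBase.bc φ K)),
        (FBase.bcπ φ K).base x' = y → LocCoh.HasRk k ((FBase.bc φ K).presheaf.stalk x')) ↔
      ∀ y' : Y, y' ⤳ y → ringKrullDim (Y.presheaf.stalk y') ≤ (k : WithBot ℕ∞) →
        (φ.stalkMap y').hom.FormallySmooth := by
  haveI : IsLocallyNoetherian Y := isLocallyNoetherian_of_lfp_field φ
  constructor
  · intro h y' hy' hdim
    let K := AlgebraicClosure κ
    haveI : IsLocallyNoetherian (FBase.bc φ K) := isLocallyNoetherian_of_lfp_field (FBase.bcStr φ K)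
    obtain ⟨x', hx'⟩ := (FBase.bcπ φ K).surjective y
    have hy'' : y' ⤳ (FBase.bcπ φ K) x' := by rw [hx']; exact hy'
    obtain ⟨z', hz'1, hz'2, hz'3⟩ := exists_generization_lift (FBase.bcπ φ K) x'
      (Flat.stalkMap _ _) y' hy''
    have hRk := h K x' hx'
    have hht : (genPrime (FBase.bc φ K) hz'1).height ≤ (k : ℕ∞) := by
      have h1 := ringKrullDim_stalk_eq_height (FBase.bc φ K) hz'1
      rw [hz'3] at h1
      rw [h1] at hdim
      exact_mod_cast hdim
    have hreg := hRk (genPrime (FBase.bc φ K) hz'1) hht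
    letI := ((FBase.bc φ K).presheaf.stalkSpecializes hz'1).hom.toAlgebra
    haveI := isLocalization_genPrime (FBase.bc φ K) hz'1
    have e := IsLocalization.algEquiv (genPrime (FBase.bc φ K) hz'1).primeCompl
      (Localization.AtPrime (genPrime (FBase.bc φ K) hz'1)) ((FBase.bc φ K).presheaf.stalk z')
    haveI hreg' : IsRegularLocalRing ((FBase.bc φ K).presheaf.stalk z') :=
      IsRegularLocalRing.of_ringEquiv e.toRingEquiv
    have hsm : z' ∈ (FBase.bcStr φ K).smoothLocus :=
      (Groth.Agent.Lib.Helper6.SmRegSch3.mem_smoothLocus_iff_isRegularLocalRing K _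
        (FBase.bcStr φ K) z').mpr hreg'
    have := (formallySmooth_stalkMap_iff_of_isPullback (isPullback_bc φ K) z').mp hsm
    rwa [hz'2] at this
  · intro h K _ _ x' hx' p hp hht
    haveI : IsLocallyNoetherian (FBase.bc φ K) := isLocallyNoetherian_of_lfp_field (FBase.bcStr φ K)
    have hsp := fromSpecStalk_specializes (FBase.bc φ K) x' ⟨p, hp⟩
    set z' := (FBase.bc φ K).fromSpecStalk x' ⟨p, hp⟩ with hz'
    have hdimz : ringKrullDim ((FBase.bc φ K).presheaf.stalk z') ≤ (k : WithBot ℕ∞) := by
      rw [ringKrullDim_stalk_eq_height (FBase.bc φ K) hsp, genPrime_fromSpecStalk]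
      exact_mod_cast hht
    have hy' : (FBase.bcπ φ K) z' ⤳ y := by
      have := hsp.map (FBase.bcπ φ K).continuous
      rwa [hx'] at this
    have hdimy := (ringKrullDim_stalk_le_of_flat (FBase.bcπ φ K) z' (Flat.stalkMap _ _)).trans hdimz
    have hsm := h _ hy' hdimy
    have hsm' := (formallySmooth_stalkMap_iff_of_isPullback (isPullback_bc φ K) z').mpr hsm
    have hreg := isRegularLocalRing_of_formallySmooth K (FBase.bcStr φ K) z' hsm'
    letI := ((FBase.bc φ K).presheaf.stalkSpecializes hsp).hom.toAlgebra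
    haveI := isLocalization_genPrime (FBase.bc φ K) hsp
    have e := IsLocalization.algEquiv (genPrime (FBase.bc φ K) hsp).primeCompl
      (Localization.AtPrime (genPrime (FBase.bc φ K) hsp)) ((FBase.bc φ K).presheaf.stalk z')
    have hreg2 : IsRegularLocalRing (Localization.AtPrime (genPrime (FBase.bc φ K) hsp)) :=
      IsRegularLocalRing.of_ringEquiv e.toRingEquiv.symm
    have hgp := genPrime_fromSpecStalk (FBase.bc φ K) x' ⟨p, hp⟩
    have hcongr : ∀ {q q' : Ideal ((FBase.bc φ K).presheaf.stalk x')} [q.IsPrime] [q'.IsPrime],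
        q = q' → IsRegularLocalRing (Localization.AtPrime q) →
          IsRegularLocalRing (Localization.AtPrime q') := by
      intro q q' _ _ hqq' hq
      subst hqq'
      exact hq
    exact hcongr hgp hreg2

end Field

section Locus

variable {X S : Scheme.{u}} (f : X ⟶ S)

/-- the family of closed-in-fibres loci attached to geometric `(R_k)`. -/
def Zr {X Y : Scheme.{u}} (f : X ⟶ Y) (n : ℕ) : Set X := if n = 0 then (Lsm f)ᶜ else ∅

theorem lsm_fiberι (s : S) (a : f.fiber s) :
    f.fiberι s a ∈ Lsm f ↔ ((f.fiberToSpecResidueField s).stalkMap a).hom.FormallySmooth :=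
  fiber_transport f (fiber_point_maps f s a) (f.asFiber (f.fiberι s a)) a (f.fiberι_asFiber _)

/-- the fibrewise geometric `(R_k)` locus is a fibrewise codimension locus. -/
theorem rk_locus_eq [LocallyOfFinitePresentation f] (k : ℕ) :
    {x : X | ∀ (K : Type u) [Field K]
        [Algebra (IsLocalRing.ResidueField (S.presheaf.stalk (f.base x))) K]
        (x' : ↥(FBase.bc (f.fiberToSpecResidueField (f.base x)) K)),
        (FBase.bcπ (f.fiberToSpecResidueField (f.base x)) K).base x' = f.asFiber x →
          LocCoh.HasRk k ((FBase.bc (f.fiberToSpecResidueField (f.base x)) K).presheaf.stalk x')} =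
      Lc (fun {X Y} f => Zr f) (fun _ => k) f := by
  ext x
  haveI := lfp_fiberToSpecResidueField f (f x)
  have hiff := @geomRk_iff (IsLocalRing.ResidueField (S.presheaf.stalk (f.base x))) _ _
    (f.fiberToSpecResidueField (f x)) (lfp_fiberToSpecResidueField f (f x)) k (f.asFiber x)
  show (∀ (K : Type u) [Field K]
        [Algebra (IsLocalRing.ResidueField (S.presheaf.stalk (f.base x))) K]
        (x' : ↥(FBase.bc (f.fiberToSpecResidueField (f.base x)) K)),
        (FBase.bcπ (f.fiberToSpecResidueField (f.base x)) K).base x' = f.asFiber x →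
          LocCoh.HasRk k ((FBase.bc (f.fiberToSpecResidueField (f.base x)) K).presheaf.stalk x')) ↔ _
  rw [hiff]
  unfold Lc
  rw [Set.mem_compl_iff, Set.mem_iUnion]
  constructor
  · rintro h ⟨n, z, hzZ, hfz, hzx, hdim⟩
    have hn : n = 0 := by
      by_contra hn
      simp only [Zr, if_neg hn] at hzZ
      exact hzZ
    subst hn
    simp only [Zr, if_true] at hzZ
    obtain ⟨a', rfl⟩ := exists_fiber_point f hfz
    have hsp : a' ⤳ f.asFiber x := by
      rw [← (f.fiberι (f x)).isEmbedding.isInducing.specializes_iff, f.fiberι_asFiber]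
      exact hzx
    rw [fdim_fiberι] at hdim
    exact hzZ ((lsm_fiberι f _ a').mpr (h a' hsp hdim))
  · intro h a' hsp hdim
    by_contra hns
    apply h
    refine ⟨0, f.fiberι (f x) a', ?_, fiber_point_maps f _ a', ?_, ?_⟩
    · simp only [Zr, if_true]
      intro hc
      exact hns ((lsm_fiberι f _ a').mp hc)
    · have := hsp.map (f.fiberι (f x)).continuous
      rwa [f.fiberι_asFiber] at this
    · rw [fdim_fiberι]; exact hdim

end Locus

section Final

open Groth.Agent.Lib.Helper2.GenFree

theorem lsm_generic_open (A₁ B₁ : Type u) [CommRing A₁] [IsDomain A₁] [CommRing B₁]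
    [Algebra A₁ B₁] [Algebra.FinitePresentation A₁ B₁] (hA₁ : Algebra.FiniteType ℤ A₁) :
    ∃ g : A₁, g ≠ 0 ∧ IsOpen (Lsm (Spec.map (CommRingCat.ofHom
      (algebraMap (Localization.Away g) (Localization.Away g ⊗[A₁] B₁))))) := by
  haveI : IsNoetherianRing A₁ := Algebra.FiniteType.isNoetherianRing ℤ A₁
  obtain ⟨g₂, hg₂, hfree, -, -, -⟩ := exists_freeAway A₁ B₁ B₁
  refine ⟨g₂, hg₂, ?_⟩
  haveI : Module.Free (Localization.Away g₂) (Localization.Away g₂ ⊗[A₁] B₁) :=
    hfree.free (Localization.Away g₂) (TensorProduct.mk A₁ (Localization.Away g₂) B₁ 1)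
  haveI : Flat (Spec.map (CommRingCat.ofHom
      (algebraMap (Localization.Away g₂) (Localization.Away g₂ ⊗[A₁] B₁)))) :=
    Flat.SpecMap_iff.mpr (RingHom.flat_algebraMap_iff.mpr inferInstance)
  haveI : LocallyOfFinitePresentation (Spec.map (CommRingCat.ofHom
      (algebraMap (Localization.Away g₂) (Localization.Away g₂ ⊗[A₁] B₁)))) := by
    rw [LocallyOfFinitePresentation.SpecMap_iff, CommRingCat.hom_ofHom,
      RingHom.finitePresentation_algebraMap]
    infer_instance
  rw [lsm_eq_smoothLocus_of_flat]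
  exact (Scheme.Hom.smoothLocus _).2

/-- **EGA IV 9.9.5-type**: the locus where the fibre is geometrically `(R_k)` at the point is
locally constructible. -/
theorem isLocallyConstructible_geomRk {X S : Scheme.{u}} (f : X ⟶ S)
    [LocallyOfFinitePresentation f] (k : ℕ) :
    IsLocallyConstructible {x : X | ∀ (K : Type u) [Field K]
        [Algebra (IsLocalRing.ResidueField (S.presheaf.stalk (f.base x))) K]
        (x' : ↥(FBase.bc (f.fiberToSpecResidueField (f.base x)) K)),
        (FBase.bcπ (f.fiberToSpecResidueField (f.base x)) K).base x' = f.asFiber x →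
          LocCoh.HasRk k ((FBase.bc (f.fiberToSpecResidueField (f.base x)) K).presheaf.stalk x')} := by
  rw [rk_locus_eq]
  refine isLocallyConstructible_lc (fun {X Y} f => Zr f) (fun _ => k) ?_ ?_ ?_ ?_ f
  · intro X Y X' Y' f g g' f' hf hsq n
    by_cases hn : n = 0
    · simp only [Zr, if_pos hn]
      rw [lsm_baseChange f g g' f' hf hsq, Set.preimage_compl]
    · simp only [Zr, if_neg hn, Set.preimage_empty]
  · intro X Y U f j hj hf n
    by_cases hn : n = 0
    · simp only [Zr, if_pos hn]
      rw [lsm_openImmersion f j hj, Set.preimage_compl]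
    · simp only [Zr, if_neg hn, Set.preimage_empty]
  · intro X Y f hf hX
    exact ⟨1, fun n hn => by simp only [Zr, if_neg (by omega : n ≠ 0)]⟩
  · intro A₁ B₁ _ _ _ _ _ hA₁
    obtain ⟨g, hg, hopen⟩ := lsm_generic_open A₁ B₁ hA₁
    refine ⟨g, hg, fun n => ?_⟩
    by_cases hn : n = 0
    · simp only [Zr, if_pos hn]
      exact hopen.isClosed_compl
    · simp only [Zr, if_neg hn]
      exact isClosed_empty

end Final

end Groth.Agent.Lib.Helper6.FibRk
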