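import Mathlib
import Groth.Agent.Lib.Helper6FibCodimLocus
import Groth.Agent.Lib.Helper5FibCodepthConstr

set_option autoImplicit false
set_option linter.style.haveILetI false
set_option linter.unusedVariables false
universe u
open CategoryTheory CategoryTheory.Limits AlgebraicGeometry Topology TopologicalSpace IsLocalRing
  TensorProduct

namespace Groth.Agent.Lib.Helper6.FibSk

open Groth.Agent.Lib.Helper6.FibCodim Groth.Agent.Lib.Helper6.FibCodimGen
  Groth.Agent.Lib.Helper6.FibCodimLocus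
  Groth.Agent.Lib.Helper5.LocusGeneric Groth.Agent.Lib.Helper5.FibCodepthConstr
  Groth.Agent.Lib.Helper5.CodepthFib Groth.Agent.Lib.Helper5.CodepthOpen
  Groth.Agent.Lib.Helper5.GenDepth Groth.Agent.Lib.Helper5.FiberMor
  Groth.Agent.Lib.Helper4.DimFormula Groth.Agent.Lib.Helper4.FibDim
  Groth.Agent.Lib.Helper6.GenNowhere Groth.Agent.Lib.Helper28 LocCoh

section Ring

/-- the pointwise Serre condition for a local ring. -/
def Ptk (k : ℕ) (R : Type u) [CommRing R] [IsLocalRing R] : Prop :=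
  min (k : WithBot ℕ∞) (ringKrullDim R) ≤ ((LocCoh.depth R R : ℕ∞) : WithBot ℕ∞)

theorem ptk_of_ringEquiv (k : ℕ) {R R' : Type u} [CommRing R] [CommRing R'] [IsLocalRing R]
    [IsLocalRing R'] [IsNoetherianRing R] [IsNoetherianRing R'] (e : R ≃+* R') (h : Ptk k R) :
    Ptk k R' := by
  unfold Ptk at h ⊢
  rw [← ringKrullDim_eq_of_ringEquiv e, ← depth_self_eq_of_ringEquiv e]
  exact h

theorem ptk_congr (k : ℕ) {R : Type u} [CommRing R] {p q : Ideal R} [p.IsPrime] [q.IsPrime]
    (h : p = q) : Ptk k (Localization.AtPrime p) ↔ Ptk k (Localization.AtPrime q) := by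
  subst h
  exact Iff.rfl

theorem hasSk_iff (k : ℕ) (R : Type u) [CommRing R] [IsNoetherianRing R] :
    LocCoh.HasSk k R R ↔ ∀ (p : Ideal R) [p.IsPrime], Ptk k (Localization.AtPrime p) := by
  unfold LocCoh.HasSk Ptk
  refine forall_congr' fun p => forall_congr' fun hp => ?_
  obtain ⟨h1, h2⟩ := dep_dm_self p
  unfold dep at h1
  unfold dm at h2
  rw [h1, h2, Module.supportDim_self_eq_ringKrullDim]

theorem ptk_iff_codepth (k : ℕ) (R : Type u) [CommRing R] [IsLocalRing R] [IsNoetherianRing R] :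
    Ptk k R ↔ ∀ n : ℕ, ¬ CodepthLE n R → ¬ ringKrullDim R ≤ ((n + k : ℕ) : WithBot ℕ∞) := by
  obtain ⟨h, d, hh, hd, hdh⟩ := exists_nat_height_depth R
  have hdim : ringKrullDim R = ((h : ℕ∞) : WithBot ℕ∞) := by
    rw [← IsLocalRing.maximalIdeal_height_eq_ringKrullDim, hh]
  have hP : Ptk k R ↔ min k h ≤ d := by
    unfold Ptk
    rw [hdim, hd]
    have : ((k : ℕ) : WithBot ℕ∞) = (((k : ℕ) : ℕ∞) : WithBot ℕ∞) := rfl
    rw [this, ← WithBot.coe_min, WithBot.coe_le_coe]
    have h2 : min ((k : ℕ) : ℕ∞) (h : ℕ∞) = ((min k h : ℕ) : ℕ∞) := by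
      rcases le_total k h with h3 | h3
      · rw [min_eq_left h3, min_eq_left (by exact_mod_cast h3)]
      · rw [min_eq_right h3, min_eq_right (by exact_mod_cast h3)]
    rw [h2]
    norm_cast
  have hC : ∀ n : ℕ, CodepthLE n R ↔ h ≤ d + n := by
    intro n
    rw [codepthLE_iff, hh, hd]
    norm_cast
  have hD : ∀ n : ℕ, ringKrullDim R ≤ ((n + k : ℕ) : WithBot ℕ∞) ↔ h ≤ n + k := by
    intro n
    rw [hdim]
    have : ((n + k : ℕ) : WithBot ℕ∞) = (((n + k : ℕ) : ℕ∞) : WithBot ℕ∞) := rfl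
    rw [this, WithBot.coe_le_coe]
    norm_cast
  rw [hP]
  constructor
  · intro hmin n hn hle
    rw [hC] at hn
    rw [hD] at hle
    rcases min_le_iff.mp hmin with h1 | h1 <;> omega
  · intro hall
    by_contra hcon
    rw [not_le, lt_min_iff] at hcon
    have := hall (h - d - 1) (by rw [hC]; omega)
    rw [hD] at this
    omega

end Ring

section Dict

variable (Y : Scheme.{u}) [IsLocallyNoetherian Y]

/-- dictionary: a condition on all localizations of the local ring at `a` is a condition on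
the local rings at the generizations of `a`. -/
theorem forall_localization_iff (k : ℕ) (a : Y) :
    (∀ (p : Ideal (Y.presheaf.stalk a)) [p.IsPrime], Ptk k (Localization.AtPrime p)) ↔
      ∀ a' : Y, a' ⤳ a → Ptk k (Y.presheaf.stalk a') := by
  constructor
  · intro h a' ha'
    letI := (Y.presheaf.stalkSpecializes ha').hom.toAlgebra
    haveI := isLocalization_genPrime Y ha'
    have e := IsLocalization.algEquiv (genPrime Y ha').primeCompl
      (Localization.AtPrime (genPrime Y ha')) (Y.presheaf.stalk a')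
    exact ptk_of_ringEquiv k e.toRingEquiv (h (genPrime Y ha'))
  · intro h p hp
    have hsp := fromSpecStalk_specializes Y a ⟨p, hp⟩
    have h1 := h _ hsp
    letI := (Y.presheaf.stalkSpecializes hsp).hom.toAlgebra
    haveI := isLocalization_genPrime Y hsp
    have e := IsLocalization.algEquiv (genPrime Y hsp).primeCompl
      (Localization.AtPrime (genPrime Y hsp)) (Y.presheaf.stalk (Y.fromSpecStalk a ⟨p, hp⟩))
    have h2 := ptk_of_ringEquiv k e.toRingEquiv.symm h1
    exact (ptk_congr k (genPrime_fromSpecStalk Y a ⟨p, hp⟩)).mp h2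

end Dict

section Locus

variable {X S : Scheme.{u}} (f : X ⟶ S)

theorem lcd_fiberι (n : ℕ) (s : S) (a : f.fiber s) :
    f.fiberι s a ∈ Lcd n f ↔ CodepthLE n ((f.fiber s).presheaf.stalk a) := by
  obtain ⟨e⟩ := Groth.Agent.Lib.Helper5.FiberBC.fiber_stalk_transport f (fiber_point_maps f s a)
    (f.asFiber (f.fiberι s a)) a (f.fiberι_asFiber _)
  exact ⟨isoInv_codepthLE n _ _ e, isoInv_codepthLE n _ _ e.symm⟩

/-- the family of closed-in-fibres loci attached to `(S_k)`. -/
def Zk {X Y : Scheme.{u}} (f : X ⟶ Y) (n : ℕ) : Set X := (Lcd n f)ᶜ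

/-- the fibrewise `(S_k)` locus is a fibrewise codimension locus. -/
theorem sk_locus_eq [LocallyOfFiniteType f] (k : ℕ) :
    {x : X | LocCoh.HasSk k ((f.fiber (f.base x)).presheaf.stalk (f.asFiber x))
        ((f.fiber (f.base x)).presheaf.stalk (f.asFiber x))} =
      Lc (fun {X Y} f => Zk f) (fun n => n + k) f := by
  ext x
  haveI := isLocallyNoetherian_fiber f (f x)
  show LocCoh.HasSk k ((f.fiber (f x)).presheaf.stalk (f.asFiber x))
        ((f.fiber (f x)).presheaf.stalk (f.asFiber x)) ↔ _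
  rw [hasSk_iff, forall_localization_iff]
  unfold Lc
  rw [Set.mem_compl_iff, Set.mem_iUnion]
  constructor
  · rintro h ⟨n, z, hzZ, hfz, hzx, hdim⟩
    obtain ⟨a', rfl⟩ := exists_fiber_point f hfz
    have hsp : a' ⤳ f.asFiber x := by
      rw [← (f.fiberι (f x)).isEmbedding.isInducing.specializes_iff, f.fiberι_asFiber]
      exact hzx
    have h1 := (ptk_iff_codepth k _).mp (h a' hsp) n
      (fun hc => hzZ ((lcd_fiberι f n _ a').mpr hc))
    rw [fdim_fiberι] at hdim
    exact h1 hdim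
  · intro h a' hsp
    rw [ptk_iff_codepth]
    intro n hn hdim
    apply h
    refine ⟨n, f.fiberι (f x) a', ?_, fiber_point_maps f _ a', ?_, ?_⟩
    · intro hc
      exact hn ((lcd_fiberι f n _ a').mp hc)
    · have := hsp.map (f.fiberι (f x)).continuous
      rwa [f.fiberι_asFiber] at this
    · rw [fdim_fiberι]; exact hdim

theorem fdim_le_fibreDimAt [LocallyOfFiniteType f] (x : X) :
    fdim f x ≤ FlatMor.fibreDimAt f x := by
  have h := fibreDimAt_eq_stalk_add_ptTrdeg f x
  rw [h]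
  show fdim f x ≤ fdim f x + (ptTrdeg f x : WithBot ℕ∞)
  have h0 : (0 : WithBot ℕ∞) ≤ (ptTrdeg f x : WithBot ℕ∞) := by exact_mod_cast Nat.zero_le _
  calc fdim f x = fdim f x + 0 := (add_zero _).symm
    _ ≤ fdim f x + (ptTrdeg f x : WithBot ℕ∞) := add_le_add_right h0 _

theorem exists_fibreDimAt_le [LocallyOfFiniteType f] [CompactSpace X] :
    ∃ N : ℕ, ∀ x : X, FlatMor.fibreDimAt f x ≤ (N : WithBot ℕ∞) := by
  let U : ℕ → Set X := fun n => {x | FlatMor.fibreDimAt f x ≤ (n : WithBot ℕ∞)}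
  have hUo : ∀ n, IsOpen (U n) := fun n => isOpen_setOf_fibreDimAt_le' f _
  have hmono : Monotone U := by
    intro a b hab x hx
    exact le_trans (show FlatMor.fibreDimAt f x ≤ (a : WithBot ℕ∞) from hx)
      (by exact_mod_cast hab)
  have hcov : (Set.univ : Set X) ⊆ ⋃ n, U n := by
    intro x _
    haveI := isLocallyNoetherian_fiber f (f x)
    obtain ⟨h, d, hh, -, -⟩ := exists_nat_height_depth
      ((f.fiber (f x)).presheaf.stalk (f.asFiber x))
    have hdim : fdim f x = ((h : ℕ) : WithBot ℕ∞) := by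
      unfold fdim
      rw [← IsLocalRing.maximalIdeal_height_eq_ringKrullDim, hh]
      rfl
    refine Set.mem_iUnion.mpr ⟨h + ptTrdeg f x, ?_⟩
    show FlatMor.fibreDimAt f x ≤ _
    rw [fibreDimAt_eq_stalk_add_ptTrdeg f x]
    show fdim f x + _ ≤ _
    rw [hdim]
    push_cast
    exact le_refl _
  obtain ⟨N, hN⟩ := isCompact_univ.elim_directed_cover U hUo hcov
    (directed_of_isDirected_le hmono)
  exact ⟨N, fun x => hN (Set.mem_univ x)⟩

theorem zk_eventually_empty {X Y : Scheme.{u}} (f : X ⟶ Y) (hf : LocallyOfFiniteType f)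
    (hX : CompactSpace X) : ∃ N, ∀ n, N ≤ n → Zk f n = ∅ := by
  obtain ⟨N, hN⟩ := exists_fibreDimAt_le f
  refine ⟨N, fun n hn => ?_⟩
  rw [Set.eq_empty_iff_forall_notMem]
  intro x hx
  apply hx
  haveI := isLocallyNoetherian_fiber f (f x)
  show CodepthLE n ((f.fiber (f x)).presheaf.stalk (f.asFiber x))
  refine ⟨inferInstance, inferInstance, ?_⟩
  have h1 : fdim f x ≤ (n : WithBot ℕ∞) :=
    ((fdim_le_fibreDimAt f x).trans (hN x)).trans (by exact_mod_cast hn)
  refine h1.trans ?_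
  have h0 : (0 : WithBot ℕ∞) ≤ ((LocCoh.depth ((f.fiber (f x)).presheaf.stalk (f.asFiber x))
      ((f.fiber (f x)).presheaf.stalk (f.asFiber x)) : ℕ∞) : WithBot ℕ∞) := by
    exact_mod_cast zero_le
  calc (n : WithBot ℕ∞) = 0 + n := (zero_add _).symm
    _ ≤ _ := add_le_add_left h0 _

end Locus

section Final

open Groth.Agent.Lib.Helper5.CMLocusOpen Groth.Agent.Lib.Helper5.GrpCM
  Groth.Agent.Lib.Helper2.GenFree

/-- generically (over a base of finite type over `ℤ`) the codepth loci of the fibres are open. -/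
theorem lcd_generic_open (A₁ B₁ : Type u) [CommRing A₁] [IsDomain A₁] [CommRing B₁]
    [Algebra A₁ B₁] [Algebra.FinitePresentation A₁ B₁] (hA₁ : Algebra.FiniteType ℤ A₁) :
    ∃ g : A₁, g ≠ 0 ∧ ∀ n, IsOpen (Lcd n (Spec.map (CommRingCat.ofHom
      (algebraMap (Localization.Away g) (Localization.Away g ⊗[A₁] B₁))))) := by
  haveI : IsNoetherianRing A₁ := Algebra.FiniteType.isNoetherianRing ℤ A₁
  have hcmu : CMU A₁ := cmu_of_finiteType_int A₁ hA₁
  have hopen := isOpen_cm_locus hcmu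
  haveI : (⊥ : Ideal A₁).IsPrime := Ideal.isPrime_bot
  have hη : (⟨⊥, inferInstance⟩ : PrimeSpectrum A₁) ∈ {p : PrimeSpectrum A₁ |
      IsCohenMacaulayLocalRing (Localization.AtPrime p.asIdeal)} := by
    apply cm_localization_of_mem_minimalPrimes (⊥ : Ideal A₁)
    rw [IsDomain.minimalPrimes_eq_singleton_bot]
    rfl
  obtain ⟨_, ⟨g₁, rfl⟩, hη1, hsub⟩ :=
    PrimeSpectrum.isTopologicalBasis_basic_opens.exists_subset_of_mem_open hη hopen
  have hg₁ : g₁ ≠ 0 := fun h => hη1 (by rw [h]; exact zero_mem _)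
  obtain ⟨g₂, hg₂, hfree, -, -, -⟩ := exists_freeAway A₁ B₁ B₁
  refine ⟨g₁ * g₂, mul_ne_zero hg₁ hg₂, fun n => ?_⟩
  haveI : Module.Free (Localization.Away (g₁ * g₂)) (Localization.Away (g₁ * g₂) ⊗[A₁] B₁) :=
    (hfree.mul_left g₁).free (Localization.Away (g₁ * g₂))
      (TensorProduct.mk A₁ (Localization.Away (g₁ * g₂)) B₁ 1)
  haveI hCM : IsCohenMacaulayRing (Localization.Away (g₁ * g₂)) :=
    isCohenMacaulayRing_away g₁ g₂ fun p hp => hsub hp
  haveI hfp1 : Algebra.FinitePresentation A₁ (Localization.Away (g₁ * g₂)) :=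
    IsLocalization.Away.finitePresentation (g₁ * g₂)
  have hft1 : Algebra.FiniteType A₁ (Localization.Away (g₁ * g₂)) := inferInstance
  have hft2 : Algebra.FiniteType ℤ (Localization.Away (g₁ * g₂)) :=
    Algebra.FiniteType.trans hA₁ hft1
  have hft3 : Algebra.FiniteType ℤ (Localization.Away (g₁ * g₂) ⊗[A₁] B₁) :=
    Algebra.FiniteType.trans hft2 inferInstance
  haveI : IsNoetherianRing (Localization.Away (g₁ * g₂) ⊗[A₁] B₁) :=
    Algebra.FiniteType.isNoetherianRing ℤ _
  have hcmuB : CMU (Localization.Away (g₁ * g₂) ⊗[A₁] B₁) := cmu_of_finiteType_int _ hft3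
  rw [lcd_spec_eq]
  exact isOpen_codepth_le hcmuB (Localization.Away (g₁ * g₂) ⊗[A₁] B₁) n

/-- **EGA IV 9.9.2-type**: for `f` locally of finite presentation the set of points at which the
local ring of the fibre satisfies `(S_k)` is locally constructible. -/
theorem isLocallyConstructible_sk {X S : Scheme.{u}} (f : X ⟶ S)
    [LocallyOfFinitePresentation f] (k : ℕ) :
    IsLocallyConstructible {x : X |
      LocCoh.HasSk k ((f.fiber (f.base x)).presheaf.stalk (f.asFiber x))
        ((f.fiber (f.base x)).presheaf.stalk (f.asFiber x))} := by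
  rw [sk_locus_eq]
  refine isLocallyConstructible_lc (fun {X Y} f => Zk f) (fun n => n + k) ?_ ?_ ?_ ?_ f
  · intro X Y X' Y' f g g' f' hf hsq n
    show (Lcd n f')ᶜ = g' ⁻¹' (Lcd n f)ᶜ
    rw [lcd_baseChange n f g g' f' hf hsq, Set.preimage_compl]
  · intro X Y U f j hj hf n
    show (Lcd n (j ≫ f))ᶜ = j ⁻¹' (Lcd n f)ᶜ
    rw [lcd_openImmersion n f j hj, Set.preimage_compl]
  · intro X Y f hf hX
    exact zk_eventually_empty f hf hX
  · intro A₁ B₁ _ _ _ _ _ hA₁
    obtain ⟨g, hg, hopen⟩ := lcd_generic_open A₁ B₁ hA₁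
    exact ⟨g, hg, fun n => (hopen n).isClosed_compl⟩

end Final

end Groth.Agent.Lib.Helper6.FibSk
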