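import Mathlib
import Groth.Agent.Lib.Helper6FibSk
import Groth.Agent.Lib.Helper6FibRk
import Groth.Agent.Lib.Helper5TensorSk
import Groth.Agent.Lib.Helper3CompDim
import Groth.Agent.S0601

set_option autoImplicit false
set_option linter.style.haveILetI false
set_option linter.unusedVariables false
universe u
open CategoryTheory CategoryTheory.Limits AlgebraicGeometry Topology TopologicalSpace IsLocalRing
  TensorProduct

namespace Groth.Agent.Lib.Helper6.FibNormal

open Groth.Agent.Lib.Helper6.FibCodim Groth.Agent.Lib.Helper6.FibCodimGen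
  Groth.Agent.Lib.Helper6.FibCodimLocus Groth.Agent.Lib.Helper6.FibSk Groth.Agent.Lib.Helper6.FibRk
  Groth.Agent.Lib.Helper5.FibCodepthConstr Groth.Agent.Lib.Helper5.FibSmConstr

section Ring

/-- Serre's criterion for a Noetherian local ring. -/
theorem normal_iff_local (R : Type u) [CommRing R] [IsLocalRing R] [IsNoetherianRing R] :
    (IsDomain R ∧ IsIntegrallyClosed R) ↔ (LocCoh.HasRk 1 R ∧ LocCoh.HasSk 2 R R) := by
  rw [← Groth.Agent.S0601.result R]
  constructor
  · rintro ⟨hd, hic⟩ p hp
    haveI := hd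
    haveI := hic
    exact ⟨IsLocalization.isDomain_of_atPrime (Localization.AtPrime p) p,
      isIntegrallyClosed_of_isLocalization (Localization.AtPrime p) p.primeCompl
        p.primeCompl_le_nonZeroDivisors⟩
  · intro h
    obtain ⟨hd, hic⟩ := h (maximalIdeal R)
    have hM : (maximalIdeal R).primeCompl ≤ IsUnit.submonoid R := by
      intro x hx
      rw [IsUnit.mem_submonoid_iff]
      by_contra hnu
      exact hx ((mem_maximalIdeal x).mpr hnu)
    have e : R ≃+* Localization.AtPrime (maximalIdeal R) :=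
      (IsLocalization.atUnits R (maximalIdeal R).primeCompl
        (S := Localization.AtPrime (maximalIdeal R)) hM).toRingEquiv
    haveI := hd
    haveI := hic
    exact ⟨e.toMulEquiv.isDomain _, IsIntegrallyClosed.of_equiv e.symm⟩

end Ring

section Sk

open Groth.Agent.Lib.Helper5.TensorSk Groth.Agent.Lib.Helper5.FiberStalk
  Groth.Agent.Lib.Helper3.CompDim

/-- the fibrewise `(S_k)` locus, as a set. -/
def Lsk (k : ℕ) {X S : Scheme.{u}} (f : X ⟶ S) : Set X :=
  {x : X | LocCoh.HasSk k ((f.fiber (f.base x)).presheaf.stalk (f.asFiber x))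
        ((f.fiber (f.base x)).presheaf.stalk (f.asFiber x))}

theorem lsk_baseChange (k : ℕ) {X Y X' Y' : Scheme.{u}} (f : X ⟶ Y) (g : Y' ⟶ Y) (g' : X' ⟶ X)
    (f' : X' ⟶ Y') (hf : LocallyOfFinitePresentation f) (hsq : IsPullback g' f' f g) :
    Lsk k f' = g' ⁻¹' Lsk k f := by
  haveI : LocallyOfFiniteType f := inferInstance
  haveI : LocallyOfFiniteType f' := MorphismProperty.of_isPullback (P := @LocallyOfFiniteType)
    hsq inferInstance
  unfold Lsk
  rw [sk_locus_eq, sk_locus_eq]
  refine lc_baseChange (fun {X Y} f => Zk f) (fun n => n + k) ?_ f g g' f' hf hsq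
  intro X Y X' Y' f g g' f' hf hsq n
  show (Lcd n f')ᶜ = g' ⁻¹' (Lcd n f)ᶜ
  rw [lcd_baseChange n f g g' f' hf hsq, Set.preimage_compl]

/-- over a field, the local ring of the fibre is the local ring. -/
theorem nonempty_fibre_stalk_equiv_of_field {K : Type u} [Field K] {Z : Scheme.{u}}
    (ψ : Z ⟶ Spec (CommRingCat.of K)) (z : Z) :
    Nonempty ((ψ.fiber (ψ z)).presheaf.stalk (ψ.asFiber z) ≃+* Z.presheaf.stalk z) := by
  obtain ⟨e⟩ := nonempty_stalk_asFiber_equiv ψ z
  have h0 : maximalIdeal ((Spec (CommRingCat.of K)).presheaf.stalk (ψ z)) = ⊥ :=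
    maximalIdeal_stalk_eq_bot (K := CommRingCat.of K) (Field.toIsField K) (ψ z)
  have h1 : (maximalIdeal ((Spec (CommRingCat.of K)).presheaf.stalk (ψ z))).map
      (ψ.stalkMap z).hom = ⊥ := by rw [h0, Ideal.map_bot]
  exact ⟨e.trans ((Ideal.quotEquivOfEq h1).trans (RingEquiv.quotientBot _))⟩

variable {κ : Type u} [Field κ] {Y : Scheme.{u}} (φ : Y ⟶ Spec (CommRingCat.of κ))
  [LocallyOfFinitePresentation φ]

/-- `(S_k)` is insensitive to extension of the base field. -/
theorem hasSk_bc_iff (k : ℕ) (K : Type u) [Field K] [Algebra κ K] (x' : ↥(FBase.bc φ K)) :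
    LocCoh.HasSk k ((FBase.bc φ K).presheaf.stalk x') ((FBase.bc φ K).presheaf.stalk x') ↔
      LocCoh.HasSk k (Y.presheaf.stalk ((FBase.bcπ φ K) x'))
        (Y.presheaf.stalk ((FBase.bcπ φ K) x')) := by
  haveI : IsLocallyNoetherian Y := isLocallyNoetherian_of_lfp_field φ
  haveI : IsLocallyNoetherian (FBase.bc φ K) := isLocallyNoetherian_of_lfp_field (FBase.bcStr φ K)
  have hbc := lsk_baseChange k φ _ _ _ inferInstance (isPullback_bc φ K)
  have h1 : x' ∈ Lsk k (FBase.bcStr φ K) ↔ (FBase.bcπ φ K) x' ∈ Lsk k φ := by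
    rw [hbc]; rfl
  obtain ⟨e1⟩ := nonempty_fibre_stalk_equiv_of_field (FBase.bcStr φ K) x'
  obtain ⟨e2⟩ := nonempty_fibre_stalk_equiv_of_field φ ((FBase.bcπ φ K) x')
  haveI := isLocallyNoetherian_fiber (FBase.bcStr φ K) ((FBase.bcStr φ K) x')
  haveI := isLocallyNoetherian_fiber φ (φ ((FBase.bcπ φ K) x'))
  constructor
  · intro h
    have h2 : x' ∈ Lsk k (FBase.bcStr φ K) := hasSk_self_of_ringEquiv e1.symm k h
    exact hasSk_self_of_ringEquiv e2 k (h1.mp h2)
  · intro h
    have h2 : (FBase.bcπ φ K) x' ∈ Lsk k φ := hasSk_self_of_ringEquiv e2.symm k h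
    exact hasSk_self_of_ringEquiv e1 k (h1.mpr h2)

/-- geometric normality at a point = geometric `(R_1)` + `(S_2)`. -/
theorem geomNormal_iff (y : Y) :
    (∀ (K : Type u) [Field K] [Algebra κ K] (x' : ↥(FBase.bc φ K)),
        (FBase.bcπ φ K).base x' = y →
          (IsDomain ((FBase.bc φ K).presheaf.stalk x') ∧
            IsIntegrallyClosed ((FBase.bc φ K).presheaf.stalk x'))) ↔
      ((∀ (K : Type u) [Field K] [Algebra κ K] (x' : ↥(FBase.bc φ K)),
        (FBase.bcπ φ K).base x' = y → LocCoh.HasRk 1 ((FBase.bc φ K).presheaf.stalk x')) ∧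
        LocCoh.HasSk 2 (Y.presheaf.stalk y) (Y.presheaf.stalk y)) := by
  constructor
  · intro h
    refine ⟨fun K _ _ x' hx' => ?_, ?_⟩
    · haveI : IsLocallyNoetherian (FBase.bc φ K) :=
        isLocallyNoetherian_of_lfp_field (FBase.bcStr φ K)
      exact ((normal_iff_local _).mp (h K x' hx')).1
    · obtain ⟨x', hx'⟩ := (FBase.bcπ φ κ).surjective y
      haveI : IsLocallyNoetherian (FBase.bc φ κ) :=
        isLocallyNoetherian_of_lfp_field (FBase.bcStr φ κ)
      have h1 := ((normal_iff_local _).mp (h κ x' hx')).2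
      have h2 := (hasSk_bc_iff φ 2 κ x').mp h1
      rwa [hx'] at h2
  · rintro ⟨hR, hS⟩ K _ _ x' hx'
    haveI : IsLocallyNoetherian (FBase.bc φ K) :=
      isLocallyNoetherian_of_lfp_field (FBase.bcStr φ K)
    refine (normal_iff_local _).mpr ⟨hR K x' hx', (hasSk_bc_iff φ 2 K x').mpr ?_⟩
    have : (FBase.bcπ φ K) x' = y := hx'
    rw [this]
    exact hS

end Sk

section Final

/-- **EGA IV 9.9.5-type**: the locus where the fibre is geometrically normal at the point is
locally constructible. -/
theorem isLocallyConstructible_geomNormal {X S : Scheme.{u}} (f : X ⟶ S)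
    [LocallyOfFinitePresentation f] :
    IsLocallyConstructible {x : X | ∀ (K : Type u) [Field K]
        [Algebra (IsLocalRing.ResidueField (S.presheaf.stalk (f.base x))) K]
        (x' : ↥(FBase.bc (f.fiberToSpecResidueField (f.base x)) K)),
        (FBase.bcπ (f.fiberToSpecResidueField (f.base x)) K).base x' = f.asFiber x →
          (IsDomain ((FBase.bc (f.fiberToSpecResidueField (f.base x)) K).presheaf.stalk x') ∧
            IsIntegrallyClosed
              ((FBase.bc (f.fiberToSpecResidueField (f.base x)) K).presheaf.stalk x'))} := by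
  have heq : {x : X | ∀ (K : Type u) [Field K]
        [Algebra (IsLocalRing.ResidueField (S.presheaf.stalk (f.base x))) K]
        (x' : ↥(FBase.bc (f.fiberToSpecResidueField (f.base x)) K)),
        (FBase.bcπ (f.fiberToSpecResidueField (f.base x)) K).base x' = f.asFiber x →
          (IsDomain ((FBase.bc (f.fiberToSpecResidueField (f.base x)) K).presheaf.stalk x') ∧
            IsIntegrallyClosed
              ((FBase.bc (f.fiberToSpecResidueField (f.base x)) K).presheaf.stalk x'))} =
      {x : X | ∀ (K : Type u) [Field K]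
        [Algebra (IsLocalRing.ResidueField (S.presheaf.stalk (f.base x))) K]
        (x' : ↥(FBase.bc (f.fiberToSpecResidueField (f.base x)) K)),
        (FBase.bcπ (f.fiberToSpecResidueField (f.base x)) K).base x' = f.asFiber x →
          LocCoh.HasRk 1 ((FBase.bc (f.fiberToSpecResidueField (f.base x)) K).presheaf.stalk x')} ∩
      Lsk 2 f := by
    ext x
    exact @geomNormal_iff (IsLocalRing.ResidueField (S.presheaf.stalk (f.base x))) _ _
      (f.fiberToSpecResidueField (f x)) (lfp_fiberToSpecResidueField f (f x)) (f.asFiber x)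
  rw [heq]
  exact (isLocallyConstructible_geomRk f 1).inter (isLocallyConstructible_sk f 2)

end Final

end Groth.Agent.Lib.Helper6.FibNormal
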