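import Mathlib
import Groth.Agent.Lib.Helper6FibNormal

set_option autoImplicit false
set_option linter.style.haveILetI false
set_option linter.unusedVariables false
universe u
open CategoryTheory CategoryTheory.Limits AlgebraicGeometry Topology TopologicalSpace IsLocalRing

namespace Groth.Agent.Lib.Helper6.FibGeomLocus

open Groth.Agent.Lib.Helper6.FibCodim Groth.Agent.Lib.Helper6.GenNowhere

theorem isLocallyConstructible_compl {α : Type*} [TopologicalSpace α] {s : Set α}
    (h : IsLocallyConstructible s) : IsLocallyConstructible sᶜ := by
  intro x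
  obtain ⟨U, hU, hUo, hc⟩ := h x
  exact ⟨U, hU, hUo, by rw [Set.preimage_compl]; exact isConstructible_compl.mpr hc⟩

variable {X S : Scheme.{u}} (f : X ⟶ S)

/-- the locus of points of the base all of whose fibre points lie in `L`. -/
theorem isLocallyConstructible_forall_fiber [LocallyOfFinitePresentation f] [QuasiCompact f]
    (L : Set X) (hL : IsLocallyConstructible L) :
    IsLocallyConstructible {s : S | ∀ x : X, f x = s → x ∈ L} := by
  have heq : {s : S | ∀ x : X, f x = s → x ∈ L} = (f '' Lᶜ)ᶜ := by
    ext s
    simp only [Set.mem_setOf_eq, Set.mem_compl_iff, Set.mem_image, not_exists, not_and]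
    constructor
    · intro h x hx hfx
      exact hx (h x hfx)
    · intro h x hfx
      by_contra hx
      exact h x hx hfx
  rw [heq]
  exact isLocallyConstructible_compl
    (f.isLocallyConstructible_image (isLocallyConstructible_compl hL))

variable (P : ∀ (R : Type u) [CommRing R], Prop)

theorem geom_transport {y₁ y₂ : S} (hy : y₁ = y₂) (z₁ : f.fiber y₁) (z₂ : f.fiber y₂)
    (hz : f.fiberι y₁ z₁ = f.fiberι y₂ z₂) :
    (∀ (K : Type u) [Field K] [Algebra (IsLocalRing.ResidueField (S.presheaf.stalk y₁)) K]
        (x' : ↥(FBase.bc (f.fiberToSpecResidueField y₁) K)),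
        (FBase.bcπ (f.fiberToSpecResidueField y₁) K).base x' = z₁ →
          P ((FBase.bc (f.fiberToSpecResidueField y₁) K).presheaf.stalk x')) ↔
    (∀ (K : Type u) [Field K] [Algebra (IsLocalRing.ResidueField (S.presheaf.stalk y₂)) K]
        (x' : ↥(FBase.bc (f.fiberToSpecResidueField y₂) K)),
        (FBase.bcπ (f.fiberToSpecResidueField y₂) K).base x' = z₂ →
          P ((FBase.bc (f.fiberToSpecResidueField y₂) K).presheaf.stalk x')) := by
  subst hy
  obtain rfl : z₁ = z₂ := (f.fiberι y₁).isEmbedding.injective hz
  exact Iff.rfl

/-- from the pointwise geometric locus in `X` to the locus in `S` of fibres having the property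
geometrically everywhere. -/
theorem isLocallyConstructible_forall_geom [LocallyOfFinitePresentation f] [QuasiCompact f]
    (hL : IsLocallyConstructible {x : X | ∀ (K : Type u) [Field K]
        [Algebra (IsLocalRing.ResidueField (S.presheaf.stalk (f.base x))) K]
        (x' : ↥(FBase.bc (f.fiberToSpecResidueField (f.base x)) K)),
        (FBase.bcπ (f.fiberToSpecResidueField (f.base x)) K).base x' = f.asFiber x →
          P ((FBase.bc (f.fiberToSpecResidueField (f.base x)) K).presheaf.stalk x')}) :
    IsLocallyConstructible {s : S | ∀ (K : Type u) [Field K]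
        [Algebra (IsLocalRing.ResidueField (S.presheaf.stalk s)) K]
        (x' : ↥(FBase.bc (f.fiberToSpecResidueField s) K)),
        P ((FBase.bc (f.fiberToSpecResidueField s) K).presheaf.stalk x')} := by
  have h := isLocallyConstructible_forall_fiber f _ hL
  convert h using 1
  ext s
  constructor
  · intro hs x hx
    subst hx
    intro K _ _ x' _
    exact hs K x'
  · intro hs K _ _ x'
    set a := (FBase.bcπ (f.fiberToSpecResidueField s) K).base x' with ha
    have h1 := hs (f.fiberι s a) (fiber_point_maps f s a)
    have h2 := (geom_transport f P (fiber_point_maps f s a) (f.asFiber (f.fiberι s a)) a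
      (f.fiberι_asFiber _)).mp h1
    exact h2 K x' rfl

end Groth.Agent.Lib.Helper6.FibGeomLocus
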